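import Mathlib
import Cfsg.Statements.S1470

set_option autoImplicit false
open Cfsg

namespace Cfsg.Agent.S1470

open Polynomial

/-- the key polynomial argument: if `N(1 + k t) = 1` for all `k < p` with `t ≠ 0` then `p ≤ q` -/
theorem key (p q : ℕ) [Fact p.Prime] [Fact q.Prime] (t : GaloisField p q) (ht : t ≠ 0)
    (hN : ∀ k : ℕ, k < p → Algebra.norm (ZMod p) (1 + (k : GaloisField p q) * t) = 1) : p ≤ q := by
  classical
  have hq0 : q ≠ 0 := (Fact.out : q.Prime).ne_zero
  have hfin : Module.finrank (ZMod p) (GaloisField p q) = q := GaloisField.finrank p hq0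
  have hcard : Nat.card (ZMod p) = p := by simp
  -- the polynomial
  set g : (GaloisField p q)[X] := ∏ i ∈ Finset.range q, (C (t ^ (p ^ i)) * X + C 1) with hg
  have hfac_deg : ∀ i ∈ Finset.range q, (C (t ^ (p ^ i)) * X + C 1 : (GaloisField p q)[X]).natDegree = 1 := by
    intro i _
    have h1 : t ^ p ^ i ≠ 0 := pow_ne_zero _ ht
    exact Polynomial.natDegree_linear h1
  have hfac_ne : ∀ i ∈ Finset.range q, (C (t ^ (p ^ i)) * X + C 1 : (GaloisField p q)[X]) ≠ 0 := by
    intro i hi h0
    have := hfac_deg i hi
    rw [h0] at this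
    simp at this
  have hgdeg : g.natDegree = q := by
    rw [hg, Polynomial.natDegree_prod _ _ hfac_ne, Finset.sum_congr rfl hfac_deg]
    simp
  have hq1 : 1 ≤ q := (Fact.out : q.Prime).one_le
  set f : (GaloisField p q)[X] := g - 1 with hf
  have hfdeg : f.natDegree = q := by
    rw [hf, Polynomial.natDegree_sub_eq_left_of_natDegree_lt]
    · exact hgdeg
    · rw [hgdeg, Polynomial.natDegree_one]; omega
  have hf0 : f ≠ 0 := by
    intro h0
    rw [h0] at hfdeg
    simp at hfdeg
    omega
  -- roots
  have hroot : ∀ k : ℕ, k < p → f.IsRoot (k : GaloisField p q) := by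
    intro k hk
    rw [Polynomial.IsRoot.def, hf, Polynomial.eval_sub, Polynomial.eval_one, hg, Polynomial.eval_prod]
    have h1 : ∀ i ∈ Finset.range q, Polynomial.eval (k : GaloisField p q) (C (t ^ (p ^ i)) * X + C 1) =
        (1 + (k : GaloisField p q) * t) ^ (p ^ i) := by
      intro i _
      simp only [Polynomial.eval_add, Polynomial.eval_mul, Polynomial.eval_C, Polynomial.eval_X]
      rw [add_pow_char_pow, one_pow, mul_pow]
      have hk' : (k : GaloisField p q) ^ p ^ i = (k : GaloisField p q) := by
        have h3 : ((k : ZMod p)) ^ p ^ i = (k : ZMod p) := ZMod.pow_card_pow (k : ZMod p)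
        have h2 := congrArg (algebraMap (ZMod p) (GaloisField p q)) h3
        rw [map_pow, map_natCast] at h2
        exact h2
      rw [hk']
      ring
    rw [Finset.prod_congr rfl h1]
    have h2 := FiniteField.algebraMap_norm_eq_prod_pow (K := ZMod p) (L := GaloisField p q)
      (x := 1 + (k : GaloisField p q) * t)
    rw [hfin, hcard] at h2
    rw [← h2, hN k hk, map_one, sub_self]
  -- count
  set Z : Finset (GaloisField p q) := (Finset.range p).image (fun k : ℕ => (k : GaloisField p q)) with hZ
  have hZcard : Z.card = p := by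
    rw [hZ, Finset.card_image_of_injOn, Finset.card_range]
    intro a ha b hb hab
    simp only [Finset.coe_range, Set.mem_Iio] at ha hb
    have := (CharP.natCast_eq_natCast (GaloisField p q) p).mp hab
    exact Nat.ModEq.eq_of_lt_of_lt this ha hb
  have hsub : Z.val ⊆ f.roots := by
    intro x hx
    rw [Finset.mem_val, hZ, Finset.mem_image] at hx
    obtain ⟨k, hk, rfl⟩ := hx
    rw [Polynomial.mem_roots hf0]
    exact hroot k (Finset.mem_range.mp hk)
  have := Polynomial.card_le_degree_of_subset_roots hsub
  rw [hZcard, hfdeg] at this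
  exact this

/-- Let p and q be odd primes with (p^q − 1)/(p − 1) coprime to p − 1, and let E be the set of elements a of the field with p ^ q elements whose norm to the prime field is 1 and for which 2 − a also has norm 1. If a⁻¹ ∈ E for every a ∈ E and E has at least two elements, then p ≤ q. -/
theorem result (p q : ℕ) [Fact p.Prime] [Fact q.Prime] (hp : p ≠ 2) (hq : q ≠ 2) (hA : Nat.Coprime ((p ^ q - 1) / (p - 1)) (p - 1))
    (hinv : ∀ a ∈ {a : GaloisField p q | Algebra.norm (ZMod p) a = 1 ∧ Algebra.norm (ZMod p) (2 - a) = 1}, a⁻¹ ∈ {a : GaloisField p q | Algebra.norm (ZMod p) a = 1 ∧ Algebra.norm (ZMod p) (2 - a) = 1})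
    (h2 : 2 ≤ Set.ncard {a : GaloisField p q | Algebra.norm (ZMod p) a = 1 ∧ Algebra.norm (ZMod p) (2 - a) = 1}) :
    p ≤ q := by
  classical
  set E : Set (GaloisField p q) := {a : GaloisField p q | Algebra.norm (ZMod p) a = 1 ∧ Algebra.norm (ZMod p) (2 - a) = 1} with hE
  -- an element a ≠ 1 of E
  obtain ⟨a, haE, ha1⟩ : ∃ a ∈ E, a ≠ 1 := by
    by_contra hcon
    push Not at hcon
    have hsub : E ⊆ {1} := fun a ha => hcon a ha
    have := Set.ncard_le_ncard hsub (Set.finite_singleton _)
    rw [Set.ncard_singleton] at this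
    omega
  set t := a - 1 with ht
  have ht0 : t ≠ 0 := sub_ne_zero.mpr ha1
  -- E is closed under a ↦ 2 - a
  have hsym : ∀ b ∈ E, 2 - b ∈ E := by
    intro b hb
    refine ⟨hb.2, ?_⟩
    have : 2 - (2 - b) = b := by ring
    rw [this]; exact hb.1
  -- induction
  have hind : ∀ k : ℕ, Algebra.norm (ZMod p) (1 + (k : GaloisField p q) * t) = 1 ∧
      (1 + ((k + 1 : ℕ) : GaloisField p q) * t) / (1 + (k : GaloisField p q) * t) ∈ E := by
    intro k
    induction k with
    | zero =>
      refine ⟨by simp, ?_⟩
      have : (1 + ((0 + 1 : ℕ) : GaloisField p q) * t) / (1 + ((0 : ℕ) : GaloisField p q) * t) = a := by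
        simp [ht]
      rw [this]; exact haE
    | succ k ih =>
      obtain ⟨ih1, ih2⟩ := ih
      have hne : (1 + (k : GaloisField p q) * t) ≠ 0 := by
        intro h0
        rw [h0, Algebra.norm_zero] at ih1
        exact zero_ne_one ih1
      have hnorm : Algebra.norm (ZMod p) (1 + ((k + 1 : ℕ) : GaloisField p q) * t) = 1 := by
        have h3 := ih2.1
        have e : (1 + ((k + 1 : ℕ) : GaloisField p q) * t) =
            ((1 + ((k + 1 : ℕ) : GaloisField p q) * t) / (1 + (k : GaloisField p q) * t)) *
              (1 + (k : GaloisField p q) * t) := by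
          rw [div_mul_cancel₀ _ hne]
        rw [e, map_mul, h3, ih1, one_mul]
      refine ⟨hnorm, ?_⟩
      have hne' : (1 + ((k + 1 : ℕ) : GaloisField p q) * t) ≠ 0 := by
        intro h0
        rw [h0, Algebra.norm_zero] at hnorm
        exact zero_ne_one hnorm
      have h4 := hsym _ (hinv _ ih2)
      have e : 2 - ((1 + ((k + 1 : ℕ) : GaloisField p q) * t) / (1 + (k : GaloisField p q) * t))⁻¹ =
          (1 + ((k + 1 + 1 : ℕ) : GaloisField p q) * t) / (1 + ((k + 1 : ℕ) : GaloisField p q) * t) := by
        rw [inv_div, eq_div_iff hne', sub_mul, div_mul_cancel₀ _ hne']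
        push_cast
        ring
      rw [e] at h4
      exact h4
  exact key p q t ht0 (fun k _ => (hind k).1)

end Cfsg.Agent.S1470
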