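import Mathlib
import Cfsg.Statements.S1471
import Cfsg.Agent.Lib.Helper4.NormPairA
import Cfsg.Agent.Lib.Helper4.NormPairB
-- import your own Cfsg.Agent.* helpers here

set_option autoImplicit false
open Cfsg

namespace Cfsg.Agent.S1471

/-- Let p and q be odd primes with (p^q − 1)/(p − 1) coprime to p − 1. Then there are at least two elements a of the field with p ^ q elements such that both a and 2 − a have norm 1 to the prime field. -/
theorem result (p q : ℕ) [Fact p.Prime] [Fact q.Prime] (hp : p ≠ 2) (hq : q ≠ 2) (hA : Nat.Coprime ((p ^ q - 1) / (p - 1)) (p - 1)) :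
    2 ≤ Set.ncard {a : GaloisField p q | Algebra.norm (ZMod p) a = 1 ∧ Algebra.norm (ZMod p) (2 - a) = 1} := by
  classical
  have hq3 : 3 ≤ q := by
    have h2 := (Fact.out : q.Prime).two_le
    omega
  rcases Nat.eq_or_lt_of_le hq3 with h3 | h3
  · subst h3
    exact Cfsg.Agent.Lib.Helper4.NormPair.two_le_ncard_three p
  · have hq4 : q ≠ 4 := by
      intro h
      have hprime : q.Prime := Fact.out
      rw [h] at hprime
      exact absurd hprime (by decide)
    have hq5 : 4 ≤ q := by omega
    haveI : Fintype (GaloisField p q) := Fintype.ofFinite _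
    have hcard : Fintype.card (GaloisField p q) = p ^ q := by
      rw [← Nat.card_eq_fintype_card]
      exact GaloisField.card p q (by omega)
    have h := Cfsg.Agent.Lib.Helper4.NormPair.two_le_card (F := GaloisField p q) hp hq5 hcard
    rw [← Set.ncard_coe_finset] at h
    convert h using 2
    ext a
    simp

end Cfsg.Agent.S1471
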