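import Mathlib
import Cfsg.Statements.S0141
import Cfsg.Agent.Lib.Helper1.CharInt

set_option autoImplicit false
open Cfsg

namespace Cfsg.Agent.S0141

open Cfsg.Agent.Lib.Helper1

theorem card_class_eq_index {G : Type*} [Group G] [Finite G] (g : G) :
    Nat.card {v : G // IsConj g v} = (Subgroup.centralizer ({g} : Set G)).index := by
  have h1 := card_isConj_mul_card_centralizer g
  have h2 := (Subgroup.centralizer ({g} : Set G)).card_mul_index
  have h3 : 0 < Nat.card (Subgroup.centralizer ({g} : Set G)) := Nat.card_pos
  rw [← h2, mul_comm] at h1
  exact Nat.eq_of_mul_eq_mul_left h3 h1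

/-- The sum of a class function against the class indicator. -/
theorem sum_classIndicator_mul {G : Type*} [Group G] [Fintype G] (g : G) (χ : G → ℂ)
    (hχ : Cfsg.IsClassFunction G χ) :
    ∑ x : G, classIndicator g x * χ x = ((Subgroup.centralizer ({g} : Set G)).index : ℂ) * χ g := by
  classical
  have h1 : ∀ x : G, classIndicator g x * χ x = if IsConj g x then χ g else 0 := by
    intro x
    unfold classIndicator
    split_ifs with h
    · obtain ⟨c, hc⟩ := isConj_iff.1 h
      rw [one_mul, ← hc, hχ g c]
    · rw [zero_mul]
  rw [Finset.sum_congr rfl fun x _ => h1 x, Finset.sum_ite, Finset.sum_const, Finset.sum_const_zero,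
    add_zero, nsmul_eq_mul]
  have hc : (Finset.univ.filter (fun x : G => IsConj g x)).card = Nat.card {v : G // IsConj g v} :=
    (Nat.subtype_card _ (by simp)).symm
  rw [hc, card_class_eq_index]

/-- For an irreducible complex representation of a finite group and an element g, the size of the class of g times the character value at g, divided by the degree, is an algebraic integer. -/
theorem result {G : Type*} [Group G] [Finite G] {V : Type*} [AddCommGroup V] [Module ℂ V] [FiniteDimensional ℂ V] (ρ : Representation ℂ G V) [ρ.IsIrreducible] (g : G) : IsIntegral ℤ (((Subgroup.centralizer ({g} : Set G)).index : ℂ) * ρ.character g / (Module.finrank ℂ V : ℂ)) := by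
  classical
  have : Fintype G := Fintype.ofFinite G
  let f : G → ℤ := fun x => if IsConj g x then 1 else 0
  have hfc : (fun x => (f x : ℂ)) = classIndicator g := by
    funext x
    unfold classIndicator
    simp only [f]
    split_ifs <;> simp
  have hf : Cfsg.IsClassFunction G (fun x => (f x : ℂ)) := by
    rw [hfc]; exact classIndicator_isClassFunction g
  have h := isIntegral_central_character ρ f hf
  have h2 : ∑ x, (f x : ℂ) * ρ.character x
      = ((Subgroup.centralizer ({g} : Set G)).index : ℂ) * ρ.character g := by
    have := sum_classIndicator_mul g ρ.character (fun a b => Representation.char_conj ρ a b)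
    rw [← this]
    refine Finset.sum_congr rfl fun x _ => ?_
    rw [← hfc]
  rw [h2] at h
  exact h

end Cfsg.Agent.S0141
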