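import Mathlib
import Cfsg.Statements.S0135
import Cfsg.Agent.Lib.Helper1.CharInt
import Cfsg.Agent.Lib.Helper1.RepEigen
import Cfsg.Agent.S0141

set_option autoImplicit false
open Cfsg

namespace Cfsg.Agent.S0135

open Cfsg.Agent.Lib.Helper1 Cfsg.Agent.Lib.Helper4
open scoped ComplexConjugate

/-- Summing a class function over the group, class by class. -/
theorem sum_by_classes {G : Type*} [Group G] [Fintype G] [Fintype (ConjClasses G)] (F : G → ℂ)
    (hF : Cfsg.IsClassFunction G F) :
    ∑ g : G, F g = ∑ c : ConjClasses G,
      ((Subgroup.centralizer ({Quotient.out c} : Set G)).index : ℂ) * F (Quotient.out c) := by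
  classical
  rw [← Finset.sum_fiberwise (Finset.univ : Finset G) (ConjClasses.mk : G → ConjClasses G) F]
  refine Finset.sum_congr rfl fun c _ => ?_
  rw [← Cfsg.Agent.S0141.sum_classIndicator_mul (Quotient.out c) F hF]
  rw [Finset.sum_filter]
  refine Finset.sum_congr rfl fun g _ => ?_
  unfold classIndicator
  have hiff : ConjClasses.mk g = c ↔ IsConj (Quotient.out c) g := by
    rw [← ConjClasses.mk_eq_mk_iff_isConj]
    have : ConjClasses.mk (Quotient.out c) = c := Quotient.out_eq c
    rw [this]
    exact eq_comm
  by_cases h : IsConj (Quotient.out c) g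
  · rw [if_pos (hiff.2 h), if_pos h, one_mul]
  · rw [if_neg (fun h' => h (hiff.1 h')), if_neg h, zero_mul]

/-- The degree of an irreducible complex representation of a finite group divides the group order. -/
theorem result {G : Type*} [Group G] [Finite G] {V : Type*} [AddCommGroup V] [Module ℂ V] [FiniteDimensional ℂ V] (ρ : Representation ℂ G V) [ρ.IsIrreducible] : Module.finrank ℂ V ∣ Nat.card G := by
  classical
  have : Fintype G := Fintype.ofFinite G
  have : Fintype (ConjClasses G) := Fintype.ofFinite _
  have hn := finrank_ne_zero_of_irreducible ρ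
  have hn' : Module.finrank ℂ V ≠ 0 := fun h => hn (by rw [h]; simp)
  apply nat_dvd_of_isIntegral_div _ _ hn'
  have hirr := isIrrCharacter_character ρ
  have h1 := classInner_irr_self hirr
  rw [classInner_def] at h1
  have hG0 : (Nat.card G : ℂ) ≠ 0 := Nat.cast_ne_zero.2 Nat.card_pos.ne'
  have h2 : ∑ g : G, ρ.character g * conj (ρ.character g) = (Nat.card G : ℂ) := by
    field_simp at h1
    rw [h1]
  have hF : Cfsg.IsClassFunction G (fun g => ρ.character g * conj (ρ.character g) / (Module.finrank ℂ V : ℂ)) := by
    intro g h
    simp only [Representation.char_conj]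
  have h3 : (Nat.card G : ℂ) / (Module.finrank ℂ V : ℂ)
      = ∑ g : G, ρ.character g * conj (ρ.character g) / (Module.finrank ℂ V : ℂ) := by
    rw [← h2, Finset.sum_div]
  rw [h3, sum_by_classes _ hF]
  apply IsIntegral.sum
  intro c _
  have h4 : ((Subgroup.centralizer ({Quotient.out c} : Set G)).index : ℂ) *
      (ρ.character (Quotient.out c) * conj (ρ.character (Quotient.out c)) / (Module.finrank ℂ V : ℂ))
      = (((Subgroup.centralizer ({Quotient.out c} : Set G)).index : ℂ) *
        ρ.character (Quotient.out c) / (Module.finrank ℂ V : ℂ)) * conj (ρ.character (Quotient.out c)) := by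
    ring
  rw [h4]
  apply IsIntegral.mul
  · exact Cfsg.Agent.S0141.result ρ (Quotient.out c)
  · -- conj of an algebraic integer
    have h5 : IsIntegral ℤ (ρ.character (Quotient.out c)) := by
      rw [character_eq_sum_roots]
      apply IsIntegral.multiset_sum
      intro μ hμ
      have h := charpoly_roots_pow ρ (Quotient.out c) μ hμ
      exact IsIntegral.of_pow (orderOf_pos _) (h ▸ isIntegral_one)
    obtain ⟨p, hp, hp0⟩ := h5
    refine ⟨p, hp, ?_⟩
    have := congrArg conj hp0
    rw [map_zero] at this
    rw [← this, Polynomial.eval₂_eq_sum_range, Polynomial.eval₂_eq_sum_range, map_sum]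
    refine Finset.sum_congr rfl fun i _ => ?_
    rw [map_mul, map_pow]
    congr 1
    simp

end Cfsg.Agent.S0135
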