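import Mathlib
import Cfsg.Statements.S0139
import Cfsg.Agent.Lib.Helper1.RepEigen

set_option autoImplicit false
open Cfsg

namespace Cfsg.Agent.S0139

open Cfsg.Agent.Lib.Helper1

/-- The kernel of a complex representation of a finite group is the set of elements where the character equals the degree. -/
theorem result {G : Type*} [Group G] [Finite G] {V : Type*} [AddCommGroup V] [Module ℂ V] [FiniteDimensional ℂ V] (ρ : Representation ℂ G V) (g : G) : ρ.character g = (Module.finrank ℂ V : ℂ) ↔ ρ g = LinearMap.id := by
  constructor
  · intro h
    rw [character_eq_sum_roots, ← card_charpoly_roots ρ g] at h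
    have hall := multiset_eq_one_of_sum_eq_card _ (charpoly_roots_norm ρ g) h
    have := eq_smul_id_of_eigenvalues (rep_isSemisimple ρ g) 1 (by
      intro μ hμ
      apply hall
      rw [Polynomial.mem_roots']
      refine ⟨(LinearMap.charpoly_monic _).ne_zero, ?_⟩
      exact (Module.End.hasEigenvalue_iff_isRoot_charpoly _ _).1 hμ)
    rw [this, one_smul]
  · intro h
    unfold Representation.character
    rw [h]
    exact LinearMap.trace_id ℂ V

end Cfsg.Agent.S0139
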