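import Mathlib
import Cfsg.Statements.S4665
import Cfsg.Agent.Lib.Helper1.CharFound7
import Cfsg.Agent.Lib.Helper8.TwoClass

set_option autoImplicit false

open Cfsg

namespace Cfsg.Agent.S4665

open Cfsg.Agent.Lib.Helper1 Cfsg.Agent.Lib.Helper4 Cfsg.Agent.Lib.Helper8

/-- The sum of an irreducible character over a subgroup is a natural multiple of its order. -/
theorem sum_subgroup_irr {G : Type*} [Group G] [Fintype G] (P : Subgroup G) [Fintype P]
    (ψ : Cfsg.IrrCharacter G) :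
    ∃ k : ℕ, ∑ x : P, (ψ : G → ℂ) x = (Nat.card P : ℂ) * k := by
  classical
  have hchar : Cfsg.IsCharacter P (fun h : P => (ψ : G → ℂ) (P.subtype h)) :=
    isCharacter_comp_hom (isCharacter_of_irr ψ.2) P.subtype
  obtain ⟨m, hm⟩ := classInner_char_irr_nat hchar (trivIrr P).2
  refine ⟨m, ?_⟩
  have hP0 : (Nat.card P : ℂ) ≠ 0 := Nat.cast_ne_zero.2 Nat.card_pos.ne'
  rw [← hm, classInner_def]
  rw [← mul_assoc, mul_inv_cancel₀ hP0, one_mul]
  refine Finset.sum_congr rfl fun x _ => ?_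
  rw [trivIrr_apply]
  simp

theorem result {G : Type*} [Group G] [Fintype G] (p : ℕ) [Fact p.Prime] (M : Ideal Cfsg.AlgInt) (hM : Cfsg.IsPModular p M) (B : Set (Cfsg.IrrCharacter G)) (hB : Cfsg.IsPBlock M B) (χ : G → ℂ) (hχ : (∃ n : Cfsg.IrrCharacter G → ℤ, ∀ g : G, χ g = ∑ᶠ ψ ∈ B, (n ψ : ℂ) * (ψ : G → ℂ) g)) (h0 : (∃ n : Cfsg.IrrCharacter G → ℤ, ∀ g : G, Cfsg.pRegularPart p χ g = ∑ᶠ ψ ∈ B, (n ψ : ℂ) * (ψ : G → ℂ) g)) : ∃ k : ℤ, χ 1 = (p ^ (Nat.card G).factorization p : ℂ) * k := by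
  classical
  obtain ⟨n, hn⟩ := h0
  have hp : p.Prime := Fact.out
  obtain ⟨P⟩ : Nonempty (Sylow p G) := inferInstance
  have hcard : Nat.card P = p ^ (Nat.card G).factorization p := P.card_eq_multiplicity
  -- sum of the truncation over `P`
  have h1 : ∑ x : (P : Subgroup G), Cfsg.pRegularPart p χ (x : G) = χ 1 := by
    rw [Finset.sum_eq_single (1 : (P : Subgroup G))]
    · have : Cfsg.IsPRegular p ((1 : (P : Subgroup G)) : G) := by
        unfold Cfsg.IsPRegular
        simp only [OneMemClass.coe_one, orderOf_one, Nat.dvd_one]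
        exact hp.ne_one
      simp only [Cfsg.pRegularPart, OneMemClass.coe_one] at this ⊢
      rw [if_pos this]
    · intro x _ hx
      have hnot : ¬ Cfsg.IsPRegular p (x : G) := by
        unfold Cfsg.IsPRegular
        rw [not_not]
        obtain ⟨k, hk⟩ := (IsPGroup.iff_orderOf.1 P.2) x
        rw [Subgroup.orderOf_coe, hk]
        rcases k with _ | k
        · exfalso
          rw [pow_zero, orderOf_eq_one_iff] at hk
          exact hx hk
        · exact dvd_pow_self p (Nat.succ_ne_zero k)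
      simp only [Cfsg.pRegularPart]
      rw [if_neg hnot]
    · intro h
      exact absurd (Finset.mem_univ _) h
  choose kk hkk using fun ψ : Cfsg.IrrCharacter G => sum_subgroup_irr (P : Subgroup G) ψ
  have : Fintype (Cfsg.IrrCharacter G) := Fintype.ofFinite _
  have hfin : ∀ g : G, ∑ᶠ ψ ∈ B, (n ψ : ℂ) * (ψ : G → ℂ) g
      = ∑ ψ ∈ Finset.univ.filter (fun ψ => ψ ∈ B), (n ψ : ℂ) * (ψ : G → ℂ) g := by
    intro g
    rw [finsum_mem_eq_finite_toFinset_sum _ (Set.toFinite B)]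
    refine Finset.sum_congr ?_ fun _ _ => rfl
    ext ψ
    simp
  refine ⟨∑ ψ ∈ Finset.univ.filter (fun ψ => ψ ∈ B), n ψ * (kk ψ : ℤ), ?_⟩
  rw [← h1]
  simp_rw [hn, hfin]
  rw [Finset.sum_comm]
  push_cast
  rw [Finset.mul_sum]
  refine Finset.sum_congr rfl fun ψ _ => ?_
  rw [← Finset.mul_sum, hkk ψ, hcard]
  push_cast
  ring

end Cfsg.Agent.S4665
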