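import Mathlib
import Cfsg.Statements.S0137
import Cfsg.Agent.Lib.Helper1.RepEigen

set_option autoImplicit false
open Cfsg

namespace Cfsg.Agent.S0137

open Cfsg.Agent.Lib.Helper1

/-- A character value of a finite group has absolute value at most the degree of the representation. -/
theorem result {G : Type*} [Group G] [Finite G] {V : Type*} [AddCommGroup V] [Module ℂ V] [FiniteDimensional ℂ V] (ρ : Representation ℂ G V) (g : G) : ‖ρ.character g‖ ≤ (Module.finrank ℂ V : ℝ) := by
  rw [character_eq_sum_roots, ← card_charpoly_roots ρ g]
  refine (norm_multiset_sum_le _).trans ?_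
  rw [Multiset.map_congr rfl (charpoly_roots_norm ρ g)]
  simp

end Cfsg.Agent.S0137
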