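import Mathlib
-- Template for statement S1280 (row 1280; see /opt/grader/pristine/manifest.json for weights).
-- Copy to Cfsg/Agent/S1280.lean and replace the sorry. The statement below is byte-identical to the frozen
-- statement Cfsg.CfsgFrozen.S1280 (Cfsg/Statements/S1280.lean; the theorem Cfsg.signalizer_family_product_of_normalizing);
-- the grader kernel-checks Cfsg.Agent.S1280.result against that frozen type. Keep the theorem IN THIS FILE
-- (a `result` declared elsewhere and merely imported here is not credited); helpers may live anywhere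
-- under Cfsg/Agent/.
import Cfsg.Statements.S1280
import Cfsg.Agent.Lib.Helper3.Sig1

set_option autoImplicit false
open Cfsg
open Cfsg.Agent.Lib.Helper3.Sig Cfsg.Agent.Lib.Lead
open scoped Pointwise

namespace Cfsg.Agent.S1280

/-- Let θ be a solvable A-signalizer functor (A a noncyclic elementary abelian p-subgroup of the finite group G), and X, Y members of its family with Y ≤ N_G(X). Then X ⊔ Y (= XY) is again in the family. -/
theorem result {G : Type*} [Group G] [Finite G] (p : ℕ) [Fact p.Prime] (A : Subgroup G) (hA : Cfsg.IsElementaryAbelian p A) (hA2 : p ^ 2 ≤ Nat.card ↥A) (θ : G → Subgroup G) (hθ : Cfsg.IsSolvableSignalizerFunctor p A θ) (X Y : Subgroup G) (hX : X ∈ Cfsg.signalizerFamily p A θ) (hY : Y ∈ Cfsg.signalizerFamily p A θ) (hn : Y ≤ Subgroup.normalizer (X : Set G)) : X ⊔ Y ∈ Cfsg.signalizerFamily p A θ := by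
  obtain ⟨hXs, hXp, hXi, hXb⟩ := hX
  obtain ⟨hYs, hYp, hYi, hYb⟩ := hY
  have hAX : A ≤ Subgroup.normalizer (X : Set G) := le_normalizer_of_conj_mem hXi
  have hAY : A ≤ Subgroup.normalizer (Y : Set G) := le_normalizer_of_conj_mem hYi
  refine ⟨isSolvable_sup_of_le_normalizer hXs hYs hn, ?_, ?_, ?_⟩
  · -- order prime to p
    intro hdvd
    have h1 := Cfsg.Agent.Lib.Lead.card_sup_mul_card_inf Y X hn
    have h2 : p ∣ Nat.card Y * Nat.card X := by
      rw [← h1, sup_comm]
      exact Dvd.dvd.mul_right hdvd _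
    rcases (Nat.Prime.dvd_mul Fact.out).mp h2 with h3 | h3
    · exact hYp h3
    · exact hXp h3
  · intro b hb u hu
    exact (Subgroup.mem_normalizer_iff.mp (le_normalizer_sup hAX hAY hb) u).mp hu
  · intro a ha ha1 g hg
    obtain ⟨hgU, hgC⟩ := Subgroup.mem_inf.mp hg
    have hgC' : a * g = g * a := (Subgroup.mem_centralizer_singleton_iff.mp hgC).symm
    have hg' : g ∈ ((X ⊔ Y : Subgroup G) : Set G) := hgU
    rw [Subgroup.coe_mul_of_right_le_normalizer_left X Y hn] at hg'
    obtain ⟨x, hx, y, hy, hxy⟩ := hg'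
    have hxy' : x * y = g := hxy
    have hBA : Subgroup.zpowers a ≤ A := zpowers_le_of_mem ha
    have hBp : IsPGroup p (Subgroup.zpowers a) := (ea_isPGroup hA).to_le hBA
    have hcop : (Nat.card (Subgroup.zpowers a)).Coprime (Nat.card Y) :=
      coprime_card_of_isPGroup hBp hYp
    have hfix : ∀ c ∈ Subgroup.zpowers a, c * y * c⁻¹ * y⁻¹ ∈ X ⊓ Y := by
      intro c hc
      have hcg : c * g = g * c := by
        obtain ⟨k, rfl⟩ := Subgroup.mem_zpowers_iff.mp hc
        have h1 : Commute a g := hgC'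
        exact (h1.zpow_left k).eq
      refine Subgroup.mem_inf.mpr ⟨?_, ?_⟩
      · -- c y c⁻¹ y⁻¹ = (c x c⁻¹)⁻¹ x
        have e : c * y * c⁻¹ * y⁻¹ = (c * x * c⁻¹)⁻¹ * x := by
          have : c * (x * y) * c⁻¹ = x * y := by
            rw [hxy', hcg]; group
          calc c * y * c⁻¹ * y⁻¹ = (c * x * c⁻¹)⁻¹ * (c * (x * y) * c⁻¹) * y⁻¹ := by group
            _ = (c * x * c⁻¹)⁻¹ * (x * y) * y⁻¹ := by rw [this]
            _ = (c * x * c⁻¹)⁻¹ * x := by group
        rw [e]
        exact Subgroup.mul_mem _ (Subgroup.inv_mem _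
          ((Subgroup.mem_normalizer_iff.mp (hAX (hBA hc)) x).mp hx)) hx
      · exact Subgroup.mul_mem _ ((Subgroup.mem_normalizer_iff.mp (hAY (hBA hc)) y).mp hy)
          (Subgroup.inv_mem _ hy)
    obtain ⟨c, hc, hcN⟩ := coprime_fixed_coset (Subgroup.zpowers a) Y (hBA.trans hAY) hcop
      (Or.inl inferInstance) (X ⊓ Y) inf_le_right
      (le_normalizer_inf hn Subgroup.le_normalizer)
      (le_normalizer_inf (hBA.trans hAX) (hBA.trans hAY)) y hy hfix
    have hcC : c ∈ Subgroup.centralizer {a} := by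
      rw [Subgroup.mem_centralizer_singleton_iff]
      exact (Subgroup.mem_centralizer_iff.mp hc.2 a (Subgroup.mem_zpowers a)).symm
    have hcθ : c ∈ θ a := hYb a ha ha1 (Subgroup.mem_inf.mpr ⟨hc.1, hcC⟩)
    -- g c⁻¹ ∈ X ⊓ C(a)
    have hgc : g * c⁻¹ ∈ X := by
      have e : g * c⁻¹ = x * (c * (y⁻¹ * c)⁻¹ * c⁻¹) := by
        rw [← hxy']; group
      rw [e]
      refine Subgroup.mul_mem _ hx ?_
      exact (Subgroup.mem_normalizer_iff.mp (hn hc.1) _).mp (Subgroup.inv_mem _ hcN.1)
    have hgcC : g * c⁻¹ ∈ Subgroup.centralizer {a} :=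
      Subgroup.mul_mem _ hgC (Subgroup.inv_mem _ hcC)
    have hgcθ : g * c⁻¹ ∈ θ a := hXb a ha ha1 (Subgroup.mem_inf.mpr ⟨hgc, hgcC⟩)
    have : g = g * c⁻¹ * c := by group
    rw [this]
    exact Subgroup.mul_mem _ hgcθ hcθ

end Cfsg.Agent.S1280
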