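import Mathlib
-- Template for statement S1282 (row 1282; see /opt/grader/pristine/manifest.json for weights).
-- Copy to Cfsg/Agent/S1282.lean and replace the sorry. The statement below is byte-identical to the frozen
-- statement Cfsg.CfsgFrozen.S1282 (Cfsg/Statements/S1282.lean; the theorem Cfsg.invariant_q_subgroups_normalizer_of_meet);
-- the grader kernel-checks Cfsg.Agent.S1282.result against that frozen type. Keep the theorem IN THIS FILE
-- (a `result` declared elsewhere and merely imported here is not credited); helpers may live anywhere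
-- under Cfsg/Agent/.
import Cfsg.Statements.S1282
import Cfsg.Agent.Lib.Helper3.Sig2

set_option autoImplicit false
open Cfsg
open Cfsg.Agent.Lib.Helper3.Sig Cfsg.Agent.Lib.Lead Cfsg.Agent.Lib.Helper3.Gen

namespace Cfsg.Agent.S1282

/-- Let A be an elementary abelian p-subgroup of rank at least 3 of the finite group G, q ≠ p a prime, and Q₁, Q₂ q-subgroups normalized by A with D = Q₁ ∩ Q₂ different from both. Then there is a non-identity a ∈ A such that, for i = 1 and i = 2, N_{Q_i}(D) ∩ C_G(a) is not contained in D. -/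
theorem result {G : Type*} [Group G] [Finite G] (p : ℕ) [Fact p.Prime] (A : Subgroup G) (hA : Cfsg.IsElementaryAbelian p A) (hA3 : p ^ 3 ≤ Nat.card ↥A) (q : ℕ) [Fact q.Prime] (hqp : q ≠ p) (Q₁ Q₂ : Subgroup G) (h₁ : IsPGroup q ↥Q₁) (h₂ : IsPGroup q ↥Q₂) (hA₁ : A ≤ Subgroup.normalizer (Q₁ : Set G)) (hA₂ : A ≤ Subgroup.normalizer (Q₂ : Set G)) (hD₁ : Q₁ ⊓ Q₂ ≠ Q₁) (hD₂ : Q₁ ⊓ Q₂ ≠ Q₂) : ∃ a ∈ A, a ≠ 1 ∧ ¬ (Subgroup.normalizer ((Q₁ ⊓ Q₂ : Subgroup G) : Set G) ⊓ Q₁ ⊓ Subgroup.centralizer {a} ≤ Q₁ ⊓ Q₂) ∧ ¬ (Subgroup.normalizer ((Q₁ ⊓ Q₂ : Subgroup G) : Set G) ⊓ Q₂ ⊓ Subgroup.centralizer {a} ≤ Q₁ ⊓ Q₂) := by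
  have hAD : A ≤ Subgroup.normalizer ((Q₁ ⊓ Q₂ : Subgroup G) : Set G) := le_normalizer_inf hA₁ hA₂
  have key : ∀ Q : Subgroup G, IsPGroup q Q → A ≤ Subgroup.normalizer (Q : Set G) → Q₁ ⊓ Q₂ < Q →
      ∃ B : Subgroup G, B ≤ A ∧ B.relIndex A ≤ p ∧
        ¬ (Subgroup.normalizer ((Q₁ ⊓ Q₂ : Subgroup G) : Set G) ⊓ Q ⊓
          Subgroup.centralizer (B : Set G) ≤ Q₁ ⊓ Q₂) := by
    intro Q hQ hAQ hlt
    have hgrow := pgroup_normalizer_grows q Q (Q₁ ⊓ Q₂) hQ hlt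
    by_contra hcon
    push Not at hcon
    have hXp : ¬ p ∣ Nat.card (Subgroup.normalizer ((Q₁ ⊓ Q₂ : Subgroup G) : Set G) ⊓ Q : Subgroup G) :=
      not_dvd_card_of_isPGroup hqp (hQ.to_le inf_le_right)
    have hAX : A ≤ Subgroup.normalizer
        ((Subgroup.normalizer ((Q₁ ⊓ Q₂ : Subgroup G) : Set G) ⊓ Q : Subgroup G) : Set G) :=
      le_normalizer_inf (hAD.trans Subgroup.le_normalizer) hAQ
    have h1 := le_hypJoin hA (Nat.card A - Nat.card (⊥ : Subgroup G)) ⊥ _ le_rfl bot_le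
      (by rw [Subgroup.coe_bot, Subgroup.centralizer_eq_top_iff_subset.mpr (by simp)]; exact le_top)
      hXp hAX
    have hXD : Subgroup.normalizer ((Q₁ ⊓ Q₂ : Subgroup G) : Set G) ⊓ Q ≤ Q₁ ⊓ Q₂ := by
      refine h1.trans (iSup_le ?_)
      rintro ⟨B, -, hBA, hidx⟩
      exact hcon B hBA hidx
    rw [inf_comm] at hXD
    exact absurd (hgrow.trans_le hXD) (lt_irrefl _)
  obtain ⟨B₁, hB₁A, hB₁i, hB₁⟩ := key Q₁ h₁ hA₁ (lt_of_le_of_ne inf_le_left hD₁)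
  obtain ⟨B₂, hB₂A, hB₂i, hB₂⟩ := key Q₂ h₂ hA₂ (lt_of_le_of_ne inf_le_right hD₂)
  have hp2 : 2 ≤ p := (Fact.out : p.Prime).two_le
  have hidx : (B₁ ⊓ B₂).relIndex A ≤ p * p :=
    Subgroup.relIndex_inf_le.trans (Nat.mul_le_mul hB₁i hB₂i)
  have hne : B₁ ⊓ B₂ ≠ ⊥ := by
    intro hbot
    rw [hbot, Subgroup.relIndex_bot_left] at hidx
    have : p * p * 2 ≤ p ^ 3 := by
      have : p ^ 3 = p * p * p := by ring
      rw [this]; exact Nat.mul_le_mul_left _ hp2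
    have hpp : 0 < p * p := by positivity
    omega
  obtain ⟨⟨a, ha⟩, ha1⟩ := Subgroup.ne_bot_iff_exists_ne_one.mp hne
  have ha1' : a ≠ 1 := fun h => ha1 (Subtype.ext h)
  obtain ⟨haB₁, haB₂⟩ := Subgroup.mem_inf.mp ha
  refine ⟨a, hB₁A haB₁, ha1', ?_, ?_⟩
  · intro hle
    apply hB₁
    exact (inf_le_inf_left _ (Subgroup.centralizer_le (Set.singleton_subset_iff.mpr haB₁))).trans hle
  · intro hle
    apply hB₂
    exact (inf_le_inf_left _ (Subgroup.centralizer_le (Set.singleton_subset_iff.mpr haB₂))).trans hle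

end Cfsg.Agent.S1282
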