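import Mathlib
-- Template for statement S0916 (row 916; see /opt/grader/pristine/manifest.json for weights).
-- Copy to Cfsg/Agent/S0916.lean and replace the sorry. The statement below is byte-identical to the frozen
-- statement Cfsg.CfsgFrozen.S0916 (Cfsg/Statements/S0916.lean; the theorem Cfsg.classes_with_defect_group_biject_normalizer);
-- the grader kernel-checks Cfsg.Agent.S0916.result against that frozen type. Keep the theorem IN THIS FILE
-- (a `result` declared elsewhere and merely imported here is not credited); helpers may live anywhere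
-- under Cfsg/Agent/.
import Cfsg.Statements.S0916
import Cfsg.Agent.Lib.Helper3.SylowIn

set_option autoImplicit false
open Cfsg
open Cfsg.Agent.Lib.Helper3 Cfsg.Agent.Lib.Lead

namespace Cfsg.Agent.S0916

/-- Let P be a p-subgroup of the finite group G, C its centralizer and N its normalizer. Say that a conjugacy class (of G, or of N) has defect group P when P is a Sylow p-subgroup of the centralizer (in G, respectively in N) of some element of the class. Then: (i) if the class of g in G has defect group P, the elements of that class lying in C form a single N-class, again with defect group P; (ii) every N-class with defect group P arises this way from exactly one G-class with defect group P. -/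
theorem result {G : Type*} [Group G] [Finite G] (p : ℕ) [Fact p.Prime] (P : Subgroup G) (hP : IsPGroup p P) : (∀ g : G, (∃ S : Sylow p (Subgroup.centralizer ({g} : Set G)), (S : Subgroup (Subgroup.centralizer ({g} : Set G))).map (Subgroup.centralizer ({g} : Set G)).subtype = P) → (∃ c : G, IsConj g c ∧ c ∈ Subgroup.centralizer (P : Set G)) ∧ (∀ c₁ c₂ : G, IsConj g c₁ → IsConj g c₂ → c₁ ∈ Subgroup.centralizer (P : Set G) → c₂ ∈ Subgroup.centralizer (P : Set G) → ∃ n ∈ Subgroup.normalizer (P : Set G), n * c₁ * n⁻¹ = c₂)) ∧ (∀ c : G, c ∈ Subgroup.centralizer (P : Set G) → (∃ S : Sylow p (Subgroup.centralizer ({c} : Set G) ⊓ Subgroup.normalizer (P : Set G) : Subgroup G), (S : Subgroup ↥(Subgroup.centralizer ({c} : Set G) ⊓ Subgroup.normalizer (P : Set G))).map (Subgroup.centralizer ({c} : Set G) ⊓ Subgroup.normalizer (P : Set G)).subtype = P) → ∃ S : Sylow p (Subgroup.centralizer ({c} : Set G)), (S : Subgroup (Subgroup.centralizer ({c} : Set G))).map (Subgroup.centralizer ({c} : Set G)).subtype = P) := by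
  have hcent : ∀ c : G, c ∈ Subgroup.centralizer (P : Set G) ↔ P ≤ Subgroup.centralizer ({c} : Set G) := by
    intro c
    constructor
    · intro hc x hx
      rw [Subgroup.mem_centralizer_singleton_iff]
      exact (Subgroup.mem_centralizer_iff.mp hc x hx)
    · intro h
      rw [Subgroup.mem_centralizer_iff]
      intro x hx
      exact (Subgroup.mem_centralizer_singleton_iff.mp (h hx))
  constructor
  · intro g hS
    have hS' := (exists_sylow_map_eq_iff _ _).mp hS
    obtain ⟨hPg, -, hPc⟩ := hS'
    refine ⟨⟨g, IsConj.refl g, (hcent g).mpr hPg⟩, ?_⟩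
    -- `P` is Sylow in the centralizer of every conjugate of `g` lying in `C(P)`
    have hsyl : ∀ c : G, IsConj g c → c ∈ Subgroup.centralizer (P : Set G) →
        ∃ S : Sylow p (Subgroup.centralizer ({c} : Set G)),
          (S : Subgroup (Subgroup.centralizer ({c} : Set G))).map
            (Subgroup.centralizer ({c} : Set G)).subtype = P := by
      intro c hgc hc
      rw [exists_sylow_map_eq_iff]
      refine ⟨(hcent c).mp hc, hP, ?_⟩
      obtain ⟨x, hx⟩ := isConj_iff.mp hgc
      rw [hPc, ← hx, ← centralizer_singleton_map_conj, card_map_conj']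
    intro c₁ c₂ h1 h2 hc₁ hc₂
    obtain ⟨x₁, hx₁⟩ := isConj_iff.mp h1
    obtain ⟨x₂, hx₂⟩ := isConj_iff.mp h2
    set y := x₂ * x₁⁻¹ with hy
    have hyc : y * c₁ * y⁻¹ = c₂ := by
      rw [hy, ← hx₁, ← hx₂]; group
    -- `y P y⁻¹` is Sylow in `C(c₂)`
    have hQ : ∃ S : Sylow p (Subgroup.centralizer ({c₂} : Set G)),
          (S : Subgroup (Subgroup.centralizer ({c₂} : Set G))).map
            (Subgroup.centralizer ({c₂} : Set G)).subtype = P.map (MulAut.conj y).toMonoidHom := by
      rw [exists_sylow_map_eq_iff]
      obtain ⟨h1', h2', h3'⟩ := (exists_sylow_map_eq_iff _ _).mp (hsyl c₁ h1 hc₁)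
      refine ⟨?_, h2'.map _, ?_⟩
      · rw [← hyc, ← centralizer_singleton_map_conj]
        exact Subgroup.map_mono h1'
      · rw [card_map_conj', h3', ← hyc, ← centralizer_singleton_map_conj, card_map_conj']
    obtain ⟨z, hz, hzP⟩ := exists_map_conj_eq_of_sylow_in _ _ _ (hsyl c₂ h2 hc₂) hQ
    refine ⟨z * y, ?_, ?_⟩
    · rw [Subgroup.mem_normalizer_iff_map_conj_eq]
      show P.map (MulAut.conj (z * y)).toMonoidHom = P
      rw [map_conj_mul]
      exact hzP
    · rw [Subgroup.mem_centralizer_singleton_iff] at hz
      calc z * y * c₁ * (z * y)⁻¹ = z * (y * c₁ * y⁻¹) * z⁻¹ := by group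
        _ = z * c₂ * z⁻¹ := by rw [hyc]
        _ = c₂ := by rw [hz]; group
  · intro c hc hS
    obtain ⟨hPle, -, hPc⟩ := (exists_sylow_map_eq_iff _ _).mp hS
    have hPC : P ≤ Subgroup.centralizer ({c} : Set G) := (hcent c).mp hc
    -- take a Sylow subgroup of `C(c)` above `P`
    have hP' : IsPGroup p ↥(P.subgroupOf (Subgroup.centralizer ({c} : Set G))) := hP.comap_subtype
    obtain ⟨T, hT⟩ := hP'.exists_le_sylow
    have hPT : P ≤ (T : Subgroup _).map (Subgroup.centralizer ({c} : Set G)).subtype := by
      intro x hx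
      exact ⟨⟨x, hPC hx⟩, hT (Subgroup.mem_subgroupOf.mpr hx), rfl⟩
    refine ⟨T, ?_⟩
    by_contra hne
    have hlt : P < (T : Subgroup _).map (Subgroup.centralizer ({c} : Set G)).subtype :=
      lt_of_le_of_ne hPT (Ne.symm hne)
    have hTp : IsPGroup p ↥((T : Subgroup _).map (Subgroup.centralizer ({c} : Set G)).subtype) :=
      T.2.map _
    have hgrow := pgroup_normalizer_grows p _ P hTp hlt
    -- the bigger `p`-group lies in `C(c) ⊓ N(P)`
    set R := (T : Subgroup _).map (Subgroup.centralizer ({c} : Set G)).subtype ⊓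
      Subgroup.normalizer (P : Set G) with hR
    have hRle : R ≤ Subgroup.centralizer ({c} : Set G) ⊓ Subgroup.normalizer (P : Set G) :=
      inf_le_inf_right _ (Subgroup.map_subtype_le _)
    have hRp : IsPGroup p ↥R := hTp.to_le inf_le_left
    have hRp' : IsPGroup p ↥(R.subgroupOf
        (Subgroup.centralizer ({c} : Set G) ⊓ Subgroup.normalizer (P : Set G))) :=
      hRp.comap_subtype
    obtain ⟨k, hk⟩ := IsPGroup.iff_card.mp hRp'
    rw [card_subgroupOf_of_le hRle] at hk
    have hdvd : Nat.card ↥R ∣ Nat.card
        ↥(Subgroup.centralizer ({c} : Set G) ⊓ Subgroup.normalizer (P : Set G)) :=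
      Subgroup.card_dvd_of_le hRle
    have hkle : k ≤ (Nat.card
        ↥(Subgroup.centralizer ({c} : Set G) ⊓ Subgroup.normalizer (P : Set G))).factorization p := by
      rw [hk] at hdvd
      exact (Nat.Prime.pow_dvd_iff_le_factorization (Fact.out) Nat.card_pos.ne').mp hdvd
    have h1 := Sig.card_lt_card_of_lt hgrow
    rw [hPc, hk] at h1
    have := Nat.pow_le_pow_right (Fact.out : p.Prime).pos hkle
    omega

end Cfsg.Agent.S0916
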