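import Mathlib
import Cfsg.Statements.S0912
import Cfsg.Agent.Lib.Helper8.BlockNormalP2
import Cfsg.Agent.Lib.Lead.Core

set_option autoImplicit false
open Cfsg

namespace Cfsg.Agent.S0912

open scoped ComplexConjugate
open Cfsg.Agent.Lib.Helper1 Cfsg.Agent.Lib.Helper4 Cfsg.Agent.Lib.Helper8

/-- Let B be a block of the finite group G relative to a maximal ideal M of the algebraic integers containing the prime p. Every defect group of B contains the largest normal p-subgroup O_p(G). -/
theorem result {G : Type*} [Group G] [Finite G] (p : ℕ) [Fact p.Prime] (M : Ideal Cfsg.AlgInt) (hM : Cfsg.IsPModular p M) (B : Set (Cfsg.IrrCharacter G)) (hB : Cfsg.IsPBlock M B) (D : Subgroup G) (hD : Cfsg.IsDefectGroup p M B D) : Cfsg.pCore p G ≤ D := by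
  classical
  have : Fintype G := Fintype.ofFinite G
  have hMp := isPModular_isPrime hM
  have hPn : (Cfsg.pCore p G).Normal := Cfsg.Agent.Lib.Lead.pCore_normal p
  have hPp : IsPGroup p (Cfsg.pCore p G) := Cfsg.Agent.Lib.Lead.pCore_isPGroup p
  obtain ⟨g, hg, P, rfl⟩ := hD
  have hgC : g ∈ Subgroup.centralizer ((Cfsg.pCore p G) : Set G) := by
    by_contra hgC
    have h0 := blockCoeff_eq_zero_of_not_mem_centralizer hM (Cfsg.pCore p G) hPp hB hgC
    apply hg.2.1
    rw [h0]
    exact memLocalIdeal_zero hMp.ne_top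
  have hle : Cfsg.pCore p G ≤ Subgroup.centralizer ({g} : Set G) := by
    intro u hu
    rw [Subgroup.mem_centralizer_iff]
    intro z hz
    rw [Set.mem_singleton_iff] at hz
    subst hz
    exact (Subgroup.mem_centralizer_iff.1 hgC u hu).symm
  have hN : ((Cfsg.pCore p G).subgroupOf (Subgroup.centralizer ({g} : Set G))).Normal :=
    Subgroup.normal_subgroupOf
  have hNp : IsPGroup p ((Cfsg.pCore p G).subgroupOf (Subgroup.centralizer ({g} : Set G))) :=
    hPp.comap_subtype
  have h1 := hNp.le_sylow_of_normal P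
  intro u hu
  exact ⟨⟨u, hle hu⟩, h1 (Subgroup.mem_subgroupOf.2 hu), rfl⟩

end Cfsg.Agent.S0912
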