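import Mathlib
import Cfsg.Statements.S4510
import Cfsg.Agent.Lib.Helper8.BlockCount

set_option autoImplicit false
open Cfsg

namespace Cfsg.Agent.S4510

open scoped ComplexConjugate
open Cfsg.Agent.Lib.Helper1 Cfsg.Agent.Lib.Helper4 Cfsg.Agent.Lib.Helper8

/-- Let G be a finite group, p a prime, M a maximal ideal of the algebraic integers containing p, and call the defect of a conjugacy class the exponent of p in the order of the centralizer of its elements. Two irreducible characters lying in p-blocks of defect exactly d lie in the same block if and only if their central characters (class size times χ(x)/χ(1)) agree modulo the local ideal at M at every p-regular element x whose class has defect exactly d. -/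
theorem result {G : Type*} [Group G] [Finite G] (p : ℕ) [Fact p.Prime] (M : Ideal Cfsg.AlgInt) (hM : Cfsg.IsPModular p M) (d : ℕ) (χ ψ : Cfsg.IrrCharacter G) (hχ : Cfsg.blockDefect p (Cfsg.blockOf M (χ : G → ℂ)) = d) (hψ : Cfsg.blockDefect p (Cfsg.blockOf M (ψ : G → ℂ)) = d) : Cfsg.SameBlock M (χ : G → ℂ) (ψ : G → ℂ) ↔ ∀ x : G, ¬ p ∣ orderOf x → (Nat.card (Subgroup.centralizer ({x} : Set G))).factorization p = d → Cfsg.MemLocalIdeal M (Cfsg.centralChar (χ : G → ℂ) x - Cfsg.centralChar (ψ : G → ℂ) x) := by
  classical
  have : Fintype G := Fintype.ofFinite G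
  have : Fintype (ConjClasses G) := Fintype.ofFinite _
  have hMp := isPModular_isPrime hM
  constructor
  · intro h x _ _
    exact h x
  · intro h
    set B₁ := Cfsg.blockOf M (χ : G → ℂ) with hB₁
    set B₂ := Cfsg.blockOf M (ψ : G → ℂ) with hB₂
    have hB₁b : Cfsg.IsPBlock M B₁ := ⟨χ, rfl⟩
    have hB₂b : Cfsg.IsPBlock M B₂ := ⟨ψ, rfl⟩
    have hχB₁ : χ ∈ B₁ := sameBlock_refl hMp.ne_top _
    have hψB₂ : ψ ∈ B₂ := sameBlock_refl hMp.ne_top _
    obtain ⟨hcf, hS, hω⟩ := blockCoeff_spec hMp hB₁b
    have hdiff : MemLocalIdeal M (omega (ψ : G → ℂ) (Cfsg.blockCoeff B₁)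
        - omega (χ : G → ℂ) (Cfsg.blockCoeff B₁)) := by
      rw [omega_eq_sum_classes ψ.2 hcf, omega_eq_sum_classes χ.2 hcf, ← Finset.sum_sub_distrib]
      apply memLocalIdeal_sum hMp
      intro c _
      rw [← mul_sub]
      by_cases h1 : MemLocalIdeal M (Cfsg.blockCoeff B₁ (Quotient.out c))
      · exact memLocalIdeal_mul_right hMp h1 (memLocalRing_sub hMp
          (memLocalRing_centralChar hMp.ne_top ψ.2 _) (memLocalRing_centralChar hMp.ne_top χ.2 _))
      · apply memLocalIdeal_mul_left hMp (hS _)
        have hreg : ¬ p ∣ orderOf (Quotient.out c) := by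
          intro hdvd
          apply h1
          rw [blockCoeff_eq_zero_of_dvd_orderOf hM hB₁b hdvd]
          exact memLocalIdeal_zero hMp.ne_top
        have h3 := factorization_le_of_not_memLocalIdeal_blockCoeff hM hB₁b h1
        rw [hχ] at h3
        rcases lt_or_eq_of_le h3 with hlt | heq
        · have hψJ : MemLocalIdeal M (Cfsg.centralChar (ψ : G → ℂ) (Quotient.out c)) := by
            by_contra hcon
            have := le_factorization_of_not_memLocalIdeal_centralChar hM hB₂b ⟨ψ, hψB₂, hcon⟩
            rw [hψ] at this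
            omega
          have hχJ : MemLocalIdeal M (Cfsg.centralChar (χ : G → ℂ) (Quotient.out c)) := by
            by_contra hcon
            have := le_factorization_of_not_memLocalIdeal_centralChar hM hB₁b ⟨χ, hχB₁, hcon⟩
            rw [hχ] at this
            omega
          exact memLocalIdeal_sub hMp hψJ hχJ
        · exact cong_symm (h _ hreg heq)
    rw [hω ψ, hω χ, if_pos hχB₁] at hdiff
    by_contra hcon
    have hψB₁ : ψ ∉ B₁ := hcon
    rw [if_neg hψB₁, zero_sub] at hdiff
    have := memLocalIdeal_neg hdiff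
    rw [neg_neg] at this
    exact not_memLocalIdeal_one hMp this

end Cfsg.Agent.S4510
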