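import Mathlib
import Cfsg.Statements.S0911
import Cfsg.Agent.Lib.Helper8.BlockMinMax
import Cfsg.Agent.Lib.Helper8.SylowConj

set_option autoImplicit false
open Cfsg

namespace Cfsg.Agent.S0911

open scoped ComplexConjugate
open Cfsg.Agent.Lib.Helper1 Cfsg.Agent.Lib.Helper4 Cfsg.Agent.Lib.Helper8

/-- The min–max Theorem for defect classes. Let B be a block of the finite group G relative to a maximal ideal M of the algebraic integers containing the prime p, let g represent a defect class of B and let D be a Sylow p-subgroup of the centralizer of g (viewed in G). For any h: (a) if the idempotent coefficient of B at h is a local integer outside the local ideal, then some conjugate of D contains a Sylow p-subgroup of the centralizer of h; (b) if the central character of some member of B at h is outside the local ideal, then some conjugate of D is contained in a Sylow p-subgroup of the centralizer of h. -/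
theorem result {G : Type*} [Group G] [Finite G] (p : ℕ) [Fact p.Prime] (M : Ideal Cfsg.AlgInt) (hM : Cfsg.IsPModular p M) (B : Set (Cfsg.IrrCharacter G)) (hB : Cfsg.IsPBlock M B) (g : G) (hg : Cfsg.IsDefectClass M B g) (D : Sylow p (Subgroup.centralizer ({g} : Set G))) (h : G) : (Cfsg.MemLocalRing M (Cfsg.blockCoeff B h) → ¬ Cfsg.MemLocalIdeal M (Cfsg.blockCoeff B h) → ∃ (x : G) (Q : Sylow p (Subgroup.centralizer ({h} : Set G))), (Q : Subgroup (Subgroup.centralizer ({h} : Set G))).map (Subgroup.centralizer ({h} : Set G)).subtype ≤ ((D : Subgroup (Subgroup.centralizer ({g} : Set G))).map (Subgroup.centralizer ({g} : Set G)).subtype).map (MulAut.conj x).toMonoidHom) ∧ ((∃ χ ∈ B, ¬ Cfsg.MemLocalIdeal M (Cfsg.centralChar (χ : G → ℂ) h)) → ∃ (x : G) (Q : Sylow p (Subgroup.centralizer ({h} : Set G))), ((D : Subgroup (Subgroup.centralizer ({g} : Set G))).map (Subgroup.centralizer ({g} : Set G)).subtype).map (MulAut.conj x).toMonoidHom ≤ (Q : Subgroup (Subgroup.centralizer ({h} : Set G))).map (Subgroup.centralizer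 ({h} : Set G)).subtype) := by
  classical
  have : Fintype G := Fintype.ofFinite G
  have hMp := isPModular_isPrime hM
  have hBne : ∃ χ, χ ∈ B := by
    obtain ⟨χ₀, rfl⟩ := hB
    exact ⟨χ₀, sameBlock_refl hMp.ne_top _⟩
  constructor
  · intro _ hh
    obtain ⟨Q⟩ : Nonempty (Sylow p (Subgroup.centralizer ({h} : Set G))) := inferInstance
    set Q₀ := (Q : Subgroup (Subgroup.centralizer ({h} : Set G))).map
      (Subgroup.centralizer ({h} : Set G)).subtype with hQ₀
    have hQ₀p : IsPGroup p Q₀ := Q.isPGroup'.map _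
    have hQ₀le : Q₀ ≤ Subgroup.centralizer ({h} : Set G) := by
      rintro _ ⟨q, _, rfl⟩
      exact q.2
    obtain ⟨χ, hχ⟩ := hBne
    obtain ⟨y, hy, hQy⟩ := exists_isConj_le_centralizer hM hB ⟨χ, hχ, hg.2.2 χ hχ⟩ hh Q₀ hQ₀p hQ₀le
    obtain ⟨t, rfl⟩ := isConj_iff.1 hy
    have hR := map_conj_le_centralizer hQy
    obtain ⟨c, hc, hRc⟩ := exists_conj_sylow_ge (Subgroup.centralizer ({g} : Set G)) D
      (hQ₀p.map _) hR
    refine ⟨t * c, Q, ?_⟩
    have := Subgroup.map_mono (f := (MulAut.conj t).toMonoidHom) hRc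
    rw [map_conj_inv_map_conj, map_conj_map_conj] at this
    exact this
  · rintro ⟨χ, hχ, hχh⟩
    set D₀ := (D : Subgroup (Subgroup.centralizer ({g} : Set G))).map
      (Subgroup.centralizer ({g} : Set G)).subtype with hD₀
    have hD₀p : IsPGroup p D₀ := D.isPGroup'.map _
    have hD₀le : D₀ ≤ Subgroup.centralizer ({g} : Set G) := by
      rintro _ ⟨q, _, rfl⟩
      exact q.2
    obtain ⟨y, hy, hDy⟩ := exists_isConj_le_centralizer hM hB ⟨χ, hχ, hχh⟩ hg.2.1 D₀ hD₀p hD₀le
    obtain ⟨t, rfl⟩ := isConj_iff.1 hy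
    have hR := map_conj_le_centralizer hDy
    obtain ⟨Q, hQ⟩ := exists_sylow_map_ge (Subgroup.centralizer ({h} : Set G)) (hD₀p.map _) hR
    exact ⟨t⁻¹, Q, hQ⟩

end Cfsg.Agent.S0911
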