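import Mathlib
import Cfsg.Statements.S0138
import Cfsg.Agent.Lib.Helper1.RepEigen

set_option autoImplicit false
open Cfsg

namespace Cfsg.Agent.S0138

open Cfsg.Agent.Lib.Helper1
open scoped ComplexConjugate

/-- A character value has absolute value equal to the degree exactly when the group element acts by a scalar. -/
theorem result {G : Type*} [Group G] [Finite G] {V : Type*} [AddCommGroup V] [Module ℂ V] [FiniteDimensional ℂ V] (ρ : Representation ℂ G V) (g : G) : ‖ρ.character g‖ = (Module.finrank ℂ V : ℝ) ↔ ∃ ω : ℂ, ρ g = ω • (LinearMap.id : V →ₗ[ℂ] V) := by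
  constructor
  · intro h
    rcases Nat.eq_zero_or_pos (Module.finrank ℂ V) with h0 | hpos
    · have : Subsingleton V := Module.finrank_zero_iff.1 h0
      exact ⟨0, by ext v; exact Subsingleton.elim _ _⟩
    · set n := Module.finrank ℂ V with hn
      set s := ρ.character g with hs
      have hnC : (n : ℂ) ≠ 0 := Nat.cast_ne_zero.2 hpos.ne'
      have hnR : (n : ℝ) ≠ 0 := Nat.cast_ne_zero.2 hpos.ne'
      set ω : ℂ := s / n with hω
      have hωnorm : ‖ω‖ = 1 := by
        rw [hω, norm_div, h, Complex.norm_natCast, div_self hnR]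
      have hωω : ω * conj ω = 1 := by
        rw [Complex.mul_conj, Complex.normSq_eq_norm_sq, hωnorm]; simp
      have hsum : ((ρ g).charpoly.roots.map (fun μ => μ * conj ω)).sum
          = (Multiset.card ((ρ g).charpoly.roots.map (fun μ => μ * conj ω)) : ℂ) := by
        rw [Multiset.sum_map_mul_right, Multiset.map_id', ← character_eq_sum_roots,
          Multiset.card_map, card_charpoly_roots]
        have : s = ω * n := by rw [hω]; field_simp
        rw [← hs, this, mul_assoc, mul_comm (n : ℂ), ← mul_assoc, hωω, one_mul]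
      have hnorm : ∀ x ∈ (ρ g).charpoly.roots.map (fun μ => μ * conj ω), ‖x‖ = 1 := by
        intro x hx
        obtain ⟨μ, hμ, rfl⟩ := Multiset.mem_map.1 hx
        rw [norm_mul, charpoly_roots_norm ρ g μ hμ, RCLike.norm_conj, hωnorm, one_mul]
      have hall := multiset_eq_one_of_sum_eq_card _ hnorm hsum
      refine ⟨ω, eq_smul_id_of_eigenvalues (rep_isSemisimple ρ g) ω ?_⟩
      intro μ hμ
      have hμroot : μ ∈ (ρ g).charpoly.roots := by
        rw [Polynomial.mem_roots']
        exact ⟨(LinearMap.charpoly_monic _).ne_zero,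
          (Module.End.hasEigenvalue_iff_isRoot_charpoly _ _).1 hμ⟩
      have h1 : μ * conj ω = 1 := hall _ (Multiset.mem_map_of_mem _ hμroot)
      calc μ = μ * (conj ω * ω) := by rw [mul_comm (conj ω), hωω, mul_one]
        _ = (μ * conj ω) * ω := by ring
        _ = ω := by rw [h1, one_mul]
  · rintro ⟨ω, hω⟩
    have htr : ρ.character g = ω * (Module.finrank ℂ V : ℂ) := by
      unfold Representation.character
      rw [hω, map_smul, smul_eq_mul]
      congr 1
      exact LinearMap.trace_id ℂ V
    rw [htr, norm_mul, Complex.norm_natCast]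
    rcases Nat.eq_zero_or_pos (Module.finrank ℂ V) with h0 | hpos
    · rw [h0]; simp
    · obtain ⟨v, hv⟩ := Module.finrank_pos_iff_exists_ne_zero.1 hpos
      have heig : Module.End.HasEigenvalue (ρ g) ω := by
        apply Module.End.hasEigenvalue_of_hasEigenvector (x := v)
        refine ⟨?_, hv⟩
        rw [Module.End.mem_eigenspace_iff, hω]
        simp
      have := norm_eq_one_of_pow_eq_one (orderOf_pos g).ne' (eigenvalue_pow_orderOf ρ g ω heig)
      rw [this, one_mul]

end Cfsg.Agent.S0138
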