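import Mathlib
import Cfsg.Statements.S0146
import Cfsg.Agent.Lib.Helper1.IndFun

set_option autoImplicit false
open Cfsg

namespace Cfsg.Agent.S0146

open Cfsg.Agent.Lib.Helper1
open scoped ComplexConjugate

/-- Frobenius reciprocity for the induction map on functions: pairing the induced function with a class function of the big group equals pairing the original function with the restriction. -/
theorem result {G : Type*} [Group G] [Fintype G] (H : Subgroup G) [Fintype H] (θ : H → ℂ) (χ : G → ℂ) (hχ : Cfsg.IsClassFunction G χ) : Cfsg.classInner (Cfsg.indFun H θ) χ = Cfsg.classInner θ (fun h : H => χ h) := by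
  classical
  unfold Cfsg.classInner
  have hG0 : (Nat.card G : ℂ) ≠ 0 := Nat.cast_ne_zero.mpr Nat.card_pos.ne'
  have key : ∑ g : G, Cfsg.indFun H θ g * conj (χ g)
      = (Nat.card H : ℂ)⁻¹ * ((Nat.card G : ℂ) * ∑ h : H, θ h * conj (χ h)) := by
    have e1 : ∀ g : G, Cfsg.indFun H θ g * conj (χ g) = (Nat.card H : ℂ)⁻¹ *
        ∑ x : G, Cfsg.extendByZero H θ (x⁻¹ * g * x) * conj (χ g) := by
      intro g
      rw [indFun_apply, mul_assoc, Finset.sum_mul]
    rw [Finset.sum_congr rfl fun g _ => e1 g, ← Finset.mul_sum]
    congr 1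
    rw [Finset.sum_comm]
    have : ∀ x : G, ∑ g : G, Cfsg.extendByZero H θ (x⁻¹ * g * x) * conj (χ g)
        = ∑ h : H, θ h * conj (χ h) := by
      intro x
      rw [← sum_extendByZero_mul H θ (fun g => conj (χ g)),
        ← sum_conj_inv_mul (fun g => Cfsg.extendByZero H θ g * conj (χ g)) x]
      refine Finset.sum_congr rfl fun g _ => ?_
      have := hχ g x⁻¹
      rw [inv_inv] at this
      rw [this]
    rw [Finset.sum_congr rfl fun x _ => this x]
    simp [Nat.card_eq_fintype_card]
  rw [key]
  field_simp

end Cfsg.Agent.S0146
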