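import Mathlib
import Cfsg.Statements.S0148
import Cfsg.Agent.Lib.Helper1.CharFound6
import Cfsg.Agent.Lib.Helper1.IndFun
import Cfsg.Agent.S0146

set_option autoImplicit false
open Cfsg

namespace Cfsg.Agent.S0148

open Cfsg.Agent.Lib.Helper1 Cfsg.Agent.Lib.Helper4

/-- The restriction of a character to a subgroup is a character. -/
theorem isCharacter_restrict {G : Type*} [Group G] (H : Subgroup G) {χ : G → ℂ}
    (hχ : Cfsg.IsCharacter G χ) : Cfsg.IsCharacter H (fun h : H => χ h) := by
  obtain ⟨n, ρ, rfl⟩ := hχ
  exact ⟨n, ρ.comp H.subtype, rfl⟩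

/-- Inducing a character of a subgroup yields a character of the whole group. -/
theorem result {G : Type*} [Group G] [Fintype G] (H : Subgroup G) (θ : H → ℂ) (hθ : Cfsg.IsCharacter H θ) : Cfsg.IsCharacter G (Cfsg.indFun H θ) := by
  classical
  have : Fintype H := Fintype.ofFinite H
  apply isCharacter_of_nat_mult _ (indFun_isClassFunction H θ)
  intro χ hχ
  rw [Cfsg.Agent.S0146.result H θ χ (isClassFunction_irr hχ)]
  exact classInner_char_nat hθ (isCharacter_restrict H (isCharacter_of_irr hχ))

end Cfsg.Agent.S0148
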