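import Mathlib
import Cfsg.Statements.S0145
import Cfsg.Agent.Lib.Helper1.CharFound5

set_option autoImplicit false
open scoped ComplexConjugate
open Cfsg

namespace Cfsg.Agent.S0145

open Cfsg.Agent.Lib.Helper1

theorem column' {G : Type*} [Group G] [Fintype G] [Fintype (Cfsg.IrrCharacter G)] (g h : G) :
    ∑ χ : Cfsg.IrrCharacter G, (χ : G → ℂ) g * conj ((χ : G → ℂ) h)
      = (Nat.card (Subgroup.centralizer ({g} : Set G)) : ℂ) * classIndicator g h := by
  have h1 := congrArg conj (column_orthogonality g h)
  rw [map_sum, map_mul, Complex.conj_natCast] at h1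
  have h2 : conj (classIndicator g h) = classIndicator g h := by
    unfold classIndicator
    split_ifs <;> simp
  rw [h2] at h1
  rw [← h1]
  refine Finset.sum_congr rfl fun χ _ => ?_
  rw [map_mul, Complex.conj_conj, mul_comm]

/-- Column orthogonality: the sum over the irreducible characters χ of χ g * conj (χ h) is the order of the centralizer of g if g and h are conjugate, and is 0 otherwise. -/
theorem result {G : Type*} [Group G] [Finite G] (g h : G) : (IsConj g h → ∑ᶠ χ : Cfsg.IrrCharacter G, (χ : G → ℂ) g * conj ((χ : G → ℂ) h) = (Nat.card (Subgroup.centralizer ({g} : Set G)) : ℂ)) ∧ (¬ IsConj g h → ∑ᶠ χ : Cfsg.IrrCharacter G, (χ : G → ℂ) g * conj ((χ : G → ℂ) h) = 0) := by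
  classical
  have : Fintype G := Fintype.ofFinite G
  have : Fintype (Cfsg.IrrCharacter G) := Fintype.ofFinite _
  rw [finsum_eq_sum_of_fintype, column']
  constructor
  · intro hc
    unfold classIndicator
    rw [if_pos hc, mul_one]
  · intro hc
    unfold classIndicator
    rw [if_neg hc, mul_zero]

end Cfsg.Agent.S0145
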