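import Mathlib
import Cfsg.Statements.S0149
import Cfsg.Agent.Lib.Helper1.IndFun

set_option autoImplicit false
open Cfsg

namespace Cfsg.Agent.S0149

open Cfsg.Agent.Lib.Helper1
open scoped ComplexConjugate

theorem aux {G : Type*} [Group G] [Fintype G] (T : Set G) (N : Subgroup G)
    (hTI : ∀ g : G, g ∉ N → ∀ t ∈ T, g * t * g⁻¹ ∈ T → t = 1)
    (ψ : N → ℂ) (hψ : Cfsg.IsClassFunction N ψ)
    (hψT : ∀ x : N, (x : G) ∉ T → ψ x = 0) (t : N) (htT : (t : G) ∈ T) (ht1 : t ≠ 1) :
    Cfsg.indFun N ψ t = ψ t := by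
  classical
  have hN0 : (Nat.card N : ℂ) ≠ 0 := Nat.cast_ne_zero.mpr Nat.card_pos.ne'
  have ht1' : (t : G) ≠ 1 := fun h => ht1 (Subtype.ext h)
  have hterm : ∀ x : G, Cfsg.extendByZero N ψ (x⁻¹ * (t : G) * x) = if x ∈ N then ψ t else 0 := by
    intro x
    by_cases hx : x ∈ N
    · rw [if_pos hx]
      have hmem : x⁻¹ * (t : G) * x ∈ N := N.mul_mem (N.mul_mem (N.inv_mem hx) t.2) hx
      rw [extendByZero_of_mem _ _ hmem]
      have := hψ t (⟨x, hx⟩ : N)⁻¹
      rw [← this]
      congr 1
      apply Subtype.ext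
      simp
    · rw [if_neg hx]
      by_cases hmem : x⁻¹ * (t : G) * x ∈ N
      · rw [extendByZero_of_mem _ _ hmem]
        apply hψT
        intro hT
        apply ht1'
        have hx' : x⁻¹ ∉ N := fun h => hx (by simpa using N.inv_mem h)
        apply hTI x⁻¹ hx' (t : G) htT
        simpa using hT
      · exact extendByZero_of_notMem _ _ hmem
  rw [indFun_apply]
  simp only [hterm]
  rw [Finset.sum_ite, Finset.sum_const, Finset.sum_const_zero, add_zero, nsmul_eq_mul]
  have hc : (Finset.univ.filter (fun x : G => x ∈ N)).card = Nat.card N :=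
    (Nat.subtype_card _ (by simp)).symm
  rw [hc]
  field_simp

/-- Let T be a subset of G meeting each of its conjugates by elements outside its normalizer N only in the identity, and let ψ be a class function of N vanishing on N away from T. Then the function induced from ψ agrees with ψ at every non-identity element of T. -/
theorem result {G : Type*} [Group G] [Fintype G] (T : Set G) (hTI : ∀ g : G, g ∉ Subgroup.normalizer T → ∀ t ∈ T, g * t * g⁻¹ ∈ T → t = 1) (hTN : T ⊆ Subgroup.normalizer T) (ψ : Subgroup.normalizer T → ℂ) (hψ : Cfsg.IsClassFunction (Subgroup.normalizer T) ψ) (hψT : ∀ x : Subgroup.normalizer T, (x : G) ∉ T → ψ x = 0) (t : Subgroup.normalizer T) (htT : (t : G) ∈ T) (ht1 : t ≠ 1) : Cfsg.indFun (Subgroup.normalizer T) ψ t = ψ t :=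
  aux T _ hTI ψ hψ hψT t htT ht1

end Cfsg.Agent.S0149
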