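import Mathlib
import Cfsg.Statements.S0161
import Cfsg.Agent.Lib.Helper1.CharFound8
import Cfsg.Agent.Lib.Helper1.LinearChar
import Cfsg.Agent.Lib.Helper1.RepEigen
import Cfsg.Agent.S0135

set_option autoImplicit false
open Cfsg

namespace Cfsg.Agent.S0161

open Cfsg.Agent.Lib.Helper1 Cfsg.Agent.Lib.Helper4
open scoped ComplexConjugate

theorem isIrrCharacter_one {G : Type*} [Group G] : Cfsg.IsIrrCharacter G (fun _ => (1 : ℂ)) := by
  have := isIrrCharacter_of_hom (1 : G →* ℂˣ)
  simpa using this

theorem isIntegral_isCharacter {G : Type*} [Group G] [Finite G] {χ : G → ℂ}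
    (hχ : Cfsg.IsCharacter G χ) (g : G) : IsIntegral ℤ (χ g) := by
  obtain ⟨n, ρ, rfl⟩ := hχ
  rw [character_eq_sum_roots]
  apply IsIntegral.multiset_sum
  intro μ hμ
  have h := charpoly_roots_pow ρ g μ hμ
  exact IsIntegral.of_pow (orderOf_pos g) (h ▸ isIntegral_one)

/-- In a group of odd order, a sum over the non-identity elements of a function invariant under
inversion is twice a sum over a half-system. -/
theorem sum_ne_one_eq_two_mul {G : Type*} [Group G] [Fintype G] [DecidableEq G]
    (hodd : Odd (Nat.card G)) (f : G → ℂ) (hf : ∀ g, f g⁻¹ = f g) :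
    ∃ T : Finset G, ∑ g ∈ Finset.univ.filter (fun g : G => g ≠ 1), f g = 2 * ∑ g ∈ T, f g := by
  classical
  -- a linear order on G
  let e : G ≃ Fin (Fintype.card G) := Fintype.equivFin G
  let _ : LinearOrder G := LinearOrder.lift' e e.injective
  have hne : ∀ g : G, g ≠ 1 → g ≠ g⁻¹ := by
    intro g hg h
    have h2 : g ^ 2 = 1 := by
      rw [sq]
      nth_rewrite 2 [h]
      exact mul_inv_cancel g
    have h3 : orderOf g ∣ 2 := orderOf_dvd_of_pow_eq_one h2
    have h4 : orderOf g ∣ Nat.card G := orderOf_dvd_natCard g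
    have h5 : orderOf g = 1 := by
      rcases (Nat.dvd_prime Nat.prime_two).1 h3 with h | h
      · exact h
      · exfalso
        rw [h] at h4
        rcases hodd with ⟨k, hk⟩
        omega
    exact hg (orderOf_eq_one_iff.1 h5)
  refine ⟨Finset.univ.filter (fun g : G => g < g⁻¹), ?_⟩
  have hsplit : Finset.univ.filter (fun g : G => g ≠ 1)
      = Finset.univ.filter (fun g : G => g < g⁻¹) ∪ Finset.univ.filter (fun g : G => g⁻¹ < g) := by
    ext g
    simp only [Finset.mem_filter, Finset.mem_univ, true_and, Finset.mem_union]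
    constructor
    · intro hg
      exact lt_or_gt_of_ne (hne g hg)
    · rintro (h | h) <;> intro h1 <;> simp [h1] at h
  have hdisj : Disjoint (Finset.univ.filter (fun g : G => g < g⁻¹))
      (Finset.univ.filter (fun g : G => g⁻¹ < g)) := by
    rw [Finset.disjoint_filter]
    intro g _ h1 h2
    exact lt_asymm h1 h2
  rw [hsplit, Finset.sum_union hdisj, two_mul]
  congr 1
  -- reindex the second sum by inversion
  apply Finset.sum_bij (fun g _ => g⁻¹)
  · intro g hg
    simp only [Finset.mem_filter, Finset.mem_univ, true_and, inv_inv] at hg ⊢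
    exact hg
  · intro a _ b _ h
    exact inv_injective h
  · intro b hb
    refine ⟨b⁻¹, ?_, inv_inv b⟩
    simp only [Finset.mem_filter, Finset.mem_univ, true_and, inv_inv] at hb ⊢
    exact hb
  · intro g _
    exact (hf g).symm

/-- In a finite group of odd order, a real-valued irreducible complex character is the trivial character. -/
theorem result {G : Type*} [Group G] [Finite G] (hodd : Odd (Nat.card G)) (χ : Cfsg.IrrCharacter G) (hreal : ∀ g : G, ((χ : G → ℂ) g).im = 0) : (χ : G → ℂ) = fun _ => 1 := by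
  classical
  have : Fintype G := Fintype.ofFinite G
  by_contra hne
  have hχ := χ.2
  have horth := classInner_irr_ne hχ isIrrCharacter_one hne
  rw [classInner_def] at horth
  have hG0 : (Nat.card G : ℂ) ≠ 0 := Nat.cast_ne_zero.2 Nat.card_pos.ne'
  have hsum : ∑ g : G, (χ : G → ℂ) g = 0 := by
    have := (mul_eq_zero.1 horth).resolve_left (inv_ne_zero hG0)
    simpa using this
  have hinv : ∀ g : G, (χ : G → ℂ) g⁻¹ = (χ : G → ℂ) g := by
    intro g
    rw [isCharacter_inv (isCharacter_of_irr hχ) g]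
    exact Complex.conj_eq_iff_im.2 (hreal g)
  obtain ⟨T, hT⟩ := sum_ne_one_eq_two_mul hodd (χ : G → ℂ) hinv
  have hsplit : ∑ g : G, (χ : G → ℂ) g
      = (χ : G → ℂ) 1 + ∑ g ∈ Finset.univ.filter (fun g : G => g ≠ 1), (χ : G → ℂ) g := by
    rw [← Finset.sum_filter_add_sum_filter_not Finset.univ (fun g : G => g = 1)]
    congr 1
    rw [Finset.sum_filter, Finset.sum_ite_eq' Finset.univ (1 : G), if_pos (Finset.mem_univ _)]
  rw [hsplit, hT] at hsum
  -- the degree
  obtain ⟨n, ρ, hirr, hρ⟩ := hχ
  have h1 : (χ : G → ℂ) 1 = (n : ℂ) := by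
    rw [← hρ, Representation.char_one]
    simp
  have hβ : IsIntegral ℤ (∑ g ∈ T, (χ : G → ℂ) g) :=
    IsIntegral.sum _ fun g _ => isIntegral_isCharacter (isCharacter_of_irr χ.2) g
  have h2 : ((n : ℕ) : ℂ) / ((2 : ℕ) : ℂ) = -(∑ g ∈ T, (χ : G → ℂ) g) := by
    rw [h1] at hsum
    push_cast
    linear_combination hsum / 2
  have h3 : 2 ∣ n := nat_dvd_of_isIntegral_div n 2 (by norm_num) (h2 ▸ hβ.neg)
  have h4 : n ∣ Nat.card G := by
    have := Cfsg.Agent.S0135.result ρ
    simpa using this
  rcases hodd with ⟨k, hk⟩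
  have := h3.trans h4
  omega

end Cfsg.Agent.S0161
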