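import Mathlib
import Cfsg.Statements.S0198
import Cfsg.Agent.Lib.Helper1.CharFound8
import Cfsg.Agent.S0161

set_option autoImplicit false
open Cfsg

namespace Cfsg.Agent.S0198

open Cfsg.Agent.Lib.Helper1 Cfsg.Agent.Lib.Helper4
open scoped ComplexConjugate

/-- A finite family of integers whose squares sum to two has exactly two entries `±1`. -/
theorem two_squares {ι : Type*} [DecidableEq ι] (s : Finset ι) (c : ι → ℤ)
    (h : ∑ i ∈ s, c i ^ 2 = 2) :
    ∃ a ∈ s, ∃ b ∈ s, a ≠ b ∧ c a ^ 2 = 1 ∧ c b ^ 2 = 1 ∧ ∀ i ∈ s, i ≠ a → i ≠ b → c i = 0 := by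
  have hnn : ∀ i ∈ s, 0 ≤ c i ^ 2 := fun i _ => sq_nonneg _
  -- first nonzero entry
  have hex : ∃ a ∈ s, c a ≠ 0 := by
    by_contra hcon
    push Not at hcon
    rw [Finset.sum_eq_zero (fun i hi => by rw [hcon i hi]; ring)] at h
    norm_num at h
  obtain ⟨a, ha, hca⟩ := hex
  have hsplit := Finset.add_sum_erase s (fun i => c i ^ 2) ha
  rw [h] at hsplit
  have hrest_nn : 0 ≤ ∑ i ∈ s.erase a, c i ^ 2 :=
    Finset.sum_nonneg fun i hi => sq_nonneg _
  have hca1 : c a ^ 2 = 1 := by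
    have h1 : 1 ≤ c a ^ 2 := by
      have := sq_pos_of_ne_zero hca
      linarith
    have h2 : c a ^ 2 ≤ 2 := by linarith
    have h3 : c a ^ 2 ≠ 2 := by
      intro h4
      generalize c a = x at h4
      have h5 : -2 < x := by nlinarith
      have h6 : x < 2 := by nlinarith
      interval_cases x <;> omega
    omega
  have hrest : ∑ i ∈ s.erase a, c i ^ 2 = 1 := by linarith
  have hex2 : ∃ b ∈ s.erase a, c b ≠ 0 := by
    by_contra hcon
    push Not at hcon
    rw [Finset.sum_eq_zero (fun i hi => by rw [hcon i hi]; ring)] at hrest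
    norm_num at hrest
  obtain ⟨b, hb, hcb⟩ := hex2
  have hsplit2 := Finset.add_sum_erase (s.erase a) (fun i => c i ^ 2) hb
  rw [hrest] at hsplit2
  have hrest2_nn : 0 ≤ ∑ i ∈ (s.erase a).erase b, c i ^ 2 :=
    Finset.sum_nonneg fun i hi => sq_nonneg _
  have hcb1 : c b ^ 2 = 1 := by
    have h1 : 1 ≤ c b ^ 2 := by
      have := sq_pos_of_ne_zero hcb
      linarith
    linarith
  have hrest2 : ∑ i ∈ (s.erase a).erase b, c i ^ 2 = 0 := by linarith
  refine ⟨a, ha, b, Finset.mem_of_mem_erase hb, (Finset.ne_of_mem_erase hb).symm, hca1, hcb1, ?_⟩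
  intro i hi hia hib
  have hmem : i ∈ (s.erase a).erase b :=
    Finset.mem_erase.2 ⟨hib, Finset.mem_erase.2 ⟨hia, hi⟩⟩
  have := (Finset.sum_eq_zero_iff_of_nonneg (fun j _ => sq_nonneg (c j))).1 hrest2 i hmem
  exact pow_eq_zero_iff (two_ne_zero) |>.1 this

theorem sq_eq_one_iff_of_side_conditions {x : ℤ} (h : x ^ 2 = 1) : x = 1 ∨ x = -1 := by
  have h5 : -2 < x := by nlinarith
  have h6 : x < 2 := by nlinarith
  interval_cases x <;> simp_all

/-- A generalized character of norm two vanishing at the identity is a difference of two distinct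
irreducible characters. -/
theorem exists_diff {G : Type*} [Group G] [Fintype G] (θ : G → ℂ)
    (hθ : Cfsg.IsGeneralizedCharacter G θ) (h2 : Cfsg.classInner θ θ = 2) (h1 : θ 1 = 0) :
    ∃ α β : G → ℂ, Cfsg.IsIrrCharacter G α ∧ Cfsg.IsIrrCharacter G β ∧ α ≠ β ∧ θ = α - β := by
  classical
  have : Fintype (Cfsg.IrrCharacter G) := Fintype.ofFinite _
  obtain ⟨ψ₁, ψ₂, hψ₁, hψ₂, rfl⟩ := hθ
  have hm₁ : ∀ χ : Cfsg.IrrCharacter G, ∃ m : ℕ, Cfsg.classInner ψ₁ χ = m :=
    fun χ => classInner_char_irr_nat hψ₁ χ.2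
  have hm₂ : ∀ χ : Cfsg.IrrCharacter G, ∃ m : ℕ, Cfsg.classInner ψ₂ χ = m :=
    fun χ => classInner_char_irr_nat hψ₂ χ.2
  choose m₁ hm₁ using hm₁
  choose m₂ hm₂ using hm₂
  let c : Cfsg.IrrCharacter G → ℤ := fun χ => (m₁ χ : ℤ) - (m₂ χ : ℤ)
  have hc : ∀ χ : Cfsg.IrrCharacter G, Cfsg.classInner (ψ₁ - ψ₂) χ = (c χ : ℂ) := by
    intro χ
    rw [classInner_sub_left, hm₁, hm₂]
    simp [c]
  have hcf : Cfsg.IsClassFunction G (ψ₁ - ψ₂) :=
    isClassFunction_sub (isClassFunction_of_isCharacter hψ₁) (isClassFunction_of_isCharacter hψ₂)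
  have hpars := classInner_eq_sum_mult (ψ₁ - ψ₂) (ψ₁ - ψ₂) hcf
  rw [h2] at hpars
  have hsq : ∑ χ : Cfsg.IrrCharacter G, c χ ^ 2 = 2 := by
    have h3 : ((∑ χ : Cfsg.IrrCharacter G, c χ ^ 2 : ℤ) : ℂ) = ((2 : ℤ) : ℂ) := by
      push_cast
      rw [hpars]
      refine Finset.sum_congr rfl fun χ _ => ?_
      rw [← classInner_conj_symm (ψ₁ - ψ₂) χ, hc χ, map_intCast]
      ring
    exact_mod_cast h3
  obtain ⟨a, _, b, _, hab, hca, hcb, hrest⟩ := two_squares Finset.univ c hsq
  have hexp := class_function_expansion (ψ₁ - ψ₂) hcf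
  have hexp2 : ψ₁ - ψ₂ = (c a : ℂ) • (a : G → ℂ) + (c b : ℂ) • (b : G → ℂ) := by
    rw [hexp, Finset.sum_eq_add a b hab]
    · rw [hc a, hc b]
    · intro χ _ hχ
      rw [hc χ, hrest χ (Finset.mem_univ _) hχ.1 hχ.2]
      simp
    · intro h; exact absurd (Finset.mem_univ _) h
    · intro h; exact absurd (Finset.mem_univ _) h
  obtain ⟨na, hna0, hna⟩ := irr_apply_one_pos a.2
  obtain ⟨nb, hnb0, hnb⟩ := irr_apply_one_pos b.2
  have hval : (c a : ℂ) * (na : ℂ) + (c b : ℂ) * (nb : ℂ) = 0 := by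
    have h3 := congrFun hexp2 1
    rw [h1] at h3
    simp only [Pi.add_apply, Pi.smul_apply, smul_eq_mul, hna, hnb] at h3
    exact h3.symm
  have hval' : c a * (na : ℤ) + c b * (nb : ℤ) = 0 := by exact_mod_cast hval
  have hab' : (a : G → ℂ) ≠ (b : G → ℂ) := fun h => hab (Subtype.ext h)
  have hca' : c a = 1 ∨ c a = -1 := sq_eq_one_iff_of_side_conditions hca
  have hcb' : c b = 1 ∨ c b = -1 := sq_eq_one_iff_of_side_conditions hcb
  have hna' : (0 : ℤ) < na := by exact_mod_cast hna0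
  have hnb' : (0 : ℤ) < nb := by exact_mod_cast hnb0
  rcases hca' with ha1 | ha1 <;> rcases hcb' with hb1 | hb1
  · exfalso; rw [ha1, hb1] at hval'; omega
  · refine ⟨a, b, a.2, b.2, hab', ?_⟩
    rw [hexp2, ha1, hb1]
    simp [sub_eq_add_neg]
  · refine ⟨b, a, b.2, a.2, hab'.symm, ?_⟩
    rw [hexp2, ha1, hb1]
    simp [sub_eq_add_neg, add_comm]
  · exfalso; rw [ha1, hb1] at hval'; omega

/-- Two differences of irreducible characters with inner product one share exactly one end. -/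
theorem pair_cases {G : Type*} [Group G] [Fintype G] {α β α' β' : G → ℂ}
    (hα : Cfsg.IsIrrCharacter G α) (hβ : Cfsg.IsIrrCharacter G β)
    (hα' : Cfsg.IsIrrCharacter G α') (hβ' : Cfsg.IsIrrCharacter G β')
    (hαβ : α ≠ β) (hαβ' : α' ≠ β') (h : Cfsg.classInner (α - β) (α' - β') = 1) :
    ((α = α' ∧ β ≠ β') ∨ (α ≠ α' ∧ β = β')) ∧ α ≠ β' ∧ β ≠ α' := by
  classical
  rw [classInner_sub_left, classInner_sub_right, classInner_sub_right, classInner_irr hα hα',
    classInner_irr hα hβ', classInner_irr hβ hα', classInner_irr hβ hβ'] at h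
  have hAC : α = α' → α = β' → False := fun hA hC => hαβ' (hA.symm.trans hC)
  have hAD : α = α' → β = α' → False := fun hA hD => hαβ (hA.trans hD.symm)
  have hBC : β = β' → α = β' → False := fun hB hC => hαβ (hC.trans hB.symm)
  have hBD : β = β' → β = α' → False := fun hB hD => hαβ' (hD.symm.trans hB)
  by_cases hA : α = α' <;> by_cases hB : β = β' <;> by_cases hC : α = β' <;> by_cases hD : β = α'
  · exact (hAC hA hC).elim
  · exact (hAC hA hC).elim
  · exact (hAD hA hD).elim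
  · rw [if_pos hA, if_pos hB, if_neg hC, if_neg hD] at h; norm_num at h
  · exact (hAC hA hC).elim
  · exact (hAC hA hC).elim
  · exact (hAD hA hD).elim
  · exact ⟨Or.inl ⟨hA, hB⟩, hC, hD⟩
  · exact (hBC hB hC).elim
  · exact (hBC hB hC).elim
  · exact (hBD hB hD).elim
  · exact ⟨Or.inr ⟨hA, hB⟩, hC, hD⟩
  · rw [if_neg hA, if_neg hB, if_pos hC, if_pos hD] at h; norm_num at h
  · rw [if_neg hA, if_neg hB, if_pos hC, if_neg hD] at h; norm_num at h
  · rw [if_neg hA, if_neg hB, if_neg hC, if_pos hD] at h; norm_num at h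
  · rw [if_neg hA, if_neg hB, if_neg hC, if_neg hD] at h; norm_num at h

/-- The isometry lemma behind exceptional characters. Let τ be a family of generalized characters of a finite group G indexed by Fin n, with τ i₀ = 0, every τ i vanishing at the identity, and inner products ⟨τ i, τ j⟩ = 2 if i = j and 1 otherwise for i, j ≠ i₀. Then there are a sign ε and pairwise distinct irreducible characters μ i with τ i = ε (μ i − μ i₀) for all i. -/
theorem result {G : Type*} [Group G] [Fintype G] (n : ℕ) (i₀ : Fin n) (τ : Fin n → (G → ℂ)) (h0 : τ i₀ = 0) (hgen : ∀ i, Cfsg.IsGeneralizedCharacter G (τ i)) (hone : ∀ i, τ i 1 = 0) (hgram : ∀ i j, i ≠ i₀ → j ≠ i₀ → Cfsg.classInner (τ i) (τ j) = if i = j then 2 else 1) : ∃ ε : ℂ, (ε = 1 ∨ ε = -1) ∧ ∃ μ : Fin n → (G → ℂ), (∀ i, Cfsg.IsIrrCharacter G (μ i)) ∧ Function.Injective μ ∧ ∀ i, τ i = ε • (μ i - μ i₀) := by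
  classical
  have hdec : ∀ i, i ≠ i₀ → ∃ α β : G → ℂ, Cfsg.IsIrrCharacter G α ∧ Cfsg.IsIrrCharacter G β ∧
      α ≠ β ∧ τ i = α - β := by
    intro i hi
    apply exists_diff (τ i) (hgen i) _ (hone i)
    rw [hgram i i hi hi, if_pos rfl]
  choose! α β hα hβ hαβ hτ using hdec
  have hpair : ∀ i j, i ≠ i₀ → j ≠ i₀ → i ≠ j →
      ((α i = α j ∧ β i ≠ β j) ∨ (α i ≠ α j ∧ β i = β j)) ∧ α i ≠ β j ∧ β i ≠ α j := by
    intro i j hi hj hij
    apply pair_cases (hα i hi) (hβ i hi) (hα j hj) (hβ j hj) (hαβ i hi) (hαβ j hj)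
    rw [← hτ i hi, ← hτ j hj, hgram i j hi hj, if_neg hij]
  by_cases hall : ∀ i, i = i₀
  · -- only one index
    refine ⟨1, Or.inl rfl, fun _ => fun _ => 1, fun _ => Cfsg.Agent.S0161.isIrrCharacter_one, ?_, ?_⟩
    · intro a b _
      rw [hall a, hall b]
    · intro i
      rw [hall i, h0]
      simp
  push Not at hall
  obtain ⟨i₁, hi₁⟩ := hall
  by_cases hB : ∃ j, j ≠ i₀ ∧ j ≠ i₁ ∧ β j = β i₁
  · -- common negative part
    obtain ⟨j, hj0, hj1, hjβ⟩ := hB
    have hcommon : ∀ k, k ≠ i₀ → β k = β i₁ := by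
      intro k hk
      by_cases hk1 : k = i₁
      · rw [hk1]
      by_cases hkj : k = j
      · rw [hkj, hjβ]
      rcases (hpair i₁ k hi₁ hk (Ne.symm hk1)).1 with ⟨hA, hBne⟩ | ⟨_, hBeq⟩
      · exfalso
        rcases (hpair j k hj0 hk (Ne.symm hkj)).1 with ⟨hA', _⟩ | ⟨_, hBeq'⟩
        · rcases (hpair i₁ j hi₁ hj0 (Ne.symm hj1)).1 with ⟨_, hBne''⟩ | ⟨hAne'', _⟩
          · exact hBne'' hjβ.symm
          · exact hAne'' (hA.trans hA'.symm)
        · exact hBne (hjβ.symm.trans hBeq')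
      · exact hBeq.symm
    refine ⟨1, Or.inl rfl, fun k => if k = i₀ then β i₁ else α k, ?_, ?_, ?_⟩
    · intro k
      by_cases hk : k = i₀
      · simp only [hk, if_true]; exact hβ i₁ hi₁
      · simp only [hk, if_false]; exact hα k hk
    · intro k l hkl
      by_contra hne
      by_cases hk : k = i₀ <;> by_cases hl : l = i₀
      · exact hne (hk.trans hl.symm)
      · simp only [hk, hl, if_true, if_false] at hkl
        rw [← hcommon l hl] at hkl
        exact hαβ l hl hkl.symm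
      · simp only [hk, hl, if_true, if_false] at hkl
        rw [← hcommon k hk] at hkl
        exact hαβ k hk hkl
      · simp only [hk, hl, if_false] at hkl
        rcases (hpair k l hk hl hne).1 with ⟨_, hBne⟩ | ⟨hAne, _⟩
        · exact hBne ((hcommon k hk).trans (hcommon l hl).symm)
        · exact hAne hkl
    · intro k
      by_cases hk : k = i₀
      · simp [hk, h0]
      · simp only [hk, if_false, if_true, one_smul]
        rw [hτ k hk, hcommon k hk]
  · -- common positive part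
    push Not at hB
    have hcommon : ∀ k, k ≠ i₀ → α k = α i₁ := by
      intro k hk
      by_cases hk1 : k = i₁
      · rw [hk1]
      rcases (hpair i₁ k hi₁ hk (Ne.symm hk1)).1 with ⟨hA, _⟩ | ⟨_, hBeq⟩
      · exact hA.symm
      · exact absurd hBeq.symm (hB k hk hk1)
    refine ⟨-1, Or.inr rfl, fun k => if k = i₀ then α i₁ else β k, ?_, ?_, ?_⟩
    · intro k
      by_cases hk : k = i₀
      · simp only [hk, if_true]; exact hα i₁ hi₁
      · simp only [hk, if_false]; exact hβ k hk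
    · intro k l hkl
      by_contra hne
      by_cases hk : k = i₀ <;> by_cases hl : l = i₀
      · exact hne (hk.trans hl.symm)
      · simp only [hk, hl, if_true, if_false] at hkl
        rw [← hcommon l hl] at hkl
        exact hαβ l hl hkl
      · simp only [hk, hl, if_true, if_false] at hkl
        rw [← hcommon k hk] at hkl
        exact hαβ k hk hkl.symm
      · simp only [hk, hl, if_false] at hkl
        rcases (hpair k l hk hl hne).1 with ⟨_, hBne⟩ | ⟨hAne, _⟩
        · exact hBne hkl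
        · exact hAne ((hcommon k hk).trans (hcommon l hl).symm)
    · intro k
      by_cases hk : k = i₀
      · simp [hk, h0]
      · simp only [hk, if_false, if_true]
        rw [hτ k hk, hcommon k hk]
        simp

end Cfsg.Agent.S0198
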