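import Mathlib
import Cfsg.Statements.S0170
import Cfsg.Agent.Lib.Helper1.CharFound8
import Cfsg.Agent.Lib.Helper1.IndFun
import Cfsg.Agent.S0148
import Cfsg.Agent.S0150
import Cfsg.Agent.S0198

set_option autoImplicit false
open Cfsg

namespace Cfsg.Agent.S0170

open Cfsg.Agent.Lib.Helper1 Cfsg.Agent.Lib.Helper4
open scoped ComplexConjugate

theorem extendByZero_sub {G : Type*} [Group G] (H : Subgroup G) (θ₁ θ₂ : H → ℂ) (x : G) :
    Cfsg.extendByZero H (θ₁ - θ₂) x = Cfsg.extendByZero H θ₁ x - Cfsg.extendByZero H θ₂ x := by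
  by_cases hx : x ∈ H
  · rw [extendByZero_of_mem _ _ hx, extendByZero_of_mem _ _ hx, extendByZero_of_mem _ _ hx]
    rfl
  · rw [extendByZero_of_notMem _ _ hx, extendByZero_of_notMem _ _ hx,
      extendByZero_of_notMem _ _ hx, sub_zero]

theorem indFun_sub {G : Type*} [Group G] [Fintype G] (H : Subgroup G) (θ₁ θ₂ : H → ℂ) :
    Cfsg.indFun H (θ₁ - θ₂) = Cfsg.indFun H θ₁ - Cfsg.indFun H θ₂ := by
  funext g
  rw [Pi.sub_apply, indFun_apply, indFun_apply, indFun_apply, ← mul_sub, ← Finset.sum_sub_distrib]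
  congr 1
  exact Finset.sum_congr rfl fun x _ => extendByZero_sub H θ₁ θ₂ _

theorem indFun_one {G : Type*} [Group G] [Fintype G] (H : Subgroup G) (θ : H → ℂ) :
    Cfsg.indFun H θ 1 = (Nat.card H : ℂ)⁻¹ * ((Nat.card G : ℂ) * θ 1) := by
  rw [indFun_apply]
  congr 1
  have : ∀ x : G, Cfsg.extendByZero H θ (x⁻¹ * 1 * x) = θ 1 := by
    intro x
    have h1 : x⁻¹ * 1 * x = 1 := by group
    rw [h1, extendByZero_of_mem _ _ H.one_mem]
    rfl
  rw [Finset.sum_congr rfl fun x _ => this x, Finset.sum_const, Finset.card_univ,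
    ← Nat.card_eq_fintype_card, nsmul_eq_mul]

/-- Exceptional characters. Let S be a subset of a finite group contained in its normalizer N and meeting its conjugates by elements outside N only in the identity. Given n ≥ 2 distinct irreducible characters of N of equal degree that vanish on N away from S, there exist a sign ε and n distinct irreducible characters θ_i of G such that inducing χ_i − χ_j to G gives ε (θ_i − θ_j) for all i, j. -/
theorem result {G : Type*} [Group G] [Fintype G] (S : Set G) (hSN : S ⊆ Subgroup.normalizer S) (hTI : ∀ g : G, g ∉ Subgroup.normalizer S → ∀ s ∈ S, g * s * g⁻¹ ∈ S → s = 1) (n : ℕ) (hn : 2 ≤ n) (χ : Fin n → (Subgroup.normalizer S → ℂ)) (hirr : ∀ i, Cfsg.IsIrrCharacter (Subgroup.normalizer S) (χ i)) (hinj : Function.Injective χ) (hvan : ∀ i, ∀ x : Subgroup.normalizer S, (x : G) ∉ S → χ i x = 0) (hdeg : ∀ i j, χ i 1 = χ j 1) : ∃ ε : ℂ, (ε = 1 ∨ ε = -1) ∧ ∃ θ : Fin n → (G → ℂ), (∀ i, Cfsg.IsIrrCharacter G (θ i)) ∧ Function.Injective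 θ ∧ ∀ i j, Cfsg.indFun (Subgroup.normalizer S) (χ i) - Cfsg.indFun (Subgroup.normalizer S) (χ j) = ε • (θ i - θ j) := by
  classical
  have : Fintype (Subgroup.normalizer S) := Fintype.ofFinite _
  let i₀ : Fin n := ⟨0, by omega⟩
  let τ : Fin n → (G → ℂ) := fun i => Cfsg.indFun (Subgroup.normalizer S) (χ i) - Cfsg.indFun (Subgroup.normalizer S) (χ i₀)
  have hτ : ∀ i, τ i = Cfsg.indFun (Subgroup.normalizer S) (χ i - χ i₀) := fun i => (indFun_sub (Subgroup.normalizer S) _ _).symm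
  have h0 : τ i₀ = 0 := sub_self _
  have hgen : ∀ i, Cfsg.IsGeneralizedCharacter G (τ i) := fun i =>
    ⟨_, _, Cfsg.Agent.S0148.result (Subgroup.normalizer S) _ (isCharacter_of_irr (hirr i)),
      Cfsg.Agent.S0148.result (Subgroup.normalizer S) _ (isCharacter_of_irr (hirr i₀)), rfl⟩
  have hone : ∀ i, τ i 1 = 0 := by
    intro i
    simp only [τ, Pi.sub_apply]
    rw [indFun_one, indFun_one, hdeg i i₀, sub_self]
  have hcf : ∀ i, Cfsg.IsClassFunction (Subgroup.normalizer S) (χ i - χ i₀) := fun i =>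
    isClassFunction_sub (isClassFunction_irr (hirr i)) (isClassFunction_irr (hirr i₀))
  have hvan' : ∀ i, ∀ x : Subgroup.normalizer S, (x : G) ∉ S → (χ i - χ i₀) x = 0 := by
    intro i x hx
    rw [Pi.sub_apply, hvan i x hx, hvan i₀ x hx, sub_zero]
  have hgram : ∀ i j, i ≠ i₀ → j ≠ i₀ →
      Cfsg.classInner (τ i) (τ j) = if i = j then 2 else 1 := by
    intro i j hi hj
    rw [hτ i, hτ j, Cfsg.Agent.S0150.result S hTI hSN _ _ (hcf i) (hcf j) (hvan' i) (hvan' j)
      (by rw [Pi.sub_apply, hdeg i i₀, sub_self])]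
    rw [classInner_sub_left, classInner_sub_right, classInner_sub_right,
      classInner_irr (hirr i) (hirr j), classInner_irr (hirr i) (hirr i₀),
      classInner_irr (hirr i₀) (hirr j), classInner_irr (hirr i₀) (hirr i₀)]
    have h1 : χ i ≠ χ i₀ := fun h => hi (hinj h)
    have h2 : χ i₀ ≠ χ j := fun h => hj (hinj h).symm
    rw [if_neg h1, if_neg h2, if_pos rfl]
    by_cases hij : i = j
    · rw [if_pos hij, if_pos (by rw [hij])]; norm_num
    · rw [if_neg hij, if_neg (fun h => hij (hinj h))]; norm_num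
  obtain ⟨ε, hε, μ, hμirr, hμinj, hμ⟩ :=
    Cfsg.Agent.S0198.result n i₀ τ h0 hgen hone hgram
  refine ⟨ε, hε, μ, hμirr, hμinj, ?_⟩
  intro i j
  have h1 : Cfsg.indFun (Subgroup.normalizer S) (χ i) - Cfsg.indFun (Subgroup.normalizer S) (χ j) = τ i - τ j := by
    simp only [τ]; abel
  rw [h1, hμ i, hμ j, ← smul_sub]
  congr 1
  abel

end Cfsg.Agent.S0170
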