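import Mathlib
import Cfsg.Statements.S0193
import Cfsg.Agent.Lib.Helper1.CharFound7
import Cfsg.Agent.Lib.Helper1.IndFun
import Cfsg.Agent.S0146

set_option autoImplicit false
open Cfsg

namespace Cfsg.Agent.S0193

open Cfsg.Agent.Lib.Helper1 Cfsg.Agent.Lib.Helper4
open scoped ComplexConjugate

/-- The conjugate of a function on a normal subgroup by a group element. -/
def conjFun {G : Type*} [Group G] (H : Subgroup G) [hN : H.Normal] (θ : H → ℂ) (g : G) : H → ℂ :=
  fun h => θ ⟨g * h * g⁻¹, hN.conj_mem h h.2 g⟩

theorem conjFun_irr {G : Type*} [Group G] (H : Subgroup G) [hN : H.Normal] (θ : H → ℂ)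
    (hθ : Cfsg.IsIrrCharacter H θ) (g : G) : Cfsg.IsIrrCharacter H (conjFun H θ g) := by
  have := isIrrCharacter_comp_mulEquiv hθ (MulAut.conjNormal g : H ≃* H)
  convert this using 2
  unfold conjFun
  congr 1

/-- The restriction to a normal subgroup of an induced function is the average of conjugates. -/
theorem indFun_restrict_normal {G : Type*} [Group G] [Fintype G] (H : Subgroup G) [hN : H.Normal]
    (θ : H → ℂ) :
    (fun h : H => Cfsg.indFun H θ h) = (Nat.card H : ℂ)⁻¹ • ∑ g : G, conjFun H θ g := by
  funext h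
  rw [indFun_apply, Pi.smul_apply, Finset.sum_apply, smul_eq_mul]
  congr 1
  rw [← Equiv.sum_comp (Equiv.inv G)]
  refine Finset.sum_congr rfl fun x _ => ?_
  have hmem : x * (h : G) * x⁻¹ ∈ H := hN.conj_mem h h.2 x
  rw [Equiv.inv_apply, inv_inv, extendByZero_of_mem _ _ hmem]
  rfl

/-- Let H be a normal subgroup of a finite group G and θ an irreducible character of H. Then |H| times the inner product of the induced function of θ with itself equals the number of g in G with θ(g h g⁻¹) = θ(h) for all h in H; in particular the induced character is irreducible when only elements of H stabilise θ. -/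
theorem result {G : Type*} [Group G] [Fintype G] (H : Subgroup G) [hN : H.Normal] (θ : H → ℂ) (hθ : Cfsg.IsIrrCharacter H θ) : (Nat.card H : ℂ) * Cfsg.classInner (Cfsg.indFun H θ) (Cfsg.indFun H θ) = (Nat.card {g : G // ∀ h : H, θ ⟨g * h * g⁻¹, hN.conj_mem h h.2 g⟩ = θ h} : ℂ) := by
  classical
  have : Fintype H := Fintype.ofFinite H
  have hH0 : (Nat.card H : ℂ) ≠ 0 := Nat.cast_ne_zero.2 Nat.card_pos.ne'
  rw [Cfsg.Agent.S0146.result H θ _ (indFun_isClassFunction H θ), indFun_restrict_normal,
    classInner_smul_right, classInner_sum_right, map_inv₀, Complex.conj_natCast, ← mul_assoc,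
    mul_inv_cancel₀ hH0, one_mul]
  have h1 : ∀ g : G, Cfsg.classInner θ (conjFun H θ g)
      = if (∀ h : H, θ ⟨g * h * g⁻¹, hN.conj_mem h h.2 g⟩ = θ h) then 1 else 0 := by
    intro g
    rw [classInner_irr hθ (conjFun_irr H θ hθ g)]
    have hiff : θ = conjFun H θ g ↔ ∀ h : H, θ ⟨g * h * g⁻¹, hN.conj_mem h h.2 g⟩ = θ h := by
      constructor
      · intro h h'
        exact (congrFun h h').symm
      · intro h
        funext h'
        exact (h h').symm
    simp only [hiff]
  rw [Finset.sum_congr rfl fun g _ => h1 g, Finset.sum_boole]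
  congr 1
  symm
  apply Nat.subtype_card
  intro g
  simp

end Cfsg.Agent.S0193
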