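import Mathlib
import Cfsg.Statements.S0194
import Cfsg.Agent.Lib.Helper1.CharFound8
import Cfsg.Agent.Lib.Helper1.IndFun
import Cfsg.Agent.S0146
import Cfsg.Agent.S0161
import Cfsg.Agent.S0193

set_option autoImplicit false
open scoped ComplexConjugate
open Cfsg

namespace Cfsg.Agent.S0194

open Cfsg.Agent.Lib.Helper1 Cfsg.Agent.Lib.Helper4
open Cfsg.Agent.S0193

theorem conjFun_mul {G : Type*} [Group G] (H : Subgroup G) [hN : H.Normal] (θ : H → ℂ) (a b : G) :
    conjFun H (conjFun H θ a) b = conjFun H θ (a * b) := by
  funext h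
  unfold conjFun
  congr 1
  apply Subtype.ext
  simp only
  group

theorem conjFun_one {G : Type*} [Group G] (H : Subgroup G) [hN : H.Normal] (θ : H → ℂ) :
    conjFun H θ 1 = θ := by
  funext h
  unfold conjFun
  congr 1
  apply Subtype.ext
  simp

theorem conjFun_conj {G : Type*} [Group G] (H : Subgroup G) [hN : H.Normal] (θ : H → ℂ) (g : G) :
    conjFun H (fun h => conj (θ h)) g = fun h => conj (conjFun H θ g h) := rfl

theorem indFun_conj {G : Type*} [Group G] [Fintype G] (H : Subgroup G) (θ : H → ℂ) :
    (fun g => conj (Cfsg.indFun H θ g)) = Cfsg.indFun H (fun h => conj (θ h)) := by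
  funext g
  rw [indFun_apply, indFun_apply, map_mul, map_inv₀, Complex.conj_natCast, map_sum]
  congr 1
  refine Finset.sum_congr rfl fun x _ => ?_
  by_cases hx : x⁻¹ * g * x ∈ H
  · rw [extendByZero_of_mem _ _ hx, extendByZero_of_mem _ _ hx]
  · rw [extendByZero_of_notMem _ _ hx, extendByZero_of_notMem _ _ hx, map_zero]

/-- Let G have odd order, H be a normal subgroup and θ a non-principal irreducible character of H. Then the function induced from θ is orthogonal to its complex conjugate. -/
theorem result {G : Type*} [Group G] [Fintype G] (hodd : Odd (Nat.card G)) (H : Subgroup G) [H.Normal] (θ : H → ℂ) (hθ : Cfsg.IsIrrCharacter H θ) (hθ1 : θ ≠ fun _ => 1) : Cfsg.classInner (fun g => conj (Cfsg.indFun H θ g)) (Cfsg.indFun H θ) = 0 := by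
  classical
  have : Fintype H := Fintype.ofFinite H
  have hHodd : Odd (Nat.card H) := by
    have hdvd := Subgroup.card_subgroup_dvd_card H
    rcases Nat.even_or_odd (Nat.card H) with he | ho
    · exfalso
      have : 2 ∣ Nat.card G := (even_iff_two_dvd.1 he).trans hdvd
      rcases hodd with ⟨k, hk⟩
      omega
    · exact ho
  have hθbar : Cfsg.IsIrrCharacter H (fun h => conj (θ h)) := isIrrCharacter_conj hθ
  -- θ is not real
  have hnotreal : (fun h => conj (θ h)) ≠ θ := by
    intro h
    apply hθ1
    apply Cfsg.Agent.S0161.result hHodd ⟨θ, hθ⟩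
    intro x
    exact Complex.conj_eq_iff_im.1 (congrFun h x)
  -- no conjugate of θ equals its complex conjugate
  have hkey : ∀ g : G, (fun h => conj (θ h)) ≠ conjFun H θ g := by
    intro g hg
    have hpow : ∀ k : ℕ, conjFun H θ (g ^ k) = if Even k then θ else fun h => conj (θ h) := by
      intro k
      induction k with
      | zero => simp [conjFun_one]
      | succ k ih =>
        rw [pow_succ, ← conjFun_mul, ih]
        by_cases hk : Even k
        · rw [if_pos hk, if_neg (by simpa [Nat.even_add_one] using hk), hg]
        · rw [if_neg hk, if_pos (by simpa [Nat.even_add_one] using hk), conjFun_conj, ← hg]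
          funext h
          simp
    have hm := hpow (orderOf g)
    rw [pow_orderOf_eq_one, conjFun_one] at hm
    have hoddm : ¬ Even (orderOf g) := by
      intro he
      have : 2 ∣ Nat.card G := (even_iff_two_dvd.1 he).trans (orderOf_dvd_natCard g)
      rcases hodd with ⟨k, hk⟩
      omega
    rw [if_neg hoddm] at hm
    exact hnotreal hm.symm
  rw [indFun_conj, Cfsg.Agent.S0146.result H _ _ (indFun_isClassFunction H θ),
    indFun_restrict_normal, classInner_smul_right, classInner_sum_right]
  rw [Finset.sum_eq_zero, mul_zero]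
  intro g _
  exact classInner_irr_ne hθbar (conjFun_irr H θ hθ g) (hkey g)

end Cfsg.Agent.S0194
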