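import Mathlib
import Cfsg.Statements.S0174
import Cfsg.Agent.Lib.Helper1.CharFound8
import Cfsg.Agent.Lib.Helper1.IndFun
import Cfsg.Agent.S0146
import Cfsg.Agent.S0148
import Cfsg.Agent.S0193
import Cfsg.Agent.S0194

set_option autoImplicit false
open Cfsg

namespace Cfsg.Agent.S0174

open Cfsg.Agent.Lib.Helper1 Cfsg.Agent.Lib.Helper4 Cfsg.Agent.S0193 Cfsg.Agent.S0194
open scoped ComplexConjugate

section
variable {G : Type*} [Group G] [Fintype G] (N : Subgroup G) [Fintype N] [hN : N.Normal]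

omit [Fintype G] in
/-- Conjugation invariance of the inner product with a restricted class function. -/
theorem classInner_restrict_conjFun (θ : G → ℂ) (hθ : Cfsg.IsClassFunction G θ) (χ : N → ℂ) (g : G) :
    Cfsg.classInner (fun n : N => θ n) (conjFun N χ g) = Cfsg.classInner (fun n : N => θ n) χ := by
  simp only [classInner_def]
  congr 1
  let e : N ≃ N := (MulAut.conjNormal g : N ≃* N).toEquiv
  rw [← Equiv.sum_comp e (fun n : N => θ n * conj (χ n))]
  refine Finset.sum_congr rfl fun n _ => ?_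
  have h1 : ((e n : N) : G) = g * n * g⁻¹ := MulAut.conjNormal_apply g n
  have h2 : θ (e n : N) = θ n := by rw [h1, hθ]
  rw [h2]
  congr 2

/-- A constituent of the restriction which is not conjugate to `χ` does not occur. -/
theorem classInner_restrict_eq_zero (θ : G → ℂ) (hθ : Cfsg.IsIrrCharacter G θ) (χ ψ : N → ℂ)
    (hχ : Cfsg.IsIrrCharacter N χ) (hψ : Cfsg.IsIrrCharacter N ψ)
    (hconst : Cfsg.classInner (fun n : N => θ n) χ ≠ 0)
    (hne : ∀ g : G, conjFun N ψ g ≠ χ) : Cfsg.classInner (fun n : N => θ n) ψ = 0 := by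
  classical
  have : Fintype (Cfsg.IrrCharacter G) := Fintype.ofFinite _
  have hθcf := isClassFunction_irr hθ
  have hIχ : Cfsg.IsCharacter G (Cfsg.indFun N χ) := Cfsg.Agent.S0148.result N χ (isCharacter_of_irr hχ)
  have hIψ : Cfsg.IsCharacter G (Cfsg.indFun N ψ) := Cfsg.Agent.S0148.result N ψ (isCharacter_of_irr hψ)
  -- the induced characters are orthogonal
  have h0 : Cfsg.classInner (Cfsg.indFun N χ) (Cfsg.indFun N ψ) = 0 := by
    rw [Cfsg.Agent.S0146.result N χ _ (indFun_isClassFunction N ψ), indFun_restrict_normal,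
      classInner_smul_right, classInner_sum_right]
    rw [Finset.sum_eq_zero, mul_zero]
    intro g _
    exact classInner_irr_ne hχ (conjFun_irr N ψ hψ g) (fun h => hne g h.symm)
  rw [classInner_eq_sum_mult _ _ (isClassFunction_of_isCharacter hIχ)] at h0
  -- each term is a natural number
  have hterm : ∀ φ : Cfsg.IrrCharacter G, ∃ k : ℕ,
      Cfsg.classInner (Cfsg.indFun N χ) φ * Cfsg.classInner (φ : G → ℂ) (Cfsg.indFun N ψ) = k := by
    intro φ
    obtain ⟨a, ha⟩ := classInner_char_irr_nat hIχ φ.2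
    obtain ⟨b, hb⟩ := classInner_char_irr_nat hIψ φ.2
    refine ⟨a * b, ?_⟩
    rw [ha, ← classInner_conj_symm, hb]
    simp
  choose k hk using hterm
  have hksum : ∑ φ : Cfsg.IrrCharacter G, k φ = 0 := by
    have : ((∑ φ : Cfsg.IrrCharacter G, k φ : ℕ) : ℂ) = 0 := by
      rw [← h0]
      push_cast
      exact Finset.sum_congr rfl fun φ _ => (hk φ).symm
    exact_mod_cast this
  have hk0 : k ⟨θ, hθ⟩ = 0 := by
    rw [Finset.sum_eq_zero_iff] at hksum
    exact hksum _ (Finset.mem_univ _)
  have h1 := hk ⟨θ, hθ⟩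
  rw [hk0, Nat.cast_zero] at h1
  rcases mul_eq_zero.1 h1 with h | h
  · exfalso
    change Cfsg.classInner (Cfsg.indFun N χ) θ = 0 at h
    rw [Cfsg.Agent.S0146.result N χ θ hθcf, ← classInner_conj_symm] at h
    apply hconst
    simpa using h
  · change Cfsg.classInner θ (Cfsg.indFun N ψ) = 0 at h
    rw [← classInner_conj_symm, Cfsg.Agent.S0146.result N ψ θ hθcf, ← classInner_conj_symm] at h
    simpa using h

end

/-- The Clifford Theorem for characters: if θ is an irreducible character of a finite group G, N is a normal subgroup and χ is an irreducible character of N occurring in the restriction of θ, then θ restricted to N equals e times the sum of the distinct G-conjugates of χ, where e is the inner product of the restriction with χ. -/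
theorem result {G : Type*} [Group G] [Fintype G] (N : Subgroup G) [Fintype N] (hN : N.Normal) (θ : G → ℂ) (hθ : Cfsg.IsIrrCharacter G θ) (χ : N → ℂ) (hχ : Cfsg.IsIrrCharacter N χ) (hconst : Cfsg.classInner (fun n : N => θ n) χ ≠ 0) : (fun n : N => θ n) = Cfsg.classInner (fun n : N => θ n) χ • ∑ᶠ ψ ∈ {ψ : N → ℂ | ∃ g : G, ψ = fun n : N => χ ⟨g * n * g⁻¹, hN.conj_mem n n.2 g⟩}, ψ := by
  classical
  have : Fintype (Cfsg.IrrCharacter N) := Fintype.ofFinite _
  set S : Set (N → ℂ) := {ψ : N → ℂ | ∃ g : G, ψ = fun n : N => χ ⟨g * n * g⁻¹, hN.conj_mem n n.2 g⟩}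
    with hS
  have hSmem : ∀ ψ : N → ℂ, ψ ∈ S ↔ ∃ g : G, ψ = conjFun N χ g := fun ψ => Iff.rfl
  have hSirr : ∀ ψ ∈ S, Cfsg.IsIrrCharacter N ψ := by
    intro ψ hψ
    obtain ⟨g, rfl⟩ := (hSmem ψ).1 hψ
    exact conjFun_irr N χ hχ g
  have hSfin : S.Finite := by
    apply Set.Finite.subset (Set.finite_range (fun φ : Cfsg.IrrCharacter N => (φ : N → ℂ)))
    intro ψ hψ
    exact ⟨⟨ψ, hSirr ψ hψ⟩, rfl⟩
  have hθcf := isClassFunction_irr hθ
  have hθN : Cfsg.IsCharacter N (fun n : N => θ n) :=
    Cfsg.Agent.S0148.isCharacter_restrict N (isCharacter_of_irr hθ)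
  have hexp := class_function_expansion (fun n : N => θ n) (isClassFunction_of_isCharacter hθN)
  have hcoef : ∀ φ : Cfsg.IrrCharacter N, Cfsg.classInner (fun n : N => θ n) φ
      = if (φ : N → ℂ) ∈ S then Cfsg.classInner (fun n : N => θ n) χ else 0 := by
    intro φ
    split_ifs with h
    · obtain ⟨g, hg⟩ := (hSmem _).1 h
      rw [hg, classInner_restrict_conjFun N θ hθcf]
    · apply classInner_restrict_eq_zero N θ hθ χ φ hχ φ.2 hconst
      intro g hg
      apply h
      rw [hSmem]
      refine ⟨g⁻¹, ?_⟩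
      rw [← hg, conjFun_mul, mul_inv_cancel, conjFun_one]
  rw [finsum_mem_eq_finite_toFinset_sum _ hSfin]
  have himage : hSfin.toFinset
      = (Finset.univ.filter (fun φ : Cfsg.IrrCharacter N => (φ : N → ℂ) ∈ S)).image Subtype.val := by
    ext ψ
    simp only [Set.Finite.mem_toFinset, Finset.mem_image, Finset.mem_filter, Finset.mem_univ,
      true_and]
    constructor
    · intro hψ
      exact ⟨⟨ψ, hSirr ψ hψ⟩, hψ, rfl⟩
    · rintro ⟨φ, hφ, rfl⟩
      exact hφ
  rw [himage, Finset.sum_image (fun a _ b _ h => Subtype.ext h), Finset.smul_sum, Finset.sum_filter]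
  conv_lhs => rw [hexp]
  refine Finset.sum_congr rfl fun φ _ => ?_
  rw [hcoef φ]
  split_ifs
  · rfl
  · rw [zero_smul]

end Cfsg.Agent.S0174
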