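import Mathlib
import Cfsg.Statements.S0178
import Cfsg.Agent.Lib.Helper1.RepEigen

set_option autoImplicit false
open Cfsg

namespace Cfsg.Agent.S0178

open Cfsg.Agent.Lib.Helper1

/-- A commuting family of operators coming from an abelian subgroup has a common eigenvector. -/
theorem exists_common_eigenvector {G : Type*} [Group G] [Finite G] {V : Type*} [AddCommGroup V]
    [Module ℂ V] [FiniteDimensional ℂ V] [Nontrivial V] (ρ : Representation ℂ G V)
    (A : Subgroup G) (hA : ∀ a ∈ A, ∀ b ∈ A, a * b = b * a) :
    ∃ (χ : A → ℂ) (w : V), w ≠ 0 ∧ ∀ a : A, ρ a w = χ a • w := by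
  have hcomm : Pairwise fun i j : A => Commute (ρ (i : G)) (ρ (j : G)) := by
    intro i j _
    show ρ i * ρ j = ρ j * ρ i
    rw [← map_mul, ← map_mul, hA i i.2 j j.2]
  have htri : ∀ i : A, ⨆ μ, Module.End.maxGenEigenspace (ρ (i : G)) μ = ⊤ :=
    fun i => Module.End.iSup_maxGenEigenspace_eq_top _
  have htop := Module.End.iSup_iInf_maxGenEigenspace_eq_top_of_iSup_maxGenEigenspace_eq_top_of_commute
    (fun i : A => ρ (i : G)) hcomm htri
  have hex : ∃ χ : A → ℂ, ⨅ i : A, Module.End.maxGenEigenspace (ρ (i : G)) (χ i) ≠ ⊥ := by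
    by_contra hne
    push Not at hne
    simp only [hne, iSup_bot] at htop
    exact bot_ne_top htop
  obtain ⟨χ, hχ⟩ := hex
  obtain ⟨w, hw, hw0⟩ := (Submodule.ne_bot_iff _).1 hχ
  refine ⟨χ, w, hw0, fun a => ?_⟩
  have h1 : w ∈ Module.End.maxGenEigenspace (ρ (a : G)) (χ a) := (Submodule.mem_iInf _).1 hw a
  rw [(rep_isSemisimple ρ (a : G)).isFinitelySemisimple.maxGenEigenspace_eq_eigenspace] at h1
  exact Module.End.mem_eigenspace_iff.1 h1

/-- The degree of an irreducible complex representation of a finite group is at most the index of any abelian subgroup. -/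
theorem result {G : Type*} [Group G] [Finite G] {V : Type*} [AddCommGroup V] [Module ℂ V] [FiniteDimensional ℂ V] (ρ : Representation ℂ G V) [ρ.IsIrreducible] (A : Subgroup G) (hA : ∀ a ∈ A, ∀ b ∈ A, a * b = b * a) : Module.finrank ℂ V ≤ A.index := by
  classical
  have hnt : Nontrivial V := by
    by_contra h
    rw [not_nontrivial_iff_subsingleton] at h
    have : (⊥ : Subrepresentation ρ) = ⊤ := by
      apply Subrepresentation.toSubmodule_injective
      exact Subsingleton.elim _ _
    exact bot_ne_top this
  obtain ⟨χ, w, hw0, hw⟩ := exists_common_eigenvector ρ A hA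
  -- the span of the translates of w by coset representatives
  let f : G ⧸ A → V := fun q => ρ q.out w
  let U : Submodule ℂ V := Submodule.span ℂ (Set.range f)
  have hgw : ∀ g : G, ρ g w ∈ U := by
    intro g
    have hmem : (QuotientGroup.mk g : G ⧸ A).out⁻¹ * g ∈ A := by
      rw [← QuotientGroup.eq]
      exact QuotientGroup.out_eq' _
    have : ρ g w = χ ⟨_, hmem⟩ • ρ (QuotientGroup.mk g : G ⧸ A).out w := by
      rw [← map_smul, ← hw ⟨_, hmem⟩, ← Module.End.mul_apply, ← map_mul]
      simp
    rw [this]
    exact Submodule.smul_mem _ _ (Submodule.subset_span ⟨_, rfl⟩)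
  let S : Subrepresentation ρ :=
    { toSubmodule := U
      apply_mem_toSubmodule := by
        intro g v hv
        induction hv using Submodule.span_induction with
        | mem x hx =>
          obtain ⟨q, rfl⟩ := hx
          show ρ g (ρ q.out w) ∈ U
          rw [← Module.End.mul_apply, ← map_mul]
          exact hgw _
        | zero => rw [map_zero]; exact U.zero_mem
        | add x y _ _ hx hy => rw [map_add]; exact U.add_mem hx hy
        | smul c x _ hx => rw [map_smul]; exact U.smul_mem c hx }
  have hS : S = ⊤ := by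
    rcases eq_bot_or_eq_top S with h | h
    · exfalso
      have h1 : w ∈ S.toSubmodule := by
        have := hgw 1
        simpa using this
      rw [h] at h1
      exact hw0 ((Submodule.mem_bot ℂ).1 h1)
    · exact h
  have hU : U = ⊤ := congrArg Subrepresentation.toSubmodule hS
  have : Fintype (G ⧸ A) := Fintype.ofFinite _
  calc Module.finrank ℂ V = Module.finrank ℂ (⊤ : Submodule ℂ V) := (finrank_top ℂ V).symm
    _ = Module.finrank ℂ U := by rw [hU]
    _ ≤ Fintype.card (G ⧸ A) := finrank_range_le_card f
    _ = A.index := by rw [Subgroup.index, Nat.card_eq_fintype_card]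

end Cfsg.Agent.S0178
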