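import Mathlib
import Cfsg.Statements.S0179
import Cfsg.Agent.Lib.Helper1.CharFound8
import Cfsg.Agent.Lib.Helper1.CharCenter
import Cfsg.Agent.Lib.Helper1.OrbitSum
import Cfsg.Agent.Lib.Helper1.RepEigen
import Cfsg.Agent.S0140
import Cfsg.Agent.S0141

set_option autoImplicit false
open Cfsg

namespace Cfsg.Agent.S0179

open Cfsg.Agent.Lib.Helper1 Cfsg.Agent.Lib.Helper4
open scoped ComplexConjugate

/-- The action of `Z(G) × G` on `G` by central translation and conjugation. -/
@[reducible]
def centerConjAction (G : Type*) [Group G] : MulAction (Subgroup.center G × G) G where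
  smul γ g := (γ.1 : G) * (γ.2 * g * γ.2⁻¹)
  one_smul g := by
    change ((1 : Subgroup.center G × G).1 : G) * ((1 : Subgroup.center G × G).2 * g *
      (1 : Subgroup.center G × G).2⁻¹) = g
    simp
  mul_smul γ γ' g := by
    change ((γ * γ').1 : G) * ((γ * γ').2 * g * (γ * γ').2⁻¹)
      = (γ.1 : G) * (γ.2 * ((γ'.1 : G) * (γ'.2 * g * γ'.2⁻¹)) * γ.2⁻¹)
    have hc : ∀ y : G, y * (γ'.1 : G) = (γ'.1 : G) * y := fun y =>
      Subgroup.mem_center_iff.1 γ'.1.2 y
    simp only [Prod.fst_mul, Prod.snd_mul, Subgroup.coe_mul, mul_inv_rev]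
    calc (γ.1 : G) * (γ'.1 : G) * (γ.2 * γ'.2 * g * (γ'.2⁻¹ * γ.2⁻¹))
        = (γ.1 : G) * ((γ'.1 : G) * γ.2) * (γ'.2 * g * γ'.2⁻¹) * γ.2⁻¹ := by group
      _ = (γ.1 : G) * (γ.2 * (γ'.1 : G)) * (γ'.2 * g * γ'.2⁻¹) * γ.2⁻¹ := by rw [hc]
      _ = _ := by group

theorem centerConj_smul_def (G : Type*) [Group G] (γ : Subgroup.center G × G) (g : G) :
    (centerConjAction G).smul γ g = (γ.1 : G) * (γ.2 * g * γ.2⁻¹) := rfl

section Faithful

variable {G : Type*} [Group G] [Fintype G] {V : Type*} [AddCommGroup V] [Module ℂ V]
  [FiniteDimensional ℂ V]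

omit [Fintype G] in
/-- Multiplying by a central element multiplies the character by the central character. -/
theorem char_central_mul (ρ : Representation ℂ G V) [ρ.IsIrreducible] (z : Subgroup.center G)
    (h : G) : ρ.character ((z : G) * h) = centralHom ρ z * ρ.character h := by
  unfold Representation.character
  rw [map_mul, rho_central ρ z, smul_mul_assoc, map_smul, smul_eq_mul]
  congr 2

theorem centralHom_normSq (ρ : Representation ℂ G V) [ρ.IsIrreducible] (z : Subgroup.center G) :
    centralHom ρ z * conj (centralHom ρ z) = 1 := by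
  have h1 : centralHom ρ z ^ Nat.card (Subgroup.center G) = 1 := by
    rw [← map_pow, pow_card_eq_one', map_one]
  have h2 := norm_eq_one_of_pow_eq_one (Nat.card_pos.ne') h1
  rw [Complex.mul_conj, Complex.normSq_eq_norm_sq, h2]
  simp

/-- The faithful case: `χ(1) |Z(G)|` divides `|G|`. -/
theorem degree_mul_card_center_dvd (ρ : Representation ℂ G V) [ρ.IsIrreducible]
    (hinj : Function.Injective ρ) :
    Module.finrank ℂ V * Nat.card (Subgroup.center G) ∣ Nat.card G := by
  classical
  let _ := centerConjAction G
  have hsmul : ∀ (γ : Subgroup.center G × G) (g : G), γ • g = (γ.1 : G) * (γ.2 * g * γ.2⁻¹) :=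
    fun γ g => rfl
  have : Fintype (MulAction.orbitRel.Quotient (Subgroup.center G × G) G) := Fintype.ofFinite _
  set d := Module.finrank ℂ V with hd
  have hd0 : (d : ℂ) ≠ 0 := finrank_ne_zero_of_irreducible ρ
  set χ := ρ.character with hχ
  have hirr : Cfsg.IsIrrCharacter G χ := isIrrCharacter_character ρ
  set Zc := Nat.card (Subgroup.center G) with hZc
  have hZ0 : (Zc : ℂ) ≠ 0 := Nat.cast_ne_zero.2 Nat.card_pos.ne'
  have hG0 : (Nat.card G : ℂ) ≠ 0 := Nat.cast_ne_zero.2 Nat.card_pos.ne'
  -- the invariant function
  let F : G → ℂ := fun g => χ g * conj (χ g) / ((Zc : ℂ) * (d : ℂ))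
  have hχγ : ∀ (γ : Subgroup.center G × G) (g : G), χ (γ • g) = centralHom ρ γ.1 * χ g := by
    intro γ g
    rw [hsmul, hχ, char_central_mul, Representation.char_conj]
  have hF : ∀ (γ : Subgroup.center G × G) (g : G), F (γ • g) = F g := by
    intro γ g
    simp only [F]
    rw [hχγ, map_mul]
    have := centralHom_normSq ρ γ.1
    congr 1
    calc centralHom ρ γ.1 * χ g * (conj (centralHom ρ γ.1) * conj (χ g))
        = (centralHom ρ γ.1 * conj (centralHom ρ γ.1)) * (χ g * conj (χ g)) := by ring
      _ = χ g * conj (χ g) := by rw [this, one_mul]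
  have hsum : ∑ g : G, F g = (Nat.card G : ℂ) / ((Zc : ℂ) * (d : ℂ)) := by
    simp only [F]
    rw [← Finset.sum_div]
    congr 1
    have h1 := classInner_irr_self hirr
    rw [classInner_def] at h1
    field_simp at h1
    exact h1
  rw [sum_eq_sum_orbits F hF] at hsum
  -- every orbit term is integral
  have hterm : ∀ q : MulAction.orbitRel.Quotient (Subgroup.center G × G) G,
      IsIntegral ℤ (Nat.card (MulAction.orbit (Subgroup.center G × G) q.out) • F q.out) := by
    intro q
    set g₀ := q.out with hg₀
    by_cases h0 : χ g₀ = 0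
    · simp only [F, h0]
      simp [isIntegral_zero]
    · -- the stabilizer is the centralizer
      have hstab : Nat.card (MulAction.stabilizer (Subgroup.center G × G) g₀)
          = Nat.card (Subgroup.centralizer ({g₀} : Set G)) := by
        apply Nat.card_congr
        have hz1 : ∀ γ : Subgroup.center G × G, γ • g₀ = g₀ → γ.1 = 1 := by
          intro γ hγ
          have h1 := hχγ γ g₀
          rw [hγ] at h1
          have h2 : centralHom ρ γ.1 = 1 := by
            have : (centralHom ρ γ.1 - 1) * χ g₀ = 0 := by rw [sub_mul, one_mul, ← h1, sub_self]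
            rcases mul_eq_zero.1 this with h | h
            · exact sub_eq_zero.1 h
            · exact absurd h h0
          exact centralHom_injective ρ hinj (by rw [h2, map_one])
        refine ⟨fun γ => ⟨γ.1.2, ?_⟩, fun x => ⟨(1, x.1), ?_⟩, ?_, ?_⟩
        · rw [Subgroup.mem_centralizer_singleton_iff]
          have hγ : γ.1 • g₀ = g₀ := MulAction.mem_stabilizer_iff.1 γ.2
          have h1 := hz1 γ.1 hγ
          rw [hsmul, h1] at hγ
          simp only [OneMemClass.coe_one, one_mul] at hγ
          calc γ.1.2 * g₀ = (γ.1.2 * g₀ * γ.1.2⁻¹) * γ.1.2 := by group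
            _ = g₀ * γ.1.2 := by rw [hγ]
        · rw [MulAction.mem_stabilizer_iff, hsmul]
          have hx := Subgroup.mem_centralizer_singleton_iff.1 x.2
          simp only [OneMemClass.coe_one, one_mul]
          rw [hx]; group
        · intro γ
          apply Subtype.ext
          have hγ : γ.1 • g₀ = g₀ := MulAction.mem_stabilizer_iff.1 γ.2
          have h1 := hz1 γ.1 hγ
          exact Prod.ext h1.symm rfl
        · intro x
          rfl
      have horb : Nat.card (MulAction.orbit (Subgroup.center G × G) g₀)
          = Zc * (Subgroup.centralizer ({g₀} : Set G)).index := by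
        have h1 := MulAction.card_orbit_mul_card_stabilizer_eq_card_group
          (Subgroup.center G × G) g₀
        simp only [← Nat.card_eq_fintype_card] at h1
        rw [hstab, Nat.card_prod, ← (Subgroup.centralizer ({g₀} : Set G)).index_mul_card,
          ← mul_assoc] at h1
        exact Nat.eq_of_mul_eq_mul_right Nat.card_pos h1
      rw [horb]
      have h1 := Cfsg.Agent.S0141.result ρ g₀
      have h2 : IsIntegral ℤ (conj (χ g₀)) := by
        rw [← isCharacter_inv (isCharacter_of_irr hirr)]
        exact Cfsg.Agent.S0140.result ρ g₀⁻¹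
      have heq : (Zc * (Subgroup.centralizer ({g₀} : Set G)).index) • F g₀
          = (((Subgroup.centralizer ({g₀} : Set G)).index : ℂ) * χ g₀ / (d : ℂ)) * conj (χ g₀) := by
        simp only [F, nsmul_eq_mul]
        push_cast
        field_simp
      rw [heq]
      exact h1.mul h2
  have hint : IsIntegral ℤ ((Nat.card G : ℂ) / ((Zc : ℂ) * (d : ℂ))) := by
    rw [← hsum]
    exact IsIntegral.sum _ fun q _ => hterm q
  have h3 : IsIntegral ℤ (((Nat.card G : ℕ) : ℂ) / ((Zc * d : ℕ) : ℂ)) := by
    push_cast
    exact hint
  have hZd : Zc * d ≠ 0 := by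
    apply Nat.mul_ne_zero Nat.card_pos.ne'
    intro h
    apply hd0
    rw [h]; simp
  have := nat_dvd_of_isIntegral_div _ _ hZd h3
  rwa [mul_comm] at this

end Faithful

/-- If a representation factors through a homomorphism and the composite is irreducible, the
representation is irreducible. -/
theorem isIrreducible_of_comp {G H : Type*} [Group G] [Group H] {V : Type*} [AddCommGroup V]
    [Module ℂ V] (σ : Representation ℂ H V) (φ : G →* H)
    (h : Representation.IsIrreducible (σ.comp φ : Representation ℂ G V)) : σ.IsIrreducible := by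
  have hnt : Nontrivial V := by
    by_contra hV
    rw [not_nontrivial_iff_subsingleton] at hV
    have : (⊥ : Subrepresentation (σ.comp φ : Representation ℂ G V)) = ⊤ := by
      apply Subrepresentation.toSubmodule_injective
      exact Subsingleton.elim _ _
    exact bot_ne_top this
  refine { exists_pair_ne := ⟨⊥, ⊤, ?_⟩, eq_bot_or_eq_top := ?_ }
  · intro hbt
    have h1 := congrArg Subrepresentation.toSubmodule hbt
    exact bot_ne_top h1
  · intro S
    let S' : Subrepresentation (σ.comp φ : Representation ℂ G V) :=
      { toSubmodule := S.toSubmodule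
        apply_mem_toSubmodule := by
          intro g v hv
          exact S.apply_mem_toSubmodule (φ g) hv }
    rcases eq_bot_or_eq_top S' with h' | h'
    · left
      apply Subrepresentation.toSubmodule_injective
      have h1 : S'.toSubmodule = (⊥ : Subrepresentation (σ.comp φ : Representation ℂ G V)).toSubmodule :=
        congrArg Subrepresentation.toSubmodule h'
      exact h1
    · right
      apply Subrepresentation.toSubmodule_injective
      have h1 : S'.toSubmodule = (⊤ : Subrepresentation (σ.comp φ : Representation ℂ G V)).toSubmodule :=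
        congrArg Subrepresentation.toSubmodule h'
      exact h1

/-- The degree of an irreducible complex representation of a finite group divides the index of the centre. -/
theorem result {G : Type*} [Group G] [Finite G] {V : Type*} [AddCommGroup V] [Module ℂ V] [FiniteDimensional ℂ V] (ρ : Representation ℂ G V) [ρ.IsIrreducible] : Module.finrank ℂ V ∣ (Subgroup.center G).index := by
  classical
  set K := MonoidHom.ker ρ with hK
  have hKn : K.Normal := MonoidHom.normal_ker ρ
  let π : G →* G ⧸ K := QuotientGroup.mk' K
  have hπ : Function.Surjective π := QuotientGroup.mk'_surjective K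
  let σ : Representation ℂ (G ⧸ K) V := QuotientGroup.lift K ρ le_rfl
  have hσπ : ∀ g : G, σ (π g) = ρ g := fun g => rfl
  have hcomp : (σ.comp π : Representation ℂ G V) = ρ := by
    ext g : 1
    exact hσπ g
  have hirr : σ.IsIrreducible := by
    apply isIrreducible_of_comp σ π
    rw [hcomp]
    infer_instance
  have hinj : Function.Injective σ := by
    intro a b hab
    obtain ⟨x, rfl⟩ := hπ a
    obtain ⟨y, rfl⟩ := hπ b
    rw [hσπ, hσπ] at hab
    have h1 : x⁻¹ * y ∈ K := by
      rw [hK, MonoidHom.mem_ker, map_mul, ← hab, ← map_mul, inv_mul_cancel, map_one]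
    exact (QuotientGroup.eq).2 h1
  have : Fintype (G ⧸ K) := Fintype.ofFinite _
  have hdvd := degree_mul_card_center_dvd σ hinj
  -- d divides the index of the centre of the quotient
  have h1 : Module.finrank ℂ V ∣ (Subgroup.center (G ⧸ K)).index := by
    rw [← (Subgroup.center (G ⧸ K)).index_mul_card] at hdvd
    exact Nat.dvd_of_mul_dvd_mul_right Nat.card_pos hdvd
  have h2 : (Subgroup.center G).map π ≤ Subgroup.center (G ⧸ K) := by
    rintro _ ⟨z, hz, rfl⟩
    rw [Subgroup.mem_center_iff]
    intro q
    obtain ⟨y, rfl⟩ := hπ q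
    rw [← map_mul, ← map_mul, Subgroup.mem_center_iff.1 hz y]
  have h3 := Subgroup.index_dvd_of_le h2
  have h4 : ((Subgroup.center G).map π).index ∣ (Subgroup.center G).index :=
    (Subgroup.center G).index_map_dvd hπ
  exact h1.trans (h3.trans h4)

end Cfsg.Agent.S0179
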