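import Mathlib
import Cfsg.Statements.S0176
import Cfsg.Agent.Lib.Helper1.CliffordCorr
import Cfsg.Agent.Lib.Helper1.LinearChar
import Cfsg.Agent.Lib.Helper1.CharInt
import Cfsg.Agent.Lib.Lead.Nilpotent
import Cfsg.Agent.S0138
import Cfsg.Agent.S0178
import Cfsg.Agent.S0179

set_option autoImplicit false
open Cfsg

namespace Cfsg.Agent.S0176

open Cfsg.Agent.Lib.Helper1 Cfsg.Agent.Lib.Helper4
open scoped ComplexConjugate

universe u

section Tools
variable {G : Type u} [Group G] [Fintype G]

/-- Induction from the whole group does nothing to a class function. -/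
theorem indFun_top (θ : G → ℂ) (hθ : Cfsg.IsClassFunction G θ) :
    Cfsg.indFun (⊤ : Subgroup G) (fun x => θ x) = θ := by
  funext g
  have hG0 : (Nat.card G : ℂ) ≠ 0 := Nat.cast_ne_zero.2 Nat.card_pos.ne'
  rw [indFun_apply]
  have h1 : ∀ x : G, Cfsg.extendByZero (⊤ : Subgroup G) (fun y => θ y) (x⁻¹ * g * x) = θ g := by
    intro x
    rw [extendByZero_of_mem _ _ (Subgroup.mem_top _)]
    have := hθ g x⁻¹
    simpa using this
  rw [Finset.sum_congr rfl (fun x _ => h1 x), Finset.sum_const, Finset.card_univ,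
    ← Nat.card_eq_fintype_card, Subgroup.card_top, nsmul_eq_mul]
  field_simp

theorem indFun_congr_subgroup {S S' : Subgroup G} (h : S' = S) (f : S → ℂ) :
    Cfsg.indFun S' (fun x => f ⟨x, h ▸ x.2⟩) = Cfsg.indFun S f := by
  subst h; rfl

omit [Fintype G] in
theorem mem_of_mem_map_subtype {T : Subgroup G} {S : Subgroup T} {y : G}
    (hy : y ∈ S.map T.subtype) : ∃ hT : y ∈ T, (⟨y, hT⟩ : T) ∈ S := by
  obtain ⟨s, hs, rfl⟩ := hy
  exact ⟨s.2, hs⟩

/-- Transitivity of induction, with the inner subgroup given inside the intermediate group. -/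
theorem indFun_trans_map (T : Subgroup G) [Fintype T] (S : Subgroup T) (μ : S → ℂ) :
    Cfsg.indFun T (Cfsg.indFun S μ)
      = Cfsg.indFun (S.map T.subtype) (fun y =>
          μ ⟨⟨y, (mem_of_mem_map_subtype y.2).1⟩, (mem_of_mem_map_subtype y.2).2⟩) := by
  set H : Subgroup G := S.map T.subtype with hH
  have hHT : H ≤ T := Subgroup.map_subtype_le S
  set θ : H → ℂ := fun y =>
    μ ⟨⟨y, (mem_of_mem_map_subtype y.2).1⟩, (mem_of_mem_map_subtype y.2).2⟩ with hθ
  have h1 := Cfsg.Agent.S0147.result H T hHT θ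
  have h2 : H.subgroupOf T = S :=
    Subgroup.comap_map_eq_self_of_injective (Subgroup.subtype_injective T) S
  have h3 := indFun_congr_subgroup h2 μ
  rw [← h1, ← h3]

end Tools

section Quotient
variable {G : Type u} [Group G] [Fintype G] (K : Subgroup G) [K.Normal] [Fintype (G ⧸ K)]

theorem sum_comp_mk (F : G ⧸ K → ℂ) :
    ∑ x : G, F (QuotientGroup.mk' K x) = (Nat.card K : ℂ) * ∑ q : G ⧸ K, F q := by
  classical
  have : Fintype K := Fintype.ofFinite K
  rw [Finset.sum_comp F (QuotientGroup.mk' K : G → G ⧸ K)]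
  have himg : (Finset.univ : Finset G).image (QuotientGroup.mk' K : G → G ⧸ K) = Finset.univ := by
    apply Finset.eq_univ_of_forall
    intro q
    obtain ⟨x, rfl⟩ := QuotientGroup.mk'_surjective K q
    exact Finset.mem_image_of_mem _ (Finset.mem_univ x)
  rw [himg, Finset.mul_sum]
  refine Finset.sum_congr rfl fun q _ => ?_
  obtain ⟨y, rfl⟩ := QuotientGroup.mk'_surjective K q
  have hfil : (Finset.univ.filter fun a : G => QuotientGroup.mk' K a = QuotientGroup.mk' K y)
      = (Finset.univ : Finset K).image (fun k : K => y * k) := by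
    ext a
    simp only [Finset.mem_filter, Finset.mem_univ, true_and, Finset.mem_image]
    constructor
    · intro h
      have h1 : y⁻¹ * a ∈ K := (QuotientGroup.eq).1 h.symm
      exact ⟨⟨y⁻¹ * a, h1⟩, by simp⟩
    · rintro ⟨k, rfl⟩
      symm
      apply (QuotientGroup.eq).2
      simp
  rw [hfil, Finset.card_image_of_injective _ (fun a b hab => Subtype.ext (mul_left_cancel hab)),
    Finset.card_univ, nsmul_eq_mul, Nat.card_eq_fintype_card]

/-- Inflation commutes with induction. -/
theorem indFun_comap_quotient (Hbar : Subgroup (G ⧸ K)) (f : Hbar → ℂ) (g : G) :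
    Cfsg.indFun (Hbar.comap (QuotientGroup.mk' K))
      (fun h => f ⟨QuotientGroup.mk' K h, h.2⟩) g
      = Cfsg.indFun Hbar f (QuotientGroup.mk' K g) := by
  classical
  have hext : ∀ y : G, Cfsg.extendByZero (Hbar.comap (QuotientGroup.mk' K))
        (fun h => f ⟨QuotientGroup.mk' K h, h.2⟩) y
      = Cfsg.extendByZero Hbar f (QuotientGroup.mk' K y) := by
    intro y
    by_cases hy : y ∈ Hbar.comap (QuotientGroup.mk' K)
    · rw [extendByZero_of_mem _ _ hy,
        extendByZero_of_mem _ _ (show QuotientGroup.mk' K y ∈ Hbar from hy)]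
    · rw [extendByZero_of_notMem _ _ hy,
        extendByZero_of_notMem _ _ (show QuotientGroup.mk' K y ∉ Hbar from hy)]
  rw [indFun_apply, indFun_apply]
  have hsum : ∑ x : G, Cfsg.extendByZero (Hbar.comap (QuotientGroup.mk' K))
        (fun h => f ⟨QuotientGroup.mk' K h, h.2⟩) (x⁻¹ * g * x)
      = ∑ x : G, (fun q => Cfsg.extendByZero Hbar f (q⁻¹ * QuotientGroup.mk' K g * q))
          (QuotientGroup.mk' K x) := by
    refine Finset.sum_congr rfl fun x _ => ?_
    rw [hext]
    simp only [map_mul, map_inv]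
  rw [hsum, sum_comp_mk K (fun q => Cfsg.extendByZero Hbar f (q⁻¹ * QuotientGroup.mk' K g * q))]
  have hcard : Nat.card (Hbar.comap (QuotientGroup.mk' K)) = Nat.card K * Nat.card Hbar := by
    have h1 : (Hbar.comap (QuotientGroup.mk' K)).index = Hbar.index :=
      Subgroup.index_comap_of_surjective Hbar (QuotientGroup.mk'_surjective K)
    have h2 := (Hbar.comap (QuotientGroup.mk' K)).index_mul_card
    have h3 := Hbar.index_mul_card
    have h4 : Nat.card G = Nat.card (G ⧸ K) * Nat.card K :=
      Subgroup.card_eq_card_quotient_mul_card_subgroup K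
    have h5 : (Hbar.comap (QuotientGroup.mk' K)).index * Nat.card (Hbar.comap (QuotientGroup.mk' K))
        = (Hbar.comap (QuotientGroup.mk' K)).index * (Nat.card K * Nat.card Hbar) := by
      rw [h2, h4, ← h3, h1]; ring
    have h6 : 0 < (Hbar.comap (QuotientGroup.mk' K)).index :=
      Nat.pos_of_ne_zero Subgroup.index_ne_zero_of_finite
    exact Nat.eq_of_mul_eq_mul_left h6 h5
  rw [hcard]
  have hK0 : (Nat.card K : ℂ) ≠ 0 := Nat.cast_ne_zero.2 Nat.card_pos.ne'
  have hH0 : (Nat.card Hbar : ℂ) ≠ 0 := Nat.cast_ne_zero.2 Nat.card_pos.ne'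
  push_cast
  field_simp

end Quotient

section Abelian

/-- Irreducible characters of abelian groups are linear. -/
theorem irr_linear_of_comm {H : Type u} [Group H] [Finite H] (hH : ∀ a b : H, a * b = b * a)
    {θ : H → ℂ} (hθ : Cfsg.IsIrrCharacter H θ) : θ 1 = 1 := by
  obtain ⟨n, σ, hσ, rfl⟩ := hθ
  have := hσ
  have h1 := Cfsg.Agent.S0178.result σ ⊤ (fun a _ b _ => hH a b)
  rw [Subgroup.index_top, Module.finrank_fin_fun] at h1
  have h2 : (Module.finrank ℂ (Fin n → ℂ) : ℂ) ≠ 0 := finrank_ne_zero_of_irreducible σ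
  rw [Module.finrank_fin_fun] at h2
  have h3 : n ≠ 0 := by exact_mod_cast h2
  have h4 : n = 1 := by omega
  rw [Representation.char_one, Module.finrank_fin_fun, h4]
  simp

theorem norm_hom_eq_one {H : Type u} [Group H] [Finite H] (φ : H →* ℂˣ) (h : H) :
    ‖((φ h : ℂˣ) : ℂ)‖ = 1 := by
  have h1 : ((φ h : ℂˣ) : ℂ) ^ orderOf h = 1 := by
    rw [← Units.val_pow_eq_pow_val, ← map_pow, pow_orderOf_eq_one, map_one, Units.val_one]
  exact Complex.norm_eq_one_of_pow_eq_one h1 (orderOf_pos h).ne'

/-- A nonabelian nilpotent group has an abelian normal subgroup outside the centre. -/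
theorem exists_abelian_normal_noncentral {G : Type u} [Group G] [Group.IsNilpotent G]
    (hnc : ¬ ∀ a b : G, a * b = b * a) :
    ∃ A : Subgroup G, A.Normal ∧ (∀ a ∈ A, ∀ b ∈ A, a * b = b * a) ∧ ¬ A ≤ Subgroup.center G := by
  set Z := Subgroup.center G with hZ
  let π : G →* G ⧸ Z := QuotientGroup.mk' Z
  have hπ : Function.Surjective π := QuotientGroup.mk'_surjective Z
  have hne : (⊤ : Subgroup (G ⧸ Z)) ≠ ⊥ := by
    intro h
    apply hnc
    intro a b
    have h1 : π a ∈ (⊥ : Subgroup (G ⧸ Z)) := by rw [← h]; exact Subgroup.mem_top _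
    rw [Subgroup.mem_bot] at h1
    have h2 : a ∈ Z := by
      have := (QuotientGroup.eq_one_iff a).1 h1
      exact this
    exact ((Subgroup.mem_center_iff.1 h2) b).symm
  have hc := Cfsg.Agent.Lib.Lead.inf_center_ne_bot (⊤ : Subgroup (G ⧸ Z)) hne
  rw [top_inf_eq] at hc
  obtain ⟨⟨q, hq⟩, hq1'⟩ := (Subgroup.ne_bot_iff_exists_ne_one).1 hc
  have hq1 : q ≠ 1 := fun h => hq1' (Subtype.ext h)
  have hnorm : (Subgroup.zpowers q).Normal := by
    refine ⟨fun y hy r => ?_⟩
    have hyc : y ∈ Subgroup.center (G ⧸ Z) := by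
      obtain ⟨i, rfl⟩ := Subgroup.mem_zpowers_iff.1 hy
      exact Subgroup.zpow_mem _ hq i
    have : r * y * r⁻¹ = y := by
      rw [(Subgroup.mem_center_iff.1 hyc) r]; group
    rw [this]; exact hy
  refine ⟨(Subgroup.zpowers q).comap π, hnorm.comap π, ?_, ?_⟩
  · intro a ha b hb
    let f : ((Subgroup.zpowers q).comap π) →* Subgroup.zpowers q := π.subgroupComap _
    have hker : f.ker ≤ Subgroup.center ((Subgroup.zpowers q).comap π) := by
      intro x hx
      rw [MonoidHom.mem_ker] at hx
      have h1 : π (x : G) = 1 := congrArg Subtype.val hx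
      have h2 : (x : G) ∈ Z := (QuotientGroup.eq_one_iff _).1 h1
      rw [Subgroup.mem_center_iff]
      intro y
      apply Subtype.ext
      exact (Subgroup.mem_center_iff.1 h2) y
    have := (f.isMulCommutative_of_isCyclic_of_ker_le_center hker).is_comm.comm ⟨a, ha⟩ ⟨b, hb⟩
    exact congrArg Subtype.val this
  · intro hle
    obtain ⟨x, rfl⟩ := hπ q
    have hx : x ∈ (Subgroup.zpowers (π x)).comap π := Subgroup.mem_zpowers _
    have h1 := hle hx
    apply hq1
    exact (QuotientGroup.eq_one_iff x).2 h1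

end Abelian

theorem main : ∀ n : ℕ, ∀ (G : Type u) [Group G] [Fintype G] [Group.IsNilpotent G],
    Nat.card G = n → ∀ χ : G → ℂ, Cfsg.IsIrrCharacter G χ →
    ∃ (H : Subgroup G) (lam : H →* ℂˣ), χ = Cfsg.indFun H (fun h => (lam h : ℂ)) := by
  intro n
  induction n using Nat.strong_induction_on with
  | _ n ih =>
  intro G _ _ _ hcard χ hχ
  classical
  obtain ⟨d, ρ, hirr, hρ⟩ := hχ
  have := hirr
  set K := MonoidHom.ker ρ with hK
  have hKn : K.Normal := MonoidHom.normal_ker ρ
  by_cases hKbot : K = ⊥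
  · -- faithful case
    have hinj : Function.Injective ρ := by
      rw [← MonoidHom.ker_eq_bot_iff, ← hK, hKbot]
    by_cases hcomm : ∀ a b : G, a * b = b * a
    · -- abelian: χ is linear
      have hχirr : Cfsg.IsIrrCharacter G χ := ⟨d, ρ, hirr, hρ⟩
      have h1 := irr_linear_of_comm hcomm hχirr
      obtain ⟨φ, hφ⟩ := exists_hom_of_isIrrCharacter hχirr h1
      refine ⟨⊤, φ.comp (⊤ : Subgroup G).subtype, ?_⟩
      have := indFun_top χ (isClassFunction_irr hχirr)
      rw [← this, hφ]
      rfl
    · -- nonabelian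
      have hχirr : Cfsg.IsIrrCharacter G χ := ⟨d, ρ, hirr, hρ⟩
      obtain ⟨A, hAn, hAab, hAZ⟩ := exists_abelian_normal_noncentral hcomm
      have : Fintype A := Fintype.ofFinite A
      have hχ1 : χ 1 = (d : ℂ) := by
        rw [← hρ, Representation.char_one, Module.finrank_fin_fun]
      have hd0 : (d : ℂ) ≠ 0 := by
        have := finrank_ne_zero_of_irreducible ρ
        rwa [Module.finrank_fin_fun] at this
      have hres : Cfsg.IsCharacter A (fun h : A => χ h) :=
        Cfsg.Agent.S0148.isCharacter_restrict A (isCharacter_of_irr hχirr)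
      obtain ⟨θ, hθ, m, hm0, hm⟩ := exists_constituent hres (by
        change χ ((1 : A) : G) ≠ 0
        rw [OneMemClass.coe_one, hχ1]; exact hd0)
      have hconst : Cfsg.classInner (fun n : A => χ n) θ ≠ 0 := by
        rw [hm]; exact_mod_cast hm0.ne'
      have hθ1 : θ 1 = 1 :=
        irr_linear_of_comm (fun a b => Subtype.ext (hAab a a.2 b b.2)) hθ
      obtain ⟨φ, hφ⟩ := exists_hom_of_isIrrCharacter hθ hθ1
      have hnorm : ∀ h : A, ‖θ h‖ = 1 := by
        intro h; rw [hφ]; exact norm_hom_eq_one φ h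
      set T := inertia A θ with hT
      have hNT : A ≤ T := le_inertia A (isClassFunction_irr hθ)
      -- T is proper
      have hTne : T ≠ ⊤ := by
        intro htop
        apply hAZ
        have hfix : ∀ (g : G) (a : A), θ ⟨g * a * g⁻¹, hAn.conj_mem a a.2 g⟩ = θ a := by
          intro g a
          have hg : g ∈ inertia A θ := by rw [← hT, htop]; exact Subgroup.mem_top _
          exact congrFun hg a
        have hcl := Cfsg.Agent.S0174.result A hAn χ hχirr θ hθ hconst
        have hset : {ψ : A → ℂ | ∃ g : G, ψ = fun n : A => θ ⟨g * n * g⁻¹, hAn.conj_mem n n.2 g⟩}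
            = {θ} := by
          ext ψ
          simp only [Set.mem_ofPred_eq, Set.mem_singleton_iff]
          constructor
          · rintro ⟨g, rfl⟩
            funext a
            exact hfix g a
          · rintro rfl
            exact ⟨1, by funext a; exact (hfix 1 a).symm⟩
        rw [hset, finsum_mem_singleton] at hcl
        set c := Cfsg.classInner (fun n : A => χ n) θ with hc
        have hcd : c = d := by
          have := congrFun hcl 1
          simp only [Pi.smul_apply, smul_eq_mul, OneMemClass.coe_one, hθ1, mul_one] at this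
          rw [← this, hχ1]
        intro a ha
        have hval : χ a = c * θ ⟨a, ha⟩ := congrFun hcl ⟨a, ha⟩
        have hsc : ∃ ω : ℂ, ρ a = ω • (LinearMap.id : (Fin d → ℂ) →ₗ[ℂ] (Fin d → ℂ)) := by
          rw [← Cfsg.Agent.S0138.result ρ a, hρ, Module.finrank_fin_fun, hval, norm_mul, hnorm,
            mul_one, hcd]
          simp
        obtain ⟨ω, hω⟩ := hsc
        rw [Subgroup.mem_center_iff]
        intro g
        apply hinj
        rw [map_mul, map_mul, hω]
        ext v
        simp
      have : Fintype T := Fintype.ofFinite T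
      obtain ⟨ψ, hψ, hχψ, -⟩ := clifford_correspondence A θ hθ χ hχirr hconst T hT hNT
      have hTlt : Nat.card T < n := by
        rw [← hcard]
        have h1 : Nat.card T ≤ Nat.card G := Subgroup.card_le_card_group T
        have h2 : Nat.card T ≠ Nat.card G := fun h => hTne (Subgroup.eq_top_of_card_eq T h)
        omega
      obtain ⟨S, μ, hμ⟩ := ih (Nat.card T) hTlt T rfl ψ hψ
      have hmem : ∀ y : S.map T.subtype,
          (Subgroup.inclusion (Subgroup.map_subtype_le S) y : T) ∈ S := by
        intro y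
        exact (mem_of_mem_map_subtype y.2).2
      refine ⟨S.map T.subtype,
        μ.comp ((Subgroup.inclusion (Subgroup.map_subtype_le S)).codRestrict S hmem), ?_⟩
      rw [hχψ, hμ, indFun_trans_map T S (fun s => (μ s : ℂ))]
      rfl
  · -- non-faithful case: pass to the quotient
    have : Fintype (G ⧸ K) := Fintype.ofFinite _
    let π : G →* G ⧸ K := QuotientGroup.mk' K
    let σ : Representation ℂ (G ⧸ K) (Fin d → ℂ) := QuotientGroup.lift K ρ le_rfl
    have hσπ : ∀ g : G, σ (π g) = ρ g := fun g => rfl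
    have hcomp : (σ.comp π : Representation ℂ G (Fin d → ℂ)) = ρ := by
      ext g : 1
      exact hσπ g
    have hσirr : σ.IsIrreducible := by
      apply Cfsg.Agent.S0179.isIrreducible_of_comp σ π
      rw [hcomp]
      exact hirr
    have hlt : Nat.card (G ⧸ K) < n := by
      rw [← hcard, Subgroup.card_eq_card_quotient_mul_card_subgroup K]
      have h1 : 1 < Nat.card K := by
        rw [Finite.one_lt_card_iff_nontrivial]
        exact (Subgroup.nontrivial_iff_ne_bot K).2 hKbot
      have h2 : 0 < Nat.card (G ⧸ K) := Nat.card_pos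
      nlinarith
    obtain ⟨Hbar, lbar, hl⟩ := ih (Nat.card (G ⧸ K)) hlt (G ⧸ K) rfl σ.character
      ⟨d, σ, hσirr, rfl⟩
    refine ⟨Hbar.comap π, lbar.comp (π.subgroupComap Hbar), ?_⟩
    funext g
    have h1 : χ g = σ.character (π g) := by
      rw [← hρ]; rfl
    rw [h1, hl, ← indFun_comap_quotient K Hbar (fun h => (lbar h : ℂ)) g]
    rfl

/-- A finite nilpotent group is an M-group: each irreducible complex character is induced from a homomorphism of some subgroup into ℂˣ. -/
theorem result {G : Type*} [Group G] [Fintype G] [Group.IsNilpotent G] (χ : G → ℂ) (hχ : Cfsg.IsIrrCharacter G χ) : ∃ (H : Subgroup G) (lam : H →* ℂˣ), χ = Cfsg.indFun H (fun h => (lam h : ℂ)) :=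
  main (Nat.card G) G rfl χ hχ

end Cfsg.Agent.S0176
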