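import Mathlib
import Cfsg.Statements.S0188
import Cfsg.Agent.Lib.Helper1.CharFound8

set_option autoImplicit false
open Cfsg

namespace Cfsg.Agent.S0188

open Cfsg.Agent.Lib.Helper1 Cfsg.Agent.Lib.Helper4
open scoped ComplexConjugate TensorProduct

/-- The outer tensor product of two representations. -/
noncomputable def prodRep {G H V W : Type*} [Group G] [Group H] [AddCommGroup V] [Module ℂ V]
    [AddCommGroup W] [Module ℂ W] (ρ : Representation ℂ G V) (σ : Representation ℂ H W) :
    Representation ℂ (G × H) (V ⊗[ℂ] W) where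
  toFun x := TensorProduct.map (ρ x.1) (σ x.2)
  map_one' := by simp
  map_mul' x y := by simp [TensorProduct.map_mul]

theorem prodRep_character {G H V W : Type*} [Group G] [Group H] [AddCommGroup V] [Module ℂ V]
    [AddCommGroup W] [Module ℂ W] [FiniteDimensional ℂ V] [FiniteDimensional ℂ W]
    (ρ : Representation ℂ G V) (σ : Representation ℂ H W) (x : G × H) :
    (prodRep ρ σ).character x = ρ.character x.1 * σ.character x.2 := by
  unfold Representation.character
  exact LinearMap.trace_tensorProduct' _ _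

theorem isCharacter_prod {G H : Type*} [Group G] [Group H] {φ : G → ℂ} {ψ : H → ℂ}
    (hφ : Cfsg.IsCharacter G φ) (hψ : Cfsg.IsCharacter H ψ) :
    Cfsg.IsCharacter (G × H) (fun x => φ x.1 * ψ x.2) := by
  obtain ⟨n, ρ, rfl⟩ := hφ
  obtain ⟨m, σ, rfl⟩ := hψ
  have := isCharacter_character (prodRep ρ σ)
  convert this using 1
  funext x
  exact (prodRep_character ρ σ x).symm

theorem classInner_prod {G H : Type*} [Group G] [Group H] [Fintype G] [Fintype H]
    (φ φ' : G → ℂ) (ψ ψ' : H → ℂ) :
    Cfsg.classInner (fun x : G × H => φ x.1 * ψ x.2) (fun x : G × H => φ' x.1 * ψ' x.2)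
      = Cfsg.classInner φ φ' * Cfsg.classInner ψ ψ' := by
  simp only [classInner_def, Nat.card_prod, Fintype.sum_prod_type, map_mul]
  have : ∀ g : G, ∑ h : H, φ g * ψ h * (conj (φ' g) * conj (ψ' h))
      = (φ g * conj (φ' g)) * ∑ h : H, ψ h * conj (ψ' h) := by
    intro g
    rw [Finset.mul_sum]
    refine Finset.sum_congr rfl fun h _ => ?_
    ring
  rw [Finset.sum_congr rfl fun g _ => this g, ← Finset.sum_mul]
  push_cast
  ring

theorem isIrrCharacter_prod {G H : Type*} [Group G] [Group H] [Finite G] [Finite H]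
    {φ : G → ℂ} {ψ : H → ℂ}
    (hφ : Cfsg.IsIrrCharacter G φ) (hψ : Cfsg.IsIrrCharacter H ψ) :
    Cfsg.IsIrrCharacter (G × H) (fun x => φ x.1 * ψ x.2) := by
  have : Fintype G := Fintype.ofFinite G
  have : Fintype H := Fintype.ofFinite H
  apply isIrrCharacter_of_norm_one (isCharacter_prod (isCharacter_of_irr hφ) (isCharacter_of_irr hψ))
  have h := classInner_prod φ φ ψ ψ
  rw [classInner_irr_self hφ, classInner_irr_self hψ, mul_one] at h
  convert h using 2

/-- Completeness for products: a class function on `G × H` orthogonal to all products vanishes. -/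
theorem eq_zero_of_orth_prod {G H : Type*} [Group G] [Group H] [Fintype G] [Fintype H]
    (θ : G × H → ℂ) (hθ : Cfsg.IsClassFunction (G × H) θ)
    (horth : ∀ (φ : G → ℂ) (ψ : H → ℂ), Cfsg.IsIrrCharacter G φ → Cfsg.IsIrrCharacter H ψ →
      Cfsg.classInner θ (fun x : G × H => φ x.1 * ψ x.2) = 0) : θ = 0 := by
  have hG0 : (Nat.card G : ℂ) ≠ 0 := Nat.cast_ne_zero.2 Nat.card_pos.ne'
  have hH0 : (Nat.card H : ℂ) ≠ 0 := Nat.cast_ne_zero.2 Nat.card_pos.ne'
  -- the partial inner products
  have key : ∀ (ψ : H → ℂ), Cfsg.IsIrrCharacter H ψ →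
      (fun g : G => Cfsg.classInner (fun h : H => θ (g, h)) ψ) = 0 := by
    intro ψ hψ
    have hcf : Cfsg.IsClassFunction G (fun g : G => Cfsg.classInner (fun h : H => θ (g, h)) ψ) := by
      intro g x
      simp only [classInner_def]
      congr 1
      refine Finset.sum_congr rfl fun h _ => ?_
      congr 1
      have := hθ (g, h) (x, 1)
      simpa using this
    apply eq_zero_of_orth _ hcf
    intro φ hφ
    rw [← classInner_conj_symm]
    have h0 := horth φ ψ hφ hψ
    have : Cfsg.classInner (fun g : G => Cfsg.classInner (fun h : H => θ (g, h)) ψ) φ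
        = Cfsg.classInner θ (fun x : G × H => φ x.1 * ψ x.2) := by
      simp only [classInner_def, Nat.card_prod, Fintype.sum_prod_type, map_mul]
      rw [Finset.mul_sum]
      push_cast
      rw [Finset.mul_sum]
      refine Finset.sum_congr rfl fun g _ => ?_
      rw [Finset.mul_sum, Finset.mul_sum, Finset.sum_mul, Finset.mul_sum]
      refine Finset.sum_congr rfl fun h _ => ?_
      ring
    rw [this, h0, map_zero]
  funext ⟨g, h⟩
  have hcf2 : Cfsg.IsClassFunction H (fun h : H => θ (g, h)) := by
    intro h x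
    have := hθ (g, h) (1, x)
    simpa using this
  have h1 : (fun h : H => θ (g, h)) = 0 := by
    apply eq_zero_of_orth _ hcf2
    intro ψ hψ
    rw [← classInner_conj_symm]
    have := congrFun (key ψ hψ) g
    simp only [Pi.zero_apply] at this
    rw [this, map_zero]
  exact congrFun h1 h

/-- The irreducible complex characters of G × H are precisely the functions (g, h) ↦ φ g * ψ h with φ, ψ irreducible characters of G and H. -/
theorem result {G : Type*} [Group G] [Finite G] {H : Type*} [Group H] [Finite H] (θ : G × H → ℂ) : Cfsg.IsIrrCharacter (G × H) θ ↔ ∃ (φ : G → ℂ) (ψ : H → ℂ), Cfsg.IsIrrCharacter G φ ∧ Cfsg.IsIrrCharacter H ψ ∧ θ = fun x => φ x.1 * ψ x.2 := by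
  classical
  have : Fintype G := Fintype.ofFinite G
  have : Fintype H := Fintype.ofFinite H
  constructor
  · intro hθ
    by_contra hcon
    push Not at hcon
    have h0 : θ = 0 := by
      apply eq_zero_of_orth_prod θ (isClassFunction_irr hθ)
      intro φ ψ hφ hψ
      rw [classInner_irr hθ (isIrrCharacter_prod hφ hψ), if_neg (hcon φ ψ hφ hψ)]
    have := irr_apply_one_ne_zero hθ
    rw [h0] at this
    exact this rfl
  · rintro ⟨φ, ψ, hφ, hψ, rfl⟩
    exact isIrrCharacter_prod hφ hψ

end Cfsg.Agent.S0188
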