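import Mathlib
import Cfsg.Statements.S0177
import Cfsg.Agent.Lib.Helper1.CliffordCorr
import Cfsg.Agent.Lib.Helper1.LinearChar
import Cfsg.Agent.Lib.Helper4.VirtualChar
import Cfsg.Agent.S0176
import Cfsg.Agent.S0188

set_option autoImplicit false
open Cfsg

namespace Cfsg.Agent.S0177

open Cfsg.Agent.Lib.Helper1 Cfsg.Agent.Lib.Helper4
open scoped ComplexConjugate

universe u

section GenFun

open Classical in
/-- `|A|` on generators of `A`, zero elsewhere. -/
noncomputable def genFun (A : Type u) [Group A] : A → ℂ :=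
  fun a => if Subgroup.zpowers a = ⊤ then (Nat.card A : ℂ) else 0

theorem zpowers_subtype_eq_top_iff {G : Type u} [Group G] (A : Subgroup G) (y : G) (hy : y ∈ A) :
    Subgroup.zpowers (⟨y, hy⟩ : A) = ⊤ ↔ Subgroup.zpowers y = A := by
  have h1 : (Subgroup.zpowers (⟨y, hy⟩ : A)).map A.subtype = Subgroup.zpowers y := by
    rw [MonoidHom.map_zpowers]; rfl
  have h2 : (⊤ : Subgroup A).map A.subtype = A := by
    rw [← MonoidHom.range_eq_map, Subgroup.range_subtype]
  constructor
  · intro h
    rw [← h1, h, h2]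
  · intro h
    apply Subgroup.map_injective (Subgroup.subtype_injective A)
    rw [h1, h2, h]

open Classical in
theorem extendByZero_genFun {G : Type u} [Group G] (A : Subgroup G) (y : G) :
    Cfsg.extendByZero A (genFun A) y
      = if Subgroup.zpowers y = A then (Nat.card A : ℂ) else 0 := by
  classical
  by_cases hy : y ∈ A
  · rw [extendByZero_of_mem _ _ hy]
    unfold genFun
    by_cases h : Subgroup.zpowers y = A
    · rw [if_pos h, if_pos ((zpowers_subtype_eq_top_iff A y hy).2 h)]
    · rw [if_neg h, if_neg (fun h' => h ((zpowers_subtype_eq_top_iff A y hy).1 h'))]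
  · rw [extendByZero_of_notMem _ _ hy, if_neg]
    intro h
    apply hy
    rw [← h]
    exact Subgroup.mem_zpowers y

/-- Artin's counting identity. -/
theorem sum_indFun_genFun {G : Type u} [Group G] [Fintype G] [Fintype (Subgroup G)] (g : G) :
    ∑ A : Subgroup G, Cfsg.indFun A (genFun A) g = (Nat.card G : ℂ) := by
  classical
  have h1 : ∀ A : Subgroup G, Cfsg.indFun A (genFun A) g
      = ∑ x : G, if Subgroup.zpowers (x⁻¹ * g * x) = A then (1 : ℂ) else 0 := by
    intro A
    have hA0 : (Nat.card A : ℂ) ≠ 0 := Nat.cast_ne_zero.2 Nat.card_pos.ne'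
    rw [indFun_apply, Finset.mul_sum]
    refine Finset.sum_congr rfl fun x _ => ?_
    rw [extendByZero_genFun]
    split_ifs
    · exact inv_mul_cancel₀ hA0
    · rw [mul_zero]
  rw [Finset.sum_congr rfl (fun A _ => h1 A), Finset.sum_comm]
  rw [Finset.sum_congr rfl (fun x _ => Finset.sum_ite_eq Finset.univ _ _)]
  simp [Nat.card_eq_fintype_card]

theorem genFun_isClassFunction {A : Type u} [Group A] : Cfsg.IsClassFunction A (genFun A) := by
  classical
  intro a h
  unfold genFun
  have h1 : Subgroup.zpowers (h * a * h⁻¹) = (Subgroup.zpowers a).map (MulAut.conj h).toMonoidHom := by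
    rw [MonoidHom.map_zpowers]; rfl
  have h2 : Subgroup.zpowers (h * a * h⁻¹) = ⊤ ↔ Subgroup.zpowers a = ⊤ := by
    rw [h1]
    constructor
    · intro h3
      apply Subgroup.map_injective (f := (MulAut.conj h).toMonoidHom) (MulAut.conj h).injective
      rw [h3]
      exact (Subgroup.map_top_of_surjective _ (MulAut.conj h).surjective).symm
    · intro h3
      rw [h3]
      exact Subgroup.map_top_of_surjective _ (MulAut.conj h).surjective
  simp only [h2]

theorem isGenChar_indFun {G : Type u} [Group G] [Fintype G] (H : Subgroup G) {ψ : H → ℂ}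
    (hψ : Cfsg.IsGeneralizedCharacter H ψ) : Cfsg.IsGeneralizedCharacter G (Cfsg.indFun H ψ) := by
  obtain ⟨a, b, ha, hb, rfl⟩ := hψ
  rw [Cfsg.Agent.S0170.indFun_sub]
  exact ⟨_, _, Cfsg.Agent.S0148.result H a ha, Cfsg.Agent.S0148.result H b hb, rfl⟩

theorem isGenChar_const_nat {A : Type u} [Group A] (n : ℕ) :
    Cfsg.IsGeneralizedCharacter A (fun _ => (n : ℂ)) := by
  apply isGenChar_of_isCharacter
  have := isCharacter_nsmul (isCharacter_of_irr (Cfsg.Agent.S0161.isIrrCharacter_one (G := A))) n
  convert this using 1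
  funext x
  simp

/-- The generator indicator is a generalized character. -/
theorem genFun_isGenChar : ∀ n : ℕ, ∀ (A : Type u) [Group A] [Fintype A], Nat.card A = n →
    Cfsg.IsGeneralizedCharacter A (genFun A) := by
  intro n
  induction n using Nat.strong_induction_on with
  | _ n ih =>
  intro A _ _ hcard
  classical
  have : Fintype (Subgroup A) := Fintype.ofFinite _
  have hsum : ∀ a : A, ∑ B : Subgroup A, Cfsg.indFun B (genFun B) a = (Nat.card A : ℂ) :=
    fun a => sum_indFun_genFun a
  have htop : Cfsg.indFun (⊤ : Subgroup A) (genFun (⊤ : Subgroup A)) = genFun A := by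
    have h1 : genFun (⊤ : Subgroup A) = fun x : (⊤ : Subgroup A) => genFun A (x : A) := by
      funext x
      unfold genFun
      have h2 := zpowers_subtype_eq_top_iff (⊤ : Subgroup A) (x : A) x.2
      have h3 : Nat.card (⊤ : Subgroup A) = Nat.card A := Subgroup.card_top
      simp only [Subtype.coe_eta] at h2
      simp only [h2, h3]
    rw [h1]
    exact Cfsg.Agent.S0176.indFun_top (genFun A) genFun_isClassFunction
  have hexp : genFun A = (fun _ => (Nat.card A : ℂ))
      - ∑ B ∈ (Finset.univ : Finset (Subgroup A)).erase ⊤, Cfsg.indFun B (genFun B) := by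
    funext a
    have := hsum a
    rw [← Finset.add_sum_erase Finset.univ _ (Finset.mem_univ (⊤ : Subgroup A)), htop] at this
    rw [Pi.sub_apply, Finset.sum_apply, ← this]
    ring
  rw [hexp]
  apply isGenChar_sub (isGenChar_const_nat _)
  apply isGenChar_sum
  intro B hB
  have hBne : B ≠ ⊤ := Finset.ne_of_mem_erase hB
  have : Fintype B := Fintype.ofFinite B
  apply isGenChar_indFun
  apply ih (Nat.card B) _ B rfl
  rw [← hcard]
  have h1 : Nat.card B ≤ Nat.card A := Subgroup.card_le_card_group B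
  have h2 : Nat.card B ≠ Nat.card A := fun h => hBne (Subgroup.eq_top_of_card_eq B h)
  omega

end GenFun

section Products
variable {G : Type u} [Group G]

theorem isCharacter_mul {φ ψ : G → ℂ} (hφ : Cfsg.IsCharacter G φ) (hψ : Cfsg.IsCharacter G ψ) :
    Cfsg.IsCharacter G (φ * ψ) := by
  have h1 := Cfsg.Agent.S0188.isCharacter_prod hφ hψ
  have h2 := isCharacter_comp_hom h1 (MonoidHom.prod (MonoidHom.id G) (MonoidHom.id G))
  exact h2

theorem isGenChar_mul {φ ψ : G → ℂ} (hφ : Cfsg.IsGeneralizedCharacter G φ)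
    (hψ : Cfsg.IsGeneralizedCharacter G ψ) : Cfsg.IsGeneralizedCharacter G (φ * ψ) := by
  obtain ⟨a, b, ha, hb, rfl⟩ := hφ
  obtain ⟨c, d, hc, hd, rfl⟩ := hψ
  refine ⟨a * c + b * d, a * d + b * c, isCharacter_add (isCharacter_mul ha hc) (isCharacter_mul hb hd),
    isCharacter_add (isCharacter_mul ha hd) (isCharacter_mul hb hc), ?_⟩
  ring

/-- The push-pull formula. -/
theorem indFun_mul [Fintype G] (A : Subgroup G) (φ : A → ℂ) (χ : G → ℂ)
    (hχ : Cfsg.IsClassFunction G χ) :
    Cfsg.indFun A φ * χ = Cfsg.indFun A (φ * fun a : A => χ a) := by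
  funext g
  rw [Pi.mul_apply, indFun_apply, indFun_apply, mul_assoc, Finset.sum_mul]
  congr 1
  refine Finset.sum_congr rfl fun x _ => ?_
  by_cases hx : x⁻¹ * g * x ∈ A
  · rw [extendByZero_of_mem _ _ hx, extendByZero_of_mem _ _ hx, Pi.mul_apply]
    congr 1
    have := hχ g x⁻¹
    simp only [inv_inv] at this
    exact this.symm
  · rw [extendByZero_of_notMem _ _ hx, extendByZero_of_notMem _ _ hx, zero_mul]

end Products

section Artin
variable {G : Type u} [Group G] [Fintype G]

/-- Integer combinations of functions induced from homomorphisms of cyclic subgroups. -/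
def IsArtin (f : G → ℂ) : Prop :=
  ∃ l : List ((A : Subgroup G) × ((A →* ℂˣ) × ℤ)), (∀ t ∈ l, IsCyclic t.1) ∧
    f = (l.map fun t => (t.2.2 : ℂ) • Cfsg.indFun t.1 (fun a => (t.2.1 a : ℂ))).sum

theorem isArtin_zero : IsArtin (0 : G → ℂ) := ⟨[], by simp, by simp⟩

theorem isArtin_add {f g : G → ℂ} (hf : IsArtin f) (hg : IsArtin g) : IsArtin (f + g) := by
  obtain ⟨l, hl, rfl⟩ := hf
  obtain ⟨l', hl', rfl⟩ := hg
  refine ⟨l ++ l', ?_, ?_⟩
  · intro t ht
    rcases List.mem_append.1 ht with h | h
    · exact hl t h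
    · exact hl' t h
  · rw [List.map_append, List.sum_append]

theorem isArtin_sum {ι : Type*} (s : Finset ι) (f : ι → G → ℂ) (h : ∀ i ∈ s, IsArtin (f i)) :
    IsArtin (∑ i ∈ s, f i) := by
  classical
  induction s using Finset.induction_on with
  | empty => simpa using isArtin_zero
  | insert a s ha ih =>
    rw [Finset.sum_insert ha]
    exact isArtin_add (h a (Finset.mem_insert_self a s))
      (ih fun i hi => h i (Finset.mem_insert_of_mem hi))

theorem isArtin_single (A : Subgroup G) (hA : IsCyclic A) (lam : A →* ℂˣ) (m : ℤ) :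
    IsArtin ((m : ℂ) • Cfsg.indFun A (fun a => (lam a : ℂ))) :=
  ⟨[⟨A, (lam, m)⟩], by simpa using hA, by simp⟩

/-- Inducing a generalized character of a cyclic subgroup gives an Artin combination. -/
theorem isArtin_indFun_genChar (A : Subgroup G) (hA : IsCyclic A) {ψ : A → ℂ}
    (hψ : Cfsg.IsGeneralizedCharacter A ψ) : IsArtin (Cfsg.indFun A ψ) := by
  classical
  have : Fintype A := Fintype.ofFinite A
  have : Fintype (Cfsg.IrrCharacter A) := Fintype.ofFinite _
  have hm : ∀ χ : Cfsg.IrrCharacter A, ∃ m : ℤ, Cfsg.classInner ψ (χ : A → ℂ) = m :=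
    fun χ => classInner_genChar_int hψ (isGenChar_of_irr χ.2)
  choose m hm using hm
  have hexp := genChar_expansion hψ m hm
  have hcomm : ∀ a b : A, a * b = b * a := by
    intro a b
    obtain ⟨c, hc⟩ := hA.exists_generator
    obtain ⟨i, rfl⟩ := Subgroup.mem_zpowers_iff.1 (hc a)
    obtain ⟨j, rfl⟩ := Subgroup.mem_zpowers_iff.1 (hc b)
    rw [← zpow_add, ← zpow_add, add_comm]
  have hlin : ∀ χ : Cfsg.IrrCharacter A, ∃ φ : A →* ℂˣ, (χ : A → ℂ) = fun g => (φ g : ℂ) :=
    fun χ => exists_hom_of_isIrrCharacter χ.2 (Cfsg.Agent.S0176.irr_linear_of_comm hcomm χ.2)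
  choose φ hφ using hlin
  rw [hexp, indFun_sum]
  apply isArtin_sum
  intro χ _
  rw [indFun_smul, hφ χ]
  exact isArtin_single A hA (φ χ) (m χ)

end Artin

/-- The Artin induction Theorem: for a character χ of a finite group, |G| • χ is a ℤ-linear combination of functions induced from homomorphisms of cyclic subgroups into ℂˣ. -/
theorem result {G : Type*} [Group G] [Fintype G] (χ : G → ℂ) (hχ : Cfsg.IsCharacter G χ) : ∃ l : List ((A : Subgroup G) × ((A →* ℂˣ) × ℤ)), (∀ t ∈ l, IsCyclic t.1) ∧ (Nat.card G : ℂ) • χ = (l.map fun t => (t.2.2 : ℂ) • Cfsg.indFun t.1 (fun a => (t.2.1 a : ℂ))).sum := by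
  classical
  have : Fintype (Subgroup G) := Fintype.ofFinite _
  have hχc := isClassFunction_of_isCharacter hχ
  have h1 : (Nat.card G : ℂ) • χ
      = ∑ A : Subgroup G, Cfsg.indFun A (genFun A * fun a : A => χ a) := by
    have h2 : (∑ A : Subgroup G, Cfsg.indFun A (genFun A)) * χ = (Nat.card G : ℂ) • χ := by
      funext g
      rw [Pi.mul_apply, Finset.sum_apply, sum_indFun_genFun g, Pi.smul_apply, smul_eq_mul]
    rw [← h2, Finset.sum_mul]
    exact Finset.sum_congr rfl fun A _ => indFun_mul A _ χ hχc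
  change IsArtin ((Nat.card G : ℂ) • χ)
  rw [h1]
  apply isArtin_sum
  intro A _
  by_cases hA : IsCyclic A
  · have : Fintype A := Fintype.ofFinite A
    apply isArtin_indFun_genChar A hA
    apply isGenChar_mul (genFun_isGenChar (Nat.card A) A rfl)
    exact isGenChar_of_isCharacter (Cfsg.Agent.S0148.isCharacter_restrict A hχ)
  · have h0 : genFun A = 0 := by
      funext a
      unfold genFun
      rw [if_neg]
      · rfl
      · intro h
        exact hA ((isCyclic_iff_exists_zpowers_eq_top).2 ⟨a, h⟩)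
    rw [h0, zero_mul, indFun_zero]
    exact isArtin_zero

end Cfsg.Agent.S0177
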