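import Cfsg.Statements.S0870
import Mathlib
import Cfsg.Agent.Lib.Helper1.IndFun

set_option autoImplicit false
open Cfsg

namespace Cfsg.Agent.S0870

open Cfsg.Agent.Lib.Helper1

variable {G : Type*} [Group G]

/-- `H ∩ tKt⁻¹`. -/
def cap (H K : Subgroup G) (t : G) : Subgroup G := H ⊓ K.map (MulAut.conj t).toMonoidHom

theorem mem_cap {H K : Subgroup G} {t x : G} : x ∈ cap H K t ↔ x ∈ H ∧ t⁻¹ * x * t ∈ K := by
  unfold cap
  rw [Subgroup.mem_inf, Subgroup.mem_map_equiv, MulAut.conj_symm_apply]

theorem mem_conj {V : Subgroup G} {h x : G} :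
    x ∈ V.map (MulAut.conj h).toMonoidHom ↔ h⁻¹ * x * h ∈ V := by
  rw [Subgroup.mem_map_equiv, MulAut.conj_symm_apply]

theorem ext_one (V : Subgroup G) (y : G) [Decidable (y ∈ V)] :
    Cfsg.extendByZero V (fun _ => (1 : ℂ)) y = if y ∈ V then 1 else 0 := by
  split_ifs with h
  · rw [extendByZero_of_mem V _ h]
  · rw [extendByZero_of_notMem V _ h]

/-- The un-normalised induced function. -/
noncomputable def S [Fintype G] (V : Subgroup G) (g : G) : ℂ :=
  ∑ x : G, Cfsg.extendByZero V (fun _ => (1 : ℂ)) (x⁻¹ * g * x)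

theorem one_eq [Fintype G] (V : Subgroup G) (g : G) :
    Cfsg.indFun V (fun _ => (1 : ℂ)) g = (Nat.card V : ℂ)⁻¹ * S V g := rfl

theorem S_conj [Fintype G] (V : Subgroup G) (h g : G) :
    S (V.map (MulAut.conj h).toMonoidHom) g = S V g := by
  classical
  unfold S
  rw [← Equiv.sum_comp (Equiv.mulRight h)
    (fun x => Cfsg.extendByZero V (fun _ => (1 : ℂ)) (x⁻¹ * g * x))]
  refine Finset.sum_congr rfl fun x _ => ?_
  rw [ext_one, ext_one, Equiv.coe_mulRight]
  have : (x * h)⁻¹ * g * (x * h) = h⁻¹ * (x⁻¹ * g * x) * h := by group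
  rw [this]
  simp only [mem_conj]

theorem card_conj [Finite G] (V : Subgroup G) (h : G) :
    Nat.card (V.map (MulAut.conj h).toMonoidHom) = Nat.card V :=
  Subgroup.card_map_of_injective (MulAut.conj h).injective

theorem one_conj [Fintype G] (V : Subgroup G) (h g : G) :
    Cfsg.indFun (V.map (MulAut.conj h).toMonoidHom) (fun _ => (1 : ℂ)) g =
      Cfsg.indFun V (fun _ => (1 : ℂ)) g := by
  rw [one_eq, one_eq, S_conj, card_conj]

theorem S_mul_S [Fintype G] (H K : Subgroup G) (g : G) :
    S H g * S K g = ∑ t : G, S (cap H K t) g := by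
  classical
  unfold S
  rw [Finset.sum_mul_sum, Finset.sum_comm]
  rw [Finset.sum_comm]
  have : ∀ x : G, ∑ y : G, Cfsg.extendByZero H (fun _ => (1 : ℂ)) (x⁻¹ * g * x) *
      Cfsg.extendByZero K (fun _ => (1 : ℂ)) (y⁻¹ * g * y) =
      ∑ t : G, Cfsg.extendByZero (cap H K t) (fun _ => (1 : ℂ)) (x⁻¹ * g * x) := by
    intro x
    rw [← Equiv.sum_comp (Equiv.mulLeft x)]
    refine Finset.sum_congr rfl fun t _ => ?_
    rw [ext_one, ext_one, ext_one, Equiv.coe_mulLeft]
    have : (x * t)⁻¹ * g * (x * t) = t⁻¹ * (x⁻¹ * g * x) * t := by group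
    rw [this]
    simp only [mem_cap]
    by_cases h1 : x⁻¹ * g * x ∈ H <;> by_cases h2 : t⁻¹ * (x⁻¹ * g * x) * t ∈ K <;> simp [h1, h2]
  rw [Finset.sum_congr rfl (fun x _ => this x), Finset.sum_comm]

/-- The two-sided action of `H × K` on `G`. -/
@[reducible] def dcAction (H K : Subgroup G) : MulAction (H × K) G where
  smul p t := (p.1 : G) * t * ((p.2 : G))⁻¹
  one_smul t := by
    change ((1 : H × K).1 : G) * t * (((1 : H × K).2 : G))⁻¹ = t
    simp
  mul_smul p q t := by
    change ((p * q).1 : G) * t * (((p * q).2 : G))⁻¹ = (p.1 : G) * ((q.1 : G) * t * ((q.2 : G))⁻¹) * ((p.2 : G))⁻¹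
    simp [mul_assoc]

theorem cap_smul (H K : Subgroup G) (p : H × K) (t : G) :
    cap H K ((p.1 : G) * t * ((p.2 : G))⁻¹) = (cap H K t).map (MulAut.conj (p.1 : G)).toMonoidHom := by
  ext x
  rw [mem_conj, mem_cap, mem_cap]
  constructor
  · rintro ⟨h1, h2⟩
    refine ⟨H.mul_mem (H.mul_mem (H.inv_mem p.1.2) h1) p.1.2, ?_⟩
    have := K.mul_mem (K.mul_mem (K.inv_mem p.2.2) h2) p.2.2
    convert this using 1
    group
  · rintro ⟨h1, h2⟩
    refine ⟨?_, ?_⟩
    · have := H.mul_mem (H.mul_mem p.1.2 h1) (H.inv_mem p.1.2)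
      convert this using 1
      group
    · have := K.mul_mem (K.mul_mem p.2.2 h2) (K.inv_mem p.2.2)
      convert this using 1
      group

theorem card_orbit_mul [Finite G] (H K : Subgroup G) (s : G) :
    letI := dcAction H K
    (MulAction.orbit (H × K) s).ncard * Nat.card (cap H K s) = Nat.card H * Nat.card K := by
  letI := dcAction H K
  rw [← MulAction.index_stabilizer, ← Nat.card_prod, ← Subgroup.card_mul_index (MulAction.stabilizer (H × K) s),
    mul_comm]
  congr 1
  symm
  refine Nat.card_congr ?_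
  refine
    { toFun := fun p => ⟨(p.1.1 : G), ?_⟩
      invFun := fun u => ⟨(⟨u.1, (mem_cap.mp u.2).1⟩, ⟨s⁻¹ * u.1 * s, (mem_cap.mp u.2).2⟩), ?_⟩
      left_inv := ?_
      right_inv := ?_ }
  · have h := p.2
    rw [MulAction.mem_stabilizer_iff] at h
    change (p.1.1 : G) * s * ((p.1.2 : G))⁻¹ = s at h
    rw [mem_cap]
    refine ⟨p.1.1.2, ?_⟩
    have : s⁻¹ * (p.1.1 : G) * s = (p.1.2 : G) := by
      have h' : (p.1.1 : G) * s = s * (p.1.2 : G) := mul_inv_eq_iff_eq_mul.mp h
      rw [mul_assoc, h']; group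
    rw [this]; exact p.1.2.2
  · rw [MulAction.mem_stabilizer_iff]
    change (u.1 : G) * s * (s⁻¹ * u.1 * s)⁻¹ = s
    group
  · intro p
    apply Subtype.ext
    apply Prod.ext
    · rfl
    · apply Subtype.ext
      have h := p.2
      rw [MulAction.mem_stabilizer_iff] at h
      change (p.1.1 : G) * s * ((p.1.2 : G))⁻¹ = s at h
      change s⁻¹ * (p.1.1 : G) * s = (p.1.2 : G)
      have h' : (p.1.1 : G) * s = s * (p.1.2 : G) := mul_inv_eq_iff_eq_mul.mp h
      rw [mul_assoc, h']; group
  · intro u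
    rfl

open Classical in
theorem inner_sum [Fintype G] (H K : Subgroup G) (g : G)
    [Fintype (letI := dcAction H K; MulAction.orbitRel.Quotient (H × K) G)]
    (q : letI := dcAction H K; MulAction.orbitRel.Quotient (H × K) G) :
    letI := dcAction H K
    ∑ t ∈ Finset.univ.filter (fun t : G =>
        (Quotient.mk'' t : MulAction.orbitRel.Quotient (H × K) G) = q), S (cap H K t) g =
      (Nat.card H : ℂ) * (Nat.card K : ℂ) *
        Cfsg.indFun (cap H K q.out) (fun _ => (1 : ℂ)) g := by
  classical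
  letI := dcAction H K
  have hmem : ∀ t : G, (Quotient.mk'' t : MulAction.orbitRel.Quotient (H × K) G) = q ↔
      t ∈ MulAction.orbit (H × K) q.out := by
    intro t
    conv_lhs => rw [← Quotient.out_eq' q]
    rw [Quotient.eq'']
    exact MulAction.orbitRel_apply
  have hconst : ∀ t ∈ Finset.univ.filter (fun t : G =>
      (Quotient.mk'' t : MulAction.orbitRel.Quotient (H × K) G) = q),
      S (cap H K t) g = S (cap H K q.out) g := by
    intro t ht
    rw [Finset.mem_filter, hmem] at ht
    obtain ⟨p, hp⟩ := ht.2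
    change (p.1 : G) * q.out * ((p.2 : G))⁻¹ = t at hp
    rw [← hp, cap_smul, S_conj]
  rw [Finset.sum_congr rfl hconst, Finset.sum_const, nsmul_eq_mul, one_eq]
  have hcard : (Finset.univ.filter (fun t : G =>
      (Quotient.mk'' t : MulAction.orbitRel.Quotient (H × K) G) = q)).card =
      (MulAction.orbit (H × K) q.out).ncard := by
    rw [← Set.ncard_coe_finset]
    congr 1
    ext t
    simp only [Finset.coe_filter, Finset.mem_univ, true_and, Set.mem_setOf_eq]
    exact hmem t
  have h2 := card_orbit_mul H K q.out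
  have hne : (Nat.card (cap H K q.out) : ℂ) ≠ 0 := by
    exact_mod_cast Nat.card_pos.ne'
  rw [hcard]
  have h3 : ((MulAction.orbit (H × K) q.out).ncard : ℂ) * (Nat.card (cap H K q.out) : ℂ) =
      (Nat.card H : ℂ) * (Nat.card K : ℂ) := by exact_mod_cast h2
  rw [← h3]
  field_simp

/-- For subgroups H and K of a finite group G, the pointwise product of the functions induced from the constant function 1 on H and on K is a sum, over subgroups U of H with natural-number coefficients, of the functions induced from the constant function 1 on U. -/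
theorem result {G : Type*} [Group G] [Fintype G] (H K : Subgroup G) : ∃ a : Subgroup G → ℕ, (∀ U, a U ≠ 0 → U ≤ H) ∧ Cfsg.indFun H (fun _ => 1) * Cfsg.indFun K (fun _ => 1) = ∑ U : Subgroup G, (a U : ℂ) • Cfsg.indFun U (fun _ => 1) := by
  classical
  letI := dcAction H K
  haveI : Fintype (MulAction.orbitRel.Quotient (H × K) G) := Fintype.ofFinite _
  refine ⟨fun U => (Finset.univ.filter
    (fun q : MulAction.orbitRel.Quotient (H × K) G => cap H K q.out = U)).card, ?_, ?_⟩
  · intro U hU
    obtain ⟨q, hq⟩ := Finset.card_pos.mp (Nat.pos_of_ne_zero hU)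
    rw [Finset.mem_filter] at hq
    rw [← hq.2]; exact inf_le_left
  · funext g
    rw [Pi.mul_apply, one_eq, one_eq, Finset.sum_apply]
    have hR : ∑ U : Subgroup G, (((Finset.univ.filter
        (fun q : MulAction.orbitRel.Quotient (H × K) G => cap H K q.out = U)).card : ℂ) •
          Cfsg.indFun U (fun _ => (1 : ℂ))) g =
        ∑ q : MulAction.orbitRel.Quotient (H × K) G,
          Cfsg.indFun (cap H K q.out) (fun _ => (1 : ℂ)) g := by
      rw [← Finset.sum_fiberwise Finset.univ
        (fun q : MulAction.orbitRel.Quotient (H × K) G => cap H K q.out)]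
      refine Finset.sum_congr rfl fun U _ => ?_
      rw [Pi.smul_apply, smul_eq_mul, ← nsmul_eq_mul, ← Finset.sum_const]
      refine Finset.sum_congr rfl fun q hq => ?_
      rw [Finset.mem_filter] at hq
      rw [hq.2]
    rw [hR]
    have hL : S H g * S K g = (Nat.card H : ℂ) * (Nat.card K : ℂ) *
        ∑ q : MulAction.orbitRel.Quotient (H × K) G,
          Cfsg.indFun (cap H K q.out) (fun _ => (1 : ℂ)) g := by
      rw [S_mul_S, ← Finset.sum_fiberwise Finset.univ
        (fun t : G => (Quotient.mk'' t : MulAction.orbitRel.Quotient (H × K) G)), Finset.mul_sum]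
      refine Finset.sum_congr rfl fun q _ => ?_
      exact inner_sum H K g q
    have hH : (Nat.card H : ℂ) ≠ 0 := by exact_mod_cast Nat.card_pos.ne'
    have hK : (Nat.card K : ℂ) ≠ 0 := by exact_mod_cast Nat.card_pos.ne'
    calc (Nat.card H : ℂ)⁻¹ * S H g * ((Nat.card K : ℂ)⁻¹ * S K g)
        = (Nat.card H : ℂ)⁻¹ * (Nat.card K : ℂ)⁻¹ * (S H g * S K g) := by ring
      _ = _ := by rw [hL]; field_simp

end Cfsg.Agent.S0870
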