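import Mathlib
import Cfsg.Statements.S0190
import Cfsg.Agent.Lib.Helper1.IndFun

set_option autoImplicit false
open Cfsg

namespace Cfsg.Agent.S0190

open Cfsg.Agent.Lib.Helper1

/-- Summing over the group a function of `y • x` is `|Stab x|` times the sum over the set. -/
theorem sum_smul_eq {G : Type*} [Group G] [Fintype G] {X : Type*} [MulAction G X] [Fintype X]
    [MulAction.IsPretransitive G X] (x : X) (f : X → ℂ) :
    ∑ y : G, f (y • x) = (Nat.card (MulAction.stabilizer G x) : ℂ) * ∑ z : X, f z := by
  classical
  rw [← Finset.sum_fiberwise (Finset.univ : Finset G) (fun y => y • x) (fun y => f (y • x))]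
  rw [Finset.mul_sum]
  refine Finset.sum_congr rfl fun z _ => ?_
  have h1 : ∑ y ∈ Finset.univ.filter (fun y : G => y • x = z), f (y • x)
      = ∑ y ∈ Finset.univ.filter (fun y : G => y • x = z), f z := by
    refine Finset.sum_congr rfl fun y hy => ?_
    rw [(Finset.mem_filter.1 hy).2]
  rw [h1, Finset.sum_const, nsmul_eq_mul]
  congr 1
  obtain ⟨y₀, hy₀⟩ := MulAction.exists_smul_eq G x z
  have hc : (Finset.univ.filter (fun y : G => y • x = x)).card
      = (Finset.univ.filter (fun y : G => y • x = z)).card := by
    apply Finset.card_equiv (Equiv.mulLeft y₀)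
    intro y
    simp only [Finset.mem_filter, Finset.mem_univ, true_and, Equiv.coe_mulLeft, mul_smul]
    constructor
    · intro h; rw [h, hy₀]
    · intro h
      rw [← hy₀] at h
      exact MulAction.injective y₀ h
  rw [← hc]
  congr 1
  symm
  apply Nat.subtype_card
  intro y
  simp [MulAction.mem_stabilizer_iff]

/-- For a transitive action of a finite group on X, the permutation character g ↦ (number of fixed points of g) is the function induced from the principal character of the stabilizer of any point. -/
theorem result {G : Type*} [Group G] [Fintype G] (X : Type*) [MulAction G X] [Finite X] [MulAction.IsPretransitive G X] (x : X) : (fun g : G => (Nat.card (MulAction.fixedBy X g) : ℂ)) = Cfsg.indFun (MulAction.stabilizer G x) (fun _ => 1) := by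
  classical
  have : Fintype X := Fintype.ofFinite X
  funext g
  rw [indFun_apply]
  have hS0 : (Nat.card (MulAction.stabilizer G x) : ℂ) ≠ 0 := Nat.cast_ne_zero.mpr Nat.card_pos.ne'
  have hterm : ∀ y : G, Cfsg.extendByZero (MulAction.stabilizer G x) (fun _ => 1) (y⁻¹ * g * y)
      = (fun z : X => if g • z = z then (1 : ℂ) else 0) (y • x) := by
    intro y
    have hiff : y⁻¹ * g * y ∈ MulAction.stabilizer G x ↔ g • (y • x) = y • x := by
      rw [MulAction.mem_stabilizer_iff, mul_smul, mul_smul, inv_smul_eq_iff]
    by_cases h : g • (y • x) = y • x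
    · rw [extendByZero_of_mem _ _ (hiff.2 h)]
      simp [h]
    · rw [extendByZero_of_notMem _ _ (fun h' => h (hiff.1 h'))]
      simp [h]
  rw [Finset.sum_congr rfl fun y _ => hterm y,
    sum_smul_eq x (fun z : X => if g • z = z then (1 : ℂ) else 0)]
  rw [← mul_assoc, inv_mul_cancel₀ hS0, one_mul, Finset.sum_boole]
  congr 1
  apply Nat.subtype_card
  intro y
  simp [MulAction.mem_fixedBy]

end Cfsg.Agent.S0190
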