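import Cfsg.Statements.S0871
import Mathlib
import Cfsg.Agent.S0190
import Cfsg.Agent.Lib.Helper1.IndFun
import Cfsg.Agent.Lib.Helper6.Conj2
import Cfsg.Agent.Lib.Lead.HallTools

set_option autoImplicit false
open Cfsg

namespace Cfsg.Agent.S0871


open Cfsg.Agent.Lib.Helper1 in
theorem ext_one' {G : Type*} [Group G] (V : Subgroup G) (y : G) [Decidable (y ∈ V)] :
    Cfsg.extendByZero V (fun _ => (1 : ℂ)) y = if y ∈ V then 1 else 0 := by
  split_ifs with h
  · rw [extendByZero_of_mem V _ h]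
  · rw [extendByZero_of_notMem V _ h]

open Cfsg.Agent.Lib.Helper1 in
/-- the induced principal function computed inside a subgroup `N` containing every `g` with
`g⁻¹xg ∈ H` -/
theorem indFun_one_restrict {G : Type*} [Group G] [Fintype G] (H N : Subgroup G) [Fintype N]
    (hHN : H ≤ N) (x : G) (hx : x ∈ N) (hN : ∀ g : G, g⁻¹ * x * g ∈ H → g ∈ N) :
    Cfsg.indFun H (fun _ => (1 : ℂ)) x =
      Cfsg.indFun (H.subgroupOf N) (fun _ => (1 : ℂ)) (⟨x, hx⟩ : N) := by
  classical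
  rw [indFun_apply, indFun_apply]
  have hcard : Nat.card (H.subgroupOf N) = Nat.card H :=
    Nat.card_congr (Subgroup.subgroupOfEquivOfLe hHN).toEquiv
  rw [hcard]
  congr 1
  have h1 : ∀ g : G, Cfsg.extendByZero H (fun _ => (1 : ℂ)) (g⁻¹ * x * g)
      = if g⁻¹ * x * g ∈ H then 1 else 0 := fun g => ext_one' H _
  have h2 : ∀ g : N, Cfsg.extendByZero (H.subgroupOf N) (fun _ => (1 : ℂ)) (g⁻¹ * (⟨x, hx⟩ : N) * g)
      = if (g : G)⁻¹ * x * g ∈ H then 1 else 0 := by
    intro g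
    rw [ext_one']
    simp only [Subgroup.mem_subgroupOf, Subgroup.coe_mul, Subgroup.coe_inv]
  rw [Finset.sum_congr rfl (fun g _ => h1 g), Finset.sum_congr rfl (fun g _ => h2 g)]
  have h3 : ∑ g : G, (if g⁻¹ * x * g ∈ H then (1 : ℂ) else 0)
      = ∑ g ∈ Finset.univ.filter (fun g : G => g ∈ N), (if g⁻¹ * x * g ∈ H then (1 : ℂ) else 0) := by
    symm
    apply Finset.sum_filter_of_ne
    intro g _ hg
    by_contra hgN
    apply hg
    rw [if_neg (fun h => hgN (hN g h))]
  rw [h3]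
  exact Finset.sum_subtype (Finset.univ.filter (fun g : G => g ∈ N)) (by simp)
    (fun g : G => if g⁻¹ * x * g ∈ H then (1 : ℂ) else 0)

/-- the permutation character on cosets as an induced principal function -/
theorem indFun_one_eq_card_fixedBy {G : Type*} [Group G] [Fintype G] (H : Subgroup G) (g : G) :
    Cfsg.indFun H (fun _ => (1 : ℂ)) g = (Nat.card (MulAction.fixedBy (G ⧸ H) g) : ℂ) := by
  have h := congrFun (Cfsg.Agent.S0190.result (G := G) (G ⧸ H) ((1 : G) : G ⧸ H)) g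
  have hst : MulAction.stabilizer G ((1 : G) : G ⧸ H) = H := by
    ext y
    rw [MulAction.mem_stabilizer_iff, MulAction.Quotient.smul_coe, smul_eq_mul, mul_one,
      eq_comm, QuotientGroup.eq]
    simp
  have key : ∀ (K : Subgroup G) (hK : K = H),
      Cfsg.indFun K (fun _ => (1 : ℂ)) g = Cfsg.indFun H (fun _ => (1 : ℂ)) g := by
    intro K hK; subst hK; rfl
  exact (key _ hst).symm.trans h.symm

/-- Let x be an element of the finite group G and p a prime. Then there is a subgroup H having a cyclic normal subgroup C of order prime to p and p-power index in H, such that the value at x of the function induced from the constant function 1 on H is a natural number not divisible by p. -/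
theorem result {G : Type*} [Group G] [Fintype G] (x : G) (p : ℕ) (hp : p.Prime) : ∃ H : Subgroup G, (∃ C : Subgroup G, C ≤ H ∧ H ≤ Subgroup.normalizer (C : Set G) ∧ IsCyclic C ∧ Nat.Coprime (Nat.card C) p ∧ ∃ k : ℕ, C.relIndex H = p ^ k) ∧ ∃ n : ℕ, Cfsg.indFun H (fun _ => 1) x = (n : ℂ) ∧ ¬ p ∣ n := by
  classical
  haveI hpf : Fact p.Prime := ⟨hp⟩
  obtain ⟨a, m, hm, hord⟩ := Nat.exists_eq_pow_mul_and_not_dvd (orderOf_pos x).ne' p hp.ne_one
  obtain ⟨C, hC⟩ : ∃ C : Subgroup G, C = Subgroup.zpowers (x ^ (p ^ a)) := ⟨_, rfl⟩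
  have hordC : orderOf (x ^ (p ^ a)) = m := by
    rw [orderOf_pow_of_dvd (pow_ne_zero a hp.ne_zero) (Dvd.intro _ hord.symm), hord,
      Nat.mul_div_cancel_left _ (pow_pos hp.pos a)]
  have hCcard : Nat.card C = m := by rw [hC, Nat.card_zpowers, hordC]
  have hCcop : (Nat.card C).Coprime p := by
    rw [hCcard]; exact ((Nat.Prime.coprime_iff_not_dvd hp).mpr hm).symm
  have hCx : C ≤ Subgroup.zpowers x := by
    rw [hC, Subgroup.zpowers_le]; exact Subgroup.pow_mem _ (Subgroup.mem_zpowers x) _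
  have hCcyc : IsCyclic C := by rw [hC]; infer_instance
  obtain ⟨N, hN⟩ : ∃ N : Subgroup G, N = Subgroup.normalizer (C : Set G) := ⟨_, rfl⟩
  have hxN : x ∈ N := by
    rw [hN]
    apply Cfsg.Agent.Lib.Helper6.mem_normalizer_of_forall_conj_mem
    intro s hs
    obtain ⟨k, rfl⟩ := Subgroup.mem_zpowers_iff.mp (hCx hs)
    have : x * x ^ k * x⁻¹ = x ^ k := by
      rw [mul_assoc, ← zpow_neg_one, ← zpow_add, ← zpow_one_add]; congr 1; ring
    rw [this]; exact hs
  have hCN : C ≤ N := by rw [hN]; exact Subgroup.le_normalizer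
  haveI hCNn : (C.subgroupOf N).Normal := by rw [hN]; exact Subgroup.normal_in_normalizer
  obtain ⟨xb, hxb⟩ : ∃ xb : ↥N ⧸ C.subgroupOf N, xb = QuotientGroup.mk' (C.subgroupOf N) ⟨x, hxN⟩ := ⟨_, rfl⟩
  have hxbpow : xb ^ (p ^ a) = 1 := by
    rw [hxb, ← map_pow, QuotientGroup.mk'_apply, QuotientGroup.eq_one_iff, Subgroup.mem_subgroupOf]
    simp only [Subgroup.coe_pow]
    rw [hC]; exact Subgroup.mem_zpowers _
  have hzp : IsPGroup p (Subgroup.zpowers xb) := by
    rintro ⟨y, hy⟩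
    obtain ⟨k, rfl⟩ := Subgroup.mem_zpowers_iff.mp hy
    refine ⟨a, Subtype.ext ?_⟩
    simp only [Subgroup.coe_pow, Subgroup.coe_one]
    rw [← zpow_natCast, ← zpow_mul, mul_comm, zpow_mul, zpow_natCast, hxbpow, one_zpow]
  obtain ⟨Q, hQ⟩ := hzp.exists_le_sylow
  obtain ⟨HN, hHN⟩ : ∃ HN : Subgroup ↥N, HN = (Q : Subgroup (↥N ⧸ C.subgroupOf N)).comap
      (QuotientGroup.mk' (C.subgroupOf N)) := ⟨_, rfl⟩
  obtain ⟨H, hH⟩ : ∃ H : Subgroup G, H = HN.map N.subtype := ⟨_, rfl⟩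
  have hHle : H ≤ N := by rw [hH]; rintro _ ⟨y, _, rfl⟩; exact y.2
  have hHsub : H.subgroupOf N = HN := by
    rw [hH, Subgroup.subgroupOf, Subgroup.comap_map_eq_self_of_injective N.subtype_injective]
  have hmemH : ∀ y : G, y ∈ H ↔ ∃ hy : y ∈ N, QuotientGroup.mk' (C.subgroupOf N) ⟨y, hy⟩ ∈ Q := by
    intro y
    rw [hH]
    constructor
    · rintro ⟨z, hz, rfl⟩
      rw [hHN] at hz
      exact ⟨z.2, hz⟩
    · rintro ⟨hy, hq⟩
      refine ⟨⟨y, hy⟩, ?_, rfl⟩
      rw [hHN]; exact hq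
  have hCH : C ≤ H := by
    intro c hc
    rw [hmemH]
    refine ⟨hCN hc, ?_⟩
    have : QuotientGroup.mk' (C.subgroupOf N) ⟨c, hCN hc⟩ = 1 := by
      rw [QuotientGroup.mk'_apply, QuotientGroup.eq_one_iff, Subgroup.mem_subgroupOf]; exact hc
    rw [this]; exact Subgroup.one_mem _
  have hxH : x ∈ H := by
    rw [hmemH]
    refine ⟨hxN, ?_⟩
    rw [← hxb]; exact hQ (Subgroup.mem_zpowers xb)
  have hcardHN : Nat.card HN = Nat.card (Q : Subgroup (↥N ⧸ C.subgroupOf N)) * Nat.card C := by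
    rw [hHN, Cfsg.Agent.Lib.Lead.card_comap_mk]
    congr 1
    exact Nat.card_congr (Subgroup.subgroupOfEquivOfLe hCN).toEquiv
  have hcardH : Nat.card H = Nat.card HN := by
    rw [hH]; exact Subgroup.card_map_of_injective N.subtype_injective
  obtain ⟨k, hk⟩ := (IsPGroup.iff_card).mp Q.isPGroup'
  have hrel : C.relIndex H = p ^ k := by
    have h1 := Subgroup.relIndex_mul_relIndex ⊥ C H bot_le hCH
    rw [Subgroup.relIndex_bot_left, Subgroup.relIndex_bot_left, hcardH, hcardHN, hk, mul_comm] at h1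
    exact Nat.eq_of_mul_eq_mul_right Nat.card_pos h1
  have hidx : ¬ p ∣ HN.index := by
    rw [hHN, Subgroup.index_comap_of_surjective _ (QuotientGroup.mk'_surjective _)]
    exact Q.not_dvd_index
  -- the key claim
  have hkey : ∀ g : G, g⁻¹ * x * g ∈ H → g ∈ N := by
    intro g hg
    have hginv : g⁻¹ ∈ N := by
      rw [hN]
      apply Cfsg.Agent.Lib.Helper6.mem_normalizer_of_forall_conj_mem
      intro c hc
      rw [inv_inv]
      obtain ⟨j, rfl⟩ := Subgroup.mem_zpowers_iff.mp (hCx hc)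
      have hd : g⁻¹ * x ^ j * g ∈ H := by
        have : g⁻¹ * x ^ j * g = (g⁻¹ * x * g) ^ j := by
          have := (conj_zpow (a := g⁻¹) (b := x) (i := j))
          rw [inv_inv] at this
          exact this.symm
        rw [this]; exact Subgroup.zpow_mem _ hg _
      obtain ⟨hdN, hdQ⟩ := (hmemH _).mp hd
      -- image in the quotient has order both a p-power and prime to p
      obtain ⟨e, he⟩ := (IsPGroup.iff_orderOf.mp Q.isPGroup') ⟨_, hdQ⟩
      rw [Subgroup.orderOf_mk] at he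
      have hdvd1 : orderOf (QuotientGroup.mk' (C.subgroupOf N) ⟨g⁻¹ * x ^ j * g, hdN⟩) ∣
          orderOf (⟨g⁻¹ * x ^ j * g, hdN⟩ : ↥N) := orderOf_map_dvd _ _
      have hdvd2 : orderOf (⟨g⁻¹ * x ^ j * g, hdN⟩ : ↥N) ∣ Nat.card C := by
        rw [Subgroup.orderOf_mk]
        have : orderOf (g⁻¹ * x ^ j * g) = orderOf (x ^ j) := by
          have := orderOf_injective (MulAut.conj g⁻¹).toMonoidHom (MulAut.conj g⁻¹).injective (x ^ j)
          simp only [MulEquiv.toMonoidHom_eq_coe, MonoidHom.coe_coe, MulAut.conj_apply, inv_inv] at this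
          exact this
        rw [this]
        have := orderOf_dvd_natCard (⟨x ^ j, hc⟩ : C)
        rwa [Subgroup.orderOf_mk] at this
      have hcop' : (p ^ e).Coprime p := by
        rw [← he]
        exact Nat.Coprime.coprime_dvd_left (hdvd1.trans hdvd2) hCcop
      have he0 : e = 0 := by
        by_contra hne
        have : p ∣ Nat.gcd (p ^ e) p := Nat.dvd_gcd (dvd_pow_self p hne) dvd_rfl
        rw [hcop'] at this
        exact hp.one_lt.ne' (Nat.dvd_one.mp this)
      rw [he0, pow_zero, orderOf_eq_one_iff, QuotientGroup.mk'_apply, QuotientGroup.eq_one_iff,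
        Subgroup.mem_subgroupOf] at he
      exact he
    have := Subgroup.inv_mem _ hginv
    rwa [inv_inv] at this
  haveI : Fintype ↥N := Fintype.ofFinite _
  refine ⟨H, ⟨C, hCH, ?_, hCcyc, hCcop, k, hrel⟩, ?_⟩
  · rw [← hN]; exact hHle
  rw [indFun_one_restrict H N hHle x hxN hkey, hHsub, indFun_one_eq_card_fixedBy]
  refine ⟨_, rfl, ?_⟩
  -- fixed points of a permutation of p-power order
  haveI : Fintype (↥N ⧸ HN) := Fintype.ofFinite _
  obtain ⟨σ, hσ⟩ : ∃ σ : Equiv.Perm (↥N ⧸ HN), σ = MulAction.toPerm (⟨x, hxN⟩ : ↥N) := ⟨_, rfl⟩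
  have hσpow : σ ^ (p ^ a) = 1 := by
    have hσ' : σ ^ (p ^ a) = MulAction.toPerm ((⟨x, hxN⟩ : ↥N) ^ (p ^ a)) := by
      rw [hσ]; exact (map_pow (MulAction.toPermHom ↥N (↥N ⧸ HN)) _ _).symm
    rw [hσ']
    ext q
    obtain ⟨g, rfl⟩ := QuotientGroup.mk_surjective q
    simp only [MulAction.toPerm_apply, Equiv.Perm.coe_one, id_eq]
    rw [MulAction.Quotient.smul_mk, QuotientGroup.eq, smul_eq_mul]
    -- ((x')^(p^a) * g)⁻¹ * g ∈ HN
    rw [hHN, Subgroup.mem_comap]
    have hc : (⟨x, hxN⟩ : ↥N) ^ (p ^ a) ∈ C.subgroupOf N := by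
      rw [Subgroup.mem_subgroupOf]
      simp only [Subgroup.coe_pow]
      rw [hC]; exact Subgroup.mem_zpowers _
    have : QuotientGroup.mk' (C.subgroupOf N) (((⟨x, hxN⟩ : ↥N) ^ (p ^ a) * g)⁻¹ * g) = 1 := by
      rw [QuotientGroup.mk'_apply, QuotientGroup.eq_one_iff]
      have e : ((⟨x, hxN⟩ : ↥N) ^ (p ^ a) * g)⁻¹ * g = g⁻¹ * ((⟨x, hxN⟩ : ↥N) ^ (p ^ a))⁻¹ * g := by group
      rw [e]
      have := hCNn.conj_mem _ (Subgroup.inv_mem _ hc) g⁻¹
      rwa [inv_inv] at this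
    rw [this]; exact Subgroup.one_mem _
  have hmod := Equiv.Perm.card_compl_support_modEq (p := p) (n := a) hσpow
  have hfix : Nat.card (MulAction.fixedBy (↥N ⧸ HN) (⟨x, hxN⟩ : ↥N)) = (σ.support)ᶜ.card := by
    rw [← Fintype.card_coe, ← Nat.card_eq_fintype_card]
    apply Nat.card_congr
    refine Equiv.subtypeEquivRight ?_
    intro q
    rw [MulAction.mem_fixedBy, Finset.mem_compl, Equiv.Perm.notMem_support, hσ, MulAction.toPerm_apply]
  rw [hfix]
  intro hdvd
  apply hidx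
  have h1 : Fintype.card (↥N ⧸ HN) = HN.index := by
    rw [← Nat.card_eq_fintype_card]; rfl
  rw [← h1]
  exact (Nat.modEq_zero_iff_dvd.mp (hmod.symm.trans (Nat.modEq_zero_iff_dvd.mpr hdvd)))

end Cfsg.Agent.S0871
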