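import Cfsg.Statements.S0873
import Mathlib
import Cfsg.Agent.Lib.Helper1.LinearChar

set_option autoImplicit false
open Cfsg

namespace Cfsg.Agent.S0873

open Cfsg.Agent.Lib.Helper1

/-- Let C be a normal subgroup of the finite group G of order prime to p and P a p-subgroup with C ⊔ P = G. Let λ be a character of C of degree 1 invariant under conjugation by G and equal to 1 at every element of C centralized by P. Then λ is identically 1. -/
theorem result {G : Type*} [Group G] [Finite G] (p : ℕ) [Fact p.Prime] (C P : Subgroup G) [hC : C.Normal] (hP : IsPGroup p P) (hcop : Nat.Coprime (Nat.card C) p) (hCP : C ⊔ P = ⊤) (lam : C → ℂ) (hlam : Cfsg.IsCharacter C lam ∧ lam 1 = 1) (hinv : ∀ (g : G) (c : C), lam ⟨g * c * g⁻¹, hC.conj_mem (c : G) c.2 g⟩ = lam c) (hker : ∀ c : C, (c : G) ∈ Subgroup.centralizer (P : Set G) → lam c = 1) : lam = fun _ => 1 := by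
  classical
  obtain ⟨⟨n, ρ, hρ⟩, h1⟩ := hlam
  subst hρ
  have hn : n = 1 := by
    rw [Representation.char_one] at h1
    simpa using h1
  subst hn
  have hmul : ∀ a b : C, ρ.character (a * b) = ρ.character a * ρ.character b :=
    character_mul_of_dim_one ρ
  let ψ : C →* ℂ :=
    { toFun := ρ.character
      map_one' := h1
      map_mul' := hmul }
  -- the kernel
  let K : Subgroup C := ψ.toHomUnits.ker
  have hK : ∀ k : C, k ∈ K ↔ ρ.character k = 1 := by
    intro k
    rw [MonoidHom.mem_ker]
    constructor
    · intro h
      have := congrArg (fun u : ℂˣ => (u : ℂ)) h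
      exact this
    · intro h
      apply Units.ext
      exact h
  have hKcard : ¬ p ∣ Nat.card K := by
    intro hdvd
    have h2 : p ∣ Nat.card C := hdvd.trans (Subgroup.card_subgroup_dvd_card K)
    have := Nat.Coprime.eq_one_of_dvd hcop.symm h2
    exact (Fact.out : p.Prime).one_lt.ne' this
  -- the action of P on C
  letI : MulAction P C := MulAction.compHom C ((MulAut.conjNormal (H := C)).comp P.subtype)
  have hsmul : ∀ (g : P) (x : C), ((g • x : C) : G) = (g : G) * x * (g : G)⁻¹ := by
    intro g x
    rfl
  funext c
  let X : SubMulAction P C :=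
    { carrier := {x | ρ.character x = ρ.character c}
      smul_mem' := by
        intro g x hx
        change ρ.character (g • x) = ρ.character c
        rw [← hx]
        have := hinv (g : G) x
        convert this using 2
        exact Subtype.ext (hsmul g x) }
  have hXcard : Nat.card X = Nat.card K := by
    refine Nat.card_congr ?_
    refine
      { toFun := fun x => ⟨c⁻¹ * x.1, ?_⟩
        invFun := fun k => ⟨c * k.1, ?_⟩
        left_inv := ?_
        right_inv := ?_ }
    · rw [hK, hmul]
      have hx : ρ.character x.1 = ρ.character c := x.2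
      rw [hx, ← hmul, inv_mul_cancel, h1]
    · change ρ.character (c * k.1) = ρ.character c
      rw [hmul, (hK k.1).mp k.2, mul_one]
    · intro x; apply Subtype.ext; simp
    · intro k; apply Subtype.ext; simp
  haveI : Finite X := Finite.of_injective (fun x : X => x.1) Subtype.val_injective
  obtain ⟨x, hx⟩ := hP.nonempty_fixed_point_of_prime_not_dvd_card X (by rw [hXcard]; exact hKcard)
  have hxc : ((x : C) : G) ∈ Subgroup.centralizer (P : Set G) := by
    rw [Subgroup.mem_centralizer_iff]
    intro g hg
    have h2 := hx ⟨g, hg⟩
    have h3 : (((⟨g, hg⟩ : P) • (x : C) : C) : G) = ((x : C) : G) := by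
      have := congrArg (fun y : X => ((y : C) : G)) h2
      exact this
    rw [hsmul] at h3
    change g * ((x : C) : G) * g⁻¹ = ((x : C) : G) at h3
    have h6 : g * ((x : C) : G) = ((x : C) : G) * g := by
      calc g * ((x : C) : G) = g * ((x : C) : G) * g⁻¹ * g := by group
        _ = ((x : C) : G) * g := by rw [h3]
    exact h6
  have h4 := hker x hxc
  have h5 : ρ.character x = ρ.character c := x.2
  rw [← h5, h4]

end Cfsg.Agent.S0873
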