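import Cfsg.Statements.S0164
import Mathlib
import Mathlib
import Cfsg.Agent.Lib.Helper2.BrauerInd

set_option autoImplicit false
open Cfsg

namespace Cfsg.Agent.S0164

/-- Brauer's characterisation of characters: a class function on a finite group whose restriction to every elementary subgroup is a generalized character is a generalized character. -/
theorem result {G : Type*} [Group G] [Finite G] (θ : G → ℂ) (hθ : Cfsg.IsClassFunction G θ) (hE : ∀ (E : Subgroup G) (p : ℕ), p.Prime → Cfsg.IsElementary p E → Cfsg.IsGeneralizedCharacter E (fun e : E => θ e)) : Cfsg.IsGeneralizedCharacter G θ := by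
  classical
  haveI : Fintype G := Fintype.ofFinite G
  have key : ∀ f : G → ℂ, f ∈ Cfsg.Agent.Lib.Helper2.BrauerInd.linSpan (G := G) →
      Cfsg.IsGeneralizedCharacter G (f * θ) := by
    intro f hf
    induction hf using AddSubgroup.closure_induction with
    | mem f hf =>
      obtain ⟨E, lam, ⟨p, hp, hEl⟩, rfl⟩ := hf
      rw [Cfsg.Agent.S0177.indFun_mul E _ θ hθ]
      apply Cfsg.Agent.S0177.isGenChar_indFun
      apply Cfsg.Agent.S0177.isGenChar_mul _ (hE E p hp hEl)
      exact Cfsg.Agent.Lib.Helper4.isGenChar_of_irr (Cfsg.Agent.Lib.Helper1.isIrrCharacter_of_hom lam)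
    | zero =>
      rw [zero_mul]
      exact Cfsg.Agent.Lib.Helper4.isGenChar_zero
    | add x y _ _ hx hy =>
      rw [add_mul]
      exact Cfsg.Agent.Lib.Helper4.isGenChar_add hx hy
    | neg x _ hx =>
      rw [neg_mul]
      exact Cfsg.Agent.Lib.Helper4.isGenChar_neg hx
  have h1 := key _ Cfsg.Agent.Lib.Helper2.BrauerInd.one_mem_linSpan
  have h2 : (fun _ : G => (1 : ℂ)) * θ = θ := by
    funext x
    rw [Pi.mul_apply, one_mul]
  rw [h2] at h1
  exact h1

end Cfsg.Agent.S0164
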