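import Mathlib
import Cfsg.Statements.S4658
import Cfsg.Agent.Lib.Helper8.BlockPairs2

set_option autoImplicit false
open Cfsg

namespace Cfsg.Agent.S4658

open scoped ComplexConjugate
open Cfsg.Agent.Lib.Helper1 Cfsg.Agent.Lib.Helper4 Cfsg.Agent.Lib.Helper8

/-- Fix a prime p and a maximal ideal M of the algebraic integers containing p. Let (Q, f) ≤ (P, e) be Brauer pairs of the finite group G and B a p-block of G. Then (P, e) is a Brauer pair of B if and only if (Q, f) is. -/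
theorem result {G : Type*} [Group G] [Fintype G] (p : ℕ) [Fact p.Prime] (M : Ideal Cfsg.AlgInt) (hM : Cfsg.IsPModular p M) (P Q : Subgroup G) (e : Set (Cfsg.IrrCharacter (Subgroup.centralizer (P : Set G)))) (f : Set (Cfsg.IrrCharacter (Subgroup.centralizer (Q : Set G)))) (hPe : Cfsg.IsBrauerPair p M P e) (hQf : Cfsg.IsBrauerPair p M Q f) (hle : Cfsg.SubpairLE p M Q f P e) (B : Set (Cfsg.IrrCharacter G)) (hB : Cfsg.IsPBlock M B) : Cfsg.IsBrauerPairOf p M B P e ↔ Cfsg.IsBrauerPairOf p M B Q f := by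
  classical
  have key : ∀ (Q' P' : Subgroup G) (f' : Set (Cfsg.IrrCharacter (Subgroup.centralizer (Q' : Set G))))
      (e' : Set (Cfsg.IrrCharacter (Subgroup.centralizer (P' : Set G)))),
      Cfsg.IsNormalSubpair p M Q' f' P' e' →
      (Cfsg.IsBrauerPairOf p M B Q' f' ↔ Cfsg.IsBrauerPairOf p M B P' e') := by
    intro Q' P' f' e' hn
    obtain ⟨hQf', hPe', hQP, hPN, hstab, h3⟩ := hn
    have hfwd : ∀ B' : Set (Cfsg.IrrCharacter G), Cfsg.IsBrauerPairOf p M B' Q' f' →
        Cfsg.IsBrauerPairOf p M B' P' e' := by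
      rintro B' ⟨_, hB', h1⟩
      refine ⟨hPe', hB', fun ξ hξ => ?_⟩
      exact normal_step hM P' Q' hPe'.1 hQP hPN hB' hQf'.2 h1
        (fun u hu x => subgroupBlockCoeff_conj_of_stabilizes _ f' (hstab u hu) x) ξ (h3 ξ hξ)
    constructor
    · exact hfwd B
    · intro hP'
      obtain ⟨B₁, hB₁, _⟩ := existsUnique_isBrauerPairOf hM Q' f' hQf'
      have h1 := hfwd B₁ hB₁
      obtain ⟨B₂, _, huniq⟩ := existsUnique_isBrauerPairOf hM P' e' hPe'
      have : B = B₁ := (huniq B hP').trans (huniq B₁ h1).symm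
      rw [this]
      exact hB₁
  have gen : ∀ a b : Cfsg.BrauerPairIdx G, Relation.ReflTransGen (Cfsg.NormalSubpairRel p M) a b →
      (Cfsg.IsBrauerPairOf p M B a.1 a.2 ↔ Cfsg.IsBrauerPairOf p M B b.1 b.2) := by
    intro a b hab
    induction hab with
    | refl => exact Iff.rfl
    | tail _ hstep ih => exact ih.trans (key _ _ _ _ hstep)
  exact (gen ⟨Q, f⟩ ⟨P, e⟩ hle).symm

end Cfsg.Agent.S4658
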