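import Mathlib
import Cfsg.Statements.S0156
import Cfsg.Agent.Lib.Helper1.CharFound5
import Cfsg.Agent.S0155

set_option autoImplicit false
open Cfsg

namespace Cfsg.Agent.S0156

open Cfsg.Agent.Lib.Helper1 Cfsg.Agent.Lib.Helper4
open scoped ComplexConjugate

theorem irr_apply_one_conj {G : Type*} [Group G] {χ : G → ℂ} (h : Cfsg.IsIrrCharacter G χ) :
    conj (χ 1) = χ 1 := by
  obtain ⟨n, hn⟩ := isCharacter_apply_one (isCharacter_of_irr h)
  rw [hn, Complex.conj_natCast]

theorem classInner_regular {G : Type*} [Group G] [Fintype G] (χ : G → ℂ)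
    (hχ : Cfsg.IsIrrCharacter G χ) :
    Cfsg.classInner (Representation.leftRegular ℂ G).character χ = χ 1 := by
  classical
  have hG0 : (Nat.card G : ℂ) ≠ 0 := Nat.cast_ne_zero.2 Nat.card_pos.ne'
  rw [classInner_def, Finset.sum_eq_single (1 : G)]
  · rw [Cfsg.Agent.S0155.result, if_pos rfl, irr_apply_one_conj hχ, ← mul_assoc,
      inv_mul_cancel₀ hG0, one_mul]
  · intro g _ hg
    rw [Cfsg.Agent.S0155.result, if_neg hg, zero_mul]
  · intro h; exact absurd (Finset.mem_univ _) h

/-- The character of the left regular representation is the sum over the irreducible characters χ of χ 1 • χ. -/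
theorem result {G : Type*} [Group G] [Fintype G] : (Representation.leftRegular ℂ G).character = ∑ᶠ χ : Cfsg.IrrCharacter G, (χ : G → ℂ) 1 • (χ : G → ℂ) := by
  classical
  have : Fintype (Cfsg.IrrCharacter G) := Fintype.ofFinite _
  rw [finsum_eq_sum_of_fintype]
  have hcf : Cfsg.IsClassFunction G (Representation.leftRegular ℂ G).character :=
    fun g h => Representation.char_conj _ g h
  rw [class_function_expansion _ hcf]
  refine Finset.sum_congr rfl fun χ _ => ?_
  rw [classInner_regular _ χ.2]

end Cfsg.Agent.S0156
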