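import Mathlib
import Cfsg.Statements.S0134
import Cfsg.Agent.Lib.Helper1.CharFound5
import Cfsg.Agent.S0155
import Cfsg.Agent.S0156

set_option autoImplicit false
open Cfsg

namespace Cfsg.Agent.S0134

open Cfsg.Agent.Lib.Helper1

/-- Fintype form of the degree formula. -/
theorem sum_sq_degrees {G : Type*} [Group G] [Fintype G] [Fintype (Cfsg.IrrCharacter G)] :
    ∑ χ : Cfsg.IrrCharacter G, (χ : G → ℂ) 1 ^ 2 = (Nat.card G : ℂ) := by
  classical
  have h := congrFun (Cfsg.Agent.S0156.result (G := G)) 1
  rw [finsum_eq_sum_of_fintype, Cfsg.Agent.S0155.result, if_pos rfl, Finset.sum_apply] at h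
  rw [h]
  refine Finset.sum_congr rfl fun χ _ => ?_
  simp [sq]

/-- The sum of the squares of the degrees of the irreducible complex characters of a finite group is the order of the group. -/
theorem result {G : Type*} [Group G] [Finite G] : ∑ᶠ χ : Cfsg.IrrCharacter G, (χ : G → ℂ) 1 ^ 2 = (Nat.card G : ℂ) := by
  classical
  have : Fintype G := Fintype.ofFinite G
  have : Fintype (Cfsg.IrrCharacter G) := Fintype.ofFinite _
  rw [finsum_eq_sum_of_fintype]
  exact sum_sq_degrees

end Cfsg.Agent.S0134
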