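import Mathlib
import Cfsg.Statements.S0187
import Cfsg.Agent.Lib.Helper1.CharFound5
import Cfsg.Agent.S0134

set_option autoImplicit false
open Cfsg

namespace Cfsg.Agent.S0187

open Cfsg.Agent.Lib.Helper1

/-- A finite group is commutative if and only if every irreducible complex character has degree 1. -/
theorem result {G : Type*} [Group G] [Finite G] : (∀ a b : G, a * b = b * a) ↔ ∀ χ : Cfsg.IrrCharacter G, (χ : G → ℂ) 1 = 1 := by
  classical
  constructor
  · intro hcomm χ
    obtain ⟨n, ρ, hirr, hχ⟩ := χ.2
    have : IsMulCommutative G := ⟨⟨hcomm⟩⟩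
    have h1 := Representation.IsIrreducible.finrank_eq_one_of_isMulCommutative ρ
    rw [← hχ, Representation.char_one, h1]
    simp
  · intro hdeg
    have : Fintype G := Fintype.ofFinite G
    have : Fintype (Cfsg.IrrCharacter G) := Fintype.ofFinite _
    have h1 := Cfsg.Agent.S0134.sum_sq_degrees (G := G)
    have h2 : ∑ χ : Cfsg.IrrCharacter G, (χ : G → ℂ) 1 ^ 2 = (Fintype.card (Cfsg.IrrCharacter G) : ℂ) := by
      rw [Finset.sum_congr rfl fun χ _ => by rw [hdeg χ, one_pow]]
      simp
    rw [h2] at h1
    have h3 : Fintype.card (Cfsg.IrrCharacter G) = Nat.card G := by exact_mod_cast h1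
    rw [← Nat.card_eq_fintype_card, card_irr_eq_card_conjClasses] at h3
    have : Fintype (ConjClasses G) := Fintype.ofFinite _
    have hbij : Function.Bijective (ConjClasses.mk : G → ConjClasses G) := by
      rw [Fintype.bijective_iff_surjective_and_card]
      refine ⟨ConjClasses.mk_surjective, ?_⟩
      rw [← Nat.card_eq_fintype_card, ← Nat.card_eq_fintype_card, h3]
    intro a b
    have h4 : ConjClasses.mk (b * a * b⁻¹) = ConjClasses.mk a := by
      rw [ConjClasses.mk_eq_mk_iff_isConj, isConj_comm, isConj_iff]
      exact ⟨b, rfl⟩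
    have h5 := hbij.1 h4
    calc a * b = (b * a * b⁻¹) * b := by rw [h5]
      _ = b * a := by group

end Cfsg.Agent.S0187
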