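import Mathlib
import Cfsg.Statements.S4733
import Cfsg.Agent.Lib.Helper8.BlockRank2

set_option autoImplicit false

open Cfsg

namespace Cfsg.Agent.S4733

open scoped ComplexConjugate
open Cfsg.Agent.Lib.Helper1 Cfsg.Agent.Lib.Helper4 Cfsg.Agent.Lib.Helper8

variable {G : Type*} [Group G] [Finite G] {M : Ideal Cfsg.AlgInt} {p : ℕ}

/-- The `p`-part of the degree of `χ` is the full `p`-part of `|G|` iff `χ` has defect zero. -/
theorem factorization_charDegree (hp : p.Prime) (χ : Cfsg.IrrCharacter G) :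
    (Nat.card G).factorization p ≤ (Cfsg.charDegree (χ : G → ℂ)).factorization p ↔
      ¬ p ∣ Nat.card G / Cfsg.charDegree (χ : G → ℂ) := by
  obtain ⟨_, h3⟩ := irr_apply_one_eq_charDegree χ.2
  obtain ⟨k, hk⟩ := charDegree_dvd_card χ.2
  have hk' : Nat.card G / Cfsg.charDegree (χ : G → ℂ) = k := by
    rw [hk]
    exact Nat.mul_div_cancel_left k h3
  have hk0 : k ≠ 0 := by
    rintro rfl
    rw [mul_zero] at hk
    exact Nat.card_pos.ne' hk
  rw [hk', hk, Nat.factorization_mul h3.ne' hk0, Finsupp.add_apply]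
  constructor
  · intro h hdvd
    have : 0 < k.factorization p := hp.factorization_pos_of_dvd hk0 hdvd
    omega
  · intro h
    rw [Nat.factorization_eq_zero_of_not_dvd h]
    omega

theorem blockDefect_eq_zero_iff (hp : p.Prime) {B : Set (Cfsg.IrrCharacter G)} (hne : B.Nonempty) :
    Cfsg.blockDefect p B = 0 ↔ ∀ χ ∈ B, ¬ p ∣ Nat.card G / Cfsg.charDegree (χ : G → ℂ) := by
  unfold Cfsg.blockDefect
  set S := (fun χ : Cfsg.IrrCharacter G => (Cfsg.charDegree (χ : G → ℂ)).factorization p) '' B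
    with hS
  have hSne : S.Nonempty := hne.image _
  rw [Nat.sub_eq_zero_iff_le]
  constructor
  · intro h χ hχ
    rw [← factorization_charDegree hp]
    exact h.trans (Nat.sInf_le ⟨χ, hχ, rfl⟩)
  · intro h
    obtain ⟨χ, hχ, hχe⟩ := Nat.sInf_mem hSne
    rw [← hχe]
    exact (factorization_charDegree hp χ).2 (h χ hχ)

theorem eq_singleton_of_defect_zero (hM : Cfsg.IsPModular p M) {B : Set (Cfsg.IrrCharacter G)}
    (hB : Cfsg.IsPBlock M B) {χ : Cfsg.IrrCharacter G} (hχ : χ ∈ B)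
    (h : ¬ p ∣ Nat.card G / Cfsg.charDegree (χ : G → ℂ)) : B = {χ} := by
  have : Fintype G := Fintype.ofFinite G
  have hMp := isPModular_isPrime hM
  have h1 := blockOf_eq_singleton_of_not_dvd hM χ h
  rw [← h1]
  ext ψ
  exact mem_block_iff_sameBlock hMp hB hχ ψ

theorem pRegularPart_ne_zero (hp : p.Prime) (χ : Cfsg.IrrCharacter G) :
    Cfsg.pRegularPart p (χ : G → ℂ) ≠ 0 := by
  intro h
  have h1 : ¬ p ∣ orderOf (1 : G) := by
    rw [orderOf_one]
    exact hp.one_lt.ne' ∘ Nat.dvd_one.1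
  have := congrFun h 1
  rw [pRegularPart_of_not_dvd _ h1] at this
  exact irr_apply_one_ne_zero χ.2 this

theorem blockRank_singleton (hp : p.Prime) (χ : Cfsg.IrrCharacter G) :
    Cfsg.blockRank p ({χ} : Set (Cfsg.IrrCharacter G)) = 1 := by
  unfold Cfsg.blockRank
  rw [Set.image_singleton]
  exact finrank_span_singleton (pRegularPart_ne_zero hp χ)

theorem result {G : Type*} [Group G] [Finite G] (p : ℕ) [Fact p.Prime] (M : Ideal Cfsg.AlgInt) (hM : Cfsg.IsPModular p M) (B : Set (Cfsg.IrrCharacter G)) (hB : Cfsg.IsPBlock M B) : Cfsg.blockRank p B ≤ Nat.card B ∧ (Cfsg.blockDefect p B = 0 ↔ (Nat.card B = 1 ∧ Cfsg.blockRank p B = 1)) ∧ (Cfsg.blockDefect p B = 0 ↔ Nat.card B = Cfsg.blockRank p B) := by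
  classical
  have : Fintype G := Fintype.ofFinite G
  have : Fintype (Cfsg.IrrCharacter G) := Fintype.ofFinite _
  have hp : p.Prime := Fact.out
  have hMp := isPModular_isPrime hM
  have hne : B.Nonempty := by
    obtain ⟨χ₀, rfl⟩ := hB
    exact ⟨χ₀, sameBlock_refl hMp.ne_top _⟩
  have hfwd : Cfsg.blockDefect p B = 0 → Nat.card B = 1 ∧ Cfsg.blockRank p B = 1 := by
    intro hd
    obtain ⟨χ, hχ⟩ := hne
    have h1 := eq_singleton_of_defect_zero hM hB hχ ((blockDefect_eq_zero_iff hp ⟨χ, hχ⟩).1 hd χ hχ)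
    rw [h1]
    refine ⟨?_, blockRank_singleton hp χ⟩
    rw [Nat.card_eq_fintype_card]
    simp
  have hvan : (∀ χ ∈ B, ∀ g : G, p ∣ orderOf g → (χ : G → ℂ) g = 0) →
      Cfsg.blockDefect p B = 0 := by
    intro h
    rw [blockDefect_eq_zero_iff hp hne]
    intro χ hχ
    rw [← factorization_charDegree hp]
    have h1 := pow_dvd_charDegree_of_vanish hp χ (h χ hχ)
    exact (hp.pow_dvd_iff_le_factorization (irr_apply_one_eq_charDegree χ.2).2.ne').1 h1
  refine ⟨?_, ⟨hfwd, ?_⟩, ⟨fun hd => ?_, ?_⟩⟩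
  · -- rank ≤ card
    unfold Cfsg.blockRank
    have hfin : (B : Set (Cfsg.IrrCharacter G)).Finite := Set.toFinite B
    have h1 := finrank_span_finset_le_card (R := ℂ)
      (hfin.toFinset.image (fun χ : Cfsg.IrrCharacter G => Cfsg.pRegularPart p (χ : G → ℂ)))
    have h2 : ((hfin.toFinset.image (fun χ : Cfsg.IrrCharacter G =>
        Cfsg.pRegularPart p (χ : G → ℂ)) : Finset (G → ℂ)) : Set (G → ℂ))
        = (fun χ : Cfsg.IrrCharacter G => Cfsg.pRegularPart p (χ : G → ℂ)) '' B := by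
      rw [Finset.coe_image, Set.Finite.coe_toFinset]
    rw [h2] at h1
    refine h1.trans (Finset.card_image_le.trans ?_)
    rw [Nat.card_eq_fintype_card, ← Set.toFinset_card]
    apply le_of_eq
    congr 1
    ext χ
    simp
  · rintro ⟨hk, -⟩
    rw [Nat.card_eq_one_iff_unique] at hk
    obtain ⟨hsub, ⟨χ, hχ⟩⟩ := hk
    have hBs : B = {χ} := by
      ext ψ
      constructor
      · intro hψ
        have := @Subsingleton.elim _ hsub ⟨ψ, hψ⟩ ⟨χ, hχ⟩
        exact congrArg Subtype.val this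
      · intro hψ
        rw [Set.mem_singleton_iff] at hψ
        rwa [hψ]
    have hblock : Cfsg.blockOf M (χ : G → ℂ) = {χ} := by
      rw [← hBs]
      ext ψ
      exact (mem_block_iff_sameBlock hMp hB hχ ψ).symm
    rw [blockDefect_eq_zero_iff hp hne]
    intro ψ hψ
    rw [hBs, Set.mem_singleton_iff] at hψ
    rw [hψ]
    exact not_dvd_of_blockOf_eq_singleton hM χ hblock
  · obtain ⟨h1, h2⟩ := hfwd hd
    rw [h1, h2]
  · intro hkl
    apply hvan
    -- |G| k = ∑ over B of ∑ |χ(x)|^2, |G| l = same restricted to p-regular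
    have hG0 : (Nat.card G : ℂ) ≠ 0 := Nat.cast_ne_zero.2 Nat.card_pos.ne'
    have hl := card_mul_blockRank hM hB
    simp only [finsum_mem_eq_sum_indicator] at hl
    have hk : (Nat.card G : ℂ) * (Nat.card B : ℂ)
        = ∑ x : G, ∑ ψ : Cfsg.IrrCharacter G, (if ψ ∈ B then (1 : ℂ) else 0) *
          ((ψ : G → ℂ) x * (ψ : G → ℂ) x⁻¹) := by
      rw [Finset.sum_comm]
      have h1 : ∀ ψ : Cfsg.IrrCharacter G, ∑ x : G, (if ψ ∈ B then (1 : ℂ) else 0) *
          ((ψ : G → ℂ) x * (ψ : G → ℂ) x⁻¹) = (if ψ ∈ B then (1 : ℂ) else 0) * (Nat.card G : ℂ) := by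
        intro ψ
        rw [← Finset.mul_sum]
        congr 1
        have := classInner_irr_self ψ.2
        rw [classInner_def] at this
        have h2 : ∑ x : G, (ψ : G → ℂ) x * (ψ : G → ℂ) x⁻¹
            = ∑ x : G, (ψ : G → ℂ) x * conj ((ψ : G → ℂ) x) := by
          refine Finset.sum_congr rfl fun x _ => ?_
          rw [isCharacter_inv (isCharacter_of_irr ψ.2)]
        rw [h2]
        field_simp at this
        rw [this]
      simp only [h1]
      rw [← Finset.sum_mul, mul_comm]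
      congr 1
      rw [Finset.sum_boole, Nat.card_eq_fintype_card, Fintype.card_subtype]
    rw [hkl] at hk
    have hdiff : ∑ x : G, ∑ ψ : Cfsg.IrrCharacter G, (if ψ ∈ B then (1 : ℂ) else 0) *
        (((ψ : G → ℂ) x - Cfsg.pRegularPart p (ψ : G → ℂ) x) * (ψ : G → ℂ) x⁻¹) = 0 := by
      have : ∀ x : G, ∑ ψ : Cfsg.IrrCharacter G, (if ψ ∈ B then (1 : ℂ) else 0) *
          (((ψ : G → ℂ) x - Cfsg.pRegularPart p (ψ : G → ℂ) x) * (ψ : G → ℂ) x⁻¹)
          = ∑ ψ : Cfsg.IrrCharacter G, (if ψ ∈ B then (1 : ℂ) else 0) *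
              ((ψ : G → ℂ) x * (ψ : G → ℂ) x⁻¹)
            - ∑ ψ : Cfsg.IrrCharacter G, (if ψ ∈ B then (1 : ℂ) else 0) *
              (Cfsg.pRegularPart p (ψ : G → ℂ) x * (ψ : G → ℂ) x⁻¹) := by
        intro x
        rw [← Finset.sum_sub_distrib]
        refine Finset.sum_congr rfl fun ψ _ => ?_
        ring
      simp only [this]
      rw [Finset.sum_sub_distrib, ← hk, ← hl, sub_self]
    -- each term is a nonnegative real
    have hterm : ∀ (x : G) (ψ : Cfsg.IrrCharacter G), (if ψ ∈ B then (1 : ℂ) else 0) *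
        (((ψ : G → ℂ) x - Cfsg.pRegularPart p (ψ : G → ℂ) x) * (ψ : G → ℂ) x⁻¹)
        = ((if ψ ∈ B ∧ p ∣ orderOf x then Complex.normSq ((ψ : G → ℂ) x) else 0 : ℝ) : ℂ) := by
      intro x ψ
      by_cases hx : p ∣ orderOf x
      · rw [pRegularPart_of_dvd _ hx, sub_zero, isCharacter_inv (isCharacter_of_irr ψ.2),
          Complex.mul_conj]
        by_cases hψ : ψ ∈ B
        · rw [if_pos hψ, if_pos ⟨hψ, hx⟩, one_mul]
        · rw [if_neg hψ, if_neg (fun h => hψ h.1), zero_mul]; simp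
      · rw [pRegularPart_of_not_dvd _ hx, sub_self, zero_mul, mul_zero,
          if_neg (fun h => hx h.2)]
        simp
    simp only [hterm] at hdiff
    rw [← Finset.sum_product'] at hdiff
    rw [← Complex.ofReal_sum] at hdiff
    have hreal : ∑ y ∈ (Finset.univ : Finset G) ×ˢ (Finset.univ : Finset (Cfsg.IrrCharacter G)),
        (if y.2 ∈ B ∧ p ∣ orderOf y.1 then Complex.normSq ((y.2 : G → ℂ) y.1) else 0 : ℝ) = 0 := by
      exact_mod_cast hdiff
    intro χ hχ g hg
    have h6 := (Finset.sum_eq_zero_iff_of_nonneg (fun y _ => by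
      split_ifs
      · exact Complex.normSq_nonneg _
      · exact le_refl _)).1 hreal (g, χ) (Finset.mem_product.2 ⟨Finset.mem_univ _, Finset.mem_univ _⟩)
    simp only at h6
    rw [if_pos ⟨hχ, hg⟩] at h6
    exact Complex.normSq_eq_zero.1 h6

end Cfsg.Agent.S4733
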