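import Mathlib
-- Template for statement S0932 (row 932; see /opt/grader/pristine/manifest.json for weights).
-- Copy to Cfsg/Agent/S0932.lean and replace the sorry. The statement below is byte-identical to the frozen
-- statement Cfsg.CfsgFrozen.S0932 (Cfsg/Statements/S0932.lean; the theorem Cfsg.induced_central_char_eq_central_char_induced);
-- the grader kernel-checks Cfsg.Agent.S0932.result against that frozen type. Keep the theorem IN THIS FILE
-- (a `result` declared elsewhere and merely imported here is not credited); helpers may live anywhere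
-- under Cfsg/Agent/.
import Cfsg.Statements.S0932
import Cfsg.Agent.Lib.Helper3.Count

set_option autoImplicit false
open Cfsg
open Cfsg.Agent.Lib.Helper3

namespace Cfsg.Agent.S0932

/-- Let H be a subgroup of the finite group G and ξ a character of H. For every g ∈ G, the sum of ξ h / ξ 1 over the elements h ∈ H that are conjugate in G to g equals the central character at g of the character of G induced from ξ (class size times value divided by degree). -/
theorem result {G : Type*} [Group G] [Fintype G] (H : Subgroup G) (ξ : H → ℂ) (hξ : Cfsg.IsCharacter H ξ) (g : G) : Cfsg.inducedCentralChar H ξ g = Cfsg.centralChar (Cfsg.indFun H ξ) g := by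
  classical
  -- extension by zero as a sum
  have hext : ∀ y : G, extendByZero H ξ y = ∑ h : ↥H, if (h : G) = y then ξ h else 0 := by
    intro y
    by_cases hy : y ∈ H
    · have h1 : extendByZero H ξ y = ξ ⟨y, hy⟩ :=
        Subtype.val_injective.extend_apply ξ 0 ⟨y, hy⟩
      rw [h1, Finset.sum_eq_single (⟨y, hy⟩ : ↥H)]
      · simp
      · intro b _ hb
        rw [if_neg]
        intro hby
        exact hb (Subtype.ext hby)
      · intro h; exact absurd (Finset.mem_univ _) h
    · have h1 : extendByZero H ξ y = 0 := by
        unfold extendByZero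
        rw [Function.extend_apply']
        · rfl
        · rintro ⟨a, rfl⟩
          exact hy a.2
      rw [h1]
      symm
      apply Finset.sum_eq_zero
      intro h _
      rw [if_neg]
      rintro rfl
      exact hy h.2
  -- counting conjugators
  have hcount : ∀ h : ↥H, ((Finset.univ.filter (fun x : G => (h : G) = x⁻¹ * g * x)).card : ℂ) =
      if IsConj g (h : G) then (Nat.card ↥(Subgroup.centralizer ({g} : Set G)) : ℂ) else 0 := by
    intro h
    by_cases hc : IsConj g (h : G)
    · rw [if_pos hc]
      obtain ⟨c, hc'⟩ := isConj_iff.mp hc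
      have h1 := card_conj_fibre g (h : G) c⁻¹ (by rw [inv_inv]; exact hc')
      rw [← h1, Nat.card_eq_fintype_card, Fintype.card_subtype]
      congr 2
      ext x
      simp only [Finset.mem_filter, Finset.mem_univ, true_and]
      exact eq_comm
    · rw [if_neg hc]
      have : Finset.univ.filter (fun x : G => (h : G) = x⁻¹ * g * x) = ∅ := by
        rw [Finset.filter_eq_empty_iff]
        intro x _ hx
        apply hc
        rw [isConj_iff]
        exact ⟨x⁻¹, by rw [inv_inv]; exact hx.symm⟩
      rw [this]; simp
  have hsum : ∀ y : G, (∑ x : G, extendByZero H ξ (x⁻¹ * y * x)) =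
      ∑ h : ↥H, ξ h * ((Finset.univ.filter (fun x : G => (h : G) = x⁻¹ * y * x)).card : ℂ) := by
    intro y
    simp_rw [hext]
    rw [Finset.sum_comm]
    apply Finset.sum_congr rfl
    intro h _
    rw [← Finset.sum_filter, Finset.sum_const, nsmul_eq_mul, mul_comm]
  have hindg : indFun H ξ g = (Nat.card ↥H : ℂ)⁻¹ *
      ((Nat.card ↥(Subgroup.centralizer ({g} : Set G)) : ℂ) *
        ∑ h : ↥H, if IsConj g (h : G) then ξ h else 0) := by
    unfold indFun
    rw [hsum g]
    congr 1
    rw [Finset.mul_sum]
    apply Finset.sum_congr rfl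
    intro h _
    rw [hcount h]
    split_ifs <;> ring
  have hind1 : indFun H ξ 1 = (Nat.card ↥H : ℂ)⁻¹ * ((Nat.card G : ℂ) * ξ 1) := by
    unfold indFun
    congr 1
    have : ∀ x : G, extendByZero H ξ (x⁻¹ * 1 * x) = ξ 1 := by
      intro x
      have e1 : x⁻¹ * 1 * x = ((1 : ↥H) : G) := by simp
      rw [e1]
      exact Subtype.val_injective.extend_apply ξ 0 (1 : ↥H)
    simp_rw [this]
    rw [Finset.sum_const, nsmul_eq_mul, Finset.card_univ, Nat.card_eq_fintype_card]
  have hlhs : inducedCentralChar H ξ g = (∑ h : ↥H, if IsConj g (h : G) then ξ h else 0) / ξ 1 := by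
    unfold inducedCentralChar
    rw [finsum_mem_eq_finite_toFinset_sum _ (Set.toFinite _), Finset.sum_div]
    have : (Set.toFinite {h : ↥H | IsConj g (h : G)}).toFinset =
        Finset.univ.filter (fun h : ↥H => IsConj g (h : G)) := by
      ext h; simp
    rw [this, Finset.sum_filter]
    apply Finset.sum_congr rfl
    intro h _
    split_ifs <;> simp
  rw [hlhs]
  unfold centralChar
  rw [hindg, hind1]
  have hidx : ((Subgroup.centralizer ({g} : Set G)).index : ℂ) *
      (Nat.card ↥(Subgroup.centralizer ({g} : Set G)) : ℂ) = (Nat.card G : ℂ) := by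
    rw [← Nat.cast_mul, Subgroup.index_mul_card]
  have hH : (Nat.card ↥H : ℂ) ≠ 0 := by
    rw [Nat.cast_ne_zero]; exact Nat.card_pos.ne'
  have hG : (Nat.card G : ℂ) ≠ 0 := by
    rw [Nat.cast_ne_zero]; exact Nat.card_pos.ne'
  by_cases h1 : ξ 1 = 0
  · rw [h1]; simp
  · set T := ∑ h : ↥H, if IsConj g (h : G) then ξ h else 0 with hT
    rw [eq_div_iff (by
      apply mul_ne_zero (inv_ne_zero hH) (mul_ne_zero hG h1))]
    have : ((Subgroup.centralizer ({g} : Set G)).index : ℂ) *
        ((Nat.card ↥H : ℂ)⁻¹ * ((Nat.card ↥(Subgroup.centralizer ({g} : Set G)) : ℂ) * T)) =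
        (Nat.card ↥H : ℂ)⁻¹ * ((Nat.card G : ℂ) * T) := by
      rw [← hidx]; ring
    rw [this]
    field_simp

end Cfsg.Agent.S0932
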