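import Mathlib
import Cfsg.Statements.S0933
import Cfsg.Agent.Lib.Helper8.InducedOmega
import Cfsg.Agent.S0932

set_option autoImplicit false
open Cfsg

namespace Cfsg.Agent.S0933

open scoped ComplexConjugate
open Cfsg.Agent.Lib.Helper1 Cfsg.Agent.Lib.Helper4 Cfsg.Agent.Lib.Helper8

/-- Let H be a subgroup of the finite group G and ξ an irreducible character of H such that the induced function ξ^G is an irreducible character of G. Then, relative to any maximal ideal M of the algebraic integers containing the prime p, the block of ξ induces the block of ξ^G. -/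
theorem result {G : Type*} [Group G] [Fintype G] (p : ℕ) [Fact p.Prime] (M : Ideal Cfsg.AlgInt) (hM : Cfsg.IsPModular p M) (H : Subgroup G) (ξ : Cfsg.IrrCharacter H) (hind : Cfsg.IsIrrCharacter G (Cfsg.indFun H (ξ : H → ℂ))) : Cfsg.IsInducedBlock M H (Cfsg.blockOf M (ξ : H → ℂ)) (Cfsg.blockOf M (Cfsg.indFun H (ξ : H → ℂ))) := by
  classical
  have : Fintype H := Fintype.ofFinite _
  have hMp := isPModular_isPrime hM
  refine ⟨⟨ξ, rfl⟩, ⟨⟨_, hind⟩, rfl⟩, ?_⟩
  intro ξ' hξ' χ hχ g
  have h1 : MemLocalIdeal M (inducedCentralChar H (ξ' : H → ℂ) g -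
      inducedCentralChar H (ξ : H → ℂ) g) := by
    rw [inducedCentralChar_eq_omega, inducedCentralChar_eq_omega]
    exact cong_symm (memLocalIdeal_omega_sub hMp ξ.2 ξ'.2 hξ'
      (isClassFunction_restrict H (classIndicator_isClassFunction g))
      (fun h => memLocalRing_classIndicator hMp.ne_top g (h : G)))
  have h2 : inducedCentralChar H (ξ : H → ℂ) g = centralChar (indFun H (ξ : H → ℂ)) g :=
    Cfsg.Agent.S0932.result H _ (isCharacter_of_irr ξ.2) g
  have h3 : MemLocalIdeal M (centralChar (indFun H (ξ : H → ℂ)) g - centralChar (χ : G → ℂ) g) :=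
    hχ g
  rw [← h2] at h3
  exact cong_trans hMp h1 h3

end Cfsg.Agent.S0933
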