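import Mathlib
import Cfsg.Statements.S0935
import Cfsg.Agent.Lib.Helper8.InducedTilde

set_option autoImplicit false
open Cfsg

namespace Cfsg.Agent.S0935

open scoped ComplexConjugate
open Cfsg.Agent.Lib.Helper1 Cfsg.Agent.Lib.Helper4 Cfsg.Agent.Lib.Helper8

/-- Let H be a subgroup of the finite group G and χ an irreducible character of G whose restriction to H is irreducible; fix a maximal ideal M of the algebraic integers containing the prime p and suppose χ and its restriction have height zero in their blocks B and b. If e is a block of H whose induced block is defined, then e induces B if and only if e = b. -/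
theorem result {G : Type*} [Group G] [Finite G] (p : ℕ) [Fact p.Prime] (M : Ideal Cfsg.AlgInt) (hM : Cfsg.IsPModular p M) (H : Subgroup G) (χ : Cfsg.IrrCharacter G) (hres : Cfsg.IsIrrCharacter H (fun h : H => (χ : G → ℂ) h)) (hχ0 : Cfsg.blockHeight p (Cfsg.blockOf M (χ : G → ℂ)) (χ : G → ℂ) = 0) (hψ0 : Cfsg.blockHeight p (Cfsg.blockOf M (fun h : H => (χ : G → ℂ) h)) (fun h : H => (χ : G → ℂ) h) = 0) (e : Set (Cfsg.IrrCharacter H)) (he : Cfsg.InducedBlockDefined M H e) : Cfsg.IsInducedBlock M H e (Cfsg.blockOf M (χ : G → ℂ)) ↔ e = Cfsg.blockOf M (fun h : H => (χ : G → ℂ) h) := by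
  classical
  have : Fintype G := Fintype.ofFinite G
  have : Fintype H := Fintype.ofFinite H
  have hMp := isPModular_isPrime hM
  let ψ₀ : IrrCharacter H := ⟨fun h : H => (χ : G → ℂ) h, hres⟩
  have hψ₀mem : ψ₀ ∈ blockOf M (fun h : H => (χ : G → ℂ) h) := sameBlock_refl hMp.ne_top _
  have hb₀ : IsPBlock M (blockOf M (fun h : H => (χ : G → ℂ) h)) := ⟨ψ₀, rfl⟩
  constructor
  · intro hind
    obtain ⟨ψ, hψ⟩ := isPBlock_nonempty hMp hind.1
    have hχmem : χ ∈ blockOf M (χ : G → ℂ) := sameBlock_refl hMp.ne_top _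
    have h1 := not_memLocalIdeal_tildeRatio_restrict hM H hind hψ hχmem hχ0
    have h2 : SameBlock M (ψ₀ : H → ℂ) (ψ : H → ℂ) := by
      by_contra hns
      apply h1
      have h3 := classInner_tilde_eq_zero (p := p) hM hns
      have h4 : classInner (tilde p (fun h : H => (χ : G → ℂ) h)) (ψ : H → ℂ) = 0 := h3
      rw [h4, zero_div]
      exact memLocalIdeal_zero hMp.ne_top
    have h5 : ψ ∈ blockOf M (fun h : H => (χ : G → ℂ) h) := h2
    rw [eq_blockOf_of_mem hMp hind.1 hψ, eq_blockOf_of_mem hMp hb₀ h5]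
  · rintro rfl
    obtain ⟨B₀, hB₀⟩ := he
    have hχB₀ : χ ∈ B₀ := by
      by_contra hχ
      have h1 := memLocalIdeal_tildeRatio_restrict hM H hB₀ hψ₀mem hχ
      obtain ⟨ξ, hξ, hu⟩ := exists_tildeUnit_of_height_zero (p := p) hM hb₀ hψ₀mem hψ0
      have hsb : SameBlock M (ξ : H → ℂ) (ψ₀ : H → ℂ) := sameBlock_symm hξ
      exact tildeUnit_congr hM (isCharacter_of_irr ψ₀.2) ξ.2 ψ₀.2 hsb hu h1
    have hBeq := eq_blockOf_of_mem hMp hB₀.2.1 hχB₀
    rw [← hBeq]
    exact hB₀

end Cfsg.Agent.S0935
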