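import Mathlib
import Cfsg.Statements.S0936
import Cfsg.Agent.Lib.Helper8.InducedTilde
import Cfsg.Agent.S0935
import Cfsg.Agent.Lib.Helper8.TwoClass

set_option autoImplicit false
open Cfsg

namespace Cfsg.Agent.S0936

open scoped ComplexConjugate
open Cfsg.Agent.Lib.Helper1 Cfsg.Agent.Lib.Helper4 Cfsg.Agent.Lib.Helper8

/-- Brauer's Third Main Theorem. Let H be a subgroup of the finite group G and b a block of H (relative to a maximal ideal M of the algebraic integers containing the prime p) whose induced block in G is defined. Then b induces the principal block of G if and only if b is the principal block of H. -/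
theorem result {G : Type*} [Group G] [Finite G] (p : ℕ) [Fact p.Prime] (M : Ideal Cfsg.AlgInt) (hM : Cfsg.IsPModular p M) (H : Subgroup G) (b : Set (Cfsg.IrrCharacter H)) (hdef : Cfsg.InducedBlockDefined M H b) : Cfsg.IsInducedBlock M H b (Cfsg.principalBlock M G) ↔ b = Cfsg.principalBlock M H := by
  classical
  have h1 : ∀ (K : Type _) [Group K] (B : Set (IrrCharacter K)),
      blockHeight p B (fun _ : K => (1 : ℂ)) = 0 := by
    intro K _ B
    unfold blockHeight charDegree
    simp
  have hres : IsIrrCharacter H (fun h : H => ((trivIrr G : IrrCharacter G) : G → ℂ) h) :=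
    Cfsg.Agent.S0161.isIrrCharacter_one
  have key := Cfsg.Agent.S0935.result p M hM H (trivIrr G) hres (h1 G _) (h1 H _) b hdef
  exact key

end Cfsg.Agent.S0936
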