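import Mathlib
import Cfsg.Statements.S0954
import Cfsg.Agent.Lib.Helper8.Cover4

set_option autoImplicit false
open Cfsg

namespace Cfsg.Agent.S0954

open scoped ComplexConjugate
open Cfsg.Agent.Lib.Helper1 Cfsg.Agent.Lib.Helper4 Cfsg.Agent.Lib.Helper8

/-- Let N be a normal subgroup of the finite group G of order prime to p and of p-power index (a normal p-complement), and fix a maximal ideal M of the algebraic integers containing p. Then two irreducible characters χ, ψ of G lie in the same block if and only if some irreducible character of N has nonzero inner product with both the restriction of χ and the restriction of ψ. -/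
theorem result {G : Type*} [Group G] [Fintype G] (p : ℕ) [Fact p.Prime] (M : Ideal Cfsg.AlgInt) (hM : Cfsg.IsPModular p M) (N : Subgroup G) [N.Normal] [Fintype N] (hN : ¬ p ∣ Nat.card N) (hidx : ∃ k : ℕ, N.index = p ^ k) (χ ψ : Cfsg.IrrCharacter G) : Cfsg.SameBlock M (χ : G → ℂ) (ψ : G → ℂ) ↔ ∃ θ : Cfsg.IrrCharacter N, Cfsg.classInner (fun n : N => (χ : G → ℂ) n) (θ : N → ℂ) ≠ 0 ∧ Cfsg.classInner (fun n : N => (ψ : G → ℂ) n) (θ : N → ℂ) ≠ 0 := by
  classical
  have hMp := isPModular_isPrime hM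
  constructor
  · intro h
    have hres : IsCharacter N (fun n : N => (χ : G → ℂ) n) :=
      Cfsg.Agent.S0148.isCharacter_restrict N (isCharacter_of_irr χ.2)
    obtain ⟨θ, hθ⟩ := exists_irr_constituent hres (irr_apply_one_ne_zero χ.2)
    exact ⟨θ, hθ, constituent_of_sameBlock N hM hN h hθ⟩
  · rintro ⟨θ, h1, h2⟩
    have hb : IsPBlock M ({θ} : Set (IrrCharacter N)) :=
      ⟨θ, (blockOf_eq_singleton_of_pPrime hM hN θ).symm⟩
    have hB1 : IsPBlock M (blockOf M (χ : G → ℂ)) := ⟨χ, rfl⟩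
    have hB2 : IsPBlock M (blockOf M (ψ : G → ℂ)) := ⟨ψ, rfl⟩
    have hc1 : Covers N (blockOf M (χ : G → ℂ)) {θ} :=
      ⟨χ, sameBlock_refl hMp.ne_top _, θ, rfl, h1⟩
    have hc2 : Covers N (blockOf M (ψ : G → ℂ)) {θ} :=
      ⟨ψ, sameBlock_refl hMp.ne_top _, θ, rfl, h2⟩
    have heq := covers_unique_of_index N hM hidx hB1 hB2 hb hc1 hc2
    have hψ : ψ ∈ blockOf M (ψ : G → ℂ) := sameBlock_refl hMp.ne_top _
    rw [← heq] at hψ
    exact hψ

end Cfsg.Agent.S0954
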