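import Mathlib
import Cfsg.Statements.S0939
import Cfsg.Agent.Lib.Helper8.Cover4
import Cfsg.Agent.S0954
import Cfsg.Agent.Lib.Helper8.TwoClass

set_option autoImplicit false
open Cfsg

namespace Cfsg.Agent.S0939

open scoped ComplexConjugate
open Cfsg.Agent.Lib.Helper1 Cfsg.Agent.Lib.Helper4 Cfsg.Agent.Lib.Helper8

/-- Let G be a finite group with a normal p-complement (the largest normal subgroup O_p'(G) of order prime to p has p-power index). Then, relative to any maximal ideal M of the algebraic integers containing p, the principal block of G is the set of irreducible characters χ with χ n = χ 1 for every n ∈ O_p'(G). -/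
theorem result {G : Type*} [Group G] [Finite G] (p : ℕ) [Fact p.Prime] (M : Ideal Cfsg.AlgInt) (hM : Cfsg.IsPModular p M) (hnc : ∃ k : ℕ, (Cfsg.pPrimeCore p G).index = p ^ k) : Cfsg.principalBlock M G = {χ : Cfsg.IrrCharacter G | ∀ n ∈ Cfsg.pPrimeCore p G, (χ : G → ℂ) n = (χ : G → ℂ) 1} := by
  classical
  have : Fintype G := Fintype.ofFinite G
  obtain ⟨hNn, hNc⟩ := Cfsg.Agent.Lib.Helper6.pPrimeCore_mem_set (G := G) p
  have : Fintype (Cfsg.pPrimeCore p G) := Fintype.ofFinite _
  have hpp : p.Prime := Fact.out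
  have hNp : ¬ p ∣ Nat.card (Cfsg.pPrimeCore p G) := by
    intro h
    have := Nat.Coprime.eq_one_of_dvd hNc.symm h
    exact hpp.one_lt.ne' this
  have hMp := isPModular_isPrime hM
  ext χ
  have key := Cfsg.Agent.S0954.result p M hM (Cfsg.pPrimeCore p G) hNp hnc (trivIrr G) χ
  have h1 : χ ∈ Cfsg.principalBlock M G ↔ SameBlock M ((trivIrr G : IrrCharacter G) : G → ℂ) (χ : G → ℂ) :=
    Iff.rfl
  rw [h1, key, Set.mem_ofPred_eq, ← constituent_one_iff (Cfsg.pPrimeCore p G) χ.2]
  constructor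
  · rintro ⟨θ, hθ1, hθ2⟩
    have hθ : (θ : Cfsg.pPrimeCore p G → ℂ) = fun _ => (1 : ℂ) := by
      by_contra hne
      apply hθ1
      exact classInner_irr_ne Cfsg.Agent.S0161.isIrrCharacter_one θ.2 (fun h => hne h.symm)
    rw [hθ] at hθ2
    exact hθ2
  · intro h
    refine ⟨⟨fun _ => 1, Cfsg.Agent.S0161.isIrrCharacter_one⟩, ?_, h⟩
    have : classInner (fun n : Cfsg.pPrimeCore p G => ((trivIrr G : IrrCharacter G) : G → ℂ) n)
        (fun _ : Cfsg.pPrimeCore p G => (1 : ℂ)) = 1 :=
      classInner_irr_self Cfsg.Agent.S0161.isIrrCharacter_one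
    rw [this]
    exact one_ne_zero

end Cfsg.Agent.S0939
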