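import Mathlib
import Cfsg.Statements.S0938
import Cfsg.Agent.Lib.Helper8.BlockKer

set_option autoImplicit false
open Cfsg

namespace Cfsg.Agent.S0938

open scoped ComplexConjugate
open Cfsg.Agent.Lib.Helper1 Cfsg.Agent.Lib.Helper4 Cfsg.Agent.Lib.Helper8

/-- Let B be a block of the finite group G relative to a maximal ideal M of the algebraic integers containing the prime p, and let χ ∈ B. Then the kernel of B (the set of g with ψ g = ψ 1 for all ψ ∈ B) is a normal subgroup of order prime to p contained in the kernel of χ, and it contains every normal subgroup of order prime to p on which χ takes the value χ(1); that is, it is O_p' of the kernel of χ. -/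
theorem result {G : Type*} [Group G] [Finite G] (p : ℕ) [Fact p.Prime] (M : Ideal Cfsg.AlgInt) (hM : Cfsg.IsPModular p M) (B : Set (Cfsg.IrrCharacter G)) (hB : Cfsg.IsPBlock M B) (χ : Cfsg.IrrCharacter G) (hχ : χ ∈ B) : ∃ K : Subgroup G, K.Normal ∧ (K : Set G) = Cfsg.blockKer B ∧ ¬ p ∣ Nat.card K ∧ (∀ g ∈ K, (χ : G → ℂ) g = (χ : G → ℂ) 1) ∧ ∀ N : Subgroup G, N.Normal → ¬ p ∣ Nat.card N → (∀ g ∈ N, (χ : G → ℂ) g = (χ : G → ℂ) 1) → N ≤ K := by
  classical
  have : Fintype G := Fintype.ofFinite G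
  have hMp := isPModular_isPrime hM
  have hpp : p.Prime := Fact.out
  obtain ⟨K, hKn, hKeq⟩ := exists_normal_blockKer B
  have hmem : ∀ g : G, g ∈ K ↔ g ∈ blockKer B := by
    intro g
    rw [← hKeq]
    rfl
  refine ⟨K, hKn, hKeq, ?_, ?_, ?_⟩
  · intro hdvd
    obtain ⟨k, hk⟩ := exists_prime_orderOf_dvd_card' (G := K) p hdvd
    have h1 : (k : G) ∈ blockKer B := (hmem _).1 k.2
    have h2 := not_dvd_orderOf_of_mem_blockKer hM hB h1
    apply h2
    rw [Subgroup.orderOf_coe, hk]
  · intro g hg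
    exact (hmem g).1 hg χ hχ
  · intro N hNn hNp hNχ g hg
    rw [hmem]
    intro ψ hψ
    have : Fintype N := Fintype.ofFinite _
    have h1 : classInner (fun n : N => (χ : G → ℂ) n) (fun _ : N => (1 : ℂ)) ≠ 0 :=
      (constituent_one_iff N χ.2).2 hNχ
    have hsb : SameBlock M (χ : G → ℂ) (ψ : G → ℂ) := by
      rw [eq_blockOf_of_mem hMp hB hχ] at hψ
      exact hψ
    have h2 := constituent_of_sameBlock N hM hNp hsb
      (θ := ⟨fun _ => 1, Cfsg.Agent.S0161.isIrrCharacter_one⟩) h1
    exact (constituent_one_iff N ψ.2).1 h2 g hg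

end Cfsg.Agent.S0938
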