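import Mathlib
import Cfsg.Statements.S0153
import Cfsg.Agent.Lib.Helper1.CharFound8
import Cfsg.Agent.Lib.Helper1.CharInt

set_option autoImplicit false
open Cfsg

namespace Cfsg.Agent.S0153

open Cfsg.Agent.Lib.Helper1 Cfsg.Agent.Lib.Helper4
open scoped ComplexConjugate
open Representation

universe u v w

section
variable {G : Type u} [Group G] [Finite G]
  {U : Type w} [AddCommGroup U] [Module ℂ U]
  {V : Type v} [AddCommGroup V] [Module ℂ V]

/-- Maschke: an injective intertwining map has an intertwining left inverse. -/
theorem exists_leftInverse (τ : Representation ℂ G U) (ρ : Representation ℂ G V)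
    (f : IntertwiningMap τ ρ) (hf : Function.Injective f) :
    ∃ p : IntertwiningMap ρ τ, ∀ u : U, p (f u) = u := by
  have : NeZero (Nat.card G : ℂ) := ⟨Nat.cast_ne_zero.2 Nat.card_pos.ne'⟩
  let F := IntertwiningMap.equivLinearMapAsModule τ ρ f
  have hF : LinearMap.ker F = ⊥ := by
    rw [LinearMap.ker_eq_bot]
    exact hf
  obtain ⟨P, hP⟩ := MonoidAlgebra.exists_leftInverse_of_injective F hF
  refine ⟨(IntertwiningMap.equivLinearMapAsModule ρ τ).symm P, fun u => ?_⟩
  exact LinearMap.congr_fun hP u

/-- Splitting off a direct summand. -/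
noncomputable def splitEquiv (τ : Representation ℂ G U) (ρ : Representation ℂ G V)
    (f : IntertwiningMap τ ρ) (p : IntertwiningMap ρ τ) (hpf : ∀ u : U, p (f u) = u) :
    ρ.Equiv (τ.prod p.ker.toRepresentation) :=
  Representation.Equiv.mk
    ({ toFun := fun v => (p v, ⟨v - f (p v), by
          change p (v - f (p v)) = 0
          rw [map_sub, hpf, sub_self]⟩)
       map_add' := by
         intro a b
         refine Prod.ext (by simp) (Subtype.ext ?_)
         simp only [map_add, Prod.snd_add, Submodule.coe_add]
         abel
       map_smul' := by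
         intro c a
         refine Prod.ext (by simp) (Subtype.ext ?_)
         simp [smul_sub]
       invFun := fun x => f x.1 + (x.2 : V)
       left_inv := by
         intro v
         simp
       right_inv := by
         intro x
         have hx : p (x.2 : V) = 0 := x.2.2
         refine Prod.ext ?_ (Subtype.ext ?_)
         · simp [hpf, hx]
         · simp [hpf, hx] } : V ≃ₗ[ℂ] U × p.ker.toSubmodule)
    (by
      intro g
      ext v
      · simp [p.isIntertwining]
      · simp [p.isIntertwining, f.isIntertwining, Subrepresentation.toRepresentation])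

end

section
variable {G : Type u} [Group G]

/-- Product of equivalences of representations. -/
noncomputable def prodCongr {U U' : Type*} {V V' : Type*} [AddCommGroup U] [Module ℂ U]
    [AddCommGroup U'] [Module ℂ U'] [AddCommGroup V] [Module ℂ V] [AddCommGroup V'] [Module ℂ V']
    {τ : Representation ℂ G U} {τ' : Representation ℂ G U'} {ρ : Representation ℂ G V}
    {ρ' : Representation ℂ G V'} (e₁ : τ.Equiv τ') (e₂ : ρ.Equiv ρ') :
    (τ.prod ρ).Equiv (τ'.prod ρ') :=
  Representation.Equiv.mk (LinearEquiv.prodCongr e₁.toLinearEquiv e₂.toLinearEquiv)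
    (by
      intro g
      ext x
      · simp [e₁.toIntertwiningMap.isIntertwining]
      · simp [e₁.toIntertwiningMap.isIntertwining]
      · simp [e₂.toIntertwiningMap.isIntertwining]
      · simp [e₂.toIntertwiningMap.isIntertwining])

theorem char_prod' {U V : Type*} [AddCommGroup U] [Module ℂ U] [AddCommGroup V] [Module ℂ V]
    [FiniteDimensional ℂ U] [FiniteDimensional ℂ V]
    (τ : Representation ℂ G U) (ρ : Representation ℂ G V) :
    (τ.prod ρ).character = τ.character + ρ.character := by
  funext g
  unfold Representation.character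
  exact LinearMap.trace_prodMap' (τ g) (ρ g)

end

section Main
variable {G : Type u} [Group G] [Finite G]

/-- A nonzero multiplicity gives an injective intertwining map from the irreducible
representation. -/
theorem exists_injective_intertwining {V : Type v} [AddCommGroup V] [Module ℂ V]
    [FiniteDimensional ℂ V] [Fintype G] (k : ℕ) (τ : Representation ℂ G (Fin k → ℂ)) [τ.IsIrreducible]
    (ρ : Representation ℂ G V) (h : Cfsg.classInner ρ.character τ.character ≠ 0) :
    ∃ f : IntertwiningMap τ ρ, Function.Injective f := by
  have hG0 : (Nat.card G : ℂ) ≠ 0 := Nat.cast_ne_zero.2 Nat.card_pos.ne'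
  let _ : Invertible (Nat.card G : ℂ) := invertibleOfNonzero hG0
  have h1 := Representation.card_inv_mul_sum_char_mul_char_eq_finrank (ρ := τ) (σ := ρ)
  have h2 : (Module.finrank ℂ (IntertwiningMap τ ρ) : ℂ) ≠ 0 := by
    rw [← h1]
    rw [classInner_def] at h
    convert h using 3
    rw [character_inv]
  have h3 : 0 < Module.finrank ℂ (IntertwiningMap τ ρ) := by
    rcases Nat.eq_zero_or_pos (Module.finrank ℂ (IntertwiningMap τ ρ)) with h0 | h0
    · rw [h0] at h2; simp at h2
    · exact h0
  have hnt : Nontrivial (IntertwiningMap τ ρ) := Module.nontrivial_of_finrank_pos (R := ℂ) h3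
  obtain ⟨f, hf⟩ := exists_ne (0 : IntertwiningMap τ ρ)
  exact ⟨f, (Representation.IsIrreducible.injective_or_eq_zero f).resolve_right hf⟩

theorem main : ∀ (n : ℕ) (V : Type v) [AddCommGroup V] [Module ℂ V] [FiniteDimensional ℂ V]
    (W : Type w) [AddCommGroup W] [Module ℂ W] [FiniteDimensional ℂ W]
    (ρ : Representation ℂ G V) (σ : Representation ℂ G W), Module.finrank ℂ V = n →
    ρ.character = σ.character → Nonempty (ρ.Equiv σ) := by
  classical
  have : Fintype G := Fintype.ofFinite G
  have : Fintype (Cfsg.IrrCharacter G) := Fintype.ofFinite _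
  intro n
  induction n using Nat.strong_induction_on with
  | _ n ih =>
  intro V _ _ _ W _ _ _ ρ σ hn hχ
  have hW : Module.finrank ℂ W = n := by
    have h1 := congrFun hχ 1
    rw [Representation.char_one, Representation.char_one, hn] at h1
    exact_mod_cast h1.symm
  rcases Nat.eq_zero_or_pos n with h0 | hpos
  · -- zero-dimensional case
    subst h0
    have hV0 : Subsingleton V := Module.finrank_zero_iff.1 hn
    have hW0 : Subsingleton W := Module.finrank_zero_iff.1 hW
    refine ⟨Representation.Equiv.mk (LinearEquiv.ofSubsingleton V W) ?_⟩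
    intro g
    ext v
    exact Subsingleton.elim _ _
  · -- find a constituent
    have hχρ : Cfsg.IsCharacter G ρ.character := isCharacter_character ρ
    have hex : ∃ ψ : Cfsg.IrrCharacter G, Cfsg.classInner ρ.character ψ ≠ 0 := by
      by_contra hcon
      push Not at hcon
      have hexp := class_function_expansion _ (isClassFunction_of_isCharacter hχρ)
      have h1 := congrFun hexp 1
      rw [Finset.sum_apply, Representation.char_one, hn] at h1
      rw [Finset.sum_eq_zero (fun ψ _ => by rw [hcon ψ]; simp)] at h1
      have : (n : ℂ) ≠ 0 := Nat.cast_ne_zero.2 hpos.ne'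
      exact this h1
    obtain ⟨ψ, hψ⟩ := hex
    obtain ⟨k, τ, hirr, hτ⟩ := ψ.2
    have hψ' : Cfsg.classInner σ.character ψ ≠ 0 := by rw [← hχ]; exact hψ
    rw [← hτ] at hψ hψ'
    obtain ⟨f, hf⟩ := exists_injective_intertwining k τ ρ hψ
    obtain ⟨f', hf'⟩ := exists_injective_intertwining k τ σ hψ'
    obtain ⟨p, hp⟩ := exists_leftInverse τ ρ f hf
    obtain ⟨p', hp'⟩ := exists_leftInverse τ σ f' hf'
    let e₁ := splitEquiv τ ρ f p hp
    let e₂ := splitEquiv τ σ f' p' hp'
    have hc₁ := Representation.char_iso e₁
    have hc₂ := Representation.char_iso e₂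
    rw [char_prod'] at hc₁ hc₂
    have hker : p.ker.toRepresentation.character = p'.ker.toRepresentation.character := by
      have : τ.character + p.ker.toRepresentation.character
          = τ.character + p'.ker.toRepresentation.character := by
        rw [← hc₁, ← hc₂, hχ]
      exact add_left_cancel this
    have hk : 0 < k := by
      have := nontrivial_of_irreducible τ
      have h1 := Module.finrank_pos (R := ℂ) (M := Fin k → ℂ)
      simpa using h1
    have hdim : Module.finrank ℂ p.ker.toSubmodule < n := by
      have h1 := e₁.toLinearEquiv.finrank_eq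
      rw [Module.finrank_prod, Module.finrank_fin_fun, hn] at h1
      omega
    obtain ⟨e₃⟩ := ih _ hdim p.ker.toSubmodule p'.ker.toSubmodule p.ker.toRepresentation
      p'.ker.toRepresentation rfl hker
    exact ⟨e₁.trans ((prodCongr (Representation.Equiv.refl τ) e₃).trans e₂.symm)⟩

end Main

/-- Complex representations of a finite group with equal characters are equivalent. -/
theorem result {G : Type*} [Group G] [Finite G] {V W : Type*} [AddCommGroup V] [Module ℂ V] [FiniteDimensional ℂ V] [AddCommGroup W] [Module ℂ W] [FiniteDimensional ℂ W] (ρ : Representation ℂ G V) (σ : Representation ℂ G W) (h : ρ.character = σ.character) : Nonempty (ρ.Equiv σ) :=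
  main _ V W ρ σ rfl h

end Cfsg.Agent.S0153
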