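import Mathlib
import Cfsg.Statements.S4996
import Cfsg.Agent.Lib.Helper8.AvgNormal
import Cfsg.Agent.Lib.Helper8.GaloisAvg2
import Cfsg.Agent.Lib.Helper1.CharFound8
import Cfsg.Agent.S0188

set_option autoImplicit false
open Cfsg
open scoped ComplexConjugate
open Cfsg.Agent.Lib.Helper4 Cfsg.Agent.Lib.Helper1 Cfsg.Agent.Lib.Helper8

namespace Cfsg.Agent.S4996

universe u

section

variable {G : Type u} [Group G]

/-- The pointwise product of two characters is a character. -/
theorem isCharacter_mul {φ ψ : G → ℂ} (hφ : Cfsg.IsCharacter G φ) (hψ : Cfsg.IsCharacter G ψ) :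
    Cfsg.IsCharacter G (fun g => φ g * ψ g) := by
  have h := Cfsg.Agent.S0188.isCharacter_prod hφ hψ
  exact isCharacter_comp_hom h (MonoidHom.prod (MonoidHom.id G) (MonoidHom.id G))

/-- `χ · conj χ` is a character. -/
theorem isCharacter_normSq [Fintype G] {χ : G → ℂ} (hχ : Cfsg.IsCharacter G χ) :
    Cfsg.IsCharacter G (fun g => χ g * conj (χ g)) := by
  have h1 := isCharacter_inv_comp hχ
  have h2 : (fun g => χ g⁻¹) = fun g => conj (χ g) := by
    funext g
    exact isCharacter_inv hχ g
  rw [h2] at h1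
  exact isCharacter_mul hχ h1

end

section

variable {G : Type u} [Group G] [Fintype G]

/-- The averaged norm square. -/
noncomputable def sFun (N : Subgroup G) (χ : G → ℂ) : G → ℂ :=
  avgN N (fun g => χ g * conj (χ g))

theorem sFun_apply (N : Subgroup G) (χ : G → ℂ) (x : G) :
    sFun N χ x = (Nat.card N : ℂ)⁻¹ * ∑ n ∈ subFinset N, ((‖χ (x * n)‖ ^ 2 : ℝ) : ℂ) := by
  unfold sFun avgN
  congr 1
  refine Finset.sum_congr rfl fun n _ => ?_
  show χ (x * n) * conj (χ (x * n)) = _
  rw [Complex.mul_conj, Complex.normSq_eq_norm_sq]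

theorem sFun_apply_real (N : Subgroup G) (χ : G → ℂ) (x : G) :
    sFun N χ x = (((Nat.card N : ℝ)⁻¹ * ∑ n ∈ subFinset N, ‖χ (x * n)‖ ^ 2 : ℝ) : ℂ) := by
  rw [sFun_apply]
  push_cast
  rfl

theorem sFun_re (N : Subgroup G) (χ : G → ℂ) (x : G) :
    (sFun N χ x).re = (Nat.card N : ℝ)⁻¹ * ∑ n ∈ subFinset N, ‖χ (x * n)‖ ^ 2 := by
  rw [sFun_apply_real, Complex.ofReal_re]

theorem sFun_norm (N : Subgroup G) (χ : G → ℂ) (x : G) :
    ‖sFun N χ x‖ = (sFun N χ x).re := by
  rw [sFun_apply_real, Complex.ofReal_re, Complex.norm_real, Real.norm_eq_abs, abs_of_nonneg]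
  apply mul_nonneg
  · positivity
  · exact Finset.sum_nonneg fun n _ => by positivity

theorem sFun_eq_zero_iff (N : Subgroup G) (χ : G → ℂ) (x : G) :
    sFun N χ x = 0 ↔ ∀ n ∈ N, χ (x * n) = 0 := by
  have hN : (0 : ℝ) < (Nat.card N : ℝ) := by exact_mod_cast Nat.card_pos
  rw [sFun_apply_real]
  rw [Complex.ofReal_eq_zero, mul_eq_zero]
  constructor
  · rintro (h | h)
    · exfalso; exact (inv_pos.mpr hN).ne' h
    · intro n hn
      rw [Finset.sum_eq_zero_iff_of_nonneg (fun n _ => by positivity)] at h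
      have := h n (mem_subFinset.mpr hn)
      rw [sq_eq_zero_iff, norm_eq_zero] at this
      exact this
  · intro h
    right
    apply Finset.sum_eq_zero
    intro n hn
    rw [h n (mem_subFinset.mp hn)]
    simp

/-- The total of the averaged norm square. -/
theorem sum_sFun_re (N : Subgroup G) {χ : G → ℂ} (hχ : Cfsg.IsIrrCharacter G χ) :
    ∑ x, (sFun N χ x).re = (Fintype.card G : ℝ) := by
  have hN : (Nat.card N : ℝ) ≠ 0 := by exact_mod_cast Nat.card_pos.ne'
  simp only [sFun_re]
  rw [← Finset.mul_sum, Finset.sum_comm]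
  have h1 : ∀ n ∈ subFinset N, ∑ x, ‖χ (x * n)‖ ^ 2 = ∑ y, ‖χ y‖ ^ 2 := by
    intro n _
    exact Fintype.sum_equiv (Equiv.mulRight n) _ _ (fun x => rfl)
  rw [Finset.sum_congr rfl h1, Finset.sum_const, card_subFinset, nsmul_eq_mul, ← mul_assoc,
    inv_mul_cancel₀ hN, one_mul]
  have h2 := classInner_irr_self hχ
  rw [classInner_def] at h2
  have hG : (Nat.card G : ℂ) ≠ 0 := by exact_mod_cast Nat.card_pos.ne'
  have h3 : ∑ g, χ g * conj (χ g) = (Nat.card G : ℂ) := by
    field_simp at h2
    exact h2
  have h4 : ((∑ y, ‖χ y‖ ^ 2 : ℝ) : ℂ) = ((Fintype.card G : ℝ) : ℂ) := by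
    push_cast
    rw [← Nat.card_eq_fintype_card, ← h3]
    refine Finset.sum_congr rfl fun g _ => ?_
    rw [Complex.mul_conj, Complex.normSq_eq_norm_sq]
    push_cast
    rfl
  exact_mod_cast h4

/-- `sFun` at the identity is the norm of the restriction. -/
theorem sFun_one (N : Subgroup G) [Fintype N] (χ : G → ℂ) :
    sFun N χ 1 = Cfsg.classInner (fun n : N => χ n) (fun n : N => χ n) := by
  unfold sFun avgN
  rw [classInner_def]
  congr 1
  simp only [one_mul]
  exact Finset.sum_subtype (subFinset N) (fun g => mem_subFinset)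
    (fun g => χ g * conj (χ g))

end

theorem result {G : Type*} [Group G] [Finite G] (N : Subgroup G) [N.Normal] (χ : Cfsg.IrrCharacter G) : ¬ Cfsg.IsIrrCharacter ↥N (fun n : ↥N => (χ : G → ℂ) n) ↔ ∃ x : G, ∀ n : ↥N, (χ : G → ℂ) ((n : G) * x) = 0 := by
  classical
  haveI : Fintype G := Fintype.ofFinite G
  haveI : Fintype N := Fintype.ofFinite N
  obtain ⟨c, hc⟩ : ∃ c : G → ℂ, c = (χ : G → ℂ) := ⟨_, rfl⟩
  have hcirr : Cfsg.IsIrrCharacter G c := hc ▸ χ.2
  have hcchar : Cfsg.IsCharacter G c := isCharacter_of_irr hcirr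
  have hccf : Cfsg.IsClassFunction G c := isClassFunction_of_isCharacter hcchar
  rw [← hc]
  -- the averaged character
  have hs : Cfsg.IsCharacter G (sFun N c) := isCharacter_avgN N (isCharacter_normSq hcchar)
  -- reformulate the vanishing condition
  have hcoset : ∀ x : G, (∀ n : N, c ((n : G) * x) = 0) ↔ sFun N c x = 0 := by
    intro x
    rw [sFun_eq_zero_iff]
    constructor
    · intro h n hn
      have h1 := h ⟨x * n * x⁻¹, (inferInstance : N.Normal).conj_mem n hn x⟩
      have h2 : x * n * x⁻¹ * x = x * n := by group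
      simp only [h2] at h1
      exact h1
    · intro h n
      have h1 := h (x⁻¹ * n * x) (by
        have := (inferInstance : N.Normal).conj_mem n n.2 x⁻¹
        simpa using this)
      have h2 : x * (x⁻¹ * n * x) = n * x := by group
      rw [h2] at h1
      exact h1
  have hθchar : Cfsg.IsCharacter N (fun n : N => c n) := isCharacter_comp_hom hcchar N.subtype
  have hsum := sum_sFun_re N hcirr
  constructor
  · -- no vanishing coset implies irreducible restriction
    intro hnirr
    by_contra hno
    push Not at hno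
    apply hnirr
    have hsne : ∀ x : G, sFun N c x ≠ 0 := by
      intro x hx
      obtain ⟨n, hn⟩ := hno x
      exact hn ((hcoset x).mpr hx n)
    have hS : ∀ g ∈ Finset.univ.erase (1 : G), ∀ k : ℕ, k.Coprime (Nat.card G) →
        g ^ k ∈ Finset.univ.erase (1 : G) := by
      intro g hg k hk
      rw [Finset.mem_erase] at hg ⊢
      refine ⟨?_, Finset.mem_univ _⟩
      intro h1
      apply hg.1
      apply (powCoprime hk.symm).injective
      simp only [powCoprime_apply, one_pow]
      exact h1
    have h1 := card_nonzero_le_sum_norm hs (Finset.univ.erase (1 : G)) hS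
    have h2 : (Finset.univ.erase (1 : G)).filter (fun g => sFun N c g ≠ 0)
        = Finset.univ.erase (1 : G) := by
      apply Finset.filter_true_of_mem
      intro g _
      exact hsne g
    rw [h2, Finset.card_erase_of_mem (Finset.mem_univ _), Finset.card_univ] at h1
    simp only [sFun_norm] at h1
    rw [← Finset.add_sum_erase Finset.univ _ (Finset.mem_univ (1 : G))] at hsum
    have hcard1 : 1 ≤ Fintype.card G := Fintype.card_pos
    rw [Nat.cast_sub hcard1, Nat.cast_one] at h1
    have h3 : (sFun N c 1).re ≤ 1 := by linarith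
    obtain ⟨m, hm⟩ := classInner_char_nat hθchar hθchar
    rw [← sFun_one N c] at hm
    have hm1 : m ≤ 1 := by
      rw [hm] at h3
      simp only [Complex.natCast_re] at h3
      exact_mod_cast h3
    have hm0 : m ≠ 0 := by
      intro h0
      apply hsne 1
      rw [hm, h0]
      simp
    have hm' : m = 1 := by omega
    apply isIrrCharacter_of_norm_one hθchar
    rw [← sFun_one N c, hm, hm']
    simp
  · -- an irreducible restriction has no vanishing coset
    rintro ⟨x, hx⟩ hirr
    have h1 : sFun N c 1 = 1 := by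
      rw [sFun_one N c]
      exact classInner_irr_self hirr
    have hle : ∀ y : G, (sFun N c y).re ≤ 1 := by
      intro y
      have := isCharacter_re_le hs y
      rw [h1] at this
      simpa using this
    have hx0 : (sFun N c x).re = 0 := by
      rw [(hcoset x).mp hx]
      simp
    have hlt : ∑ y, (sFun N c y).re < ∑ _y : G, (1 : ℝ) := by
      apply Finset.sum_lt_sum (fun y _ => hle y)
      exact ⟨x, Finset.mem_univ _, by rw [hx0]; norm_num⟩
    rw [hsum, Finset.sum_const, Finset.card_univ, nsmul_eq_mul, mul_one] at hlt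
    exact lt_irrefl _ hlt

end Cfsg.Agent.S4996
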