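import Cfsg.Statements.S0856
import Mathlib
import Cfsg.Agent.Lib.Helper1.CliffordCorr
import Cfsg.Agent.S0177

set_option autoImplicit false
open Cfsg

namespace Cfsg.Agent.S0856


open Cfsg.Agent.Lib.Helper1 Cfsg.Agent.Lib.Helper4 in
/-- the norm of the character induced from an invariant irreducible character of a normal subgroup -/
theorem norm_ind_invariant {G : Type*} [Group G] [Fintype G] (N : Subgroup G) [hN : N.Normal]
    (θ : N → ℂ) (hθ : Cfsg.IsIrrCharacter N θ)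
    (hinv : ∀ (g : G) (n : N), θ ⟨g * n * g⁻¹, hN.conj_mem (n : G) n.2 g⟩ = θ n) :
    Cfsg.classInner (Cfsg.indFun N θ) (Cfsg.indFun N θ) = (N.index : ℂ) := by
  have hN0 : (Nat.card N : ℂ) ≠ 0 := Nat.cast_ne_zero.2 Nat.card_pos.ne'
  have hidx : (Nat.card N : ℂ) * (N.index : ℂ) = (Nat.card G : ℂ) := by
    exact_mod_cast N.card_mul_index
  have h1 := Cfsg.Agent.S0193.result N θ hθ
  have h2 : Nat.card {g : G // ∀ h : N, θ ⟨g * h * g⁻¹, hN.conj_mem h h.2 g⟩ = θ h} = Nat.card G := by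
    apply Nat.card_congr
    exact Equiv.subtypeUnivEquiv (fun g => hinv g)
  rw [h2, ← hidx] at h1
  exact mul_left_cancel₀ hN0 h1

/-- equality of sums with termwise inequality, for double sums of naturals -/
theorem double_sum_eq {ι : Type*} [Fintype ι] (F H : ι → ι → ℕ) (hle : ∀ i j, F i j ≤ H i j)
    (hsum : ∑ i, ∑ j, F i j = ∑ i, ∑ j, H i j) : ∀ i j, F i j = H i j := by
  have h1 : ∀ i ∈ (Finset.univ : Finset ι), ∑ j, F i j ≤ ∑ j, H i j :=
    fun i _ => Finset.sum_le_sum fun j _ => hle i j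
  have h2 := (Finset.sum_eq_sum_iff_of_le h1).mp hsum
  intro i j
  have h3 := (Finset.sum_eq_sum_iff_of_le (fun j _ => hle i j)).mp (h2 i (Finset.mem_univ i))
  exact h3 j (Finset.mem_univ j)

/-- Let N be a normal subgroup of the finite group G and φ, ϑ irreducible characters of N that are invariant under conjugation by G, such that the pointwise product φ * ϑ is irreducible and ϑ is the restriction of an irreducible character χ of G. Then multiplication by χ is a bijection from the set of irreducible characters of G having nonzero inner product with the function induced from φ onto the set of those having nonzero inner product with the function induced from φ * ϑ. -/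
theorem result {G : Type*} [Group G] [Fintype G] (N : Subgroup G) [hN : N.Normal] (φ ϑ : N → ℂ) (hφ : Cfsg.IsIrrCharacter N φ) (hϑ : Cfsg.IsIrrCharacter N ϑ) (hφinv : ∀ (g : G) (n : N), φ ⟨g * n * g⁻¹, hN.conj_mem (n : G) n.2 g⟩ = φ n) (hϑinv : ∀ (g : G) (n : N), ϑ ⟨g * n * g⁻¹, hN.conj_mem (n : G) n.2 g⟩ = ϑ n) (hprod : Cfsg.IsIrrCharacter N (φ * ϑ)) (χ : G → ℂ) (hχ : Cfsg.IsIrrCharacter G χ) (hext : ∀ n : N, χ n = ϑ n) : Set.BijOn (fun β : G → ℂ => β * χ) {β : G → ℂ | Cfsg.IsIrrCharacter G β ∧ Cfsg.classInner (Cfsg.indFun N φ) β ≠ 0} {ψ : G → ℂ | Cfsg.IsIrrCharacter G ψ ∧ Cfsg.classInner (Cfsg.indFun N (φ * ϑ)) ψ ≠ 0} := by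
  classical
  haveI : Fintype (Cfsg.IrrCharacter G) := Fintype.ofFinite _
  have hχc : Cfsg.IsCharacter G χ := Cfsg.Agent.Lib.Helper4.isCharacter_of_irr hχ
  have hχcf : Cfsg.IsClassFunction G χ := Cfsg.Agent.Lib.Helper1.isClassFunction_irr hχ
  have hΦc : Cfsg.IsCharacter G (Cfsg.indFun N φ) :=
    Cfsg.Agent.S0148.result N φ (Cfsg.Agent.Lib.Helper4.isCharacter_of_irr hφ)
  have hΦcf : Cfsg.IsClassFunction G (Cfsg.indFun N φ) :=
    Cfsg.Agent.Lib.Helper1.indFun_isClassFunction N φ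
  have ha : ∀ β : Cfsg.IrrCharacter G, ∃ m : ℕ, Cfsg.classInner (Cfsg.indFun N φ) (β : G → ℂ) = m :=
    fun β => Cfsg.Agent.Lib.Helper1.classInner_char_irr_nat hΦc β.2
  choose a ha using ha
  have hchar : ∀ β : Cfsg.IrrCharacter G, Cfsg.IsCharacter G ((β : G → ℂ) * χ) :=
    fun β => Cfsg.Agent.S0177.isCharacter_mul (Cfsg.Agent.Lib.Helper4.isCharacter_of_irr β.2) hχc
  have hn : ∀ β γ : Cfsg.IrrCharacter G, ∃ m : ℕ,
      Cfsg.classInner ((β : G → ℂ) * χ) ((γ : G → ℂ) * χ) = m :=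
    fun β γ => Cfsg.Agent.Lib.Helper1.classInner_char_nat (hchar β) (hchar γ)
  choose n hn using hn
  have hnpos : ∀ β : Cfsg.IrrCharacter G, 1 ≤ n β β := by
    intro β
    by_contra h
    have h0 : n β β = 0 := by omega
    have h1 := hn β β
    rw [h0, Nat.cast_zero] at h1
    have h2 := Cfsg.Agent.Lib.Helper1.eq_zero_of_classInner_self_eq_zero h1 1
    rw [Pi.mul_apply] at h2
    rcases mul_eq_zero.mp h2 with h3 | h3
    · exact Cfsg.Agent.Lib.Helper4.irr_apply_one_ne_zero β.2 h3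
    · exact Cfsg.Agent.Lib.Helper4.irr_apply_one_ne_zero hχ h3
  -- the induced character of the product
  have hΨ : Cfsg.indFun N (φ * ϑ) = ∑ β : Cfsg.IrrCharacter G, (a β : ℂ) • ((β : G → ℂ) * χ) := by
    have h1 : Cfsg.indFun N (φ * ϑ) = Cfsg.indFun N φ * χ := by
      rw [Cfsg.Agent.S0177.indFun_mul N φ χ hχcf]
      congr 1
      funext x
      simp only [Pi.mul_apply, hext]
    rw [h1]
    conv_lhs => rw [Cfsg.Agent.Lib.Helper1.class_function_expansion (Cfsg.indFun N φ) hΦcf]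
    rw [Finset.sum_mul]
    refine Finset.sum_congr rfl fun β _ => ?_
    rw [ha β, smul_mul_assoc]
  -- norms
  have hnormΦ : ∑ β : Cfsg.IrrCharacter G, (a β) ^ 2 = N.index := by
    have h3 := norm_ind_invariant N φ hφ hφinv
    rw [Cfsg.Agent.Lib.Helper1.classInner_eq_sum_mult _ _ hΦcf] at h3
    have h4 : ∀ ψ : Cfsg.IrrCharacter G,
        Cfsg.classInner (Cfsg.indFun N φ) (ψ : G → ℂ) * Cfsg.classInner (ψ : G → ℂ) (Cfsg.indFun N φ)
        = ((a ψ ^ 2 : ℕ) : ℂ) := by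
      intro ψ
      rw [← Cfsg.Agent.Lib.Helper4.classInner_conj_symm (Cfsg.indFun N φ) (ψ : G → ℂ), ha ψ,
        Complex.conj_natCast]
      push_cast
      ring
    rw [Finset.sum_congr rfl (fun ψ _ => h4 ψ)] at h3
    exact_mod_cast h3
  have hprodinv : ∀ (g : G) (x : N), (φ * ϑ) ⟨g * x * g⁻¹, hN.conj_mem (x : G) x.2 g⟩ = (φ * ϑ) x := by
    intro g x
    simp only [Pi.mul_apply, hφinv g x, hϑinv g x]
  have hnormΨ : ∑ β : Cfsg.IrrCharacter G, ∑ γ : Cfsg.IrrCharacter G, a β * a γ * n β γ = N.index := by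
    have h3 := norm_ind_invariant N (φ * ϑ) hprod hprodinv
    rw [hΨ, Cfsg.Agent.Lib.Helper4.classInner_sum_left] at h3
    have h4 : ∀ β : Cfsg.IrrCharacter G,
        Cfsg.classInner ((a β : ℂ) • ((β : G → ℂ) * χ))
          (∑ γ : Cfsg.IrrCharacter G, (a γ : ℂ) • ((γ : G → ℂ) * χ))
        = ((∑ γ : Cfsg.IrrCharacter G, a β * a γ * n β γ : ℕ) : ℂ) := by
      intro β
      rw [Cfsg.Agent.Lib.Helper4.classInner_smul_left, Cfsg.Agent.Lib.Helper4.classInner_sum_right,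
        Finset.mul_sum]
      push_cast
      refine Finset.sum_congr rfl fun γ _ => ?_
      rw [Cfsg.Agent.Lib.Helper4.classInner_smul_right, hn β γ, Complex.conj_natCast]
      ring
    rw [Finset.sum_congr rfl (fun β _ => h4 β)] at h3
    exact_mod_cast h3
  -- termwise comparison
  have hterm := double_sum_eq
    (fun β γ : Cfsg.IrrCharacter G => if β = γ then (a β) ^ 2 else 0)
    (fun β γ : Cfsg.IrrCharacter G => a β * a γ * n β γ)
    (by
      intro β γ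
      by_cases h : β = γ
      · subst h
        simp only [if_true]
        nlinarith [hnpos β, Nat.zero_le (a β * a β)]
      · simp only [if_neg h]; exact Nat.zero_le _)
    (by
      simp only [Finset.sum_ite_eq, Finset.mem_univ, if_true]
      rw [hnormΦ, hnormΨ])
  have hdiag : ∀ β : Cfsg.IrrCharacter G, a β ≠ 0 → n β β = 1 := by
    intro β hβ
    have := hterm β β
    simp only [if_true] at this
    have hpos : 0 < a β := Nat.pos_of_ne_zero hβ
    have h2 : a β * a β * 1 = a β * a β * n β β := by rw [mul_one, ← this, sq]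
    exact (Nat.eq_of_mul_eq_mul_left (Nat.mul_pos hpos hpos) h2).symm
  have hoff : ∀ β γ : Cfsg.IrrCharacter G, β ≠ γ → a β ≠ 0 → a γ ≠ 0 → n β γ = 0 := by
    intro β γ hne hβ hγ
    have := hterm β γ
    simp only [if_neg hne] at this
    rcases Nat.mul_eq_zero.mp this.symm with h | h
    · rcases Nat.mul_eq_zero.mp h with h | h
      · exact absurd h hβ
      · exact absurd h hγ
    · exact h
  have hirr : ∀ β : Cfsg.IrrCharacter G, a β ≠ 0 → Cfsg.IsIrrCharacter G ((β : G → ℂ) * χ) := by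
    intro β hβ
    apply Cfsg.Agent.Lib.Helper1.isIrrCharacter_of_norm_one (hchar β)
    rw [hn β β, hdiag β hβ, Nat.cast_one]
  have hamem : ∀ β : Cfsg.IrrCharacter G, a β ≠ 0 ↔ Cfsg.classInner (Cfsg.indFun N φ) (β : G → ℂ) ≠ 0 := by
    intro β
    rw [ha β]
    exact_mod_cast Iff.rfl
  have hΨinner : ∀ ψ : G → ℂ, Cfsg.classInner (Cfsg.indFun N (φ * ϑ)) ψ
      = ∑ β : Cfsg.IrrCharacter G, (a β : ℂ) * Cfsg.classInner ((β : G → ℂ) * χ) ψ := by
    intro ψ
    rw [hΨ, Cfsg.Agent.Lib.Helper4.classInner_sum_left]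
    refine Finset.sum_congr rfl fun β _ => ?_
    rw [Cfsg.Agent.Lib.Helper4.classInner_smul_left]
  refine ⟨?_, ?_, ?_⟩
  · -- MapsTo
    rintro β ⟨hβ, hβne⟩
    have haβ : a ⟨β, hβ⟩ ≠ 0 := (hamem ⟨β, hβ⟩).mpr hβne
    refine ⟨hirr ⟨β, hβ⟩ haβ, ?_⟩
    show Cfsg.classInner (Cfsg.indFun N (φ * ϑ)) (β * χ) ≠ 0
    rw [hΨinner]
    have h1 : ∀ γ : Cfsg.IrrCharacter G, (a γ : ℂ) * Cfsg.classInner ((γ : G → ℂ) * χ) (β * χ)
        = ((a γ * n γ ⟨β, hβ⟩ : ℕ) : ℂ) := by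
      intro γ
      rw [hn γ ⟨β, hβ⟩]; push_cast; ring
    rw [Finset.sum_congr rfl (fun γ _ => h1 γ), ← Nat.cast_sum, Nat.cast_ne_zero]
    have h2 : a ⟨β, hβ⟩ * n ⟨β, hβ⟩ ⟨β, hβ⟩ ≤ ∑ γ : Cfsg.IrrCharacter G, a γ * n γ ⟨β, hβ⟩ :=
      Finset.single_le_sum (f := fun γ : Cfsg.IrrCharacter G => a γ * n γ ⟨β, hβ⟩)
        (fun _ _ => Nat.zero_le _) (Finset.mem_univ _)
    rw [hdiag _ haβ, mul_one] at h2
    have : 0 < a ⟨β, hβ⟩ := Nat.pos_of_ne_zero haβ
    omega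
  · -- InjOn
    rintro β₁ ⟨hβ₁, hne₁⟩ β₂ ⟨hβ₂, hne₂⟩ heq
    by_contra hne
    have ha₁ : a ⟨β₁, hβ₁⟩ ≠ 0 := (hamem ⟨β₁, hβ₁⟩).mpr hne₁
    have ha₂ : a ⟨β₂, hβ₂⟩ ≠ 0 := (hamem ⟨β₂, hβ₂⟩).mpr hne₂
    have hne' : (⟨β₁, hβ₁⟩ : Cfsg.IrrCharacter G) ≠ ⟨β₂, hβ₂⟩ := fun h => hne (congrArg Subtype.val h)
    have h0 := hoff _ _ hne' ha₁ ha₂
    have h1 := hn ⟨β₁, hβ₁⟩ ⟨β₂, hβ₂⟩
    have h2 := hn ⟨β₁, hβ₁⟩ ⟨β₁, hβ₁⟩
    simp only at heq h1 h2
    rw [← heq, h2, hdiag _ ha₁, h0] at h1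
    norm_num at h1
  · -- SurjOn
    rintro ψ ⟨hψ, hψne⟩
    rw [hΨinner] at hψne
    obtain ⟨β, -, hβ⟩ := Finset.exists_ne_zero_of_sum_ne_zero hψne
    have haβ : a β ≠ 0 := by
      intro h; apply hβ; rw [h]; simp
    have hin : Cfsg.classInner ((β : G → ℂ) * χ) ψ ≠ 0 := by
      intro h; apply hβ; rw [h, mul_zero]
    have hirrβ := hirr β haβ
    rw [Cfsg.Agent.Lib.Helper4.classInner_irr hirrβ hψ] at hin
    have heq : (β : G → ℂ) * χ = ψ := by
      by_contra h; rw [if_neg h] at hin; exact hin rfl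
    exact ⟨β.1, ⟨β.2, (hamem β).mp haβ⟩, heq⟩

end Cfsg.Agent.S0856
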