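import Cfsg.Statements.S0862
import Mathlib
import Cfsg.Agent.Lib.Helper2.DetChar
import Cfsg.Agent.Lib.Helper4.Gallagher
import Cfsg.Agent.S0856
import Cfsg.Agent.S0161
import Cfsg.Agent.S0146

set_option autoImplicit false
open Cfsg

namespace Cfsg.Agent.S0862

open Cfsg.Agent.Lib.Helper2.LinExt Cfsg.Agent.Lib.Helper2.DetChar Cfsg.Agent.Lib.Helper4

theorem unit_eq_one_of_coprime {u : ℂˣ} {a d : ℕ} (ha : u ^ a = 1) (hd : u ^ d = 1)
    (hcop : Nat.Coprime a d) : u = 1 :=
  orderOf_eq_one_iff.1 (Nat.eq_one_of_dvd_coprimes hcop (orderOf_dvd_of_pow_eq_one ha)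
    (orderOf_dvd_of_pow_eq_one hd))

/-- Existence part: a twist of a given extension with prescribed determinant. -/
theorem exists_twist {G : Type*} [Group G] [Finite G] (N : Subgroup G) [N.Normal]
    (δ₀ μ' : G →* ℂˣ) (hN : ∀ n ∈ N, μ' n = δ₀ n) (d : ℕ) (hcop : Nat.Coprime N.index d) :
    ∃ κ : G →* ℂˣ, (∀ n ∈ N, κ n = 1) ∧ ∀ g : G, κ g ^ d * δ₀ g = μ' g := by
  let ν' : G →* ℂˣ := μ' * δ₀⁻¹
  have hν'N : ∀ n ∈ N, ν' n = 1 := by
    intro n hn
    show μ' n * (δ₀ n)⁻¹ = 1
    rw [hN n hn, mul_inv_cancel]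
  have hνa : ν' ^ N.index = 1 := pow_index_eq_one N ν' hν'N
  have hord : orderOf ν' ∣ N.index := orderOf_dvd_of_pow_eq_one (x := ν') hνa
  have hcop' : Nat.Coprime d (orderOf ν') := (Nat.Coprime.coprime_dvd_left hord hcop).symm
  obtain ⟨c, hc⟩ := exists_pow_eq_self_of_coprime (x := ν') hcop'
  refine ⟨ν' ^ c, fun n hn => ?_, fun g => ?_⟩
  · rw [MonoidHom.pow_apply, hν'N n hn, one_pow]
  · have h1 : (ν' ^ d) ^ c = ν' := hc
    have h2 := DFunLike.congr_fun h1 g
    rw [MonoidHom.pow_apply, MonoidHom.pow_apply, ← pow_mul] at h2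
    rw [MonoidHom.pow_apply, ← pow_mul, mul_comm c d, h2]
    show μ' g * (δ₀ g)⁻¹ * δ₀ g = μ' g
    rw [inv_mul_cancel_right]

/-- Let N be a normal subgroup of the finite group G and ϑ an irreducible character of N of degree d coprime to the index of N, which is the restriction of some irreducible character of G. Let μ be a character of G of degree 1 whose restriction to N is the determinantal character of ϑ. Then there is exactly one irreducible character χ of G restricting to ϑ whose determinantal character is μ. -/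
theorem result {G : Type*} [Group G] [Finite G] (N : Subgroup G) [N.Normal] (ϑ : N → ℂ) (hϑ : Cfsg.IsIrrCharacter N ϑ) (d : ℕ) (hd : ϑ 1 = d) (hcop : Nat.Coprime N.index d) (hext : ∃ η : G → ℂ, Cfsg.IsIrrCharacter G η ∧ (∀ n : N, η n = ϑ n)) (μ : G → ℂ) (hμ : Cfsg.IsCharacter G μ ∧ μ 1 = 1) (hμN : ∀ n : N, μ n = Cfsg.detChar ϑ n) : ∃! χ : G → ℂ, Cfsg.IsIrrCharacter G χ ∧ (∀ n : N, χ n = ϑ n) ∧ Cfsg.detChar χ = μ := by
  classical
  haveI : Fintype G := Fintype.ofFinite G
  haveI : Fintype N := Fintype.ofFinite N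
  obtain ⟨η, hη, hηN⟩ := hext
  obtain ⟨μ', rfl⟩ := exists_hom_of_linear hμ
  have hηirr := hη
  obtain ⟨m, σ, hσirr, rfl⟩ := hη
  have hηN' : (fun n : N => σ.character n) = ϑ := funext hηN
  have hm : m = d := by
    have h1 : σ.character 1 = m := by
      rw [Representation.char_one, Module.finrank_fin_fun]
    have h2 := hηN 1
    rw [hd] at h2
    have h3 : (m : ℂ) = d := by rw [← h1]; exact h2
    exact_mod_cast h3
  subst hm
  have hσc : Cfsg.IsCharacter G σ.character := ⟨m, σ, rfl⟩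
  set δ₀ := detHom σ with hδ₀
  have hdetσ : Cfsg.detChar σ.character = coeHom G δ₀ := detChar_eq σ
  have hresdet : ∀ n : N, ((δ₀ (n : G) : ℂˣ) : ℂ) = Cfsg.detChar ϑ n := by
    intro n
    have h1 := detChar_restrict N hσc
    rw [hηN', hdetσ] at h1
    exact (congrFun h1 n).symm
  have hμδ : ∀ n ∈ N, μ' n = δ₀ n := by
    intro n hn
    apply Units.ext
    have h1 := hμN ⟨n, hn⟩
    rw [coeHom_apply] at h1
    rw [h1, ← hresdet ⟨n, hn⟩]
  obtain ⟨κ, hκN, hκ⟩ := exists_twist N δ₀ μ' hμδ m hcop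
  -- determinant of a twist of σ
  have hdet_twist : ∀ κ' : G →* ℂˣ, Cfsg.detChar (fun g => ((κ' g : ℂˣ) : ℂ) * σ.character g)
      = coeHom G μ' ↔ ∀ g : G, κ' g ^ m * δ₀ g = μ' g := by
    intro κ'
    rw [detChar_twist, hdetσ]
    constructor
    · intro h g
      apply Units.ext
      have := congrFun h g
      simp only [coeHom_apply] at this
      rw [Units.val_mul, Units.val_pow_eq_pow_val]
      exact this
    · intro h
      funext g
      simp only [coeHom_apply]
      rw [← h g, Units.val_mul, Units.val_pow_eq_pow_val]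
  refine ⟨fun g => ((κ g : ℂˣ) : ℂ) * σ.character g,
    ⟨isIrrCharacter_hom_mul κ hηirr, fun n => ?_, (hdet_twist κ).2 hκ⟩, ?_⟩
  · show ((κ (n : G) : ℂˣ) : ℂ) * σ.character n = ϑ n
    rw [hκN n n.2, Units.val_one, one_mul, hηN n]
  · rintro χ' ⟨hχ'irr, hχ'N, hχ'det⟩
    -- invariance of ϑ
    have hϑinv : ∀ (g : G) (n : N), ϑ ⟨g * n * g⁻¹, ‹N.Normal›.conj_mem (n : G) n.2 g⟩ = ϑ n := by
      intro g n
      rw [← hηN, ← hηN]
      exact Representation.char_conj σ n g
    have hone : Cfsg.IsIrrCharacter N (fun _ => (1 : ℂ)) := Cfsg.Agent.S0161.isIrrCharacter_one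
    have hprod : ((fun _ => (1 : ℂ)) * ϑ : N → ℂ) = ϑ := by
      funext n
      simp
    have hbij := Cfsg.Agent.S0856.result N (fun _ => (1 : ℂ)) ϑ hone hϑ (fun _ _ => rfl) hϑinv
      (by rw [hprod]; exact hϑ) σ.character hηirr hηN
    have hχ'cf := isClassFunction_of_isCharacter (isCharacter_of_irr hχ'irr)
    have hmem : χ' ∈ {ψ : G → ℂ | Cfsg.IsIrrCharacter G ψ ∧
        Cfsg.classInner (Cfsg.indFun N ((fun _ => (1 : ℂ)) * ϑ)) ψ ≠ 0} := by
      refine ⟨hχ'irr, ?_⟩
      rw [hprod, Cfsg.Agent.S0146.result N ϑ χ' hχ'cf, funext hχ'N, classInner_irr_self hϑ]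
      exact one_ne_zero
    obtain ⟨β, ⟨hβirr, hβind⟩, hβχ⟩ := hbij.surjOn hmem
    simp only at hβχ
    -- β is linear
    have hm0 : (m : ℂ) ≠ 0 := by
      have := irr_apply_one_ne_zero hϑ
      rwa [hd] at this
    have hσ1 : σ.character 1 = m := by
      rw [Representation.char_one, Module.finrank_fin_fun]
    have hβ1 : β 1 = 1 := by
      have h1 := congrFun hβχ 1
      rw [Pi.mul_apply, hσ1] at h1
      have h2 : χ' 1 = m := by
        have := hχ'N 1
        rw [hd] at this
        exact this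
      rw [h2] at h1
      exact mul_right_cancel₀ hm0 (by rw [h1, one_mul])
    obtain ⟨κ', rfl⟩ := exists_hom_of_linear ⟨isCharacter_of_irr hβirr, hβ1⟩
    -- κ' is trivial on N
    have hκ'N : ∀ n ∈ N, κ' n = 1 := by
      have hβcf := isClassFunction_of_isCharacter (isCharacter_of_irr hβirr)
      rw [Cfsg.Agent.S0146.result N (fun _ => (1 : ℂ)) _ hβcf] at hβind
      have hres : Cfsg.IsIrrCharacter N (fun n : N => coeHom G κ' n) :=
        Cfsg.Agent.Lib.Helper1.isIrrCharacter_of_hom (κ'.comp N.subtype)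
      have heq : (fun _ : N => (1 : ℂ)) = fun n : N => coeHom G κ' n := by
        by_contra hne
        exact hβind (classInner_irr_ne hone hres hne)
      intro n hn
      apply Units.ext
      have := congrFun heq ⟨n, hn⟩
      simp only [coeHom_apply] at this
      rw [← this, Units.val_one]
    have hχ'eq : χ' = fun g => ((κ' g : ℂˣ) : ℂ) * σ.character g := by
      rw [← hβχ]
      rfl
    have hκ' : ∀ g : G, κ' g ^ m * δ₀ g = μ' g := by
      rw [hχ'eq] at hχ'det
      exact (hdet_twist κ').1 hχ'det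
    rw [hχ'eq]
    funext g
    have hgg : κ' g = κ g := by
      have h1 : (κ' g * (κ g)⁻¹) ^ m = 1 := by
        rw [mul_pow, inv_pow]
        have h2 : κ' g ^ m = κ g ^ m := mul_right_cancel ((hκ' g).trans (hκ g).symm)
        rw [h2, mul_inv_cancel]
      have h3 : (κ' g * (κ g)⁻¹) ^ N.index = 1 := by
        have h4 := pow_index_eq_one N (κ' * κ⁻¹) (by
          intro n hn
          show κ' n * (κ n)⁻¹ = 1
          rw [hκ'N n hn, hκN n hn, inv_one, mul_one])
        have h5 := DFunLike.congr_fun h4 g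
        rw [MonoidHom.pow_apply] at h5
        exact h5
      have h6 := unit_eq_one_of_coprime h3 h1 hcop
      exact mul_inv_eq_one.1 h6
    rw [hgg]

end Cfsg.Agent.S0862
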