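import Cfsg.Statements.S0866
import Mathlib
import Mathlib
import Cfsg.Agent.Lib.Helper2.DetChar
import Cfsg.Agent.Lib.Helper2.ProjExt
import Cfsg.Agent.Lib.Helper8.Deflation
import Cfsg.Agent.Lib.Helper4.Characters

set_option autoImplicit false
open Cfsg

namespace Cfsg.Agent.S0866

open Cfsg.Agent.Lib.Helper2.LinExt Cfsg.Agent.Lib.Helper2.DetChar Cfsg.Agent.Lib.Helper4

/-- Gallagher's extension theorem for a hom-valued determinant extension. -/
theorem ext_of_det {G : Type*} [Group G] [Finite G] (N : Subgroup G) [hN : N.Normal] (ϑ : N → ℂ)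
    (hϑ : Cfsg.IsIrrCharacter N ϑ)
    (hinv : ∀ (g : G) (n : N), ϑ ⟨g * n * g⁻¹, hN.conj_mem (n : G) n.2 g⟩ = ϑ n) (d : ℕ)
    (hd : ϑ 1 = d) (hcop : Nat.Coprime N.index d) (μ' : G →* ℂˣ)
    (hμ : ∀ n : N, ((μ' n : ℂˣ) : ℂ) = Cfsg.detChar ϑ n) :
    ∃ χ : G → ℂ, Cfsg.IsIrrCharacter G χ ∧ ∀ n : N, χ n = ϑ n := by
  classical
  obtain ⟨n, ρ, hρ, rfl⟩ := hϑ
  haveI := hρ
  have hinv' : ∀ (g : G) (x : N), ρ.character (MulAut.conjNormal g x) = ρ.character x := by
    intro g x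
    have h1 := hinv g x
    have h2 : (MulAut.conjNormal g x : N) = ⟨g * x * g⁻¹, hN.conj_mem (x : G) x.2 g⟩ := by
      apply Subtype.ext
      rw [MulAut.conjNormal_apply]
    rw [h2]
    exact h1
  have hμ2 : ∀ x : N, ((μ' x : ℂˣ) : ℂ) = LinearMap.det (ρ x) := by
    intro x
    rw [hμ x, detChar_eq ρ, coeHom_apply, detHom_apply]
  have hfr : Module.finrank ℂ (Fin n → ℂ) = d := by
    have h1 : ρ.character 1 = (n : ℂ) := by
      unfold Representation.character
      rw [map_one, LinearMap.trace_one]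
      simp
    rw [h1] at hd
    have h2 : n = d := by exact_mod_cast hd
    rw [Module.finrank_fin_fun, h2]
  obtain ⟨σ, hσ⟩ := Cfsg.Agent.Lib.Helper2.ProjExt.exists_extension_of_det (N := N) (ρ := ρ) hinv' μ' hμ2
    (by rw [hfr]; exact hcop)
  refine ⟨σ.character, ⟨n, σ, ?_, rfl⟩, fun x => ?_⟩
  · apply Cfsg.Agent.Lib.Helper8.isIrreducible_of_comp σ N.subtype
    have h3 : (σ.comp N.subtype : Representation ℂ N (Fin n → ℂ)) = ρ := by
      apply MonoidHom.ext
      intro x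
      exact hσ x
    rw [h3]
    exact hρ
  · unfold Representation.character
    rw [hσ x]

/-- Let N be a normal subgroup of the finite group G and ϑ an irreducible character of N, invariant under conjugation by G, of degree d coprime to the index of N. Then ϑ is the restriction of an irreducible character of G if and only if the determinantal character of ϑ is the restriction of a character of G of degree 1. -/
theorem result {G : Type*} [Group G] [Finite G] (N : Subgroup G) [hN : N.Normal] (ϑ : N → ℂ) (hϑ : Cfsg.IsIrrCharacter N ϑ) (hinv : ∀ (g : G) (n : N), ϑ ⟨g * n * g⁻¹, hN.conj_mem (n : G) n.2 g⟩ = ϑ n) (d : ℕ) (hd : ϑ 1 = d) (hcop : Nat.Coprime N.index d) : (∃ χ : G → ℂ, Cfsg.IsIrrCharacter G χ ∧ (∀ n : N, χ n = ϑ n)) ↔ ∃ μ : G → ℂ, Cfsg.IsCharacter G μ ∧ μ 1 = 1 ∧ ∀ n : N, μ n = Cfsg.detChar ϑ n := by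
  constructor
  · rintro ⟨χ, hχ, hχN⟩
    obtain ⟨δ, hδ⟩ := exists_detHom (isCharacter_of_irr hχ)
    refine ⟨Cfsg.detChar χ, ?_, ?_, fun n => ?_⟩
    · rw [hδ]; exact (isLinear_coeHom δ).1
    · rw [hδ]; exact (isLinear_coeHom δ).2
    · have h1 := detChar_restrict N (isCharacter_of_irr hχ)
      rw [funext hχN] at h1
      rw [h1]
  · rintro ⟨μ, hμc, hμ1, hμN⟩
    obtain ⟨μ', rfl⟩ := exists_hom_of_linear ⟨hμc, hμ1⟩
    exact ext_of_det N ϑ hϑ hinv d hd hcop μ' (fun n => by rw [← hμN n]; rfl)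

end Cfsg.Agent.S0866
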