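import Cfsg.Statements.S0867
import Mathlib
import Mathlib
import Cfsg.Agent.Lib.Helper2.DetChar
import Cfsg.Agent.Lib.Helper4.Characters
import Cfsg.Agent.S0862
import Cfsg.Agent.S0866

set_option autoImplicit false
open Cfsg

namespace Cfsg.Agent.S0867

open Cfsg.Agent.Lib.Helper2.LinExt Cfsg.Agent.Lib.Helper2.DetChar Cfsg.Agent.Lib.Helper4

/-- Let N be a normal subgroup of the finite group G and ϑ an irreducible character of N of degree d, invariant under conjugation by G, such that the index of N is coprime to the product of d and the determinantal order of ϑ. Then there is an irreducible character χ of G restricting to ϑ whose determinantal order equals that of ϑ, and χ is the only irreducible character of G restricting to ϑ whose determinantal order is coprime to the index of N. -/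
theorem result {G : Type*} [Group G] [Finite G] (N : Subgroup G) [hN : N.Normal] (ϑ : N → ℂ) (hϑ : Cfsg.IsIrrCharacter N ϑ) (hinv : ∀ (g : G) (n : N), ϑ ⟨g * n * g⁻¹, hN.conj_mem (n : G) n.2 g⟩ = ϑ n) (d : ℕ) (hd : ϑ 1 = d) (hcop : Nat.Coprime N.index (Cfsg.detOrder ϑ * d)) : ∃ χ : G → ℂ, (Cfsg.IsIrrCharacter G χ ∧ (∀ n : N, χ n = ϑ n) ∧ Cfsg.detOrder χ = Cfsg.detOrder ϑ) ∧ ∀ χ' : G → ℂ, Cfsg.IsIrrCharacter G χ' → (∀ n : N, χ' n = ϑ n) → Nat.Coprime N.index (Cfsg.detOrder χ') → χ' = χ := by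
  have hϑc := isCharacter_of_irr hϑ
  obtain ⟨φ, hφ⟩ := exists_detHom hϑc
  have hord : Cfsg.detOrder ϑ = orderOf φ := by
    unfold Cfsg.detOrder
    rw [hφ, orderOf_coeHom]
  have hcop1 : Nat.Coprime N.index (orderOf φ) := by
    rw [← hord]
    exact Nat.Coprime.coprime_mul_right_right hcop
  have hcop2 : Nat.Coprime N.index d := Nat.Coprime.coprime_mul_left_right hcop
  have hφinv : ∀ (t : G) (n : N), φ ⟨t * n * t⁻¹, hN.conj_mem n n.2 t⟩ = φ n := by
    intro t n
    let c : N ≃* N := MulAut.conjNormal t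
    have hc : ∀ y : N, c y = ⟨t * y * t⁻¹, hN.conj_mem y y.2 t⟩ := by
      intro y
      apply Subtype.ext
      exact MulAut.conjNormal_apply t y
    have h1 := detChar_comp_hom c.toMonoidHom hϑc
    have h2 : (fun h : N => ϑ (c.toMonoidHom h)) = ϑ := by
      funext h
      show ϑ (c h) = ϑ h
      rw [hc, hinv t h]
    rw [h2] at h1
    have h3 := congrFun h1 n
    rw [hφ] at h3
    apply Units.ext
    have h4 : coeHom N φ (c.toMonoidHom n) = coeHom N φ ⟨t * n * t⁻¹, hN.conj_mem n n.2 t⟩ := by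
      show coeHom N φ (c n) = _
      rw [hc]
    rw [h4, coeHom_apply, coeHom_apply] at h3
    exact h3.symm
  obtain ⟨ψ, hres, hordψ⟩ := exists_extension_of_coprime N φ hφinv hcop1
  have hψN : ∀ n : N, ((ψ n : ℂˣ) : ℂ) = Cfsg.detChar ϑ n := by
    intro n
    rw [hres, hφ]
    rfl
  obtain ⟨η, hηirr, hηN⟩ := Cfsg.Agent.S0866.ext_of_det N ϑ hϑ hinv d hd hcop2 ψ hψN
  obtain ⟨χ, ⟨hχirr, hχN, hχdet⟩, hχuniq⟩ := Cfsg.Agent.S0862.result N ϑ hϑ d hd hcop2
    ⟨η, hηirr, hηN⟩ (coeHom G ψ) (isLinear_coeHom ψ) (fun n => by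
      rw [coeHom_apply]; exact hψN n)
  refine ⟨χ, ⟨hχirr, hχN, ?_⟩, ?_⟩
  · unfold Cfsg.detOrder
    rw [hχdet, orderOf_coeHom, hordψ, hφ, orderOf_coeHom]
  · intro χ' hχ' hχ'N hcop'
    apply hχuniq
    refine ⟨hχ', hχ'N, ?_⟩
    obtain ⟨δ, hδ⟩ := exists_detHom (isCharacter_of_irr hχ')
    rw [hδ]
    congr 1
    apply extension_unique_of_coprime N δ ψ
    · intro n
      have h1 := detChar_restrict N (isCharacter_of_irr hχ')
      rw [funext hχ'N] at h1
      apply Units.ext
      have h2 := congrFun h1 n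
      rw [hφ, hδ, coeHom_apply, coeHom_apply] at h2
      rw [hres]
      exact h2.symm
    · unfold Cfsg.detOrder at hcop'
      rw [hδ, orderOf_coeHom] at hcop'
      exact hcop'
    · rw [hordψ]
      exact hcop1

end Cfsg.Agent.S0867
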