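import Cfsg.Statements.S0886
import Mathlib
import Cfsg.Agent.Lib.Helper2.CyclicExt

set_option autoImplicit false
open Cfsg

namespace Cfsg.Agent.S0886

/-- Let N be a normal subgroup of the finite group G with G / N cyclic, and ϑ an irreducible character of N invariant under conjugation by G. Then ϑ is the restriction of some irreducible character of G. -/
theorem result {G : Type*} [Group G] [Finite G] (N : Subgroup G) [hN : N.Normal] (hcyc : IsCyclic (G ⧸ N)) (ϑ : N → ℂ) (hϑ : Cfsg.IsIrrCharacter N ϑ) (hinv : ∀ (g : G) (n : N), ϑ ⟨g * n * g⁻¹, hN.conj_mem (n : G) n.2 g⟩ = ϑ n) : ∃ χ : G → ℂ, Cfsg.IsIrrCharacter G χ ∧ ∀ n : N, χ n = ϑ n := by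
  classical
  obtain ⟨n, ρ, hρ, rfl⟩ := hϑ
  haveI := hρ
  obtain ⟨q, hq⟩ := hcyc.exists_generator
  obtain ⟨g, rfl⟩ := QuotientGroup.mk_surjective q
  have hgen : ∀ y : G, ∃ i : ℤ, y * g ^ (-i) ∈ N := by
    intro y
    obtain ⟨i, hi⟩ := Subgroup.mem_zpowers_iff.1 (hq (QuotientGroup.mk y))
    refine ⟨i, ?_⟩
    rw [← QuotientGroup.eq_one_iff, QuotientGroup.mk_mul, QuotientGroup.mk_zpow, ← hi, zpow_neg,
      mul_inv_cancel]
  have hinv' : ∀ x : N, ρ.character (MulAut.conjNormal g x) = ρ.character x := by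
    intro x
    have h1 := hinv g x
    have h2 : (MulAut.conjNormal g x : N) = ⟨g * x * g⁻¹, hN.conj_mem (x : G) x.2 g⟩ := by
      apply Subtype.ext
      rw [MulAut.conjNormal_apply]
    rw [h2]
    exact h1
  obtain ⟨σ, hσ⟩ := Cfsg.Agent.Lib.Helper2.CyclicExt.exists_extension N g ρ hinv' hgen
  refine ⟨σ.character, ⟨n, σ, ?_, rfl⟩, fun x => ?_⟩
  · apply Cfsg.Agent.Lib.Helper8.isIrreducible_of_comp σ N.subtype
    have h3 : (σ.comp N.subtype : Representation ℂ N (Fin n → ℂ)) = ρ := by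
      apply MonoidHom.ext
      intro x
      exact hσ x
    rw [h3]
    exact hρ
  · unfold Representation.character
    rw [hσ x]

end Cfsg.Agent.S0886
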