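import Mathlib
import Cfsg.Statements.S0158
import Cfsg.Agent.Lib.Helper1.CharFound8

set_option autoImplicit false
open Cfsg

namespace Cfsg.Agent.S0158

open Cfsg.Agent.Lib.Helper1 Cfsg.Agent.Lib.Helper4
open scoped ComplexConjugate TensorProduct

/-- The trace of `(f ⊗ f) ∘ swap` is the trace of `f ∘ f`. -/
theorem trace_map_comm {V : Type*} [AddCommGroup V] [Module ℂ V] [FiniteDimensional ℂ V]
    (f : V →ₗ[ℂ] V) :
    LinearMap.trace ℂ (V ⊗[ℂ] V)
      (TensorProduct.map f f ∘ₗ (TensorProduct.comm ℂ V V).toLinearMap)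
      = LinearMap.trace ℂ V (f ∘ₗ f) := by
  classical
  let b := Module.finBasis ℂ V
  let B := b.tensorProduct b
  rw [LinearMap.trace_eq_matrix_trace ℂ B, LinearMap.trace_eq_matrix_trace ℂ b,
    LinearMap.toMatrix_comp b b b, Matrix.trace, Matrix.trace, Fintype.sum_prod_type]
  refine Finset.sum_congr rfl fun i _ => ?_
  rw [Matrix.diag_apply, Matrix.mul_apply]
  refine Finset.sum_congr rfl fun j _ => ?_
  rw [Matrix.diag_apply, LinearMap.toMatrix_apply, LinearMap.toMatrix_apply,
    LinearMap.toMatrix_apply]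
  simp only [B, Module.Basis.tensorProduct_apply, LinearMap.comp_apply, LinearEquiv.coe_coe,
    TensorProduct.comm_tmul, TensorProduct.map_tmul, Module.Basis.tensorProduct_repr_tmul_apply]
  rw [smul_eq_mul, mul_comm]

/-- The trace of a projection composed with a commuting involution, when the image has
dimension at most one. -/
theorem trace_proj_invol {M : Type*} [AddCommGroup M] [Module ℂ M] [FiniteDimensional ℂ M]
    (p : Submodule ℂ M) (T τ : M →ₗ[ℂ] M) (hT : LinearMap.IsProj p T)
    (hτ : ∀ x, τ (τ x) = x) (hcomm : ∀ x, T (τ x) = τ (T x)) :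
    (Module.finrank ℂ p = 0 → LinearMap.trace ℂ M (T ∘ₗ τ) = 0) ∧
    (Module.finrank ℂ p = 1 →
      LinearMap.trace ℂ M (T ∘ₗ τ) = 1 ∨ LinearMap.trace ℂ M (T ∘ₗ τ) = -1) := by
  constructor
  · intro h0
    have hp : p = ⊥ := Submodule.finrank_eq_zero.1 h0
    have hT0 : T = 0 := by
      ext x
      have := hT.map_mem x
      rw [hp, Submodule.mem_bot] at this
      simpa using this
    rw [hT0, LinearMap.zero_comp, map_zero]
  · intro h1
    obtain ⟨w, hw0, hw⟩ := finrank_eq_one_iff'.1 h1
    have hwp : (w : M) ∈ p := w.2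
    have hw0' : (w : M) ≠ 0 := fun h => hw0 (Subtype.ext h)
    have hspan : ∀ x ∈ p, ∃ c : ℂ, c • (w : M) = x := by
      intro x hx
      obtain ⟨c, hc⟩ := hw ⟨x, hx⟩
      exact ⟨c, congrArg Subtype.val hc⟩
    have hτw : τ (w : M) ∈ p := by
      have h2 : T (τ (w : M)) = τ (w : M) := by rw [hcomm, hT.map_id _ hwp]
      rw [← h2]
      exact hT.map_mem _
    obtain ⟨ε, hε⟩ := hspan _ hτw
    have hε2 : ε * ε = 1 := by
      have h2 : τ (τ (w : M)) = (ε * ε) • (w : M) := by
        rw [← hε, map_smul, ← hε, smul_smul]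
      rw [hτ] at h2
      have h3 : ((ε * ε) - 1) • (w : M) = 0 := by rw [sub_smul, one_smul, ← h2, sub_self]
      rcases smul_eq_zero.1 h3 with h | h
      · exact sub_eq_zero.1 h
      · exact absurd h hw0'
    have hTτ : T ∘ₗ τ = ε • T := by
      ext x
      rw [LinearMap.comp_apply, hcomm, LinearMap.smul_apply]
      obtain ⟨c, hc⟩ := hspan _ (hT.map_mem x)
      rw [← hc, map_smul, ← hε, smul_smul, smul_smul, mul_comm]
    rw [hTτ, map_smul, hT.trace, h1]
    rcases mul_self_eq_one_iff.1 hε2 with h | h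
    · left; rw [h]; simp
    · right; rw [h]; simp

/-- The Frobenius–Schur indicator of an irreducible complex representation of a finite group — the average over s of the character at s * s — is 0, 1 or −1, and it vanishes exactly when some character value is not real. -/
theorem result {G : Type*} [Group G] [Fintype G] {V : Type*} [AddCommGroup V] [Module ℂ V] [FiniteDimensional ℂ V] (ρ : Representation ℂ G V) [ρ.IsIrreducible] : ((Nat.card G : ℂ)⁻¹ * ∑ s : G, ρ.character (s * s) = 0 ∨ (Nat.card G : ℂ)⁻¹ * ∑ s : G, ρ.character (s * s) = 1 ∨ (Nat.card G : ℂ)⁻¹ * ∑ s : G, ρ.character (s * s) = -1) ∧ ((Nat.card G : ℂ)⁻¹ * ∑ s : G, ρ.character (s * s) = 0 ↔ ∃ s : G, (ρ.character s).im ≠ 0) := by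
  classical
  have hG0 : (Nat.card G : ℂ) ≠ 0 := Nat.cast_ne_zero.2 Nat.card_pos.ne'
  have hG0' : (Fintype.card G : ℂ) ≠ 0 := by rw [Fintype.card_eq_nat_card]; exact hG0
  let _ : Invertible (Nat.card G : ℂ) := invertibleOfNonzero hG0
  let _ : Invertible (Fintype.card G : ℂ) := invertibleOfNonzero hG0'
  set χ := ρ.character with hχ
  have hirr : Cfsg.IsIrrCharacter G χ := isIrrCharacter_character ρ
  let R : Representation ℂ G (V ⊗[ℂ] V) := ρ.tprod ρ
  let T : V ⊗[ℂ] V →ₗ[ℂ] V ⊗[ℂ] V := R.averageMap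
  let τ : V ⊗[ℂ] V →ₗ[ℂ] V ⊗[ℂ] V := (TensorProduct.comm ℂ V V).toLinearMap
  have hT : LinearMap.IsProj R.invariants T := R.isProj_averageMap
  have hTsum : T = (Nat.card G : ℂ)⁻¹ • ∑ g : G, R g := by
    simp only [T, Representation.averageMap, GroupAlgebra.average, map_smul, map_sum,
      MonoidAlgebra.of_apply, Representation.asAlgebraHom_single, one_smul]
    rw [invOf_eq_inv, Fintype.card_eq_nat_card]
  have hRτ : ∀ g : G, R g ∘ₗ τ = τ ∘ₗ R g := by
    intro g
    apply TensorProduct.ext'
    intro x y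
    simp [R, τ, Representation.tprod_apply]
  have hττ : ∀ x, τ (τ x) = x := by
    intro x
    simp [τ]
  have hcomm : ∀ x, T (τ x) = τ (T x) := by
    intro x
    rw [hTsum]
    simp only [LinearMap.smul_apply, LinearMap.sum_apply, map_smul, map_sum]
    congr 1
    refine Finset.sum_congr rfl fun g _ => ?_
    exact LinearMap.congr_fun (hRτ g) x
  -- (a) the indicator is a trace
  have hν : (Nat.card G : ℂ)⁻¹ * ∑ s : G, χ (s * s) = LinearMap.trace ℂ _ (T ∘ₗ τ) := by
    have hsumcomp : (∑ g : G, R g) ∘ₗ τ = ∑ g : G, (R g ∘ₗ τ) :=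
      LinearMap.ext fun x => by simp only [LinearMap.comp_apply, LinearMap.sum_apply]
    rw [hTsum, LinearMap.smul_comp, map_smul, smul_eq_mul, hsumcomp, map_sum]
    congr 1
    refine Finset.sum_congr rfl fun g _ => ?_
    have : R g ∘ₗ τ = TensorProduct.map (ρ g) (ρ g) ∘ₗ (TensorProduct.comm ℂ V V).toLinearMap := rfl
    rw [this, trace_map_comm, hχ]
    unfold Representation.character
    rw [map_mul]
    rfl
  -- (c) the dimension of the invariants
  have hfin : (Module.finrank ℂ R.invariants : ℂ)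
      = if χ = (fun g => conj (χ g)) then 1 else 0 := by
    rw [← Representation.card_inv_mul_sum_char_eq_finrank R, ← classInner_irr hirr (isIrrCharacter_conj hirr),
      classInner_def]
    congr 1
    refine Finset.sum_congr rfl fun g _ => ?_
    simp only [R, Representation.char_tensor, Pi.mul_apply, Complex.conj_conj]
    rfl
  obtain ⟨h0, h1⟩ := trace_proj_invol R.invariants T τ hT hττ hcomm
  rw [hν]
  by_cases hreal : χ = (fun g => conj (χ g))
  · rw [if_pos hreal] at hfin
    have hf1 : Module.finrank ℂ R.invariants = 1 := by exact_mod_cast hfin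
    have h2 := h1 hf1
    have hne : LinearMap.trace ℂ _ (T ∘ₗ τ) ≠ 0 := by
      rcases h2 with h | h <;> rw [h] <;> norm_num
    refine ⟨Or.inr h2, ⟨fun h => absurd h hne, ?_⟩⟩
    rintro ⟨s, hs⟩
    exfalso
    apply hs
    have := congrFun hreal s
    exact Complex.conj_eq_iff_im.1 this.symm
  · rw [if_neg hreal] at hfin
    have hf0 : Module.finrank ℂ R.invariants = 0 := by exact_mod_cast hfin
    have h2 := h0 hf0
    refine ⟨Or.inl h2, ⟨fun _ => ?_, fun _ => h2⟩⟩
    by_contra hcon
    push Not at hcon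
    apply hreal
    funext g
    exact (Complex.conj_eq_iff_im.2 (hcon g)).symm

end Cfsg.Agent.S0158
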