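import Mathlib
import Cfsg.Statements.S0159
import Cfsg.Agent.Lib.Helper1.CharFound5
import Cfsg.Agent.S0156

set_option autoImplicit false
open Cfsg

namespace Cfsg.Agent.S0159

open Cfsg.Agent.Lib.Helper1 Cfsg.Agent.Lib.Helper4
open scoped ComplexConjugate

open Classical in
/-- The number of square roots of `g`, as a complex number. -/
noncomputable def sqrtCount {G : Type*} [Group G] [Fintype G] (g : G) : ℂ :=
  ∑ s : G, if s * s = g then 1 else 0

theorem sqrtCount_isClassFunction {G : Type*} [Group G] [Fintype G] :
    Cfsg.IsClassFunction G (sqrtCount (G := G)) := by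
  classical
  intro g h
  unfold sqrtCount
  rw [← Equiv.sum_comp (MulAut.conj h).toEquiv]
  refine Finset.sum_congr rfl fun s _ => ?_
  simp only [MulEquiv.toEquiv_eq_coe, EquivLike.coe_coe, MulAut.conj_apply]
  have : h * s * h⁻¹ * (h * s * h⁻¹) = h * g * h⁻¹ ↔ s * s = g := by
    constructor
    · intro h1
      have h2 : h * (s * s) * h⁻¹ = h * g * h⁻¹ := by rw [← h1]; group
      exact mul_left_cancel (mul_right_cancel h2)
    · intro h1
      rw [← h1]; group
  simp only [this]

theorem classInner_sqrtCount {G : Type*} [Group G] [Fintype G] (χ : G → ℂ) :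
    Cfsg.classInner sqrtCount χ = conj ((Nat.card G : ℂ)⁻¹ * ∑ s : G, χ (s * s)) := by
  classical
  rw [classInner_def, map_mul, map_inv₀, Complex.conj_natCast, map_sum]
  congr 1
  unfold sqrtCount
  simp only [Finset.sum_mul]
  rw [Finset.sum_comm]
  refine Finset.sum_congr rfl fun s _ => ?_
  simp only [ite_mul, one_mul, zero_mul]
  rw [Finset.sum_ite_eq]
  simp

/-- The number of solutions of s * s = 1 in a finite group equals the sum, over the irreducible characters χ, of (the average over s of χ (s * s)) times χ 1. -/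
theorem result {G : Type*} [Group G] [Fintype G] : (Nat.card {s : G // s * s = 1} : ℂ) = ∑ᶠ χ : Cfsg.IrrCharacter G, ((Nat.card G : ℂ)⁻¹ * ∑ s : G, (χ : G → ℂ) (s * s)) * (χ : G → ℂ) 1 := by
  classical
  have : Fintype (Cfsg.IrrCharacter G) := Fintype.ofFinite _
  rw [finsum_eq_sum_of_fintype]
  have h1 : (Nat.card {s : G // s * s = 1} : ℂ) = sqrtCount (1 : G) := by
    unfold sqrtCount
    rw [Finset.sum_boole]
    congr 1
    apply Nat.subtype_card
    intro s
    simp
  have h2 := congrFun (class_function_expansion sqrtCount (sqrtCount_isClassFunction (G := G))) 1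
  rw [Finset.sum_apply] at h2
  simp only [Pi.smul_apply, smul_eq_mul, classInner_sqrtCount] at h2
  have h3 := congrArg conj h2
  rw [← h1, Complex.conj_natCast, map_sum] at h3
  rw [h3]
  refine Finset.sum_congr rfl fun χ _ => ?_
  rw [map_mul, Complex.conj_conj, Cfsg.Agent.S0156.irr_apply_one_conj χ.2]

end Cfsg.Agent.S0159
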