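import Mathlib
import Cfsg.Statements.S1226
import Cfsg.Agent.Lib.Helper3.Basic

set_option autoImplicit false
open Cfsg
open scoped Pointwise
open Cfsg.Agent.Lib.Helper3

namespace Cfsg.Agent.S1226

variable {G : Type*} [Group G]

theorem sq_of_orderOf_two {t : G} (ht : orderOf t = 2) : t * t = 1 := by
  have := pow_orderOf_eq_one t
  rwa [ht, pow_two] at this

/-- a 2-element (here: involution) of the normalizer of a Sylow 2-subgroup lies in it -/
theorem mem_sylow_of_mem_normalizer [Finite G] (T : Sylow 2 G) (t : G) (ht : orderOf t = 2)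
    (htN : t ∈ Subgroup.normalizer ((T : Subgroup G) : Set G)) : t ∈ (T : Subgroup G) := by
  have : Fact (Nat.Prime 2) := ⟨Nat.prime_two⟩
  have h1 : IsPGroup 2 (Subgroup.zpowers t) := by
    rw [IsPGroup.iff_card]
    exact ⟨1, by rw [Nat.card_zpowers, ht, pow_one]⟩
  have h2 : IsPGroup 2 (Subgroup.zpowers t ⊔ (T : Subgroup G) : Subgroup G) :=
    IsPGroup.to_sup_of_normal_right' h1 T.2 (Subgroup.zpowers_le.mpr htN)
  have h3 := T.is_maximal' h2 le_sup_right
  have h4 : t ∈ Subgroup.zpowers t ⊔ (T : Subgroup G) :=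
    (le_sup_left : Subgroup.zpowers t ≤ _) (Subgroup.mem_zpowers t)
  rwa [h3] at h4

theorem result {G : Type*} [Group G] [Finite G] (T : Sylow 2 G) (hnc : ¬ IsCyclic (T : Subgroup G)) (hnn : ¬ (T : Subgroup G).Normal) (hC : ∀ t : G, orderOf t = 2 → IsMulCommutative (Subgroup.centralizer ({t} : Set G)) ∧ ∀ c ∈ Subgroup.centralizer ({t} : Set G), c ^ 2 = 1) : Cfsg.IsStronglyEmbedded (Subgroup.normalizer ((T : Subgroup G) : Set G)) := by
  have : Fact (Nat.Prime 2) := ⟨Nat.prime_two⟩
  classical
  have hTnt : Nontrivial (T : Subgroup G) := by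
    by_contra h
    rw [not_nontrivial_iff_subsingleton] at h
    exact hnc isCyclic_of_subsingleton
  -- centralizers of involutions are 2-groups
  have hC2 : ∀ t : G, orderOf t = 2 → IsPGroup 2 (Subgroup.centralizer ({t} : Set G)) := by
    intro t ht c
    refine ⟨1, ?_⟩
    rw [pow_one]
    apply Subtype.ext
    simp only [Subgroup.coe_pow, Subgroup.coe_one]
    exact (hC t ht).2 c.1 c.2
  -- an involution in the center of T
  have hcent : Nontrivial (Subgroup.center (T : Subgroup G)) := T.2.center_nontrivial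
  obtain ⟨z, hz⟩ : ∃ z : Subgroup.center (T : Subgroup G), orderOf z = 2 := by
    have := Fintype.ofFinite (Subgroup.center (T : Subgroup G))
    apply exists_prime_orderOf_dvd_card 2
    rw [← Nat.card_eq_fintype_card]
    have hp : IsPGroup 2 (Subgroup.center (T : Subgroup G)) := T.2.to_subgroup _
    rcases hp.card_eq_or_dvd with h | h
    · exfalso
      have := (Nat.card_eq_one_iff_unique.mp h).1
      exact not_subsingleton _ this
    · exact h
  have hzo : orderOf ((z : (T : Subgroup G)) : G) = 2 := by
    rw [Subgroup.orderOf_coe, Subgroup.orderOf_coe]; exact hz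
  have hTle : (T : Subgroup G) ≤ Subgroup.centralizer ({((z : (T : Subgroup G)) : G)} : Set G) := by
    intro x hx
    rw [Subgroup.mem_centralizer_singleton_iff]
    have := (Subgroup.mem_center_iff.mp z.2) ⟨x, hx⟩
    exact (congrArg Subtype.val this)
  have hTeq : Subgroup.centralizer ({((z : (T : Subgroup G)) : G)} : Set G) = T :=
    T.is_maximal' (hC2 _ hzo) hTle
  have hTcomm : ∀ x ∈ (T : Subgroup G), ∀ y ∈ (T : Subgroup G), x * y = y * x := by
    intro x hx y hy
    have hc := (hC _ hzo).1
    rw [← hTeq] at hx hy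
    exact congrArg Subtype.val (hc.is_comm.comm ⟨x, hx⟩ ⟨y, hy⟩)
  have hcentT : ∀ t ∈ (T : Subgroup G), orderOf t = 2 → Subgroup.centralizer ({t} : Set G) = T := by
    intro t htT ht
    apply T.is_maximal' (hC2 t ht)
    intro x hx
    rw [Subgroup.mem_centralizer_singleton_iff]
    exact hTcomm x hx t htT
  refine ⟨?_, ?_, ?_⟩
  · intro h
    apply hnn
    exact Subgroup.normalizer_eq_top_iff.mp h
  · have h2 : 2 ∣ Nat.card (T : Subgroup G) := by
      rcases T.2.card_eq_or_dvd with h | h
      · exfalso
        have := (Nat.card_eq_one_iff_unique.mp h).1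
        exact not_subsingleton _ this
      · exact h
    exact even_iff_two_dvd.mpr (dvd_trans h2 (Subgroup.card_dvd_of_le Subgroup.le_normalizer))
  · intro g hg
    rw [← Nat.not_even_iff_odd]
    intro heven
    apply hg
    set M := Subgroup.normalizer ((T : Subgroup G) : Set G) with hM
    change Even (Nat.card (M ⊓ MulAut.conj g • M : Subgroup G)) at heven
    obtain ⟨t, ht⟩ : ∃ t : (M ⊓ MulAut.conj g • M : Subgroup G), orderOf t = 2 := by
      have := Fintype.ofFinite (M ⊓ MulAut.conj g • M : Subgroup G)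
      apply exists_prime_orderOf_dvd_card 2
      rw [← Nat.card_eq_fintype_card]
      exact even_iff_two_dvd.mp heven
    have hto : orderOf (t : G) = 2 := by rw [Subgroup.orderOf_coe]; exact ht
    have htM : (t : G) ∈ M := (Subgroup.mem_inf.mp t.2).1
    have htMg : (t : G) ∈ MulAut.conj g • M := (Subgroup.mem_inf.mp t.2).2
    rw [mem_conj_smul_iff] at htMg
    have htT : (t : G) ∈ (T : Subgroup G) := mem_sylow_of_mem_normalizer T _ hto htM
    have hto' : orderOf (g⁻¹ * (t : G) * g) = 2 := by
      have : g⁻¹ * (t : G) * g = MulAut.conj g⁻¹ (t : G) := by simp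
      rw [this, MulEquiv.orderOf_eq]; exact hto
    have htT' : g⁻¹ * (t : G) * g ∈ (T : Subgroup G) := mem_sylow_of_mem_normalizer T _ hto' htMg
    have h1 := hcentT _ htT hto
    have h2 := hcentT _ htT' hto'
    -- g normalizes T
    rw [hM]
    have key : ∀ y : G, y ∈ (T : Subgroup G) → g * y * g⁻¹ ∈ (T : Subgroup G) := by
      intro y hy
      rw [← h1, Subgroup.mem_centralizer_singleton_iff]
      rw [← h2, Subgroup.mem_centralizer_singleton_iff] at hy
      calc g * y * g⁻¹ * (t : G) = g * (y * (g⁻¹ * (t : G) * g)) * g⁻¹ := by group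
        _ = g * ((g⁻¹ * (t : G) * g) * y) * g⁻¹ := by rw [hy]
        _ = (t : G) * (g * y * g⁻¹) := by group
    have hle : MulAut.conj g • (T : Subgroup G) ≤ (T : Subgroup G) := by
      intro x hx
      rw [mem_conj_smul_iff] at hx
      have := key _ hx
      have e : g * (g⁻¹ * x * g) * g⁻¹ = x := by group
      rwa [e] at this
    have heq : MulAut.conj g • (T : Subgroup G) = (T : Subgroup G) := by
      apply Subgroup.eq_of_le_of_card_ge hle
      have : (MulAut.conj g • (T : Subgroup G) : Subgroup G) = (T : Subgroup G).map (MulAut.conj g).toMonoidHom := rfl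
      rw [this, Subgroup.card_map_of_injective (MulAut.conj g).injective]
    exact Subgroup.mem_normalizer_iff_map_conj_eq.mpr heq

end Cfsg.Agent.S1226
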