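import Mathlib
-- Template for statement S1230 (row 1230; see /opt/grader/pristine/manifest.json for weights).
-- Copy to Cfsg/Agent/S1230.lean and replace the sorry. The statement below is byte-identical to the frozen
-- statement Cfsg.CfsgFrozen.S1230 (Cfsg/Statements/S1230.lean; the theorem Cfsg.elementary_involution_centralizers_is_psl_two);
-- the grader kernel-checks Cfsg.Agent.S1230.result against that frozen type. Keep the theorem IN THIS FILE
-- (a `result` declared elsewhere and merely imported here is not credited); helpers may live anywhere
-- under Cfsg/Agent/.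
import Cfsg.Statements.S1230
import Cfsg.Agent.Lib.Helper3.ElemInv6

set_option autoImplicit false
open Cfsg


namespace Cfsg.Agent.S1230

/-- Let G be a finite group with a Sylow 2-subgroup T that is neither cyclic nor normal, such that the centralizer of every involution is an elementary abelian 2-group. Then G ≅ PSL(2,F) for a finite field F with |F| = |T|. -/
theorem result {G : Type*} [Group G] [Finite G] (T : Sylow 2 G) (hnc : ¬ IsCyclic (T : Subgroup G)) (hnn : ¬ (T : Subgroup G).Normal) (hC : ∀ t : G, orderOf t = 2 → IsMulCommutative (Subgroup.centralizer ({t} : Set G)) ∧ ∀ c ∈ Subgroup.centralizer ({t} : Set G), c ^ 2 = 1) : ∃ (F : Type) (_ : Field F) (_ : Fintype F), Fintype.card F = Nat.card T ∧ Nonempty (G ≃* Matrix.ProjectiveSpecialLinearGroup (Fin 2) F) := by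
  have h : Cfsg.Agent.Lib.Helper3.ElemInv.Setup T := ⟨hnc, hnn, hC⟩
  exact h.exists_equiv_psl

end Cfsg.Agent.S1230
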