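import Mathlib
import Cfsg.Statements.S0035
import Cfsg.Agent.Lib.Lead.Frobenius2
import Cfsg.Agent.Lib.Helper4.VirtualChar
import Cfsg.Agent.Lib.Helper8.ClassAlgebra3
import Cfsg.Agent.Lib.Helper1.IndFun
import Cfsg.Agent.S0139
import Cfsg.Agent.S0146
import Cfsg.Agent.S0148
import Cfsg.Agent.S0149
import Cfsg.Agent.S0161
import Cfsg.Agent.S0170

set_option autoImplicit false
open Cfsg

namespace Cfsg.Agent.S0035

open Cfsg.Agent.Lib.Helper1 Cfsg.Agent.Lib.Helper4 Cfsg.Agent.Lib.Lead
open scoped ComplexConjugate Pointwise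

section Star

variable {G : Type*} [Group G] [Fintype G]

/-- The trivial-intersection property of a Frobenius complement. -/
theorem frob_TI {H : Subgroup G} (hH : Cfsg.IsFrobeniusComplement H) :
    ∀ g : G, g ∉ H → ∀ t ∈ (H : Set G), g * t * g⁻¹ ∈ (H : Set G) → t = 1 := by
  intro g hg t ht hgt
  have hg' : g⁻¹ ∉ H := fun h => hg (by simpa using H.inv_mem h)
  have h0 := hH.2.2 g⁻¹ hg'
  have : t ∈ H ⊓ MulAut.conj g⁻¹ • H := by
    refine Subgroup.mem_inf.2 ⟨ht, ?_⟩
    rw [mem_conj_smul_iff]
    simpa using hgt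
  rw [h0, Subgroup.mem_bot] at this
  exact this

/-- Inducing a class function vanishing at the identity and restricting back gives the same function. -/
theorem indFun_restrict {H : Subgroup G} (hH : Cfsg.IsFrobeniusComplement H) (φ : H → ℂ)
    (hφ : Cfsg.IsClassFunction H φ) (h1 : φ 1 = 0) (h : H) : Cfsg.indFun H φ h = φ h := by
  by_cases hh : h = 1
  · subst hh
    rw [OneMemClass.coe_one, Cfsg.Agent.S0170.indFun_one, h1]
    simp
  · exact Cfsg.Agent.S0149.aux (H : Set G) H (frob_TI hH) φ hφ (fun x hx => absurd x.2 hx) h h.2 hh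

/-- An induced function vanishes at elements lying in no conjugate of the subgroup. -/
theorem indFun_eq_zero_of_not_conj (H : Subgroup G) (φ : H → ℂ) (x : G)
    (hx : ∀ g : G, x ∉ MulAut.conj g • H) : Cfsg.indFun H φ x = 0 := by
  rw [indFun_apply, Finset.sum_eq_zero, mul_zero]
  intro y _
  apply extendByZero_of_notMem
  intro hmem
  exact hx y (mem_conj_smul_iff.2 hmem)

/-- The extension `θ*` of a function on `H`. -/
noncomputable def star (H : Subgroup G) (θ : H → ℂ) : G → ℂ :=
  Cfsg.indFun H (θ - fun _ => θ 1) + fun _ => θ 1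

theorem isClassFunction_const {K : Type*} [Group K] (c : ℂ) : Cfsg.IsClassFunction K (fun _ => c) :=
  fun _ _ => rfl

theorem star_restrict {H : Subgroup G} (hH : Cfsg.IsFrobeniusComplement H) (θ : H → ℂ)
    (hθ : Cfsg.IsClassFunction H θ) (h : H) : star H θ h = θ h := by
  unfold star
  rw [Pi.add_apply, indFun_restrict hH _ (isClassFunction_sub hθ (isClassFunction_const _)) (by simp)]
  simp

theorem star_one {H : Subgroup G} (hH : Cfsg.IsFrobeniusComplement H) (θ : H → ℂ)
    (hθ : Cfsg.IsClassFunction H θ) : star H θ 1 = θ 1 := by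
  have := star_restrict hH θ hθ 1
  simpa using this

theorem star_off (H : Subgroup G) (θ : H → ℂ) (x : G)
    (hx : ∀ g : G, x ∉ MulAut.conj g • H) : star H θ x = θ 1 := by
  unfold star
  rw [Pi.add_apply, indFun_eq_zero_of_not_conj H _ x hx, zero_add]

theorem star_irr {H : Subgroup G} (hH : Cfsg.IsFrobeniusComplement H) {θ : H → ℂ}
    (hθ : Cfsg.IsIrrCharacter H θ) (hne : θ ≠ fun _ => 1) : Cfsg.IsIrrCharacter G (star H θ) := by
  classical
  have : Fintype H := Fintype.ofFinite H
  obtain ⟨d, hd0, hd⟩ := irr_apply_one_pos hθ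
  have hθc : Cfsg.IsClassFunction H θ := isClassFunction_irr hθ
  have h1H : Cfsg.IsIrrCharacter H (fun _ => (1 : ℂ)) := Cfsg.Agent.S0161.isIrrCharacter_one
  have h1G : Cfsg.IsIrrCharacter G (fun _ => (1 : ℂ)) := Cfsg.Agent.S0161.isIrrCharacter_one
  have hconstH : (fun _ : H => θ 1) = (d : ℂ) • (fun _ : H => (1 : ℂ)) := by
    funext x; simp [hd]
  have hconstG : (fun _ : G => θ 1) = (d : ℂ) • (fun _ : G => (1 : ℂ)) := by
    funext x; simp [hd]
  -- generalized character
  have hgen : Cfsg.IsGeneralizedCharacter G (star H θ) := by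
    unfold star
    rw [Cfsg.Agent.S0170.indFun_sub]
    refine isGenChar_add (isGenChar_sub ?_ ?_) ?_
    · exact isGenChar_of_isCharacter (Cfsg.Agent.S0148.result H θ (isCharacter_of_irr hθ))
    · apply isGenChar_of_isCharacter
      apply Cfsg.Agent.S0148.result H
      rw [hconstH]
      exact isCharacter_nsmul (isCharacter_of_irr h1H) d
    · apply isGenChar_of_isCharacter
      rw [hconstG]
      exact isCharacter_nsmul (isCharacter_of_irr h1G) d
  have hcf : Cfsg.IsClassFunction G (star H θ) := isGenChar_isClassFunction hgen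
  set φ : H → ℂ := θ - fun _ => θ 1 with hφ
  have hres : (fun h : H => star H θ h) = θ := funext fun h => star_restrict hH θ hθc h
  have hθ1 : Cfsg.classInner θ (fun _ : H => (1 : ℂ)) = 0 := classInner_irr_ne hθ h1H hne
  have h1θ : Cfsg.classInner (fun _ : H => (1 : ℂ)) θ = 0 := classInner_irr_ne h1H hθ (Ne.symm hne)
  -- first piece
  have hA : Cfsg.classInner (Cfsg.indFun H φ) (star H θ) = 1 := by
    rw [Cfsg.Agent.S0146.result H φ _ hcf, hres, hφ, classInner_sub_left, classInner_irr_self hθ,
      hconstH, classInner_smul_left, h1θ]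
    simp
  -- second piece
  have hB : Cfsg.classInner (star H θ) (fun _ : G => (1 : ℂ)) = 0 := by
    have hstar : star H θ = Cfsg.indFun H φ + fun _ => θ 1 := rfl
    rw [hstar, classInner_add_left,
      Cfsg.Agent.S0146.result H φ _ (isClassFunction_const 1), hφ, classInner_sub_left, hθ1,
      hconstH, hconstG, classInner_smul_left, classInner_smul_left,
      classInner_irr_self h1H, classInner_irr_self h1G]
    simp
  have hB' : Cfsg.classInner (fun _ : G => (1 : ℂ)) (star H θ) = 0 := by
    rw [← classInner_conj_symm, hB, map_zero]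
  have hnorm : Cfsg.classInner (star H θ) (star H θ) = 1 := by
    have hstar : Cfsg.classInner (star H θ) (star H θ)
        = Cfsg.classInner (Cfsg.indFun H φ) (star H θ)
          + Cfsg.classInner (fun _ : G => θ 1) (star H θ) := by
      rw [← classInner_add_left]; rfl
    rw [hstar, hA, hconstG, classInner_smul_left, hB']
    simp
  obtain ⟨ψ, hψ, h | h⟩ := genChar_norm_one hgen hnorm
  · rw [h]; exact hψ
  · exfalso
    obtain ⟨e, he0, he⟩ := irr_apply_one_pos hψ
    have h2 := congrFun h 1
    rw [star_one hH θ hθc, hd, Pi.neg_apply, he] at h2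
    have h3 : ((d : ℤ) : ℂ) = ((-(e : ℤ) : ℤ) : ℂ) := by push_cast; exact h2
    have h4 : (d : ℤ) = -(e : ℤ) := by exact_mod_cast h3
    omega

end Star

/-- Frobenius' Theorem: if H is a Frobenius complement in a finite group, the identity together with the elements lying in no conjugate of H form a normal subgroup, which is a complement to H. -/
theorem result {G : Type*} [Group G] [Finite G] (H : Subgroup G) (hH : Cfsg.IsFrobeniusComplement H) :
    ∃ N : Subgroup G, (N : Set G) = Cfsg.frobeniusKernel H ∧ N.Normal ∧ Subgroup.IsComplement' N H := by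
  classical
  have : Fintype G := Fintype.ofFinite G
  have : Fintype H := Fintype.ofFinite H
  have : Fintype (Cfsg.IrrCharacter H) := Fintype.ofFinite _
  have hrep : ∀ θ : {θ : Cfsg.IrrCharacter H // (θ : H → ℂ) ≠ fun _ => 1},
      ∃ (n : ℕ) (ρ : Representation ℂ G (Fin n → ℂ)), ρ.character = star H (θ.1 : H → ℂ) := by
    intro θ
    obtain ⟨n, ρ, _, h⟩ := star_irr hH θ.1.2 θ.2
    exact ⟨n, ρ, h⟩
  choose n ρ hρ using hrep
  let N : Subgroup G := ⨅ θ, MonoidHom.ker (ρ θ)
  have hNn : N.Normal := Subgroup.normal_iInf_normal fun θ => MonoidHom.normal_ker _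
  have hmem : ∀ x : G, x ∈ N ↔ ∀ θ : {θ : Cfsg.IrrCharacter H // (θ : H → ℂ) ≠ fun _ => 1},
      star H (θ.1 : H → ℂ) x = (θ.1 : H → ℂ) 1 := by
    intro x
    simp only [N, Subgroup.mem_iInf, MonoidHom.mem_ker]
    refine forall_congr' fun θ => ?_
    have h1 := Cfsg.Agent.S0139.result (ρ θ) x
    have h2 : ((ρ θ).character 1 : ℂ) = (Module.finrank ℂ (Fin (n θ) → ℂ) : ℂ) :=
      Representation.char_one _
    rw [← h2, hρ θ, star_one hH _ (isClassFunction_irr θ.1.2)] at h1
    rw [h1]
    rfl
  have hset : (N : Set G) = Cfsg.frobeniusKernel H := by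
    ext x
    constructor
    · intro hx
      by_contra hxk
      obtain ⟨hx1, g, hg⟩ := not_mem_frobeniusKernel_iff.1 hxk
      rw [mem_conj_smul_iff] at hg
      have hhN : g⁻¹ * x * g ∈ N := by
        have := hNn.conj_mem x hx g⁻¹
        simpa using this
      have hall : ∀ χ : Cfsg.IrrCharacter H, (χ : H → ℂ) ⟨g⁻¹ * x * g, hg⟩ = (χ : H → ℂ) 1 := by
        intro χ
        by_cases hχ : (χ : H → ℂ) = fun _ => 1
        · rw [hχ]
        · have h1 := (hmem _).1 hhN ⟨χ, hχ⟩
          have h2 := star_restrict hH (χ : H → ℂ) (isClassFunction_irr χ.2) ⟨g⁻¹ * x * g, hg⟩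
          simp only at h1 h2
          rw [← h2, h1]
      have hconj := Cfsg.Agent.Lib.Helper8.isConj_of_forall_irr_eq hall
      have h1 : (⟨g⁻¹ * x * g, hg⟩ : H) = 1 := isConj_one_left.1 hconj
      have h2 : g⁻¹ * x * g = 1 := congrArg Subtype.val h1
      apply hx1
      have : x = g * (g⁻¹ * x * g) * g⁻¹ := by group
      rw [this, h2]; group
    · intro hx
      rcases hx with rfl | hx
      · exact N.one_mem
      · exact (hmem x).2 fun θ => star_off H _ x hx
  refine ⟨N, hset, hNn, ?_⟩
  apply Subgroup.isComplement'_of_card_mul_and_disjoint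
  · have h1 : Nat.card N = Nat.card (Cfsg.frobeniusKernel H) := by
      rw [← hset]; rfl
    rw [h1, card_frobeniusKernel hH, mul_comm, Subgroup.card_mul_index]
  · rw [Subgroup.disjoint_def]
    intro x hxN hxH
    have hx : x ∈ Cfsg.frobeniusKernel H := by rw [← hset]; exact hxN
    rcases hx with rfl | hx
    · rfl
    · exfalso
      apply hx 1
      rw [mem_conj_smul_iff]
      simpa using hxH

end Cfsg.Agent.S0035
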