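import Mathlib
import Cfsg.Statements.S0142
import Cfsg.Agent.Lib.Helper1.CycloNorm
import Cfsg.Agent.Lib.Helper1.CharInt
import Cfsg.Agent.S0140
import Cfsg.Agent.S0141

set_option autoImplicit false
open Cfsg

namespace Cfsg.Agent.S0142

open Cfsg.Agent.Lib.Helper1 Cfsg.Agent.Lib.Helper4

/-- If the degree of an irreducible complex representation of a finite group is coprime to the size of the conjugacy class of g, then the character at g is zero or has absolute value equal to the degree. -/
theorem result {G : Type*} [Group G] [Finite G] {V : Type*} [AddCommGroup V] [Module ℂ V] [FiniteDimensional ℂ V] (ρ : Representation ℂ G V) [ρ.IsIrreducible] (g : G) (hcop : Nat.Coprime (Module.finrank ℂ V) (Subgroup.centralizer ({g} : Set G)).index) : ρ.character g = 0 ∨ ‖ρ.character g‖ = (Module.finrank ℂ V : ℝ) := by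
  classical
  have hnt := nontrivial_of_irreducible ρ
  set d := Module.finrank ℂ V with hd
  have hd0 : d ≠ 0 := (Module.finrank_pos (R := ℂ) (M := V)).ne'
  have hdC : (d : ℂ) ≠ 0 := Nat.cast_ne_zero.2 hd0
  set idx := (Subgroup.centralizer ({g} : Set G)).index with hidx
  have h1 := Cfsg.Agent.S0141.result ρ g
  have h2 := Cfsg.Agent.S0140.result ρ g
  have hco : IsCoprime (d : ℤ) (idx : ℤ) := Nat.isCoprime_iff_coprime.2 hcop
  obtain ⟨a, b, hab⟩ := hco
  have hint : IsIntegral ℤ (ρ.character g / (d : ℂ)) := by
    have heq : ρ.character g / (d : ℂ)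
        = (a : ℂ) * ρ.character g + (b : ℂ) * ((idx : ℂ) * ρ.character g / (d : ℂ)) := by
      have habC : (a : ℂ) * (d : ℂ) + (b : ℂ) * (idx : ℂ) = 1 := by exact_mod_cast hab
      field_simp
      linear_combination (-(ρ.character g)) * habC
    rw [heq]
    refine IsIntegral.add (IsIntegral.mul ?_ h2) (IsIntegral.mul ?_ h1)
    · exact isIntegral_algebraMap (R := ℤ) (x := a)
    · exact isIntegral_algebraMap (R := ℤ) (x := b)
  exact character_eq_zero_or_norm_eq (isCharacter_character ρ) g d (Representation.char_one ρ) hd0 hint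

end Cfsg.Agent.S0142
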