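import Mathlib
import Cfsg.Statements.S0143
import Cfsg.Agent.Lib.Helper1.CharFound8
import Cfsg.Agent.Lib.Helper1.CharInt
import Cfsg.Agent.S0138
import Cfsg.Agent.S0139
import Cfsg.Agent.S0140
import Cfsg.Agent.S0142
import Cfsg.Agent.S0155
import Cfsg.Agent.S0156
import Cfsg.Agent.S0161

set_option autoImplicit false
open Cfsg

namespace Cfsg.Agent.S0143

open Cfsg.Agent.Lib.Helper1 Cfsg.Agent.Lib.Helper4

/-- A commutative simple finite group has prime order. -/
theorem prime_card_of_comm {G : Type*} [inst : Group G] [Finite G] [IsSimpleGroup G]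
    (h : ∀ a b : G, a * b = b * a) : (Nat.card G).Prime := by
  let _ : CommGroup G := { inst with mul_comm := h }
  exact IsSimpleGroup.prime_card

/-- In a simple group a non-identity central element forces commutativity. -/
theorem comm_of_central {G : Type*} [Group G] [IsSimpleGroup G] (g : G) (hg : g ≠ 1)
    (hc : ∀ y : G, y * g = g * y) : ∀ a b : G, a * b = b * a := by
  have h1 : g ∈ Subgroup.center G := by
    rw [Subgroup.mem_center_iff]
    exact hc
  have h2 : Subgroup.center G ≠ ⊥ := by
    intro h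
    rw [h, Subgroup.mem_bot] at h1
    exact hg h1
  have h3 : Subgroup.center G = ⊤ :=
    (Subgroup.Normal.eq_bot_or_eq_top (inferInstance : (Subgroup.center G).Normal)).resolve_left h2
  intro a b
  have : a ∈ Subgroup.center G := by rw [h3]; trivial
  exact ((Subgroup.mem_center_iff.1 this) b).symm

/-- In a nonabelian simple group, a nontrivial irreducible representation cannot map a
non-identity element to a scalar. -/
theorem not_scalar {G : Type*} [Group G] [Finite G] [IsSimpleGroup G]
    (hnc : ¬ ∀ a b : G, a * b = b * a) (n : ℕ) (ρ : Representation ℂ G (Fin n → ℂ))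
    (hirr : ρ.IsIrreducible) (hne : ρ.character ≠ fun _ => 1) (g : G) (hg : g ≠ 1) (ω : ℂ)
    (hω : ρ g = ω • LinearMap.id) : False := by
  classical
  have : Fintype G := Fintype.ofFinite G
  -- commutators with g lie in the kernel
  have hker : (MonoidHom.ker ρ) = ⊥ ∨ (MonoidHom.ker ρ) = ⊤ :=
    Subgroup.Normal.eq_bot_or_eq_top (MonoidHom.normal_ker ρ)
  rcases hker with hbot | htop
  · apply hnc
    apply comm_of_central g hg
    intro y
    have h1 : y * g * y⁻¹ * g⁻¹ ∈ MonoidHom.ker ρ := by
      rw [MonoidHom.mem_ker]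
      have hω' : ρ g = ω • (1 : Module.End ℂ (Fin n → ℂ)) := hω
      have h2 : ρ (y * g * y⁻¹) = ρ g := by
        rw [map_mul, map_mul, hω', mul_smul_comm, mul_one, smul_mul_assoc, ← map_mul,
          mul_inv_cancel, map_one]
      have : y * g * y⁻¹ * g⁻¹ = (y * g * y⁻¹) * g⁻¹ := by group
      rw [this, map_mul, h2, ← map_mul, mul_inv_cancel, map_one]
    rw [hbot, Subgroup.mem_bot] at h1
    have : y * g = (y * g * y⁻¹ * g⁻¹) * (g * y) := by group
    rw [this, h1, one_mul]
  · -- trivial representation: its character is constant, of norm one, hence equal to 1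
    have htriv : ∀ x : G, ρ x = 1 := by
      intro x
      have : x ∈ MonoidHom.ker ρ := by rw [htop]; trivial
      exact MonoidHom.mem_ker.1 this
    have hχ : ∀ x : G, ρ.character x = (n : ℂ) := by
      intro x
      unfold Representation.character
      rw [htriv x]
      simp
    have hirrχ : Cfsg.IsIrrCharacter G ρ.character := ⟨n, ρ, hirr, rfl⟩
    have hnorm := classInner_irr_self hirrχ
    rw [classInner_def] at hnorm
    simp only [hχ, Complex.conj_natCast] at hnorm
    rw [Finset.sum_const, Finset.card_univ, ← Nat.card_eq_fintype_card, nsmul_eq_mul, ← mul_assoc,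
      inv_mul_cancel₀ (Nat.cast_ne_zero.2 Nat.card_pos.ne'), one_mul] at hnorm
    have hn1 : n = 1 := by
      have : ((n * n : ℕ) : ℂ) = ((1 : ℕ) : ℂ) := by push_cast; exact hnorm
      have h2 : n * n = 1 := by exact_mod_cast this
      exact Nat.eq_one_of_mul_eq_one_right h2
    apply hne
    funext x
    rw [hχ x, hn1, Nat.cast_one]

/-- If a finite simple group has a non-identity element whose conjugacy class has prime-power size, then the group has prime order. -/
theorem result {G : Type*} [Group G] [Finite G] [IsSimpleGroup G] (p k : ℕ) (hp : p.Prime) (g : G) (hg : g ≠ 1) (hclass : (Subgroup.centralizer ({g} : Set G)).index = p ^ k) : (Nat.card G).Prime := by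
  classical
  by_cases hc : ∀ a b : G, a * b = b * a
  · exact prime_card_of_comm hc
  exfalso
  have : Fintype G := Fintype.ofFinite G
  have : Fintype (Cfsg.IrrCharacter G) := Fintype.ofFinite _
  -- every nontrivial irreducible character either has degree divisible by p or vanishes at g
  have hkey : ∀ χ : Cfsg.IrrCharacter G, (χ : G → ℂ) ≠ (fun _ => 1) →
      ∃ β : ℂ, IsIntegral ℤ β ∧ (χ : G → ℂ) 1 * (χ : G → ℂ) g = (p : ℂ) * β := by
    intro χ hχ1
    obtain ⟨n, ρ, hirr, hρ⟩ := χ.2
    have hn : (χ : G → ℂ) 1 = n := by rw [← hρ, Representation.char_one]; simp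
    have hint : IsIntegral ℤ ((χ : G → ℂ) g) := by
      rw [← hρ]; exact Cfsg.Agent.S0140.result ρ g
    by_cases hpn : p ∣ n
    · obtain ⟨m, rfl⟩ := hpn
      refine ⟨(m : ℂ) * (χ : G → ℂ) g, IsIntegral.mul ?_ hint, ?_⟩
      · exact isIntegral_algebraMap (R := ℤ) (x := (m : ℤ)) |> fun h => by simpa using h
      · rw [hn]; push_cast; ring
    · have hcop : Nat.Coprime (Module.finrank ℂ (Fin n → ℂ))
          (Subgroup.centralizer ({g} : Set G)).index := by
        rw [hclass, Module.finrank_fin_fun]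
        exact Nat.Coprime.pow_right k ((Nat.Prime.coprime_iff_not_dvd hp).2 hpn).symm
      have := hirr
      rcases Cfsg.Agent.S0142.result ρ g hcop with h0 | hnorm
      · refine ⟨0, isIntegral_zero, ?_⟩
        rw [← hρ, h0]; simp
      · exfalso
        obtain ⟨ω, hω⟩ := (Cfsg.Agent.S0138.result ρ g).1 hnorm
        exact not_scalar hc n ρ hirr (by rw [hρ]; exact hχ1) g hg ω hω
  choose! β hβint hβ using hkey
  -- the regular character at g
  have h := congrFun (Cfsg.Agent.S0156.result (G := G)) g
  rw [finsum_eq_sum_of_fintype, Cfsg.Agent.S0155.result, if_neg hg, Finset.sum_apply] at h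
  let χ₁ : Cfsg.IrrCharacter G := ⟨fun _ => 1, Cfsg.Agent.S0161.isIrrCharacter_one⟩
  rw [← Finset.add_sum_erase Finset.univ _ (Finset.mem_univ χ₁)] at h
  have h2 : ∑ χ ∈ Finset.univ.erase χ₁, ((χ : G → ℂ) 1 • (χ : G → ℂ)) g
      = (p : ℂ) * ∑ χ ∈ Finset.univ.erase χ₁, β χ := by
    rw [Finset.mul_sum]
    refine Finset.sum_congr rfl fun χ hχ => ?_
    rw [Pi.smul_apply, smul_eq_mul]
    apply hβ
    intro h1
    exact (Finset.ne_of_mem_erase hχ) (Subtype.ext h1)
  rw [h2] at h
  have h3 : ((χ₁ : G → ℂ) 1 • (χ₁ : G → ℂ)) g = 1 := by simp [χ₁]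
  rw [h3] at h
  have hint : IsIntegral ℤ (∑ χ ∈ Finset.univ.erase χ₁, β χ) :=
    IsIntegral.sum _ fun χ hχ => hβint χ (by
      intro h1
      exact (Finset.ne_of_mem_erase hχ) (Subtype.ext h1))
  have hpC : (p : ℂ) ≠ 0 := Nat.cast_ne_zero.2 hp.ne_zero
  have h4 : ((1 : ℕ) : ℂ) / (p : ℂ) = -(∑ χ ∈ Finset.univ.erase χ₁, β χ) := by
    rw [Nat.cast_one, div_eq_iff hpC]
    linear_combination (-1 : ℂ) * h
  have h5 : IsIntegral ℤ (((1 : ℕ) : ℂ) / (p : ℂ)) := by rw [h4]; exact hint.neg
  have h6 := nat_dvd_of_isIntegral_div 1 p hp.ne_zero h5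
  exact hp.one_lt.ne' (Nat.dvd_one.1 h6)

end Cfsg.Agent.S0143
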