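import Mathlib
import Cfsg.Statements.S0144
import Cfsg.Agent.S0143

set_option autoImplicit false
open Cfsg

namespace Cfsg.Agent.S0144

universe u

/-- Divisors of `p ^ a * q ^ b` have the same shape. -/
theorem dvd_prime_pow_mul {p q a b d : ℕ} (hp : p.Prime) (hq : q.Prime) (hd : d ∣ p ^ a * q ^ b) :
    ∃ a' b', d = p ^ a' * q ^ b' := by
  obtain ⟨d1, d2, h1, h2, rfl⟩ := (Nat.dvd_mul).1 hd
  obtain ⟨a', _, rfl⟩ := (Nat.dvd_prime_pow hp).1 h1
  obtain ⟨b', _, rfl⟩ := (Nat.dvd_prime_pow hq).1 h2
  exact ⟨a', b', rfl⟩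

theorem isSolvable_of_card_prime_pow {G : Type*} [Group G] [Finite G] (p a : ℕ) (hp : p.Prime)
    (h : Nat.card G = p ^ a) : Group.IsSolvable G := by
  have : Fact p.Prime := ⟨hp⟩
  have hG : IsPGroup p G := IsPGroup.of_card h
  have : Group.IsNilpotent G := hG.isNilpotent
  infer_instance

theorem burnside_aux (p q : ℕ) (hp : p.Prime) (hq : q.Prime) :
    ∀ (N : ℕ) (G : Type u) [Group G] [Finite G], Nat.card G = N → (∃ a b, N = p ^ a * q ^ b) →
      Group.IsSolvable G := by
  intro N
  induction N using Nat.strong_induction_on with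
  | _ N ih =>
  intro G _ _ hN hab
  obtain ⟨a, b, hab⟩ := hab
  -- reduce to a simple group
  by_cases hnorm : ∃ H : Subgroup G, H.Normal ∧ H ≠ ⊥ ∧ H ≠ ⊤
  · obtain ⟨H, hHn, hHbot, hHtop⟩ := hnorm
    have hcard := H.card_mul_index
    have hHdvd : Nat.card H ∣ N := by rw [← hN]; exact H.card_subgroup_dvd_card
    have hidvd : H.index ∣ N := by rw [← hN]; exact H.index_dvd_card
    have hN0 : 0 < N := by rw [← hN]; exact Nat.card_pos
    have hHlt : Nat.card H < N := by
      rcases (Nat.le_of_dvd hN0 hHdvd).lt_or_eq with h | h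
      · exact h
      · exfalso
        apply hHtop
        rw [← hN] at h
        exact (Subgroup.card_eq_iff_eq_top H).1 h
    have hilt : H.index < N := by
      rcases (Nat.le_of_dvd hN0 hidvd).lt_or_eq with h | h
      · exact h
      · exfalso
        apply hHbot
        rw [h, ← hN] at hcard
        have h1 : Nat.card H = 1 := by
          have hpos : 0 < Nat.card G := Nat.card_pos
          exact Nat.eq_of_mul_eq_mul_right hpos (by rw [hcard, one_mul])
        exact (Subgroup.card_eq_one).1 h1
    have h1 : Group.IsSolvable H :=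
      ih _ hHlt H rfl (dvd_prime_pow_mul hp hq (hab ▸ hHdvd))
    have h2 : Group.IsSolvable (G ⧸ H) := by
      apply ih _ hilt (G ⧸ H) _ (dvd_prime_pow_mul hp hq (hab ▸ hidvd))
      rw [← Subgroup.index_eq_card]
    exact (Group.isSolvable_iff_subgroup_quotient H).2 ⟨h1, h2⟩
  · push Not at hnorm
    rcases subsingleton_or_nontrivial G with hsub | hnt
    · infer_instance
    have hsimple : IsSimpleGroup G :=
      { exists_pair_ne := exists_pair_ne G
        eq_bot_or_eq_top_of_normal := fun H hH => by
          by_contra hcon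
          push Not at hcon
          exact hcon.2 (hnorm H hH hcon.1) }
    -- prime power cases
    by_cases hpq : p = q
    · subst hpq
      rw [← pow_add] at hab
      exact isSolvable_of_card_prime_pow p (a + b) hp (hN.trans hab)
    by_cases hb : b = 0
    · subst hb
      rw [pow_zero, mul_one] at hab
      exact isSolvable_of_card_prime_pow p a hp (hN.trans hab)
    -- a Sylow q-subgroup and a central element of it
    have : Fact q.Prime := ⟨hq⟩
    obtain ⟨Q⟩ : Nonempty (Sylow q G) := inferInstance
    have hqdvd : q ∣ Nat.card G := by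
      rw [hN, hab]
      exact Dvd.dvd.mul_left (dvd_pow_self q hb) _
    have hQnt : Nontrivial (Q : Subgroup G) :=
      (Subgroup.nontrivial_iff_ne_bot _).2 (Q.ne_bot_of_dvd_card hqdvd)
    have hZnt : Nontrivial (Subgroup.center (Q : Subgroup G)) := Q.isPGroup'.center_nontrivial
    obtain ⟨z, hz⟩ := exists_ne (1 : Subgroup.center (Q : Subgroup G))
    set g : G := ((z : (Q : Subgroup G)) : G) with hg
    have hg1 : g ≠ 1 := by
      intro h
      apply hz
      apply Subtype.ext
      apply Subtype.ext
      exact h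
    -- Q centralizes g
    have hQle : (Q : Subgroup G) ≤ Subgroup.centralizer ({g} : Set G) := by
      intro x hx
      rw [Subgroup.mem_centralizer_singleton_iff]
      have h1 := Subgroup.mem_center_iff.1 z.2 ⟨x, hx⟩
      have h2 := congrArg Subtype.val h1
      simpa [hg] using h2
    have hidx1 : (Subgroup.centralizer ({g} : Set G)).index ∣ (Q : Subgroup G).index :=
      Subgroup.index_dvd_of_le hQle
    have hidx2 : (Q : Subgroup G).index ∣ p ^ a * q ^ b := by
      rw [← hab, ← hN]; exact Subgroup.index_dvd_card _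
    have hcop : Nat.Coprime (Subgroup.centralizer ({g} : Set G)).index (q ^ b) := by
      apply Nat.Coprime.pow_right
      apply Nat.Coprime.symm
      rw [Nat.Prime.coprime_iff_not_dvd hq]
      intro h
      exact Q.not_dvd_index (h.trans hidx1)
    have hidx3 : (Subgroup.centralizer ({g} : Set G)).index ∣ p ^ a :=
      hcop.dvd_of_dvd_mul_right (hidx1.trans hidx2)
    obtain ⟨k, _, hk⟩ := (Nat.dvd_prime_pow hp).1 hidx3
    have hprime := Cfsg.Agent.S0143.result p k hp g hg1 hk
    have : Fact (Nat.card G).Prime := ⟨hprime⟩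
    have hcyc : IsCyclic G := isCyclic_of_prime_card rfl
    apply Group.isSolvable_of_comm
    intro x y
    obtain ⟨c, hc⟩ := hcyc.exists_generator
    obtain ⟨i, rfl⟩ := Subgroup.mem_zpowers_iff.1 (hc x)
    obtain ⟨j, rfl⟩ := Subgroup.mem_zpowers_iff.1 (hc y)
    rw [← zpow_add, ← zpow_add, add_comm]

/-- The Burnside two-prime Theorem: a finite group of order p ^ a * q ^ b, for primes p and q, is solvable. -/
theorem result {G : Type*} [Group G] [Finite G] (p q a b : ℕ) (hp : p.Prime) (hq : q.Prime) (hcard : Nat.card G = p ^ a * q ^ b) : Group.IsSolvable G :=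
  burnside_aux p q hp hq _ G rfl ⟨a, b, hcard⟩

end Cfsg.Agent.S0144
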