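import Cfsg.Statements.S3917
import Mathlib

set_option autoImplicit false
open Cfsg

namespace Cfsg.Agent.S3917

/-- `K n` : the subgroup of elements with `a ^ n = 1` in a commutative group -/
abbrev K (G : Type*) [CommGroup G] (n : ℕ) : Subgroup G := (powMonoidHom n : G →* G).ker

theorem mem_K {G : Type*} [CommGroup G] (n : ℕ) (a : G) : a ∈ K G n ↔ a ^ n = 1 := by
  simp [K, MonoidHom.mem_ker]

theorem card_K {G : Type*} [CommGroup G] [Fintype G] (n : ℕ)
    [DecidablePred (fun a : G => a ^ n = 1)] :
    Nat.card (K G n) = (Finset.univ.filter (fun a : G => a ^ n = 1)).card := by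
  classical
  rw [Nat.card_eq_fintype_card, Fintype.card_subtype]
  congr 1
  ext a
  simp [mem_K]

theorem card_K_mul_le {G : Type*} [CommGroup G] [Finite G] (p n' : ℕ) :
    Nat.card (K G (p * n')) ≤ Nat.card (K G n') * Nat.card (K G p) := by
  have hle : K G n' ≤ K G (p * n') := by
    intro a ha
    rw [mem_K] at ha ⊢
    rw [mul_comm, pow_mul, ha, one_pow]
  have h1 := Subgroup.relIndex_mul_relIndex ⊥ (K G n') (K G (p * n')) bot_le hle
  rw [Subgroup.relIndex_bot_left, Subgroup.relIndex_bot_left] at h1
  rw [← h1]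
  apply Nat.mul_le_mul_left
  have h2 : (K G n').relIndex (K G (p * n')) =
      Nat.card ((K G (p * n')).map (powMonoidHom n' : G →* G)) :=
    Subgroup.relIndex_ker _ _
  rw [h2]
  apply Subgroup.card_le_of_le
  rintro _ ⟨a, ha, rfl⟩
  have ha' : a ^ (p * n') = 1 := (mem_K _ _).mp ha
  rw [mem_K, powMonoidHom_apply, ← pow_mul, mul_comm]
  exact ha'

theorem card_K_le_of_prime {G : Type*} [CommGroup G] [Finite G]
    (h : ∀ p : ℕ, p.Prime → Nat.card (K G p) ≤ p) : ∀ n : ℕ, 0 < n → Nat.card (K G n) ≤ n := by
  intro n
  induction n using Nat.strong_induction_on with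
  | _ n ih =>
    intro hn
    by_cases hn1 : n = 1
    · subst hn1
      have : K G 1 = ⊥ := by
        rw [eq_bot_iff]
        intro a ha
        rw [mem_K, pow_one] at ha
        exact ha
      rw [this, Subgroup.card_bot]
    · have hp := Nat.minFac_prime hn1
      obtain ⟨n', hn'⟩ := Nat.minFac_dvd n
      have hn'pos : 0 < n' := by
        rcases Nat.eq_zero_or_pos n' with h0 | h0
        · rw [h0, mul_zero] at hn'; omega
        · exact h0
      have hlt : n' < n := by
        have := hp.one_lt
        calc n' = 1 * n' := (one_mul _).symm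
          _ < n.minFac * n' := Nat.mul_lt_mul_of_pos_right this hn'pos
          _ = n := hn'.symm
      calc Nat.card (K G n) = Nat.card (K G (n.minFac * n')) := by rw [← hn']
        _ ≤ Nat.card (K G n') * Nat.card (K G n.minFac) := card_K_mul_le _ _
        _ ≤ n' * n.minFac := Nat.mul_le_mul (ih n' hlt hn'pos) (h _ hp)
        _ = n := by rw [mul_comm, ← hn']

/-- Say that a group has self-centralizing non-cyclic subgroups when every non-cyclic subgroup H satisfies C_G(H) ≤ H. A finite abelian group with self-centralizing non-cyclic subgroups is cyclic or elementary abelian of order p² for a prime p. -/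
theorem result {G : Type*} [CommGroup G] [Finite G] (hX : (∀ H : Subgroup G, ¬ IsCyclic ↥H → Subgroup.centralizer (H : Set G) ≤ H)) :
    IsCyclic G ∨ ∃ p : ℕ, p.Prime ∧ Nat.card G = p ^ 2 ∧ Monoid.exponent G = p := by
  classical
  haveI := Fintype.ofFinite G
  by_cases hcyc : IsCyclic G
  · exact Or.inl hcyc
  right
  -- non-cyclic subgroups are everything
  have htop : ∀ H : Subgroup G, ¬ IsCyclic ↥H → H = ⊤ := by
    intro H hH
    rw [eq_top_iff]
    intro x _
    apply hX H hH
    rw [Subgroup.mem_centralizer_iff]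
    intro h _
    exact mul_comm _ _
  -- a prime with many p-torsion elements
  obtain ⟨p, hp, hpK⟩ : ∃ p : ℕ, p.Prime ∧ p < Nat.card (K G p) := by
    by_contra hall
    push Not at hall
    apply hcyc
    apply isCyclic_of_card_pow_eq_one_le
    intro n hn
    rw [← card_K]
    exact card_K_le_of_prime hall n hn
  haveI := Fact.mk hp
  -- K G p is not cyclic
  have hKnc : ¬ IsCyclic (K G p) := by
    intro hc
    haveI := hc
    have h1 := IsCyclic.card_pow_eq_one_le (α := K G p) hp.pos
    have h2 : (Finset.univ.filter (fun a : K G p => a ^ p = 1)) = Finset.univ := by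
      ext a
      simp only [Finset.mem_filter, Finset.mem_univ, true_and, iff_true]
      exact Subtype.ext ((mem_K p a.1).mp a.2)
    rw [h2, Finset.card_univ, ← Nat.card_eq_fintype_card] at h1
    omega
  have hKtop := htop _ hKnc
  have hpow : ∀ a : G, a ^ p = 1 := by
    intro a
    rw [← mem_K, hKtop]
    exact Subgroup.mem_top a
  have hcardG : p < Nat.card G := by
    have : Nat.card (K G p) = Nat.card G := by rw [hKtop, Subgroup.card_top]
    rw [← this]; exact hpK
  have hPG : IsPGroup p G := fun g => ⟨1, by rw [pow_one]; exact hpow g⟩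
  obtain ⟨k, hk⟩ := IsPGroup.iff_card.mp hPG
  have hk2 : 2 ≤ k := by
    by_contra hlt
    push Not at hlt
    have : p ^ k ≤ p ^ 1 := Nat.pow_le_pow_right hp.pos (by omega)
    rw [pow_one, ← hk] at this
    omega
  obtain ⟨B, hBcard⟩ : ∃ B : Subgroup G, Nat.card B = p ^ 2 := by
    apply Sylow.exists_subgroup_card_pow_prime p
    rw [hk]; exact pow_dvd_pow p hk2
  have hBnc : ¬ IsCyclic B := by
    intro hc
    obtain ⟨z, hz⟩ := hc.exists_generator
    have hzo : orderOf z = p ^ 2 := by
      rw [← hBcard]; exact orderOf_eq_card_of_forall_mem_zpowers hz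
    have hzp : z ^ p = 1 := Subtype.ext (hpow z.1)
    have := orderOf_dvd_of_pow_eq_one hzp
    rw [hzo] at this
    have h4 : p ^ 2 ≤ p := Nat.le_of_dvd hp.pos this
    have : p * p ≤ p * 1 := by rw [← pow_two, mul_one]; exact h4
    have := Nat.le_of_mul_le_mul_left this hp.pos
    have := hp.one_lt
    omega
  have hBtop := htop B hBnc
  refine ⟨p, hp, ?_, ?_⟩
  · rw [← hBcard, hBtop, Subgroup.card_top]
  · haveI : Nontrivial G := by
      apply Finite.one_lt_card_iff_nontrivial.mp
      have := hp.one_lt
      omega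
    rw [Monoid.exponent_eq_prime_iff hp]
    intro g hg
    exact orderOf_eq_prime (hpow g) hg

end Cfsg.Agent.S3917
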