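import Cfsg.Statements.S0878
import Mathlib


set_option autoImplicit false
open Cfsg

namespace Cfsg.Agent.S0878

/-- Let G be a Zassenhaus group on the finite set Ω, a a point, and let H be the subgroup of the stabilizer of a consisting of the identity and the elements fixing no point other than a (given here as a subgroup of the stabilizer of order one less than the number of points whose non-identity elements fix only a; it is the Frobenius kernel of the stabilizer). Then an element outside the stabilizer of a conjugates no non-identity element of H into H, and the normalizer of H is exactly the stabilizer of a. -/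
theorem result {G Ω : Type*} [Group G] [Finite G] [MulAction G Ω] [Fintype Ω] (hZ : Cfsg.IsZassenhausGroup G Ω) (a : Ω) (H : Subgroup G) (hHa : H ≤ MulAction.stabilizer G a) (hHcard : Nat.card H + 1 = Fintype.card Ω) (hHfix : ∀ u ∈ H, u ≠ 1 → ∀ c : Ω, u • c = c → c = a) : (∀ g : G, g ∉ MulAction.stabilizer G a → ∀ u ∈ H, g * u * g⁻¹ ∈ H → u = 1) ∧ Subgroup.normalizer (H : Set G) = MulAction.stabilizer G a := by
  classical
  obtain ⟨hfaith, h2, h3, ⟨g₀, hg₀, a', b', ha'b', hga', hgb'⟩, -⟩ := hZ
  have hcardΩ' : Nat.card {c : Ω // c ≠ a} + 1 = Fintype.card Ω := by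
    rw [Nat.card_eq_fintype_card, Fintype.card_subtype_compl, Fintype.card_subtype_eq]
    have : 0 < Fintype.card Ω := Fintype.card_pos_iff.mpr ⟨a⟩
    omega
  have hcard : Nat.card {c : Ω // c ≠ a} = Nat.card H := by omega
  have hSa : ∀ x : G, x ∈ MulAction.stabilizer G a → ∀ c : Ω, c ≠ a → x • c ≠ a := by
    intro x hx c hc h
    apply hc
    rw [MulAction.mem_stabilizer_iff] at hx
    rw [← hx] at h
    exact MulAction.injective x h
  -- first claim
  have claim1 : ∀ g : G, g ∉ MulAction.stabilizer G a → ∀ u ∈ H, g * u * g⁻¹ ∈ H → u = 1 := by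
    intro g hg u hu hgu
    by_contra hu1
    have h1 : g * u * g⁻¹ ≠ 1 := by
      intro h
      apply hu1
      have : u = g⁻¹ * (g * u * g⁻¹) * g := by group
      rw [this, h]; group
    have h2' : (g * u * g⁻¹) • (g • a) = g • a := by
      rw [mul_smul, mul_smul, inv_smul_smul, MulAction.mem_stabilizer_iff.mp (hHa hu)]
    exact hg (MulAction.mem_stabilizer_iff.mpr (hHfix _ hgu h1 _ h2'))
  -- the orbit maps of H on the other points are bijective
  have horb : ∀ c : {c : Ω // c ≠ a}, Function.Bijective
      (fun u : H => (⟨(u : G) • (c : Ω), hSa u (hHa u.2) c c.2⟩ : {c : Ω // c ≠ a})) := by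
    intro c
    apply Function.Injective.bijective_of_nat_card_le
    · intro u v huv
      have h1 : (u : G) • (c : Ω) = (v : G) • (c : Ω) := congrArg Subtype.val huv
      have h2' : ((v : G)⁻¹ * (u : G)) • (c : Ω) = c := by
        rw [mul_smul, h1, inv_smul_smul]
      by_contra hne
      have h3' : (v : G)⁻¹ * (u : G) ≠ 1 := by
        intro h
        apply hne
        apply Subtype.ext
        have : (u : G) = (v : G) * ((v : G)⁻¹ * (u : G)) := by group
        rw [this, h, mul_one]
      exact c.2 (hHfix _ (H.mul_mem (H.inv_mem v.2) u.2) h3' _ h2')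
    · exact hcard.le
  -- every element of the stabilizer outside H fixes a further point
  have hfixpt : ∀ x ∈ MulAction.stabilizer G a, x ∉ H → ∃ c : Ω, c ≠ a ∧ x • c = c := by
    intro x hx hxH
    -- ψ c := the element v of H with v c = x c
    have hex : ∀ c : {c : Ω // c ≠ a}, ∃ v : H, (v : G) • (c : Ω) = x • (c : Ω) := by
      intro c
      obtain ⟨v, hv⟩ := (horb c).2 ⟨x • (c : Ω), hSa x hx c c.2⟩
      exact ⟨v, congrArg Subtype.val hv⟩
    choose ψ hψ using hex
    have hψinj : Function.Injective ψ := by
      intro c d hcd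
      by_contra hne
      have h1 : ((ψ c : G)⁻¹ * x) • (c : Ω) = c := by
        rw [mul_smul, ← hψ c, inv_smul_smul]
      have h2' : ((ψ c : G)⁻¹ * x) • (d : Ω) = d := by
        rw [mul_smul, ← hψ d, ← hcd, inv_smul_smul]
      have h3' : ((ψ c : G)⁻¹ * x) • a = a := by
        rw [mul_smul, MulAction.mem_stabilizer_iff.mp hx]
        exact MulAction.mem_stabilizer_iff.mp (inv_mem (hHa (ψ c).2))
      have hcd' : (c : Ω) ≠ d := fun h => hne (Subtype.ext h)
      have := h3 _ a c d (Ne.symm c.2) hcd' (Ne.symm d.2) h3' h1 h2'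
      apply hxH
      have hx' : x = (ψ c : G) := by
        have : x = (ψ c : G) * ((ψ c : G)⁻¹ * x) := by group
        rw [this]
        rw [‹(ψ c : G)⁻¹ * x = 1›, mul_one]
      rw [hx']
      exact (ψ c).2
    have hψbij : Function.Bijective ψ :=
      Function.Injective.bijective_of_nat_card_le hψinj hcard.ge
    obtain ⟨c, hc⟩ := hψbij.2 1
    refine ⟨c, c.2, ?_⟩
    rw [← hψ c, hc, Subgroup.coe_one, one_smul]
  -- H is nontrivial
  have hHnt : ∃ u ∈ H, u ≠ 1 := by
    have h3c : 2 < Fintype.card Ω := by
      rw [Fintype.two_lt_card_iff]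
      by_contra hcon
      push_neg at hcon
      apply hg₀
      apply hfaith.eq_of_smul_eq_smul
      intro c
      rw [one_smul]
      by_cases h1 : c = a'
      · rw [h1, hga']
      · by_cases h2' : c = b'
        · rw [h2', hgb']
        · exact absurd (hcon a' b' c ha'b' (Ne.symm h1)) (fun h => h2' h.symm) 
    have hH1 : 1 < Nat.card H := by omega
    haveI : Finite H := inferInstance
    haveI : Nontrivial H := Finite.one_lt_card_iff_nontrivial.mp hH1
    obtain ⟨u, hu⟩ := exists_ne (1 : H)
    exact ⟨u, u.2, fun h => hu (Subtype.ext h)⟩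
  refine ⟨claim1, ?_⟩
  apply le_antisymm
  · intro g hg
    by_contra hgS
    obtain ⟨u, hu, hu1⟩ := hHnt
    exact hu1 (claim1 g hgS u hu ((Subgroup.mem_normalizer_iff.mp hg u).mp hu))
  · intro s hs
    -- conjugation by elements of the stabilizer preserves H
    have hconj : ∀ t ∈ MulAction.stabilizer G a, ∀ u ∈ H, t * u * t⁻¹ ∈ H := by
      intro t ht u hu
      by_contra hnot
      have htS : t * u * t⁻¹ ∈ MulAction.stabilizer G a :=
        Subgroup.mul_mem _ (Subgroup.mul_mem _ ht (hHa hu)) (Subgroup.inv_mem _ ht)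
      obtain ⟨c, hca, hc⟩ := hfixpt _ htS hnot
      have h1 : u • (t⁻¹ • c) = t⁻¹ • c := by
        rw [mul_smul, mul_smul] at hc
        exact (smul_eq_iff_eq_inv_smul t).mp hc
      have hu1 : u = 1 := by
        by_contra hu1
        have := hHfix u hu hu1 _ h1
        exact hSa t⁻¹ (Subgroup.inv_mem _ ht) c hca this
      apply hnot
      rw [hu1, mul_one, mul_inv_cancel]
      exact H.one_mem
    rw [Subgroup.mem_normalizer_iff]
    intro u
    constructor
    · exact hconj s hs u
    · intro h
      have := hconj s⁻¹ (Subgroup.inv_mem _ hs) _ h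
      have h' : s⁻¹ * (s * u * s⁻¹) * s⁻¹⁻¹ = u := by group
      rwa [h'] at this

end Cfsg.Agent.S0878
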