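import Cfsg.Statements.S0044
import Mathlib
import Cfsg.Agent.Lib.Helper3.Components7

set_option autoImplicit false
open Cfsg

namespace Cfsg.Agent.S0044

/-- In a finite solvable group, the centraliser of the Fitting subgroup is contained in the Fitting subgroup. -/
theorem result {G : Type*} [Group G] [Finite G] [Group.IsSolvable G] :
    Subgroup.centralizer (Cfsg.fittingSubgroup G : Set G) ≤ Cfsg.fittingSubgroup G := by
  have hsolvtop : Group.IsSolvable (⊤ : Subgroup G) :=
    Group.isSolvable_of_isSolvable_injective (f := (⊤ : Subgroup G).subtype) (Subgroup.subtype_injective _)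
  have hlayer : Cfsg.layer G = ⊥ :=
    Cfsg.Agent.Lib.Helper3.layer_eq_bot_of_le_isSolvable hsolvtop le_top
  have hF : Cfsg.generalizedFittingSubgroup G = Cfsg.fittingSubgroup G := by
    unfold Cfsg.generalizedFittingSubgroup
    rw [hlayer, bot_sup_eq]
  have := Cfsg.Agent.Lib.Helper3.centralizer_generalizedFittingSubgroup_le (G := G)
  rwa [hF] at this

end Cfsg.Agent.S0044
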