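import Cfsg.Statements.S0017
import Mathlib
import Cfsg.Agent.S0044
import Cfsg.Agent.Lib.Lead.ThompsonPQ

set_option autoImplicit false
open Cfsg

namespace Cfsg.Agent.S0017

/-- In a finite solvable group whose largest normal subgroup of order prime to p is trivial, the centralizer of the p-core is contained in the p-core. -/
theorem result {G : Type*} [Group G] [Finite G] [Group.IsSolvable G] (p : ℕ) [Fact p.Prime]
    (h : Cfsg.pPrimeCore p G = ⊥) :
    Subgroup.centralizer (Cfsg.pCore p G : Set G) ≤ Cfsg.pCore p G := by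
  have hF : Cfsg.fittingSubgroup G = Cfsg.pCore p G := by
    rw [Cfsg.Agent.Lib.Lead.fittingSubgroup_eq_iSup_pCore]
    apply le_antisymm
    · apply iSup_le
      intro q
      by_cases hqp : (q : ℕ) = p
      · rw [hqp]
      · have : Fact (q : ℕ).Prime := ⟨q.2⟩
        have h1 : Cfsg.pCore (q : ℕ) G ≤ Cfsg.pPrimeCore p G := by
          apply le_sSup
          refine ⟨Cfsg.Agent.Lib.Lead.pCore_normal _, ?_⟩
          obtain ⟨k, hk⟩ := (IsPGroup.iff_card).mp (Cfsg.Agent.Lib.Lead.pCore_isPGroup (G := G) (q : ℕ))
          rw [hk]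
          apply Nat.Coprime.pow_left
          exact (Nat.coprime_primes q.2 (Fact.out : p.Prime)).mpr hqp
        rw [h] at h1
        exact h1.trans bot_le
    · exact le_iSup_of_le (⟨p, Fact.out⟩ : Nat.Primes) le_rfl
  have := Cfsg.Agent.S0044.result (G := G)
  rwa [hF] at this

end Cfsg.Agent.S0017
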