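import Cfsg.Statements.S0629
import Mathlib
import Cfsg.Agent.Lib.Helper4.HallHigman
import Cfsg.Agent.Lib.Helper4.SolvBalance
import Cfsg.Agent.Lib.Helper3.PComp1
import Cfsg.Agent.Lib.Helper6.PCore
import Cfsg.Agent.Lib.Lead.HallTools

set_option autoImplicit false
open Cfsg

namespace Cfsg.Agent.S0629


open Cfsg in
theorem isPSolvable_of_surjective {G G' : Type*} [Group G] [Group G'] {p : ℕ} [Fact p.Prime]
    (f : G →* G') (hf : Function.Surjective f) (hG : IsPSolvable p G) : IsPSolvable p G' := by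
  obtain ⟨n, H, h0, hn, hmono, hnormal, hfac⟩ := hG
  refine ⟨n, fun i => (H i).map f, ?_, ?_, ?_, ?_, ?_⟩
  · simp only [h0, Subgroup.map_bot]
  · simp only [hn]
    exact Subgroup.map_top_of_surjective _ hf
  · intro i j hij
    exact Subgroup.map_mono (hmono hij)
  · intro i
    exact (hnormal i).map _ hf
  · intro i
    have hd := Cfsg.Agent.Lib.Helper7.relIndex_map_map_dvd f (H i.castSucc) (H i.succ)
    rcases hfac i with ⟨m, hm⟩ | hc
    · left
      rw [hm] at hd
      obtain ⟨k, -, hk⟩ := (Nat.dvd_prime_pow (Fact.out : p.Prime)).mp hd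
      exact ⟨k, hk⟩
    · right
      exact Nat.Coprime.coprime_dvd_left hd hc

open Cfsg in
/-- image of a Sylow `p`-subgroup of `O_{p',p}(G)` in `G/O_{p'}(G)` is `O_p(G/O_{p'}(G))` -/
theorem map_sylow_pPrimePCore {G : Type*} [Group G] [Finite G] {p : ℕ} [Fact p.Prime]
    (P : Sylow p ↥(pPrimePCore p G)) :
    ((P : Subgroup ↥(pPrimePCore p G)).map (pPrimePCore p G).subtype).map
      (QuotientGroup.mk' (pPrimeCore p G)) = pCore p (G ⧸ pPrimeCore p G) := by
  classical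
  have hLdef : pPrimePCore p G = (pCore p (G ⧸ pPrimeCore p G)).comap (QuotientGroup.mk' (pPrimeCore p G)) := rfl
  have hP₀L : (P : Subgroup ↥(pPrimePCore p G)).map (pPrimePCore p G).subtype ≤ pPrimePCore p G := by
    rintro _ ⟨y, _, rfl⟩; exact y.2
  have hLmap : (pPrimePCore p G).map (QuotientGroup.mk' (pPrimeCore p G)) = pCore p (G ⧸ pPrimeCore p G) := by
    rw [hLdef]
    exact Subgroup.map_comap_eq_self_of_surjective (QuotientGroup.mk'_surjective _) _
  have hle : ((P : Subgroup ↥(pPrimePCore p G)).map (pPrimePCore p G).subtype).map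
      (QuotientGroup.mk' (pPrimeCore p G)) ≤ pCore p (G ⧸ pPrimeCore p G) := by
    rw [← hLmap]; exact Subgroup.map_mono hP₀L
  apply le_antisymm hle
  rw [← Subgroup.relIndex_eq_one]
  have h1 := Cfsg.Agent.Lib.Helper7.relIndex_map_map_dvd (QuotientGroup.mk' (pPrimeCore p G))
    ((P : Subgroup ↥(pPrimePCore p G)).map (pPrimePCore p G).subtype) (pPrimePCore p G)
  rw [hLmap] at h1
  have h2 : ((P : Subgroup ↥(pPrimePCore p G)).map (pPrimePCore p G).subtype).relIndex (pPrimePCore p G)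
      = (P : Subgroup ↥(pPrimePCore p G)).index := by
    rw [Subgroup.relIndex, Subgroup.subgroupOf,
      Subgroup.comap_map_eq_self_of_injective (pPrimePCore p G).subtype_injective]
  rw [h2] at h1
  have h3 : ¬ p ∣ (P : Subgroup ↥(pPrimePCore p G)).index := P.not_dvd_index
  have h4 : (((P : Subgroup ↥(pPrimePCore p G)).map (pPrimePCore p G).subtype).map
      (QuotientGroup.mk' (pPrimeCore p G))).relIndex (pCore p (G ⧸ pPrimeCore p G)) ∣
      Nat.card (pCore p (G ⧸ pPrimeCore p G)) := Subgroup.relIndex_dvd_card _ _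
  obtain ⟨m, hm⟩ := (IsPGroup.iff_card).mp (Cfsg.Agent.Lib.Helper6.pCore_isPGroup (G := G ⧸ pPrimeCore p G) p)
  rw [hm] at h4
  obtain ⟨k, -, hk⟩ := (Nat.dvd_prime_pow (Fact.out : p.Prime)).mp h4
  rw [hk] at h1 ⊢
  rcases Nat.eq_zero_or_pos k with rfl | hkpos
  · simp
  · exfalso
    exact h3 ((dvd_pow_self p hkpos.ne').trans h1)

open Cfsg in
theorem key {G : Type*} [Group G] [Finite G] {p : ℕ} [Fact p.Prime]
    (P : Sylow p ↥(pPrimePCore p G))
    (hsol : IsPSolvable p ↥(Subgroup.centralizer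
      (((P : Subgroup ↥(pPrimePCore p G)).map (pPrimePCore p G).subtype : Subgroup G) : Set G))) :
    Subgroup.centralizer
      (((P : Subgroup ↥(pPrimePCore p G)).map (pPrimePCore p G).subtype : Subgroup G) : Set G)
      ≤ pPrimePCore p G := by
  classical
  have hLdef : pPrimePCore p G = (pCore p (G ⧸ pPrimeCore p G)).comap (QuotientGroup.mk' (pPrimeCore p G)) := rfl
  obtain ⟨P₀, hP₀⟩ : ∃ P₀ : Subgroup G, P₀ = (P : Subgroup ↥(pPrimePCore p G)).map (pPrimePCore p G).subtype :=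
    ⟨_, rfl⟩
  rw [← hP₀] at hsol ⊢
  have hπP : P₀.map (QuotientGroup.mk' (pPrimeCore p G)) = pCore p (G ⧸ pPrimeCore p G) := by
    rw [hP₀]; exact map_sylow_pPrimePCore P
  haveI hLn : (pPrimePCore p G).Normal := by rw [hLdef]; infer_instance
  have hF : Subgroup.normalizer (P₀ : Set G) ⊔ pPrimePCore p G = ⊤ := by
    rw [hP₀]; exact Sylow.normalizer_sup_eq_top P
  -- every element of the quotient is the image of an element of the normalizer
  have hsurjN : ∀ gb : G ⧸ pPrimeCore p G, ∃ n ∈ Subgroup.normalizer (P₀ : Set G),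
      QuotientGroup.mk' (pPrimeCore p G) n = gb := by
    intro gb
    obtain ⟨g, rfl⟩ := QuotientGroup.mk'_surjective _ gb
    have hg : g ∈ Subgroup.normalizer (P₀ : Set G) ⊔ pPrimePCore p G := by rw [hF]; trivial
    obtain ⟨y, hy, z, hz, rfl⟩ := Subgroup.mem_sup_of_normal_right.mp hg
    have hz' : QuotientGroup.mk' (pPrimeCore p G) z ∈ pCore p (G ⧸ pPrimeCore p G) := by
      rw [hLdef] at hz; exact hz
    rw [← hπP] at hz'
    obtain ⟨y', hy', hyz⟩ := hz'
    refine ⟨y * y', Subgroup.mul_mem _ hy (Subgroup.le_normalizer hy'), ?_⟩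
    rw [map_mul, map_mul, hyz]
  obtain ⟨C, hC⟩ : ∃ C : Subgroup G, C = Subgroup.centralizer (P₀ : Set G) := ⟨_, rfl⟩
  rw [← hC] at hsol ⊢
  have hCnorm : ∀ n ∈ Subgroup.normalizer (P₀ : Set G), ∀ c ∈ C, n * c * n⁻¹ ∈ C := by
    intro n hn c hc
    rw [hC, Subgroup.mem_centralizer_iff] at hc ⊢
    intro y hy
    have hy' : n⁻¹ * y * n⁻¹⁻¹ ∈ P₀ :=
      (Subgroup.mem_normalizer_iff.mp (Subgroup.inv_mem _ hn) y).mp hy
    rw [inv_inv] at hy'
    have := hc _ hy'
    calc y * (n * c * n⁻¹) = n * ((n⁻¹ * y * n) * c) * n⁻¹ := by group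
      _ = n * (c * (n⁻¹ * y * n)) * n⁻¹ := by rw [this]
      _ = n * c * n⁻¹ * y := by group
  haveI hCbn : (C.map (QuotientGroup.mk' (pPrimeCore p G))).Normal := by
    refine ⟨fun cb hcb gb => ?_⟩
    obtain ⟨c, hc, rfl⟩ := hcb
    obtain ⟨n, hn, rfl⟩ := hsurjN gb
    refine ⟨n * c * n⁻¹, hCnorm n hn c hc, ?_⟩
    simp only [map_mul, map_inv]
  have hCbsol : IsPSolvable p ↥(C.map (QuotientGroup.mk' (pPrimeCore p G))) :=
    isPSolvable_of_surjective ((QuotientGroup.mk' (pPrimeCore p G)).subgroupMap C)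
      ((QuotientGroup.mk' (pPrimeCore p G)).subgroupMap_surjective C) hsol
  have hbot : pPrimeCore p ↥(C.map (QuotientGroup.mk' (pPrimeCore p G))) = ⊥ := by
    have h1 := Cfsg.Agent.Lib.Helper3.pPrimeCore_map_subtype_le_of_isSubnormal (p := p)
      (H := C.map (QuotientGroup.mk' (pPrimeCore p G))) hCbn.isSubnormal
    rw [Cfsg.Agent.Lib.Helper4.pPrimeCore_quotient_self, le_bot_iff] at h1
    exact (Subgroup.map_eq_bot_iff_of_injective _ (Subgroup.subtype_injective _)).mp h1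
  have hHH := Cfsg.Agent.Lib.Helper4.centralizer_pCore_le_of_isPSolvable hCbsol hbot
  -- the p-core of C̄ maps into O_p(Ḡ)
  have hZle : (pCore p ↥(C.map (QuotientGroup.mk' (pPrimeCore p G)))).map
      (C.map (QuotientGroup.mk' (pPrimeCore p G))).subtype ≤ pCore p (G ⧸ pPrimeCore p G) := by
    apply Cfsg.Agent.Lib.Helper6.le_pCore
    · refine ⟨fun x hx g => ?_⟩
      obtain ⟨z, hz, rfl⟩ := hx
      refine ⟨(MulAut.conjNormal g : MulAut ↥(C.map (QuotientGroup.mk' (pPrimeCore p G)))) z, ?_, ?_⟩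
      · have := Cfsg.Agent.Lib.Helper6.pCore_map_equiv (G := ↥(C.map (QuotientGroup.mk' (pPrimeCore p G)))) p
          (MulAut.conjNormal g : MulAut ↥(C.map (QuotientGroup.mk' (pPrimeCore p G))))
        rw [SetLike.mem_coe, ← this]
        exact ⟨z, hz, rfl⟩
      · simp [MulAut.conjNormal_apply]
    · exact (Cfsg.Agent.Lib.Helper6.pCore_isPGroup p).map _
  have hcent : Subgroup.centralizer
      ((pCore p ↥(C.map (QuotientGroup.mk' (pPrimeCore p G))) :
        Subgroup ↥(C.map (QuotientGroup.mk' (pPrimeCore p G)))) :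
        Set ↥(C.map (QuotientGroup.mk' (pPrimeCore p G)))) = ⊤ := by
    rw [eq_top_iff]
    intro c _
    rw [Subgroup.mem_centralizer_iff]
    intro z hz
    have hz' : (z : G ⧸ pPrimeCore p G) ∈ pCore p (G ⧸ pPrimeCore p G) := hZle ⟨z, hz, rfl⟩
    rw [← hπP] at hz'
    obtain ⟨y, hy, hyz⟩ := hz'
    obtain ⟨c', hc', hcc⟩ := c.2
    apply Subtype.ext
    simp only [Subgroup.coe_mul]
    rw [← hyz, ← hcc, ← map_mul, ← map_mul]
    rw [hC] at hc'
    rw [(Subgroup.mem_centralizer_iff.mp hc') y hy]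
  rw [hcent, top_le_iff] at hHH
  intro x hx
  rw [hLdef, Subgroup.mem_comap]
  apply hZle
  refine ⟨⟨QuotientGroup.mk' (pPrimeCore p G) x, ⟨x, hx, rfl⟩⟩, ?_, rfl⟩
  rw [hHH]; trivial

/-- A group in which the centralizer of a Sylow p-subgroup of O_{p',p}(G) is p-solvable is p-constrained. -/
theorem result {G : Type*} [Group G] [Finite G] {p : ℕ} [Fact p.Prime] (P : Sylow p ↥(Cfsg.pPrimePCore p G)) (hsol : Cfsg.IsPSolvable p ↥(Subgroup.centralizer (((P : Subgroup ↥(Cfsg.pPrimePCore p G)).map (Cfsg.pPrimePCore p G).subtype : Subgroup G) : Set G))) : Cfsg.IsPConstrained p G := by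
  classical
  have hmain := key P hsol
  intro P'
  haveI hLn : (Cfsg.pPrimePCore p G).Normal := by
    have hLdef : Cfsg.pPrimePCore p G = (Cfsg.pCore p (G ⧸ Cfsg.pPrimeCore p G)).comap (QuotientGroup.mk' (Cfsg.pPrimeCore p G)) := rfl
    rw [hLdef]; infer_instance
  obtain ⟨g, hg⟩ := MulAction.exists_smul_eq (↥(Cfsg.pPrimePCore p G)) P P'
  intro x hx
  rw [Subgroup.mem_centralizer_iff] at hx
  have h1 : (g : G)⁻¹ * x * g ∈ Subgroup.centralizer
      (((P : Subgroup ↥(Cfsg.pPrimePCore p G)).map (Cfsg.pPrimePCore p G).subtype : Subgroup G) : Set G) := by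
    rw [Subgroup.mem_centralizer_iff]
    rintro _ ⟨y, hy, rfl⟩
    have hy' : g * y * g⁻¹ ∈ (P' : Subgroup ↥(Cfsg.pPrimePCore p G)) := by
      rw [← hg, Sylow.coe_subgroup_smul, Subgroup.mem_smul_pointwise_iff_exists]
      exact ⟨y, hy, by simp [MulAut.smul_def, mul_assoc]⟩
    have h2 := hx _ ⟨_, hy', rfl⟩
    simp only [Subgroup.subtype_apply, Subgroup.coe_mul, Subgroup.coe_inv] at h2 ⊢
    calc (y : G) * ((g : G)⁻¹ * x * g) = (g : G)⁻¹ * ((g * y * (g : G)⁻¹) * x) * g := by group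
      _ = (g : G)⁻¹ * (x * (g * y * (g : G)⁻¹)) * g := by rw [h2]
      _ = (g : G)⁻¹ * x * g * y := by group
  have h3 := hmain h1
  have h4 : x = (g : G) * ((g : G)⁻¹ * x * g) * (g : G)⁻¹ := by group
  rw [h4]
  exact Subgroup.mul_mem _ (Subgroup.mul_mem _ g.2 h3) (Subgroup.inv_mem _ g.2)

end Cfsg.Agent.S0629
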