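import Cfsg.Statements.S0031
import Mathlib

set_option autoImplicit false
open Pointwise
open Cfsg

namespace Cfsg.Agent.S0031

/-- A fixed-point-free automorphism of a finite group maps some Sylow p-subgroup to itself. -/
theorem result {G : Type*} [Group G] [Finite G] (φ : G ≃* G)
    (hφ : MonoidHom.FixedPointFree (φ : G →* G)) (p : ℕ) [Fact p.Prime] :
    ∃ P : Sylow p G, (P : Subgroup G).map (φ : G →* G) = P := by
  obtain ⟨P⟩ : Nonempty (Sylow p G) := inferInstance
  let Q : Sylow p G := (φ : MulAut G) • P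
  obtain ⟨g, hg⟩ := MulAction.exists_smul_eq G P Q
  obtain ⟨k, hk⟩ := hφ.commutatorMap_surjective g⁻¹
  -- key membership fact: y ∈ P ↔ g⁻¹ * φ y * g ∈ P
  have key : ∀ y : G, y ∈ (P : Subgroup G) ↔ g⁻¹ * φ y * g ∈ (P : Subgroup G) := by
    intro y
    have h1 : φ y ∈ (Q : Subgroup G) ↔ y ∈ (P : Subgroup G) := by
      show φ y ∈ (((φ : MulAut G) • P : Sylow p G) : Subgroup G) ↔ y ∈ (P : Subgroup G)
      rw [Sylow.pointwise_smul_def, Subgroup.mem_pointwise_smul_iff_inv_smul_mem]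
      simp [MulAut.smul_def]
    rw [← h1, ← hg, Sylow.coe_subgroup_smul,
      Subgroup.mem_pointwise_smul_iff_inv_smul_mem]
    simp [MulAut.smul_def, map_inv, mul_assoc]
  have hk' : g = φ k * k⁻¹ := by
    have : k / φ k = g⁻¹ := hk
    rw [div_eq_mul_inv] at this
    have h2 : g = (k * (φ k)⁻¹)⁻¹ := by rw [this, inv_inv]
    rw [h2]; group
  refine ⟨k⁻¹ • P, ?_⟩
  ext x
  have e0 : ((φ : G →* G)) = φ.toMonoidHom := rfl
  rw [e0, Subgroup.mem_map_equiv, Sylow.coe_subgroup_smul, Subgroup.mem_pointwise_smul_iff_inv_smul_mem,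
    Subgroup.mem_pointwise_smul_iff_inv_smul_mem]
  simp only [MulAut.smul_def, map_inv, inv_inv, MulAut.conj_apply, MulAut.inv_apply,
    MulAut.conj_symm_apply]
  rw [key]
  have e1 : g⁻¹ * φ (k * φ.symm x * k⁻¹) * g = k * x * k⁻¹ := by
    rw [map_mul, map_mul, MulEquiv.apply_symm_apply, map_inv, hk']
    group
  rw [e1]

end Cfsg.Agent.S0031
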