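import Cfsg.Statements.S0043
import Mathlib

set_option autoImplicit false
open Pointwise
open Cfsg

namespace Cfsg.Agent.S0043

/-- the `p`-torsion of an abelian normal subgroup, as a subgroup -/
def omega {G : Type*} [Group G] (N : Subgroup G) (hN : IsMulCommutative N) (p : ℕ) : Subgroup G where
  carrier := {x | x ∈ N ∧ x ^ p = 1}
  one_mem' := ⟨N.one_mem, one_pow p⟩
  mul_mem' := by
    rintro a b ⟨ha, ha1⟩ ⟨hb, hb1⟩
    refine ⟨N.mul_mem ha hb, ?_⟩
    have hc : Commute a b := by
      have := hN.is_comm.comm ⟨a, ha⟩ ⟨b, hb⟩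
      exact congrArg Subtype.val this
    rw [hc.mul_pow, ha1, hb1, one_mul]
  inv_mem' := by
    rintro a ⟨ha, ha1⟩
    exact ⟨N.inv_mem ha, by rw [inv_pow, ha1, inv_one]⟩

/-- A minimal normal subgroup of a finite solvable group is abelian, and for some prime p all of its elements have order dividing p. -/
theorem result {G : Type*} [Group G] [Finite G] [Group.IsSolvable G]
    (N : Subgroup G) [N.Normal] (hN : N ≠ ⊥) (hmin : ∀ M : Subgroup G, M.Normal → M ≤ N → M = ⊥ ∨ M = N) :
    IsMulCommutative N ∧ ∃ p : ℕ, p.Prime ∧ ∀ x ∈ N, x ^ p = 1 := by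
  have hnt : Nontrivial N := (Subgroup.nontrivial_iff_ne_bot N).mpr hN
  have hcomm : IsMulCommutative N := by
    rw [← Subgroup.le_centralizer_iff_isMulCommutative, ← Subgroup.commutator_eq_bot_iff_le_centralizer]
    rcases hmin ⁅N, N⁆ (Subgroup.commutator_normal N N) (Subgroup.commutator_le_left N N) with h | h
    · exact h
    · exfalso
      have h1 : commutator N < ⊤ := Group.IsSolvable.commutator_lt_top_of_nontrivial N
      have h2 := (Subgroup.map_lt_map_iff_of_injective (f := N.subtype) N.subtype_injective).mpr h1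
      rw [Subgroup.map_subtype_commutator, ← MonoidHom.range_eq_map, Subgroup.range_subtype, h] at h2
      exact lt_irrefl _ h2
  refine ⟨hcomm, ?_⟩
  have hcard : Nat.card N ≠ 1 := by
    intro h
    exact hN ((Subgroup.card_eq_one).mp h)
  obtain ⟨p, hp, hpd⟩ := Nat.exists_prime_and_dvd hcard
  haveI : Fact p.Prime := ⟨hp⟩
  obtain ⟨x, hx⟩ := exists_prime_orderOf_dvd_card' p hpd
  refine ⟨p, hp, ?_⟩
  have hΩn : (omega N hcomm p).Normal := by
    constructor
    rintro a ⟨ha, ha1⟩ g
    exact ⟨Subgroup.Normal.conj_mem inferInstance a ha g, by rw [conj_pow, ha1, mul_one, mul_inv_cancel]⟩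
  have hΩle : omega N hcomm p ≤ N := fun a ha => ha.1
  rcases hmin _ hΩn hΩle with h | h
  · exfalso
    have hx1 : (x : G) ∈ omega N hcomm p := by
      refine ⟨x.2, ?_⟩
      have : x ^ p = 1 := by rw [← hx]; exact pow_orderOf_eq_one x
      exact_mod_cast congrArg Subtype.val this
    rw [h, Subgroup.mem_bot] at hx1
    have : x = 1 := Subtype.ext hx1
    rw [this, orderOf_one] at hx
    exact hp.one_lt.ne hx
  · intro y hy
    have : y ∈ omega N hcomm p := by rw [h]; exact hy
    exact this.2

end Cfsg.Agent.S0043
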