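import Cfsg.Statements.S0042
import Cfsg.Agent.S0033
import Cfsg.Agent.S0035
import Cfsg.Agent.S0039

set_option autoImplicit false
open Cfsg

namespace Cfsg.Agent.S0042

/-- In a finite Frobenius group, the Frobenius kernel is (the carrier of) a normal subgroup which is nilpotent. -/
theorem result {G : Type*} [Group G] [Finite G] (H : Subgroup G) (hH : Cfsg.IsFrobeniusComplement H) :
    ∃ N : Subgroup G, (N : Set G) = Cfsg.frobeniusKernel H ∧ N.Normal ∧ Group.IsNilpotent N := by
  classical
  obtain ⟨N, hNk, hNn, hc⟩ := Cfsg.Agent.S0035.result H hH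
  refine ⟨N, hNk, hNn, ?_⟩
  haveI := hNn
  have hH1 : H ≠ ⊥ := hH.1
  have hHtop : H ≠ ⊤ := hH.2.1
  have hN1 : N ≠ ⊥ := by
    intro hb
    apply hHtop
    have h1 := hc.card_mul_card
    rw [hb, Subgroup.card_bot, one_mul] at h1
    exact (Subgroup.card_eq_iff_eq_top H).mp h1
  have hfix := (Cfsg.Agent.S0039.result N H hc hN1 hH1).mp hH
  -- an element of prime order in `H`
  have hcard : Nat.card H ≠ 1 := by
    intro h1
    exact hH1 (Subgroup.card_eq_one.mp h1)
  obtain ⟨r, hr, hrd⟩ := Nat.exists_prime_and_dvd hcard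
  haveI : Fact r.Prime := ⟨hr⟩
  obtain ⟨⟨h, hhH⟩, hho⟩ := exists_prime_orderOf_dvd_card' r hrd
  have hho' : orderOf h = r := by
    rw [← hho]
    exact (Subgroup.orderOf_mk h hhH).symm
  have hh1 : h ≠ 1 := by
    intro e
    rw [e, orderOf_one] at hho'
    exact hr.one_lt.ne hho'
  set φ : MulAut N := MulAut.conjNormal h with hφ
  have hφapp : ∀ n : N, ((φ n : N) : G) = h * n * h⁻¹ := fun n => MulAut.conjNormal_apply h n
  have hfpf : MonoidHom.FixedPointFree ((φ : N ≃* N) : N →* N) := by
    intro n hn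
    have h1 : h * (n : G) * h⁻¹ = n := by
      rw [← hφapp]
      exact congrArg Subtype.val hn
    have h2 : (n : G) ∈ N ⊓ Subgroup.centralizer {h} := by
      refine Subgroup.mem_inf.mpr ⟨n.2, ?_⟩
      rw [Subgroup.mem_centralizer_iff]
      intro x hx
      rw [Set.mem_singleton_iff] at hx
      subst hx
      have := congrArg (· * x) h1
      simpa [mul_assoc] using this
    rw [hfix h hhH hh1, Subgroup.mem_bot] at h2
    exact Subtype.ext h2
  have hord : orderOf φ = r := by
    apply orderOf_eq_prime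
    · rw [hφ, ← map_pow, ← hho', pow_orderOf_eq_one, map_one]
    · intro e
      obtain ⟨n, hn1⟩ := (Subgroup.ne_bot_iff_exists_ne_one).mp hN1
      apply hn1
      apply hfpf n
      show φ n = n
      rw [e]
      rfl
  exact Cfsg.Agent.S0033.result φ hfpf r hr hord

end Cfsg.Agent.S0042
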