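import Mathlib
import Cfsg.Statements.S0185
import Cfsg.Agent.Lib.Helper1.CharFound8
import Cfsg.Agent.Lib.Helper1.LinearChar
import Cfsg.Agent.S0135
import Cfsg.Agent.S0139

set_option autoImplicit false
open Cfsg

namespace Cfsg.Agent.S0185

open Cfsg.Agent.Lib.Helper1 Cfsg.Agent.Lib.Helper4

/-- The degree of an irreducible character divides the group order. -/
theorem irr_degree_dvd {G : Type*} [Group G] [Finite G] {ψ : G → ℂ} (hψ : Cfsg.IsIrrCharacter G ψ) :
    ∃ d : ℕ, ψ 1 = d ∧ d ∣ Nat.card G := by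
  obtain ⟨n, ρ, hirr, rfl⟩ := hψ
  refine ⟨n, by rw [Representation.char_one]; simp, ?_⟩
  have := Cfsg.Agent.S0135.result ρ
  simpa using this

/-- If a finite group has a faithful complex representation of degree less than the smallest prime dividing its order, the group is abelian. -/
theorem result {G : Type*} [Group G] [Finite G] {V : Type*} [AddCommGroup V] [Module ℂ V] [FiniteDimensional ℂ V] (ρ : Representation ℂ G V) (hfaithful : Function.Injective ρ) (hdeg : ∀ p : ℕ, p.Prime → p ∣ Nat.card G → Module.finrank ℂ V < p) (a b : G) : a * b = b * a := by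
  classical
  have : Fintype G := Fintype.ofFinite G
  have : Fintype (Cfsg.IrrCharacter G) := Fintype.ofFinite _
  set χ := ρ.character with hχdef
  have hχ : Cfsg.IsCharacter G χ := isCharacter_character ρ
  have hexp := class_function_expansion χ (isClassFunction_of_isCharacter hχ)
  -- multiplicities
  have hm : ∀ ψ : Cfsg.IrrCharacter G, ∃ m : ℕ, Cfsg.classInner χ ψ = m :=
    fun ψ => classInner_char_irr_nat hχ ψ.2
  choose m hm using hm
  have hd : ∀ ψ : Cfsg.IrrCharacter G, ∃ d : ℕ, (ψ : G → ℂ) 1 = d ∧ d ∣ Nat.card G :=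
    fun ψ => irr_degree_dvd ψ.2
  choose d hd hdvd using hd
  have hχ1 : χ 1 = (Module.finrank ℂ V : ℂ) := Representation.char_one ρ
  have hsum : Module.finrank ℂ V = ∑ ψ : Cfsg.IrrCharacter G, m ψ * d ψ := by
    have h1 := congrFun hexp 1
    rw [Finset.sum_apply, hχ1] at h1
    simp only [Pi.smul_apply, smul_eq_mul, hm, hd] at h1
    exact_mod_cast h1
  -- every constituent is linear
  have hlin : ∀ ψ : Cfsg.IrrCharacter G, m ψ ≠ 0 → d ψ = 1 := by
    intro ψ hψ
    by_contra hne
    obtain ⟨p, hp, hpd⟩ := Nat.exists_prime_and_dvd hne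
    have h1 := hdeg p hp (hpd.trans (hdvd ψ))
    have hdpos : d ψ ≠ 0 := by
      intro h0
      have := irr_apply_one_ne_zero ψ.2
      rw [hd ψ, h0] at this
      exact this (by simp)
    have h2 : p ≤ d ψ := Nat.le_of_dvd (Nat.pos_of_ne_zero hdpos) hpd
    have h3 : d ψ ≤ m ψ * d ψ := Nat.le_mul_of_pos_left _ (Nat.pos_of_ne_zero hψ)
    have h4 : m ψ * d ψ ≤ Module.finrank ℂ V := by
      rw [hsum]
      exact Finset.single_le_sum (f := fun ψ => m ψ * d ψ) (fun _ _ => Nat.zero_le _)
        (Finset.mem_univ ψ)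
    omega
  -- evaluate at the commutator
  set c := a * b * a⁻¹ * b⁻¹ with hc
  have hval : ∀ ψ : Cfsg.IrrCharacter G, m ψ ≠ 0 → (ψ : G → ℂ) c = (ψ : G → ℂ) 1 := by
    intro ψ hψ
    have h1 : (ψ : G → ℂ) 1 = 1 := by rw [hd ψ, hlin ψ hψ]; simp
    obtain ⟨φ, hφ⟩ := exists_hom_of_isIrrCharacter ψ.2 h1
    rw [hφ]
    simp only [hc, map_mul, map_inv, map_one]
    have : φ a * φ b * (φ a)⁻¹ * (φ b)⁻¹ = 1 := by
      rw [mul_comm (φ a) (φ b)]; group
    rw [this]
  have hχc : χ c = χ 1 := by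
    have h1 := congrFun hexp c
    have h2 := congrFun hexp 1
    rw [Finset.sum_apply] at h1 h2
    rw [h1, h2]
    refine Finset.sum_congr rfl fun ψ _ => ?_
    simp only [Pi.smul_apply, smul_eq_mul, hm]
    by_cases h0 : m ψ = 0
    · rw [h0]; simp
    · rw [hval ψ h0]
  rw [hχ1] at hχc
  have h5 := (Cfsg.Agent.S0139.result ρ c).1 hχc
  have h6 : ρ c = ρ 1 := by rw [h5, map_one]; rfl
  have h7 := hfaithful h6
  have : a * b = c * (b * a) := by rw [hc]; group
  rw [this, h7, one_mul]

end Cfsg.Agent.S0185
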