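import Cfsg.Statements.S0850
import Mathlib
import Cfsg.Agent.Lib.Helper2.PCore
import Cfsg.Agent.S0149
import Cfsg.Agent.S0170

set_option autoImplicit false
open Cfsg

namespace Cfsg.Agent.S0850


open Cfsg.Agent.Lib.Helper1

theorem not_conj_mem {G : Type*} [Group G] [Finite G] (K : Subgroup G)
    (hC : ∀ k ∈ K, k ≠ 1 → Subgroup.centralizer ({k} : Set G) ≤ K)
    (x : G) (hx : x ∈ Subgroup.normalizer (K : Set G)) (hxK : x ∉ K) (g : G) :
    g * x * g⁻¹ ∉ K := by
  intro hy
  have hx1 : x ≠ 1 := fun h => hxK (h ▸ K.one_mem)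
  have hm : orderOf x ≠ 1 := fun h => hx1 (orderOf_eq_one_iff.mp h)
  obtain ⟨p, hp, hpd⟩ := Nat.exists_prime_and_dvd hm
  haveI : Fact p.Prime := ⟨hp⟩
  set z := x ^ (orderOf x / p) with hz
  have hzo : orderOf z = p := orderOf_pow_orderOf_div (orderOf_pos x).ne' hpd
  have hz1 : z ≠ 1 := by
    intro h
    rw [h, orderOf_one] at hzo
    exact hp.one_lt.ne hzo
  have hzN : z ∈ Subgroup.normalizer (K : Set G) := Subgroup.pow_mem _ hx _
  have hzK : z ∉ K := by
    intro hzK
    apply hxK
    apply hC z hzK hz1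
    rw [Subgroup.mem_centralizer_iff]
    intro w hw
    rw [Set.mem_singleton_iff] at hw
    subst hw
    exact ((Commute.refl x).pow_left _).eq
  -- p divides |K|
  have hpK : p ∣ Nat.card K := by
    have hy' : g * z * g⁻¹ ∈ K := by
      have : g * z * g⁻¹ = (g * x * g⁻¹) ^ (orderOf x / p) := by
        rw [hz, conj_pow]
      rw [this]
      exact K.pow_mem hy _
    have ho : orderOf (⟨g * z * g⁻¹, hy'⟩ : K) = p := by
      rw [← Subgroup.orderOf_coe]
      show orderOf (g * z * g⁻¹) = p
      have := orderOf_injective (MulAut.conj g).toMonoidHom (MulAut.conj g).injective z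
      rw [← hzo, ← this]
      rfl
    rw [← ho]
    exact orderOf_dvd_natCard _
  -- |K| ≡ 1 mod p
  set N := Subgroup.normalizer (K : Set G) with hN
  set L : Subgroup N := K.subgroupOf N with hL
  haveI : L.Normal := Subgroup.normal_in_normalizer
  set R : Subgroup N := Subgroup.zpowers (⟨z, hzN⟩ : N) with hR
  have hRp : IsPGroup p R := by
    apply IsPGroup.of_card (n := 1)
    rw [hR, Nat.card_zpowers, pow_one, ← Subgroup.orderOf_coe]
    exact hzo
  have hfix : L ⊓ Subgroup.centralizer (R : Set N) = ⊥ := by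
    rw [eq_bot_iff]
    intro k hk
    obtain ⟨hkL, hkc⟩ := Subgroup.mem_inf.mp hk
    rw [Subgroup.mem_bot]
    by_contra hk1
    have hkK : (k : G) ∈ K := Subgroup.mem_subgroupOf.mp hkL
    have hk1' : (k : G) ≠ 1 := fun h => hk1 (Subtype.ext h)
    apply hzK
    apply hC (k : G) hkK hk1'
    rw [Subgroup.mem_centralizer_iff]
    intro w hw
    rw [Set.mem_singleton_iff] at hw
    subst hw
    rw [Subgroup.mem_centralizer_iff] at hkc
    have := hkc ⟨z, hzN⟩ (Subgroup.mem_zpowers _)
    exact (congrArg Subtype.val this).symm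
  have hmod := Cfsg.Agent.Lib.Helper2.card_modEq_one_of_conj_fixed_trivial p R L hRp hfix
  have hLK : Nat.card L = Nat.card K := by
    rw [hL]
    exact Nat.card_congr (Subgroup.subgroupOfEquivOfLe Subgroup.le_normalizer).toEquiv
  rw [hLK] at hmod
  have h0 : Nat.card K % p = 0 := Nat.mod_eq_zero_of_dvd hpK
  have h1 : Nat.card K % p = 1 % p := hmod
  rw [h0, Nat.mod_eq_of_lt hp.one_lt] at h1
  exact zero_ne_one h1

/-- Let K be a subgroup of the finite group G that meets each conjugate by an element outside its normalizer N trivially, is properly contained in N, and contains the centralizer of each of its non-identity elements (a T.I. subgroup with Frobenius normalizer). Then no element of N outside K is conjugate in G to an element of K, and for every class function ϑ of N that vanishes on N away from K and at the identity, the function induced from ϑ to G agrees with ϑ on all of N. -/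
theorem result {G : Type*} [Group G] [Fintype G] (K : Subgroup G) (hTI : ∀ g : G, g ∉ Subgroup.normalizer (K : Set G) → ∀ k ∈ K, g * k * g⁻¹ ∈ K → k = 1) (hlt : K < Subgroup.normalizer (K : Set G)) (hC : ∀ k ∈ K, k ≠ 1 → Subgroup.centralizer ({k} : Set G) ≤ K) : (∀ x ∈ Subgroup.normalizer (K : Set G), x ∉ K → ∀ g : G, g * x * g⁻¹ ∉ K) ∧ ∀ (ϑ : Subgroup.normalizer (K : Set G) → ℂ), Cfsg.IsClassFunction (Subgroup.normalizer (K : Set G)) ϑ → (∀ x : Subgroup.normalizer (K : Set G), (x : G) ∉ K → ϑ x = 0) → ϑ 1 = 0 → ∀ x : Subgroup.normalizer (K : Set G), Cfsg.indFun (Subgroup.normalizer (K : Set G)) ϑ x = ϑ x := by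
  have ha : ∀ x ∈ Subgroup.normalizer (K : Set G), x ∉ K → ∀ g : G, g * x * g⁻¹ ∉ K :=
    fun x hx hxK g => not_conj_mem K hC x hx hxK g
  refine ⟨ha, ?_⟩
  intro ϑ hcf hvan h1 x
  by_cases hxK : (x : G) ∈ K
  · by_cases hx1 : x = 1
    · subst hx1
      rw [OneMemClass.coe_one, Cfsg.Agent.S0170.indFun_one, h1]
      simp
    · exact Cfsg.Agent.S0149.aux (K : Set G) (Subgroup.normalizer (K : Set G)) hTI ϑ hcf hvan x
        hxK hx1
  · rw [hvan x hxK, indFun_apply]
    have hterm : ∀ g : G, Cfsg.extendByZero (Subgroup.normalizer (K : Set G)) ϑ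
        (g⁻¹ * (x : G) * g) = 0 := by
      intro g
      by_cases hmem : g⁻¹ * (x : G) * g ∈ Subgroup.normalizer (K : Set G)
      · rw [extendByZero_of_mem _ _ hmem]
        apply hvan
        have := ha (x : G) x.2 hxK g⁻¹
        rwa [inv_inv] at this
      · exact extendByZero_of_notMem _ _ hmem
    simp only [hterm, Finset.sum_const_zero, mul_zero]

end Cfsg.Agent.S0850
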