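import Cfsg.Statements.S0884
import Mathlib
import Cfsg.Agent.Lib.Helper2.FZ15

set_option autoImplicit false
open Cfsg

namespace Cfsg.Agent.S0884

open MulAction Cfsg.Agent.Lib.Lead.Zass Cfsg.Agent.Lib.Helper2

/-- Let G be a finite simple Zassenhaus group on Ω with h + 1 points whose two-point stabilizer E has odd order e with 2e < h - 1, and let H be the subgroup of the stabilizer of a consisting of the identity and the elements fixing no point other than a (given here as a subgroup of the stabilizer of order one less than the number of points whose non-identity elements fix only a; it is the Frobenius kernel of the stabilizer). Then at least e conjugacy classes of G contain no element of H. -/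
theorem result {G Ω : Type*} [Group G] [Finite G] [MulAction G Ω] [Fintype Ω] (hZ : Cfsg.IsZassenhausGroup G Ω) {a b : Ω} (hab : a ≠ b) [IsSimpleGroup G] (h e : ℕ) (hh : Fintype.card Ω = h + 1) (he : Nat.card ↥(MulAction.stabilizer G a ⊓ MulAction.stabilizer G b : Subgroup G) = e) (hodd : Odd e) (hlt : 2 * e < h - 1) (H : Subgroup G) (hHa : H ≤ MulAction.stabilizer G a) (hHcard : Nat.card H + 1 = Fintype.card Ω) (hHfix : ∀ u ∈ H, u ≠ 1 → ∀ c : Ω, u • c = c → c = a) : e ≤ Nat.card {C : ConjClasses G // ∀ g : G, ConjClasses.mk g = C → g ∉ H} := by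
  classical
  haveI : Fintype G := Fintype.ofFinite G
  have Z := zdata_of hZ
  have hodd' : Odd (Nat.card ↥(stabilizer G a ⊓ stabilizer G b : Subgroup G)) := by
    rw [he]; exact hodd
  refine le_trans ?_ (FZ.classes_avoid a H hHa hHfix)
  obtain ⟨r, hr⟩ : ∃ r : ℕ, r = ((FZ.Sset G Ω).image ConjClasses.mk).card := ⟨_, rfl⟩
  rw [← hr]
  have hsplit := FZ.card_pairs_split (G := G) (FZ.Ak G Ω 1) (FZ.Sset G Ω)
    (fun h1 => (FZ.mem_Ak.mp h1).1 rfl) (fun h1 => (FZ.mem_Sset.mp h1).1 rfl)
    (by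
      rw [Finset.disjoint_left]
      intro g hg hg'
      exact (FZ.mem_Sset.mp hg').2 (FZ.mem_Ak.mp hg).2)
    (by
      intro g
      by_cases hg1 : g = 1
      · exact Or.inl hg1
      · by_cases hf : FZ.fixN (Ω := Ω) g = 1
        · exact Or.inr (Or.inl (FZ.mem_Ak.mpr ⟨hg1, hf⟩))
        · exact Or.inr (Or.inr (FZ.mem_Sset.mpr ⟨hg1, hf⟩)))
  have hS : (FZ.ipairs (FZ.Sset G Ω)).card ≤ r * Fintype.card G := by
    calc (FZ.ipairs (FZ.Sset G Ω)).card ≤ ∑ g ∈ FZ.Sset G Ω, FZ.cz g := FZ.card_ipairs_le _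
      _ = r * Fintype.card G := by
        rw [hr]
        exact FZ.sum_cz _ (fun g hg y => FZ.Sset_conj hg y)
  have hG : Fintype.card G = (h + 1) * h * e := by
    rw [FZ.card_group Z hab, hh, Nat.add_sub_cancel, FZ.eNum_eq_card, he]
  have hI : (FZ.invs G).card = Nat.card {x : G // orderOf x = 2} := by
    rw [Nat.card_eq_fintype_card, Fintype.card_subtype]
    rfl
  obtain ⟨e', rfl⟩ : ∃ e', e = e' + 1 := by
    obtain ⟨k, hk⟩ := hodd
    exact ⟨2 * k, hk⟩
  have hh1 : e' + 1 < h := by omega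
  rw [hG] at hS
  by_cases hev : Even h
  · have hn : Odd (Fintype.card Ω) := by rw [hh]; exact hev.add_one
    have hIc : (FZ.invs G).card = (e' + 1) * (h + 1) := by
      rw [hI, FZ.card_invol_even hZ hab hodd' hn, he, hh]
    have hA1 := FZ.ipairs_A1_even hZ hab hodd' hn
    rw [he, hh] at hA1
    have hsub : (e' + 1) * (e' + 1) - (e' + 1) = (e' + 1) * e' :=
      Nat.sub_eq_of_eq_add (by ring)
    rw [hsub] at hA1
    rw [hIc, hA1] at hsplit
    have hK : (h + 1) * h * (e' + 1) * (e' + 1) ≤ (h + 1) * h * (e' + 1) * r := by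
      nlinarith [hsplit, hS]
    have hKpos : 0 < (h + 1) * h * (e' + 1) := by
      apply Nat.mul_pos (Nat.mul_pos (Nat.succ_pos _) (by omega)) (Nat.succ_pos _)
    exact Nat.le_of_mul_le_mul_left hK hKpos
  · have hh' : Odd (Fintype.card Ω - 1) := by
      rw [hh, Nat.add_sub_cancel]; exact Nat.not_even_iff_odd.mp hev
    have hIc : (FZ.invs G).card = (e' + 1) * h := by
      rw [hI, FZ.card_invol_odd hZ hab hodd' hh', he, hh, Nat.add_sub_cancel]
    have hA1 := FZ.ipairs_A1_odd Z hab hodd' hh'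
    rw [hIc, hA1] at hsplit
    have hK : (e' + 1) * h * ((e' + 1) * h) ≤ (e' + 1) * h * (1 + r * (h + 1)) := by
      nlinarith [hsplit, hS]
    have hKpos : 0 < (e' + 1) * h := Nat.mul_pos (Nat.succ_pos _) (by omega)
    have hK' : (e' + 1) * h ≤ 1 + r * (h + 1) := Nat.le_of_mul_le_mul_left hK hKpos
    by_contra hlt'
    push Not at hlt'
    have h1 : (r + 1) * (h + 1) ≤ (e' + 1) * (h + 1) := Nat.mul_le_mul_right _ hlt'
    nlinarith [h1, hK']

end Cfsg.Agent.S0884
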