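import Mathlib
import Cfsg.Statements.S1516
import Cfsg.Agent.Lib.Helper4.Coh7
-- import your own Cfsg.Agent.* helpers here

set_option autoImplicit false
open Cfsg
open Cfsg.Agent.Lib.Helper4 Cfsg.Agent.Lib.Helper4.Coh Cfsg.Agent.Lib.Helper1

namespace Cfsg.Agent.S1516

/-- Let (S, τ, R) be a coherence system from L to G with degrees φ 1 = d φ and squared norms ⟨φ, φ⟩ = n φ for φ ∈ S. Let S₁ ⊆ S be a finite subset closed under complex conjugation such that (S₁, L minus 1, τ) is coherent, let χ ∈ S with χ ∉ S₁ and conj χ ∉ S₁, and let χ₁ ∈ S₁ with d χ₁ dividing d χ and 2 d χ d χ₁ < Σ_{φ ∈ S₁} (d φ)² / n φ. Then S₁ together with χ and conj χ is coherent. -/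
theorem result {L : Type*} [Group L] [Fintype L] {G : Type*} [Group G] [Fintype G] (S : Set (L → ℂ)) (τ : (L → ℂ) → (G → ℂ)) (R : (L → ℂ) → Finset (G → ℂ)) (hS : Cfsg.IsCoherenceSystem S τ R) (d n : (L → ℂ) → ℕ) (hd : ∀ φ ∈ S, φ 1 = (d φ : ℂ)) (hn : ∀ φ ∈ S, Cfsg.classInner φ φ = (n φ : ℂ)) (S₁ : Finset (L → ℂ)) (hS₁ : ↑S₁ ⊆ S) (hS₁c : ∀ φ ∈ S₁, Cfsg.conjFun φ ∈ S₁) (hcoh : Cfsg.IsCoherent (↑S₁ : Set (L → ℂ)) {1}ᶜ τ) (χ : L → ℂ) (hχ : χ ∈ S) (hχ₁ : χ ∉ S₁) (hχ₂ : Cfsg.conjFun χ ∉ S₁) (χ₁ : L → ℂ) (hχ₁S : χ₁ ∈ S₁) (hdvd : d χ₁ ∣ d χ) (hineq : (2 * d χ * d χ₁ : ℝ) < ∑ φ ∈ S₁, ((d φ : ℝ) ^ 2 / (n φ : ℝ))) : Cfsg.IsCoherent (↑S₁ ∪ {χ, Cfsg.conjFun χ} : Set (L → ℂ)) {1}ᶜ τ := by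
  classical
  obtain ⟨-, τ₁, hτ₁, hagree⟩ := hcoh
  obtain ⟨a, ha⟩ := hdvd
  obtain ⟨Y, hYg, hYe, hYY, hYSum, hYφ, hPSum⟩ :=
    ext_main hS S₁ hS₁ hS₁c hτ₁ hagree d n hd hn hχ hχ₁ hχ₂ hχ₁S ha hineq
  have hχb : Cfsg.conjFun χ ∈ S := hS.conj_mem χ hχ
  have hχne : Cfsg.conjFun χ ≠ χ := hS.conj_ne χ hχ
  have hχ₁S' : χ₁ ∈ S := hS₁ hχ₁S
  have hnχ := hn χ hχ
  have hcard := card_R hS hχ hnχ
  have hSS : Cfsg.classInner (∑ α ∈ R χ, α) (∑ α ∈ R χ, α) = 2 * (n χ : ℂ) := by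
    rw [norm_sum_orthonormal (R χ) (orthonormal_R hS hχ), hcard]
    push_cast
    ring
  have hSY : Cfsg.classInner (∑ α ∈ R χ, α) Y = n χ := by
    rw [← classInner_conj_symm, hYSum, Complex.conj_natCast]
  have hφY : ∀ φ ∈ S₁, Cfsg.classInner (τ₁ φ) Y = 0 := fun φ hφ =>
    classInner_eq_zero_symm (hYφ φ hφ)
  have hSumP : ∀ φ ∈ S₁, Cfsg.classInner (∑ α ∈ R χ, α) (τ₁ φ) = 0 := fun φ hφ =>
    classInner_eq_zero_symm (hPSum φ hφ)
  set F : Finset (L → ℂ) := insert χ (insert (Cfsg.conjFun χ) S₁) with hF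
  have hFS : (↑F : Set (L → ℂ)) = ↑S₁ ∪ {χ, Cfsg.conjFun χ} := by
    ext x
    simp only [hF, Finset.coe_insert, Set.mem_insert_iff, Finset.mem_coe, Set.mem_union,
      Set.mem_singleton_iff]
    tauto
  have hFsub : (↑F : Set (L → ℂ)) ⊆ S := by
    intro x hx
    rw [hF, Finset.mem_coe, Finset.mem_insert, Finset.mem_insert] at hx
    rcases hx with rfl | rfl | hx
    · exact hχ
    · exact hχb
    · exact hS₁ hx
  have hFo : OrthoSet (↑F : Set (L → ℂ)) := (sys_orthoSet hS).mono hFsub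
  set T : (L → ℂ) → (G → ℂ) := fun φ =>
    if φ = χ then Y else if φ = Cfsg.conjFun χ then Y - ∑ α ∈ R χ, α else τ₁ φ with hT
  have hTχ : T χ = Y := if_pos rfl
  have hTχb : T (Cfsg.conjFun χ) = Y - ∑ α ∈ R χ, α := by
    show (if Cfsg.conjFun χ = χ then Y else
      if Cfsg.conjFun χ = Cfsg.conjFun χ then Y - ∑ α ∈ R χ, α else τ₁ (Cfsg.conjFun χ)) = _
    rw [if_neg hχne, if_pos rfl]
  have hTφ : ∀ φ ∈ S₁, T φ = τ₁ φ := by
    intro φ hφ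
    have h1 : φ ≠ χ := fun h => hχ₁ (h ▸ hφ)
    have h2 : φ ≠ Cfsg.conjFun χ := fun h => hχ₂ (h ▸ hφ)
    show (if φ = χ then Y else
      if φ = Cfsg.conjFun χ then Y - ∑ α ∈ R χ, α else τ₁ φ) = _
    rw [if_neg h1, if_neg h2]
  have hT1 : ∀ φ ∈ F, ∀ ψ ∈ F, Cfsg.classInner (T φ) (T ψ) = Cfsg.classInner φ ψ := by
    intro φ hφ ψ hψ
    rw [hF, Finset.mem_insert, Finset.mem_insert] at hφ hψ
    rcases hφ with rfl | rfl | hφ <;> rcases hψ with rfl | rfl | hψ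
    · rw [hTχ, hYY, hnχ]
    · rw [hTχ, hTχb, classInner_sub_right, hYY, hYSum, sub_self, sys_inner_conj hS hχ]
    · rw [hTχ, hTφ ψ hψ, hYφ ψ hψ,
        hS.orthogonal φ hχ ψ (hS₁ hψ) (fun h => hχ₁ (h ▸ hψ))]
    · rw [hTχ, hTχb, classInner_sub_left, hYY, hSY, sub_self, sys_inner_conj' hS hχ]
    · rw [hTχb, classInner_sub_left, classInner_sub_right, classInner_sub_right, hYY, hYSum,
        hSY, hSS, sys_norm_conj hS hχ, hnχ]
      ring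
    · rw [hTχb, hTφ ψ hψ, classInner_sub_left, hYφ ψ hψ, hSumP ψ hψ, sub_zero,
        hS.orthogonal _ hχb ψ (hS₁ hψ) (fun h => hχ₂ (h ▸ hψ))]
    · rw [hTχ, hTφ φ hφ, hφY φ hφ,
        hS.orthogonal φ (hS₁ hφ) ψ hχ (fun h => hχ₁ (h ▸ hφ))]
    · rw [hTχb, hTφ φ hφ, classInner_sub_right, hφY φ hφ, hPSum φ hφ, sub_zero,
        hS.orthogonal φ (hS₁ hφ) _ hχb (fun h => hχ₂ (h ▸ hφ))]
    · rw [hTφ φ hφ, hTφ ψ hψ,
        lio_inner hτ₁ (mem_zspan_of_mem hφ) (mem_zspan_of_mem hψ)]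
  have hT2 : ∀ φ ∈ F, Cfsg.IsGeneralizedCharacter G (T φ) := by
    intro φ hφ
    rw [hF, Finset.mem_insert, Finset.mem_insert] at hφ
    rcases hφ with rfl | rfl | hφ
    · rw [hTχ]; exact hYg
    · rw [hTχb]
      exact isGenChar_sub hYg (isGenChar_sum_subset hS hχ (Finset.Subset.refl _))
    · rw [hTφ φ hφ]
      exact lio_genChar hτ₁ (mem_zspan_of_mem hφ)
  refine ⟨⟨χ - Cfsg.conjFun χ, ?_, ?_⟩, extend F T, ?_, ?_⟩
  · exact sub_mem_zspanOn (Or.inr (Or.inl rfl)) (Or.inr (Or.inr rfl))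
      (conjFun_apply_one hS hχ).symm
  · intro h
    exact hχne (sub_eq_zero.1 h).symm
  · rw [← hFS]
    exact extend_isometry F hFo T hT1 hT2
  · intro α hα
    rw [← hFS] at hα
    obtain ⟨c, rfl⟩ := exists_coeff F hα.1
    rw [extend_sum_zsmul F hFo]
    have hχF : χ ∉ insert (Cfsg.conjFun χ) S₁ := by
      rw [Finset.mem_insert]
      rintro (h | h)
      · exact hχne h.symm
      · exact hχ₁ h
    rw [hF, Finset.sum_insert hχF, Finset.sum_insert hχ₂, Finset.sum_insert hχF,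
      Finset.sum_insert hχ₂, hTχ, hTχb]
    set x := c χ with hx
    set y := c (Cfsg.conjFun χ) with hy
    set β : L → ℂ := ∑ φ ∈ S₁, c φ • φ with hβ
    have hβm : β ∈ Cfsg.zspan (↑S₁ : Set (L → ℂ)) :=
      sum_zsmul_mem_zspan S₁ c
    have hsumT : ∑ φ ∈ S₁, c φ • T φ = τ₁ β := by
      rw [hβ, lio_sum_zsmul' hτ₁ S₁ c (fun φ => φ) (fun φ hφ => mem_zspan_of_mem hφ)]
      exact Finset.sum_congr rfl fun φ hφ => by rw [hTφ φ hφ]
    rw [hsumT]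
    -- the value at one
    have hα1 : (x • χ + (y • Cfsg.conjFun χ + β)) 1 = 0 := by
      have := hα.2 1 (by simp)
      rw [hF, Finset.sum_insert hχF, Finset.sum_insert hχ₂] at this
      exact this
    set γ : L → ℂ := β + ((x + y) * a) • χ₁ with hγ
    have hγm : γ ∈ Cfsg.zspanOn (↑S₁ : Set (L → ℂ)) {1}ᶜ := by
      refine ⟨zspan_add hβm (zspan_zsmul _ (mem_zspan_of_mem hχ₁S)), ?_⟩
      intro z hz
      have : z = 1 := by
        by_contra h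
        exact hz h
      rw [this, hγ]
      simp only [Pi.add_apply, Pi.smul_apply] at hα1 ⊢
      rw [conjFun_apply_one hS hχ, hd χ hχ, ha] at hα1
      rw [hd χ₁ hχ₁S']
      push_cast at hα1 ⊢
      simp only [zsmul_eq_mul] at hα1 ⊢
      push_cast
      linear_combination hα1
    have hβ₀m := beta0_mem hS d hd hχ hχ₁S' ha
    have hdec : x • χ + (y • Cfsg.conjFun χ + β) =
        (x + y) • (χ - (a : ℤ) • χ₁) + ((-y) • (χ - Cfsg.conjFun χ) + γ) := by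
      rw [hγ]
      funext z
      simp only [Pi.add_apply, Pi.smul_apply, Pi.sub_apply]
      simp only [zsmul_eq_mul]
      push_cast
      ring
    have hγm' : γ ∈ Cfsg.zspanOn S {1}ᶜ := zspanOn_mono hS₁ hγm
    rw [hdec, lio_add hS.isometry (zspanOn_zsmul _ hβ₀m)
      (zspanOn_add (zspanOn_zsmul _ (sub_conj_mem hS hχ)) hγm'),
      lio_add hS.isometry (zspanOn_zsmul _ (sub_conj_mem hS hχ)) hγm',
      lio_zsmul hS.isometry hβ₀m, lio_zsmul hS.isometry (sub_conj_mem hS hχ),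
      hS.sum_eq χ hχ, ← hagree γ hγm, hγ,
      lio_add hτ₁ hβm (zspan_zsmul _ (mem_zspan_of_mem hχ₁S)),
      lio_zsmul hτ₁ (mem_zspan_of_mem hχ₁S), hYe]
    funext z
    simp only [Pi.add_apply, Pi.smul_apply, Pi.sub_apply]
    simp only [zsmul_eq_mul]
    push_cast
    ring

end Cfsg.Agent.S1516
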