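import Mathlib
import Cfsg.Statements.S1492
import Cfsg.Agent.Lib.Helper4.CharTools
import Cfsg.Agent.Lib.Helper1.IndFun
import Cfsg.Agent.Lib.Lead.HallTools
import Cfsg.Agent.S0146
import Cfsg.Agent.S0148

set_option autoImplicit false
open Cfsg

namespace Cfsg.Agent.S1492

open Cfsg.Agent.Lib.Helper4 Cfsg.Agent.Lib.Helper1
open scoped ComplexConjugate

/-- Let ψ be an irreducible character of the finite group G and B ≤ D ≤ C subgroups with B normal in C, every commutator of an element of D with an element of C lying in B (so D/B is central in C/B), and ψ constant equal to ψ 1 on B. Then ψ(1) ^ 2 * |C| * |D| ≤ |G| ^ 2. -/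
theorem result {G : Type*} [Group G] [Finite G] (ψ : G → ℂ) (hψ : Cfsg.IsIrrCharacter G ψ) (B C D : Subgroup G) (hBD : B ≤ D) (hDC : D ≤ C) (hBn : ∀ c ∈ C, ∀ b ∈ B, c * b * c⁻¹ ∈ B) (hcent : ∀ d ∈ D, ∀ c ∈ C, d * c * d⁻¹ * c⁻¹ ∈ B) (hker : ∀ b ∈ B, ψ b = ψ 1) : ‖ψ 1‖ ^ 2 * (Nat.card C : ℝ) * (Nat.card D : ℝ) ≤ (Nat.card G : ℝ) ^ 2 := by
  classical
  haveI : Fintype G := Fintype.ofFinite _
  haveI : Fintype C := Fintype.ofFinite _
  set ρ : C → ℂ := fun c => ψ c with hρdef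
  have hρ : Cfsg.IsCharacter C ρ := Cfsg.Agent.S0148.isCharacter_restrict C (isCharacter_of_irr hψ)
  have hρ1 : ρ 1 ≠ 0 := by
    show ψ ((1 : C) : G) ≠ 0
    exact irr_apply_one_ne_zero hψ
  obtain ⟨φ, hφ, m, hm, hin⟩ := exists_constituent hρ hρ1
  -- B is in the kernel of φ
  have hφB : ∀ b : C, (b : G) ∈ B → φ b = φ 1 := by
    intro b hb
    exact constituent_apply_eq hρ hφ hm hin b (hker b hb)
  -- D is central modulo the kernel
  have hφD : ∀ d : C, (d : G) ∈ D → ‖φ d‖ = ‖φ 1‖ := by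
    intro d hd
    apply norm_eq_of_central_mod_ker hφ d
    intro c
    exact hφB _ (hcent d hd c c.2)
  obtain ⟨n, hn, hn1⟩ := irr_apply_one_pos hφ
  obtain ⟨k, hk, hk1⟩ := irr_apply_one_pos hψ
  -- (4)
  have h4 : (Nat.card D : ℝ) * (n : ℝ) ^ 2 ≤ (Nat.card C : ℝ) := by
    rw [← sum_norm_sq_irr hφ]
    have hsub : ∑ c ∈ Finset.univ.filter (fun c : C => (c : G) ∈ D), ‖φ c‖ ^ 2
        ≤ ∑ c : C, ‖φ c‖ ^ 2 :=
      Finset.sum_le_sum_of_subset_of_nonneg (Finset.subset_univ _) (fun _ _ _ => by positivity)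
    refine le_trans (le_of_eq ?_) hsub
    have hterm : ∀ c ∈ Finset.univ.filter (fun c : C => (c : G) ∈ D), ‖φ c‖ ^ 2 = (n : ℝ) ^ 2 := by
      intro c hc
      rw [hφD c (Finset.mem_filter.mp hc).2, hn1]
      simp
    rw [Finset.sum_congr rfl hterm, Finset.sum_const, nsmul_eq_mul]
    congr 1
    have : (Finset.univ.filter (fun c : C => (c : G) ∈ D)).card = Nat.card (D.subgroupOf C) := by
      rw [Nat.card_eq_fintype_card, Fintype.card_subtype]
      rfl
    rw [this, Cfsg.Agent.Lib.Lead.card_subgroupOf_of_le hDC]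
  -- (1)
  have hindc : Cfsg.IsCharacter G (Cfsg.indFun C φ) :=
    Cfsg.Agent.S0148.result C φ (isCharacter_of_irr hφ)
  have hinner : Cfsg.classInner (Cfsg.indFun C φ) ψ = m := by
    rw [Cfsg.Agent.S0146.result C φ ψ (isClassFunction_irr hψ), ← classInner_conj_symm]
    show conj (Cfsg.classInner ρ φ) = m
    rw [hin, Complex.conj_natCast]
  have hsubc := isCharacter_sub_irr hindc hψ hm hinner
  obtain ⟨n', hn'⟩ := isCharacter_apply_one hsubc
  have hind1 : Cfsg.indFun C φ 1 = (Nat.card C : ℂ)⁻¹ * ((Nat.card G : ℂ) * n) := by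
    rw [indFun_apply]
    congr 1
    have : ∀ x : G, Cfsg.extendByZero C φ (x⁻¹ * 1 * x) = n := by
      intro x
      have e : x⁻¹ * 1 * x = ((1 : C) : G) := by simp
      rw [e, extendByZero_coe, hn1]
    rw [Finset.sum_congr rfl fun x _ => this x, Finset.sum_const, nsmul_eq_mul, Nat.card_eq_fintype_card]
    rfl
  simp only [Pi.sub_apply] at hn'
  rw [hind1, hk1] at hn'
  have hC0 : (Nat.card C : ℂ) ≠ 0 := Nat.cast_ne_zero.mpr Nat.card_pos.ne'
  have h1 : ((k + n') * Nat.card C : ℕ) = Nat.card G * n := by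
    have : (((k + n') * Nat.card C : ℕ) : ℂ) = ((Nat.card G * n : ℕ) : ℂ) := by
      push_cast
      field_simp at hn'
      linear_combination -hn'
    exact_mod_cast this
  have h1' : (k : ℝ) * (Nat.card C : ℝ) ≤ (Nat.card G : ℝ) * n := by
    have : k * Nat.card C ≤ Nat.card G * n := by rw [← h1]; nlinarith
    exact_mod_cast this
  -- combine
  rw [hk1]
  have hnorm : ‖((k : ℕ) : ℂ)‖ = (k : ℝ) := by simp
  rw [hnorm]
  have hCpos : (0 : ℝ) < Nat.card C := by exact_mod_cast Nat.card_pos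
  have hDnn : (0 : ℝ) ≤ Nat.card D := by positivity
  have hsq : ((k : ℝ) * (Nat.card C : ℝ)) ^ 2 ≤ ((Nat.card G : ℝ) * n) ^ 2 :=
    pow_le_pow_left₀ (by positivity) h1' 2
  have h5 : (Nat.card C : ℝ) * ((k : ℝ) ^ 2 * (Nat.card C : ℝ) * (Nat.card D : ℝ))
      ≤ (Nat.card C : ℝ) * (Nat.card G : ℝ) ^ 2 := by
    calc (Nat.card C : ℝ) * ((k : ℝ) ^ 2 * (Nat.card C : ℝ) * (Nat.card D : ℝ))
        = ((k : ℝ) * (Nat.card C : ℝ)) ^ 2 * (Nat.card D : ℝ) := by ring
      _ ≤ ((Nat.card G : ℝ) * n) ^ 2 * (Nat.card D : ℝ) := mul_le_mul_of_nonneg_right hsq hDnn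
      _ = (Nat.card G : ℝ) ^ 2 * ((Nat.card D : ℝ) * (n : ℝ) ^ 2) := by ring
      _ ≤ (Nat.card G : ℝ) ^ 2 * (Nat.card C : ℝ) := mul_le_mul_of_nonneg_left h4 (by positivity)
      _ = (Nat.card C : ℝ) * (Nat.card G : ℝ) ^ 2 := by ring
  exact le_of_mul_le_mul_left h5 hCpos

end Cfsg.Agent.S1492
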