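import Mathlib
import Cfsg.Statements.S1487
import Cfsg.Agent.Lib.Helper4.IndNormal
import Cfsg.Agent.Lib.Helper4.CharBound

set_option autoImplicit false
open Cfsg

namespace Cfsg.Agent.S1487

open Cfsg.Agent.Lib.Helper4

/-- Let A ≤ H be normal subgroups of the finite group G and θ an irreducible character of H. Then θ takes the value θ 1 on all of A if and only if the function induced from θ to G takes its value at 1 on all of A. -/
theorem result {G : Type*} [Group G] [Fintype G] (A H : Subgroup G) [A.Normal] [H.Normal] (hAH : A ≤ H) (θ : H → ℂ) (hθ : Cfsg.IsIrrCharacter H θ) : (∀ a : H, (a : G) ∈ A → θ a = θ 1) ↔ (∀ a : G, a ∈ A → Cfsg.indFun H θ a = Cfsg.indFun H θ 1) := by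
  classical
  have hA : ∀ (g : G) (a : G), a ∈ A → g * a * g⁻¹ ∈ A := fun g a ha =>
    (inferInstance : A.Normal).conj_mem a ha g
  have hone : ∀ g : G, conjFn H θ g 1 = θ 1 := by
    intro g
    rw [conjFn_apply]
    congr 1
    apply Subtype.ext
    simp
  have hcard : (Nat.card H : ℂ) ≠ 0 := Nat.cast_ne_zero.mpr Nat.card_pos.ne'
  have hchar := isCharacter_of_irr hθ
  constructor
  · intro h a ha
    have e1 := indFun_normal_apply H θ ⟨a, hAH ha⟩
    have e2 := indFun_normal_apply H θ 1
    simp only [OneMemClass.coe_one] at e1 e2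
    rw [e1, e2]
    congr 1
    refine Finset.sum_congr rfl fun g _ => ?_
    rw [hone, conjFn_apply]
    have := h ⟨g * a * g⁻¹, hAH (hA g a ha)⟩ (hA g a ha)
    exact this
  · intro h a ha
    have e1 := indFun_normal_apply H θ a
    have e2 := indFun_normal_apply H θ 1
    have e3 := h a ha
    simp only [OneMemClass.coe_one] at e2
    rw [e1, e2] at e3
    have e4 : ∑ g : G, conjFn H θ g a = ∑ g : G, conjFn H θ g 1 := mul_left_cancel₀ (inv_ne_zero hcard) e3
    have e5 : ∑ g : G, (conjFn H θ g a).re = ∑ g : G, (conjFn H θ g 1).re := by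
      have := congrArg Complex.re e4
      simpa using this
    have e6 : ∀ g ∈ (Finset.univ : Finset G), (conjFn H θ g a).re ≤ (conjFn H θ g 1).re := by
      intro g _
      rw [hone, conjFn_apply]
      exact isCharacter_re_le hchar _
    have e7 := (Finset.sum_eq_sum_iff_of_le e6).mp e5 1 (Finset.mem_univ _)
    rw [hone] at e7
    have e8 : conjFn H θ 1 a = θ a := by rw [conjFn_one]
    rw [e8] at e7
    exact isCharacter_eq_of_re_eq hchar a e7

end Cfsg.Agent.S1487
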