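import Mathlib
import Cfsg.Statements.S1514
import Cfsg.Agent.Lib.Helper4.Coherence

set_option autoImplicit false
open Cfsg

namespace Cfsg.Agent.S1514

open Cfsg.Agent.Lib.Helper4 Cfsg.Agent.Lib.Helper1
open scoped ComplexConjugate

section
variable {G : Type*} [Group G] [Fintype G]

theorem inner_signed {ξ ψ : G → ℂ} (hξ : Cfsg.IsIrrCharacter G ξ) (hψ : Cfsg.IsIrrCharacter G ψ)
    (b a : ℂ) [Decidable (ξ = ψ)] :
    Cfsg.classInner (b • ξ) (a • ψ) = b * conj a * (if ξ = ψ then 1 else 0) := by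
  classical
  rw [classInner_smul_left, classInner_smul_right, classInner_irr hξ hψ]
  split_ifs <;> ring

theorem sign_mul_conj {a : ℂ} (ha : a = 1 ∨ a = -1) : a * conj a = 1 := by
  rcases ha with rfl | rfl <;> simp

theorem sign_ne_zero {a : ℂ} (ha : a = 1 ∨ a = -1) : a ≠ 0 := by
  rcases ha with rfl | rfl <;> simp

theorem four_delta {ξ₁ ξ₂ ψ₁ ψ₂ : G → ℂ} (h1 : Cfsg.IsIrrCharacter G ξ₁)
    (h2 : Cfsg.IsIrrCharacter G ξ₂) (h3 : Cfsg.IsIrrCharacter G ψ₁) (h4 : Cfsg.IsIrrCharacter G ψ₂)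
    (hξ : ξ₁ ≠ ξ₂) (hψ : ψ₁ ≠ ψ₂) {b a : ℂ} (hb : b = 1 ∨ b = -1) (ha : a = 1 ∨ a = -1)
    (h : Cfsg.classInner (b • ξ₁ - b • ξ₂) (a • ψ₁ - a • ψ₂) = 0) :
    ξ₁ ≠ ψ₁ ∧ ξ₁ ≠ ψ₂ ∧ ξ₂ ≠ ψ₁ ∧ ξ₂ ≠ ψ₂ := by
  classical
  rw [classInner_sub_left, classInner_sub_right, classInner_sub_right, inner_signed h1 h3,
    inner_signed h1 h4, inner_signed h2 h3, inner_signed h2 h4] at h
  have hba : b * conj a ≠ 0 := by
    apply mul_ne_zero (sign_ne_zero hb)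
    rcases ha with rfl | rfl <;> simp
  have h' : ((if ξ₁ = ψ₁ then (1:ℂ) else 0) - (if ξ₁ = ψ₂ then 1 else 0)
      - ((if ξ₂ = ψ₁ then 1 else 0) - (if ξ₂ = ψ₂ then 1 else 0))) = 0 := by
    apply (mul_eq_zero.mp _).resolve_left hba
    linear_combination h
  by_cases e11 : ξ₁ = ψ₁
  · exfalso
    have e12 : ξ₁ ≠ ψ₂ := fun e => hψ (e11.symm.trans e)
    have e21 : ξ₂ ≠ ψ₁ := fun e => hξ (e11.trans e.symm)
    rw [if_pos e11, if_neg e12, if_neg e21] at h'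
    by_cases e22 : ξ₂ = ψ₂
    · rw [if_pos e22] at h'; norm_num at h'
    · rw [if_neg e22] at h'; norm_num at h'
  by_cases e12 : ξ₁ = ψ₂
  · exfalso
    have e22 : ξ₂ ≠ ψ₂ := fun e => hξ (e12.trans e.symm)
    rw [if_neg e11, if_pos e12, if_neg e22] at h'
    by_cases e21 : ξ₂ = ψ₁
    · rw [if_pos e21] at h'; norm_num at h'
    · rw [if_neg e21] at h'; norm_num at h'
  by_cases e21 : ξ₂ = ψ₁
  · exfalso
    have e22 : ξ₂ ≠ ψ₂ := fun e => hψ (e21.symm.trans e)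
    rw [if_neg e11, if_neg e12, if_pos e21, if_neg e22] at h'
    norm_num at h'
  by_cases e22 : ξ₂ = ψ₂
  · exfalso
    rw [if_neg e11, if_neg e12, if_neg e21, if_pos e22] at h'
    norm_num at h'
  exact ⟨e11, e12, e21, e22⟩

end

/-- Let S be a nonempty set of irreducible characters of the finite group L, closed under complex conjugation and containing no real-valued member, and τ a linear isometry on the integer combinations of S vanishing at 1, with values virtual characters of G vanishing at 1. Then there is a choice R making (S, τ, R) a coherence system. -/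
theorem result {L : Type*} [Group L] [Fintype L] {G : Type*} [Group G] [Fintype G] (S : Set (L → ℂ)) (hS : S.Nonempty) (hirr : ∀ χ ∈ S, Cfsg.IsIrrCharacter L χ) (hconj : ∀ χ ∈ S, Cfsg.conjFun χ ∈ S ∧ Cfsg.conjFun χ ≠ χ) (τ : (L → ℂ) → (G → ℂ)) (hτ : Cfsg.IsLinearIsometryOn (Cfsg.zspanOn S {1}ᶜ) τ) (hτ1 : ∀ α ∈ Cfsg.zspanOn S {1}ᶜ, τ α 1 = 0) : ∃ R : (L → ℂ) → Finset (G → ℂ), Cfsg.IsCoherenceSystem S τ R := by
  classical
  have hcirr : ∀ χ ∈ S, Cfsg.IsIrrCharacter L (Cfsg.conjFun χ) := fun χ h => hirr _ (hconj χ h).1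
  have hδmem : ∀ χ ∈ S, χ - Cfsg.conjFun χ ∈ Cfsg.zspanOn S {1}ᶜ := by
    intro χ hχ
    refine ⟨zspan_sub (mem_zspan_of_mem hχ) (mem_zspan_of_mem (hconj χ hχ).1), ?_⟩
    intro x hx
    have : x = 1 := by simpa using hx
    subst this
    obtain ⟨n, hn⟩ := isCharacter_apply_one (isCharacter_of_irr (hirr χ hχ))
    simp [Cfsg.conjFun, hn]
  have hδnorm : ∀ χ ∈ S, Cfsg.classInner (χ - Cfsg.conjFun χ) (χ - Cfsg.conjFun χ) = 2 := by
    intro χ hχ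
    have hne := (hconj χ hχ).2
    rw [classInner_sub_left, classInner_sub_right, classInner_sub_right,
      classInner_irr_self (hirr χ hχ), classInner_irr_self (hcirr χ hχ),
      classInner_irr_ne (hirr χ hχ) (hcirr χ hχ) hne.symm,
      classInner_irr_ne (hcirr χ hχ) (hirr χ hχ) hne]
    ring
  have hdecomp : ∀ χ ∈ S, ∃ ψ₁ ψ₂ : G → ℂ, Cfsg.IsIrrCharacter G ψ₁ ∧ Cfsg.IsIrrCharacter G ψ₂ ∧
      ψ₁ ≠ ψ₂ ∧ ∃ a : ℂ, (a = 1 ∨ a = -1) ∧ τ (χ - Cfsg.conjFun χ) = a • ψ₁ - a • ψ₂ := by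
    intro χ hχ
    apply genChar_norm_two_vanish (lio_genChar hτ (hδmem χ hχ))
    · rw [lio_inner hτ (hδmem χ hχ) (hδmem χ hχ), hδnorm χ hχ]
    · exact hτ1 _ (hδmem χ hχ)
  choose! ψ₁ ψ₂ hψ₁ hψ₂ hne a ha hτeq using hdecomp
  -- basic inner products
  have hAA : ∀ χ ∈ S, Cfsg.classInner (a χ • ψ₁ χ) (a χ • ψ₁ χ) = 1 := by
    intro χ hχ
    rw [inner_signed (hψ₁ χ hχ) (hψ₁ χ hχ), if_pos rfl, mul_one, sign_mul_conj (ha χ hχ)]
  have hnega : ∀ χ ∈ S, (-(a χ) = 1 ∨ -(a χ) = -1) := by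
    intro χ hχ
    rcases ha χ hχ with h | h
    · right; rw [h]
    · left; rw [h]; simp
  have hBB : ∀ χ ∈ S, Cfsg.classInner ((-(a χ)) • ψ₂ χ) ((-(a χ)) • ψ₂ χ) = 1 := by
    intro χ hχ
    rw [inner_signed (hψ₂ χ hχ) (hψ₂ χ hχ), if_pos rfl, mul_one, sign_mul_conj (hnega χ hχ)]
  have hAB : ∀ χ ∈ S, Cfsg.classInner (a χ • ψ₁ χ) ((-(a χ)) • ψ₂ χ) = 0 := by
    intro χ hχ
    rw [inner_signed (hψ₁ χ hχ) (hψ₂ χ hχ), if_neg (hne χ hχ), mul_zero]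
  have hBA : ∀ χ ∈ S, Cfsg.classInner ((-(a χ)) • ψ₂ χ) (a χ • ψ₁ χ) = 0 := fun χ hχ =>
    classInner_eq_zero_symm (hAB χ hχ)
  have hABne : ∀ χ ∈ S, a χ • ψ₁ χ ≠ (-(a χ)) • ψ₂ χ := by
    intro χ hχ h
    have := hAB χ hχ
    rw [← h, hAA χ hχ] at this
    exact one_ne_zero this
  refine ⟨fun χ => {a χ • ψ₁ χ, (-(a χ)) • ψ₂ χ}, ?_⟩
  refine
    { nonempty := hS
      isCharacter := fun χ hχ => isCharacter_of_irr (hirr χ hχ)
      conj_mem := fun χ hχ => (hconj χ hχ).1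
      conj_ne := fun χ hχ => (hconj χ hχ).2
      isometry := hτ
      map_one := hτ1
      orthogonal := fun χ hχ φ hφ h => classInner_irr_ne (hirr χ hχ) (hirr φ hφ) h
      orthonormal := ?_
      virtual := ?_
      sum_eq := ?_
      disjoint := ?_ }
  · intro χ hχ α hα β hβ
    simp only [Finset.mem_insert, Finset.mem_singleton] at hα hβ
    rcases hα with rfl | rfl <;> rcases hβ with rfl | rfl
    · rw [hAA χ hχ, if_pos rfl]
    · rw [hAB χ hχ, if_neg (hABne χ hχ)]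
    · rw [hBA χ hχ, if_neg (hABne χ hχ).symm]
    · rw [hBB χ hχ, if_pos rfl]
  · intro χ hχ α hα
    simp only [Finset.mem_insert, Finset.mem_singleton] at hα
    rcases hα with rfl | rfl
    · rcases ha χ hχ with h | h
      · rw [h, one_smul]; exact isGenChar_of_irr (hψ₁ χ hχ)
      · rw [h, neg_smul, one_smul]; exact isGenChar_neg (isGenChar_of_irr (hψ₁ χ hχ))
    · rcases hnega χ hχ with h | h
      · rw [h, one_smul]; exact isGenChar_of_irr (hψ₂ χ hχ)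
      · rw [h, neg_smul, one_smul]; exact isGenChar_neg (isGenChar_of_irr (hψ₂ χ hχ))
  · intro χ hχ
    rw [Finset.sum_pair (hABne χ hχ), hτeq χ hχ, neg_smul, sub_eq_add_neg]
  · intro χ hχ φ hφ h1 h2 α hα β hβ
    -- the two differences are orthogonal
    have horth : Cfsg.classInner (a φ • ψ₁ φ - a φ • ψ₂ φ) (a χ • ψ₁ χ - a χ • ψ₂ χ) = 0 := by
      rw [← hτeq φ hφ, ← hτeq χ hχ, lio_inner hτ (hδmem φ hφ) (hδmem χ hχ), classInner_sub_left,
        classInner_sub_right, classInner_sub_right, h1, h2, classInner_conjFun_conjFun, h1,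
        classInner_conjFun_left, h2]
      simp
    obtain ⟨e11, e12, e21, e22⟩ := four_delta (hψ₁ φ hφ) (hψ₂ φ hφ) (hψ₁ χ hχ) (hψ₂ χ hχ)
      (hne φ hφ) (hne χ hχ) (ha φ hφ) (ha χ hχ) horth
    simp only [Finset.mem_insert, Finset.mem_singleton] at hα hβ
    rcases hα with rfl | rfl <;> rcases hβ with rfl | rfl
    · rw [inner_signed (hψ₁ φ hφ) (hψ₁ χ hχ), if_neg e11, mul_zero]
    · rw [inner_signed (hψ₁ φ hφ) (hψ₂ χ hχ), if_neg e12, mul_zero]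
    · rw [inner_signed (hψ₂ φ hφ) (hψ₁ χ hχ), if_neg e21, mul_zero]
    · rw [inner_signed (hψ₂ φ hφ) (hψ₂ χ hχ), if_neg e22, mul_zero]

end Cfsg.Agent.S1514
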