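import Mathlib
import Cfsg.Statements.S2325
import Cfsg.Agent.Lib.Helper5.SL2Roots

set_option autoImplicit false
open Cfsg

namespace Cfsg.Agent.S2325

open Cfsg.Agent.Lib.Helper5 Matrix

section
variable {F : Type*} [Field F] [Fintype F] [DecidableEq F]

/-- order of the centraliser of `g` -/
noncomputable def cent (g : SpecialLinearGroup (Fin 2) F) : ℕ :=
  Nat.card (Subgroup.centralizer ({g} : Set (SpecialLinearGroup (Fin 2) F)))

theorem sum_cent :
    ∑ g : SpecialLinearGroup (Fin 2) F, cent g =
      Nat.card (ConjClasses (SpecialLinearGroup (Fin 2) F)) *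
        Nat.card (SpecialLinearGroup (Fin 2) F) := by
  classical
  rw [← card_comm_eq_card_conjClasses_mul_card,
    Nat.card_congr (Equiv.subtypeProdEquivSigmaSubtype
      (fun (g x : SpecialLinearGroup (Fin 2) F) => Commute g x)),
    Nat.card_eq_fintype_card, Fintype.card_sigma]
  apply Finset.sum_congr rfl
  intro g _
  unfold cent
  rw [← Nat.card_eq_fintype_card]
  apply Nat.card_congr
  apply Equiv.subtypeEquivRight
  intro x
  rw [Subgroup.mem_centralizer_singleton_iff]
  exact ⟨fun h => h.symm, fun h => h.symm⟩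

theorem cent_of_not_scalar (g : SpecialLinearGroup (Fin 2) F)
    (hg : ¬ ∃ c : F, (g : Matrix (Fin 2) (Fin 2) F) = c • (1 : Matrix (Fin 2) (Fin 2) F)) :
    cent g = (Finset.univ.filter
      (fun p : F × F => nform (g : Matrix (Fin 2) (Fin 2) F).trace p.1 p.2 = 1)).card := by
  unfold cent
  rw [card_centralizer_SL2 g hg, Nat.card_eq_fintype_card, Fintype.card_subtype]

omit [Fintype F] [DecidableEq F] in
theorem cent_of_scalar (g : SpecialLinearGroup (Fin 2) F) (c : F)
    (hg : (g : Matrix (Fin 2) (Fin 2) F) = c • (1 : Matrix (Fin 2) (Fin 2) F)) :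
    cent g = Nat.card (SpecialLinearGroup (Fin 2) F) := by
  unfold cent
  rw [centralizer_eq_top_of_scalar g c hg]
  exact Nat.card_congr Subgroup.topEquiv.toEquiv

theorem card_fiber (t : F) :
    (Finset.univ.filter (fun g : SpecialLinearGroup (Fin 2) F =>
      (g : Matrix (Fin 2) (Fin 2) F).trace = t)).card =
      Fintype.card F * (Fintype.card F - 1 + rootCount t) := by
  rw [← card_trace_eq t, Nat.card_eq_fintype_card, Fintype.card_subtype]

/-- contribution of a trace with `t² ≠ 4` -/
theorem sum_fiber_generic (t : F) (ht : t ^ 2 ≠ 4) :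
    ∑ g ∈ Finset.univ.filter (fun g : SpecialLinearGroup (Fin 2) F =>
      (g : Matrix (Fin 2) (Fin 2) F).trace = t), cent g =
      Fintype.card F * (Fintype.card F - 1) * (Fintype.card F + 1) := by
  have hq : 1 ≤ Fintype.card F := Fintype.card_pos
  have hall : ∀ g ∈ Finset.univ.filter (fun g : SpecialLinearGroup (Fin 2) F =>
      (g : Matrix (Fin 2) (Fin 2) F).trace = t), cent g =
      (Finset.univ.filter (fun p : F × F => nform t p.1 p.2 = 1)).card := by
    intro g hg
    rw [Finset.mem_filter] at hg
    rw [cent_of_not_scalar g, hg.2]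
    rintro ⟨c, hc⟩
    obtain ⟨h1, h2⟩ := sq_eq_four_of_scalar g c hc
    apply ht
    rw [← hg.2, h1]
    linear_combination 4 * h2
  rw [Finset.sum_congr rfl hall, Finset.sum_const, smul_eq_mul, card_fiber]
  have h1 := card_nform_add_rootCount t ht
  rcases rootCount_eq_zero_or_two t ht with h | h
  · rw [h] at h1 ⊢
    rw [add_zero] at h1 ⊢
    rw [h1]
  · rw [h] at h1 ⊢
    have h3 : (Finset.univ.filter (fun p : F × F => nform t p.1 p.2 = 1)).card =
        Fintype.card F - 1 := by omega
    have h4 : Fintype.card F - 1 + 2 = Fintype.card F + 1 := by omega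
    rw [h3, h4]
    ring

/-- the scalar element of trace `t` when `t² = 4` -/
noncomputable def scal (t : F) (ht : t ^ 2 = 4) (h2 : (2 : F) ≠ 0) : SpecialLinearGroup (Fin 2) F :=
  mkSL2 ((t / 2) • (1 : Matrix (Fin 2) (Fin 2) F)) (by
    have h := det_smul_one_add_smul (0 : Matrix (Fin 2) (Fin 2) F) (t / 2) 0
    rw [zero_smul, add_zero] at h
    rw [h, div_pow, ht]
    have h4 : (4 : F) ≠ 0 := by
      have : (4 : F) = 2 * 2 := by norm_num
      rw [this]
      exact mul_ne_zero h2 h2
    have : (2 : F) ^ 2 = 4 := by norm_num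
    rw [this, div_self h4]
    ring)

/-- contribution of a trace with `t² = 4` in odd characteristic -/
theorem sum_fiber_special (t : F) (ht : t ^ 2 = 4) (h2 : (2 : F) ≠ 0) :
    ∑ g ∈ Finset.univ.filter (fun g : SpecialLinearGroup (Fin 2) F =>
      (g : Matrix (Fin 2) (Fin 2) F).trace = t), cent g =
      3 * (Fintype.card F * (Fintype.card F - 1) * (Fintype.card F + 1)) := by
  have hq : 1 ≤ Fintype.card F := Fintype.card_pos
  have hz : scal t ht h2 ∈ Finset.univ.filter (fun g : SpecialLinearGroup (Fin 2) F =>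
      (g : Matrix (Fin 2) (Fin 2) F).trace = t) := by
    rw [Finset.mem_filter]
    refine ⟨Finset.mem_univ _, ?_⟩
    show ((t / 2) • (1 : Matrix (Fin 2) (Fin 2) F)).trace = t
    rw [Matrix.trace_smul, Matrix.trace_one, Fintype.card_fin, smul_eq_mul]
    push_cast
    field_simp
  rw [← Finset.add_sum_erase _ _ hz, cent_of_scalar (scal t ht h2) (t / 2) rfl, card_SL2]
  have hall : ∀ g ∈ (Finset.univ.filter (fun g : SpecialLinearGroup (Fin 2) F =>
      (g : Matrix (Fin 2) (Fin 2) F).trace = t)).erase (scal t ht h2), cent g =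
      2 * Fintype.card F := by
    intro g hg
    rw [Finset.mem_erase, Finset.mem_filter] at hg
    obtain ⟨hne, -, htr⟩ := hg
    rw [cent_of_not_scalar g, htr, card_nform_of_sq_eq_four t ht, if_neg h2]
    rintro ⟨c, hc⟩
    apply hne
    obtain ⟨h1, -⟩ := sq_eq_four_of_scalar g c hc
    apply Subtype.ext
    show (g : Matrix (Fin 2) (Fin 2) F) = (t / 2) • (1 : Matrix (Fin 2) (Fin 2) F)
    rw [hc]
    congr 1
    rw [← htr, h1]
    field_simp
  rw [Finset.sum_congr rfl hall, Finset.sum_const, smul_eq_mul, Finset.card_erase_of_mem hz,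
    card_fiber, rootCount_eq_one t ht h2]
  have h4 : Fintype.card F - 1 + 1 = Fintype.card F := by omega
  rw [h4]
  obtain ⟨m, hm⟩ : ∃ m, Fintype.card F = m + 1 := ⟨Fintype.card F - 1, by omega⟩
  rw [hm]
  have e1 : (m + 1) * (m + 1) - 1 = m * (m + 2) := by
    have : (m + 1) * (m + 1) = m * (m + 2) + 1 := by ring
    omega
  have e2 : m + 1 - 1 = m := by omega
  rw [e1, e2]
  ring

end

/-- Over a finite field with q elements, q odd, the special linear group SL₂ has exactly q + 4 conjugacy classes. -/
theorem result {F : Type*} [Field F] [Fintype F] (hodd : Odd (Fintype.card F)) :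
    Nat.card (ConjClasses (Matrix.SpecialLinearGroup (Fin 2) F)) = Fintype.card F + 4 := by
  classical
  have h2 : (2 : F) ≠ 0 := by
    apply Ring.two_ne_zero
    intro h
    have h5 := (FiniteField.even_card_iff_char_two).1 h
    have h6 := Nat.odd_iff.1 hodd
    omega
  have hq2 : 2 ≤ Fintype.card F := Fintype.one_lt_card
  have h4 : (4 : F) ≠ 0 := by
    have : (4 : F) = 2 * 2 := by norm_num
    rw [this]
    exact mul_ne_zero h2 h2
  have hsum := sum_cent (F := F)
  rw [← Finset.sum_fiberwise Finset.univ
    (fun g : SpecialLinearGroup (Fin 2) F => (g : Matrix (Fin 2) (Fin 2) F).trace) cent] at hsum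
  have hinner : ∀ t : F, ∑ g ∈ Finset.univ.filter (fun g : SpecialLinearGroup (Fin 2) F =>
      (g : Matrix (Fin 2) (Fin 2) F).trace = t), cent g =
      (if t ^ 2 = 4 then 3 else 1) *
        (Fintype.card F * (Fintype.card F - 1) * (Fintype.card F + 1)) := by
    intro t
    by_cases ht : t ^ 2 = 4
    · rw [if_pos ht, sum_fiber_special t ht h2]
    · rw [if_neg ht, sum_fiber_generic t ht, one_mul]
  rw [Finset.sum_congr rfl (fun t _ => hinner t), ← Finset.sum_mul, card_SL2] at hsum
  have hcount : ∑ t : F, (if t ^ 2 = 4 then 3 else 1) = Fintype.card F + 4 := by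
    have hset : Finset.univ.filter (fun t : F => t ^ 2 = 4) = {2, -2} := by
      ext t
      simp only [Finset.mem_filter, Finset.mem_univ, true_and, Finset.mem_insert,
        Finset.mem_singleton]
      constructor
      · intro h
        have h3 : (t - 2) * (t + 2) = 0 := by linear_combination h
        rcases mul_eq_zero.1 h3 with h | h
        · left; exact sub_eq_zero.1 h
        · right; exact eq_neg_of_add_eq_zero_left h
      · rintro (rfl | rfl) <;> norm_num
    have hne : (2 : F) ≠ -2 := by
      intro h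
      apply h4
      linear_combination h
    have hc : (Finset.univ.filter (fun t : F => t ^ 2 = 4)).card = 2 := by
      rw [hset, Finset.card_pair hne]
    have hsplit := Finset.card_filter_add_card_filter_not (s := (Finset.univ : Finset F))
      (fun t : F => t ^ 2 = 4)
    rw [Finset.sum_ite, Finset.sum_const, Finset.sum_const, smul_eq_mul, smul_eq_mul, hc]
    rw [hc, Finset.card_univ] at hsplit
    omega
  rw [hcount] at hsum
  have hpos : 0 < Fintype.card F * (Fintype.card F - 1) * (Fintype.card F + 1) := by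
    apply Nat.mul_pos (Nat.mul_pos (by omega) (by omega)) (by omega)
  exact (Nat.eq_of_mul_eq_mul_right hpos hsum).symm

end Cfsg.Agent.S2325
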