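import Mathlib
import Cfsg.Statements.S2301
import Cfsg.Agent.S2325

set_option autoImplicit false
open Cfsg

namespace Cfsg.Agent.S2301

open Cfsg.Agent.Lib.Helper5 Matrix

/-- orbit-stabiliser for conjugacy classes -/
theorem card_class_mul_card_centralizer {G : Type*} [Group G] [Finite G] (g : G) :
    Nat.card (ConjClasses.mk g).carrier * Nat.card (Subgroup.centralizer ({g} : Set G)) =
      Nat.card G := by
  classical
  have : Fintype G := Fintype.ofFinite G
  have h1 := MulAction.card_orbit_mul_card_stabilizer_eq_card_group (ConjAct G) g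
  have h2 : Fintype.card (MulAction.orbit (ConjAct G) g) = Nat.card (ConjClasses.mk g).carrier := by
    rw [← Nat.card_eq_fintype_card, ConjAct.orbit_eq_carrier_conjClasses]
  have h3 : Fintype.card (MulAction.stabilizer (ConjAct G) g) =
      Nat.card (Subgroup.centralizer ({g} : Set G)) := by
    rw [← Nat.card_eq_fintype_card]
    apply Nat.card_congr
    refine Equiv.subtypeEquiv ConjAct.ofConjAct.toEquiv ?_
    intro x
    rw [Subgroup.centralizer_eq_comap_stabilizer]
    rfl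
  have h4 : Fintype.card (ConjAct G) = Nat.card G := by
    rw [← Nat.card_eq_fintype_card]
    exact Nat.card_congr ConjAct.ofConjAct.toEquiv
  rw [h2, h3, h4] at h1
  exact h1

section
variable {F : Type*} [Field F]

theorem sub_one_sq (g : SpecialLinearGroup (Fin 2) F)
    (ht : (g : Matrix (Fin 2) (Fin 2) F).trace = 2) :
    ((g : Matrix (Fin 2) (Fin 2) F) - 1) ^ 2 = 0 := by
  have hd := g.det_coe
  rw [Matrix.det_fin_two] at hd
  rw [Matrix.trace_fin_two] at ht
  rw [pow_two]
  ext i j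
  fin_cases i <;> fin_cases j
  · simp only [Fin.zero_eta, Fin.isValue, Matrix.mul_apply, Fin.sum_univ_two, Matrix.sub_apply,
      Matrix.one_apply_eq, Matrix.zero_apply]
    have h01 : (1 : Matrix (Fin 2) (Fin 2) F) 0 1 = 0 := Matrix.one_apply_ne (by decide)
    have h10 : (1 : Matrix (Fin 2) (Fin 2) F) 1 0 = 0 := Matrix.one_apply_ne (by decide)
    rw [h01, h10]
    linear_combination (-1 : F) * hd + ((g : Matrix (Fin 2) (Fin 2) F) 0 0) * ht
  · simp only [Fin.zero_eta, Fin.isValue, Fin.mk_one, Matrix.mul_apply, Fin.sum_univ_two,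
      Matrix.sub_apply, Matrix.one_apply_eq, Matrix.zero_apply]
    have h01 : (1 : Matrix (Fin 2) (Fin 2) F) 0 1 = 0 := Matrix.one_apply_ne (by decide)
    rw [h01]
    linear_combination ((g : Matrix (Fin 2) (Fin 2) F) 0 1) * ht
  · simp only [Fin.zero_eta, Fin.isValue, Fin.mk_one, Matrix.mul_apply, Fin.sum_univ_two,
      Matrix.sub_apply, Matrix.one_apply_eq, Matrix.zero_apply]
    have h10 : (1 : Matrix (Fin 2) (Fin 2) F) 1 0 = 0 := Matrix.one_apply_ne (by decide)
    rw [h10]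
    linear_combination ((g : Matrix (Fin 2) (Fin 2) F) 1 0) * ht
  · simp only [Fin.isValue, Fin.mk_one, Matrix.mul_apply, Fin.sum_univ_two, Matrix.sub_apply,
      Matrix.one_apply_eq, Matrix.zero_apply]
    have h01 : (1 : Matrix (Fin 2) (Fin 2) F) 0 1 = 0 := Matrix.one_apply_ne (by decide)
    have h10 : (1 : Matrix (Fin 2) (Fin 2) F) 1 0 = 0 := Matrix.one_apply_ne (by decide)
    rw [h01, h10]
    linear_combination (-1 : F) * hd + ((g : Matrix (Fin 2) (Fin 2) F) 1 1) * ht

theorem orderOf_eq_iff (p : ℕ) [Fact p.Prime] [CharP F p]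
    (g : SpecialLinearGroup (Fin 2) F) :
    orderOf g = p ↔ (g : Matrix (Fin 2) (Fin 2) F).trace = 2 ∧ g ≠ 1 := by
  have hpp : p.Prime := Fact.out
  have : Nonempty (Fin 2) := ⟨0⟩
  have hpow : ((g : Matrix (Fin 2) (Fin 2) F) - 1) ^ p = (g : Matrix (Fin 2) (Fin 2) F) ^ p - 1 := by
    rw [sub_pow_char_of_commute p (Commute.one_right _), one_pow]
  rw [orderOf_eq_prime_iff]
  constructor
  · rintro ⟨h1, h2⟩
    refine ⟨?_, h2⟩
    have h3 : (g : Matrix (Fin 2) (Fin 2) F) ^ p = 1 := by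
      have := congrArg (fun z : SpecialLinearGroup (Fin 2) F => (z : Matrix (Fin 2) (Fin 2) F)) h1
      simpa using this
    rw [h3, sub_self] at hpow
    have hnil : IsNilpotent ((g : Matrix (Fin 2) (Fin 2) F) - 1) := ⟨p, hpow⟩
    have h4 := Matrix.isNilpotent_trace_of_isNilpotent hnil
    have h5 : ((g : Matrix (Fin 2) (Fin 2) F) - 1).trace = 0 := h4.eq_zero
    rw [Matrix.trace_sub, Matrix.trace_one, Fintype.card_fin] at h5
    push_cast at h5
    exact sub_eq_zero.1 h5
  · rintro ⟨h1, h2⟩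
    refine ⟨?_, h2⟩
    have h3 := sub_one_sq g h1
    have h4 : ((g : Matrix (Fin 2) (Fin 2) F) - 1) ^ p = 0 := by
      obtain ⟨k, hk⟩ := Nat.exists_eq_add_of_le hpp.two_le
      rw [hk, pow_add, h3, zero_mul]
    rw [h4] at hpow
    have h5 : ((g ^ p : SpecialLinearGroup (Fin 2) F) : Matrix (Fin 2) (Fin 2) F) =
        ((1 : SpecialLinearGroup (Fin 2) F) : Matrix (Fin 2) (Fin 2) F) := by
      exact (sub_eq_zero.1 hpow.symm)
    exact Subtype.ext h5

end


section main
variable {F : Type*} [Field F] [Fintype F]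

omit [Fintype F] in
theorem two_ne_zero_of_char (p : ℕ) [Fact p.Prime] [CharP F p] (hp : p ≠ 2) : (2 : F) ≠ 0 := by
  intro h
  have h1 : ((2 : ℕ) : F) = 0 := by exact_mod_cast h
  have h2 : p ∣ 2 := (CharP.cast_eq_zero_iff F p 2).1 h1
  have hpp : p.Prime := Fact.out
  rcases (Nat.dvd_prime Nat.prime_two).1 h2 with h3 | h3
  · exact hpp.one_lt.ne' h3
  · exact hp h3

omit [Fintype F] in
theorem not_scalar_of_order (p : ℕ) [Fact p.Prime] [CharP F p] (hp : p ≠ 2)
    (g : SpecialLinearGroup (Fin 2) F) (hg : orderOf g = p) :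
    ¬ ∃ c : F, (g : Matrix (Fin 2) (Fin 2) F) = c • (1 : Matrix (Fin 2) (Fin 2) F) := by
  obtain ⟨ht, hne⟩ := (orderOf_eq_iff p g).1 hg
  rintro ⟨c, hc⟩
  obtain ⟨h1, -⟩ := sq_eq_four_of_scalar g c hc
  have h2 := two_ne_zero_of_char (F := F) p hp
  have hc1 : c = 1 := by
    have : 2 * c = 2 * 1 := by rw [← h1, ht, mul_one]
    exact mul_left_cancel₀ h2 this
  apply hne
  apply Subtype.ext
  show (g : Matrix (Fin 2) (Fin 2) F) = 1
  rw [hc, hc1, one_smul]

theorem class_card (p : ℕ) [Fact p.Prime] [CharP F p] (hp : p ≠ 2)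
    (g : SpecialLinearGroup (Fin 2) F) (hg : orderOf g = p) :
    Nat.card (ConjClasses.mk g).carrier * 2 = Fintype.card F ^ 2 - 1 := by
  classical
  have hq : 1 ≤ Fintype.card F := Fintype.card_pos
  obtain ⟨ht, hne⟩ := (orderOf_eq_iff p g).1 hg
  have h2 := two_ne_zero_of_char (F := F) p hp
  have h1 := card_class_mul_card_centralizer g
  have h3 : Nat.card (Subgroup.centralizer ({g} : Set (SpecialLinearGroup (Fin 2) F))) =
      2 * Fintype.card F := by
    have := Cfsg.Agent.S2325.cent_of_not_scalar g (not_scalar_of_order p hp g hg)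
    unfold Cfsg.Agent.S2325.cent at this
    rw [this, ht, card_nform_of_sq_eq_four (2 : F) (by norm_num), if_neg h2]
  rw [h3, card_SL2] at h1
  have h4 : Nat.card (ConjClasses.mk g).carrier * 2 * Fintype.card F =
      (Fintype.card F ^ 2 - 1) * Fintype.card F := by
    obtain ⟨m, hm⟩ : ∃ m, Fintype.card F = m + 1 := ⟨Fintype.card F - 1, by omega⟩
    rw [hm] at h1 ⊢
    have e1 : (m + 1) ^ 2 - 1 = m * (m + 2) := by
      have : (m + 1) ^ 2 = m * (m + 2) + 1 := by ring
      omega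
    have e2 : m + 1 - 1 = m := by omega
    rw [e1]
    rw [e2] at h1
    linarith
  exact Nat.eq_of_mul_eq_mul_right (by omega) h4

theorem card_order_p (p : ℕ) [Fact p.Prime] [CharP F p] (hp : p ≠ 2) :
    Nat.card {g : SpecialLinearGroup (Fin 2) F // orderOf g = p} = Fintype.card F ^ 2 - 1 := by
  classical
  have hq : 1 ≤ Fintype.card F := Fintype.card_pos
  have h2 := two_ne_zero_of_char (F := F) p hp
  have h1 := card_trace_eq (2 : F)
  rw [rootCount_eq_one (2 : F) (by norm_num) h2] at h1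
  have hset : Finset.univ.filter (fun g : SpecialLinearGroup (Fin 2) F => orderOf g = p) =
      (Finset.univ.filter (fun g : SpecialLinearGroup (Fin 2) F =>
        (g : Matrix (Fin 2) (Fin 2) F).trace = 2)).erase 1 := by
    ext g
    rw [Finset.mem_filter, Finset.mem_erase, Finset.mem_filter, orderOf_eq_iff p g]
    tauto
  have hone : (1 : SpecialLinearGroup (Fin 2) F) ∈ Finset.univ.filter
      (fun g : SpecialLinearGroup (Fin 2) F => (g : Matrix (Fin 2) (Fin 2) F).trace = 2) := by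
    rw [Finset.mem_filter]
    refine ⟨Finset.mem_univ _, ?_⟩
    show (1 : Matrix (Fin 2) (Fin 2) F).trace = 2
    rw [Matrix.trace_one, Fintype.card_fin]
    norm_num
  rw [Nat.card_eq_fintype_card, Fintype.card_subtype, hset, Finset.card_erase_of_mem hone,
    ← Fintype.card_subtype, ← Nat.card_eq_fintype_card, h1]
  have : Fintype.card F - 1 + 1 = Fintype.card F := by omega
  rw [this, pow_two]

end main


section explicit
variable {F : Type*} [Field F]

theorem conj_iff (g h : SpecialLinearGroup (Fin 2) F)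
    (g00 : (g : Matrix (Fin 2) (Fin 2) F) 0 0 = 1) (g11 : (g : Matrix (Fin 2) (Fin 2) F) 1 1 = 1)
    (g10 : (g : Matrix (Fin 2) (Fin 2) F) 1 0 = 0) (g01 : (g : Matrix (Fin 2) (Fin 2) F) 0 1 ≠ 0)
    (h00 : (h : Matrix (Fin 2) (Fin 2) F) 0 0 = 1) (h11 : (h : Matrix (Fin 2) (Fin 2) F) 1 1 = 1)
    (h10 : (h : Matrix (Fin 2) (Fin 2) F) 1 0 = 0) (h01 : (h : Matrix (Fin 2) (Fin 2) F) 0 1 ≠ 0) :
    IsConj g h ↔ IsSquare ((g : Matrix (Fin 2) (Fin 2) F) 0 1 * (h : Matrix (Fin 2) (Fin 2) F) 0 1) := by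
  constructor
  · intro hc
    obtain ⟨c, hc⟩ := isConj_iff.1 hc
    have h1 : c * g = h * c := by rw [← hc]; group
    have h2 : (c : Matrix (Fin 2) (Fin 2) F) * (g : Matrix (Fin 2) (Fin 2) F) =
        (h : Matrix (Fin 2) (Fin 2) F) * (c : Matrix (Fin 2) (Fin 2) F) := by
      have := congrArg (fun z : SpecialLinearGroup (Fin 2) F => (z : Matrix (Fin 2) (Fin 2) F)) h1
      exact this
    have e00 := congrFun (congrFun h2 0) 0
    have e01 := congrFun (congrFun h2 0) 1
    simp only [Matrix.mul_apply, Fin.sum_univ_two] at e00 e01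
    rw [g00, g10, h00] at e00
    rw [g11, h00] at e01
    have hd := c.det_coe
    rw [Matrix.det_fin_two] at hd
    have hγ : (c : Matrix (Fin 2) (Fin 2) F) 1 0 = 0 := by
      have : (h : Matrix (Fin 2) (Fin 2) F) 0 1 * (c : Matrix (Fin 2) (Fin 2) F) 1 0 = 0 := by
        linear_combination -e00
      rcases mul_eq_zero.1 this with h' | h'
      · exact absurd h' h01
      · exact h'
    rw [hγ, mul_zero, sub_zero] at hd
    refine ⟨(c : Matrix (Fin 2) (Fin 2) F) 0 0 * (g : Matrix (Fin 2) (Fin 2) F) 0 1, ?_⟩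
    linear_combination (-((g : Matrix (Fin 2) (Fin 2) F) 0 1 * (h : Matrix (Fin 2) (Fin 2) F) 0 1)) * hd -
      ((c : Matrix (Fin 2) (Fin 2) F) 0 0 * (g : Matrix (Fin 2) (Fin 2) F) 0 1) * e01
  · rintro ⟨s, hs⟩
    have hs0 : s ≠ 0 := by
      rintro rfl
      rw [mul_zero] at hs
      exact (mul_ne_zero g01 h01) hs
    set b := (g : Matrix (Fin 2) (Fin 2) F) 0 1 with hb
    set b' := (h : Matrix (Fin 2) (Fin 2) F) 0 1 with hb'
    have hα : s / b ≠ 0 := div_ne_zero hs0 g01
    rw [isConj_iff]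
    refine ⟨mkSL2 !![s / b, 0; 0, (s / b)⁻¹] (by
      rw [Matrix.det_fin_two_of, mul_zero, sub_zero, mul_inv_cancel₀ hα]), ?_⟩
    rw [mul_inv_eq_iff_eq_mul]
    apply Subtype.ext
    show !![s / b, 0; 0, (s / b)⁻¹] * (g : Matrix (Fin 2) (Fin 2) F) =
      (h : Matrix (Fin 2) (Fin 2) F) * !![s / b, 0; 0, (s / b)⁻¹]
    rw [Matrix.eta_fin_two (g : Matrix (Fin 2) (Fin 2) F),
      Matrix.eta_fin_two (h : Matrix (Fin 2) (Fin 2) F), g00, g11, g10, h00, h11, h10, ← hb, ← hb',
      Matrix.mul_fin_two, Matrix.mul_fin_two]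
    have key : s / b * b = b' * (s / b)⁻¹ := by
      field_simp
      linear_combination -hs
    congr 1
    · simp [key]
    

end explicit


/-- Over a finite field with q elements of odd characteristic p, the elements of order p of SL₂ (the non-identity unipotent elements) fall into exactly two conjugacy classes, each of size (q² − 1)/2; two upper unitriangular matrices with non-zero off-diagonal entries b and b′ are conjugate exactly when bb′ is a square. -/
theorem result {F : Type*} [Field F] [Fintype F] (p : ℕ) [Fact p.Prime] [CharP F p] (hp : p ≠ 2) :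
    Nat.card {C : ConjClasses (Matrix.SpecialLinearGroup (Fin 2) F) // ∃ g : Matrix.SpecialLinearGroup (Fin 2) F, orderOf g = p ∧ ConjClasses.mk g = C} = 2 ∧
    (∀ g : Matrix.SpecialLinearGroup (Fin 2) F, orderOf g = p → Nat.card (ConjClasses.mk g).carrier = (Fintype.card F ^ 2 - 1) / 2) ∧
    ∀ g h : Matrix.SpecialLinearGroup (Fin 2) F, (g : Matrix (Fin 2) (Fin 2) F) 0 0 = 1 → (g : Matrix (Fin 2) (Fin 2) F) 1 1 = 1 → (g : Matrix (Fin 2) (Fin 2) F) 1 0 = 0 → (g : Matrix (Fin 2) (Fin 2) F) 0 1 ≠ 0 →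
      (h : Matrix (Fin 2) (Fin 2) F) 0 0 = 1 → (h : Matrix (Fin 2) (Fin 2) F) 1 1 = 1 → (h : Matrix (Fin 2) (Fin 2) F) 1 0 = 0 → (h : Matrix (Fin 2) (Fin 2) F) 0 1 ≠ 0 →
      (IsConj g h ↔ IsSquare ((g : Matrix (Fin 2) (Fin 2) F) 0 1 * (h : Matrix (Fin 2) (Fin 2) F) 0 1)) := by
  classical
  have hq2 : 2 ≤ Fintype.card F := Fintype.one_lt_card
  have hm : ∀ g : SpecialLinearGroup (Fin 2) F, orderOf g = p →
      Nat.card (ConjClasses.mk g).carrier = (Fintype.card F ^ 2 - 1) / 2 := by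
    intro g hg
    have := class_card p hp g hg
    omega
  refine ⟨?_, hm, fun g h g00 g11 g10 g01 h00 h11 h10 h01 =>
    conj_iff g h g00 g11 g10 g01 h00 h11 h10 h01⟩
  -- counting the classes
  set K := {C : ConjClasses (SpecialLinearGroup (Fin 2) F) //
    ∃ g : SpecialLinearGroup (Fin 2) F, orderOf g = p ∧ ConjClasses.mk g = C} with hK
  set S := {g : SpecialLinearGroup (Fin 2) F // orderOf g = p} with hS
  let f : S → K := fun g => ⟨ConjClasses.mk g.1, g.1, g.2, rfl⟩
  have hfib : ∀ C : K, Fintype.card {g : S // f g = C} = (Fintype.card F ^ 2 - 1) / 2 := by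
    rintro ⟨C, g₀, hg₀, rfl⟩
    rw [← hm g₀ hg₀, ← Nat.card_eq_fintype_card]
    apply Nat.card_congr
    refine ⟨fun g => ⟨g.1.1, ?_⟩, fun x => ⟨⟨x.1, ?_⟩, ?_⟩, ?_, ?_⟩
    · have := congrArg Subtype.val g.2
      exact ConjClasses.mem_carrier_iff_mk_eq.2 this
    · have hx := ConjClasses.mem_carrier_iff_mk_eq.1 x.2
      rw [ConjClasses.mk_eq_mk_iff_isConj] at hx
      obtain ⟨c, hc⟩ := hx
      rw [SemiconjBy.orderOf_eq _ hc]
      exact hg₀
    · apply Subtype.ext
      exact ConjClasses.mem_carrier_iff_mk_eq.1 x.2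
    · intro g
      rfl
    · intro x
      rfl
  have h1 : Fintype.card S = ∑ C : K, Fintype.card {g : S // f g = C} := by
    rw [← Fintype.card_sigma]
    exact Fintype.card_congr (Equiv.sigmaFiberEquiv f).symm
  rw [Finset.sum_congr rfl (fun C _ => hfib C), Finset.sum_const, smul_eq_mul, Finset.card_univ,
    ← Nat.card_eq_fintype_card, card_order_p p hp] at h1
  rw [Nat.card_eq_fintype_card]
  -- q² − 1 = k * ((q² − 1)/2), with q² − 1 even and positive
  obtain ⟨g₀, hg₀⟩ : ∃ g : SpecialLinearGroup (Fin 2) F, orderOf g = p := by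
    by_contra hcon
    push Not at hcon
    have : IsEmpty S := ⟨fun g => hcon g.1 g.2⟩
    have h0 : Nat.card S = 0 := Nat.card_of_isEmpty
    rw [card_order_p p hp] at h0
    have : 4 ≤ Fintype.card F ^ 2 := by nlinarith
    omega
  have h2 := class_card p hp g₀ hg₀
  rw [hm g₀ hg₀] at h2
  have h3 : 0 < (Fintype.card F ^ 2 - 1) / 2 := by
    have : 4 ≤ Fintype.card F ^ 2 := by nlinarith
    omega
  have h4 : Fintype.card K * ((Fintype.card F ^ 2 - 1) / 2) = 2 * ((Fintype.card F ^ 2 - 1) / 2) := by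
    rw [← h1]; omega
  exact Nat.eq_of_mul_eq_mul_right h3 h4

end Cfsg.Agent.S2301
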