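import Mathlib
import Cfsg.Statements.S2429
import Cfsg.Agent.Lib.Helper5.SL2TorusNorm
import Cfsg.Agent.Lib.Helper5.SL2Exists

set_option autoImplicit false
open Cfsg

namespace Cfsg.Agent.S2429

open Cfsg.Agent.Lib.Helper5 Matrix

section
variable {F : Type*} [Field F] [Fintype F] [DecidableEq F]

theorem exists_nonsplit_generator :
    ∃ g₀ : SpecialLinearGroup (Fin 2) F, orderOf g₀ = Fintype.card F + 1 ∧
      (g₀ : Matrix (Fin 2) (Fin 2) F).trace ^ 2 ≠ 4 ∧
      rootCount (g₀ : Matrix (Fin 2) (Fin 2) F).trace = 0 := by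
  obtain ⟨p, hp⟩ := CharP.exists F
  have hpp : Fact p.Prime := ⟨CharP.char_is_prime F p⟩
  have hq : 2 ≤ Fintype.card F := Fintype.one_lt_card
  obtain ⟨g₀, hg₀⟩ := exists_orderOf_eq_card_add_one (F := F) p
  have ht : (g₀ : Matrix (Fin 2) (Fin 2) F).trace ^ 2 ≠ 4 := by
    intro h
    obtain ⟨c, hc⟩ := pow_char_scalar_of_sq_eq_four p g₀ h
    have hc2 := (sq_eq_four_of_scalar _ c hc).2
    have h1 : g₀ ^ (p * 2) = 1 := by
      rw [pow_mul, pow_two]
      apply Subtype.ext
      show ((g₀ ^ p : SpecialLinearGroup (Fin 2) F) : Matrix (Fin 2) (Fin 2) F) *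
        ((g₀ ^ p : SpecialLinearGroup (Fin 2) F) : Matrix (Fin 2) (Fin 2) F) = 1
      rw [hc, Matrix.smul_mul, Matrix.one_mul, smul_smul, ← pow_two, hc2, one_smul]
    have h3 := orderOf_dvd_of_pow_eq_one h1
    rw [hg₀] at h3
    obtain ⟨n, -, hn⟩ := FiniteField.card F p
    have hpq : p ∣ Fintype.card F := by
      rw [hn]
      exact dvd_pow_self p n.ne_zero
    have hcop : Nat.Coprime (Fintype.card F + 1) p := by
      have h5 : Nat.Coprime (Fintype.card F + 1) (Fintype.card F) := by
        rw [Nat.coprime_self_add_left]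
        exact Nat.coprime_one_left _
      exact Nat.Coprime.coprime_dvd_right hpq h5
    have h6 := hcop.dvd_of_dvd_mul_left h3
    have := Nat.le_of_dvd two_pos h6
    omega
  refine ⟨g₀, hg₀, ht, ?_⟩
  rcases rootCount_eq_zero_or_two _ ht with h | h
  · exact h
  · exfalso
    have hc := card_centralizer_generic g₀ ht
    rw [h] at hc
    have hc' : Nat.card (Subgroup.centralizer ({g₀} : Set (SpecialLinearGroup (Fin 2) F))) =
        Fintype.card F - 1 := by omega
    have hpow := pow_card_centralizer_eq_one g₀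
    rw [hc'] at hpow
    have h3 := orderOf_dvd_of_pow_eq_one hpow
    rw [hg₀] at h3
    have := Nat.le_of_dvd (by omega) h3
    omega

omit [Fintype F] [DecidableEq F] in
theorem centralizer_comm (g₀ : SpecialLinearGroup (Fin 2) F)
    (hns : ¬ ∃ c : F, (g₀ : Matrix (Fin 2) (Fin 2) F) = c • (1 : Matrix (Fin 2) (Fin 2) F))
    (x y : SpecialLinearGroup (Fin 2) F)
    (hx : x ∈ Subgroup.centralizer ({g₀} : Set (SpecialLinearGroup (Fin 2) F)))
    (hy : y ∈ Subgroup.centralizer ({g₀} : Set (SpecialLinearGroup (Fin 2) F))) :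
    x * y = y * x := by
  obtain ⟨α, β, hab⟩ := (mem_centralizer_iff_span g₀ hns x).1 hx
  rw [Subgroup.mem_centralizer_singleton_iff, coe_commute_iff] at hy
  rw [coe_commute_iff, hab, add_mul, mul_add, Matrix.smul_mul, Matrix.one_mul, Matrix.mul_smul,
    Matrix.mul_one, Matrix.smul_mul, Matrix.mul_smul, hy]

theorem not_isSquare_of_rootCount_zero (h2 : (2 : F) ≠ 0) (t : F) (hr : rootCount t = 0) :
    ¬ IsSquare (t ^ 2 - 4) := by
  rintro ⟨y, hy⟩
  unfold rootCount at hr
  rw [Finset.card_eq_zero] at hr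
  have h4 : (4 : F) ≠ 0 := by
    have : (4 : F) = 2 * 2 := by norm_num
    rw [this]
    exact mul_ne_zero h2 h2
  have : (t + y) / 2 ∈ Finset.univ.filter (fun x : F => x ^ 2 - t * x + 1 = 0) := by
    rw [Finset.mem_filter]
    refine ⟨Finset.mem_univ _, ?_⟩
    field_simp
    linear_combination -hy
  rw [hr] at this
  exact absurd this (Finset.notMem_empty _)

/-- the non-split torus contains elements of every non-split trace -/
theorem exists_mem_centralizer_trace_eq (h2 : (2 : F) ≠ 0) (g₀ : SpecialLinearGroup (Fin 2) F)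
    (hr₀ : rootCount (g₀ : Matrix (Fin 2) (Fin 2) F).trace = 0) (t : F) (hr : rootCount t = 0) :
    ∃ y : SpecialLinearGroup (Fin 2) F,
      y ∈ Subgroup.centralizer ({g₀} : Set (SpecialLinearGroup (Fin 2) F)) ∧
      (y : Matrix (Fin 2) (Fin 2) F).trace = t := by
  set t₀ := (g₀ : Matrix (Fin 2) (Fin 2) F).trace with ht₀
  have hn₀ := not_isSquare_of_rootCount_zero h2 t₀ hr₀
  have hn := not_isSquare_of_rootCount_zero h2 t hr
  have hne₀ : t₀ ^ 2 - 4 ≠ 0 := by
    intro h
    apply hn₀
    rw [h]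
    exact IsSquare.zero
  have hne : t ^ 2 - 4 ≠ 0 := by
    intro h
    apply hn
    rw [h]
    exact IsSquare.zero
  have hsq : IsSquare ((t ^ 2 - 4) * (t₀ ^ 2 - 4)) := by
    rw [← quadraticChar_one_iff_isSquare (mul_ne_zero hne hne₀), map_mul,
      quadraticChar_neg_one_iff_not_isSquare.2 hn, quadraticChar_neg_one_iff_not_isSquare.2 hn₀]
    norm_num
  obtain ⟨s, hs⟩ := hsq
  set b := s / (t₀ ^ 2 - 4) with hb
  set a := (t - b * t₀) / 2 with ha
  have hb2 : (t₀ ^ 2 - 4) * b ^ 2 = t ^ 2 - 4 := by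
    rw [hb]
    field_simp
    linear_combination -hs
  have hdet : (a • (1 : Matrix (Fin 2) (Fin 2) F) +
      b • (g₀ : Matrix (Fin 2) (Fin 2) F)).det = 1 := by
    rw [det_smul_one_add_smul, g₀.det_coe, mul_one, ← ht₀, ha]
    field_simp
    linear_combination -hb2
  refine ⟨mkSL2 _ hdet, ?_, ?_⟩
  · rw [Subgroup.mem_centralizer_singleton_iff, coe_commute_iff]
    show (a • (1 : Matrix (Fin 2) (Fin 2) F) + b • (g₀ : Matrix (Fin 2) (Fin 2) F)) *
      (g₀ : Matrix (Fin 2) (Fin 2) F) = (g₀ : Matrix (Fin 2) (Fin 2) F) *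
      (a • (1 : Matrix (Fin 2) (Fin 2) F) + b • (g₀ : Matrix (Fin 2) (Fin 2) F))
    rw [add_mul, mul_add, Matrix.smul_mul, Matrix.one_mul, Matrix.mul_smul,
      Matrix.mul_one, Matrix.smul_mul, Matrix.mul_smul]
  · show (a • (1 : Matrix (Fin 2) (Fin 2) F) + b • (g₀ : Matrix (Fin 2) (Fin 2) F)).trace = t
    rw [Matrix.trace_add, Matrix.trace_smul, Matrix.trace_smul, Matrix.trace_one,
      Fintype.card_fin, smul_eq_mul, smul_eq_mul, ← ht₀, ha]
    push_cast
    field_simp
    ring

theorem rootCount_eq_zero_of_no_eigenvector (h2 : (2 : F) ≠ 0)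
    (g : SpecialLinearGroup (Fin 2) F)
    (hg : ∀ (c : F) (v : Fin 2 → F), v ≠ 0 →
      (g : Matrix (Fin 2) (Fin 2) F).mulVec v ≠ c • v) :
    (g : Matrix (Fin 2) (Fin 2) F).trace ^ 2 ≠ 4 ∧
      rootCount (g : Matrix (Fin 2) (Fin 2) F).trace = 0 := by
  have hr : rootCount (g : Matrix (Fin 2) (Fin 2) F).trace = 0 := by
    by_contra hne
    obtain ⟨x, hx⟩ := Finset.card_pos.1 (Nat.pos_of_ne_zero hne)
    rw [Finset.mem_filter] at hx
    have hdet : ((-x) • (1 : Matrix (Fin 2) (Fin 2) F) +
        (1 : F) • (g : Matrix (Fin 2) (Fin 2) F)).det = 0 := by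
      rw [det_smul_one_add_smul, g.det_coe]
      linear_combination hx.2
    obtain ⟨v, hv0, hv⟩ := Matrix.exists_mulVec_eq_zero_iff.2 hdet
    apply hg x v hv0
    rw [Matrix.add_mulVec, Matrix.smul_mulVec, Matrix.smul_mulVec, Matrix.one_mulVec,
      one_smul] at hv
    have := eq_neg_of_add_eq_zero_right hv
    rw [this, neg_smul, neg_neg]
  refine ⟨?_, hr⟩
  intro h
  rw [rootCount_eq_one _ h h2] at hr
  exact one_ne_zero hr

end

/-- Let F be a finite field with q elements, q odd. Then SL₂ over F contains a cyclic subgroup T′ of order q + 1 (a non-split torus) with the following properties: T′ is its own centraliser, and indeed the centraliser of each element of T′ other than 1 and −1 is exactly T′; every element of SL₂ having no eigenvector in F² is conjugate to an element of T′; the normaliser of T′ has order 2(q + 1) and exactly (q + 7)/2 conjugacy classes; and every element of that normaliser outside T′ has square −1. -/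
theorem result {F : Type*} [Field F] [Fintype F] (hodd : Odd (Fintype.card F)) :
    ∃ T' : Subgroup (Matrix.SpecialLinearGroup (Fin 2) F), IsCyclic T' ∧ Nat.card T' = Fintype.card F + 1 ∧
      Subgroup.centralizer ((T' : Set (Matrix.SpecialLinearGroup (Fin 2) F))) = T' ∧
      (∀ g : Matrix.SpecialLinearGroup (Fin 2) F, g ∈ T' → (g : Matrix (Fin 2) (Fin 2) F) ≠ 1 → (g : Matrix (Fin 2) (Fin 2) F) ≠ -1 → Subgroup.centralizer ({g} : Set (Matrix.SpecialLinearGroup (Fin 2) F)) = T') ∧
      (∀ g : Matrix.SpecialLinearGroup (Fin 2) F, (∀ (c : F) (v : Fin 2 → F), v ≠ 0 → (g : Matrix (Fin 2) (Fin 2) F).mulVec v ≠ c • v) → ∃ h : Matrix.SpecialLinearGroup (Fin 2) F, h * g * h⁻¹ ∈ T') ∧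
      Nat.card (Subgroup.normalizer (T' : Set (Matrix.SpecialLinearGroup (Fin 2) F))) = 2 * (Fintype.card F + 1) ∧
      Nat.card (ConjClasses (Subgroup.normalizer (T' : Set (Matrix.SpecialLinearGroup (Fin 2) F)))) = (Fintype.card F + 7) / 2 ∧
      ∀ g : Matrix.SpecialLinearGroup (Fin 2) F, g ∈ Subgroup.normalizer (T' : Set (Matrix.SpecialLinearGroup (Fin 2) F)) → g ∉ T' → ((g * g) : Matrix (Fin 2) (Fin 2) F) = -1 := by
  classical
  have hq : 2 ≤ Fintype.card F := Fintype.one_lt_card
  have h2 : (2 : F) ≠ 0 := by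
    apply Ring.two_ne_zero
    intro h
    have h1 := FiniteField.even_card_iff_char_two.1 h
    rcases hodd with ⟨k, hk⟩
    omega
  obtain ⟨g₀, hord, ht, hr⟩ := exists_nonsplit_generator (F := F)
  have hns := not_scalar_of_sq_ne_four g₀ ht
  set T := Subgroup.centralizer ({g₀} : Set (SpecialLinearGroup (Fin 2) F)) with hT
  have hcardT : Nat.card T = Fintype.card F + 1 := by
    have := card_centralizer_generic g₀ ht
    rw [hr, add_zero] at this
    exact this
  have hg₀T : g₀ ∈ T := by
    rw [hT, Subgroup.mem_centralizer_singleton_iff]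
  refine ⟨T, ?_, hcardT, ?_, ?_, ?_, ?_, ?_, ?_⟩
  · -- cyclic
    rw [Subgroup.isCyclic_iff_exists_zpowers_eq_top]
    refine ⟨g₀, ?_⟩
    apply Subgroup.eq_of_le_of_card_ge (Subgroup.zpowers_le.2 hg₀T)
    rw [Nat.card_zpowers, hord, hcardT]
  · -- self-centralising
    ext x
    rw [Subgroup.mem_centralizer_iff]
    constructor
    · intro h
      have := h g₀ hg₀T
      rw [hT, Subgroup.mem_centralizer_singleton_iff]
      exact this.symm
    · intro hx y hy
      exact centralizer_comm g₀ hns y x hy hx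
  · -- centralisers of non-central elements
    intro g hgT hg1 hgm1
    have hgns : ¬ ∃ c : F, (g : Matrix (Fin 2) (Fin 2) F) =
        c • (1 : Matrix (Fin 2) (Fin 2) F) := by
      rintro ⟨c, hc⟩
      have hc2 := (sq_eq_four_of_scalar g c hc).2
      have : (c - 1) * (c + 1) = 0 := by linear_combination hc2
      rcases mul_eq_zero.1 this with h | h
      · apply hg1
        rw [hc, sub_eq_zero.1 h, one_smul]
      · apply hgm1
        rw [hc, eq_neg_of_add_eq_zero_left h, neg_smul, one_smul]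
    ext x
    constructor
    · intro hx
      obtain ⟨α, β, hab⟩ := (mem_centralizer_iff_span g hgns x).1 hx
      have hg' := hgT
      rw [hT, Subgroup.mem_centralizer_singleton_iff, coe_commute_iff] at hg'
      rw [hT, Subgroup.mem_centralizer_singleton_iff, coe_commute_iff, hab, add_mul, mul_add,
        Matrix.smul_mul, Matrix.one_mul, Matrix.mul_smul, Matrix.mul_one, Matrix.smul_mul,
        Matrix.mul_smul, hg']
    · intro hx
      rw [Subgroup.mem_centralizer_singleton_iff]
      exact centralizer_comm g₀ hns x g hx hgT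
  · -- elements without eigenvectors
    intro g hg
    obtain ⟨htg, hrg⟩ := rootCount_eq_zero_of_no_eigenvector h2 g hg
    obtain ⟨y, hyT, hty⟩ := exists_mem_centralizer_trace_eq h2 g₀ hr _ hrg
    have hc : IsConj g y := isConj_of_trace_eq g y hty.symm htg
    obtain ⟨h, hh⟩ := isConj_iff.1 hc
    exact ⟨h, by rw [hh]; exact hyT⟩
  · rw [card_normalizer_centralizer h2 g₀ ht, hcardT]
  · have := card_conjClasses_normalizer h2 g₀ ht
    rw [← hT, hcardT] at this
    omega
  · intro g hg hgT
    have h := mul_self_eq_negOne_of_mem_normalizer h2 g₀ ht g hg hgT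
    exact congrArg (fun z : SpecialLinearGroup (Fin 2) F => (z : Matrix (Fin 2) (Fin 2) F)) h

end Cfsg.Agent.S2429
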