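import Mathlib
import Cfsg.Statements.S1523
import Cfsg.Agent.Lib.Helper4.PF8a
import Cfsg.Agent.Lib.Helper8.ClassAlgebra
import Cfsg.Agent.Lib.Helper2.TIFN
import Cfsg.Agent.Lib.Helper1.CharFound6
import Cfsg.Agent.Lib.Helper5.GL2Cusp
import Cfsg.Agent.S0148
import Cfsg.Agent.S0161
-- import your own Cfsg.Agent.* helpers here

set_option autoImplicit false
open Cfsg

namespace Cfsg.Agent.S1523

/-- Let G be a finite group, p a prime, P a Sylow p-subgroup whose underlying set is a TI-subset of G, with L the set normaliser of P of odd order. Let Z ≠ ⊥ be a subgroup of P, normal in L and central in P, such that the centralisers in L of any two non-identity elements of Z have the same order. If ψ is an irreducible character of G taking the same value at all non-identity elements of Z, then for z ∈ Z, z ≠ 1, the value ψ z is an integer n with Nat.card P dividing ψ(1) − n (as integers, ψ 1 being the degree). -/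
theorem result {G : Type*} [Group G] [Finite G] (p : ℕ) [Fact p.Prime] (P : Sylow p G) (hTI : Cfsg.IsTISubset ((P : Subgroup G) : Set G)) (hodd : Odd (Nat.card (Subgroup.normalizer ((P : Subgroup G) : Set G)))) (Z : Subgroup G) (hZ1 : Z ≠ ⊥) (hZP : Z ≤ P) (hZn : ∀ x ∈ Subgroup.normalizer ((P : Subgroup G) : Set G), ∀ z ∈ Z, x * z * x⁻¹ ∈ Z) (hZc : ∀ z ∈ Z, ∀ y ∈ (P : Subgroup G), z * y = y * z) (hCL : ∀ z ∈ Z, ∀ z' ∈ Z, z ≠ 1 → z' ≠ 1 → Nat.card ↥(Subgroup.normalizer ((P : Subgroup G) : Set G) ⊓ Subgroup.centralizer ({z} : Set G)) = Nat.card ↥(Subgroup.normalizer ((P : Subgroup G) : Set G) ⊓ Subgroup.centralizer ({z'} : Set G))) (ψ : G → ℂ) (hψ : Cfsg.IsIrrCharacter G ψ) (hconst : ∀ z ∈ Z, ∀ z' ∈ Z, z ≠ 1 → z' ≠ 1 → ψ z = ψ z') (z : G) (hz : z ∈ Z) (hz1 : z ≠ 1) : ∃ n d : ℤ, ψ z = n ∧ ψ 1 = d ∧ (Nat.card (P : Subgroup G) : ℤ) ∣ d - n := by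
  classical
  haveI : Fintype G := Fintype.ofFinite G
  have hψc : Cfsg.IsClassFunction G ψ := Cfsg.Agent.Lib.Helper1.isClassFunction_irr hψ
  have hψchar : Cfsg.IsCharacter G ψ := Cfsg.Agent.Lib.Helper4.isCharacter_of_irr hψ
  have hint : ∀ g, IsIntegral ℤ (ψ g) := fun g =>
    Cfsg.Agent.Lib.Helper5.isIntegral_character_apply hψchar g
  have hPL : (P : Subgroup G) ≤ Subgroup.normalizer ((P : Subgroup G) : Set G) :=
    Subgroup.le_normalizer
  haveI : Fintype ↥Z := Fintype.ofFinite _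
  obtain ⟨d, hd0, hd⟩ := Cfsg.Agent.Lib.Helper4.irr_apply_one_pos hψ
  -- Step 1: `ψ z` is an integer
  have hzinv : ψ z⁻¹ = ψ z := hconst z⁻¹ (Z.inv_mem hz) z hz (by simpa using hz1) hz1
  have hn : ∃ n : ℤ, ψ z = n := by
    have hres : Cfsg.IsCharacter ↥Z (fun h : ↥Z => ψ h) :=
      Cfsg.Agent.S0148.isCharacter_restrict Z hψchar
    have hone : Cfsg.IsCharacter ↥Z (fun _ : ↥Z => (1 : ℂ)) :=
      Cfsg.Agent.Lib.Helper4.isCharacter_of_irr Cfsg.Agent.S0161.isIrrCharacter_one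
    obtain ⟨m, hm⟩ := Cfsg.Agent.Lib.Helper1.classInner_char_nat hres hone
    rw [Cfsg.Agent.Lib.Helper4.classInner_def] at hm
    have hcard2 : 2 ≤ Fintype.card ↥Z := by
      have : 1 < Fintype.card ↥Z := by
        rw [Fintype.one_lt_card_iff]
        exact ⟨⟨z, hz⟩, 1, fun h => hz1 (congrArg Subtype.val h)⟩
      omega
    have hsum : ∑ g : ↥Z, ψ g = (d : ℂ) + ((Fintype.card ↥Z : ℂ) - 1) * ψ z := by
      rw [← Finset.add_sum_erase Finset.univ (fun g : ↥Z => ψ g) (Finset.mem_univ (1 : ↥Z))]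
      have h1 : ∀ g ∈ Finset.univ.erase (1 : ↥Z), ψ (g : G) = ψ z := by
        intro g hg
        rw [Finset.mem_erase] at hg
        exact hconst g g.2 z hz (fun h => hg.1 (Subtype.ext h)) hz1
      rw [Finset.sum_congr rfl h1, Finset.sum_const, Finset.card_erase_of_mem (Finset.mem_univ _),
        Finset.card_univ, nsmul_eq_mul, Nat.cast_sub (by omega)]
      simp [hd]
    have hm' : ∑ g : ↥Z, ψ g = (Fintype.card ↥Z : ℂ) * m := by
      have hZ0 : (Nat.card ↥Z : ℂ) ≠ 0 := Nat.cast_ne_zero.2 Nat.card_pos.ne'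
      have h2 : ∑ g : ↥Z, ψ g = ∑ g : ↥Z, ψ g * (starRingEnd ℂ) 1 := by simp
      rw [h2, ← hm, ← mul_assoc, ← Nat.card_eq_fintype_card, mul_inv_cancel₀ hZ0, one_mul]
    rw [hsum] at hm'
    have hq : ψ z = (((Fintype.card ↥Z : ℚ) * m - d) / ((Fintype.card ↥Z : ℚ) - 1) : ℚ) := by
      have hne : ((Fintype.card ↥Z : ℂ) - 1) ≠ 0 := by
        have : (2 : ℝ) ≤ (Fintype.card ↥Z : ℝ) := by exact_mod_cast hcard2
        intro h
        have h3 : (Fintype.card ↥Z : ℂ) = 1 := by linear_combination h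
        have h4 : (Fintype.card ↥Z : ℕ) = 1 := by exact_mod_cast h3
        omega
      push_cast
      rw [eq_div_iff hne]
      linear_combination hm'
    have hi := hint z
    rw [hq] at hi
    obtain ⟨k, hk⟩ := Cfsg.Agent.Lib.Helper2.TIFN.int_of_rat_isIntegral _ hi
    exact ⟨k, by rw [hq, hk]⟩
  obtain ⟨n, hn⟩ := hn
  refine ⟨n, d, hn, by rw [hd]; simp, ?_⟩
  set L := Subgroup.normalizer ((P : Subgroup G) : Set G) with hL
  have hA := Cfsg.Agent.Lib.Helper8.sum_irr_mul_conj hψ z z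
  have hB := Cfsg.Agent.Lib.Helper8.sum_irr_mul_conj hψ z z⁻¹
  rw [hzinv] at hB
  let F : G → ℂ := fun y => ψ (z * (y * z * y⁻¹)) - ψ (z * (y * z⁻¹ * y⁻¹))
  have hF0 : ∑ y, F y = 0 := by
    simp only [F, Finset.sum_sub_distrib]
    rw [hA, hB]; ring
  have hzP : z ∈ (P : Subgroup G) := hZP hz
  have hzL : z ∈ L := hPL hzP
  have hFL : ∀ y ∈ L, F y
      = if y ∈ Subgroup.centralizer ({z} : Set G) then (n : ℂ) - d else 0 := by
    intro y hy
    have hyz : y * z * y⁻¹ ∈ Z := hZn y hy z hz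
    have hyz' : y * z⁻¹ * y⁻¹ ∈ Z := hZn y hy z⁻¹ (Z.inv_mem hz)
    have h1 : z * (y * z * y⁻¹) ≠ 1 := by
      intro h
      have h' : y * z * y⁻¹ = z⁻¹ := by
        rw [eq_inv_iff_mul_eq_one]
        have : y * z * y⁻¹ * z = z⁻¹ * (z * (y * z * y⁻¹)) * z := by group
        rw [this, h]; group
      exact hz1 (Cfsg.Agent.Lib.Helper4.PF8a.eq_one_of_conj_eq_inv L hodd hy hzL h')
    have h2 : ψ (z * (y * z * y⁻¹)) = n := by
      rw [← hn]; exact hconst _ (Z.mul_mem hz hyz) z hz h1 hz1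
    by_cases hc : y ∈ Subgroup.centralizer ({z} : Set G)
    · have hc' : z * y = y * z := by
        rw [Subgroup.mem_centralizer_iff] at hc
        exact hc z rfl
      have h3 : y * z⁻¹ * y⁻¹ = z⁻¹ := by
        have : y * z⁻¹ * y⁻¹ = (y * z * y⁻¹)⁻¹ := by group
        rw [this, ← hc']; group
      simp only [F, h2, h3, mul_inv_cancel, hd, if_pos hc]
    · have h3 : z * (y * z⁻¹ * y⁻¹) ≠ 1 := by
        intro h
        apply hc
        rw [Subgroup.mem_centralizer_iff]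
        intro x hx
        rw [Set.mem_singleton_iff] at hx
        subst hx
        have h4 : y * x⁻¹ * y⁻¹ = x⁻¹ := by
          have : y * x⁻¹ * y⁻¹ = x⁻¹ * (x * (y * x⁻¹ * y⁻¹)) := by group
          rw [this, h, mul_one]
        have h5 : y * x * y⁻¹ = x := by
          have : y * x * y⁻¹ = (y * x⁻¹ * y⁻¹)⁻¹ := by group
          rw [this, h4, inv_inv]
        have := congrArg (· * y) h5
        simpa [mul_assoc] using this.symm
      have h4 : ψ (z * (y * z⁻¹ * y⁻¹)) = n := by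
        rw [← hn]; exact hconst _ (Z.mul_mem hz hyz') z hz h3 hz1
      simp only [F, h2, h4, sub_self, if_neg hc]
  -- split the sum
  have hsplit : ∑ y, F y = ∑ y, (if y ∈ L ⊓ Subgroup.centralizer ({z} : Set G)
      then (n : ℂ) - d else 0) + ∑ y, (if y ∈ L then 0 else F y) := by
    rw [← Finset.sum_add_distrib]
    refine Finset.sum_congr rfl fun y _ => ?_
    by_cases hy : y ∈ L
    · rw [hFL y hy, if_pos hy, add_zero]
      by_cases hc : y ∈ Subgroup.centralizer ({z} : Set G)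
      · rw [if_pos hc, if_pos (Subgroup.mem_inf.2 ⟨hy, hc⟩)]
      · rw [if_neg hc, if_neg (fun h => hc (Subgroup.mem_inf.1 h).2)]
    · rw [if_neg hy, if_neg (fun h => hy (Subgroup.mem_inf.1 h).1), zero_add]
  have hfirst : ∑ y, (if y ∈ L ⊓ Subgroup.centralizer ({z} : Set G) then (n : ℂ) - d else 0)
      = (Nat.card ↥(L ⊓ Subgroup.centralizer ({z} : Set G)) : ℂ) * ((n : ℂ) - d) := by
    rw [Finset.sum_ite, Finset.sum_const_zero, add_zero, Finset.sum_const, nsmul_eq_mul,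
      Nat.card_eq_fintype_card, Fintype.card_subtype]
  -- the second sum
  obtain ⟨S, hSint, hS⟩ : ∃ S : ℂ, IsIntegral ℤ S ∧ ∑ y, (if y ∈ L then 0 else F y)
      = (Fintype.card (↥(P : Subgroup G) × ↥(P : Subgroup G)) : ℂ) * S := by
    let _ := Cfsg.Agent.Lib.Helper4.PF8a.dcAction (P : Subgroup G)
    apply Cfsg.Agent.Lib.Helper4.PF8a.sum_eq_card_mul_of_free
    · intro a x
      have hsm : a • x = (a.1 : G) * x * (a.2 : G)⁻¹ := rfl
      rw [hsm]
      have hmemL : (a.1 : G) * x * (a.2 : G)⁻¹ ∈ L ↔ x ∈ L := by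
        constructor
        · intro h
          have h1 := L.mul_mem (L.mul_mem (L.inv_mem (hPL a.1.2)) h) (hPL a.2.2)
          have h2 : (a.1 : G)⁻¹ * ((a.1 : G) * x * (a.2 : G)⁻¹) * (a.2 : G) = x := by group
          rwa [h2] at h1
        · intro h
          exact L.mul_mem (L.mul_mem (hPL a.1.2) h) (L.inv_mem (hPL a.2.2))
      have hkey : ∀ w ∈ Z, ψ (z * ((a.1 : G) * x * (a.2 : G)⁻¹ * w * ((a.1 : G) * x * (a.2 : G)⁻¹)⁻¹))
          = ψ (z * (x * w * x⁻¹)) := by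
        intro w hw
        have hc1 : w * (a.2 : G) = (a.2 : G) * w := hZc w hw _ a.2.2
        have hc2 : z * (a.1 : G) = (a.1 : G) * z := hZc z hz _ a.1.2
        have h1 : (a.2 : G)⁻¹ * w * (a.2 : G) = w := by
          rw [mul_assoc, hc1, ← mul_assoc, inv_mul_cancel, one_mul]
        have h2 : z * ((a.1 : G) * x * (a.2 : G)⁻¹ * w * ((a.1 : G) * x * (a.2 : G)⁻¹)⁻¹)
            = (a.1 : G) * (z * (x * w * x⁻¹)) * (a.1 : G)⁻¹ := by
          have : (a.1 : G) * x * (a.2 : G)⁻¹ * w * ((a.1 : G) * x * (a.2 : G)⁻¹)⁻¹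
              = (a.1 : G) * (x * ((a.2 : G)⁻¹ * w * (a.2 : G)) * x⁻¹) * (a.1 : G)⁻¹ := by group
          rw [this, h1, ← mul_assoc, ← mul_assoc, hc2]
          simp only [mul_assoc]
        rw [h2, hψc]
      by_cases hx : x ∈ L
      · rw [if_pos hx, if_pos (hmemL.2 hx)]
      · rw [if_neg hx, if_neg (fun h => hx (hmemL.1 h))]
        show ψ _ - ψ _ = ψ _ - ψ _
        rw [hkey z hz, hkey z⁻¹ (Z.inv_mem hz)]
    · intro x hx a hax
      have hxL : x ∉ L := by
        intro h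
        rw [if_pos h] at hx
        exact hx rfl
      have hsm : (a.1 : G) * x * (a.2 : G)⁻¹ = x := hax
      have h1 : x⁻¹ * (a.1 : G) * x⁻¹⁻¹ = (a.2 : G) := by
        rw [inv_inv]
        have : (a.1 : G) * x = x * (a.2 : G) := by
          have := congrArg (· * (a.2 : G)) hsm
          simpa [mul_assoc] using this
        rw [mul_assoc, this, ← mul_assoc, inv_mul_cancel, one_mul]
      have hxL' : x⁻¹ ∉ L := fun h => hxL (by simpa using L.inv_mem h)
      have h2 : (a.1 : G) = 1 := hTI x⁻¹ hxL' _ a.1.2 (by rw [h1]; exact a.2.2)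
      have h3 : (a.2 : G) = 1 := by rw [← h1, h2]; group
      apply Prod.ext
      · exact Subtype.ext h2
      · exact Subtype.ext h3
    · intro x
      by_cases hx : x ∈ L
      · rw [if_pos hx]; exact isIntegral_zero
      · rw [if_neg hx]; exact (hint _).sub (hint _)
  set C := L ⊓ Subgroup.centralizer ({z} : Set G) with hC
  have hPC : (P : Subgroup G) ≤ C := by
    intro x hx
    refine Subgroup.mem_inf.2 ⟨hPL hx, ?_⟩
    rw [Subgroup.mem_centralizer_iff]
    intro w hw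
    rw [Set.mem_singleton_iff] at hw
    subst hw
    exact hZc w hz x hx
  obtain ⟨c', hc'⟩ : Nat.card ↥(P : Subgroup G) ∣ Nat.card ↥C := Subgroup.card_dvd_of_le hPC
  have hPpos : 0 < Nat.card ↥(P : Subgroup G) := Nat.card_pos
  have hcop : (Nat.card ↥(P : Subgroup G)).Coprime c' := by
    have h1 : Nat.card ↥C ∣ Nat.card G := Subgroup.card_subgroup_dvd_card C
    rw [hc', ← Subgroup.card_mul_index (P : Subgroup G)] at h1
    have h2 : c' ∣ (P : Subgroup G).index := Nat.dvd_of_mul_dvd_mul_left hPpos h1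
    exact Nat.Coprime.coprime_dvd_right h2 P.card_coprime_index
  have hcardPP : (Fintype.card (↥(P : Subgroup G) × ↥(P : Subgroup G)) : ℂ)
      = (Nat.card ↥(P : Subgroup G) : ℂ) ^ 2 := by
    rw [Fintype.card_prod, ← Nat.card_eq_fintype_card]; push_cast; ring
  rw [hsplit, hfirst, hS, hcardPP, hc'] at hF0
  have hP0 : (Nat.card ↥(P : Subgroup G) : ℂ) ≠ 0 := Nat.cast_ne_zero.2 hPpos.ne'
  have hSq : S = (((c' : ℚ) * ((d : ℚ) - n)) / (Nat.card ↥(P : Subgroup G) : ℚ) : ℚ) := by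
    push_cast
    rw [eq_div_iff hP0]
    have h1 : (Nat.card ↥(P : Subgroup G) : ℂ) * (S * (Nat.card ↥(P : Subgroup G) : ℂ)
        - (c' : ℂ) * ((d : ℂ) - n)) = 0 := by
      push_cast at hF0
      linear_combination hF0
    rcases mul_eq_zero.1 h1 with h | h
    · exact absurd h hP0
    · linear_combination h
  rw [hSq] at hSint
  obtain ⟨k, hk⟩ := Cfsg.Agent.Lib.Helper2.TIFN.int_of_rat_isIntegral _ hSint
  have hfin : (c' : ℤ) * ((d : ℤ) - n) = (Nat.card ↥(P : Subgroup G) : ℤ) * k := by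
    have hP0' : (Nat.card ↥(P : Subgroup G) : ℚ) ≠ 0 := Nat.cast_ne_zero.2 hPpos.ne'
    have h1 : (((c' : ℚ) * ((d : ℚ) - n)) / (Nat.card ↥(P : Subgroup G) : ℚ) : ℚ) = (k : ℚ) := by
      have : ((((c' : ℚ) * ((d : ℚ) - n)) / (Nat.card ↥(P : Subgroup G) : ℚ) : ℚ) : ℂ)
          = ((k : ℚ) : ℂ) := by rw [hk]; simp
      exact_mod_cast this
    rw [div_eq_iff hP0'] at h1
    have h2 : (((c' : ℤ) * ((d : ℤ) - n) : ℤ) : ℚ)
        = (((Nat.card ↥(P : Subgroup G) : ℤ) * k : ℤ) : ℚ) := by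
      push_cast; rw [h1]; ring
    exact_mod_cast h2
  have hcopZ : IsCoprime (Nat.card ↥(P : Subgroup G) : ℤ) (c' : ℤ) :=
    Nat.isCoprime_iff_coprime.2 hcop
  exact hcopZ.dvd_of_dvd_mul_left ⟨k, hfin⟩

end Cfsg.Agent.S1523
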