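import Mathlib
import Cfsg.Statements.S1522
import Cfsg.Agent.Lib.Helper4.PF6j
-- import your own Cfsg.Agent.* helpers here

set_option autoImplicit false
open Cfsg

namespace Cfsg.Agent.S1522

/-- Let K be a nilpotent normal subgroup of the finite group L of odd order with [K,K] < K < L and L/[K,K] a Frobenius group with kernel K/[K,K] (elements of K outside [K,K] are centralised modulo [K,K] only from inside K); let (S, τ, R) be a coherence system from L to G with S the functions induced from non-principal irreducible characters of K. Let Z be a nontrivial normal subgroup of L contained in the centre of K, and suppose every member of S outside S(Z) is an irreducible character of L. Then S minus S(Z) is the set of irreducible characters χ of L with χ z ≠ χ 1 for some z ∈ Z, and it is coherent. -/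
theorem result {L : Type*} [Group L] [Fintype L] {G : Type*} [Group G] [Fintype G] (K : Subgroup L) [hK : K.Normal] (hsolv : Group.IsSolvable K) (τ : (L → ℂ) → (G → ℂ)) (R : (L → ℂ) → Finset (G → ℂ)) (hS : Cfsg.IsCoherenceSystem (Cfsg.inducedIrrAbove K ⊥) τ R) (hodd : Odd (Nat.card L)) (hnil : Group.IsNilpotent K) (hH₁K : ⁅K, K⁆ < K) (hKL : K < ⊤) (hfrob : ∀ k ∈ K, k ∉ ⁅K, K⁆ → ∀ x : L, x * k * x⁻¹ * k⁻¹ ∈ ⁅K, K⁆ → x ∈ K) (Z : Subgroup L) [Z.Normal] (hZ1 : Z ≠ ⊥) (hZK : Z ≤ K) (hZc : ∀ z ∈ Z, ∀ k ∈ K, z * k = k * z) (hirr : ∀ χ ∈ Cfsg.inducedIrrAbove K ⊥ \ Cfsg.inducedIrrAbove K Z, Cfsg.IsIrrCharacter L χ) : Cfsg.inducedIrrAbove K ⊥ \ Cfsg.inducedIrrAbove K Z = {χ | Cfsg.IsIrrCharacter L χ ∧ ∃ z ∈ Z, χ z ≠ χ 1} ∧ Cfsg.IsCoherent (Cfsg.inducedIrrAbove K ⊥ \ Cfsg.inducedIrrAbove K Z) {1}ᶜ τ := by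
  classical
  have hZeq := Cfsg.Agent.Lib.Helper4.PF6.sdiff_eq_irr hZK hirr
  refine ⟨hZeq, ?_⟩
  haveI hcn : (⁅K, K⁆).Normal := Subgroup.commutator_normal K K
  by_cases hpp : ∃ p m : ℕ, p.Prime ∧ Nat.card K = p ^ m
  · obtain ⟨p, m, hp, hcard⟩ := hpp
    have hrel : ⁅K, K⁆.relIndex K ∣ p ^ m := by
      rw [← hcard]; exact Subgroup.relIndex_dvd_card _ K
    obtain ⟨j, hjm, hj⟩ := (Nat.dvd_prime_pow hp).mp hrel
    have hj0 : j ≠ 0 := by
      rintro rfl
      rw [pow_zero] at hj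
      exact (not_le_of_gt hH₁K) (Subgroup.relIndex_eq_one.mp hj)
    have hpK : p ∣ Nat.card K := by
      have h1 : p ∣ ⁅K, K⁆.relIndex K := by rw [hj]; exact dvd_pow_self p hj0
      exact h1.trans (Subgroup.relIndex_dvd_card _ K)
    have hpodd : Odd p :=
      hodd.of_dvd_nat (hpK.trans (Subgroup.card_subgroup_dvd_card K))
    have hp3 : 3 ≤ p := by
      have h2 := hp.two_le
      rcases Nat.lt_or_ge 2 p with h | h
      · exact h
      · have : p = 2 := le_antisymm h h2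
        rw [this] at hpodd
        exact absurd hpodd (by decide)
    have hcop : Nat.Coprime K.index p := by
      apply Nat.Coprime.symm
      rw [Nat.Prime.coprime_iff_not_dvd hp]
      intro hpe
      have c := Cfsg.Agent.Lib.Helper4.PF6.index_dvd_relIndex_sub_one K ⁅K, K⁆ K le_rfl le_rfl hfrob
      rw [hj] at c
      have h1 : p ∣ p ^ j - 1 := hpe.trans c
      have h2 : p ∣ p ^ j := dvd_pow_self p hj0
      have h3 : p ∣ p ^ j - (p ^ j - 1) := Nat.dvd_sub h2 h1
      have h4 : 0 < p ^ j := pow_pos hp.pos j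
      have h5 : p ^ j - (p ^ j - 1) = 1 := by omega
      rw [h5] at h3
      exact hp.one_lt.ne' (Nat.dvd_one.mp h3)
    exact Cfsg.Agent.Lib.Helper4.PF6.coherent_pgroup τ R hS hZ1 hZK hZc hirr p m hp hp3 hcard hcop
  · haveI := hnil
    have hnilq : Group.IsNilpotent (↥K ⧸ (⊥ : Subgroup L).subgroupOf K) := inferInstance
    have hcoh := Cfsg.Agent.Lib.Helper4.PF6.coherent_66 K hsolv τ R hS hodd ⊥ bot_le hnilq ⁅K, K⁆
      (sup_bot_eq _).symm hH₁K hfrob (Or.inr (Or.inr (Or.inl (by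
        rw [Subgroup.relIndex_bot_left]
        exact hpp))))
    exact Cfsg.Agent.Lib.Helper4.PF6.coherent_subset hS (subset_refl _) Set.diff_subset
      (Cfsg.Agent.Lib.Helper4.PF6.sdiff_nonempty hZ1 hZK hirr)
      (fun χ h => Cfsg.Agent.Lib.Helper4.PF6.sdiff_conj h) hcoh

end Cfsg.Agent.S1522
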