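import Mathlib
import Cfsg.Statements.S1534
import Cfsg.Agent.Lib.Helper4.PF8g
-- import your own Cfsg.Agent.* helpers here

set_option autoImplicit false
open Cfsg

namespace Cfsg.Agent.S1534

/-- Let G be a finite group and K a nontrivial nilpotent subgroup whose underlying set is a TI-subset of G, properly contained in its set normaliser N, with C_G(k) ≤ K for every non-identity k ∈ K; let e be the index of K in N and S the set of irreducible characters χ of N with χ k ≠ χ 1 for some k ∈ K. Then one of: S has exactly one member, Nat.card K = e + 1 and K is an elementary abelian p-group for some prime p; or K is a Sylow 2-subgroup of G (Nat.card K is the largest power of 2 dividing Nat.card G) and [K : [K,K]] < 4e²; or (S, N minus 1, induction to G) is coherent. -/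
theorem result {G : Type*} [Group G] [Fintype G] (K : Subgroup G) (hK1 : K ≠ ⊥) (hnil : Group.IsNilpotent K) (hTI : Cfsg.IsTISubset (K : Set G)) (hlt : K < Subgroup.normalizer (K : Set G)) (hC : ∀ k ∈ K, k ≠ 1 → Subgroup.centralizer ({k} : Set G) ≤ K) [Fintype ↥(Subgroup.normalizer (K : Set G))] : (Nat.card {χ : ↥(Subgroup.normalizer (K : Set G)) → ℂ // Cfsg.IsIrrCharacter ↥(Subgroup.normalizer (K : Set G)) χ ∧ ∃ k : ↥(Subgroup.normalizer (K : Set G)), (k : G) ∈ K ∧ χ k ≠ χ 1} = 1 ∧ Nat.card K = (K.subgroupOf (Subgroup.normalizer (K : Set G))).index + 1 ∧ ∃ p : ℕ, p.Prime ∧ Cfsg.IsElementaryAbelian p K) ∨ (Nat.card K = 2 ^ (Nat.card G).factorization 2 ∧ (⁅K, K⁆.subgroupOf K).index < 4 * (K.subgroupOf (Subgroup.normalizer (K : Set G))).index ^ 2) ∨ Cfsg.IsCoherent {χ : ↥(Subgroup.normalizer (K : Set G)) → ℂ | Cfsg.IsIrrCharacter ↥(Subgroup.normalizer (K : Set G)) χ ∧ ∃ k : ↥(Subgroup.normalizer (K : Set G)), (k : G) ∈ K ∧ χ k ≠ χ 1} {1}ᶜ (fun α => Cfsg.indFun (Subgroup.normalizer (K : Set G)) α) := by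
  classical
  haveI hKn : (K.subgroupOf (Subgroup.normalizer (K : Set G))).Normal :=
    Subgroup.normal_in_normalizer
  haveI : Fintype (K.subgroupOf (Subgroup.normalizer (K : Set G))) := Fintype.ofFinite _
  have hKN : K ≤ Subgroup.normalizer (K : Set G) := Subgroup.le_normalizer
  have hyp := Cfsg.Agent.Lib.Helper2.TIFN.hyp_of_TI K
    (fun g hg k hk h => hTI g hg k hk h) hlt hC
  have hCN := hyp.cent
  have hSeq : {χ : ↥(Subgroup.normalizer (K : Set G)) → ℂ |
      Cfsg.IsIrrCharacter ↥(Subgroup.normalizer (K : Set G)) χ ∧
        ∃ k : ↥(Subgroup.normalizer (K : Set G)), (k : G) ∈ K ∧ χ k ≠ χ 1}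
      = Cfsg.inducedIrrAbove (K.subgroupOf (Subgroup.normalizer (K : Set G))) ⊥ := by
    rw [← Cfsg.Agent.Lib.Helper4.PF7.frob_set_eq _ hCN]
    ext χ
    constructor
    · rintro ⟨h1, x, hx, h2⟩
      exact ⟨h1, x, Subgroup.mem_subgroupOf.mpr hx, h2⟩
    · rintro ⟨h1, x, hx, h2⟩
      exact ⟨h1, x, Subgroup.mem_subgroupOf.mp hx, h2⟩
  have hK1' : K.subgroupOf (Subgroup.normalizer (K : Set G)) ≠ ⊥ := by
    intro h
    apply hK1
    rw [Subgroup.eq_bot_iff_forall]
    intro x hx
    have h1 : (⟨x, hKN hx⟩ : ↥(Subgroup.normalizer (K : Set G))) ∈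
        K.subgroupOf (Subgroup.normalizer (K : Set G)) := Subgroup.mem_subgroupOf.mpr hx
    rw [h, Subgroup.mem_bot] at h1
    exact congrArg Subtype.val h1
  have hK2' : K.subgroupOf (Subgroup.normalizer (K : Set G)) ≠ ⊤ := by
    intro h
    rw [Subgroup.subgroupOf_eq_top] at h
    exact absurd (le_antisymm hKN h) (ne_of_lt hlt)
  obtain ⟨hiso, hone⟩ := Cfsg.Agent.Lib.Helper4.PF6.ti_isometry K hTI
  have hcardK : Nat.card (K.subgroupOf (Subgroup.normalizer (K : Set G))) = Nat.card K :=
    Nat.card_congr (Subgroup.subgroupOfEquivOfLe hKN).toEquiv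
  have hnil' : Group.IsNilpotent (K.subgroupOf (Subgroup.normalizer (K : Set G))) :=
    Cfsg.Agent.Lib.Helper4.FrobTI.isNilpotent_kernel _ hCN hK1' hK2'
  by_cases hcard : Nat.card (K.subgroupOf (Subgroup.normalizer (K : Set G))) =
      (K.subgroupOf (Subgroup.normalizer (K : Set G))).index + 1
  · have hab := Cfsg.Agent.Lib.Helper4.PF8.frob_small_comm _ hCN hK1' hnil' hcard
    rcases Cfsg.Agent.Lib.Helper4.PF8.frob_abelian_coh _ hK1' hCN hab
      (fun α => Cfsg.indFun (Subgroup.normalizer (K : Set G)) α) hiso hone
      with ⟨h1, h2⟩ | hcoh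
    · left
      refine ⟨?_, ?_, ?_⟩
      · rw [← h1]
        apply Nat.card_congr
        apply Equiv.subtypeEquivRight
        intro χ
        exact Set.ext_iff.mp hSeq χ
      · rw [← hcardK]; exact h2
      · have hne1 : Nat.card (K.subgroupOf (Subgroup.normalizer (K : Set G))) ≠ 1 := by
          intro h
          exact hK1' ((Subgroup.eq_bot_iff_card _).mpr h)
        refine ⟨(Nat.card (K.subgroupOf (Subgroup.normalizer (K : Set G)))).minFac,
          Nat.minFac_prime hne1, ⟨⟨fun a b => ?_⟩⟩, ?_⟩
        · apply Subtype.ext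
          have := hab ⟨a.1, hKN a.2⟩ (Subgroup.mem_subgroupOf.mpr a.2) ⟨b.1, hKN b.2⟩
            (Subgroup.mem_subgroupOf.mpr b.2)
          have h3 : (a : G) * (b : G) = (b : G) * (a : G) := congrArg Subtype.val this
          exact h3
        · intro a ha
          have := Cfsg.Agent.Lib.Helper4.PF8.frob_small_exp _ hCN hab h2 _
            (Nat.minFac_prime hne1) (Nat.minFac_dvd _)
            (⟨a, hKN ha⟩ : ↥(Subgroup.normalizer (K : Set G))) (Subgroup.mem_subgroupOf.mpr ha)
          have h3 := congrArg Subtype.val this
          simpa using h3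
    · right; right
      rw [hSeq]; exact hcoh
  · rcases Cfsg.Agent.Lib.Helper4.PF7.feit_frobenius _ hK1' hK2' hCN hcard
      (fun α => Cfsg.indFun (Subgroup.normalizer (K : Set G)) α) hiso hone with
      hcoh | ⟨⟨p, hp, m, hm⟩, hnab, hbound⟩
    · right; right
      rw [hSeq]; exact hcoh
    · haveI : Fact p.Prime := ⟨hp⟩
      have hKp : IsPGroup p K := IsPGroup.of_card (n := m) (by rw [← hcardK, hm])
      have hm0 : m ≠ 0 := by
        intro h0
        rw [h0, pow_zero] at hm
        exact hK1' ((Subgroup.eq_bot_iff_card _).mpr hm)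
      have hcopr := Cfsg.Agent.Lib.Helper4.FrobTI.coprime_card_index _ hCN
      have hcop : ¬ p ∣ (K.subgroupOf (Subgroup.normalizer (K : Set G))).index := by
        intro hdvd
        have h1 := hcopr
        rw [hm] at h1
        have h2 : p ∣ Nat.gcd (p ^ m) (K.subgroupOf (Subgroup.normalizer (K : Set G))).index :=
          Nat.dvd_gcd (dvd_pow_self p hm0) hdvd
        rw [h1] at h2
        exact hp.one_lt.ne' (Nat.dvd_one.mp h2)
      obtain ⟨P, hP⟩ := Cfsg.Agent.Lib.Helper4.PF8.sylow_of_normalizer p K hKp hcop
      by_cases hp2 : p = 2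
      · right; left
        subst hp2
        refine ⟨?_, ?_⟩
        · rw [← hP]; exact P.card_eq_multiplicity
        · -- the index bound
          have hrel : (⁅K, K⁆.subgroupOf K).index
              = (⁅K.subgroupOf (Subgroup.normalizer (K : Set G)),
                K.subgroupOf (Subgroup.normalizer (K : Set G))⁆).relIndex
                (K.subgroupOf (Subgroup.normalizer (K : Set G))) := by
            have h1 := Subgroup.relIndex_map_map_of_injective
              (⁅K.subgroupOf (Subgroup.normalizer (K : Set G)),
                K.subgroupOf (Subgroup.normalizer (K : Set G))⁆)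
              (K.subgroupOf (Subgroup.normalizer (K : Set G)))
              (Subgroup.subtype_injective (Subgroup.normalizer (K : Set G)))
            rw [Subgroup.map_commutator, Subgroup.map_subgroupOf_eq_of_le hKN] at h1
            exact h1
          rw [hrel]
          set i := (⁅K.subgroupOf (Subgroup.normalizer (K : Set G)),
                K.subgroupOf (Subgroup.normalizer (K : Set G))⁆).relIndex
                (K.subgroupOf (Subgroup.normalizer (K : Set G))) with hi
          set e := (K.subgroupOf (Subgroup.normalizer (K : Set G))).index with he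
          have hidvd : i ∣ 2 ^ m := by
            rw [← hm]
            exact Subgroup.relIndex_dvd_card _ _
          obtain ⟨j, -, hj⟩ := (Nat.dvd_prime_pow Nat.prime_two).mp hidvd
          have heodd : Odd e := by
            rw [hm] at hcopr
            have h1 : Nat.Coprime 2 e := Nat.Coprime.coprime_dvd_left (dvd_pow_self 2 hm0) hcopr
            exact Nat.Coprime.odd_of_left h1
          have he1 : e ≠ 1 := by
            intro h1
            exact hK2' (Subgroup.index_eq_one.mp h1)
          by_cases hj0 : j = 0
          · rw [hj, hj0, pow_zero]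
            have : 0 < e := Nat.pos_of_ne_zero Subgroup.index_ne_zero_of_finite
            nlinarith
          · have hieven : Even i := by
              rw [hj]; exact Nat.even_pow.mpr ⟨even_two, hj0⟩
            have hle : i ≤ 4 * e ^ 2 := by
              rcases Nat.lt_or_ge (4 * e ^ 2) i with h | h
              · exfalso
                have : i = 4 * e ^ 2 + 1 := by omega
                rw [this] at hieven
                obtain ⟨c, hc⟩ := hieven
                omega
              · exact h
            refine lt_of_le_of_ne hle ?_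
            intro heq
            -- `e ^ 2 ∣ 2 ^ j`, so `e` is a power of two, hence `e = 1`
            have h1 : e ∣ 2 ^ j := by
              rw [← hj, heq]
              exact Dvd.intro_left (4 * e) (by ring)
            obtain ⟨t, -, ht⟩ := (Nat.dvd_prime_pow Nat.prime_two).mp h1
            rcases Nat.eq_zero_or_pos t with h0 | h0
            · rw [h0, pow_zero] at ht
              exact he1 ht
            · rw [ht] at heodd
              have : Even (2 ^ t) := Nat.even_pow.mpr ⟨even_two, h0.ne'⟩
              exact (Nat.not_odd_iff_even.mpr this) heodd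
      · right; right
        have hna : ¬ IsMulCommutative K := by
          intro hc
          apply hnab
          rw [Subgroup.commutator_eq_bot_iff_le_centralizer]
          intro a ha
          rw [Subgroup.mem_subgroupOf] at ha
          rw [Subgroup.mem_centralizer_iff]
          intro b hb
          have hb' : (b : G) ∈ K := Subgroup.mem_subgroupOf.mp hb
          have := hc.is_comm.comm (⟨b.1, hb'⟩ : ↥K) ⟨a.1, ha⟩
          have h2 : (b : G) * (a : G) = (a : G) * (b : G) := congrArg Subtype.val this
          exact Subtype.ext h2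
        subst hP
        rw [hSeq]
        exact Cfsg.Agent.Lib.Helper4.PF8.sibley_sylow p hp2 P hna hTI hlt hC

end Cfsg.Agent.S1534
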