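import Mathlib
import Cfsg.Statements.S0494

set_option autoImplicit false
open Cfsg

namespace Cfsg.Agent.S0494

theorem toPermHom_injective {G : Type*} [Group G] [IsSimpleGroup G]
    (H : Subgroup G) (hH : H ≠ ⊤) :
    Function.Injective (MulAction.toPermHom G (G ⧸ H)) := by
  have hcore : H.normalCore = ⊥ := by
    rcases (H.normalCore_normal).eq_bot_or_eq_top with h | h
    · exact h
    · exfalso; apply hH; exact top_le_iff.mp (h ▸ H.normalCore_le)
  have hker : (MulAction.toPermHom G (G ⧸ H)).ker = ⊥ := by
    rw [← Subgroup.normalCore_eq_ker, hcore]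
  exact (MonoidHom.ker_eq_bot_iff _).mp hker

theorem card_dvd_factorial_index {G : Type*} [Group G] [Finite G] [IsSimpleGroup G]
    (H : Subgroup G) (hH : H ≠ ⊤) : Nat.card G ∣ (H.index).factorial := by
  have hinj := toPermHom_injective H hH
  have : Nat.card G ∣ Nat.card (Equiv.Perm (G ⧸ H)) := Subgroup.card_dvd_of_injective _ hinj
  rw [Nat.card_perm] at this
  exact this

/-- A simple group of order 60 is isomorphic to the alternating group of degree 5. -/
theorem result {G : Type*} [Group G] [Finite G] [IsSimpleGroup G]
    (h : Nat.card G = 60) : Nonempty (G ≃* alternatingGroup (Fin 5)) := by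
  classical
  have : Fact (Nat.Prime 2) := ⟨Nat.prime_two⟩
  obtain ⟨P⟩ : Nonempty (Sylow 2 G) := inferInstance
  have hPcard : Nat.card P = 4 := by
    rw [Sylow.card_eq_multiplicity, h]
    have : (60 : ℕ).factorization 2 = 2 := by
      rw [Nat.factorization_def _ Nat.prime_two]
      have : (60 : ℕ) = 2 ^ 2 * 15 := by norm_num
      rw [this, padicValNat.mul (by norm_num) (by norm_num), padicValNat.prime_pow]
      simp [padicValNat.eq_zero_of_not_dvd (show ¬ 2 ∣ 15 by norm_num)]
    rw [this]; norm_num
  have hPidx : (P : Subgroup G).index = 15 := by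
    have := (P : Subgroup G).card_mul_index
    rw [hPcard, h] at this
    omega
  set H := Subgroup.normalizer ((P : Subgroup G) : Set G) with hH
  have hn : Nat.card (Sylow 2 G) = H.index := P.card_eq_index_normalizer
  have hdvd : H.index ∣ 15 := by
    rw [← hn, ← hPidx]; exact P.card_dvd_index
  have hmod : H.index % 2 = 1 := by
    rw [← hn]; exact card_sylow_modEq_one 2 G
  have hHne : H ≠ ⊤ := by
    intro htop
    have hnorm : (P : Subgroup G).Normal := Subgroup.normalizer_eq_top_iff.mp htop
    rcases hnorm.eq_bot_or_eq_top with h1 | h1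
    · rw [h1] at hPcard; simp at hPcard
    · rw [h1] at hPidx; simp at hPidx
  have hfact := card_dvd_factorial_index H hHne
  rw [h] at hfact
  have hidx : H.index = 5 ∨ H.index = 15 := by
    have hle : H.index ≤ 15 := Nat.le_of_dvd (by norm_num) hdvd
    interval_cases hi : H.index <;> simp_all <;> revert hfact <;> decide
  rcases hidx with h5 | h15
  · -- index 5
    have hinj := toPermHom_injective H hHne
    have : Fintype (G ⧸ H) := Fintype.ofFinite _
    have hcardQ : Fintype.card (G ⧸ H) = 5 := by
      rw [← Nat.card_eq_fintype_card]; exact h5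
    let e : (G ⧸ H) ≃ Fin 5 := Fintype.equivFinOfCardEq hcardQ
    let φ : G →* Equiv.Perm (Fin 5) := (e.permCongrHom.toMonoidHom).comp (MulAction.toPermHom G (G ⧸ H))
    have hφinj : Function.Injective φ := e.permCongrHom.injective.comp hinj
    have hrange : Nat.card φ.range = 60 := by
      rw [← h]; exact (Nat.card_congr (MonoidHom.ofInjective hφinj).toEquiv).symm
    have hidx2 : φ.range.index = 2 := by
      have := φ.range.card_mul_index
      rw [hrange, Nat.card_perm] at this
      simp at this
      have h120 : (5 : ℕ).factorial = 120 := by decide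
      omega
    have hr := Equiv.Perm.eq_alternatingGroup_of_index_eq_two hidx2
    exact ⟨(MonoidHom.ofInjective hφinj).trans (MulEquiv.subgroupCongr hr)⟩
  · -- index 15: N(P) = P, Burnside
    exfalso
    have hHcard : Nat.card H = 4 := by
      have := H.card_mul_index
      rw [h15, h] at this
      omega
    have hHP : H = (P : Subgroup G) := by
      symm
      apply Subgroup.eq_of_le_of_card_ge Subgroup.le_normalizer
      rw [hHcard, hPcard]
    have hcomm : ∀ a b : P, a * b = b * a := by
      have : Nat.card P = 2 ^ 2 := by rw [hPcard]; norm_num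
      exact IsPGroup.commutative_of_card_eq_prime_sq this
    have hPC : Subgroup.normalizer ((P : Subgroup G) : Set G) ≤ Subgroup.centralizer (P : Set G) := by
      rw [← hH, hHP]
      intro x hx y hy
      have := hcomm ⟨y, hy⟩ ⟨x, hx⟩
      exact congrArg Subtype.val this
    have hcompl := MonoidHom.ker_transferSylow_isComplement' P hPC
    set K := (MonoidHom.transferSylow P hPC).ker with hK
    have hKn : K.Normal := MonoidHom.normal_ker _
    have hKcard : Nat.card K * Nat.card P = Nat.card G := hcompl.card_mul_card
    rw [hPcard, h] at hKcard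
    rcases hKn.eq_bot_or_eq_top with h1 | h1
    · rw [h1] at hKcard; simp at hKcard
    · rw [h1] at hKcard; simp [h] at hKcard

end Cfsg.Agent.S0494
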