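import Mathlib
import Cfsg.Statements.S0228

set_option autoImplicit false
open Cfsg

namespace Cfsg.Agent.S0228

/-- A group of order 12 in which no involution is central is isomorphic to the alternating group on four letters. -/
theorem result {G : Type*} [Group G] [Finite G] (hG : Nat.card G = 12) (hz : ∀ z : G, orderOf z = 2 → z ∉ Subgroup.center G) : Nonempty (G ≃* alternatingGroup (Fin 4)) := by
  classical
  have : Fact (Nat.Prime 3) := ⟨by norm_num⟩
  have : Fact (Nat.Prime 2) := ⟨by norm_num⟩
  have hf3 : (Nat.factorization 12) 3 = 1 := by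
    have : (12 : ℕ) = 2 ^ 2 * 3 := by norm_num
    rw [this, Nat.factorization_mul (by norm_num) (by norm_num), Nat.factorization_pow]
    simp [Nat.Prime.factorization (by norm_num : Nat.Prime 2), Nat.Prime.factorization (by norm_num : Nat.Prime 3)]
  have hf2 : (Nat.factorization 12) 2 = 2 := by
    have : (12 : ℕ) = 2 ^ 2 * 3 := by norm_num
    rw [this, Nat.factorization_mul (by norm_num) (by norm_num), Nat.factorization_pow]
    simp [Nat.Prime.factorization (by norm_num : Nat.Prime 2), Nat.Prime.factorization (by norm_num : Nat.Prime 3)]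
  obtain ⟨P⟩ : Nonempty (Sylow 3 G) := inferInstance
  have hPcard : Nat.card P = 3 := by
    rw [Sylow.card_eq_multiplicity, hG, hf3, pow_one]
  have hidx : (P : Subgroup G).index = 4 := by
    have := (P : Subgroup G).card_mul_index
    rw [hPcard, hG] at this; omega
  have h1 : Nat.card (Sylow 3 G) ≡ 1 [MOD 3] := card_sylow_modEq_one 3 G
  have h2 : Nat.card (Sylow 3 G) ∣ 4 := hidx ▸ P.card_dvd_index
  have h3 : Nat.card (Sylow 3 G) = 1 ∨ Nat.card (Sylow 3 G) = 4 := by
    have hle := Nat.le_of_dvd (by norm_num) h2
    unfold Nat.ModEq at h1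
    interval_cases h : Nat.card (Sylow 3 G) <;> simp_all
  rcases h3 with h3 | h3
  · -- normal Sylow 3-subgroup: produces a central involution
    exfalso
    have : Subsingleton (Sylow 3 G) := (Nat.card_eq_one_iff_unique.1 h3).1
    have hPn : (P : Subgroup G).Normal := P.normal_of_subsingleton
    obtain ⟨Q⟩ : Nonempty (Sylow 2 G) := inferInstance
    have hQcard : Nat.card Q = 2 ^ 2 := by
      rw [Sylow.card_eq_multiplicity, hG, hf2]
    -- Q is commutative
    have hQcomm : ∀ a b : (Q : Subgroup G), a * b = b * a :=
      IsPGroup.commutative_of_card_eq_prime_sq hQcard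
    -- conjugation action of Q on P
    let ψ : (Q : Subgroup G) →* MulAut (P : Subgroup G) :=
      (MulAut.conjNormal (H := (P : Subgroup G))).comp (Q : Subgroup G).subtype
    have hcyc : IsCyclic (P : Subgroup G) := isCyclic_of_prime_card hPcard
    have hAut : Nat.card (MulAut (P : Subgroup G)) = 2 := by
      rw [IsCyclic.card_mulAut, hPcard]; rfl
    have hrange : Nat.card ψ.range ∣ 2 := by
      have := Subgroup.card_subgroup_dvd_card ψ.range
      rwa [hAut] at this
    have hker : Nat.card ψ.ker * Nat.card ψ.range = 4 := by
      have e := QuotientGroup.quotientKerEquivRange ψ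
      have := ψ.ker.card_mul_index
      rw [Subgroup.index, Nat.card_congr e.toEquiv, hQcard] at this
      simpa using this
    have h2dvd : 2 ∣ Nat.card ψ.ker := by
      rcases (Nat.dvd_prime (by norm_num)).1 hrange with h | h <;> rw [h] at hker
      · exact ⟨2, by omega⟩
      · exact ⟨1, by omega⟩
    obtain ⟨z, hzo⟩ := exists_prime_orderOf_dvd_card' (G := ψ.ker) 2 h2dvd
    -- z : ψ.ker, an involution of Q acting trivially on P
    have hzo' : orderOf ((z : (Q : Subgroup G)) : G) = 2 := by
      rw [Subgroup.orderOf_coe, Subgroup.orderOf_coe]; exact hzo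
    apply hz _ hzo'
    -- the centralizer of z contains P and Q
    have hPle : (P : Subgroup G) ≤ Subgroup.centralizer {((z : (Q : Subgroup G)) : G)} := by
      intro a ha
      rw [Subgroup.mem_centralizer_singleton_iff]
      have hzk : ψ (z : (Q : Subgroup G)) = 1 := z.2
      have := congrArg (fun σ => ((σ ⟨a, ha⟩ : (P : Subgroup G)) : G)) hzk
      simp only [ψ, MonoidHom.comp_apply, Subgroup.coe_subtype, MulAut.conjNormal_apply,
        MulAut.one_apply] at this
      -- this : z * a * z⁻¹ = a
      calc a * _ = (((z : (Q : Subgroup G)) : G) * a * ((z : (Q : Subgroup G)) : G)⁻¹) * ((z : (Q : Subgroup G)) : G) := by rw [this]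
        _ = _ := by group
    have hQle : (Q : Subgroup G) ≤ Subgroup.centralizer {((z : (Q : Subgroup G)) : G)} := by
      intro a ha
      rw [Subgroup.mem_centralizer_singleton_iff]
      have := hQcomm ⟨a, ha⟩ (z : (Q : Subgroup G))
      exact congrArg Subtype.val this
    have htop : Subgroup.centralizer {((z : (Q : Subgroup G)) : G)} = ⊤ := by
      apply Subgroup.eq_top_of_card_eq
      rw [hG]
      have d1 : 3 ∣ Nat.card (Subgroup.centralizer {((z : (Q : Subgroup G)) : G)}) := by
        have := Subgroup.card_dvd_of_le hPle
        rwa [hPcard] at this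
      have d2 : 4 ∣ Nat.card (Subgroup.centralizer {((z : (Q : Subgroup G)) : G)}) := by
        have := Subgroup.card_dvd_of_le hQle
        rwa [hQcard] at this
      have d3 : Nat.card (Subgroup.centralizer {((z : (Q : Subgroup G)) : G)}) ∣ 12 := by
        have := Subgroup.card_subgroup_dvd_card (Subgroup.centralizer {((z : (Q : Subgroup G)) : G)})
        rwa [hG] at this
      have d4 : 3 * 4 ∣ Nat.card (Subgroup.centralizer {((z : (Q : Subgroup G)) : G)}) :=
        Nat.Coprime.mul_dvd_of_dvd_of_dvd (by norm_num) d1 d2
      exact Nat.dvd_antisymm d3 d4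
    rw [Subgroup.mem_center_iff]
    intro g
    have : g ∈ Subgroup.centralizer {((z : (Q : Subgroup G)) : G)} := htop ▸ Subgroup.mem_top g
    rw [Subgroup.mem_centralizer_singleton_iff] at this
    exact this
  · have : Fintype (Sylow 3 G) := Fintype.ofFinite _
    let φ : G →* Equiv.Perm (Sylow 3 G) := MulAction.toPermHom G (Sylow 3 G)
    have hker : φ.ker = ⊥ := by
      have hKle : φ.ker ≤ Subgroup.normalizer (P : Set G) := by
        intro g hg
        rw [← Sylow.stabilizer_eq_normalizer, MulAction.mem_stabilizer_iff]
        have h1 : φ g = 1 := hg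
        have := congrArg (fun σ => σ P) h1
        simpa [φ] using this
      have hNcard : Nat.card (Subgroup.normalizer (P : Set G)) = 3 := by
        have := (Subgroup.normalizer (P : Set G)).card_mul_index
        rw [← P.card_eq_index_normalizer, h3, hG] at this; omega
      have hKdvd : Nat.card φ.ker ∣ 3 := by
        have := Subgroup.card_dvd_of_le hKle
        rwa [hNcard] at this
      rcases (Nat.dvd_prime (by norm_num)).1 hKdvd with h | h
      · exact Subgroup.card_eq_one.1 h
      · exfalso
        let K : Sylow 3 G := Sylow.ofCard φ.ker (by rw [h, hG, hf3, pow_one])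
        have hKn : (K : Subgroup G).Normal := by
          show φ.ker.Normal
          infer_instance
        have := Sylow.unique_of_normal K hKn
        have : Nat.card (Sylow 3 G) = 1 := Nat.card_unique
        omega
    have hinj : Function.Injective φ := (MonoidHom.ker_eq_bot_iff φ).1 hker
    have hrange : Nat.card φ.range = 12 := by
      rw [← hG]; exact (Nat.card_congr (MonoidHom.ofInjective hinj).toEquiv).symm
    have hperm : Nat.card (Equiv.Perm (Sylow 3 G)) = 24 := by
      rw [Nat.card_perm, h3]; rfl
    have hindex : φ.range.index = 2 := by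
      have := φ.range.card_mul_index
      rw [hrange, hperm] at this; omega
    have halt : φ.range = alternatingGroup (Sylow 3 G) :=
      Equiv.Perm.eq_alternatingGroup_of_index_eq_two hindex
    have e1 : G ≃* φ.range := MonoidHom.ofInjective hinj
    have e2 : φ.range ≃* alternatingGroup (Sylow 3 G) := MulEquiv.subgroupCongr halt
    have hc : Fintype.card (Sylow 3 G) = Fintype.card (Fin 4) := by
      rw [← Nat.card_eq_fintype_card, h3]; simp
    have e3 : alternatingGroup (Sylow 3 G) ≃* alternatingGroup (Fin 4) :=
      Equiv.altCongrHom (Fintype.equivOfCardEq hc)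
    exact ⟨(e1.trans e2).trans e3⟩

end Cfsg.Agent.S0228
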