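import Mathlib
-- Template for statement S1012 (row 1012; see /opt/grader/pristine/manifest.json for weights).
-- Copy to Cfsg/Agent/S1012.lean and replace the sorry. The statement below is byte-identical to the frozen
-- statement Cfsg.CfsgFrozen.S1012 (Cfsg/Statements/S1012.lean; the theorem Cfsg.card_24_no_element_of_order_six_iso_symmetric_four);
-- the grader kernel-checks Cfsg.Agent.S1012.result against that frozen type. Keep the theorem IN THIS FILE
-- (a `result` declared elsewhere and merely imported here is not credited); helpers may live anywhere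
-- under Cfsg/Agent/.
import Cfsg.Statements.S1012
import Cfsg.Agent.Lib.Helper3.Count
import Cfsg.Agent.Lib.Helper3.SylowCount
import Cfsg.Agent.Lib.Helper3.PrimeOrder

set_option autoImplicit false
open Cfsg
open Cfsg.Agent.Lib.Helper3

namespace Cfsg.Agent.S1012

/-- A group of order 24 containing no element of order 6 is isomorphic to the symmetric group of degree 4. -/
theorem result {G : Type*} [Group G] [Finite G] (h : Nat.card G = 24) (h6 : ∀ g : G, orderOf g ≠ 6) : Nonempty (G ≃* Equiv.Perm (Fin 4)) := by
  classical
  haveI : Fact (Nat.Prime 3) := ⟨by norm_num⟩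
  haveI : Fact (Nat.Prime 2) := ⟨by norm_num⟩
  have hp3 : Nat.Prime 3 := by norm_num
  -- no commuting elements of orders 2 and 3
  have hno : ∀ t y : G, orderOf t = 2 → orderOf y = 3 → t * y ≠ y * t := by
    intro t y ht hy hc
    have := (Commute.orderOf_mul_eq_mul_orderOf_of_coprime (hc : Commute t y)
      (by rw [ht, hy]; norm_num))
    rw [ht, hy] at this
    exact h6 _ this
  have hS3 : ∀ P : Sylow 3 G, Nat.card ↥(P : Subgroup G) = 3 := by
    intro P
    have := sylow_card_eq_of_card_eq P 1 8 (by rw [h]; norm_num) (by norm_num)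
    simpa using this
  have hidx : ∀ P : Sylow 3 G, (P : Subgroup G).index = 8 := by
    intro P
    exact sylow_index_eq_of_card_eq P 1 8 (by rw [h]; norm_num) (by norm_num)
  -- the number of Sylow 3-subgroups is 1 or 4
  have hn3 : Nat.card (Sylow 3 G) = 1 ∨ Nat.card (Sylow 3 G) = 4 := by
    obtain ⟨P⟩ : Nonempty (Sylow 3 G) := inferInstance
    have h1 : Nat.card (Sylow 3 G) ∣ 8 := by rw [← hidx P]; exact P.card_dvd_index
    have h2 : Nat.card (Sylow 3 G) ≡ 1 [MOD 3] := card_sylow_modEq_one 3 G
    have h3 : Nat.card (Sylow 3 G) ≤ 8 := Nat.le_of_dvd (by norm_num) h1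
    unfold Nat.ModEq at h2
    interval_cases (Nat.card (Sylow 3 G)) <;> simp_all
  -- an involution in any subgroup of even order
  have hn4 : Nat.card (Sylow 3 G) = 4 := by
    rcases hn3 with h1 | h4
    · exfalso
      obtain ⟨P⟩ : Nonempty (Sylow 3 G) := inferInstance
      have hnorm : (P : Subgroup G).Normal := sylow_normal_of_card_eq_one P h1
      have hnt : Nontrivial ↥(P : Subgroup G) := by
        rw [← Finite.one_lt_card_iff_nontrivial, hS3 P]; norm_num
      obtain ⟨y', hy'⟩ := exists_ne (1 : ↥(P : Subgroup G))
      set y : G := (y' : G) with hydef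
      have hyP : y ∈ (P : Subgroup G) := y'.2
      have hy1 : y ≠ 1 := fun h => hy' (Subtype.ext h)
      have hzp : Subgroup.zpowers y = (P : Subgroup G) :=
        zpowers_eq_of_card_prime hp3 _ (hS3 P) hyP hy1
      have hyo : orderOf y = 3 := by rw [← Nat.card_zpowers, hzp, hS3 P]
      -- the class of `y` has at most two elements
      have hcl : Nat.card {g : G // IsConj y g} ≤ 2 := by
        let φ : {g : G // IsConj y g} → {b : ↥(P : Subgroup G) // b ≠ 1} := fun g =>
          ⟨⟨g.1, by
            obtain ⟨c, hc⟩ := isConj_iff.mp g.2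
            rw [← hc]
            exact hnorm.conj_mem y hyP c⟩, by
            intro hg1
            have hg1' : g.1 = 1 := congrArg Subtype.val hg1
            obtain ⟨c, hc⟩ := isConj_iff.mp g.2
            rw [hg1'] at hc
            apply hy1
            have : y = c⁻¹ * (c * y * c⁻¹) * c := by group
            rw [this, hc]; group⟩
        have hφ : Function.Injective φ := by
          intro a b hab
          apply Subtype.ext
          have := congrArg (fun z => (z.1 : G)) hab
          exact this
        have hle := Nat.card_le_card_of_injective φ hφ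
        have hc2 : Nat.card {b : ↥(P : Subgroup G) // b ≠ 1} = 2 := by
          have := Fintype.ofFinite ↥(P : Subgroup G)
          rw [Nat.card_eq_fintype_card, Fintype.card_subtype_compl,
            Fintype.card_subtype_eq, ← Nat.card_eq_fintype_card, hS3 P]
        omega
      have hcc := card_conj_class_mul_card_centralizer y
      rw [h] at hcc
      have hpos : 0 < Nat.card {g : G // IsConj y g} := by
        haveI : Nonempty {g : G // IsConj y g} := ⟨⟨y, IsConj.refl y⟩⟩
        exact Nat.card_pos
      have h2C : 2 ∣ Nat.card ↥(Subgroup.centralizer ({y} : Set G)) := by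
        have h12 : Nat.card {g : G // IsConj y g} = 1 ∨ Nat.card {g : G // IsConj y g} = 2 := by
          omega
        rcases h12 with h1 | h2
        · rw [h1, one_mul] at hcc; rw [hcc]; norm_num
        · rw [h2] at hcc
          have : Nat.card ↥(Subgroup.centralizer ({y} : Set G)) = 12 := by omega
          rw [this]; norm_num
      obtain ⟨t, ht⟩ := exists_prime_orderOf_dvd_card' 2 h2C
      have htc := t.2
      rw [Subgroup.mem_centralizer_singleton_iff] at htc
      have hto : orderOf (t : G) = 2 := by rw [Subgroup.orderOf_coe]; exact ht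
      exact hno t y hto hyo htc
    · exact h4
  -- the action on Sylow 3-subgroups is faithful
  let φ : G →* Equiv.Perm (Sylow 3 G) := MulAction.toPermHom G (Sylow 3 G)
  have hker : ∀ k ∈ φ.ker, ∀ P : Sylow 3 G, k ∈ Subgroup.normalizer ((P : Subgroup G) : Set G) := by
    intro k hk P
    rw [MonoidHom.mem_ker] at hk
    have := congrArg (fun σ => σ P) hk
    exact Sylow.smul_eq_iff_mem_normalizer.mp (by simpa [φ] using this)
  -- elements of order 3 in the normalizer of a Sylow 3-subgroup lie in it
  have hNP : ∀ (P : Sylow 3 G) (w : G), orderOf w = 3 →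
      w ∈ Subgroup.normalizer ((P : Subgroup G) : Set G) → w ∈ (P : Subgroup G) := by
    intro P w hw hwN
    have hwp : IsPGroup 3 ↥(Subgroup.zpowers w) := by
      apply IsPGroup.of_card (n := 1)
      rw [Nat.card_zpowers, hw, pow_one]
    have := hwp.inf_normalizer_sylow P
    have h1 : w ∈ Subgroup.zpowers w ⊓ Subgroup.normalizer (P : Set G) :=
      ⟨Subgroup.mem_zpowers w, hwN⟩
    rw [this] at h1
    exact h1.2
  have hk3 : ∀ k ∈ φ.ker, orderOf k ≠ 3 := by
    intro k hk hko
    have hk1 : k ≠ 1 := by
      rintro rfl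
      rw [orderOf_one] at hko; omega
    have hall : ∀ P : Sylow 3 G, (P : Subgroup G) = Subgroup.zpowers k := by
      intro P
      exact (zpowers_eq_of_card_prime hp3 _ (hS3 P) (hNP P k hko (hker k hk P)) hk1).symm
    have hsub : Subsingleton (Sylow 3 G) := ⟨fun P Q => Sylow.ext (by rw [hall P, hall Q])⟩
    have : Nat.card (Sylow 3 G) ≤ 1 := Finite.card_le_one_iff_subsingleton.mpr hsub
    omega
  have hkerN : ∀ P : Sylow 3 G, φ.ker ≤ Subgroup.normalizer ((P : Subgroup G) : Set G) :=
    fun P k hk => hker k hk P
  have hNcard : ∀ P : Sylow 3 G,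
      Nat.card ↥(Subgroup.normalizer ((P : Subgroup G) : Set G)) = 6 := by
    intro P
    have h1 := Subgroup.card_mul_index (Subgroup.normalizer ((P : Subgroup G) : Set G))
    have h2 : (Subgroup.normalizer ((P : Subgroup G) : Set G)).index = 4 := by
      rw [← hn4]; exact (Sylow.card_eq_index_normalizer P).symm
    rw [h2, h] at h1
    omega
  have hkerbot : φ.ker = ⊥ := by
    obtain ⟨P⟩ : Nonempty (Sylow 3 G) := inferInstance
    have hd : Nat.card ↥φ.ker ∣ 6 := by
      rw [← hNcard P]; exact Subgroup.card_dvd_of_le (hkerN P)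
    have h3 : ¬ 3 ∣ Nat.card ↥φ.ker := by
      intro h3
      obtain ⟨k, hk⟩ := exists_prime_orderOf_dvd_card' 3 h3
      apply hk3 (k : G) k.2
      rw [Subgroup.orderOf_coe]; exact hk
    have h2 : ¬ 2 ∣ Nat.card ↥φ.ker := by
      intro h2
      obtain ⟨t, ht⟩ := exists_prime_orderOf_dvd_card' 2 h2
      have hto : orderOf (t : G) = 2 := by rw [Subgroup.orderOf_coe]; exact ht
      have hc2 : Nat.card ↥φ.ker = 2 := by
        have hle : Nat.card ↥φ.ker ≤ 6 := Nat.le_of_dvd (by norm_num) hd
        have hpos : 0 < Nat.card ↥φ.ker := Nat.card_pos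
        interval_cases (Nat.card ↥φ.ker) <;> omega
      -- `t` is central
      have ht1 : (t : G) ≠ 1 := by
        intro h1
        rw [h1, orderOf_one] at hto; omega
      have hzk : Subgroup.zpowers (t : G) = φ.ker :=
        zpowers_eq_of_card_prime (by norm_num) _ hc2 t.2 ht1
      have hcen : ∀ g : G, g * (t : G) * g⁻¹ = (t : G) := by
        intro g
        have hm : g * (t : G) * g⁻¹ ∈ φ.ker := (inferInstance : φ.ker.Normal).conj_mem _ t.2 g
        have hm' : g * (t : G) * g⁻¹ ∈ Subgroup.zpowers (t : G) := by
          have hsub : φ.ker ≤ Subgroup.zpowers (t : G) := le_of_eq hzk.symm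
          exact hsub hm
        obtain ⟨j, hj⟩ := hm'
        have hj' : g * (t : G) * g⁻¹ = (t : G) ^ (j % 2) := by
          rw [← hj]
          have := zpow_mod_orderOf (t : G) j
          rw [hto] at this
          show (t : G) ^ j = (t : G) ^ (j % 2)
          exact_mod_cast this.symm
        have hjm : j % 2 = 0 ∨ j % 2 = 1 := by omega
        rcases hjm with h0 | h1
        · exfalso
          rw [h0, zpow_zero] at hj'
          apply ht1
          have : (t : G) = g⁻¹ * (g * (t : G) * g⁻¹) * g := by group
          rw [this, hj']; group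
        · rw [hj', h1, zpow_one]
      obtain ⟨y, hy⟩ := exists_prime_orderOf_dvd_card' (G := G) 3 (by rw [h]; norm_num)
      apply hno (t : G) y hto hy
      have := hcen y
      calc (t : G) * y = (y * (t : G) * y⁻¹) * y := by rw [this]
        _ = y * (t : G) := by group
    have hle : Nat.card ↥φ.ker ≤ 6 := Nat.le_of_dvd (by norm_num) hd
    have hpos : 0 < Nat.card ↥φ.ker := Nat.card_pos
    have h1 : Nat.card ↥φ.ker = 1 := by
      interval_cases (Nat.card ↥φ.ker) <;> omega
    exact Subgroup.card_eq_one.mp h1
  have hinj : Function.Injective φ := (MonoidHom.ker_eq_bot_iff φ).mp hkerbot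
  have hcardS : Nat.card (Equiv.Perm (Sylow 3 G)) = 24 := by
    have := Fintype.ofFinite (Sylow 3 G)
    rw [Nat.card_eq_fintype_card, Fintype.card_perm, ← Nat.card_eq_fintype_card, hn4]
    rfl
  have hbij : Function.Bijective φ := by
    rw [Nat.bijective_iff_injective_and_card]
    exact ⟨hinj, by rw [h, hcardS]⟩
  have e1 : G ≃* Equiv.Perm (Sylow 3 G) := MulEquiv.ofBijective φ hbij
  have e2 : Sylow 3 G ≃ Fin 4 := by
    have := Fintype.ofFinite (Sylow 3 G)
    apply Fintype.equivFinOfCardEq
    rw [← Nat.card_eq_fintype_card, hn4]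
  exact ⟨e1.trans e2.permCongrHom⟩

end Cfsg.Agent.S1012
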