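import Cfsg.Statements.S0857
import Mathlib
import Mathlib
import Cfsg.Agent.Lib.Helper2.ChiefRestrict

set_option autoImplicit false
open Cfsg

namespace Cfsg.Agent.S0857

/-- Let L < K be normal subgroups of the finite group G with no normal subgroup of G strictly between them and with K / L abelian (the commutator subgroup of K lies in L). Let ϑ be an irreducible character of K invariant under conjugation by G. Then the restriction of ϑ to L is irreducible; or it equals e times an irreducible character of L with e ^ 2 equal to the index of L in K; or it is the sum of a family of pairwise distinct irreducible characters of L indexed by a set whose size is the index of L in K. -/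
theorem result {G : Type*} [Group G] [Fintype G] (K L : Subgroup G) [hK : K.Normal] [L.Normal] (hLK : L < K) (hchief : ∀ M : Subgroup G, M.Normal → L ≤ M → M ≤ K → M = L ∨ M = K) (hab : ⁅K, K⁆ ≤ L) (ϑ : K → ℂ) (hϑ : Cfsg.IsIrrCharacter K ϑ) (hinv : ∀ (g : G) (n : K), ϑ ⟨g * n * g⁻¹, hK.conj_mem (n : G) n.2 g⟩ = ϑ n) : Cfsg.IsIrrCharacter L (fun x : L => ϑ ⟨(x : G), hLK.le x.2⟩) ∨ (∃ (φ : L → ℂ) (e : ℕ), Cfsg.IsIrrCharacter L φ ∧ (fun x : L => ϑ ⟨(x : G), hLK.le x.2⟩) = (e : ℂ) • φ ∧ e ^ 2 = L.relIndex K) ∨ (∃ F : Finset (L → ℂ), (∀ φ ∈ F, Cfsg.IsIrrCharacter L φ) ∧ F.card = L.relIndex K ∧ (fun x : L => ϑ ⟨(x : G), hLK.le x.2⟩) = ∑ φ ∈ F, φ) := by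
  classical
  haveI : Fintype K := Fintype.ofFinite K
  let Y : Subgroup K := L.subgroupOf K
  haveI : Fintype Y := Fintype.ofFinite Y
  haveI hYn : Y.Normal := inferInstance
  let 𝒜 : Set (K ≃* K) := Set.range (fun g : G => (MulAut.conjNormal g : K ≃* K))
  have hcoe : ∀ (g : G) (k : K), ((MulAut.conjNormal g k : K) : G) = g * k * g⁻¹ :=
    fun g k => MulAut.conjNormal_apply g k
  have hab' : ∀ a b : K, a⁻¹ * b⁻¹ * a * b ∈ Y := by
    intro a b
    apply Subgroup.mem_subgroupOf.2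
    apply hab
    have h1 := Subgroup.commutator_mem_commutator (K.inv_mem a.2) (K.inv_mem b.2)
    rw [commutatorElement_def] at h1
    have h2 : ((a⁻¹ * b⁻¹ * a * b : K) : G) = (a : G)⁻¹ * (b : G)⁻¹ * (a : G)⁻¹⁻¹ * (b : G)⁻¹⁻¹ := by
      simp
    rw [h2]
    exact h1
  have hσY : ∀ σ ∈ 𝒜, ∀ y, σ y ∈ Y ↔ y ∈ Y := by
    rintro σ ⟨g, rfl⟩ y
    show (MulAut.conjNormal g y : K) ∈ L.subgroupOf K ↔ y ∈ L.subgroupOf K
    rw [Subgroup.mem_subgroupOf, Subgroup.mem_subgroupOf, hcoe]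
    constructor
    · intro h
      have h1 := (inferInstance : L.Normal).conj_mem _ h g⁻¹
      have h2 : g⁻¹ * (g * (y : G) * g⁻¹) * g⁻¹⁻¹ = (y : G) := by group
      rwa [h2] at h1
    · intro h
      exact (inferInstance : L.Normal).conj_mem _ h g
  have hσϑ : ∀ σ ∈ 𝒜, ∀ x, ϑ (σ x) = ϑ x := by
    rintro σ ⟨g, rfl⟩ x
    have h1 : (MulAut.conjNormal g x : K) = ⟨g * x * g⁻¹, hK.conj_mem (x : G) x.2 g⟩ :=
      Subtype.ext (hcoe g x)
    show ϑ (MulAut.conjNormal g x : K) = ϑ x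
    rw [h1]
    exact hinv g x
  have hchief' : ∀ M : Subgroup K, Y ≤ M → (∀ σ ∈ 𝒜, ∀ m ∈ M, σ m ∈ M) → M = Y ∨ M = ⊤ := by
    intro M hYM hMinv
    let M₀ : Subgroup G := M.map K.subtype
    have hM₀n : M₀.Normal := by
      constructor
      rintro _ ⟨m, hm, rfl⟩ g
      refine ⟨MulAut.conjNormal g m, hMinv _ ⟨g, rfl⟩ m hm, ?_⟩
      exact hcoe g m
    have hLM₀ : L ≤ M₀ := by
      intro l hl
      refine ⟨⟨l, hLK.le hl⟩, hYM (Subgroup.mem_subgroupOf.2 hl), rfl⟩
    have hM₀K : M₀ ≤ K := Subgroup.map_subtype_le M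
    have hM : M = M₀.subgroupOf K := by
      ext x
      rw [Subgroup.mem_subgroupOf]
      constructor
      · intro hx; exact ⟨x, hx, rfl⟩
      · rintro ⟨m, hm, hmx⟩
        have : m = x := Subtype.ext hmx
        rwa [← this]
    rcases hchief M₀ hM₀n hLM₀ hM₀K with h | h
    · left; rw [hM, h]
    · right; rw [hM, h]; exact Subgroup.subgroupOf_self K
  have hmain := Cfsg.Agent.Lib.Helper2.ChiefRestrict.main Y hab' hϑ 𝒜 hσY hσϑ hchief'
  let e : Y ≃* L := Subgroup.subgroupOfEquivOfLe hLK.le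
  have hr : ∀ f : Y → ℂ, (f = fun y : Y => ϑ y) →
      (fun x : L => ϑ ⟨(x : G), hLK.le x.2⟩) = fun x : L => f (e.symm x) := by
    intro f hf
    funext x
    rw [hf]
    rfl
  have hidx : Y.index = L.relIndex K := rfl
  rcases hmain with h | ⟨φ, m, hφ, hres, hm⟩ | ⟨F, hFirr, hFcard, hres⟩
  · left
    rw [hr _ rfl]
    exact Cfsg.Agent.Lib.Helper1.isIrrCharacter_comp_mulEquiv h e.symm
  · right; left
    refine ⟨fun x : L => φ (e.symm x), m,
      Cfsg.Agent.Lib.Helper1.isIrrCharacter_comp_mulEquiv hφ e.symm, ?_, ?_⟩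
    · rw [hr _ rfl]
      funext x
      have := congrFun hres (e.symm x)
      rw [this]
      rfl
    · rw [hm, hidx]
  · right; right
    let T : (Y → ℂ) → (L → ℂ) := fun f => fun x : L => f (e.symm x)
    have hTinj : Function.Injective T := by
      intro f₁ f₂ h12
      funext y
      have := congrFun h12 (e y)
      simpa [T] using this
    refine ⟨F.image T, ?_, ?_, ?_⟩
    · intro ψ hψ
      obtain ⟨φ, hφ, rfl⟩ := Finset.mem_image.1 hψ
      exact Cfsg.Agent.Lib.Helper1.isIrrCharacter_comp_mulEquiv (hFirr φ hφ) e.symm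
    · rw [Finset.card_image_of_injective F hTinj, hFcard, hidx]
    · rw [hr _ rfl, Finset.sum_image (fun a _ b _ h => hTinj h)]
      funext x
      have := congrFun hres (e.symm x)
      rw [this, Finset.sum_apply, Finset.sum_apply]

end Cfsg.Agent.S0857
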