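import Cfsg.Statements.S0271
import Cfsg.Agent.Lib.Helper2.Symp4

set_option autoImplicit false
open Cfsg

namespace Cfsg.Agent.S0271

open Cfsg.Agent.Lib.Helper2.Symp Matrix

/-- every nonzero vector has a hyperbolic partner -/
theorem exists_partner {F : Type*} [Field F] (m : ℕ) (v : Fin m ⊕ Fin m → F) (hv : v ≠ 0) :
    ∃ x : Fin m ⊕ Fin m → F, Cfsg.sympForm m F v x = 1 := by
  obtain ⟨i, hi⟩ : ∃ i, v i ≠ 0 := by
    by_contra hall
    push Not at hall
    exact hv (funext hall)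
  rcases i with j | j
  · refine ⟨(-(v (Sum.inl j))⁻¹) • Pi.single (Sum.inr j) 1, ?_⟩
    rw [sympForm_smul_right, sympForm_single_inr]
    field_simp
  · refine ⟨((v (Sum.inr j))⁻¹) • Pi.single (Sum.inl j) 1, ?_⟩
    rw [sympForm_smul_right, sympForm_single_inl]
    field_simp

/-- Sp_{2m}(F) is transitive on non-zero vectors. -/
theorem result {F : Type*} [Field F] (m : ℕ) (v w : Fin m ⊕ Fin m → F) (hv : v ≠ 0) (hw : w ≠ 0) : ∃ g : Matrix.symplecticGroup (Fin m) F, (g : Matrix (Fin m ⊕ Fin m) (Fin m ⊕ Fin m) F).mulVec v = w := by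
  obtain ⟨v', hv'⟩ := exists_partner m v hv
  obtain ⟨w', hw'⟩ := exists_partner m w hw
  obtain ⟨A, -, hA⟩ := exists_move_first v v' w w' hv' hw'
  exact ⟨A, hA⟩

end Cfsg.Agent.S0271
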