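import Cfsg.Statements.S0245
import Cfsg.Agent.Lib.Helper1.SpCard

set_option autoImplicit false
open Cfsg

namespace Cfsg.Agent.S0245

open Cfsg.Agent.Lib.Helper1.SpCard

/-- Order of the finite symplectic group: |Sp_{2m}(q)| = q^(m^2) * prod_{i=1}^{m} (q^(2i) - 1). -/
theorem result {F : Type*} [Field F] [Fintype F] {q : ℕ} (hF : Fintype.card F = q) (m : ℕ) : Nat.card (Matrix.symplecticGroup (Fin m) F) = q ^ (m ^ 2) * ∏ i ∈ Finset.range m, (q ^ (2 * (i + 1)) - 1) := by
  have hq : 0 < q := by rw [← hF]; exact Fintype.card_pos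
  induction m with
  | zero =>
    have : Subsingleton (Matrix.symplecticGroup (Fin 0) F) :=
      ⟨fun a b => Subtype.ext (Subsingleton.elim _ _)⟩
    rw [Nat.card_unique]
    simp
  | succ m ih =>
    apply Nat.eq_of_mul_eq_mul_right hq
    have h := card_succ (m := m) (F := F)
    rw [hF, ih] at h
    rw [h, Finset.prod_range_succ]
    have e : m + 1 + (m + 1) = 2 * (m + 1) := by ring
    rw [e]
    ring

end Cfsg.Agent.S0245
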