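import Cfsg.Statements.S0246
import Cfsg.Agent.Lib.Helper2.Symp4
import Cfsg.Agent.S0271

set_option autoImplicit false
open Cfsg

namespace Cfsg.Agent.S0246

open Cfsg.Agent.Lib.Helper2.Symp Matrix

variable {F : Type*} [Field F] {m : ℕ}

/-- a central element of the symplectic group has every vector as an eigenvector -/
theorem central_eigen (A : Matrix.symplecticGroup (Fin m) F)
    (hA : A ∈ Subgroup.center (Matrix.symplecticGroup (Fin m) F)) (v : Fin m ⊕ Fin m → F)
    (hv : v ≠ 0) :
    ∃ c : F, (A : Matrix (Fin m ⊕ Fin m) (Fin m ⊕ Fin m) F) *ᵥ v = c • v := by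
  obtain ⟨x, hx⟩ := Cfsg.Agent.S0271.exists_partner m v hv
  have hx' : Cfsg.sympForm m F x v = -1 := by rw [sympForm_swap, hx]
  let T : Matrix.symplecticGroup (Fin m) F := ⟨Cfsg.sympTransvection m v 1, sympTransvection_mem v 1⟩
  have hcomm : T * A = A * T := Subgroup.mem_center_iff.mp hA T
  have h1 : ((T * A : Matrix.symplecticGroup (Fin m) F) :
      Matrix (Fin m ⊕ Fin m) (Fin m ⊕ Fin m) F) *ᵥ x =
      ((A * T : Matrix.symplecticGroup (Fin m) F) :
      Matrix (Fin m ⊕ Fin m) (Fin m ⊕ Fin m) F) *ᵥ x := by rw [hcomm]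
  have h2 : ((T * A : Matrix.symplecticGroup (Fin m) F) :
      Matrix (Fin m ⊕ Fin m) (Fin m ⊕ Fin m) F) =
      Cfsg.sympTransvection m v 1 * (A : Matrix (Fin m ⊕ Fin m) (Fin m ⊕ Fin m) F) := rfl
  have h3 : ((A * T : Matrix.symplecticGroup (Fin m) F) :
      Matrix (Fin m ⊕ Fin m) (Fin m ⊕ Fin m) F) =
      (A : Matrix (Fin m ⊕ Fin m) (Fin m ⊕ Fin m) F) * Cfsg.sympTransvection m v 1 := rfl
  rw [h2, h3, ← Matrix.mulVec_mulVec, ← Matrix.mulVec_mulVec, sympTransvection_mulVec,
    sympTransvection_mulVec, hx', Matrix.mulVec_add, Matrix.mulVec_smul] at h1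
  have h4 := add_left_cancel h1
  refine ⟨-(1 * Cfsg.sympForm m F ((A : Matrix (Fin m ⊕ Fin m) (Fin m ⊕ Fin m) F) *ᵥ x) v), ?_⟩
  rw [neg_smul, h4]
  simp

/-- a central element of the symplectic group is scalar -/
theorem central_scalar (A : Matrix.symplecticGroup (Fin m) F)
    (hA : A ∈ Subgroup.center (Matrix.symplecticGroup (Fin m) F)) :
    ∃ a : F, (A : Matrix (Fin m ⊕ Fin m) (Fin m ⊕ Fin m) F) = a • 1 := by
  have h : ∀ v : Fin m ⊕ Fin m → F, ¬ LinearIndependent F
      ![v, (Matrix.mulVecLin (A : Matrix (Fin m ⊕ Fin m) (Fin m ⊕ Fin m) F)) v] := by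
    intro v hli
    rw [LinearIndependent.pair_iff] at hli
    by_cases hv : v = 0
    · have := hli 1 0 (by rw [hv]; simp)
      exact one_ne_zero this.1
    · obtain ⟨c, hc⟩ := central_eigen A hA v hv
      have := hli c (-1) (by rw [Matrix.mulVecLin_apply, hc]; simp)
      have h2 := this.2
      simp at h2
  obtain ⟨a, ha⟩ := LinearMap.exists_eq_smul_id_of_forall_notLinearIndependent h
  refine ⟨a, ?_⟩
  ext i j
  have h1 : (A : Matrix (Fin m ⊕ Fin m) (Fin m ⊕ Fin m) F) *ᵥ Pi.single j 1 =
      a • Pi.single j 1 := by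
    have := congrArg (fun f => f (Pi.single j 1)) ha
    simpa using this
  have h2 := congrFun h1 i
  rw [Matrix.mulVec_single_one] at h2
  have h3 : (A : Matrix (Fin m ⊕ Fin m) (Fin m ⊕ Fin m) F) i j = (a • Pi.single j 1 : _ → F) i := h2
  rw [h3, Matrix.smul_apply, Matrix.one_apply, Pi.smul_apply, Pi.single_apply]

/-- a scalar symplectic matrix is `±1` -/
theorem scalar_sq (hm : 1 ≤ m) (a : F)
    (h : (a • (1 : Matrix (Fin m ⊕ Fin m) (Fin m ⊕ Fin m) F)) ∈ Matrix.symplecticGroup (Fin m) F) :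
    a = 1 ∨ a = -1 := by
  rw [SymplecticGroup.mem_iff'] at h
  rw [Matrix.transpose_smul, Matrix.transpose_one, Matrix.smul_mul, Matrix.one_mul,
    Matrix.mul_smul, Matrix.mul_one, smul_smul] at h
  have h1 := congrFun (congrFun h (Sum.inl ⟨0, hm⟩)) (Sum.inr ⟨0, hm⟩)
  simp [Matrix.J, Matrix.smul_apply] at h1
  have h2 : (a - 1) * (a + 1) = 0 := by linear_combination h1
  rcases mul_eq_zero.mp h2 with h3 | h3
  · left; exact sub_eq_zero.mp h3
  · right; exact eq_neg_of_add_eq_zero_left h3

/-- `-1` as an element of the symplectic group -/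
def negOne (m : ℕ) (F : Type*) [Field F] : Matrix.symplecticGroup (Fin m) F :=
  ⟨-1, SymplecticGroup.neg_mem (Submonoid.one_mem _)⟩

theorem negOne_mem_center : negOne m F ∈ Subgroup.center (Matrix.symplecticGroup (Fin m) F) := by
  rw [Subgroup.mem_center_iff]
  intro g
  apply Subtype.ext
  show (g : Matrix (Fin m ⊕ Fin m) (Fin m ⊕ Fin m) F) * (-1) =
    (-1) * (g : Matrix (Fin m ⊕ Fin m) (Fin m ⊕ Fin m) F)
  simp

theorem mem_center_iff (hm : 1 ≤ m) (A : Matrix.symplecticGroup (Fin m) F) :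
    A ∈ Subgroup.center (Matrix.symplecticGroup (Fin m) F) ↔ A = 1 ∨ A = negOne m F := by
  constructor
  · intro hA
    obtain ⟨a, ha⟩ := central_scalar A hA
    have h1 := scalar_sq hm a (ha ▸ A.2)
    rcases h1 with rfl | rfl
    · left
      apply Subtype.ext
      rw [ha, one_smul]; rfl
    · right
      apply Subtype.ext
      rw [ha, neg_smul, one_smul]; rfl
  · rintro (rfl | rfl)
    · exact Subgroup.one_mem _
    · exact negOne_mem_center

/-- The centre of Sp_{2m}(q), m at least 1, is {1, -1}: it has order gcd(2, q-1). -/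
theorem result {F : Type*} [Field F] [Fintype F] {q : ℕ} (hF : Fintype.card F = q) (m : ℕ) (hm : 1 ≤ m) : Nat.card (Subgroup.center (Matrix.symplecticGroup (Fin m) F)) = Nat.gcd 2 (q - 1) := by
  by_cases h2 : (2 : F) = 0
  · -- characteristic two
    have h1 : ringChar F = 2 :=
      CharP.ringChar_of_prime_eq_zero Nat.prime_two (by exact_mod_cast h2)
    have hq := (FiniteField.even_card_iff_char_two (F := F)).1 h1
    rw [hF] at hq
    have hneg : negOne m F = 1 := by
      apply Subtype.ext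
      show (-1 : Matrix (Fin m ⊕ Fin m) (Fin m ⊕ Fin m) F) = 1
      have h3 : (-1 : F) = 1 := by linear_combination (-1 : F) * h2
      ext i j
      by_cases hij : i = j
      · subst hij; simp [h3]
      · simp [hij]
    have hbot : Subgroup.center (Matrix.symplecticGroup (Fin m) F) = ⊥ := by
      rw [eq_bot_iff]
      intro A hA
      rcases (mem_center_iff hm A).mp hA with h | h
      · exact Subgroup.mem_bot.mpr h
      · exact Subgroup.mem_bot.mpr (h.trans hneg)
    rw [hbot, Subgroup.card_bot]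
    have hq1 : 1 ≤ q := by rw [← hF]; exact Fintype.card_pos
    have hodd : (q - 1) % 2 = 1 := by omega
    exact (Nat.Coprime.gcd_eq_one (Nat.coprime_two_left.mpr (Nat.odd_iff.mpr hodd))).symm
  · have hq : q % 2 = 1 := by
      rw [← hF]
      apply FiniteField.odd_card_of_char_ne_two
      intro h1
      apply h2
      have := (ringChar.spec F 2).mpr (dvd_of_eq h1)
      exact_mod_cast this
    have hne : negOne m F ≠ 1 := by
      intro h
      have h1 := congrArg (fun A : Matrix.symplecticGroup (Fin m) F =>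
        (A : Matrix (Fin m ⊕ Fin m) (Fin m ⊕ Fin m) F) (Sum.inl ⟨0, hm⟩) (Sum.inl ⟨0, hm⟩)) h
      have h3 : (-1 : F) = 1 := by simpa [negOne] using h1
      apply h2
      linear_combination (-1 : F) * h3
    have hcard : Nat.card (Subgroup.center (Matrix.symplecticGroup (Fin m) F)) = 2 := by
      rw [Nat.card_eq_two_iff]
      refine ⟨⟨1, Subgroup.one_mem _⟩, ⟨negOne m F, negOne_mem_center⟩, ?_, ?_⟩
      · intro h
        exact hne (congrArg Subtype.val h).symm
      · ext ⟨A, hA⟩
        simp only [Set.mem_insert_iff, Set.mem_singleton_iff, Set.mem_univ, iff_true]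
        rcases (mem_center_iff hm A).mp hA with h | h
        · left; exact Subtype.ext h
        · right; exact Subtype.ext h
    rw [hcard]
    have heven : (q - 1) % 2 = 0 := by omega
    exact (Nat.gcd_eq_left (Nat.dvd_of_mod_eq_zero heven)).symm

end Cfsg.Agent.S0246
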