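import Cfsg.Statements.S2609
import Cfsg.Agent.Lib.Helper2.Spinor6

set_option autoImplicit false
open Cfsg

namespace Cfsg.Agent.S2609


open Cfsg.Agent.Lib.Helper2 Cfsg.Agent.Lib.Helper2.Spinor Cfsg.Agent.Lib.Helper2.CDG

section
variable {F : Type*} [Field F] [Fintype F] [DecidableEq F]

/-- square class as a unit of `ℤ` -/
noncomputable def sq (a : F) : ℤˣ := if IsSquare a then 1 else -1

theorem sq_coe (h2 : (2 : F) ≠ 0) {a : F} (ha : a ≠ 0) : ((sq a : ℤˣ) : ℤ) = quadraticChar F a := by
  have hchar : ringChar F ≠ 2 := by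
    intro h
    apply h2
    have := ringChar.spec F (2 : ℕ)
    have h3 : ((2 : ℕ) : F) = 0 := by rw [ringChar.spec]; rw [h]
    exact_mod_cast h3
  unfold sq
  by_cases hs : IsSquare a
  · rw [if_pos hs]
    rw [(quadraticChar_one_iff_isSquare ha).2 hs]; rfl
  · rw [if_neg hs]
    rw [(quadraticChar_neg_one_iff_not_isSquare).2 hs]; rfl

theorem sq_mul (h2 : (2 : F) ≠ 0) {a b : F} (ha : a ≠ 0) (hb : b ≠ 0) :
    sq (a * b) = sq a * sq b := by
  apply Units.ext
  rw [Units.val_mul, sq_coe h2 ha, sq_coe h2 hb, sq_coe h2 (mul_ne_zero ha hb), map_mul]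

theorem sq_one : sq (1 : F) = 1 := by
  unfold sq
  rw [if_pos ⟨1, by ring⟩]

theorem ite_eq_neg_sq {a : F} (ha : a ≠ 0) :
    (if ∃ t : F, t * t * a = 1 then (-1 : ℤˣ) else 1) = - sq a := by
  unfold sq
  by_cases hs : IsSquare a
  · rw [if_pos hs, if_pos]
    obtain ⟨s, hs⟩ := hs
    have hs0 : s ≠ 0 := by
      rintro rfl
      apply ha
      rw [hs, mul_zero]
    refine ⟨s⁻¹, ?_⟩
    rw [hs]
    field_simp
  · rw [if_neg hs, if_neg, neg_neg]
    rintro ⟨t, ht⟩
    apply hs
    have ht0 : t ≠ 0 := by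
      rintro rfl
      rw [zero_mul, zero_mul] at ht
      exact zero_ne_one ht
    refine ⟨t⁻¹, ?_⟩
    field_simp
    rw [← ht]
    ring

variable {ι : Type} [Fintype ι] [DecidableEq ι] {Q : QuadraticForm F (ι → F)}

theorem Phi_prod (h2 : (2 : F) ≠ 0) (vs : List (ι → F)) (hvs : ∀ v ∈ vs, Q v ≠ 0) :
    (vs.map (fun v => Q v)).prod ≠ 0 ∧
    ∀ (g : ↥(Cfsg.isometryGroup F ⇑Q)),
    ((g : Matrix.GeneralLinearGroup ι F) : Matrix ι ι F) =
      (vs.map (fun v => Cfsg.reflectionMatrix ⇑Q v)).prod →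
    Phi Q g = ((-1) ^ vs.length, (-1) ^ vs.length * sq (vs.map (fun v => Q v)).prod) := by
  induction vs with
  | nil =>
    refine ⟨by simp, ?_⟩
    intro g hg
    have : g = 1 := by
      apply Subtype.ext
      apply Units.ext
      rw [hg]
      rfl
    rw [this, map_one]
    simp only [List.length_nil, pow_zero, List.map_nil, List.prod_nil, sq_one, mul_one]
    rfl
  | cons v vs ih =>
    have hv : Q v ≠ 0 := hvs v (List.mem_cons_self)
    obtain ⟨ih0, ih⟩ := ih (fun w hw => hvs w (List.mem_cons_of_mem _ hw))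
    refine ⟨by rw [List.map_cons, List.prod_cons]; exact mul_ne_zero hv ih0, ?_⟩
    intro g hg
    have hg' : g = refl Q v hv * (refl Q v hv * g) := by
      rw [← mul_assoc, refl_mul_self, one_mul]
    have h3 : (((refl Q v hv * g : ↥(Cfsg.isometryGroup F ⇑Q)) :
        Matrix.GeneralLinearGroup ι F) : Matrix ι ι F) =
        (vs.map (fun v => Cfsg.reflectionMatrix ⇑Q v)).prod := by
      have h4 : (((refl Q v hv * g : ↥(Cfsg.isometryGroup F ⇑Q)) :
        Matrix.GeneralLinearGroup ι F) : Matrix ι ι F) =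
          Cfsg.reflectionMatrix ⇑Q v * ((g : Matrix.GeneralLinearGroup ι F) : Matrix ι ι F) := rfl
      rw [h4, hg, List.map_cons, List.prod_cons, ← mul_assoc]
      have h5 : Cfsg.reflectionMatrix ⇑Q v * Cfsg.reflectionMatrix ⇑Q v = 1 := by
        have := congrArg (fun x : ↥(Cfsg.isometryGroup F ⇑Q) =>
          ((x : Matrix.GeneralLinearGroup ι F) : Matrix ι ι F)) (refl_mul_self (Q := Q) v hv)
        exact this
      rw [h5, one_mul]
    rw [hg', map_mul, ih _ h3, Phi_refl h2, ite_eq_neg_sq hv, List.map_cons, List.prod_cons,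
      sq_mul h2 hv ih0, List.length_cons, Prod.mk_mul_mk, pow_succ, pow_succ]
    congr 1
    · rw [mul_comm]
    · rw [mul_neg, mul_one, neg_mul]
      rw [← mul_assoc, ← mul_assoc, mul_comm (sq (Q v)), neg_mul, neg_mul]

end



/-- Spinor norm criterion for Ω over a finite field of odd order: let Q be a quadratic form on F^n, n ≥ 2, with non-degenerate polar form, and let g be an isometry written as a product of reflections in non-singular vectors v_1, …, v_k. Then g lies in Ω (the commutator subgroup of the orthogonal group) if and only if k is even and Q(v_1)⋯Q(v_k) is a square; in particular, for g of determinant one, whether that product is a square does not depend on the chosen factorisation (it is the spinor norm of g). -/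
theorem result {F : Type*} [Field F] [Fintype F] (h2 : (2 : F) ≠ 0) {n : ℕ} (hn : 2 ≤ n) (Q : QuadraticForm F (Fin n → F)) (hQ : (QuadraticMap.polarBilin Q).Nondegenerate) (g : ↥(Cfsg.isometryGroup F ⇑Q)) (vs : List (Fin n → F)) (hvs : ∀ v ∈ vs, Q v ≠ 0) (hg : ((g : Matrix.GeneralLinearGroup (Fin n) F) : Matrix (Fin n) (Fin n) F) = (vs.map (fun v => Cfsg.reflectionMatrix ⇑Q v)).prod) : g ∈ Cfsg.Omega F ⇑Q ↔ (Even vs.length ∧ IsSquare (vs.map (fun v => Q v)).prod) := by
  classical
  obtain ⟨h0, hP⟩ := Phi_prod (Q := Q) h2 vs hvs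
  have hP := hP g hg
  show g ∈ commutator _ ↔ _
  rw [mem_commutator_iff h2 hQ (by rw [Fintype.card_fin]; exact hn), hP, Prod.mk_eq_one]
  have hneg : (-1 : Fˣ) ≠ 1 := by
    intro h
    have h1 := congrArg Units.val h
    rw [Units.val_neg, Units.val_one] at h1
    apply h2
    have : (2 : F) = 1 - (-1) := by ring
    rw [this, h1]; ring
  constructor
  · rintro ⟨ha, hb⟩
    have he : Even vs.length := by
      rcases Nat.even_or_odd vs.length with he | ho
      · exact he
      · rw [ho.neg_one_pow] at ha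
        exact absurd ha hneg
    refine ⟨he, ?_⟩
    rw [he.neg_one_pow, one_mul] at hb
    unfold sq at hb
    by_contra hns
    rw [if_neg hns] at hb
    exact absurd hb (by decide)
  · rintro ⟨he, hs⟩
    refine ⟨he.neg_one_pow, ?_⟩
    rw [he.neg_one_pow, one_mul]
    unfold sq
    rw [if_pos hs]


end Cfsg.Agent.S2609
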