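import Cfsg.Statements.S2590
import Cfsg.Agent.Lib.Helper5.Wall5
import Cfsg.Agent.Lib.Helper2.Witt3

set_option autoImplicit false
open Cfsg

namespace Cfsg.Agent.S2590


open Cfsg.Agent.Lib.Helper5.Wall Module

section symm

variable {F : Type*} [Field F] {V : Type*} [AddCommGroup V] [Module F V] [FiniteDimensional F V]
variable (ω : LinearMap.BilinForm F V) (hnd : ω.Nondegenerate)

theorem adj_adj_symm (hs : ∀ x y, ω x y = ω y x) (φ : Module.End F V) :
    adj ω hnd (adj ω hnd φ) = φ := by
  symm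
  apply adj_unique
  intro x y
  rw [hs x (adj ω hnd φ y), adj_apply, hs]

end symm

section regular

variable {F : Type*} [Field F] [Finite F] {V : Type*} [AddCommGroup V] [Module F V]
  [FiniteDimensional F V]

/-- The regular case for symmetric forms. -/
theorem regular_case_symm (ω ω' : LinearMap.BilinForm F V) (hnd : ω.Nondegenerate)
    (hnd' : ω'.Nondegenerate) (hs : ∀ x y, ω x y = ω y x) (hs' : ∀ x y, ω' x y = ω' y x)
    (A A' : Module.End F V)
    (hAA' : A * A' = 1) (hA'A : A' * A = 1)
    (hAω : ∀ u v, ω (A u) (A v) = ω u v) (hAω' : ∀ u v, ω' (A u) (A v) = ω' u v)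
    (hreg : IsUnit (A - A')) :
    ∃ Y : Module.End F V, IsUnit Y ∧ Y * A = A * Y ∧ ∀ u v, ω (Y u) (Y v) = ω' u v := by
  classical
  haveI := finite_end (F := F) (V := V)
  have hAA'v : ∀ v, A (A' v) = v := fun v => by
    have := congrArg (fun f : Module.End F V => f v) hAA'
    exact this
  have hA'Av : ∀ v, A' (A v) = v := fun v => by
    have := congrArg (fun f : Module.End F V => f v) hA'A
    exact this
  have hsep : ∀ x x' : V, (∀ w, ω x w = ω x' w) → x = x' := by
    intro x x' h
    have h1 : ∀ w, ω (x - x') w = 0 := by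
      intro w
      rw [map_sub, LinearMap.sub_apply, h w, sub_self]
    have := hnd.1 (x - x') h1
    exact sub_eq_zero.1 this
  have hτA : adj ω hnd A = A' := by
    symm
    apply adj_unique
    intro x y
    rw [← hAω (A' x) y, hAA'v]
  have hτA' : adj ω hnd A' = A := by
    rw [← hτA, adj_adj_symm ω hnd hs]
  set a : Module.End F V := ω'.symmCompOfNondegenerate ω hnd with ha
  have haω : ∀ v w, ω (a v) w = ω' v w := fun v w =>
    LinearMap.BilinForm.symmCompOfNondegenerate_left_apply ω' hnd w v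
  have hτa : adj ω hnd a = a := by
    symm
    apply adj_unique
    intro x y
    rw [haω, hs x (a y), haω, hs']
  have hau : IsUnit a := by
    rw [LinearMap.isUnit_iff_ker_eq_bot, LinearMap.ker_eq_bot']
    intro v hv
    apply hnd'.1
    intro w
    rw [← haω, hv, map_zero, LinearMap.zero_apply]
  have haA : A * a = a * A := by
    apply LinearMap.ext
    intro v
    apply hsep
    intro w
    rw [Module.End.mul_apply, Module.End.mul_apply, haω]
    calc ω (A (a v)) w = ω (A (a v)) (A (A' w)) := by rw [hAA'v]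
      _ = ω (a v) (A' w) := hAω _ _
      _ = ω' v (A' w) := haω _ _
      _ = ω' (A v) (A (A' w)) := (hAω' _ _).symm
      _ = ω' (A v) w := by rw [hAA'v]
  have hS : Setup (adj ω hnd) ({A, a} : Set (Module.End F V)) :=
    { add := adj_add ω hnd
      mul := adj_mul ω hnd
      one := adj_one ω hnd
      inv := fun x _ => adj_adj_symm ω hnd hs x
      comm := by
        intro x hx y hy
        rcases hx with rfl | rfl <;> rcases hy with rfl | rfl
        · rfl
        · exact haA
        · exact haA.symm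
        · rfl
      stable := by
        intro x hx t ht
        have hxA : A * x = x * A := hx A (Set.mem_insert _ _)
        have hxa : a * x = x * a := hx a (Set.mem_insert_of_mem _ rfl)
        rcases ht with rfl | rfl
        · have h1 : A' * x = x * A' := by
            calc A' * x = A' * x * (t * A') := by rw [hAA', mul_one]
              _ = A' * (x * t) * A' := by simp only [mul_assoc]
              _ = A' * (t * x) * A' := by rw [hxA]
              _ = (A' * t) * x * A' := by simp only [mul_assoc]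
              _ = x * A' := by rw [hA'A, one_mul]
          have h2 := congrArg (adj ω hnd) h1
          rw [adj_mul, adj_mul, hτA'] at h2
          exact h2.symm
        · have h2 := congrArg (adj ω hnd) hxa
          rw [adj_mul, adj_mul, hτa] at h2
          exact h2.symm }
  have hu : IsUnit (A - adj ω hnd A) := by rw [hτA]; exact hreg
  obtain ⟨y, hyu, hymem, hy⟩ := hS.norm A (subset_bic _ (Set.mem_insert _ _)) hu a
    (subset_bic _ (Set.mem_insert_of_mem _ rfl)) hau hτa
  refine ⟨y, hyu, bic_comm hS.comm hymem (subset_bic _ (Set.mem_insert _ _)), ?_⟩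
  intro u v
  rw [← adj_apply ω hnd y (y u) v, ← Module.End.mul_apply, hy, haω]

end regular

section core

variable {F : Type*} [Field F] [Finite F] {V : Type*} [AddCommGroup V] [Module F V]
  [FiniteDimensional F V]

open QuadraticMap

theorem polar_map (Q : QuadraticForm F V) (g : Module.End F V) (hg : ∀ v, Q (g v) = Q v)
    (u v : V) : polar Q (g u) (g v) = polar Q u v := by
  simp only [polar, ← map_add, hg]

theorem Q_sub (Q : QuadraticForm F V) (A : Module.End F V) (hA : ∀ v, Q (A v) = Q v) (w : V) :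
    Q (A w - w) = - polar Q (A w - w) w := by
  have h1 : polar Q (A w - w) w = Q (A w - w + w) - Q (A w - w) - Q w := rfl
  rw [sub_add_cancel, hA] at h1
  rw [h1]
  ring

theorem orth_core (Q : QuadraticForm F V) (hQ : (polarBilin Q).Nondegenerate) (k : ℕ)
    (hk : (k : F) ≠ 0) (hodd : Odd k) (A B : Module.End F V) (X : V ≃ₗ[F] V)
    (hAk : ∀ v, (A ^ k) v = v) (hQA : ∀ v, Q (A v) = Q v) (hQB : ∀ v, Q (B v) = Q v)
    (hX : ∀ v, X (A v) = B (X v)) :
    ∃ g : V ≃ₗ[F] V, (∀ v, Q (g v) = Q v) ∧ ∀ v, g (A v) = B (g v) := by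
  classical
  have hpb : ∀ u v, polarBilin Q u v = polar Q u v := fun u v => rfl
  have hpA : ∀ u v, polarBilin Q (A u) (A v) = polarBilin Q u v := fun u v => polar_map Q A hQA u v
  have hpB : ∀ u v, polarBilin Q (B u) (B v) = polarBilin Q u v := fun u v => polar_map Q B hQB u v
  set U := LinearMap.ker (A - (1 : F) • (1 : Module.End F V)) with hU
  set W := LinearMap.range (A - (1 : F) • (1 : Module.End F V)) with hW
  have hUW : IsCompl U W := isCompl_ker_range A k hk hAk 1 one_ne_zero
  have hNapp : ∀ x, (A - (1 : F) • (1 : Module.End F V)) x = A x - x := by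
    intro x
    simp [LinearMap.sub_apply]
  have hmemU : ∀ u, u ∈ U ↔ A u = u := by
    intro u
    rw [hU, LinearMap.mem_ker, hNapp, sub_eq_zero]
  have hAW : ∀ w ∈ W, A w ∈ W := by
    rintro w ⟨x, rfl⟩
    refine ⟨A x, ?_⟩
    rw [hNapp, hNapp, map_sub]
  have horth : ∀ u ∈ U, ∀ w ∈ W, polar Q u w = 0 := fun u hu w hw =>
    orth_ker_range (polarBilin Q) A hpA 1 (one_mul 1) u hu w hw
  have hdecomp : ∀ v : V, ∃ u ∈ U, ∃ w ∈ W, v = u + w := by
    intro v
    have : v ∈ U ⊔ W := by rw [hUW.sup_eq_top]; trivial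
    obtain ⟨u, hu, w, hw, rfl⟩ := Submodule.mem_sup.1 this
    exact ⟨u, hu, w, hw, rfl⟩
  have hUW0 : ∀ w, w ∈ U → w ∈ W → w = 0 := by
    intro w hu hw
    have : w ∈ U ⊓ W := ⟨hu, hw⟩
    rw [hUW.inf_eq_bot] at this
    exact this
  -- the restriction of A to W
  set AW : Module.End F W := A.restrict hAW with hAWdef
  have hAWapp : ∀ w : W, ((AW w : W) : V) = A (w : V) := fun w => rfl
  obtain ⟨j, rfl⟩ : ∃ j, k = 2 * j + 1 := hodd
  have hAWk : ∀ i : ℕ, ∀ w : W, (((AW ^ i) w : W) : V) = (A ^ i) (w : V) := by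
    intro i w
    rw [hAWdef, Module.End.pow_restrict, LinearMap.restrict_apply]
  set AW' : Module.End F W := AW ^ (2 * j) with hAW'
  have hAA' : AW * AW' = 1 := by
    apply LinearMap.ext
    intro w
    apply Subtype.ext
    rw [hAW', ← pow_succ', hAWk]
    exact hAk w
  have hA'A : AW' * AW = 1 := by
    apply LinearMap.ext
    intro w
    apply Subtype.ext
    rw [hAW', ← pow_succ, hAWk]
    exact hAk w
  have hfix2 : ∀ v : V, A (A v) = v → A v = v := by
    intro v hv
    have h1 : ∀ i : ℕ, (A ^ (2 * i)) v = v := by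
      intro i
      induction i with
      | zero => simp
      | succ i ih =>
        rw [show 2 * (i + 1) = 2 * i + 2 by ring, pow_add, Module.End.mul_apply, pow_two,
          Module.End.mul_apply, hv, ih]
    have h2 := hAk v
    rw [pow_succ', Module.End.mul_apply, h1 j] at h2
    exact h2
  have hreg : IsUnit (AW - AW') := by
    rw [LinearMap.isUnit_iff_ker_eq_bot, LinearMap.ker_eq_bot']
    intro w hw
    rw [LinearMap.sub_apply, sub_eq_zero] at hw
    have h1 : AW (AW w) = w := by
      rw [hw]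
      have := congrArg (fun f : Module.End F W => f w) hAA'
      exact this
    have h2 : A (A (w : V)) = (w : V) := by
      have := congrArg Subtype.val h1
      exact this
    have h3 := hfix2 _ h2
    apply Subtype.ext
    exact hUW0 _ ((hmemU _).2 h3) w.2
  -- forms
  set ω : LinearMap.BilinForm F W := LinearMap.BilinForm.restrict (polarBilin Q) W with hω
  set ω' : LinearMap.BilinForm F W :=
    LinearMap.BilinForm.restrict
      (LinearMap.BilinForm.comp (polarBilin Q) X.toLinearMap X.toLinearMap) W with hω'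
  have hωapp : ∀ u v : W, ω u v = polar Q (u : V) (v : V) := fun u v => rfl
  have hω'app : ∀ u v : W, ω' u v = polar Q (X (u : V)) (X (v : V)) := fun u v => rfl
  have hs : ∀ x y, ω x y = ω y x := fun x y => polar_comm _ _ _
  have hs' : ∀ x y, ω' x y = ω' y x := fun x y => polar_comm _ _ _
  have hXU : ∀ u ∈ U, X u ∈ LinearMap.ker (B - (1 : F) • (1 : Module.End F V)) := by
    intro u hu
    rw [LinearMap.mem_ker]
    simp only [LinearMap.sub_apply, LinearMap.smul_apply, one_smul, Module.End.one_apply]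
    rw [← hX, (hmemU u).1 hu, sub_self]
  have hXW : ∀ w ∈ W, X w ∈ LinearMap.range (B - (1 : F) • (1 : Module.End F V)) := by
    rintro w ⟨x, rfl⟩
    refine ⟨X x, ?_⟩
    simp only [LinearMap.sub_apply, LinearMap.smul_apply, one_smul, Module.End.one_apply, map_sub]
    rw [hX]
  have horthB : ∀ u ∈ U, ∀ w ∈ W, polar Q (X u) (X w) = 0 := fun u hu w hw =>
    orth_ker_range (polarBilin Q) B hpB 1 (one_mul 1) _ (hXU u hu) _ (hXW w hw)
  have hnd1 : ∀ x : W, (∀ y : W, ω x y = 0) → x = 0 := by
    intro x hx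
    apply Subtype.ext
    apply hQ.1
    intro v
    obtain ⟨u, hu, w, hw, rfl⟩ := hdecomp v
    rw [map_add, hpb, hpb, polar_comm, horth u hu x x.2, zero_add]
    exact hx ⟨w, hw⟩
  have hnd1' : ∀ x : W, (∀ y : W, ω' x y = 0) → x = 0 := by
    intro x hx
    apply Subtype.ext
    apply X.injective
    rw [Submodule.coe_zero, map_zero]
    apply hQ.1
    intro v
    obtain ⟨v', rfl⟩ := X.surjective v
    obtain ⟨u, hu, w, hw, rfl⟩ := hdecomp v'
    rw [map_add, map_add, hpb, hpb, polar_comm, horthB u hu x x.2, zero_add]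
    exact hx ⟨w, hw⟩
  have hnd : ω.Nondegenerate := ⟨hnd1, fun y hy => hnd1 y (fun x => by rw [hs]; exact hy x)⟩
  have hnd' : ω'.Nondegenerate := ⟨hnd1', fun y hy => hnd1' y (fun x => by rw [hs']; exact hy x)⟩
  have hAω : ∀ u v, ω (AW u) (AW v) = ω u v := fun u v => hpA u v
  have hAω' : ∀ u v, ω' (AW u) (AW v) = ω' u v := by
    intro u v
    rw [hω'app, hω'app, hAWapp, hAWapp, hX, hX]
    exact hpB _ _
  obtain ⟨Y, hYu, hYA, hY⟩ := regular_case_symm ω ω' hnd hnd' hs hs' AW AW' hAA' hA'A hAω hAω' hreg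
  have hYAapp : ∀ w, Y (AW w) = AW (Y w) := fun w => by
    have := congrArg (fun f : Module.End F W => f w) hYA
    exact this
  -- A_W - 1 is surjective
  have hNsurj : ∀ w : W, ∃ w₀ : W, AW w₀ - w₀ = w := by
    have hinj : Function.Injective (AW - (1 : Module.End F W)) := by
      rw [← LinearMap.ker_eq_bot, LinearMap.ker_eq_bot']
      intro w hw
      rw [LinearMap.sub_apply, sub_eq_zero] at hw
      have h3 : A (w : V) = (w : V) := congrArg Subtype.val hw
      apply Subtype.ext
      exact hUW0 _ ((hmemU _).2 h3) w.2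
    have hsurj := LinearMap.surjective_of_injective hinj
    intro w
    obtain ⟨w₀, hw₀⟩ := hsurj w
    exact ⟨w₀, hw₀⟩
  have hYQ : ∀ w : W, Q ((Y w : W) : V) = Q (X (w : V)) := by
    intro w
    obtain ⟨w₀, rfl⟩ := hNsurj w
    have e1 : ((Y (AW w₀ - w₀) : W) : V) = A ((Y w₀ : W) : V) - ((Y w₀ : W) : V) := by
      rw [map_sub, hYAapp]
      rfl
    have e2 : X ((AW w₀ - w₀ : W) : V) = B (X (w₀ : V)) - X (w₀ : V) := by
      rw [← hX, ← map_sub]
      rfl
    rw [e1, e2, Q_sub Q A hQA, Q_sub Q B hQB, ← e1, ← e2]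
    congr 1
    exact hY (AW w₀ - w₀) w₀
  have hbij : Function.Bijective Y := (Module.End.isUnit_iff Y).1 hYu
  set Ye : W ≃ₗ[F] W := LinearEquiv.ofBijective Y hbij with hYe
  have hYeapp : ∀ w, Ye w = Y w := fun w => rfl
  set projW : V →ₗ[F] W := Submodule.linearProjOfIsCompl W U hUW.symm with hprojW
  have hprojWapp : ∀ w : W, projW (w : V) = w := fun w =>
    Submodule.linearProjOfIsCompl_apply_left hUW.symm w
  set α : V →ₗ[F] V := X.toLinearMap ∘ₗ W.subtype ∘ₗ Ye.symm.toLinearMap ∘ₗ projW with hα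
  have hαapp : ∀ w : W, α (w : V) = X ((Ye.symm w : W) : V) := by
    intro w
    rw [hα]
    simp only [LinearMap.comp_apply, hprojWapp]
    rfl
  obtain ⟨g, hg, hgW⟩ := Cfsg.Agent.Lib.Helper2.Witt.witt Q hQ W α
    (fun x hx => by
      rw [hαapp ⟨x, hx⟩, ← hYQ, ← hYeapp, LinearEquiv.apply_symm_apply])
    (fun x hx h0 => by
      rw [hαapp ⟨x, hx⟩] at h0
      have h1 : ((Ye.symm ⟨x, hx⟩ : W) : V) = 0 := by
        apply X.injective
        rw [h0, map_zero]
      have h2 : Ye.symm ⟨x, hx⟩ = 0 := Subtype.ext h1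
      rw [LinearEquiv.map_eq_zero_iff] at h2
      exact congrArg Subtype.val h2)
  have hgW' : ∀ w : W, g (w : V) = X ((Ye.symm w : W) : V) := fun w => by
    rw [hgW _ w.2, hαapp]
  have hYsA : ∀ w, Ye.symm (AW w) = AW (Ye.symm w) := by
    intro w
    apply Ye.injective
    rw [LinearEquiv.apply_symm_apply, hYeapp, hYAapp, ← hYeapp, LinearEquiv.apply_symm_apply]
  have hgpol : ∀ u v, polar Q (g u) (g v) = polar Q u v := by
    intro u v
    simp only [polar, ← map_add, hg]
  have hBsurj : Function.Surjective B := by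
    intro y
    refine ⟨X ((A ^ (2 * j)) (X.symm y)), ?_⟩
    rw [← hX, ← Module.End.mul_apply, ← pow_succ', hAk, LinearEquiv.apply_symm_apply]
  refine ⟨g, hg, ?_⟩
  intro v
  obtain ⟨u, hu, w, hw, rfl⟩ := hdecomp v
  simp only [map_add]
  congr 1
  · rw [(hmemU u).1 hu]
    -- B (g u) = g u
    symm
    rw [← sub_eq_zero]
    apply hQ.1
    intro y
    obtain ⟨y', rfl⟩ := hBsurj y
    obtain ⟨x', rfl⟩ := X.surjective y'
    rw [hpb, polar_sub_left]
    have h1 : polar Q (B (g u)) (B (X x')) = polar Q (g u) (X x') := polar_map Q B hQB _ _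
    rw [h1, ← polar_sub_right]
    -- B (X x') - X x' = X (A x' - x') = g (Y w₁)
    set w₁ : W := ⟨A x' - x', ⟨x', hNapp x'⟩⟩ with hw₁
    have h2 : B (X x') - X x' = g ((Y w₁ : W) : V) := by
      rw [hgW', ← hYeapp, LinearEquiv.symm_apply_apply, hw₁, ← hX, ← map_sub]
    have h3 : X x' - B (X x') = - g ((Y w₁ : W) : V) := by
      rw [← h2, neg_sub]
    rw [h3, polar_neg_right, hgpol, horth u hu _ (Y w₁).2, neg_zero]
  · have h1 : g (A w) = g ((AW ⟨w, hw⟩ : W) : V) := rfl
    rw [h1, hgW', hYsA, hAWapp, hX, ← hgW' ⟨w, hw⟩]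

end core



/-- Two semisimple elements of odd order of a finite orthogonal group (isometry group of a quadratic form on F^n with non-degenerate polar form, F finite of characteristic p; the elements have odd order prime to p) are conjugate in the orthogonal group if and only if they are conjugate in GL_n(F). -/
theorem result {F : Type*} [Field F] [Fintype F] {p : ℕ} [Fact p.Prime] [CharP F p] {n : ℕ} (Q : QuadraticForm F (Fin n → F)) (hQ : (QuadraticMap.polarBilin Q).Nondegenerate) (A B : ↥(Cfsg.isometryGroup F ⇑Q)) (hodd : Odd (orderOf A)) (hA : (orderOf A).Coprime p) : IsConj A B ↔ IsConj ((A : Matrix.GeneralLinearGroup (Fin n) F) : Matrix (Fin n) (Fin n) F) ((B : Matrix.GeneralLinearGroup (Fin n) F) : Matrix (Fin n) (Fin n) F) := by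
  classical
  constructor
  · intro h
    rw [isConj_iff] at h
    obtain ⟨c, hc⟩ := h
    refine ⟨(c : Matrix.GeneralLinearGroup (Fin n) F), ?_⟩
    have h3 : c * A = B * c := by rw [← hc]; group
    have h4 := congrArg (fun x : ↥(Cfsg.isometryGroup F ⇑Q) =>
      ((x : Matrix.GeneralLinearGroup (Fin n) F) : Matrix (Fin n) (Fin n) F)) h3
    exact h4
  · rintro ⟨X, hX⟩
    have hp : p.Prime := Fact.out
    have hk : ((orderOf A : ℕ) : F) ≠ 0 := by
      intro h0
      have h1 : p ∣ orderOf A := (CharP.cast_eq_zero_iff F p _).1 h0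
      have h2 : p ∣ Nat.gcd (orderOf A) p := Nat.dvd_gcd h1 dvd_rfl
      rw [hA] at h2
      exact hp.one_lt.ne' (Nat.dvd_one.1 h2)
    set AM : Matrix (Fin n) (Fin n) F := ((A : Matrix.GeneralLinearGroup (Fin n) F) :
      Matrix (Fin n) (Fin n) F) with hAM
    set BM : Matrix (Fin n) (Fin n) F := ((B : Matrix.GeneralLinearGroup (Fin n) F) :
      Matrix (Fin n) (Fin n) F) with hBM
    have hXAB : (X : Matrix (Fin n) (Fin n) F) * AM = BM * (X : Matrix (Fin n) (Fin n) F) := hX
    have hAk : AM ^ orderOf A = 1 := by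
      have h1 : ((A ^ orderOf A : ↥(Cfsg.isometryGroup F ⇑Q)) :
          Matrix.GeneralLinearGroup (Fin n) F) = 1 := by
        rw [pow_orderOf_eq_one]; rfl
      have h2 := congrArg (fun x : Matrix.GeneralLinearGroup (Fin n) F =>
        (x : Matrix (Fin n) (Fin n) F)) h1
      simp only [SubgroupClass.coe_pow, Units.val_pow_eq_pow_val, Units.val_one] at h2
      exact h2
    have hQA : ∀ v, Q (Matrix.toLin' AM v) = Q v := by
      intro v
      rw [Matrix.toLin'_apply]
      exact A.2 v v
    have hQB : ∀ v, Q (Matrix.toLin' BM v) = Q v := by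
      intro v
      rw [Matrix.toLin'_apply]
      exact B.2 v v
    set XL : (Fin n → F) ≃ₗ[F] (Fin n → F) :=
      LinearEquiv.ofLinear (Matrix.toLin' (X : Matrix (Fin n) (Fin n) F))
        (Matrix.toLin' ((X⁻¹ : (Matrix (Fin n) (Fin n) F)ˣ) : Matrix (Fin n) (Fin n) F))
        (by rw [← Matrix.toLin'_mul, Units.mul_inv, Matrix.toLin'_one])
        (by rw [← Matrix.toLin'_mul, Units.inv_mul, Matrix.toLin'_one]) with hXL
    have hXLapp : ∀ v, XL v = Matrix.toLin' (X : Matrix (Fin n) (Fin n) F) v := fun v => rfl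
    obtain ⟨g, hg, hgA⟩ := orth_core Q hQ (orderOf A) hk hodd (Matrix.toLin' AM) (Matrix.toLin' BM)
      XL (fun v => by rw [← Matrix.toLin'_pow, hAk, Matrix.toLin'_one]; rfl) hQA hQB
      (fun v => by
        rw [hXLapp, hXLapp, ← Matrix.toLin'_mul_apply, hXAB, Matrix.toLin'_mul_apply])
    set Z : Matrix (Fin n) (Fin n) F := LinearMap.toMatrix' g.toLinearMap with hZ
    set Z' : Matrix (Fin n) (Fin n) F := LinearMap.toMatrix' g.symm.toLinearMap with hZ'
    have hZZ' : Z * Z' = 1 := by
      rw [hZ, hZ', ← LinearMap.toMatrix'_comp]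
      have : g.toLinearMap ∘ₗ g.symm.toLinearMap = LinearMap.id := by
        ext v; simp
      rw [this, LinearMap.toMatrix'_id]
    have hZ'Z : Z' * Z = 1 := by
      rw [hZ, hZ', ← LinearMap.toMatrix'_comp]
      have : g.symm.toLinearMap ∘ₗ g.toLinearMap = LinearMap.id := by
        ext v; simp
      rw [this, LinearMap.toMatrix'_id]
    set Zu : Matrix.GeneralLinearGroup (Fin n) F := ⟨Z, Z', hZZ', hZ'Z⟩ with hZu
    have hZmem : Zu ∈ Cfsg.isometryGroup F ⇑Q := by
      intro u v
      show Q (Matrix.mulVec Z u) = Q u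
      rw [hZ, LinearMap.toMatrix'_mulVec]
      exact hg u
    rw [isConj_iff]
    refine ⟨⟨Zu, hZmem⟩, ?_⟩
    have h3 : (⟨Zu, hZmem⟩ : ↥(Cfsg.isometryGroup F ⇑Q)) * A = B * ⟨Zu, hZmem⟩ := by
      apply Subtype.ext
      apply Units.ext
      show Z * AM = BM * Z
      apply Matrix.toLin'.injective
      apply LinearMap.ext
      intro v
      rw [Matrix.toLin'_mul_apply, Matrix.toLin'_mul_apply, hZ, Matrix.toLin'_toMatrix']
      exact hgA v
    rw [h3]; group


end Cfsg.Agent.S2590
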