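import Mathlib
import Cfsg.Statements.S0289
import Cfsg.Agent.Lib.Helper1.QuadCount

set_option autoImplicit false
open Cfsg
open Cfsg.Agent.Lib.Helper1

namespace Cfsg.Agent.S0289

/-- The hyperbolic quadratic form on F^(2m), m at least 1, has q^(2m-1) + q^m - q^(m-1) zeros (that is, (q^m - 1)(q^(m-1) + 1) non-zero isotropic vectors). -/
theorem result {F : Type*} [Field F] [Fintype F] {q : ℕ} (hF : Fintype.card F = q) (m : ℕ) (hm : 1 ≤ m) : Nat.card {v : Fin m ⊕ Fin m → F // Cfsg.quadFormPlus m F v = 0} = q ^ (2 * m - 1) + q ^ m - q ^ (m - 1) := by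
  classical
  rw [Nat.card_eq_fintype_card, Fintype.card_subtype]
  have h := card_hyperbolic_eq (F := F) m 0
  simp only [if_true, hF] at h
  have h' : (Finset.univ.filter (fun v : Fin m ⊕ Fin m → F => Cfsg.quadFormPlus m F v = 0)).card =
      q ^ m + (q ^ m - 1) * q ^ (m - 1) := by
    rw [← h]; rfl
  rw [h']
  have e : q ^ m * q ^ (m - 1) = q ^ (2 * m - 1) := by
    rw [← pow_add]; congr 1; omega
  rw [Nat.sub_mul, e, one_mul]
  have h0 : 0 < q := by rw [← hF]; exact Fintype.card_pos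
  have hle : q ^ (m - 1) ≤ q ^ (2 * m - 1) := by
    rw [← e]
    exact Nat.le_mul_of_pos_left _ (pow_pos h0 m)
  omega

end Cfsg.Agent.S0289
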