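import Mathlib
import Cfsg.Statements.S0290
import Cfsg.Agent.Lib.Helper1.QuadCount

set_option autoImplicit false
open Cfsg
open Cfsg.Agent.Lib.Helper1

namespace Cfsg.Agent.S0290

/-- The minus-type quadratic form on F^(2m), m at least 1, has q^(2m-1) + q^(m-1) - q^m zeros (that is, (q^m + 1)(q^(m-1) - 1) non-zero isotropic vectors). -/
theorem result {F : Type*} [Field F] [Fintype F] {q : ℕ} (hF : Fintype.card F = q) (m : ℕ) (hm : 1 ≤ m) (a b : F) (hab : ∀ z₁ z₂ : F, z₁ ^ 2 + a * z₁ * z₂ + b * z₂ ^ 2 = 0 → z₁ = 0 ∧ z₂ = 0) : Nat.card {v : (Fin (m - 1) ⊕ Fin (m - 1)) ⊕ Fin 2 → F // Cfsg.quadFormMinus (m - 1) F a b v = 0} = q ^ (2 * m - 1) + q ^ (m - 1) - q ^ m := by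
  classical
  rw [Nat.card_eq_fintype_card, Fintype.card_subtype]
  have h0 : 0 < q := by rw [← hF]; exact Fintype.card_pos
  obtain ⟨k, rfl⟩ : ∃ k, m = k + 1 := ⟨m - 1, by omega⟩
  simp only [Nat.add_sub_cancel]
  have h1 := card_sum_split_right (F := F) (α := Fin k ⊕ Fin k) (β := Fin 2)
    (fun u => ∑ i : Fin k, u (.inl i) * u (.inr i))
    (fun w => w 0 ^ 2 + a * w 0 * w 1 + b * w 1 ^ 2)
  beta_reduce at h1
  have h2 : (Finset.univ.filter (fun v : (Fin k ⊕ Fin k) ⊕ Fin 2 → F =>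
      Cfsg.quadFormMinus k F a b v = 0)).card = _ := h1
  refine h2.trans ?_
  have h4 : ∀ w : Fin 2 → F, (Finset.univ.filter (fun u : Fin k ⊕ Fin k → F =>
      ∑ i : Fin k, u (.inl i) * u (.inr i) = -(w 0 ^ 2 + a * w 0 * w 1 + b * w 1 ^ 2))).card =
      (if w = 0 then q ^ k else 0) + (q ^ k - 1) * q ^ (k - 1) := by
    intro w
    rw [← hF]
    have hiff : (-(w 0 ^ 2 + a * w 0 * w 1 + b * w 1 ^ 2) = 0) ↔ w = 0 := by
      rw [neg_eq_zero]
      constructor
      · intro h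
        obtain ⟨h1, h2⟩ := hab _ _ h
        funext i
        fin_cases i
        · exact h1
        · exact h2
      · rintro rfl; simp
    have := card_hyperbolic_eq (F := F) k (-(w 0 ^ 2 + a * w 0 * w 1 + b * w 1 ^ 2))
    simp only [hiff] at this
    convert this
  rw [Finset.sum_congr rfl (fun w _ => h4 w)]
  have hcardW : Fintype.card (Fin 2 → F) = q ^ 2 := by
    rw [Fintype.card_fun, Fintype.card_fin, hF]
  rw [Finset.sum_add_distrib, Finset.sum_const, Finset.card_univ, hcardW, smul_eq_mul,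
    Finset.sum_ite_eq' Finset.univ (0 : Fin 2 → F) (fun _ => q ^ k)]
  simp only [Finset.mem_univ, if_true]
  rcases Nat.eq_zero_or_pos k with hk | hk
  · subst hk; simp
  · have e1 : q ^ 2 * ((q ^ k - 1) * q ^ (k - 1)) = (q ^ k - 1) * q ^ (k + 1) := by
      have : q ^ 2 * q ^ (k - 1) = q ^ (k + 1) := by
        rw [← pow_add]; congr 1; omega
      rw [← this]; ring
    rw [e1, Nat.sub_mul, one_mul]
    have e2 : q ^ k * q ^ (k + 1) = q ^ (2 * (k + 1) - 1) := by rw [← pow_add]; congr 1; omega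
    rw [e2]
    have hle : q ^ (k + 1) ≤ q ^ (2 * (k + 1) - 1) := Nat.pow_le_pow_right h0 (by omega)
    omega

end Cfsg.Agent.S0290
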