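import Mathlib
import Cfsg.Statements.S0291
import Cfsg.Agent.Lib.Helper1.QuadCount

set_option autoImplicit false
open Cfsg
open Cfsg.Agent.Lib.Helper1

namespace Cfsg.Agent.S0291

/-- For q odd, the form x_0^2 + sum_{i<m} x_i y_i on F^(2m+1) has exactly q^(2m) zeros. -/
theorem result {F : Type*} [Field F] [Fintype F] {q : ℕ} (hF : Fintype.card F = q) (hodd : Odd q) (m : ℕ) : Nat.card {v : Unit ⊕ (Fin m ⊕ Fin m) → F // Cfsg.quadFormOdd m F v = 0} = q ^ (2 * m) := by
  classical
  rw [Nat.card_eq_fintype_card, Fintype.card_subtype]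
  have h0 : 0 < q := by rw [← hF]; exact Fintype.card_pos
  have h1 := card_sum_split_left (F := F) (α := Unit) (β := Fin m ⊕ Fin m)
    (fun u => (u ()) ^ 2) (fun w => ∑ i : Fin m, w (.inl i) * w (.inr i))
  beta_reduce at h1
  have h2 : (Finset.univ.filter (fun v : Unit ⊕ (Fin m ⊕ Fin m) → F =>
      Cfsg.quadFormOdd m F v = 0)).card = _ := h1
  rw [h2]
  have h4 : ∀ u : Unit → F, (Finset.univ.filter (fun w : Fin m ⊕ Fin m → F =>
      ∑ i : Fin m, w (.inl i) * w (.inr i) = -u () ^ 2)).card =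
      (if -u () ^ 2 = 0 then q ^ m else 0) + (q ^ m - 1) * q ^ (m - 1) := by
    intro u
    rw [← hF]
    convert card_hyperbolic_eq (F := F) m (-u () ^ 2)
  rw [Finset.sum_congr rfl (fun u _ => h4 u)]
  have hcardU : Fintype.card (Unit → F) = q := by
    rw [Fintype.card_fun, Fintype.card_unit, pow_one, hF]
  rw [Finset.sum_add_distrib, Finset.sum_const, Finset.card_univ, hcardU, smul_eq_mul]
  have h3 : ∑ u : Unit → F, (if -(u ()) ^ 2 = 0 then q ^ m else 0) = q ^ m := by
    have hs := Fintype.sum_equiv (Equiv.funUnique Unit F)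
      (fun u : Unit → F => if -u () ^ 2 = 0 then q ^ m else 0)
      (fun a : F => if -a ^ 2 = 0 then q ^ m else 0) (fun u => rfl)
    rw [hs]
    have : ∀ a : F, (-a ^ 2 = 0) ↔ a = 0 := by
      intro a; simp
    simp only [this]
    rw [Finset.sum_ite_eq' Finset.univ (0 : F) (fun _ => q ^ m)]
    simp
  rw [h3]
  rcases Nat.eq_zero_or_pos m with hm | hm
  · subst hm; simp
  · have e1 : q * ((q ^ m - 1) * q ^ (m - 1)) = (q ^ m - 1) * q ^ m := by
      have : q * q ^ (m - 1) = q ^ m := by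
        rw [← pow_succ']; congr 1; omega
      rw [← this]; ring
    rw [e1, Nat.sub_mul, one_mul]
    have e2 : q ^ m * q ^ m = q ^ (2 * m) := by rw [← pow_add]; congr 1; omega
    rw [e2]
    have hle : q ^ m ≤ q ^ (2 * m) := Nat.pow_le_pow_right h0 (by omega)
    omega

end Cfsg.Agent.S0291
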