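import Mathlib
import Cfsg.Statements.S2569
import Cfsg.Agent.Lib.Helper5.PrimaryDecomp

set_option autoImplicit false
open Cfsg

namespace Cfsg.Agent.S2569

open Polynomial Module Cfsg.Agent.Lib.Helper5

section split
variable {F : Type*} [Field F] {ι : Type*} [DecidableEq ι] (i : ι) (Q : ι → Type*)
  [∀ j, AddCommGroup (Q j)] [∀ j, Module F (Q j)]

/-- Splitting off one factor of a product, linearly. -/
def piSplit : (∀ j, Q j) ≃ₗ[F] (Q i × (∀ j : {j // j ≠ i}, Q j)) :=
  { Equiv.piSplitAt i Q with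
    map_add' := fun _ _ => rfl
    map_smul' := fun _ _ => rfl }

@[simp] theorem piSplit_apply (y : ∀ j, Q j) :
    piSplit (F := F) i Q y = (y i, fun j : {j // j ≠ i} => y j) := rfl

theorem piSplit_symm_apply_same (a : Q i) (b : ∀ j : {j // j ≠ i}, Q j) :
    (piSplit (F := F) i Q).symm (a, b) i = a := by
  show (Equiv.piSplitAt i Q).symm (a, b) i = a
  simp [Equiv.piSplitAt]

theorem piSplit_symm_apply_ne (a : Q i) (b : ∀ j : {j // j ≠ i}, Q j) (j : ι) (hj : j ≠ i) :
    (piSplit (F := F) i Q).symm (a, b) j = b ⟨j, hj⟩ := by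
  show (Equiv.piSplitAt i Q).symm (a, b) j = b ⟨j, hj⟩
  simp [Equiv.piSplitAt, hj]

/-- Apply an endomorphism to one factor of a product. -/
def onFactor [∀ j, Module.Finite F (Q j)] [Fintype ι] (f : Q i →ₗ[F] Q i) : (∀ j, Q j) →ₗ[F] (∀ j, Q j) :=
  (piSplit (F := F) i Q).symm.toLinearMap ∘ₗ (f.prodMap LinearMap.id) ∘ₗ (piSplit (F := F) i Q).toLinearMap

theorem onFactor_apply_same [∀ j, Module.Finite F (Q j)] [Fintype ι] (f : Q i →ₗ[F] Q i) (y : ∀ j, Q j) :
    onFactor i Q f y i = f (y i) := by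
  simp [onFactor, piSplit_symm_apply_same]

theorem onFactor_apply_ne [∀ j, Module.Finite F (Q j)] [Fintype ι] (f : Q i →ₗ[F] Q i) (y : ∀ j, Q j)
    (j : ι) (hj : j ≠ i) : onFactor i Q f y j = y j := by
  simp [onFactor, piSplit_symm_apply_ne (F := F) i Q _ _ j hj]

theorem det_onFactor [∀ j, Module.Finite F (Q j)] [Fintype ι] (f : Q i →ₗ[F] Q i) :
    LinearMap.det (onFactor i Q f) = LinearMap.det f := by
  have h := LinearMap.det_conj (f.prodMap (LinearMap.id : (∀ j : {j // j ≠ i}, Q j) →ₗ[F] _))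
    (piSplit (F := F) i Q).symm
  rw [LinearEquiv.symm_symm] at h
  rw [onFactor, h, LinearMap.det_prodMap, LinearMap.det_id, mul_one]

end split

section main
variable {F : Type*} [Field F] [Fintype F] {p : ℕ} [Fact p.Prime] [CharP F p]
  {V : Type*} [AddCommGroup V] [Module F V] [FiniteDimensional F V] [Nontrivial V]

theorem exists_commuting_det (φ : V →ₗ[F] V) (k : ℕ) (hk : k.Coprime p) (hφ : φ ^ k = 1) (d : F) :
    ∃ c : V →ₗ[F] V, LinearMap.det c = d ∧ c ∘ₗ φ = φ ∘ₗ c := by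
  classical
  obtain ⟨ι, _, p', hp', e, Ψ, hΨ⟩ := exists_primary_decomp φ
  have hΨX := primary_decomp_X φ Ψ hΨ
  set q : F[X] := X ^ k - 1 with hq
  have hqφ : aeval φ q = 0 := by
    rw [hq, map_sub, map_pow, aeval_X, hφ, map_one, sub_self]
  -- each p j ^ e j divides q
  have hdvd : ∀ j, p' j ^ e j ∣ q := by
    intro j
    have h1 := hΨ q (Ψ.symm (Pi.single j 1)) j
    rw [hqφ, LinearMap.zero_apply, map_zero, LinearEquiv.apply_symm_apply, Pi.single_eq_same,
      mul_one] at h1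
    have h2 : Ideal.Quotient.mk (F[X] ∙ p' j ^ e j) q = 0 := h1.symm
    rw [Ideal.Quotient.eq_zero_iff_mem] at h2
    exact Ideal.mem_span_singleton.1 h2
  -- q is squarefree
  have hk0 : (k : F) ≠ 0 := by
    intro h
    rw [CharP.cast_eq_zero_iff F p] at h
    have := Nat.Coprime.eq_one_of_dvd hk.symm h
    exact (Fact.out : p.Prime).one_lt.ne' this
  have hsq : Squarefree q := by
    have : q = X ^ k - C 1 := by rw [hq, map_one]
    rw [this]
    exact (Polynomial.separable_X_pow_sub_C (1 : F) hk0 one_ne_zero).squarefree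
  have he1 : ∀ j, e j ≤ 1 := by
    intro j
    by_contra hcon
    push Not at hcon
    have h1 : p' j * p' j ∣ q := by
      refine dvd_trans ?_ (hdvd j)
      rw [← pow_two]
      exact pow_dvd_pow _ hcon
    exact (hp' j).not_isUnit (hsq _ h1)
  -- some e i = 1
  obtain ⟨i, hi⟩ : ∃ i, e i = 1 := by
    by_contra hcon
    push Not at hcon
    have h0 : ∀ j, e j = 0 := fun j => by
      have := he1 j; have := hcon j; omega
    have hsub : ∀ j, Subsingleton (F[X] ⧸ F[X] ∙ p' j ^ e j) := by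
      intro j
      rw [h0 j, pow_zero]
      have : (F[X] ∙ (1 : F[X])) = ⊤ := Ideal.span_singleton_one
      rw [this]
      exact Submodule.Quotient.subsingleton_iff.2 rfl
    have : Subsingleton (∀ j, F[X] ⧸ F[X] ∙ p' j ^ e j) := inferInstance
    have : Subsingleton V := Ψ.toEquiv.subsingleton
    exact not_subsingleton V this
  -- the field E = F[X]/(p i)
  have hirr : Irreducible (p' i ^ e i) := by rw [hi, pow_one]; exact hp' i
  have : Fact (Irreducible (p' i ^ e i)) := ⟨hirr⟩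
  have hne : ∀ j, p' j ^ e j ≠ 0 := fun j => pow_ne_zero _ (hp' j).ne_zero
  have hfin : ∀ j, Module.Finite F (F[X] ⧸ F[X] ∙ p' j ^ e j) := fun j =>
    (AdjoinRoot.powerBasis (hne j)).finite
  have hfinE : Module.Finite F (AdjoinRoot (p' i ^ e i)) := (AdjoinRoot.powerBasis (hne i)).finite
  have : Finite (AdjoinRoot (p' i ^ e i)) := Module.finite_of_finite F
  obtain ⟨u, hu⟩ := FiniteField.norm_surjective F (AdjoinRoot (p' i ^ e i)) d
  let f : (F[X] ⧸ F[X] ∙ p' i ^ e i) →ₗ[F] (F[X] ⧸ F[X] ∙ p' i ^ e i) :=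
    Algebra.lmul F (AdjoinRoot (p' i ^ e i)) u
  have hfdet : LinearMap.det f = d := by
    rw [← hu, Algebra.norm_apply]
    rfl
  let u' : F[X] ⧸ F[X] ∙ p' i ^ e i := u
  have hfmul : ∀ z : F[X] ⧸ F[X] ∙ p' i ^ e i, f z = u' * z := fun z => rfl
  -- the map T
  set T := onFactor i (fun j => F[X] ⧸ F[X] ∙ p' j ^ e j) f with hT
  have hTdet : LinearMap.det T = d := by
    rw [hT, det_onFactor, hfdet]
  have hTX : ∀ (y z : ∀ j, F[X] ⧸ F[X] ∙ p' j ^ e j),
      (∀ j, z j = Ideal.Quotient.mk (F[X] ∙ p' j ^ e j) X * y j) →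
      ∀ j, T z j = Ideal.Quotient.mk (F[X] ∙ p' j ^ e j) X * T y j := by
    intro y z hz j
    by_cases hj : j = i
    · subst hj
      rw [hT, onFactor_apply_same, onFactor_apply_same, hz, hfmul, hfmul]
      ring
    · rw [hT, onFactor_apply_ne _ _ _ _ j hj, onFactor_apply_ne _ _ _ _ j hj, hz]
  refine ⟨Ψ.symm.toLinearMap ∘ₗ T ∘ₗ Ψ.toLinearMap, ?_, ?_⟩
  · have h := LinearMap.det_conj T Ψ.symm
    rw [LinearEquiv.symm_symm] at h
    rw [h, hTdet]
  · apply LinearMap.ext
    intro v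
    apply Ψ.injective
    funext j
    simp only [LinearMap.comp_apply, LinearEquiv.coe_coe, LinearEquiv.apply_symm_apply]
    rw [hΨX]
    rw [LinearEquiv.apply_symm_apply]
    exact hTX (Ψ v) (Ψ (φ v)) (fun j => hΨX v j) j

end main

theorem result {F : Type*} [Field F] [Fintype F] {p : ℕ} [Fact p.Prime] [CharP F p] {n : ℕ} (x g : GL (Fin n) F) (hx : (orderOf x).Coprime p) : ∃ h : GL (Fin n) F, (h : Matrix (Fin n) (Fin n) F).det = 1 ∧ h * x * h⁻¹ = g * x * g⁻¹ := by
  rcases Nat.eq_zero_or_pos n with hn | hn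
  · subst hn
    refine ⟨1, ?_, ?_⟩
    · simp
    · exact Subsingleton.elim _ _
  · have : Nonempty (Fin n) := ⟨⟨0, hn⟩⟩
    set φ : (Fin n → F) →ₗ[F] (Fin n → F) := Matrix.toLinAlgEquiv' (x : Matrix (Fin n) (Fin n) F) with hφ
    have hφk : φ ^ (orderOf x) = 1 := by
      rw [hφ, ← map_pow, ← Units.val_pow_eq_pow_val, pow_orderOf_eq_one, Units.val_one, map_one]
    obtain ⟨c, hcdet, hccomm⟩ := exists_commuting_det φ (orderOf x) hx hφk
      (g : Matrix (Fin n) (Fin n) F).det
    set C : Matrix (Fin n) (Fin n) F := Matrix.toLinAlgEquiv'.symm c with hC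
    have hCc : Matrix.toLinAlgEquiv' C = c := by rw [hC, AlgEquiv.apply_symm_apply]
    have hCdet : C.det = (g : Matrix (Fin n) (Fin n) F).det := by
      have h0 : Matrix.toLinAlgEquiv' C = Matrix.toLin' C := rfl
      rw [← hcdet, ← hCc, h0, LinearMap.det_toLin']
    have hCx : C * (x : Matrix (Fin n) (Fin n) F) = (x : Matrix (Fin n) (Fin n) F) * C := by
      apply Matrix.toLinAlgEquiv'.injective
      rw [map_mul, map_mul, hCc]
      exact hccomm
    have hgdet : (g : Matrix (Fin n) (Fin n) F).det ≠ 0 := by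
      have := Matrix.GeneralLinearGroup.det g |>.ne_zero
      simpa using this
    let C' : GL (Fin n) F := Matrix.GeneralLinearGroup.mkOfDetNeZero C (by rw [hCdet]; exact hgdet)
    have hC'coe : (C' : Matrix (Fin n) (Fin n) F) = C := rfl
    have hC'x : C' * x = x * C' := by
      apply Units.ext
      rw [Units.val_mul, Units.val_mul, hC'coe]
      exact hCx
    refine ⟨g * C'⁻¹, ?_, ?_⟩
    · have h1 : ((g * C'⁻¹ : GL (Fin n) F) : Matrix (Fin n) (Fin n) F).det
          = Matrix.GeneralLinearGroup.det (g * C'⁻¹) := rfl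
      rw [h1, map_mul, map_inv]
      have h2 : (Matrix.GeneralLinearGroup.det g : Fˣ) = Matrix.GeneralLinearGroup.det C' := by
        apply Units.ext
        show (g : Matrix (Fin n) (Fin n) F).det = (C' : Matrix (Fin n) (Fin n) F).det
        rw [hC'coe, hCdet]
      rw [h2, mul_inv_cancel]
      rfl
    · have : C'⁻¹ * x * C' = x := by
        rw [mul_assoc, ← hC'x, ← mul_assoc, inv_mul_cancel, one_mul]
      calc g * C'⁻¹ * x * (g * C'⁻¹)⁻¹ = g * (C'⁻¹ * x * C') * g⁻¹ := by
            rw [mul_inv_rev, inv_inv]; group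
        _ = g * x * g⁻¹ := by rw [this]


end Cfsg.Agent.S2569
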