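import Mathlib
import Cfsg.Statements.S2388
import Cfsg.Agent.S2569
import Cfsg.Agent.Lib.Helper5.SemisimpleConj

set_option autoImplicit false
open Cfsg

namespace Cfsg.Agent.S2388

open Polynomial Cfsg.Agent.Lib.Helper5

/-- Matrices of finite order prime to the characteristic with equal characteristic polynomials are
similar. -/
theorem exists_gl_conj {F : Type*} [Field F] (p : ℕ) [Fact p.Prime] [CharP F p] {n : ℕ}
    (A B : Matrix (Fin n) (Fin n) F) (k : ℕ) (hk : k.Coprime p) (hA : A ^ k = 1) (hB : B ^ k = 1)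
    (hc : A.charpoly = B.charpoly) :
    ∃ P : Matrix (Fin n) (Fin n) F, IsUnit P.det ∧ P * A = B * P := by
  classical
  have hk0 : (k : F) ≠ 0 := by
    intro h
    have h1 : p ∣ k := (CharP.cast_eq_zero_iff F p k).1 h
    have h2 : p ∣ Nat.gcd k p := Nat.dvd_gcd h1 dvd_rfl
    rw [hk] at h2
    exact (Fact.out : p.Prime).one_lt.ne' (Nat.dvd_one.1 h2)
  have hs : Squarefree (X ^ k - 1 : F[X]) := by
    have : (X ^ k - C (1 : F)).Separable := Polynomial.separable_X_pow_sub_C 1 hk0 one_ne_zero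
    rw [map_one] at this
    exact this.squarefree
  have hφ : aeval (Matrix.toLin' A) (X ^ k - 1 : F[X]) = 0 := by
    rw [map_sub, map_pow, aeval_X, map_one, ← Matrix.toLin'_pow, hA, Matrix.toLin'_one]
    exact sub_self _
  have hψ : aeval (Matrix.toLin' B) (X ^ k - 1 : F[X]) = 0 := by
    rw [map_sub, map_pow, aeval_X, map_one, ← Matrix.toLin'_pow, hB, Matrix.toLin'_one]
    exact sub_self _
  obtain ⟨E, hE⟩ := conj_of_charpoly_eq (Matrix.toLin' A) (Matrix.toLin' B) _ hs hφ hψ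
    (by rw [Matrix.charpoly_toLin', Matrix.charpoly_toLin', hc])
  refine ⟨LinearMap.toMatrix' E.toLinearMap, ?_, ?_⟩
  · have h1 : LinearMap.toMatrix' E.toLinearMap * LinearMap.toMatrix' E.symm.toLinearMap = 1 := by
      rw [← LinearMap.toMatrix'_comp]
      have : E.toLinearMap ∘ₗ E.symm.toLinearMap = LinearMap.id := by
        ext v; simp
      rw [this, LinearMap.toMatrix'_id]
    exact IsUnit.of_mul_eq_one _ (by rw [← Matrix.det_mul, h1, Matrix.det_one])
  · have h2 : E.toLinearMap ∘ₗ Matrix.toLin' A = Matrix.toLin' B ∘ₗ E.toLinearMap := by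
      apply LinearMap.ext
      intro v
      exact hE v
    have h3 := congrArg LinearMap.toMatrix' h2
    rwa [LinearMap.toMatrix'_comp, LinearMap.toMatrix'_comp, LinearMap.toMatrix'_toLin',
      LinearMap.toMatrix'_toLin'] at h3

theorem result {F : Type*} [Field F] [Fintype F] (p : ℕ) [Fact p.Prime] [CharP F p] (n : ℕ)
    (g h : Matrix.SpecialLinearGroup (Fin n) F) (hg : (orderOf g).Coprime p) (hh : (orderOf h).Coprime p)
    (hc : (g : Matrix (Fin n) (Fin n) F).charpoly = (h : Matrix (Fin n) (Fin n) F).charpoly) : IsConj g h := by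
  classical
  have hkc : (orderOf g * orderOf h).Coprime p := Nat.Coprime.mul_left hg hh
  have hA : (g : Matrix (Fin n) (Fin n) F) ^ (orderOf g * orderOf h) = 1 := by
    rw [← Matrix.SpecialLinearGroup.coe_pow, pow_mul, pow_orderOf_eq_one, one_pow]
    rfl
  have hB : (h : Matrix (Fin n) (Fin n) F) ^ (orderOf g * orderOf h) = 1 := by
    rw [← Matrix.SpecialLinearGroup.coe_pow, mul_comm, pow_mul, pow_orderOf_eq_one, one_pow]
    rfl
  obtain ⟨P, hP, hPAB⟩ := exists_gl_conj p g.1 h.1 _ hkc hA hB hc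
  let Pu : GL (Fin n) F := Matrix.GeneralLinearGroup.mk'' P hP
  let gu : GL (Fin n) F := Matrix.SpecialLinearGroup.toGL g
  have hgu : (orderOf gu).Coprime p := by
    have : orderOf gu = orderOf g :=
      orderOf_injective (Matrix.SpecialLinearGroup.toGL (n := Fin n) (R := F))
        Matrix.SpecialLinearGroup.toGL_injective g
    rw [this]; exact hg
  obtain ⟨y, hy1, hy2⟩ := Cfsg.Agent.S2569.result (p := p) gu Pu hgu
  -- y has determinant one
  let ys : Matrix.SpecialLinearGroup (Fin n) F := ⟨y.1, hy1⟩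
  rw [isConj_iff]
  refine ⟨ys, ?_⟩
  apply Subtype.ext
  have h1 : y.1 * g.1 * (y⁻¹).1 = P * g.1 * (Pu⁻¹).1 := by
    have := congrArg Units.val hy2
    simpa [gu, Pu] using this
  have h2 : P * (Pu⁻¹).1 = 1 := Units.mul_inv Pu
  have h3 : y.1 * g.1 * (y⁻¹).1 = h.1 := by
    rw [h1, hPAB, Matrix.mul_assoc, h2, Matrix.mul_one]
  have h4 : (ys⁻¹).1 = (y⁻¹).1 := by
    have h5 : y.1 * (ys⁻¹).1 = 1 := by
      have h7 : (ys * ys⁻¹).1 = 1 := by rw [mul_inv_cancel]; rfl
      rw [Matrix.SpecialLinearGroup.coe_mul] at h7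
      exact h7
    have h6 : (y⁻¹).1 * y.1 = 1 := Units.inv_mul y
    calc (ys⁻¹).1 = ((y⁻¹).1 * y.1) * (ys⁻¹).1 := by rw [h6, Matrix.one_mul]
      _ = (y⁻¹).1 := by rw [Matrix.mul_assoc, h5, Matrix.mul_one]
  show (ys * g * ys⁻¹).1 = h.1
  rw [Matrix.SpecialLinearGroup.coe_mul, Matrix.SpecialLinearGroup.coe_mul, h4]
  exact h3

end Cfsg.Agent.S2388
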