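import Mathlib
import Cfsg.Statements.S2618
import Cfsg.Agent.Lib.Helper5.QuadFin

set_option autoImplicit false
open Cfsg

namespace Cfsg.Agent.S2618

open Module QuadraticMap Cfsg.Agent.Lib.Helper5

theorem result {F V : Type*} [Field F] [Finite F] [AddCommGroup V] [Module F V] [FiniteDimensional F V] {m : ℕ} (hV : Module.finrank F V = 2 * m + 1) (Q : QuadraticForm F V) (hQ : (QuadraticMap.polarBilin Q).Nondegenerate) : ∃ b : Module.Basis (Unit ⊕ (Fin m ⊕ Fin m)) F V, Q (b (Sum.inl ())) ≠ 0 ∧ (∀ i, QuadraticMap.polar ⇑Q (b (Sum.inl ())) (b (Sum.inr (Sum.inl i))) = 0 ∧ QuadraticMap.polar ⇑Q (b (Sum.inl ())) (b (Sum.inr (Sum.inr i))) = 0) ∧ (∀ i, Q (b (Sum.inr (Sum.inl i))) = 0 ∧ Q (b (Sum.inr (Sum.inr i))) = 0) ∧ (∀ i j, QuadraticMap.polar ⇑Q (b (Sum.inr (Sum.inl i))) (b (Sum.inr (Sum.inr j))) = if i = j then 1 else 0) ∧ (∀ i j, QuadraticMap.polar ⇑Q (b (Sum.inr (Sum.inl i))) (b (Sum.inr (Sum.inl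 j))) = 0 ∧ QuadraticMap.polar ⇑Q (b (Sum.inr (Sum.inr i))) (b (Sum.inr (Sum.inr j))) = 0) := by
  classical
  obtain ⟨k, e, f, W, hH, hmem, hdim, hW2, haniso⟩ := exists_witt Q hQ
  have hW1 : finrank F W = 1 := by omega
  obtain rfl : k = m := by omega
  obtain ⟨x', hx'⟩ := Module.finrank_pos_iff_exists_ne_zero.1 (by rw [hW1]; exact Nat.one_pos : 0 < finrank F W)
  set x : V := x'.1 with hxdef
  have hx0 : x ≠ 0 := fun h => hx' (Subtype.ext h)
  have hxW : x ∈ W := x'.2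
  have hQx : Q x ≠ 0 := fun h => hx0 (haniso x hxW h)
  have hxe : ∀ i, polar Q x (e i) = 0 := fun i => by rw [polar_comm]; exact ((hmem x).1 hxW i).1
  have hxf : ∀ i, polar Q x (f i) = 0 := fun i => by rw [polar_comm]; exact ((hmem x).1 hxW i).2
  have hli := hH.linearIndependent Q (fun _ : Unit => x)
    (linearIndependent_unique_iff.2 hx0) (fun _ i => hxe i) (fun _ i => hxf i)
  have hcard : Fintype.card ((Fin k ⊕ Fin k) ⊕ Unit) = finrank F V := by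
    rw [hV]; simp; ring
  let b₀ : Basis ((Fin k ⊕ Fin k) ⊕ Unit) F V := basisOfLinearIndependentOfCardEqFinrank hli hcard
  let b : Basis (Unit ⊕ (Fin k ⊕ Fin k)) F V := b₀.reindex (Equiv.sumComm _ _)
  have hb1 : b (Sum.inl ()) = x := by
    simp [b, b₀, Basis.reindex_apply]
  have hb2 : ∀ i, b (Sum.inr (Sum.inl i)) = e i := by
    intro i; simp [b, b₀, Basis.reindex_apply]
  have hb3 : ∀ i, b (Sum.inr (Sum.inr i)) = f i := by
    intro i; simp [b, b₀, Basis.reindex_apply]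
  refine ⟨b, ?_, ?_, ?_, ?_, ?_⟩
  · rw [hb1]; exact hQx
  · intro i; rw [hb1, hb2, hb3]; exact ⟨hxe i, hxf i⟩
  · intro i; rw [hb2, hb3]; exact ⟨hH.qe i, hH.qf i⟩
  · intro i j; rw [hb2, hb3]; exact hH.ef i j
  · intro i j; rw [hb2, hb2, hb3, hb3]; exact ⟨hH.ee i j, hH.ff i j⟩

end Cfsg.Agent.S2618
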