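import Mathlib
import Cfsg.Statements.S2904

set_option autoImplicit false
open Cfsg

namespace Cfsg.Agent.S2904

open Polynomial


/-- reduction mod r -/
lemma isRoot_of_dvd {r : ℕ} [Fact r.Prime] {n a : ℕ}
    (h : (r : ℤ) ∣ (cyclotomic n ℤ).eval (a : ℤ)) :
    (cyclotomic n (ZMod r)).IsRoot (a : ZMod r) := by
  rw [← map_cyclotomic_int n (ZMod r), IsRoot.def]
  have h1 := eval_intCast_map (Int.castRingHom (ZMod r)) (cyclotomic n ℤ) (a : ℤ)
  simp only [Int.cast_natCast, eq_intCast] at h1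
  rw [h1]
  exact (ZMod.intCast_zmod_eq_zero_iff_dvd _ _).2 h

lemma dvd_iff {r : ℕ} {a : ℕ} (ha : 0 < a) (k : ℕ) :
    r ∣ a ^ k - 1 ↔ (a : ZMod r) ^ k = 1 := by
  rw [← ZMod.natCast_eq_zero_iff, Nat.cast_pred (pow_pos ha k), Nat.cast_pow, sub_eq_zero]

lemma psi_dvd (n a : ℕ) : (cyclotomic n ℤ).eval (a : ℤ) ∣ (a : ℤ) ^ n - 1 := by
  have := cyclotomic.dvd_X_pow_sub_one n ℤ
  have h2 := eval_dvd (x := (a : ℤ)) this
  simpa using h2

lemma psi_mul_dvd {n d : ℕ} (a : ℕ) (hd : d ∣ n) (hdn : d < n) :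
    ((a : ℤ) ^ d - 1) * (cyclotomic n ℤ).eval (a : ℤ) ∣ (a : ℤ) ^ n - 1 := by
  have := X_pow_sub_one_mul_cyclotomic_dvd_X_pow_sub_one_of_dvd ℤ (d := d) (n := n)
    (Nat.mem_properDivisors.2 ⟨hd, hdn⟩)
  have h2 := eval_dvd (x := (a : ℤ)) this
  simpa using h2

/-- structure of non-primitive prime divisors -/
lemma key {r : ℕ} (hr : r.Prime) {n a : ℕ} (hn : 0 < n) (ha : 0 < a)
    (h : (r : ℤ) ∣ (cyclotomic n ℤ).eval (a : ℤ)) :
    ∃ e m, n = r ^ e * m ∧ m ∣ r - 1 ∧ ∀ k, r ∣ a ^ k - 1 → m ∣ k := by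
  haveI : Fact r.Prime := ⟨hr⟩
  obtain ⟨e, m, hm, hnm⟩ := Nat.exists_eq_pow_mul_and_not_dvd hn.ne' r hr.ne_one
  have hroot := isRoot_of_dvd h
  haveI : NeZero ((m : ℕ) : ZMod r) := ⟨fun h0 => hm ((ZMod.natCast_eq_zero_iff m r).1 h0)⟩
  rw [hnm, isRoot_cyclotomic_prime_pow_mul_iff_of_charP] at hroot
  have hord := hroot.eq_orderOf
  have ha0 : (a : ZMod r) ≠ 0 := by
    intro h0
    have := hroot.pow_eq_one
    rw [h0, zero_pow] at this
    · exact zero_ne_one this
    · rintro rfl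
      simp at hnm
      omega
  refine ⟨e, m, hnm, ?_, ?_⟩
  · rw [hord]; exact ZMod.orderOf_dvd_card_sub_one ha0
  · intro k hk
    rw [dvd_iff ha] at hk
    exact hroot.dvd_of_pow_eq_one k hk

lemma not_sq_dvd_odd {r : ℕ} (hr : r.Prime) (hodd : Odd r) {n a : ℕ} (ha : 2 ≤ a)
    (hrn : r ∣ n) (hn : 0 < n)
    (h : (r : ℤ) ∣ (cyclotomic n ℤ).eval (a : ℤ)) :
    ¬ (r : ℤ) ^ 2 ∣ (cyclotomic n ℤ).eval (a : ℤ) := by
  haveI : Fact r.Prime := ⟨hr⟩
  intro hsq
  obtain ⟨d, hd⟩ := hrn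
  have hd0 : 0 < d := by
    rcases Nat.eq_zero_or_pos d with h0 | h0
    · subst h0; omega
    · exact h0
  have hdn : d < n := by
    rw [hd]; nlinarith [hr.two_le]
  have hdvd := psi_mul_dvd a (Dvd.intro_left r hd.symm) hdn
  set c : ℤ := (a : ℤ) ^ d with hc
  have hcn : (a : ℤ) ^ n = c ^ r := by rw [hc, ← pow_mul, hd, mul_comm]
  rw [hcn] at hdvd
  -- r ∣ c - 1
  have h1 : (r : ℤ) ∣ c ^ r - 1 := by
    rw [← hcn]; exact h.trans (psi_dvd n a)
  have hc1 : (r : ℤ) ∣ c - 1 := by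
    rw [← ZMod.intCast_zmod_eq_zero_iff_dvd] at h1 ⊢
    push_cast at h1 ⊢
    rwa [ZMod.pow_card] at h1
  have hcr : ¬ (r : ℤ) ∣ c := by
    intro h2
    have := (dvd_sub h2 hc1)
    rw [sub_sub_cancel] at this
    have h3 := Int.natAbs_dvd_natAbs.2 this
    simp at h3
    exact hr.one_lt.ne' h3
  have hlte := Int.emultiplicity_pow_sub_pow hr hodd (x := c) (y := 1) (by simpa using hc1) hcr r
  rw [one_pow, hr.emultiplicity_self] at hlte
  have hc2 : c - 1 ≠ 0 := by
    have : (2 : ℤ) ≤ c := by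
      rw [hc]
      calc (2 : ℤ) ≤ a := by exact_mod_cast ha
        _ = (a : ℤ) ^ 1 := (pow_one _).symm
        _ ≤ (a : ℤ) ^ d := pow_le_pow_right₀ (by linarith [show (2 : ℤ) ≤ a by exact_mod_cast ha]) hd0
    intro h0; linarith
  have hfin : FiniteMultiplicity (r : ℤ) (c - 1) := by
    rw [Int.finiteMultiplicity_iff]
    exact ⟨by simpa using hr.one_lt.ne', hc2⟩
  have hdvd2 : (r : ℤ) ^ 2 * (c - 1) ∣ c ^ r - 1 := by
    refine dvd_trans ?_ hdvd
    rw [mul_comm]
    exact mul_dvd_mul_left _ hsq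
  have hle := emultiplicity_le_emultiplicity_of_dvd_right (a := (r : ℤ)) hdvd2
  have hpr : Prime (r : ℤ) := Nat.prime_iff_prime_int.1 hr
  rw [emultiplicity_mul hpr, hlte, hfin.emultiplicity_eq_multiplicity] at hle
  have h4 : emultiplicity (r : ℤ) ((r : ℤ) ^ 2) = 2 := by
    rw [emultiplicity_pow_self hpr.ne_zero hpr.not_isUnit]
    rfl
  rw [h4] at hle
  have : ((2 + multiplicity (r : ℤ) (c - 1) : ℕ) : ℕ∞) ≤ ((multiplicity (r : ℤ) (c - 1) + 1 : ℕ) : ℕ∞) := by
    push_cast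
    exact hle
  have := Nat.cast_le.1 this
  omega

lemma not_four_dvd {n a e : ℕ} (ha : 2 ≤ a) (he : 2 ≤ e) (hn : n = 2 ^ e) :
    ¬ (2 : ℤ) ^ 2 ∣ (cyclotomic n ℤ).eval (a : ℤ) := by
  intro hsq
  obtain ⟨f, rfl⟩ : ∃ f, e = f + 2 := ⟨e - 2, by omega⟩
  have hdn : 2 ^ (f + 1) < n := by
    rw [hn]; exact Nat.pow_lt_pow_right (by norm_num) (by omega)
  have hd : 2 ^ (f + 1) ∣ n := by
    rw [hn]; exact pow_dvd_pow 2 (by omega)
  have hdvd := psi_mul_dvd a hd hdn
  set b : ℤ := (a : ℤ) ^ (2 ^ f) with hb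
  have h1 : (a : ℤ) ^ (2 ^ (f + 1)) = b ^ 2 := by rw [hb, ← pow_mul, pow_succ]
  have h2 : (a : ℤ) ^ n = (b ^ 2) ^ 2 := by
    rw [hb, ← pow_mul, ← pow_mul, hn]; congr 1; ring
  rw [h1, h2] at hdvd
  have hb2 : (2 : ℤ) ≤ b := by
    rw [hb]
    calc (2 : ℤ) ≤ a := by exact_mod_cast ha
      _ = (a : ℤ) ^ 1 := (pow_one _).symm
      _ ≤ (a : ℤ) ^ (2 ^ f) := pow_le_pow_right₀ (by linarith [show (2 : ℤ) ≤ a by exact_mod_cast ha]) Nat.one_le_two_pow
  have hne : b ^ 2 - 1 ≠ 0 := by nlinarith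
  have h3 : (b ^ 2) ^ 2 - 1 = (b ^ 2 - 1) * (b ^ 2 + 1) := by ring
  rw [h3] at hdvd
  have h4 := (mul_dvd_mul_iff_left hne).1 hdvd
  have h5 := hsq.trans h4
  have h6 : (b ^ 2 + 1) % 4 = 0 := Int.emod_eq_zero_of_dvd (by simpa using h5)
  rcases Int.even_or_odd b with hev | hod
  · obtain ⟨k, hk⟩ := hev
    have : b ^ 2 = 4 * (k * k) := by rw [hk]; ring
    omega
  · have := Int.sq_mod_four_eq_one_of_odd hod
    omega

lemma natAbs_cyclotomic_le (m q : ℕ) (hq : 1 < q) :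
    ((cyclotomic m ℤ).eval (q : ℤ)).natAbs ≤ (q + 1) ^ Nat.totient m := by
  have pos : 0 < (cyclotomic m ℤ).eval (q : ℤ) := cyclotomic_pos' m (by exact_mod_cast hq)
  have h1 := cyclotomic_eval_le_add_one_pow_totient (q := (q : ℝ)) (by exact_mod_cast hq) m
  have e := cyclotomic.eval_apply (q : ℤ) m (Int.castRingHom ℝ)
  simp only [eq_intCast, Int.cast_natCast] at e
  rw [e] at h1
  have h2 : (((cyclotomic m ℤ).eval (q : ℤ)).natAbs : ℤ) = (cyclotomic m ℤ).eval (q : ℤ) :=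
    Int.natAbs_of_nonneg pos.le
  have h3 : (((cyclotomic m ℤ).eval (q : ℤ) : ℤ) : ℝ) ≤ (((q + 1) ^ Nat.totient m : ℕ) : ℝ) := by
    push_cast; exact h1
  rw [← h2] at h3
  exact_mod_cast h3

lemma two_pow_bound {r : ℕ} (hr : 5 ≤ r) : 3 * r ≤ 2 ^ r - 1 := by
  have : 3 * r + 1 ≤ 2 ^ r := by
    induction r, hr using Nat.le_induction with
    | base => norm_num
    | succ k hk ih => rw [pow_succ]; omega
  omega

lemma two_pow_bound' {r : ℕ} (hr : 3 ≤ r) : r + 1 < 2 ^ r - 1 := by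
  have : r + 3 ≤ 2 ^ r := by
    induction r, hr using Nat.le_induction with
    | base => norm_num
    | succ k hk ih => rw [pow_succ]; omega
  omega

lemma natAbs_pow_sub_one (a k : ℕ) (ha : 0 < a) : ((a : ℤ) ^ k - 1).natAbs = a ^ k - 1 := by
  have : ((a : ℤ) ^ k - 1) = ((a ^ k - 1 : ℕ) : ℤ) := by
    rw [Nat.cast_pred (pow_pos ha k)]; push_cast; rfl
  rw [this, Int.natAbs_natCast]

/-- the case `n = 2`. -/
lemma case_two (a : ℕ) (ha : 1 < a) (h2 : ¬ ∃ m : ℕ, a + 1 = 2 ^ m) :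
    ∃ r : ℕ, r.Prime ∧ r ∣ a ^ 2 - 1 ∧ ∀ k : ℕ, 0 < k → k < 2 → ¬ r ∣ a ^ k - 1 := by
  rcases Nat.eq_two_pow_or_exists_odd_prime_and_dvd (a + 1) with h | ⟨p, hp, hpd, hodd⟩
  · exact absurd h h2
  · refine ⟨p, hp, ?_, ?_⟩
    · have : a ^ 2 - 1 = (a + 1) * (a - 1) := by
        obtain ⟨b, rfl⟩ : ∃ b, a = b + 1 := ⟨a - 1, by omega⟩
        simp only [Nat.add_sub_cancel]
        have : (b + 1) ^ 2 = (b + 1 + 1) * b + 1 := by ring
        omega
      rw [this]; exact Dvd.dvd.mul_right hpd _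
    · intro k hk0 hk2 hdv
      obtain rfl : k = 1 := by omega
      rw [pow_one] at hdv
      have h3 : p ∣ (a + 1) - (a - 1) := Nat.dvd_sub hpd hdv
      have h4 : (a + 1) - (a - 1) = 2 := by omega
      rw [h4] at h3
      have := (Nat.prime_dvd_prime_iff_eq hp Nat.prime_two).1 h3
      subst this
      exact absurd hodd (by decide)

/-- the case `3 ≤ n`. -/
lemma case_ge_three (a n : ℕ) (ha : 1 < a) (hn : 3 ≤ n) (h6 : ¬ (a = 2 ∧ n = 6)) :
    ∃ r : ℕ, r.Prime ∧ r ∣ a ^ n - 1 ∧ ∀ k : ℕ, 0 < k → k < n → ¬ r ∣ a ^ k - 1 := by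
  by_contra hno
  push Not at hno
  set Ψ : ℤ := (cyclotomic n ℤ).eval (a : ℤ) with hΨ
  set P : ℕ := Ψ.natAbs with hPdef
  have ha0 : 0 < a := by omega
  have hn0 : 0 < n := by omega
  have hP : (a - 1) ^ Nat.totient n < P :=
    sub_one_pow_totient_lt_natAbs_cyclotomic_eval (by omega) (by omega)
  have hP1 : 1 < P := by
    have : 1 ≤ (a - 1) ^ Nat.totient n := Nat.one_le_pow _ _ (by omega)
    omega
  have hPdvd : P ∣ a ^ n - 1 := by
    have := Int.natAbs_dvd_natAbs.2 (psi_dvd n a)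
    rwa [natAbs_pow_sub_one a n ha0] at this
  have hcast : ∀ r : ℕ, r ∣ P ↔ (r : ℤ) ∣ Ψ := fun r => Int.natCast_dvd.symm
  -- Step 1
  have S1 : ∀ r : ℕ, r.Prime → r ∣ P → ∃ e m, 0 < e ∧ n = r ^ e * m ∧ m ∣ r - 1 := by
    intro r hr hrP
    obtain ⟨e, m, hnm, hm, hk⟩ := key hr hn0 ha0 ((hcast r).1 hrP)
    refine ⟨e, m, ?_, hnm, hm⟩
    rcases Nat.eq_zero_or_pos e with he | he
    · exfalso
      subst he
      rw [pow_zero, one_mul] at hnm
      subst hnm
      obtain ⟨k, hk0, hkn, hrk⟩ := hno r hr (hrP.trans hPdvd)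
      have := Nat.le_of_dvd hk0 (hk k hrk)
      omega
    · exact he
  -- Step 2
  have S2 : ∀ r : ℕ, r.Prime → r ∣ P → ¬ r ^ 2 ∣ P := by
    intro r hr hrP hsq
    obtain ⟨e, m, he, hnm, hm⟩ := S1 r hr hrP
    have hsq' : (r : ℤ) ^ 2 ∣ Ψ := by
      have := (hcast (r ^ 2)).1 hsq
      push_cast at this
      exact this
    rcases hr.eq_two_or_odd' with h2 | hodd
    · subst h2
      have hm1 : m = 1 := by simpa using hm
      subst hm1
      rw [mul_one] at hnm
      have he2 : 2 ≤ e := by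
        by_contra hlt
        have : e = 1 := by omega
        subst this
        omega
      exact not_four_dvd (by omega) he2 hnm hsq'
    · have hrn : r ∣ n := by
        rw [hnm]; exact Dvd.dvd.mul_right (dvd_pow_self r he.ne') m
      exact not_sq_dvd_odd hr hodd (by omega) hrn hn0 ((hcast r).1 hrP) hsq'
  -- Step 3
  have S3 : P.Prime := by
    have hr := Nat.minFac_prime (show P ≠ 1 by omega)
    set r := P.minFac with hrdef
    obtain ⟨t, ht⟩ := Nat.minFac_dvd P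
    rcases eq_or_ne t 1 with h1 | h1
    · rw [h1, mul_one] at ht
      rw [ht]; exact hr
    · exfalso
      have hq := Nat.minFac_prime h1
      set q := t.minFac with hqdef
      have hqt : q ∣ t := Nat.minFac_dvd t
      have hqP : q ∣ P := by rw [ht]; exact Dvd.dvd.mul_left hqt _
      have hrP : r ∣ P := Nat.minFac_dvd P
      rcases eq_or_ne q r with hqr | hqr
      · apply S2 r hr hrP
        rw [ht, pow_two]
        exact mul_dvd_mul_left _ (hqr ▸ hqt)
      · have aux : ∀ r q : ℕ, r.Prime → q.Prime → r ∣ P → q ∣ P → q ≠ r → q < r := by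
          intro r q hr hq hrP hqP hqr
          obtain ⟨e, m, he, hnm, hm⟩ := S1 r hr hrP
          obtain ⟨e', m', he', hnm', hm'⟩ := S1 q hq hqP
          have hqn : q ∣ n := by
            rw [hnm']; exact Dvd.dvd.mul_right (dvd_pow_self q he'.ne') m'
          rw [hnm] at hqn
          rcases (Nat.Prime.dvd_mul hq).1 hqn with h | h
          · exact absurd ((Nat.prime_dvd_prime_iff_eq hq hr).1 (hq.dvd_of_dvd_pow h)) hqr
          · have hm0 : 0 < m := by
              rcases Nat.eq_zero_or_pos m with h0 | h0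
              · subst h0; simp at hnm; omega
              · exact h0
            have h1 := Nat.le_of_dvd hm0 h
            have h2 := Nat.le_of_dvd (by have := hr.two_le; omega) hm
            have := hr.two_le
            omega
        have h1 := aux r q hr hq hrP hqP hqr
        have h2 := aux q r hq hr hqP hrP (Ne.symm hqr)
        omega
  obtain ⟨e, m, he, hnm, hm⟩ := S1 P S3 dvd_rfl
  have hPn : P ∣ n := by
    rw [hnm]; exact Dvd.dvd.mul_right (dvd_pow_self P he.ne') m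
  have hm0 : 0 < m := by
    rcases Nat.eq_zero_or_pos m with h0 | h0
    · subst h0; simp at hnm; omega
    · exact h0
  -- Step 4
  rcases Nat.lt_or_ge 2 a with ha3 | ha2
  · -- `a ≥ 3`
    have h1 : P - 1 ≤ Nat.totient n := by
      have := Nat.totient_dvd_of_dvd hPn
      rw [Nat.totient_prime S3] at this
      exact Nat.le_of_dvd (Nat.totient_pos.2 hn0) this
    have h2 : 2 ^ (P - 1) ≤ (a - 1) ^ Nat.totient n :=
      calc 2 ^ (P - 1) ≤ 2 ^ Nat.totient n := Nat.pow_le_pow_right (by norm_num) h1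
        _ ≤ (a - 1) ^ Nat.totient n := Nat.pow_le_pow_left (by omega) _
    have h3 : P - 1 < 2 ^ (P - 1) := Nat.lt_two_pow_self
    omega
  · -- `a = 2`
    obtain rfl : a = 2 := by omega
    have hP2 : P ≠ 2 := by
      intro h
      rw [h] at hPdvd
      obtain ⟨c, hc⟩ := hPdvd
      have : (2 : ℕ) ^ n = 2 * 2 ^ (n - 1) := by
        rw [← pow_succ']; congr 1; omega
      have := Nat.one_le_two_pow (n := n)
      omega
    have hP3 : 3 ≤ P := by have := S3.two_le; omega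
    rcases Nat.lt_or_ge 1 e with he2 | he1
    · -- `P ∣ n / P`
      set n' := P ^ (e - 1) * m with hn'
      have hnn' : n = n' * P := by
        rw [hnm, hn', mul_comm _ P, ← mul_assoc, ← pow_succ']; congr 2; omega
      have hPn' : P ∣ n' := by
        rw [hn']; exact Dvd.dvd.mul_right (dvd_pow_self P (by omega)) m
      have hn'1 : 1 < n' := by
        have : 0 < n' := by
          rw [hn']; exact Nat.mul_pos (pow_pos (by omega) _) hm0
        have := Nat.le_of_dvd this hPn'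
        omega
      have hexp := cyclotomic_expand_eq_cyclotomic S3 hPn' ℤ
      have hev : Ψ = (cyclotomic n' ℤ).eval (((2 ^ P : ℕ) : ℤ)) := by
        rw [hΨ, hnn', ← hexp, expand_eval]; push_cast; rfl
      have hb := sub_one_pow_totient_lt_natAbs_cyclotomic_eval (n := n') (q := 2 ^ P) hn'1
        (by have := Nat.lt_two_pow_self (n := P); omega)
      rw [← hev] at hb
      have h1 : 2 ^ P - 1 ≤ (2 ^ P - 1) ^ Nat.totient n' :=
        Nat.le_self_pow (Nat.totient_pos.2 (by omega)).ne' _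
      have h2 := two_pow_bound' hP3
      omega
    · obtain rfl : e = 1 := by omega
      rw [pow_one] at hnm
      have hPm : ¬ P ∣ m := by
        intro h
        have h1 := Nat.le_of_dvd hm0 h
        have h2 := Nat.le_of_dvd (by omega) hm
        omega
      have hexp := cyclotomic_expand_eq_cyclotomic_mul S3 hPm ℤ
      have hev : (cyclotomic m ℤ).eval (((2 ^ P : ℕ) : ℤ)) = Ψ * (cyclotomic m ℤ).eval ((2 : ℕ) : ℤ) := by
        have := congrArg (Polynomial.eval ((2 : ℕ) : ℤ)) hexp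
        rw [expand_eval, eval_mul, mul_comm m P, ← hnm] at this
        rw [hΨ, ← this]; push_cast; rfl
      have hev' : ((cyclotomic m ℤ).eval (((2 ^ P : ℕ) : ℤ))).natAbs
          = P * ((cyclotomic m ℤ).eval ((2 : ℕ) : ℤ)).natAbs := by
        rw [hev, Int.natAbs_mul]
      rcases Nat.lt_or_ge 1 m with hm2 | hm1
      · have hb := sub_one_pow_totient_lt_natAbs_cyclotomic_eval (n := m) (q := 2 ^ P) hm2
          (by have := Nat.lt_two_pow_self (n := P); omega)
        rw [hev'] at hb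
        have hub := natAbs_cyclotomic_le m 2 (by norm_num)
        have hφ : 0 < Nat.totient m := Nat.totient_pos.2 hm0
        rcases Nat.lt_or_ge P 5 with hP5 | hP5
        · -- `P = 3`
          have hP4 : P ≠ 4 := by
            intro h; rw [h] at S3; exact absurd S3 (by decide)
          obtain hP3' : P = 3 := by omega
          rw [hP3'] at hm hnm
          have : m ≤ 2 := Nat.le_of_dvd (by norm_num) hm
          have hm2' : m = 2 := by omega
          apply h6
          refine ⟨rfl, ?_⟩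
          rw [hnm, hm2']
        · have h1 := two_pow_bound hP5
          have h2 : (3 * P) ^ Nat.totient m ≤ (2 ^ P - 1) ^ Nat.totient m :=
            Nat.pow_le_pow_left h1 _
          have h3 : P * 3 ^ Nat.totient m ≤ (3 * P) ^ Nat.totient m := by
            rw [mul_pow, mul_comm]
            exact Nat.mul_le_mul_left _ (Nat.le_self_pow hφ.ne' _)
          have h4 : P * ((cyclotomic m ℤ).eval ((2 : ℕ) : ℤ)).natAbs ≤ P * 3 ^ Nat.totient m :=
            Nat.mul_le_mul_left _ hub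
          omega
      · obtain rfl : m = 1 := by omega
        rw [cyclotomic_one] at hev'
        simp only [eval_sub, eval_X, eval_one] at hev'
        have h5 : (((2 ^ P : ℕ) : ℤ) - 1).natAbs = 2 ^ P - 1 := by
          have := natAbs_pow_sub_one 2 P (by norm_num)
          rw [← this]; push_cast; rfl
        rw [h5] at hev'
        norm_num at hev'
        have h2 := two_pow_bound' hP3
        omega



/-- Zsigmondy's Theorem: for natural numbers a > 1 and n > 1 there is a prime dividing aⁿ − 1 that divides aᵏ − 1 for no natural number 0 < k < n, unless a = 2 and n = 6, or n = 2 and a + 1 is a power of two. -/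
theorem result (a n : ℕ) (ha : 1 < a) (hn : 1 < n) (h6 : ¬ (a = 2 ∧ n = 6)) (h2 : ¬ (n = 2 ∧ ∃ m : ℕ, a + 1 = 2 ^ m)) : ∃ r : ℕ, r.Prime ∧ r ∣ a ^ n - 1 ∧ ∀ k : ℕ, 0 < k → k < n → ¬ r ∣ a ^ k - 1 := by
  rcases Nat.lt_or_ge 2 n with h3 | h3
  · exact case_ge_three a n ha (by omega) h6
  · obtain rfl : n = 2 := by omega
    exact case_two a ha (fun h => h2 ⟨rfl, h⟩)

end Cfsg.Agent.S2904
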