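import Cfsg.Statements.S0284
import Cfsg.Agent.Lib.Helper1.HermCount

set_option autoImplicit false
open Cfsg

namespace Cfsg.Agent.S0284

open Cfsg.Agent.Lib.Helper1.HermCount

/-- The standard Hermitian form on F^n, |F| = q^2, has exactly q^(n-1) (q^n - (-1)^n) vectors of norm 1. -/
theorem result {F : Type*} [Field F] [Fintype F] {q : ℕ} (hF : Fintype.card F = q ^ 2) (n : ℕ) : Nat.card {v : Fin n → F // Cfsg.hermForm n F q v v = 1} = (if Even n then q ^ (n - 1) * (q ^ n - 1) else q ^ (n - 1) * (q ^ n + 1)) := by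
  have hq := two_le_q hF
  rw [natCard_eq_cnt]
  obtain ⟨h1, -⟩ := closed_forms hF n
  have hq0 : (q : ℤ) ≠ 0 := by exact_mod_cast (by omega : q ≠ 0)
  cases n with
  | zero =>
    rw [cnt_zero_one]
    simp
  | succ k =>
    simp only [Nat.add_sub_cancel]
    have hpos : 1 ≤ q ^ (k + 1) := Nat.one_le_pow _ _ (by omega)
    rw [pow_succ (q : ℤ) k, mul_assoc] at h1
    have h2 := mul_left_cancel₀ hq0 (by rw [h1]; ring :
      (q : ℤ) * (cnt F q (k + 1) (1 : F) : ℤ) = (q : ℤ) * ((q : ℤ) ^ k * ((q : ℤ) ^ k * q - (-1) ^ (k + 1))))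
    split_ifs with he
    · rw [he.neg_one_pow] at h2
      zify [hpos]
      rw [h2, pow_succ]
    · rw [Nat.not_even_iff_odd] at he
      rw [he.neg_one_pow] at h2
      zify
      rw [h2, pow_succ]; ring

end Cfsg.Agent.S0284
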