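import Cfsg.Statements.S0277
import Cfsg.Agent.Lib.Helper1.GUCard
import Cfsg.Agent.S0284

set_option autoImplicit false
open Cfsg

namespace Cfsg.Agent.S0277

open Cfsg.Agent.Lib.Helper1.GUCard

/-- Order of the general unitary group: |GU_n(q)| = q^(n(n-1)/2) * prod_{i=1}^{n} (q^i - (-1)^i). -/
theorem result {F : Type*} [Field F] [Fintype F] {q : ℕ} (hF : Fintype.card F = q ^ 2) (n : ℕ) : Nat.card (Cfsg.GU n F q) = q ^ (n * (n - 1) / 2) * ∏ i ∈ Finset.range n, (if Even i then q ^ (i + 1) + 1 else q ^ (i + 1) - 1) := by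
  induction n with
  | zero =>
    have : Subsingleton (Cfsg.GU 0 F q) :=
      ⟨fun a b => Subtype.ext (Units.ext (Subsingleton.elim _ _))⟩
    rw [Nat.card_unique]
    simp
  | succ n ih =>
    rw [card_succ hF, ih, Cfsg.Agent.S0284.result hF (n + 1), Finset.prod_range_succ,
      Nat.triangle_succ, pow_add]
    simp only [Nat.add_sub_cancel]
    by_cases he : Even n
    · have ho : ¬ Even (n + 1) := by
        rw [Nat.even_add_one]; exact not_not.mpr he
      rw [if_neg ho, if_pos he]
      ring
    · have ho : Even (n + 1) := by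
        rw [Nat.even_add_one]; exact he
      rw [if_pos ho, if_neg he]
      ring

end Cfsg.Agent.S0277
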