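import Cfsg.Statements.S0278
import Cfsg.Agent.S0277

set_option autoImplicit false
open Cfsg

namespace Cfsg.Agent.S0278

open Cfsg.Agent.Lib.Helper2.Herm Cfsg.Agent.Lib.Helper1.HermCount Cfsg.Agent.Lib.Helper1.GUBasic Matrix

variable {F : Type*} [Field F] [Fintype F] {q : ℕ} {n : ℕ}

/-- the `q`-power map as a ring homomorphism. -/
def powQ (hF : Fintype.card F = q ^ 2) : F →+* F where
  toFun x := x ^ q
  map_one' := one_pow q
  map_mul' a b := mul_pow a b q
  map_zero' := zero_pow (by have := two_le_q hF; omega)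
  map_add' := add_pow_q hF

/-- the determinant of a unitary matrix has norm one. -/
theorem nrm_det (hF : Fintype.card F = q ^ 2) (M : Matrix (Fin n) (Fin n) F)
    (hM : ∀ u v, Cfsg.hermForm n F q (M *ᵥ u) (M *ᵥ v) = Cfsg.hermForm n F q u v) :
    nrm q M.det = 1 := by
  classical
  have hq := two_le_q hF
  have h1 : Mᵀ * M.map (powQ hF) = 1 := by
    ext i j
    have h2 := hM (Pi.single i 1) (Pi.single j 1)
    rw [herm_single_left, Matrix.mulVec_single_one, Matrix.mulVec_single_one] at h2
    rw [Matrix.mul_apply, Matrix.one_apply]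
    unfold Cfsg.hermForm at h2
    have h3 : ∑ k, Mᵀ i k * M.map (powQ hF) k j = ∑ k, M.col i k * (M.col j k) ^ q := by
      apply Finset.sum_congr rfl
      intro k _
      rfl
    rw [h3, h2, Pi.single_apply]
    by_cases hij : i = j
    · rw [if_pos hij, one_pow]
    · rw [if_neg hij, zero_pow (by omega)]
  have h4 := congrArg Matrix.det h1
  rw [Matrix.det_mul, Matrix.det_transpose, Matrix.det_one] at h4
  have h5 : (M.map (powQ hF)).det = M.det ^ q := by
    have := RingHom.map_det (powQ hF) M
    rw [RingHom.mapMatrix_apply] at this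
    rw [← this]; rfl
  rw [h5] at h4
  exact h4


omit [Fintype F] in
/-- a diagonal matrix with entries of norm one preserves the form. -/
theorem diag_preserves (d : Fin n → F) (hd : ∀ i, nrm q (d i) = 1) (u v : Fin n → F) :
    Cfsg.hermForm n F q (Matrix.diagonal d *ᵥ u) (Matrix.diagonal d *ᵥ v) =
      Cfsg.hermForm n F q u v := by
  unfold Cfsg.hermForm
  apply Finset.sum_congr rfl
  intro i _
  rw [Matrix.mulVec_diagonal, Matrix.mulVec_diagonal, mul_pow]
  have := hd i
  unfold nrm at this
  calc d i * u i * (d i ^ q * v i ^ q) = (d i * d i ^ q) * (u i * v i ^ q) := by ring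
    _ = u i * v i ^ q := by rw [this, one_mul]

/-- the determinant on the unitary group. -/
noncomputable def detGU (n : ℕ) (F : Type*) [Field F] (q : ℕ) : Cfsg.GU n F q →* Fˣ :=
  Matrix.GeneralLinearGroup.det.comp (Cfsg.GU n F q).subtype

omit [Fintype F] in
theorem detGU_coe (g : Cfsg.GU n F q) :
    ((detGU n F q g : Fˣ) : F) =
      ((g : Matrix.GeneralLinearGroup (Fin n) F) : Matrix (Fin n) (Fin n) F).det := rfl

/-- the range of the determinant is the norm one group. -/
theorem range_detGU (hF : Fintype.card F = q ^ 2) (hn : 1 ≤ n) (l : Fˣ) :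
    l ∈ (detGU n F q).range ↔ nrm q (l : F) = 1 := by
  classical
  constructor
  · rintro ⟨g, rfl⟩
    rw [detGU_coe]
    exact nrm_det hF _ (GU_preserves g)
  · intro hl
    obtain ⟨k, rfl⟩ : ∃ k, n = k + 1 := ⟨n - 1, by omega⟩
    set d : Fin (k + 1) → F := Function.update (fun _ => 1) 0 (l : F) with hd
    have hd1 : ∀ i, nrm q (d i) = 1 := by
      intro i
      by_cases hi : i = 0
      · rw [hi, hd, Function.update_self]; exact hl
      · rw [hd, Function.update_of_ne hi]
        unfold nrm; simp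
    refine ⟨mkGU hF (Matrix.diagonal d) (diag_preserves d hd1), ?_⟩
    apply Units.ext
    rw [detGU_coe, mkGU_coe, Matrix.det_diagonal, hd,
      Finset.prod_update_of_mem (Finset.mem_univ _)]
    simp

/-- the norm one group has `q + 1` elements. -/
theorem card_norm_one (hF : Fintype.card F = q ^ 2) :
    Nat.card {l : Fˣ // nrm q (l : F) = 1} = q + 1 := by
  classical
  rw [← card_fibre hF (one_mem_fixedUnits (F := F) (q := q))]
  unfold fibre
  rw [← Fintype.card_subtype, ← Nat.card_eq_fintype_card]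
  apply Nat.card_congr
  refine ⟨fun l => ⟨(l.1 : F), l.2⟩, fun x => ⟨Units.mk0 x.1 ?_, ?_⟩, ?_, ?_⟩
  · intro h0
    have := x.2
    rw [h0, (nrm_eq_zero hF 0).mpr rfl] at this
    exact zero_ne_one this
  · simpa using x.2
  · intro l; apply Subtype.ext; apply Units.ext; rfl
  · intro x; rfl

/-- the kernel of the determinant is the special unitary group. -/
theorem card_ker_detGU :
    Nat.card (detGU n F q).ker = Nat.card (Cfsg.SU n F q) := by
  apply Nat.card_congr
  refine ⟨fun g => ⟨⟨((g.1 : Matrix.GeneralLinearGroup (Fin n) F) : Matrix (Fin n) (Fin n) F), ?_⟩, ?_⟩,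
    fun A => ⟨⟨Matrix.SpecialLinearGroup.toGL A.1, ?_⟩, ?_⟩, ?_, ?_⟩
  · have := g.2
    rw [MonoidHom.mem_ker] at this
    have h2 := congrArg Units.val this
    rw [detGU_coe] at h2
    exact h2
  · intro u v
    exact GU_preserves g.1 u v
  · intro u v
    exact A.2 u v
  · rw [MonoidHom.mem_ker]
    apply Units.ext
    rw [detGU_coe]
    exact A.1.2
  · intro g
    apply Subtype.ext
    apply Subtype.ext
    apply Units.ext
    rfl
  · intro A
    apply Subtype.ext
    apply Subtype.ext
    rfl

/-- Order of SU_n(q): (q + 1) |SU_n(q)| = |GU_n(q)| = q^(n(n-1)/2) * prod_{i=1}^{n} (q^i - (-1)^i), n at least 1. -/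
theorem result {F : Type*} [Field F] [Fintype F] {q : ℕ} (hF : Fintype.card F = q ^ 2) (n : ℕ) (hn : 1 ≤ n) : (q + 1) * Nat.card (Cfsg.SU n F q) = q ^ (n * (n - 1) / 2) * ∏ i ∈ Finset.range n, (if Even i then q ^ (i + 1) + 1 else q ^ (i + 1) - 1) := by
  rw [← Cfsg.Agent.S0277.result hF n, ← card_ker_detGU, ← Subgroup.card_mul_index (detGU n F q).ker,
    Subgroup.index_ker, mul_comm]
  congr 1
  rw [← card_norm_one hF]
  apply Nat.card_congr
  exact ⟨fun l => ⟨l.1, (range_detGU hF hn l.1).mpr l.2⟩,
    fun l => ⟨l.1, (range_detGU hF hn l.1).mp l.2⟩, fun _ => rfl, fun _ => rfl⟩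

end Cfsg.Agent.S0278
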