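import Mathlib
import Cfsg.Statements.S2638
import Cfsg.Agent.Lib.Helper5.SemisimpleConj

set_option autoImplicit false
open Cfsg

namespace Cfsg.Agent.S2638

open Polynomial Cfsg.Agent.Lib.Helper5

section
variable {F : Type*} [Field F] [Fintype F]

/-- An irreducible factor of `X^r - 1` other than `X - 1` has degree divisible by the order of `q`
modulo `r`. -/
theorem natDegree_ge_of_dvd {q r : ℕ} (hF : Fintype.card F = q) (hr : r.Prime)
    (π : F[X]) (hπ : Irreducible π) (hdvd : π ∣ X ^ r - 1) (hndvd : ¬ π ∣ X - 1) :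
    orderOf (q : ZMod r) ∣ π.natDegree := by
  classical
  have : Fact (Irreducible π) := ⟨hπ⟩
  have : Fact r.Prime := ⟨hr⟩
  have hfin : Module.Finite F (AdjoinRoot π) := (AdjoinRoot.powerBasis hπ.ne_zero).finite
  have : Finite (AdjoinRoot π) := Module.finite_of_finite F
  have : Fintype (AdjoinRoot π) := Fintype.ofFinite _
  have hcard : Fintype.card (AdjoinRoot π) = q ^ π.natDegree := by
    rw [Module.card_eq_pow_finrank (K := F) (V := AdjoinRoot π), hF]
    congr 1
    exact finrank_quotient_span_eq_natDegree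
  set ζ := AdjoinRoot.root π with hζ
  have h1 : ζ ^ r = 1 := by
    have : AdjoinRoot.mk π (X ^ r - 1) = 0 := AdjoinRoot.mk_eq_zero.2 hdvd
    rw [map_sub, map_pow, AdjoinRoot.mk_X, map_one, sub_eq_zero] at this
    exact this
  have h2 : ζ ≠ 1 := by
    intro h
    apply hndvd
    rw [← AdjoinRoot.mk_eq_zero, map_sub, AdjoinRoot.mk_X, map_one, sub_eq_zero]
    exact h
  have h3 : orderOf ζ = r := orderOf_eq_prime h1 h2
  have hζ0 : ζ ≠ 0 := by
    intro h
    rw [h, zero_pow hr.ne_zero] at h1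
    exact zero_ne_one h1
  have h4 : ζ ^ (q ^ π.natDegree - 1) = 1 := by
    rw [← hcard]
    exact FiniteField.pow_card_sub_one_eq_one ζ hζ0
  have h5 : r ∣ q ^ π.natDegree - 1 := by
    rw [← h3]; exact orderOf_dvd_of_pow_eq_one h4
  have hq0 : 0 < q := by rw [← hF]; exact Fintype.card_pos
  have h6 : ((q : ZMod r)) ^ π.natDegree = 1 := by
    have h7 : ((q ^ π.natDegree - 1 : ℕ) : ZMod r) = 0 := (ZMod.natCast_eq_zero_iff _ _).2 h5
    rw [Nat.cast_sub (Nat.one_le_pow _ _ hq0), Nat.cast_pow, Nat.cast_one, sub_eq_zero] at h7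
    exact h7
  exact orderOf_dvd_of_pow_eq_one h6

theorem exists_field_model {p q n r : ℕ} [Fact p.Prime] [CharP F p] (hF : Fintype.card F = q)
    (hn : 1 ≤ n) (hr : r.Prime) (hrp : r ≠ p) (hi : orderOf (q : ZMod r) = n)
    (x : GL (Fin n) F) (hx : orderOf x = r) :
    ∃ (π : F[X]) (_ : Irreducible π) (θ : (Fin n → F) ≃ₗ[F] (F[X] ⧸ F[X] ∙ π)),
      ∀ (g : F[X]) (u : Fin n → F),
        θ (aeval (Matrix.toLin' (x : Matrix (Fin n) (Fin n) F)) g u) =
          Ideal.Quotient.mk (F[X] ∙ π) g * θ u := by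
  classical
  set φ := Matrix.toLin' (x : Matrix (Fin n) (Fin n) F) with hφdef
  have hxr : (x : Matrix (Fin n) (Fin n) F) ^ r = 1 := by
    rw [← Units.val_pow_eq_pow_val, ← hx, pow_orderOf_eq_one]; rfl
  have hr0 : (r : F) ≠ 0 := by
    intro h
    have h1 : p ∣ r := (CharP.cast_eq_zero_iff F p r).1 h
    rcases (Nat.dvd_prime hr).1 h1 with h2 | h2
    · exact (Fact.out : p.Prime).one_lt.ne' h2
    · exact hrp h2.symm
  have hs : Squarefree (X ^ r - 1 : F[X]) := by
    have : (X ^ r - C (1 : F)).Separable := Polynomial.separable_X_pow_sub_C 1 hr0 one_ne_zero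
    rw [map_one] at this
    exact this.squarefree
  have hφs : aeval φ (X ^ r - 1 : F[X]) = 0 := by
    rw [map_sub, map_pow, aeval_X, map_one, hφdef, ← Matrix.toLin'_pow, hxr, Matrix.toLin'_one]
    exact sub_self _
  obtain ⟨ι, _, pp, hp, e, Ψ, hΨ⟩ := exists_primary_decomp φ
  obtain ⟨he, -⟩ := decomp_facts φ _ hs hφs pp hp e Ψ hΨ
  -- each factor divides `X^r - 1`
  have hdvd : ∀ i, pp i ^ e i ∣ X ^ r - 1 := by
    intro i
    have h1 := hΨ (X ^ r - 1) (Ψ.symm (Pi.single i 1)) i
    rw [hφs, LinearMap.zero_apply, map_zero, Pi.zero_apply, LinearEquiv.apply_symm_apply,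
      Pi.single_eq_same, mul_one] at h1
    have := (Ideal.Quotient.eq_zero_iff_mem.1 h1.symm)
    exact Ideal.mem_span_singleton.1 this
  -- some factor is not `X - 1`
  have hex : ∃ i₀, e i₀ = 1 ∧ ¬ pp i₀ ∣ X - 1 := by
    by_contra hcon
    push Not at hcon
    have hφ1 : ∀ v, φ v = v := by
      intro v
      have h1 : Ψ (aeval φ (X - 1 : F[X]) v) = 0 := by
        funext i
        rw [hΨ, Pi.zero_apply]
        by_cases hi0 : e i = 0
        · have : Subsingleton (F[X] ⧸ F[X] ∙ pp i ^ e i) := by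
            rw [hi0, pow_zero]
            apply Ideal.Quotient.subsingleton_iff.2
            exact Ideal.span_singleton_one
          exact Subsingleton.elim _ _
        · have hi1 : e i = 1 := le_antisymm (he i) (Nat.one_le_iff_ne_zero.2 hi0)
          have h2 : Ideal.Quotient.mk (F[X] ∙ pp i ^ e i) (X - 1) = 0 := by
            rw [Ideal.Quotient.eq_zero_iff_mem, Ideal.mem_span_singleton, hi1, pow_one]
            exact hcon i hi1
          rw [h2, zero_mul]
      have h3 : aeval φ (X - 1 : F[X]) v = 0 := by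
        apply Ψ.injective
        rw [h1, map_zero]
      rw [map_sub, aeval_X, map_one, LinearMap.sub_apply, Module.End.one_apply, sub_eq_zero] at h3
      exact h3
    have hx1 : x = 1 := by
      apply Units.ext
      have : φ = 1 := LinearMap.ext hφ1
      rw [hφdef] at this
      apply Matrix.toLin'.injective
      rw [this, Units.val_one, Matrix.toLin'_one]
      rfl
    rw [hx1, orderOf_one] at hx
    exact hr.one_lt.ne' hx.symm
  obtain ⟨i₀, hi₀, hndvd⟩ := hex
  have hπeq : pp i₀ ^ e i₀ = pp i₀ := by rw [hi₀, pow_one]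
  have hπirr : Irreducible (pp i₀ ^ e i₀) := by rw [hπeq]; exact hp i₀
  have hdeg : n ≤ (pp i₀ ^ e i₀).natDegree := by
    have h1 := natDegree_ge_of_dvd hF hr (pp i₀ ^ e i₀) hπirr (hdvd i₀) (by rw [hπeq]; exact hndvd)
    rw [hi] at h1
    exact Nat.le_of_dvd hπirr.natDegree_pos h1
  have hfin : Module.Finite F (F[X] ⧸ F[X] ∙ pp i₀ ^ e i₀) :=
    (AdjoinRoot.powerBasis hπirr.ne_zero).finite
  let θ₀ : (Fin n → F) →ₗ[F] (F[X] ⧸ F[X] ∙ pp i₀ ^ e i₀) :=
    (LinearMap.proj i₀) ∘ₗ Ψ.toLinearMap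
  have hsurj : Function.Surjective θ₀ := by
    intro y
    refine ⟨Ψ.symm (Pi.single i₀ y), ?_⟩
    show Ψ (Ψ.symm (Pi.single i₀ y)) i₀ = y
    rw [LinearEquiv.apply_symm_apply, Pi.single_eq_same]
  have hrank : Module.finrank F (Fin n → F) = Module.finrank F (F[X] ⧸ F[X] ∙ pp i₀ ^ e i₀) := by
    apply le_antisymm
    · rw [Module.finrank_fin_fun]
      have : Module.finrank F (F[X] ⧸ F[X] ∙ pp i₀ ^ e i₀) = (pp i₀ ^ e i₀).natDegree :=
        finrank_quotient_span_eq_natDegree
      rw [this]; exact hdeg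
    · exact LinearMap.finrank_le_finrank_of_surjective hsurj
  have hinj : Function.Injective θ₀ :=
    (LinearMap.injective_iff_surjective_of_finrank_eq_finrank hrank).2 hsurj
  refine ⟨pp i₀ ^ e i₀, hπirr, LinearEquiv.ofBijective θ₀ ⟨hinj, hsurj⟩, ?_⟩
  intro g u
  exact hΨ g u i₀

end

section
variable {F : Type*} [Field F]

theorem commute_aeval {V : Type*} [AddCommGroup V] [Module F V] (G φ : V →ₗ[F] V)
    (h : G ∘ₗ φ = φ ∘ₗ G) (q : F[X]) (u : V) : G (aeval φ q u) = aeval φ q (G u) := by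
  have hc : Commute G φ := h
  have h2 : Commute G (aeval φ q) := by
    induction q using Polynomial.induction_on' with
    | add a b ha hb => rw [map_add]; exact ha.add_right hb
    | monomial k a =>
      rw [aeval_monomial]
      exact (Algebra.commute_algebraMap_right a G).mul_right (hc.pow_right k)
  exact LinearMap.congr_fun h2.eq u

theorem centralizer_model {n : ℕ} (π : F[X]) [Fact (Irreducible π)] (x : GL (Fin n) F)
    (θ : (Fin n → F) ≃ₗ[F] AdjoinRoot π)
    (hθ : ∀ (g : F[X]) (u : Fin n → F),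
      θ (aeval (Matrix.toLin' (x : Matrix (Fin n) (Fin n) F)) g u) = AdjoinRoot.mk π g * θ u) :
    ∃ κ : Subgroup.centralizer ({x} : Set (GL (Fin n) F)) →* AdjoinRoot π,
      Function.Injective κ ∧ ∀ k : AdjoinRoot π, k ≠ 0 → ∃ g, κ g = k := by
  classical
  set φ := Matrix.toLin' (x : Matrix (Fin n) (Fin n) F) with hφdef
  set u₁ := θ.symm 1 with hu₁
  have hθu₁ : θ u₁ = 1 := θ.apply_symm_apply 1
  let G : GL (Fin n) F → ((Fin n → F) →ₗ[F] (Fin n → F)) := fun g => Matrix.toLin' g.1
  have hGmul : ∀ g h : GL (Fin n) F, G (g * h) = G g ∘ₗ G h := by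
    intro g h
    show Matrix.toLin' (g * h : GL (Fin n) F).1 = _
    rw [Units.val_mul, Matrix.toLin'_mul]
  have hcomm : ∀ g : GL (Fin n) F, g ∈ Subgroup.centralizer ({x} : Set (GL (Fin n) F)) →
      G g ∘ₗ φ = φ ∘ₗ G g := by
    intro g hg
    rw [Subgroup.mem_centralizer_singleton_iff] at hg
    have : G (g * x) = G (x * g) := by rw [hg]
    rwa [hGmul, hGmul] at this
  have key2 : ∀ v, ∃ q : F[X], v = aeval φ q u₁ := by
    intro v
    obtain ⟨q, hq⟩ := AdjoinRoot.mk_surjective (g := π) (θ v)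
    refine ⟨q, ?_⟩
    apply θ.injective
    rw [hθ, hθu₁, mul_one, hq]
  have key3 : ∀ g : GL (Fin n) F, g ∈ Subgroup.centralizer ({x} : Set (GL (Fin n) F)) →
      ∀ v, θ (G g v) = θ (G g u₁) * θ v := by
    intro g hg v
    obtain ⟨q, rfl⟩ := key2 v
    rw [commute_aeval (G g) φ (hcomm g hg), hθ, hθ, hθu₁, mul_one, mul_comm]
  let κ : Subgroup.centralizer ({x} : Set (GL (Fin n) F)) →* AdjoinRoot π :=
    { toFun := fun g => θ (G g.1 u₁)
      map_one' := by
        show θ (Matrix.toLin' (1 : GL (Fin n) F).1 u₁) = 1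
        rw [Units.val_one, Matrix.toLin'_one, LinearMap.id_apply, hθu₁]
      map_mul' := by
        intro g h
        show θ (G (g.1 * h.1) u₁) = _
        rw [hGmul, LinearMap.comp_apply, key3 g.1 g.2] }
  refine ⟨κ, ?_, ?_⟩
  · intro g h hgh
    have h1 : θ (G g.1 u₁) = θ (G h.1 u₁) := hgh
    have h2 : G g.1 = G h.1 := by
      apply LinearMap.ext
      intro v
      apply θ.injective
      rw [key3 g.1 g.2, key3 h.1 h.2, h1]
    apply Subtype.ext
    apply Units.ext
    exact Matrix.toLin'.injective h2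
  · intro k hk
    let m : (Fin n → F) →ₗ[F] (Fin n → F) :=
      θ.symm.toLinearMap ∘ₗ LinearMap.mulLeft F k ∘ₗ θ.toLinearMap
    let m' : (Fin n → F) →ₗ[F] (Fin n → F) :=
      θ.symm.toLinearMap ∘ₗ LinearMap.mulLeft F k⁻¹ ∘ₗ θ.toLinearMap
    have hmm' : m ∘ₗ m' = LinearMap.id := by
      apply LinearMap.ext
      intro v
      simp only [m, m', LinearMap.comp_apply, LinearEquiv.coe_coe, LinearMap.mulLeft_apply,
        LinearEquiv.apply_symm_apply, LinearMap.id_apply]
      rw [← mul_assoc, mul_inv_cancel₀ hk, one_mul, LinearEquiv.symm_apply_apply]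
    have hm'm : m' ∘ₗ m = LinearMap.id := by
      apply LinearMap.ext
      intro v
      simp only [m, m', LinearMap.comp_apply, LinearEquiv.coe_coe, LinearMap.mulLeft_apply,
        LinearEquiv.apply_symm_apply, LinearMap.id_apply]
      rw [← mul_assoc, inv_mul_cancel₀ hk, one_mul, LinearEquiv.symm_apply_apply]
    let g : GL (Fin n) F := ⟨LinearMap.toMatrix' m, LinearMap.toMatrix' m',
      by rw [← LinearMap.toMatrix'_comp, hmm', LinearMap.toMatrix'_id],
      by rw [← LinearMap.toMatrix'_comp, hm'm, LinearMap.toMatrix'_id]⟩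
    have hGg : G g = m := Matrix.toLin'_toMatrix' m
    have hφX : ∀ v, θ (φ v) = AdjoinRoot.mk π X * θ v := by
      intro v
      have := hθ X v
      rwa [aeval_X] at this
    have hg : g ∈ Subgroup.centralizer ({x} : Set (GL (Fin n) F)) := by
      rw [Subgroup.mem_centralizer_singleton_iff]
      apply Units.ext
      rw [Units.val_mul, Units.val_mul]
      apply Matrix.toLin'.injective
      rw [Matrix.toLin'_mul, Matrix.toLin'_mul]
      show G g ∘ₗ φ = φ ∘ₗ G g
      rw [hGg]
      apply LinearMap.ext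
      intro v
      apply θ.injective
      simp only [m, LinearMap.comp_apply, LinearEquiv.coe_coe, LinearMap.mulLeft_apply,
        LinearEquiv.apply_symm_apply, hφX]
      ring
    refine ⟨⟨g, hg⟩, ?_⟩
    show θ (G g u₁) = k
    rw [hGg]
    simp only [m, LinearMap.comp_apply, LinearEquiv.coe_coe, LinearMap.mulLeft_apply,
      LinearEquiv.apply_symm_apply, hθu₁, mul_one]

end

theorem result {F : Type*} [Field F] [Fintype F] {p q : ℕ} [Fact p.Prime] [CharP F p] (hF : Fintype.card F = q) {n r : ℕ} (hn : 1 ≤ n) (hr : r.Prime) (hrp : r ≠ p) (hi : orderOf (q : ZMod r) = n) (x : GL (Fin n) F) (hx : orderOf x = r) : IsCyclic ↥(Subgroup.centralizer ({x} : Set (GL (Fin n) F))) ∧ Nat.card ↥(Subgroup.centralizer ({x} : Set (GL (Fin n) F))) = q ^ n - 1 := by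
  classical
  obtain ⟨π, hπ, θ, hθ⟩ := exists_field_model (p := p) hF hn hr hrp hi x hx
  have : Fact (Irreducible π) := ⟨hπ⟩
  let θ' : (Fin n → F) ≃ₗ[F] AdjoinRoot π := θ
  obtain ⟨κ, hinj, hsurj⟩ := centralizer_model π x θ' (fun g u => hθ g u)
  constructor
  · exact isCyclic_of_injective_ringHom κ hinj
  · have hK : Nat.card (AdjoinRoot π) = q ^ n := by
      rw [← Nat.card_congr θ'.toEquiv, Nat.card_eq_fintype_card, Fintype.card_fun,
        Fintype.card_fin, hF]
    have hne : ∀ g, κ g ≠ 0 := by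
      intro g h0
      have h1 : κ g * κ g⁻¹ = 1 := by rw [← map_mul, mul_inv_cancel, map_one]
      rw [h0, zero_mul] at h1
      exact zero_ne_one h1
    let ψ : ↥(Subgroup.centralizer ({x} : Set (GL (Fin n) F))) → {k : AdjoinRoot π // k ≠ 0} :=
      fun g => ⟨κ g, hne g⟩
    have hψ : Function.Bijective ψ := by
      constructor
      · intro g h hgh
        exact hinj (congrArg Subtype.val hgh)
      · rintro ⟨k, hk⟩
        obtain ⟨g, hg⟩ := hsurj k hk
        exact ⟨g, Subtype.ext hg⟩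
    have hfinK : Finite (AdjoinRoot π) := Nat.finite_of_card_ne_zero (by
      rw [hK]
      have : 0 < q := by rw [← hF]; exact Fintype.card_pos
      exact (pow_pos this n).ne')
    have : Fintype (AdjoinRoot π) := Fintype.ofFinite _
    rw [Nat.card_congr (Equiv.ofBijective ψ hψ), Nat.card_eq_fintype_card,
      Fintype.card_subtype_compl, Fintype.card_subtype_eq, ← Nat.card_eq_fintype_card, hK]

end Cfsg.Agent.S2638
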