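import Cfsg.Statements.S2472
import Cfsg.Agent.Lib.Helper5.PrimeGraph2
import Cfsg.Agent.Lib.Helper5.SpRep

set_option autoImplicit false
open Cfsg

namespace Cfsg.Agent.S2472


open Polynomial Cfsg.Agent.Lib.Helper5 Cfsg.Agent.Lib.Helper5.PrimeGraph

variable {F : Type*} [Field F] [Fintype F]

/-- an irreducible factor of `X^r - 1` other than `X - 1` has degree at least the order of `q`. -/
theorem ord_le_natDegree (r : ℕ) [hr : Fact r.Prime]
    (g : F[X]) (hg : Irreducible g) (hgm : g.Monic) (hgr : g ∣ X ^ r - C 1) (hg1 : g ≠ X - C 1) :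
    orderOf (AdjoinRoot.root g) = r ∧ orderOf ((Fintype.card F : ℕ) : ZMod r) ∣ g.natDegree := by
  have h1 : (AdjoinRoot.root g) ^ r = 1 := (dvd_X_pow_sub_one_iff g r).1 hgr
  have h2 : AdjoinRoot.root g ≠ 1 := by
    intro h
    apply hg1
    apply monic_irreducible_dvd_X_sub_one hg hgm
    have := (dvd_X_pow_sub_one_iff g 1).2 (by rw [pow_one]; exact h)
    rwa [pow_one] at this
  have h3 : orderOf (AdjoinRoot.root g) = r := orderOf_eq_prime h1 h2
  refine ⟨h3, ?_⟩
  exact ord_dvd_natDegree g hg hr.out.pos hgr (r := r) (by rw [h3])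

/-- if `r` (odd prime) divides `q^i + 1` then the order of `q` mod `r` is even. -/
theorem even_ord_of_dvd (r : ℕ) [hr : Fact r.Prime] (hr2 : r ≠ 2) (q i : ℕ) (h : r ∣ q ^ i + 1) :
    Even (orderOf ((q : ℕ) : ZMod r)) := by
  by_contra hodd
  rw [Nat.not_even_iff_odd] at hodd
  have h1 : ((q : ℕ) : ZMod r) ^ i = -1 := by
    have := (ZMod.natCast_eq_zero_iff _ _).2 h
    push_cast at this
    exact eq_neg_of_add_eq_zero_left this
  have h2 : ((q : ℕ) : ZMod r) ^ (2 * i) = 1 := by
    rw [mul_comm, pow_mul, h1]; simp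
  have h3 : orderOf ((q : ℕ) : ZMod r) ∣ 2 * i := orderOf_dvd_of_pow_eq_one h2
  have h4 : orderOf ((q : ℕ) : ZMod r) ∣ i :=
    Nat.Coprime.dvd_of_dvd_mul_left (Nat.Coprime.symm (Nat.coprime_two_left.2 hodd)) h3
  have h5 : ((q : ℕ) : ZMod r) ^ i = 1 := orderOf_dvd_iff_pow_eq_one.1 h4
  rw [h5] at h1
  have h6 : ((2 : ℕ) : ZMod r) = 0 := by
    push_cast
    linear_combination h1
  rw [ZMod.natCast_eq_zero_iff] at h6
  exact hr2 ((Nat.prime_dvd_prime_iff_eq hr.out Nat.prime_two).1 h6)

/-- a finite set of monic irreducible polynomials is pairwise coprime. -/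
theorem pairwise_coprime (S : Finset F[X]) (h : ∀ g ∈ S, Irreducible g ∧ g.Monic) :
    (S : Set F[X]).Pairwise IsCoprime := by
  intro x hx y hy hxy
  obtain ⟨hxi, hxm⟩ := h x hx
  obtain ⟨hyi, hym⟩ := h y hy
  rw [hxi.coprime_iff_not_dvd]
  intro hd
  exact hxy (eq_of_monic_of_associated hxm hym (hxi.associated_of_dvd hyi hd))

theorem sp_bound (p : ℕ) [hp : Fact p.Prime] [CharP F p] (n : ℕ) (hn : 2 ≤ n) (r : ℕ)
    [hr : Fact r.Prime] (hr2 : r ≠ 2) (hrp : r ≠ p) (x : Matrix.symplecticGroup (Fin n) F)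
    (hx : orderOf x = r * p) (k ηk : ℕ) (hk : k = orderOf ((Fintype.card F : ℕ) : ZMod r))
    (hηk : (Odd k ∧ ηk = k) ∨ (Even k ∧ 2 * ηk = k)) : ηk + 1 ≤ n := by
  classical
  have : Nonempty (Fin n ⊕ Fin n) := ⟨Sum.inl ⟨0, by omega⟩⟩
  set a := x ^ r with ha
  set b := x ^ p with hb
  have hoa : orderOf a = p := by
    rw [ha, orderOf_pow_of_dvd hr.out.ne_zero (by rw [hx]; exact dvd_mul_right _ _), hx,
      Nat.mul_div_cancel_left _ hr.out.pos]
  have hob : orderOf b = r := by
    rw [hb, orderOf_pow_of_dvd hp.out.ne_zero (by rw [hx]; exact dvd_mul_left _ _), hx,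
      Nat.mul_div_cancel _ hp.out.pos]
  set A : Matrix (Fin n ⊕ Fin n) (Fin n ⊕ Fin n) F := a.val with hA
  set B : Matrix (Fin n ⊕ Fin n) (Fin n ⊕ Fin n) F := b.val with hB
  have hbr : b ^ r = 1 := by rw [← hob]; exact pow_orderOf_eq_one b
  have hBr : B ^ r = 1 := by
    have := congrArg (fun y : Matrix.symplecticGroup (Fin n) F => y.val) hbr
    simpa using this
  have hB1 : B ≠ 1 := by
    intro h
    have h1 : b = 1 := Subtype.ext h
    rw [h1, orderOf_one] at hob
    exact hr.out.one_lt.ne hob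
  have hAp : A ^ p = 1 := by
    have h1 : a ^ p = 1 := by rw [← hoa]; exact pow_orderOf_eq_one a
    have := congrArg (fun y : Matrix.symplecticGroup (Fin n) F => y.val) h1
    simpa using this
  set N := A - 1 with hN
  have hN0 : N ≠ 0 := by
    intro h
    have h1 : a = 1 := Subtype.ext (sub_eq_zero.1 h)
    rw [h1, orderOf_one] at hoa
    exact hp.out.one_lt.ne hoa
  have hNp : N ^ p = 0 := by
    rw [hN, sub_pow_char_of_commute p (Commute.one_right _), one_pow, hAp, sub_self]
  have hcab : Commute b a := (Commute.refl x).pow_pow p r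
  have hc : Commute B N := by
    have h1 : B * A = A * B := by
      have := congrArg (fun y : Matrix.symplecticGroup (Fin n) F => y.val) hcab.eq
      simpa using this
    exact Commute.sub_right h1 (Commute.one_right _)
  have hrF : ((r : ℕ) : F) ≠ 0 := by
    intro h
    rw [CharP.cast_eq_zero_iff F p] at h
    exact hrp ((Nat.prime_dvd_prime_iff_eq hp.out hr.out).1 h).symm
  set μ := minpoly F B with hμ
  have hμdvd : μ ∣ X ^ r - C 1 := by
    apply minpoly.dvd
    rw [map_sub, map_pow, aeval_X, aeval_C, hBr, map_one, sub_self]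
  have hsep : (X ^ r - C (1 : F)).Separable := separable_X_pow_sub_C 1 hrF one_ne_zero
  have hsq : Squarefree μ := hsep.squarefree.squarefree_of_dvd hμdvd
  obtain ⟨f, hf, hfm, hfd, hS⟩ := key_matrix' B N hc ⟨p, hNp⟩ hN0 hsq
  have hcard : Fintype.card (Fin n ⊕ Fin n) = 2 * n := by
    rw [Fintype.card_sum, Fintype.card_fin, two_mul]
  rw [hcard] at hS
  -- a factor different from X - 1
  obtain ⟨g₀, hg₀, hg₀μ, hg₀r, hg₀1⟩ :=
    exists_irreducible_factor_not_dvd' B r 1 hrF hBr (by simpa using hB1)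
  set g₁ := normalize g₀ with hg₁
  have hg₁i : Irreducible g₁ := (Associated.irreducible_iff (normalize_associated g₀)).2 hg₀
  have hg₁m : g₁.Monic := Polynomial.monic_normalize hg₀.ne_zero
  have hg₁μ : g₁ ∣ μ := (normalize_associated g₀).dvd.trans hg₀μ
  have hg₁1 : g₁ ≠ X - C 1 := by
    intro h
    apply hg₀1
    rw [pow_one, ← h]
    exact (normalize_associated g₀).symm.dvd
  obtain ⟨hg₁o, hg₁k⟩ := ord_le_natDegree r g₁ hg₁i hg₁m (hg₁μ.trans hμdvd) hg₁1
  rw [← hk] at hg₁k
  have hkpos : 0 < k := Nat.pos_of_dvd_of_pos hg₁k hg₁i.natDegree_pos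
  have hkg₁ : k ≤ g₁.natDegree := Nat.le_of_dvd hg₁i.natDegree_pos hg₁k
  -- the star of a factor, when k is odd
  have hstar : Odd k → ∀ g : F[X], Irreducible g → g.Monic → g ∣ μ → g ≠ X - C 1 →
      ∃ g' : F[X], Irreducible g' ∧ g'.Monic ∧ g' ∣ μ ∧ g' ≠ X - C 1 ∧ g' ≠ g ∧
        k ≤ g'.natDegree := by
    intro hodd g hg hgm hgμ hg1
    obtain ⟨g', h1, h2, h3, h4, h5, h6⟩ := exists_star b r hr.out.pos hbr g hg hgm hgμ hg1
    refine ⟨g', h1, h2, h3, h4, ?_, ?_⟩
    · intro h
      obtain ⟨i, hi⟩ := h6 h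
      rw [(ord_le_natDegree r g hg hgm (hgμ.trans hμdvd) hg1).1] at hi
      have := even_ord_of_dvd r hr2 _ i hi
      rw [← hk] at this
      exact (Nat.not_even_iff_odd.2 hodd) this
    · have := (ord_le_natDegree r g' h1 h2 h5 h4).2
      rw [← hk] at this
      exact Nat.le_of_dvd h1.natDegree_pos this
  by_cases hf1 : f = X - C 1
  · have hfdeg : f.natDegree = 1 := by rw [hf1, natDegree_X_sub_C]
    have hfg₁ : f ≠ g₁ := fun h => hg₁1 (h ▸ hf1)
    rcases hηk with ⟨hodd, hη⟩ | ⟨heven, hη⟩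
    · obtain ⟨g', h1, h2, h3, h4, h5, h6⟩ := hstar hodd g₁ hg₁i hg₁m hg₁μ hg₁1
      have hfg' : f ≠ g' := fun h => h4 (h ▸ hf1)
      have := hS {f, g₁, g'} (pairwise_coprime _ (by
          intro g hg
          simp only [Finset.mem_insert, Finset.mem_singleton] at hg
          rcases hg with rfl | rfl | rfl
          · exact ⟨hf, hfm⟩
          · exact ⟨hg₁i, hg₁m⟩
          · exact ⟨h1, h2⟩)) (by
          intro g hg
          simp only [Finset.mem_insert, Finset.mem_singleton] at hg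
          rcases hg with rfl | rfl | rfl
          · exact ⟨hf, hfd⟩
          · exact ⟨hg₁i, hg₁μ⟩
          · exact ⟨h1, h3⟩) (by simp)
      rw [Finset.sum_insert (by simp [hfg₁, hfg']), Finset.sum_pair h5.symm] at this
      omega
    · have := hS {f, g₁} (pairwise_coprime _ (by
          intro g hg
          simp only [Finset.mem_insert, Finset.mem_singleton] at hg
          rcases hg with rfl | rfl
          · exact ⟨hf, hfm⟩
          · exact ⟨hg₁i, hg₁m⟩)) (by
          intro g hg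
          simp only [Finset.mem_insert, Finset.mem_singleton] at hg
          rcases hg with rfl | rfl
          · exact ⟨hf, hfd⟩
          · exact ⟨hg₁i, hg₁μ⟩) (by simp)
      rw [Finset.sum_pair hfg₁] at this
      omega
  · have hkf : k ≤ f.natDegree := by
      have := (ord_le_natDegree r f hf hfm (hfd.trans hμdvd) hf1).2
      rw [← hk] at this
      exact Nat.le_of_dvd hf.natDegree_pos this
    rcases hηk with ⟨hodd, hη⟩ | ⟨heven, hη⟩
    · obtain ⟨f', h1, h2, h3, h4, h5, h6⟩ := hstar hodd f hf hfm hfd hf1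
      have := hS {f, f'} (pairwise_coprime _ (by
          intro g hg
          simp only [Finset.mem_insert, Finset.mem_singleton] at hg
          rcases hg with rfl | rfl
          · exact ⟨hf, hfm⟩
          · exact ⟨h1, h2⟩)) (by
          intro g hg
          simp only [Finset.mem_insert, Finset.mem_singleton] at hg
          rcases hg with rfl | rfl
          · exact ⟨hf, hfd⟩
          · exact ⟨h1, h3⟩) (by simp)
      rw [Finset.sum_pair h5.symm] at this
      omega
    · have := hS {f} (pairwise_coprime _ (by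
          intro g hg
          simp only [Finset.mem_singleton] at hg
          subst hg
          exact ⟨hf, hfm⟩)) (by
          intro g hg
          simp only [Finset.mem_singleton] at hg
          subst hg
          exact ⟨hf, hfd⟩) (by simp)
      rw [Finset.sum_singleton] at this
      omega

theorem orderOf_ofAdd_one (m : ℕ) : orderOf (Multiplicative.ofAdd (1 : ZMod m)) = m := by
  rw [orderOf_ofAdd_eq_addOrderOf, ZMod.addOrderOf_one]

/-- the torus part: `Z_r` embeds in `Sp_{2η}`. -/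
theorem hasSpRep_r (p : ℕ) [hp : Fact p.Prime] [CharP F p] (r : ℕ) [hr : Fact r.Prime]
    (hrp : r ≠ p) (k ηk : ℕ) (hk : k = orderOf ((Fintype.card F : ℕ) : ZMod r))
    (hηk : (Odd k ∧ ηk = k) ∨ (Even k ∧ 2 * ηk = k)) :
    SpRep.HasSpRep F (Multiplicative (ZMod r)) ηk := by
  set q := Fintype.card F with hq
  have hq0 : ((q : ℕ) : ZMod r) ≠ 0 := by
    intro h
    rw [ZMod.natCast_eq_zero_iff] at h
    obtain ⟨a, -, ha⟩ := FiniteField.card F p
    rw [← hq] at ha
    rw [ha] at h
    exact hrp ((Nat.prime_dvd_prime_iff_eq hr.out hp.out).1 (hr.out.dvd_of_dvd_pow h))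
  have hfin : IsOfFinOrder ((q : ℕ) : ZMod r) :=
    isOfFinOrder_iff_pow_eq_one.2 ⟨r - 1, Nat.sub_pos_of_lt hr.out.one_lt, ZMod.pow_card_sub_one_eq_one hq0⟩
  have hkpos : 0 < k := by rw [hk]; exact orderOf_pos_iff.2 hfin
  have hqk : ((q : ℕ) : ZMod r) ^ k = 1 := by rw [hk]; exact pow_orderOf_eq_one _
  rcases hηk with ⟨hodd, hη⟩ | ⟨heven, hη⟩
  · subst hη
    apply SpRep.hasSpRep_zmod_split ηk hkpos
    have h1 : 1 ≤ q ^ ηk := Nat.one_le_pow _ _ Fintype.card_pos
    rw [← ZMod.natCast_eq_zero_iff, Nat.cast_sub h1]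
    push_cast
    rw [hqk, sub_self]
  · have hηpos : 0 < ηk := by omega
    apply SpRep.hasSpRep_zmod_nonsplit ηk hηpos
    rw [← ZMod.natCast_eq_zero_iff]
    push_cast
    have h1 : (((q : ℕ) : ZMod r) ^ ηk - 1) * (((q : ℕ) : ZMod r) ^ ηk + 1) = 0 := by
      have : ((q : ℕ) : ZMod r) ^ ηk * ((q : ℕ) : ZMod r) ^ ηk = 1 := by
        rw [← pow_add, ← two_mul, hη, hqk]
      linear_combination this
    rcases mul_eq_zero.1 h1 with h2 | h2
    · exfalso
      have h3 : ((q : ℕ) : ZMod r) ^ ηk = 1 := sub_eq_zero.1 h2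
      have h4 := orderOf_dvd_of_pow_eq_one h3
      rw [← hk] at h4
      have := Nat.le_of_dvd hηpos h4
      omega
    · exact h2



/-- Adjacency of a prime and the characteristic in the prime graph of PSp(2n,q): let F be a finite field of characteristic p with q elements, n ≥ 2 with PSp(2n,F) simple, and let r ≠ p be an odd prime dividing the order of PSp(2n,F), with k the multiplicative order of q modulo r and η(k) = k for odd k, k/2 for even k. Then PSp(2n,F) has NO element of order r·p if and only if η(k) > n − 1. -/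
theorem result {F : Type*} [Field F] [Fintype F] (p : ℕ) [Fact p.Prime] [CharP F p] (n : ℕ) (hn : 2 ≤ n) (hsmall : n = 2 → 3 ≤ Fintype.card F)
    (r : ℕ) (hr : r.Prime) (hr2 : r ≠ 2) (hrp : r ≠ p) (hrG : r ∣ Nat.card (Cfsg.PSp n F))
    (k ηk : ℕ) (hk : k = orderOf ((Fintype.card F : ℕ) : ZMod r)) (hηk : (Odd k ∧ ηk = k) ∨ (Even k ∧ 2 * ηk = k)) :
    (r * p ∉ Set.range (orderOf : Cfsg.PSp n F → ℕ)) ↔ n - 1 < ηk := by
  have := Fact.mk hr
  have hp : p.Prime := Fact.out
  have hodd : Odd (r * p) ∨ (2 : F) = 0 := by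
    rcases hp.eq_two_or_odd' with h2 | h2
    · right
      subst h2
      have := CharP.cast_eq_zero F 2
      exact_mod_cast this
    · left
      exact (hr.eq_two_or_odd'.resolve_left hr2).mul h2
  rw [orderOf_mem_range_psp_iff (F := F) (n := n) (by omega) (r * p) hodd]
  constructor
  · intro h
    by_contra hcon
    apply h
    have h1 : ηk + 1 ≤ n := by omega
    have hrep := (hasSpRep_r p r hrp k ηk hk hηk).prod (SpRep.hasSpRep_transvection (F := F) p) h1
    obtain ⟨x, hx⟩ := hrep.exists_orderOf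
      (Multiplicative.ofAdd (1 : ZMod r), Multiplicative.ofAdd (1 : ZMod p))
    refine ⟨x, ?_⟩
    rw [hx, Prod.orderOf, orderOf_ofAdd_one, orderOf_ofAdd_one]
    exact ((Nat.coprime_primes hr hp).2 hrp).lcm_eq_mul
  · intro h hmem
    obtain ⟨x, hx⟩ := hmem
    have := sp_bound p n hn r hr2 hrp x hx k ηk hk hηk
    omega


end Cfsg.Agent.S2472
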