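import Cfsg.Statements.S2469
import Cfsg.Agent.Lib.Helper5.PrimeGraph3
import Cfsg.Agent.Lib.Helper5.SpRep
import Cfsg.Agent.S2472
import Cfsg.Agent.S0245

set_option autoImplicit false
open Cfsg

namespace Cfsg.Agent.S2469


open Polynomial Cfsg.Agent.Lib.Helper5 Cfsg.Agent.Lib.Helper5.PrimeGraph

theorem lcm_ge_add {a b : ℕ} (ha : 0 < a) (hb : 0 < b) (hab : ¬ a ∣ b) (hba : ¬ b ∣ a) :
    a + b ≤ Nat.lcm a b := by
  have hL : 0 < Nat.lcm a b := Nat.lcm_pos ha hb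
  obtain ⟨u, hu⟩ := Nat.dvd_lcm_left a b
  obtain ⟨v, hv⟩ := Nat.dvd_lcm_right a b
  have hu2 : 2 ≤ u := by
    rcases u with _ | _ | u
    · rw [mul_zero] at hu; omega
    · exfalso
      rw [zero_add, mul_one] at hu
      apply hba
      rw [← hu]
      exact Nat.dvd_lcm_right a b
    · omega
  have hv2 : 2 ≤ v := by
    rcases v with _ | _ | v
    · rw [mul_zero] at hv; omega
    · exfalso
      rw [zero_add, mul_one] at hv
      apply hab
      rw [← hv]
      exact Nat.dvd_lcm_left a b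
    · omega
  have h1 : 2 * a ≤ Nat.lcm a b := by rw [hu, mul_comm]; exact Nat.mul_le_mul_left a hu2
  have h2 : 2 * b ≤ Nat.lcm a b := by rw [hv, mul_comm]; exact Nat.mul_le_mul_left b hv2
  omega

theorem ar1 (k l ηk ηl n : ℕ) (hk0 : 0 < k) (hl0 : 0 < l)
    (hηk : (Odd k ∧ ηk = k) ∨ (Even k ∧ 2 * ηk = k))
    (hηl : (Odd l ∧ ηl = l) ∨ (Even l ∧ 2 * ηl = l)) (hkl : ηk ≤ ηl)
    (hL : Nat.lcm k l ≤ n) : ηk + ηl ≤ n ∨ ∃ t : ℕ, Odd t ∧ l = k * t := by
  have hηk_le : ηk ≤ k := by rcases hηk with ⟨_, h⟩ | ⟨_, h⟩ <;> omega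
  have hηl_le : ηl ≤ l := by rcases hηl with ⟨_, h⟩ | ⟨_, h⟩ <;> omega
  by_cases h1 : k ∣ l
  · obtain ⟨t, rfl⟩ := h1
    rcases Nat.even_or_odd t with ht | ht
    · left
      obtain ⟨u, rfl⟩ := ht
      have hu : 0 < u := by
        rcases Nat.eq_zero_or_pos u with rfl | h
        · simp at hl0
        · exact h
      have hlcm : Nat.lcm k (k * (u + u)) = k * (u + u) := Nat.lcm_eq_right (dvd_mul_right _ _)
      rw [hlcm] at hL
      have hev : Even (k * (u + u)) := (Even.add_self u).mul_left k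
      have hku : k ≤ k * u := Nat.le_mul_of_pos_right k hu
      rcases hηl with ⟨ho, _⟩ | ⟨_, h⟩
      · exact absurd hev (Nat.not_even_iff_odd.2 ho)
      · have : k * (u + u) = 2 * (k * u) := by ring
        omega
    · right
      exact ⟨t, ht, rfl⟩
  · by_cases h2 : l ∣ k
    · obtain ⟨t, rfl⟩ := h2
      have hlcm : Nat.lcm (l * t) l = l * t := Nat.lcm_eq_left (dvd_mul_right _ _)
      rw [hlcm] at hL
      rcases Nat.even_or_odd t with ht | ht
      · left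
        obtain ⟨u, rfl⟩ := ht
        have hu : 0 < u := by
          rcases Nat.eq_zero_or_pos u with rfl | h
          · simp at hk0
          · exact h
        have hev : Even (l * (u + u)) := (Even.add_self u).mul_left l
        have hlu : l ≤ l * u := Nat.le_mul_of_pos_right l hu
        rcases hηk with ⟨ho, _⟩ | ⟨_, h⟩
        · exact absurd hev (Nat.not_even_iff_odd.2 ho)
        · have : l * (u + u) = 2 * (l * u) := by ring
          omega
      · exfalso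
        have ht3 : 3 ≤ t := by
          obtain ⟨u, rfl⟩ := ht
          rcases u with _ | u
          · exfalso; apply h1; simp
          · omega
        rcases hηl with ⟨ho, h⟩ | ⟨he, h⟩
        · have hodd : Odd (l * t) := ho.mul ht
          rcases hηk with ⟨_, h'⟩ | ⟨he', _⟩
          · have : l * 3 ≤ l * t := Nat.mul_le_mul_left l ht3
            omega
          · exact absurd he' (Nat.not_even_iff_odd.2 hodd)
        · have hev : Even (l * t) := he.mul_right t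
          rcases hηk with ⟨ho', _⟩ | ⟨_, h'⟩
          · exact absurd hev (Nat.not_even_iff_odd.2 ho')
          · have h3 : l * 3 ≤ l * t := Nat.mul_le_mul_left l ht3
            have h4 : 2 * ηk = 2 * ηl * t := by rw [h, h']
            have h5 : 2 * ηl * 3 ≤ 2 * ηl * t := Nat.mul_le_mul_left _ ht3
            omega
    · left
      have := lcm_ge_add hk0 hl0 h1 h2
      omega

theorem ar2 (k l ηk ηl n i : ℕ) (hk0 : 0 < k) (hl0 : 0 < l)
    (hηk : 2 * ηk = k) (hηl : 2 * ηl = l) (hkl : ηk ≤ ηl)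
    (hk1 : k ∣ 2 * i) (hk2 : ¬ k ∣ i) (hl1 : l ∣ 2 * i) (hl2 : ¬ l ∣ i)
    (hL : Nat.lcm k l ≤ 2 * n) : ηk + ηl ≤ n ∨ ∃ t : ℕ, Odd t ∧ l = k * t := by
  have hL2 : Nat.lcm ηk ηl ≤ n := by
    rw [← hηk, ← hηl, Nat.lcm_mul_left] at hL
    omega
  have hηk0 : 0 < ηk := by omega
  have hηl0 : 0 < ηl := by omega
  by_cases h1 : ηk ∣ ηl
  · obtain ⟨t, ht⟩ := h1
    rcases Nat.even_or_odd t with hte | hto
    · exfalso
      obtain ⟨u, rfl⟩ := hte
      apply hk2
      have h3 : 2 * k ∣ 2 * i := by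
        refine Dvd.dvd.trans ?_ hl1
        rw [← hηl, ht, ← hηk]
        exact ⟨u, by ring⟩
      exact (Nat.mul_dvd_mul_iff_left (by norm_num)).1 h3
    · right
      refine ⟨t, hto, ?_⟩
      rw [← hηl, ht, ← hηk]
      ring
  · by_cases h2 : ηl ∣ ηk
    · exfalso
      have := Nat.le_of_dvd hηk0 h2
      have heq : ηk = ηl := le_antisymm hkl this
      apply h1
      rw [heq]
    · left
      have := lcm_ge_add hηk0 hηl0 h1 h2
      omega

variable {F : Type*} [Field F] [Fintype F]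

theorem ord_of_dvd_pow_add_one (r : ℕ) [hr : Fact r.Prime] (hr2 : r ≠ 2) (q i : ℕ)
    (h : r ∣ q ^ i + 1) :
    orderOf ((q : ℕ) : ZMod r) ∣ 2 * i ∧ ¬ orderOf ((q : ℕ) : ZMod r) ∣ i := by
  have h1 : ((q : ℕ) : ZMod r) ^ i = -1 := by
    have := (ZMod.natCast_eq_zero_iff _ _).2 h
    push_cast at this
    exact eq_neg_of_add_eq_zero_left this
  have h2 : ((q : ℕ) : ZMod r) ^ (2 * i) = 1 := by
    rw [mul_comm, pow_mul, h1]; simp
  refine ⟨orderOf_dvd_of_pow_eq_one h2, ?_⟩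
  intro h4
  have h5 : ((q : ℕ) : ZMod r) ^ i = 1 := orderOf_dvd_iff_pow_eq_one.1 h4
  rw [h5] at h1
  have h6 : ((2 : ℕ) : ZMod r) = 0 := by
    push_cast
    linear_combination h1
  rw [ZMod.natCast_eq_zero_iff] at h6
  exact hr2 ((Nat.prime_dvd_prime_iff_eq hr.out Nat.prime_two).1 h6)

theorem dvd_X_pow_sub_one_iff_orderOf (g : F[X]) (j : ℕ) :
    g ∣ X ^ j - C 1 ↔ orderOf (AdjoinRoot.root g) ∣ j := by
  rw [dvd_X_pow_sub_one_iff, orderOf_dvd_iff_pow_eq_one]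

/-- the factors attached to one prime: total degree at least `2η`. -/
theorem block {n : ℕ} (b : Matrix.symplecticGroup (Fin n) F) (m : ℕ) (hm : 0 < m) (hb : b ^ m = 1)
    (r : ℕ) [hr : Fact r.Prime] (hr2 : r ≠ 2) (k ηk : ℕ)
    (hk : k = orderOf ((Fintype.card F : ℕ) : ZMod r))
    (hηk : (Odd k ∧ ηk = k) ∨ (Even k ∧ 2 * ηk = k))
    (g : F[X]) (hg : Irreducible g) (hgm : g.Monic)
    (hgd : g ∣ minpoly F (b : Matrix (Fin n ⊕ Fin n) (Fin n ⊕ Fin n) F))
    (hgr : g ∣ X ^ r - C 1) (hg1 : g ≠ X - C 1) :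
    ∃ S : Finset F[X], (∀ h ∈ S, Irreducible h ∧ h.Monic ∧
        h ∣ minpoly F (b : Matrix (Fin n ⊕ Fin n) (Fin n ⊕ Fin n) F) ∧ h ∣ X ^ r - C 1 ∧
        h ≠ X - C 1) ∧ 2 * ηk ≤ ∑ h ∈ S, h.natDegree := by
  classical
  obtain ⟨hgo, hgk⟩ := Cfsg.Agent.S2472.ord_le_natDegree r g hg hgm hgr hg1
  rw [← hk] at hgk
  have hkg : k ≤ g.natDegree := Nat.le_of_dvd hg.natDegree_pos hgk
  rcases hηk with ⟨hodd, hη⟩ | ⟨heven, hη⟩
  · obtain ⟨g', h1, h2, h3, h4, h5⟩ := exists_star' b m hm hb g hg hgm hgd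
    have hg'r : g' ∣ X ^ r - C 1 := (h4 r).2 hgr
    have hg'1 : g' ≠ X - C 1 := by
      intro h
      apply hg1
      apply monic_irreducible_dvd_X_sub_one hg hgm
      have := (h4 1).1 (by rw [h, pow_one])
      rwa [pow_one] at this
    have hne : g' ≠ g := by
      intro h
      obtain ⟨i, hi⟩ := h5 h
      rw [hgo] at hi
      have := Cfsg.Agent.S2472.even_ord_of_dvd r hr2 _ i hi
      rw [← hk] at this
      exact (Nat.not_even_iff_odd.2 hodd) this
    have hkg' : k ≤ g'.natDegree := by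
      have := (Cfsg.Agent.S2472.ord_le_natDegree r g' h1 h2 hg'r hg'1).2
      rw [← hk] at this
      exact Nat.le_of_dvd h1.natDegree_pos this
    refine ⟨{g, g'}, ?_, ?_⟩
    · intro h hh
      simp only [Finset.mem_insert, Finset.mem_singleton] at hh
      rcases hh with rfl | rfl
      · exact ⟨hg, hgm, hgd, hgr, hg1⟩
      · exact ⟨h1, h2, h3, hg'r, hg'1⟩
    · rw [Finset.sum_pair hne.symm]
      omega
  · refine ⟨{g}, ?_, ?_⟩
    · intro h hh
      simp only [Finset.mem_singleton] at hh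
      subst hh
      exact ⟨hg, hgm, hgd, hgr, hg1⟩
    · rw [Finset.sum_singleton]
      omega

theorem exists_monic_factor_not_dvd {ι : Type*} [Fintype ι] [DecidableEq ι] (B : Matrix ι ι F)
    (m t : ℕ) (hmF : (m : F) ≠ 0) (h1 : B ^ m = 1) (h2 : B ^ t ≠ 1) :
    ∃ g : F[X], Irreducible g ∧ g.Monic ∧ g ∣ minpoly F B ∧ ¬ g ∣ X ^ t - C 1 := by
  classical
  obtain ⟨g₀, hg₀, hg₀μ, -, hg₀1⟩ := exists_irreducible_factor_not_dvd' B m t hmF h1 h2
  refine ⟨normalize g₀, (Associated.irreducible_iff (normalize_associated g₀)).2 hg₀,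
    Polynomial.monic_normalize hg₀.ne_zero, (normalize_associated g₀).dvd.trans hg₀μ, ?_⟩
  intro h
  exact hg₀1 ((normalize_associated g₀).symm.dvd.trans h)

theorem card_sum_fin (n : ℕ) : Fintype.card (Fin n ⊕ Fin n) = 2 * n := by
  rw [Fintype.card_sum, Fintype.card_fin, two_mul]

theorem case_rs {n : ℕ} (x : Matrix.symplecticGroup (Fin n) F) (r s : ℕ) [hr : Fact r.Prime]
    [hs : Fact s.Prime] (hr2 : r ≠ 2) (hs2 : s ≠ 2) (hxm : x ^ (r * s) = 1)
    (k l ηk ηl : ℕ) (hk : k = orderOf ((Fintype.card F : ℕ) : ZMod r))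
    (hl : l = orderOf ((Fintype.card F : ℕ) : ZMod s))
    (hηk : (Odd k ∧ ηk = k) ∨ (Even k ∧ 2 * ηk = k))
    (hηl : (Odd l ∧ ηl = l) ∨ (Even l ∧ 2 * ηl = l)) (hkl : ηk ≤ ηl)
    (g : F[X]) (hg : Irreducible g) (hgm : g.Monic)
    (hgd : g ∣ minpoly F (x : Matrix (Fin n ⊕ Fin n) (Fin n ⊕ Fin n) F))
    (hgr : ¬ g ∣ X ^ r - C 1) (hgs : ¬ g ∣ X ^ s - C 1) :
    ηk + ηl ≤ n ∨ ∃ t : ℕ, Odd t ∧ l = k * t := by
  classical
  set B : Matrix (Fin n ⊕ Fin n) (Fin n ⊕ Fin n) F := x.val with hB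
  have hm : 0 < r * s := Nat.mul_pos hr.out.pos hs.out.pos
  have hBm : B ^ (r * s) = 1 := by
    have := congrArg (fun y : Matrix.symplecticGroup (Fin n) F => y.val) hxm
    simpa using this
  have hμdvd : minpoly F B ∣ X ^ (r * s) - C 1 := by
    apply minpoly.dvd
    rw [map_sub, map_pow, aeval_X, aeval_C, hBm, map_one, sub_self]
  have hgrs : g ∣ X ^ (r * s) - C 1 := hgd.trans hμdvd
  -- divisibility facts for any factor with the same "order profile"
  have hprof : ∀ g' : F[X], Irreducible g' → (g' ∣ X ^ (r * s) - C 1) → ¬ g' ∣ X ^ r - C 1 →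
      ¬ g' ∣ X ^ s - C 1 → r ∣ orderOf (AdjoinRoot.root g') ∧ s ∣ orderOf (AdjoinRoot.root g') ∧
        k ∣ g'.natDegree ∧ l ∣ g'.natDegree := by
    intro g' hg' h1 h2 h3
    rw [dvd_X_pow_sub_one_iff_orderOf] at h1 h2 h3
    have hro : r ∣ orderOf (AdjoinRoot.root g') := by
      by_contra h
      have hc : Nat.Coprime (orderOf (AdjoinRoot.root g')) r :=
        ((Nat.Prime.coprime_iff_not_dvd hr.out).2 h).symm
      exact h3 (hc.dvd_of_dvd_mul_left h1)
    have hso : s ∣ orderOf (AdjoinRoot.root g') := by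
      by_contra h
      have hc : Nat.Coprime (orderOf (AdjoinRoot.root g')) s :=
        ((Nat.Prime.coprime_iff_not_dvd hs.out).2 h).symm
      exact h2 (hc.dvd_of_dvd_mul_right h1)
    refine ⟨hro, hso, ?_, ?_⟩
    · rw [hk]
      exact ord_dvd_natDegree g' hg' hm ((dvd_X_pow_sub_one_iff_orderOf g' _).2 h1) hro
    · rw [hl]
      exact ord_dvd_natDegree g' hg' hm ((dvd_X_pow_sub_one_iff_orderOf g' _).2 h1) hso
  obtain ⟨hro, hso, hkd, hld⟩ := hprof g hg hgrs hgr hgs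
  have hk0 : 0 < k := Nat.pos_of_dvd_of_pos hkd hg.natDegree_pos
  have hl0 : 0 < l := Nat.pos_of_dvd_of_pos hld hg.natDegree_pos
  have hL : Nat.lcm k l ≤ g.natDegree := Nat.le_of_dvd hg.natDegree_pos (Nat.lcm_dvd hkd hld)
  obtain ⟨g', h1, h2, h3, h4, h5⟩ := exists_star' x (r * s) hm hxm g hg hgm hgd
  by_cases hgg : g' = g
  · obtain ⟨i, hi⟩ := h5 hgg
    obtain ⟨hk1, hk2⟩ := ord_of_dvd_pow_add_one r hr2 _ i (hro.trans hi)
    obtain ⟨hl1, hl2⟩ := ord_of_dvd_pow_add_one s hs2 _ i (hso.trans hi)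
    rw [← hk] at hk1 hk2
    rw [← hl] at hl1 hl2
    have hkev : 2 * ηk = k := by
      rcases hηk with ⟨hodd, _⟩ | ⟨_, h⟩
      · exfalso
        exact hk2 (Nat.Coprime.dvd_of_dvd_mul_left (Nat.Coprime.symm (Nat.coprime_two_left.2 hodd)) hk1)
      · exact h
    have hlev : 2 * ηl = l := by
      rcases hηl with ⟨hodd, _⟩ | ⟨_, h⟩
      · exfalso
        exact hl2 (Nat.Coprime.dvd_of_dvd_mul_left (Nat.Coprime.symm (Nat.coprime_two_left.2 hodd)) hl1)
      · exact h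
    have hdeg := sum_natDegree_le B {g} (Cfsg.Agent.S2472.pairwise_coprime _ (by
      intro y hy
      simp only [Finset.mem_singleton] at hy
      subst hy
      exact ⟨hg, hgm⟩)) (by
      intro y hy
      simp only [Finset.mem_singleton] at hy
      subst hy
      exact hgd)
    rw [Finset.sum_singleton, card_sum_fin] at hdeg
    exact ar2 k l ηk ηl n i hk0 hl0 hkev hlev hkl hk1 hk2 hl1 hl2 (hL.trans hdeg)
  · have hg'rs : g' ∣ X ^ (r * s) - C 1 := (h4 _).2 hgrs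
    obtain ⟨-, -, hkd', hld'⟩ := hprof g' h1 hg'rs (fun h => hgr ((h4 _).1 h))
      (fun h => hgs ((h4 _).1 h))
    have hL' : Nat.lcm k l ≤ g'.natDegree := Nat.le_of_dvd h1.natDegree_pos (Nat.lcm_dvd hkd' hld')
    have hdeg := sum_natDegree_le B {g, g'} (Cfsg.Agent.S2472.pairwise_coprime _ (by
      intro y hy
      simp only [Finset.mem_insert, Finset.mem_singleton] at hy
      rcases hy with rfl | rfl
      · exact ⟨hg, hgm⟩
      · exact ⟨h1, h2⟩)) (by
      intro y hy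
      simp only [Finset.mem_insert, Finset.mem_singleton] at hy
      rcases hy with rfl | rfl
      · exact hgd
      · exact h3)
    rw [Finset.sum_pair (Ne.symm hgg), card_sum_fin] at hdeg
    exact ar1 k l ηk ηl n hk0 hl0 hηk hηl hkl (by omega)

theorem X_sub_one_dvd (j : ℕ) : (X - C 1 : F[X]) ∣ X ^ j - C 1 := by
  rw [dvd_X_pow_sub_one_iff]
  have h1 : AdjoinRoot.root (X - C 1 : F[X]) = 1 := by
    have := AdjoinRoot.mk_self (f := (X - C 1 : F[X]))
    rw [map_sub, AdjoinRoot.mk_X, AdjoinRoot.mk_C, map_one, sub_eq_zero] at this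
    exact this
  rw [h1, one_pow]

theorem sp_bound2 (p : ℕ) [hp : Fact p.Prime] [CharP F p] (n : ℕ) (r s : ℕ) [hr : Fact r.Prime]
    [hs : Fact s.Prime] (hr2 : r ≠ 2) (hs2 : s ≠ 2) (hrp : r ≠ p) (hsp : s ≠ p) (hrs : r ≠ s)
    (x : Matrix.symplecticGroup (Fin n) F) (hx : orderOf x = r * s)
    (k l ηk ηl : ℕ) (hk : k = orderOf ((Fintype.card F : ℕ) : ZMod r))
    (hl : l = orderOf ((Fintype.card F : ℕ) : ZMod s))
    (hηk : (Odd k ∧ ηk = k) ∨ (Even k ∧ 2 * ηk = k))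
    (hηl : (Odd l ∧ ηl = l) ∨ (Even l ∧ 2 * ηl = l)) (hkl : ηk ≤ ηl) :
    ηk + ηl ≤ n ∨ ∃ t : ℕ, Odd t ∧ l = k * t := by
  classical
  set B : Matrix (Fin n ⊕ Fin n) (Fin n ⊕ Fin n) F := x.val with hB
  have hm : 0 < r * s := Nat.mul_pos hr.out.pos hs.out.pos
  have hxm : x ^ (r * s) = 1 := by rw [← hx]; exact pow_orderOf_eq_one x
  have hBm : B ^ (r * s) = 1 := by
    have := congrArg (fun y : Matrix.symplecticGroup (Fin n) F => y.val) hxm
    simpa using this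
  have hrF : ((r : ℕ) : F) ≠ 0 := by
    intro h
    rw [CharP.cast_eq_zero_iff F p] at h
    exact hrp ((Nat.prime_dvd_prime_iff_eq hp.out hr.out).1 h).symm
  have hsF : ((s : ℕ) : F) ≠ 0 := by
    intro h
    rw [CharP.cast_eq_zero_iff F p] at h
    exact hsp ((Nat.prime_dvd_prime_iff_eq hp.out hs.out).1 h).symm
  have hmF : ((r * s : ℕ) : F) ≠ 0 := by
    rw [Nat.cast_mul]
    exact mul_ne_zero hrF hsF
  have hBs : B ^ s ≠ 1 := by
    intro h
    have h1 : x ^ s = 1 := Subtype.ext (by simpa using h)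
    have h2 := orderOf_dvd_of_pow_eq_one h1
    rw [hx] at h2
    have h3 := Nat.le_of_dvd hs.out.pos h2
    have h4 := hr.out.two_le
    nlinarith [hs.out.pos]
  have hBr : B ^ r ≠ 1 := by
    intro h
    have h1 : x ^ r = 1 := Subtype.ext (by simpa using h)
    have h2 := orderOf_dvd_of_pow_eq_one h1
    rw [hx] at h2
    have h3 := Nat.le_of_dvd hr.out.pos h2
    have h4 := hs.out.two_le
    nlinarith [hr.out.pos]
  obtain ⟨g, hg, hgm, hgd, hgs⟩ := exists_monic_factor_not_dvd B (r * s) s hmF hBm hBs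
  obtain ⟨h, hh, hhm, hhd, hhr⟩ := exists_monic_factor_not_dvd B (r * s) r hmF hBm hBr
  by_cases hgr : g ∣ X ^ r - C 1
  swap
  · exact case_rs x r s hr2 hs2 hxm k l ηk ηl hk hl hηk hηl hkl g hg hgm hgd hgr hgs
  by_cases hhs : h ∣ X ^ s - C 1
  swap
  · exact case_rs x r s hr2 hs2 hxm k l ηk ηl hk hl hηk hηl hkl h hh hhm hhd hhr hhs
  have hg1 : g ≠ X - C 1 := by
    rintro rfl
    exact hgs (X_sub_one_dvd s)
  have hh1 : h ≠ X - C 1 := by
    rintro rfl
    exact hhr (X_sub_one_dvd r)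
  obtain ⟨S₁, hS₁, hsum₁⟩ := block x (r * s) hm hxm r hr2 k ηk hk hηk g hg hgm hgd hgr hg1
  obtain ⟨S₂, hS₂, hsum₂⟩ := block x (r * s) hm hxm s hs2 l ηl hl hηl h hh hhm hhd hhs hh1
  have hdisj : Disjoint S₁ S₂ := by
    rw [Finset.disjoint_left]
    intro y hy1 hy2
    obtain ⟨hyi, hym, -, hyr, hy1'⟩ := hS₁ y hy1
    obtain ⟨-, -, -, hys, -⟩ := hS₂ y hy2
    apply hy1'
    apply monic_irreducible_dvd_X_sub_one hyi hym
    rw [dvd_X_pow_sub_one_iff_orderOf] at hyr hys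
    have h1 : orderOf (AdjoinRoot.root y) ∣ 1 := by
      have := Nat.dvd_gcd hyr hys
      rwa [(Nat.coprime_primes hr.out hs.out).2 hrs] at this
    have := (dvd_X_pow_sub_one_iff_orderOf y 1).2 h1
    rwa [pow_one] at this
  have hdeg := sum_natDegree_le B (S₁ ∪ S₂) (Cfsg.Agent.S2472.pairwise_coprime _ (by
    intro y hy
    rcases Finset.mem_union.1 hy with hy | hy
    · exact ⟨(hS₁ y hy).1, (hS₁ y hy).2.1⟩
    · exact ⟨(hS₂ y hy).1, (hS₂ y hy).2.1⟩)) (by
    intro y hy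
    rcases Finset.mem_union.1 hy with hy | hy
    · exact (hS₁ y hy).2.2.1
    · exact (hS₂ y hy).2.2.1)
  rw [Finset.sum_union hdisj, card_sum_fin] at hdeg
  left
  omega

theorem card_ne_zero_mod (p : ℕ) [hp : Fact p.Prime] [CharP F p] (r : ℕ) [hr : Fact r.Prime]
    (hrp : r ≠ p) : ((Fintype.card F : ℕ) : ZMod r) ≠ 0 := by
  intro h
  rw [ZMod.natCast_eq_zero_iff] at h
  obtain ⟨a, -, ha⟩ := FiniteField.card F p
  rw [ha] at h
  exact hrp ((Nat.prime_dvd_prime_iff_eq hr.out hp.out).1 (hr.out.dvd_of_dvd_pow h))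

theorem ord_pos' (p : ℕ) [hp : Fact p.Prime] [CharP F p] (r : ℕ) [hr : Fact r.Prime]
    (hrp : r ≠ p) : 0 < orderOf ((Fintype.card F : ℕ) : ZMod r) := by
  have hq0 := card_ne_zero_mod (F := F) p r hrp
  exact orderOf_pos_iff.2 (isOfFinOrder_iff_pow_eq_one.2
    ⟨r - 1, Nat.sub_pos_of_lt hr.out.one_lt, ZMod.pow_card_sub_one_eq_one hq0⟩)

theorem pow_eta_eq_neg_one (r : ℕ) [hr : Fact r.Prime] (q k ηk : ℕ)
    (hk : k = orderOf ((q : ℕ) : ZMod r)) (hk0 : 0 < k) (hη : 2 * ηk = k) :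
    ((q : ℕ) : ZMod r) ^ ηk = -1 := by
  have hqk : ((q : ℕ) : ZMod r) ^ k = 1 := by rw [hk]; exact pow_orderOf_eq_one _
  have hηpos : 0 < ηk := by omega
  have h1 : (((q : ℕ) : ZMod r) ^ ηk - 1) * (((q : ℕ) : ZMod r) ^ ηk + 1) = 0 := by
    have : ((q : ℕ) : ZMod r) ^ ηk * ((q : ℕ) : ZMod r) ^ ηk = 1 := by
      rw [← pow_add, ← two_mul, hη, hqk]
    linear_combination this
  rcases mul_eq_zero.1 h1 with h2 | h2
  · exfalso
    have h3 : ((q : ℕ) : ZMod r) ^ ηk = 1 := sub_eq_zero.1 h2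
    have h4 := orderOf_dvd_of_pow_eq_one h3
    rw [← hk] at h4
    have := Nat.le_of_dvd hηpos h4
    omega
  · exact eq_neg_of_add_eq_zero_left h2

/-- `η(l) ≤ n` when `s` divides the order of `PSp_{2n}(q)`. -/
theorem eta_le (p : ℕ) [hp : Fact p.Prime] [CharP F p] (n : ℕ) (s : ℕ) [hs : Fact s.Prime]
    (hsp : s ≠ p) (hsG : s ∣ Nat.card (Cfsg.PSp n F)) (l ηl : ℕ)
    (hl : l = orderOf ((Fintype.card F : ℕ) : ZMod s))
    (hηl : (Odd l ∧ ηl = l) ∨ (Even l ∧ 2 * ηl = l)) : ηl ≤ n := by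
  classical
  have h1 : s ∣ Nat.card (Matrix.symplecticGroup (Fin n) F) := by
    rw [Subgroup.card_eq_card_quotient_mul_card_subgroup
      (Subgroup.center (Matrix.symplecticGroup (Fin n) F))]
    exact Dvd.dvd.mul_right hsG _
  rw [Cfsg.Agent.S0245.result (F := F) rfl n] at h1
  have hq0 := card_ne_zero_mod (F := F) p s hsp
  rcases (Nat.Prime.dvd_mul hs.out).1 h1 with h2 | h2
  · exfalso
    apply hq0
    rw [ZMod.natCast_eq_zero_iff]
    exact hs.out.dvd_of_dvd_pow h2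
  · obtain ⟨i, hi, h3⟩ := (Prime.dvd_finset_prod_iff (Nat.prime_iff.1 hs.out) _).1 h2
    rw [Finset.mem_range] at hi
    have h4 : l ∣ 2 * (i + 1) := by
      have h5 : 1 ≤ Fintype.card F ^ (2 * (i + 1)) := Nat.one_le_pow _ _ Fintype.card_pos
      rw [← ZMod.natCast_eq_zero_iff, Nat.cast_sub h5, sub_eq_zero] at h3
      rw [hl, orderOf_dvd_iff_pow_eq_one]
      simpa using h3
    rcases hηl with ⟨hodd, hη⟩ | ⟨heven, hη⟩
    · have h5 : l ∣ i + 1 :=
        Nat.Coprime.dvd_of_dvd_mul_left (Nat.Coprime.symm (Nat.coprime_two_left.2 hodd)) h4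
      have := Nat.le_of_dvd (Nat.succ_pos i) h5
      omega
    · rw [← hη] at h4
      have h5 : ηl ∣ i + 1 := (Nat.mul_dvd_mul_iff_left (by norm_num)).1 h4
      have := Nat.le_of_dvd (Nat.succ_pos i) h5
      omega

/-- cyclic torus containing `Z_{rs}` when `l / k` is an odd integer. -/
theorem hasSpRep_rs (p : ℕ) [hp : Fact p.Prime] [CharP F p] (r s : ℕ) [hr : Fact r.Prime]
    [hs : Fact s.Prime] (hrp : r ≠ p) (hsp : s ≠ p) (hrs : r ≠ s)
    (k l ηk ηl : ℕ) (hk : k = orderOf ((Fintype.card F : ℕ) : ZMod r))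
    (hl : l = orderOf ((Fintype.card F : ℕ) : ZMod s))
    (hηk : (Odd k ∧ ηk = k) ∨ (Even k ∧ 2 * ηk = k))
    (hηl : (Odd l ∧ ηl = l) ∨ (Even l ∧ 2 * ηl = l))
    (t : ℕ) (ht : Odd t) (hlt : l = k * t) :
    SpRep.HasSpRep F (Multiplicative (ZMod (r * s))) ηl := by
  set q := Fintype.card F with hq
  have hk0 : 0 < k := by rw [hk]; exact ord_pos' p r hrp
  have hl0 : 0 < l := by rw [hl]; exact ord_pos' p s hsp
  have hqk : ((q : ℕ) : ZMod r) ^ k = 1 := by rw [hk]; exact pow_orderOf_eq_one _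
  have hql : ((q : ℕ) : ZMod s) ^ l = 1 := by rw [hl]; exact pow_orderOf_eq_one _
  have hcop : Nat.Coprime r s := (Nat.coprime_primes hr.out hs.out).2 hrs
  rcases hηl with ⟨hodd, hη⟩ | ⟨heven, hη⟩
  · subst hη
    apply SpRep.hasSpRep_zmod_split ηl hl0
    have h1 : 1 ≤ q ^ ηl := Nat.one_le_pow _ _ Fintype.card_pos
    apply hcop.mul_dvd_of_dvd_of_dvd
    · rw [← ZMod.natCast_eq_zero_iff, Nat.cast_sub h1]
      push_cast
      rw [hlt, pow_mul, hqk, one_pow, sub_self]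
    · rw [← ZMod.natCast_eq_zero_iff, Nat.cast_sub h1]
      push_cast
      rw [hql, sub_self]
  · have hηpos : 0 < ηl := by omega
    have hkev : 2 * ηk = k := by
      rcases hηk with ⟨hodd, _⟩ | ⟨_, h⟩
      · exfalso
        have : Odd l := by rw [hlt]; exact hodd.mul ht
        exact (Nat.not_even_iff_odd.2 this) heven
      · exact h
    have hηlt : ηl = ηk * t := by
      have : 2 * ηl = 2 * (ηk * t) := by rw [hη, hlt, ← hkev]; ring
      omega
    apply SpRep.hasSpRep_zmod_nonsplit ηl hηpos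
    apply hcop.mul_dvd_of_dvd_of_dvd
    · rw [← ZMod.natCast_eq_zero_iff]
      push_cast
      rw [hηlt, pow_mul, pow_eta_eq_neg_one r q k ηk hk hk0 hkev, ht.neg_one_pow, neg_add_cancel]
    · rw [← ZMod.natCast_eq_zero_iff]
      push_cast
      rw [pow_eta_eq_neg_one s q l ηl hl hl0 hη, neg_add_cancel]



/-- Adjacency of two odd primes in the prime graph of PSp(2n,q): let F be a finite field of characteristic p with q elements, n ≥ 2 with PSp(2n,F) simple, and let r ≠ s be odd primes different from p dividing the order of PSp(2n,F). Let k, l be the multiplicative orders of q modulo r and s, put η(m) = m for odd m and η(m) = m/2 for even m, and suppose η(k) ≤ η(l). Then PSp(2n,F) has NO element of order r·s if and only if η(k) + η(l) > n and l/k is not an odd integer. -/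
theorem result {F : Type*} [Field F] [Fintype F] (p : ℕ) [Fact p.Prime] [CharP F p] (n : ℕ) (hn : 2 ≤ n) (hsmall : n = 2 → 3 ≤ Fintype.card F)
    (r s : ℕ) (hr : r.Prime) (hs : s.Prime) (hr2 : r ≠ 2) (hs2 : s ≠ 2) (hrp : r ≠ p) (hsp : s ≠ p) (hrs : r ≠ s)
    (hrG : r ∣ Nat.card (Cfsg.PSp n F)) (hsG : s ∣ Nat.card (Cfsg.PSp n F))
    (k l ηk ηl : ℕ) (hk : k = orderOf ((Fintype.card F : ℕ) : ZMod r)) (hl : l = orderOf ((Fintype.card F : ℕ) : ZMod s))
    (hηk : (Odd k ∧ ηk = k) ∨ (Even k ∧ 2 * ηk = k)) (hηl : (Odd l ∧ ηl = l) ∨ (Even l ∧ 2 * ηl = l)) (hkl : ηk ≤ ηl) :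
    (r * s ∉ Set.range (orderOf : Cfsg.PSp n F → ℕ)) ↔ (n < ηk + ηl ∧ ¬ ∃ t : ℕ, Odd t ∧ l = k * t) := by
  have := Fact.mk hr
  have := Fact.mk hs
  have hodd : Odd (r * s) ∨ (2 : F) = 0 :=
    Or.inl ((hr.eq_two_or_odd'.resolve_left hr2).mul (hs.eq_two_or_odd'.resolve_left hs2))
  rw [orderOf_mem_range_psp_iff (F := F) (n := n) (by omega) (r * s) hodd]
  have hcop : Nat.Coprime r s := (Nat.coprime_primes hr hs).2 hrs
  constructor
  · intro h
    constructor
    · by_contra hcon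
      apply h
      have h1 : ηk + ηl ≤ n := by omega
      have hrep := (Cfsg.Agent.S2472.hasSpRep_r p r hrp k ηk hk hηk).prod
        (Cfsg.Agent.S2472.hasSpRep_r p s hsp l ηl hl hηl) h1
      obtain ⟨x, hx⟩ := hrep.exists_orderOf
        (Multiplicative.ofAdd (1 : ZMod r), Multiplicative.ofAdd (1 : ZMod s))
      refine ⟨x, ?_⟩
      rw [hx, Prod.orderOf, Cfsg.Agent.S2472.orderOf_ofAdd_one, Cfsg.Agent.S2472.orderOf_ofAdd_one]
      exact hcop.lcm_eq_mul
    · rintro ⟨t, ht, hlt⟩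
      apply h
      have hrep := (hasSpRep_rs p r s hrp hsp hrs k l ηk ηl hk hl hηk hηl t ht hlt).mono
        (eta_le p n s hsp hsG l ηl hl hηl)
      obtain ⟨x, hx⟩ := hrep.exists_orderOf (Multiplicative.ofAdd (1 : ZMod (r * s)))
      exact ⟨x, by rw [hx, Cfsg.Agent.S2472.orderOf_ofAdd_one]⟩
  · rintro ⟨h1, h2⟩ ⟨x, hx⟩
    rcases sp_bound2 p n r s hr2 hs2 hrp hsp hrs x hx k l ηk ηl hk hl hηk hηl hkl with h | h
    · omega
    · exact h2 h


end Cfsg.Agent.S2469
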