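import Cfsg.Statements.S2365
import Cfsg.Agent.Lib.Helper5.UStar
import Cfsg.Agent.S2472
import Cfsg.Agent.S2469

set_option autoImplicit false
open Cfsg

namespace Cfsg.Agent.S2365


open Polynomial Cfsg.Agent.Lib.Helper5 Cfsg.Agent.Lib.Helper5.PrimeGraph
open Cfsg.Agent.Lib.Helper2.Herm Cfsg.Agent.Lib.Helper1.HermCount Cfsg.Agent.Lib.Helper1.SUCenter

section groups
variable {G : Type*} [Group G]

theorem exists_lift_pow_eq_one (e t : ℕ) (hcop : Nat.Coprime t e)
    (hZ : ∀ z ∈ Subgroup.center G, z ^ e = 1) (x : G) (hx : x ^ t ∈ Subgroup.center G) :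
    ∃ w ∈ Subgroup.center G, (x * w) ^ t = 1 := by
  set z := x ^ t with hz
  have h1 : orderOf z ∣ e := orderOf_dvd_of_pow_eq_one (hZ z hx)
  have h2 : Nat.Coprime t (orderOf z) := Nat.Coprime.coprime_dvd_right h1 hcop
  obtain ⟨u, hu⟩ := exists_pow_eq_self_of_coprime h2
  refine ⟨(z ^ u)⁻¹, Subgroup.inv_mem _ (Subgroup.pow_mem _ hx u), ?_⟩
  have hc : Commute x (z ^ u)⁻¹ :=
    (Subgroup.mem_center_iff.1 (Subgroup.inv_mem _ (Subgroup.pow_mem _ hx u)) x)
  rw [hc.mul_pow, ← hz, inv_pow, ← pow_mul, mul_comm u t, pow_mul, hu, mul_inv_cancel]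

theorem commute_of_central_comm (e t : ℕ) (hcop : Nat.Coprime t e)
    (hZ : ∀ z ∈ Subgroup.center G, z ^ e = 1) (x y : G) (hxt : x ^ t = 1)
    (hc : x * y * x⁻¹ * y⁻¹ ∈ Subgroup.center G) : Commute x y := by
  set c := x * y * x⁻¹ * y⁻¹ with hcdef
  have h1 : x * y * x⁻¹ = c * y := by rw [hcdef]; group
  have hcc : ∀ g : G, g * c = c * g := fun g => Subgroup.mem_center_iff.1 hc g
  have h2 : ∀ j : ℕ, x ^ j * y * (x ^ j)⁻¹ = c ^ j * y := by
    intro j
    induction j with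
    | zero => simp
    | succ j ih =>
      calc x ^ (j + 1) * y * (x ^ (j + 1))⁻¹ = x * (x ^ j * y * (x ^ j)⁻¹) * x⁻¹ := by
            rw [pow_succ']; group
        _ = x * (c ^ j * y) * x⁻¹ := by rw [ih]
        _ = c ^ j * (x * y * x⁻¹) := by
            have : x * c ^ j = c ^ j * x := ((Commute.pow_right (hcc x) j).eq)
            rw [← mul_assoc, this]; group
        _ = c ^ (j + 1) * y := by rw [h1, ← mul_assoc, ← pow_succ]
  have h3 := h2 t
  rw [hxt, inv_one, one_mul, mul_one] at h3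
  have h4 : c ^ t = 1 := by
    have := congrArg (· * y⁻¹) h3
    simpa using this.symm
  have h5 : orderOf c ∣ Nat.gcd t e := Nat.dvd_gcd (orderOf_dvd_of_pow_eq_one h4)
    (orderOf_dvd_of_pow_eq_one (hZ c hc))
  rw [hcop, Nat.dvd_one, orderOf_eq_one_iff] at h5
  have h6 : x * y * x⁻¹ = y := by rw [h1, h5, one_mul]
  show x * y = y * x
  calc x * y = x * y * x⁻¹ * x := by group
    _ = y * x := by rw [h6]

end groups

variable {F : Type*} [Field F] [Fintype F] {q m : ℕ}

/-- matrix of an element of `SU`. -/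
abbrev mat (g : Cfsg.SU m F q) : Matrix (Fin m) (Fin m) F :=
  ((g : Matrix.SpecialLinearGroup (Fin m) F) : Matrix (Fin m) (Fin m) F)

theorem mat_mul (g h : Cfsg.SU m F q) : mat (g * h) = mat g * mat h := rfl

theorem mat_one : mat (1 : Cfsg.SU m F q) = 1 := rfl

theorem mat_pow (g : Cfsg.SU m F q) (j : ℕ) : mat (g ^ j) = mat g ^ j := by
  induction j with
  | zero => rfl
  | succ j ih => rw [pow_succ, pow_succ, mat_mul, ih]

theorem center_pow (hF : Fintype.card F = q ^ 2) (hm : 3 ≤ m) (z : Cfsg.SU m F q)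
    (hz : z ∈ Subgroup.center (Cfsg.SU m F q)) : z ^ (q + 1) = 1 := by
  have i₀ : Fin m := ⟨0, by omega⟩
  have h1 := central_scalar hF hm z hz i₀
  obtain ⟨h2, -⟩ := scalar_props hF z _ i₀ h1
  apply SU_ext
  show mat (z ^ (q + 1)) = mat 1
  rw [mat_pow, mat_one]
  show (((z : Matrix.SpecialLinearGroup (Fin m) F) : Matrix (Fin m) (Fin m) F)) ^ (q + 1) = 1
  rw [h1, _root_.smul_pow, one_pow, pow_succ']
  unfold nrm at h2
  rw [h2, one_smul]

/-- lifting commuting elements of prime orders from `PSU` to `SU`. -/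
theorem exists_lift (hF : Fintype.card F = q ^ 2) (hm : 3 ≤ m) (p s : ℕ) (hp : p.Prime)
    (hs : s.Prime) (hpq : Nat.Coprime p (q + 1)) (hsq : Nat.Coprime s (q + 1))
    (a b : Cfsg.PSU m F q) (ha : orderOf a = p) (hb : orderOf b = s) (hab : Commute a b) :
    ∃ x y : Cfsg.SU m F q, orderOf x = p ∧ orderOf y = s ∧ Commute x y := by
  obtain ⟨x₀, rfl⟩ := QuotientGroup.mk_surjective a
  obtain ⟨y₀, rfl⟩ := QuotientGroup.mk_surjective b
  have hZ := center_pow (F := F) (q := q) (m := m) hF hm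
  have hx₀ : x₀ ^ p ∈ Subgroup.center (Cfsg.SU m F q) := by
    rw [← QuotientGroup.eq_one_iff, QuotientGroup.mk_pow, ← ha, pow_orderOf_eq_one]
  have hy₀ : y₀ ^ s ∈ Subgroup.center (Cfsg.SU m F q) := by
    rw [← QuotientGroup.eq_one_iff, QuotientGroup.mk_pow, ← hb, pow_orderOf_eq_one]
  obtain ⟨w, hw, hxw⟩ := exists_lift_pow_eq_one (q + 1) p hpq hZ x₀ hx₀
  obtain ⟨v, hv, hyv⟩ := exists_lift_pow_eq_one (q + 1) s hsq hZ y₀ hy₀
  have hmkx : (QuotientGroup.mk (x₀ * w) : Cfsg.PSU m F q) = QuotientGroup.mk x₀ := by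
    rw [QuotientGroup.mk_mul, (QuotientGroup.eq_one_iff w).2 hw, mul_one]
  have hmky : (QuotientGroup.mk (y₀ * v) : Cfsg.PSU m F q) = QuotientGroup.mk y₀ := by
    rw [QuotientGroup.mk_mul, (QuotientGroup.eq_one_iff v).2 hv, mul_one]
  have := Fact.mk hp
  refine ⟨x₀ * w, y₀ * v, ?_, ?_, ?_⟩
  · apply orderOf_eq_prime hxw
    intro h
    rw [h, QuotientGroup.mk_one] at hmkx
    rw [← hmkx, orderOf_one] at ha
    exact hp.one_lt.ne ha
  · have := Fact.mk hs
    apply orderOf_eq_prime hyv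
    intro h
    rw [h, QuotientGroup.mk_one] at hmky
    rw [← hmky, orderOf_one] at hb
    exact hs.one_lt.ne hb
  · apply commute_of_central_comm (q + 1) p hpq hZ _ _ hxw
    rw [← QuotientGroup.eq_one_iff]
    simp only [QuotientGroup.mk_mul, QuotientGroup.mk_inv]
    rw [(QuotientGroup.eq_one_iff w).2 hw, (QuotientGroup.eq_one_iff v).2 hv, mul_one, mul_one]
    have h1 : (QuotientGroup.mk x₀ : Cfsg.PSU m F q) * QuotientGroup.mk y₀ =
      QuotientGroup.mk y₀ * QuotientGroup.mk x₀ := hab.eq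
    rw [h1]
    group

theorem ord_dvd_two_mul_natDegree (hF : Fintype.card F = q ^ 2) (s : ℕ) [hs : Fact s.Prime]
    (g : F[X]) (hg : Irreducible g) (hgm : g.Monic) (hgs : g ∣ X ^ s - C 1) (hg1 : g ≠ X - C 1) :
    orderOf ((q : ℕ) : ZMod s) ∣ 2 * g.natDegree := by
  obtain ⟨-, h1⟩ := Cfsg.Agent.S2472.ord_le_natDegree s g hg hgm hgs hg1
  rw [hF] at h1
  have h2 : (((q ^ 2 : ℕ) : ℕ) : ZMod s) = ((q : ℕ) : ZMod s) ^ 2 := by push_cast; rfl
  rw [h2, orderOf_dvd_iff_pow_eq_one, ← pow_mul] at h1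
  exact orderOf_dvd_of_pow_eq_one h1

theorem ord_of_self_dual (s : ℕ) [hs : Fact s.Prime] (hs2 : s ≠ 2) (hsq : ¬ s ∣ q) (i : ℕ)
    (h : s ∣ (q ^ 2) ^ i + q) : ∃ k' : ℕ, Odd k' ∧ orderOf ((q : ℕ) : ZMod s) = 2 * k' := by
  obtain ⟨j, hj, hsj⟩ : ∃ j : ℕ, Odd j ∧ s ∣ q ^ j + 1 := by
    rcases i with _ | i
    · refine ⟨1, odd_one, ?_⟩
      rw [pow_zero, add_comm] at h
      simpa using h
    · refine ⟨2 * i + 1, odd_two_mul_add_one i, ?_⟩
      have h1 : (q ^ 2) ^ (i + 1) + q = q * (q ^ (2 * i + 1) + 1) := by ring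
      rw [h1] at h
      exact ((Nat.Prime.dvd_mul hs.out).1 h).resolve_left hsq
  obtain ⟨h1, h2⟩ := Cfsg.Agent.S2469.ord_of_dvd_pow_add_one s hs2 q j hsj
  set k := orderOf ((q : ℕ) : ZMod s) with hk
  rcases Nat.even_or_odd k with hev | hodd
  · obtain ⟨k', hk'⟩ := hev
    refine ⟨k', ?_, by omega⟩
    have h3 : k' ∣ j := by
      rw [hk', ← two_mul] at h1
      exact (Nat.mul_dvd_mul_iff_left (by norm_num)).1 h1
    exact Odd.of_dvd_nat hj h3
  · exfalso
    exact h2 (Nat.Coprime.dvd_of_dvd_mul_left (Nat.Coprime.symm (Nat.coprime_two_left.2 hodd)) h1)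

theorem su_bound (hF : Fintype.card F = q ^ 2) (p : ℕ) [hp : Fact p.Prime] [CharP F p]
    (hm : 4 ≤ m) (s : ℕ) [hs : Fact s.Prime] (hsp : s ≠ p) (hs1 : ¬ s ∣ q ^ 2 - 1)
    (x y : Cfsg.SU m F q) (hx : orderOf x = p) (hy : orderOf y = s) (hxy : Commute x y) :
    ∃ i : ℕ, 1 ≤ i ∧ i < m - 2 ∧ s ∣ (if Even i then q ^ (i + 1) + 1 else q ^ (i + 1) - 1) := by
  classical
  have hq2 := two_le_q hF
  have : NeZero m := ⟨by omega⟩
  set A : Matrix (Fin m) (Fin m) F := mat x with hA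
  set B : Matrix (Fin m) (Fin m) F := mat y with hB
  have hBs : B ^ s = 1 := by rw [hB, ← mat_pow, ← hy, pow_orderOf_eq_one, mat_one]
  have hAp : A ^ p = 1 := by rw [hA, ← mat_pow, ← hx, pow_orderOf_eq_one, mat_one]
  have hB1 : B ≠ 1 := by
    intro h
    have h1 : y = 1 := SU_ext h
    rw [h1, orderOf_one] at hy
    exact hs.out.one_lt.ne hy
  set N := A - 1 with hN
  have hN0 : N ≠ 0 := by
    intro h
    have h1 : x = 1 := SU_ext (sub_eq_zero.1 h)
    rw [h1, orderOf_one] at hx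
    exact hp.out.one_lt.ne hx
  have hNp : N ^ p = 0 := by
    rw [hN, sub_pow_char_of_commute p (Commute.one_right _), one_pow, hAp, sub_self]
  have hc : Commute B N := by
    have h1 : B * A = A * B := by
      rw [hA, hB, ← mat_mul, ← mat_mul, hxy.eq]
    exact Commute.sub_right h1 (Commute.one_right _)
  have hsF : ((s : ℕ) : F) ≠ 0 := by
    intro h
    rw [CharP.cast_eq_zero_iff F p] at h
    exact hsp ((Nat.prime_dvd_prime_iff_eq hp.out hs.out).1 h).symm
  set μ := minpoly F B with hμ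
  have hμdvd : μ ∣ X ^ s - C 1 := by
    apply minpoly.dvd
    rw [map_sub, map_pow, aeval_X, aeval_C, hBs, map_one, sub_self]
  have hsep : (X ^ s - C (1 : F)).Separable := separable_X_pow_sub_C 1 hsF one_ne_zero
  have hsq : Squarefree μ := hsep.squarefree.squarefree_of_dvd hμdvd
  obtain ⟨f, hf, hfm, hfd, hS⟩ := CommUnip.key_matrix B N hc ⟨p, hNp⟩ hN0 hsq
  have hMB : ∀ u v, Cfsg.hermForm m F q (B.mulVec u) (B.mulVec v) = Cfsg.hermForm m F q u v :=
    SU_preserves y
  -- arithmetic of k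
  set k := orderOf ((q : ℕ) : ZMod s) with hk
  have hsq' : ¬ s ∣ q := by
    intro h
    obtain ⟨a, ha⟩ := UStar.exists_q_eq_pow hF p
    rw [ha] at h
    exact hsp ((Nat.prime_dvd_prime_iff_eq hs.out hp.out).1 (hs.out.dvd_of_dvd_pow h))
  have hs2 : s ≠ 2 := by
    intro h
    apply hs1
    rw [h]
    rcases Nat.even_or_odd q with he | ho
    · exfalso
      apply hsq'
      rw [h]
      exact he.two_dvd
    · have : Odd (q ^ 2) := ho.pow
      exact (Nat.Odd.sub_odd this odd_one).two_dvd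
  have hk2 : ¬ k ∣ 2 := by
    intro h
    apply hs1
    have h1 : ((q : ℕ) : ZMod s) ^ 2 = 1 := orderOf_dvd_iff_pow_eq_one.1 h
    have h2 : 1 ≤ q ^ 2 := Nat.one_le_pow _ _ (by omega)
    rw [← ZMod.natCast_eq_zero_iff, Nat.cast_sub h2]
    push_cast
    rw [h1, sub_self]
  have hqk : ((q : ℕ) : ZMod s) ^ k = 1 := pow_orderOf_eq_one _
  -- a factor different from X - 1
  obtain ⟨g₁, hg₁i, hg₁m, hg₁μ, hg₁1'⟩ :=
    Cfsg.Agent.S2469.exists_monic_factor_not_dvd B s 1 hsF hBs (by simpa using hB1)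
  have hg₁1 : g₁ ≠ X - C 1 := by
    rintro rfl
    exact hg₁1' (Cfsg.Agent.S2469.X_sub_one_dvd 1)
  have hkg₁ := ord_dvd_two_mul_natDegree hF s g₁ hg₁i hg₁m (hg₁μ.trans hμdvd) hg₁1
  have hkpos : 0 < k := Nat.pos_of_dvd_of_pos hkg₁ (Nat.mul_pos (by norm_num) hg₁i.natDegree_pos)
  -- star
  have hstar : ∀ g : F[X], Irreducible g → g.Monic → g ∣ μ → g ≠ X - C 1 →
      ∃ g' : F[X], Irreducible g' ∧ g'.Monic ∧ g' ∣ μ ∧ g' ≠ X - C 1 ∧
        (g' = g → ∃ k' : ℕ, Odd k' ∧ k = 2 * k') := by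
    intro g hg hgm hgμ hg1
    obtain ⟨g', h1, h2, h3, h4, h5⟩ := UStar.exists_ustar hF B hMB s hs.out.pos hBs g hg hgm hgμ
    refine ⟨g', h1, h2, h3, ?_, ?_⟩
    · intro h
      apply hg1
      apply monic_irreducible_dvd_X_sub_one hg hgm
      have := (h4 1).1 (by rw [h, pow_one])
      rwa [pow_one] at this
    · intro h
      obtain ⟨i, hi⟩ := h5 h
      rw [(Cfsg.Agent.S2472.ord_le_natDegree s g hg hgm (hgμ.trans hμdvd) hg1).1] at hi
      exact ord_of_self_dual s hs2 hsq' i hi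
  -- the two counting patterns
  have hL2 : ∀ d₀ : ℕ, 2 ≤ d₀ → (∀ g : F[X], Irreducible g → g.Monic → g ∣ μ → g ≠ X - C 1 →
      d₀ ≤ g.natDegree) → d₀ + 2 ≤ m := by
    intro d₀ hd₀ hdeg
    by_cases hf1 : f = X - C 1
    · have hfdeg : f.natDegree = 1 := by rw [hf1, natDegree_X_sub_C]
      have hfg₁ : f ≠ g₁ := fun h => hg₁1 (h ▸ hf1)
      have := hS {f, g₁} (Cfsg.Agent.S2472.pairwise_coprime _ (by
          intro g hg
          simp only [Finset.mem_insert, Finset.mem_singleton] at hg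
          rcases hg with rfl | rfl
          · exact ⟨hf, hfm⟩
          · exact ⟨hg₁i, hg₁m⟩)) (by
          intro g hg
          simp only [Finset.mem_insert, Finset.mem_singleton] at hg
          rcases hg with rfl | rfl
          · exact ⟨hf, hfd⟩
          · exact ⟨hg₁i, hg₁μ⟩) (by simp)
      rw [Finset.sum_pair hfg₁] at this
      have := hdeg g₁ hg₁i hg₁m hg₁μ hg₁1
      omega
    · have := hS {f} (Cfsg.Agent.S2472.pairwise_coprime _ (by
          intro g hg
          simp only [Finset.mem_singleton] at hg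
          subst hg
          exact ⟨hf, hfm⟩)) (by
          intro g hg
          simp only [Finset.mem_singleton] at hg
          subst hg
          exact ⟨hf, hfd⟩) (by simp)
      rw [Finset.sum_singleton] at this
      have := hdeg f hf hfm hfd hf1
      omega
  have hL1 : ∀ d₀ : ℕ, 2 ≤ d₀ → (∀ g : F[X], Irreducible g → g.Monic → g ∣ μ → g ≠ X - C 1 →
      d₀ ≤ g.natDegree) → (∀ k' : ℕ, Odd k' → k ≠ 2 * k') → 2 * d₀ + 2 ≤ m := by
    intro d₀ hd₀ hdeg hnsd
    by_cases hf1 : f = X - C 1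
    · have hfdeg : f.natDegree = 1 := by rw [hf1, natDegree_X_sub_C]
      have hfg₁ : f ≠ g₁ := fun h => hg₁1 (h ▸ hf1)
      obtain ⟨g', h1, h2, h3, h4, h5⟩ := hstar g₁ hg₁i hg₁m hg₁μ hg₁1
      have hne : g' ≠ g₁ := by
        intro h
        obtain ⟨k', hk'o, hk'⟩ := h5 h
        exact hnsd k' hk'o hk'
      have hfg' : f ≠ g' := fun h => h4 (h ▸ hf1)
      have := hS {f, g₁, g'} (Cfsg.Agent.S2472.pairwise_coprime _ (by
          intro g hg
          simp only [Finset.mem_insert, Finset.mem_singleton] at hg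
          rcases hg with rfl | rfl | rfl
          · exact ⟨hf, hfm⟩
          · exact ⟨hg₁i, hg₁m⟩
          · exact ⟨h1, h2⟩)) (by
          intro g hg
          simp only [Finset.mem_insert, Finset.mem_singleton] at hg
          rcases hg with rfl | rfl | rfl
          · exact ⟨hf, hfd⟩
          · exact ⟨hg₁i, hg₁μ⟩
          · exact ⟨h1, h3⟩) (by simp)
      rw [Finset.sum_insert (by simp [hfg₁, hfg']), Finset.sum_pair hne.symm] at this
      have := hdeg g₁ hg₁i hg₁m hg₁μ hg₁1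
      have := hdeg g' h1 h2 h3 h4
      omega
    · obtain ⟨f', h1, h2, h3, h4, h5⟩ := hstar f hf hfm hfd hf1
      have hne : f' ≠ f := by
        intro h
        obtain ⟨k', hk'o, hk'⟩ := h5 h
        exact hnsd k' hk'o hk'
      have := hS {f, f'} (Cfsg.Agent.S2472.pairwise_coprime _ (by
          intro g hg
          simp only [Finset.mem_insert, Finset.mem_singleton] at hg
          rcases hg with rfl | rfl
          · exact ⟨hf, hfm⟩
          · exact ⟨h1, h2⟩)) (by
          intro g hg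
          simp only [Finset.mem_insert, Finset.mem_singleton] at hg
          rcases hg with rfl | rfl
          · exact ⟨hf, hfd⟩
          · exact ⟨h1, h3⟩) (by simp)
      rw [Finset.sum_pair hne.symm] at this
      have := hdeg f hf hfm hfd hf1
      have := hdeg f' h1 h2 h3 h4
      omega
  have hdvd2 : ∀ g : F[X], Irreducible g → g.Monic → g ∣ μ → g ≠ X - C 1 → k ∣ 2 * g.natDegree :=
    fun g hg hgm hgμ hg1 => ord_dvd_two_mul_natDegree hF s g hg hgm (hgμ.trans hμdvd) hg1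
  have hk3 : 3 ≤ k := by
    rcases k with _ | _ | _ | k
    · omega
    · exact absurd (one_dvd 2) hk2
    · exact absurd (dvd_refl 2) hk2
    · omega
  rcases Nat.even_or_odd k with hev | hodd
  · obtain ⟨k', hk'⟩ := hev
    have hk'2 : 2 ≤ k' := by omega
    have hdeg : ∀ g : F[X], Irreducible g → g.Monic → g ∣ μ → g ≠ X - C 1 → k' ≤ g.natDegree := by
      intro g hg hgm hgμ hg1
      have h1 := hdvd2 g hg hgm hgμ hg1
      rw [hk', ← two_mul] at h1
      exact Nat.le_of_dvd hg.natDegree_pos ((Nat.mul_dvd_mul_iff_left (by norm_num)).1 h1)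
    rcases Nat.even_or_odd k' with hev' | hodd'
    · -- k ≡ 0 mod 4: index k
      have h1 := hL1 k' hk'2 hdeg (by
        intro k'' hk''o hk''
        have : k' = k'' := by omega
        rw [this] at hev'
        exact (Nat.not_even_iff_odd.2 hk''o) hev')
      refine ⟨k - 1, by omega, by omega, ?_⟩
      have hodd1 : ¬ Even (k - 1) := by
        rw [Nat.not_even_iff_odd]
        have : Even k := ⟨k', hk'⟩
        exact Nat.Even.sub_odd (by omega) this odd_one
      rw [if_neg hodd1, Nat.sub_add_cancel (by omega)]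
      have h2 : 1 ≤ q ^ k := Nat.one_le_pow _ _ (by omega)
      rw [← ZMod.natCast_eq_zero_iff, Nat.cast_sub h2]
      push_cast
      rw [hqk, sub_self]
    · -- k ≡ 2 mod 4: index k'
      have h1 := hL2 k' hk'2 hdeg
      refine ⟨k' - 1, by omega, by omega, ?_⟩
      have hev1 : Even (k' - 1) := Nat.Odd.sub_odd hodd' odd_one
      rw [if_pos hev1, Nat.sub_add_cancel (by omega)]
      rw [← ZMod.natCast_eq_zero_iff]
      push_cast
      rw [Cfsg.Agent.S2469.pow_eta_eq_neg_one s q k k' hk hkpos (by omega), neg_add_cancel]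
  · -- k odd: index 2k
    have hdeg : ∀ g : F[X], Irreducible g → g.Monic → g ∣ μ → g ≠ X - C 1 → k ≤ g.natDegree := by
      intro g hg hgm hgμ hg1
      have h1 := hdvd2 g hg hgm hgμ hg1
      exact Nat.le_of_dvd hg.natDegree_pos
        (Nat.Coprime.dvd_of_dvd_mul_left (Nat.Coprime.symm (Nat.coprime_two_left.2 hodd)) h1)
    have h1 := hL1 k (by omega) hdeg (by
      intro k'' _ hk''
      rw [hk''] at hodd
      exact (Nat.not_even_iff_odd.2 hodd) (even_two_mul k''))
    refine ⟨2 * k - 1, by omega, by omega, ?_⟩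
    have hodd1 : ¬ Even (2 * k - 1) := by
      rw [Nat.not_even_iff_odd]
      exact Nat.Even.sub_odd (by omega) (even_two_mul k) odd_one
    rw [if_neg hodd1, Nat.sub_add_cancel (by omega)]
    have h2 : 1 ≤ q ^ (2 * k) := Nat.one_le_pow _ _ (by omega)
    rw [← ZMod.natCast_eq_zero_iff, Nat.cast_sub h2]
    push_cast
    rw [mul_comm, pow_mul, hqk, one_pow, sub_self]



/-- Let q be a power of the prime p, F the field with q² elements, m ≥ 4, and let a, b be commuting elements of PSU(m, q) with a of order p. Then every prime divisor of the order of b divides the order of SU(m − 2, q). -/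
theorem result {F : Type*} [Field F] [Fintype F] (p : ℕ) [Fact p.Prime] [CharP F p] (m q : ℕ) (hm : 4 ≤ m) (hF : Fintype.card F = q ^ 2)
    (a b : Cfsg.PSU m F q) (ha : orderOf a = p) (hab : Commute a b) :
    (orderOf b).primeFactors ⊆ (Nat.card ↥(Cfsg.SU (m - 2) F q)).primeFactors := by
  classical
  intro s hs
  rw [Nat.mem_primeFactors] at hs ⊢
  obtain ⟨hsp, hsb, hb0⟩ := hs
  have hp : p.Prime := Fact.out
  have hq2 := two_le_q hF
  have hcard := Cfsg.Agent.S0278.result hF (m - 2) (by omega)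
  obtain ⟨m', hm'⟩ : ∃ m' : ℕ, m - 2 = m' + 1 := ⟨m - 3, by omega⟩
  have hm'1 : 1 ≤ m' := by omega
  rw [hm', Finset.prod_range_succ'] at hcard
  have ht0 : (if Even 0 then q ^ (0 + 1) + 1 else q ^ (0 + 1) - 1) = q + 1 := by simp
  rw [ht0, ← mul_assoc, mul_comm (q + 1)] at hcard
  have hcard' := Nat.eq_of_mul_eq_mul_right (by omega : 0 < q + 1) hcard
  set E := (m' + 1) * (m' + 1 - 1) / 2 with hE
  have hE1 : 1 ≤ E := by
    rw [hE, Nat.add_sub_cancel]
    have : 2 ≤ (m' + 1) * m' := by nlinarith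
    omega
  obtain ⟨e, he⟩ := UStar.exists_q_eq_pow hF p
  have he1 : 1 ≤ e := by
    rcases e with _ | e
    · rw [pow_zero] at he; omega
    · omega
  have hcard0 : Nat.card ↥(Cfsg.SU (m - 2) F q) ≠ 0 := Nat.card_pos.ne'
  refine ⟨hsp, ?_, hcard0⟩
  rw [hm', hcard']
  by_cases hsp' : s = p
  · apply Dvd.dvd.mul_right
    rw [hsp', he, ← pow_mul]
    exact dvd_pow_self p (Nat.mul_pos he1 hE1).ne'
  apply Dvd.dvd.mul_left
  by_cases hs1 : s ∣ q ^ 2 - 1
  · refine hs1.trans ?_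
    have h1 : (0 : ℕ) ∈ Finset.range m' := Finset.mem_range.2 (by omega)
    have := Finset.dvd_prod_of_mem (fun i => if Even (i + 1) then q ^ (i + 1 + 1) + 1 else q ^ (i + 1 + 1) - 1) h1
    simpa using this
  · have := Fact.mk hsp
    set b₁ := b ^ (orderOf b / s) with hb₁
    have hob₁ : orderOf b₁ = s := orderOf_pow_orderOf_div hb0 hsb
    have hab₁ : Commute a b₁ := hab.pow_right _
    have hpq : Nat.Coprime p (q + 1) := by
      rw [he]
      have h1 : Nat.Coprime p (p ^ e + 1) := by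
        rw [Nat.Prime.coprime_iff_not_dvd hp]
        intro h
        have h2 : p ∣ p ^ e := dvd_pow_self p (by omega)
        have := (Nat.dvd_add_right h2).1 h
        exact hp.one_lt.ne' (Nat.dvd_one.1 this)
      exact h1
    have hsq : Nat.Coprime s (q + 1) := by
      rw [Nat.Prime.coprime_iff_not_dvd hsp]
      intro h
      apply hs1
      refine h.trans ⟨q - 1, ?_⟩
      have : 1 ≤ q := by omega
      zify [this, Nat.one_le_pow 2 q (by omega)]
      ring
    obtain ⟨x, y, hx, hy, hxy⟩ := exists_lift hF (by omega) p s hp hsp hpq hsq a b₁ ha hob₁ hab₁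
    obtain ⟨i, hi1, hi2, hi3⟩ := su_bound hF p hm s hsp' hs1 x y hx hy hxy
    obtain ⟨i', rfl⟩ : ∃ i' : ℕ, i = i' + 1 := ⟨i - 1, by omega⟩
    have h1 : i' ∈ Finset.range m' := Finset.mem_range.2 (by omega)
    exact hi3.trans (Finset.dvd_prod_of_mem
      (fun i => if Even (i + 1) then q ^ (i + 1 + 1) + 1 else q ^ (i + 1 + 1) - 1) h1)


end Cfsg.Agent.S2365
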