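import Cfsg.Statements.S2468
import Cfsg.Agent.Lib.Helper5.PrimeGraph1

set_option autoImplicit false
open Cfsg

namespace Cfsg.Agent.S2468


open Polynomial Cfsg.Agent.Lib.Helper5

/-- (A): degree bounds forced by an element of order `r * s`. -/
theorem bound_of_matrix {F : Type*} [Field F] [Fintype F] {n : ℕ} (g : Matrix (Fin n) (Fin n) F)
    (r s : ℕ) [hr : Fact r.Prime] [hs : Fact s.Prime] (hrF : (r : F) ≠ 0) (hsF : (s : F) ≠ 0)
    (h1 : g ^ (r * s) = 1) (h2 : g ^ r ≠ 1) (h3 : g ^ s ≠ 1) :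
    Nat.lcm (orderOf ((Fintype.card F : ℕ) : ZMod r)) (orderOf ((Fintype.card F : ℕ) : ZMod s)) ≤ n ∨
      orderOf ((Fintype.card F : ℕ) : ZMod r) + orderOf ((Fintype.card F : ℕ) : ZMod s) ≤ n := by
  classical
  set q := Fintype.card F with hq
  have hq0 : 0 < q := Fintype.card_pos
  set k := orderOf ((q : ℕ) : ZMod r) with hk
  set l := orderOf ((q : ℕ) : ZMod s) with hl
  have hmF : ((r * s : ℕ) : F) ≠ 0 := by
    rw [Nat.cast_mul]
    exact mul_ne_zero hrF hsF
  obtain ⟨f₁, hf₁, hf₁μ, hf₁m, hf₁r⟩ :=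
    PrimeGraph.exists_irreducible_factor_not_dvd g (r * s) r hmF h1 h2
  obtain ⟨f₂, hf₂, hf₂μ, hf₂m, hf₂s⟩ :=
    PrimeGraph.exists_irreducible_factor_not_dvd g (r * s) s hmF h1 h3
  have hd1 : s ∣ q ^ f₁.natDegree - 1 :=
    PrimeGraph.prime_dvd_of_not_dvd f₁ hf₁ hs.out hr.out.pos hf₁m hf₁r
  have hd2 : r ∣ q ^ f₂.natDegree - 1 := by
    rw [mul_comm] at hf₂m
    exact PrimeGraph.prime_dvd_of_not_dvd f₂ hf₂ hr.out hs.out.pos hf₂m hf₂s
  have hl1 : l ∣ f₁.natDegree := (SylTor.dvd_pow_sub_one_iff hq0 _).1 hd1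
  have hk2 : k ∣ f₂.natDegree := (SylTor.dvd_pow_sub_one_iff hq0 _).1 hd2
  have hμ0 : minpoly F g ≠ 0 := minpoly.ne_zero (Matrix.isIntegral g)
  have hμn := PrimeGraph.natDegree_minpoly_le g
  have hp1 : 0 < f₁.natDegree := hf₁.natDegree_pos
  have hp2 : 0 < f₂.natDegree := hf₂.natDegree_pos
  by_cases hdv : f₁ ∣ f₂
  · left
    have hass : Associated f₁ f₂ := (hf₁.dvd_irreducible_iff_associated hf₂).1 hdv
    have hf₁s : ¬ f₁ ∣ X ^ s - C 1 := fun h => hf₂s (hass.symm.dvd.trans h)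
    have hd3 : r ∣ q ^ f₁.natDegree - 1 := by
      rw [mul_comm] at hf₁m
      exact PrimeGraph.prime_dvd_of_not_dvd f₁ hf₁ hr.out hs.out.pos hf₁m hf₁s
    have hk1 : k ∣ f₁.natDegree := (SylTor.dvd_pow_sub_one_iff hq0 _).1 hd3
    have h4 : Nat.lcm k l ∣ f₁.natDegree := Nat.lcm_dvd hk1 hl1
    have h5 := Nat.le_of_dvd hp1 h4
    have h6 : f₁.natDegree ≤ (minpoly F g).natDegree := natDegree_le_of_dvd hf₁μ hμ0
    omega
  · right
    have hcop : IsCoprime f₁ f₂ := (hf₁.coprime_iff_not_dvd).2 hdv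
    have hmul : f₁ * f₂ ∣ minpoly F g := hcop.mul_dvd hf₁μ hf₂μ
    have h6 : (f₁ * f₂).natDegree ≤ (minpoly F g).natDegree := natDegree_le_of_dvd hmul hμ0
    rw [natDegree_mul hf₁.ne_zero hf₂.ne_zero] at h6
    have h7 := Nat.le_of_dvd hp1 hl1
    have h8 := Nat.le_of_dvd hp2 hk2
    omega

section grp
variable {F : Type*} [Field F] [Fintype F] {n : ℕ}

/-- (B): an element of `PSL` of order `m` gives an element of `SL` of order `m`. -/
theorem exists_sl_of_psl (g : Matrix.ProjectiveSpecialLinearGroup (Fin n) F) (m : ℕ)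
    (hg : orderOf g = m) : ∃ h : Matrix.SpecialLinearGroup (Fin n) F, orderOf h = m := by
  classical
  obtain ⟨s₀, rfl⟩ := QuotientGroup.mk_surjective g
  have hdvd : m ∣ orderOf s₀ := by
    rw [← hg]
    exact orderOf_map_dvd (QuotientGroup.mk' _) s₀
  exact ⟨s₀ ^ (orderOf s₀ / m), orderOf_pow_orderOf_div (orderOf_pos s₀).ne' hdvd⟩

/-- (D): an element of `GL` of order prime to `q - 1` gives an element of `PSL` of that order. -/
theorem exists_psl_of_gl (hn : 0 < n) (ĝ : GL (Fin n) F) (m : ℕ)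
    (hcop : Nat.Coprime m (Fintype.card F - 1)) (hg : orderOf ĝ = m) :
    ∃ g : Matrix.ProjectiveSpecialLinearGroup (Fin n) F, orderOf g = m := by
  classical
  set q := Fintype.card F with hq
  have hdet : Matrix.GeneralLinearGroup.det ĝ = 1 := by
    have h1 : (Matrix.GeneralLinearGroup.det ĝ) ^ m = 1 := by
      rw [← map_pow, ← hg, pow_orderOf_eq_one, map_one]
    have h2 : (Matrix.GeneralLinearGroup.det ĝ) ^ (q - 1) = 1 := by
      rw [hq, ← Fintype.card_units]
      exact pow_card_eq_one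
    have := pow_gcd_eq_one.2 ⟨h1, h2⟩
    rw [Nat.Coprime] at hcop
    rwa [hcop, pow_one] at this
  have hdet' : (ĝ : Matrix (Fin n) (Fin n) F).det = 1 := by
    have := congrArg Units.val hdet
    simpa using this
  let ŝ : Matrix.SpecialLinearGroup (Fin n) F := ⟨ĝ, hdet'⟩
  have hŝ : orderOf ŝ = m := by
    rw [← hg, ← orderOf_injective (Matrix.SpecialLinearGroup.toGL : _ →* GL (Fin n) F)
      Matrix.SpecialLinearGroup.toGL_injective ŝ]
    congr 1
    apply Units.ext
    rfl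
  refine ⟨QuotientGroup.mk ŝ, ?_⟩
  apply Nat.dvd_antisymm
  · rw [← hŝ]
    exact orderOf_map_dvd (QuotientGroup.mk' _) ŝ
  · set j := orderOf (QuotientGroup.mk ŝ : Matrix.ProjectiveSpecialLinearGroup (Fin n) F) with hj
    have h1 : (QuotientGroup.mk ŝ : Matrix.ProjectiveSpecialLinearGroup (Fin n) F) ^ j = 1 :=
      pow_orderOf_eq_one _
    rw [← QuotientGroup.mk_pow, QuotientGroup.eq_one_iff,
      Matrix.SpecialLinearGroup.mem_center_iff] at h1
    obtain ⟨c, hc, hcs⟩ := h1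
    have hc0 : c ≠ 0 := by
      rintro rfl
      rw [Fintype.card_fin, zero_pow hn.ne'] at hc
      exact zero_ne_one hc
    have h2 : (ŝ ^ j) ^ (q - 1) = 1 := by
      apply Matrix.SpecialLinearGroup.ext
      intro a b
      rw [Matrix.SpecialLinearGroup.coe_pow, ← hcs, ← map_pow,
        FiniteField.pow_card_sub_one_eq_one c hc0, map_one]
      rfl
    rw [← pow_mul] at h2
    have h3 := orderOf_dvd_of_pow_eq_one h2
    rw [hŝ] at h3
    exact hcop.dvd_of_dvd_mul_right h3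

/-- a prime dividing `|PSL_n(q)|` and not `q` divides some `q^j - 1`, `1 ≤ j ≤ n`. -/
theorem exists_dvd_of_dvd_card (s : ℕ) (hs : s.Prime) (hsq : ¬ s ∣ Fintype.card F)
    (hsG : s ∣ Nat.card (Matrix.ProjectiveSpecialLinearGroup (Fin n) F)) :
    ∃ j, 1 ≤ j ∧ j ≤ n ∧ s ∣ Fintype.card F ^ j - 1 := by
  classical
  have h1 : Nat.card (Matrix.ProjectiveSpecialLinearGroup (Fin n) F) ∣
      Nat.card (Matrix.SpecialLinearGroup (Fin n) F) :=
    Subgroup.card_quotient_dvd_card _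
  have h2 : Nat.card (Matrix.SpecialLinearGroup (Fin n) F) ∣ Nat.card (GL (Fin n) F) :=
    Subgroup.card_dvd_of_injective _ Matrix.SpecialLinearGroup.toGL_injective
  have h3 : Nat.card (GL (Fin n) F) =
      ∏ i : Fin n, (Fintype.card F ^ n - Fintype.card F ^ (i : ℕ)) := by
    rw [Matrix.card_GL_field]
  have h4 := (hsG.trans h1).trans h2
  rw [h3, (Nat.Prime.prime hs).dvd_finsetProd_iff] at h4
  obtain ⟨i, -, hi⟩ := h4
  have hi2 : Fintype.card F ^ n - Fintype.card F ^ (i : ℕ) =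
      Fintype.card F ^ (i : ℕ) * (Fintype.card F ^ (n - i) - 1) := by
    rw [Nat.mul_sub, mul_one, ← pow_add]
    congr 2
    have := i.2
    omega
  rw [hi2] at hi
  refine ⟨n - i, by have := i.2; omega, Nat.sub_le _ _, ?_⟩
  rcases (Nat.Prime.dvd_mul hs).1 hi with h | h
  · exact absurd (hs.dvd_of_dvd_pow h) hsq
  · exact h

end grp



/-- Adjacency of two odd primes in the prime graph of PSL(n,q): let F be a finite field of characteristic p with q elements, n ≥ 2 with PSL(n,F) simple, and let r ≠ s be odd primes different from p dividing the order of PSL(n,F). Let k and l be the multiplicative orders of q modulo r and modulo s, and suppose 2 ≤ k ≤ l. Then PSL(n,F) has NO element of order r·s if and only if k + l > n and k does not divide l. -/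
theorem result {F : Type*} [Field F] [Fintype F] (p : ℕ) [Fact p.Prime] [CharP F p] (n : ℕ) (hn : 2 ≤ n) (hsmall : n = 2 → 4 ≤ Fintype.card F)
    (r s : ℕ) (hr : r.Prime) (hs : s.Prime) (hr2 : r ≠ 2) (hs2 : s ≠ 2) (hrp : r ≠ p) (hsp : s ≠ p) (hrs : r ≠ s)
    (hrG : r ∣ Nat.card (Matrix.ProjectiveSpecialLinearGroup (Fin n) F)) (hsG : s ∣ Nat.card (Matrix.ProjectiveSpecialLinearGroup (Fin n) F))
    (k l : ℕ) (hk : k = orderOf ((Fintype.card F : ℕ) : ZMod r)) (hl : l = orderOf ((Fintype.card F : ℕ) : ZMod s))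
    (h2k : 2 ≤ k) (hkl : k ≤ l) :
    (r * s ∉ Set.range (orderOf : Matrix.ProjectiveSpecialLinearGroup (Fin n) F → ℕ)) ↔ (n < k + l ∧ ¬ k ∣ l) := by
  classical
  have := Fact.mk hr
  have := Fact.mk hs
  set q := Fintype.card F with hq
  have hq0 : 0 < q := Fintype.card_pos
  have hpP : p.Prime := Fact.out
  obtain ⟨e, -, hqe⟩ := FiniteField.card F p
  have hrq : ¬ r ∣ q := by
    rw [hq, hqe]
    intro h
    exact hrp ((Nat.prime_dvd_prime_iff_eq hr hpP).1 (hr.dvd_of_dvd_pow h))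
  have hsq : ¬ s ∣ q := by
    rw [hq, hqe]
    intro h
    exact hsp ((Nat.prime_dvd_prime_iff_eq hs hpP).1 (hs.dvd_of_dvd_pow h))
  have hrF : (r : F) ≠ 0 := by
    intro h
    rw [CharP.cast_eq_zero_iff F p] at h
    exact hrp ((Nat.prime_dvd_prime_iff_eq hpP hr).1 h).symm
  have hsF : (s : F) ≠ 0 := by
    intro h
    rw [CharP.cast_eq_zero_iff F p] at h
    exact hsp ((Nat.prime_dvd_prime_iff_eq hpP hs).1 h).symm
  have hrk : r ∣ q ^ k - 1 := (SylTor.dvd_pow_sub_one_iff hq0 k).2 (by rw [hk])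
  have hsl : s ∣ q ^ l - 1 := (SylTor.dvd_pow_sub_one_iff hq0 l).2 (by rw [hl])
  have hr1 : ¬ r ∣ q - 1 := by
    intro h
    have h' : r ∣ q ^ 1 - 1 := by rwa [pow_one]
    have := (SylTor.dvd_pow_sub_one_iff hq0 1).1 h'
    rw [← hk, Nat.dvd_one] at this
    omega
  have hs1 : ¬ s ∣ q - 1 := by
    intro h
    have h' : s ∣ q ^ 1 - 1 := by rwa [pow_one]
    have := (SylTor.dvd_pow_sub_one_iff hq0 1).1 h'
    rw [← hl, Nat.dvd_one] at this
    omega
  have hcop : Nat.Coprime (r * s) (q - 1) :=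
    Nat.Coprime.mul_left ((Nat.Prime.coprime_iff_not_dvd hr).2 hr1)
      ((Nat.Prime.coprime_iff_not_dvd hs).2 hs1)
  have hcrs : Nat.Coprime r s := (Nat.coprime_primes hr hs).2 hrs
  constructor
  · intro hnot
    by_contra hcon
    apply hnot
    have hcases : k + l ≤ n ∨ k ∣ l := by
      by_cases h : k ∣ l
      · exact Or.inr h
      · left
        by_contra h'
        exact hcon ⟨by omega, h⟩
    have hex : ∃ ĝ : GL (Fin n) F, orderOf ĝ = r * s := by
      rcases hcases with h | h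
      · obtain ⟨φ, hφ⟩ := PrimeGraph.exists_two_torus_hom (F := F) n k l (by omega) (by omega) h
          hrk hsl
        have : NeZero r := ⟨hr.ne_zero⟩
        have : NeZero s := ⟨hs.ne_zero⟩
        refine ⟨φ (Multiplicative.ofAdd 1, Multiplicative.ofAdd 1), ?_⟩
        rw [orderOf_injective φ hφ, Prod.orderOf_mk, orderOf_ofAdd_eq_addOrderOf,
          orderOf_ofAdd_eq_addOrderOf, ZMod.addOrderOf_one, ZMod.addOrderOf_one]
        exact hcrs.lcm_eq_mul
      · obtain ⟨j, hj1, hjn, hj⟩ := exists_dvd_of_dvd_card (F := F) (n := n) s hs hsq hsG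
        have hlj : l ∣ j := by rw [hl]; exact (SylTor.dvd_pow_sub_one_iff hq0 j).1 hj
        have hln : l ≤ n := (Nat.le_of_dvd hj1 hlj).trans hjn
        have hrl : r ∣ q ^ l - 1 := hrk.trans (Nat.pow_sub_one_dvd_pow_sub_one q h)
        have hrsl : r * s ∣ q ^ l - 1 := hcrs.mul_dvd_of_dvd_of_dvd hrl hsl
        obtain ⟨φ, hφ⟩ := SylTor.exists_torus_hom (F := F) n l (by omega) hrsl
        have hpos : 0 < n / l := Nat.div_pos hln (by omega)
        have : NeZero (r * s) := ⟨Nat.mul_ne_zero hr.ne_zero hs.ne_zero⟩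
        refine ⟨φ (Pi.mulSingle ⟨0, hpos⟩ (Multiplicative.ofAdd 1)), ?_⟩
        rw [orderOf_injective φ hφ, orderOf_piMulSingle, orderOf_ofAdd_eq_addOrderOf,
          ZMod.addOrderOf_one]
    obtain ⟨ĝ, hĝ⟩ := hex
    obtain ⟨g, hg⟩ := exists_psl_of_gl (by omega) ĝ (r * s) hcop hĝ
    exact ⟨g, hg⟩
  · rintro ⟨hlt, hndvd⟩ ⟨g, hg⟩
    obtain ⟨h, hh⟩ := exists_sl_of_psl g (r * s) hg
    have h1 : (h : Matrix (Fin n) (Fin n) F) ^ (r * s) = 1 := by
      rw [← Matrix.SpecialLinearGroup.coe_pow, ← hh, pow_orderOf_eq_one]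
      rfl
    have hne : ∀ t : ℕ, ¬ r * s ∣ t → (h : Matrix (Fin n) (Fin n) F) ^ t ≠ 1 := by
      intro t ht hcon
      apply ht
      rw [← hh]
      apply orderOf_dvd_of_pow_eq_one
      apply Matrix.SpecialLinearGroup.ext
      intro a b
      rw [Matrix.SpecialLinearGroup.coe_pow, hcon]
      rfl
    have h2 : (h : Matrix (Fin n) (Fin n) F) ^ r ≠ 1 := by
      apply hne
      intro hd
      have : s ∣ 1 := by
        have := Nat.dvd_of_mul_dvd_mul_left hr.pos (by rwa [mul_one] : r * s ∣ r * 1)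
        exact this
      exact hs.one_lt.ne' (Nat.dvd_one.1 this)
    have h3 : (h : Matrix (Fin n) (Fin n) F) ^ s ≠ 1 := by
      apply hne
      intro hd
      have : r ∣ 1 := by
        have := Nat.dvd_of_mul_dvd_mul_right hs.pos (by rwa [one_mul] : r * s ∣ 1 * s)
        exact this
      exact hr.one_lt.ne' (Nat.dvd_one.1 this)
    have := bound_of_matrix (h : Matrix (Fin n) (Fin n) F) r s hrF hsF h1 h2 h3
    rw [← hq, ← hk, ← hl] at this
    rcases this with h4 | h4
    · have hl0 : 0 < l := by omega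
      obtain ⟨c, hc⟩ := Nat.dvd_lcm_right k l
      have hlcm0 : 0 < Nat.lcm k l := Nat.lcm_pos (by omega) hl0
      have hc1 : c = 1 := by
        rcases Nat.lt_or_ge c 2 with h | h
        · rcases Nat.eq_zero_or_pos c with rfl | hc0
          · rw [mul_zero] at hc; omega
          · omega
        · have : l * 2 ≤ l * c := Nat.mul_le_mul_left l h
          omega
      rw [hc1, mul_one] at hc
      exact hndvd (hc ▸ Nat.dvd_lcm_left k l)
    · omega


end Cfsg.Agent.S2468
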