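import Cfsg.Statements.S2470
import Cfsg.Agent.Lib.Helper5.CommUnip
import Cfsg.Agent.Lib.Helper5.PrimeGraph1
import Cfsg.Agent.Lib.Helper5.SylTor1
import Cfsg.Agent.S2468
import Cfsg.Agent.Lib.Helper5.UnipotentGL
import Cfsg.Agent.Lib.Helper5.NilCount1

set_option autoImplicit false
open Cfsg

namespace Cfsg.Agent.S2470


open Polynomial Cfsg.Agent.Lib.Helper5

/-- degree bound for the irreducible factors of `X^r - 1` other than `X - 1`. -/
theorem ord_le_natDegree {F : Type*} [Field F] [Fintype F] (r : ℕ) [hr : Fact r.Prime]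
    (g : F[X]) (hg : Irreducible g) (hgm : g.Monic) (hgr : g ∣ X ^ r - C 1) (hg1 : g ≠ X - C 1) :
    orderOf ((Fintype.card F : ℕ) : ZMod r) ≤ g.natDegree := by
  have hq0 : 0 < Fintype.card F := Fintype.card_pos
  have h1 : ¬ g ∣ X ^ 1 - C 1 := by
    intro h
    rw [pow_one] at h
    have hass : Associated g (X - C 1) := (hg.dvd_irreducible_iff_associated (irreducible_X_sub_C 1)).1 h
    exact hg1 (eq_of_monic_of_associated hgm (monic_X_sub_C 1) hass)
  have h2 : r ∣ Fintype.card F ^ g.natDegree - 1 :=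
    PrimeGraph.prime_dvd_of_not_dvd g hg hr.out Nat.one_pos (by rwa [one_mul]) h1
  have h3 := (SylTor.dvd_pow_sub_one_iff hq0 _).1 h2
  exact Nat.le_of_dvd hg.natDegree_pos h3

theorem scalar_of_monic_natDegree_one {F : Type*} [Field F] {n : ℕ} (b : Matrix (Fin n) (Fin n) F)
    (f : F[X]) (hfm : f.Monic) (hd : f.natDegree = 1) (h0 : aeval b f = 0) : ∃ c : F, b = c • 1 := by
  have h1 := hfm.eq_X_add_C hd
  rw [h1, map_add, aeval_X, aeval_C] at h0
  refine ⟨-(f.coeff 0), ?_⟩
  rw [neg_smul, ← Algebra.algebraMap_eq_smul_one]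
  exact eq_neg_of_add_eq_zero_left h0

theorem bound_of_commuting {F : Type*} [Field F] [Fintype F] {n : ℕ}
    (b N : Matrix (Fin n) (Fin n) F) (r : ℕ) [hr : Fact r.Prime] (hrF : (r : F) ≠ 0)
    (hc : Commute b N) (hN : IsNilpotent N) (hN0 : N ≠ 0) (hb : b ^ r = 1)
    (hbs : ∀ c : F, b ≠ c • 1) :
    orderOf ((Fintype.card F : ℕ) : ZMod r) + 2 ≤ n := by
  classical
  set k := orderOf ((Fintype.card F : ℕ) : ZMod r) with hk
  set μ := minpoly F b with hμ
  have hμ0 : μ ≠ 0 := minpoly.ne_zero (Matrix.isIntegral b)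
  have hμm : μ.Monic := minpoly.monic (Matrix.isIntegral b)
  have hμdvd : μ ∣ X ^ r - C 1 := by
    apply minpoly.dvd
    rw [map_sub, map_pow, aeval_X, aeval_C, hb, map_one, sub_self]
  have hsep : (X ^ r - C (1 : F)).Separable := separable_X_pow_sub_C 1 hrF one_ne_zero
  have hsq : Squarefree μ := hsep.squarefree.squarefree_of_dvd hμdvd
  obtain ⟨f, hf, hfm, hfd, hS⟩ := CommUnip.key_matrix b N hc hN hN0 hsq
  have hfpos := hf.natDegree_pos
  by_cases hμf : μ = f
  · have h2 : 2 ≤ f.natDegree := by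
      by_contra hlt
      have hd : f.natDegree = 1 := by omega
      obtain ⟨c, hc'⟩ := scalar_of_monic_natDegree_one b f hfm hd (by rw [← hμf, hμ, minpoly.aeval])
      exact hbs c hc'
    have hf1 : f ≠ X - C 1 := by
      intro h
      rw [h, natDegree_X_sub_C] at h2
      omega
    have hkf := ord_le_natDegree r f hf hfm (hfd.trans hμdvd) hf1
    have := hS {f} (by simp) (by
      intro g hg
      rw [Finset.mem_singleton] at hg
      subst hg
      exact ⟨hf, hfd⟩) (by simp)
    rw [Finset.sum_singleton] at this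
    omega
  · obtain ⟨h, hh⟩ := hfd
    rw [← hμ] at hh
    have hh0 : h ≠ 0 := by
      rintro rfl
      rw [mul_zero] at hh
      exact hμ0 hh
    have hhu : ¬ IsUnit h := by
      intro hu
      apply hμf
      have hass : Associated f μ := ⟨hu.unit, by rw [hh]; rfl⟩
      exact (eq_of_monic_of_associated hfm hμm hass).symm
    obtain ⟨g₀, hg₀, hg₀h⟩ := WfDvdMonoid.exists_irreducible_factor hhu hh0
    set g := normalize g₀ with hg
    have hgirr : Irreducible g := (normalize_associated g₀).irreducible_iff.2 hg₀ |> fun x => by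
      exact (Associated.irreducible_iff (normalize_associated g₀)).2 hg₀
    have hgm : g.Monic := Polynomial.monic_normalize hg₀.ne_zero
    have hgh : g ∣ h := (normalize_associated g₀).dvd.trans hg₀h
    have hgμ : g ∣ μ := hgh.trans ⟨f, by rw [hh, mul_comm]⟩
    have hgf : g ≠ f := by
      intro hgf
      rw [hgf] at hgh
      have : f * f ∣ μ := by
        rw [hh]
        exact mul_dvd_mul_left f hgh
      exact hf.not_isUnit (hsq f this)
    have hcop : IsCoprime f g := by
      rw [hf.coprime_iff_not_dvd]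
      intro hd
      have hass := hf.associated_of_dvd hgirr hd
      exact hgf (eq_of_monic_of_associated hfm hgm hass).symm
    have hgpos := hgirr.natDegree_pos
    have := hS {f, g} (by
        intro x hx y hy hxy
        simp only [Finset.coe_insert, Finset.coe_singleton, Set.mem_insert_iff, Set.mem_singleton_iff] at hx hy
        rcases hx with rfl | rfl <;> rcases hy with rfl | rfl
        · exact absurd rfl hxy
        · exact hcop
        · exact hcop.symm
        · exact absurd rfl hxy) (by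
      intro x hx
      simp only [Finset.mem_insert, Finset.mem_singleton] at hx
      rcases hx with rfl | rfl
      · exact ⟨hf, ⟨h, hμ ▸ hh⟩⟩
      · exact ⟨hgirr, hgμ⟩) (by simp)
    rw [Finset.sum_pair hgf.symm] at this
    by_cases hf1 : f = X - C 1
    · have hg1 : g ≠ X - C 1 := fun h' => hgf (h'.trans hf1.symm)
      have hkg := ord_le_natDegree r g hgirr hgm (hgμ.trans hμdvd) hg1
      omega
    · have hkf := ord_le_natDegree r f hf hfm ((Dvd.intro h hh.symm).trans hμdvd) hf1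
      omega

theorem bound_of_commuting_irr {F : Type*} [Field F] {n : ℕ}
    (b N : Matrix (Fin n) (Fin n) F) (r : ℕ) [hr : Fact r.Prime] (ζ : F)
    (hζ : ∀ c : F, c ^ r ≠ ζ)
    (hc : Commute b N) (hN : IsNilpotent N) (hN0 : N ≠ 0) (hb : b ^ r = ζ • 1) :
    2 * r ≤ n := by
  classical
  set μ := minpoly F b with hμ
  have hμm : μ.Monic := minpoly.monic (Matrix.isIntegral b)
  have hirr : Irreducible (X ^ r - C ζ) := X_pow_sub_C_irreducible_of_prime hr.out hζ
  have hμdvd : μ ∣ X ^ r - C ζ := by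
    apply minpoly.dvd
    rw [map_sub, map_pow, aeval_X, aeval_C, hb, Algebra.algebraMap_eq_smul_one, sub_self]
  have hnt : Nontrivial (Matrix (Fin n) (Fin n) F) := nontrivial_of_ne N 0 hN0
  have hμnu : ¬ IsUnit μ := minpoly.not_isUnit F b
  have hμeq : μ = X ^ r - C ζ := by
    have hass : Associated μ (X ^ r - C ζ) := by
      obtain ⟨c, hc'⟩ := hμdvd
      rcases hirr.isUnit_or_isUnit hc' with h | h
      · exact absurd h hμnu
      · exact ⟨h.unit, by rw [hc']; rfl⟩
    exact eq_of_monic_of_associated hμm (monic_X_pow_sub_C ζ hr.out.ne_zero) hass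
  have hsq : Squarefree μ := by rw [hμeq]; exact hirr.squarefree
  obtain ⟨f, hf, hfm, hfd, hS⟩ := CommUnip.key_matrix b N hc hN hN0 hsq
  have hfμ : f = μ := by
    rw [← hμ, hμeq] at hfd
    have hass := hf.associated_of_dvd hirr hfd
    rw [hμeq]
    exact eq_of_monic_of_associated hfm (monic_X_pow_sub_C ζ hr.out.ne_zero) hass
  have := hS {f} (by simp) (by
    intro g hg
    rw [Finset.mem_singleton] at hg
    subst hg
    exact ⟨hf, hfd⟩) (by simp)
  rw [Finset.sum_singleton, hfμ, hμeq, natDegree_X_pow_sub_C] at this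
  omega

theorem monic_linear_eq {F : Type*} [Field F] (f : F[X]) (hfm : f.Monic) (hd : f.natDegree = 1) :
    f = X - C (-(f.coeff 0)) := by
  have h1 := hfm.eq_X_add_C hd
  rw [map_neg, sub_neg_eq_add]
  exact h1

theorem no_exceptional {F : Type*} [Field F] (b N : Matrix (Fin 3) (Fin 3) F) (h3 : ((3 : ℕ) : F) ≠ 0)
    (hc : Commute b N) (hN : IsNilpotent N) (hN0 : N ≠ 0) (hb : b ^ 3 = 1) (hdet : b.det = 1)
    (hbs : ∀ c : F, b ≠ c • 1) : False := by
  classical
  set φ : Module.End F (Fin 3 → F) := Matrix.toLin' b with hφ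
  set ν : Module.End F (Fin 3 → F) := Matrix.toLin' N with hν
  have hmin : minpoly F φ = minpoly F b := Matrix.minpoly_toLin' b
  have hc' : Commute φ ν := by
    show Matrix.toLin' b * Matrix.toLin' N = Matrix.toLin' N * Matrix.toLin' b
    rw [Module.End.mul_eq_comp, Module.End.mul_eq_comp, ← Matrix.toLin'_mul, ← Matrix.toLin'_mul, hc.eq]
  have hνn : IsNilpotent ν := by
    obtain ⟨k, hk⟩ := hN
    refine ⟨k, ?_⟩
    rw [hν, ← Matrix.toLin'_pow, hk, map_zero]
  have hν0 : ν ≠ 0 := by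
    intro h
    apply hN0
    exact Matrix.toLin'.injective (by rw [← hν, h, map_zero])
  set μ := minpoly F φ with hμ
  have hμ0 : μ ≠ 0 := minpoly.ne_zero (Algebra.IsIntegral.isIntegral φ)
  have hμm : μ.Monic := minpoly.monic (Algebra.IsIntegral.isIntegral φ)
  have hμdvd : μ ∣ X ^ 3 - C 1 := by
    rw [hmin]
    apply minpoly.dvd
    rw [map_sub, map_pow, aeval_X, aeval_C, hb, map_one, sub_self]
  have hsep : (X ^ 3 - C (1 : F)).Separable := separable_X_pow_sub_C 1 h3 one_ne_zero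
  have hsq : Squarefree μ := hsep.squarefree.squarefree_of_dvd hμdvd
  obtain ⟨f, hf, hfm, hfd, hx⟩ := CommUnip.exists_irreducible_ne_zero_on_ker φ ν hν0 hsq
  have h2 := CommUnip.two_mul_natDegree_le_finrank_ker φ ν hc' hνn f hf hx
  have hfin : Module.finrank F (Fin 3 → F) = 3 := by simp
  have hle : Module.finrank F (LinearMap.ker (aeval φ f)) ≤ 3 :=
    (Submodule.finrank_le _).trans (le_of_eq hfin)
  have hfpos := hf.natDegree_pos
  have hdf : f.natDegree = 1 := by omega
  have hμf : μ ≠ f := by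
    intro h
    obtain ⟨c, hc''⟩ := scalar_of_monic_natDegree_one b f hfm hdf (by rw [← h, hmin, minpoly.aeval])
    exact hbs c hc''
  obtain ⟨h, hh⟩ := hfd
  rw [← hμ] at hh
  have hh0 : h ≠ 0 := by
    rintro rfl
    rw [mul_zero] at hh
    exact hμ0 hh
  have hhu : ¬ IsUnit h := by
    intro hu
    apply hμf
    have hass : Associated f μ := ⟨hu.unit, by rw [hh]; rfl⟩
    exact (eq_of_monic_of_associated hfm hμm hass).symm
  obtain ⟨g₀, hg₀, hg₀h⟩ := WfDvdMonoid.exists_irreducible_factor hhu hh0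
  set g := normalize g₀ with hg
  have hgirr : Irreducible g := (Associated.irreducible_iff (normalize_associated g₀)).2 hg₀
  have hgm : g.Monic := Polynomial.monic_normalize hg₀.ne_zero
  have hgh : g ∣ h := (normalize_associated g₀).dvd.trans hg₀h
  have hgμ : g ∣ μ := hgh.trans ⟨f, by rw [hh, mul_comm]⟩
  have hgf : g ≠ f := by
    intro hgf
    rw [hgf] at hgh
    have : f * f ∣ μ := by
      rw [hh]
      exact mul_dvd_mul_left f hgh
    exact hf.not_isUnit (hsq f this)
  have hcop : IsCoprime f g := by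
    rw [hf.coprime_iff_not_dvd]
    intro hd
    have hass := hf.associated_of_dvd hgirr hd
    exact hgf (eq_of_monic_of_associated hfm hgm hass).symm
  have hgpos := hgirr.natDegree_pos
  have hcomm : ∀ p : F[X], ∀ x ∈ LinearMap.ker (aeval φ p), φ x ∈ LinearMap.ker (aeval φ p) := by
    intro p x hx
    rw [LinearMap.mem_ker] at hx ⊢
    have h1 : Commute (aeval φ p) (aeval φ X) := (Polynomial.commute_X p).symm.map (aeval φ)
    rw [aeval_X] at h1
    have := congrFun (congrArg DFunLike.coe h1.eq) x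
    simp only [Module.End.mul_apply] at this
    rw [this, hx, map_zero]
  have hg1 : g.natDegree ≤ Module.finrank F (LinearMap.ker (aeval φ g)) :=
    CommUnip.natDegree_le_finrank φ g hgirr _ (hcomm g) le_rfl
      (CommUnip.ker_aeval_ne_bot_of_dvd_minpoly φ g hgirr.not_isUnit hgμ)
  have hsum := CommUnip.sum_finrank_ker_le φ {f, g} (by
    intro x hx y hy hxy
    simp only [Finset.coe_insert, Finset.coe_singleton, Set.mem_insert_iff, Set.mem_singleton_iff] at hx hy
    rcases hx with rfl | rfl <;> rcases hy with rfl | rfl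
    · exact absurd rfl hxy
    · exact hcop
    · exact hcop.symm
    · exact absurd rfl hxy)
  rw [Finset.sum_pair hgf.symm, hfin] at hsum
  have hdg : g.natDegree = 1 := by omega
  have hr1 : Module.finrank F (LinearMap.ker (aeval φ f)) = 2 := by omega
  have hr2 : Module.finrank F (LinearMap.ker (aeval φ g)) = 1 := by omega
  set a₁ := -(f.coeff 0) with ha₁
  set a₂ := -(g.coeff 0) with ha₂
  have hfe : f = X - C a₁ := monic_linear_eq f hfm hdf
  have hge : g = X - C a₂ := monic_linear_eq g hgm hdg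
  have hk₁ : ∀ x ∈ LinearMap.ker (aeval φ f), φ x = a₁ • x := by
    intro x hx
    rw [LinearMap.mem_ker, hfe, map_sub, aeval_X, aeval_C, LinearMap.sub_apply, sub_eq_zero] at hx
    rw [hx]; rfl
  have hk₂ : ∀ x ∈ LinearMap.ker (aeval φ g), φ x = a₂ • x := by
    intro x hx
    rw [LinearMap.mem_ker, hge, map_sub, aeval_X, aeval_C, LinearMap.sub_apply, sub_eq_zero] at hx
    rw [hx]; rfl
  have hroot : ∀ a : F, (X - C a) ∣ X ^ 3 - C 1 → a ^ 3 = 1 := by
    intro a ha
    have := (dvd_iff_isRoot.1 ha)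
    simpa [sub_eq_zero] using this
  have ha₁3 : a₁ ^ 3 = 1 := hroot a₁ (hfe ▸ (Dvd.intro h hh.symm).trans hμdvd)
  have hdisj : Disjoint (LinearMap.ker (aeval φ f)) (LinearMap.ker (aeval φ g)) :=
    Polynomial.disjoint_ker_aeval_of_isCoprime φ hcop
  have hcompl : IsCompl (LinearMap.ker (aeval φ f)) (LinearMap.ker (aeval φ g)) := by
    refine ⟨hdisj, ?_⟩
    rw [codisjoint_iff]
    apply Submodule.eq_top_of_finrank_eq
    have := Submodule.finrank_sup_add_finrank_inf_eq (LinearMap.ker (aeval φ f)) (LinearMap.ker (aeval φ g))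
    rw [hdisj.eq_bot, finrank_bot, add_zero, hr1, hr2] at this
    rw [this, hfin]
  have hdetφ := CommUnip.det_of_isCompl φ _ _ hcompl a₁ a₂ hk₁ hk₂
  rw [hr1, hr2, hφ, LinearMap.det_toLin', hdet, pow_one] at hdetφ
  have h12 : a₂ = a₁ := by
    calc a₂ = a₁ ^ 3 * a₂ := by rw [ha₁3, one_mul]
      _ = a₁ * (a₁ ^ 2 * a₂) := by ring
      _ = a₁ := by rw [← hdetφ, mul_one]
  apply hgf
  rw [hge, hfe, h12]

section lift
variable {F : Type*} [Field F] [Fintype F] {n : ℕ}

theorem mk_pow_eq_one_iff (g : Matrix.SpecialLinearGroup (Fin n) F) (m : ℕ) :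
    ((g : Matrix.SpecialLinearGroup (Fin n) F) : Matrix.ProjectiveSpecialLinearGroup (Fin n) F) ^ m = 1 ↔
      ∃ c : F, (g : Matrix (Fin n) (Fin n) F) ^ m = c • 1 := by
  classical
  rw [← QuotientGroup.mk_pow, QuotientGroup.eq_one_iff, Matrix.SpecialLinearGroup.mem_center_iff]
  constructor
  · rintro ⟨c, -, hc⟩
    refine ⟨c, ?_⟩
    rw [Matrix.SpecialLinearGroup.coe_pow] at hc
    rw [← hc, Matrix.smul_one_eq_diagonal]
    rfl
  · rintro ⟨c, hc⟩
    refine ⟨c, ?_, ?_⟩
    · have h1 : ((g : Matrix (Fin n) (Fin n) F) ^ m).det = 1 := by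
        rw [Matrix.det_pow, g.2, one_pow]
      rw [hc, Matrix.det_smul, Matrix.det_one, mul_one] at h1
      exact h1
    · rw [Matrix.SpecialLinearGroup.coe_pow, hc, Matrix.smul_one_eq_diagonal]
      rfl

theorem exists_pow_eq {r : ℕ} (hcop : Nat.Coprime (Fintype.card F - 1) r) (ζ : F) (hζ : ζ ≠ 0) :
    ∃ c : F, c ^ r = ζ := by
  have h1 : (Nat.card Fˣ).Coprime r := by
    rw [Nat.card_units, Nat.card_eq_fintype_card]; exact hcop
  let u : Fˣ := Units.mk0 ζ hζ
  refine ⟨(((powCoprime h1).symm u : Fˣ) : F), ?_⟩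
  have : ((powCoprime h1).symm u) ^ r = u := by
    have := (powCoprime h1).apply_symm_apply u
    rwa [powCoprime_apply] at this
  rw [← Units.val_pow_eq_pow_val, this]
  rfl

theorem bound_of_order (p : ℕ) [hp : Fact p.Prime] [CharP F p]
    (r : ℕ) [hr : Fact r.Prime] (hr2 : r ≠ 2) (hrp : r ≠ p)
    (gq : Matrix.ProjectiveSpecialLinearGroup (Fin n) F) (hg : orderOf gq = r * p) :
    orderOf ((Fintype.card F : ℕ) : ZMod r) + 2 ≤ n ∧
      ¬ (n = 3 ∧ r = 3 ∧ 3 ∣ Fintype.card F - 1 ∧ ¬ 9 ∣ Fintype.card F - 1) := by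
  classical
  obtain ⟨g, rfl⟩ := QuotientGroup.mk_surjective gq
  set G : Matrix (Fin n) (Fin n) F := (g : Matrix (Fin n) (Fin n) F) with hG
  have hdetG : G.det = 1 := g.2
  have hr2' := hr.out.two_le
  have hp2' := hp.out.two_le
  have h1 : ((g : Matrix.SpecialLinearGroup (Fin n) F) : Matrix.ProjectiveSpecialLinearGroup (Fin n) F) ^ (r * p) = 1 := by
    rw [← hg]; exact pow_orderOf_eq_one _
  have h2 : ¬ ((g : Matrix.SpecialLinearGroup (Fin n) F) : Matrix.ProjectiveSpecialLinearGroup (Fin n) F) ^ p = 1 := by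
    intro h
    have := orderOf_dvd_of_pow_eq_one h
    rw [hg] at this
    have := Nat.le_of_dvd hp.out.pos this
    nlinarith
  have h3 : ¬ ((g : Matrix.SpecialLinearGroup (Fin n) F) : Matrix.ProjectiveSpecialLinearGroup (Fin n) F) ^ r = 1 := by
    intro h
    have := orderOf_dvd_of_pow_eq_one h
    rw [hg] at this
    have := Nat.le_of_dvd hr.out.pos this
    nlinarith
  obtain ⟨ζ, hζ⟩ := (mk_pow_eq_one_iff g _).1 h1
  rw [← hG] at hζ
  have hb₀s : ∀ c : F, G ^ p ≠ c • 1 := fun c h => h2 ((mk_pow_eq_one_iff g p).2 ⟨c, h⟩)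
  have has : ∀ c : F, G ^ r ≠ c • 1 := fun c h => h3 ((mk_pow_eq_one_iff g r).2 ⟨c, h⟩)
  have hn0 : n ≠ 0 := by
    rintro rfl
    exact hb₀s 1 (Subsingleton.elim _ _)
  have hζn : ζ ^ n = 1 := by
    have h1 : (G ^ (r * p)).det = 1 := by rw [Matrix.det_pow, hdetG, one_pow]
    rw [hζ, Matrix.det_smul, Matrix.det_one, mul_one, Fintype.card_fin] at h1
    exact h1
  have hζ0 : ζ ≠ 0 := by
    rintro rfl
    rw [zero_pow hn0] at hζn
    exact zero_ne_one hζn
  have hb₀ : (G ^ p) ^ r = ζ • 1 := by rw [← pow_mul, mul_comm, hζ]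
  have ha : (G ^ r) ^ p = ζ • 1 := by rw [← pow_mul, hζ]
  obtain ⟨η, hη⟩ : ∃ η : F, η ^ p = ζ := by
    obtain ⟨η, hη⟩ := surjective_frobenius F p ζ
    exact ⟨η, by rwa [frobenius_def] at hη⟩
  have hη0 : η ≠ 0 := by
    rintro rfl
    rw [zero_pow hp.out.ne_zero] at hη
    exact hζ0 hη.symm
  set a' : Matrix (Fin n) (Fin n) F := η⁻¹ • G ^ r with ha'
  set N : Matrix (Fin n) (Fin n) F := a' - 1 with hN
  have ha'p : a' ^ p = 1 := by
    rw [ha', _root_.smul_pow, ha, inv_pow, hη, smul_smul, inv_mul_cancel₀ hζ0, one_smul]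
  have hNp : N ^ p = 0 := by
    have := sub_one_pow_char_pow p a' 1
    rw [pow_one] at this
    rw [hN, this, ha'p, sub_self]
  have hNnil : IsNilpotent N := ⟨p, hNp⟩
  have hN0 : N ≠ 0 := by
    intro h
    rw [hN, sub_eq_zero, ha'] at h
    apply has η
    have := congrArg (fun M => η • M) h
    simp only [smul_smul, mul_inv_cancel₀ hη0, one_smul] at this
    exact this
  have hcomm : Commute (G ^ p) N := by
    rw [hN, ha']
    exact (((Commute.refl G).pow_pow p r).smul_right _).sub_right (Commute.one_right _)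
  have hrF : (r : F) ≠ 0 := by
    intro h
    have := (CharP.cast_eq_zero_iff F p r).1 h
    exact hrp ((Nat.prime_dvd_prime_iff_eq hp.out hr.out).1 this).symm
  by_cases hc : ∃ c : F, c ^ r = ζ
  · obtain ⟨c, hcζ⟩ := hc
    have hc0 : c ≠ 0 := by
      rintro rfl
      rw [zero_pow hr.out.ne_zero] at hcζ
      exact hζ0 hcζ.symm
    set b : Matrix (Fin n) (Fin n) F := c⁻¹ • G ^ p with hb
    have hbr : b ^ r = 1 := by
      rw [hb, _root_.smul_pow, hb₀, inv_pow, hcζ, smul_smul, inv_mul_cancel₀ hζ0, one_smul]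
    have hbs : ∀ d : F, b ≠ d • 1 := by
      intro d h
      apply hb₀s (c * d)
      have := congrArg (fun M => c • M) h
      simp only [hb, smul_smul, mul_inv_cancel₀ hc0, one_smul] at this
      exact this
    have hcb : Commute b N := hcomm.smul_left _
    refine ⟨bound_of_commuting b N r hrF hcb hNnil hN0 hbr hbs, ?_⟩
    rintro ⟨rfl, rfl, h3q, h9q⟩
    have hζ3 : ζ ^ 3 = 1 := hζn
    have hc9 : c ^ 9 = 1 := by
      have : c ^ 9 = (c ^ 3) ^ 3 := by ring
      rw [this, hcζ, hζ3]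
    have ho9 : orderOf c ∣ 3 ^ 2 := orderOf_dvd_of_pow_eq_one (by norm_num; exact hc9)
    have hoq : orderOf c ∣ Fintype.card F - 1 :=
      orderOf_dvd_of_pow_eq_one (FiniteField.pow_card_sub_one_eq_one c hc0)
    obtain ⟨j, hj, hoj⟩ := (Nat.dvd_prime_pow Nat.prime_three).1 ho9
    have hj1 : j ≤ 1 := by
      by_contra hlt
      have : j = 2 := by omega
      rw [this] at hoj
      apply h9q
      rw [hoj] at hoq
      exact hoq
    have hc3 : c ^ 3 = 1 := by
      apply orderOf_dvd_iff_pow_eq_one.1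
      rw [hoj]
      exact pow_dvd_pow 3 hj1 |>.trans (by norm_num)
    have hζ1 : ζ = 1 := by rw [← hcζ, hc3]
    have hb₀3 : (G ^ p) ^ 3 = 1 := by rw [hb₀, hζ1, one_smul]
    have hdetb : (G ^ p).det = 1 := by rw [Matrix.det_pow, hdetG, one_pow]
    exact no_exceptional (G ^ p) N hrF hcomm hNnil hN0 hb₀3 hdetb hb₀s
  · push Not at hc
    have h2r := bound_of_commuting_irr (G ^ p) N r ζ hc hcomm hNnil hN0 hb₀
    have hrq : r ∣ Fintype.card F - 1 := by
      by_contra hnd
      have hcop : Nat.Coprime (Fintype.card F - 1) r :=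
        (Nat.Coprime.symm ((Nat.Prime.coprime_iff_not_dvd hr.out).2 hnd))
      obtain ⟨c, hc'⟩ := exists_pow_eq hcop ζ hζ0
      exact hc c hc'
    have hk1 : orderOf ((Fintype.card F : ℕ) : ZMod r) = 1 := by
      rw [orderOf_eq_one_iff]
      have hq1 : 1 ≤ Fintype.card F := Fintype.card_pos
      have : ((Fintype.card F - 1 : ℕ) : ZMod r) = 0 := (ZMod.natCast_eq_zero_iff _ _).2 hrq
      rw [Nat.cast_sub hq1, sub_eq_zero] at this
      simpa using this
    have hr3 : 3 ≤ r := by omega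
    refine ⟨by rw [hk1]; omega, ?_⟩
    rintro ⟨rfl, rfl, -, -⟩
    omega

end lift

section construct
variable {F : Type*} [Field F] [Fintype F] {n : ℕ}

open Matrix

/-- the standard transvection. -/
def tv (F : Type*) [Field F] : Matrix (Fin 2) (Fin 2) F := !![1, 1; 0, 1]

theorem tv_pow (m : ℕ) : (tv F) ^ m = !![1, (m : F); 0, 1] := by
  induction m with
  | zero =>
    rw [pow_zero, Nat.cast_zero, Matrix.one_fin_two]
  | succ m ih =>
    rw [pow_succ, ih, tv, Matrix.mul_fin_two]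
    simp [add_comm]

theorem smul_tv_eq_iff (a c : F) (m : ℕ) :
    a • (tv F) ^ m = c • (1 : Matrix (Fin 2) (Fin 2) F) ↔ a = c ∧ a * (m : F) = 0 := by
  rw [tv_pow, Matrix.one_fin_two]
  constructor
  · intro h
    have h00 := congrFun (congrFun h 0) 0
    have h01 := congrFun (congrFun h 0) 1
    simp only [Matrix.smul_apply, Matrix.of_apply, Matrix.cons_val', Matrix.cons_val_zero,
      Matrix.cons_val_one, Matrix.cons_val_fin_one, smul_eq_mul, mul_one, mul_zero] at h00 h01
    exact ⟨h00, h01⟩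
  · rintro ⟨rfl, h2⟩
    ext i j
    fin_cases i <;> fin_cases j <;> simp [h2]

theorem fromBlocks_eq_smul_one_iff {α β : Type*} [Fintype α] [Fintype β] [DecidableEq α] [DecidableEq β]
    (A : Matrix α α F) (D : Matrix β β F) (c : F) :
    fromBlocks A 0 0 D = c • (1 : Matrix (α ⊕ β) (α ⊕ β) F) ↔ A = c • 1 ∧ D = c • 1 := by
  rw [← fromBlocks_one, fromBlocks_smul, fromBlocks_inj]
  simp

/-- transport of a matrix of determinant one to an element of `PSL` of prescribed order. -/
theorem exists_psl_of_matrix {ι : Type*} [Fintype ι] [DecidableEq ι] (e : ι ≃ Fin n)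
    (M : Matrix ι ι F) (hdet : M.det = 1) (m : ℕ) (hm : 0 < m)
    (h1 : ∃ c : F, M ^ m = c • 1)
    (h2 : ∀ ℓ : ℕ, ℓ.Prime → ℓ ∣ m → ¬ ∃ c : F, M ^ (m / ℓ) = c • 1) :
    ∃ x : Matrix.ProjectiveSpecialLinearGroup (Fin n) F, orderOf x = m := by
  classical
  set A := Matrix.reindexAlgEquiv F F e with hA
  have hdet' : (A M).det = 1 := by
    rw [hA, Matrix.reindexAlgEquiv_apply, Matrix.det_reindex_self, hdet]
  let s : Matrix.SpecialLinearGroup (Fin n) F := ⟨A M, hdet'⟩
  have key : ∀ j : ℕ, (∃ c : F, (s : Matrix (Fin n) (Fin n) F) ^ j = c • 1) ↔ ∃ c : F, M ^ j = c • 1 := by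
    intro j
    have : (s : Matrix (Fin n) (Fin n) F) ^ j = A (M ^ j) := by rw [map_pow]
    rw [this]
    constructor
    · rintro ⟨c, hc⟩
      refine ⟨c, A.injective ?_⟩
      rw [hc, map_smul, map_one]
    · rintro ⟨c, hc⟩
      exact ⟨c, by rw [hc, map_smul, map_one]⟩
  refine ⟨QuotientGroup.mk s, ?_⟩
  apply orderOf_eq_of_pow_and_pow_div_prime hm
  · rw [mk_pow_eq_one_iff, key]; exact h1
  · intro ℓ hℓ hℓm
    rw [Ne, mk_pow_eq_one_iff, key]
    exact h2 ℓ hℓ hℓm

theorem smul_one_fin_one_eq_iff (a c : F) :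
    a • (1 : Matrix (Fin 1) (Fin 1) F) = c • 1 ↔ a = c := by
  constructor
  · intro h
    have := congrFun (congrFun h 0) 0
    simpa using this
  · rintro rfl; rfl

theorem one_eq_smul_one_iff (b : ℕ) (c : F) :
    (1 : Matrix (Fin b) (Fin b) F) = c • 1 ↔ b = 0 ∨ c = 1 := by
  constructor
  · intro h
    rcases Nat.eq_zero_or_pos b with hb | hb
    · exact Or.inl hb
    · right
      have := congrFun (congrFun h ⟨0, hb⟩) ⟨0, hb⟩
      simpa using this.symm
  · rintro (rfl | rfl)
    · exact Subsingleton.elim _ _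
    · rw [one_smul]

/-- the element `diag(λ⁻², λ·t, 1)`. -/
def elt (F : Type*) [Field F] (b : ℕ) (lam : F) :
    Matrix (Fin 1 ⊕ (Fin 2 ⊕ Fin b)) (Fin 1 ⊕ (Fin 2 ⊕ Fin b)) F :=
  fromBlocks ((lam⁻¹ ^ 2) • (1 : Matrix (Fin 1) (Fin 1) F)) 0 0
    (fromBlocks (lam • tv F) 0 0 (1 : Matrix (Fin b) (Fin b) F))

theorem elt_pow (b : ℕ) (lam : F) (m : ℕ) :
    (elt F b lam) ^ m = fromBlocks (((lam⁻¹ ^ 2) ^ m) • (1 : Matrix (Fin 1) (Fin 1) F)) 0 0
      (fromBlocks (lam ^ m • (tv F) ^ m) 0 0 (1 : Matrix (Fin b) (Fin b) F)) := by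
  rw [elt, fromBlocks_diagonal_pow, fromBlocks_diagonal_pow, _root_.smul_pow, _root_.smul_pow, one_pow,
    one_pow]

theorem elt_pow_eq_smul_iff (b : ℕ) (lam : F) (m : ℕ) (c : F) :
    (elt F b lam) ^ m = c • 1 ↔
      (lam⁻¹ ^ 2) ^ m = c ∧ (lam ^ m = c ∧ lam ^ m * (m : F) = 0) ∧ (b = 0 ∨ c = 1) := by
  rw [elt_pow, fromBlocks_eq_smul_one_iff, fromBlocks_eq_smul_one_iff, smul_one_fin_one_eq_iff,
    smul_tv_eq_iff, one_eq_smul_one_iff]

theorem elt_det (b : ℕ) (lam : F) (hlam : lam ≠ 0) : (elt F b lam).det = 1 := by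
  rw [elt, det_fromBlocks_zero₁₂, det_fromBlocks_zero₁₂, Matrix.det_smul, Matrix.det_smul, det_one,
    det_one, tv, Matrix.det_fin_two_of]
  simp only [Fintype.card_fin, pow_one, mul_one, mul_zero, sub_zero]
  field_simp

theorem exists_of_ord_one (hn : 3 ≤ n) (p : ℕ) [hp : Fact p.Prime] [CharP F p] (r : ℕ) (hr : r.Prime)
    (hrp : r ≠ p) (lam : F) (hlam : lam ≠ 0) (h1 : lam ^ (3 * r) = 1) (h1' : 3 < n → lam ^ r = 1)
    (h2 : lam ^ (3 * p) ≠ 1 ∨ (3 < n ∧ lam ^ p ≠ 1)) :
    ∃ x : Matrix.ProjectiveSpecialLinearGroup (Fin n) F, orderOf x = r * p := by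
  classical
  set b := n - 3 with hb
  have e : Fin 1 ⊕ (Fin 2 ⊕ Fin b) ≃ Fin n :=
    (Equiv.sumCongr (Equiv.refl _) finSumFinEquiv).trans (finSumFinEquiv.trans (finCongr (by omega)))
  have hpF : (p : F) = 0 := CharP.cast_eq_zero F p
  have hrF : (r : F) ≠ 0 := by
    intro h
    have := (CharP.cast_eq_zero_iff F p r).1 h
    exact hrp ((Nat.prime_dvd_prime_iff_eq hp.out hr).1 this).symm
  have hinv : ∀ m : ℕ, (lam⁻¹ ^ 2) ^ m = lam ^ m → lam ^ (3 * m) = 1 := by
    intro m h
    have h3 : lam ^ (3 * m) = lam ^ m * (lam ^ 2) ^ m := by ring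
    rw [h3, ← h, ← mul_pow, inv_pow, inv_mul_cancel₀ (pow_ne_zero 2 hlam), one_pow]
  refine exists_psl_of_matrix e (elt F b lam) (elt_det b lam hlam) (r * p) (Nat.mul_pos hr.pos hp.out.pos)
    ?_ ?_
  · refine ⟨lam ^ (r * p), ?_⟩
    rw [elt_pow_eq_smul_iff]
    refine ⟨?_, ⟨rfl, ?_⟩, ?_⟩
    · have hy : (lam ^ 2) ^ (r * p) ≠ 0 := pow_ne_zero _ (pow_ne_zero _ hlam)
      apply mul_right_cancel₀ hy
      rw [← mul_pow, inv_pow, inv_mul_cancel₀ (pow_ne_zero 2 hlam), one_pow]
      have : lam ^ (r * p) * (lam ^ 2) ^ (r * p) = (lam ^ (3 * r)) ^ p := by ring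
      rw [this, h1, one_pow]
    · rw [Nat.cast_mul, hpF, mul_zero, mul_zero]
    · rcases Nat.lt_or_ge 3 n with h | h
      · right
        rw [pow_mul, h1' h, one_pow]
      · left; omega
  · intro ℓ hℓ hℓd
    rcases (Nat.Prime.dvd_mul hℓ).1 hℓd with h | h
    · have hℓr : ℓ = r := (Nat.prime_dvd_prime_iff_eq hℓ hr).1 h
      subst hℓr
      rw [Nat.mul_div_cancel_left _ hℓ.pos]
      rintro ⟨c, hc⟩
      rw [elt_pow_eq_smul_iff] at hc
      obtain ⟨hc1, ⟨hc2, -⟩, hc3⟩ := hc
      rcases h2 with h2 | ⟨h2n, h2⟩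
      · exact h2 (hinv p (hc1.trans hc2.symm))
      · rcases hc3 with hc3 | hc3
        · omega
        · exact h2 (hc2.trans hc3)
    · have hℓp : ℓ = p := (Nat.prime_dvd_prime_iff_eq hℓ hp.out).1 h
      subst hℓp
      rw [Nat.mul_div_cancel _ hℓ.pos]
      rintro ⟨c, hc⟩
      rw [elt_pow_eq_smul_iff] at hc
      obtain ⟨-, ⟨-, hc2⟩, -⟩ := hc
      rcases mul_eq_zero.1 hc2 with h | h
      · exact pow_ne_zero _ hlam h
      · exact hrF h

omit [Fintype F] in
theorem tv_det : (tv F).det = 1 := by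
  rw [tv, Matrix.det_fin_two_of]; ring

/-- the transvection as an element of `GL_2`. -/
noncomputable def tvU (F : Type*) [Field F] : GL (Fin 2) F :=
  Matrix.GeneralLinearGroup.mkOfDetNeZero (tv F) (by rw [tv_det]; exact one_ne_zero)

theorem orderOf_tvU (p : ℕ) [hp : Fact p.Prime] [CharP F p] : orderOf (tvU F) = p := by
  apply orderOf_eq_prime
  · apply Units.ext
    rw [Units.val_pow_eq_pow_val]
    show (tv F) ^ p = 1
    rw [tv_pow, CharP.cast_eq_zero F p, Matrix.one_fin_two]
  · intro h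
    have h1 : (tv F) = 1 := congrArg Units.val h
    have := congrFun (congrFun h1 0) 1
    simp [tv] at this

theorem exists_of_ord_ge_two (p : ℕ) [hp : Fact p.Prime] [CharP F p] (r : ℕ) [hr : Fact r.Prime]
    (hrp : r ≠ p) (hk2 : 2 ≤ orderOf ((Fintype.card F : ℕ) : ZMod r))
    (hkn : orderOf ((Fintype.card F : ℕ) : ZMod r) + 2 ≤ n) :
    ∃ x : Matrix.ProjectiveSpecialLinearGroup (Fin n) F, orderOf x = r * p := by
  classical
  set k := orderOf ((Fintype.card F : ℕ) : ZMod r) with hk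
  have hq0 : 0 < Fintype.card F := Fintype.card_pos
  have hkpos : 0 < k := by omega
  have hdvd : r ∣ Fintype.card F ^ k - 1 := (SylTor.dvd_pow_sub_one_iff hq0 k).2 dvd_rfl
  obtain ⟨φ, hφ⟩ := SylTor.exists_torus_hom (F := F) k k hkpos hdvd
  have hkk : 0 < k / k := by rw [Nat.div_self hkpos]; exact Nat.one_pos
  set x : Fin (k / k) → Multiplicative (ZMod r) := fun _ => Multiplicative.ofAdd 1 with hx
  have hxr : x ^ r = 1 := by
    funext i
    show (Multiplicative.ofAdd (1 : ZMod r)) ^ r = 1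
    rw [← ofAdd_nsmul, nsmul_eq_mul, mul_one, ZMod.natCast_self]
    rfl
  have hx1 : x ≠ 1 := by
    intro h
    have h1 := congrFun h ⟨0, hkk⟩
    have h2 : (1 : ZMod r) = 0 := Multiplicative.ofAdd.injective h1
    have : Fact (1 < r) := ⟨hr.out.one_lt⟩
    exact one_ne_zero h2
  set s := φ x with hs
  have hsr : orderOf s = r := by
    rw [hs, orderOf_injective φ hφ]
    exact orderOf_eq_prime hxr hx1
  set b := n - (k + 2) with hb
  have e : Fin k ⊕ (Fin 2 ⊕ Fin b) ≃ Fin n :=
    (Equiv.sumCongr (Equiv.refl _) finSumFinEquiv).trans (finSumFinEquiv.trans (finCongr (by omega)))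
  let E : GL (Fin k ⊕ (Fin 2 ⊕ Fin b)) F ≃* GL (Fin n) F :=
    Units.mapEquiv (Matrix.reindexAlgEquiv F F e).toMulEquiv
  set y := NilCount.blockHom F (Fin 2) (Fin b) (tvU F, 1) with hy
  have hyp : orderOf y = p := by
    rw [hy, orderOf_injective _ NilCount.blockHom_injective, Prod.orderOf]
    simp [orderOf_tvU p]
  set g := E (NilCount.blockHom F (Fin k) (Fin 2 ⊕ Fin b) (s, y)) with hg
  have hcoprp : Nat.Coprime r p := (Nat.coprime_primes hr.out hp.out).2 hrp
  have hgo : orderOf g = r * p := by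
    rw [hg, MulEquiv.orderOf_eq, orderOf_injective _ NilCount.blockHom_injective, Prod.orderOf]
    show Nat.lcm (orderOf s) (orderOf y) = r * p
    rw [hsr, hyp, hcoprp.lcm_eq_mul]
  have hrq : ¬ r ∣ Fintype.card F - 1 := by
    intro h
    have h1 : r ∣ Fintype.card F ^ 1 - 1 := by rwa [pow_one]
    have := (SylTor.dvd_pow_sub_one_iff hq0 1).1 h1
    have := Nat.le_of_dvd Nat.one_pos this
    omega
  have hpq : ¬ p ∣ Fintype.card F - 1 := by
    intro h
    obtain ⟨a, ha⟩ := FiniteField.card F p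
    have hpd : p ∣ Fintype.card F := by
      rw [ha.2]
      exact dvd_pow_self p a.ne_zero
    have : p ∣ 1 := by
      have h2 : Fintype.card F - 1 + 1 = Fintype.card F := Nat.sub_add_cancel hq0
      exact (Nat.dvd_add_right h).1 (h2 ▸ hpd)
    exact hp.out.one_lt.ne' (Nat.dvd_one.1 this)
  have hcop : Nat.Coprime (r * p) (Fintype.card F - 1) :=
    Nat.Coprime.mul_left ((Nat.Prime.coprime_iff_not_dvd hr.out).2 hrq)
      ((Nat.Prime.coprime_iff_not_dvd hp.out).2 hpq)
  exact Cfsg.Agent.S2468.exists_psl_of_gl (by omega) g (r * p) hcop hgo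

end construct

theorem exists_orderOf_eq {F : Type*} [Field F] [Fintype F] (d : ℕ) (hd : d ∣ Fintype.card F - 1) :
    ∃ lam : F, lam ≠ 0 ∧ orderOf lam = d := by
  classical
  obtain ⟨g, hg⟩ := IsCyclic.exists_ofOrder_eq_natCard (α := Fˣ)
  rw [Nat.card_units, Nat.card_eq_fintype_card] at hg
  have h1 : 0 < Fintype.card F - 1 := by
    have := Fintype.one_lt_card (α := F)
    omega
  refine ⟨((g ^ ((Fintype.card F - 1) / d) : Fˣ) : F), Units.ne_zero _, ?_⟩
  rw [orderOf_units]
  rw [← hg] at hd ⊢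
  exact orderOf_pow_orderOf_div (by rw [hg]; exact h1.ne') hd



/-- Adjacency of an odd prime and the characteristic in the prime graph of PSL(n,q): let F be a finite field of characteristic p with q elements, n ≥ 2 with PSL(n,F) simple, and let r ≠ p be an odd prime dividing the order of PSL(n,F), with k the multiplicative order of q modulo r. Then PSL(n,F) has NO element of order r·p if and only if either k > n − 2, or n = 3, r = 3 and 3 divides q − 1 exactly once. -/
theorem result {F : Type*} [Field F] [Fintype F] (p : ℕ) [Fact p.Prime] [CharP F p] (n : ℕ) (hn : 2 ≤ n) (hsmall : n = 2 → 4 ≤ Fintype.card F)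
    (r : ℕ) (hr : r.Prime) (hr2 : r ≠ 2) (hrp : r ≠ p) (hrG : r ∣ Nat.card (Matrix.ProjectiveSpecialLinearGroup (Fin n) F))
    (k : ℕ) (hk : k = orderOf ((Fintype.card F : ℕ) : ZMod r)) :
    (r * p ∉ Set.range (orderOf : Matrix.ProjectiveSpecialLinearGroup (Fin n) F → ℕ)) ↔
      (n - 2 < k ∨ (n = 3 ∧ r = 3 ∧ 3 ∣ Fintype.card F - 1 ∧ ¬ 9 ∣ Fintype.card F - 1)) := by
  classical
  have hp : p.Prime := Fact.out
  have := Fact.mk hr
  have hq0 : 0 < Fintype.card F := Fintype.card_pos
  have hrq : ¬ r ∣ Fintype.card F := by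
    intro h
    obtain ⟨a, ha⟩ := FiniteField.card F p
    rw [ha.2] at h
    exact hrp ((Nat.prime_dvd_prime_iff_eq hr hp).1 (hr.dvd_of_dvd_pow h))
  have hkpos : 0 < k := hk ▸ SylTor.ord_pos hrq
  constructor
  · intro hno
    by_contra hcon
    push Not at hcon
    obtain ⟨h1, h2⟩ := hcon
    apply hno
    have hkn : k + 2 ≤ n := by omega
    by_cases hk2 : 2 ≤ k
    · obtain ⟨x, hx⟩ := exists_of_ord_ge_two (F := F) (n := n) p r hrp (hk ▸ hk2) (hk ▸ hkn)
      exact ⟨x, hx⟩
    · have hk1 : k = 1 := by omega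
      have hrq1 : r ∣ Fintype.card F - 1 := by
        have := (SylTor.dvd_pow_sub_one_iff (r := r) hq0 1).2 (by rw [← hk, hk1])
        rwa [pow_one] at this
      have hn3 : 3 ≤ n := by omega
      by_cases h3n : 3 < n
      · obtain ⟨lam, hlam, hlo⟩ := exists_orderOf_eq (F := F) r hrq1
        have hlr : lam ^ r = 1 := by rw [← hlo]; exact pow_orderOf_eq_one lam
        obtain ⟨x, hx⟩ := exists_of_ord_one (F := F) hn3 p r hr hrp lam hlam
          (by rw [mul_comm, pow_mul, hlr, one_pow]) (fun _ => hlr) (Or.inr ⟨h3n, by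
            intro h
            have := orderOf_dvd_of_pow_eq_one h
            rw [hlo] at this
            exact hrp ((Nat.prime_dvd_prime_iff_eq hr hp).1 this)⟩)
        exact ⟨x, hx⟩
      · have hn3' : n = 3 := by omega
        by_cases hr3 : r = 3
        · have h9 : 9 ∣ Fintype.card F - 1 := h2 hn3' hr3 (hr3 ▸ hrq1)
          obtain ⟨lam, hlam, hlo⟩ := exists_orderOf_eq (F := F) 9 h9
          obtain ⟨x, hx⟩ := exists_of_ord_one (F := F) hn3 p r hr hrp lam hlam
            (by rw [hr3, show 3 * 3 = 9 by norm_num, ← hlo]; exact pow_orderOf_eq_one lam) (fun h => absurd h h3n) (Or.inl (by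
              intro h
              have := orderOf_dvd_of_pow_eq_one h
              rw [hlo] at this
              have h3p : 3 ∣ p := by
                have h93 : (3 : ℕ) * 3 ∣ 3 * p := by simpa using this
                exact (Nat.mul_dvd_mul_iff_left (by norm_num)).1 h93
              exact hrp (hr3.trans ((Nat.prime_dvd_prime_iff_eq Nat.prime_three hp).1 h3p))))
          exact ⟨x, hx⟩
        · obtain ⟨lam, hlam, hlo⟩ := exists_orderOf_eq (F := F) r hrq1
          have hlr : lam ^ r = 1 := by rw [← hlo]; exact pow_orderOf_eq_one lam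
          obtain ⟨x, hx⟩ := exists_of_ord_one (F := F) hn3 p r hr hrp lam hlam
            (by rw [mul_comm, pow_mul, hlr, one_pow]) (fun _ => hlr) (Or.inl (by
              intro h
              have := orderOf_dvd_of_pow_eq_one h
              rw [hlo] at this
              rcases (Nat.Prime.dvd_mul hr).1 this with h' | h'
              · exact hr3 ((Nat.prime_dvd_prime_iff_eq hr Nat.prime_three).1 h')
              · exact hrp ((Nat.prime_dvd_prime_iff_eq hr hp).1 h')))
          exact ⟨x, hx⟩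
  · rintro (h | h) ⟨x, hx⟩
    · have := (bound_of_order p r hr2 hrp x hx).1
      rw [← hk] at this
      omega
    · exact (bound_of_order p r hr2 hrp x hx).2 h


end Cfsg.Agent.S2470
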