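import Cfsg.Statements.S2476
import Cfsg.Agent.Lib.Helper5.Cubic
import Cfsg.Agent.S2470

set_option autoImplicit false
open Cfsg

namespace Cfsg.Agent.S2476


open Polynomial Cfsg.Agent.Lib.Helper5 Cfsg.Agent.Lib.Helper5.Cubic

section arith

theorem d_dvd_sub (q : ℕ) : Nat.gcd 3 (q - 1) ∣ q - 1 := Nat.gcd_dvd_right _ _

theorem d_dvd_three (q : ℕ) : Nat.gcd 3 (q - 1) ∣ 3 := Nat.gcd_dvd_left _ _

theorem d_dvd_add_two (q : ℕ) (hq : 1 ≤ q) : Nat.gcd 3 (q - 1) ∣ q + 2 := by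
  have h : q + 2 = (q - 1) + 3 := by omega
  rw [h]
  exact Nat.dvd_add (d_dvd_sub q) (d_dvd_three q)

theorem d_dvd_N (q : ℕ) (hq : 1 ≤ q) : Nat.gcd 3 (q - 1) ∣ q ^ 2 + q + 1 := by
  obtain ⟨t, rfl⟩ : ∃ t, q = t + 1 := ⟨q - 1, by omega⟩
  have h : (t + 1) ^ 2 + (t + 1) + 1 = (t + 1 - 1) * (t + 3) + 3 := by
    rw [Nat.add_sub_cancel]; ring
  rw [h]
  exact Nat.dvd_add (Dvd.dvd.mul_right (d_dvd_sub _) _) (d_dvd_three _)

theorem gcd_N (q : ℕ) (hq : 1 ≤ q) : Nat.gcd (q ^ 2 + q + 1) (q - 1) = Nat.gcd 3 (q - 1) := by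
  obtain ⟨t, rfl⟩ : ∃ t, q = t + 1 := ⟨q - 1, by omega⟩
  have h : (t + 1) ^ 2 + (t + 1) + 1 = 3 + t * (t + 3) := by ring
  rw [Nat.add_sub_cancel, h, Nat.gcd_add_mul_left_left]

theorem gcd_M (q : ℕ) (hq : 2 ≤ q) : Nat.gcd (q ^ 2 - 1) (q + 2) = Nat.gcd 3 (q - 1) := by
  obtain ⟨t, rfl⟩ : ∃ t, q = t + 2 := ⟨q - 2, by omega⟩
  have h : (t + 2) ^ 2 - 1 = 3 + (t + 2 + 2) * t := by
    have : (t + 2) ^ 2 = 3 + (t + 2 + 2) * t + 1 := by ring
    omega
  have h2 : t + 2 - 1 = t + 1 := by omega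
  rw [h, Nat.gcd_add_mul_left_left, h2]
  have h3 : t + 2 + 2 = (t + 1) + 3 := by ring
  rw [h3, Nat.gcd_add_self_right]

theorem sq_sub_one' (q : ℕ) (hq : 1 ≤ q) : q ^ 2 - 1 = (q - 1) * (q + 1) := by
  obtain ⟨t, rfl⟩ : ∃ t, q = t + 1 := ⟨q - 1, by omega⟩
  have : (t + 1) ^ 2 = (t + 1 - 1) * (t + 1 + 1) + 1 := by
    rw [Nat.add_sub_cancel]; ring
  omega

theorem d_dvd_sq_sub_one (q : ℕ) (hq : 1 ≤ q) : Nat.gcd 3 (q - 1) ∣ q ^ 2 - 1 := by
  rw [sq_sub_one' q hq]
  exact (d_dvd_sub q).mul_right _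

/-- `A ∣ B * j` iff `A / gcd A B ∣ j`. -/
theorem dvd_mul_iff_div_gcd (A B j : ℕ) (hA : 0 < A) : A ∣ B * j ↔ A / Nat.gcd A B ∣ j := by
  set g := Nat.gcd A B with hg
  have hg0 : 0 < g := Nat.gcd_pos_of_pos_left _ hA
  obtain ⟨A', hA'⟩ := Nat.gcd_dvd_left A B
  obtain ⟨B', hB'⟩ := Nat.gcd_dvd_right A B
  rw [← hg] at hA' hB'
  have hcop : Nat.Coprime A' B' := by
    have := Nat.coprime_div_gcd_div_gcd (m := A) (n := B) hg0
    rwa [← hg, hA', hB', Nat.mul_div_cancel_left _ hg0, Nat.mul_div_cancel_left _ hg0] at this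
  have h1 : A / g = A' := by rw [hA', Nat.mul_div_cancel_left _ hg0]
  rw [h1]
  conv_lhs => rw [hA', hB', mul_assoc]
  rw [Nat.mul_dvd_mul_iff_left hg0]
  exact ⟨fun h => hcop.dvd_of_dvd_mul_left h, fun h => h.mul_left _⟩

end arith

section upper
variable {F : Type*} [Field F] [Fintype F]

theorem X_sub_C_dvd_X_pow_sub_C (a : F) (k : ℕ) : (X - C a) ∣ X ^ k - C (a ^ k) := by
  rw [dvd_iff_isRoot]; simp

theorem X_sub_C_dvd_of_pow_eq (a b : F) (k : ℕ) (h : b ^ k = a ^ k) :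
    (X - C b) ∣ X ^ k - C (a ^ k) := by
  rw [dvd_iff_isRoot]; simp [h]

theorem pow_card_sub_one' (a : F) (ha : a ≠ 0) : a ^ (Fintype.card F - 1) = 1 :=
  FiniteField.pow_card_sub_one_eq_one a ha

theorem upper_irred (χ : F[X]) (hm : χ.Monic) (hd : χ.natDegree = 3) (h0 : χ.coeff 0 = -1)
    (hirr : Irreducible χ) :
    ∃ c : F, χ ∣ X ^ ((Fintype.card F ^ 2 + Fintype.card F + 1) / Nat.gcd 3 (Fintype.card F - 1))
      - C c := by
  have := Fact.mk hirr
  set q := Fintype.card F with hq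
  have hq1 : 1 ≤ q := Fintype.card_pos
  set d := Nat.gcd 3 (q - 1) with hdd
  set α := AdjoinRoot.root χ with hα
  have hN := root_pow_sum χ hm
  rw [hd, h0, Finset.sum_range_succ, Finset.sum_range_succ, Finset.sum_range_one, ← hq] at hN
  have hN' : α ^ (q ^ 2 + q + 1) = 1 := by
    have h1 : q ^ 0 + q ^ 1 + q ^ 2 = q ^ 2 + q + 1 := by ring
    rw [h1] at hN
    rw [hN]
    norm_num
  obtain ⟨k, hk⟩ := d_dvd_N q hq1
  obtain ⟨t, ht⟩ := d_dvd_sub q
  rw [← hdd] at hk ht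
  have hd0 : 0 < d := Nat.gcd_pos_of_pos_left _ (by norm_num)
  have hk' : (q ^ 2 + q + 1) / d = k := by rw [hk, Nat.mul_div_cancel_left _ hd0]
  rw [hk']
  have h1 : (α ^ k) ^ (q - 1) = 1 := by
    rw [← pow_mul, ht, ← mul_assoc, mul_comm k d, ← hk, pow_mul, hN', one_pow]
  obtain ⟨c, hc⟩ := exists_of_eq χ (α ^ k) h1
  exact ⟨c, (dvd_X_pow_sub_C_iff χ k c).2 hc.symm⟩

theorem upper_quad (a : F) (h : F[X]) (hhm : h.Monic) (hhd : h.natDegree = 2) (hirr : Irreducible h)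
    (h0 : a * h.coeff 0 = 1) :
    (X - C a) * h ∣ X ^ ((Fintype.card F ^ 2 - 1) / Nat.gcd 3 (Fintype.card F - 1))
      - C (a ^ ((Fintype.card F ^ 2 - 1) / Nat.gcd 3 (Fintype.card F - 1))) := by
  have := Fact.mk hirr
  set q := Fintype.card F with hq
  have hq1 : 1 < q := Fintype.one_lt_card
  set d := Nat.gcd 3 (q - 1) with hdd
  set β := AdjoinRoot.root h with hβ
  have hN := root_pow_sum h hhm
  rw [hhd, Finset.sum_range_succ, Finset.sum_range_one, ← hq, pow_zero, pow_one] at hN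
  have hN' : β ^ (1 + q) = AdjoinRoot.of h (h.coeff 0) := by
    rw [hN]; norm_num
  have hc0 : h.coeff 0 ≠ 0 := right_ne_zero_of_mul_eq_one h0
  have hβ0 : β ≠ 0 := by
    intro hz
    rw [hz, zero_pow (by omega)] at hN'
    exact hc0 ((map_eq_zero (AdjoinRoot.of h)).1 hN'.symm)
  have hβq : β ^ (q ^ 2 - 1) = 1 := by
    have h1 := root_pow_card_pow h
    rw [hhd, ← hq] at h1
    have h2 : β ^ (q ^ 2 - 1) * β = 1 * β := by
      rw [← pow_succ, Nat.sub_add_cancel (Nat.one_le_pow _ _ (by omega)), one_mul]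
      exact h1
    exact mul_right_cancel₀ hβ0 h2
  have hd0 : 0 < d := Nat.gcd_pos_of_pos_left _ (by norm_num)
  have hdq : d ∣ q ^ 2 - 1 := d_dvd_sq_sub_one q (by omega)
  obtain ⟨k, hk⟩ := hdq
  obtain ⟨t, ht⟩ := d_dvd_add_two q (by omega)
  rw [← hdd] at ht
  have hk' : (q ^ 2 - 1) / d = k := by rw [hk, Nat.mul_div_cancel_left _ hd0]
  rw [hk']
  have hh : h ∣ X ^ k - C (a ^ k) := by
    rw [dvd_X_pow_sub_C_iff]
    have h3 : (AdjoinRoot.of h (h.coeff 0)) ^ k ≠ 0 :=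
      pow_ne_zero _ (fun hz => hc0 ((map_eq_zero (AdjoinRoot.of h)).1 hz))
    apply mul_right_cancel₀ h3
    rw [← map_pow, ← map_mul, ← mul_pow, h0, one_pow, map_one, map_pow, ← hN', ← pow_mul, ← pow_add]
    have h4 : k + (1 + q) * k = (q ^ 2 - 1) * t := by
      have : k + (1 + q) * k = (q + 2) * k := by ring
      rw [this, ht, hk]; ring
    rw [h4, pow_mul, hβq, one_pow]
  have hcop : IsCoprime (X - C a) h := by
    rw [(irreducible_X_sub_C a).coprime_iff_not_dvd]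
    intro hdiv
    have h5 := degree_eq_one_of_irreducible_of_root hirr (dvd_iff_isRoot.1 hdiv)
    rw [degree_eq_natDegree hirr.ne_zero, hhd] at h5
    norm_num at h5
  exact hcop.mul_dvd (X_sub_C_dvd_X_pow_sub_C a k) hh

theorem upper_distinct (a b c : F) (ha : a ≠ 0) (hb : b ≠ 0) (hc : c ≠ 0) (hab : a ≠ b)
    (hac : a ≠ c) (hbc : b ≠ c) :
    (X - C a) * ((X - C b) * (X - C c)) ∣ X ^ (Fintype.card F - 1) - C 1 := by
  have h1 : ∀ x : F, x ≠ 0 → (X - C x) ∣ X ^ (Fintype.card F - 1) - C 1 := by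
    intro x hx
    rw [dvd_iff_isRoot]
    simp [pow_card_sub_one' x hx]
  have hcop : ∀ x y : F, x ≠ y → IsCoprime (X - C x) (X - C y) := by
    intro x y hxy
    exact isCoprime_X_sub_C_of_isUnit_sub (sub_ne_zero.2 hxy).isUnit
  exact (IsCoprime.mul_right (hcop a b hab) (hcop a c hac)).mul_dvd (h1 a ha)
    ((hcop b c hbc).mul_dvd (h1 b hb) (h1 c hc))

theorem pow_char_sub (p : ℕ) [Fact p.Prime] [CharP F p] (a : F) (t : ℕ) :
    (X ^ t - C (a ^ t)) ^ p = X ^ (p * t) - C (a ^ (p * t)) := by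
  rw [sub_pow_char, ← pow_mul, ← map_pow, ← pow_mul, mul_comm t p]

theorem upper_double (p : ℕ) [hp : Fact p.Prime] [CharP F p] (a c : F) (hac : a ≠ c)
    (h : a ^ 2 * c = 1) :
    (X - C a) ^ 2 * (X - C c) ∣
      X ^ (p * ((Fintype.card F - 1) / Nat.gcd 3 (Fintype.card F - 1))) -
        C (a ^ (p * ((Fintype.card F - 1) / Nat.gcd 3 (Fintype.card F - 1)))) := by
  set q := Fintype.card F with hq
  set d := Nat.gcd 3 (q - 1) with hdd
  have hd0 : 0 < d := Nat.gcd_pos_of_pos_left _ (by norm_num)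
  obtain ⟨t, ht⟩ := d_dvd_sub q
  rw [← hdd] at ht
  have ht' : (q - 1) / d = t := by rw [ht, Nat.mul_div_cancel_left _ hd0]
  rw [ht']
  obtain ⟨e, he⟩ := d_dvd_three q
  rw [← hdd] at he
  have ha0 : a ≠ 0 := by
    rintro rfl
    simp at h
  have h3t : a ^ (3 * t) = 1 := by
    have : 3 * t = (q - 1) * e := by rw [he, ht]; ring
    rw [this, pow_mul, pow_card_sub_one' a ha0, one_pow]
  have h1 : (X - C a) ^ 2 ∣ X ^ (p * t) - C (a ^ (p * t)) := by
    rw [← pow_char_sub]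
    exact (pow_dvd_pow _ hp.out.two_le).trans (pow_dvd_pow_of_dvd (X_sub_C_dvd_X_pow_sub_C a t) p)
  have h2 : (X - C c) ∣ X ^ (p * t) - C (a ^ (p * t)) := by
    apply X_sub_C_dvd_of_pow_eq
    have h4 : (a ^ 2) ^ (p * t) ≠ 0 := pow_ne_zero _ (pow_ne_zero _ ha0)
    apply mul_left_cancel₀ h4
    rw [← mul_pow, h, one_pow]
    have : (a ^ 2) ^ (p * t) * a ^ (p * t) = (a ^ (3 * t)) ^ p := by ring
    rw [this, h3t, one_pow]
  have hcop : IsCoprime ((X - C a) ^ 2) (X - C c) :=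
    (isCoprime_X_sub_C_of_isUnit_sub (sub_ne_zero.2 hac).isUnit).pow_left
  exact hcop.mul_dvd h1 h2

theorem upper_triple (p : ℕ) [hp : Fact p.Prime] [CharP F p] (a : F) (hp2 : p ≠ 2) :
    (X - C a) ^ 3 ∣ X ^ p - C (a ^ p) := by
  have h1 := pow_char_sub p a 1
  rw [pow_one, pow_one, mul_one] at h1
  rw [← h1]
  have : 3 ≤ p := by
    have := hp.out.two_le
    omega
  exact pow_dvd_pow _ this

theorem upper_triple_two [CharP F 2] (a : F) : (X - C a) ^ 3 ∣ X ^ 4 - C (a ^ 4) := by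
  have : Fact (Nat.Prime 2) := ⟨Nat.prime_two⟩
  have h1 := pow_char_sub 2 a 1
  rw [pow_one, pow_one, mul_one] at h1
  have h2 := pow_char_sub 2 a 2
  rw [← h1] at h2
  have h3 : (X - C a) ^ 4 = X ^ 4 - C (a ^ 4) := by
    have : (X - C a) ^ 4 = (((X - C a : F[X])) ^ 2) ^ 2 := by ring
    rw [this, h2]
  rw [← h3]
  exact pow_dvd_pow _ (by norm_num)

theorem coeff_zero_X_sub_C (a : F) : (X - C a : F[X]).coeff 0 = -a := by
  simp

theorem upper (p : ℕ) [hp : Fact p.Prime] [CharP F p] (χ : F[X]) (hm : χ.Monic)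
    (hd : χ.natDegree = 3) (h0 : χ.coeff 0 = -1) :
    ∃ (k : ℕ) (c : F), χ ∣ X ^ k - C c ∧
      (k ∣ (Fintype.card F ^ 2 + Fintype.card F + 1) / Nat.gcd 3 (Fintype.card F - 1) ∨
        k ∣ (Fintype.card F ^ 2 - 1) / Nat.gcd 3 (Fintype.card F - 1) ∨ k ∣ Fintype.card F - 1 ∨
        k ∣ p * (Fintype.card F - 1) / Nat.gcd 3 (Fintype.card F - 1) ∨ (p = 2 ∧ k ∣ 4)) := by
  have hmul : p * (Fintype.card F - 1) / Nat.gcd 3 (Fintype.card F - 1) =
      p * ((Fintype.card F - 1) / Nat.gcd 3 (Fintype.card F - 1)) :=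
    Nat.mul_div_assoc _ (d_dvd_sub _)
  rcases cubic_cases χ hm hd with hirr | ⟨a, h, hhm, hhd, hirr, rfl⟩ | ⟨a, b, c, rfl⟩
  · obtain ⟨c, hc⟩ := upper_irred χ hm hd h0 hirr
    exact ⟨_, c, hc, Or.inl dvd_rfl⟩
  · rw [mul_coeff_zero, coeff_zero_X_sub_C, neg_mul, neg_inj] at h0
    exact ⟨_, _, upper_quad a h hhm hhd hirr h0, Or.inr (Or.inl dvd_rfl)⟩
  · rw [mul_coeff_zero, mul_coeff_zero, coeff_zero_X_sub_C, coeff_zero_X_sub_C,
      coeff_zero_X_sub_C] at h0
    have habc : a * b * c = 1 := by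
      have : -a * (-b * -c) = -(a * b * c) := by ring
      rw [this, neg_inj] at h0
      exact h0
    have ha : a ≠ 0 := by rintro rfl; simp at habc
    have hb : b ≠ 0 := by rintro rfl; simp at habc
    have hc : c ≠ 0 := by rintro rfl; simp at habc
    by_cases hab : a = b
    · subst hab
      by_cases hac : a = c
      · subst hac
        have e : (X - C a) * ((X - C a) * (X - C a)) = (X - C a) ^ 3 := by ring
        rw [e]
        by_cases hp2 : p = 2
        · subst hp2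
          exact ⟨4, _, upper_triple_two a, Or.inr (Or.inr (Or.inr (Or.inr ⟨rfl, dvd_rfl⟩)))⟩
        · refine ⟨p, _, upper_triple p a hp2, Or.inr (Or.inr (Or.inr (Or.inl ?_)))⟩
          rw [hmul]
          exact dvd_mul_right _ _
      · have e : (X - C a) * ((X - C a) * (X - C c)) = (X - C a) ^ 2 * (X - C c) := by ring
        rw [e]
        refine ⟨_, _, upper_double p a c hac (by rw [← habc]; ring),
          Or.inr (Or.inr (Or.inr (Or.inl ?_)))⟩
        rw [hmul]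
    · by_cases hac : a = c
      · subst hac
        have e : (X - C a) * ((X - C b) * (X - C a)) = (X - C a) ^ 2 * (X - C b) := by ring
        rw [e]
        refine ⟨_, _, upper_double p a b hab (by rw [← habc]; ring),
          Or.inr (Or.inr (Or.inr (Or.inl ?_)))⟩
        rw [hmul]
      · by_cases hbc : b = c
        · subst hbc
          have e : (X - C a) * ((X - C b) * (X - C b)) = (X - C b) ^ 2 * (X - C a) := by ring
          rw [e]
          refine ⟨_, _, upper_double p b a (Ne.symm hab) (by rw [← habc]; ring),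
            Or.inr (Or.inr (Or.inr (Or.inl ?_)))⟩
          rw [hmul]
        · exact ⟨_, _, upper_distinct a b c ha hb hc hab hac hbc, Or.inr (Or.inr (Or.inl dvd_rfl))⟩

end upper

section exist
variable {F : Type*} [Field F] [Fintype F]

open Matrix Cfsg.Agent.S2470

theorem exists_psl_of_iff {ι : Type*} [Fintype ι] [DecidableEq ι] (e : ι ≃ Fin 3)
    (M : Matrix ι ι F) (hdet : M.det = 1) (m : ℕ) (hm : 0 < m)
    (h : ∀ j : ℕ, (∃ c : F, M ^ j = c • 1) ↔ m ∣ j) :
    ∃ x : Matrix.ProjectiveSpecialLinearGroup (Fin 3) F, orderOf x = m := by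
  refine exists_psl_of_matrix e M hdet m hm ((h m).2 dvd_rfl) ?_
  intro ℓ hℓ hℓm hcon
  have h1 := (h (m / ℓ)).1 hcon
  have h2 : 0 < m / ℓ := Nat.div_pos (Nat.le_of_dvd hm hℓm) hℓ.pos
  have h3 : m / ℓ < m := Nat.div_lt_self hm hℓ.one_lt
  exact absurd (Nat.le_of_dvd h2 h1) (by omega)

theorem exists_E1 : ∃ x : Matrix.ProjectiveSpecialLinearGroup (Fin 3) F,
    orderOf x = Fintype.card F - 1 := by
  classical
  obtain ⟨ζ, hζ0, hζ⟩ := exists_orderOf_eq (F := F) (Fintype.card F - 1) dvd_rfl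
  have hq : 1 < Fintype.card F := Fintype.one_lt_card
  refine exists_psl_of_iff (Equiv.refl _) (Matrix.diagonal ![ζ, 1, ζ⁻¹]) ?_ _ (by omega) ?_
  · rw [Matrix.det_diagonal, Fin.prod_univ_three]
    simp [hζ0]
  · intro j
    rw [Matrix.diagonal_pow, ← hζ, orderOf_dvd_iff_pow_eq_one]
    constructor
    · rintro ⟨c, hc⟩
      rw [Matrix.smul_one_eq_diagonal] at hc
      have h1 := Matrix.diagonal_injective hc
      have h10 := congrFun h1 0
      have h11 := congrFun h1 1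
      simp at h10 h11
      rw [h10, ← h11]
    · intro h1
      refine ⟨1, ?_⟩
      rw [one_smul, ← Matrix.diagonal_one]
      congr 1
      ext i
      fin_cases i <;> simp [h1]

theorem coprime_char (p : ℕ) [hp : Fact p.Prime] [CharP F p] :
    Nat.Coprime p (Fintype.card F - 1) := by
  rw [Nat.Prime.coprime_iff_not_dvd hp.out]
  intro h
  have h1 : p ∣ Fintype.card F := by
    rw [← CharP.cast_eq_zero_iff F p]
    exact FiniteField.cast_card_eq_zero F
  have hq : 1 < Fintype.card F := Fintype.one_lt_card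
  have h2 : p ∣ Fintype.card F - (Fintype.card F - 1) := Nat.dvd_sub h1 h
  have h3 : Fintype.card F - (Fintype.card F - 1) = 1 := by omega
  rw [h3] at h2
  exact hp.out.one_lt.ne' (Nat.dvd_one.1 h2)

theorem exists_E2 (p : ℕ) [hp : Fact p.Prime] [CharP F p] :
    ∃ x : Matrix.ProjectiveSpecialLinearGroup (Fin 3) F,
      orderOf x = p * ((Fintype.card F - 1) / Nat.gcd 3 (Fintype.card F - 1)) := by
  classical
  obtain ⟨ζ, hζ0, hζ⟩ := exists_orderOf_eq (F := F) (Fintype.card F - 1) dvd_rfl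
  have hq : 1 < Fintype.card F := Fintype.one_lt_card
  set q := Fintype.card F with hqdef
  set d := Nat.gcd 3 (q - 1) with hdd
  have hd0 : 0 < d := Nat.gcd_pos_of_pos_left _ (by norm_num)
  have htpos : 0 < (q - 1) / d := Nat.div_pos (Nat.le_of_dvd (by omega) (d_dvd_sub q)) hd0
  have e : Fin 1 ⊕ (Fin 2 ⊕ Fin 0) ≃ Fin 3 :=
    (Equiv.sumCongr (Equiv.refl _) finSumFinEquiv).trans finSumFinEquiv
  refine exists_psl_of_iff e (elt F 0 ζ) (elt_det 0 ζ hζ0) _ (Nat.mul_pos hp.out.pos htpos) ?_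
  intro j
  have hcop : Nat.Coprime p ((q - 1) / d) :=
    Nat.Coprime.coprime_dvd_right (Nat.div_dvd_of_dvd (d_dvd_sub q)) (coprime_char p)
  have key : ζ ^ (3 * j) = 1 ↔ (q - 1) / d ∣ j := by
    rw [← orderOf_dvd_iff_pow_eq_one, hζ, dvd_mul_iff_div_gcd _ _ _ (by omega), Nat.gcd_comm]
  constructor
  · rintro ⟨c, hc⟩
    rw [elt_pow_eq_smul_iff] at hc
    obtain ⟨hc1, ⟨hc2, hc3⟩, -⟩ := hc
    apply hcop.mul_dvd_of_dvd_of_dvd
    · rcases mul_eq_zero.1 hc3 with h | h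
      · exact absurd h (pow_ne_zero _ hζ0)
      · exact (CharP.cast_eq_zero_iff F p j).1 h
    · rw [← key]
      have h3 : ζ ^ (3 * j) = ζ ^ j * (ζ ^ 2) ^ j := by ring
      rw [h3, hc2, ← hc1, ← mul_pow, inv_pow, inv_mul_cancel₀ (pow_ne_zero 2 hζ0), one_pow]
  · intro hj
    have hpj : p ∣ j := (dvd_mul_right _ _).trans hj
    have htj : (q - 1) / d ∣ j := (dvd_mul_left _ _).trans hj
    refine ⟨ζ ^ j, ?_⟩
    rw [elt_pow_eq_smul_iff]
    refine ⟨?_, ⟨rfl, ?_⟩, Or.inl rfl⟩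
    · have hy : (ζ ^ 2) ^ j ≠ 0 := pow_ne_zero _ (pow_ne_zero _ hζ0)
      apply mul_right_cancel₀ hy
      rw [← mul_pow, inv_pow, inv_mul_cancel₀ (pow_ne_zero 2 hζ0), one_pow]
      have : ζ ^ j * (ζ ^ 2) ^ j = ζ ^ (3 * j) := by ring
      rw [this, key.2 htj]
    · rw [(CharP.cast_eq_zero_iff F p j).2 hpj, mul_zero]

theorem exists_E3 [CharP F 2] :
    ∃ x : Matrix.ProjectiveSpecialLinearGroup (Fin 3) F, orderOf x = 4 := by
  classical
  have h2 : (2 : F) = 0 := by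
    have := CharP.cast_eq_zero F 2
    exact_mod_cast this
  set J : Matrix (Fin 3) (Fin 3) F := !![1, 1, 0; 0, 1, 1; 0, 0, 1] with hJ
  have hJ2 : J ^ 2 = !![1, 0, 1; 0, 1, 0; 0, 0, 1] := by
    rw [pow_two, hJ]
    ext i j
    fin_cases i <;> fin_cases j <;> simp [Matrix.mul_apply, Fin.sum_univ_three] <;>
      first | exact h2 | (rw [one_add_one_eq_two]; exact h2)
  have hJ4 : J ^ 4 = 1 := by
    have : J ^ 4 = J ^ 2 * J ^ 2 := by rw [← pow_add]
    rw [this, hJ2]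
    ext i j
    fin_cases i <;> fin_cases j <;> simp [Matrix.mul_apply, Fin.sum_univ_three] <;>
      first | exact h2 | (rw [one_add_one_eq_two]; exact h2)
  refine exists_psl_of_matrix (Equiv.refl _) J ?_ 4 (by norm_num) ⟨1, by rw [hJ4, one_smul]⟩ ?_
  · rw [hJ, Matrix.det_fin_three]
    simp
  · intro ℓ hℓ hℓ4
    have : ℓ = 2 := by
      have h22 : (4 : ℕ) = 2 ^ 2 := by norm_num
      rw [h22] at hℓ4
      exact (Nat.prime_dvd_prime_iff_eq hℓ Nat.prime_two).1 (hℓ.dvd_of_dvd_pow hℓ4)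
    subst this
    rintro ⟨c, hc⟩
    have h4 : (4 : ℕ) / 2 = 2 := by norm_num
    rw [h4, hJ2] at hc
    have := congrFun (congrFun hc 0) 2
    simp at this

/-- scalar matrices in the regular representation of an extension field. -/
theorem leftMul_pow_eq_smul_iff {K : Type*} [Field K] [Algebra F K] {n : ℕ}
    (b : Module.Basis (Fin n) F K) (ξ : K) (hξ0 : ξ ≠ 0) (j : ℕ) :
    (∃ c : F, (Algebra.leftMulMatrix b ξ) ^ j = c • 1) ↔ (ξ ^ j) ^ (Fintype.card F - 1) = 1 := by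
  rw [← map_pow]
  constructor
  · rintro ⟨c, hc⟩
    have h1 : Algebra.leftMulMatrix b (ξ ^ j) = Algebra.leftMulMatrix b (algebraMap F K c) := by
      rw [hc, AlgHom.commutes, Algebra.algebraMap_eq_smul_one]
    have h2 := Algebra.leftMulMatrix_injective b h1
    have hc0 : c ≠ 0 := by
      rintro rfl
      rw [map_zero] at h2
      exact pow_ne_zero j hξ0 h2
    rw [h2, ← map_pow, FiniteField.pow_card_sub_one_eq_one c hc0, map_one]
  · intro h1
    obtain ⟨c, hc⟩ := SingerModel.mem_range_of_pow_eq_one (F := F) (ξ ^ j) h1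
    refine ⟨c, ?_⟩
    rw [← hc, AlgHom.commutes, Algebra.algebraMap_eq_smul_one]

theorem cube_sub_one (q : ℕ) (hq : 1 ≤ q) : q ^ 3 - 1 = (q ^ 2 + q + 1) * (q - 1) := by
  obtain ⟨t, rfl⟩ : ∃ t, q = t + 1 := ⟨q - 1, by omega⟩
  have : (t + 1) ^ 3 = ((t + 1) ^ 2 + (t + 1) + 1) * (t + 1 - 1) + 1 := by
    rw [Nat.add_sub_cancel]; ring
  omega

theorem exists_E5 (p : ℕ) [hp : Fact p.Prime] [CharP F p] :
    ∃ x : Matrix.ProjectiveSpecialLinearGroup (Fin 3) F,
      orderOf x = (Fintype.card F ^ 2 + Fintype.card F + 1) / Nat.gcd 3 (Fintype.card F - 1) := by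
  classical
  have hq : 1 < Fintype.card F := Fintype.one_lt_card
  set q := Fintype.card F with hqdef
  set d := Nat.gcd 3 (q - 1) with hdd
  have hd0 : 0 < d := Nat.gcd_pos_of_pos_left _ (by norm_num)
  let K := FiniteField.Extension F p 3
  have : Fintype K := Fintype.ofFinite K
  have hfin : Module.finrank F K = 3 := FiniteField.finrank_extension F p 3
  have hKcard : Fintype.card K = q ^ 3 := by
    rw [← Nat.card_eq_fintype_card, FiniteField.natCard_extension, Nat.card_eq_fintype_card]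
  obtain ⟨ξ, hξ0, hξo⟩ := exists_orderOf_eq (F := K) (q ^ 2 + q + 1) (by
    rw [hKcard, cube_sub_one q (by omega)]; exact dvd_mul_right _ _)
  let b : Module.Basis (Fin 3) F K := Module.finBasisOfFinrankEq F K hfin
  have hnorm : Algebra.norm F ξ = 1 := by
    apply (algebraMap F K).injective
    rw [FiniteField.algebraMap_norm_eq_pow_sum, hfin, map_one, Nat.card_eq_fintype_card,
      Finset.sum_range_succ, Finset.sum_range_succ, Finset.sum_range_one, ← hqdef]
    have h1 : q ^ 0 + q ^ 1 + q ^ 2 = q ^ 2 + q + 1 := by ring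
    rw [h1, ← hξo]
    exact pow_orderOf_eq_one ξ
  have hdet : (Algebra.leftMulMatrix b ξ).det = 1 := by
    rw [← Algebra.norm_eq_matrix_det b ξ, hnorm]
  have hNd : 0 < (q ^ 2 + q + 1) / d :=
    Nat.div_pos (Nat.le_of_dvd (by positivity) (d_dvd_N q (by omega))) hd0
  refine exists_psl_of_iff (Equiv.refl _) (Algebra.leftMulMatrix b ξ) hdet _ hNd ?_
  intro j
  rw [leftMul_pow_eq_smul_iff b ξ hξ0 j, ← pow_mul, ← orderOf_dvd_iff_pow_eq_one, hξo, mul_comm,
    dvd_mul_iff_div_gcd _ _ _ (by positivity), gcd_N q (by omega)]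

theorem exists_E4 (p : ℕ) [hp : Fact p.Prime] [CharP F p] :
    ∃ x : Matrix.ProjectiveSpecialLinearGroup (Fin 3) F,
      orderOf x = (Fintype.card F ^ 2 - 1) / Nat.gcd 3 (Fintype.card F - 1) := by
  classical
  have hq : 1 < Fintype.card F := Fintype.one_lt_card
  set q := Fintype.card F with hqdef
  set d := Nat.gcd 3 (q - 1) with hdd
  have hd0 : 0 < d := Nat.gcd_pos_of_pos_left _ (by norm_num)
  let K := FiniteField.Extension F p 2
  have : Fintype K := Fintype.ofFinite K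
  have hfin : Module.finrank F K = 2 := FiniteField.finrank_extension F p 2
  have hKcard : Fintype.card K = q ^ 2 := by
    rw [← Nat.card_eq_fintype_card, FiniteField.natCard_extension, Nat.card_eq_fintype_card]
  obtain ⟨β, hβ0, hβo⟩ := exists_orderOf_eq (F := K) (q ^ 2 - 1) (by rw [hKcard])
  let b : Module.Basis (Fin 2) F K := Module.finBasisOfFinrankEq F K hfin
  have hnorm : algebraMap F K (Algebra.norm F β) = β ^ (1 + q) := by
    rw [FiniteField.algebraMap_norm_eq_pow_sum, hfin, Nat.card_eq_fintype_card,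
      Finset.sum_range_succ, Finset.sum_range_one, ← hqdef, pow_zero, pow_one]
  have hn0 : Algebra.norm F β ≠ 0 := by
    intro h
    rw [h, map_zero] at hnorm
    exact pow_ne_zero _ hβ0 hnorm.symm
  set y : F := (Algebra.norm F β)⁻¹ with hy
  set M : Matrix (Fin 2 ⊕ Fin 1) (Fin 2 ⊕ Fin 1) F :=
    fromBlocks (Algebra.leftMulMatrix b β) 0 0 (y • (1 : Matrix (Fin 1) (Fin 1) F)) with hM
  have hdet : M.det = 1 := by
    rw [hM, det_fromBlocks_zero₁₂, ← Algebra.norm_eq_matrix_det b β, Matrix.det_smul, det_one,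
      Fintype.card_fin, pow_one, mul_one, hy, mul_inv_cancel₀ hn0]
  have hMd : 0 < (q ^ 2 - 1) / d := by
    apply Nat.div_pos (Nat.le_of_dvd _ (d_dvd_sq_sub_one q (by omega))) hd0
    have : 2 ^ 2 ≤ q ^ 2 := Nat.pow_le_pow_left hq 2
    omega
  have hq2 : 0 < q ^ 2 - 1 := by
    have : 2 ^ 2 ≤ q ^ 2 := Nat.pow_le_pow_left hq 2
    omega
  refine exists_psl_of_iff finSumFinEquiv M hdet _ hMd ?_
  intro j
  have hMj : M ^ j = fromBlocks (Algebra.leftMulMatrix b (β ^ j)) 0 0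
      (y ^ j • (1 : Matrix (Fin 1) (Fin 1) F)) := by
    rw [hM, fromBlocks_diagonal_pow, _root_.smul_pow, one_pow, map_pow]
  have key : (∃ c : F, M ^ j = c • 1) ↔ β ^ ((q + 2) * j) = 1 := by
    rw [hMj]
    have hyj : algebraMap F K (y ^ j) * (β ^ (1 + q)) ^ j = 1 := by
      rw [← hnorm, ← map_pow, ← map_mul, ← mul_pow, hy, inv_mul_cancel₀ hn0, one_pow, map_one]
    have hexp : β ^ ((q + 2) * j) = β ^ j * (β ^ (1 + q)) ^ j := by
      rw [← pow_mul, ← pow_add]; congr 1; ring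
    have hne : (β ^ (1 + q)) ^ j ≠ 0 := pow_ne_zero _ (pow_ne_zero _ hβ0)
    constructor
    · rintro ⟨c, hc⟩
      rw [fromBlocks_eq_smul_one_iff, smul_one_fin_one_eq_iff] at hc
      obtain ⟨hc1, hc2⟩ := hc
      have h1 : Algebra.leftMulMatrix b (β ^ j) = Algebra.leftMulMatrix b (algebraMap F K c) := by
        rw [hc1, AlgHom.commutes, Algebra.algebraMap_eq_smul_one]
      have h2 := Algebra.leftMulMatrix_injective b h1
      rw [hexp, h2, ← hc2, hyj]
    · intro h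
      refine ⟨y ^ j, ?_⟩
      rw [fromBlocks_eq_smul_one_iff, smul_one_fin_one_eq_iff]
      refine ⟨?_, rfl⟩
      have h2 : β ^ j = algebraMap F K (y ^ j) := by
        apply mul_right_cancel₀ hne
        rw [← hexp, h, hyj]
      rw [h2, AlgHom.commutes, Algebra.algebraMap_eq_smul_one]
  rw [key, ← orderOf_dvd_iff_pow_eq_one, hβo, dvd_mul_iff_div_gcd _ _ _ hq2, gcd_M q (by omega)]

end exist

section main
variable {F : Type*} [Field F] [Fintype F]

theorem mem_range_of_dvd {G : Type*} [Group G] (x : G) (m : ℕ) (h0 : orderOf x ≠ 0)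
    (hm : m ∣ orderOf x) : m ∈ Set.range (orderOf : G → ℕ) :=
  ⟨x ^ (orderOf x / m), orderOf_pow_orderOf_div h0 hm⟩

end main



/-- The set of element orders of PSL(3,q): let F be a finite field of characteristic p with q elements and d = gcd(3, q − 1). The orders of elements of PSL(3,F) are exactly the divisors of (q² + q + 1)/d, of (q² − 1)/d, of q − 1, of p(q − 1)/d, and, when p = 2, of 4. -/
theorem result {F : Type*} [Field F] [Fintype F] (p : ℕ) [Fact p.Prime] [CharP F p] :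
    Set.range (orderOf : Matrix.ProjectiveSpecialLinearGroup (Fin 3) F → ℕ) =
      {m : ℕ | m ∣ (Fintype.card F ^ 2 + Fintype.card F + 1) / Nat.gcd 3 (Fintype.card F - 1) ∨
        m ∣ (Fintype.card F ^ 2 - 1) / Nat.gcd 3 (Fintype.card F - 1) ∨ m ∣ Fintype.card F - 1 ∨
        m ∣ p * (Fintype.card F - 1) / Nat.gcd 3 (Fintype.card F - 1) ∨ (p = 2 ∧ m ∣ 4)} := by
  classical
  have hp : p.Prime := Fact.out
  have hq : 1 < Fintype.card F := Fintype.one_lt_card
  have hd0 : 0 < Nat.gcd 3 (Fintype.card F - 1) := Nat.gcd_pos_of_pos_left _ (by norm_num)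
  have hmul : p * (Fintype.card F - 1) / Nat.gcd 3 (Fintype.card F - 1) =
      p * ((Fintype.card F - 1) / Nat.gcd 3 (Fintype.card F - 1)) :=
    Nat.mul_div_assoc _ (d_dvd_sub _)
  ext m
  simp only [Set.mem_range, Set.mem_setOf_eq]
  constructor
  · rintro ⟨x, rfl⟩
    obtain ⟨g, rfl⟩ := QuotientGroup.mk_surjective x
    set M : Matrix (Fin 3) (Fin 3) F := g.1 with hM
    have hχm : M.charpoly.Monic := Matrix.charpoly_monic M
    have hχd : M.charpoly.natDegree = 3 := by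
      rw [Matrix.charpoly_natDegree_eq_dim, Fintype.card_fin]
    have hχ0 : M.charpoly.coeff 0 = -1 := by
      have h1 := Matrix.det_eq_sign_charpoly_coeff M
      rw [hM, g.2, Fintype.card_fin] at h1
      have h2 : ((-1 : F)) ^ 3 = -1 := by ring
      rw [h2, neg_one_mul] at h1
      rw [← hM] at h1
      rw [← neg_eq_iff_eq_neg, ← h1]
    obtain ⟨k, c, hdvd, hk⟩ := upper p M.charpoly hχm hχd hχ0
    have hpow : M ^ k = c • 1 := pow_eq_smul_of_charpoly_dvd M k c hdvd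
    have h1 : ((g : Matrix.SpecialLinearGroup (Fin 3) F) :
        Matrix.ProjectiveSpecialLinearGroup (Fin 3) F) ^ k = 1 :=
      (Cfsg.Agent.S2470.mk_pow_eq_one_iff g k).2 ⟨c, hpow⟩
    have h2 := orderOf_dvd_of_pow_eq_one h1
    rcases hk with hk | hk | hk | hk | ⟨hk1, hk2⟩
    · exact Or.inl (h2.trans hk)
    · exact Or.inr (Or.inl (h2.trans hk))
    · exact Or.inr (Or.inr (Or.inl (h2.trans hk)))
    · exact Or.inr (Or.inr (Or.inr (Or.inl (h2.trans hk))))
    · exact Or.inr (Or.inr (Or.inr (Or.inr ⟨hk1, h2.trans hk2⟩)))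
  · rintro (h | h | h | h | ⟨h2, h⟩)
    · obtain ⟨x, hx⟩ := exists_E5 (F := F) p
      rw [← hx] at h
      refine mem_range_of_dvd x m ?_ h
      rw [hx]
      exact (Nat.div_pos (Nat.le_of_dvd (by positivity) (d_dvd_N _ (by omega))) hd0).ne'
    · obtain ⟨x, hx⟩ := exists_E4 (F := F) p
      rw [← hx] at h
      refine mem_range_of_dvd x m ?_ h
      rw [hx]
      have : 2 ^ 2 ≤ Fintype.card F ^ 2 := Nat.pow_le_pow_left hq 2
      exact (Nat.div_pos (Nat.le_of_dvd (by omega) (d_dvd_sq_sub_one _ (by omega))) hd0).ne'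
    · obtain ⟨x, hx⟩ := exists_E1 (F := F)
      rw [← hx] at h
      refine mem_range_of_dvd x m ?_ h
      rw [hx]
      omega
    · obtain ⟨x, hx⟩ := exists_E2 (F := F) p
      rw [hmul, ← hx] at h
      refine mem_range_of_dvd x m ?_ h
      rw [hx]
      exact (Nat.mul_pos hp.pos
        (Nat.div_pos (Nat.le_of_dvd (by omega) (d_dvd_sub _)) hd0)).ne'
    · subst h2
      obtain ⟨x, hx⟩ := exists_E3 (F := F)
      rw [← hx] at h
      refine mem_range_of_dvd x m ?_ h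
      rw [hx]
      norm_num


end Cfsg.Agent.S2476
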