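import Cfsg.Statements.S2366
import Cfsg.Agent.Lib.Helper5.Cubic
import Cfsg.Agent.Lib.Helper5.UStar
import Cfsg.Agent.Lib.Helper2.HermDecomp
import Cfsg.Agent.S2365
import Cfsg.Agent.S2476

set_option autoImplicit false
open Cfsg

namespace Cfsg.Agent.S2366


open Polynomial Cfsg.Agent.Lib.Helper5 Cfsg.Agent.Lib.Helper5.Cubic
open Cfsg.Agent.Lib.Helper5.PrimeGraph
open Cfsg.Agent.Lib.Helper2.Herm Cfsg.Agent.Lib.Helper1.HermCount Cfsg.Agent.Lib.Helper1.SUCenter
open Cfsg.Agent.S2365 Cfsg.Agent.S0278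

section arith

theorem d_dvd_add (q : ℕ) : Nat.gcd 3 (q + 1) ∣ q + 1 := Nat.gcd_dvd_right _ _

theorem d_dvd_three (q : ℕ) : Nat.gcd 3 (q + 1) ∣ 3 := Nat.gcd_dvd_left _ _

theorem d_dvd_sub_two (q : ℕ) (hq : 2 ≤ q) : Nat.gcd 3 (q + 1) ∣ q - 2 := by
  have h : q + 1 = (q - 2) + 3 := by omega
  have h1 := d_dvd_add q
  rw [h] at h1 ⊢
  exact (Nat.dvd_add_iff_left (Nat.gcd_dvd_left _ _)).2 h1

theorem R_eq (q : ℕ) (hq : 2 ≤ q) : q ^ 2 - q + 1 = (q - 2) * (q + 1) + 3 := by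
  obtain ⟨t, rfl⟩ : ∃ t, q = t + 2 := ⟨q - 2, by omega⟩
  have : (t + 2) ^ 2 = (t + 2 - 2) * (t + 2 + 1) + 2 + (t + 2) := by
    rw [Nat.add_sub_cancel]; ring
  omega

theorem d_dvd_R (q : ℕ) (hq : 2 ≤ q) : Nat.gcd 3 (q + 1) ∣ q ^ 2 - q + 1 := by
  rw [R_eq q hq]
  exact Nat.dvd_add ((d_dvd_add q).mul_left _) (d_dvd_three q)

theorem R_eq' (q : ℕ) (hq : 1 ≤ q) : q ^ 2 - q + 1 = (q - 1) * q + 1 := by
  obtain ⟨t, rfl⟩ : ∃ t, q = t + 1 := ⟨q - 1, by omega⟩
  have : (t + 1) ^ 2 = (t + 1 - 1) * (t + 1) + (t + 1) := by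
    rw [Nat.add_sub_cancel]; ring
  omega

theorem gcd_R (q : ℕ) (hq : 2 ≤ q) : Nat.gcd (q ^ 2 - q + 1) (q ^ 2 - 1) = Nat.gcd 3 (q + 1) := by
  have h1 : Nat.Coprime (q ^ 2 - q + 1) (q - 1) := by
    rw [R_eq' q (by omega)]
    have : Nat.gcd ((q - 1) * q + 1) (q - 1) = Nat.gcd 1 (q - 1) := by
      rw [add_comm, Nat.gcd_add_mul_left_left]
    rw [Nat.Coprime, this, Nat.gcd_one_left]
  rw [Cfsg.Agent.S2476.sq_sub_one' q (by omega), Nat.Coprime.gcd_mul_left_cancel_right _ h1.symm,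
    R_eq q hq, mul_comm (q - 2), add_comm, Nat.gcd_add_mul_left_left]

theorem gcd_M' (q : ℕ) (hq : 2 ≤ q) : Nat.gcd (q ^ 2 - 1) (q - 2) = Nat.gcd 3 (q + 1) := by
  obtain ⟨t, rfl⟩ : ∃ t, q = t + 2 := ⟨q - 2, by omega⟩
  have h : (t + 2) ^ 2 - 1 = 3 + t * (t + 4) := by
    have : (t + 2) ^ 2 = 3 + t * (t + 4) + 1 := by ring
    omega
  rw [h, Nat.add_sub_cancel, Nat.gcd_add_mul_left_left]
  have h3 : t + 2 + 1 = t + 3 := by ring
  rw [h3, Nat.gcd_add_self_right]

theorem R_mul_add (q : ℕ) (hq : 1 ≤ q) : (q + 1) * (q ^ 2 - q + 1) = q ^ 3 + 1 := by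
  rw [R_eq' q hq]
  obtain ⟨t, rfl⟩ : ∃ t, q = t + 1 := ⟨q - 1, by omega⟩
  rw [Nat.add_sub_cancel]; ring

theorem R_mul_N (q : ℕ) (hq : 1 ≤ q) : (q ^ 2 + q + 1) * (q ^ 2 - q + 1) = q ^ 4 + q ^ 2 + 1 := by
  rw [R_eq' q hq]
  obtain ⟨t, rfl⟩ : ∃ t, q = t + 1 := ⟨q - 1, by omega⟩
  rw [Nat.add_sub_cancel]; ring

end arith

section lift
variable {F : Type*} [Field F] [Fintype F] {q : ℕ}

theorem mk_pow_eq_one_iff (hF : Fintype.card F = q ^ 2) (g : Cfsg.SU 3 F q) (k : ℕ) :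
    (QuotientGroup.mk g : Cfsg.PSU 3 F q) ^ k = 1 ↔ ∃ c : F, mat g ^ k = c • 1 := by
  rw [← QuotientGroup.mk_pow, QuotientGroup.eq_one_iff]
  constructor
  · intro h
    have h1 := central_scalar hF (le_refl 3) (g ^ k) h 0
    refine ⟨mat (g ^ k) 0 0, ?_⟩
    rw [← mat_pow]
    exact h1
  · rintro ⟨c, hc⟩
    rw [Subgroup.mem_center_iff]
    intro h
    apply SU_ext
    show mat (h * g ^ k) = mat (g ^ k * h)
    rw [mat_mul, mat_mul, mat_pow, hc]
    simp

end lift

section roots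
variable {F : Type*} [Field F] [Fintype F] {q n : ℕ}

theorem isRoot_charpoly_iff (M : Matrix (Fin n) (Fin n) F) (lam : F) :
    M.charpoly.IsRoot lam ↔ (lam • (1 : Matrix (Fin n) (Fin n) F) - M).det = 0 := by
  rw [IsRoot, Matrix.eval_charpoly, Matrix.scalar_apply, Matrix.smul_one_eq_diagonal]

theorem isRoot_tau (hF : Fintype.card F = q ^ 2) (M : Matrix (Fin n) (Fin n) F)
    (hM : ∀ u v, Cfsg.hermForm n F q (M.mulVec u) (M.mulVec v) = Cfsg.hermForm n F q u v)
    (lam : F) (h : M.charpoly.IsRoot lam) : M.charpoly.IsRoot ((lam ^ q)⁻¹) := by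
  classical
  have h1 := UStar.transpose_mul_map hF M hM
  have hdet : M.det ≠ 0 := by
    intro h0
    have := congrArg Matrix.det h1
    rw [Matrix.det_mul, Matrix.det_transpose, h0, zero_mul, Matrix.det_one] at this
    exact zero_ne_one this
  rw [isRoot_charpoly_iff] at h ⊢
  have hlam : lam ≠ 0 := by
    rintro rfl
    rw [zero_smul, zero_sub, Matrix.det_neg] at h
    rcases mul_eq_zero.1 h with h | h
    · exact pow_ne_zero _ (neg_ne_zero.2 one_ne_zero) h
    · exact hdet h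
  have h3 : ((lam • (1 : Matrix (Fin n) (Fin n) F) - M).map (powQ hF)).det = 0 := by
    have := RingHom.map_det (powQ hF) (lam • (1 : Matrix (Fin n) (Fin n) F) - M)
    rw [h, map_zero] at this
    exact this.symm
  have h4 : (lam • (1 : Matrix (Fin n) (Fin n) F) - M).map (powQ hF) =
      (lam ^ q) • (1 : Matrix (Fin n) (Fin n) F) - M.map (powQ hF) := by
    rw [Matrix.map_sub (powQ hF) (map_sub (powQ hF))]
    congr 1
    rw [Matrix.smul_one_eq_diagonal, Matrix.smul_one_eq_diagonal,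
      Matrix.diagonal_map (map_zero (powQ hF))]
    rfl
  rw [h4] at h3
  have h5 : M.transpose * ((lam ^ q) • (1 : Matrix (Fin n) (Fin n) F) - M.map (powQ hF)) =
      (-(lam ^ q)) • ((lam ^ q)⁻¹ • (1 : Matrix (Fin n) (Fin n) F) - M.transpose) := by
    rw [Matrix.mul_sub, h1, Matrix.mul_smul, Matrix.mul_one, smul_sub, smul_smul,
      neg_mul, mul_inv_cancel₀ (pow_ne_zero q hlam)]
    simp only [neg_smul, one_smul]
    abel
  have h6 := congrArg Matrix.det h5
  rw [Matrix.det_mul, h3, mul_zero, Matrix.det_smul] at h6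
  have h7 : ((lam ^ q)⁻¹ • (1 : Matrix (Fin n) (Fin n) F) - M.transpose).det = 0 := by
    rcases mul_eq_zero.1 h6.symm with h | h
    · exact absurd h (pow_ne_zero _ (neg_ne_zero.2 (pow_ne_zero q hlam)))
    · exact h
  have h8 : (lam ^ q)⁻¹ • (1 : Matrix (Fin n) (Fin n) F) - M.transpose =
      ((lam ^ q)⁻¹ • (1 : Matrix (Fin n) (Fin n) F) - M).transpose := by
    rw [Matrix.transpose_sub, Matrix.transpose_smul, Matrix.transpose_one]
  rw [h8, Matrix.det_transpose] at h7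
  exact h7

end roots

section upper
variable {F : Type*} [Field F] [Fintype F] {q : ℕ}

/-- powers of the canonical root by iterated Frobenius depend only on the exponent modulo the
degree. -/
theorem root_pow_mod (f : F[X]) [hf : Fact (Irreducible f)] (i : ℕ) :
    (AdjoinRoot.root f) ^ (Fintype.card F ^ i) =
      (AdjoinRoot.root f) ^ (Fintype.card F ^ (i % f.natDegree)) := by
  set Q := Fintype.card F with hQ
  set n := f.natDegree with hn
  set α := AdjoinRoot.root f with hα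
  have h1 : α ^ (Q ^ n) = α := root_pow_card_pow f
  have h2 : ∀ t r : ℕ, α ^ (Q ^ (n * t + r)) = α ^ (Q ^ r) := by
    intro t r
    induction t with
    | zero => simp
    | succ t ih =>
      have : Q ^ (n * (t + 1) + r) = Q ^ n * Q ^ (n * t + r) := by
        rw [← pow_add]; congr 1; ring
      rw [this, pow_mul, h1, ih]
  conv_lhs => rw [← Nat.div_add_mod i n]
  exact h2 _ _

/-- every element of `AdjoinRoot f` is fixed by the `card`-Frobenius. -/
theorem adjoinRoot_pow_card (f : F[X]) [hf : Fact (Irreducible f)] (x : AdjoinRoot f) :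
    x ^ (Fintype.card F ^ f.natDegree) = x := by
  classical
  have hf0 : f ≠ 0 := hf.out.ne_zero
  have hfin : Module.Finite F (AdjoinRoot f) := (AdjoinRoot.powerBasis hf0).finite
  have : Finite (AdjoinRoot f) := Module.finite_of_finite F
  have : Fintype (AdjoinRoot f) := Fintype.ofFinite _
  have hcard : Fintype.card (AdjoinRoot f) = Fintype.card F ^ f.natDegree := by
    rw [Module.card_eq_pow_finrank (K := F) (V := AdjoinRoot f),
      (AdjoinRoot.powerBasis hf0).finrank, AdjoinRoot.powerBasis_dim]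
  rw [← hcard]
  exact FiniteField.pow_card _

theorem frob_inj (hF : Fintype.card F = q ^ 2) (f : F[X]) [hf : Fact (Irreducible f)]
    (x : AdjoinRoot f) (hx : x ^ q = 1) : x = 1 := by
  have h1 := adjoinRoot_pow_card f x
  have hn : 0 < f.natDegree := Irreducible.natDegree_pos hf.out
  have hq : 0 < 2 * f.natDegree := by omega
  have h2 : Fintype.card F ^ f.natDegree = q * q ^ (2 * f.natDegree - 1) := by
    rw [hF, ← pow_mul, ← pow_succ']
    congr 1
    omega
  rw [h2, pow_mul, hx, one_pow] at h1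
  exact h1.symm

/-- the root of an irreducible polynomial of degree at least two is not of norm one type. -/
theorem root_pow_ne_one (hF : Fintype.card F = q ^ 2) (f : F[X]) [hf : Fact (Irreducible f)]
    (hd : 2 ≤ f.natDegree) : (AdjoinRoot.root f) ^ (q + 1) ≠ 1 := by
  intro h
  have hq : 1 ≤ q := by
    rcases Nat.eq_zero_or_pos q with h0 | h0
    · rw [h0] at hF
      have := Fintype.card_pos (α := F)
      omega
    · exact h0
  have h1 : (AdjoinRoot.root f) ^ (Fintype.card F - 1) = 1 := by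
    rw [hF, Cfsg.Agent.S2476.sq_sub_one' q hq, mul_comm, pow_mul, h, one_pow]
  obtain ⟨c, hc⟩ := exists_of_eq f _ h1
  have h2 : f ∣ X ^ 1 - C c := by
    rw [dvd_X_pow_sub_C_iff, pow_one, hc]
  rw [pow_one] at h2
  have h3 := natDegree_le_of_dvd h2 (X_sub_C_ne_zero c)
  rw [natDegree_X_sub_C] at h3
  omega

omit [Fintype F] in
theorem irr_dvd_minpoly {n : ℕ} (M : Matrix (Fin n) (Fin n) F) (f : F[X]) (hf : Irreducible f)
    (h : f ∣ M.charpoly) : f ∣ minpoly F M := by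
  have h1 : aeval (Matrix.toLin' M) (minpoly F M) = 0 := by
    have := aeval_algHom_apply (Matrix.toLinAlgEquiv' (R := F) (n := Fin n)).toAlgHom M (minpoly F M)
    rw [minpoly.aeval, map_zero] at this
    exact this
  obtain ⟨m, hm⟩ := charpoly_dvd_pow_of_aeval_eq_zero _ _ h1
  rw [Matrix.charpoly_toLin'] at hm
  exact hf.prime.dvd_of_dvd_pow (h.trans hm)

theorem self_dual_reduce (hF : Fintype.card F = q ^ 2) (f : F[X]) [hf : Fact (Irreducible f)]
    (i : ℕ) (h : orderOf (AdjoinRoot.root f) ∣ (q ^ 2) ^ i + q) :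
    (AdjoinRoot.root f) ^ ((q ^ 2) ^ (i % f.natDegree) + q) = 1 := by
  have h1 := orderOf_dvd_iff_pow_eq_one.1 h
  have h2 := root_pow_mod f i
  rw [hF] at h2
  rw [pow_add, ← h2, ← pow_add]
  exact h1

/-- no self-dual irreducible quadratic. -/
theorem no_self_dual_quadratic (hF : Fintype.card F = q ^ 2) (f : F[X]) [hf : Fact (Irreducible f)]
    (hd : f.natDegree = 2) (i : ℕ) (h : orderOf (AdjoinRoot.root f) ∣ (q ^ 2) ^ i + q) : False := by
  have h1 := self_dual_reduce hF f i h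
  have hne := root_pow_ne_one hF f (by omega)
  have hr : i % f.natDegree < 2 := by rw [hd]; exact Nat.mod_lt _ (by norm_num)
  interval_cases hi : i % f.natDegree
  · rw [pow_zero, add_comm] at h1
    exact hne h1
  · apply hne
    apply frob_inj hF f
    rw [← pow_mul, ← h1]
    congr 1
    ring

/-- a self-dual irreducible cubic has root of order dividing `q^3 + 1`. -/
theorem self_dual_cubic (hF : Fintype.card F = q ^ 2) (f : F[X]) [hf : Fact (Irreducible f)]
    (hd : f.natDegree = 3) (i : ℕ) (h : orderOf (AdjoinRoot.root f) ∣ (q ^ 2) ^ i + q) :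
    (AdjoinRoot.root f) ^ (q ^ 3 + 1) = 1 := by
  have h1 := self_dual_reduce hF f i h
  have hne := root_pow_ne_one hF f (by omega)
  have hr : i % f.natDegree < 3 := by rw [hd]; exact Nat.mod_lt _ (by norm_num)
  interval_cases hi : i % f.natDegree
  · rw [pow_zero, add_comm] at h1
    exact absurd h1 hne
  · exfalso
    apply hne
    apply frob_inj hF f
    rw [← pow_mul, ← h1]
    congr 1
    ring
  · apply frob_inj hF f
    rw [← pow_mul, ← h1]
    congr 1
    ring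

theorem charpoly_props (M : Matrix (Fin 3) (Fin 3) F) (hdet : M.det = 1) :
    M.charpoly.Monic ∧ M.charpoly.natDegree = 3 ∧ M.charpoly.coeff 0 = -1 := by
  refine ⟨Matrix.charpoly_monic M, ?_, ?_⟩
  · rw [Matrix.charpoly_natDegree_eq_dim, Fintype.card_fin]
  · have h1 := Matrix.det_eq_sign_charpoly_coeff M
    rw [hdet, Fintype.card_fin] at h1
    have h2 : ((-1 : F)) ^ 3 = -1 := by ring
    rw [h2, neg_one_mul] at h1
    rw [← neg_eq_iff_eq_neg, ← h1]

theorem upper_irred (hF : Fintype.card F = q ^ 2) (M : Matrix (Fin 3) (Fin 3) F)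
    (hM : ∀ u v, Cfsg.hermForm 3 F q (M.mulVec u) (M.mulVec v) = Cfsg.hermForm 3 F q u v)
    (hdet : M.det = 1) (m : ℕ) (hm : 0 < m) (hMm : M ^ m = 1) (hirr : Irreducible M.charpoly) :
    ∃ c : F, M.charpoly ∣ X ^ ((q ^ 2 - q + 1) / Nat.gcd 3 (q + 1)) - C c := by
  obtain ⟨hχm, hχd, hχ0⟩ := charpoly_props M hdet
  have hq2 := two_le_q hF
  set χ := M.charpoly with hχ
  have := Fact.mk hirr
  have hdvd : χ ∣ minpoly F M := irr_dvd_minpoly M χ hirr dvd_rfl
  obtain ⟨g', hg'irr, hg'm, hg'd, -, hself⟩ :=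
    UStar.exists_ustar hF M hM m hm hMm χ hirr hχm hdvd
  have hg'χ : g' = χ := eq_of_monic_of_associated hg'm hχm
    (hg'irr.associated_of_dvd hirr (hg'd.trans (Matrix.minpoly_dvd_charpoly M)))
  obtain ⟨i, hi⟩ := hself hg'χ
  set α := AdjoinRoot.root χ with hα
  have h3 : α ^ (q ^ 3 + 1) = 1 := self_dual_cubic hF χ hχd i hi
  have hN := root_pow_sum χ hχm
  rw [hχd, hχ0, Finset.sum_range_succ, Finset.sum_range_succ, Finset.sum_range_one, hF] at hN
  have hN' : α ^ (q ^ 4 + q ^ 2 + 1) = 1 := by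
    have h1 : (q ^ 2) ^ 0 + (q ^ 2) ^ 1 + (q ^ 2) ^ 2 = q ^ 4 + q ^ 2 + 1 := by ring
    rw [h1] at hN
    rw [hN]
    norm_num
  set R := q ^ 2 - q + 1 with hR
  have hαR : α ^ R = 1 := by
    have e : q ^ 4 + q ^ 2 + 1 = (q ^ 3 + 1) * q + R := by
      rw [← R_mul_N q (by omega), ← R_mul_add q (by omega)]
      ring
    rw [e, pow_add, pow_mul, h3, one_pow, one_mul] at hN'
    exact hN'
  set d := Nat.gcd 3 (q + 1) with hdd
  have hd0 : 0 < d := Nat.gcd_pos_of_pos_left _ (by norm_num)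
  obtain ⟨k, hk⟩ := d_dvd_R q hq2
  obtain ⟨t, ht⟩ := d_dvd_add q
  rw [← hdd] at hk ht
  rw [← hR] at hk
  have hk' : R / d = k := by rw [hk, Nat.mul_div_cancel_left _ hd0]
  rw [hk']
  have h1 : (α ^ k) ^ (Fintype.card F - 1) = 1 := by
    rw [hF, Cfsg.Agent.S2476.sq_sub_one' q (by omega), ht, ← pow_mul]
    have : k * ((q - 1) * (d * t)) = R * ((q - 1) * t) := by rw [hk]; ring
    rw [this, pow_mul, hαR, one_pow]
  obtain ⟨c, hc⟩ := exists_of_eq χ (α ^ k) h1
  exact ⟨c, (dvd_X_pow_sub_C_iff χ k c).2 hc.symm⟩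

theorem no_quad (hF : Fintype.card F = q ^ 2) (M : Matrix (Fin 3) (Fin 3) F)
    (hM : ∀ u v, Cfsg.hermForm 3 F q (M.mulVec u) (M.mulVec v) = Cfsg.hermForm 3 F q u v)
    (hdet : M.det = 1) (m : ℕ) (hm : 0 < m) (hMm : M ^ m = 1) (a : F) (h : F[X]) (hhm : h.Monic)
    (hhd : h.natDegree = 2) (hirr : Irreducible h) (hχ : M.charpoly = (X - C a) * h) : False := by
  obtain ⟨hχm, hχd, hχ0⟩ := charpoly_props M hdet
  have := Fact.mk hirr
  have hdvd : h ∣ minpoly F M := irr_dvd_minpoly M h hirr (by rw [hχ]; exact dvd_mul_left _ _)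
  obtain ⟨g', hg'irr, hg'm, hg'd, hiff, hself⟩ :=
    UStar.exists_ustar hF M hM m hm hMm h hirr hhm hdvd
  have hg'χ : g' ∣ (X - C a) * h := by
    rw [← hχ]; exact hg'd.trans (Matrix.minpoly_dvd_charpoly M)
  rcases hg'irr.prime.dvd_or_dvd hg'χ with h1 | h1
  · have hg'a : g' = X - C a := eq_of_monic_of_associated hg'm (monic_X_sub_C a)
      (hg'irr.associated_of_dvd (irreducible_X_sub_C a) h1)
    have ha0 : a ≠ 0 := by
      rintro rfl
      rw [hχ, mul_coeff_zero] at hχ0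
      simp at hχ0
    have h2 : g' ∣ X ^ (Fintype.card F - 1) - C 1 := by
      rw [hg'a, dvd_iff_isRoot]
      simp [FiniteField.pow_card_sub_one_eq_one a ha0]
    have h3 := (hiff _).1 h2
    rw [dvd_X_pow_sub_C_iff, map_one] at h3
    obtain ⟨c, hc⟩ := exists_of_eq h _ h3
    have h4 : h ∣ X ^ 1 - C c := by
      rw [dvd_X_pow_sub_C_iff, pow_one, hc]
    rw [pow_one] at h4
    have h5 := natDegree_le_of_dvd h4 (X_sub_C_ne_zero c)
    rw [natDegree_X_sub_C] at h5
    omega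
  · have hg'h : g' = h := eq_of_monic_of_associated hg'm hhm (hg'irr.associated_of_dvd hirr h1)
    obtain ⟨i, hi⟩ := hself hg'h
    exact no_self_dual_quadratic hF h hhd i hi

theorem pow_q_sq (hF : Fintype.card F = q ^ 2) (x : F) : (x ^ q) ^ q = x :=
  pow_q_pow_q hF x

theorem pow_sq_sub_one (hF : Fintype.card F = q ^ 2) (x : F) (hx : x ≠ 0) : x ^ (q ^ 2 - 1) = 1 := by
  rw [← hF]; exact FiniteField.pow_card_sub_one_eq_one x hx

theorem tau_fixed_of_eq (hF : Fintype.card F = q ^ 2) (x y : F) (hx : x ≠ 0) (hy : y ^ (q + 1) = 1)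
    (h : (x ^ q)⁻¹ = y) : x ^ (q + 1) = 1 := by
  have h1 : y ^ q = x⁻¹ := by rw [← h, inv_pow, pow_q_sq hF]
  rw [pow_succ, h1, ← h, ← mul_inv, inv_eq_one, mul_comm, ← pow_succ] at hy
  exact hy

theorem coprime_lin (x y : F) (h : x ≠ y) : IsCoprime (X - C x) (X - C y) :=
  isCoprime_X_sub_C_of_isUnit_sub (sub_ne_zero.2 h).isUnit

theorem upper_distinct' (a b c : F) (ha : a ^ (q + 1) = 1) (hb : b ^ (q + 1) = 1)
    (hc : c ^ (q + 1) = 1) (hab : a ≠ b) (hac : a ≠ c) (hbc : b ≠ c) :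
    (X - C a) * ((X - C b) * (X - C c)) ∣ X ^ (q + 1) - C 1 := by
  have h1 : ∀ x : F, x ^ (q + 1) = 1 → (X - C x) ∣ X ^ (q + 1) - C 1 := by
    intro x hx
    rw [dvd_iff_isRoot]
    simp [hx]
  exact (IsCoprime.mul_right (coprime_lin a b hab) (coprime_lin a c hac)).mul_dvd (h1 a ha)
    ((coprime_lin b c hbc).mul_dvd (h1 b hb) (h1 c hc))

theorem double_dvd (p : ℕ) [hp : Fact p.Prime] [CharP F p] (a c : F) (hac : a ≠ c)
    (h : a ^ 2 * c = 1) (t : ℕ) (h3t : a ^ (3 * t) = 1) :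
    (X - C a) ^ 2 * (X - C c) ∣ X ^ (p * t) - C (a ^ (p * t)) := by
  have ha0 : a ≠ 0 := by
    rintro rfl
    simp at h
  have h1 : (X - C a) ^ 2 ∣ X ^ (p * t) - C (a ^ (p * t)) := by
    rw [← Cfsg.Agent.S2476.pow_char_sub]
    exact (pow_dvd_pow _ hp.out.two_le).trans
      (pow_dvd_pow_of_dvd (Cfsg.Agent.S2476.X_sub_C_dvd_X_pow_sub_C a t) p)
  have h2 : (X - C c) ∣ X ^ (p * t) - C (a ^ (p * t)) := by
    apply Cfsg.Agent.S2476.X_sub_C_dvd_of_pow_eq
    have h4 : (a ^ 2) ^ (p * t) ≠ 0 := pow_ne_zero _ (pow_ne_zero _ ha0)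
    apply mul_left_cancel₀ h4
    rw [← mul_pow, h, one_pow]
    have : (a ^ 2) ^ (p * t) * a ^ (p * t) = (a ^ (3 * t)) ^ p := by ring
    rw [this, h3t, one_pow]
  exact ((coprime_lin a c hac).pow_left).mul_dvd h1 h2

theorem upper_swap (hF : Fintype.card F = q ^ 2) (x : F) (hx0 : x ≠ 0) (hx : x ^ (q + 1) ≠ 1) :
    (X - C x) * ((X - C (x ^ q)⁻¹) * (X - C (x ^ q * x⁻¹))) ∣
      X ^ ((q ^ 2 - 1) / Nat.gcd 3 (q + 1)) - C (x ^ ((q ^ 2 - 1) / Nat.gcd 3 (q + 1))) := by
  have hq2 := two_le_q hF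
  set d := Nat.gcd 3 (q + 1) with hdd
  have hd0 : 0 < d := Nat.gcd_pos_of_pos_left _ (by norm_num)
  have hxq0 : x ^ q ≠ 0 := pow_ne_zero _ hx0
  -- the cube argument
  have hcube : x ^ q = x ^ 2 → False := by
    intro h
    have h1 : x ^ 4 = x := by
      have : (x ^ q) ^ q = x ^ 4 := by
        rw [h, ← pow_mul, mul_comm, pow_mul, h, ← pow_mul]
      rw [← this, pow_q_sq hF]
    have h2 : x ^ 3 = 1 := by
      have h3 : x ^ 3 * x = 1 * x := by rw [← pow_succ, one_mul]; exact h1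
      exact mul_right_cancel₀ hx0 h3
    apply hx
    rw [pow_succ', h, ← pow_succ', h2]
  have hxy : x ≠ (x ^ q)⁻¹ := by
    intro h
    apply hx
    have h1 : x * x ^ q = (x ^ q)⁻¹ * x ^ q := by rw [← h]
    rw [inv_mul_cancel₀ hxq0] at h1
    rw [pow_succ', h1]
  have hxz : x ≠ x ^ q * x⁻¹ := by
    intro h
    apply hcube
    have h1 : x * x = x ^ q * x⁻¹ * x := by rw [← h]
    rw [mul_assoc, inv_mul_cancel₀ hx0, mul_one] at h1
    rw [pow_two, h1]
  have hyz : (x ^ q)⁻¹ ≠ x ^ q * x⁻¹ := by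
    intro h
    apply hcube
    have h1 : x = (x ^ q) ^ 2 := by
      calc x = (x ^ q)⁻¹ * (x ^ q * x) := by rw [← mul_assoc, inv_mul_cancel₀ hxq0, one_mul]
        _ = x ^ q * x⁻¹ * (x ^ q * x) := by rw [h]
        _ = (x ^ q) ^ 2 := by field_simp
    have h3 : x ^ q = ((x ^ q) ^ 2) ^ q := congrArg (· ^ q) h1
    rw [← pow_mul, mul_comm, pow_mul, pow_q_sq hF] at h3
    exact h3
  obtain ⟨t, ht⟩ := d_dvd_add q
  obtain ⟨s, hs⟩ := d_dvd_sub_two q hq2
  rw [← hdd] at ht hs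
  have hsq : q ^ 2 - 1 = d * ((q - 1) * t) := by
    rw [Cfsg.Agent.S2476.sq_sub_one' q (by omega), ht]; ring
  have hk' : (q ^ 2 - 1) / d = (q - 1) * t := by rw [hsq, Nat.mul_div_cancel_left _ hd0]
  rw [hk']
  set k := (q - 1) * t with hk
  have hx1 := pow_sq_sub_one hF x hx0
  have h1 : x ^ k * (x ^ q) ^ k = 1 := by
    rw [← pow_mul, ← pow_add]
    have : k + q * k = (q ^ 2 - 1) * t := by
      rw [Cfsg.Agent.S2476.sq_sub_one' q (by omega), hk]; ring
    rw [this, pow_mul, hx1, one_pow]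
  have hy : ((x ^ q)⁻¹) ^ k = x ^ k := by
    rw [inv_pow]
    exact inv_eq_of_mul_eq_one_left h1
  have h2 : (x ^ q) ^ k = x ^ k * x ^ k := by
    rw [← pow_mul, ← pow_add]
    have : q * k = (q ^ 2 - 1) * s + (k + k) := by
      have hq' : q = (q - 2) + 2 := by omega
      conv_lhs => rw [hq', hs]
      rw [hsq]; ring
    rw [this, pow_add, pow_mul, hx1, one_pow, one_mul]
  have hz : (x ^ q * x⁻¹) ^ k = x ^ k := by
    rw [mul_pow, h2, inv_pow, mul_assoc, mul_inv_cancel₀ (pow_ne_zero _ hx0), mul_one]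
  exact (IsCoprime.mul_right (coprime_lin _ _ hxy) (coprime_lin _ _ hxz)).mul_dvd
    (Cfsg.Agent.S2476.X_sub_C_dvd_X_pow_sub_C x k)
    ((coprime_lin _ _ hyz).mul_dvd (Cfsg.Agent.S2476.X_sub_C_dvd_of_pow_eq _ _ k hy)
      (Cfsg.Agent.S2476.X_sub_C_dvd_of_pow_eq _ _ k hz))

omit [Fintype F] in
theorem isRoot_prod_iff (a b c x : F) :
    ((X - C a) * ((X - C b) * (X - C c))).IsRoot x ↔ x = a ∨ x = b ∨ x = c := by
  rw [root_mul, root_mul, root_X_sub_C, root_X_sub_C, root_X_sub_C]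
  constructor
  · rintro (h | h | h)
    · exact Or.inl h.symm
    · exact Or.inr (Or.inl h.symm)
    · exact Or.inr (Or.inr h.symm)
  · rintro (h | h | h)
    · exact Or.inl h.symm
    · exact Or.inr (Or.inl h.symm)
    · exact Or.inr (Or.inr h.symm)

theorem upper_split (hF : Fintype.card F = q ^ 2) (p : ℕ) [hp : Fact p.Prime] [CharP F p]
    (hp2 : p ≠ 2) (M : Matrix (Fin 3) (Fin 3) F)
    (hM : ∀ u v, Cfsg.hermForm 3 F q (M.mulVec u) (M.mulVec v) = Cfsg.hermForm 3 F q u v)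
    (hdet : M.det = 1) (a b c : F) (hχ : M.charpoly = (X - C a) * ((X - C b) * (X - C c))) :
    ∃ (k : ℕ) (c' : F), M.charpoly ∣ X ^ k - C c' ∧
      (k ∣ q + 1 ∨ k ∣ p * (q + 1) / Nat.gcd 3 (q + 1) ∨ k ∣ (q ^ 2 - 1) / Nat.gcd 3 (q + 1)) := by
  obtain ⟨hχm, hχd, hχ0⟩ := charpoly_props M hdet
  have hq2 := two_le_q hF
  have hmul : p * (q + 1) / Nat.gcd 3 (q + 1) = p * ((q + 1) / Nat.gcd 3 (q + 1)) :=
    Nat.mul_div_assoc _ (d_dvd_add _)
  have hd0 : 0 < Nat.gcd 3 (q + 1) := Nat.gcd_pos_of_pos_left _ (by norm_num)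
  have hdq := d_dvd_add q
  have hd3 := d_dvd_three q
  set d := Nat.gcd 3 (q + 1) with hdd
  have hcl : ∀ x : F, (x = a ∨ x = b ∨ x = c) →
      ((x ^ q)⁻¹ = a ∨ (x ^ q)⁻¹ = b ∨ (x ^ q)⁻¹ = c) := by
    intro x hx
    rw [← isRoot_prod_iff, ← hχ] at hx ⊢
    exact isRoot_tau hF M hM x hx
  rw [hχ] at hχ0 ⊢
  rw [mul_coeff_zero, mul_coeff_zero, Cfsg.Agent.S2476.coeff_zero_X_sub_C,
    Cfsg.Agent.S2476.coeff_zero_X_sub_C, Cfsg.Agent.S2476.coeff_zero_X_sub_C] at hχ0
  have habc : a * b * c = 1 := by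
    have : -a * (-b * -c) = -(a * b * c) := by ring
    rw [this, neg_inj] at hχ0
    exact hχ0
  have ha0 : a ≠ 0 := by rintro rfl; simp at habc
  have hb0 : b ≠ 0 := by rintro rfl; simp at habc
  have hc0 : c ≠ 0 := by rintro rfl; simp at habc
  -- the third root from the first two
  have third : ∀ x y z : F, x ≠ 0 → x * y * z = 1 → y = (x ^ q)⁻¹ → z = x ^ q * x⁻¹ := by
    intro x y z hx0 hxyz hy
    have hxq0 : x ^ q ≠ 0 := pow_ne_zero _ hx0
    rw [hy] at hxyz
    have : z = (x * (x ^ q)⁻¹)⁻¹ := eq_inv_of_mul_eq_one_right hxyz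
    rw [this, mul_inv, inv_inv, mul_comm]
  by_cases ha : a ^ (q + 1) = 1
  · by_cases hb : b ^ (q + 1) = 1
    · by_cases hc : c ^ (q + 1) = 1
      · -- all roots of norm one
        obtain ⟨t, ht⟩ := hdq
        obtain ⟨e, he⟩ := hd3
        have ht' : (q + 1) / d = t := by
          rw [ht, Nat.mul_div_cancel_left _ hd0]
        have h3t : ∀ x : F, x ^ (q + 1) = 1 → x ^ (3 * t) = 1 := by
          intro x hx
          have : 3 * t = (q + 1) * e := by rw [he, ht]; ring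
          rw [this, pow_mul, hx, one_pow]
        by_cases hab : a = b
        · subst hab
          by_cases hac : a = c
          · subst hac
            have e1 : (X - C a) * ((X - C a) * (X - C a)) = (X - C a) ^ 3 := by ring
            rw [e1]
            refine ⟨p, _, Cfsg.Agent.S2476.upper_triple p a hp2, Or.inr (Or.inl ?_)⟩
            rw [hmul]
            exact dvd_mul_right _ _
          · have e1 : (X - C a) * ((X - C a) * (X - C c)) = (X - C a) ^ 2 * (X - C c) := by ring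
            rw [e1]
            refine ⟨_, _, double_dvd p a c hac (by rw [← habc]; ring) t (h3t a ha),
              Or.inr (Or.inl ?_)⟩
            rw [hmul, ht']
        · by_cases hac : a = c
          · subst hac
            have e1 : (X - C a) * ((X - C b) * (X - C a)) = (X - C a) ^ 2 * (X - C b) := by ring
            rw [e1]
            refine ⟨_, _, double_dvd p a b hab (by rw [← habc]; ring) t (h3t a ha),
              Or.inr (Or.inl ?_)⟩
            rw [hmul, ht']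
          · by_cases hbc : b = c
            · subst hbc
              have e1 : (X - C a) * ((X - C b) * (X - C b)) = (X - C b) ^ 2 * (X - C a) := by ring
              rw [e1]
              refine ⟨_, _, double_dvd p b a (Ne.symm hab) (by rw [← habc]; ring) t (h3t b hb),
                Or.inr (Or.inl ?_)⟩
              rw [hmul, ht']
            · exact ⟨_, _, upper_distinct' a b c ha hb hc hab hac hbc, Or.inl dvd_rfl⟩
      · exfalso
        rcases hcl c (Or.inr (Or.inr rfl)) with h | h | h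
        · exact hc (tau_fixed_of_eq hF c a hc0 ha h)
        · exact hc (tau_fixed_of_eq hF c b hc0 hb h)
        · apply hc
          have h1 : c * c ^ q = (c ^ q)⁻¹ * c ^ q := by rw [h]
          rw [inv_mul_cancel₀ (pow_ne_zero _ hc0)] at h1
          rw [pow_succ', h1]
    · -- b is moved
      rcases hcl b (Or.inr (Or.inl rfl)) with h | h | h
      · exact absurd (tau_fixed_of_eq hF b a hb0 ha h) hb
      · exfalso
        apply hb
        have h1 : b * b ^ q = (b ^ q)⁻¹ * b ^ q := by rw [h]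
        rw [inv_mul_cancel₀ (pow_ne_zero _ hb0)] at h1
        rw [pow_succ', h1]
      · have hz := third b c a hb0 (by rw [← habc]; ring) h.symm
        have e1 : (X - C a) * ((X - C b) * (X - C c)) =
            (X - C b) * ((X - C (b ^ q)⁻¹) * (X - C (b ^ q * b⁻¹))) := by
          rw [h, ← hz]; ring
        rw [e1]
        exact ⟨_, _, upper_swap hF b hb0 hb, Or.inr (Or.inr dvd_rfl)⟩
  · -- a is moved
    rcases hcl a (Or.inl rfl) with h | h | h
    · exfalso
      apply ha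
      have h1 : a * a ^ q = (a ^ q)⁻¹ * a ^ q := by rw [h]
      rw [inv_mul_cancel₀ (pow_ne_zero _ ha0)] at h1
      rw [pow_succ', h1]
    · have hz := third a b c ha0 habc h.symm
      have e1 : (X - C a) * ((X - C b) * (X - C c)) =
          (X - C a) * ((X - C (a ^ q)⁻¹) * (X - C (a ^ q * a⁻¹))) := by
        rw [h, ← hz]
      rw [e1]
      exact ⟨_, _, upper_swap hF a ha0 ha, Or.inr (Or.inr dvd_rfl)⟩
    · have hz := third a c b ha0 (by rw [← habc]; ring) h.symm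
      have e1 : (X - C a) * ((X - C b) * (X - C c)) =
          (X - C a) * ((X - C (a ^ q)⁻¹) * (X - C (a ^ q * a⁻¹))) := by
        rw [h, ← hz]; ring
      rw [e1]
      exact ⟨_, _, upper_swap hF a ha0 ha, Or.inr (Or.inr dvd_rfl)⟩

theorem upper (hF : Fintype.card F = q ^ 2) (p : ℕ) [hp : Fact p.Prime] [CharP F p]
    (hp2 : p ≠ 2) (g : Cfsg.SU 3 F q) :
    ∃ (k : ℕ) (c : F), mat g ^ k = c • 1 ∧
      (k ∣ q + 1 ∨ k ∣ p * (q + 1) / Nat.gcd 3 (q + 1) ∨ k ∣ (q ^ 2 - 1) / Nat.gcd 3 (q + 1) ∨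
        k ∣ (q ^ 2 - q + 1) / Nat.gcd 3 (q + 1)) := by
  classical
  set M := mat g with hMdef
  have hM : ∀ u v, Cfsg.hermForm 3 F q (M.mulVec u) (M.mulVec v) = Cfsg.hermForm 3 F q u v :=
    SU_preserves g
  have hdet : M.det = 1 := (g : Matrix.SpecialLinearGroup (Fin 3) F).2
  obtain ⟨hχm, hχd, hχ0⟩ := charpoly_props M hdet
  have hfin : Finite (Cfsg.SU 3 F q) := inferInstance
  have hm : 0 < orderOf g := orderOf_pos g
  have hMm : M ^ orderOf g = 1 := by
    rw [hMdef, ← mat_pow, pow_orderOf_eq_one, mat_one]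
  rcases cubic_cases M.charpoly hχm hχd with hirr | ⟨a, h, hhm, hhd, hirr, hχ⟩ | ⟨a, b, c, hχ⟩
  · obtain ⟨c, hc⟩ := upper_irred hF M hM hdet _ hm hMm hirr
    exact ⟨_, c, pow_eq_smul_of_charpoly_dvd M _ c hc, Or.inr (Or.inr (Or.inr dvd_rfl))⟩
  · exact (no_quad hF M hM hdet _ hm hMm a h hhm hhd hirr hχ).elim
  · obtain ⟨k, c', hdvd, hk⟩ := upper_split hF p hp2 M hM hdet a b c hχ
    refine ⟨k, c', pow_eq_smul_of_charpoly_dvd M k c' hdvd, ?_⟩
    rcases hk with hk | hk | hk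
    · exact Or.inl hk
    · exact Or.inr (Or.inl hk)
    · exact Or.inr (Or.inr (Or.inl hk))

end upper

section exist
variable {F : Type*} [Field F] [Fintype F] {q : ℕ}

open Matrix

theorem herm_eq_dotProduct (hF : Fintype.card F = q ^ 2) {n : ℕ} (u v : Fin n → F) :
    Cfsg.hermForm n F q u v = u ⬝ᵥ (fun i => powQ hF (v i)) := rfl

theorem preserves_of_transpose_mul_map (hF : Fintype.card F = q ^ 2) {n : ℕ}
    (M : Matrix (Fin n) (Fin n) F) (h : M.transpose * M.map (powQ hF) = 1) (u v : Fin n → F) :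
    Cfsg.hermForm n F q (M *ᵥ u) (M *ᵥ v) = Cfsg.hermForm n F q u v := by
  rw [herm_eq_dotProduct hF, herm_eq_dotProduct hF]
  have h1 : (fun i => powQ hF ((M *ᵥ v) i)) = M.map (powQ hF) *ᵥ (fun i => powQ hF (v i)) := by
    ext i
    exact RingHom.map_mulVec (powQ hF) M v i
  rw [h1, ← Matrix.vecMul_transpose, ← Matrix.dotProduct_mulVec, Matrix.mulVec_mulVec, h,
    Matrix.one_mulVec]

open Cfsg.Agent.Lib.Helper5.PSLCoset Cfsg.Agent.Lib.Helper2.HermDecomp in
theorem exists_su_of_gram (hF : Fintype.card F = q ^ 2) (A M : Matrix (Fin 3) (Fin 3) F)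
    (hA : ∀ k l, (A k l) ^ q = A l k) (hAu : IsUnit A)
    (hM : M.transpose * A * M.map (powQ hF) = A) (hdet : M.det = 1) :
    ∃ g : Cfsg.SU 3 F q, ∀ (j : ℕ) (c : F), mat g ^ j = c • 1 ↔ M ^ j = c • 1 := by
  classical
  obtain ⟨σ, hσ, hσq⟩ := exists_sigma hF
  obtain ⟨E, hE0⟩ := exists_congr_one (σ := σ) hσ (A := A)
    (by intro k l; rw [hσq]; exact hA k l) hAu
  set τ := powQ hF with hτ
  have hEmap : E.map σ = E.map τ := by
    ext i j
    simp only [Matrix.map_apply]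
    rw [hσq]
    rfl
  rw [hEmap] at hE0
  set E' := (E.map τ).transpose with hE'
  set B := A * E' with hB
  set B' := E * A with hB'
  have hEB : E * B = 1 := by rw [hB, ← Matrix.mul_assoc]; exact hE0
  have hBE : B * E = 1 := mul_eq_one_comm.1 hEB
  have hB'E' : B' * E' = 1 := hE0
  have hE'B' : E' * B' = 1 := mul_eq_one_comm.1 hB'E'
  have hBB' : B * B' = A := by
    rw [hB, Matrix.mul_assoc, hE'B', Matrix.mul_one]
  have hBτ : (B.map τ).transpose = B' := by
    have h1 : (B.map τ).transpose * E' = 1 := by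
      rw [hE', ← Matrix.transpose_mul, ← Matrix.map_mul, hEB, Matrix.map_one _ (map_zero τ) (map_one τ),
        Matrix.transpose_one]
    calc (B.map τ).transpose = (B.map τ).transpose * (E' * B') := by rw [hE'B', Matrix.mul_one]
      _ = B' := by rw [← Matrix.mul_assoc, h1, Matrix.one_mul]
  set N := B.transpose * M * E.transpose with hN
  have hNt : N.transpose = E * M.transpose * B := by
    rw [hN, Matrix.transpose_mul, Matrix.transpose_mul, Matrix.transpose_transpose,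
      Matrix.transpose_transpose, Matrix.mul_assoc]
  have hNτ : N.map τ = B' * M.map τ * E' := by
    rw [hN, Matrix.map_mul, Matrix.map_mul, Matrix.transpose_map, Matrix.transpose_map, hBτ]
  have hNN : N.transpose * N.map τ = 1 := by
    rw [hNt, hNτ]
    calc E * M.transpose * B * (B' * M.map τ * E')
        = E * (M.transpose * (B * B') * M.map τ) * E' := by simp only [Matrix.mul_assoc]
      _ = 1 := by rw [hBB', hM]; exact hE0
  have hdetN : N.det = 1 := by
    rw [hN, Matrix.det_mul, Matrix.det_mul, Matrix.det_transpose, Matrix.det_transpose, hdet,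
      mul_one, ← Matrix.det_mul, hBE, Matrix.det_one]
  refine ⟨mkSU N hdetN (preserves_of_transpose_mul_map hF N hNN), ?_⟩
  intro j c
  have hVU : E.transpose * B.transpose = 1 := by
    rw [← Matrix.transpose_mul, hBE, Matrix.transpose_one]
  have hUV : B.transpose * E.transpose = 1 := by
    rw [← Matrix.transpose_mul, hEB, Matrix.transpose_one]
  show N ^ j = c • 1 ↔ M ^ j = c • 1
  rw [hN, conj_pow _ _ _ hVU]
  constructor
  · intro h
    calc M ^ j = E.transpose * (B.transpose * M ^ j * E.transpose) * B.transpose := by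
          simp only [Matrix.mul_assoc]
          rw [← Matrix.mul_assoc E.transpose B.transpose, hVU, Matrix.one_mul, Matrix.mul_one]
      _ = c • 1 := by rw [h, Matrix.mul_smul, Matrix.smul_mul, Matrix.mul_one, hVU]
  · intro h
    rw [h, Matrix.mul_smul, Matrix.smul_mul, Matrix.mul_one, hUV]

theorem exists_psu_of_iff (hF : Fintype.card F = q ^ 2) (g : Cfsg.SU 3 F q) (m : ℕ) (hm : 0 < m)
    (h : ∀ j : ℕ, (∃ c : F, mat g ^ j = c • 1) ↔ m ∣ j) :
    ∃ x : Cfsg.PSU 3 F q, orderOf x = m := by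
  refine ⟨QuotientGroup.mk g, ?_⟩
  rw [orderOf_eq_iff hm]
  constructor
  · rw [mk_pow_eq_one_iff hF, h]
  · intro j hj hj0 hcon
    rw [mk_pow_eq_one_iff hF, h] at hcon
    exact absurd (Nat.le_of_dvd hj0 hcon) (by omega)

theorem add_one_dvd (q : ℕ) (hq : 1 ≤ q) : q + 1 ∣ q ^ 2 - 1 := by
  rw [Cfsg.Agent.S2476.sq_sub_one' q hq]
  exact dvd_mul_left _ _

theorem exists_E1 (hF : Fintype.card F = q ^ 2) :
    ∃ x : Cfsg.PSU 3 F q, orderOf x = q + 1 := by
  classical
  have hq2 := two_le_q hF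
  obtain ⟨ζ, hζ0, hζ⟩ := Cfsg.Agent.S2470.exists_orderOf_eq (F := F) (q + 1) (by
    rw [hF]; exact add_one_dvd q (by omega))
  have hζ1 : ζ ^ (q + 1) = 1 := by rw [← hζ]; exact pow_orderOf_eq_one ζ
  have hn : ∀ x : F, x ^ (q + 1) = 1 → nrm q x = 1 := by
    intro x hx
    unfold nrm
    rw [← pow_succ']; exact hx
  have hd : ∀ i, nrm q ((![ζ, ζ⁻¹, 1] : Fin 3 → F) i) = 1 := by
    intro i
    fin_cases i
    · exact hn _ hζ1
    · apply hn
      show (ζ⁻¹) ^ (q + 1) = 1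
      rw [inv_pow, hζ1, inv_one]
    · apply hn
      show (1 : F) ^ (q + 1) = 1
      exact one_pow _
  have hprod : ∏ i, (![ζ, ζ⁻¹, 1] : Fin 3 → F) i = 1 := by
    rw [Fin.prod_univ_three]
    simp [hζ0]
  refine exists_psu_of_iff hF (diagSU ![ζ, ζ⁻¹, 1] hd hprod) (q + 1) (by omega) ?_
  · intro j
    have hmat : mat (diagSU (q := q) ![ζ, ζ⁻¹, 1] hd hprod) =
        Matrix.diagonal ![ζ, ζ⁻¹, 1] := rfl
    rw [hmat, Matrix.diagonal_pow, ← hζ, orderOf_dvd_iff_pow_eq_one]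
    constructor
    · rintro ⟨c, hc⟩
      rw [Matrix.smul_one_eq_diagonal] at hc
      have h1 := Matrix.diagonal_injective hc
      have h10 := congrFun h1 0
      have h12 := congrFun h1 2
      simp at h10 h12
      rw [h10, ← h12]
    · intro h1
      refine ⟨1, ?_⟩
      rw [one_smul, ← Matrix.diagonal_one]
      congr 1
      ext i
      fin_cases i <;> simp [h1]

/-- Gram matrix of a hyperbolic plane plus a unit vector. -/
def gramA (F : Type*) [Field F] : Matrix (Fin 3) (Fin 3) F := !![0, 1, 0; 1, 0, 0; 0, 0, 1]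

omit [Fintype F] in
theorem gramA_herm (hq : q ≠ 0) (k l : Fin 3) : (gramA F k l) ^ q = gramA F l k := by
  fin_cases k <;> fin_cases l <;> simp [gramA, hq]

omit [Fintype F] in
theorem gramA_unit : IsUnit (gramA F) := by
  rw [Matrix.isUnit_iff_isUnit_det, gramA, Matrix.det_fin_three]
  simp

theorem powQ_apply (hF : Fintype.card F = q ^ 2) (x : F) : powQ hF x = x ^ q := rfl

theorem diag_gram (hF : Fintype.card F = q ^ 2) (d : Fin 3 → F) (h01 : d 0 * (d 1) ^ q = 1)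
    (h10 : d 1 * (d 0) ^ q = 1) (h22 : d 2 * (d 2) ^ q = 1) :
    (Matrix.diagonal d).transpose * gramA F * (Matrix.diagonal d).map (powQ hF) = gramA F := by
  rw [Matrix.diagonal_transpose, Matrix.diagonal_map (map_zero _)]
  ext i j
  fin_cases i <;> fin_cases j <;>
    simp [gramA, Matrix.mul_apply, Fin.sum_univ_three, Matrix.diagonal_apply, powQ_apply, h01, h10, h22]

theorem exists_E3 (hF : Fintype.card F = q ^ 2) :
    ∃ x : Cfsg.PSU 3 F q, orderOf x = (q ^ 2 - 1) / Nat.gcd 3 (q + 1) := by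
  classical
  have hq2 := two_le_q hF
  have hd0 : 0 < Nat.gcd 3 (q + 1) := Nat.gcd_pos_of_pos_left _ (by norm_num)
  have hsq : 0 < q ^ 2 - 1 := by
    have : 2 ^ 2 ≤ q ^ 2 := Nat.pow_le_pow_left hq2 2
    omega
  obtain ⟨α, hα0, hα⟩ := Cfsg.Agent.S2470.exists_orderOf_eq (F := F) (q ^ 2 - 1) (by rw [hF])
  have hαq0 : α ^ q ≠ 0 := pow_ne_zero _ hα0
  have hαqq : (α ^ q) ^ q = α := pow_q_sq hF α
  set d : Fin 3 → F := ![α, (α ^ q)⁻¹, α ^ q * α⁻¹] with hd
  have h01 : d 0 * (d 1) ^ q = 1 := by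
    show α * ((α ^ q)⁻¹) ^ q = 1
    rw [inv_pow, hαqq, mul_inv_cancel₀ hα0]
  have h10 : d 1 * (d 0) ^ q = 1 := by
    show (α ^ q)⁻¹ * α ^ q = 1
    exact inv_mul_cancel₀ hαq0
  have h22 : d 2 * (d 2) ^ q = 1 := by
    show (α ^ q * α⁻¹) * (α ^ q * α⁻¹) ^ q = 1
    rw [mul_pow, hαqq, inv_pow]
    field_simp
  have hdet : (Matrix.diagonal d).det = 1 := by
    rw [Matrix.det_diagonal, Fin.prod_univ_three]
    show α * (α ^ q)⁻¹ * (α ^ q * α⁻¹) = 1
    field_simp
  obtain ⟨g, hg⟩ := exists_su_of_gram hF (gramA F) (Matrix.diagonal d) (gramA_herm (by omega))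
    gramA_unit (diag_gram hF d h01 h10 h22) hdet
  have hpos : 0 < (q ^ 2 - 1) / Nat.gcd 3 (q + 1) := by
    apply Nat.div_pos (Nat.le_of_dvd hsq _) hd0
    exact (d_dvd_add q).trans (add_one_dvd q (by omega))
  refine exists_psu_of_iff hF g _ hpos ?_
  intro j
  have key : (∃ c : F, mat g ^ j = c • 1) ↔ α ^ ((q - 2) * j) = 1 := by
    have hqj : α ^ (q * j) = α ^ ((q - 2) * j) * α ^ (2 * j) := by
      rw [← pow_add, ← add_mul]
      congr 2
      omega
    constructor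
    · rintro ⟨c, hc⟩
      rw [hg, Matrix.diagonal_pow, Matrix.smul_one_eq_diagonal] at hc
      have h1 := Matrix.diagonal_injective hc
      have e0 : α ^ j = c := congrFun h1 0
      have e2 : (α ^ q * α⁻¹) ^ j = c := congrFun h1 2
      rw [mul_pow, inv_pow, ← e0] at e2
      have h3 : (α ^ q) ^ j = α ^ j * α ^ j := by
        have h4 : (α ^ q) ^ j * (α ^ j)⁻¹ * α ^ j = α ^ j * α ^ j := by rw [e2]
        rwa [mul_assoc, inv_mul_cancel₀ (pow_ne_zero _ hα0), mul_one] at h4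
      have h2j : α ^ (2 * j) = α ^ j * α ^ j := by rw [two_mul, pow_add]
      rw [← pow_mul, hqj, ← h2j] at h3
      have h5 : α ^ ((q - 2) * j) * α ^ (2 * j) = 1 * α ^ (2 * j) := by rw [one_mul]; exact h3
      exact mul_right_cancel₀ (pow_ne_zero _ hα0) h5
    · intro h
      have h1 : α ^ (q * j) = α ^ (2 * j) := by rw [hqj, h, one_mul]
      have h3 : α ^ (3 * j) = 1 := by
        have h4 : (α ^ (q * j)) ^ q = (α ^ (2 * j)) ^ q := by rw [h1]
        have h5 : (α ^ (q * j)) ^ q = α ^ j := by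
          rw [← pow_mul, mul_comm q j, mul_assoc, pow_mul, ← pow_two, ← hF, FiniteField.pow_card]
        have h6 : (α ^ (2 * j)) ^ q = α ^ (4 * j) := by
          calc (α ^ (2 * j)) ^ q = (α ^ (q * j)) ^ 2 := by
                rw [← pow_mul, ← pow_mul]; congr 1; ring
            _ = (α ^ (2 * j)) ^ 2 := by rw [h1]
            _ = α ^ (4 * j) := by rw [← pow_mul]; congr 1; ring
        rw [h5, h6] at h4
        have h7 : α ^ (3 * j) * α ^ j = 1 * α ^ j := by
          rw [← pow_add, one_mul, show 3 * j + j = 4 * j by ring]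
          exact h4.symm
        exact mul_right_cancel₀ (pow_ne_zero _ hα0) h7
      refine ⟨α ^ j, ?_⟩
      rw [hg, Matrix.diagonal_pow, Matrix.smul_one_eq_diagonal]
      congr 1
      ext i
      fin_cases i
      · rfl
      · show ((α ^ q)⁻¹) ^ j = α ^ j
        rw [inv_pow]
        apply inv_eq_of_mul_eq_one_left
        rw [← pow_mul, h1, ← pow_add, ← h3]
        congr 1
        ring
      · show (α ^ q * α⁻¹) ^ j = α ^ j
        rw [mul_pow, ← pow_mul, h1, inv_pow]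
        have : α ^ (2 * j) = α ^ j * α ^ j := by rw [← pow_add]; congr 1; ring
        rw [this, mul_assoc, mul_inv_cancel₀ (pow_ne_zero _ hα0), mul_one]
  rw [key, ← orderOf_dvd_iff_pow_eq_one, hα, Cfsg.Agent.S2476.dvd_mul_iff_div_gcd _ _ _ hsq,
    gcd_M' q hq2]

/-- a transvection times a torus element, in the hyperbolic basis. -/
def tmat (a κ : F) : Matrix (Fin 3) (Fin 3) F := !![a, a * κ, 0; 0, a, 0; 0, 0, (a ^ 2)⁻¹]

theorem tmat_gram (hF : Fintype.card F = q ^ 2) (hq0 : q ≠ 0) (a κ : F) (ha : a * a ^ q = 1)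
    (hκ : κ ^ q = -κ) :
    (tmat a κ).transpose * gramA F * (tmat a κ).map (powQ hF) = gramA F := by
  ext i j
  fin_cases i <;> fin_cases j <;>
    simp [gramA, tmat, Matrix.mul_apply, Fin.sum_univ_three, powQ_apply, ha, hq0]
  · rw [mul_pow, hκ]
    have : a * (a ^ q * -κ) + a * κ * a ^ q = (a * a ^ q) * (-κ) + (a * a ^ q) * κ := by ring
    rw [this, ha]; ring
  · rw [← mul_inv, ← pow_mul, mul_comm 2 q, pow_mul, ← mul_pow, ha, one_pow, inv_one]

omit [Fintype F] in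
theorem tmat_det (a κ : F) (ha : a ≠ 0) : (tmat a κ).det = 1 := by
  rw [tmat, Matrix.det_fin_three]
  simp
  field_simp

omit [Fintype F] in
theorem tmat_pow (a κ : F) (j : ℕ) :
    (tmat a κ) ^ j = !![a ^ j, (j : F) * a ^ j * κ, 0; 0, a ^ j, 0; 0, 0, ((a ^ 2)⁻¹) ^ j] := by
  induction j with
  | zero =>
    ext i k
    fin_cases i <;> fin_cases k <;> simp
  | succ j ih =>
    rw [pow_succ, ih, tmat]
    ext i k
    fin_cases i <;> fin_cases k <;>
      simp [Matrix.mul_apply, Fin.sum_univ_three, pow_succ]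
    ring

omit [Fintype F] in
theorem smul_one_fin_three (c : F) :
    c • (1 : Matrix (Fin 3) (Fin 3) F) = !![c, 0, 0; 0, c, 0; 0, 0, c] := by
  ext i k
  fin_cases i <;> fin_cases k <;> simp

omit [Fintype F] in
theorem tmat_pow_eq_smul_iff (a κ : F) (j : ℕ) (c : F) :
    (tmat a κ) ^ j = c • 1 ↔ a ^ j = c ∧ (j : F) * a ^ j * κ = 0 ∧ ((a ^ 2)⁻¹) ^ j = c := by
  rw [tmat_pow, smul_one_fin_three]
  constructor
  · intro h
    exact ⟨congrFun (congrFun h 0) 0, congrFun (congrFun h 0) 1, congrFun (congrFun h 2) 2⟩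
  · rintro ⟨h1, h2, h3⟩
    rw [h2, h3, h1]

theorem exists_kappa (hF : Fintype.card F = q ^ 2) : ∃ κ : F, κ ≠ 0 ∧ κ ^ q = -κ := by
  obtain ⟨σ, hσ, hσq⟩ := Cfsg.Agent.Lib.Helper2.HermDecomp.exists_sigma hF
  have hσ1 : σ ≠ 1 := by
    intro h1
    rw [h1, orderOf_one] at hσ
    omega
  obtain ⟨μ, hμ⟩ : ∃ μ : F, σ μ ≠ μ := by
    by_contra hcon
    push Not at hcon
    exact hσ1 (RingEquiv.ext hcon)
  rw [hσq] at hμ
  refine ⟨μ - μ ^ q, sub_ne_zero.2 (Ne.symm hμ), ?_⟩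
  rw [sub_pow_q hF, pow_q_sq hF]
  ring

theorem coprime_char (hF : Fintype.card F = q ^ 2) (p : ℕ) [hp : Fact p.Prime] [CharP F p] :
    Nat.Coprime p (q + 1) := by
  rw [Nat.Prime.coprime_iff_not_dvd hp.out]
  intro h
  have h1 : p ∣ q := by
    have h2 : p ∣ Fintype.card F := by
      rw [← CharP.cast_eq_zero_iff F p]
      exact FiniteField.cast_card_eq_zero F
    rw [hF] at h2
    exact hp.out.dvd_of_dvd_pow h2
  have h3 : p ∣ 1 := (Nat.dvd_add_right h1).1 h
  exact hp.out.one_lt.ne' (Nat.dvd_one.1 h3)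

theorem exists_E2 (hF : Fintype.card F = q ^ 2) (p : ℕ) [hp : Fact p.Prime] [CharP F p] :
    ∃ x : Cfsg.PSU 3 F q, orderOf x = p * ((q + 1) / Nat.gcd 3 (q + 1)) := by
  classical
  have hq2 := two_le_q hF
  have hd0 : 0 < Nat.gcd 3 (q + 1) := Nat.gcd_pos_of_pos_left _ (by norm_num)
  obtain ⟨a, ha0, ha⟩ := Cfsg.Agent.S2470.exists_orderOf_eq (F := F) (q + 1) (by
    rw [hF]; exact add_one_dvd q (by omega))
  have ha1 : a * a ^ q = 1 := by
    rw [← pow_succ', ← ha]; exact pow_orderOf_eq_one a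
  obtain ⟨κ, hκ0, hκ⟩ := exists_kappa hF
  obtain ⟨g, hg⟩ := exists_su_of_gram hF (gramA F) (tmat a κ) (gramA_herm (by omega))
    gramA_unit (tmat_gram hF (by omega) a κ ha1 hκ) (tmat_det a κ ha0)
  have htpos : 0 < (q + 1) / Nat.gcd 3 (q + 1) :=
    Nat.div_pos (Nat.le_of_dvd (by omega) (d_dvd_add q)) hd0
  refine exists_psu_of_iff hF g _ (Nat.mul_pos hp.out.pos htpos) ?_
  intro j
  have hcop : Nat.Coprime p ((q + 1) / Nat.gcd 3 (q + 1)) :=
    Nat.Coprime.coprime_dvd_right (Nat.div_dvd_of_dvd (d_dvd_add q)) (coprime_char hF p)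
  have key : a ^ (3 * j) = 1 ↔ (q + 1) / Nat.gcd 3 (q + 1) ∣ j := by
    rw [← orderOf_dvd_iff_pow_eq_one, ha, Cfsg.Agent.S2476.dvd_mul_iff_div_gcd _ _ _ (by omega),
      Nat.gcd_comm]
  have h3j : ∀ c : F, a ^ j = c → ((a ^ 2)⁻¹) ^ j = c → a ^ (3 * j) = 1 := by
    intro c h1 h2
    have h3 : a ^ (3 * j) = a ^ j * (a ^ 2) ^ j := by ring
    rw [h3, h1, ← h2, ← mul_pow, inv_mul_cancel₀ (pow_ne_zero 2 ha0), one_pow]
  constructor
  · rintro ⟨c, hc⟩
    rw [hg, tmat_pow_eq_smul_iff] at hc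
    obtain ⟨hc1, hc2, hc3⟩ := hc
    apply hcop.mul_dvd_of_dvd_of_dvd
    · rcases mul_eq_zero.1 hc2 with h | h
      · rcases mul_eq_zero.1 h with h | h
        · exact (CharP.cast_eq_zero_iff F p j).1 h
        · exact absurd h (pow_ne_zero _ ha0)
      · exact absurd h hκ0
    · rw [← key]
      exact h3j c hc1 hc3
  · intro hj
    have hpj : p ∣ j := (dvd_mul_right _ _).trans hj
    have htj : (q + 1) / Nat.gcd 3 (q + 1) ∣ j := (dvd_mul_left _ _).trans hj
    refine ⟨a ^ j, ?_⟩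
    rw [hg, tmat_pow_eq_smul_iff]
    refine ⟨rfl, ?_, ?_⟩
    · rw [(CharP.cast_eq_zero_iff F p j).2 hpj, zero_mul, zero_mul]
    · have hy : (a ^ 2) ^ j ≠ 0 := pow_ne_zero _ (pow_ne_zero _ ha0)
      apply mul_right_cancel₀ hy
      rw [← mul_pow, inv_mul_cancel₀ (pow_ne_zero 2 ha0), one_pow]
      have : a ^ j * (a ^ 2) ^ j = a ^ (3 * j) := by ring
      rw [this, key.2 htj]

section singer
variable {K : Type*} [Field K] [Algebra F K] [Finite K]

theorem pow_cube_eq (hF : Fintype.card F = q ^ 2) (c : F) : c ^ (q ^ 3) = c ^ q := by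
  have : q ^ 3 = q ^ 2 * q := by ring
  rw [this, pow_mul, ← hF, FiniteField.pow_card]

theorem trace_pow_cube (hF : Fintype.card F = q ^ 2) (h3 : Module.finrank F K = 3)
    (z : K) : Algebra.trace F K (z ^ (q ^ 3)) = (Algebra.trace F K z) ^ q := by
  obtain ⟨p, hp⟩ := CharP.exists F
  have hpp : Fact p.Prime := ⟨CharP.char_is_prime F p⟩
  obtain ⟨a, hqa⟩ := UStar.exists_q_eq_pow hF p
  have : CharP K p := charP_of_injective_algebraMap (algebraMap F K).injective p
  apply (algebraMap F K).injective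
  have h1 : algebraMap F K ((Algebra.trace F K z) ^ q) =
      (algebraMap F K (Algebra.trace F K z)) ^ (q ^ 3) := by
    rw [← pow_cube_eq hF, map_pow]
  have hq3 : q ^ 3 = p ^ (a * 3) := by rw [hqa, ← pow_mul]
  rw [h1, FiniteField.algebraMap_trace_eq_sum_pow, FiniteField.algebraMap_trace_eq_sum_pow, h3,
    hq3, sum_pow_char_pow]
  apply Finset.sum_congr rfl
  intro i _
  rw [← pow_mul, ← pow_mul, mul_comm]

/-- the Hermitian trace form on a cubic extension. -/
noncomputable def trH (F : Type*) {K : Type*} [Field F] [Field K] [Algebra F K] (q : ℕ)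
    (x y : K) : F := Algebra.trace F K (x * y ^ (q ^ 3))

omit [Finite K] in
theorem conj_conj (hK6 : ∀ x : K, x ^ (q ^ 6) = x) (x : K) : (x ^ (q ^ 3)) ^ (q ^ 3) = x := by
  rw [← pow_mul, ← pow_add]
  exact hK6 x

open Cfsg.Agent.Lib.Helper5.PSLCoset in
theorem isHerm_trH (hF : Fintype.card F = q ^ 2) (h3 : Module.finrank F K = 3)
    (hK6 : ∀ x : K, x ^ (q ^ 6) = x) (σ : F ≃+* F) (hσq : ∀ a : F, σ a = a ^ q) :
    IsHerm σ (trH F (K := K) q) := by
  refine ⟨?_, ?_, ?_⟩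
  · intro u v w
    unfold trH
    rw [add_mul, map_add]
  · intro a v w
    unfold trH
    rw [smul_mul_assoc, map_smul, smul_eq_mul]
  · intro v w
    unfold trH
    rw [hσq, ← trace_pow_cube hF h3, mul_pow, conj_conj hK6, mul_comm]

theorem trH_nondeg (hK6 : ∀ x : K, x ^ (q ^ 6) = x) (v : K)
    (h : ∀ w : K, trH F q v w = 0) : v = 0 := by
  by_contra hv
  have : FiniteDimensional F K := inferInstance
  obtain ⟨z, hz⟩ := Algebra.trace_surjective F K (1 : F)
  have h1 := h ((v⁻¹ * z) ^ (q ^ 3))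
  unfold trH at h1
  rw [conj_conj hK6, ← mul_assoc, mul_inv_cancel₀ hv, one_mul, hz] at h1
  exact one_ne_zero h1

omit [Fintype F] [Finite K] in
theorem trH_mul (ξ : K) (hξ : ξ ^ (q ^ 3 + 1) = 1) (x y : K) :
    trH F q (ξ * x) (ξ * y) = trH F q x y := by
  unfold trH
  have : ξ * x * (ξ * y) ^ (q ^ 3) = ξ ^ (q ^ 3 + 1) * (x * y ^ (q ^ 3)) := by
    rw [mul_pow, pow_succ]; ring
  rw [this, hξ, one_mul]

end singer

theorem R_dvd (q : ℕ) (hq : 1 ≤ q) : q ^ 2 - q + 1 ∣ q ^ 6 - 1 := by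
  have h1 : q ^ 6 - 1 = (q ^ 3 + 1) * (q ^ 3 - 1) := by
    have h2 : 1 ≤ q ^ 3 := Nat.one_le_pow _ _ hq
    obtain ⟨t, ht⟩ : ∃ t, q ^ 3 = t + 1 := ⟨q ^ 3 - 1, by omega⟩
    have : q ^ 6 = (q ^ 3) ^ 2 := by ring
    rw [this, ht, Nat.add_sub_cancel]
    have : (t + 1) ^ 2 = (t + 1 + 1) * t + 1 := by ring
    omega
  rw [h1, ← R_mul_add q hq]
  exact Dvd.dvd.mul_right (dvd_mul_left _ _) _

open Cfsg.Agent.Lib.Helper5.PSLCoset Cfsg.Agent.Lib.Helper2.HermDecomp in
theorem exists_E4 (hF : Fintype.card F = q ^ 2) (p : ℕ) [hp : Fact p.Prime] [CharP F p] :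
    ∃ x : Cfsg.PSU 3 F q, orderOf x = (q ^ 2 - q + 1) / Nat.gcd 3 (q + 1) := by
  classical
  have hq2 := two_le_q hF
  have hd0 : 0 < Nat.gcd 3 (q + 1) := Nat.gcd_pos_of_pos_left _ (by norm_num)
  let K := FiniteField.Extension F p 3
  have : Fintype K := Fintype.ofFinite K
  have hfin : Module.finrank F K = 3 := FiniteField.finrank_extension F p 3
  have hKcard : Fintype.card K = q ^ 6 := by
    rw [← Nat.card_eq_fintype_card, FiniteField.natCard_extension, Nat.card_eq_fintype_card, hF,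
      ← pow_mul]
  have hK6 : ∀ x : K, x ^ (q ^ 6) = x := by
    intro x
    rw [← hKcard]
    exact FiniteField.pow_card x
  obtain ⟨σ, hσ, hσq⟩ := exists_sigma hF
  have hH := isHerm_trH (K := K) hF hfin hK6 σ hσq
  obtain ⟨b, hb⟩ := exists_onb hσ hH (trH_nondeg hK6) hfin
  set R := q ^ 2 - q + 1 with hR
  have hRpos : 0 < R := by rw [hR]; omega
  obtain ⟨ξ, hξ0, hξo⟩ := Cfsg.Agent.S2470.exists_orderOf_eq (F := K) R (by
    rw [hKcard]; exact R_dvd q (by omega))
  have hξR : ξ ^ R = 1 := by rw [← hξo]; exact pow_orderOf_eq_one ξ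
  have hξ3 : ξ ^ (q ^ 3 + 1) = 1 := by
    rw [← R_mul_add q (by omega), mul_comm, pow_mul, hξR, one_pow]
  have hξN : ξ ^ (q ^ 4 + q ^ 2 + 1) = 1 := by
    rw [← R_mul_N q (by omega), mul_comm, pow_mul, hξR, one_pow]
  set M := Algebra.leftMulMatrix b ξ with hM
  have hdet : M.det = 1 := by
    rw [hM, ← Algebra.norm_eq_matrix_det b ξ]
    apply (algebraMap F K).injective
    rw [FiniteField.algebraMap_norm_eq_pow_sum, hfin, map_one, Nat.card_eq_fintype_card, hF,
      Finset.sum_range_succ, Finset.sum_range_succ, Finset.sum_range_one]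
    have h1 : (q ^ 2) ^ 0 + (q ^ 2) ^ 1 + (q ^ 2) ^ 2 = q ^ 4 + q ^ 2 + 1 := by ring
    rw [h1, hξN]
  have hpres : ∀ u v, Cfsg.hermForm 3 F q (M *ᵥ u) (M *ᵥ v) = Cfsg.hermForm 3 F q u v := by
    intro u v
    set x := b.equivFun.symm u with hx
    set y := b.equivFun.symm v with hy
    have hu : (b.repr x : Fin 3 → F) = u := by
      have := b.equivFun.apply_symm_apply u
      rw [← hx] at this
      exact this
    have hv : (b.repr y : Fin 3 → F) = v := by
      have := b.equivFun.apply_symm_apply v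
      rw [← hy] at this
      exact this
    have h1 : M *ᵥ u = b.repr (ξ * x) := by
      rw [hM, ← hu, Algebra.leftMulMatrix_mulVec_repr]
    have h2 : M *ᵥ v = b.repr (ξ * y) := by
      rw [hM, ← hv, Algebra.leftMulMatrix_mulVec_repr]
    have h3 := form_eq_sum hH b hb (ξ * x) (ξ * y)
    have h4 := form_eq_sum hH b hb x y
    rw [trH_mul ξ hξ3, h4] at h3
    rw [h1, h2]
    unfold Cfsg.hermForm
    rw [← hu, ← hv]
    simp only [hσq] at h3
    exact h3.symm
  have hpos : 0 < R / Nat.gcd 3 (q + 1) :=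
    Nat.div_pos (Nat.le_of_dvd hRpos (d_dvd_R q hq2)) hd0
  refine exists_psu_of_iff hF (mkSU M hdet hpres) _ hpos ?_
  intro j
  show (∃ c : F, M ^ j = c • 1) ↔ _
  rw [hM, Cfsg.Agent.S2476.leftMul_pow_eq_smul_iff b ξ hξ0 j, ← pow_mul,
    ← orderOf_dvd_iff_pow_eq_one, hξo, mul_comm, hF,
    Cfsg.Agent.S2476.dvd_mul_iff_div_gcd _ _ _ hRpos, gcd_R q hq2]

end exist



/-- The set of element orders of PSU(3, q) for an odd prime power q = p^n: writing d = gcd(3, q + 1), a positive integer is the order of some element exactly when it divides one of q + 1, p(q + 1)/d, (q² − 1)/d, (q² − q + 1)/d. -/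
theorem result {F : Type*} [Field F] [Fintype F] (p : ℕ) [Fact p.Prime] [CharP F p] (hp : p ≠ 2) (q : ℕ) (hF : Fintype.card F = q ^ 2) :
    Set.range (orderOf : Cfsg.PSU 3 F q → ℕ) =
      {s : ℕ | s ∣ q + 1} ∪ {s : ℕ | s ∣ p * (q + 1) / Nat.gcd 3 (q + 1)} ∪
        {s : ℕ | s ∣ (q ^ 2 - 1) / Nat.gcd 3 (q + 1)} ∪ {s : ℕ | s ∣ (q ^ 2 - q + 1) / Nat.gcd 3 (q + 1)} := by
  classical
  have hpp : p.Prime := Fact.out
  have hq2 := two_le_q hF
  have hd0 : 0 < Nat.gcd 3 (q + 1) := Nat.gcd_pos_of_pos_left _ (by norm_num)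
  have hmul : p * (q + 1) / Nat.gcd 3 (q + 1) = p * ((q + 1) / Nat.gcd 3 (q + 1)) :=
    Nat.mul_div_assoc _ (d_dvd_add _)
  ext s
  simp only [Set.mem_range, Set.mem_union, Set.mem_setOf_eq]
  constructor
  · rintro ⟨x, rfl⟩
    obtain ⟨g, rfl⟩ := QuotientGroup.mk_surjective x
    obtain ⟨k, c, hpow, hk⟩ := upper hF p hp g
    have h1 : (QuotientGroup.mk g : Cfsg.PSU 3 F q) ^ k = 1 := (mk_pow_eq_one_iff hF g k).2 ⟨c, hpow⟩
    have h2 := orderOf_dvd_of_pow_eq_one h1
    rcases hk with hk | hk | hk | hk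
    · exact Or.inl (Or.inl (Or.inl (h2.trans hk)))
    · exact Or.inl (Or.inl (Or.inr (h2.trans hk)))
    · exact Or.inl (Or.inr (h2.trans hk))
    · exact Or.inr (h2.trans hk)
  · rintro (((h | h) | h) | h)
    · obtain ⟨x, hx⟩ := exists_E1 (F := F) hF
      rw [← hx] at h
      refine Cfsg.Agent.S2476.mem_range_of_dvd x s ?_ h
      rw [hx]
      omega
    · obtain ⟨x, hx⟩ := exists_E2 (F := F) hF p
      rw [hmul, ← hx] at h
      refine Cfsg.Agent.S2476.mem_range_of_dvd x s ?_ h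
      rw [hx]
      exact (Nat.mul_pos hpp.pos
        (Nat.div_pos (Nat.le_of_dvd (by omega) (d_dvd_add _)) hd0)).ne'
    · obtain ⟨x, hx⟩ := exists_E3 (F := F) hF
      rw [← hx] at h
      refine Cfsg.Agent.S2476.mem_range_of_dvd x s ?_ h
      rw [hx]
      have : 2 ^ 2 ≤ q ^ 2 := Nat.pow_le_pow_left hq2 2
      exact (Nat.div_pos (Nat.le_of_dvd (by omega)
        ((d_dvd_add q).trans (add_one_dvd q (by omega)))) hd0).ne'
    · obtain ⟨x, hx⟩ := exists_E4 (F := F) hF p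
      rw [← hx] at h
      refine Cfsg.Agent.S2476.mem_range_of_dvd x s ?_ h
      rw [hx]
      exact (Nat.div_pos (Nat.le_of_dvd (by omega) (d_dvd_R q hq2)) hd0).ne'


end Cfsg.Agent.S2366
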