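import Mathlib
import Cfsg.Statements.S0370
import Cfsg.Agent.Lib.Helper1.Golay5

set_option autoImplicit false
open Cfsg
open Cfsg.Agent.Lib.Helper1

namespace Cfsg.Agent.S0370

/-- The permutation x ↦ x + 1 of the residues modulo 23, fixing the extra point, lies in the group of the length-24 code. -/
theorem result : Equiv.optionCongr (Equiv.addRight (1 : ZMod 23)) ∈ Cfsg.M24 := by
  apply mem_M24_of_preserves
  apply preserves_of_span _ _ rfl
  rintro g (⟨t, rfl⟩ | rfl)
  · have : (fun p => qrWord t ((Equiv.optionCongr (Equiv.addRight (1 : ZMod 23))).symm p)) =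
        qrWord (t + 1) := by
      funext p
      cases p with
      | none => rfl
      | some x =>
        show qrWord t (some (x + -1)) = qrWord (t + 1) (some x)
        simp only [qrWord]
        congr 1
        apply propext
        constructor
        · rintro ⟨r, hr⟩; exact ⟨r, by linear_combination hr⟩
        · rintro ⟨r, hr⟩; exact ⟨r, by linear_combination hr⟩
    rw [this]
    exact Submodule.subset_span (Or.inl ⟨t + 1, rfl⟩)
  · exact Submodule.subset_span (Or.inr rfl)

end Cfsg.Agent.S0370
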