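import Mathlib
import Cfsg.Statements.S0372
import Cfsg.Agent.Lib.Helper1.Golay5

set_option autoImplicit false
open Cfsg
open Cfsg.Agent.Lib.Helper1

namespace Cfsg.Agent.S0372

def cTab : ℕ → ℕ := fun i =>
  [3642, 1320, 3282, 1426, 3376, 2090, 2446, 1450, 306, 409, 3208, 2224].getD i 0

set_option maxRecDepth 100000 in
theorem check : ∀ i < 12, ∀ p : GolayPt, ofMask (cw (cTab i)) (Cfsg.projInv p) = ofMask (bTab i) p := by
  decide

/-- The involution x ↦ -1/x of the projective line over ZMod 23 lies in the group of the length-24 code. -/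
theorem result : Cfsg.projInv ∈ Cfsg.M24 :=
  mem_M24_of_table _ cTab (by decide) check

end Cfsg.Agent.S0372
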