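import Mathlib
import Cfsg.Statements.S0373
import Cfsg.Agent.Lib.Helper1.Golay5

set_option autoImplicit false
open Cfsg
open Cfsg.Agent.Lib.Helper1

namespace Cfsg.Agent.S0373

def cTab : ℕ → ℕ := fun i =>
  [64, 720, 609, 216, 211, 641, 528, 1105, 529, 913, 197, 2688].getD i 0

set_option maxRecDepth 100000 in
theorem check : ∀ i < 12, ∀ p : GolayPt,
    ofMask (cw (cTab i)) (Cfsg.cubeTwistFun p) = ofMask (bTab i) p := by
  decide

/-- The cube-twist permutation (squares t ↦ t^3/9, non-squares t ↦ 9t^3, extra point fixed) lies in the group of the length-24 code. -/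
theorem result : Cfsg.cubeTwist ∈ Cfsg.M24 :=
  mem_M24_of_table _ cTab (by decide) check

end Cfsg.Agent.S0373
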