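import Cfsg.Statements.S0395
import Cfsg.Agent.Lib.Helper1.LeechGF4

set_option autoImplicit false
open Cfsg

namespace Cfsg.Agent.S0395

/-- Exactly 16773120 lattice vectors have sum of squares 48. -/
theorem result : {x : Cfsg.GolayPt → ℤ | x ∈ Cfsg.leechLattice ∧ Cfsg.sqNorm x = 48}.ncard = 16773120 := by
  have h1 := Cfsg.Agent.Lib.Helper1.LeechGF.ncard_eq_card_SN 48 (by norm_num)
  have h2 := Cfsg.Agent.Lib.Helper1.LeechGF.card_SN_eq Cfsg.Agent.Lib.Helper1.LeechGF.fullL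
    Cfsg.Agent.Lib.Helper1.LeechGF.fullL_nodup 48 16773120 (by decide +kernel)
  rw [h2] at h1
  simpa using h1

end Cfsg.Agent.S0395
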