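import Cfsg.Statements.S1573
import Cfsg.Agent.Lib.Helper1.EnC11a
import Cfsg.Agent.Lib.Helper1.EnC11b
import Cfsg.Agent.Lib.Helper1.EnC11c
import Cfsg.Agent.Lib.Helper1.LeechEnum13
import Cfsg.Agent.Lib.Helper1.LeechTrans32b

set_option autoImplicit false
open Cfsg

namespace Cfsg.Agent.S1573

open Cfsg.Agent.Lib.Helper1 Cfsg.Agent.Lib.Helper1.LeechEnum Cfsg.Agent.Lib.Helper1.LeechConn
  Cfsg.Agent.Lib.Helper1.LeechAut

theorem cond_iff_a (v : ℕ) (_ : v < 65536 ^ 24) (_ : Good v) :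
    EnC11a.cnd v = true ↔ dotInt Cfsg.Spor.vecU (vec v) = -16 := by
  have h3 := dot_vecU v
  show Nat.beq (fld 23 v + fld 0 v) 508 = true ↔ _
  rw [nbeq_iff, h3]
  omega

theorem cond_iff_b (v : ℕ) (_ : v < 65536 ^ 24) (_ : Good v) :
    EnC11b.cnd v = true ↔ dotInt Cfsg.Spor.vecU (vec v) = -8 := by
  have h3 := dot_vecU v
  show Nat.beq (fld 23 v + fld 0 v) 510 = true ↔ _
  rw [nbeq_iff, h3]
  omega

theorem cond_iff_c (v : ℕ) (_ : v < 65536 ^ 24) (_ : Good v) :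
    EnC11c.cnd v = true ↔ dotInt Cfsg.Spor.vecU (vec v) = 0 := by
  have h3 := dot_vecU v
  show Nat.beq (fld 23 v + fld 0 v) 512 = true ↔ _
  rw [nbeq_iff, h3]
  omega

/-- transport of a count about a minimal vector to the standard one -/
theorem count_std (v : leechLattice) (hvn : sqNorm (v : GolayPt → ℤ) = 32) (t : ℤ) (n : ℕ)
    (hc : {z : GolayPt → ℤ | z ∈ leechLattice ∧ sqNorm z = 32 ∧
      dotInt Cfsg.Spor.vecU z = t}.ncard = n) :
    {w : GolayPt → ℤ | w ∈ leechLattice ∧ sqNorm w = 32 ∧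
      dotInt (v : GolayPt → ℤ) w = t}.ncard = n := by
  obtain ⟨h, hh⟩ := trans32 v ⟨Cfsg.Spor.vecU, vecU_mem⟩ hvn vecU_norm
  have hh' : ((h • v : leechLattice) : GolayPt → ℤ) = Cfsg.Spor.vecU := congrArg Subtype.val hh
  have e := ncard_subtype (fun z => sqNorm z = 32 ∧ dotInt (v : GolayPt → ℤ) z = t)
  have e2 : {z : GolayPt → ℤ | z ∈ leechLattice ∧ (sqNorm z = 32 ∧
      dotInt (v : GolayPt → ℤ) z = t)} = {w : GolayPt → ℤ | w ∈ leechLattice ∧ sqNorm w = 32 ∧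
      dotInt (v : GolayPt → ℤ) w = t} := rfl
  rw [← e2, ← e]
  refine count_via h _ (fun z => dotInt Cfsg.Spor.vecU z = t) n (fun y => ?_) hc
  show (_ ∧ _) ↔ _
  rw [smul_norm h y, ← hh', smul_dot]

/-- Census of minimal vectors by inner product with a fixed minimal vector: 4600 have customary inner product −2, 47104 have −1, and 93150 are orthogonal. -/
theorem result (v : Cfsg.GolayPt → ℤ) (hv : v ∈ Cfsg.leechLattice) (hvn : Cfsg.sqNorm v = 32) : {w : Cfsg.GolayPt → ℤ | w ∈ Cfsg.leechLattice ∧ Cfsg.sqNorm w = 32 ∧ Cfsg.dotInt v w = -16}.ncard = 4600 ∧ {w : Cfsg.GolayPt → ℤ | w ∈ Cfsg.leechLattice ∧ Cfsg.sqNorm w = 32 ∧ Cfsg.dotInt v w = -8}.ncard = 47104 ∧ {w : Cfsg.GolayPt → ℤ | w ∈ Cfsg.leechLattice ∧ Cfsg.sqNorm w = 32 ∧ Cfsg.dotInt v w = 0}.ncard = 93150 := by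
  exact ⟨count_std ⟨v, hv⟩ hvn (-16) 4600 (EnC11a.census _ cond_iff_a),
    count_std ⟨v, hv⟩ hvn (-8) 47104 (EnC11b.census _ cond_iff_b),
    count_std ⟨v, hv⟩ hvn 0 93150 (EnC11c.census _ cond_iff_c)⟩

end Cfsg.Agent.S1573
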