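import Cfsg.Statements.S1575
import Cfsg.Agent.Lib.Helper1.EnP4All
import Cfsg.Agent.Lib.Helper1.LeechEnum7
import Cfsg.Agent.Lib.Helper1.LeechTrans32b

set_option autoImplicit false
open Cfsg

namespace Cfsg.Agent.S1575

open Cfsg.Agent.Lib.Helper1 Cfsg.Agent.Lib.Helper1.LeechEnum Cfsg.Agent.Lib.Helper1.LeechConn
  Cfsg.Agent.Lib.Helper1.LeechAut

theorem hY : ∀ y ∈ EnP4.prob.Y, Good y := by
  intro y hy
  have : y = pU := by
    have h : y ∈ [pU] := hy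
    simpa using h
  subst this
  exact good_pU

theorem cond_ok {z : GolayPt → ℤ}
    (hd : dotInt Cfsg.Spor.vecU z = -8) (v : ℕ) (_ : v < 65536 ^ 24) (hvz : vec v = z) :
    EnP4.prob.cond v = true := by
  have h2 := dot_vecU v
  rw [hvz, hd] at h2
  show Nat.beq (fld 23 v + fld 0 v) 510 = true
  rw [nbeq_iff]
  omega

theorem reach (z : GolayPt → ℤ) (hz : z ∈ leechLattice)
    (hc : sqNorm z = 32 ∧ dotInt Cfsg.Spor.vecU z = -8) :
    ReachG [Cfsg.Spor.vecU] z (vec EnP4.prob.z0) := by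
  have h := (reach_of_checks hY EnP4.gens_ok ⟨_, EnP4.chkA_ok⟩ EnP4.all_ok hz hc.1
    (cond_ok hc.2)).toG
  have e1 : EnP4.prob.Y.map vec = [Cfsg.Spor.vecU] := by
    show [vec pU] = _
    rw [vec_pU]
  rwa [e1] at h

/-- The stabiliser of a minimal vector is transitive on the minimal vectors of customary inner product −1 with it. -/
theorem result (v w w' : ↥Cfsg.leechLattice) (hv : Cfsg.sqNorm (v : Cfsg.GolayPt → ℤ) = 32) (hw : Cfsg.sqNorm (w : Cfsg.GolayPt → ℤ) = 32) (hw' : Cfsg.sqNorm (w' : Cfsg.GolayPt → ℤ) = 32) (hd : Cfsg.dotInt (v : Cfsg.GolayPt → ℤ) (w : Cfsg.GolayPt → ℤ) = -8) (hd' : Cfsg.dotInt (v : Cfsg.GolayPt → ℤ) (w' : Cfsg.GolayPt → ℤ) = -8) : ∃ g : ↥Cfsg.Co0, g • v = v ∧ g • w = w' := by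
  obtain ⟨h, hh⟩ := trans32 v ⟨Cfsg.Spor.vecU, vecU_mem⟩ hv vecU_norm
  have hh' : ((h • v : leechLattice) : GolayPt → ℤ) = Cfsg.Spor.vecU := congrArg Subtype.val hh
  obtain ⟨g, hg1, hg2⟩ := stab_trans reach h w w'
    ⟨by rw [smul_norm, hw], by rw [← hh', smul_dot, hd]⟩
    ⟨by rw [smul_norm, hw'], by rw [← hh', smul_dot, hd']⟩
  exact ⟨g, hg1 v (by rw [hh']; simp), hg2⟩

end Cfsg.Agent.S1575
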