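import Cfsg.Statements.S1640
import Cfsg.Agent.Lib.Helper1.EnP2All
import Cfsg.Agent.Lib.Helper1.EnC2
import Cfsg.Agent.Lib.Helper1.LeechEnum10
import Cfsg.Agent.Lib.Helper1.LeechTrans48c

set_option autoImplicit false
open Cfsg

namespace Cfsg.Agent.S1640

open Cfsg.Agent.Lib.Helper1 Cfsg.Agent.Lib.Helper1.LeechEnum Cfsg.Agent.Lib.Helper1.LeechConn
  Cfsg.Agent.Lib.Helper1.LeechAut

theorem hY : ∀ y ∈ EnP2.prob.Y, Good y := by
  intro y hy
  have : y = pD0 := by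
    have h : y ∈ [pD0] := hy
    simpa using h
  subst this
  exact good_pD0

theorem cond_iff (v : ℕ) (hv : v < 65536 ^ 24) (hg : Good v) :
    EnP2.prob.cond v = true ↔ dotInt d₀ (vec v) = -16 := by
  have h2 := dot_d0 v
  rw [sum_flds hv hg] at h2
  show Nat.beq (v % 65535 + 4 * fld 23 v) 7152 = true ↔ _
  rw [nbeq_iff, h2]
  omega

theorem reach (z : GolayPt → ℤ) (hz : z ∈ leechLattice)
    (hc : sqNorm z = 32 ∧ dotInt d₀ z = -16) :
    ReachG [d₀] z (vec EnP2.prob.z0) := by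
  have h := (reach_of_checks hY EnP2.gens_ok ⟨_, EnP2.chkA_ok⟩ EnP2.all_ok hz hc.1
    (fun v hv hvz => (cond_iff v hv (good_of hvz hz (by rw [hc.1]; norm_num))).2
      (by rw [hvz]; exact hc.2))).toG
  have e1 : EnP2.prob.Y.map vec = [d₀] := by
    show [vec pD0] = _
    rw [vec_pD0]
  rwa [e1] at h

/-- The stabiliser of a vector of customary norm 6 is transitive on the 11178 minimal vectors of customary inner product −2 with it. -/
theorem result (u : ↥Cfsg.leechLattice) (hu : Cfsg.sqNorm (u : Cfsg.GolayPt → ℤ) = 48) : {x : ↥Cfsg.leechLattice | Cfsg.sqNorm (x : Cfsg.GolayPt → ℤ) = 32 ∧ Cfsg.dotInt (u : Cfsg.GolayPt → ℤ) (x : Cfsg.GolayPt → ℤ) = -16}.ncard = 11178 ∧ ∀ x ∈ {x : ↥Cfsg.leechLattice | Cfsg.sqNorm (x : Cfsg.GolayPt → ℤ) = 32 ∧ Cfsg.dotInt (u : Cfsg.GolayPt → ℤ) (x : Cfsg.GolayPt → ℤ) = -16}, ∀ x' ∈ {x : ↥Cfsg.leechLattice | Cfsg.sqNorm (x : Cfsg.GolayPt → ℤ) = 32 ∧ Cfsg.dotInt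 (u : Cfsg.GolayPt → ℤ) (x : Cfsg.GolayPt → ℤ) = -16}, ∃ g : ↥Cfsg.Co0, g • u = u ∧ g • x = x' := by
  obtain ⟨h, hh⟩ := trans48 u ⟨d₀, d0_mem⟩ hu d0_norm
  have hh' : ((h • u : leechLattice) : GolayPt → ℤ) = d₀ := congrArg Subtype.val hh
  constructor
  · have e1 : {x : ↥Cfsg.leechLattice | Cfsg.sqNorm (x : Cfsg.GolayPt → ℤ) = 32 ∧
        Cfsg.dotInt (u : Cfsg.GolayPt → ℤ) (x : Cfsg.GolayPt → ℤ) = -16} =
        {v : leechLattice | (fun w : leechLattice => sqNorm (w : GolayPt → ℤ) = 32 ∧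
          dotInt d₀ (w : GolayPt → ℤ) = -16) (h • v)} := by
      ext v
      simp only [Set.mem_ofPred_eq]
      rw [smul_norm h v, ← hh', smul_dot]
    rw [e1, ncard_smul h (fun w : leechLattice => sqNorm (w : GolayPt → ℤ) = 32 ∧
          dotInt d₀ (w : GolayPt → ℤ) = -16),
      ncard_subtype (fun z => sqNorm z = 32 ∧ dotInt d₀ z = -16)]
    have e2 : {z : GolayPt → ℤ | z ∈ leechLattice ∧ (sqNorm z = 32 ∧ dotInt d₀ z = -16)} =
        {z : GolayPt → ℤ | z ∈ leechLattice ∧ sqNorm z = 32 ∧ dotInt d₀ z = -16} := rfl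
    rw [e2]
    exact EnC2.census (fun z => dotInt d₀ z = -16) cond_iff
  · intro x hx x' hx'
    obtain ⟨g, hg1, hg2⟩ := stab_trans reach h x x'
      ⟨by rw [smul_norm, hx.1], by rw [← hh', smul_dot, hx.2]⟩
      ⟨by rw [smul_norm, hx'.1], by rw [← hh', smul_dot, hx'.2]⟩
    exact ⟨g, hg1 u (by rw [hh']; simp), hg2⟩

end Cfsg.Agent.S1640
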