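import Cfsg.Statements.S1579
import Cfsg.Agent.Lib.Helper1.EnP1All
import Cfsg.Agent.Lib.Helper1.LeechTrans48c

set_option autoImplicit false
open Cfsg

namespace Cfsg.Agent.S1579

open Cfsg.Agent.Lib.Helper1 Cfsg.Agent.Lib.Helper1.LeechEnum Cfsg.Agent.Lib.Helper1.LeechConn
  Cfsg.Agent.Lib.Helper1.LeechAut

theorem vecY : ∀ p : GolayPt, vec 156922578963170127626453103033636256822227754892691714323872083226400832126020145757535322891541750762911085691137 p = d₀ p := by
  decide +kernel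

theorem vecZ0 : ∀ p : GolayPt, vec EnP1.prob.z0 p = Cfsg.Spor.vecU p := by
  decide +kernel

theorem d0_mem : d₀ ∈ leechLattice := b₀_d₀.mem_right

theorem d0_norm : sqNorm d₀ = 48 := by decide +kernel

theorem hY : ∀ y ∈ EnP1.prob.Y, Good y := by
  intro y hy
  have : y = 156922578963170127626453103033636256822227754892691714323872083226400832126020145757535322891541750762911085691137 := by
    simpa [EnP1.prob] using hy
  subst this
  have e : vec 156922578963170127626453103033636256822227754892691714323872083226400832126020145757535322891541750762911085691137 = d₀ := funext vecY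
  unfold Good
  rw [e]
  exact ⟨d0_mem, by rw [d0_norm]; norm_num⟩

theorem dot_d0 (v : ℕ) : dotInt d₀ (vec v) =
    ((List.range 24).map (fun k => (fld k v : ℤ))).sum + 4 * (fld 23 v : ℤ) - 7168 := by
  rw [dot_list]
  have h : ∀ i, i < 24 → d₀ (gUnidx i) = if i = 23 then 5 else 1 := by decide
  have hr : List.range 24 = [0,1,2,3,4,5,6,7,8,9,10,11,12,13,14,15,16,17,18,19,20,21,22,23] := by
    decide
  rw [hr]
  simp only [List.map_cons, List.map_nil, List.sum_cons, List.sum_nil]
  rw [h 0 (by norm_num), h 1 (by norm_num), h 2 (by norm_num), h 3 (by norm_num), h 4 (by norm_num),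
    h 5 (by norm_num), h 6 (by norm_num), h 7 (by norm_num), h 8 (by norm_num), h 9 (by norm_num),
    h 10 (by norm_num), h 11 (by norm_num), h 12 (by norm_num), h 13 (by norm_num),
    h 14 (by norm_num), h 15 (by norm_num), h 16 (by norm_num), h 17 (by norm_num),
    h 18 (by norm_num), h 19 (by norm_num), h 20 (by norm_num), h 21 (by norm_num),
    h 22 (by norm_num), h 23 (by norm_num)]
  norm_num
  ring

theorem cond_ok {z : GolayPt → ℤ} (hz : z ∈ leechLattice) (hn : sqNorm z = 32)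
    (hd : dotInt d₀ z = 24) (v : ℕ) (hv : v < 65536 ^ 24) (hvz : vec v = z) :
    EnP1.prob.cond v = true := by
  have hg : Good v := by unfold Good; rw [hvz]; exact ⟨hz, by rw [hn]; norm_num⟩
  have h1 := fsum_eq hv (fun k hk => (hg.bounds' hk).2)
  have h2 := dot_d0 v
  rw [hvz, hd, ← sum_fld_cast, ← h1] at h2
  show Nat.beq (v % 65535 + 4 * fld 23 v) 7192 = true
  rw [nbeq_iff]
  omega

/-- every summand of `d₀` reaches the standard one -/
theorem reach {z : GolayPt → ℤ} (hz : z ∈ leechLattice) (hn : sqNorm z = 32)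
    (hd : dotInt d₀ z = 24) : ReachG [d₀] z Cfsg.Spor.vecU := by
  have h := (reach_of_checks hY EnP1.gens_ok ⟨_, EnP1.chkA_ok⟩ EnP1.all_ok hz hn
    (cond_ok hz hn hd)).toG
  have e1 : EnP1.prob.Y.map vec = [d₀] := by
    show [vec _] = [d₀]
    rw [funext vecY]
  have e2 : vec EnP1.prob.z0 = Cfsg.Spor.vecU := funext vecZ0
  rwa [e1, e2] at h

theorem dot_of_norms (x y : GolayPt → ℤ) :
    sqNorm (x - y) = sqNorm x + sqNorm y - 2 * dotInt x y := by
  unfold sqNorm dotInt
  rw [Finset.mul_sum, ← Finset.sum_add_distrib, ← Finset.sum_sub_distrib]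
  apply Finset.sum_congr rfl
  intro i _
  simp only [Pi.sub_apply]
  ring

/-- The stabiliser of a vector of customary norm 6 is transitive on the 552 minimal vectors that complete it to a sum of two minimal vectors. -/
theorem result (u v v' : ↥Cfsg.leechLattice) (hu : Cfsg.sqNorm (u : Cfsg.GolayPt → ℤ) = 48) (hv : Cfsg.sqNorm (v : Cfsg.GolayPt → ℤ) = 32 ∧ Cfsg.sqNorm ((u - v) : Cfsg.GolayPt → ℤ) = 32) (hv' : Cfsg.sqNorm (v' : Cfsg.GolayPt → ℤ) = 32 ∧ Cfsg.sqNorm ((u - v') : Cfsg.GolayPt → ℤ) = 32) : ∃ g : ↥Cfsg.Co0, g • u = u ∧ g • v = v' := by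
  obtain ⟨h, hh⟩ := trans48 u ⟨d₀, d0_mem⟩ hu d0_norm
  have hdot : ∀ w : leechLattice, sqNorm (w : GolayPt → ℤ) = 32 →
      sqNorm ((u - w : GolayPt → ℤ)) = 32 → dotInt d₀ ((h • w : leechLattice) : GolayPt → ℤ) = 24 := by
    intro w hw1 hw2
    have h1 := dot_preserved h.2 u w
    have h2 : ((h.1 u : leechLattice) : GolayPt → ℤ) = d₀ := congrArg Subtype.val hh
    rw [h2] at h1
    have h3 := dot_of_norms (u : GolayPt → ℤ) w
    rw [hw2, hu, hw1] at h3
    have : dotInt (u : GolayPt → ℤ) w = 24 := by omega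
    rw [← this]
    exact h1
  have hnorm : ∀ w : leechLattice, sqNorm ((h • w : leechLattice) : GolayPt → ℤ) = sqNorm (w : GolayPt → ℤ) :=
    fun w => h.2.2 w
  have r1 := reach (h • v).2 (by rw [hnorm, hv.1]) (hdot v hv.1 hv.2)
  have r2 := reach (h • v').2 (by rw [hnorm, hv'.1]) (hdot v' hv'.1 hv'.2)
  obtain ⟨g, hgY, hg⟩ := r1.join r2
  refine ⟨h⁻¹ * g * h, ?_, ?_⟩
  · rw [mul_smul, mul_smul, hh, hgY d₀ (by simp) ⟨d₀, d0_mem⟩ rfl, ← hh, inv_smul_smul]
  · rw [mul_smul, mul_smul, hg (h • v) (h • v') rfl rfl, inv_smul_smul]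

end Cfsg.Agent.S1579
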