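import Cfsg.Statements.S0376
import Cfsg.Agent.Lib.Helper1.M24E
import Cfsg.Agent.Lib.Helper1.StabCard

set_option autoImplicit false
open Cfsg

namespace Cfsg.Agent.S0376

open Cfsg.Agent.Lib.Helper1

/-- A point stabiliser in the group of the length-24 code has order 10200960 = 2^7·3^2·5·7·11·23. -/
theorem result (p : Cfsg.GolayPt) : Nat.card (MulAction.stabilizer Cfsg.M24 p) = 10200960 := by
  have := M24.transitive
  have h := StabCard.card_eq_card_mul_stabilizer (G := Cfsg.M24) p
  rw [M24.card_M24] at h
  have h24 : Fintype.card Cfsg.GolayPt = 24 := by decide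
  rw [h24] at h
  omega

end Cfsg.Agent.S0376
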