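import Cfsg.Statements.S0378
import Cfsg.Agent.S0376

set_option autoImplicit false
open Cfsg

namespace Cfsg.Agent.S0378

open Cfsg.Agent.Lib.Helper1

/-- A two-point stabiliser in the group of the length-24 code has order 443520 = 2^7·3^2·5·7·11. -/
theorem result (p q : Cfsg.GolayPt) (hpq : p ≠ q) : Nat.card ↥(MulAction.stabilizer Cfsg.M24 p ⊓ MulAction.stabilizer Cfsg.M24 q) = 443520 := by
  have h := StabCard.card_stabilizer_eq_mul_two (G := Cfsg.M24) M24.two_transitive p q hpq
  rw [Cfsg.Agent.S0376.result p] at h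
  have h24 : Fintype.card Cfsg.GolayPt = 24 := by decide
  rw [h24] at h
  omega

end Cfsg.Agent.S0378
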