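import Cfsg.Statements.S1583
import Cfsg.Agent.Lib.Helper1.EnP7All
import Cfsg.Agent.Lib.Helper1.EnC7
import Cfsg.Agent.Lib.Helper1.LeechEnum12

set_option autoImplicit false
open Cfsg

namespace Cfsg.Agent.S1583

open Cfsg.Agent.Lib.Helper1 Cfsg.Agent.Lib.Helper1.LeechEnum Cfsg.Agent.Lib.Helper1.LeechConn
  Cfsg.Agent.Lib.Helper1.LeechAut

theorem hY : ∀ y ∈ EnP7.prob.Y, Good y := by
  intro y hy
  have h : y ∈ [pD0, pU'] := hy
  have : y = pD0 ∨ y = pU' := by simpa using h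
  rcases this with rfl | rfl
  · exact good_pD0
  · exact good_pU'

theorem cond_iff (v : ℕ) (hv : v < 65536 ^ 24) (hg : Good v) :
    EnP7.prob.cond v = true ↔
      (dotInt d₀ (vec v) = 24 ∧ dotInt Cfsg.Spor.vecU' (vec v) = 0) := by
  have h2 := dot_d0 v
  rw [sum_flds hv hg] at h2
  have h3 := dot_vecU' v
  show (Nat.beq (v % 65535 + 4 * fld 23 v) 7192 && Nat.beq (fld 23 v) (fld 0 v)) = true ↔ _
  rw [Bool.and_eq_true, nbeq_iff, nbeq_iff, h2, h3]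
  omega

theorem reach (z : GolayPt → ℤ) (hz : z ∈ leechLattice)
    (hc : sqNorm z = 32 ∧ dotInt d₀ z = 24 ∧ dotInt Cfsg.Spor.vecU' z = 0) :
    ReachG [d₀, Cfsg.Spor.vecU'] z (vec EnP7.prob.z0) := by
  have h := (reach_of_checks hY EnP7.gens_ok ⟨_, EnP7.chkA_ok⟩ EnP7.all_ok hz hc.1
    (fun v hv hvz => (cond_iff v hv (good_of hvz hz (by rw [hc.1]; norm_num))).2
      (by rw [hvz]; exact hc.2))).toG
  have e1 : EnP7.prob.Y.map vec = [d₀, Cfsg.Spor.vecU'] := by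
    show [vec pD0, vec pU'] = _
    rw [vec_pD0, vec_pU']
  rwa [e1] at h

/-- The Higman–Sims configuration: for two vectors of customary norm 6 with inner product −4, exactly 100 minimal vectors have customary inner products 3 and −3 with them, and the joint stabiliser permutes these transitively. -/
theorem result (v w : ↥Cfsg.leechLattice) (hv : Cfsg.sqNorm (v : Cfsg.GolayPt → ℤ) = 48) (hw : Cfsg.sqNorm (w : Cfsg.GolayPt → ℤ) = 48) (hvw : Cfsg.dotInt (v : Cfsg.GolayPt → ℤ) (w : Cfsg.GolayPt → ℤ) = -32) : {x : ↥Cfsg.leechLattice | Cfsg.sqNorm (x : Cfsg.GolayPt → ℤ) = 32 ∧ Cfsg.dotInt (v : Cfsg.GolayPt → ℤ) (x : Cfsg.GolayPt → ℤ) = 24 ∧ Cfsg.dotInt (w : Cfsg.GolayPt → ℤ) (x : Cfsg.GolayPt → ℤ) = -24}.ncard = 100 ∧ ∀ x ∈ {x : ↥Cfsg.leechLattice | Cfsg.sqNorm (x : Cfsg.GolayPt → ℤ) = 32 ∧ Cfsg.dotInt (v : Cfsg.GolayPt → ℤ) (x : Cfsg.GolayPt → ℤ) = 24 ∧ Cfsg.dotInt (w : Cfsg.GolayPt → ℤ) (x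 : Cfsg.GolayPt → ℤ) = -24}, ∀ x' ∈ {x : ↥Cfsg.leechLattice | Cfsg.sqNorm (x : Cfsg.GolayPt → ℤ) = 32 ∧ Cfsg.dotInt (v : Cfsg.GolayPt → ℤ) (x : Cfsg.GolayPt → ℤ) = 24 ∧ Cfsg.dotInt (w : Cfsg.GolayPt → ℤ) (x : Cfsg.GolayPt → ℤ) = -24}, ∃ g : ↥Cfsg.Co0, g • v = v ∧ g • w = w ∧ g • x = x' := by
  have hm1 : sqNorm ((v + w : leechLattice) : GolayPt → ℤ) = 32 := by
    have := Cfsg.Agent.Lib.Helper1.LeechEnum.norm_neg (((v + w : leechLattice) : GolayPt → ℤ))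
    rw [← this, coe_add']
    have h2 : sqNorm (-((v : GolayPt → ℤ) + (w : GolayPt → ℤ))) =
        sqNorm (v : GolayPt → ℤ) + sqNorm (w : GolayPt → ℤ) + 2 * dotInt (v : GolayPt → ℤ) w := by
      unfold sqNorm dotInt
      rw [Finset.mul_sum, ← Finset.sum_add_distrib, ← Finset.sum_add_distrib]
      apply Finset.sum_congr rfl
      intro i _
      simp only [Pi.add_apply, Pi.neg_apply]
      ring
    rw [h2, hv, hw, hvw]; norm_num
  have hm2 : dotInt (v : GolayPt → ℤ) ((v + w : leechLattice) : GolayPt → ℤ) = 16 := by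
    rw [coe_add', dot_add_right, dot_self', hv, hvw]; norm_num
  obtain ⟨h, hh1, hh2⟩ := std_pair_B v (v + w) hv hm1 hm2
  have key : ∀ x : leechLattice,
      (sqNorm (x : GolayPt → ℤ) = 32 ∧ dotInt (v : GolayPt → ℤ) (x : GolayPt → ℤ) = 24 ∧
        dotInt (w : GolayPt → ℤ) (x : GolayPt → ℤ) = -24) ↔
      (sqNorm ((h • x : leechLattice) : GolayPt → ℤ) = 32 ∧
        dotInt d₀ ((h • x : leechLattice) : GolayPt → ℤ) = 24 ∧
        dotInt Cfsg.Spor.vecU' ((h • x : leechLattice) : GolayPt → ℤ) = 0) := by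
    intro x
    rw [smul_norm h x, ← hh1, ← hh2, smul_dot, smul_dot, coe_add', dot_add_left]
    constructor
    · rintro ⟨a, b, c⟩; exact ⟨a, b, by omega⟩
    · rintro ⟨a, b, c⟩; exact ⟨a, b, by omega⟩
  constructor
  · have e1 : {x : ↥Cfsg.leechLattice | Cfsg.sqNorm (x : Cfsg.GolayPt → ℤ) = 32 ∧
        Cfsg.dotInt (v : Cfsg.GolayPt → ℤ) (x : Cfsg.GolayPt → ℤ) = 24 ∧
        Cfsg.dotInt (w : Cfsg.GolayPt → ℤ) (x : Cfsg.GolayPt → ℤ) = -24} =
        {x : leechLattice | (fun y : leechLattice => sqNorm (y : GolayPt → ℤ) = 32 ∧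
          (dotInt d₀ (y : GolayPt → ℤ) = 24 ∧
            dotInt Cfsg.Spor.vecU' (y : GolayPt → ℤ) = 0)) (h • x)} := by
      ext x
      exact key x
    rw [e1, ncard_smul h (fun y : leechLattice => sqNorm (y : GolayPt → ℤ) = 32 ∧
          (dotInt d₀ (y : GolayPt → ℤ) = 24 ∧
            dotInt Cfsg.Spor.vecU' (y : GolayPt → ℤ) = 0)),
      ncard_subtype (fun z => sqNorm z = 32 ∧ (dotInt d₀ z = 24 ∧
        dotInt Cfsg.Spor.vecU' z = 0))]
    exact EnC7.census (fun z => dotInt d₀ z = 24 ∧ dotInt Cfsg.Spor.vecU' z = 0) cond_iff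
  · intro x hx x' hx'
    obtain ⟨g, hg1, hg2⟩ := stab_trans reach h x x' ((key x).1 hx) ((key x').1 hx')
    have gv : g • v = v := hg1 v (by rw [hh1]; simp)
    have gm : g • (v + w) = v + w := hg1 (v + w) (by rw [hh2]; simp)
    refine ⟨g, gv, ?_, hg2⟩
    have e3 : w = (v + w) - v := by abel
    have e4 : g • w = g • ((v + w) - v) := by rw [← e3]
    rw [e4, LeechEnum.smul_sub, gm, gv]
    abel

end Cfsg.Agent.S1583
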