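import Cfsg.Statements.S1584
import Cfsg.Agent.S1583
import Cfsg.Agent.Lib.Helper1.EnP9aAll
import Cfsg.Agent.Lib.Helper1.EnC9a
import Cfsg.Agent.Lib.Helper1.EnP9bAll
import Cfsg.Agent.Lib.Helper1.EnC9b
import Cfsg.Agent.Lib.Helper1.LeechEnum13

set_option autoImplicit false
open Cfsg

namespace Cfsg.Agent.S1584

open Cfsg.Agent.Lib.Helper1 Cfsg.Agent.Lib.Helper1.LeechEnum Cfsg.Agent.Lib.Helper1.LeechConn
  Cfsg.Agent.Lib.Helper1.LeechAut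

theorem hYa : ∀ y ∈ EnP9a.prob.Y, Good y := by
  intro y hy
  have h : y ∈ [pD0, pU', pU] := hy
  have : y = pD0 ∨ y = pU' ∨ y = pU := by simpa using h
  rcases this with rfl | rfl | rfl
  · exact good_pD0
  · exact good_pU'
  · exact good_pU

theorem hYb : ∀ y ∈ EnP9b.prob.Y, Good y := hYa

theorem cond_iff_a (v : ℕ) (hv : v < 65536 ^ 24) (hg : Good v) :
    EnP9a.prob.cond v = true ↔
      (dotInt d₀ (vec v) = 24 ∧ dotInt Cfsg.Spor.vecU' (vec v) = 0 ∧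
        dotInt Cfsg.Spor.vecU (vec v) = 8) := by
  have h2 := dot_d0 v
  rw [sum_flds hv hg] at h2
  have h3 := dot_vecU' v
  have h4 := dot_vecU v
  show ((Nat.beq (v % 65535 + 4 * fld 23 v) 7192 && Nat.beq (fld 23 v) (fld 0 v)) &&
    Nat.beq (fld 23 v + fld 0 v) 514) = true ↔ _
  rw [Bool.and_eq_true, Bool.and_eq_true, nbeq_iff, nbeq_iff, nbeq_iff, h2, h3, h4]
  omega

theorem cond_iff_b (v : ℕ) (hv : v < 65536 ^ 24) (hg : Good v) :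
    EnP9b.prob.cond v = true ↔
      (dotInt d₀ (vec v) = 24 ∧ dotInt Cfsg.Spor.vecU' (vec v) = 0 ∧
        dotInt Cfsg.Spor.vecU (vec v) = 16) := by
  have h2 := dot_d0 v
  rw [sum_flds hv hg] at h2
  have h3 := dot_vecU' v
  have h4 := dot_vecU v
  show ((Nat.beq (v % 65535 + 4 * fld 23 v) 7192 && Nat.beq (fld 23 v) (fld 0 v)) &&
    Nat.beq (fld 23 v + fld 0 v) 516) = true ↔ _
  rw [Bool.and_eq_true, Bool.and_eq_true, nbeq_iff, nbeq_iff, nbeq_iff, h2, h3, h4]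
  omega

theorem reach_a (z : GolayPt → ℤ) (hz : z ∈ leechLattice)
    (hc : sqNorm z = 32 ∧ dotInt d₀ z = 24 ∧ dotInt Cfsg.Spor.vecU' z = 0 ∧
      dotInt Cfsg.Spor.vecU z = 8) :
    ReachG [d₀, Cfsg.Spor.vecU', Cfsg.Spor.vecU] z (vec EnP9a.prob.z0) := by
  have h := (reach_of_checks hYa EnP9a.gens_ok ⟨_, EnP9a.chkA_ok⟩ EnP9a.all_ok hz hc.1
    (fun v hv hvz => (cond_iff_a v hv (good_of hvz hz (by rw [hc.1]; norm_num))).2
      (by rw [hvz]; exact hc.2))).toG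
  have e1 : EnP9a.prob.Y.map vec = [d₀, Cfsg.Spor.vecU', Cfsg.Spor.vecU] := by
    show [vec pD0, vec pU', vec pU] = _
    rw [vec_pD0, vec_pU', vec_pU]
  rwa [e1] at h

theorem reach_b (z : GolayPt → ℤ) (hz : z ∈ leechLattice)
    (hc : sqNorm z = 32 ∧ dotInt d₀ z = 24 ∧ dotInt Cfsg.Spor.vecU' z = 0 ∧
      dotInt Cfsg.Spor.vecU z = 16) :
    ReachG [d₀, Cfsg.Spor.vecU', Cfsg.Spor.vecU] z (vec EnP9b.prob.z0) := by
  have h := (reach_of_checks hYb EnP9b.gens_ok ⟨_, EnP9b.chkA_ok⟩ EnP9b.all_ok hz hc.1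
    (fun v hv hvz => (cond_iff_b v hv (good_of hvz hz (by rw [hc.1]; norm_num))).2
      (by rw [hvz]; exact hc.2))).toG
  have e1 : EnP9b.prob.Y.map vec = [d₀, Cfsg.Spor.vecU', Cfsg.Spor.vecU] := by
    show [vec pD0, vec pU', vec pU] = _
    rw [vec_pD0, vec_pU', vec_pU]
  rwa [e1] at h

theorem d0_dot_vecU : dotInt d₀ Cfsg.Spor.vecU = 24 := by decide +kernel

theorem vecU'_dot_vecU : dotInt Cfsg.Spor.vecU' Cfsg.Spor.vecU = 0 := by decide +kernel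

theorem norm_add' (x y : GolayPt → ℤ) :
    sqNorm (x + y) = sqNorm x + sqNorm y + 2 * dotInt x y := by
  unfold sqNorm dotInt
  rw [Finset.mul_sum, ← Finset.sum_add_distrib, ← Finset.sum_add_distrib]
  apply Finset.sum_congr rfl
  intro i _
  simp only [Pi.add_apply]
  ring

/-- the pair and a point of the 100 can be moved to standard position -/
theorem std_triple (v w x : leechLattice) (hv : sqNorm (v : GolayPt → ℤ) = 48)
    (hw : sqNorm (w : GolayPt → ℤ) = 48)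
    (hvw : dotInt (v : GolayPt → ℤ) (w : GolayPt → ℤ) = -32)
    (hx : sqNorm (x : GolayPt → ℤ) = 32 ∧ dotInt (v : GolayPt → ℤ) (x : GolayPt → ℤ) = 24 ∧
      dotInt (w : GolayPt → ℤ) (x : GolayPt → ℤ) = -24) :
    ∃ h : Co0, ((h • v : leechLattice) : GolayPt → ℤ) = d₀ ∧
      ((h • (v + w) : leechLattice) : GolayPt → ℤ) = Cfsg.Spor.vecU' ∧
      ((h • x : leechLattice) : GolayPt → ℤ) = Cfsg.Spor.vecU := by
  have hm1 : sqNorm ((v + w : leechLattice) : GolayPt → ℤ) = 32 := by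
    rw [coe_add', norm_add', hv, hw, hvw]; norm_num
  have hm2 : dotInt (v : GolayPt → ℤ) ((v + w : leechLattice) : GolayPt → ℤ) = 16 := by
    rw [coe_add', dot_add_right, dot_self', hv, hvw]; norm_num
  obtain ⟨h1, a1, a2⟩ := std_pair_B v (v + w) hv hm1 hm2
  have a3 : ((h1 • w : leechLattice) : GolayPt → ℤ) = Cfsg.Spor.vecU' - d₀ := by
    have e : h1 • w = h1 • (v + w) - h1 • v := by rw [smul_add']; abel
    rw [e, coe_sub'', a1, a2]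
  have n0 : sqNorm ((h1 • v : leechLattice) : GolayPt → ℤ) = 48 := by rw [smul_norm, hv]
  have n1 : sqNorm ((h1 • w : leechLattice) : GolayPt → ℤ) = 48 := by rw [smul_norm, hw]
  have n2 : dotInt ((h1 • v : leechLattice) : GolayPt → ℤ)
      ((h1 • w : leechLattice) : GolayPt → ℤ) = -32 := by rw [smul_dot, hvw]
  obtain ⟨g, hg1, hg2, hg3⟩ := (Cfsg.Agent.S1583.result (h1 • v) (h1 • w) n0 n1 n2).2
    (h1 • x) ⟨by rw [smul_norm, hx.1], by rw [smul_dot, hx.2.1], by rw [smul_dot, hx.2.2]⟩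
    ⟨Cfsg.Spor.vecU, vecU_mem⟩
    ⟨vecU_norm, by rw [a1]; exact d0_dot_vecU, by
      rw [a3]
      show dotInt (Cfsg.Spor.vecU' - d₀) Cfsg.Spor.vecU = -24
      rw [dot_sub_left, vecU'_dot_vecU, d0_dot_vecU]; norm_num⟩
  refine ⟨g * h1, ?_, ?_, ?_⟩
  · rw [mul_smul, hg1, a1]
  · rw [mul_smul, smul_add' h1, smul_add' g, hg1, hg2, ← smul_add' h1, a2]
  · rw [mul_smul, hg3]

/-- The Higman–Sims group acts with rank 3 and subdegrees 1, 22, 77 on its 100 points, the orbits of a point stabiliser being distinguished by customary inner product 1 with the fixed point. -/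
theorem result (v w x : ↥Cfsg.leechLattice) (hv : Cfsg.sqNorm (v : Cfsg.GolayPt → ℤ) = 48) (hw : Cfsg.sqNorm (w : Cfsg.GolayPt → ℤ) = 48) (hvw : Cfsg.dotInt (v : Cfsg.GolayPt → ℤ) (w : Cfsg.GolayPt → ℤ) = -32) (hx : x ∈ {x : ↥Cfsg.leechLattice | Cfsg.sqNorm (x : Cfsg.GolayPt → ℤ) = 32 ∧ Cfsg.dotInt (v : Cfsg.GolayPt → ℤ) (x : Cfsg.GolayPt → ℤ) = 24 ∧ Cfsg.dotInt (w : Cfsg.GolayPt → ℤ) (x : Cfsg.GolayPt → ℤ) = -24}) : {y : ↥Cfsg.leechLattice | y ∈ {x : ↥Cfsg.leechLattice | Cfsg.sqNorm (x : Cfsg.GolayPt → ℤ) = 32 ∧ Cfsg.dotInt (v : Cfsg.GolayPt → ℤ) (x : Cfsg.GolayPt → ℤ) = 24 ∧ Cfsg.dotInt (w : Cfsg.GolayPt → ℤ) (x : Cfsg.GolayPt → ℤ) = -24} ∧ Cfsg.dotInt (x : Cfsg.GolayPt → ℤ) (y : Cfsg.GolayPt → ℤ) = 8}.ncard = 22 ∧ {y : ↥Cfsg.leechLattice | y ∈ {x : ↥Cfsg.leechLattice | Cfsg.sqNorm (x : Cfsg.GolayPt → ℤ) = 32 ∧ Cfsg.dotInt (v : Cfsg.GolayPt → ℤ) (x : Cfsg.GolayPt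 → ℤ) = 24 ∧ Cfsg.dotInt (w : Cfsg.GolayPt → ℤ) (x : Cfsg.GolayPt → ℤ) = -24} ∧ y ≠ x ∧ Cfsg.dotInt (x : Cfsg.GolayPt → ℤ) (y : Cfsg.GolayPt → ℤ) ≠ 8}.ncard = 77 ∧ ∀ y ∈ {x : ↥Cfsg.leechLattice | Cfsg.sqNorm (x : Cfsg.GolayPt → ℤ) = 32 ∧ Cfsg.dotInt (v : Cfsg.GolayPt → ℤ) (x : Cfsg.GolayPt → ℤ) = 24 ∧ Cfsg.dotInt (w : Cfsg.GolayPt → ℤ) (x : Cfsg.GolayPt → ℤ) = -24}, ∀ y' ∈ {x : ↥Cfsg.leechLattice | Cfsg.sqNorm (x : Cfsg.GolayPt → ℤ) = 32 ∧ Cfsg.dotInt (v : Cfsg.GolayPt → ℤ) (x : Cfsg.GolayPt → ℤ) = 24 ∧ Cfsg.dotInt (w : Cfsg.GolayPt → ℤ) (x : Cfsg.GolayPt → ℤ) = -24}, y ≠ x → y' ≠ x → (Cfsg.dotInt (x : Cfsg.GolayPt → ℤ) (y : Cfsg.GolayPt → ℤ) = 8 ↔ Cfsg.dotInt (x : Cfsg.GolayPt → ℤ) (y' : Cfsg.GolayPt → ℤ) = 8) → ∃ g : ↥Cfsg.Co0, g • v = v ∧ g • w = w ∧ g • x = x ∧ g • y = y' := by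
  obtain ⟨h, hh1, hh2, hh3⟩ := std_triple v w x hv hw hvw hx
  have keyA : ∀ y : leechLattice,
      (sqNorm (y : GolayPt → ℤ) = 32 ∧ dotInt (v : GolayPt → ℤ) (y : GolayPt → ℤ) = 24 ∧
        dotInt (w : GolayPt → ℤ) (y : GolayPt → ℤ) = -24) ↔
      (sqNorm ((h • y : leechLattice) : GolayPt → ℤ) = 32 ∧
        dotInt d₀ ((h • y : leechLattice) : GolayPt → ℤ) = 24 ∧
        dotInt Cfsg.Spor.vecU' ((h • y : leechLattice) : GolayPt → ℤ) = 0) := by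
    intro y
    rw [smul_norm h y, ← hh1, ← hh2, smul_dot, smul_dot, coe_add', dot_add_left]
    constructor
    · rintro ⟨a, b, c⟩; exact ⟨a, b, by omega⟩
    · rintro ⟨a, b, c⟩; exact ⟨a, b, by omega⟩
  have keyX : ∀ y : leechLattice, dotInt (x : GolayPt → ℤ) (y : GolayPt → ℤ) =
      dotInt Cfsg.Spor.vecU ((h • y : leechLattice) : GolayPt → ℤ) := by
    intro y; rw [← hh3, smul_dot]
  have hxx : dotInt (x : GolayPt → ℤ) (x : GolayPt → ℤ) = 32 := by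
    rw [dot_self']; exact hx.1
  have hA := (Cfsg.Agent.S1583.result v w hv hw hvw).1
  have c8 : {y : ↥Cfsg.leechLattice | y ∈ {x : ↥Cfsg.leechLattice |
      Cfsg.sqNorm (x : Cfsg.GolayPt → ℤ) = 32 ∧
      Cfsg.dotInt (v : Cfsg.GolayPt → ℤ) (x : Cfsg.GolayPt → ℤ) = 24 ∧
      Cfsg.dotInt (w : Cfsg.GolayPt → ℤ) (x : Cfsg.GolayPt → ℤ) = -24} ∧
      Cfsg.dotInt (x : Cfsg.GolayPt → ℤ) (y : Cfsg.GolayPt → ℤ) = 8}.ncard = 22 := by
    refine count_via h _ (fun z => dotInt d₀ z = 24 ∧ dotInt Cfsg.Spor.vecU' z = 0 ∧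
      dotInt Cfsg.Spor.vecU z = 8) 22 (fun y => ?_) (EnC9a.census _ cond_iff_a)
    show (_ ∧ _) ↔ _
    rw [keyX y]
    constructor
    · rintro ⟨a, b⟩
      obtain ⟨a1, a2, a3⟩ := (keyA y).1 a
      exact ⟨a1, a2, a3, b⟩
    · rintro ⟨a1, a2, a3, b⟩
      exact ⟨(keyA y).2 ⟨a1, a2, a3⟩, b⟩
  have c16 : {y : ↥Cfsg.leechLattice | y ∈ {x : ↥Cfsg.leechLattice |
      Cfsg.sqNorm (x : Cfsg.GolayPt → ℤ) = 32 ∧
      Cfsg.dotInt (v : Cfsg.GolayPt → ℤ) (x : Cfsg.GolayPt → ℤ) = 24 ∧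
      Cfsg.dotInt (w : Cfsg.GolayPt → ℤ) (x : Cfsg.GolayPt → ℤ) = -24} ∧
      Cfsg.dotInt (x : Cfsg.GolayPt → ℤ) (y : Cfsg.GolayPt → ℤ) = 16}.ncard = 77 := by
    refine count_via h _ (fun z => dotInt d₀ z = 24 ∧ dotInt Cfsg.Spor.vecU' z = 0 ∧
      dotInt Cfsg.Spor.vecU z = 16) 77 (fun y => ?_) (EnC9b.census _ cond_iff_b)
    show (_ ∧ _) ↔ _
    rw [keyX y]
    constructor
    · rintro ⟨a, b⟩
      obtain ⟨a1, a2, a3⟩ := (keyA y).1 a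
      exact ⟨a1, a2, a3, b⟩
    · rintro ⟨a1, a2, a3, b⟩
      exact ⟨(keyA y).2 ⟨a1, a2, a3⟩, b⟩
  have hcov := cover3 _ _ _ x 22 77 (by rw [hA]) hx
    (fun z hz => hz.1) (fun z hz => hz.1)
    (fun hz => by have := hz.2; rw [hxx] at this; norm_num at this)
    (fun hz => by have := hz.2; rw [hxx] at this; norm_num at this)
    (Set.disjoint_left.mpr (fun z hz1 hz2 => by
      have a := hz1.2; have b := hz2.2; rw [a] at b; norm_num at b))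
    c8 c16
  have e77 : {y : ↥Cfsg.leechLattice | y ∈ {x : ↥Cfsg.leechLattice |
      Cfsg.sqNorm (x : Cfsg.GolayPt → ℤ) = 32 ∧
      Cfsg.dotInt (v : Cfsg.GolayPt → ℤ) (x : Cfsg.GolayPt → ℤ) = 24 ∧
      Cfsg.dotInt (w : Cfsg.GolayPt → ℤ) (x : Cfsg.GolayPt → ℤ) = -24} ∧ y ≠ x ∧
      Cfsg.dotInt (x : Cfsg.GolayPt → ℤ) (y : Cfsg.GolayPt → ℤ) ≠ 8} =
      {y : ↥Cfsg.leechLattice | y ∈ {x : ↥Cfsg.leechLattice |
      Cfsg.sqNorm (x : Cfsg.GolayPt → ℤ) = 32 ∧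
      Cfsg.dotInt (v : Cfsg.GolayPt → ℤ) (x : Cfsg.GolayPt → ℤ) = 24 ∧
      Cfsg.dotInt (w : Cfsg.GolayPt → ℤ) (x : Cfsg.GolayPt → ℤ) = -24} ∧
      Cfsg.dotInt (x : Cfsg.GolayPt → ℤ) (y : Cfsg.GolayPt → ℤ) = 16} := by
    ext y
    constructor
    · rintro ⟨a, b, c⟩
      rcases hcov y a with h0 | h8 | h16
      · exact absurd h0 b
      · exact absurd h8.2 c
      · exact h16
    · rintro ⟨a, b⟩
      refine ⟨a, ?_, ?_⟩
      · rintro rfl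
        rw [hxx] at b; norm_num at b
      · intro c
        rw [b] at c; norm_num at c
  refine ⟨c8, by rw [e77]; exact c16, ?_⟩
  intro y hy y' hy' hyx hyx' hdot
  have fix : ∀ g : Co0, (∀ u' : leechLattice, ((h • u' : leechLattice) : GolayPt → ℤ) ∈
      [d₀, Cfsg.Spor.vecU', Cfsg.Spor.vecU] → g • u' = u') → g • v = v ∧ g • w = w ∧ g • x = x := by
    intro g hg
    have gv : g • v = v := hg v (by rw [hh1]; simp)
    have gm : g • (v + w) = v + w := hg (v + w) (by rw [hh2]; simp)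
    refine ⟨gv, ?_, hg x (by rw [hh3]; simp)⟩
    have e3 : w = (v + w) - v := by abel
    have e4 : g • w = g • ((v + w) - v) := by rw [← e3]
    rw [e4, LeechEnum.smul_sub, gm, gv]
    abel
  rcases hcov y hy with h0 | h8 | h16
  · exact absurd h0 hyx
  · have b : dotInt (x : GolayPt → ℤ) (y : GolayPt → ℤ) = 8 := h8.2
    have b' : dotInt (x : GolayPt → ℤ) (y' : GolayPt → ℤ) = 8 := hdot.1 b
    obtain ⟨a1, a2, a3⟩ := (keyA y).1 hy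
    obtain ⟨a1', a2', a3'⟩ := (keyA y').1 hy'
    obtain ⟨g, hg1, hg2⟩ := stab_trans reach_a h y y'
      ⟨a1, a2, a3, by rw [← keyX y]; exact b⟩ ⟨a1', a2', a3', by rw [← keyX y']; exact b'⟩
    obtain ⟨f1, f2, f3⟩ := fix g hg1
    exact ⟨g, f1, f2, f3, hg2⟩
  · have b : dotInt (x : GolayPt → ℤ) (y : GolayPt → ℤ) = 16 := h16.2
    have b' : dotInt (x : GolayPt → ℤ) (y' : GolayPt → ℤ) = 16 := by
      rcases hcov y' hy' with h0' | h8' | h16'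
      · exact absurd h0' hyx'
      · have := hdot.2 h8'.2
        rw [b] at this; norm_num at this
      · exact h16'.2
    obtain ⟨a1, a2, a3⟩ := (keyA y).1 hy
    obtain ⟨a1', a2', a3'⟩ := (keyA y').1 hy'
    obtain ⟨g, hg1, hg2⟩ := stab_trans reach_b h y y'
      ⟨a1, a2, a3, by rw [← keyX y]; exact b⟩ ⟨a1', a2', a3', by rw [← keyX y']; exact b'⟩
    obtain ⟨f1, f2, f3⟩ := fix g hg1
    exact ⟨g, f1, f2, f3, hg2⟩

end Cfsg.Agent.S1584
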