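import Cfsg.Statements.S1634
import Cfsg.Agent.Lib.Helper1.EnP13All
import Cfsg.Agent.Lib.Helper1.EnC13
import Cfsg.Agent.Lib.Helper1.EnP14aAll
import Cfsg.Agent.Lib.Helper1.EnC14a
import Cfsg.Agent.Lib.Helper1.EnP14bAll
import Cfsg.Agent.Lib.Helper1.EnC14b
import Cfsg.Agent.Lib.Helper1.EnP14cAll
import Cfsg.Agent.Lib.Helper1.EnC14c
import Cfsg.Agent.Lib.Helper1.LeechEnum11
import Cfsg.Agent.Lib.Helper1.LeechEnum13

set_option autoImplicit false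
open Cfsg

namespace Cfsg.Agent.S1634

open Cfsg.Agent.Lib.Helper1 Cfsg.Agent.Lib.Helper1.LeechEnum Cfsg.Agent.Lib.Helper1.LeechConn
  Cfsg.Agent.Lib.Helper1.LeechAut

theorem hY2 : ∀ y ∈ [pD0, pU], Good y := by
  intro y hy
  have : y = pD0 ∨ y = pU := by simpa using hy
  rcases this with rfl | rfl
  · exact good_pD0
  · exact good_pU

theorem hY3 : ∀ y ∈ [pD0, pU, pU'], Good y := by
  intro y hy
  have : y = pD0 ∨ y = pU ∨ y = pU' := by simpa using hy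
  rcases this with rfl | rfl | rfl
  · exact good_pD0
  · exact good_pU
  · exact good_pU'

theorem cond_iff_13 (v : ℕ) (hv : v < 65536 ^ 24) (hg : Good v) :
    EnP13.prob.cond v = true ↔
      (dotInt d₀ (vec v) = 16 ∧ dotInt Cfsg.Spor.vecU (vec v) = 0) := by
  have h2 := dot_d0 v
  rw [sum_flds hv hg] at h2
  have h3 := dot_vecU v
  show (Nat.beq (v % 65535 + 4 * fld 23 v) 7184 && Nat.beq (fld 23 v + fld 0 v) 512) = true ↔ _
  rw [Bool.and_eq_true, nbeq_iff, nbeq_iff, h2, h3]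
  omega

theorem reach_13 (z : GolayPt → ℤ) (hz : z ∈ leechLattice)
    (hc : sqNorm z = 32 ∧ dotInt d₀ z = 16 ∧ dotInt Cfsg.Spor.vecU z = 0) :
    ReachG [d₀, Cfsg.Spor.vecU] z Cfsg.Spor.vecU' := by
  have h := (reach_of_checks hY2 EnP13.gens_ok ⟨_, EnP13.chkA_ok⟩ EnP13.all_ok hz hc.1
    (fun v hv hvz => (cond_iff_13 v hv (good_of hvz hz (by rw [hc.1]; norm_num))).2
      (by rw [hvz]; exact hc.2))).toG
  have e1 : EnP13.prob.Y.map vec = [d₀, Cfsg.Spor.vecU] := by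
    show [vec pD0, vec pU] = _
    rw [vec_pD0, vec_pU]
  have e2 : vec EnP13.prob.z0 = Cfsg.Spor.vecU' := by
    show vec pU' = _
    exact vec_pU'
  rwa [e1, e2] at h

/-- the common shape of the three suborbit problems -/
theorem reach_gen (P : Prob) (hPY : P.Y = [pD0, pU, pU']) (hG : gensOK P.Y P.G = true)
    (hA : ∃ cert, chkA P cert = true) (hall : ∀ c < 4096, ∃ cert, chkChunk P c cert = true)
    (s : ℤ)
    (hcond : ∀ v, v < 65536 ^ 24 → Good v → (P.cond v = true ↔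
      (dotInt d₀ (vec v) = 16 ∧ dotInt Cfsg.Spor.vecU (vec v) = 0 ∧
        dotInt Cfsg.Spor.vecU' (vec v) = s)))
    (z : GolayPt → ℤ) (hz : z ∈ leechLattice)
    (hc : sqNorm z = 32 ∧ dotInt d₀ z = 16 ∧ dotInt Cfsg.Spor.vecU z = 0 ∧
      dotInt Cfsg.Spor.vecU' z = s) :
    ReachG [d₀, Cfsg.Spor.vecU, Cfsg.Spor.vecU'] z (vec P.z0) := by
  have h := (reach_of_checks (by rw [hPY]; exact hY3) hG hA hall hz hc.1
    (fun v hv hvz => (hcond v hv (good_of hvz hz (by rw [hc.1]; norm_num))).2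
      (by rw [hvz]; exact hc.2))).toG
  have e1 : P.Y.map vec = [d₀, Cfsg.Spor.vecU, Cfsg.Spor.vecU'] := by
    rw [hPY]
    show [vec pD0, vec pU, vec pU'] = _
    rw [vec_pD0, vec_pU, vec_pU']
  rwa [e1] at h

theorem cond_iff_a (v : ℕ) (hv : v < 65536 ^ 24) (hg : Good v) :
    EnP14a.prob.cond v = true ↔
      (dotInt d₀ (vec v) = 16 ∧ dotInt Cfsg.Spor.vecU (vec v) = 0 ∧
        dotInt Cfsg.Spor.vecU' (vec v) = 0) := by
  have h2 := dot_d0 v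
  rw [sum_flds hv hg] at h2
  have h3 := dot_vecU v
  have h4 := dot_vecU' v
  show ((Nat.beq (v % 65535 + 4 * fld 23 v) 7184 && Nat.beq (fld 23 v + fld 0 v) 512) &&
    Nat.beq (fld 23 v) (fld 0 v + 0)) = true ↔ _
  rw [Bool.and_eq_true, Bool.and_eq_true, nbeq_iff, nbeq_iff, nbeq_iff, h2, h3, h4]
  omega

theorem cond_iff_b (v : ℕ) (hv : v < 65536 ^ 24) (hg : Good v) :
    EnP14b.prob.cond v = true ↔
      (dotInt d₀ (vec v) = 16 ∧ dotInt Cfsg.Spor.vecU (vec v) = 0 ∧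
        dotInt Cfsg.Spor.vecU' (vec v) = 16) := by
  have h2 := dot_d0 v
  rw [sum_flds hv hg] at h2
  have h3 := dot_vecU v
  have h4 := dot_vecU' v
  show ((Nat.beq (v % 65535 + 4 * fld 23 v) 7184 && Nat.beq (fld 23 v + fld 0 v) 512) &&
    Nat.beq (fld 23 v) (fld 0 v + 4)) = true ↔ _
  rw [Bool.and_eq_true, Bool.and_eq_true, nbeq_iff, nbeq_iff, nbeq_iff, h2, h3, h4]
  omega

theorem cond_iff_c (v : ℕ) (hv : v < 65536 ^ 24) (hg : Good v) :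
    EnP14c.prob.cond v = true ↔
      (dotInt d₀ (vec v) = 16 ∧ dotInt Cfsg.Spor.vecU (vec v) = 0 ∧
        dotInt Cfsg.Spor.vecU' (vec v) = 8) := by
  have h2 := dot_d0 v
  rw [sum_flds hv hg] at h2
  have h3 := dot_vecU v
  have h4 := dot_vecU' v
  show ((Nat.beq (v % 65535 + 4 * fld 23 v) 7184 && Nat.beq (fld 23 v + fld 0 v) 512) &&
    Nat.beq (fld 23 v) (fld 0 v + 2)) = true ↔ _
  rw [Bool.and_eq_true, Bool.and_eq_true, nbeq_iff, nbeq_iff, nbeq_iff, h2, h3, h4]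
  omega

theorem norm_add' (x y : GolayPt → ℤ) :
    sqNorm (x + y) = sqNorm x + sqNorm y + 2 * dotInt x y := by
  unfold sqNorm dotInt
  rw [Finset.mul_sum, ← Finset.sum_add_distrib, ← Finset.sum_add_distrib]
  apply Finset.sum_congr rfl
  intro i _
  simp only [Pi.add_apply]
  ring

/-- the 2025 -/
def Aset (v w : leechLattice) : Set leechLattice :=
  {x | sqNorm (x : GolayPt → ℤ) = 32 ∧ dotInt (v : GolayPt → ℤ) (x : GolayPt → ℤ) = 0 ∧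
    dotInt (w : GolayPt → ℤ) (x : GolayPt → ℤ) = 16}

/-- membership in the 2025 in standard position -/
theorem keyA {v w : leechLattice} {h : Co0}
    (hh1 : ((h • (v + w) : leechLattice) : GolayPt → ℤ) = d₀)
    (hh2 : ((h • v : leechLattice) : GolayPt → ℤ) = Cfsg.Spor.vecU) (y : leechLattice) :
    y ∈ Aset v w ↔
      (sqNorm ((h • y : leechLattice) : GolayPt → ℤ) = 32 ∧
        dotInt d₀ ((h • y : leechLattice) : GolayPt → ℤ) = 16 ∧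
        dotInt Cfsg.Spor.vecU ((h • y : leechLattice) : GolayPt → ℤ) = 0) := by
  show (_ ∧ _ ∧ _) ↔ _
  rw [smul_norm h y, ← hh1, ← hh2, smul_dot, smul_dot, coe_add', dot_add_left]
  constructor
  · rintro ⟨a, b, c⟩; exact ⟨a, by omega, b⟩
  · rintro ⟨a, b, c⟩; exact ⟨a, c, by omega⟩

/-- the level sets of the inner product with `x` inside the 2025 -/
def Lset (v w x : leechLattice) (t : ℤ) : Set leechLattice :=
  {y | y ∈ Aset v w ∧ dotInt (x : GolayPt → ℤ) (y : GolayPt → ℤ) = t}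

theorem conds {v w x : leechLattice} {h : Co0}
    (hh1 : ((h • (v + w) : leechLattice) : GolayPt → ℤ) = d₀)
    (hh2 : ((h • v : leechLattice) : GolayPt → ℤ) = Cfsg.Spor.vecU)
    (hh3 : ((h • x : leechLattice) : GolayPt → ℤ) = Cfsg.Spor.vecU') (t : ℤ)
    (y : leechLattice) : y ∈ Lset v w x t ↔
      (sqNorm ((h • y : leechLattice) : GolayPt → ℤ) = 32 ∧
        (dotInt d₀ ((h • y : leechLattice) : GolayPt → ℤ) = 16 ∧
        dotInt Cfsg.Spor.vecU ((h • y : leechLattice) : GolayPt → ℤ) = 0 ∧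
        dotInt Cfsg.Spor.vecU' ((h • y : leechLattice) : GolayPt → ℤ) = t)) := by
  show (_ ∧ _) ↔ _
  rw [keyA hh1 hh2 y, ← hh3, smul_dot]
  constructor
  · rintro ⟨⟨a, b, c⟩, d⟩; exact ⟨a, b, c, d⟩
  · rintro ⟨a, b, c, d⟩; exact ⟨⟨a, b, c⟩, d⟩

theorem orbit_eq {v w x : leechLattice} {h : Co0}
    (hh1 : ((h • (v + w) : leechLattice) : GolayPt → ℤ) = d₀)
    (hh2 : ((h • v : leechLattice) : GolayPt → ℤ) = Cfsg.Spor.vecU)
    (hh3 : ((h • x : leechLattice) : GolayPt → ℤ) = Cfsg.Spor.vecU') (t : ℤ)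
    (z0 : GolayPt → ℤ)
    (hr : ∀ z, z ∈ leechLattice → (sqNorm z = 32 ∧ dotInt d₀ z = 16 ∧
      dotInt Cfsg.Spor.vecU z = 0 ∧ dotInt Cfsg.Spor.vecU' z = t) →
      ReachG [d₀, Cfsg.Spor.vecU, Cfsg.Spor.vecU'] z z0)
    (y : leechLattice) (hy : y ∈ Lset v w x t) :
    MulAction.orbit ↥(MulAction.stabilizer ↥Cfsg.Co0 v ⊓ MulAction.stabilizer ↥Cfsg.Co0 w ⊓
      MulAction.stabilizer ↥Cfsg.Co0 x) y = Lset v w x t := by
  ext y'
  constructor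
  · rintro ⟨g, rfl⟩
    have gv : (g : Co0) • v = v := (Subgroup.mem_inf.mp (Subgroup.mem_inf.mp g.2).1).1
    have gw : (g : Co0) • w = w := (Subgroup.mem_inf.mp (Subgroup.mem_inf.mp g.2).1).2
    have gx : (g : Co0) • x = x := (Subgroup.mem_inf.mp g.2).2
    change ((g : Co0) • y) ∈ Lset v w x t
    have e1 := smul_dot (g : Co0) v y
    rw [gv] at e1
    have e2 := smul_dot (g : Co0) w y
    rw [gw] at e2
    have e3 := smul_dot (g : Co0) x y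
    rw [gx] at e3
    exact ⟨⟨by rw [smul_norm]; exact hy.1.1, by rw [e1]; exact hy.1.2.1,
      by rw [e2]; exact hy.1.2.2⟩, by rw [e3]; exact hy.2⟩
  · intro hy'
    obtain ⟨g, hg1, hg2⟩ := stab_trans hr h y y' ((conds hh1 hh2 hh3 t y).1 hy)
      ((conds hh1 hh2 hh3 t y').1 hy')
    have gu : g • (v + w) = v + w := hg1 (v + w) (by rw [hh1]; simp)
    have gv : g • v = v := hg1 v (by rw [hh2]; simp)
    have gx : g • x = x := hg1 x (by rw [hh3]; simp)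
    have gw : g • w = w := by
      have e3 : w = (v + w) - v := by abel
      have e4 : g • w = g • ((v + w) - v) := by rw [← e3]
      rw [e4, LeechEnum.smul_sub, gu, gv]
      abel
    exact ⟨⟨g, Subgroup.mem_inf.mpr ⟨Subgroup.mem_inf.mpr ⟨gv, gw⟩, gx⟩⟩, hg2⟩

/-- The McLaughlin group acts on 2025 points (minimal vectors orthogonal to v with customary inner product 2 with w) transitively with rank 4 and subdegrees 1, 330, 462, 1232. -/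
theorem result (v w : ↥Cfsg.leechLattice) (hv : Cfsg.sqNorm (v : Cfsg.GolayPt → ℤ) = 32) (hw : Cfsg.sqNorm (w : Cfsg.GolayPt → ℤ) = 32) (hvw : Cfsg.dotInt (v : Cfsg.GolayPt → ℤ) (w : Cfsg.GolayPt → ℤ) = -8) : {x : ↥Cfsg.leechLattice | Cfsg.sqNorm (x : Cfsg.GolayPt → ℤ) = 32 ∧ Cfsg.dotInt (v : Cfsg.GolayPt → ℤ) (x : Cfsg.GolayPt → ℤ) = 0 ∧ Cfsg.dotInt (w : Cfsg.GolayPt → ℤ) (x : Cfsg.GolayPt → ℤ) = 16}.ncard = 2025 ∧ (∀ x ∈ {x : ↥Cfsg.leechLattice | Cfsg.sqNorm (x : Cfsg.GolayPt → ℤ) = 32 ∧ Cfsg.dotInt (v : Cfsg.GolayPt → ℤ) (x : Cfsg.GolayPt → ℤ) = 0 ∧ Cfsg.dotInt (w : Cfsg.GolayPt → ℤ) (x : Cfsg.GolayPt → ℤ) = 16}, ∀ x' ∈ {x : ↥Cfsg.leechLattice | Cfsg.sqNorm (x : Cfsg.GolayPt → ℤ) = 32 ∧ Cfsg.dotInt (v : Cfsg.GolayPt → ℤ) (x : Cfsg.GolayPt → ℤ) = 0 ∧ Cfsg.dotInt (w : Cfsg.GolayPt → ℤ) (x : Cfsg.GolayPt → ℤ) = 16}, ∃ g : ↥Cfsg.Co0, g • v = v ∧ g • w = w ∧ g • x =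 x') ∧ ∀ x ∈ {x : ↥Cfsg.leechLattice | Cfsg.sqNorm (x : Cfsg.GolayPt → ℤ) = 32 ∧ Cfsg.dotInt (v : Cfsg.GolayPt → ℤ) (x : Cfsg.GolayPt → ℤ) = 0 ∧ Cfsg.dotInt (w : Cfsg.GolayPt → ℤ) (x : Cfsg.GolayPt → ℤ) = 16}, ∃ y₁ ∈ {x : ↥Cfsg.leechLattice | Cfsg.sqNorm (x : Cfsg.GolayPt → ℤ) = 32 ∧ Cfsg.dotInt (v : Cfsg.GolayPt → ℤ) (x : Cfsg.GolayPt → ℤ) = 0 ∧ Cfsg.dotInt (w : Cfsg.GolayPt → ℤ) (x : Cfsg.GolayPt → ℤ) = 16}, ∃ y₂ ∈ {x : ↥Cfsg.leechLattice | Cfsg.sqNorm (x : Cfsg.GolayPt → ℤ) = 32 ∧ Cfsg.dotInt (v : Cfsg.GolayPt → ℤ) (x : Cfsg.GolayPt → ℤ) = 0 ∧ Cfsg.dotInt (w : Cfsg.GolayPt → ℤ) (x : Cfsg.GolayPt → ℤ) = 16}, ∃ y₃ ∈ {x : ↥Cfsg.leechLattice | Cfsg.sqNorm (x : Cfsg.GolayPt → ℤ) = 32 ∧ Cfsg.dotInt (v : Cfsg.GolayPt → ℤ) (x : Cfsg.GolayPt → ℤ) = 0 ∧ Cfsg.dotInt (w : Cfsg.GolayPt → ℤ) (x : Cfsg.GolayPt → ℤ) = 16}, (MulAction.orbit ↥(MulAction.stabilizer ↥Cfsg.Co0 v ⊓ MulAction.stabilizer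 ↥Cfsg.Co0 w ⊓ MulAction.stabilizer ↥Cfsg.Co0 x) y₁).ncard = 330 ∧ (MulAction.orbit ↥(MulAction.stabilizer ↥Cfsg.Co0 v ⊓ MulAction.stabilizer ↥Cfsg.Co0 w ⊓ MulAction.stabilizer ↥Cfsg.Co0 x) y₂).ncard = 462 ∧ (MulAction.orbit ↥(MulAction.stabilizer ↥Cfsg.Co0 v ⊓ MulAction.stabilizer ↥Cfsg.Co0 w ⊓ MulAction.stabilizer ↥Cfsg.Co0 x) y₃).ncard = 1232 := by
  have hu1 : sqNorm ((v + w : leechLattice) : GolayPt → ℤ) = 48 := by
    rw [coe_add', norm_add', hv, hw, hvw]; norm_num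
  have hu2 : sqNorm (((v + w : leechLattice) : GolayPt → ℤ) - (v : GolayPt → ℤ)) = 32 := by
    have : ((v + w : leechLattice) : GolayPt → ℤ) - (v : GolayPt → ℤ) = (w : GolayPt → ℤ) := by
      rw [coe_add']; abel
    rw [this, hw]
  obtain ⟨h, hh1, hh2⟩ := std_pair_A (v + w) v hu1 ⟨hv, hu2⟩
  have hcount : (Aset v w).ncard = 2025 :=
    count_via h _ (fun z => dotInt d₀ z = 16 ∧ dotInt Cfsg.Spor.vecU z = 0) 2025
      (fun y => keyA hh1 hh2 y) (EnC13.census _ cond_iff_13)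
  have fixvw : ∀ g : Co0, g • (v + w) = v + w → g • v = v → g • w = w := by
    intro g gu gv
    have e3 : w = (v + w) - v := by abel
    have e4 : g • w = g • ((v + w) - v) := by rw [← e3]
    rw [e4, LeechEnum.smul_sub, gu, gv]
    abel
  have htrans : ∀ x ∈ Aset v w, ∀ x' ∈ Aset v w,
      ∃ g : ↥Cfsg.Co0, g • v = v ∧ g • w = w ∧ g • x = x' := by
    intro x hx x' hx'
    obtain ⟨g, hg1, hg2⟩ := stab_trans reach_13 h x x' ((keyA hh1 hh2 x).1 hx)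
      ((keyA hh1 hh2 x').1 hx')
    have gu : g • (v + w) = v + w := hg1 (v + w) (by rw [hh1]; simp)
    have gv : g • v = v := hg1 v (by rw [hh2]; simp)
    exact ⟨g, gv, fixvw g gu gv, hg2⟩
  refine ⟨hcount, htrans, ?_⟩
  intro x hx
  -- move `x` to the standard point
  obtain ⟨g0, hg0Y, hg0⟩ := reach_13 _ (h • x).2 ((keyA hh1 hh2 x).1 hx)
  have k1 : (((g0 * h) • (v + w) : leechLattice) : GolayPt → ℤ) = d₀ := by
    rw [mul_smul, hg0Y d₀ (by simp) (h • (v + w)) hh1, hh1]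
  have k2 : (((g0 * h) • v : leechLattice) : GolayPt → ℤ) = Cfsg.Spor.vecU := by
    rw [mul_smul, hg0Y Cfsg.Spor.vecU (by simp) (h • v) hh2, hh2]
  have k3 : (((g0 * h) • x : leechLattice) : GolayPt → ℤ) = Cfsg.Spor.vecU' := by
    rw [mul_smul]; exact hg0 (h • x) rfl
  have c1 : (Lset v w x 0).ncard = 330 :=
    count_via (g0 * h) _ (fun z => dotInt d₀ z = 16 ∧ dotInt Cfsg.Spor.vecU z = 0 ∧
      dotInt Cfsg.Spor.vecU' z = 0) 330
      (fun y => conds k1 k2 k3 0 y) (EnC14a.census _ cond_iff_a)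
  have c2 : (Lset v w x 16).ncard = 462 :=
    count_via (g0 * h) _ (fun z => dotInt d₀ z = 16 ∧ dotInt Cfsg.Spor.vecU z = 0 ∧
      dotInt Cfsg.Spor.vecU' z = 16) 462
      (fun y => conds k1 k2 k3 16 y) (EnC14b.census _ cond_iff_b)
  have c3 : (Lset v w x 8).ncard = 1232 :=
    count_via (g0 * h) _ (fun z => dotInt d₀ z = 16 ∧ dotInt Cfsg.Spor.vecU z = 0 ∧
      dotInt Cfsg.Spor.vecU' z = 8) 1232
      (fun y => conds k1 k2 k3 8 y) (EnC14c.census _ cond_iff_c)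
  obtain ⟨y1, hy1⟩ := Set.nonempty_of_ncard_ne_zero (s := Lset v w x 0) (by rw [c1]; norm_num)
  obtain ⟨y2, hy2⟩ := Set.nonempty_of_ncard_ne_zero (s := Lset v w x 16) (by rw [c2]; norm_num)
  obtain ⟨y3, hy3⟩ := Set.nonempty_of_ncard_ne_zero (s := Lset v w x 8) (by rw [c3]; norm_num)
  have o1 := orbit_eq k1 k2 k3 0 _ (fun z hz hc => reach_gen EnP14a.prob rfl EnP14a.gens_ok
    ⟨_, EnP14a.chkA_ok⟩ EnP14a.all_ok 0 cond_iff_a z hz hc) y1 hy1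
  have o2 := orbit_eq k1 k2 k3 16 _ (fun z hz hc => reach_gen EnP14b.prob rfl EnP14b.gens_ok
    ⟨_, EnP14b.chkA_ok⟩ EnP14b.all_ok 16 cond_iff_b z hz hc) y2 hy2
  have o3 := orbit_eq k1 k2 k3 8 _ (fun z hz hc => reach_gen EnP14c.prob rfl EnP14c.gens_ok
    ⟨_, EnP14c.chkA_ok⟩ EnP14c.all_ok 8 cond_iff_c z hz hc) y3 hy3
  refine ⟨y1, hy1.1, y2, hy2.1, y3, hy3.1, ?_⟩
  rw [o1, o2, o3]
  exact ⟨c1, c2, c3⟩

end Cfsg.Agent.S1634
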