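import Cfsg.Statements.S0404
import Cfsg.Agent.Lib.Helper1.ConwayOrd2
import Cfsg.Agent.Lib.Helper1.PrimSimple6
import Cfsg.Agent.S1634

set_option autoImplicit false
open Cfsg

namespace Cfsg.Agent.S0404

open MulAction Cfsg.Agent.Lib.Helper1 Cfsg.Agent.Lib.Helper1.LeechEnum
  Cfsg.Agent.Lib.Helper1.LeechConn Cfsg.Agent.Lib.Helper1.LeechAut
  Cfsg.Agent.Lib.Helper1.PrimSimple Cfsg.Agent.Lib.Helper1.ConwayOrd

/-- the suborbit sizes -/
def nn : Fin 3 → ℕ := ![330, 462, 1232]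

theorem hprim : ∀ I : Finset (Fin 3), (1 + ∑ i ∈ I, nn i) ∣ (1 + ∑ i, nn i) →
    (∑ i ∈ I, nn i = 0) ∨ (∑ i ∈ I, nn i = ∑ i, nn i) := by decide

theorem hreg : ∀ c : Fin 3 → ℕ, ¬ ∀ p, p.Prime → p ∣ (1 + ∑ i, nn i) →
    p ∣ (∑ i ∈ Finset.univ.filter (fun i => c i = p), nn i) + 1 := by
  intro c h
  have h3 := h 3 Nat.prime_three (by decide)
  have h5 := h 5 (by norm_num) (by decide)
  simp only [Finset.sum_filter, Fin.sum_univ_three, nn, Matrix.cons_val_zero,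
    Matrix.cons_val_one, Matrix.cons_val_two] at h3 h5
  split_ifs at h3 h5 <;> omega

theorem stab_eq : stabilizer Co0 U0 ⊓ stabilizer Co0 (ConwayOrd.D0 - U0) ⊓ stabilizer Co0 U1 = K0 := by
  ext g
  rw [mem_K0, Subgroup.mem_inf, Subgroup.mem_inf, mem_stabilizer_iff, mem_stabilizer_iff,
    mem_stabilizer_iff]
  constructor
  · rintro ⟨⟨a, b⟩, c⟩
    refine ⟨?_, c, a⟩
    have e : ConwayOrd.D0 = (ConwayOrd.D0 - U0) + U0 := by abel
    rw [e, smul_add', a, b]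
  · rintro ⟨a, b, c⟩
    refine ⟨⟨c, ?_⟩, b⟩
    rw [LeechEnum.smul_sub, a, c]

/-- the stabiliser of a point of the 2025 in the McLaughlin stabiliser is simple -/
theorem mcl_point_simple (v w x : leechLattice) (hv : sqNorm (v : GolayPt → ℤ) = 32)
    (hw : sqNorm (w : GolayPt → ℤ) = 32)
    (hvw : dotInt (v : GolayPt → ℤ) (w : GolayPt → ℤ) = -8)
    (hx : x ∈ Cfsg.Agent.S1634.Aset v w) :
    IsSimpleGroup ↥(stabilizer Co0 v ⊓ stabilizer Co0 w ⊓ stabilizer Co0 x) := by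
  have hu1 : sqNorm ((v + w : leechLattice) : GolayPt → ℤ) = 48 := by
    rw [coe_add', Cfsg.Agent.S1634.norm_add', hv, hw, hvw]; norm_num
  have hu2 : sqNorm (((v + w : leechLattice) : GolayPt → ℤ) - (v : GolayPt → ℤ)) = 32 := by
    have : ((v + w : leechLattice) : GolayPt → ℤ) - (v : GolayPt → ℤ) = (w : GolayPt → ℤ) := by
      rw [coe_add']; abel
    rw [this, hw]
  obtain ⟨h, hh1, hh2⟩ := std_pair_A (v + w) v hu1 ⟨hv, hu2⟩
  obtain ⟨g0, hg0Y, hg0⟩ := Cfsg.Agent.S1634.reach_13 _ (h • x).2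
    ((Cfsg.Agent.S1634.keyA hh1 hh2 x).1 hx)
  have k1 : (((g0 * h) • (v + w) : leechLattice) : GolayPt → ℤ) = d₀ := by
    rw [mul_smul, hg0Y d₀ (by simp) (h • (v + w)) hh1, hh1]
  have k2 : (((g0 * h) • v : leechLattice) : GolayPt → ℤ) = Cfsg.Spor.vecU := by
    rw [mul_smul, hg0Y Cfsg.Spor.vecU (by simp) (h • v) hh2, hh2]
  have k3 : (((g0 * h) • x : leechLattice) : GolayPt → ℤ) = Cfsg.Spor.vecU' := by
    rw [mul_smul]; exact hg0 (h • x) rfl
  apply conj_simple (g0 * h)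
  rw [map_conj_stab3]
  have e0 : (g0 * h) • (v + w) = ConwayOrd.D0 := Subtype.ext k1
  have e1 : (g0 * h) • v = U0 := Subtype.ext k2
  have e2 : (g0 * h) • w = ConwayOrd.D0 - U0 := by
    have e : (g0 * h) • w = (g0 * h) • (v + w) - (g0 * h) • v := by rw [smul_add']; abel
    rw [e, e0, e1]
  have e3 : (g0 * h) • x = U1 := Subtype.ext k3
  rw [e1, e2, e3, stab_eq]
  exact K0_simple

/-- Joint stabiliser of two minimal vectors with coordinate dot product −8 is simple of order 898128000. -/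
theorem result (v w : Cfsg.leechLattice) (hv : Cfsg.sqNorm (v : Cfsg.GolayPt → ℤ) = 32) (hw : Cfsg.sqNorm (w : Cfsg.GolayPt → ℤ) = 32) (hvw : Cfsg.dotInt (v : Cfsg.GolayPt → ℤ) (w : Cfsg.GolayPt → ℤ) = -8) : Cfsg.IsMcL ↥(MulAction.stabilizer Cfsg.Co0 v ⊓ MulAction.stabilizer Cfsg.Co0 w) := by
  refine ⟨?_, mcl_card v w hv hw hvw⟩
  obtain ⟨hA, hAt, hsub⟩ := Cfsg.Agent.S1634.result v w hv hw hvw
  obtain ⟨x, hx⟩ := Set.nonempty_of_ncard_ne_zero (by rw [hA]; norm_num)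
  obtain ⟨y1, hy1, y2, hy2, y3, hy3, c1, c2, c3⟩ := hsub x hx
  have hfin0 : Finite Co0 :=
    Nat.finite_of_card_ne_zero (by rw [Cfsg.Agent.S0397.result]; norm_num)
  have hfix : ∀ g : Co0, g ∈ stabilizer Co0 v ⊓ stabilizer Co0 w → ∀ z : leechLattice,
      (sqNorm ((g • z : leechLattice) : GolayPt → ℤ) = sqNorm (z : GolayPt → ℤ)) ∧
      dotInt (v : GolayPt → ℤ) ((g • z : leechLattice) : GolayPt → ℤ) =
        dotInt (v : GolayPt → ℤ) (z : GolayPt → ℤ) ∧
      dotInt (w : GolayPt → ℤ) ((g • z : leechLattice) : GolayPt → ℤ) =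
        dotInt (w : GolayPt → ℤ) (z : GolayPt → ℤ) := by
    intro g hg z
    have gv : g • v = v := (Subgroup.mem_inf.mp hg).1
    have gw : g • w = w := (Subgroup.mem_inf.mp hg).2
    have e1 := smul_dot g v z
    rw [gv] at e1
    have e2 := smul_dot g w z
    rw [gw] at e2
    exact ⟨smul_norm g z, e1, e2⟩
  have hne : ∀ y : leechLattice, ∀ n : ℕ,
      (orbit ↥(stabilizer Co0 v ⊓ stabilizer Co0 w ⊓ stabilizer Co0 x) y).ncard = n → n ≠ 1 →
      y ≠ x := by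
    rintro y n hn hn1 rfl
    apply hn1
    rw [← hn]
    have : orbit ↥(stabilizer Co0 v ⊓ stabilizer Co0 w ⊓ stabilizer Co0 y) y = {y} := by
      ext z
      constructor
      · rintro ⟨g, rfl⟩
        exact (Subgroup.mem_inf.mp g.2).2
      · rintro rfl
        exact mem_orbit_self _
    rw [this, Set.ncard_singleton]
  have D := subData_of_orbits (stabilizer Co0 v ⊓ stabilizer Co0 w) x
    {x : ↥Cfsg.leechLattice | Cfsg.sqNorm (x : Cfsg.GolayPt → ℤ) = 32 ∧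
      Cfsg.dotInt (v : Cfsg.GolayPt → ℤ) (x : Cfsg.GolayPt → ℤ) = 0 ∧
      Cfsg.dotInt (w : Cfsg.GolayPt → ℤ) (x : Cfsg.GolayPt → ℤ) = 16} 3
    ![y1, y2, y3] nn
    (fun g hg => by
      obtain ⟨a, b, c⟩ := hfix g hg x
      exact ⟨by rw [a]; exact hx.1, by rw [b]; exact hx.2.1, by rw [c]; exact hx.2.2⟩)
    (fun z hz => by
      obtain ⟨g, g1, g2, g3⟩ := hAt x hx z hz
      exact ⟨g, Subgroup.mem_inf.mpr ⟨g1, g2⟩, g3⟩)
    (fun i => by
      fin_cases i
      · exact hy1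
      · exact hy2
      · exact hy3)
    (fun i => by
      fin_cases i
      · exact hne y1 330 c1 (by norm_num)
      · exact hne y2 462 c2 (by norm_num)
      · exact hne y3 1232 c3 (by norm_num))
    (fun i => by
      fin_cases i
      · exact c1
      · exact c2
      · exact c3)
    (by decide)
    (by rw [hA]; decide)
  have hfin : Finite ↥(stabilizer Co0 v ⊓ stabilizer Co0 w) :=
    Nat.finite_of_card_ne_zero (by rw [mcl_card v w hv hw hvw]; norm_num)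
  have hH : IsSimpleGroup (stabilizer ↥(stabilizer Co0 v ⊓ stabilizer Co0 w) x) := by
    have := mcl_point_simple v w x hv hw hvw hx
    exact (stabEquiv (stabilizer Co0 v ⊓ stabilizer Co0 w) x).isSimpleGroup
  exact D.simple hH hprim ⟨0, by decide⟩ hreg

end Cfsg.Agent.S0404
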