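import Cfsg.Statements.S0402
import Cfsg.Agent.Lib.Helper1.ConwayOrd1
import Cfsg.Agent.Lib.Helper1.PrimSimple6
import Cfsg.Agent.Lib.Helper1.PrimSimple7
import Cfsg.Agent.Lib.Helper1.Co2Sub
import Cfsg.Agent.S0404

set_option autoImplicit false
open Cfsg

namespace Cfsg.Agent.S0402

open MulAction Cfsg.Agent.Lib.Helper1 Cfsg.Agent.Lib.Helper1.LeechEnum
  Cfsg.Agent.Lib.Helper1.LeechConn Cfsg.Agent.Lib.Helper1.LeechAut
  Cfsg.Agent.Lib.Helper1.PrimSimple Cfsg.Agent.Lib.Helper1.ConwayOrd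
  Cfsg.Agent.Lib.Helper1.Co2Sub

/-- the suborbit sizes -/
def nn : Fin 5 → ℕ := ![2025, 15400, 22275, 7128, 275]

theorem hprim : ∀ I : Finset (Fin 5), (1 + ∑ i ∈ I, nn i) ∣ (1 + ∑ i, nn i) →
    (∑ i ∈ I, nn i = 0) ∨ (∑ i ∈ I, nn i = ∑ i, nn i) := by decide

theorem div_aux (s : ℕ) (h1 : s ∣ 47104) (h2 : s % 23 = 1) : s = 1 ∨ s = 2048 := by
  have hs : s ∈ (Nat.divisors 47104).filter (fun s => s % 23 = 1) := by
    rw [Finset.mem_filter, Nat.mem_divisors]
    exact ⟨⟨h1, by norm_num⟩, h2⟩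
  have e : (Nat.divisors 47104).filter (fun s => s % 23 = 1) = {1, 2048} := by decide +kernel
  rw [e] at hs
  simpa using hs

theorem hreg : ∀ c : Fin 5 → ℕ, ¬ ∀ p, p.Prime → p ∣ (1 + ∑ i, nn i) →
      (p ∣ (∑ i ∈ Finset.univ.filter (fun i => c i = p), nn i) + 1) ∧
      (¬ p ^ 2 ∣ (1 + ∑ i, nn i) → ∃ s, s ∣ (1 + ∑ i, nn i) ∧ s % p = 1 ∧
        ∑ i ∈ Finset.univ.filter (fun i => c i = p), nn i = (p - 1) * s) := by
  intro c h
  obtain ⟨_, h23⟩ := h 23 (by norm_num) (by decide)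
  obtain ⟨s, hs1, hs2, hs3⟩ := h23 (by decide)
  have hm : (1 + ∑ i, nn i) = 47104 := by decide
  rw [hm] at hs1
  simp only [Finset.sum_filter, Fin.sum_univ_five, nn, Matrix.cons_val] at hs3
  rcases div_aux s hs1 hs2 with rfl | rfl
  · split_ifs at hs3 <;> omega
  · split_ifs at hs3 <;> omega

theorem card_A (v : leechLattice) (hv : sqNorm (v : GolayPt → ℤ) = 32) (x : leechLattice)
    (hx : x ∈ Aset v) : (Aset v).ncard = 47104 := by
  have h := card_of_orbit (stabilizer Co0 v) x (Aset v)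
    (fun g hg => by
      have gv : g • v = v := hg
      have e1 := smul_dot g v x
      rw [gv] at e1
      exact ⟨by rw [smul_norm]; exact hx.1, by rw [e1]; exact hx.2⟩)
    (fun z hz => by
      obtain ⟨g, g1, g2⟩ := Cfsg.Agent.S1575.result v x z hv hx.1 hz.1 hx.2 hz.2
      exact ⟨g, g1, g2⟩)
  rw [co2_card v hv, mcl_card v x hv hx.1 hx.2] at h
  omega

/-- Stabiliser of a minimal vector is simple of order 42305421312000. -/
theorem result (v : Cfsg.leechLattice) (hv : Cfsg.sqNorm (v : Cfsg.GolayPt → ℤ) = 32) : Cfsg.IsCo2 (MulAction.stabilizer Cfsg.Co0 v) := by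
  refine ⟨?_, co2_card v hv⟩
  -- a point of the 47104
  obtain ⟨h0, hh0⟩ := trans32 ⟨Cfsg.Spor.vecU, vecU_mem⟩ v vecU_norm hv
  have hx0 : ∃ x, x ∈ Aset v := by
    refine ⟨h0 • ((⟨d₀, d0_mem⟩ : leechLattice) - ⟨Cfsg.Spor.vecU, vecU_mem⟩), ?_, ?_⟩
    · rw [smul_norm, coe_sub'']
      exact d0_sub_vecU_norm
    · rw [← hh0, smul_dot, coe_sub'', dot_sub_right]
      show dotInt Cfsg.Spor.vecU d₀ - dotInt Cfsg.Spor.vecU Cfsg.Spor.vecU = -8
      rw [dot_self', vecU_norm, show dotInt Cfsg.Spor.vecU d₀ = 24 from by decide +kernel]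
      norm_num
  obtain ⟨x, hx⟩ := hx0
  have hA := card_A v hv x hx
  obtain ⟨⟨c1, c2, c3, c4, c5⟩, horb⟩ := suborbits v x hv hx.1 hx.2
  obtain ⟨y1, hy1⟩ := Set.nonempty_of_ncard_ne_zero (s := Lset v x 16) (by rw [c1]; norm_num)
  obtain ⟨y2, hy2⟩ := Set.nonempty_of_ncard_ne_zero (s := Lset v x 8) (by rw [c2]; norm_num)
  obtain ⟨y3, hy3⟩ := Set.nonempty_of_ncard_ne_zero (s := Lset v x 0) (by rw [c3]; norm_num)
  obtain ⟨y4, hy4⟩ := Set.nonempty_of_ncard_ne_zero (s := Lset v x (-8)) (by rw [c4]; norm_num)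
  obtain ⟨y5, hy5⟩ := Set.nonempty_of_ncard_ne_zero (s := Lset v x (-16)) (by rw [c5]; norm_num)
  have o1 := horb 16 (by norm_num) y1 hy1
  have o2 := horb 8 (by norm_num) y2 hy2
  have o3 := horb 0 (by norm_num) y3 hy3
  have o4 := horb (-8) (by norm_num) y4 hy4
  have o5 := horb (-16) (by norm_num) y5 hy5
  have hfin0 : Finite Co0 :=
    Nat.finite_of_card_ne_zero (by rw [Cfsg.Agent.S0397.result]; norm_num)
  have hxx : dotInt (x : GolayPt → ℤ) (x : GolayPt → ℤ) = 32 := by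
    rw [dot_self']; exact hx.1
  have D := subData_of_orbits (stabilizer Co0 v) x (Aset v) 5
    ![y1, y2, y3, y4, y5] nn
    (fun g hg => by
      have gv : g • v = v := hg
      have e1 := smul_dot g v x
      rw [gv] at e1
      exact ⟨by rw [smul_norm]; exact hx.1, by rw [e1]; exact hx.2⟩)
    (fun z hz => by
      obtain ⟨g, g1, g2⟩ := Cfsg.Agent.S1575.result v x z hv hx.1 hz.1 hx.2 hz.2
      exact ⟨g, g1, g2⟩)
    (fun i => by
      fin_cases i
      · exact hy1.1
      · exact hy2.1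
      · exact hy3.1
      · exact hy4.1
      · exact hy5.1)
    (fun i => by
      fin_cases i
      · intro h; have := hy1.2; rw [show y1 = x from h, hxx] at this; norm_num at this
      · intro h; have := hy2.2; rw [show y2 = x from h, hxx] at this; norm_num at this
      · intro h; have := hy3.2; rw [show y3 = x from h, hxx] at this; norm_num at this
      · intro h; have := hy4.2; rw [show y4 = x from h, hxx] at this; norm_num at this
      · intro h; have := hy5.2; rw [show y5 = x from h, hxx] at this; norm_num at this)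
    (fun i => by
      fin_cases i
      · show (orbit _ y1).ncard = _; rw [o1]; exact c1
      · show (orbit _ y2).ncard = _; rw [o2]; exact c2
      · show (orbit _ y3).ncard = _; rw [o3]; exact c3
      · show (orbit _ y4).ncard = _; rw [o4]; exact c4
      · show (orbit _ y5).ncard = _; rw [o5]; exact c5)
    (by decide)
    (by rw [hA]; decide)
  have hfin : Finite ↥(stabilizer Co0 v) :=
    Nat.finite_of_card_ne_zero (by rw [co2_card v hv]; norm_num)
  have hH : IsSimpleGroup (stabilizer ↥(stabilizer Co0 v) x) := by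
    have := (Cfsg.Agent.S0404.result v x hv hx.1 hx.2).1
    exact (stabEquiv (stabilizer Co0 v) x).isSimpleGroup
  exact D.simple' hH hprim ⟨0, by decide⟩ hreg

end Cfsg.Agent.S0402
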