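import Cfsg.Statements.S0399
import Cfsg.Agent.Lib.Helper1.ConwayCo1
import Cfsg.Agent.S0402

set_option autoImplicit false
open Cfsg

namespace Cfsg.Agent.S0399

open MulAction Cfsg.Agent.Lib.Helper1 Cfsg.Agent.Lib.Helper1.LeechEnum
  Cfsg.Agent.Lib.Helper1.LeechConn Cfsg.Agent.Lib.Helper1.LeechAut
  Cfsg.Agent.Lib.Helper1.PrimSimple Cfsg.Agent.Lib.Helper1.ConwayOrd
  Cfsg.Agent.Lib.Helper1.ConwayCo1

/-- the suborbit sizes -/
def nn : Fin 3 → ℕ := ![4600, 47104, 46575]

theorem hprim : ∀ I : Finset (Fin 3), (1 + ∑ i ∈ I, nn i) ∣ (1 + ∑ i, nn i) →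
    (∑ i ∈ I, nn i = 0) ∨ (∑ i ∈ I, nn i = ∑ i, nn i) := by decide

theorem hreg : ∀ c : Fin 3 → ℕ, ¬ ∀ p, p.Prime → p ∣ (1 + ∑ i, nn i) →
    p ∣ (∑ i ∈ Finset.univ.filter (fun i => c i = p), nn i) + 1 := by
  intro c h
  have h2 := h 2 Nat.prime_two (by decide)
  have h13 := h 13 (by norm_num) (by decide)
  simp only [Finset.sum_filter, Fin.sum_univ_three, nn, Matrix.cons_val] at h2 h13
  split_ifs at h2 h13 <;> omega

theorem card_quot : Nat.card (Co0 ⧸ Subgroup.center Co0) = 4157776806543360000 := by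
  have h := Subgroup.card_eq_card_quotient_mul_card_subgroup (Subgroup.center Co0)
  rw [Cfsg.Agent.S0397.result, card_center] at h
  omega

/-- Automorphism group of the lattice modulo its centre is simple of order 4157776806543360000. -/
theorem result : Cfsg.IsCo1 (Cfsg.Co0 ⧸ Subgroup.center Cfsg.Co0) := by
  refine ⟨?_, card_quot⟩
  have hfin0 : Finite Co0 :=
    Nat.finite_of_card_ne_zero (by rw [Cfsg.Agent.S0397.result]; norm_num)
  -- the base point
  let v : leechLattice := ⟨Cfsg.Spor.vecU, vecU_mem⟩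
  have hv : sqNorm (v : GolayPt → ℤ) = 32 := vecU_norm
  have hv0 : sqNorm (v : GolayPt → ℤ) ≠ 0 := by rw [hv]; norm_num
  obtain ⟨a, b, c⟩ := Lv_ncard v hv
  obtain ⟨w1, h1⟩ := Set.nonempty_of_ncard_ne_zero (s := Lv v (-16)) (by rw [a]; norm_num)
  obtain ⟨w2, h2⟩ := Set.nonempty_of_ncard_ne_zero (s := Lv v (-8)) (by rw [b]; norm_num)
  obtain ⟨w3, h3⟩ := Set.nonempty_of_ncard_ne_zero (s := Lv v 0) (by rw [c]; norm_num)
  obtain ⟨c1, c2, c3⟩ := suborbit_cards v w1 w2 w3 hv h1 h2 h3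
  have hvv : dotInt (v : GolayPt → ℤ) (v : GolayPt → ℤ) = 32 := by
    rw [dot_self']; exact hv
  have hne : ∀ (w : leechLattice) (t : ℤ), w ∈ Lv v t → t ≠ 32 → t ≠ -32 → P w ≠ P v := by
    intro w t hw ht1 ht2 h
    rcases (P_eq_iff v w).mp h with h | h
    · apply ht1
      rw [← hw.2, h, hvv]
    · apply ht2
      rw [← hw.2, h, coe_neg', dot_neg_right, hvv]
  have D := subData_of_orbits' (G := Co0 ⧸ Subgroup.center Co0) (P v)
    (P '' {w : leechLattice | sqNorm (w : GolayPt → ℤ) = 32}) 3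
    ![P w1, P w2, P w3] nn
    (fun q => by
      obtain ⟨g, rfl⟩ := QuotientGroup.mk_surjective q
      rw [mk_smul_P]
      refine ⟨g • v, ?_, rfl⟩
      show sqNorm ((g • v : leechLattice) : GolayPt → ℤ) = 32
      rw [smul_norm]; exact hv)
    (fun z hz => by
      obtain ⟨w, hw, rfl⟩ := hz
      obtain ⟨g, hg⟩ := trans32 v w hv hw
      refine ⟨QuotientGroup.mk g, ?_⟩
      rw [mk_smul_P, hg])
    (fun i => by
      fin_cases i
      · exact ⟨w1, h1.1, rfl⟩
      · exact ⟨w2, h2.1, rfl⟩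
      · exact ⟨w3, h3.1, rfl⟩)
    (fun i => by
      fin_cases i
      · exact hne w1 _ h1 (by norm_num) (by norm_num)
      · exact hne w2 _ h2 (by norm_num) (by norm_num)
      · exact hne w3 _ h3 (by norm_num) (by norm_num))
    (fun i => by
      fin_cases i
      · exact c1
      · exact c2
      · exact c3)
    (by decide)
    (by rw [image_M]; decide)
  have hH : IsSimpleGroup (stabilizer (Co0 ⧸ Subgroup.center Co0) (P v)) := by
    have := (Cfsg.Agent.S0402.result v hv).1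
    exact (MulEquiv.ofBijective (stabHom v) (stabHom_bijective v hv0)).symm.isSimpleGroup
  exact D.simple hH hprim ⟨0, by decide⟩ hreg

end Cfsg.Agent.S0399
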