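import Cfsg.Statements.S0405
import Cfsg.Agent.Lib.Helper1.ConwayOrd2

set_option autoImplicit false
open Cfsg

namespace Cfsg.Agent.S0405

open MulAction Cfsg.Agent.Lib.Helper1 Cfsg.Agent.Lib.Helper1.LeechEnum
  Cfsg.Agent.Lib.Helper1.LeechConn Cfsg.Agent.Lib.Helper1.LeechAut
  Cfsg.Agent.Lib.Helper1.PrimSimple Cfsg.Agent.Lib.Helper1.ConwayOrd

/-- the suborbit sizes -/
def nn : Fin 2 → ℕ := ![22, 77]

theorem hprim : ∀ I : Finset (Fin 2), (1 + ∑ i ∈ I, nn i) ∣ (1 + ∑ i, nn i) →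
    (∑ i ∈ I, nn i = 0) ∨ (∑ i ∈ I, nn i = ∑ i, nn i) := by decide

theorem hreg : ∀ c : Fin 2 → ℕ, ¬ ∀ p, p.Prime → p ∣ (1 + ∑ i, nn i) →
    p ∣ (∑ i ∈ Finset.univ.filter (fun i => c i = p), nn i) + 1 := by
  intro c h
  have h2 := h 2 Nat.prime_two (by decide)
  have h5 := h 5 (by norm_num) (by decide)
  simp only [Finset.sum_filter, Fin.sum_univ_two, nn, Matrix.cons_val_zero,
    Matrix.cons_val_one] at h2 h5
  split_ifs at h2 h5 <;> omega

/-- Joint stabiliser of two vectors of sum of squares 48 with coordinate dot product −32 is simple of order 44352000. -/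
theorem result (v w : Cfsg.leechLattice) (hv : Cfsg.sqNorm (v : Cfsg.GolayPt → ℤ) = 48) (hw : Cfsg.sqNorm (w : Cfsg.GolayPt → ℤ) = 48) (hvw : Cfsg.dotInt (v : Cfsg.GolayPt → ℤ) (w : Cfsg.GolayPt → ℤ) = -32) : Cfsg.IsHS ↥(MulAction.stabilizer Cfsg.Co0 v ⊓ MulAction.stabilizer Cfsg.Co0 w) := by
  refine ⟨?_, hs_card v w hv hw hvw⟩
  have hA := (Cfsg.Agent.S1583.result v w hv hw hvw).1
  have hAt := (Cfsg.Agent.S1583.result v w hv hw hvw).2
  obtain ⟨x, hx⟩ := Set.nonempty_of_ncard_ne_zero (by rw [hA]; norm_num)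
  obtain ⟨c8, c77, htr⟩ := Cfsg.Agent.S1584.result v w x hv hw hvw hx
  have hxx : dotInt (x : GolayPt → ℤ) (x : GolayPt → ℤ) = 32 := by
    rw [dot_self']; exact hx.1
  -- invariance of inner products under the stabiliser
  have hfix : ∀ g : Co0, g ∈ stabilizer Co0 v ⊓ stabilizer Co0 w → ∀ z : leechLattice,
      (sqNorm ((g • z : leechLattice) : GolayPt → ℤ) = sqNorm (z : GolayPt → ℤ)) ∧
      dotInt (v : GolayPt → ℤ) ((g • z : leechLattice) : GolayPt → ℤ) =
        dotInt (v : GolayPt → ℤ) (z : GolayPt → ℤ) ∧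
      dotInt (w : GolayPt → ℤ) ((g • z : leechLattice) : GolayPt → ℤ) =
        dotInt (w : GolayPt → ℤ) (z : GolayPt → ℤ) := by
    intro g hg z
    have gv : g • v = v := (Subgroup.mem_inf.mp hg).1
    have gw : g • w = w := (Subgroup.mem_inf.mp hg).2
    have e1 := smul_dot g v z
    rw [gv] at e1
    have e2 := smul_dot g w z
    rw [gw] at e2
    exact ⟨smul_norm g z, e1, e2⟩
  have hfixx : ∀ g : Co0, g • x = x → ∀ z : leechLattice,
      dotInt (x : GolayPt → ℤ) ((g • z : leechLattice) : GolayPt → ℤ) =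
        dotInt (x : GolayPt → ℤ) (z : GolayPt → ℤ) := by
    intro g gx z
    have e1 := smul_dot g x z
    rw [gx] at e1
    exact e1
  obtain ⟨y, D⟩ := subData_of_levels (stabilizer Co0 v ⊓ stabilizer Co0 w) x
    {x : ↥Cfsg.leechLattice | Cfsg.sqNorm (x : Cfsg.GolayPt → ℤ) = 32 ∧
      Cfsg.dotInt (v : Cfsg.GolayPt → ℤ) (x : Cfsg.GolayPt → ℤ) = 24 ∧
      Cfsg.dotInt (w : Cfsg.GolayPt → ℤ) (x : Cfsg.GolayPt → ℤ) = -24} 2
    ![{y : ↥Cfsg.leechLattice | y ∈ {x : ↥Cfsg.leechLattice |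
        Cfsg.sqNorm (x : Cfsg.GolayPt → ℤ) = 32 ∧
        Cfsg.dotInt (v : Cfsg.GolayPt → ℤ) (x : Cfsg.GolayPt → ℤ) = 24 ∧
        Cfsg.dotInt (w : Cfsg.GolayPt → ℤ) (x : Cfsg.GolayPt → ℤ) = -24} ∧
        Cfsg.dotInt (x : Cfsg.GolayPt → ℤ) (y : Cfsg.GolayPt → ℤ) = 8},
      {y : ↥Cfsg.leechLattice | y ∈ {x : ↥Cfsg.leechLattice |
        Cfsg.sqNorm (x : Cfsg.GolayPt → ℤ) = 32 ∧
        Cfsg.dotInt (v : Cfsg.GolayPt → ℤ) (x : Cfsg.GolayPt → ℤ) = 24 ∧
        Cfsg.dotInt (w : Cfsg.GolayPt → ℤ) (x : Cfsg.GolayPt → ℤ) = -24} ∧ y ≠ x ∧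
        Cfsg.dotInt (x : Cfsg.GolayPt → ℤ) (y : Cfsg.GolayPt → ℤ) ≠ 8}] nn
    (fun g hg => by
      obtain ⟨a, b, c⟩ := hfix g hg x
      exact ⟨by rw [a]; exact hx.1, by rw [b]; exact hx.2.1, by rw [c]; exact hx.2.2⟩)
    (fun z hz => by
      obtain ⟨g, g1, g2, g3⟩ := hAt x hx z hz
      exact ⟨g, Subgroup.mem_inf.mpr ⟨g1, g2⟩, g3⟩)
    (fun i => by
      fin_cases i
      · exact c8
      · exact c77)
    (fun i => by fin_cases i <;> decide)
    (fun z hz => by
      by_cases h1 : z = x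
      · left; exact h1
      · right
        by_cases h2 : dotInt (x : GolayPt → ℤ) (z : GolayPt → ℤ) = 8
        · exact ⟨0, hz, h2⟩
        · exact ⟨1, hz, h1, h2⟩)
    (fun i => by
      fin_cases i
      · exact fun z hz => hz.1
      · exact fun z hz => hz.1)
    (fun i => by
      fin_cases i
      · intro h
        have := h.2
        rw [hxx] at this
        norm_num at this
      · intro h
        exact h.2.1 rfl)
    (fun i j hij => by
      fin_cases i <;> fin_cases j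
      · exact absurd rfl hij
      · exact Set.disjoint_left.mpr (fun z h1 h2 => h2.2.2 h1.2)
      · exact Set.disjoint_left.mpr (fun z h1 h2 => h1.2.2 h2.2)
      · exact absurd rfl hij)
    (fun i g hg gx z hz => by
      obtain ⟨a, b, c⟩ := hfix g hg z
      have d := hfixx g gx z
      fin_cases i
      · exact ⟨⟨by rw [a]; exact hz.1.1, by rw [b]; exact hz.1.2.1, by rw [c]; exact hz.1.2.2⟩,
          by rw [d]; exact hz.2⟩
      · refine ⟨⟨by rw [a]; exact hz.1.1, by rw [b]; exact hz.1.2.1,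
          by rw [c]; exact hz.1.2.2⟩, ?_, by rw [d]; exact hz.2.2⟩
        intro h
        apply hz.2.1
        have : g • z = g • x := by rw [h, gx]
        exact smul_left_cancel _ this)
    (fun i z hz z' hz' => by
      fin_cases i
      · have hzx : z ≠ x := by
          rintro rfl
          have := hz.2
          rw [hxx] at this
          norm_num at this
        have hzx' : z' ≠ x := by
          rintro rfl
          have := hz'.2
          rw [hxx] at this
          norm_num at this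
        obtain ⟨g, g1, g2, g3, g4⟩ := htr z hz.1 z' hz'.1 hzx hzx'
          ⟨fun _ => hz'.2, fun _ => hz.2⟩
        exact ⟨g, Subgroup.mem_inf.mpr ⟨g1, g2⟩, g3, g4⟩
      · obtain ⟨g, g1, g2, g3, g4⟩ := htr z hz.1 z' hz'.1 hz.2.1 hz'.2.1
          ⟨fun h => absurd h hz.2.2, fun h => absurd h hz'.2.2⟩
        exact ⟨g, Subgroup.mem_inf.mpr ⟨g1, g2⟩, g3, g4⟩)
  have hfin : Finite ↥(stabilizer Co0 v ⊓ stabilizer Co0 w) :=
    Nat.finite_of_card_ne_zero (by rw [hs_card v w hv hw hvw]; norm_num)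
  have hH : IsSimpleGroup (stabilizer ↥(stabilizer Co0 v ⊓ stabilizer Co0 w) x) := by
    have := hs_point_simple v w x hv hw hvw hx
    exact (stabEquiv (stabilizer Co0 v ⊓ stabilizer Co0 w) x).isSimpleGroup
  exact D.simple hH hprim ⟨0, by decide⟩ hreg

end Cfsg.Agent.S0405
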