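import Cfsg.Statements.S1641
import Cfsg.Agent.Lib.Helper1.EnP10aAll
import Cfsg.Agent.Lib.Helper1.EnC10a
import Cfsg.Agent.Lib.Helper1.EnP10bAll
import Cfsg.Agent.Lib.Helper1.EnC10b
import Cfsg.Agent.Lib.Helper1.EnP10cAll
import Cfsg.Agent.Lib.Helper1.EnC10c
import Cfsg.Agent.Lib.Helper1.EnP10dAll
import Cfsg.Agent.Lib.Helper1.EnC10d
import Cfsg.Agent.Lib.Helper1.LeechEnum12

set_option autoImplicit false
open Cfsg

namespace Cfsg.Agent.S1641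

open Cfsg.Agent.Lib.Helper1 Cfsg.Agent.Lib.Helper1.LeechEnum Cfsg.Agent.Lib.Helper1.LeechConn
  Cfsg.Agent.Lib.Helper1.LeechAut

theorem hY : ∀ y ∈ [pD0, pU'], Good y := by
  intro y hy
  have : y = pD0 ∨ y = pU' := by simpa using hy
  rcases this with rfl | rfl
  · exact good_pD0
  · exact good_pU'

/-- the common shape of the four transitivity problems -/
theorem reach_gen (P : Prob) (hPY : P.Y = [pD0, pU']) (hG : gensOK P.Y P.G = true)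
    (hA : ∃ cert, chkA P cert = true) (hall : ∀ c < 4096, ∃ cert, chkChunk P c cert = true)
    (s : ℤ)
    (hcond : ∀ v, v < 65536 ^ 24 → Good v → (P.cond v = true ↔
      (dotInt d₀ (vec v) = -16 ∧ dotInt Cfsg.Spor.vecU' (vec v) = s)))
    (z : GolayPt → ℤ) (hz : z ∈ leechLattice)
    (hc : sqNorm z = 32 ∧ dotInt d₀ z = -16 ∧ dotInt Cfsg.Spor.vecU' z = s) :
    ReachG [d₀, Cfsg.Spor.vecU'] z (vec P.z0) := by
  have h := (reach_of_checks (by rw [hPY]; exact hY) hG hA hall hz hc.1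
    (fun v hv hvz => (hcond v hv (good_of hvz hz (by rw [hc.1]; norm_num))).2
      (by rw [hvz]; exact hc.2))).toG
  have e1 : P.Y.map vec = [d₀, Cfsg.Spor.vecU'] := by
    rw [hPY]
    show [vec pD0, vec pU'] = _
    rw [vec_pD0, vec_pU']
  rwa [e1] at h

theorem cond_iff_a (v : ℕ) (hv : v < 65536 ^ 24) (hg : Good v) :
    EnP10a.prob.cond v = true ↔
      (dotInt d₀ (vec v) = -16 ∧ dotInt Cfsg.Spor.vecU' (vec v) = 8) := by
  have h2 := dot_d0 v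
  rw [sum_flds hv hg] at h2
  have h3 := dot_vecU' v
  show (Nat.beq (v % 65535 + 4 * fld 23 v) 7152 && Nat.beq (fld 0 v + 2) (fld 23 v)) = true ↔ _
  rw [Bool.and_eq_true, nbeq_iff, nbeq_iff, h2, h3]
  omega

theorem cond_iff_b (v : ℕ) (hv : v < 65536 ^ 24) (hg : Good v) :
    EnP10b.prob.cond v = true ↔
      (dotInt d₀ (vec v) = -16 ∧ dotInt Cfsg.Spor.vecU' (vec v) = 0) := by
  have h2 := dot_d0 v
  rw [sum_flds hv hg] at h2
  have h3 := dot_vecU' v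
  show (Nat.beq (v % 65535 + 4 * fld 23 v) 7152 && Nat.beq (fld 0 v) (fld 23 v + 0)) = true ↔ _
  rw [Bool.and_eq_true, nbeq_iff, nbeq_iff, h2, h3]
  omega

theorem cond_iff_c (v : ℕ) (hv : v < 65536 ^ 24) (hg : Good v) :
    EnP10c.prob.cond v = true ↔
      (dotInt d₀ (vec v) = -16 ∧ dotInt Cfsg.Spor.vecU' (vec v) = -8) := by
  have h2 := dot_d0 v
  rw [sum_flds hv hg] at h2
  have h3 := dot_vecU' v
  show (Nat.beq (v % 65535 + 4 * fld 23 v) 7152 && Nat.beq (fld 0 v) (fld 23 v + 2)) = true ↔ _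
  rw [Bool.and_eq_true, nbeq_iff, nbeq_iff, h2, h3]
  omega

theorem cond_iff_d (v : ℕ) (hv : v < 65536 ^ 24) (hg : Good v) :
    EnP10d.prob.cond v = true ↔
      (dotInt d₀ (vec v) = -16 ∧ dotInt Cfsg.Spor.vecU' (vec v) = -16) := by
  have h2 := dot_d0 v
  rw [sum_flds hv hg] at h2
  have h3 := dot_vecU' v
  show (Nat.beq (v % 65535 + 4 * fld 23 v) 7152 && Nat.beq (fld 0 v) (fld 23 v + 4)) = true ↔ _
  rw [Bool.and_eq_true, nbeq_iff, nbeq_iff, h2, h3]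
  omega

/-- the level sets of the inner product with `x` inside the 11178 -/
def Lset (u x : leechLattice) (t : ℤ) : Set leechLattice :=
  {y | (sqNorm (y : GolayPt → ℤ) = 32 ∧ dotInt (u : GolayPt → ℤ) (y : GolayPt → ℤ) = -16) ∧
    dotInt (x : GolayPt → ℤ) (y : GolayPt → ℤ) = t}

theorem conds {u x : leechLattice} {h : Co0}
    (hh1 : ((h • u : leechLattice) : GolayPt → ℤ) = d₀)
    (hh2 : ((h • (-x) : leechLattice) : GolayPt → ℤ) = Cfsg.Spor.vecU') (t : ℤ)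
    (y : leechLattice) : y ∈ Lset u x t ↔
      (sqNorm ((h • y : leechLattice) : GolayPt → ℤ) = 32 ∧
        (dotInt d₀ ((h • y : leechLattice) : GolayPt → ℤ) = -16 ∧
        dotInt Cfsg.Spor.vecU' ((h • y : leechLattice) : GolayPt → ℤ) = -t)) := by
  show ((_ ∧ _) ∧ _) ↔ _
  rw [smul_norm h y, ← hh1, ← hh2, smul_dot, smul_dot, coe_neg', dot_neg_left]
  constructor
  · rintro ⟨⟨a, b⟩, c⟩; exact ⟨a, b, by rw [c]⟩
  · rintro ⟨a, b, c⟩; exact ⟨⟨a, b⟩, by omega⟩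

theorem orbit_eq {u x : leechLattice} {h : Co0}
    (hh1 : ((h • u : leechLattice) : GolayPt → ℤ) = d₀)
    (hh2 : ((h • (-x) : leechLattice) : GolayPt → ℤ) = Cfsg.Spor.vecU') (t : ℤ)
    (z0 : GolayPt → ℤ)
    (hr : ∀ z, z ∈ leechLattice → (sqNorm z = 32 ∧ dotInt d₀ z = -16 ∧
      dotInt Cfsg.Spor.vecU' z = -t) → ReachG [d₀, Cfsg.Spor.vecU'] z z0)
    (y : leechLattice) (hy : y ∈ Lset u x t) :
    MulAction.orbit ↥(MulAction.stabilizer ↥Cfsg.Co0 u ⊓ MulAction.stabilizer ↥Cfsg.Co0 x) y =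
      Lset u x t := by
  ext y'
  constructor
  · rintro ⟨g, rfl⟩
    have gu : (g : Co0) • u = u := (Subgroup.mem_inf.mp g.2).1
    have gx : (g : Co0) • x = x := (Subgroup.mem_inf.mp g.2).2
    change ((g : Co0) • y) ∈ Lset u x t
    have e1 := smul_dot (g : Co0) u y
    rw [gu] at e1
    have e2 := smul_dot (g : Co0) x y
    rw [gx] at e2
    exact ⟨⟨by rw [smul_norm]; exact hy.1.1, by rw [e1]; exact hy.1.2⟩, by rw [e2]; exact hy.2⟩
  · intro hy'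
    obtain ⟨g, hg1, hg2⟩ := stab_trans hr h y y' ((conds hh1 hh2 t y).1 hy)
      ((conds hh1 hh2 t y').1 hy')
    have gu : g • u = u := hg1 u (by rw [hh1]; simp)
    have gnx : g • (-x) = -x := hg1 (-x) (by rw [hh2]; simp)
    have gx : g • x = x := by
      have := smul_neg' g x
      rw [gnx] at this
      exact (neg_injective this).symm
    exact ⟨⟨g, Subgroup.mem_inf.mpr ⟨gu, gx⟩⟩, hg2⟩

/-- The third Conway group acts on the 11178 cosets of the Higman–Sims group with rank 5 and subdegrees 1, 352, 1100, 4125, 5600. -/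
theorem result (u x : ↥Cfsg.leechLattice) (hu : Cfsg.sqNorm (u : Cfsg.GolayPt → ℤ) = 48) (hx : x ∈ {x : ↥Cfsg.leechLattice | Cfsg.sqNorm (x : Cfsg.GolayPt → ℤ) = 32 ∧ Cfsg.dotInt (u : Cfsg.GolayPt → ℤ) (x : Cfsg.GolayPt → ℤ) = -16}) : ∃ y₁ ∈ {x : ↥Cfsg.leechLattice | Cfsg.sqNorm (x : Cfsg.GolayPt → ℤ) = 32 ∧ Cfsg.dotInt (u : Cfsg.GolayPt → ℤ) (x : Cfsg.GolayPt → ℤ) = -16}, ∃ y₂ ∈ {x : ↥Cfsg.leechLattice | Cfsg.sqNorm (x : Cfsg.GolayPt → ℤ) = 32 ∧ Cfsg.dotInt (u : Cfsg.GolayPt → ℤ) (x : Cfsg.GolayPt → ℤ) = -16}, ∃ y₃ ∈ {x : ↥Cfsg.leechLattice | Cfsg.sqNorm (x : Cfsg.GolayPt → ℤ) = 32 ∧ Cfsg.dotInt (u : Cfsg.GolayPt → ℤ) (x : Cfsg.GolayPt → ℤ) = -16}, ∃ y₄ ∈ {x : ↥Cfsg.leechLattice | Cfsg.sqNorm (x : Cfsg.GolayPt → ℤ) = 32 ∧ Cfsg.dotInt (u : Cfsg.GolayPt → ℤ) (x : Cfsg.GolayPt → ℤ) = -16}, (MulAction.orbit ↥(MulAction.stabilizer ↥Cfsg.Co0 u ⊓ MulAction.stabilizer ↥Cfsg.Co0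 x) y₁).ncard = 352 ∧ (MulAction.orbit ↥(MulAction.stabilizer ↥Cfsg.Co0 u ⊓ MulAction.stabilizer ↥Cfsg.Co0 x) y₂).ncard = 1100 ∧ (MulAction.orbit ↥(MulAction.stabilizer ↥Cfsg.Co0 u ⊓ MulAction.stabilizer ↥Cfsg.Co0 x) y₃).ncard = 4125 ∧ (MulAction.orbit ↥(MulAction.stabilizer ↥Cfsg.Co0 u ⊓ MulAction.stabilizer ↥Cfsg.Co0 x) y₄).ncard = 5600 ∧ {x : ↥Cfsg.leechLattice | Cfsg.sqNorm (x : Cfsg.GolayPt → ℤ) = 32 ∧ Cfsg.dotInt (u : Cfsg.GolayPt → ℤ) (x : Cfsg.GolayPt → ℤ) = -16} = {x} ∪ MulAction.orbit ↥(MulAction.stabilizer ↥Cfsg.Co0 u ⊓ MulAction.stabilizer ↥Cfsg.Co0 x) y₁ ∪ MulAction.orbit ↥(MulAction.stabilizer ↥Cfsg.Co0 u ⊓ MulAction.stabilizer ↥Cfsg.Co0 x) y₂ ∪ MulAction.orbit ↥(MulAction.stabilizer ↥Cfsg.Co0 u ⊓ MulAction.stabilizer ↥Cfsg.Co0 x) y₃ ∪ MulAction.orbit ↥(MulAction.stabilizer ↥Cfsg.Co0 u ⊓ MulAction.stabilizer ↥Cfsg.Co0 x) y₄ := by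
  have hx1 : sqNorm ((-x : leechLattice) : GolayPt → ℤ) = 32 := by
    rw [coe_neg', norm_neg]; exact hx.1
  have hx2 : dotInt (u : GolayPt → ℤ) ((-x : leechLattice) : GolayPt → ℤ) = 16 := by
    rw [coe_neg', dot_neg_right, hx.2]; norm_num
  obtain ⟨h, hh1, hh2⟩ := std_pair_B u (-x) hu hx1 hx2
  have hxx : dotInt (x : GolayPt → ℤ) (x : GolayPt → ℤ) = 32 := by
    rw [dot_self']; exact hx.1
  have hA := (Cfsg.Agent.S1640.result u hu).1
  -- the four counts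
  have c1 : (Lset u x (-8)).ncard = 352 :=
    count_via h _ (fun z => dotInt d₀ z = -16 ∧ dotInt Cfsg.Spor.vecU' z = 8) 352
      (fun y => by rw [conds hh1 hh2 (-8) y]; norm_num) (EnC10a.census _ cond_iff_a)
  have c2 : (Lset u x 16).ncard = 1100 :=
    count_via h _ (fun z => dotInt d₀ z = -16 ∧ dotInt Cfsg.Spor.vecU' z = -16) 1100
      (fun y => by rw [conds hh1 hh2 16 y]) (EnC10d.census _ cond_iff_d)
  have c3 : (Lset u x 0).ncard = 4125 :=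
    count_via h _ (fun z => dotInt d₀ z = -16 ∧ dotInt Cfsg.Spor.vecU' z = 0) 4125
      (fun y => by rw [conds hh1 hh2 0 y]; norm_num) (EnC10b.census _ cond_iff_b)
  have c4 : (Lset u x 8).ncard = 5600 :=
    count_via h _ (fun z => dotInt d₀ z = -16 ∧ dotInt Cfsg.Spor.vecU' z = -8) 5600
      (fun y => by rw [conds hh1 hh2 8 y]) (EnC10c.census _ cond_iff_c)
  obtain ⟨y1, hy1⟩ := Set.nonempty_of_ncard_ne_zero (s := Lset u x (-8)) (by rw [c1]; norm_num)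
  obtain ⟨y2, hy2⟩ := Set.nonempty_of_ncard_ne_zero (s := Lset u x 16) (by rw [c2]; norm_num)
  obtain ⟨y3, hy3⟩ := Set.nonempty_of_ncard_ne_zero (s := Lset u x 0) (by rw [c3]; norm_num)
  obtain ⟨y4, hy4⟩ := Set.nonempty_of_ncard_ne_zero (s := Lset u x 8) (by rw [c4]; norm_num)
  have o1 := orbit_eq hh1 hh2 (-8) _ (fun z hz hc => reach_gen EnP10a.prob rfl EnP10a.gens_ok
    ⟨_, EnP10a.chkA_ok⟩ EnP10a.all_ok 8 cond_iff_a z hz (by simpa using hc)) y1 hy1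
  have o2 := orbit_eq hh1 hh2 16 _ (fun z hz hc => reach_gen EnP10d.prob rfl EnP10d.gens_ok
    ⟨_, EnP10d.chkA_ok⟩ EnP10d.all_ok (-16) cond_iff_d z hz hc) y2 hy2
  have o3 := orbit_eq hh1 hh2 0 _ (fun z hz hc => reach_gen EnP10b.prob rfl EnP10b.gens_ok
    ⟨_, EnP10b.chkA_ok⟩ EnP10b.all_ok 0 cond_iff_b z hz (by simpa using hc)) y3 hy3
  have o4 := orbit_eq hh1 hh2 8 _ (fun z hz hc => reach_gen EnP10c.prob rfl EnP10c.gens_ok
    ⟨_, EnP10c.chkA_ok⟩ EnP10c.all_ok (-8) cond_iff_c z hz hc) y4 hy4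
  refine ⟨y1, hy1.1, y2, hy2.1, y3, hy3.1, y4, hy4.1, ?_⟩
  rw [o1, o2, o3, o4]
  refine ⟨c1, c2, c3, c4, ?_⟩
  have disj : ∀ s t : ℤ, s ≠ t → Disjoint (Lset u x s) (Lset u x t) := by
    intro s t hst
    exact Set.disjoint_left.mpr (fun z hz1 hz2 => hst (by rw [← hz1.2, ← hz2.2]))
  have hxn : ∀ t : ℤ, t ≠ 32 → x ∉ Lset u x t := by
    intro t ht hz
    have := hz.2
    rw [hxx] at this
    exact ht this.symm
  exact cover5 _ (Lset u x (-8)) (Lset u x 16) (Lset u x 0) (Lset u x 8) x 352 1100 4125 5600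
    (by rw [hA]) hx (fun z hz => hz.1) (fun z hz => hz.1) (fun z hz => hz.1) (fun z hz => hz.1)
    (hxn _ (by norm_num)) (hxn _ (by norm_num)) (hxn _ (by norm_num)) (hxn _ (by norm_num))
    (disj _ _ (by norm_num)) (disj _ _ (by norm_num)) (disj _ _ (by norm_num))
    (disj _ _ (by norm_num)) (disj _ _ (by norm_num)) (disj _ _ (by norm_num))
    c1 c2 c3 c4

end Cfsg.Agent.S1641
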