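import Cfsg.Statements.S0403
import Cfsg.Agent.Lib.Helper1.ConwayOrd2
import Cfsg.Agent.Lib.Helper1.PrimSimple6
import Cfsg.Agent.Lib.Helper1.LeechEnum12
import Cfsg.Agent.S1641
import Cfsg.Agent.S0405

set_option autoImplicit false
open Cfsg

namespace Cfsg.Agent.S0403

open MulAction Cfsg.Agent.Lib.Helper1 Cfsg.Agent.Lib.Helper1.LeechEnum
  Cfsg.Agent.Lib.Helper1.LeechConn Cfsg.Agent.Lib.Helper1.LeechAut
  Cfsg.Agent.Lib.Helper1.PrimSimple Cfsg.Agent.Lib.Helper1.ConwayOrd

/-- the suborbit sizes -/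
def nn : Fin 4 → ℕ := ![352, 1100, 4125, 5600]

theorem hprim : ∀ I : Finset (Fin 4), (1 + ∑ i ∈ I, nn i) ∣ (1 + ∑ i, nn i) →
    (∑ i ∈ I, nn i = 0) ∨ (∑ i ∈ I, nn i = ∑ i, nn i) := by decide

theorem hreg : ∀ c : Fin 4 → ℕ, ¬ ∀ p, p.Prime → p ∣ (1 + ∑ i, nn i) →
    p ∣ (∑ i ∈ Finset.univ.filter (fun i => c i = p), nn i) + 1 := by
  intro c h
  have h2 := h 2 Nat.prime_two (by decide)
  have h23 := h 23 (by norm_num) (by decide)
  simp only [Finset.sum_filter, Fin.sum_univ_four, nn, Matrix.cons_val] at h2 h23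
  split_ifs at h2 h23 <;> omega

theorem norm_add2 (x y : GolayPt → ℤ) :
    sqNorm (x + y) = sqNorm x + sqNorm y + 2 * dotInt x y := by
  unfold sqNorm dotInt
  rw [Finset.mul_sum, ← Finset.sum_add_distrib, ← Finset.sum_add_distrib]
  apply Finset.sum_congr rfl
  intro i _
  simp only [Pi.add_apply]
  ring

/-- the set of 11178 points -/
def Aset (v : leechLattice) : Set leechLattice :=
  {x | sqNorm (x : GolayPt → ℤ) = 32 ∧ dotInt (v : GolayPt → ℤ) (x : GolayPt → ℤ) = -16}

theorem trans_A (v : leechLattice) (hv : sqNorm (v : GolayPt → ℤ) = 48) (x x' : leechLattice)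
    (hx : x ∈ Aset v) (hx' : x' ∈ Aset v) : ∃ g : Co0, g • v = v ∧ g • x = x' := by
  have n1 : sqNorm ((-x : leechLattice) : GolayPt → ℤ) = 32 := by
    rw [coe_neg', norm_neg]; exact hx.1
  have n1' : sqNorm ((-x' : leechLattice) : GolayPt → ℤ) = 32 := by
    rw [coe_neg', norm_neg]; exact hx'.1
  have n2 : dotInt (v : GolayPt → ℤ) ((-x : leechLattice) : GolayPt → ℤ) = 16 := by
    rw [coe_neg', dot_neg_right, hx.2]; norm_num
  have n2' : dotInt (v : GolayPt → ℤ) ((-x' : leechLattice) : GolayPt → ℤ) = 16 := by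
    rw [coe_neg', dot_neg_right, hx'.2]; norm_num
  obtain ⟨h, h1, h2⟩ := std_pair_B v (-x) hv n1 n2
  obtain ⟨h', h1', h2'⟩ := std_pair_B v (-x') hv n1' n2'
  have e1 : h • v = h' • v := Subtype.ext (by rw [h1, h1'])
  have e2 : h • (-x) = h' • (-x') := Subtype.ext (by rw [h2, h2'])
  refine ⟨h'⁻¹ * h, ?_, ?_⟩
  · rw [mul_smul, e1, inv_smul_smul]
  · have : (h'⁻¹ * h) • (-x) = -x' := by rw [mul_smul, e2, inv_smul_smul]
    rw [smul_neg'] at this
    exact neg_injective this

theorem stab_eq (v x : leechLattice) :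
    stabilizer Co0 v ⊓ stabilizer Co0 (-x - v) = stabilizer Co0 v ⊓ stabilizer Co0 x := by
  ext g
  rw [Subgroup.mem_inf, Subgroup.mem_inf, mem_stabilizer_iff, mem_stabilizer_iff,
    mem_stabilizer_iff]
  constructor
  · rintro ⟨a, b⟩
    refine ⟨a, ?_⟩
    have e : x = -((-x - v) + v) := by abel
    have e' : g • x = g • (-((-x - v) + v)) := by rw [← e]
    rw [e', smul_neg', smul_add', a, b]
    abel
  · rintro ⟨a, b⟩
    refine ⟨a, ?_⟩
    rw [LeechEnum.smul_sub, smul_neg', a, b]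

theorem hs_facts (v x : leechLattice) (hv : sqNorm (v : GolayPt → ℤ) = 48) (hx : x ∈ Aset v) :
    Cfsg.IsHS ↥(stabilizer Co0 v ⊓ stabilizer Co0 x) := by
  have hw : sqNorm ((-x - v : leechLattice) : GolayPt → ℤ) = 48 := by
    have e : ((-x - v : leechLattice) : GolayPt → ℤ) = -((x : GolayPt → ℤ) + (v : GolayPt → ℤ)) := by
      rw [coe_sub'', coe_neg']; abel
    rw [e, norm_neg, norm_add2, hx.1, hv, dotInt_comm' (x : GolayPt → ℤ), hx.2]; norm_num
  have hvw : dotInt (v : GolayPt → ℤ) ((-x - v : leechLattice) : GolayPt → ℤ) = -32 := by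
    rw [coe_sub'', coe_neg', dot_sub_right, dot_neg_right, hx.2, dot_self', hv]; norm_num
  have := Cfsg.Agent.S0405.result v (-x - v) hv hw hvw
  rw [stab_eq] at this
  exact this

theorem card_A (v : leechLattice) (hv : sqNorm (v : GolayPt → ℤ) = 48) (x : leechLattice)
    (hx : x ∈ Aset v) : (Aset v).ncard = 11178 := by
  have h := card_of_orbit (stabilizer Co0 v) x (Aset v)
    (fun g hg => by
      have gv : g • v = v := hg
      have e1 := smul_dot g v x
      rw [gv] at e1
      exact ⟨by rw [smul_norm]; exact hx.1, by rw [e1]; exact hx.2⟩)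
    (fun z hz => by
      obtain ⟨g, g1, g2⟩ := trans_A v hv x z hx hz
      exact ⟨g, g1, g2⟩)
  rw [co3_card v hv, (hs_facts v x hv hx).2] at h
  omega

/-- Stabiliser of a vector of sum of squares 48 is simple of order 495766656000. -/
theorem result (v : Cfsg.leechLattice) (hv : Cfsg.sqNorm (v : Cfsg.GolayPt → ℤ) = 48) : Cfsg.IsCo3 (MulAction.stabilizer Cfsg.Co0 v) := by
  refine ⟨?_, co3_card v hv⟩
  -- a point of the 11178
  obtain ⟨h0, hh0⟩ := trans48 ⟨d₀, d0_mem⟩ v d0_norm hv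
  have hx0 : ∃ x, x ∈ Aset v := by
    refine ⟨h0 • (-(⟨Cfsg.Spor.vecU', vecU'_mem⟩ : leechLattice)), ?_, ?_⟩
    · rw [smul_norm, coe_neg', norm_neg]; exact vecU'_norm
    · rw [← hh0, smul_dot, coe_neg', dot_neg_right]
      show -dotInt d₀ Cfsg.Spor.vecU' = -16
      rw [d0_dot_vecU']
  obtain ⟨x, hx⟩ := hx0
  have hA := card_A v hv x hx
  obtain ⟨y1, hy1, y2, hy2, y3, hy3, y4, hy4, c1, c2, c3, c4, _⟩ :=
    Cfsg.Agent.S1641.result v x hv hx
  have hfin0 : Finite Co0 :=
    Nat.finite_of_card_ne_zero (by rw [Cfsg.Agent.S0397.result]; norm_num)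
  have hne : ∀ y : leechLattice, ∀ n : ℕ,
      (orbit ↥(stabilizer Co0 v ⊓ stabilizer Co0 x) y).ncard = n → n ≠ 1 →
      y ≠ x := by
    rintro y n hn hn1 rfl
    apply hn1
    rw [← hn]
    have : orbit ↥(stabilizer Co0 v ⊓ stabilizer Co0 y) y = {y} := by
      ext z
      constructor
      · rintro ⟨g, rfl⟩
        exact (Subgroup.mem_inf.mp g.2).2
      · rintro rfl
        exact mem_orbit_self _
    rw [this, Set.ncard_singleton]
  have D := subData_of_orbits (stabilizer Co0 v) x (Aset v) 4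
    ![y1, y2, y3, y4] nn
    (fun g hg => by
      have gv : g • v = v := hg
      have e1 := smul_dot g v x
      rw [gv] at e1
      exact ⟨by rw [smul_norm]; exact hx.1, by rw [e1]; exact hx.2⟩)
    (fun z hz => by
      obtain ⟨g, g1, g2⟩ := trans_A v hv x z hx hz
      exact ⟨g, g1, g2⟩)
    (fun i => by
      fin_cases i
      · exact hy1
      · exact hy2
      · exact hy3
      · exact hy4)
    (fun i => by
      fin_cases i
      · exact hne y1 352 c1 (by norm_num)
      · exact hne y2 1100 c2 (by norm_num)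
      · exact hne y3 4125 c3 (by norm_num)
      · exact hne y4 5600 c4 (by norm_num))
    (fun i => by
      fin_cases i
      · exact c1
      · exact c2
      · exact c3
      · exact c4)
    (by decide)
    (by rw [hA]; decide)
  have hfin : Finite ↥(stabilizer Co0 v) :=
    Nat.finite_of_card_ne_zero (by rw [co3_card v hv]; norm_num)
  have hH : IsSimpleGroup (stabilizer ↥(stabilizer Co0 v) x) := by
    have := (hs_facts v x hv hx).1
    exact (stabEquiv (stabilizer Co0 v) x).isSimpleGroup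
  exact D.simple hH hprim ⟨0, by decide⟩ hreg

end Cfsg.Agent.S0403
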