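import Mathlib
import Cfsg.Statements.S0064

set_option autoImplicit false
open Cfsg

namespace Cfsg.Agent.S0064

theorem subnormal_of_normalizerCondition {G : Type*} [Group G] [Finite G]
    (h : NormalizerCondition G) (H : Subgroup G) : H.IsSubnormal := by
  induction H using WellFoundedGT.induction with
  | ind H ih =>
    by_cases hH : H = ⊤
    · subst hH; exact Subgroup.IsSubnormal.top
    · have h1 : H < Subgroup.normalizer (H : Set G) := h H (lt_top_iff_ne_top.mpr hH)
      exact Subgroup.IsSubnormal.step H _ h1.le (ih _ h1)
        (Subgroup.normal_in_normalizer)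

/-- A finite group is nilpotent exactly when each of its subgroups is subnormal. -/
theorem result {G : Type*} [Group G] [Finite G] :
    Group.IsNilpotent G ↔ ∀ H : Subgroup G, H.IsSubnormal := by
  constructor
  · intro hnil
    have h1 : NormalizerCondition G :=
      ((Group.isNilpotent_of_finite_tfae (G := G)).out 0 1).mp hnil
    exact subnormal_of_normalizerCondition h1
  · intro h
    have h2 : ∀ H : Subgroup G, IsCoatom H → H.Normal := by
      intro M hM
      rcases (h M).lt_normal with h3 | ⟨K, hK, hMK, hKt⟩
      · exact absurd h3 hM.1
      · have : K = M := by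
          by_contra hne
          exact hKt.ne (hM.2 K (lt_of_le_of_ne hMK (Ne.symm hne)))
        exact this ▸ hK
    exact ((Group.isNilpotent_of_finite_tfae (G := G)).out 0 2).mpr h2

end Cfsg.Agent.S0064
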