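import Cfsg.Statements.S3743
import Mathlib
import Cfsg.Agent.Lib.Helper4.PiCore
import Cfsg.Agent.Lib.Lead.Core

set_option autoImplicit false
open Cfsg

namespace Cfsg.Agent.S3743

/-- In a finite group G, every subnormal nilpotent subgroup lies in the Fitting subgroup F(G), and, for a set of primes π, every subnormal subgroup all of whose prime divisors lie in π lies in O_π(G). -/
theorem result {G : Type*} [Group G] [Finite G] (A : Subgroup G) (hA : A.IsSubnormal) : (Group.IsNilpotent A → A ≤ Cfsg.fittingSubgroup G) ∧ ∀ π : Set ℕ, (∀ p : ℕ, p.Prime → p ∣ Nat.card A → p ∈ π) → A ≤ Cfsg.piCore π G := by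
  have part2 : ∀ (B : Subgroup G), B.IsSubnormal → ∀ π : Set ℕ,
      (∀ p : ℕ, p.Prime → p ∣ Nat.card B → p ∈ π) → B ≤ Cfsg.piCore π G :=
    fun B hB π hπ => Cfsg.Agent.Lib.Helper4.le_piCore_of_isSubnormal hB hπ
  refine ⟨?_, part2 A hA⟩
  intro hnil
  -- O_p(G) ≤ F(G)
  have hOp : ∀ p : ℕ, p.Prime → Cfsg.piCore {p} G ≤ Cfsg.fittingSubgroup G := by
    intro p hp
    haveI : Fact p.Prime := ⟨hp⟩
    refine le_sSup ⟨inferInstance, ?_⟩
    have hpi := Cfsg.Agent.Lib.Helper4.isPiNum_card_piCore (G := G) {p}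
    have hcard : Nat.card (Cfsg.piCore {p} G) = p ^ (Nat.card (Cfsg.piCore {p} G)).primeFactorsList.length := by
      apply Nat.eq_prime_pow_of_unique_prime_dvd Nat.card_pos.ne'
      intro d hd hdn
      exact hpi d hd hdn
    exact (IsPGroup.of_card hcard).isNilpotent
  have h1 : A = (⨆ p : Nat.Primes, ⨆ P : Sylow (p : ℕ) A, (P : Subgroup A)).map A.subtype := by
    rw [Cfsg.Agent.Lib.Lead.iSup_sylow_eq_top, ← MonoidHom.range_eq_map, Subgroup.range_subtype]
  show A ≤ Cfsg.fittingSubgroup G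
  rw [h1, Subgroup.map_iSup]
  apply iSup_le
  intro p
  rw [Subgroup.map_iSup]
  apply iSup_le
  intro P
  haveI : Fact (p : ℕ).Prime := ⟨p.2⟩
  refine le_trans ?_ (hOp p p.2)
  have hall := ((Group.isNilpotent_of_finite_tfae (G := A)).out 0 3).mp hnil
  have hPn : (P : Subgroup A).Normal := hall p inferInstance P
  have hsub : ((P : Subgroup A).map A.subtype).IsSubnormal := hPn.isSubnormal.trans' hA
  apply part2 _ hsub
  intro q hq hqd
  rw [Subgroup.card_map_of_injective A.subtype_injective] at hqd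
  obtain ⟨k, hk⟩ := IsPGroup.iff_card.mp P.isPGroup'
  rw [hk] at hqd
  have := (Nat.prime_dvd_prime_iff_eq hq p.2).mp (hq.dvd_of_dvd_pow hqd)
  rw [this]; exact Set.mem_singleton _

end Cfsg.Agent.S3743
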