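import Mathlib
-- Template for statement S0944 (row 944; see /opt/grader/pristine/manifest.json for weights).
-- Copy to Cfsg/Agent/S0944.lean and replace the sorry. The statement below is byte-identical to the frozen
-- statement Cfsg.CfsgFrozen.S0944 (Cfsg/Statements/S0944.lean; the theorem Cfsg.character_value_at_involution_integer_congr_degree);
-- the grader kernel-checks Cfsg.Agent.S0944.result against that frozen type. Keep the theorem IN THIS FILE
-- (a `result` declared elsewhere and merely imported here is not credited); helpers may live anywhere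
-- under Cfsg/Agent/.
import Cfsg.Statements.S0944


set_option autoImplicit false
open Cfsg

namespace Cfsg.Agent.S0944

/-- Let χ be an irreducible character of the finite group G and u an involution. Then χ u is a rational integer n with n ≡ χ 1 (mod 2). -/
theorem result {G : Type*} [Group G] [Finite G] (χ : Cfsg.IrrCharacter G) (u : G) (hu : orderOf u = 2) : ∃ n : ℤ, (χ : G → ℂ) u = (n : ℂ) ∧ (2 : ℤ) ∣ (Cfsg.charDegree (χ : G → ℂ) : ℤ) - n := by
  classical
  obtain ⟨n, ρ, -, hρ⟩ := χ.2
  have hu2 : u * u = 1 := by rw [← pow_two, ← hu, pow_orderOf_eq_one]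
  have hT : ρ u * ρ u = 1 := by rw [← map_mul, hu2, map_one]
  set P : Module.End ℂ (Fin n → ℂ) := (1 / 2 : ℂ) • (1 + ρ u) with hP
  have hPid : IsIdempotentElem P := by
    unfold IsIdempotentElem
    rw [hP, smul_mul_smul_comm]
    have e1 : (1 + ρ u) * (1 + ρ u) = (2 : ℂ) • (1 + ρ u) := by
      rw [mul_add, add_mul, add_mul, one_mul, mul_one, one_mul, hT, two_smul]; abel
    rw [e1, smul_smul]
    norm_num
  have hproj := LinearMap.IsIdempotentElem.isProj_range P hPid
  have htr := hproj.trace
  set r := Module.finrank ℂ (LinearMap.range P) with hr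
  have htrP : LinearMap.trace ℂ _ P = (1 / 2 : ℂ) * ((n : ℂ) + (χ : G → ℂ) u) := by
    rw [hP, map_smul, map_add, LinearMap.trace_one, Module.finrank_fin_fun, smul_eq_mul, ← hρ]
    rfl
  have hχu : (χ : G → ℂ) u = 2 * (r : ℂ) - (n : ℂ) := by
    rw [htrP] at htr
    linear_combination 2 * htr
  have hdeg : Cfsg.charDegree (χ : G → ℂ) = n := by
    unfold charDegree
    rw [← hρ, Representation.char_one, Module.finrank_fin_fun]
    simp
  refine ⟨2 * (r : ℤ) - (n : ℤ), ?_, ?_⟩
  · rw [hχu]; push_cast; ring
  · rw [hdeg]
    exact ⟨(n : ℤ) - (r : ℤ), by ring⟩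

end Cfsg.Agent.S0944
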