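import Mathlib
import Cfsg.Statements.S0219

set_option autoImplicit false
set_option linter.style.haveILetI false
open Cfsg

namespace Cfsg.Agent.S0219

/-- If a finite group has even order and a cyclic Sylow 2-subgroup, then it has a subgroup of index 2 (consider the parity of permutations in the regular representation). -/
theorem result {G : Type*} [Group G] [Finite G] (heven : Even (Nat.card G)) (T : Sylow 2 G) (hT : IsCyclic (T : Subgroup G)) : ∃ H : Subgroup G, H.index = 2 := by
  haveI : Fact (Nat.Prime 2) := ⟨Nat.prime_two⟩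
  have hmin : (Nat.card G).minFac = 2 := by
    rw [Nat.minFac_eq_two_iff]
    exact heven.two_dvd
  have hT' : IsCyclic T := hT
  have hNC := hT'.normalizer_le_centralizer hmin
  have hcompl := hT'.isComplement' hmin
  set φ := MonoidHom.transferSylow T hNC with hφ
  -- φ is surjective
  have hsurj : Function.Surjective φ := by
    rw [← MonoidHom.range_eq_top]
    apply Subgroup.eq_top_of_card_eq
    have h1 := hcompl.card_mul_card
    have h2 := Subgroup.card_eq_card_quotient_mul_card_subgroup φ.ker
    have h3 : Nat.card (G ⧸ φ.ker) = Nat.card φ.range :=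
      Nat.card_congr (QuotientGroup.quotientKerEquivRange φ).toEquiv
    rw [h3] at h2
    have hpos : 0 < Nat.card φ.ker := Nat.card_pos
    have : Nat.card φ.ker * Nat.card φ.range = Nat.card φ.ker * Nat.card (T : Subgroup G) := by
      rw [h1, h2, mul_comm]
    exact Nat.eq_of_mul_eq_mul_left hpos this
  -- T has a subgroup of index 2
  obtain ⟨a, ha⟩ := T.2.exists_card_eq
  have ha' : Nat.card (T : Subgroup G) = 2 ^ a := ha
  have ha0 : a ≠ 0 := by
    intro h0
    rw [h0, pow_zero] at ha'
    have h2 : 2 ∣ Nat.card (T : Subgroup G) := T.dvd_card_of_dvd_card heven.two_dvd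
    rw [ha'] at h2
    omega
  obtain ⟨b, rfl⟩ := Nat.exists_eq_succ_of_ne_zero ha0
  have hdvd : 2 ^ b ∣ Nat.card (T : Subgroup G) := by
    rw [ha']; exact pow_dvd_pow 2 (Nat.le_succ b)
  obtain ⟨K, hK⟩ := Sylow.exists_subgroup_card_pow_prime 2 hdvd
  have hKi : K.index = 2 := by
    have := K.index_mul_card
    rw [hK, ha', pow_succ] at this
    have hpos : 0 < 2 ^ b := by positivity
    nlinarith [Nat.eq_of_mul_eq_mul_right hpos (this.trans (mul_comm _ _))]
  refine ⟨K.comap φ, ?_⟩
  have := Subgroup.index_comap_of_surjective K hsurj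
  rw [this, hKi]

end Cfsg.Agent.S0219
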