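import Mathlib
import Cfsg.Statements.S0220
import Cfsg.Agent.S0219
import Cfsg.Agent.Lib.Helper1.Isolated

set_option autoImplicit false
set_option linter.style.haveILetI false
open Cfsg
open Cfsg.Agent.Lib.Helper1

namespace Cfsg.Agent.S0220

/-- In a cyclic group there is at most one involution. -/
theorem cyclic_unique_involution {A : Type*} [Group A] [Finite A] [IsCyclic A] (a b : A)
    (ha : a * a = 1) (hb : b * b = 1) (ha1 : a ≠ 1) (hb1 : b ≠ 1) : a = b := by
  classical
  haveI := Fintype.ofFinite A
  by_contra hab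
  have h := IsCyclic.card_pow_eq_one_le (α := A) (n := 2) (by norm_num)
  have hsub : ({1, a, b} : Finset A) ⊆ Finset.univ.filter (fun c : A => c ^ 2 = 1) := by
    intro c hc
    simp only [Finset.mem_insert, Finset.mem_singleton] at hc
    simp only [Finset.mem_filter, Finset.mem_univ, true_and]
    rcases hc with rfl | rfl | rfl
    · simp
    · rw [pow_two, ha]
    · rw [pow_two, hb]
  have hcard : ({1, a, b} : Finset A).card = 3 := by
    rw [Finset.card_insert_of_notMem, Finset.card_insert_of_notMem, Finset.card_singleton]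
    · simpa using hab
    · simp only [Finset.mem_insert, Finset.mem_singleton, not_or]
      exact ⟨fun h => ha1 h.symm, fun h => hb1 h.symm⟩
  have := Finset.card_le_card hsub
  omega

theorem key {G : Type*} [Group G] [Finite G] (x : G) (hx : orderOf x = 2) (C : Subgroup G)
    (hC : C = Subgroup.centralizer ({x} : Set G)) (S : Sylow 2 C)
    (hS : IsCyclic (S : Subgroup C)) : ∃ H : Subgroup G, H.index = 2 := by
  haveI : Fact (Nat.Prime 2) := ⟨Nat.prime_two⟩
  have hx2 := mul_self_of_orderOf_two hx
  have hx1 := ne_one_of_orderOf_two hx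
  have hxC : x ∈ C := by rw [hC]; exact Subgroup.mem_centralizer_singleton_iff.mpr rfl
  set S' : Subgroup G := (S : Subgroup C).map C.subtype with hS'
  have hS'C : S' ≤ C := by
    rintro _ ⟨c, -, rfl⟩
    exact c.2
  have hS'p : IsPGroup 2 S' := S.isPGroup'.map C.subtype
  -- x lies in S
  have hxS : (⟨x, hxC⟩ : C) ∈ (S : Subgroup C) := by
    have hxo : orderOf (⟨x, hxC⟩ : C) = 2 := by
      rw [← hx]; exact Subgroup.orderOf_mk x hxC
    have hZ : IsPGroup 2 (Subgroup.zpowers (⟨x, hxC⟩ : C)) := isPGroup_zpowers_of_orderOf_two hxo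
    have hle : (S : Subgroup C) ≤ Subgroup.normalizer (Subgroup.zpowers (⟨x, hxC⟩ : C)) := by
      intro s _
      rw [Subgroup.mem_normalizer_iff]
      intro h
      have hcomm : ∀ k : ℤ, s * (⟨x, hxC⟩ : C) ^ k * s⁻¹ = (⟨x, hxC⟩ : C) ^ k := by
        intro k
        have hc : Commute s (⟨x, hxC⟩ : C) := by
          apply Subtype.ext
          have hs2 : (s : G) ∈ Subgroup.centralizer ({x} : Set G) := hC ▸ s.2
          exact (Subgroup.mem_centralizer_singleton_iff.mp hs2)
        rw [(hc.zpow_right k).eq, mul_inv_cancel_right]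
      constructor
      · rintro ⟨k, rfl⟩
        exact ⟨k, (hcomm k).symm⟩
      · rintro ⟨k, hk⟩
        refine ⟨k, ?_⟩
        simp only at hk ⊢
        have : h = s⁻¹ * (s * h * s⁻¹) * s := by group
        rw [this, ← hk]
        have := hcomm k
        calc (⟨x, hxC⟩ : C) ^ k = s⁻¹ * (s * (⟨x, hxC⟩ : C) ^ k * s⁻¹) * s := by group
          _ = s⁻¹ * (⟨x, hxC⟩ : C) ^ k * s := by rw [this]
    have hsup := IsPGroup.to_sup_of_normal_right' S.isPGroup' hZ hle
    have := S.is_maximal' hsup le_sup_left
    rw [← this]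
    exact Subgroup.mem_sup_right (Subgroup.mem_zpowers _)
  have hxS' : x ∈ S' := ⟨⟨x, hxC⟩, hxS, rfl⟩
  -- S' is cyclic
  have hS'cyc : IsCyclic S' := by
    have e : (S : Subgroup C) ≃* S' := Subgroup.equivMapOfInjective _ _ C.subtype_injective
    haveI : IsCyclic (S : Subgroup C) := hS
    exact isCyclic_of_surjective e e.surjective
  obtain ⟨T, hT⟩ := hS'p.exists_le_sylow
  have hST : S' = T := by
    by_contra hne
    have hlt : S'.subgroupOf T < ⊤ := by
      rw [lt_top_iff_ne_top]
      intro h
      apply hne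
      apply le_antisymm hT
      rwa [Subgroup.subgroupOf_eq_top] at h
    haveI : Group.IsNilpotent T := T.isPGroup'.isNilpotent
    have hnc := Group.normalizerCondition_of_isNilpotent (G := T) _ hlt
    obtain ⟨n, hnN, hnS⟩ := SetLike.exists_of_lt hnc
    rw [Subgroup.mem_normalizer_iff] at hnN
    rw [Subgroup.mem_subgroupOf] at hnS
    -- n x n⁻¹ ∈ S'
    have hxT : x ∈ (T : Subgroup G) := hT hxS'
    have h1 : (n : G) * x * (n : G)⁻¹ ∈ S' := by
      have := (hnN ⟨x, hxT⟩).mp (Subgroup.mem_subgroupOf.mpr hxS')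
      rwa [Subgroup.mem_subgroupOf] at this
    have h2 : (⟨(n : G) * x * (n : G)⁻¹, h1⟩ : S') = ⟨x, hxS'⟩ := by
      apply cyclic_unique_involution
      · apply Subtype.ext
        show (n : G) * x * (n : G)⁻¹ * ((n : G) * x * (n : G)⁻¹) = 1
        calc (n : G) * x * (n : G)⁻¹ * ((n : G) * x * (n : G)⁻¹)
            = (n : G) * (x * x) * (n : G)⁻¹ := by group
          _ = 1 := by rw [hx2]; group
      · apply Subtype.ext; exact hx2
      · intro h
        have h' : (n : G) * x * (n : G)⁻¹ = 1 := congrArg Subtype.val h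
        apply hx1
        have := congrArg (fun z => (n : G)⁻¹ * z * (n : G)) h'
        simpa [mul_assoc] using this
      · intro h
        exact hx1 (congrArg Subtype.val h)
    have h3 : (n : G) * x * (n : G)⁻¹ = x := congrArg Subtype.val h2
    have hnC : (n : G) ∈ C := by
      rw [hC, Subgroup.mem_centralizer_singleton_iff]
      calc (n : G) * x = ((n : G) * x * (n : G)⁻¹) * (n : G) := by group
        _ = x * (n : G) := by rw [h3]
    -- the 2-group S' ⊔ zpowers n inside C
    set U : Subgroup G := S' ⊔ Subgroup.zpowers (n : G) with hU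
    have hUT : U ≤ T := sup_le hT (by rw [Subgroup.zpowers_le]; exact n.2)
    have hUC : U ≤ C := sup_le hS'C (by rw [Subgroup.zpowers_le]; exact hnC)
    have hUp : IsPGroup 2 U := T.isPGroup'.to_le hUT
    have hUp' : IsPGroup 2 (U.subgroupOf C) :=
      hUp.comap_of_injective C.subtype C.subtype_injective
    have hSU : (S : Subgroup C) ≤ U.subgroupOf C := by
      intro s hs
      rw [Subgroup.mem_subgroupOf]
      exact Subgroup.mem_sup_left ⟨s, hs, rfl⟩
    have hmax := S.is_maximal' hUp' hSU
    apply hnS
    have : (⟨(n : G), hnC⟩ : C) ∈ U.subgroupOf C := by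
      rw [Subgroup.mem_subgroupOf]
      exact Subgroup.mem_sup_right (Subgroup.mem_zpowers _)
    rw [hmax] at this
    exact ⟨_, this, rfl⟩
  have hTcyc : IsCyclic (T : Subgroup G) := by rw [← hST]; exact hS'cyc
  have heven : Even (Nat.card G) := by
    rw [even_iff_two_dvd, ← hx]
    exact orderOf_dvd_natCard x
  exact Cfsg.Agent.S0219.result heven T hTcyc

/-- If x is an involution of a finite group G and a Sylow 2-subgroup of the centralizer of x is cyclic, then G has a subgroup of index 2; in particular G is not simple unless it has order 2. -/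
theorem result {G : Type*} [Group G] [Finite G] (x : G) (hx : orderOf x = 2) (S : Sylow 2 ↥(Subgroup.centralizer ({x} : Set G))) (hS : IsCyclic (S : Subgroup ↥(Subgroup.centralizer ({x} : Set G)))) : ∃ H : Subgroup G, H.index = 2 :=
  key x hx _ rfl S hS

end Cfsg.Agent.S0220
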