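import Mathlib
-- Template for statement S0950 (row 950; see /opt/grader/pristine/manifest.json for weights).
-- Copy to Cfsg/Agent/S0950.lean and replace the sorry. The statement below is byte-identical to the frozen
-- statement Cfsg.CfsgFrozen.S0950 (Cfsg/Statements/S0950.lean; the theorem Cfsg.quaternion_sylow_order_four_subgroups_conjugate_in_normalizer);
-- the grader kernel-checks Cfsg.Agent.S0950.result against that frozen type. Keep the theorem IN THIS FILE
-- (a `result` declared elsewhere and merely imported here is not credited); helpers may live anywhere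
-- under Cfsg/Agent/.
import Cfsg.Statements.S0950
import Cfsg.Agent.Lib.Helper3.Quat8
import Cfsg.Agent.Lib.Lead.FrobNPC5
import Cfsg.Agent.Lib.Lead.PComplement

set_option autoImplicit false
open Cfsg
open Cfsg.Agent.Lib.Helper3 Cfsg.Agent.Lib.Lead

namespace Cfsg.Agent.S0950

/-- Let S be a Sylow 2-subgroup of the finite group G that is isomorphic to the quaternion group of order 8, and suppose S has no normal complement in G. Then any two subgroups of order 4 of S are conjugate by an element of the normalizer of S. -/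
theorem result {G : Type*} [Group G] [Finite G] (S : Sylow 2 G) (e : (S : Subgroup G) ≃* QuaternionGroup 2) (hnc : ∀ N : Subgroup G, N.Normal → ¬ Subgroup.IsComplement' N (S : Subgroup G)) (A B : Subgroup G) (hA : A ≤ S) (hB : B ≤ S) (hA4 : Nat.card A = 4) (hB4 : Nat.card B = 4) : ∃ n ∈ Subgroup.normalizer ((S : Subgroup G) : Set G), B = A.map (MulAut.conj n).toMonoidHom := by
  classical
  have hnpc : ¬ Cfsg.HasNormalPComplement 2 G := by
    intro h
    obtain ⟨N, hN, hc⟩ := isComplement'_sylow_of_hasNormalPComplement h S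
    exact hnc N hN hc
  rw [hasNormalPComplement_iff_plocalCentral] at hnpc
  have hex : ∃ Q : Subgroup G, Q ≤ (S : Subgroup G) ∧ ∃ g ∈ Subgroup.normalizer (Q : Set G),
      Nat.Coprime (orderOf g) 2 ∧ g ∉ Subgroup.centralizer (Q : Set G) := by
    by_contra hno
    apply hnpc
    apply plocalCentral_of_sylow S
    intro Q hQ g hg hcop
    by_contra hgc
    exact hno ⟨Q, hQ, g, hg, hcop, hgc⟩
  obtain ⟨D, hDS, g, hgN, hcop, hgC⟩ := hex
  have hr : Odd (orderOf g) := Nat.coprime_two_right.mp hcop
  have hgD : ∀ d ∈ D, g * d * g⁻¹ ∈ D := fun d hd => (Subgroup.mem_normalizer_iff.mp hgN d).mp hd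
  have hmove : ∃ d ∈ D, g * d * g⁻¹ ≠ d := by
    by_contra hall
    simp only [not_exists, not_and, not_not] at hall
    apply hgC
    rw [Subgroup.mem_centralizer_iff]
    intro d hd
    have := hall d hd
    rw [mul_inv_eq_iff_eq_mul] at this
    exact this.symm
  obtain ⟨hDeq, htrans⟩ := q8_odd_aut (S : Subgroup G) e D hDS g (orderOf g) hr (pow_orderOf_eq_one g)
    hgD hmove
  -- generators of `A` and `B`
  have hgen : ∀ A : Subgroup G, A ≤ (S : Subgroup G) → Nat.card A = 4 →
      ∃ a ∈ A, a ^ 2 ≠ 1 ∧ Subgroup.zpowers a = A := by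
    intro A hA hA4
    exact q8_sub_exists_generator (S : Subgroup G) e A hA hA4
  obtain ⟨a, haA, ha2, hAa⟩ := hgen A hA hA4
  obtain ⟨b, hbB, hb2, hBb⟩ := hgen B hB hB4
  obtain ⟨i, hi⟩ := htrans a (hA haA) b (hB hbB) ha2 hb2
  have hgiN : g ^ i ∈ Subgroup.normalizer ((S : Subgroup G) : Set G) := by
    apply Subgroup.pow_mem
    rw [← hDeq]; exact hgN
  refine ⟨g ^ i, hgiN, ?_⟩
  rw [← hAa, ← hBb, MonoidHom.map_zpowers]
  show Subgroup.zpowers b = Subgroup.zpowers (g ^ i * a * (g ^ i)⁻¹)
  rcases hi with h | h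
  · rw [h]
  · rw [h, Subgroup.zpowers_inv]

end Cfsg.Agent.S0950
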