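import Mathlib
import Cfsg.Statements.S1182
import Cfsg.Agent.Lib.Helper3.Isolated

set_option autoImplicit false
open Cfsg
open Cfsg.Agent.Lib.Helper3

namespace Cfsg.Agent.S1182

theorem result {G : Type*} [Group G] [Finite G] (z : G) (hz : Cfsg.IsIsolatedInvolution z) (H : Subgroup G) (hzH : z ∈ Subgroup.normalizer (H : Set G)) (x y : G) (hx : x ∈ H) (hy : y ∈ H) (hxz : Commute x z) (hyz : Commute y z) (h : G) (hh : h ∈ H) (hconj : h * x * h⁻¹ = y) : ∃ c ∈ H, Commute c z ∧ c * x * c⁻¹ = y := by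
  obtain ⟨k, hk, h1, _, _⟩ := IsIsolatedInvolution.exists_conj hz h
  -- z * (h z h⁻¹) ∈ H ⊓ C(y)
  have hzinv : z⁻¹ = z := IsIsolatedInvolution.inv_eq hz
  have hmemH : z * (h * z * h⁻¹) ∈ H := by
    have e : z * (h * z * h⁻¹) = (z * h * z⁻¹) * h⁻¹ := by rw [hzinv]; group
    rw [e]
    exact H.mul_mem ((Subgroup.mem_normalizer_iff.mp hzH h).mp hh) (H.inv_mem hh)
  have hmemC : z * (h * z * h⁻¹) ∈ Subgroup.centralizer ({y} : Set G) := by
    rw [Subgroup.mem_centralizer_singleton_iff]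
    -- y commutes with z and with h z h⁻¹
    have c1 : Commute y (h * z * h⁻¹) := by
      rw [← hconj]
      have : Commute (h * x * h⁻¹) (h * z * h⁻¹) := by
        have := hxz.eq
        unfold Commute SemiconjBy
        calc h * x * h⁻¹ * (h * z * h⁻¹) = h * (x * z) * h⁻¹ := by group
          _ = h * (z * x) * h⁻¹ := by rw [this]
          _ = h * z * h⁻¹ * (h * x * h⁻¹) := by group
      exact this
    exact ((hyz.mul_right c1).eq).symm
  have hkH : k ∈ H := (Subgroup.zpowers_le.mpr hmemH) hk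
  have hkC : k ∈ Subgroup.centralizer ({y} : Set G) := (Subgroup.zpowers_le.mpr hmemC) hk
  rw [Subgroup.mem_centralizer_singleton_iff] at hkC
  refine ⟨k⁻¹ * h, H.mul_mem (H.inv_mem hkH) hh, ?_, ?_⟩
  · -- (k⁻¹ h) z (k⁻¹ h)⁻¹ = z
    have : (k⁻¹ * h) * z * (k⁻¹ * h)⁻¹ = z := by
      calc (k⁻¹ * h) * z * (k⁻¹ * h)⁻¹ = k⁻¹ * (h * z * h⁻¹) * k := by group
        _ = k⁻¹ * (k * z * k⁻¹) * k := by rw [h1]
        _ = z := by group
    unfold Commute SemiconjBy
    calc k⁻¹ * h * z = (k⁻¹ * h) * z * (k⁻¹ * h)⁻¹ * (k⁻¹ * h) := by group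
      _ = z * (k⁻¹ * h) := by rw [this]
  · calc k⁻¹ * h * x * (k⁻¹ * h)⁻¹ = k⁻¹ * (h * x * h⁻¹) * k := by group
      _ = k⁻¹ * (y * k) := by rw [hconj]; group
      _ = k⁻¹ * (k * y) := by rw [hkC]
      _ = y := by group

end Cfsg.Agent.S1182
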