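import Mathlib
import Cfsg.Statements.S1185
import Cfsg.Agent.Lib.Helper3.Isolated

set_option autoImplicit false
open Cfsg
open Cfsg.Agent.Lib.Helper3

namespace Cfsg.Agent.S1185

theorem eq_of_sq_eq_of_odd {G : Type*} [Group G] (k₁ k₂ : G) (h1 : Odd (orderOf k₁)) (h2 : Odd (orderOf k₂))
    (hsq : k₁ * k₁ = k₂ * k₂) : k₁ = k₂ := by
  have hN : Odd (orderOf k₁ * orderOf k₂) := h1.mul h2
  obtain ⟨M, hM⟩ := hN
  have e1 : k₁ ^ (orderOf k₁ * orderOf k₂) = 1 := by rw [pow_mul, pow_orderOf_eq_one, one_pow]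
  have e2 : k₂ ^ (orderOf k₁ * orderOf k₂) = 1 := by
    rw [mul_comm, pow_mul, pow_orderOf_eq_one, one_pow]
  have f1 : k₁ = (k₁ * k₁) ^ (M + 1) := by
    rw [← pow_two, ← pow_mul]
    have : 2 * (M + 1) = (orderOf k₁ * orderOf k₂) + 1 := by omega
    rw [this, pow_succ, e1, one_mul]
  have f2 : k₂ = (k₂ * k₂) ^ (M + 1) := by
    rw [← pow_two, ← pow_mul]
    have : 2 * (M + 1) = (orderOf k₁ * orderOf k₂) + 1 := by omega
    rw [this, pow_succ, e2, one_mul]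
  rw [f1, f2, hsq]

theorem result {G : Type*} [Group G] [Finite G] (z : G) (hz : Cfsg.IsIsolatedInvolution z) (g : G) : ∃! k : G, (Odd (orderOf k) ∧ z * k * z⁻¹ = k⁻¹) ∧ g⁻¹ * k ∈ Subgroup.centralizer ({z} : Set G) := by
  have hzz := IsIsolatedInvolution.mul_self hz
  have hzinv := IsIsolatedInvolution.inv_eq hz
  obtain ⟨k, _, h1, h2, h3⟩ := IsIsolatedInvolution.exists_conj hz g
  have key : ∀ k : G, g⁻¹ * k ∈ Subgroup.centralizer ({z} : Set G) ↔ k * z * k⁻¹ = g * z * g⁻¹ := by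
    intro k
    rw [Subgroup.mem_centralizer_singleton_iff]
    constructor
    · intro h
      calc k * z * k⁻¹ = g * ((g⁻¹ * k) * z) * k⁻¹ := by group
        _ = g * (z * (g⁻¹ * k)) * k⁻¹ := by rw [h]
        _ = g * z * g⁻¹ := by group
    · intro h
      calc g⁻¹ * k * z = g⁻¹ * (k * z * k⁻¹) * k := by group
        _ = g⁻¹ * (g * z * g⁻¹) * k := by rw [h]
        _ = z * (g⁻¹ * k) := by group
  have key2 : ∀ k : G, z * k * z⁻¹ = k⁻¹ → k * z * k⁻¹ = k * k * z := by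
    intro k hk
    have e : z * k⁻¹ = k * z := by
      have h5 : z * k⁻¹ * z⁻¹ = (z * k * z⁻¹)⁻¹ := by group
      rw [hk, inv_inv] at h5
      calc z * k⁻¹ = (z * k⁻¹ * z⁻¹) * z := by group
        _ = k * z := by rw [h5]
    calc k * z * k⁻¹ = k * (z * k⁻¹) := by group
      _ = k * (k * z) := by rw [e]
      _ = k * k * z := by group
  refine ⟨k, ⟨⟨h3, h2⟩, (key k).mpr h1⟩, ?_⟩
  rintro k' ⟨⟨h3', h2'⟩, hk'⟩
  have h1' := (key k').mp hk'
  apply eq_of_sq_eq_of_odd _ _ h3' h3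
  have : k' * k' * z = k * k * z := by
    rw [← key2 k' h2', ← key2 k h2, h1, h1']
  exact mul_right_cancel this

end Cfsg.Agent.S1185
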