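import Mathlib
import Cfsg.Statements.S1181
import Cfsg.Agent.Lib.Helper3.Isolated

set_option autoImplicit false
open Cfsg
open Cfsg.Agent.Lib.Helper3

namespace Cfsg.Agent.S1181

theorem result {G : Type*} [Group G] [Finite G] (z : G) (hz : Cfsg.IsIsolatedInvolution z) (N : Subgroup G) [N.Normal] (hzN : z ∉ N) : Subgroup.centralizer ({(QuotientGroup.mk z : G ⧸ N)} : Set (G ⧸ N)) = (Subgroup.centralizer ({z} : Set G)).map (QuotientGroup.mk' N) ∧ Cfsg.IsIsolatedInvolution (QuotientGroup.mk z : G ⧸ N) := by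
  have hzz := IsIsolatedInvolution.mul_self hz
  have hzinv := IsIsolatedInvolution.inv_eq hz
  have hzbar : (QuotientGroup.mk z : G ⧸ N) * (QuotientGroup.mk z : G ⧸ N) = 1 := by
    rw [← QuotientGroup.mk_mul, hzz]; rfl
  have hzbarinv : (QuotientGroup.mk z : G ⧸ N)⁻¹ = QuotientGroup.mk z := inv_eq_of_mul_eq_one_right hzbar
  constructor
  · ext gbar
    obtain ⟨g, rfl⟩ := QuotientGroup.mk_surjective gbar
    rw [Subgroup.mem_centralizer_singleton_iff]
    constructor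
    · intro h
      obtain ⟨k, hk, h1, _, _⟩ := IsIsolatedInvolution.exists_conj hz g
      have hmem : z * (g * z * g⁻¹) ∈ N := by
        rw [← QuotientGroup.eq_one_iff]
        have : ((z * (g * z * g⁻¹) : G) : G ⧸ N) = (z : G ⧸ N) * ((g : G ⧸ N) * (z : G ⧸ N)) * (g : G ⧸ N)⁻¹ := by
          simp only [QuotientGroup.mk_mul, QuotientGroup.mk_inv, mul_assoc]
        rw [this, h, ← mul_assoc, hzbar]
        group
      have hkN : k ∈ N := (Subgroup.zpowers_le.mpr hmem) hk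
      refine ⟨k⁻¹ * g, ?_, ?_⟩
      · rw [SetLike.mem_coe, Subgroup.mem_centralizer_singleton_iff]
        calc k⁻¹ * g * z = k⁻¹ * (g * z * g⁻¹) * g := by group
          _ = k⁻¹ * (k * z * k⁻¹) * g := by rw [h1]
          _ = z * (k⁻¹ * g) := by group
      · rw [QuotientGroup.mk'_apply, QuotientGroup.mk_mul, QuotientGroup.mk_inv,
          (QuotientGroup.eq_one_iff k).mpr hkN]
        simp
    · rintro ⟨c, hc, hcg⟩
      rw [SetLike.mem_coe, Subgroup.mem_centralizer_singleton_iff] at hc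
      rw [QuotientGroup.mk'_apply] at hcg
      rw [← hcg, ← QuotientGroup.mk_mul, ← QuotientGroup.mk_mul, hc]
  · refine ⟨?_, ?_⟩
    · have : Fact (Nat.Prime 2) := ⟨Nat.prime_two⟩
      apply orderOf_eq_prime
      · rw [pow_two]; exact hzbar
      · intro h
        exact hzN ((QuotientGroup.eq_one_iff z).mp h)
    · intro gbar hcomm
      obtain ⟨g, rfl⟩ := QuotientGroup.mk_surjective gbar
      have hodd := IsIsolatedInvolution.odd_orderOf_mul_conj hz g
      set dbar : G ⧸ N := (z : G ⧸ N) * ((g : G ⧸ N) * (z : G ⧸ N) * (g : G ⧸ N)⁻¹) with hdbar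
      have e : dbar = ((z * (g * z * g⁻¹) : G) : G ⧸ N) := by
        simp only [hdbar, QuotientGroup.mk_mul, QuotientGroup.mk_inv]
      have hdvd : orderOf dbar ∣ orderOf (z * (g * z * g⁻¹)) := by
        rw [e]
        exact orderOf_map_dvd (QuotientGroup.mk' N) _
      have hodd' : Odd (orderOf dbar) := Odd.of_dvd_nat hodd hdvd
      have hvv : ((g : G ⧸ N) * (z : G ⧸ N) * (g : G ⧸ N)⁻¹) * ((g : G ⧸ N) * (z : G ⧸ N) * (g : G ⧸ N)⁻¹) = 1 :=
        conj_mul_self hzbar _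
      have hdd : dbar * dbar = 1 := by
        have := hcomm.eq
        calc dbar * dbar = (z : G ⧸ N) * (((g : G ⧸ N) * (z : G ⧸ N) * (g : G ⧸ N)⁻¹) * (z : G ⧸ N)) * ((g : G ⧸ N) * (z : G ⧸ N) * (g : G ⧸ N)⁻¹) := by
              simp only [hdbar, mul_assoc]
          _ = (z : G ⧸ N) * ((z : G ⧸ N) * ((g : G ⧸ N) * (z : G ⧸ N) * (g : G ⧸ N)⁻¹)) * ((g : G ⧸ N) * (z : G ⧸ N) * (g : G ⧸ N)⁻¹) := by rw [this]
          _ = ((z : G ⧸ N) * (z : G ⧸ N)) * (((g : G ⧸ N) * (z : G ⧸ N) * (g : G ⧸ N)⁻¹) * ((g : G ⧸ N) * (z : G ⧸ N) * (g : G ⧸ N)⁻¹)) := by simp only [mul_assoc]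
          _ = 1 := by rw [hzbar, hvv, one_mul]
      have hd1 := eq_one_of_odd_of_mul_self dbar hodd' hdd
      rw [hdbar] at hd1
      calc (g : G ⧸ N) * (z : G ⧸ N) * (g : G ⧸ N)⁻¹ = (z : G ⧸ N)⁻¹ := eq_inv_of_mul_eq_one_right hd1
        _ = (z : G ⧸ N) := hzbarinv

end Cfsg.Agent.S1181
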