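import Mathlib
import Cfsg.Statements.S0369
import Cfsg.Agent.Lib.Helper1.Golay5
import Cfsg.Agent.Lib.Helper9.GolayConcrete

set_option autoImplicit false
open Cfsg

namespace Cfsg.Agent.S0369

open Cfsg.Agent.Lib.Helper9 Cfsg.Agent.Lib.Helper9.GolayG
open scoped Pointwise

/-- The group of the length-24 code coincides with the automorphism group of its octad system. -/
theorem result : Cfsg.M24 = Cfsg.setSystemAut Cfsg.octads := by
  have hfin1 : (supports (golayCode : Set (GolayPt → ZMod 2))).Finite := Set.toFinite _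
  have hfin2 : (octads : Set (Finset GolayPt)).Finite := Set.toFinite _
  apply le_antisymm
  · intro σ hσ
    change σ ∈ MulAction.stabilizer (Equiv.Perm GolayPt)
      (supports (golayCode : Set (GolayPt → ZMod 2))) at hσ
    rw [MulAction.mem_stabilizer_set' hfin1] at hσ
    show σ ∈ MulAction.stabilizer (Equiv.Perm GolayPt) octads
    rw [MulAction.mem_stabilizer_set' hfin2]
    rintro b ⟨hb, hcard⟩
    refine ⟨hσ hb, ?_⟩
    rw [Finset.card_smul_finset, hcard]
  · intro σ hσ
    change σ ∈ MulAction.stabilizer (Equiv.Perm GolayPt) octads at hσ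
    rw [MulAction.mem_stabilizer_set' hfin2] at hσ
    apply Cfsg.Agent.Lib.Helper1.mem_M24_of_preserves
    apply Cfsg.Agent.Lib.Helper1.preserves_of_span σ
      {w : GolayPt → ZMod 2 | w ∈ golayCode ∧ hammingNorm w = 8}
      (span_octads golayCode_isAbsGolay).symm
    rintro g ⟨hg, h8⟩
    have hb : support₂ g ∈ octads := by
      refine ⟨⟨g, hg, rfl⟩, ?_⟩
      rw [← hammingNorm_eq_card_support₂, h8]
    have h1 := hσ hb
    rw [Cfsg.Agent.Lib.Helper1.smul_support₂] at h1
    obtain ⟨⟨w, hw, hsupp⟩, -⟩ := h1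
    have : w = fun p => g (σ.symm p) := support₂_injective hsupp
    rw [← this]
    exact hw

end Cfsg.Agent.S0369
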