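import Mathlib
import Cfsg.Statements.S0385
import Cfsg.Agent.Lib.Helper9.GolayConcrete
import Cfsg.Agent.Lib.Helper9.GolayG6

set_option autoImplicit false
open Cfsg

namespace Cfsg.Agent.S0385

open Cfsg.Agent.Lib.Helper9 Cfsg.Agent.Lib.Helper9.GolayG Finset

section
variable {α : Type*} [Fintype α] [DecidableEq α] {C : Submodule (ZMod 2) (α → ZMod 2)}

theorem hexads_steiner (hC : IsAbsGolay C) {dw : α → ZMod 2} (hdw : dw ∈ C)
    (h12 : hammingNorm dw = 12) :
    Cfsg.IsSteinerSystem 5 6
      {h : Finset {p : α // p ∈ Cfsg.support₂ dw} |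
        ∃ o ∈ Cfsg.wordsOfWeight (C : Set (α → ZMod 2)) 8,
          (o ∩ Cfsg.support₂ dw).card = 6 ∧
            h = Finset.subtype (fun p => p ∈ Cfsg.support₂ dw) o} := by
  set d := Cfsg.support₂ dw with hd
  refine ⟨?_, ?_⟩
  · rintro h ⟨o, _, h6, rfl⟩
    rw [Finset.card_subtype, Finset.filter_mem_eq_inter, h6]
  · intro s hs
    set s' : Finset α := s.map (Function.Embedding.subtype _) with hs'
    have hs'card : s'.card = 5 := by rw [hs', Finset.card_map, hs]
    have hs'd : s' ⊆ d := by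
      intro x hx
      rw [hs', Finset.mem_map] at hx
      obtain ⟨y, _, rfl⟩ := hx
      exact y.2
    obtain ⟨c, hc, h8, hsub⟩ := exists_octad hC s' hs'card
    have hinter : (Cfsg.support₂ c ∩ d).card = 6 := by
      have h1 := octad_dodecad_inter hC hc hdw h8 h12
      have h2 : 5 ≤ (Cfsg.support₂ c ∩ d).card := by
        rw [← hs'card]
        exact Finset.card_le_card (Finset.subset_inter hsub hs'd)
      rw [← hd] at h1
      omega
    have hoW : Cfsg.support₂ c ∈ Cfsg.wordsOfWeight (C : Set (α → ZMod 2)) 8 :=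
      (mem_W8_iff _).2 ⟨c, hc, h8, rfl⟩
    refine ⟨Finset.subtype (fun p => p ∈ d) (Cfsg.support₂ c),
      ⟨⟨Cfsg.support₂ c, hoW, hinter, rfl⟩, ?_⟩, ?_⟩
    · intro x hx
      rw [Finset.mem_subtype]
      apply hsub
      rw [hs', Finset.mem_map]
      exact ⟨x, hx, rfl⟩
    · rintro h' ⟨⟨o', ho', _, rfl⟩, hsub'⟩
      obtain ⟨c', hc', h8', rfl⟩ := (mem_W8_iff _).1 ho'
      have hsub'' : s' ⊆ Cfsg.support₂ c' := by
        intro x hx
        rw [hs', Finset.mem_map] at hx
        obtain ⟨y, hy, rfl⟩ := hx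
        have := hsub' hy
        rw [Finset.mem_subtype] at this
        exact this
      have : c = c' := by
        apply octad_unique hC hc hc' h8 h8'
        rw [← hs'card]
        exact Finset.card_le_card (Finset.subset_inter hsub hsub'')
      rw [this]

end

/-- The 6-point intersections of octads with a fixed dodecad form a Steiner system S(5, 6, 12) on the dodecad. -/
theorem result (d : Finset Cfsg.GolayPt) (hd : d ∈ Cfsg.dodecads) : Cfsg.IsSteinerSystem 5 6 {h : Finset {p : Cfsg.GolayPt // p ∈ d} | ∃ o ∈ Cfsg.octads, (o ∩ d).card = 6 ∧ h = Finset.subtype (fun p => p ∈ d) o} := by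
  obtain ⟨⟨dw, hdw, rfl⟩, hcard⟩ := hd
  have h12 : hammingNorm dw = 12 := by rw [hammingNorm_eq_card_support₂, hcard]
  exact hexads_steiner golayCode_isAbsGolay hdw h12

end Cfsg.Agent.S0385
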