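import Cfsg.Statements.S0414
import Cfsg.Agent.Lib.Helper1.SteinAut8
import Cfsg.Agent.S0410

set_option autoImplicit false
open Cfsg

namespace Cfsg.Agent.S0414

/-- Aut of an S(3, 6, 22) has order 887040, is 3-transitive, and contains a simple subgroup of index 2. -/
theorem result {α : Type*} [Fintype α] [DecidableEq α] (hα : Fintype.card α = 22) {B : Set (Finset α)} (hB : Cfsg.IsSteinerSystem 3 6 B) : Nat.card (Cfsg.setSystemAut B) = 887040 ∧ MulAction.IsMultiplyPretransitive (Cfsg.setSystemAut B) α 3 ∧ ∃ H : Subgroup (Cfsg.setSystemAut B), H.index = 2 ∧ Cfsg.IsM22 H := by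
  open Cfsg.Agent.Lib.Helper1.Stein in
  have hqp : (some 0 : Cfsg.GolayPt) ≠ none := by simp
  obtain ⟨hcard, htr, H, hindex, hsimple, hHcard⟩ := model22 none (some 0) hqp
  obtain ⟨e, he⟩ := Cfsg.Agent.S0410.result (dpq_card none (some 0) hqp) hα
    (dpq_steiner none (some 0) hqp) hB
  change mapSys e (Dpq none (some 0) hqp) = B at he
  subst he
  set φ := autCongr e (Dpq none (some 0) hqp) with hφ
  refine ⟨?_, pretransitive_congr e _ 3 htr, H.map (φ : _ →* _), ?_, ?_, ?_⟩
  · rw [← Nat.card_congr φ.toEquiv]; exact hcard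
  · rw [Subgroup.index_map_equiv]; exact hindex
  · have := hsimple
    exact (φ.subgroupMap H).symm.isSimpleGroup
  · rw [← Nat.card_congr (φ.subgroupMap H).toEquiv]; exact hHcard

end Cfsg.Agent.S0414
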