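import Cfsg.Statements.S1586
import Cfsg.Agent.Lib.Helper1.HSGraph3
import Cfsg.Agent.S0414

set_option autoImplicit false
open Cfsg

namespace Cfsg.Agent.S1586

/-- The Higman–Sims graph built from an S(3, 6, 22) has exactly 88704000 automorphisms. -/
theorem result {α : Type*} [Fintype α] [DecidableEq α] (hα : Fintype.card α = 22) {B : Set (Finset α)} (hB : Cfsg.IsSteinerSystem 3 6 B) : Nat.card (Cfsg.pointBlockGraph B ≃g Cfsg.pointBlockGraph B) = 88704000 := by
  open Cfsg.Agent.Lib.Helper1.Stein Cfsg.Agent.Lib.Helper1.HSG in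
  classical
  obtain ⟨e, he⟩ := W22.unique hα hB
  change mapSys e B = S22 at he
  obtain ⟨hcard, h3, -⟩ := Cfsg.Agent.S0414.result hα hB
  -- the extra vertex can be moved
  let ψ := isoOf B S22 e he
  let t : GA B := (ψ.trans tAut).trans ψ.symm
  have ht : t none = some (Sum.inl (e.symm 0)) := by
    show ψ.symm (tAut (ψ none)) = _
    rw [show ψ none = none from rfl, tAut_none, RelIso.symm_apply_eq]
    show _ = some (Sum.inl (e (e.symm 0)))
    rw [Equiv.apply_symm_apply]
  -- transitivity of the automorphism group of the system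
  have hcα : Nat.card α = 22 := by rw [Nat.card_eq_fintype_card, hα]
  have h1 : MulAction.IsMultiplyPretransitive (setSystemAut B) α 1 :=
    MulAction.isMultiplyPretransitive_of_le (n := 3) (by norm_num) (by rw [hcα]; norm_num)
  have h1' : MulAction.IsPretransitive (setSystemAut B) α :=
    MulAction.is_one_pretransitive_iff.1 h1
  have hpt : ∀ a a' : α, ∃ g : setSystemAut B, (g : Equiv.Perm α) a = a' := by
    intro a a'
    obtain ⟨g, hg⟩ := MulAction.exists_smul_eq (setSystemAut B) a a'
    exact ⟨g, hg⟩
  have hblk : ∀ b b' : B, ∃ g : setSystemAut B,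
      (b : Finset α).image (g : Equiv.Perm α) = b' := by
    intro b b'
    have hb6 := hB.1 b.1 b.2
    have hb6' := hB.1 b'.1 b'.2
    obtain ⟨x0⟩ : Nonempty (Fin 3 ↪ {p : α // p ∈ b.1}) :=
      Function.Embedding.nonempty_of_card_le (by rw [Fintype.card_fin, Fintype.card_coe, hb6]; norm_num)
    obtain ⟨y0⟩ : Nonempty (Fin 3 ↪ {p : α // p ∈ b'.1}) :=
      Function.Embedding.nonempty_of_card_le (by rw [Fintype.card_fin, Fintype.card_coe, hb6']; norm_num)
    let x : Fin 3 ↪ α := x0.trans (Function.Embedding.subtype _)
    let y : Fin 3 ↪ α := y0.trans (Function.Embedding.subtype _)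
    rw [MulAction.isMultiplyPretransitive_iff] at h3
    obtain ⟨g, hg⟩ := h3 x y
    refine ⟨g, ?_⟩
    have hgb : (b : Finset α).image (g : Equiv.Perm α) ∈ B :=
      (mem_setSystemAut_iff B g.1).1 g.2 b.1 b.2
    apply block_unique hB hgb b'.2
    have hsub : (Finset.univ.image y) ⊆ (b : Finset α).image (g : Equiv.Perm α) ∩ b' := by
      intro z hz
      rw [Finset.mem_image] at hz
      obtain ⟨i, -, rfl⟩ := hz
      rw [Finset.mem_inter]
      constructor
      · rw [Finset.mem_image]
        refine ⟨x i, (x0 i).2, ?_⟩
        have := DFunLike.congr_fun hg i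
        exact this
      · exact (y0 i).2
    calc 3 = (Finset.univ.image y).card := by
          rw [Finset.card_image_of_injective _ y.injective, Finset.card_univ, Fintype.card_fin]
      _ ≤ _ := Finset.card_le_card hsub
  have h12 : e.symm 0 ≠ e.symm 1 := fun h => by
    have := e.symm.injective h
    exact absurd this (by decide)
  have hpre := pretransitive B hpt hblk _ _ h12 t _ ht
  -- the count
  have hcount := Cfsg.Agent.Lib.Helper1.StabCard.card_eq_card_mul_stabilizer (G := GA B)
    (none : Vx B)
  rw [card_stab, hcard] at hcount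
  have hBcard : Fintype.card B = 77 := by
    have := card_blocks hB B.toFinset (fun b => Set.mem_toFinset)
    rw [Set.toFinset_card, hα] at this
    have h20 : Nat.choose 6 3 = 20 := by decide
    have h1540 : Nat.choose 22 3 = 1540 := by decide
    rw [h20, h1540] at this
    omega
  have hV : Fintype.card (Vx B) = 100 := by
    rw [Fintype.card_option, Fintype.card_sum, hα, hBcard]
  rw [hV] at hcount
  exact hcount

end Cfsg.Agent.S1586
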