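import Mathlib
import Cfsg.Statements.S2014
import Cfsg.Agent.Lib.Helper6.PRes

set_option autoImplicit false
open Cfsg

namespace Cfsg.Agent.S2014

open Cfsg.Agent.Lib.Helper6
open Pointwise

/-- Let P be a Sylow p-subgroup of a finite group G and A, C ≤ P subgroups conjugate in G, with C extremal: N_P(C) is a Sylow p-subgroup of N_G(C). Then there is g with gAg⁻¹ = C and g N_P(A) g⁻¹ ≤ N_P(C); moreover, given any h with hAh⁻¹ = C, g can be chosen so that h g⁻¹ lies in O^p(N_G(C)), the subgroup of N_G(C) generated by its elements of order prime to p. -/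
theorem result {G : Type*} [Group G] [Finite G] (p : ℕ) [Fact p.Prime] (P : Sylow p G) (A C : Subgroup G) (hA : A ≤ P) (hC : C ≤ P) (hext : ¬ p ∣ ((P : Subgroup G) ⊓ Subgroup.normalizer ((C : Subgroup G) : Set G)).relIndex (Subgroup.normalizer ((C : Subgroup G) : Set G))) (h : G) (hh : A.map (MulAut.conj h).toMonoidHom = C) : ∃ g : G, A.map (MulAut.conj g).toMonoidHom = C ∧ ((P : Subgroup G) ⊓ Subgroup.normalizer ((A : Subgroup G) : Set G)).map (MulAut.conj g).toMonoidHom ≤ (P : Subgroup G) ⊓ Subgroup.normalizer ((C : Subgroup G) : Set G) ∧ h * g⁻¹ ∈ (Cfsg.pResidual p ↥(Subgroup.normalizer ((C : Subgroup G) : Set G))).map (Subgroup.normalizer ((C : Subgroup G) : Set G)).subtype := by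
  classical
  set N := Subgroup.normalizer (C : Set G) with hN
  set R : Subgroup N := ((P : Subgroup G) ⊓ N).subgroupOf N with hR
  have hRp : IsPGroup p R := (P.isPGroup'.to_le inf_le_left).comap_subtype
  have hRi : ¬ p ∣ R.index := hext
  set R' : Sylow p N := hRp.toSylow hRi with hR'
  have hR'coe : (R' : Subgroup N) = R := IsPGroup.toSylow_coe hRp hRi
  set X : Subgroup G := ((P : Subgroup G) ⊓ Subgroup.normalizer (A : Set G)).map (MulAut.conj h).toMonoidHom with hX
  have hNeq : N = (Subgroup.normalizer (A : Set G)).map (MulAut.conj h).toMonoidHom := by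
    rw [hN, ← hh]
    exact (Subgroup.map_equiv_normalizer_eq A (MulAut.conj h)).symm
  have hXN : X ≤ N := by
    rw [hNeq]
    exact Subgroup.map_mono inf_le_right
  have hXp : IsPGroup p X := (P.isPGroup'.to_le inf_le_left).map _
  have hXNp : IsPGroup p (X.subgroupOf N) := hXp.comap_subtype
  obtain ⟨Q, hQ⟩ := hXNp.exists_le_sylow
  obtain ⟨n, hn⟩ := MulAction.exists_smul_eq N R' Q
  have hntop : n ∈ (pResidual p N ⊔ (R' : Subgroup N) : Subgroup N) := by
    rw [pResidual_sup_sylow R']; exact Subgroup.mem_top n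
  have hnmul : n ∈ ((pResidual p N : Subgroup N) : Set N) * ((R' : Subgroup N) : Set N) := by
    rw [← Subgroup.normal_mul]; exact hntop
  obtain ⟨u, hu, r, hr, hur⟩ := Set.mem_mul.mp hnmul
  have hrR : r • R' = R' := Sylow.smul_eq_iff_mem_normalizer.mpr (Subgroup.le_normalizer hr)
  have hQu : u • R' = Q := by
    rw [← hn, ← hur, mul_smul, hrR]
  -- membership in u • R'
  have hmemQ : ∀ y : N, y ∈ (Q : Subgroup N) → u⁻¹ * y * u ∈ R := by
    intro y hy
    rw [← hQu] at hy
    have h1 : y ∈ MulAut.conj u • (R' : Subgroup N) := by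
      rw [← Sylow.pointwise_smul_def]; exact hy
    rw [Subgroup.mem_pointwise_smul_iff_inv_smul_mem] at h1
    rw [hR'coe] at h1
    simpa [MulAut.smul_def, mul_assoc] using h1
  have huN : (u : G) ∈ N := u.2
  refine ⟨(u : G)⁻¹ * h, ?_, ?_, ?_⟩
  · -- A^g = C
    have h1 : A.map (MulAut.conj ((u : G)⁻¹ * h)).toMonoidHom =
        (A.map (MulAut.conj h).toMonoidHom).map (MulAut.conj (u : G)⁻¹).toMonoidHom := by
      rw [Subgroup.map_map]
      congr 1
      ext x
      simp [MulAut.conj_apply, mul_assoc]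
    rw [h1, hh]
    have huinv : (u : G)⁻¹ ∈ N := N.inv_mem huN
    ext x
    rw [Subgroup.mem_map]
    constructor
    · rintro ⟨c, hc, rfl⟩
      exact (Subgroup.mem_normalizer_iff.mp huinv c).mp hc
    · intro hx
      refine ⟨(u : G) * x * (u : G)⁻¹, (Subgroup.mem_normalizer_iff.mp huN x).mp hx, ?_⟩
      simp [MulAut.conj_apply, mul_assoc]
  · rintro _ ⟨y, hy, rfl⟩
    have hyX : h * y * h⁻¹ ∈ X := ⟨y, hy, by simp [MulAut.conj_apply]⟩
    have hyN : h * y * h⁻¹ ∈ N := hXN hyX
    have h2 : (⟨h * y * h⁻¹, hyN⟩ : N) ∈ (Q : Subgroup N) := hQ (by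
      change ((⟨h * y * h⁻¹, hyN⟩ : N) : G) ∈ X
      exact hyX)
    have h3 := hmemQ _ h2
    have h4 : ((u⁻¹ * (⟨h * y * h⁻¹, hyN⟩ : N) * u : N) : G) ∈ (P : Subgroup G) ⊓ N := h3
    have e : (MulAut.conj ((u : G)⁻¹ * h)).toMonoidHom y =
        ((u⁻¹ * (⟨h * y * h⁻¹, hyN⟩ : N) * u : N) : G) := by
      simp [MulAut.conj_apply, mul_assoc]
    rw [e]
    exact h4
  · refine ⟨u, hu, ?_⟩
    simp

end Cfsg.Agent.S2014
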