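import Mathlib
import Cfsg.Statements.S1959
import Cfsg.Agent.Lib.Helper4.FamilyFusion

set_option autoImplicit false
open Cfsg

namespace Cfsg.Agent.S1959

open Cfsg.Agent.Lib.Helper4 Cfsg.Agent.Lib.Helper7

variable {G : Type*} [Group G]

theorem reach_top_of_fchain {𝓦 : Set (Subgroup G → Subgroup G)} {S V R' : Subgroup G} (hR'S : R' ≤ S)
    (hb : ∀ W ∈ 𝓦, ∀ y ∈ Subgroup.normalizer ((W R' : Subgroup G) : Set G), ∀ B : Set G, B ⊆ R' →
      lc y B ⊆ R' → Reach 𝓦 ⊤ S B y) {B : Set G} {c : G}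
    (hch : FChain 𝓦 (Subgroup.normalizer (V : Set G)) R' B c) : Reach 𝓦 ⊤ S B c := by
  induction hch with
  | nil hB => exact ⟨1, FChain.nil B (hB.trans hR'S), fun _ _ => rfl⟩
  | step c y h1 h2 h3 ih =>
    obtain ⟨W, hW, hy⟩ := h2
    have hstep := hb W hW y hy.2 (lc c B) h1.lc_subset (by rw [← lc_mul]; exact h3)
    exact Reach.trans ih hstep

theorem card_lt_of_lt [Finite G] {A B : Subgroup G} (hAB : A < B) : Nat.card A < Nat.card B := by
  by_contra hcon
  push Not at hcon
  exact hAB.ne (Subgroup.eq_of_le_of_card_ge hAB.le hcon)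

theorem main [Finite G] {p : ℕ} [Fact p.Prime] (S : Sylow p G) (𝓦 : Set (Subgroup G → Subgroup G))
    (h𝓦 : ∀ W ∈ 𝓦, Cfsg.IsConjugacyFunctor p W)
    (hloc : ∀ T : Subgroup G, T ≤ (S : Subgroup G) → T ≠ ⊥ →
      ¬ p ∣ ((S : Subgroup G) ⊓ Subgroup.normalizer ((T : Subgroup G) : Set G)).relIndex
        (Subgroup.normalizer ((T : Subgroup G) : Set G)) →
      Cfsg.FamilyControlsStrongFusionIn p 𝓦 (Subgroup.normalizer ((T : Subgroup G) : Set G))) :
    ∀ d : ℕ,
      (∀ P : Subgroup G, P ≤ (S : Subgroup G) → Nat.card (S : Subgroup G) - Nat.card P = d →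
        ∀ g : G, lc g (P : Set G) ⊆ (S : Subgroup G) → Reach 𝓦 ⊤ (S : Subgroup G) (P : Set G) g) ∧
      (∀ R : Subgroup G, R ≤ (S : Subgroup G) → Nat.card (S : Subgroup G) - Nat.card R = d →
        ∀ W ∈ 𝓦, ∀ y ∈ Subgroup.normalizer ((W R : Subgroup G) : Set G), ∀ B : Set G, B ⊆ R →
          lc y B ⊆ R → Reach 𝓦 ⊤ (S : Subgroup G) B y) := by
  have hSp : IsPGroup p (S : Subgroup G) := S.isPGroup'
  -- part (b) for R = S
  have hbS : ∀ W ∈ 𝓦, ∀ y ∈ Subgroup.normalizer ((W (S : Subgroup G) : Subgroup G) : Set G), ∀ B : Set G,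
      B ⊆ (S : Subgroup G) → lc y B ⊆ (S : Subgroup G) → Reach 𝓦 ⊤ (S : Subgroup G) B y := by
    intro W hW y hy B hB hyB
    exact Reach.single hB ⟨W, hW, ⟨Subgroup.mem_top _, hy⟩⟩ hyB
  intro d
  induction d using Nat.strong_induction_on with
  | _ d ih =>
  -- part (b)
  have partB : ∀ R : Subgroup G, R ≤ (S : Subgroup G) → Nat.card (S : Subgroup G) - Nat.card R = d →
        ∀ W ∈ 𝓦, ∀ y ∈ Subgroup.normalizer ((W R : Subgroup G) : Set G), ∀ B : Set G, B ⊆ R →
          lc y B ⊆ R → Reach 𝓦 ⊤ (S : Subgroup G) B y := by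
    intro R hRS hd W hW y hy B hB hyB
    by_cases hReq : R = (S : Subgroup G)
    · subst hReq
      exact hbS W hW y hy B hB hyB
    by_cases hRbot : R = ⊥
    · apply Reach.of_subset_one
      intro b hb
      have := hB hb
      rw [hRbot] at this
      exact this
    have hRlt : R < (S : Subgroup G) := lt_of_le_of_ne hRS hReq
    have hRp : IsPGroup p R := hSp.to_le hRS
    set T' := W R with hT'
    have hT'R : T' ≤ R := (h𝓦 W hW R hRp).1
    have hT'ne : T' ≠ ⊥ := (h𝓦 W hW R hRp).2.1 hRbot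
    have hT'S : T' ≤ (S : Subgroup G) := hT'R.trans hRS
    set M := (S : Subgroup G) ⊓ Subgroup.normalizer (T' : Set G) with hM
    have hRM : R < M := by
      refine lt_of_lt_of_le (Cfsg.Agent.Lib.Lead.pgroup_normalizer_grows p _ R hSp hRlt) ?_
      intro g hg
      refine ⟨hg.1, ?_⟩
      apply mem_normalizer_iff_cj.mpr
      have h1 : W (cj g R) = cj g (W R) := (h𝓦 W hW R hRp).2.2 g
      rw [hT', ← h1, mem_normalizer_iff_cj.mp hg.2]
    obtain ⟨x, hx1, hx2, hx3⟩ := exists_extremal_conj S T' hT'S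
    set V := cj x T' with hV
    set R' := (S : Subgroup G) ⊓ Subgroup.normalizer (V : Set G) with hR'
    have hVne : V ≠ ⊥ := fun h0 => hT'ne ((cj_eq_bot_iff x T').mp h0)
    have hMcard : Nat.card R < Nat.card M := card_lt_of_lt hRM
    have hMle : Nat.card M ≤ Nat.card (S : Subgroup G) := Subgroup.card_le_of_le inf_le_left
    have hR'card : Nat.card M ≤ Nat.card R' := by
      rw [← card_cj x M]; exact Subgroup.card_le_of_le hx3
    have hR'le : Nat.card R' ≤ Nat.card (S : Subgroup G) := Subgroup.card_le_of_le inf_le_left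
    have hlcM : lc x (M : Set G) ⊆ R' := by
      rw [lc_subgroup]; exact hx3
    -- Reach M x
    have hMx : Reach 𝓦 ⊤ (S : Subgroup G) (M : Set G) x :=
      (ih (Nat.card (S : Subgroup G) - Nat.card M) (by omega)).1 M inf_le_left rfl x
        (hlcM.trans (by exact_mod_cast (inf_le_left : R' ≤ (S : Subgroup G))))
    have hBM : B ⊆ M := hB.trans (by exact_mod_cast hRM.le)
    have hyBM : lc y B ⊆ M := hyB.trans (by exact_mod_cast hRM.le)
    have hBx : Reach 𝓦 ⊤ (S : Subgroup G) B x := hMx.mono hBM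
    have hyBx : Reach 𝓦 ⊤ (S : Subgroup G) (lc y B) x := hMx.mono hyBM
    set y' := x * y * x⁻¹ with hy'
    have hy'V : y' ∈ Subgroup.normalizer (V : Set G) := by
      rw [hV, normalizer_cj]
      apply (mem_cj _ _ _).mpr
      have e : x⁻¹ * y' * x = y := by rw [hy']; group
      rw [e]; exact hy
    have hB'R' : lc x B ⊆ R' := (lc_mono x hBM).trans hlcM
    have hlceq : lc y' (lc x B) = lc x (lc y B) := by
      rw [← lc_mul, ← lc_mul, hy']
      congr 1
      group
    have hB'y' : lc y' (lc x B) ⊆ R' := by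
      rw [hlceq]; exact (lc_mono x hyBM).trans hlcM
    have hfc := hloc V hx1 hVne hx2
    obtain ⟨c, hc, hceq⟩ := reach_of_familyControls h𝓦 hfc (inf_le_right : R' ≤ _) (hSp.to_le inf_le_left) hx2
      (lc x B) y' hy'V hB'R' hB'y'
    have hconv : Reach 𝓦 ⊤ (S : Subgroup G) (lc x B) c :=
      reach_top_of_fchain (inf_le_left : R' ≤ (S : Subgroup G))
        ((ih (Nat.card (S : Subgroup G) - Nat.card R') (by omega)).2 R' inf_le_left rfl) hc
    have hconv' : Reach 𝓦 ⊤ (S : Subgroup G) (lc x B) y' := hconv.congr hceq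
    have h1 := Reach.trans hBx hconv'
    have h2 : Reach 𝓦 ⊤ (S : Subgroup G) (lc (y' * x) B) x⁻¹ := by
      rw [lc_mul, hlceq]; exact hyBx.symm
    have h3 := Reach.trans h1 h2
    have e : x⁻¹ * (y' * x) = y := by rw [hy']; group
    rwa [e] at h3
  refine ⟨?_, partB⟩
  -- part (a)
  intro P hPS hd g hg
  by_cases hPbot : P = ⊥
  · apply Reach.of_subset_one
    intro b hb
    rw [hPbot] at hb
    exact hb
  by_cases hPeq : P = (S : Subgroup G)
  · subst hPeq
    have hgN : g ∈ Subgroup.normalizer (((S : Subgroup G) : Subgroup G) : Set G) := by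
      apply mem_normalizer_iff_cj.mpr
      apply cj_eq_of_le
      intro z hz
      apply hg
      rw [lc_subgroup]; exact hz
    have hext : ¬ p ∣ ((S : Subgroup G) ⊓ Subgroup.normalizer (((S : Subgroup G) : Subgroup G) : Set G)).relIndex
        (Subgroup.normalizer (((S : Subgroup G) : Subgroup G) : Set G)) := by
      rw [inf_eq_left.mpr Subgroup.le_normalizer]
      intro hdvd
      exact S.not_dvd_index (hdvd.trans (Subgroup.relIndex_dvd_index_of_le Subgroup.le_normalizer))
    have hfc := hloc (S : Subgroup G) le_rfl hPbot hext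
    obtain ⟨c, hc, hceq⟩ := reach_of_familyControls h𝓦 hfc Subgroup.le_normalizer hSp
      (by rw [inf_eq_left.mpr Subgroup.le_normalizer] at hext; exact hext)
      ((S : Subgroup G) : Set G) g hgN le_rfl hg
    exact (reach_top_of_fchain le_rfl hbS hc).congr hceq
  have hPlt : P < (S : Subgroup G) := lt_of_le_of_ne hPS hPeq
  set Q := cj g P with hQ
  have hQlc : lc g (P : Set G) = Q := lc_subgroup g P
  have hQS : Q ≤ (S : Subgroup G) := by
    intro z hz
    apply hg
    rw [hQlc]; exact hz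
  have hQcard : Nat.card Q = Nat.card P := card_cj g P
  have hPcardS : Nat.card P < Nat.card (S : Subgroup G) := card_lt_of_lt hPlt
  have hQlt : Q < (S : Subgroup G) := by
    refine lt_of_le_of_ne hQS ?_
    intro hQeq
    rw [hQeq] at hQcard
    omega
  obtain ⟨x₁, hx1, hx2, hx3⟩ := exists_extremal_conj S P hPS
  set U := cj x₁ P with hU
  have hUQ : cj (x₁ * g⁻¹) Q = U := by
    rw [hQ, cj_mul, cj_inv_cj]
  obtain ⟨x₂, hx₂U, hx₂N, _⟩ := Cfsg.Agent.S2014.result p S Q U hQS hx1 hx2 (x₁ * g⁻¹) hUQ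
  set NP := (S : Subgroup G) ⊓ Subgroup.normalizer (P : Set G) with hNP
  set NQ := (S : Subgroup G) ⊓ Subgroup.normalizer (Q : Set G) with hNQ
  set R' := (S : Subgroup G) ⊓ Subgroup.normalizer (U : Set G) with hR'
  have hNPlt : P < NP := Cfsg.Agent.Lib.Lead.pgroup_normalizer_grows p _ P hSp hPlt
  have hNQlt : Q < NQ := Cfsg.Agent.Lib.Lead.pgroup_normalizer_grows p _ Q hSp hQlt
  have hUcard : Nat.card U = Nat.card P := card_cj x₁ P
  have hUlt : U < (S : Subgroup G) := by
    refine lt_of_le_of_ne hx1 ?_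
    intro hUeq
    rw [hUeq] at hUcard
    omega
  have hUR' : U < R' := Cfsg.Agent.Lib.Lead.pgroup_normalizer_grows p _ U hSp hUlt
  have hNPc := card_lt_of_lt hNPlt
  have hNQc := card_lt_of_lt hNQlt
  have hR'c := card_lt_of_lt hUR'
  have hNPle : Nat.card NP ≤ Nat.card (S : Subgroup G) := Subgroup.card_le_of_le inf_le_left
  have hNQle : Nat.card NQ ≤ Nat.card (S : Subgroup G) := Subgroup.card_le_of_le inf_le_left
  have hR'le : Nat.card R' ≤ Nat.card (S : Subgroup G) := Subgroup.card_le_of_le inf_le_left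
  have hPx₁ : Reach 𝓦 ⊤ (S : Subgroup G) (P : Set G) x₁ := by
    have := (ih (Nat.card (S : Subgroup G) - Nat.card NP) (by omega)).1 NP inf_le_left rfl x₁ (by
      rw [lc_subgroup]
      exact_mod_cast hx3.trans inf_le_left)
    exact this.mono (by exact_mod_cast hNPlt.le)
  have hQx₂ : Reach 𝓦 ⊤ (S : Subgroup G) (Q : Set G) x₂ := by
    have := (ih (Nat.card (S : Subgroup G) - Nat.card NQ) (by omega)).1 NQ inf_le_left rfl x₂ (by
      rw [lc_subgroup]
      exact_mod_cast hx₂N.trans inf_le_left)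
    exact this.mono (by exact_mod_cast hNQlt.le)
  have hlcP : lc x₁ (P : Set G) = U := lc_subgroup x₁ P
  have hlcQ : lc x₂ (Q : Set G) = U := by
    rw [lc_subgroup]; exact congrArg _ hx₂U
  have hUx₂ : Reach 𝓦 ⊤ (S : Subgroup G) (U : Set G) x₂⁻¹ := by
    have := hQx₂.symm
    rwa [hlcQ] at this
  set m := x₂ * g * x₁⁻¹ with hm
  have hmU : lc m (U : Set G) = U := by
    rw [← hlcP, ← lc_mul, hm]
    have e : x₂ * g * x₁⁻¹ * x₁ = x₂ * g := by group
    rw [e, lc_mul, hQlc, hlcQ, hlcP]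
  have hmN : m ∈ Subgroup.normalizer (U : Set G) := by
    apply mem_normalizer_iff_cj.mpr
    apply SetLike.coe_injective
    rw [← lc_subgroup]; exact hmU
  have hUne : U ≠ ⊥ := fun h0 => hPbot ((cj_eq_bot_iff x₁ P).mp h0)
  have hfc := hloc U hx1 hUne hx2
  obtain ⟨c, hc, hceq⟩ := reach_of_familyControls h𝓦 hfc (inf_le_right : R' ≤ _) (hSp.to_le inf_le_left) hx2
    (U : Set G) m hmN (by exact_mod_cast hUR'.le) (by rw [hmU]; exact_mod_cast hUR'.le)
  have hUm : Reach 𝓦 ⊤ (S : Subgroup G) (U : Set G) m :=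
    (reach_top_of_fchain (inf_le_left : R' ≤ (S : Subgroup G))
      ((ih (Nat.card (S : Subgroup G) - Nat.card R') (by omega)).2 R' inf_le_left rfl) hc).congr hceq
  have h1 : Reach 𝓦 ⊤ (S : Subgroup G) (P : Set G) (m * x₁) := by
    apply Reach.trans hPx₁
    rw [hlcP]; exact hUm
  have h2 : Reach 𝓦 ⊤ (S : Subgroup G) (P : Set G) (x₂⁻¹ * (m * x₁)) := by
    apply Reach.trans h1
    rw [lc_mul, hlcP, hmU]; exact hUx₂
  have e : x₂⁻¹ * (m * x₁) = g := by rw [hm]; group
  rwa [e] at h2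

/-- Let p be a prime, G a finite group with Sylow p-subgroup S, and 𝓦 a set of conjugacy functors for p on G. Suppose that 𝓦 controls strong fusion in N_G(T) for every nonidentity subgroup T of S for which N_S(T) is a Sylow p-subgroup of N_G(T). Then 𝓦 controls strong fusion in G. (A set of functors controls strong fusion in a subgroup H when, for a Sylow p-subgroup T' of H, every conjugation of a tuple of elements of T' into T' by an element of H is a composite of conjugations inside the normalizers N_H(W(T')), W ∈ 𝓦, all intermediate tuples staying in T'.) -/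
theorem result {G : Type*} [Group G] [Finite G] {p : ℕ} [Fact p.Prime] (S : Sylow p G) (𝓦 : Set (Subgroup G → Subgroup G)) (h𝓦 : ∀ W ∈ 𝓦, Cfsg.IsConjugacyFunctor p W) (hloc : ∀ T : Subgroup G, T ≤ (S : Subgroup G) → T ≠ ⊥ → ¬ p ∣ ((S : Subgroup G) ⊓ Subgroup.normalizer ((T : Subgroup G) : Set G)).relIndex (Subgroup.normalizer ((T : Subgroup G) : Set G)) → Cfsg.FamilyControlsStrongFusionIn p 𝓦 (Subgroup.normalizer ((T : Subgroup G) : Set G))) : Cfsg.FamilyControlsStrongFusionIn p 𝓦 ⊤ := by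
  refine ⟨(S : Subgroup G), le_top, S.isPGroup', ?_, ?_⟩
  · rw [Subgroup.relIndex_top_right]; exact S.not_dvd_index
  · intro A h _ hAS hAh
    set P := Subgroup.closure A with hP
    have hPS : P ≤ (S : Subgroup G) := (Subgroup.closure_le _).mpr hAS
    have hPh : lc h (P : Set G) ⊆ (S : Subgroup G) := by
      rw [lc_subgroup]
      have h1 : A ⊆ ((cj h⁻¹ (S : Subgroup G) : Subgroup G) : Set G) := by
        intro a ha
        rw [SetLike.mem_coe, mem_cj, inv_inv]
        exact hAh ⟨a, ha, rfl⟩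
      have h2 : P ≤ cj h⁻¹ (S : Subgroup G) := (Subgroup.closure_le _).mpr h1
      have h3 := cj_mono h h2
      rw [cj_cj_inv] at h3
      exact h3
    have hr := (main S 𝓦 h𝓦 hloc _).1 P hPS rfl h hPh
    exact (hr.mono Subgroup.subset_closure).exists_fin

end Cfsg.Agent.S1959
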