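import Mathlib
import Cfsg.Statements.S1960
import Cfsg.Agent.Lib.Helper4.TransferControl
import Cfsg.Agent.Lib.Helper4.FamilyFusion

set_option autoImplicit false
open Cfsg
open scoped commutatorElement

namespace Cfsg.Agent.S1960

open Cfsg.Agent.Lib.Helper4 Cfsg.Agent.Lib.Helper7

variable {G : Type*} [Group G]

theorem card_lt_of_lt [Finite G] {A B : Subgroup G} (hAB : A < B) : Nat.card A < Nat.card B := by
  by_contra hcon
  push Not at hcon
  exact hAB.ne (Subgroup.eq_of_le_of_card_ge hAB.le hcon)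

/-- the local hypothesis at an extremal `V`, pushed up to `D` using part (b) for `N_S(V)` -/
theorem local_le [Finite G] {p : ℕ} [Fact p.Prime] (S : Sylow p G) (𝓦 : Set (Subgroup G → Subgroup G))
    (h𝓦 : ∀ W ∈ 𝓦, Cfsg.IsConjugacyFunctor p W)
    (hloc : ∀ T : Subgroup G, T ≤ (S : Subgroup G) → T ≠ ⊥ →
      ¬ p ∣ ((S : Subgroup G) ⊓ Subgroup.normalizer ((T : Subgroup G) : Set G)).relIndex
        (Subgroup.normalizer ((T : Subgroup G) : Set G)) →
      Cfsg.FamilyControlsTransferIn p 𝓦 (Subgroup.normalizer ((T : Subgroup G) : Set G)))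
    (D : Subgroup G) (V : Subgroup G) (hVS : V ≤ (S : Subgroup G)) (hVne : V ≠ ⊥)
    (hext : ¬ p ∣ ((S : Subgroup G) ⊓ Subgroup.normalizer ((V : Subgroup G) : Set G)).relIndex
        (Subgroup.normalizer ((V : Subgroup G) : Set G)))
    (hb : ∀ W ∈ 𝓦, ((S : Subgroup G) ⊓ Subgroup.normalizer (V : Set G)) ⊓
      ⁅Subgroup.normalizer ((W ((S : Subgroup G) ⊓ Subgroup.normalizer (V : Set G)) : Subgroup G) : Set G),
        Subgroup.normalizer ((W ((S : Subgroup G) ⊓ Subgroup.normalizer (V : Set G)) : Subgroup G) : Set G)⁆ ≤ D) :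
    ((S : Subgroup G) ⊓ Subgroup.normalizer (V : Set G)) ⊓
      ⁅Subgroup.normalizer (V : Set G), Subgroup.normalizer (V : Set G)⁆ ≤ D := by
  have hfc := hloc V hVS hVne hext
  have h1 := fctWith_of_controls h𝓦 hfc (inf_le_right : (S : Subgroup G) ⊓ Subgroup.normalizer (V : Set G) ≤ _)
    (S.isPGroup'.to_le inf_le_left) hext
  rw [h1]
  apply iSup₂_le
  intro W hW
  exact (inf_le_inf_left _ (Subgroup.commutator_mono inf_le_right inf_le_right)).trans (hb W hW)

theorem main [Finite G] {p : ℕ} [Fact p.Prime] (S : Sylow p G) (𝓦 : Set (Subgroup G → Subgroup G))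
    (h𝓦 : ∀ W ∈ 𝓦, Cfsg.IsConjugacyFunctor p W)
    (hloc : ∀ T : Subgroup G, T ≤ (S : Subgroup G) → T ≠ ⊥ →
      ¬ p ∣ ((S : Subgroup G) ⊓ Subgroup.normalizer ((T : Subgroup G) : Set G)).relIndex
        (Subgroup.normalizer ((T : Subgroup G) : Set G)) →
      Cfsg.FamilyControlsTransferIn p 𝓦 (Subgroup.normalizer ((T : Subgroup G) : Set G)))
    (D : Subgroup G)
    (hD : D = ⨆ W ∈ 𝓦, (S : Subgroup G) ⊓ ⁅Subgroup.normalizer ((W (S : Subgroup G) : Subgroup G) : Set G),
      Subgroup.normalizer ((W (S : Subgroup G) : Subgroup G) : Set G)⁆) :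
    ∀ d : ℕ,
      (∀ P : Subgroup G, P ≤ (S : Subgroup G) → Nat.card (S : Subgroup G) - Nat.card P = d →
        ∀ g : G, lc g (P : Set G) ⊆ (S : Subgroup G) → ∀ a ∈ P, a⁻¹ * (g * a * g⁻¹) ∈ D) ∧
      (∀ R : Subgroup G, R ≤ (S : Subgroup G) → Nat.card (S : Subgroup G) - Nat.card R = d →
        ∀ W ∈ 𝓦, R ⊓ ⁅Subgroup.normalizer ((W R : Subgroup G) : Set G),
          Subgroup.normalizer ((W R : Subgroup G) : Set G)⁆ ≤ D) := by
  have hSp : IsPGroup p (S : Subgroup G) := S.isPGroup'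
  have hbS : ∀ W ∈ 𝓦, (S : Subgroup G) ⊓ ⁅Subgroup.normalizer ((W (S : Subgroup G) : Subgroup G) : Set G),
      Subgroup.normalizer ((W (S : Subgroup G) : Subgroup G) : Set G)⁆ ≤ D := by
    intro W hW
    rw [hD]
    exact le_iSup₂ (f := fun W (_ : W ∈ 𝓦) => (S : Subgroup G) ⊓
      ⁅Subgroup.normalizer ((W (S : Subgroup G) : Subgroup G) : Set G),
      Subgroup.normalizer ((W (S : Subgroup G) : Subgroup G) : Set G)⁆) W hW
  intro d
  induction d using Nat.strong_induction_on with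
  | _ d ih =>
  have partB : ∀ R : Subgroup G, R ≤ (S : Subgroup G) → Nat.card (S : Subgroup G) - Nat.card R = d →
        ∀ W ∈ 𝓦, R ⊓ ⁅Subgroup.normalizer ((W R : Subgroup G) : Set G),
          Subgroup.normalizer ((W R : Subgroup G) : Set G)⁆ ≤ D := by
    intro R hRS hd W hW
    by_cases hReq : R = (S : Subgroup G)
    · subst hReq
      exact hbS W hW
    by_cases hRbot : R = ⊥
    · rw [hRbot, bot_inf_eq]; exact bot_le
    have hRlt : R < (S : Subgroup G) := lt_of_le_of_ne hRS hReq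
    have hRp : IsPGroup p R := hSp.to_le hRS
    set T' := W R with hT'
    have hT'R : T' ≤ R := (h𝓦 W hW R hRp).1
    have hT'ne : T' ≠ ⊥ := (h𝓦 W hW R hRp).2.1 hRbot
    have hT'S : T' ≤ (S : Subgroup G) := hT'R.trans hRS
    set M := (S : Subgroup G) ⊓ Subgroup.normalizer (T' : Set G) with hM
    have hRM : R < M := by
      refine lt_of_lt_of_le (Cfsg.Agent.Lib.Lead.pgroup_normalizer_grows p _ R hSp hRlt) ?_
      intro g hg
      refine ⟨hg.1, ?_⟩
      apply mem_normalizer_iff_cj.mpr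
      have h1 : W (cj g R) = cj g (W R) := (h𝓦 W hW R hRp).2.2 g
      rw [hT', ← h1, mem_normalizer_iff_cj.mp hg.2]
    obtain ⟨x, hx1, hx2, hx3⟩ := exists_extremal_conj S T' hT'S
    set V := cj x T' with hV
    set R' := (S : Subgroup G) ⊓ Subgroup.normalizer (V : Set G) with hR'
    have hVne : V ≠ ⊥ := fun h0 => hT'ne ((cj_eq_bot_iff x T').mp h0)
    have hMcard : Nat.card R < Nat.card M := card_lt_of_lt hRM
    have hMle : Nat.card M ≤ Nat.card (S : Subgroup G) := Subgroup.card_le_of_le inf_le_left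
    have hR'card : Nat.card M ≤ Nat.card R' := by
      rw [← card_cj x M]; exact Subgroup.card_le_of_le hx3
    have hR'le : Nat.card R' ≤ Nat.card (S : Subgroup G) := Subgroup.card_le_of_le inf_le_left
    have hloc' : R' ⊓ ⁅Subgroup.normalizer (V : Set G), Subgroup.normalizer (V : Set G)⁆ ≤ D :=
      local_le S 𝓦 h𝓦 hloc D V hx1 hVne hx2
        ((ih (Nat.card (S : Subgroup G) - Nat.card R') (by omega)).2 R' inf_le_left rfl)
    have hphiA := (ih (Nat.card (S : Subgroup G) - Nat.card M) (by omega)).1 M inf_le_left rfl x (by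
      rw [lc_subgroup]
      exact_mod_cast hx3.trans inf_le_left)
    intro b hb
    have hbM : b ∈ M := hRM.le hb.1
    have h1 : x * b * x⁻¹ ∈ R' := hx3 ⟨b, hbM, rfl⟩
    have h2 : x * b * x⁻¹ ∈ ⁅Subgroup.normalizer (V : Set G), Subgroup.normalizer (V : Set G)⁆ := by
      have h3 : cj x ⁅Subgroup.normalizer (T' : Set G), Subgroup.normalizer (T' : Set G)⁆ =
          ⁅Subgroup.normalizer (V : Set G), Subgroup.normalizer (V : Set G)⁆ := by
        rw [cj_commutator, ← normalizer_cj]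
      rw [← h3]
      exact ⟨b, hb.2, rfl⟩
    have h4 : x * b * x⁻¹ ∈ D := hloc' ⟨h1, h2⟩
    have h5 : b⁻¹ * (x * b * x⁻¹) ∈ D := hphiA b hbM
    have e : b = (x * b * x⁻¹) * (b⁻¹ * (x * b * x⁻¹))⁻¹ := by group
    rw [e]
    exact D.mul_mem h4 (D.inv_mem h5)
  refine ⟨?_, partB⟩
  intro P hPS hd g hg a ha
  by_cases hPbot : P = ⊥
  · rw [hPbot, Subgroup.mem_bot] at ha
    rw [ha]; simp
  by_cases hPeq : P = (S : Subgroup G)
  · subst hPeq
    have hgN : g ∈ Subgroup.normalizer (((S : Subgroup G) : Subgroup G) : Set G) := by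
      apply mem_normalizer_iff_cj.mpr
      apply cj_eq_of_le
      intro z hz
      apply hg
      rw [lc_subgroup]; exact hz
    have hext : ¬ p ∣ ((S : Subgroup G) ⊓ Subgroup.normalizer (((S : Subgroup G) : Subgroup G) : Set G)).relIndex
        (Subgroup.normalizer (((S : Subgroup G) : Subgroup G) : Set G)) := by
      rw [inf_eq_left.mpr Subgroup.le_normalizer]
      intro hdvd
      exact S.not_dvd_index (hdvd.trans (Subgroup.relIndex_dvd_index_of_le Subgroup.le_normalizer))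
    have hkey := local_le S 𝓦 h𝓦 hloc D (S : Subgroup G) le_rfl hPbot hext (by
      intro W hW
      rw [inf_eq_left.mpr Subgroup.le_normalizer]
      exact hbS W hW)
    apply hkey
    rw [inf_eq_left.mpr Subgroup.le_normalizer]
    refine ⟨?_, ?_⟩
    · exact Subgroup.mul_mem _ (Subgroup.inv_mem _ ha) (hg (mem_lc_of_mem ha))
    · have e : a⁻¹ * (g * a * g⁻¹) = ⁅a⁻¹, g⁆ := by rw [commutatorElement_def]; group
      rw [e]
      exact Subgroup.commutator_mem_commutator (Subgroup.inv_mem _ (Subgroup.le_normalizer ha)) hgN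
  have hPlt : P < (S : Subgroup G) := lt_of_le_of_ne hPS hPeq
  set Q := cj g P with hQ
  have hQlc : lc g (P : Set G) = Q := lc_subgroup g P
  have hQS : Q ≤ (S : Subgroup G) := by
    intro z hz
    apply hg
    rw [hQlc]; exact hz
  have hQcard : Nat.card Q = Nat.card P := card_cj g P
  have hPcardS : Nat.card P < Nat.card (S : Subgroup G) := card_lt_of_lt hPlt
  have hQlt : Q < (S : Subgroup G) := by
    refine lt_of_le_of_ne hQS ?_
    intro hQeq
    rw [hQeq] at hQcard
    omega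
  obtain ⟨x₁, hx1, hx2, hx3⟩ := exists_extremal_conj S P hPS
  set U := cj x₁ P with hU
  have hUQ : cj (x₁ * g⁻¹) Q = U := by
    rw [hQ, cj_mul, cj_inv_cj]
  obtain ⟨x₂, hx₂U, hx₂N, _⟩ := Cfsg.Agent.S2014.result p S Q U hQS hx1 hx2 (x₁ * g⁻¹) hUQ
  set NP := (S : Subgroup G) ⊓ Subgroup.normalizer (P : Set G) with hNP
  set NQ := (S : Subgroup G) ⊓ Subgroup.normalizer (Q : Set G) with hNQ
  set R' := (S : Subgroup G) ⊓ Subgroup.normalizer (U : Set G) with hR'
  have hNPlt : P < NP := Cfsg.Agent.Lib.Lead.pgroup_normalizer_grows p _ P hSp hPlt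
  have hNQlt : Q < NQ := Cfsg.Agent.Lib.Lead.pgroup_normalizer_grows p _ Q hSp hQlt
  have hUcard : Nat.card U = Nat.card P := card_cj x₁ P
  have hUlt : U < (S : Subgroup G) := by
    refine lt_of_le_of_ne hx1 ?_
    intro hUeq
    rw [hUeq] at hUcard
    omega
  have hUR' : U < R' := Cfsg.Agent.Lib.Lead.pgroup_normalizer_grows p _ U hSp hUlt
  have hNPc := card_lt_of_lt hNPlt
  have hNQc := card_lt_of_lt hNQlt
  have hR'c := card_lt_of_lt hUR'
  have hNPle : Nat.card NP ≤ Nat.card (S : Subgroup G) := Subgroup.card_le_of_le inf_le_left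
  have hNQle : Nat.card NQ ≤ Nat.card (S : Subgroup G) := Subgroup.card_le_of_le inf_le_left
  have hR'le : Nat.card R' ≤ Nat.card (S : Subgroup G) := Subgroup.card_le_of_le inf_le_left
  have hA1 := (ih (Nat.card (S : Subgroup G) - Nat.card NP) (by omega)).1 NP inf_le_left rfl x₁ (by
      rw [lc_subgroup]
      exact_mod_cast hx3.trans inf_le_left)
  have hA2 := (ih (Nat.card (S : Subgroup G) - Nat.card NQ) (by omega)).1 NQ inf_le_left rfl x₂ (by
      rw [lc_subgroup]
      exact_mod_cast hx₂N.trans inf_le_left)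
  have hUne : U ≠ ⊥ := fun h0 => hPbot ((cj_eq_bot_iff x₁ P).mp h0)
  have hloc' : R' ⊓ ⁅Subgroup.normalizer (U : Set G), Subgroup.normalizer (U : Set G)⁆ ≤ D :=
    local_le S 𝓦 h𝓦 hloc D U hx1 hUne hx2
      ((ih (Nat.card (S : Subgroup G) - Nat.card R') (by omega)).2 R' inf_le_left rfl)
  set m := x₂ * g * x₁⁻¹ with hm
  have hlcP : lc x₁ (P : Set G) = U := lc_subgroup x₁ P
  have hlcQ : lc x₂ (Q : Set G) = U := by
    rw [lc_subgroup]; exact congrArg _ hx₂U
  have hmU : lc m (U : Set G) = U := by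
    rw [← hlcP, ← lc_mul, hm]
    have e : x₂ * g * x₁⁻¹ * x₁ = x₂ * g := by group
    rw [e, lc_mul, hQlc, hlcQ, hlcP]
  have hmN : m ∈ Subgroup.normalizer (U : Set G) := by
    apply mem_normalizer_iff_cj.mpr
    apply SetLike.coe_injective
    rw [← lc_subgroup]; exact hmU
  set u := x₁ * a * x₁⁻¹ with hu
  set b := g * a * g⁻¹ with hb
  have huU : u ∈ U := ⟨a, ha, rfl⟩
  have hbQ : b ∈ Q := ⟨a, ha, rfl⟩
  have t1 : a⁻¹ * u ∈ D := hA1 a (hNPlt.le ha)
  have t3 : b⁻¹ * (x₂ * b * x₂⁻¹) ∈ D := hA2 b (hNQlt.le hbQ)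
  have hmu : m * u * m⁻¹ = x₂ * b * x₂⁻¹ := by rw [hm, hu, hb]; group
  have hmuU : m * u * m⁻¹ ∈ U := (Subgroup.mem_normalizer_iff.mp hmN u).mp huU
  have t2 : u⁻¹ * (m * u * m⁻¹) ∈ D := by
    apply hloc'
    refine ⟨hUR'.le (U.mul_mem (U.inv_mem huU) hmuU), ?_⟩
    have e : u⁻¹ * (m * u * m⁻¹) = ⁅u⁻¹, m⁆ := by rw [commutatorElement_def]; group
    rw [e]
    exact Subgroup.commutator_mem_commutator (Subgroup.inv_mem _ (Subgroup.le_normalizer huU)) hmN
  have e : a⁻¹ * b = (a⁻¹ * u) * (u⁻¹ * (m * u * m⁻¹)) * (b⁻¹ * (x₂ * b * x₂⁻¹))⁻¹ := by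
    rw [hmu]; group
  rw [e]
  exact D.mul_mem (D.mul_mem t1 t2) (D.inv_mem t3)

/-- Let p be a prime, G a finite group with Sylow p-subgroup S, and 𝓦 a set of conjugacy functors for p on G. Suppose that 𝓦 controls transfer in N_G(T) for every nonidentity subgroup T of S for which N_S(T) is a Sylow p-subgroup of N_G(T): for a Sylow p-subgroup T' of N_G(T), the intersection of T' with the derived subgroup of N_G(T) is generated by its intersections with the derived subgroups of the normalizers in N_G(T) of the W(T'), W ∈ 𝓦. Then 𝓦 controls transfer in G: S ∩ G' is generated by the subgroups S ∩ (N_G(W(S)))', W ∈ 𝓦. -/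
theorem result {G : Type*} [Group G] [Finite G] {p : ℕ} [Fact p.Prime] (S : Sylow p G) (𝓦 : Set (Subgroup G → Subgroup G)) (h𝓦 : ∀ W ∈ 𝓦, Cfsg.IsConjugacyFunctor p W) (hloc : ∀ T : Subgroup G, T ≤ (S : Subgroup G) → T ≠ ⊥ → ¬ p ∣ ((S : Subgroup G) ⊓ Subgroup.normalizer ((T : Subgroup G) : Set G)).relIndex (Subgroup.normalizer ((T : Subgroup G) : Set G)) → Cfsg.FamilyControlsTransferIn p 𝓦 (Subgroup.normalizer ((T : Subgroup G) : Set G))) : Cfsg.FamilyControlsTransferIn p 𝓦 ⊤ := by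
  refine ⟨(S : Subgroup G), le_top, S.isPGroup', ?_, ?_⟩
  · rw [Subgroup.relIndex_top_right]; exact S.not_dvd_index
  · simp only [top_inf_eq]
    apply le_antisymm
    · apply focal_le S
      intro a ha u hu
      set P := Subgroup.closure ({a} : Set G) with hP
      have hPS : P ≤ (S : Subgroup G) := (Subgroup.closure_le _).mpr (by
        intro x hx
        rw [Set.mem_singleton_iff.mp hx]; exact ha)
      have hPh : lc u (P : Set G) ⊆ (S : Subgroup G) := by
        rw [lc_subgroup]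
        have h1 : ({a} : Set G) ⊆ ((cj u⁻¹ (S : Subgroup G) : Subgroup G) : Set G) := by
          intro x hx
          rw [Set.mem_singleton_iff.mp hx, SetLike.mem_coe, mem_cj, inv_inv]
          exact hu
        have h2 : P ≤ cj u⁻¹ (S : Subgroup G) := (Subgroup.closure_le _).mpr h1
        have h3 := cj_mono u h2
        rw [cj_cj_inv] at h3
        exact h3
      exact (main S 𝓦 h𝓦 hloc _ rfl _).1 P hPS rfl u hPh a (Subgroup.subset_closure rfl)
    · apply iSup₂_le
      intro W _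
      exact inf_le_inf_left _ (Subgroup.commutator_mono le_top le_top)

end Cfsg.Agent.S1960
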