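import Mathlib
import Cfsg.Statements.S1961
import Cfsg.Agent.Lib.Helper4.FusionControl

set_option autoImplicit false
open Cfsg

namespace Cfsg.Agent.S1961

open Cfsg.Agent.Lib.Helper4 Cfsg.Agent.Lib.Helper7

variable {G : Type*} [Group G]

/-- the tower of the first tower term is the shifted tower -/
theorem tower_shift (W : Subgroup G → Subgroup G) (S T : Subgroup G) (i : ℕ) :
    functorTower W S (functorTower W S T 1) i = functorTower W S T (i + 1) := by
  induction i with
  | zero => rfl
  | succ i ih =>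
    rw [functorTower_succ, functorTower_succ W S T (i + 1)]
    unfold nS
    rw [ih]

theorem wellPlaced_shift {p : ℕ} [Fact p.Prime] {W : Subgroup G → Subgroup G} {S : Subgroup G}
    (hW : IsConjugacyFunctor p W) (hS : IsPGroup p S) {T : Subgroup G} (h : IsWellPlaced p W S T) :
    IsWellPlaced p W S (functorTower W S T 1) := by
  refine ⟨functorTower_le hW hS h.1 1, ?_⟩
  intro i
  rw [tower_shift]
  exact h.2 (i + 1)

theorem keyK [Finite G] {p : ℕ} [Fact p.Prime] (S : Sylow p G) (W : Subgroup G → Subgroup G)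
    (hW : Cfsg.IsConjugacyFunctor p W)
    (hloc : ∀ T : Subgroup G, T ≠ ⊥ → Cfsg.IsWellPlaced p W (S : Subgroup G) T →
      Cfsg.ControlsStrongFusionIn p W (Subgroup.normalizer ((T : Subgroup G) : Set G))) :
    ∀ d : ℕ, ∀ T : Subgroup G, IsWellPlaced p W (S : Subgroup G) T → T ≠ ⊥ →
      Nat.card (S : Subgroup G) - Nat.card (nS W (S : Subgroup G) T 0) = d →
      ∀ (A : Set G) (h : G), h ∈ Subgroup.normalizer (T : Set G) → A ⊆ nS W (S : Subgroup G) T 0 →
        (fun a => h * a * h⁻¹) '' A ⊆ nS W (S : Subgroup G) T 0 →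
        ∃ z ∈ Subgroup.normalizer ((W (S : Subgroup G) : Subgroup G) : Set G),
          ∀ a ∈ A, z * a * z⁻¹ = h * a * h⁻¹ := by
  have hSp : IsPGroup p (S : Subgroup G) := S.isPGroup'
  intro d
  induction d using Nat.strong_induction_on with
  | _ d ih =>
  intro T hwp hT hd A h hh hA hAh
  set R := nS W (S : Subgroup G) T 0 with hR
  have hRS : R ≤ (S : Subgroup G) := nS_le W _ T 0
  have hRp : IsPGroup p R := hSp.to_le hRS
  have hRN : R ≤ Subgroup.normalizer (T : Set G) := inf_le_right
  have hRi : ¬ p ∣ R.relIndex (Subgroup.normalizer (T : Set G)) := hwp.2 0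
  have hcsf := csfWith_of_controls hW (hloc T hT hwp) hRN hRp hRi
  obtain ⟨x, hx, hxeq⟩ := hcsf A h hh hA hAh
  by_cases hRS' : R = (S : Subgroup G)
  · refine ⟨x, ?_, hxeq⟩
    rw [← hRS']; exact hx.2
  · set U := functorTower W (S : Subgroup G) T 1 with hU
    have hUeq : U = W R := rfl
    have hTR : T ≤ R := le_inf hwp.1 Subgroup.le_normalizer
    have hRne : R ≠ ⊥ := by
      intro h0
      apply hT
      rw [eq_bot_iff, ← h0]; exact hTR
    have hUne : U ≠ ⊥ := (hW R hRp).2.1 hRne
    have hUwp : IsWellPlaced p W (S : Subgroup G) U := wellPlaced_shift hW hSp hwp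
    have hNU : nS W (S : Subgroup G) U 0 = nS W (S : Subgroup G) T 1 := rfl
    have hlt : R < nS W (S : Subgroup G) T 1 := nS_lt_succ hW hSp T 0 hRS'
    have hcardlt : Nat.card R < Nat.card (nS W (S : Subgroup G) T 1) := by
      by_contra hcon
      push Not at hcon
      exact hlt.ne (Subgroup.eq_of_le_of_card_ge hlt.le hcon)
    have hcardle : Nat.card (nS W (S : Subgroup G) T 1) ≤ Nat.card (S : Subgroup G) :=
      Subgroup.card_le_of_le (nS_le W _ T 1)
    have hxU : x ∈ Subgroup.normalizer (U : Set G) := hx.2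
    obtain ⟨z, hz, hzeq⟩ := ih (Nat.card (S : Subgroup G) - Nat.card (nS W (S : Subgroup G) U 0))
      (by rw [hNU]; omega) U hUwp hUne rfl A x hxU
      (by
        rw [hNU]
        intro a ha
        exact hlt.le (hA ha))
      (by
        rw [hNU]
        rintro _ ⟨a, ha, rfl⟩
        simp only
        rw [hxeq a ha]
        exact hlt.le (hAh ⟨a, ha, rfl⟩))
    refine ⟨z, hz, ?_⟩
    intro a ha
    rw [hzeq a ha, hxeq a ha]

theorem claimV [Finite G] {p : ℕ} [Fact p.Prime] (S : Sylow p G) (W : Subgroup G → Subgroup G)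
    (hW : Cfsg.IsConjugacyFunctor p W)
    (hloc : ∀ T : Subgroup G, T ≠ ⊥ → Cfsg.IsWellPlaced p W (S : Subgroup G) T →
      Cfsg.ControlsStrongFusionIn p W (Subgroup.normalizer ((T : Subgroup G) : Set G)))
    {A : Set G} {g : G}
    (hvia : Via {T : Subgroup G | IsWellPlaced p W (S : Subgroup G) T} A g) :
    ∃ z ∈ Subgroup.normalizer ((W (S : Subgroup G) : Subgroup G) : Set G),
      ∀ a ∈ A, z⁻¹ * a * z = g⁻¹ * a * g := by
  induction hvia with
  | nil A => exact ⟨1, Subgroup.one_mem _, fun a _ => by simp⟩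
  | cons A T x g hT hx hA _ ih =>
    obtain ⟨z', hz', hz'eq⟩ := ih
    have hwp : IsWellPlaced p W (S : Subgroup G) T := hT
    -- first step
    have hstep : ∃ z₁ ∈ Subgroup.normalizer ((W (S : Subgroup G) : Subgroup G) : Set G),
        ∀ a ∈ A, z₁⁻¹ * a * z₁ = x⁻¹ * a * x := by
      by_cases hTbot : T = ⊥
      · refine ⟨1, Subgroup.one_mem _, ?_⟩
        intro a ha
        have : a ∈ T := hA ha
        rw [hTbot, Subgroup.mem_bot] at this
        rw [this]; simp
      · have hTR : T ≤ nS W (S : Subgroup G) T 0 := le_inf hwp.1 Subgroup.le_normalizer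
        have hxinv : x⁻¹ ∈ Subgroup.normalizer (T : Set G) := Subgroup.inv_mem _ hx
        obtain ⟨z, hz, hzeq⟩ := keyK S W hW hloc _ T hwp hTbot rfl A x⁻¹ hxinv
          (fun a ha => hTR (hA ha))
          (by
            rintro _ ⟨a, ha, rfl⟩
            apply hTR
            have := (Subgroup.mem_normalizer_iff.mp hxinv a).mp (hA ha)
            exact this)
        refine ⟨z⁻¹, Subgroup.inv_mem _ hz, ?_⟩
        intro a ha
        have := hzeq a ha
        simpa using this
    obtain ⟨z₁, hz₁, hz₁eq⟩ := hstep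
    refine ⟨z₁ * z', Subgroup.mul_mem _ hz₁ hz', ?_⟩
    intro a ha
    have h1 := hz₁eq a ha
    have h2 := hz'eq (x⁻¹ * a * x) ⟨a, ha, rfl⟩
    calc (z₁ * z')⁻¹ * a * (z₁ * z') = z'⁻¹ * (z₁⁻¹ * a * z₁) * z' := by group
      _ = z'⁻¹ * (x⁻¹ * a * x) * z' := by rw [h1]
      _ = g⁻¹ * (x⁻¹ * a * x) * g := h2
      _ = (x * g)⁻¹ * a * (x * g) := by group

/-- Local-to-global control of strong fusion through well-placed subgroups. Let p be a prime, G a finite group with Sylow p-subgroup S, and W a conjugacy functor for p on G. If W controls strong fusion in N_G(T) for every nonidentity subgroup T of S that is well placed in S with respect to W, then W controls strong fusion in G. -/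
theorem result {G : Type*} [Group G] [Finite G] {p : ℕ} [Fact p.Prime] (S : Sylow p G) (W : Subgroup G → Subgroup G) (hW : Cfsg.IsConjugacyFunctor p W) (hloc : ∀ T : Subgroup G, T ≠ ⊥ → Cfsg.IsWellPlaced p W (S : Subgroup G) T → Cfsg.ControlsStrongFusionIn p W (Subgroup.normalizer ((T : Subgroup G) : Set G))) : Cfsg.ControlsStrongFusionIn p W ⊤ := by
  refine ⟨(S : Subgroup G), le_top, S.isPGroup', ?_, ?_⟩
  · rw [Subgroup.relIndex_top_right]; exact S.not_dvd_index
  · intro A h _ hAS hAh
    have hcs : cs h⁻¹ A ⊆ (S : Subgroup G) := by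
      intro y hy
      obtain ⟨a, ha, rfl⟩ := hy
      have := hAh ⟨a, ha, rfl⟩
      simpa using this
    have hvia := alperin_wellPlaced S hW A h⁻¹ hAS hcs
    obtain ⟨z, hz, hzeq⟩ := claimV S W hW hloc hvia
    refine ⟨z⁻¹, ⟨Subgroup.mem_top _, Subgroup.inv_mem _ hz⟩, ?_⟩
    intro a ha
    have := hzeq a ha
    simpa using this

end Cfsg.Agent.S1961
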