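import Mathlib
import Cfsg.Statements.S1968
import Cfsg.Agent.S1961
import Cfsg.Agent.Lib.Helper4.Alperin

set_option autoImplicit false
open Cfsg

namespace Cfsg.Agent.S1968

open Cfsg.Agent.Lib.Helper4 Cfsg.Agent.Lib.Helper7

variable {G : Type*} [Group G]

theorem first_move {𝓕 : Set (Subgroup G)} {A : Set G} {g : G} (hvia : Via 𝓕 A g) (hne : cs g A ≠ A) :
    ∃ T ∈ 𝓕, ∃ x ∈ Subgroup.normalizer (T : Set G), A ⊆ T ∧ cs x A ≠ A := by
  induction hvia with
  | nil A => exact absurd (cs_one A) hne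
  | cons A T x g hT hx hA _ ih =>
    by_cases h : cs x A = A
    · rw [cs_mul, h] at hne
      rw [h] at ih
      exact ih hne
    · exact ⟨T, hT, x, hx, hA, h⟩

/-- Let p be a prime, G a finite group with Sylow p-subgroup S and W a conjugacy functor for p on G with Z(P) ≤ W(P) for every p-subgroup P. Let A be a subgroup of Z(S) normalized by N_G(W(S)) that is not weakly closed in S with respect to G. Then there is a subgroup T of S, well placed in S with respect to W, such that: A ≤ T; N_G(W(N_S(T))) normalizes A; N_S(T) is a Sylow p-subgroup of N_G(T); A ≤ Z(N_S(T)); and A is not weakly closed in N_S(T) with respect to N_G(T), that is, some N_G(T)-conjugate of A other than A lies in N_S(T). -/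
theorem result {G : Type*} [Group G] [Finite G] {p : ℕ} [Fact p.Prime] (S : Sylow p G) (W : Subgroup G → Subgroup G) (hW : Cfsg.IsConjugacyFunctor p W) (hWZ : ∀ P : Subgroup G, IsPGroup p ↥P → P ⊓ Subgroup.centralizer (P : Set G) ≤ W P) (A : Subgroup G) (hAZ : A ≤ (S : Subgroup G) ⊓ Subgroup.centralizer ((S : Subgroup G) : Set G)) (hAN : Subgroup.normalizer ((W (S : Subgroup G) : Subgroup G) : Set G) ≤ Subgroup.normalizer ((A : Subgroup G) : Set G)) (hnwc : ¬ Cfsg.IsWeaklyClosed A (S : Subgroup G)) : ∃ T : Subgroup G, Cfsg.IsWellPlaced p W (S : Subgroup G) T ∧ A ≤ T ∧ Subgroup.normalizer ((W ((S : Subgroup G) ⊓ Subgroup.normalizer ((T : Subgroup G) : Set G)) : Subgroup G) : Set G) ≤ Subgroup.normalizer ((A : Subgroup G) : Set G) ∧ ¬ p ∣ ((S : Subgroup G) ⊓ Subgroup.normalizer ((T : Subgroup G) : Set G)).relIndex (Subgroup.normalizer ((T : Subgroup G) : Set G)) ∧ A ≤ Subgroup.centralizer (((S : Subgroup G) ⊓ Subgroup.normalizer ((T : Subgroup G) : Set G) : Subgroup G) : Set G) ∧ ∃ g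 ∈ Subgroup.normalizer ((T : Subgroup G) : Set G), A.map (MulAut.conj g).toMonoidHom ≤ (S : Subgroup G) ⊓ Subgroup.normalizer ((T : Subgroup G) : Set G) ∧ A.map (MulAut.conj g).toMonoidHom ≠ A := by
  classical
  have hSp : IsPGroup p (S : Subgroup G) := S.isPGroup'
  have hAS : A ≤ (S : Subgroup G) := hAZ.trans inf_le_left
  -- the candidate set
  let 𝒯 : Set (Subgroup G) := {T | IsWellPlaced p W (S : Subgroup G) T ∧ A ≤ T ∧
    ∃ g ∈ Subgroup.normalizer (T : Set G), cj g A ≠ A}
  have hne : 𝒯.Nonempty := by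
    unfold IsWeaklyClosed at hnwc
    push Not at hnwc
    obtain ⟨g, hgS, hgA⟩ := hnwc hAS
    have hcs : cs g⁻¹ (A : Set G) ⊆ (S : Subgroup G) := by
      rw [cs_subgroup, inv_inv]; exact hgS
    have hvia := alperin_wellPlaced S hW (A : Set G) g⁻¹ (by exact_mod_cast hAS) hcs
    have hne' : cs g⁻¹ (A : Set G) ≠ A := by
      rw [cs_subgroup, inv_inv]
      intro h
      exact hgA (SetLike.coe_injective h)
    obtain ⟨T, hT, x, hx, hAT, hxA⟩ := first_move hvia hne'
    refine ⟨T, hT, by exact_mod_cast hAT, x⁻¹, Subgroup.inv_mem _ hx, ?_⟩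
    intro h
    apply hxA
    rw [cs_subgroup, h]
  haveI : Nonempty 𝒯 := hne.to_subtype
  obtain ⟨⟨T, hT⟩, hmax⟩ := Finite.exists_max (fun T : 𝒯 => Nat.card (nS W (S : Subgroup G) (T : Subgroup G) 0))
  obtain ⟨hwp, hAT, g, hgN, hgA⟩ := hT
  have hTR : T ≤ nS W (S : Subgroup G) T 0 := le_inf hwp.1 Subgroup.le_normalizer
  refine ⟨T, hwp, hAT, ?_, hwp.2 0, ?_, g, hgN, ?_, hgA⟩
  · -- N_G(W(N_S(T))) normalizes A
    set R := nS W (S : Subgroup G) T 0 with hR
    change Subgroup.normalizer ((W R : Subgroup G) : Set G) ≤ Subgroup.normalizer ((A : Subgroup G) : Set G)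
    by_cases hRS : R = (S : Subgroup G)
    · rw [hRS]; exact hAN
    · by_contra hcon
      set U := functorTower W (S : Subgroup G) T 1 with hU
      have hUeq : U = W R := rfl
      have hUwp : IsWellPlaced p W (S : Subgroup G) U := Cfsg.Agent.S1961.wellPlaced_shift hW hSp hwp
      have hRp : IsPGroup p R := hSp.to_le (nS_le W _ T 0)
      have hAU : A ≤ U := by
        rw [hUeq]
        refine le_trans ?_ (hWZ R hRp)
        refine le_inf (hAT.trans hTR) ?_
        refine (hAZ.trans inf_le_right).trans ?_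
        exact Subgroup.centralizer_le (by exact_mod_cast nS_le W (S : Subgroup G) T 0)
      have hUmem : U ∈ 𝒯 := by
        refine ⟨hUwp, hAU, ?_⟩
        rw [SetLike.not_le_iff_exists] at hcon
        obtain ⟨y, hy, hyA⟩ := hcon
        refine ⟨y, hy, ?_⟩
        intro h
        exact hyA (mem_normalizer_iff_cj.mpr h)
      have hlt : R < nS W (S : Subgroup G) T 1 := nS_lt_succ hW hSp T 0 hRS
      have hNU : nS W (S : Subgroup G) U 0 = nS W (S : Subgroup G) T 1 := rfl
      have h1 := hmax ⟨U, hUmem⟩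
      simp only at h1
      rw [hNU] at h1
      have h2 : Nat.card R < Nat.card (nS W (S : Subgroup G) T 1) := by
        by_contra hc
        push Not at hc
        exact hlt.ne (Subgroup.eq_of_le_of_card_ge hlt.le hc)
      omega
  · exact (hAZ.trans inf_le_right).trans
      (Subgroup.centralizer_le (by exact_mod_cast (inf_le_left : (S : Subgroup G) ⊓ _ ≤ (S : Subgroup G))))
  · refine le_trans ?_ hTR
    have h1 : cj g A ≤ cj g T := cj_mono g hAT
    rwa [mem_normalizer_iff_cj.mp hgN] at h1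

end Cfsg.Agent.S1968
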