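import Cfsg.Statements.S0743
import Mathlib
import Cfsg.Agent.Lib.Helper2.TupleConn
import Cfsg.Agent.Lib.Helper2.Gleason

set_option autoImplicit false
open Cfsg

namespace Cfsg.Agent.S0743

open Cfsg.Agent.Lib.Helper2.TupleConn Cfsg.Agent.Lib.Helper2.Gleason

/-- Gleason's Lemma: let `p` be a prime and `1 ≤ k < n`; if every `k`-subset of the `n` points is exactly the fixed-point set of some `p`-subgroup of `G`, then `G` is `k`-transitive. -/
theorem result {α : Type*} [Fintype α] [DecidableEq α] (G : Subgroup (Equiv.Perm α)) {p k : ℕ} (hp : p.Prime) (hk : 1 ≤ k) (hkn : k < Fintype.card α) (h : ∀ s : Finset α, s.card = k → ∃ P : Subgroup G, IsPGroup p P ∧ MulAction.fixedPoints P α = (s : Set α)) : MulAction.IsMultiplyPretransitive G α k := by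
  haveI : Fact p.Prime := ⟨hp⟩
  apply isMultiplyPretransitive_of_step G hkn
  intro x i v hv
  set t : Set α := {y | ∃ j, j ≠ i ∧ x j = y} with ht
  set sa : Finset α := Finset.univ.map x with hsa
  set sb : Finset α := insert v ((Finset.univ.erase i).map x) with hsb
  have hsacard : sa.card = k := by
    rw [hsa, Finset.card_map, Finset.card_univ, Fintype.card_fin]
  have hvsb : v ∉ (Finset.univ.erase i).map x := by
    intro h'
    rw [Finset.mem_map] at h'
    obtain ⟨j, -, hj⟩ := h'
    exact hv ⟨j, hj⟩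
  have hsbcard : sb.card = k := by
    rw [hsb, Finset.card_insert_of_notMem hvsb, Finset.card_map, Finset.card_erase_of_mem (Finset.mem_univ i),
      Finset.card_univ, Fintype.card_fin]
    omega
  obtain ⟨Pa, hPa, hfixa⟩ := h sa hsacard
  obtain ⟨Pb, hPb, hfixb⟩ := h sb hsbcard
  set H : Subgroup G := fixingSubgroup G t with hH
  have hHmem : ∀ g : G, g ∈ H ↔ ∀ y ∈ t, g • y = y := fun g => mem_fixingSubgroup_iff G
  have htsa : ∀ y ∈ t, y ∈ (sa : Set α) := by
    rintro y ⟨j, -, rfl⟩
    exact Finset.mem_coe.mpr (Finset.mem_map_of_mem x (Finset.mem_univ j))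
  have htsb : ∀ y ∈ t, y ∈ (sb : Set α) := by
    rintro y ⟨j, hj, rfl⟩
    exact Finset.mem_coe.mpr (Finset.mem_insert_of_mem (Finset.mem_map_of_mem x
      (Finset.mem_erase.mpr ⟨hj, Finset.mem_univ j⟩)))
  have hPaH : Pa ≤ H := by
    intro q hq
    rw [hHmem]
    intro y hy
    have := htsa y hy
    rw [← hfixa] at this
    exact this ⟨q, hq⟩
  have hPbH : Pb ≤ H := by
    intro q hq
    rw [hHmem]
    intro y hy
    have := htsb y hy
    rw [← hfixb] at this
    exact this ⟨q, hq⟩
  -- points of the orbit of v are not in t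
  have horb : ∀ y ∈ MulAction.orbit H v, y ∉ t := by
    rintro y ⟨hh, hhy⟩ hy
    have hhy' : (hh : G) • v = y := hhy
    have h1 : (hh : G) • y = y := (hHmem _).mp hh.2 _ hy
    have h2 : v = y := by
      have := h1.trans hhy'.symm
      exact (smul_left_cancel (hh : G) this).symm
    rw [← h2] at hy
    obtain ⟨j, -, hj⟩ := hy
    exact hv ⟨j, hj⟩
  have hfa : ∀ y ∈ MulAction.orbit H v, y ∈ MulAction.fixedPoints Pa α → y = x i := by
    intro y hy hy'
    rw [hfixa, Finset.mem_coe, hsa, Finset.mem_map] at hy'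
    obtain ⟨j, -, hj⟩ := hy'
    by_cases hji : j = i
    · rw [← hj, hji]
    · exact absurd ⟨j, hji, hj⟩ (horb y hy)
  have hfb : ∀ y ∈ MulAction.orbit H v, y ∈ MulAction.fixedPoints Pb α ↔ y = v := by
    intro y hy
    rw [hfixb, Finset.mem_coe, hsb, Finset.mem_insert]
    constructor
    · rintro (h' | h')
      · exact h'
      · rw [Finset.mem_map] at h'
        obtain ⟨j, hj, hjy⟩ := h'
        exact absurd ⟨j, (Finset.mem_erase.mp hj).1, hjy⟩ (horb y hy)
    · intro h'; exact Or.inl h'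
  obtain ⟨hh, hhv⟩ := gleason H (x i) v Pa Pb hPa hPb hPaH hPbH hfa hfb
  have hhv' : (hh : G) • v = x i := hhv
  refine ⟨((hh⁻¹ : H) : G), ((hh⁻¹ : H) : G).2, ?_, ?_⟩
  · change ((hh⁻¹ : H) : G) • (x i) = v
    rw [← hhv']
    simp
  · intro j hj
    exact (hHmem _).mp (hh⁻¹ : H).2 (x j) ⟨j, hj, rfl⟩

end Cfsg.Agent.S0743
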