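import Cfsg.Statements.S0744
import Mathlib
import Cfsg.Agent.S0743

set_option autoImplicit false
open Cfsg

namespace Cfsg.Agent.S0744

/-- If for some `k > 1` the pointwise stabilisers of all `(k-1)`-subsets have the same order `> 1` and those of all `k`-subsets have the same order, then the group is `(k-1)`-transitive. -/
theorem result {α : Type*} [Fintype α] [DecidableEq α] (G : Subgroup (Equiv.Perm α)) {k : ℕ} (hk : 1 < k) (hkn : k ≤ Fintype.card α) (l m : ℕ) (hl : 1 < l) (hkm1 : ∀ s : Finset α, s.card = k - 1 → Nat.card (fixingSubgroup G (s : Set α)) = l) (hkm : ∀ s : Finset α, s.card = k → Nat.card (fixingSubgroup G (s : Set α)) = m) : MulAction.IsMultiplyPretransitive G α (k - 1) := by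
  classical
  have hmem : ∀ (s : Set α) (g : G), g ∈ fixingSubgroup G s ↔ ∀ y ∈ s, g • y = y :=
    fun s g => mem_fixingSubgroup_iff G
  have hle : ∀ (s : Finset α) (x : α),
      fixingSubgroup G ((insert x s : Finset α) : Set α) ≤ fixingSubgroup G (s : Set α) := by
    intro s x g hg
    rw [hmem] at hg ⊢
    intro y hy
    exact hg y (Finset.mem_coe.mpr (Finset.mem_insert_of_mem (Finset.mem_coe.mp hy)))
  -- a (k-1)-set
  obtain ⟨s₀, -, hs₀⟩ := Finset.exists_subset_card_eq (s := (Finset.univ : Finset α)) (n := k - 1)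
    (by rw [Finset.card_univ]; omega)
  obtain ⟨x₀, hx₀⟩ : ∃ x₀, x₀ ∉ s₀ := by
    by_contra hcon
    push Not at hcon
    have : s₀ = Finset.univ := Finset.eq_univ_iff_forall.mpr hcon
    rw [this, Finset.card_univ] at hs₀
    omega
  have hcard_ins : ∀ (s : Finset α) (x : α), s.card = k - 1 → x ∉ s → (insert x s).card = k := by
    intro s x hs hx
    rw [Finset.card_insert_of_notMem hx, hs]; omega
  have hml : m ∣ l := by
    rw [← hkm1 s₀ hs₀, ← hkm (insert x₀ s₀) (hcard_ins s₀ x₀ hs₀ hx₀)]
    exact Subgroup.card_dvd_of_le (hle s₀ x₀)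
  have hl0 : l ≠ 0 := by omega
  have hm0 : m ≠ 0 := by
    rintro rfl
    exact hl0 (Nat.eq_zero_of_zero_dvd hml)
  have hne : m ≠ l := by
    intro hml'
    have hbot : fixingSubgroup G (s₀ : Set α) = ⊥ := by
      rw [Subgroup.eq_bot_iff_forall]
      intro g hg
      apply Subtype.ext
      apply Equiv.ext
      intro y
      change (g : Equiv.Perm α) y = y
      by_cases hy : y ∈ s₀
      · exact (hmem _ g).mp hg y (Finset.mem_coe.mpr hy)
      · have h1 : fixingSubgroup G ((insert y s₀ : Finset α) : Set α) = fixingSubgroup G (s₀ : Set α) := by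
          apply Subgroup.eq_of_le_of_card_ge (hle s₀ y)
          rw [hkm1 s₀ hs₀, hkm _ (hcard_ins s₀ y hs₀ hy), hml']
        rw [← h1] at hg
        exact (hmem _ g).mp hg y (Finset.mem_coe.mpr (Finset.mem_insert_self _ _))
    have := hkm1 s₀ hs₀
    rw [hbot, Subgroup.card_bot] at this
    omega
  obtain ⟨d, hd⟩ := hml
  have hd1 : d ≠ 1 := by
    rintro rfl
    exact hne (by rw [hd, mul_one])
  have hd0 : d ≠ 0 := by
    rintro rfl
    exact hl0 (by rw [hd, mul_zero])
  obtain ⟨p, hp, hpd⟩ := Nat.exists_prime_and_dvd hd1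
  haveI : Fact p.Prime := ⟨hp⟩
  have hnot : ¬ p ^ (l.factorization p) ∣ m := by
    intro hdvd
    have h1 := (hp.pow_dvd_iff_le_factorization hm0).mp hdvd
    have h2 : l.factorization p = m.factorization p + d.factorization p := by
      rw [hd, Nat.factorization_mul hm0 hd0]; rfl
    have h3 : 0 < d.factorization p := hp.factorization_pos_of_dvd hd0 hpd
    omega
  apply Cfsg.Agent.S0743.result G hp (by omega : 1 ≤ k - 1) (by omega : k - 1 < Fintype.card α)
  intro s hs
  set Hs : Subgroup G := fixingSubgroup G (s : Set α) with hHs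
  obtain P : Sylow p Hs := default
  refine ⟨(P : Subgroup Hs).map Hs.subtype, P.2.map Hs.subtype, ?_⟩
  have hPcard : Nat.card ((P : Subgroup Hs).map Hs.subtype) = p ^ (l.factorization p) := by
    rw [Subgroup.card_map_of_injective Hs.subtype_injective, Sylow.card_eq_multiplicity, hkm1 s hs]
  have hPH : ∀ q ∈ (P : Subgroup Hs).map Hs.subtype, q ∈ Hs := by
    rintro q ⟨q', -, rfl⟩
    exact q'.2
  ext y
  constructor
  · intro hy
    by_contra hys
    have hys' : y ∉ s := fun h' => hys (Finset.mem_coe.mpr h')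
    have hPK : (P : Subgroup Hs).map Hs.subtype ≤ fixingSubgroup G ((insert y s : Finset α) : Set α) := by
      intro q hq
      rw [hmem]
      intro z hz
      rw [Finset.mem_coe, Finset.mem_insert] at hz
      rcases hz with rfl | hz
      · exact hy ⟨q, hq⟩
      · exact (hmem _ q).mp (hPH q hq) z (Finset.mem_coe.mpr hz)
    have := Subgroup.card_dvd_of_le hPK
    rw [hPcard, hkm _ (hcard_ins s y hs hys')] at this
    exact hnot this
  · intro hy q
    exact (hmem _ q.1).mp (hPH q.1 q.2) y hy

end Cfsg.Agent.S0744
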