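import Cfsg.Statements.S0375
import Cfsg.Agent.S0407
import Cfsg.Agent.Lib.Helper9.GolayConcrete
import Cfsg.Agent.Lib.Helper9.GolayG5

set_option autoImplicit false
open Cfsg

namespace Cfsg.Agent.S0375

/-- A doubly even self-dual binary code of length 24 with no words of weight 4 is equivalent to the length-24 code built from the squares modulo 23. -/
theorem result (C : Submodule (ZMod 2) (Fin 24 → ZMod 2)) (hdim : Module.finrank (ZMod 2) C = 12) (horth : ∀ v ∈ C, ∀ w ∈ C, ∑ i, v i * w i = 0) (h4 : ∀ w ∈ C, 4 ∣ hammingNorm w) (hno4 : ∀ w ∈ C, hammingNorm w ≠ 4) : ∃ e : Fin 24 ≃ Cfsg.GolayPt, ∀ w : Cfsg.GolayPt → ZMod 2, w ∈ Cfsg.golayCode ↔ (fun i => w (e i)) ∈ C := by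
  classical
  have hC : Cfsg.Agent.Lib.Helper9.GolayG.IsAbsGolay C := by
    refine ⟨by simp, hdim, horth, ?_⟩
    intro w hw h0
    have h0' : hammingNorm w ≠ 0 := by
      rw [Ne, hammingNorm_eq_zero]
      exact h0
    obtain ⟨k, hk⟩ := h4 w hw
    have := hno4 w hw
    omega
  have hG := Cfsg.Agent.Lib.Helper9.GolayG.golayCode_isAbsGolay
  obtain ⟨e, he⟩ := Cfsg.Agent.S0407.result (by simp) Cfsg.Agent.Lib.Helper9.GolayG.card_golayPt
    (Cfsg.Agent.Lib.Helper9.GolayG.octads_steiner hC)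
    (Cfsg.Agent.Lib.Helper9.GolayG.octads_steiner hG)
  refine ⟨e, ?_⟩
  let φ : (Cfsg.GolayPt → ZMod 2) ≃ₗ[ZMod 2] (Fin 24 → ZMod 2) :=
    LinearEquiv.funCongrLeft (ZMod 2) (ZMod 2) e
  have hφ : ∀ w : Cfsg.GolayPt → ZMod 2, φ w = fun i => w (e i) := fun w => rfl
  have hle : Submodule.map (φ : (Cfsg.GolayPt → ZMod 2) →ₗ[ZMod 2] (Fin 24 → ZMod 2))
      Cfsg.golayCode ≤ C := by
    rw [← Cfsg.Agent.Lib.Helper9.GolayG.span_octads hG, Submodule.map_span, Submodule.span_le]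
    rintro _ ⟨w, ⟨hw, hw8⟩, rfl⟩
    have hmem : Cfsg.support₂ w ∈ Cfsg.wordsOfWeight
        (Cfsg.golayCode : Set (Cfsg.GolayPt → ZMod 2)) 8 := by
      refine ⟨⟨w, hw, rfl⟩, ?_⟩
      rw [← Cfsg.Agent.Lib.Helper9.hammingNorm_eq_card_support₂, hw8]
    rw [← he] at hmem
    obtain ⟨b, ⟨⟨c, hc, rfl⟩, _⟩, hb⟩ := hmem
    have hcw : (φ w : Fin 24 → ZMod 2) = c := by
      apply Cfsg.Agent.Lib.Helper9.support₂_injective
      ext i
      rw [Cfsg.Agent.Lib.Helper9.mem_support₂', Cfsg.Agent.Lib.Helper9.mem_support₂', hφ]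
      show w (e i) ≠ 0 ↔ c i ≠ 0
      rw [← Cfsg.Agent.Lib.Helper9.mem_support₂', ← Cfsg.Agent.Lib.Helper9.mem_support₂', ← hb]
      rw [Finset.mem_image]
      constructor
      · rintro ⟨j, hj, hje⟩
        rwa [← e.injective hje]
      · intro hi
        exact ⟨i, hi, rfl⟩
    show (φ w : Fin 24 → ZMod 2) ∈ (C : Set (Fin 24 → ZMod 2))
    rw [hcw]
    exact hc
  have heq : Submodule.map (φ : (Cfsg.GolayPt → ZMod 2) →ₗ[ZMod 2] (Fin 24 → ZMod 2))
      Cfsg.golayCode = C := by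
    apply Submodule.eq_of_le_of_finrank_le hle
    rw [LinearEquiv.finrank_map_eq, hdim, hG.hdim]
  intro w
  rw [← heq]
  constructor
  · intro hw
    exact ⟨w, hw, rfl⟩
  · rintro ⟨y, hy, hyw⟩
    have : y = w := φ.injective hyw
    rwa [← this]

end Cfsg.Agent.S0375
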