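import Mathlib
import Cfsg.Statements.S5592
import Cfsg.Agent.S0391

set_option autoImplicit false
open Cfsg

namespace Cfsg.Agent.S5592

theorem sqNorm_two_smul (z : Cfsg.GolayPt → ℤ) : Cfsg.sqNorm (2 • z) = 4 * Cfsg.sqNorm z := by
  unfold Cfsg.sqNorm
  rw [Finset.mul_sum]
  apply Finset.sum_congr rfl
  intro i _
  simp only [Pi.smul_apply, smul_eq_mul]
  ring

theorem sqNorm_sub (x y : Cfsg.GolayPt → ℤ) :
    Cfsg.sqNorm (x - y) = Cfsg.sqNorm x + Cfsg.sqNorm y - 2 * Cfsg.dotInt x y := by
  unfold Cfsg.sqNorm Cfsg.dotInt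
  rw [Finset.mul_sum, ← Finset.sum_add_distrib, ← Finset.sum_sub_distrib]
  apply Finset.sum_congr rfl
  intro i _
  simp only [Pi.sub_apply]
  ring

theorem sqNorm_add (x y : Cfsg.GolayPt → ℤ) :
    Cfsg.sqNorm (x + y) = Cfsg.sqNorm x + Cfsg.sqNorm y + 2 * Cfsg.dotInt x y := by
  unfold Cfsg.sqNorm Cfsg.dotInt
  rw [Finset.mul_sum, ← Finset.sum_add_distrib, ← Finset.sum_add_distrib]
  apply Finset.sum_congr rfl
  intro i _
  simp only [Pi.add_apply]
  ring

/-- In the Leech lattice (integer coordinates, sum of squares equal to 8 times the customary norm, so the shortest non-zero vectors have sum of squares 32): if two distinct vectors of sum of squares at most 64 are congruent modulo twice the lattice, then either they are negatives of each other, or both have sum of squares 64 and they are orthogonal. -/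
theorem result (x y : Cfsg.GolayPt → ℤ) (hx : x ∈ Cfsg.leechLattice) (hy : y ∈ Cfsg.leechLattice) (hxy : x ≠ y) (hxn : Cfsg.sqNorm x ≤ 64) (hyn : Cfsg.sqNorm y ≤ 64) (hc : (∃ z ∈ Cfsg.leechLattice, x - y = 2 • z)) :
    x = -y ∨ (Cfsg.sqNorm x = 64 ∧ Cfsg.sqNorm y = 64 ∧ Cfsg.dotInt x y = 0) := by
  obtain ⟨z, hz, hxz⟩ := hc
  have hz0 : z ≠ 0 := by
    rintro rfl
    rw [smul_zero, sub_eq_zero] at hxz
    exact hxy hxz
  have h1 := Cfsg.Agent.S0391.result z hz hz0
  have h2 : Cfsg.sqNorm (x - y) = 4 * Cfsg.sqNorm z := by rw [hxz, sqNorm_two_smul]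
  by_cases hneg : x = -y
  · exact Or.inl hneg
  · right
    have hw : x + y = 2 • (z + y) := by
      have : x = 2 • z + y := by rw [← hxz]; abel
      rw [this, smul_add]
      abel
    have hw0 : z + y ≠ 0 := by
      intro h
      apply hneg
      rw [h, smul_zero] at hw
      exact eq_neg_of_add_eq_zero_left hw
    have h3 := Cfsg.Agent.S0391.result (z + y) (Cfsg.leechLattice.add_mem hz hy) hw0
    have h4 : Cfsg.sqNorm (x + y) = 4 * Cfsg.sqNorm (z + y) := by rw [hw, sqNorm_two_smul]
    have h5 := sqNorm_sub x y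
    have h6 := sqNorm_add x y
    refine ⟨by omega, by omega, by omega⟩

end Cfsg.Agent.S5592
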