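import Mathlib
import Cfsg.Statements.S5421
import Cfsg.Agent.Lib.Lead.GenCentralizers
import Cfsg.Agent.Lib.Helper9.PCore

set_option autoImplicit false
open Cfsg
open scoped commutatorElement

namespace Cfsg.Agent.S5421

/-- Let Q be an extraspecial 2-subgroup of the finite group G whose centralizer in G is its centre Z and which is normal in the centralizer of Z. If some involution b of Q outside Z has Z inside the largest normal 2-subgroup of the centralizer of b, then Q is a large extraspecial 2-subgroup of G. -/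
theorem result {G : Type*} [Group G] [Finite G] (Q : Subgroup G) (hL1 : Cfsg.IsExtraspecial 2 ↥Q) (hL2 : Subgroup.centralizer (Q : Set G) = ((Subgroup.center ↥Q).map Q.subtype)) (hL3 : Subgroup.centralizer (((Subgroup.center ↥Q).map Q.subtype) : Set G) ≤ Subgroup.normalizer (Q : Set G)) (b : G) (hbQ : b ∈ Q) (hbZ : b ∉ ((Subgroup.center ↥Q).map Q.subtype)) (hb : orderOf b = 2) (hZ : ((Subgroup.center ↥Q).map Q.subtype) ≤ (Cfsg.pCore 2 ↥(Subgroup.centralizer ({b} : Set G))).map (Subgroup.centralizer ({b} : Set G)).subtype) : Cfsg.IsLargeExtraspecial Q := by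
  classical
  refine ⟨hL1, hL2, hL3, ?_⟩
  intro K hKodd hQK
  haveI : Fact (Nat.Prime 2) := ⟨Nat.prime_two⟩
  set Z : Subgroup G := (Subgroup.center ↥Q).map Q.subtype with hZdef
  have hZcard : Nat.card Z = 2 := by
    rw [hZdef, Subgroup.card_map_of_injective Q.subtype_injective]; exact hL1.2
  have hZQ : Z ≤ Q := Subgroup.map_subtype_le _
  -- the unique nonidentity element of Z
  obtain ⟨⟨z, hzZ⟩, hz1, hzuniq⟩ := (Nat.card_eq_two_iff' (1 : Z)).mp hZcard
  have hz1' : z ≠ 1 := fun h => hz1 (Subtype.ext h)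
  have hZmem : ∀ x ∈ Z, x = 1 ∨ x = z := by
    intro x hx
    by_cases h : x = 1
    · exact Or.inl h
    · right
      have := hzuniq ⟨x, hx⟩ (fun h' => h (congrArg Subtype.val h'))
      exact congrArg Subtype.val this
  have hzQ : z ∈ Q := hZQ hzZ
  have hzcent : ∀ q ∈ Q, q * z = z * q := by
    have : z ∈ Subgroup.centralizer (Q : Set G) := by rw [hL2]; exact hzZ
    intro q hq
    exact (Subgroup.mem_centralizer_iff.mp this) q hq
  have hzz : z * z = 1 := by
    rcases hZmem (z * z) (Z.mul_mem hzZ hzZ) with h | h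
    · exact h
    · exfalso; apply hz1'
      have : z * z = z * 1 := by rw [mul_one]; exact h
      exact mul_left_cancel this
  have hbb : b * b = 1 := by
    rw [← pow_two, ← hb, pow_orderOf_eq_one]
  have hb1 : b ≠ 1 := by
    intro h; rw [h, orderOf_one] at hb; omega
  have hbz : b * z = z * b := hzcent b hbQ
  -- |Q| is a power of 2, coprime to |K|
  obtain ⟨n, hn⟩ := IsPGroup.iff_card.mp hL1.1.1
  have hcopQK : (Nat.card Q).Coprime (Nat.card K) := by
    rw [hn]
    exact Nat.Coprime.pow_left n (Nat.coprime_two_left.mpr hKodd)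
  have hQKbot : Q ⊓ K = ⊥ := Subgroup.inf_eq_bot_of_coprime hcopQK
  have hQK1 : ∀ x, x ∈ Q → x ∈ K → x = 1 := by
    intro x hxQ hxK
    have : x ∈ Q ⊓ K := ⟨hxQ, hxK⟩
    rw [hQKbot] at this
    exact Subgroup.mem_bot.mp this
  -- conjugation by elements of Q preserves K
  have hconjK : ∀ q ∈ Q, ∀ k ∈ K, q * k * q⁻¹ ∈ K := by
    intro q hq k hk
    exact ((Subgroup.mem_normalizer_iff.mp (hQK hq)) k).mp hk
  -- (2) C_K(z) = 1
  have hCz : ∀ k ∈ K, z * k = k * z → k = 1 := by
    intro k hk hzk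
    have hkCZ : k ∈ Subgroup.centralizer (Z : Set G) := by
      rw [Subgroup.mem_centralizer_iff]
      intro x hx
      rcases hZmem x hx with rfl | rfl
      · simp
      · exact hzk
    have hkN : k ∈ Subgroup.normalizer (Q : Set G) := hL3 hkCZ
    have hkCQ : k ∈ Subgroup.centralizer (Q : Set G) := by
      rw [Subgroup.mem_centralizer_iff]
      intro q hq
      have h1 : k * q * k⁻¹ ∈ Q := ((Subgroup.mem_normalizer_iff.mp hkN) q).mp hq
      have h2 : k * q * k⁻¹ * q⁻¹ ∈ Q := Q.mul_mem h1 (Q.inv_mem hq)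
      have h3 : q * k⁻¹ * q⁻¹ ∈ K := hconjK q hq k⁻¹ (K.inv_mem hk)
      have h4 : k * q * k⁻¹ * q⁻¹ ∈ K := by
        have : k * q * k⁻¹ * q⁻¹ = k * (q * k⁻¹ * q⁻¹) := by group
        rw [this]; exact K.mul_mem hk h3
      have h5 := hQK1 _ h2 h4
      have : k * q = (k * q * k⁻¹ * q⁻¹) * (q * k) := by group
      rw [this, h5, one_mul]
    rw [hL2] at hkCQ
    exact hQK1 k (hZQ hkCQ) hk
  -- (5) C_K(b) = 1
  have hCb : ∀ k ∈ K, b * k = k * b → k = 1 := by
    intro k hk hbk
    apply hCz k hk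
    set C : Subgroup G := Subgroup.centralizer ({b} : Set G) with hC
    have hkC : k ∈ C := by
      rw [hC, Subgroup.mem_centralizer_iff]
      intro x hx
      rw [Set.mem_singleton_iff] at hx
      rw [hx]; exact hbk
    obtain ⟨r, hrR, hrz⟩ := hZ hzZ
    haveI hRn : (Cfsg.pCore 2 ↥C).Normal := Cfsg.Agent.Lib.Helper9.pCore_normal' 2
    have hRp : IsPGroup 2 (Cfsg.pCore 2 ↥C) := Cfsg.Agent.Lib.Helper9.pCore_isPGroup' 2
    have h1 : r * ((⟨k, hkC⟩ : ↥C) * r⁻¹ * (⟨k, hkC⟩ : ↥C)⁻¹) ∈ Cfsg.pCore 2 ↥C :=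
      (Cfsg.pCore 2 ↥C).mul_mem hrR (hRn.conj_mem _ ((Cfsg.pCore 2 ↥C).inv_mem hrR) _)
    set R' : Subgroup G := (Cfsg.pCore 2 ↥C).map C.subtype with hR'
    have h2 : z * (k * z⁻¹ * k⁻¹) ∈ R' := by
      refine ⟨_, h1, ?_⟩
      simp only [Subgroup.coe_subtype, Subgroup.coe_mul, Subgroup.coe_inv] at hrz ⊢
      rw [hrz]
    have h3 : z * (k * z⁻¹ * k⁻¹) ∈ K := by
      have : z * (k * z⁻¹ * k⁻¹) = (z * k * z⁻¹) * k⁻¹ := by group
      rw [this]
      exact K.mul_mem (hconjK z hzQ k hk) (K.inv_mem hk)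
    obtain ⟨m, hm⟩ := IsPGroup.iff_card.mp hRp
    have hcop : (Nat.card R').Coprime (Nat.card K) := by
      rw [hR', Subgroup.card_map_of_injective C.subtype_injective, hm]
      exact Nat.Coprime.pow_left m (Nat.coprime_two_left.mpr hKodd)
    have hbot : R' ⊓ K = ⊥ := Subgroup.inf_eq_bot_of_coprime hcop
    have h4 : z * (k * z⁻¹ * k⁻¹) = 1 := by
      have : z * (k * z⁻¹ * k⁻¹) ∈ R' ⊓ K := ⟨h2, h3⟩
      rw [hbot] at this
      exact Subgroup.mem_bot.mp this
    have : z * k = (z * (k * z⁻¹ * k⁻¹)) * (k * z) := by group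
    rw [this, h4, one_mul]
  -- (6) C_K(zb) = 1
  have hCzb : ∀ k ∈ K, (z * b) * k = k * (z * b) → k = 1 := by
    intro k hk hzbk
    -- q ∈ Q not commuting with b
    have : ∃ q ∈ Q, q * b ≠ b * q := by
      by_contra hcon
      push Not at hcon
      apply hbZ
      rw [← hL2, Subgroup.mem_centralizer_iff]
      intro q hq
      exact hcon q hq
    obtain ⟨q, hqQ, hqb⟩ := this
    have hcomm : q * b * q⁻¹ * b⁻¹ ∈ Z := by
      have h1 : ⁅(⟨q, hqQ⟩ : ↥Q), (⟨b, hbQ⟩ : ↥Q)⁆ ∈ commutator ↥Q := by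
        rw [commutator_def]
        exact Subgroup.commutator_mem_commutator (Subgroup.mem_top _) (Subgroup.mem_top _)
      rw [hL1.1.2.2] at h1
      refine ⟨_, h1, ?_⟩
      simp [commutatorElement_def]
    have hqbz : q * b * q⁻¹ = z * b := by
      rcases hZmem _ hcomm with h | h
      · exfalso; apply hqb
        have : q * b = (q * b * q⁻¹ * b⁻¹) * (b * q) := by group
        rw [this, h, one_mul]
      · have : q * b * q⁻¹ = (q * b * q⁻¹ * b⁻¹) * b := by group
        rw [this, h]
    have hk' : q⁻¹ * k * q ∈ K := by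
      have := hconjK q⁻¹ (Q.inv_mem hqQ) k hk
      simpa using this
    have h1 : b * (q⁻¹ * k * q) = (q⁻¹ * k * q) * b := by
      have e1 : b * (q⁻¹ * k * q) = q⁻¹ * ((q * b * q⁻¹) * k) * q := by group
      have e2 : (q⁻¹ * k * q) * b = q⁻¹ * (k * (q * b * q⁻¹)) * q := by group
      rw [e1, e2, hqbz, hzbk]
    have h2 := hCb _ hk' h1
    have : k = q * (q⁻¹ * k * q) * q⁻¹ := by group
    rw [this, h2]; group
  -- (4) the four-group A = ⟨z, b⟩
  set A : Subgroup G := Subgroup.closure ({z, b} : Set G) with hA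
  haveI hAc : IsMulCommutative A := by
    apply Subgroup.isMulCommutative_closure
    intro x hx y hy
    rcases hx with rfl | rfl <;> rcases hy with rfl | rfl
    · rfl
    · exact hbz.symm
    · exact hbz
    · rfl
  have hAQ : A ≤ Q := by
    rw [hA, Subgroup.closure_le]
    intro x hx
    rcases hx with rfl | rfl
    · exact hzQ
    · exact hbQ
  have hzb' : ∀ x, z * (z * x) = x := fun x => by rw [← mul_assoc, hzz, one_mul]
  have hbb' : ∀ x, b * (b * x) = x := fun x => by rw [← mul_assoc, hbb, one_mul]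
  have hbz' : ∀ x, b * (z * x) = z * (b * x) := fun x => by rw [← mul_assoc, hbz, mul_assoc]
  have hzinv : z⁻¹ = z := inv_eq_of_mul_eq_one_right hzz
  have hbinv : b⁻¹ = b := inv_eq_of_mul_eq_one_right hbb
  have hAmem : ∀ x ∈ A, x = 1 ∨ x = z ∨ x = b ∨ x = z * b := by
    intro x hx
    induction hx using Subgroup.closure_induction with
    | mem x hx =>
      rcases hx with rfl | rfl
      · exact Or.inr (Or.inl rfl)
      · exact Or.inr (Or.inr (Or.inl rfl))
    | one => exact Or.inl rfl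
    | mul x y _ _ hx hy =>
      rcases hx with rfl | rfl | rfl | rfl <;> rcases hy with rfl | rfl | rfl | rfl <;>
        simp [mul_assoc, hzz, hbb, hbz, hzb', hbb', hbz']
    | inv x _ hx =>
      rcases hx with rfl | rfl | rfl | rfl <;>
        simp [mul_assoc, hzz, hbb, hbz, hzb', hbb', hbz', hzinv, hbinv]
  have hzA : z ∈ A := Subgroup.subset_closure (by simp)
  have hbA : b ∈ A := Subgroup.subset_closure (by simp)
  have hzb : z ≠ b := by
    intro h; apply hbZ; rw [← h]; exact hzZ
  have hAnc : ¬ IsCyclic A := by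
    intro hcyc
    haveI : Fintype A := Fintype.ofFinite A
    have h := IsCyclic.card_pow_eq_one_le (α := A) (n := 2) (by norm_num)
    have h3 : ({(1 : A), ⟨z, hzA⟩, ⟨b, hbA⟩} : Finset A) ⊆
        Finset.univ.filter (fun a : A => a ^ 2 = 1) := by
      intro a ha
      simp only [Finset.mem_insert, Finset.mem_singleton] at ha
      simp only [Finset.mem_filter, Finset.mem_univ, true_and]
      rcases ha with rfl | rfl | rfl
      · simp
      · apply Subtype.ext; simp [pow_two, hzz]
      · apply Subtype.ext; simp [pow_two, hbb]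
    have h4 : ({(1 : A), ⟨z, hzA⟩, ⟨b, hbA⟩} : Finset A).card = 3 := by
      rw [Finset.card_insert_of_notMem, Finset.card_insert_of_notMem, Finset.card_singleton]
      · simp only [Finset.mem_singleton]
        intro h; exact hzb (congrArg Subtype.val h)
      · simp only [Finset.mem_insert, Finset.mem_singleton]
        rintro (h | h)
        · exact hz1' (congrArg Subtype.val h).symm
        · exact hb1 (congrArg Subtype.val h).symm
    have := Finset.card_le_card h3
    omega
  have hAK : A ≤ Subgroup.normalizer (K : Set G) := hAQ.trans hQK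
  have hcopA : (Nat.card A).Coprime (Nat.card K) :=
    Nat.Coprime.coprime_dvd_left (Subgroup.card_dvd_of_le hAQ) hcopQK
  have hgen := Cfsg.Agent.Lib.Lead.generated_by_centralizers A K hAnc hAK hcopA
  rw [← hgen]
  apply le_antisymm _ bot_le
  apply iSup₂_le
  rintro a ⟨haA, ha1⟩ k ⟨hkK, hkC⟩
  rw [Subgroup.mem_bot]
  have hak : a * k = k * a := by
    have := (Subgroup.mem_centralizer_iff.mp hkC) a (Set.mem_singleton a)
    exact this
  rcases hAmem a haA with rfl | rfl | rfl | rfl
  · exact absurd rfl ha1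
  · exact hCz k hkK hak
  · exact hCb k hkK hak
  · exact hCzb k hkK hak

end Cfsg.Agent.S5421
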