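import Mathlib
import Cfsg.Statements.S5422
import Cfsg.Agent.S5421
import Cfsg.Agent.Lib.Helper9.PCore
import Cfsg.Agent.Lib.Helper9.LargeExtra
import Cfsg.Agent.Lib.Helper9.LargeExtra2
import Cfsg.Agent.Lib.Helper9.LargeExtra3

set_option autoImplicit false
open Cfsg

namespace Cfsg.Agent.S5422

open Cfsg.Agent.Lib.Helper9.LargeExtra

/-- Let Q be an extraspecial 2-subgroup of the finite group G whose centralizer in G is its centre Z and which is normal in the centralizer of Z; suppose Q has width at least 2 (order 2^(2w+1) with w ≥ 2) and g is an element of G not normalizing Z with g Z g⁻¹ inside Q. Then Z lies inside g Q g⁻¹; writing V for the subgroup generated by Z and g Z g⁻¹ (a four-group), the normalizer of V induces on V its full automorphism group, that is, the centralizer of V has index 6 in the normalizer of V; and Q is a large extraspecial 2-subgroup of G. -/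
theorem result {G : Type*} [Group G] [Finite G] (Q : Subgroup G) (hL1 : Cfsg.IsExtraspecial 2 ↥Q) (hL2 : Subgroup.centralizer (Q : Set G) = ((Subgroup.center ↥Q).map Q.subtype)) (hL3 : Subgroup.centralizer (((Subgroup.center ↥Q).map Q.subtype) : Set G) ≤ Subgroup.normalizer (Q : Set G)) (w : ℕ) (hw : 2 ≤ w) (hcard : Nat.card ↥Q = 2 ^ (2 * w + 1)) (g : G) (hg : g ∉ Subgroup.normalizer (((Subgroup.center ↥Q).map Q.subtype) : Set G)) (hZg : (((Subgroup.center ↥Q).map Q.subtype)).map (MulAut.conj g).toMonoidHom ≤ Q) : ((Subgroup.center ↥Q).map Q.subtype) ≤ (Q).map (MulAut.conj g).toMonoidHom ∧ (Subgroup.centralizer ((((Subgroup.center ↥Q).map Q.subtype) ⊔ (((Subgroup.center ↥Q).map Q.subtype)).map (MulAut.conj g).toMonoidHom : Subgroup G) : Set G)).relIndex (Subgroup.normalizer ((((Subgroup.center ↥Q).map Q.subtype) ⊔ (((Subgroup.center ↥Q).map Q.subtype)).map (MulAut.conj g).toMonoidHom : Subgroup G) : Set G)) = 6 ∧ Cfsg.IsLargeExtraspecial Q := by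
  classical
  obtain ⟨z, hcore, hZmem⟩ := core_of_hyps Q hL1 hL2 hL3
  set Z : Subgroup G := (Subgroup.center ↥Q).map Q.subtype with hZdef
  have hzZ : z ∈ Z := (hZmem z).mpr (Or.inr rfl)
  obtain ⟨a, ha⟩ : ∃ a, a = g * z * g⁻¹ := ⟨_, rfl⟩
  have hmemZg : ∀ x, x ∈ Z.map (MulAut.conj g).toMonoidHom ↔ x = 1 ∨ x = a := by
    intro x
    rw [Subgroup.mem_map]
    simp only [MulEquiv.coe_toMonoidHom, MulAut.conj_apply]
    constructor
    · rintro ⟨w', hw', rfl⟩
      rcases (hZmem w').mp hw' with rfl | rfl
      · left; group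
      · right; exact ha.symm
    · rintro (rfl | rfl)
      · exact ⟨1, Z.one_mem, by group⟩
      · exact ⟨z, hzZ, ha.symm⟩
  have haQ : a ∈ Q := hZg ((hmemZg a).mpr (Or.inr rfl))
  have haz : a ≠ z := by
    intro h
    apply hg
    apply Subgroup.mem_normalizer_fintype
    intro x hx
    rcases (hZmem x).mp hx with rfl | rfl
    · simp [Z.one_mem]
    · rw [← ha, h]; exact hzZ
  have ha1 : a ≠ 1 := by
    intro h1
    apply hcore.z_ne
    have : z = g⁻¹ * a * g := by rw [ha]; group
    rw [this, h1]; group
  have haa : a * a = 1 := by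
    calc a * a = g * (z * z) * g⁻¹ := by rw [ha]; group
      _ = 1 := by rw [hcore.z_sq]; group
  have haQ' : g * z * g⁻¹ ∈ Q := by rw [← ha]; exact haQ
  have haz' : g * z * g⁻¹ ≠ z := by rw [← ha]; exact haz
  have hzQa : z ∈ Q.map (MulAut.conj g).toMonoidHom := hcore.z_mem_conj g haQ' haz'
  refine ⟨?_, ?_, ?_⟩
  · intro x hx
    rcases (hZmem x).mp hx with rfl | rfl
    · exact Subgroup.one_mem _
    · exact hzQa
  · -- the four-group
    have haz_comm : a * z = z * a := hcore.z_comm a haQ
    have hUmem : ∀ x, x ∈ Z ⊔ Z.map (MulAut.conj g).toMonoidHom ↔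
        x = 1 ∨ x = z ∨ x = a ∨ x = z * a := by
      intro x
      constructor
      · intro hx
        have hle : Z ⊔ Z.map (MulAut.conj g).toMonoidHom ≤ Subgroup.closure ({z, a} : Set G) := by
          apply sup_le
          · intro y hy
            rw [mem_closure_pair_invol hcore.z_sq haa haz_comm]
            rcases (hZmem y).mp hy with rfl | rfl
            · exact Or.inl rfl
            · exact Or.inr (Or.inl rfl)
          · intro y hy
            rw [mem_closure_pair_invol hcore.z_sq haa haz_comm]
            rcases (hmemZg y).mp hy with rfl | rfl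
            · exact Or.inl rfl
            · exact Or.inr (Or.inr (Or.inl rfl))
        exact (mem_closure_pair_invol hcore.z_sq haa haz_comm x).mp (hle hx)
      · have h1 : z ∈ Z ⊔ Z.map (MulAut.conj g).toMonoidHom := Subgroup.mem_sup_left hzZ
        have h2 : a ∈ Z ⊔ Z.map (MulAut.conj g).toMonoidHom :=
          Subgroup.mem_sup_right ((hmemZg a).mpr (Or.inr rfl))
        rintro (rfl | rfl | rfl | rfl)
        · exact Subgroup.one_mem _
        · exact h1
        · exact h2
        · exact Subgroup.mul_mem _ h1 h2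
    obtain ⟨q0, hq0, hq0a⟩ := hcore.exists_swap haQ ha1 haz
    obtain ⟨y, hya, hyz⟩ := hcore.exists_y g haQ' haz'
    rw [← ha] at hya hyz
    have hya' : y * a * y⁻¹ = a := by rw [hya]; group
    exact relIndex_four_group _ z a hcore.z_ne ha1 (fun h => haz h.symm) hcore.z_sq haa hUmem
      q0 y (hcore.conj_z hq0) hq0a hya' hyz
  · -- large, via S5421
    have haZ : a ∉ Z := by
      intro h
      rcases (hZmem a).mp h with h1 | h1
      · exact ha1 h1
      · exact haz h1
    have hord : orderOf a = 2 := by
      haveI : Fact (Nat.Prime 2) := ⟨Nat.prime_two⟩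
      exact orderOf_eq_prime (by rw [pow_two]; exact haa) ha1
    refine Cfsg.Agent.S5421.result Q hL1 hL2 hL3 a haQ haZ hord ?_
    -- Z ≤ O_2(C(a))
    set C : Subgroup G := Subgroup.centralizer ({a} : Set G) with hC
    set Qa : Subgroup G := Q.map (MulAut.conj g).toMonoidHom with hQa
    have hmemC : ∀ c, c ∈ C ↔ c * a = a * c := by
      intro c
      rw [hC, Subgroup.mem_centralizer_iff]
      constructor
      · intro h1; exact (h1 a rfl).symm
      · intro h1 x hx
        rw [Set.mem_singleton_iff] at hx
        rw [hx]; exact h1.symm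
    have hQaC : Qa ≤ C := by
      intro x hx
      rw [hmemC, ha]
      exact hcore.comm_of_mem_conj hx
    have hCN : C ≤ Subgroup.normalizer (Qa : Set G) := by
      intro c hc
      apply Subgroup.mem_normalizer_fintype
      intro x hx
      have hca : c * (g * z * g⁻¹) = (g * z * g⁻¹) * c := by
        rw [← ha]; exact (hmemC c).mp hc
      exact hcore.conj_mem_of_comm hca hx
    haveI hnorm : (Qa.subgroupOf C).Normal :=
      (Subgroup.normal_subgroupOf_iff_le_normalizer hQaC).mpr hCN
    have hQa2 : IsPGroup 2 Qa := hcore.two.map _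
    have hp2 : IsPGroup 2 (Qa.subgroupOf C) := by
      have := hQa2.comap_subtype (K := C)
      rwa [Subgroup.comap_subtype] at this
    have hle : Qa.subgroupOf C ≤ Cfsg.pCore 2 ↥C :=
      Cfsg.Agent.Lib.Helper9.le_pCore hnorm hp2
    intro x hx
    rcases (hZmem x).mp hx with h1 | h1
    · rw [h1]; exact Subgroup.one_mem _
    · rw [h1]
      have hzC : z ∈ C := hQaC hzQa
      refine ⟨⟨z, hzC⟩, hle ?_, rfl⟩
      rw [Subgroup.mem_subgroupOf]
      exact hzQa

end Cfsg.Agent.S5422
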