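import Mathlib
import Cfsg.Statements.S5620
import Cfsg.Agent.Lib.Helper9.M12Conj

set_option autoImplicit false
open scoped Pointwise
open Cfsg

namespace Cfsg.Agent.S5620

open Cfsg.Agent.Lib.Helper9.M24

theorem m11_eq : Cfsg.Spor.M11 = M24 ⊓ MulAction.stabilizer (Equiv.Perm GolayPt) Cfsg.Spor.squareDodecad ⊓
    MulAction.stabilizer (Equiv.Perm GolayPt) (some 0 : GolayPt) := rfl

theorem m12_eq : Cfsg.Spor.M12 = M24 ⊓ MulAction.stabilizer (Equiv.Perm GolayPt) Cfsg.Spor.squareDodecad := rfl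

theorem swap_spec : tperm m12swap ∈ M24 ∧
    tperm m12swap • Cfsg.Spor.squareDodecad = Finset.univ \ Cfsg.Spor.squareDodecad ∧
    tperm m12swap (some 0) = none := by
  have h := m12swap_ok
  simp only [Bool.and_eq_true, beq_iff_eq] at h
  obtain ⟨⟨⟨h1, h2⟩, h3⟩, h4⟩ := h
  refine ⟨tperm_mem h1 h2, ?_, ?_⟩
  · rw [squareDodecad_eq, smul_mset h1 (by norm_num), h3, ← mset_compl, Finset.compl_eq_univ_sdiff]
  · apply natOfPt_injective
    rw [natOfPt_tperm h1]
    exact h4

theorem conj_swap : MulAut.conj (tperm m12swap) • Cfsg.Spor.M11 =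
    Cfsg.Spor.M12 ⊓ MulAction.stabilizer (Equiv.Perm Cfsg.GolayPt) (none : Cfsg.GolayPt) := by
  obtain ⟨h1, h2, h3⟩ := swap_spec
  rw [m11_eq, conj_smul_stab h1, h2, h3, stabilizer_sdiff_univ, m12_eq]

/-- Inside the stabiliser of the dodecad of squares (a Mathieu group of degree 12), the stabiliser of the residue 0 (a point of the dodecad) and the stabiliser of the extra point (a point outside the dodecad) are isomorphic but not conjugate; conjugation by a suitable element of the code's group that maps the dodecad of squares onto its complement carries the first onto the second. -/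
theorem result : Nonempty (↥(Cfsg.Spor.M12 ⊓ MulAction.stabilizer (Equiv.Perm Cfsg.GolayPt) (none : Cfsg.GolayPt)) ≃* ↥Cfsg.Spor.M11) ∧ (¬ ∃ k ∈ Cfsg.Spor.M12, MulAut.conj k • Cfsg.Spor.M11 = Cfsg.Spor.M12 ⊓ MulAction.stabilizer (Equiv.Perm Cfsg.GolayPt) (none : Cfsg.GolayPt)) ∧ ∃ g ∈ Cfsg.M24, g • Cfsg.Spor.squareDodecad = Finset.univ \ Cfsg.Spor.squareDodecad ∧ MulAut.conj g • Cfsg.Spor.M11 = Cfsg.Spor.M12 ⊓ MulAction.stabilizer (Equiv.Perm Cfsg.GolayPt) (none : Cfsg.GolayPt) := by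
  obtain ⟨h1, h2, h3⟩ := swap_spec
  refine ⟨?_, ?_, tperm m12swap, h1, h2, conj_swap⟩
  · exact ⟨(MulEquiv.subgroupCongr conj_swap.symm).trans
      (Subgroup.equivSMul (MulAut.conj (tperm m12swap)) Cfsg.Spor.M11).symm⟩
  · rintro ⟨k, hk, hconj⟩
    rw [m12_eq, Subgroup.mem_inf, MulAction.mem_stabilizer_iff] at hk
    obtain ⟨hkM, hkD⟩ := hk
    rw [m11_eq, conj_smul_stab hkM, hkD] at hconj
    have hx : k (some 0) ∈ Cfsg.Spor.squareDodecad := by
      have h0 : (some 0 : GolayPt) ∈ Cfsg.Spor.squareDodecad := by decide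
      have : k (some 0) ∈ k • Cfsg.Spor.squareDodecad := by
        rw [smul_finset_eq_image']
        exact Finset.mem_image_of_mem _ h0
      rwa [hkD] at this
    obtain ⟨h, hhM, hhD, hhx, hhn⟩ := exists_m12_fix_move hx
    have hmem : h ∈ M24 ⊓ MulAction.stabilizer (Equiv.Perm GolayPt) Cfsg.Spor.squareDodecad ⊓
        MulAction.stabilizer (Equiv.Perm GolayPt) (k (some 0)) := by
      rw [Subgroup.mem_inf, Subgroup.mem_inf, MulAction.mem_stabilizer_iff, MulAction.mem_stabilizer_iff]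
      exact ⟨⟨hhM, hhD⟩, hhx⟩
    rw [hconj, Subgroup.mem_inf, MulAction.mem_stabilizer_iff] at hmem
    exact hhn hmem.2

end Cfsg.Agent.S5620
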