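import Mathlib
import Cfsg.Statements.S5599
import Cfsg.Agent.Lib.Helper9.M24E
import Cfsg.Agent.Lib.Helper9.M24L

set_option autoImplicit false
open scoped Pointwise
open Cfsg

namespace Cfsg.Agent.S5599

open Cfsg.Agent.Lib.Helper9.M24

theorem mem_M22_iff (x : Equiv.Perm GolayPt) :
    x ∈ Cfsg.Spor.M22 ↔ x ∈ M24 ∧ x none = none ∧ x (some 0) = some 0 := by
  have h1 : ∀ p : GolayPt, x ∈ MulAction.stabilizer (Equiv.Perm GolayPt) p ↔ x p = p := by
    intro p
    rw [MulAction.mem_stabilizer_iff, Equiv.Perm.smul_def]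
  unfold Cfsg.Spor.M22 Cfsg.Spor.M23
  rw [Subgroup.mem_inf, Subgroup.mem_inf, h1, h1]
  tauto

theorem mem_pairStab_iff (x : Equiv.Perm GolayPt) :
    x ∈ MulAction.stabilizer (Equiv.Perm GolayPt) ({none, some 0} : Finset GolayPt) ↔
      ({none, some 0} : Finset GolayPt).image x = {none, some 0} := by
  rw [MulAction.mem_stabilizer_iff]
  rfl

theorem pair_cases {x : Equiv.Perm GolayPt}
    (hx : ({none, some 0} : Finset GolayPt).image x = {none, some 0}) :
    (x none = none ∧ x (some 0) = some 0) ∨ (x none = some 0 ∧ x (some 0) = none) := by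
  have h1 : x none ∈ ({none, some 0} : Finset GolayPt) := by
    rw [← hx]; exact Finset.mem_image_of_mem _ (by simp)
  have h2 : x (some 0) ∈ ({none, some 0} : Finset GolayPt) := by
    rw [← hx]; exact Finset.mem_image_of_mem _ (by simp)
  have hne : x none ≠ x (some 0) := fun h => by
    have := x.injective h
    exact absurd this (by decide)
  rw [Finset.mem_insert, Finset.mem_singleton] at h1 h2
  rcases h1 with h1 | h1 <;> rcases h2 with h2 | h2
  · exact absurd (h1.trans h2.symm) hne
  · exact Or.inl ⟨h1, h2⟩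
  · exact Or.inr ⟨h1, h2⟩
  · exact absurd (h1.trans h2.symm) hne

theorem result (g : Equiv.Perm Cfsg.GolayPt) (hg : g ∈ Cfsg.M24) (h₁ : g none = some 0) (h₂ : g (some 0) = none) : Cfsg.Spor.M22.relIndex (Cfsg.M24 ⊓ MulAction.stabilizer (Equiv.Perm Cfsg.GolayPt) ({none, some 0} : Finset Cfsg.GolayPt)) = 2 ∧ (∀ x ∈ Cfsg.Spor.M22, g * x * g⁻¹ ∈ Cfsg.Spor.M22) ∧ ¬ ∃ h ∈ Cfsg.Spor.M22, ∀ x ∈ Cfsg.Spor.M22, g * x * g⁻¹ = h * x * h⁻¹ := by
  have hgi1 : g⁻¹ none = some 0 := by rw [Equiv.Perm.inv_eq_iff_eq]; exact h₂.symm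
  have hgi2 : g⁻¹ (some 0) = none := by rw [Equiv.Perm.inv_eq_iff_eq]; exact h₁.symm
  refine ⟨?_, ?_, ?_⟩
  · rw [Subgroup.relIndex_eq_two_iff_exists_notMem_and']
    refine ⟨g, ?_, ?_, ?_⟩
    · rw [Subgroup.mem_inf, mem_pairStab_iff]
      refine ⟨hg, ?_⟩
      rw [Finset.image_insert, Finset.image_singleton, h₁, h₂]
      exact Finset.pair_comm _ _
    · rw [mem_M22_iff]
      rintro ⟨-, h, -⟩
      rw [h₁] at h
      exact absurd h (by decide)
    · intro b hb
      rw [Subgroup.mem_inf, mem_pairStab_iff] at hb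
      rcases pair_cases hb.2 with ⟨ha, hb'⟩ | ⟨ha, hb'⟩
      · right
        rw [mem_M22_iff]
        exact ⟨hb.1, ha, hb'⟩
      · left
        rw [mem_M22_iff]
        refine ⟨Subgroup.mul_mem _ hg hb.1, ?_, ?_⟩
        · rw [Equiv.Perm.mul_apply, ha, h₂]
        · rw [Equiv.Perm.mul_apply, hb', h₁]
  · intro x hx
    rw [mem_M22_iff] at hx ⊢
    refine ⟨Subgroup.mul_mem _ (Subgroup.mul_mem _ hg hx.1) (Subgroup.inv_mem _ hg), ?_, ?_⟩
    · rw [Equiv.Perm.mul_apply, Equiv.Perm.mul_apply, hgi1, hx.2.2, h₂]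
    · rw [Equiv.Perm.mul_apply, Equiv.Perm.mul_apply, hgi2, hx.2.1, h₁]
  · rintro ⟨h, hh, hconj⟩
    rw [mem_M22_iff] at hh
    have hhi1 : h⁻¹ none = none := by rw [Equiv.Perm.inv_eq_iff_eq]; exact hh.2.1.symm
    have hhi2 : h⁻¹ (some 0) = some 0 := by rw [Equiv.Perm.inv_eq_iff_eq]; exact hh.2.2.symm
    set c : Equiv.Perm GolayPt := h⁻¹ * g with hc
    have hcM : c ∈ M24 := Subgroup.mul_mem _ (Subgroup.inv_mem _ hh.1) hg
    have hc1 : c none = some 0 := by rw [hc, Equiv.Perm.mul_apply, h₁, hhi2]
    have hc2 : c (some 0) = none := by rw [hc, Equiv.Perm.mul_apply, h₂, hhi1]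
    have hcomm : ∀ x ∈ Cfsg.Spor.M22, c * x = x * c := by
      intro x hx
      have := hconj x hx
      rw [hc]
      calc h⁻¹ * g * x = h⁻¹ * (g * x * g⁻¹) * g := by group
        _ = h⁻¹ * (h * x * h⁻¹) * g := by rw [this]
        _ = x * (h⁻¹ * g) := by group
    have hcomm' : ∀ x ∈ Cfsg.Spor.M22, ∀ p, c (x p) = x (c p) := by
      intro x hx p
      have := congrArg (fun f : Equiv.Perm GolayPt => f p) (hcomm x hx)
      simpa [Equiv.Perm.mul_apply] using this
    -- the image of `some 1`
    have hq : c (some 1) ≠ none ∧ c (some 1) ≠ some 0 := by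
      constructor
      · intro h'
        have := c.injective (h'.trans hc2.symm)
        exact absurd this (by decide)
      · intro h'
        have := c.injective (h'.trans hc1.symm)
        exact absurd this (by decide)
    by_cases hqp : c (some 1) = some 1
    · -- c fixes all the other points
      have hfix : ∀ r : GolayPt, r ≠ none → r ≠ some 0 → c r = r := by
        intro r hr1 hr2
        by_cases hr : r = some 1
        · rw [hr]; exact hqp
        obtain ⟨x, hxM, hxfix, hxm⟩ := exists_fix_move ({none, some 0} : Finset GolayPt)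
          (by decide) (a := some 1) (b := r) (by decide) (by
            rw [Finset.mem_insert, Finset.mem_singleton]; tauto)
        have hx22 : x ∈ Cfsg.Spor.M22 := by
          rw [mem_M22_iff]
          exact ⟨hxM, hxfix _ (by simp), hxfix _ (by simp)⟩
        have := hcomm' x hx22 (some 1)
        rw [hxm, hqp, hxm] at this
        exact this
      have hone : c = 1 := by
        refine eq_one_of_fixes hcM baseOctad_mem
          (P := {some 1, some 2, some 3, some 5, some 14, some 17}) (by decide) (by decide) ?_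
          (x := some 4) (by decide) (hfix _ (by decide) (by decide))
        intro p hp
        refine hfix p ?_ ?_
        · rintro rfl; revert hp; decide
        · rintro rfl; revert hp; decide
      rw [hone] at hc1
      exact absurd hc1 (by decide)
    · -- move the image while fixing `some 1`
      obtain ⟨r, hr0, hr1, hr2, hr3⟩ : ∃ r : GolayPt, r ≠ none ∧ r ≠ some 0 ∧ r ≠ some 1 ∧
          r ≠ c (some 1) := by
        by_cases h2 : c (some 1) = some 2
        · exact ⟨some 3, by decide, by decide, by decide, by rw [h2]; decide⟩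
        · exact ⟨some 2, by decide, by decide, by decide, fun h' => h2 h'.symm⟩
      obtain ⟨x, hxM, hxfix, hxm⟩ := exists_fix_move ({none, some 0, some 1} : Finset GolayPt)
        (by decide) (a := c (some 1)) (b := r) (by
          simp only [Finset.mem_insert, Finset.mem_singleton]
          rintro (h' | h' | h')
          · exact hq.1 h'
          · exact hq.2 h'
          · exact hqp h') (by
          simp only [Finset.mem_insert, Finset.mem_singleton]
          rintro (h' | h' | h')
          · exact hr0 h'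
          · exact hr1 h'
          · exact hr2 h')
      have hx22 : x ∈ Cfsg.Spor.M22 := by
        rw [mem_M22_iff]
        exact ⟨hxM, hxfix _ (by simp), hxfix _ (by simp)⟩
      have := hcomm' x hx22 (some 1)
      rw [hxfix (some 1) (by simp), hxm] at this
      exact hr3 this.symm

end Cfsg.Agent.S5599
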