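import Cfsg.Statements.S4204

set_option autoImplicit false
open Cfsg

namespace Cfsg.Agent.S4204

theorem comm_le_iff {G : Type*} [Group G] (W : Subgroup G) [W.Normal] (A B : Subgroup G) :
    ⁅A, B⁆ ≤ W ↔ A.map (QuotientGroup.mk' W) ≤
      Subgroup.centralizer ((B.map (QuotientGroup.mk' W) : Subgroup (G ⧸ W)) : Set (G ⧸ W)) := by
  rw [← Subgroup.commutator_eq_bot_iff_le_centralizer, ← Subgroup.map_commutator,
    Subgroup.map_eq_bot_iff, QuotientGroup.ker_mk']

theorem comm_iSup_le {G : Type*} [Group G] (W : Subgroup G) [W.Normal] {ι : Sort*}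
    (X : ι → Subgroup G) (Y : Subgroup G) (h : ∀ t, ⁅X t, Y⁆ ≤ W) : ⁅⨆ t, X t, Y⁆ ≤ W := by
  rw [comm_le_iff, Subgroup.map_iSup, iSup_le_iff]
  intro t
  rw [← comm_le_iff]
  exact h t

theorem comm_sup_right_le {G : Type*} [Group G] (W : Subgroup G) [W.Normal]
    (X Y Z : Subgroup G) (h1 : ⁅X, Y⁆ ≤ W) (h2 : ⁅X, Z⁆ ≤ W) : ⁅X, Y ⊔ Z⁆ ≤ W := by
  rw [Subgroup.commutator_comm] at h1 h2 ⊢
  rw [comm_le_iff] at h1 h2 ⊢
  rw [Subgroup.map_sup]
  exact sup_le h1 h2

/-- `bar H 0 = ⊤`, `bar H (i+1) = γ_i(H)`. -/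
def bar {G : Type*} [Group G] (H : Subgroup G) : ℕ → Subgroup G
  | 0 => ⊤
  | i + 1 => H.lowerCentralSeries i

theorem lcs_normal {G : Type*} [Group G] (H : Subgroup G) [H.Normal] :
    ∀ i, (H.lowerCentralSeries i).Normal := by
  intro i
  induction i with
  | zero => simpa
  | succ i ih =>
    rw [Subgroup.lowerCentralSeries_succ]
    have := ih
    infer_instance

theorem bar_normal {G : Type*} [Group G] (H : Subgroup G) [H.Normal] : ∀ i, (bar H i).Normal := by
  intro i
  cases i with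
  | zero => exact Subgroup.normal_top
  | succ i => exact lcs_normal H i

theorem bar_comm {G : Type*} [Group G] (H : Subgroup G) [H.Normal] (i : ℕ) :
    ⁅bar H i, H⁆ ≤ bar H (i + 1) := by
  cases i with
  | zero => exact Subgroup.commutator_le_right _ _
  | succ i => exact le_rfl

theorem bar_eq_bot {G : Type*} [Group G] (H : Subgroup G) (c : ℕ)
    (hH : H.lowerCentralSeries c = ⊥) (i : ℕ) (hi : c + 1 ≤ i) : bar H i = ⊥ := by
  obtain ⟨k, rfl⟩ : ∃ k, i = k + 1 := ⟨i - 1, by omega⟩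
  show H.lowerCentralSeries k = ⊥
  rw [eq_bot_iff, ← hH]
  exact Subgroup.lowerCentralSeries_antitone H (by omega)

/-- The bounding series. -/
def M {G : Type*} [Group G] (H K : Subgroup G) (n : ℕ) : Subgroup G :=
  ⨆ p : {p : ℕ × ℕ // p.1 + p.2 = n + 1}, bar H p.1.1 ⊓ bar K p.1.2

theorem M_normal {G : Type*} [Group G] (H K : Subgroup G) [H.Normal] [K.Normal] (n : ℕ) :
    (M H K n).Normal := by
  unfold M
  have : ∀ p : {p : ℕ × ℕ // p.1 + p.2 = n + 1}, (bar H p.1.1 ⊓ bar K p.1.2).Normal := by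
    intro p
    have := bar_normal H p.1.1
    have := bar_normal K p.1.2
    infer_instance
  infer_instance

theorem le_M {G : Type*} [Group G] (H K : Subgroup G) (n i j : ℕ) (hij : i + j = n + 1) :
    bar H i ⊓ bar K j ≤ M H K n := by
  unfold M
  exact le_iSup (fun p : {p : ℕ × ℕ // p.1 + p.2 = n + 1} => bar H p.1.1 ⊓ bar K p.1.2)
    ⟨(i, j), hij⟩

theorem M_step {G : Type*} [Group G] (H K : Subgroup G) [H.Normal] [K.Normal] (n : ℕ) :
    ⁅M H K n, H ⊔ K⁆ ≤ M H K (n + 1) := by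
  have := M_normal H K (n + 1)
  have hM : M H K n = ⨆ p : {p : ℕ × ℕ // p.1 + p.2 = n + 1}, bar H p.1.1 ⊓ bar K p.1.2 := rfl
  rw [hM]
  apply comm_iSup_le
  rintro ⟨⟨i, j⟩, hij⟩
  simp only at hij ⊢
  have := bar_normal H i
  have := bar_normal K j
  apply comm_sup_right_le
  · calc ⁅bar H i ⊓ bar K j, H⁆ ≤ bar H (i + 1) ⊓ bar K j := by
          apply le_inf
          · exact le_trans (Subgroup.commutator_mono inf_le_left le_rfl) (bar_comm H i)
          · exact le_trans (Subgroup.commutator_mono inf_le_right le_rfl)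
              (Subgroup.commutator_le_left _ _)
      _ ≤ M H K (n + 1) := le_M H K (n + 1) (i + 1) j (by omega)
  · calc ⁅bar H i ⊓ bar K j, K⁆ ≤ bar H i ⊓ bar K (j + 1) := by
          apply le_inf
          · exact le_trans (Subgroup.commutator_mono inf_le_left le_rfl)
              (Subgroup.commutator_le_left _ _)
          · exact le_trans (Subgroup.commutator_mono inf_le_right le_rfl) (bar_comm K j)
      _ ≤ M H K (n + 1) := le_M H K (n + 1) i (j + 1) (by omega)

theorem lcs_le_M {G : Type*} [Group G] (H K : Subgroup G) [H.Normal] [K.Normal] (n : ℕ) :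
    (H ⊔ K).lowerCentralSeries n ≤ M H K n := by
  induction n with
  | zero =>
    rw [Subgroup.lowerCentralSeries_zero]
    apply sup_le
    · have := le_M H K 0 1 0 (by omega)
      simpa [bar] using this
    · have := le_M H K 0 0 1 (by omega)
      simpa [bar] using this
  | succ n ih =>
    rw [Subgroup.lowerCentralSeries_succ]
    exact le_trans (Subgroup.commutator_mono ih le_rfl) (M_step H K n)

/-- Fitting's theorem with class bound. -/
theorem result {G : Type*} [Group G] [Finite G] (H K : Subgroup G) [H.Normal] [K.Normal] (c d : ℕ) (hH : H.lowerCentralSeries c = ⊥) (hK : K.lowerCentralSeries d = ⊥) : (H ⊔ K).lowerCentralSeries (c + d) = ⊥ := by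
  rw [eq_bot_iff]
  refine le_trans (lcs_le_M H K (c + d)) ?_
  unfold M
  apply iSup_le
  rintro ⟨⟨i, j⟩, hij⟩
  simp only at hij ⊢
  by_cases hi : c + 1 ≤ i
  · rw [bar_eq_bot H c hH i hi]; simp
  · rw [bar_eq_bot K d hK j (by omega)]; simp

end Cfsg.Agent.S4204
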