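import Mathlib
import Cfsg.Statements.S5083
import Cfsg.Agent.Lib.Helper9.FusionAut2

set_option autoImplicit false
open Cfsg
open Cfsg.FusionSystem
open Cfsg.Agent.Lib.Helper9

namespace Cfsg.Agent.S5083

variable {Ω : Type*} [Group Ω] {S : Subgroup Ω}

/-- `S` itself is fully normalized. -/
theorem top_fullyNormalized [Finite S] (F : FusionSystem S) : F.IsFullyNormalized S := by
  refine ⟨le_rfl, fun Q _ => ?_⟩
  have : Finite (normalizerIn S S) := fs_finite_of_le (fs_normalizerIn_le S S)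
  apply Subgroup.card_le_of_le
  intro x hx
  exact ⟨hx.1, Subgroup.le_normalizer hx.1⟩

/-- the automorphisms of a fully normalized subgroup are induced by `S` when `Aut_F` is a `p`-group -/
theorem aut_inner [Finite S] (p : ℕ) [Fact p.Prime] (hS : IsPGroup p S) (F : FusionSystem S)
    (hF : F.IsSaturated p) (h : ∀ P : Subgroup Ω, P ≤ S → IsPGroup p (F.autGroup P))
    {R : Subgroup Ω} (hR : F.IsFullyNormalized R) {ρ : R →* Ω} (hρ : ρ ∈ F.Hom R)
    (hval : ∀ y : R, ρ y ∈ R) : ∃ s ∈ S, ∀ y : R, ρ y = s * y * s⁻¹ := by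
  obtain ⟨α, hα, hαρ⟩ := fs_hom_to_aut F hρ hval
  have hRa := (fs_sylow_axiom p hS F hF hR).2
  have := fs_autGroup_le_autInducedBy_of_isPGroup p F hRa (h R hR.1) hα
  rw [mem_autInducedBy_iff] at this
  obtain ⟨s, hs, Hs⟩ := this
  exact ⟨s, hs, fun y => by rw [← hαρ, Hs]⟩

theorem all_inner [Finite S] (p : ℕ) [Fact p.Prime] (hS : IsPGroup p S) (F : FusionSystem S)
    (hF : F.IsSaturated p) (h : ∀ P : Subgroup Ω, P ≤ S → IsPGroup p (F.autGroup P)) :
    ∀ (k : ℕ) (P : Subgroup Ω) (φ : P →* Ω), φ ∈ F.Hom P → Nat.card S - Nat.card P = k →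
      ∃ g ∈ S, ∀ x : P, φ x = g * x * g⁻¹ := by
  intro k
  induction k using Nat.strong_induction_on with
  | _ k ih =>
    intro P φ hφ hk
    have hPS : P ≤ S := (F.le_of_mem hφ).1
    have hQS : φ.range ≤ S := fs_range_le F hφ
    have hfinP : Finite P := fs_finite_of_le hPS
    by_cases hPtop : P = S
    · subst hPtop
      -- φ maps S into S
      exact aut_inner p hS F hF h (top_fullyNormalized F) hφ (fun y => (F.le_of_mem hφ).2 y)
    · have hPlt : P < S := lt_of_le_of_ne hPS hPtop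
      have hcardPQ : Nat.card φ.range = Nat.card P :=
        (Nat.card_congr (MonoidHom.ofInjective (F.injective_of_mem hφ)).toEquiv).symm
      have hQlt : φ.range < S := by
        refine lt_of_le_of_ne hQS ?_
        intro heq
        have h1 : Nat.card P = Nat.card S := by rw [← hcardPQ, heq]
        have := Subgroup.eq_of_le_of_card_ge hPS (le_of_eq h1.symm)
        exact hPtop this
      -- fully normalized conjugate
      obtain ⟨R, hPR, hRn⟩ := fs_exists_fullyNormalized F hPS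
      obtain ⟨hRc, hRa⟩ := fs_sylow_axiom p hS F hF hRn
      have hRr := fs_extension_axiom p hS F hF hRc
      have hQR : F.IsConj φ.range R := fs_isConj_trans F (fs_isConj_symm F ⟨φ, hφ, rfl⟩) hPR
      obtain ⟨ψ₁, hψ₁, hψ₁N, hψ₁P⟩ := fs_exists_normalizer_map p hS F R P hRa hRr hPR
      obtain ⟨ψ₂, hψ₂, hψ₂N, hψ₂Q⟩ := fs_exists_normalizer_map p hS F R φ.range hRa hRr hQR
      -- induction hypothesis on the normalizers
      have hNP := fs_lt_normalizerIn p hS hPlt
      have hNQ := fs_lt_normalizerIn p hS hQlt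
      have hfinS : Finite S := inferInstance
      have hcardlt : ∀ {A B : Subgroup Ω}, A < B → B ≤ S → Nat.card A < Nat.card B := by
        intro A B hAB hBS
        have : Finite B := fs_finite_of_le hBS
        by_contra hcon
        push_neg at hcon
        exact hAB.ne (Subgroup.eq_of_le_of_card_ge hAB.le hcon)
      have hc1 : Nat.card P < Nat.card (normalizerIn S P) := hcardlt hNP (fs_normalizerIn_le S P)
      have hc2 : Nat.card φ.range < Nat.card (normalizerIn S φ.range) := hcardlt hNQ (fs_normalizerIn_le S _)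
      have hc3 : Nat.card (normalizerIn S P) ≤ Nat.card S := Subgroup.card_le_of_le (fs_normalizerIn_le S P)
      have hc4 : Nat.card (normalizerIn S φ.range) ≤ Nat.card S :=
        Subgroup.card_le_of_le (fs_normalizerIn_le S _)
      obtain ⟨g₁, hg₁S, Hg₁⟩ := ih (Nat.card S - Nat.card (normalizerIn S P)) (by omega) _ ψ₁ hψ₁ rfl
      obtain ⟨g₂, hg₂S, Hg₂⟩ := ih (Nat.card S - Nat.card (normalizerIn S φ.range)) (by omega) _ ψ₂ hψ₂ rfl
      have hPN : P ≤ normalizerIn S P := hNP.le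
      have hQN : φ.range ≤ normalizerIn S φ.range := hNQ.le
      have hRS : R ≤ S := hRn.1
      -- conjugation by g₁ maps P onto R
      have h1a : ∀ x ∈ P, g₁ * x * g₁⁻¹ ∈ R := by
        intro x hx
        rw [← hψ₁P]
        exact ⟨⟨x, hPN hx⟩, hx, Hg₁ _⟩
      have h1b : ∀ y ∈ R, g₁⁻¹ * y * g₁ ∈ P := by
        intro y hy
        rw [← hψ₁P] at hy
        obtain ⟨x, hx, rfl⟩ := hy
        have hx' : (x : Ω) ∈ P := hx
        rw [Hg₁]
        have : g₁⁻¹ * (g₁ * (x : Ω) * g₁⁻¹) * g₁ = x := by group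
        rw [this]; exact hx'
      have h2a : ∀ z ∈ φ.range, g₂ * z * g₂⁻¹ ∈ R := by
        intro z hz
        rw [← hψ₂Q]
        exact ⟨⟨z, hQN hz⟩, hz, Hg₂ _⟩
      -- the automorphism ρ of R
      have hc₁ : conjHom R g₁⁻¹ ∈ F.Hom R := F.conj_mem hRS (S.inv_mem hg₁S)
      have hv1 : ∀ y : R, conjHom R g₁⁻¹ y ∈ P := by
        intro y
        have := h1b y y.2
        simpa [conjHom] using this
      have hstep2 := F.comp_mem hc₁ hφ hv1
      have hv2 : ∀ y : R, (φ.comp ((conjHom R g₁⁻¹).codRestrict P hv1)) y ∈ φ.range := fun y => ⟨_, rfl⟩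
      have hc₂ : conjHom φ.range g₂ ∈ F.Hom φ.range := F.conj_mem hQS hg₂S
      have hρ := F.comp_mem hstep2 hc₂ hv2
      obtain ⟨ρ, hρdef⟩ : ∃ ρ : R →* Ω, ρ = (conjHom φ.range g₂).comp
          ((φ.comp ((conjHom R g₁⁻¹).codRestrict P hv1)).codRestrict φ.range hv2) := ⟨_, rfl⟩
      rw [← hρdef] at hρ
      have hρapp : ∀ y : R, ρ y = g₂ * φ ⟨g₁⁻¹ * y * g₁, h1b y y.2⟩ * g₂⁻¹ := by
        intro y
        rw [hρdef]
        simp only [MonoidHom.coe_comp, Function.comp_apply, conjHom, MulEquiv.coe_toMonoidHom,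
          MulAut.conj_apply, Subgroup.subtype_apply, MonoidHom.codRestrict_apply]
        congr 3
        apply Subtype.ext
        simp
      have hρval : ∀ y : R, ρ y ∈ R := by
        intro y
        rw [hρapp]
        exact h2a _ ⟨_, rfl⟩
      obtain ⟨s, hsS, Hs⟩ := aut_inner p hS F hF h hRn hρ hρval
      refine ⟨g₂⁻¹ * s * g₁, S.mul_mem (S.mul_mem (S.inv_mem hg₂S) hsS) hg₁S, ?_⟩
      intro x
      have h3 := Hs ⟨g₁ * x * g₁⁻¹, h1a x x.2⟩
      rw [hρapp] at h3
      have h4 : (⟨g₁⁻¹ * ((⟨g₁ * (x : Ω) * g₁⁻¹, h1a x x.2⟩ : R) : Ω) * g₁, h1b _ (h1a x x.2)⟩ : P) = x := by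
        apply Subtype.ext
        show g₁⁻¹ * (g₁ * (x : Ω) * g₁⁻¹) * g₁ = x
        group
      rw [h4] at h3
      -- h3 : g₂ * φ x * g₂⁻¹ = s * (g₁ * x * g₁⁻¹) * s⁻¹
      have h5 : φ x = g₂⁻¹ * (g₂ * φ x * g₂⁻¹) * g₂ := by group
      rw [h5, h3]
      show g₂⁻¹ * (s * (g₁ * (x : Ω) * g₁⁻¹) * s⁻¹) * g₂ = _
      group

theorem result {Ω : Type*} [Group Ω] {S : Subgroup Ω} [Finite S] (p : ℕ) [Fact p.Prime] (hS : IsPGroup p S) (F : Cfsg.FusionSystem S) (hF : F.IsSaturated p) (h : ∀ P : Subgroup Ω, P ≤ S → IsPGroup p (F.autGroup P)) : F = Cfsg.innerFusionSystem S := by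
  apply fs_ext
  intro P
  ext φ
  constructor
  · intro hφ
    obtain ⟨g, hg, Hg⟩ := all_inner p hS F hF h _ P φ hφ rfl
    exact ⟨(F.le_of_mem hφ).1, g, hg, Hg⟩
  · rintro ⟨hPS, g, hg, Hg⟩
    have : φ = conjHom P g := by
      ext x; rw [Hg]; rfl
    rw [this]
    exact F.conj_mem hPS hg

end Cfsg.Agent.S5083
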