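import Cfsg.Statements.S5096
import Mathlib
import Cfsg.Agent.Lib.Helper9.FusionSup

set_option autoImplicit false
open Cfsg Cfsg.FusionSystem Cfsg.Agent.Lib.Helper9

namespace Cfsg.Agent.S5096

variable {Ω : Type*} [Group Ω] {S : Subgroup Ω}

theorem conj_mem_aux (F : Cfsg.FusionSystem S) (Q : Subgroup Ω) (hQ : Q ≤ S) {P : Subgroup Ω} {g : Ω}
    (hP : P ≤ normalizerIn S Q) (hg : g ∈ normalizerIn S Q) : conjHom P g ∈ F.normalizerHom Q P := by
  have hPS : P ≤ S := hP.trans inf_le_left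
  refine ⟨F.conj_mem hPS hg.1, hP, ?_, conjHom (P ⊔ Q) g, F.conj_mem (sup_le hPS hQ) hg.1, fun x => rfl, ?_⟩
  · intro x
    show g * (x : Ω) * g⁻¹ ∈ normalizerIn S Q
    exact (normalizerIn S Q).mul_mem ((normalizerIn S Q).mul_mem hg (hP x.2)) ((normalizerIn S Q).inv_mem hg)
  · have hgN : g ∈ Subgroup.normalizer (Q : Set Ω) := hg.2
    ext y
    constructor
    · rintro ⟨x, hx, rfl⟩
      have hxQ : (x : Ω) ∈ Q := hx
      exact (Subgroup.mem_normalizer_iff.mp hgN x).mp hxQ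
    · intro hy
      have hy' : g⁻¹ * y * g ∈ Q := (Subgroup.mem_normalizer_iff''.mp hgN y).mp hy
      refine ⟨⟨g⁻¹ * y * g, (le_sup_right : Q ≤ P ⊔ Q) hy'⟩, hy', ?_⟩
      show g * (g⁻¹ * y * g) * g⁻¹ = y
      group

theorem comp_mem_aux (F : Cfsg.FusionSystem S) (Q : Subgroup Ω) {P R : Subgroup Ω} {φ : P →* Ω} {ψ : R →* Ω}
    (hφ : φ ∈ F.normalizerHom Q P) (hψ : ψ ∈ F.normalizerHom Q R) (h : ∀ x : P, φ x ∈ R) :
    ψ.comp (φ.codRestrict R h) ∈ F.normalizerHom Q P := by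
  obtain ⟨hφ, hPN, hφN, φ', hφ', hφ'φ, hφ'Q⟩ := hφ
  obtain ⟨hψ, hRN, hψN, ψ', hψ', hψ'ψ, hψ'Q⟩ := hψ
  have hQmem : ∀ q : Q, φ' (Subgroup.inclusion le_sup_right q) ∈ Q := by
    intro q
    have h1 : φ' (Subgroup.inclusion le_sup_right q) ∈ (Q.subgroupOf (P ⊔ Q)).map φ' :=
      ⟨_, by simp [Subgroup.mem_subgroupOf], rfl⟩
    rw [hφ'Q] at h1
    exact h1
  have h' : ∀ x : ↥(P ⊔ Q), φ' x ∈ R ⊔ Q := by
    apply sup_forall_mem
    · intro x
      rw [hφ'φ]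
      exact (le_sup_left : R ≤ R ⊔ Q) (h x)
    · intro q
      exact (le_sup_right : Q ≤ R ⊔ Q) (hQmem q)
  refine ⟨F.comp_mem hφ hψ h, hPN, fun x => hψN _, ψ'.comp (φ'.codRestrict (R ⊔ Q) h'),
    F.comp_mem hφ' hψ' h', ?_, ?_⟩
  · intro x
    show ψ' ⟨φ' (Subgroup.inclusion le_sup_left x), _⟩ = ψ ⟨φ x, h x⟩
    rw [← hψ'ψ]
    congr 1
    apply Subtype.ext
    exact hφ'φ x
  · ext y
    constructor
    · rintro ⟨x, hx, rfl⟩
      have hxQ : (x : Ω) ∈ Q := hx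
      have h1 : φ' x ∈ Q := hQmem ⟨x, hxQ⟩
      have h2 : ψ' ⟨φ' x, h' x⟩ ∈ (Q.subgroupOf (R ⊔ Q)).map ψ' := ⟨⟨φ' x, h' x⟩, h1, rfl⟩
      rw [hψ'Q] at h2
      exact h2
    · intro hy
      rw [← hψ'Q] at hy
      obtain ⟨z, hz, rfl⟩ := hy
      have hzQ : (z : Ω) ∈ Q := hz
      have hzQ' : (z : Ω) ∈ (Q.subgroupOf (P ⊔ Q)).map φ' := by rw [hφ'Q]; exact hzQ
      obtain ⟨w, hw, hwz⟩ := hzQ'
      refine ⟨w, hw, ?_⟩
      show ψ' ⟨φ' w, h' w⟩ = ψ' z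
      congr 1
      exact Subtype.ext hwz

theorem inv_mem_aux (F : Cfsg.FusionSystem S) (Q : Subgroup Ω) {P : Subgroup Ω} {φ : P →* Ω}
    (hφ : φ ∈ F.normalizerHom Q P) :
    ∃ ψ ∈ F.normalizerHom Q φ.range, ∀ x : P, ψ ⟨φ x, ⟨x, rfl⟩⟩ = (x : Ω) := by
  obtain ⟨hφ, hPN, hφN, φ', hφ', hφ'φ, hφ'Q⟩ := hφ
  obtain ⟨χ, hχ, hχφ'⟩ := F.inv_mem hφ'
  have hrange : φ.range ⊔ Q ≤ φ'.range := by
    rw [sup_range_eq φ', sup_map_left_eq_range φ' φ hφ'φ, hφ'Q]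
  have hχ' : χ.comp (Subgroup.inclusion hrange) ∈ F.Hom (φ.range ⊔ Q) := fs_restrict_mem F hχ hrange
  have hψ : (χ.comp (Subgroup.inclusion hrange)).comp (Subgroup.inclusion le_sup_left) ∈ F.Hom φ.range :=
    fs_restrict_mem F hχ' le_sup_left
  have hval : ∀ x : P, (χ.comp (Subgroup.inclusion hrange)).comp (Subgroup.inclusion le_sup_left)
      ⟨φ x, ⟨x, rfl⟩⟩ = (x : Ω) := by
    intro x
    have h0 := hχφ' (Subgroup.inclusion le_sup_left x)
    have h1 : ((Subgroup.inclusion (le_sup_left : P ≤ P ⊔ Q) x : ↥(P ⊔ Q)) : Ω) = x := rfl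
    rw [h1] at h0
    rw [← h0]
    show χ _ = χ _
    congr 1
    apply Subtype.ext
    exact (hφ'φ x).symm
  refine ⟨_, ⟨hψ, ?_, ?_, χ.comp (Subgroup.inclusion hrange), hχ', fun x => rfl, ?_⟩, hval⟩
  · rintro _ ⟨x, rfl⟩
    exact hφN x
  · rintro ⟨_, x, rfl⟩
    rw [hval x]
    exact hPN x.2
  · ext y
    constructor
    · rintro ⟨z, hz, rfl⟩
      have hzQ : (z : Ω) ∈ Q := hz
      have hzQ' : (z : Ω) ∈ (Q.subgroupOf (P ⊔ Q)).map φ' := by rw [hφ'Q]; exact hzQ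
      obtain ⟨w, hw, hwz⟩ := hzQ'
      have hwQ : (w : Ω) ∈ Q := hw
      have h1 : χ.comp (Subgroup.inclusion hrange) z = χ ⟨φ' w, ⟨w, rfl⟩⟩ := by
        show χ _ = χ _
        congr 1
        apply Subtype.ext
        exact hwz.symm
      rw [h1, hχφ']
      exact hwQ
    · intro hy
      have hz : φ' (Subgroup.inclusion le_sup_right ⟨y, hy⟩) ∈ Q := by
        have h1 : φ' (Subgroup.inclusion le_sup_right ⟨y, hy⟩) ∈ (Q.subgroupOf (P ⊔ Q)).map φ' :=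
          ⟨_, by simpa [Subgroup.mem_subgroupOf] using hy, rfl⟩
        rw [hφ'Q] at h1
        exact h1
      refine ⟨⟨φ' (Subgroup.inclusion le_sup_right ⟨y, hy⟩), (le_sup_right : Q ≤ φ.range ⊔ Q) hz⟩, hz, ?_⟩
      have := hχφ' (Subgroup.inclusion le_sup_right ⟨y, hy⟩)
      exact this

/-- For any fusion system over a subgroup S and any Q ≤ S, the maps of the normalizer system N_F(Q) — those maps between subgroups of N_S(Q) that extend to the subgroup generated with Q carrying Q onto Q — form a fusion system over N_S(Q). -/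
theorem result {Ω : Type*} [Group Ω] {S : Subgroup Ω} (F : Cfsg.FusionSystem S) (Q : Subgroup Ω) (hQ : Q ≤ S) : ∃ E : Cfsg.FusionSystem (Cfsg.FusionSystem.normalizerIn S Q), F.IsNormalizerSystem Q E := by
  refine ⟨{ Hom := fun P => F.normalizerHom Q P
            le_of_mem := ?_
            injective_of_mem := ?_
            conj_mem := ?_
            comp_mem := ?_
            inv_mem := ?_ }, fun P => rfl⟩
  · rintro P φ ⟨-, hPN, hφN, -⟩
    exact ⟨hPN, hφN⟩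
  · rintro P φ ⟨hφ, -⟩
    exact F.injective_of_mem hφ
  · intro P g hP hg
    exact conj_mem_aux F Q hQ hP hg
  · intro P R φ ψ hφ hψ h
    exact comp_mem_aux F Q hφ hψ h
  · intro P φ hφ
    exact inv_mem_aux F Q hφ

end Cfsg.Agent.S5096
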