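import Cfsg.Statements.S5080
import Mathlib
import Cfsg.Agent.Lib.Helper9.PCore
import Cfsg.Agent.Lib.Helper9.FusionBasic

set_option autoImplicit false
open Cfsg Cfsg.FusionSystem Cfsg.Agent.Lib.Helper9

namespace Cfsg.Agent.S5080

/-- A finite group with a strongly `p`-embedded subgroup has trivial `O_p`. -/
theorem pCore_eq_bot_of_stronglyPEmbedded {X : Type*} [Group X] [Finite X] (p : ℕ) [Fact p.Prime]
    (E : Subgroup X) (hE : IsStronglyPEmbedded p E) : Cfsg.pCore p X = ⊥ := by
  obtain ⟨-, hEtop, T, hT⟩ := hE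
  by_contra hO
  apply hEtop
  rw [eq_top_iff]
  refine le_trans ?_ hT
  have hOp : IsPGroup p (Cfsg.pCore p X) := pCore_isPGroup' p
  have hOn : (Cfsg.pCore p X).Normal := pCore_normal' p
  have hOT : Cfsg.pCore p X ≤ T := pCore_le_sylow T
  have hrank : ¬ PRankLE p (1 - 1) (Cfsg.pCore p X) := by
    intro h
    haveI : Nontrivial (Cfsg.pCore p X) := (Subgroup.nontrivial_iff_ne_bot _).mpr hO
    obtain ⟨A, hA1, hA2, hA3⟩ := exists_elementary_of_ne_bot hOp
    have := h A hA1 hA2
    simp at this
    omega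
  have hnorm : Subgroup.normalizer ((Cfsg.pCore p X : Subgroup X) : Set X) = ⊤ :=
    Subgroup.normalizer_eq_top _
  rw [← hnorm]
  unfold kGeneratedCore
  exact le_iSup (fun Q : {Q : Subgroup X // Q ≤ (T : Subgroup X) ∧ ¬ PRankLE p (1 - 1) Q} =>
    Subgroup.normalizer ((Q : Subgroup X) : Set X)) ⟨Cfsg.pCore p X, hOT, hrank⟩

/-- In a saturated fusion system over a finite p-group, every essential subgroup is radical (it is centric and fully normalized by definition, so it is centric-radical and fully normalized). -/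
theorem result {Ω : Type*} [Group Ω] {S : Subgroup Ω} [Finite S] (p : ℕ) [Fact p.Prime] (hS : IsPGroup p S) (F : Cfsg.FusionSystem S) (hF : F.IsSaturated p) (P : Subgroup Ω) (hP : F.IsEssential p P) : F.IsRadical p P := by
  obtain ⟨⟨hPS, -⟩, -, hI, E, hE⟩ := hP
  refine ⟨hPS, ?_⟩
  haveI : Finite P := Finite.of_injective (Subgroup.inclusion hPS) (Subgroup.inclusion_injective hPS)
  have hPp : IsPGroup p P := hS.to_le hPS
  -- Step 1
  have h1 : Cfsg.pCore p (F.autGroup P ⧸ (Inn P).subgroupOf (F.autGroup P)) = ⊥ :=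
    pCore_eq_bot_of_stronglyPEmbedded p E hE
  -- Step 2
  have h2 : Cfsg.pCore p (F.autGroup P) ≤ (Inn P).subgroupOf (F.autGroup P) := by
    have hmapN : ((Cfsg.pCore p (F.autGroup P)).map
        (QuotientGroup.mk' ((Inn P).subgroupOf (F.autGroup P)))).Normal :=
      (pCore_normal' p).map _ (QuotientGroup.mk'_surjective _)
    have hmapP : IsPGroup p ((Cfsg.pCore p (F.autGroup P)).map
        (QuotientGroup.mk' ((Inn P).subgroupOf (F.autGroup P)))) := (pCore_isPGroup' p).map _
    have hle := le_pCore hmapN hmapP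
    rw [h1, le_bot_iff] at hle
    intro x hx
    have : QuotientGroup.mk' ((Inn P).subgroupOf (F.autGroup P)) x ∈
        (Cfsg.pCore p (F.autGroup P)).map (QuotientGroup.mk' ((Inn P).subgroupOf (F.autGroup P))) :=
      ⟨x, hx, rfl⟩
    rw [hle, Subgroup.mem_bot] at this
    exact (QuotientGroup.eq_one_iff x).mp this
  -- Step 3
  have hInnP : IsPGroup p (Inn P) :=
    hPp.of_surjective (MulAut.conj : P →* MulAut P).rangeRestrict
      (MulAut.conj : P →* MulAut P).rangeRestrict_surjective
  have h3 : (Inn P).subgroupOf (F.autGroup P) ≤ Cfsg.pCore p (F.autGroup P) :=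
    le_pCore hI hInnP.comap_subtype
  have h4 : Cfsg.pCore p (F.autGroup P) = (Inn P).subgroupOf (F.autGroup P) := le_antisymm h2 h3
  -- Step 4
  have hInnle : Inn P ≤ F.autGroup P := by
    rintro _ ⟨g, rfl⟩
    apply Subgroup.subset_closure
    show P.subtype.comp (MulAut.conj g).toMonoidHom ∈ F.Hom P
    have : P.subtype.comp (MulAut.conj g).toMonoidHom = conjHom P (g : Ω) := by
      ext x
      simp [conjHom, MulAut.conj_apply]
    rw [this]
    exact F.conj_mem hPS (hPS g.2)
  rw [h4, Subgroup.subgroupOf_map_subtype, inf_eq_left.mpr hInnle]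

end Cfsg.Agent.S5080
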