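import Cfsg.Statements.S5085
import Mathlib
import Cfsg.Agent.Lib.Helper9.FusionBasic

set_option autoImplicit false
open Cfsg Cfsg.FusionSystem Cfsg.Agent.Lib.Helper9

namespace Cfsg.Agent.S5085

/-- In any fusion system, a characteristic subgroup of a subgroup that is normal in the system is itself normal in the system. -/
theorem result {Ω : Type*} [Group Ω] {S : Subgroup Ω} (F : Cfsg.FusionSystem S) (Q U : Subgroup Ω) (hQ : F.IsNormal Q) (hUQ : U ≤ Q) (hU : (U.subgroupOf Q).Characteristic) : F.IsNormal U := by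
  obtain ⟨hQS, hQn⟩ := hQ
  refine ⟨hUQ.trans hQS, ?_⟩
  intro P φ hφ
  obtain ⟨ψ, hψ, hψφ, hψQ⟩ := hQn P φ hφ
  have hle : P ⊔ U ≤ P ⊔ Q := sup_le_sup_left hUQ P
  refine ⟨ψ.comp (Subgroup.inclusion hle), fs_restrict_mem F hψ hle, ?_, ?_⟩
  · intro x
    rw [← hψφ x]
    rfl
  · -- the automorphism of Q induced by ψ
    have hQle : Q ≤ P ⊔ Q := le_sup_right
    have hmemQ : ∀ q : Q, ψ (Subgroup.inclusion hQle q) ∈ Q := by
      intro q
      have h : ψ (Subgroup.inclusion hQle q) ∈ (Q.subgroupOf (P ⊔ Q)).map ψ :=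
        ⟨Subgroup.inclusion hQle q, by simp [Subgroup.mem_subgroupOf], rfl⟩
      rw [hψQ] at h
      exact h
    let σ₀ : Q →* Q := (ψ.comp (Subgroup.inclusion hQle)).codRestrict Q hmemQ
    have hσinj : Function.Injective σ₀ := by
      intro a b hab
      have h1 : ψ (Subgroup.inclusion hQle a) = ψ (Subgroup.inclusion hQle b) :=
        congrArg Subtype.val hab
      have h2 := F.injective_of_mem hψ h1
      exact Subgroup.inclusion_injective hQle h2
    have hσsurj : Function.Surjective σ₀ := by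
      intro q
      have : (q : Ω) ∈ (Q.subgroupOf (P ⊔ Q)).map ψ := by rw [hψQ]; exact q.2
      obtain ⟨y, hy, hyq⟩ := this
      refine ⟨⟨y, hy⟩, ?_⟩
      apply Subtype.ext
      show ψ (Subgroup.inclusion hQle ⟨y, hy⟩) = q
      rw [← hyq]
      congr 1
    let σ : Q ≃* Q := MulEquiv.ofBijective σ₀ ⟨hσinj, hσsurj⟩
    have hchar := hU.fixed σ
    have hchar' : ∀ q : Q, σ q ∈ U.subgroupOf Q ↔ q ∈ U.subgroupOf Q := by
      intro q
      conv_rhs => rw [← hchar]
      rfl
    ext y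
    constructor
    · rintro ⟨x, hx, rfl⟩
      have hxU : (x : Ω) ∈ U := hx
      have := (hchar' ⟨x, hUQ hxU⟩).mpr hxU
      exact this
    · intro hy
      obtain ⟨q, hq⟩ := hσsurj ⟨y, hUQ hy⟩
      have hqU : q ∈ U.subgroupOf Q := by
        rw [← hchar' q]
        show (σ₀ q : Ω) ∈ U
        rw [hq]; exact hy
      have hqU' : (q : Ω) ∈ U := hqU
      refine ⟨⟨q, (le_sup_right : U ≤ P ⊔ U) hqU'⟩, hqU', ?_⟩
      have := congrArg Subtype.val hq
      exact this

end Cfsg.Agent.S5085
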