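import Cfsg.Statements.S5145
import Mathlib
import Cfsg.Agent.Lib.Helper9.FusionFinite

set_option autoImplicit false
open Cfsg Cfsg.FusionSystem Cfsg.Agent.Lib.Helper9

namespace Cfsg.Agent.S5145

variable {Ω : Type*} [Group Ω] {S : Subgroup Ω}

theorem isNormal_bot (F : Cfsg.FusionSystem S) : F.IsNormal ⊥ := by
  refine ⟨bot_le, ?_⟩
  intro P φ hφ
  have hle : P ⊔ ⊥ ≤ P := by simp
  refine ⟨φ.comp (Subgroup.inclusion hle), fs_restrict_mem F hφ hle, ?_, ?_⟩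
  · intro x
    show φ _ = φ x
    congr 1
  · rw [Subgroup.bot_subgroupOf, Subgroup.map_bot]

theorem isNormal_sup (F : Cfsg.FusionSystem S) {Q₁ Q₂ : Subgroup Ω} (h₁ : F.IsNormal Q₁) (h₂ : F.IsNormal Q₂) :
    F.IsNormal (Q₁ ⊔ Q₂) := by
  refine ⟨sup_le h₁.1 h₂.1, ?_⟩
  intro P φ hφ
  obtain ⟨ψ₁, hψ₁, hψ₁φ, hψ₁Q⟩ := h₁.2 P φ hφ
  obtain ⟨ψ₂, hψ₂, hψ₂ψ₁, hψ₂Q⟩ := h₂.2 (P ⊔ Q₁) ψ₁ hψ₁
  have hle : P ⊔ (Q₁ ⊔ Q₂) ≤ (P ⊔ Q₁) ⊔ Q₂ := le_of_eq (sup_assoc P Q₁ Q₂).symm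
  refine ⟨ψ₂.comp (Subgroup.inclusion hle), fs_restrict_mem F hψ₂ hle, ?_, ?_⟩
  · intro x
    rw [← hψ₁φ x, ← hψ₂ψ₁]
    rfl
  · have hQ₁le : Q₁ ≤ P ⊔ (Q₁ ⊔ Q₂) := le_sup_left.trans le_sup_right
    have hQ₂le : Q₂ ≤ P ⊔ (Q₁ ⊔ Q₂) := le_sup_right.trans le_sup_right
    rw [Subgroup.subgroupOf_sup hQ₁le hQ₂le, Subgroup.map_sup,
      map_subgroupOf_comp_inclusion hle hQ₁le, map_subgroupOf_comp_inclusion hle hQ₂le, hψ₂Q]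
    congr 1
    have hψ₂ψ₁' : ψ₂.comp (Subgroup.inclusion (le_sup_left : P ⊔ Q₁ ≤ (P ⊔ Q₁) ⊔ Q₂)) = ψ₁ := by
      ext x; exact hψ₂ψ₁ x
    rw [← map_subgroupOf_comp_inclusion (le_sup_left : P ⊔ Q₁ ≤ (P ⊔ Q₁) ⊔ Q₂) (le_sup_right : Q₁ ≤ P ⊔ Q₁),
      hψ₂ψ₁', hψ₁Q]

/-- For a fusion system over a finite subgroup S, the join of all subgroups normal in the system is itself normal in the system, hence its largest normal subgroup. -/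
theorem result {Ω : Type*} [Group Ω] {S : Subgroup Ω} [Finite S] (F : Cfsg.FusionSystem S) : F.IsNormal F.core := by
  have := sSup_mem_of_finite_le S {Q : Subgroup Ω | F.IsNormal Q} (fun Q hQ => hQ.1) (isNormal_bot F)
    (fun Q₁ h₁ Q₂ h₂ => isNormal_sup F h₁ h₂)
  exact this

end Cfsg.Agent.S5145
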