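import Mathlib
import Cfsg.Statements.S5106
import Cfsg.Agent.Lib.Helper9.FusionNormal5

set_option autoImplicit false
open Cfsg

namespace Cfsg.Agent.S5106

open Cfsg.Agent.Lib.Helper9
open scoped commutatorElement

/-- In a saturated fusion system over a finite p-group S, a subgroup R ≤ S is normal in the system if and only if every map of the system whose source is a subgroup of R is the restriction of an element of Aut_F(R). -/
theorem result {Ω : Type*} [Group Ω] {S : Subgroup Ω} [Finite S] (p : ℕ) [Fact p.Prime] (hS : IsPGroup p S) (F : Cfsg.FusionSystem S) (hF : F.IsSaturated p) (R : Subgroup Ω) (hRS : R ≤ S) : F.IsNormal R ↔ ∀ (P : Subgroup Ω) (hPR : P ≤ R) (φ : P →* Ω), φ ∈ F.Hom P → ∃ α ∈ F.autGroup R, ∀ x : P, ((α (Subgroup.inclusion hPR x) : R) : Ω) = φ x := by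
  constructor
  · intro hR P hPR φ hφ
    obtain ⟨ψ, hψ, hψφ, hψR⟩ := hR.2 P φ hφ
    have hρ := fs_restrict_mem F hψ (le_sup_right : R ≤ P ⊔ R)
    have hval : ∀ y : R, (ψ.comp (Subgroup.inclusion (le_sup_right : R ≤ P ⊔ R))) y ∈ R := by
      intro y
      have h1 : ψ (Subgroup.inclusion le_sup_right y) ∈ (R.subgroupOf (P ⊔ R)).map ψ :=
        ⟨_, by simp [Subgroup.mem_subgroupOf], rfl⟩
      rw [hψR] at h1
      exact h1
    obtain ⟨α, hα, Hα⟩ := fs_hom_to_aut F hρ hval
    refine ⟨α, hα, fun x => ?_⟩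
    rw [Hα, ← hψφ x]
    rfl
  · intro H
    haveI : Finite R := fs_finite_of_le hRS
    have hRp : IsPGroup p R := hS.to_le hRS
    haveI : Group.IsNilpotent R := hRp.isNilpotent
    obtain ⟨n, hn⟩ := (Group.IsNilpotent.nilpotent' : ∃ n : ℕ, Subgroup.upperCentralSeries R n = ⊤)
    -- characteristic subgroups of `R` are strongly closed
    have hchar : ∀ Z : Subgroup R, Z.Characteristic → F.StronglyClosed (Z.map R.subtype) := by
      intro Z hZ
      refine ⟨(Subgroup.map_subtype_le Z).trans hRS, ?_⟩
      intro P hP φ hφ x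
      obtain ⟨α, -, Hα⟩ := H P (hP.trans (Subgroup.map_subtype_le Z)) φ hφ
      rw [← Hα x]
      obtain ⟨z, hz, hzx⟩ := hP x.2
      have hzeq : Subgroup.inclusion (hP.trans (Subgroup.map_subtype_le Z)) x = z := Subtype.ext hzx.symm
      rw [hzeq]
      refine ⟨α z, ?_, rfl⟩
      have h1 := hZ.fixed α
      have h2 : z ∈ Z.comap α.toMonoidHom := by rw [h1]; exact hz
      exact h2
    refine fs_isNormal_of_series p hS F hF R n
      (fun i => (Subgroup.upperCentralSeries R i).map R.subtype) ?_ ?_ ?_ ?_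
    · show (Subgroup.upperCentralSeries R 0).map R.subtype = ⊥
      rw [Subgroup.upperCentralSeries_zero, Subgroup.map_bot]
    · show (Subgroup.upperCentralSeries R n).map R.subtype = R
      rw [hn, ← MonoidHom.range_eq_map, Subgroup.range_subtype]
    · intro i j hij
      exact Subgroup.map_mono (Subgroup.upperCentralSeries_mono R hij)
    · intro i
      constructor
      · exact hchar _ inferInstance
      · show ⁅R, (Subgroup.upperCentralSeries R ((i.succ : Fin (n + 1)) : ℕ)).map R.subtype⁆ ≤
          (Subgroup.upperCentralSeries R ((Fin.castSucc i : Fin (n + 1)) : ℕ)).map R.subtype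
        rw [Subgroup.commutator_le]
        intro q hq z hz
        obtain ⟨z', hz', rfl⟩ := hz
        have h1 : ((i.succ : Fin (n + 1)) : ℕ) = ((Fin.castSucc i : Fin (n + 1)) : ℕ) + 1 := by simp
        rw [h1] at hz'
        have hz'' : z' ∈ Subgroup.upperCentralSeries R (((Fin.castSucc i : Fin (n + 1)) : ℕ) + 1) := hz'
        rw [Subgroup.mem_upperCentralSeries_succ_iff] at hz''
        have h2 := hz'' ⟨q, hq⟩
        refine ⟨⁅(⟨q, hq⟩ : R), z'⁆, ?_, rfl⟩
        rw [← commutatorElement_inv]
        exact Subgroup.inv_mem _ h2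

end Cfsg.Agent.S5106
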