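import Cfsg.Statements.S5122
import Mathlib
import Cfsg.Agent.Lib.Helper9.GroupFusion3

set_option autoImplicit false
open Cfsg Cfsg.FusionSystem Cfsg.Agent.Lib.Helper9

namespace Cfsg.Agent.S5122

variable {G : Type*} [Group G] [Finite G] {p : ℕ} [Fact p.Prime]

theorem partA (S : Sylow p G) (P : Subgroup G) (hP : P ≤ S) :
    ∃ g : G, P.map (MulAut.conj g).toMonoidHom ≤ S ∧
      Nat.card (normalizerIn (S : Subgroup G) (P.map (MulAut.conj g).toMonoidHom)) =
        p ^ (Nat.card (Subgroup.normalizer ((P.map (MulAut.conj g).toMonoidHom : Subgroup G) : Set G))).factorization p := by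
  have hPp : IsPGroup p P := S.isPGroup'.to_le hP
  obtain ⟨T, hPT, hTK, hTp, hTcard⟩ := exists_isPGroup_card_eq hPp (Subgroup.le_normalizer : P ≤ Subgroup.normalizer (P : Set G))
  obtain ⟨g, hg⟩ := exists_map_conj_le_sylow S hTp
  refine ⟨g, (Subgroup.map_mono hPT).trans hg, ?_⟩
  have h2 : T.map (MulAut.conj g).toMonoidHom ≤
      normalizerIn (S : Subgroup G) (P.map (MulAut.conj g).toMonoidHom) := by
    refine le_inf hg ?_
    rw [normalizer_map_conj]
    exact Subgroup.map_mono hTK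
  have h3 : Nat.card T ≤ Nat.card (normalizerIn (S : Subgroup G) (P.map (MulAut.conj g).toMonoidHom)) := by
    rw [← card_map_conj T g]
    exact Subgroup.card_le_of_le h2
  have hNp : IsPGroup p (normalizerIn (S : Subgroup G) (P.map (MulAut.conj g).toMonoidHom)) :=
    S.isPGroup'.to_le inf_le_left
  have h4 := card_le_of_isPGroup_of_le hNp
    (inf_le_right : normalizerIn (S : Subgroup G) (P.map (MulAut.conj g).toMonoidHom) ≤ _)
  have h5 : Nat.card (Subgroup.normalizer ((P.map (MulAut.conj g).toMonoidHom : Subgroup G) : Set G)) =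
      Nat.card (Subgroup.normalizer (P : Set G)) := by
    rw [normalizer_map_conj, card_map_conj]
  rw [h5] at h4 ⊢
  omega

theorem partB1 (S : Sylow p G) (Q : Subgroup G)
    (hcard : Nat.card (normalizerIn (S : Subgroup G) Q) = p ^ (Nat.card (Subgroup.normalizer (Q : Set G))).factorization p) :
    Nat.card (centralizerIn (S : Subgroup G) Q) = p ^ (Nat.card (Subgroup.centralizer (Q : Set G))).factorization p := by
  have hCp : IsPGroup p (centralizerIn (S : Subgroup G) Q) := S.isPGroup'.to_le inf_le_left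
  obtain ⟨T, hCT, hTK, hTp, hTcard⟩ := exists_isPGroup_card_eq hCp
    (inf_le_right : centralizerIn (S : Subgroup G) Q ≤ Subgroup.centralizer (Q : Set G))
  obtain ⟨n, hn, hnT⟩ := exists_conj_le_of_card_eq
    (inf_le_right : normalizerIn (S : Subgroup G) Q ≤ Subgroup.normalizer (Q : Set G)) hcard hTp
    (hTK.trans (Subgroup.centralizer_le_normalizer _))
  have h1 : T.map (MulAut.conj n).toMonoidHom ≤ centralizerIn (S : Subgroup G) Q := by
    refine le_inf (hnT.trans inf_le_left) ?_
    have h2 : (Subgroup.centralizer (Q : Set G)).map (MulAut.conj n).toMonoidHom = Subgroup.centralizer (Q : Set G) :=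
      Subgroup.mem_normalizer_iff_map_conj_eq.mp (normalizer_le_normalizer_centralizer Q hn)
    rw [← h2]
    exact Subgroup.map_mono hTK
  have h3 : Nat.card T ≤ Nat.card (centralizerIn (S : Subgroup G) Q) := by
    rw [← card_map_conj T n]
    exact Subgroup.card_le_of_le h1
  have h4 : Nat.card (centralizerIn (S : Subgroup G) Q) ≤ Nat.card T := Subgroup.card_le_of_le hCT
  omega

theorem partB2 (S : Sylow p G) (Q : Subgroup G)
    (hN : ∃ R : Sylow p ↥(Subgroup.normalizer (Q : Set G)), (R : Subgroup ↥(Subgroup.normalizer (Q : Set G))) =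
      (normalizerIn (S : Subgroup G) Q).subgroupOf (Subgroup.normalizer (Q : Set G))) :
    ∃ R : Sylow p ↥(Cfsg.autInducedBy ⊤ Q), (R : Subgroup ↥(Cfsg.autInducedBy ⊤ Q)) =
      (Cfsg.autInducedBy (S : Subgroup G) Q).subgroupOf (Cfsg.autInducedBy ⊤ Q) := by
  obtain ⟨R, hR⟩ := hN
  have hmem : ∀ n : Subgroup.normalizer (Q : Set G), Q.normalizerMonoidHom n ∈ Cfsg.autInducedBy ⊤ Q := by
    intro n
    rw [autInducedBy_eq_map]
    exact ⟨n, Subgroup.mem_top _, rfl⟩
  have hsurj : Function.Surjective (Q.normalizerMonoidHom.codRestrict (Cfsg.autInducedBy ⊤ Q) hmem) := by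
    rintro ⟨α, hα⟩
    rw [autInducedBy_eq_map] at hα
    obtain ⟨n, -, rfl⟩ := hα
    exact ⟨n, rfl⟩
  refine ⟨R.mapSurjective hsurj, ?_⟩
  rw [Sylow.coe_mapSurjective, hR]
  ext α
  constructor
  · rintro ⟨n, hn, rfl⟩
    have hn' : (n : G) ∈ normalizerIn (S : Subgroup G) Q := hn
    show Q.normalizerMonoidHom n ∈ Cfsg.autInducedBy (S : Subgroup G) Q
    rw [autInducedBy_eq_map (S : Subgroup G) Q]
    exact ⟨n, hn'.1, rfl⟩
  · intro hα
    have hα' : (α : MulAut Q) ∈ Cfsg.autInducedBy (S : Subgroup G) Q := hα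
    rw [autInducedBy_eq_map (S : Subgroup G) Q] at hα'
    obtain ⟨n, hn, hnα⟩ := hα'
    have hn' : (n : G) ∈ (S : Subgroup G) := hn
    exact ⟨n, (⟨hn', n.2⟩ : (n : G) ∈ normalizerIn (S : Subgroup G) Q), Subtype.ext hnα⟩

/-- Let G be a finite group with Sylow p-subgroup S. Every subgroup P of S has a G-conjugate Q ≤ S such that N_S(Q) is a Sylow p-subgroup of N_G(Q); and for any Q ≤ S with that property, C_S(Q) is a Sylow p-subgroup of C_G(Q) and the automorphisms of Q induced by N_S(Q) form a Sylow p-subgroup of those induced by N_G(Q). -/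
theorem result {G : Type*} [Group G] [Finite G] (p : ℕ) [Fact p.Prime] (S : Sylow p G) : (∀ P : Subgroup G, P ≤ S → ∃ g : G, P.map (MulAut.conj g).toMonoidHom ≤ S ∧ (∃ R : Sylow p ↥(Subgroup.normalizer ((P.map (MulAut.conj g).toMonoidHom : Subgroup G) : Set G)), (R : Subgroup ↥(Subgroup.normalizer ((P.map (MulAut.conj g).toMonoidHom : Subgroup G) : Set G))) = (Cfsg.FusionSystem.normalizerIn (S : Subgroup G) (P.map (MulAut.conj g).toMonoidHom)).subgroupOf (Subgroup.normalizer ((P.map (MulAut.conj g).toMonoidHom : Subgroup G) : Set G)))) ∧ ∀ Q : Subgroup G, Q ≤ S → (∃ R : Sylow p ↥(Subgroup.normalizer (Q : Set G)), (R : Subgroup ↥(Subgroup.normalizer (Q : Set G))) = (Cfsg.FusionSystem.normalizerIn (S : Subgroup G) Q).subgroupOf (Subgroup.normalizer (Q : Set G))) → (∃ R : Sylow p ↥(Subgroup.centralizer (Q : Set G)), (R : Subgroup ↥(Subgroup.centralizer (Q : Set G))) = (Cfsg.FusionSystem.centralizerIn (S : Subgroup G) Q).subgroupOf (Subgroup.centralizer (Q : Set G))) ∧ (∃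 R : Sylow p ↥(Cfsg.autInducedBy ⊤ Q), (R : Subgroup ↥(Cfsg.autInducedBy ⊤ Q)) = (Cfsg.autInducedBy (S : Subgroup G) Q).subgroupOf (Cfsg.autInducedBy ⊤ Q)) := by
  refine ⟨?_, ?_⟩
  · intro P hP
    obtain ⟨g, hgS, hcard⟩ := partA S P hP
    exact ⟨g, hgS, (exists_sylow_eq_subgroupOf_iff
      (inf_le_right : normalizerIn (S : Subgroup G) (P.map (MulAut.conj g).toMonoidHom) ≤ _)).mpr hcard⟩
  · intro Q hQ hN
    refine ⟨?_, partB2 S Q hN⟩
    apply (exists_sylow_eq_subgroupOf_iff
      (inf_le_right : centralizerIn (S : Subgroup G) Q ≤ Subgroup.centralizer (Q : Set G))).mpr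
    exact partB1 S Q ((exists_sylow_eq_subgroupOf_iff
      (inf_le_right : normalizerIn (S : Subgroup G) Q ≤ Subgroup.normalizer (Q : Set G))).mp hN)

end Cfsg.Agent.S5122
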