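import Cfsg.Statements.S5123
import Mathlib
import Cfsg.Agent.Lib.Helper9.GroupFusion2

set_option autoImplicit false
open Cfsg Cfsg.FusionSystem Cfsg.Agent.Lib.Helper9

namespace Cfsg.Agent.S5123

/-- Let G be a finite group with Sylow p-subgroup S, P, Q ≤ S and g ∈ G with gPg⁻¹ = Q, and suppose N_S(Q) is a Sylow p-subgroup of N_G(Q). Let N be the set of x ∈ N_S(P) with gxg⁻¹ ∈ N_S(Q)C_G(Q). Then some h ∈ C_G(Q) satisfies (hg)N(hg)⁻¹ ≤ S. -/
theorem result {G : Type*} [Group G] [Finite G] (p : ℕ) [Fact p.Prime] (S : Sylow p G) (P Q : Subgroup G) (hP : P ≤ S) (hQ : Q ≤ S) (g : G) (hg : P.map (MulAut.conj g).toMonoidHom = Q) (hN : (∃ R : Sylow p ↥(Subgroup.normalizer (Q : Set G)), (R : Subgroup ↥(Subgroup.normalizer (Q : Set G))) = (Cfsg.FusionSystem.normalizerIn (S : Subgroup G) Q).subgroupOf (Subgroup.normalizer (Q : Set G)))) : ∃ h ∈ Subgroup.centralizer (Q : Set G), ((Cfsg.FusionSystem.normalizerIn (S : Subgroup G) P) ⊓ (Cfsg.FusionSystem.normalizerIn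 (S : Subgroup G) Q ⊔ Subgroup.centralizer (Q : Set G)).comap (MulAut.conj g).toMonoidHom).map (MulAut.conj (h * g)).toMonoidHom ≤ S := by
  have hNK : normalizerIn (S : Subgroup G) Q ≤ Subgroup.normalizer (Q : Set G) := inf_le_right
  have hcard := (exists_sylow_eq_subgroupOf_iff hNK).mp hN
  have hNp : IsPGroup p (normalizerIn (S : Subgroup G) Q) := S.isPGroup'.to_le inf_le_left
  have hML : normalizerIn (S : Subgroup G) Q ⊔ Subgroup.centralizer (Q : Set G) ≤ Subgroup.normalizer (Q : Set G) :=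
    sup_le hNK (Subgroup.centralizer_le_normalizer _)
  have hcardM := card_eq_of_le_of_le (le_sup_left : normalizerIn (S : Subgroup G) Q ≤
    normalizerIn (S : Subgroup G) Q ⊔ Subgroup.centralizer (Q : Set G)) hML hNp hcard
  have hTp : IsPGroup p (((normalizerIn (S : Subgroup G) P) ⊓
      (normalizerIn (S : Subgroup G) Q ⊔ Subgroup.centralizer (Q : Set G)).comap
        (MulAut.conj g).toMonoidHom).map (MulAut.conj g).toMonoidHom) :=
    (S.isPGroup'.to_le (inf_le_left.trans inf_le_left)).map _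
  have hTM : ((normalizerIn (S : Subgroup G) P) ⊓
      (normalizerIn (S : Subgroup G) Q ⊔ Subgroup.centralizer (Q : Set G)).comap
        (MulAut.conj g).toMonoidHom).map (MulAut.conj g).toMonoidHom ≤
      normalizerIn (S : Subgroup G) Q ⊔ Subgroup.centralizer (Q : Set G) := by
    rintro _ ⟨x, hx, rfl⟩
    exact hx.2
  obtain ⟨m, hm, hmT⟩ := exists_conj_le_of_card_eq le_sup_left hcardM hTp hTM
  obtain ⟨s, hs, h, hh, rfl⟩ := mem_sup_of_le_normalizer
    (hNK.trans (normalizer_le_normalizer_centralizer Q)) hm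
  refine ⟨h, hh, ?_⟩
  rintro _ ⟨x, hx, rfl⟩
  have h1 : (MulAut.conj (s * h)).toMonoidHom ((MulAut.conj g).toMonoidHom x) ∈
      normalizerIn (S : Subgroup G) Q := hmT ⟨_, ⟨x, hx, rfl⟩, rfl⟩
  have h2 : (MulAut.conj (h * g)).toMonoidHom x =
      s⁻¹ * ((MulAut.conj (s * h)).toMonoidHom ((MulAut.conj g).toMonoidHom x)) * s := by
    simp only [MulEquiv.toMonoidHom_eq_coe, MonoidHom.coe_coe, MulAut.conj_apply]
    group
  rw [h2]
  exact (S : Subgroup G).mul_mem ((S : Subgroup G).mul_mem ((S : Subgroup G).inv_mem hs.1) h1.1) hs.1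

end Cfsg.Agent.S5123
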