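import Cfsg.Statements.S5076
import Mathlib
import Cfsg.Agent.Lib.Helper9.GroupFusion3
import Cfsg.Agent.S5122
import Cfsg.Agent.S5123

set_option autoImplicit false
open Cfsg Cfsg.FusionSystem Cfsg.Agent.Lib.Helper9

namespace Cfsg.Agent.S5076

variable {G : Type*} [Group G]

theorem autGroup_eq (S Q : Subgroup G) (hQS : Q ≤ S) :
    (Cfsg.groupFusionSystem S).autGroup Q = Cfsg.autInducedBy ⊤ Q := by
  unfold FusionSystem.autGroup Cfsg.autInducedBy
  congr 1
  ext α
  constructor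
  · rintro ⟨-, -, k, hk⟩
    exact ⟨k, Subgroup.mem_top _, fun x => hk x⟩
  · rintro ⟨k, -, hk⟩
    exact ⟨hQS, fun x => hQS (α x).2, k, fun x => hk x⟩

theorem extender_le (S P' Q : Subgroup G) (φ : P' →* G) (k : G) (hk : ∀ x : P', φ x = k * (x : G) * k⁻¹)
    (hkQ : P'.map (MulAut.conj k).toMonoidHom = Q) :
    extender S P' φ ≤ normalizerIn S P' ⊓
      (normalizerIn S Q ⊔ Subgroup.centralizer (Q : Set G)).comap (MulAut.conj k).toMonoidHom := by
  unfold extender
  rw [Subgroup.closure_le]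
  rintro x ⟨hxS, hxN, s, hs, hxs⟩
  refine ⟨⟨hxS, hxN⟩, ?_⟩
  show (MulAut.conj k).toMonoidHom x ∈ normalizerIn S Q ⊔ Subgroup.centralizer (Q : Set G)
  have hc : s⁻¹ * (k * x * k⁻¹) ∈ Subgroup.centralizer (Q : Set G) := by
    rw [Subgroup.mem_centralizer_iff]
    intro q hq
    rw [← hkQ] at hq
    obtain ⟨y, hy, rfl⟩ := hq
    have hy' : x * y * x⁻¹ ∈ P' := (Subgroup.mem_normalizer_iff.mp hxN y).mp hy
    have h1 := hxs ⟨y, hy⟩ hy'
    rw [hk, hk] at h1
    simp only [MulEquiv.toMonoidHom_eq_coe, MonoidHom.coe_coe, MulAut.conj_apply]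
    have h2 : s⁻¹ * (k * x * k⁻¹) * (k * y * k⁻¹) = s⁻¹ * (k * (x * y * x⁻¹) * k⁻¹) * (k * x * k⁻¹) := by
      group
    rw [h2]
    show _ = s⁻¹ * (k * (x * y * x⁻¹) * k⁻¹) * (k * x * k⁻¹)
    have h3 : k * (x * y * x⁻¹) * k⁻¹ = s * (k * y * k⁻¹) * s⁻¹ := h1
    rw [h3]
    group
  have hkxN : k * x * k⁻¹ ∈ Subgroup.normalizer (Q : Set G) := by
    rw [← hkQ, normalizer_map_conj]
    exact ⟨x, hxN, by simp [MulAut.conj_apply]⟩
  have hsN : s ∈ Subgroup.normalizer (Q : Set G) := by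
    have h1 : s = (k * x * k⁻¹) * (s⁻¹ * (k * x * k⁻¹))⁻¹ := by group
    rw [h1]
    exact Subgroup.mul_mem _ hkxN (Subgroup.inv_mem _ (Subgroup.centralizer_le_normalizer _ hc))
  have h2 : (MulAut.conj k).toMonoidHom x = s * (s⁻¹ * (k * x * k⁻¹)) := by
    simp only [MulEquiv.toMonoidHom_eq_coe, MonoidHom.coe_coe, MulAut.conj_apply]
    group
  rw [h2]
  exact Subgroup.mul_mem_sup (⟨hs, hsN⟩ : s ∈ normalizerIn S Q) hc

/-- The fusion system of a finite group on a Sylow p-subgroup is saturated: every subgroup of the Sylow subgroup is conjugate in the system to one that is fully automized and receptive. -/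
theorem result {G : Type*} [Group G] [Finite G] (p : ℕ) [Fact p.Prime] (S : Sylow p G) : (Cfsg.groupFusionSystem (S : Subgroup G)).IsSaturated p := by
  intro P hP
  obtain ⟨g, hgS, hcard⟩ := Cfsg.Agent.S5122.partA S P hP
  have hN : ∃ R : Sylow p ↥(Subgroup.normalizer ((P.map (MulAut.conj g).toMonoidHom : Subgroup G) : Set G)),
      (R : Subgroup ↥(Subgroup.normalizer ((P.map (MulAut.conj g).toMonoidHom : Subgroup G) : Set G))) =
      (normalizerIn (S : Subgroup G) (P.map (MulAut.conj g).toMonoidHom)).subgroupOf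
        (Subgroup.normalizer ((P.map (MulAut.conj g).toMonoidHom : Subgroup G) : Set G)) :=
    (exists_sylow_eq_subgroupOf_iff
      (inf_le_right : normalizerIn (S : Subgroup G) (P.map (MulAut.conj g).toMonoidHom) ≤ _)).mpr hcard
  refine ⟨P.map (MulAut.conj g).toMonoidHom, (gfs_isConj_iff _ _ _).mpr ⟨hP, hgS, g, rfl⟩,
    ⟨hgS, ?_⟩, ⟨hgS, ?_⟩⟩
  · rw [autGroup_eq _ _ hgS]
    exact Cfsg.Agent.S5122.partB2 S _ hN
  · intro P' φ hφ hφr
    obtain ⟨hP'S, hφS, k, hk⟩ := hφ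
    have hkQ : P'.map (MulAut.conj k).toMonoidHom = P.map (MulAut.conj g).toMonoidHom := by
      rw [← hφr]
      ext y
      constructor
      · rintro ⟨x, hx, rfl⟩
        exact ⟨⟨x, hx⟩, by rw [hk]; simp [MulAut.conj_apply]⟩
      · rintro ⟨x, rfl⟩
        exact ⟨x, x.2, by rw [hk]; simp [MulAut.conj_apply]⟩
    obtain ⟨h, hh, hhS⟩ := Cfsg.Agent.S5123.result p S P' _ hP'S hgS k hkQ hN
    have hext := extender_le (S : Subgroup G) P' _ φ k hk hkQ
    have hextS : extender (S : Subgroup G) P' φ ≤ (S : Subgroup G) := hext.trans (inf_le_left.trans inf_le_left)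
    refine ⟨conjHom (extender (S : Subgroup G) P' φ) (h * k),
      ⟨hextS, fun x => hhS ⟨x, hext x.2, by simp [conjHom, MulAut.conj_apply]⟩, h * k, fun x => rfl⟩, ?_⟩
    intro x hxP hxN
    show (h * k) * x * (h * k)⁻¹ = φ ⟨x, hxP⟩
    rw [hk]
    have hq : k * x * k⁻¹ ∈ P.map (MulAut.conj g).toMonoidHom := by
      rw [← hkQ]
      exact ⟨x, hxP, by simp [MulAut.conj_apply]⟩
    have hcomm := (Subgroup.mem_centralizer_iff.mp hh) _ hq
    have h1 : h * k * x * (h * k)⁻¹ = h * (k * x * k⁻¹) * h⁻¹ := by group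
    show h * k * x * (h * k)⁻¹ = k * x * k⁻¹
    rw [h1, ← hcomm]
    group

end Cfsg.Agent.S5076
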