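import Mathlib
import Cfsg.Statements.S5133
import Cfsg.Agent.Lib.Helper9.FusionMorph5
import Cfsg.Agent.Lib.Helper9.FusionSat1

set_option autoImplicit false
open Cfsg

namespace Cfsg.Agent.S5133

open Cfsg.Agent.Lib.Helper9 Cfsg.FusionSystem in
/-- Let F be a saturated fusion system over a finite p-group S, F' a fusion system over S', and α : S → S' a surjective morphism of fusion systems from F to F' (α maps S onto S' and every map of F' with source P' ≤ S' is induced along α by a map of F on the full preimage of P'). Then F' is saturated. -/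
theorem result {Ω : Type*} [Group Ω] {S : Subgroup Ω} [Finite S] (p : ℕ) [Fact p.Prime] (hS : IsPGroup p S) (F : Cfsg.FusionSystem S) (hF : F.IsSaturated p) {Ω' : Type*} [Group Ω'] {S' : Subgroup Ω'} (F' : Cfsg.FusionSystem S') (α : S →* Ω') (hα : F.IsSurjectiveMorphism F' α) : F'.IsSaturated p := by
  have hrange := hα.2.1
  haveI : Finite S' := by
    rw [← hrange]
    exact Finite.of_surjective (fun s : S => (⟨α s, ⟨s, rfl⟩⟩ : α.range))
      (by rintro ⟨_, s, rfl⟩; exact ⟨s, rfl⟩)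
  intro P' hP'S'
  have hPfull := isFull_preimageAlong α P'
  obtain ⟨R, ⟨χ, hχ, rfl⟩, hRn⟩ := fs_exists_fullyNormalized F hPfull.1
  have hRfull : IsFull α χ.range := isFull_range p hS F F' α hα.1 hPfull hχ
  have hRS : χ.range ≤ S := hRfull.1
  have hQ'S' : imageAlong α χ.range ≤ S' := imageAlong_le_of_range α hrange _
  have hχS : ∀ x, χ x ∈ S := (F.le_of_mem hχ).2
  refine ⟨imageAlong α χ.range, ?_, ⟨hQ'S', ?_⟩, ⟨hQ'S', ?_⟩⟩
  · -- conjugacy
    obtain ⟨χ', hχ', Hχ'⟩ := morph_push F F' α hα.1 hχ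
    have hle : P' ≤ imageAlong α (preimageAlong α P') :=
      le_imageAlong_preimageAlong α (by rw [hrange]; exact hP'S')
    refine ⟨χ'.comp (Subgroup.inclusion hle), fs_restrict_mem F' hχ' hle, ?_⟩
    apply le_antisymm
    · rintro _ ⟨⟨y, hy⟩, rfl⟩
      obtain ⟨s, hs, rfl⟩ := hle hy
      have h1 := Hχ' ⟨s, hs⟩ s.2 (hle hy) (hχS _)
      show χ' (Subgroup.inclusion hle ⟨α s, hy⟩) ∈ _
      have e : Subgroup.inclusion hle ⟨α s, hy⟩ = ⟨α ⟨(s : Ω), s.2⟩, hle hy⟩ := Subtype.ext rfl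
      rw [e, h1]
      exact apply_mem_imageAlong α _ ⟨_, rfl⟩
    · rintro _ ⟨s, ⟨x, hx⟩, rfl⟩
      have hxP' : α ⟨x, hPfull.1 x.2⟩ ∈ P' := apply_mem_of_mem_preimageAlong α P' x
      refine ⟨⟨_, hxP'⟩, ?_⟩
      have h1 := Hχ' x (hPfull.1 x.2) (hle hxP') (hχS _)
      show χ' (Subgroup.inclusion hle ⟨_, hxP'⟩) = α s
      have e : Subgroup.inclusion hle ⟨α ⟨x, hPfull.1 x.2⟩, hxP'⟩ = ⟨α ⟨x, hPfull.1 x.2⟩, hle hxP'⟩ :=
        Subtype.ext rfl
      rw [e, h1]
      congr 1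
      exact Subtype.ext hx
  · -- fully automized
    haveI : Finite χ.range := fs_finite_of_le hRS
    haveI : Finite (F.autGroup χ.range) := inferInstance
    obtain ⟨-, Sy, hSy⟩ := (fs_sylow_axiom p hS F hF hRn).2
    refine ⟨Sy.mapSurjective (inducedAut_surjective F F' α hα hRfull), ?_⟩
    rw [Sylow.coe_mapSurjective, hSy]
    exact inducedAut_map_autInducedBy F F' α hα hRfull
  · -- receptive
    intro P₀' φ' hφ' hφ'r
    have hP₀'S' : P₀' ≤ S' := (F'.le_of_mem hφ').1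
    have hP₀full := isFull_preimageAlong α P₀'
    have hφ'₁ := fs_restrict_mem F' hφ' (imageAlong_preimageAlong_le α P₀')
    obtain ⟨φ, hφ, Hφ⟩ := morph_pull F F' α hα hP₀full hφ'₁
    have hφS : ∀ x, φ x ∈ S := (F.le_of_mem hφ).2
    have Hφ' : ∀ (x : preimageAlong α P₀') (hφS : φ x ∈ S),
        φ' ⟨α ⟨x, preimageAlong_le α P₀' x.2⟩, apply_mem_of_mem_preimageAlong α P₀' x⟩ = α ⟨φ x, hφS⟩ := by
      intro x hφSx
      exact Hφ x (preimageAlong_le α P₀' x.2) (apply_mem_imageAlong α _ x.2) hφSx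
    have hφfull : IsFull α φ.range := isFull_range p hS F F' α hα.1 hP₀full hφ
    -- `φ.range = χ.range`
    have heq : φ.range = χ.range := by
      apply le_antisymm
      · rintro _ ⟨x, rfl⟩
        apply hRfull.2 ⟨φ x, hφS x⟩
        rw [← Hφ' x (hφS x), ← hφ'r]
        exact ⟨_, rfl⟩
      · intro r hr
        have h1 : α ⟨r, hRS hr⟩ ∈ imageAlong α χ.range := apply_mem_imageAlong α _ hr
        rw [← hφ'r] at h1
        obtain ⟨⟨y, hy⟩, hyr⟩ := h1
        have hyS' : y ∈ α.range := by rw [hrange]; exact hP₀'S' hy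
        obtain ⟨s, rfl⟩ := hyS'
        have hsP₀ : (s : Ω) ∈ preimageAlong α P₀' := (mem_preimageAlong_iff α P₀' s).mpr ⟨s.2, hy⟩
        have h2 := Hφ' ⟨s, hsP₀⟩ (hφS _)
        apply hφfull.2 ⟨r, hRS hr⟩
        rw [← hyr]
        have e : (⟨α s, hy⟩ : P₀') = ⟨α ⟨(s : Ω), s.2⟩, apply_mem_of_mem_preimageAlong α P₀' ⟨s, hsP₀⟩⟩ :=
          Subtype.ext rfl
        rw [e, h2]
        exact apply_mem_imageAlong α _ ⟨_, rfl⟩
    rw [← heq] at hRn
    exact morph_receptive_aux p hS F hF F' α hα hφ' hφ Hφ' hRn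

end Cfsg.Agent.S5133
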