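import Cfsg.Statements.S2635
import Mathlib
import Cfsg.Agent.Lib.Helper2.Dickson4
import Cfsg.Agent.Lib.Helper2.GenComm

set_option autoImplicit false
open Cfsg

namespace Cfsg.Agent.S2635

open Cfsg.Agent.Lib.Helper2 Cfsg.Agent.Lib.Helper2.CDG in
theorem aux {F : Type*} [Field F] [Fintype F] {ι : Type} [Fintype ι] [DecidableEq ι]
    (h2 : (2 : F) = 0) (hn : 2 ≤ Fintype.card ι)
    (h : Fintype.card F ≠ 2 ∨ Fintype.card ι ≠ 4) (Q : QuadraticForm F (ι → F))
    (hQ : (QuadraticMap.polarBilin Q).Nondegenerate) :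
    commutator ↥(Cfsg.isometryGroup F ⇑Q) =
      Subgroup.closure {g : ↥(Cfsg.isometryGroup F ⇑Q) | ∃ u v : ι → F, Q u ≠ 0 ∧ Q v ≠ 0 ∧
        ((g : Matrix.GeneralLinearGroup ι F) : Matrix ι ι F) =
          Cfsg.reflectionMatrix ⇑Q u * Cfsg.reflectionMatrix ⇑Q v} := by
  have hgen := OrthTwo.closure_R_eq_top₂ h2 hQ h hn
  set S : Set ↥(Cfsg.isometryGroup F ⇑Q) := {g | ∃ u v : ι → F, Q u ≠ 0 ∧ Q v ≠ 0 ∧
        ((g : Matrix.GeneralLinearGroup ι F) : Matrix ι ι F) =
          Cfsg.reflectionMatrix ⇑Q u * Cfsg.reflectionMatrix ⇑Q v} with hS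
  have hmemS : ∀ g, g ∈ S ↔ ∃ (u v : ι → F) (hu : Q u ≠ 0) (hv : Q v ≠ 0),
      g = refl Q u hu * refl Q v hv := by
    intro g
    constructor
    · rintro ⟨u, v, hu, hv, hg⟩
      refine ⟨u, v, hu, hv, ?_⟩
      apply Subtype.ext
      apply Units.ext
      rw [hg]
      rfl
    · rintro ⟨u, v, hu, hv, rfl⟩
      exact ⟨u, v, hu, hv, rfl⟩
  apply le_antisymm
  · have hconj : Group.conjugatesOfSet S ⊆ S := by
      intro x hx
      obtain ⟨a, ha, hax⟩ := Group.mem_conjugatesOfSet_iff.1 hx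
      obtain ⟨u, v, hu, hv, rfl⟩ := (hmemS a).1 ha
      obtain ⟨c, hc⟩ := isConj_iff.1 hax
      rw [hmemS]
      refine ⟨Matrix.mulVec ((c : Matrix.GeneralLinearGroup ι F) : Matrix ι ι F) u,
        Matrix.mulVec ((c : Matrix.GeneralLinearGroup ι F) : Matrix ι ι F) v,
        by rw [iso_Q]; exact hu, by rw [iso_Q]; exact hv, ?_⟩
      rw [← Spinor.conj_refl c u hu, ← Spinor.conj_refl c v hv, ← hc]
      group
    have hNle : Subgroup.normalClosure S ≤ Subgroup.closure S := by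
      unfold Subgroup.normalClosure
      exact Subgroup.closure_mono hconj
    refine le_trans ?_ hNle
    apply GenComm.commutator_le_of_generators (R Q) hgen
    rintro a ⟨v, hv, hav⟩ b ⟨w, hw, hbw⟩
    have ha : a = refl Q v hv := Spinor.eq_refl_of_coe a v hv hav
    have hb : b = refl Q w hw := Spinor.eq_refl_of_coe b w hw hbw
    rw [ha, hb, refl_inv, refl_inv, mul_assoc]
    apply Subgroup.mul_mem
    · exact Subgroup.subset_normalClosure ((hmemS _).2 ⟨v, w, hv, hw, rfl⟩)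
    · exact Subgroup.subset_normalClosure ((hmemS _).2 ⟨v, w, hv, hw, rfl⟩)
  · rw [Subgroup.closure_le]
    intro g hg
    obtain ⟨u, v, hu, hv, rfl⟩ := (hmemS g).1 hg
    show refl Q u hu * refl Q v hv ∈ commutator ↥(Cfsg.isometryGroup F ⇑Q)
    rw [← Abelianization.ker_of, MonoidHom.mem_ker, map_mul,
      Dickson.ab_refl_eq₂ h2 hQ h v u hv hu, ← map_mul, refl_mul_self, map_one]

/-- Over a finite field of characteristic two, for a quadratic form Q on F^n with non-degenerate polar form, n ≥ 2, other than dimension 4 over the field of two elements, Ω (the commutator subgroup of the orthogonal group) is exactly the subgroup generated by the products of two reflections (orthogonal transvections) x ↦ x − Q(v)⁻¹ f(x, v) v, Q(v) ≠ 0: the products of an even number of reflections. -/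
theorem result {F : Type*} [Field F] [Fintype F] [CharP F 2] {n : ℕ} (hn : 2 ≤ n) (h : Fintype.card F ≠ 2 ∨ n ≠ 4) (Q : QuadraticForm F (Fin n → F)) (hQ : (QuadraticMap.polarBilin Q).Nondegenerate) : Cfsg.Omega F ⇑Q = Subgroup.closure {g : ↥(Cfsg.isometryGroup F ⇑Q) | ∃ u v : Fin n → F, Q u ≠ 0 ∧ Q v ≠ 0 ∧ ((g : Matrix.GeneralLinearGroup (Fin n) F) : Matrix (Fin n) (Fin n) F) = Cfsg.reflectionMatrix ⇑Q u * Cfsg.reflectionMatrix ⇑Q v} := by
  have h2 : (2 : F) = 0 := CharTwo.two_eq_zero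
  exact aux h2 (by rw [Fintype.card_fin]; exact hn) (by rw [Fintype.card_fin]; exact h) Q hQ

end Cfsg.Agent.S2635
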