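import Cfsg.Statements.S0269
import Cfsg.Agent.Lib.Helper1.SpBasic

set_option autoImplicit false
open Cfsg

namespace Cfsg.Agent.S0269

open Cfsg.Agent.Lib.Helper1.SpBasic Cfsg.Agent.Lib.Helper2.Symp Matrix

variable {F : Type*} [Field F] {m : ℕ}

theorem of_conj (A B : Matrix.symplecticGroup (Fin m) F) :
    Abelianization.of (A * B * A⁻¹) = Abelianization.of B := by
  rw [map_mul, map_mul, map_inv, mul_comm, inv_mul_cancel_left]

theorem of_T_eq (v w : Fin m ⊕ Fin m → F) (hv : v ≠ 0) (hw : w ≠ 0) (c : F) :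
    Abelianization.of (T v c) = Abelianization.of (T w c) := by
  obtain ⟨g, hg⟩ := Cfsg.Agent.S0271.result m v w hv hw
  rw [← hg, ← conj_T, of_conj]

theorem top_of_T
    (h : ∀ (v : Fin m ⊕ Fin m → F) (c : F), Abelianization.of (T v c) = 1) :
    commutator (Matrix.symplecticGroup (Fin m) F) = ⊤ := by
  rw [← Abelianization.ker_of, eq_top_iff, ← transvGroup_eq_top]
  unfold transvGroup
  rw [Subgroup.closure_le]
  rintro A ⟨w, c, hA⟩
  have : A = T w c := Subtype.ext hA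
  rw [this]
  exact MonoidHom.mem_ker.mpr (h w c)

/-- it suffices to treat one nonzero vector. -/
theorem top_of_T_one (u : Fin m ⊕ Fin m → F) (hu : u ≠ 0)
    (h : ∀ c : F, Abelianization.of (T u c) = 1) :
    commutator (Matrix.symplecticGroup (Fin m) F) = ⊤ := by
  apply top_of_T
  intro v c
  by_cases hv : v = 0
  · rw [hv, T_zero_left, map_one]
  · rw [of_T_eq v u hv hu, h]

/-- large fields. -/
theorem caseB [Fintype F] (hF : 4 ≤ Fintype.card F) :
    commutator (Matrix.symplecticGroup (Fin m) F) = ⊤ := by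
  classical
  obtain ⟨a, ha⟩ : ∃ a : F, a ∉ ({0, 1, -1} : Finset F) := by
    by_contra hcon
    push Not at hcon
    have h1 : (Finset.univ : Finset F) ⊆ {0, 1, -1} := fun a _ => hcon a
    have h2 := Finset.card_le_card h1
    rw [Finset.card_univ] at h2
    have h3 : ({0, 1, -1} : Finset F).card ≤ 3 := Finset.card_le_three
    omega
  simp only [Finset.mem_insert, Finset.mem_singleton, not_or] at ha
  obtain ⟨ha0, ha1, ha2⟩ := ha
  have hsq : a * a - 1 ≠ 0 := by
    intro h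
    have : (a - 1) * (a + 1) = 0 := by linear_combination h
    rcases mul_eq_zero.mp this with h | h
    · exact ha1 (sub_eq_zero.mp h)
    · exact ha2 (eq_neg_of_add_eq_zero_left h)
  apply top_of_T
  intro v c
  by_cases hv : v = 0
  · rw [hv, T_zero_left, map_one]
  have hav : a • v ≠ 0 := smul_ne_zero ha0 hv
  set c' : F := c / (a * a - 1) with hc'
  have h1 : Abelianization.of (T v (a * a * c')) = Abelianization.of (T v c') := by
    rw [← T_smul, of_T_eq (a • v) v hav hv]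
  have h2 : T v c = T v (a * a * c') * (T v c')⁻¹ := by
    rw [T_inv, T_add]
    congr 1
    calc c = (a * a - 1) * c' := by rw [hc', mul_div_cancel₀ _ hsq]
      _ = a * a * c' + -c' := by ring
  rw [h2, map_mul, map_inv, h1, mul_inv_cancel]

theorem single_ne_zero' (i : Fin m ⊕ Fin m) : (Pi.single i (1 : F) : Fin m ⊕ Fin m → F) ≠ 0 := by
  intro h
  have := congrFun h i
  simp at this

/-- odd characteristic, dimension at least four. -/
theorem caseC (h2 : (2 : F) ≠ 0) (hm : 2 ≤ m) :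
    commutator (Matrix.symplecticGroup (Fin m) F) = ⊤ := by
  set u : Fin m ⊕ Fin m → F := Pi.single (Sum.inl ⟨0, by omega⟩) 1 with hu
  set w : Fin m ⊕ Fin m → F := Pi.single (Sum.inl ⟨1, by omega⟩) 1 with hw
  have hu0 : u ≠ 0 := single_ne_zero' _
  have hw0 : w ≠ 0 := single_ne_zero' _
  have huw : Cfsg.sympForm m F u w = 0 := by
    rw [hw, sympForm_single_inl, hu]
    simp
  have hwu : Cfsg.sympForm m F w u = 0 := by rw [sympForm_swap, huw, neg_zero]
  have hne : (⟨0, by omega⟩ : Fin m) ≠ ⟨1, by omega⟩ := by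
    intro h; simpa using congrArg Fin.val h
  have hp0 : u + w ≠ 0 := by
    intro h
    have := congrFun h (Sum.inl ⟨0, by omega⟩)
    simp [hu, hw, hne] at this
  have hm0 : u - w ≠ 0 := by
    intro h
    have := congrFun h (Sum.inl ⟨0, by omega⟩)
    simp [hu, hw, hne] at this
  have hpm : Cfsg.sympForm m F (u + w) (u - w) = 0 := by
    rw [sympForm_add_left, sympForm_sub_right, sympForm_sub_right, sympForm_self, sympForm_self,
      huw, hwu]
    ring
  have key : ∀ c : F, T (u + w) c * T (u - w) c = T u (2 * c) * T w (2 * c) := by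
    intro c
    apply ext_mulVec
    intro x
    rw [T_mul_T_mulVec _ _ hpm, T_mul_T_mulVec _ _ huw, sympForm_add_right, sympForm_sub_right]
    module
  apply top_of_T_one u hu0
  have ht : ∀ c : F, Abelianization.of (T u (2 * c)) = 1 := by
    intro c
    have h1 := congrArg Abelianization.of (key c)
    rw [map_mul, map_mul, of_T_eq (u + w) u hp0 hu0, of_T_eq (u - w) u hm0 hu0,
      of_T_eq w u hw0 hu0, ← map_mul, T_add, ← two_mul] at h1
    have h3 : Abelianization.of (T u (2 * c)) * 1 =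
        Abelianization.of (T u (2 * c)) * Abelianization.of (T u (2 * c)) := by
      rw [mul_one]; exact h1
    exact (mul_left_cancel h3).symm
  intro c
  have := ht (c / 2)
  rwa [mul_div_cancel₀ c h2] at this

/-- vectors of the standard Lagrangian. -/
def IsL (x : Fin m ⊕ Fin m → F) : Prop := ∀ j : Fin m, x (Sum.inr j) = 0

theorem form_of_isL {x y : Fin m ⊕ Fin m → F} (hx : IsL x) (hy : IsL y) :
    Cfsg.sympForm m F x y = 0 := by
  unfold Cfsg.sympForm
  rw [dotProduct, Fintype.sum_sum_type]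
  simp only [J_mulVec_apply_inl, J_mulVec_apply_inr]
  have h1 : ∀ i : Fin m, x (Sum.inl i) * -y (Sum.inr i) = 0 := fun i => by rw [hy i]; simp
  have h2 : ∀ i : Fin m, x (Sum.inr i) * y (Sum.inl i) = 0 := fun i => by rw [hx i]; simp
  simp [h1, h2]

theorem isL_single (i : Fin m) : IsL (Pi.single (Sum.inl i) (1 : F) : Fin m ⊕ Fin m → F) := by
  intro j
  simp

theorem isL_add {x y : Fin m ⊕ Fin m → F} (hx : IsL x) (hy : IsL y) : IsL (x + y) := by
  intro j
  rw [Pi.add_apply, hx j, hy j, add_zero]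

theorem isL_smul (a : F) {x : Fin m ⊕ Fin m → F} (hx : IsL x) : IsL (a • x) := by
  intro j
  rw [Pi.smul_apply, hx j, smul_zero]

theorem lag_mul (A : Matrix.symplecticGroup (Fin m) F) (g : (Fin m ⊕ Fin m → F) → (Fin m ⊕ Fin m → F))
    (hA : ∀ x, (A : Matrix (Fin m ⊕ Fin m) (Fin m ⊕ Fin m) F) *ᵥ x = x + g x)
    (hg : ∀ x, IsL (g x)) (w : Fin m ⊕ Fin m → F) (hw : IsL w) (b : F) (x : Fin m ⊕ Fin m → F) :
    ((T w b * A : Matrix.symplecticGroup (Fin m) F) :
      Matrix (Fin m ⊕ Fin m) (Fin m ⊕ Fin m) F) *ᵥ x =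
      x + (g x + (b * Cfsg.sympForm m F x w) • w) := by
  rw [coe_mul_mulVec, hA, T_mulVec, sympForm_add_left, form_of_isL (hg x) hw, add_zero, add_assoc]

/-- characteristic two, dimension at least six. -/
theorem caseD (h2 : (2 : F) = 0) (hm : 3 ≤ m) :
    commutator (Matrix.symplecticGroup (Fin m) F) = ⊤ := by
  set u₁ : Fin m ⊕ Fin m → F := Pi.single (Sum.inl ⟨0, by omega⟩) 1 with hu₁
  set u₂ : Fin m ⊕ Fin m → F := Pi.single (Sum.inl ⟨1, by omega⟩) 1 with hu₂
  set u₃ : Fin m ⊕ Fin m → F := Pi.single (Sum.inl ⟨2, by omega⟩) 1 with hu₃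
  have l₁ : IsL u₁ := isL_single _
  have l₂ : IsL u₂ := isL_single _
  have l₃ : IsL u₃ := isL_single _
  have n01 : (⟨0, by omega⟩ : Fin m) ≠ ⟨1, by omega⟩ := by
    intro h; simpa using congrArg Fin.val h
  have n02 : (⟨0, by omega⟩ : Fin m) ≠ ⟨2, by omega⟩ := by
    intro h; simpa using congrArg Fin.val h
  have n12 : (⟨1, by omega⟩ : Fin m) ≠ ⟨2, by omega⟩ := by
    intro h; simpa using congrArg Fin.val h
  have hu₁0 : u₁ ≠ 0 := single_ne_zero' _
  have hu₂0 : u₂ ≠ 0 := single_ne_zero' _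
  have hu₃0 : u₃ ≠ 0 := single_ne_zero' _
  have h12 : u₁ + u₂ ≠ 0 := by
    intro h
    have := congrFun h (Sum.inl ⟨0, by omega⟩)
    simp [hu₁, hu₂, n01] at this
  have h13 : u₁ + u₃ ≠ 0 := by
    intro h
    have := congrFun h (Sum.inl ⟨0, by omega⟩)
    simp [hu₁, hu₃, n02] at this
  have h23 : u₂ + u₃ ≠ 0 := by
    intro h
    have := congrFun h (Sum.inl ⟨1, by omega⟩)
    simp [hu₂, hu₃, n12] at this
  have h123 : u₁ + u₂ + u₃ ≠ 0 := by
    intro h
    have := congrFun h (Sum.inl ⟨0, by omega⟩)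
    simp [hu₁, hu₂, hu₃, n01, n02] at this
  have key : ∀ c : F, T (u₁ + u₂ + u₃) c =
      T u₁ c * (T u₂ c * (T u₃ c * (T (u₁ + u₂) c * (T (u₁ + u₃) c * T (u₂ + u₃) c)))) := by
    intro c
    apply ext_mulVec
    intro x
    have s0 : ∀ x, ((T (u₂ + u₃) c : Matrix.symplecticGroup (Fin m) F) :
        Matrix (Fin m ⊕ Fin m) (Fin m ⊕ Fin m) F) *ᵥ x =
        x + (c * Cfsg.sympForm m F x (u₂ + u₃)) • (u₂ + u₃) := fun x => T_mulVec _ _ _
    have g0 : ∀ x, IsL ((c * Cfsg.sympForm m F x (u₂ + u₃)) • (u₂ + u₃)) :=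
      fun x => isL_smul _ (isL_add l₂ l₃)
    have s1 := lag_mul _ _ s0 g0 (u₁ + u₃) (isL_add l₁ l₃) c
    have g1 : ∀ x, IsL ((c * Cfsg.sympForm m F x (u₂ + u₃)) • (u₂ + u₃) +
        (c * Cfsg.sympForm m F x (u₁ + u₃)) • (u₁ + u₃)) :=
      fun x => isL_add (g0 x) (isL_smul _ (isL_add l₁ l₃))
    have s2 := lag_mul _ _ s1 g1 (u₁ + u₂) (isL_add l₁ l₂) c
    have g2 : ∀ x, IsL ((c * Cfsg.sympForm m F x (u₂ + u₃)) • (u₂ + u₃) +
        (c * Cfsg.sympForm m F x (u₁ + u₃)) • (u₁ + u₃) +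
        (c * Cfsg.sympForm m F x (u₁ + u₂)) • (u₁ + u₂)) :=
      fun x => isL_add (g1 x) (isL_smul _ (isL_add l₁ l₂))
    have s3 := lag_mul _ _ s2 g2 u₃ l₃ c
    have g3 : ∀ x, IsL ((c * Cfsg.sympForm m F x (u₂ + u₃)) • (u₂ + u₃) +
        (c * Cfsg.sympForm m F x (u₁ + u₃)) • (u₁ + u₃) +
        (c * Cfsg.sympForm m F x (u₁ + u₂)) • (u₁ + u₂) +
        (c * Cfsg.sympForm m F x u₃) • u₃) :=
      fun x => isL_add (g2 x) (isL_smul _ l₃)
    have s4 := lag_mul _ _ s3 g3 u₂ l₂ c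
    have g4 : ∀ x, IsL ((c * Cfsg.sympForm m F x (u₂ + u₃)) • (u₂ + u₃) +
        (c * Cfsg.sympForm m F x (u₁ + u₃)) • (u₁ + u₃) +
        (c * Cfsg.sympForm m F x (u₁ + u₂)) • (u₁ + u₂) +
        (c * Cfsg.sympForm m F x u₃) • u₃ + (c * Cfsg.sympForm m F x u₂) • u₂) :=
      fun x => isL_add (g3 x) (isL_smul _ l₂)
    have s5 := lag_mul _ _ s4 g4 u₁ l₁ c
    rw [s5, T_mulVec]
    simp only [sympForm_add_right]
    set a₁ := Cfsg.sympForm m F x u₁
    set a₂ := Cfsg.sympForm m F x u₂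
    set a₃ := Cfsg.sympForm m F x u₃
    have e : (c * (a₂ + a₃)) • (u₂ + u₃) + (c * (a₁ + a₃)) • (u₁ + u₃) +
        (c * (a₁ + a₂)) • (u₁ + u₂) + (c * a₃) • u₃ + (c * a₂) • u₂ + (c * a₁) • u₁ =
        (c * (a₁ + a₂ + a₃)) • (u₁ + u₂ + u₃) +
          (2 : F) • ((c * a₁) • u₁ + (c * a₂) • u₂ + (c * a₃) • u₃) := by
      module
    rw [e, h2, zero_smul, add_zero]
  apply top_of_T_one u₁ hu₁0
  intro c
  have h1 := congrArg Abelianization.of (key c)
  rw [map_mul, map_mul, map_mul, map_mul, map_mul, of_T_eq _ u₁ h123 hu₁0,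
    of_T_eq u₂ u₁ hu₂0 hu₁0, of_T_eq u₃ u₁ hu₃0 hu₁0, of_T_eq _ u₁ h12 hu₁0,
    of_T_eq _ u₁ h13 hu₁0, of_T_eq _ u₁ h23 hu₁0] at h1
  have hsq : Abelianization.of (T u₁ c) * Abelianization.of (T u₁ c) = 1 := by
    rw [← map_mul, T_add, ← two_mul, h2, zero_mul, T_zero, map_one]
  set t := Abelianization.of (T u₁ c)
  rw [hsq, mul_one, hsq, mul_one] at h1
  rw [h1]
  exact hsq

/-- Sp_{2m}(q) is perfect except for Sp_2(2), Sp_2(3) and Sp_4(2): stated as m at least 3, or m = 2 and q at least 3, or q at least 4. -/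
theorem result {F : Type*} [Field F] [Fintype F] (m : ℕ) (h : 3 ≤ m ∨ (m = 2 ∧ 3 ≤ Fintype.card F) ∨ 4 ≤ Fintype.card F) : commutator (Matrix.symplecticGroup (Fin m) F) = ⊤ := by
  by_cases h4 : 4 ≤ Fintype.card F
  · exact caseB h4
  by_cases h2 : (2 : F) = 0
  · have hcard : Fintype.card F = 2 := by
      have h1 : 1 < Fintype.card F := Fintype.one_lt_card
      have hev : 2 ∣ Fintype.card F := by
        have : CharP F 2 := by
          apply CharTwo.of_one_ne_zero_of_two_eq_zero one_ne_zero h2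
        obtain ⟨n, _, hn⟩ := FiniteField.card F 2
        rw [hn]
        exact dvd_pow_self 2 n.ne_zero
      omega
    have hm : 3 ≤ m := by
      rcases h with h | h | h
      · exact h
      · omega
      · omega
    exact caseD h2 hm
  · have hm : 2 ≤ m := by
      rcases h with h | h | h
      · omega
      · omega
      · omega
    exact caseC h2 hm

end Cfsg.Agent.S0269
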