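import Cfsg.Statements.S2336
import Cfsg.Agent.Lib.Helper5.PermVec2
import Cfsg.Agent.Lib.Helper5.PermVec4

set_option autoImplicit false
open Cfsg

namespace Cfsg.Agent.S2336


open Matrix Cfsg.Agent.Lib.Helper5.PermVec
open scoped ComplexConjugate

variable {F : Type*} [Field F] [Fintype F] [DecidableEq F] {m : ℕ}

theorem thetaT_one_apply (θ : MulChar F ℂ) : thetaT (m := m) θ 1 = 1 := by
  unfold thetaT
  have : lam (1 : PP F m) = 1 := (lamHom F m).map_one
  rw [this, Units.val_one, map_one]

theorem indFun_one (θ : MulChar F ℂ) :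
    Cfsg.indFun (PP F m) (thetaT θ) 1 =
      (Nat.card (SpecialLinearGroup (Fin (m + 3)) F) : ℂ) / (Nat.card (PP F m) : ℂ) := by
  unfold Cfsg.indFun
  have h1 : ∀ x : SpecialLinearGroup (Fin (m + 3)) F,
      Cfsg.extendByZero (PP F m) (thetaT θ) (x⁻¹ * 1 * x) = 1 := by
    intro x
    rw [mul_one, inv_mul_cancel, Cfsg.Agent.Lib.Helper1.extendByZero_of_mem (PP F m) _ (one_mem _)]
    exact thetaT_one_apply θ
  rw [Finset.sum_congr rfl (fun x _ => h1 x), Finset.sum_const, Finset.card_univ, nsmul_eq_mul,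
    mul_one, Nat.card_eq_fintype_card (α := SpecialLinearGroup (Fin (m + 3)) F), div_eq_inv_mul]

theorem card_PP_ne : Nat.card (PP F m) ≠ Nat.card (SpecialLinearGroup (Fin (m + 3)) F) := by
  intro h
  have htop : PP F m = ⊤ := (Subgroup.card_eq_iff_eq_top (PP F m)).1 h
  have hmem : tv (e1 F m) ∈ PP F m := by rw [htop]; exact Subgroup.mem_top _
  obtain ⟨c, hc⟩ := hmem
  rw [col0_tv e1_ne_zero] at hc
  exact e1_not_smul_e0 ⟨(c : F), hc⟩



/-- Let F be a finite field with q elements and n ≥ 3. The permutation character of SL_n(F) on the non-zero vectors of F^n (the function sending a matrix to the number of non-zero vectors it fixes) is the sum of the principal character and q − 1 pairwise distinct irreducible complex characters. -/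
theorem result {F : Type*} [Field F] [Fintype F] [DecidableEq F] (n : ℕ) (hn : 3 ≤ n) :
    ∃ χ : Fin (Fintype.card F - 1) → (Matrix.SpecialLinearGroup (Fin n) F → ℂ),
      (∀ i, Cfsg.IsIrrCharacter (Matrix.SpecialLinearGroup (Fin n) F) (χ i)) ∧ Function.Injective χ ∧
      ∀ g : Matrix.SpecialLinearGroup (Fin n) F,
        (Nat.card {v : Fin n → F // v ≠ 0 ∧ (g : Matrix (Fin n) (Fin n) F).mulVec v = v} : ℂ) = 1 + ∑ i, χ i g := by
  classical
  obtain ⟨m, rfl⟩ : ∃ m, n = m + 3 := ⟨n - 3, by omega⟩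
  have : Fintype (MulChar F ℂ) := Fintype.ofFinite _
  have hG0 : (Nat.card (SpecialLinearGroup (Fin (m + 3)) F) : ℂ) ≠ 0 :=
    Nat.cast_ne_zero.2 Nat.card_pos.ne'
  have hP0 : (Nat.card (PP F m) : ℂ) ≠ 0 := Nat.cast_ne_zero.2 Nat.card_pos.ne'
  have hcardI : Fintype.card (MulChar F ℂ) = Fintype.card F - 1 := by
    have := MulChar.card_eq_card_units_of_hasEnoughRootsOfUnity F ℂ
    rw [Nat.card_eq_fintype_card, Nat.card_eq_fintype_card, Fintype.card_units] at this
    exact this
  have hsum : (∑ θ : MulChar F ℂ, Cfsg.indFun (PP F m) (thetaT θ)) =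
      fun g : SpecialLinearGroup (Fin (m + 3)) F =>
        (Nat.card {v : Fin (m + 3) → F // v ≠ 0 ∧
          (g : Matrix (Fin (m + 3)) (Fin (m + 3)) F) *ᵥ v = v} : ℂ) := by
    funext g
    rw [Finset.sum_apply]
    exact sum_indFun_eq g
  obtain ⟨χ, hχ1, hχ2, hχ3⟩ := split_of_norm
    (fun θ : MulChar F ℂ => Cfsg.indFun (PP F m) (thetaT θ))
    (fun θ => Cfsg.Agent.S0148.result (PP F m) _ (isCharacter_thetaT θ))
    (fun θ h => by
      have h2 := congrFun h 1
      rw [indFun_one] at h2
      exact div_ne_zero hG0 hP0 h2)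
    (1 : MulChar F ℂ)
    (by
      have hcl : Cfsg.IsClassFunction (SpecialLinearGroup (Fin (m + 3)) F) (fun _ => (1 : ℂ)) :=
        fun _ _ => rfl
      have : Fintype (PP F m) := Fintype.ofFinite _
      rw [Cfsg.Agent.S0146.result (PP F m) _ _ hcl]
      unfold Cfsg.classInner
      have h1 : ∀ p : PP F m, thetaT (1 : MulChar F ℂ) p * conj (1 : ℂ) = 1 := by
        intro p
        unfold thetaT
        rw [MulChar.one_apply_coe, map_one, mul_one]
      rw [Finset.sum_congr rfl (fun p _ => h1 p), Finset.sum_const, Finset.card_univ, nsmul_eq_mul,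
        mul_one, Nat.card_eq_fintype_card]
      have : (Fintype.card (PP F m) : ℂ) ≠ 0 := Nat.cast_ne_zero.2 Fintype.card_ne_zero
      field_simp)
    (by
      intro h
      have h2 := congrFun h 1
      rw [indFun_one] at h2
      rw [div_eq_one_iff_eq hP0] at h2
      exact card_PP_ne (F := F) (m := m) (by exact_mod_cast h2.symm))
    (by
      rw [hsum, classInner_perm, hcardI]
      have : 0 < Fintype.card F := Fintype.card_pos
      congr 1
      omega)
  set ec : Fin (Fintype.card (MulChar F ℂ)) ≃ Fin (Fintype.card F - 1) := finCongr hcardI with hec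
  refine ⟨fun i => χ (ec.symm i), fun i => hχ1 _, ?_, ?_⟩
  · intro i j h
    exact ec.symm.injective (hχ2 h)
  · intro g
    have h3 := hχ3 g
    rw [hsum] at h3
    refine Eq.trans h3 ?_
    congr 1
    exact (Equiv.sum_comp ec.symm (fun j => χ j g)).symm


end Cfsg.Agent.S2336
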