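import Mathlib
import Cfsg.Statements.S0157
import Cfsg.Agent.Lib.Helper1.CharFound8
import Cfsg.Agent.Lib.Helper7.Burnside
import Cfsg.Agent.S0161

set_option autoImplicit false
open Cfsg

namespace Cfsg.Agent.S0157

open Cfsg.Agent.Lib.Helper1 Cfsg.Agent.Lib.Helper4 Cfsg.Agent.Lib.Helper7
open scoped ComplexConjugate

/-- The character of a permutation representation counts fixed points. -/
theorem permChar {G : Type*} [Group G] (X : Type*) [MulAction G X] [Fintype X] [DecidableEq X]
    (g : G) : (Representation.ofMulAction ℂ G X).character g = (Nat.card (MulAction.fixedBy X g) : ℂ) := by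
  unfold Representation.character
  rw [LinearMap.trace_eq_matrix_trace ℂ (MonoidAlgebra.basis X ℂ), Matrix.trace]
  simp only [Matrix.diag_apply, LinearMap.toMatrix_apply, MonoidAlgebra.basis_apply,
    Representation.ofMulAction_single]
  have h1 : ∀ x : X, ((MonoidAlgebra.basis X ℂ).repr (MonoidAlgebra.single (g • x) (1 : ℂ))) x
      = if g • x = x then 1 else 0 := by
    intro x
    by_cases hx : g • x = x
    · simp [MonoidAlgebra.basis, hx]
    · simp [MonoidAlgebra.basis, hx]
  rw [Finset.sum_congr rfl fun x _ => h1 x, Finset.sum_boole]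
  congr 1
  rw [Nat.card_eq_fintype_card, Fintype.card_subtype]
  congr 1

/-- The permutation character is a character. -/
theorem isCharacter_perm {G : Type*} [Group G] (X : Type*) [MulAction G X] [Finite X] :
    Cfsg.IsCharacter G (fun g => (Nat.card (MulAction.fixedBy X g) : ℂ)) := by
  classical
  have : Fintype X := Fintype.ofFinite X
  have := isCharacter_character (Representation.ofMulAction ℂ G X)
  convert this using 1
  funext g
  exact (permChar X g).symm

/-- Fixed points on the square. -/
theorem card_fixedBy_prod {G : Type*} [Group G] (X : Type*) [MulAction G X] [Finite X] (g : G) :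
    Nat.card (MulAction.fixedBy (X × X) g) =
      Nat.card (MulAction.fixedBy X g) * Nat.card (MulAction.fixedBy X g) := by
  rw [← Nat.card_prod]
  apply Nat.card_congr
  refine ⟨fun p => (⟨p.1.1, ?_⟩, ⟨p.1.2, ?_⟩), fun q => ⟨(q.1.1, q.2.1), ?_⟩, ?_, ?_⟩
  · have := p.2
    rw [MulAction.mem_fixedBy] at this ⊢
    exact congrArg Prod.fst this
  · have := p.2
    rw [MulAction.mem_fixedBy] at this ⊢
    exact congrArg Prod.snd this
  · rw [MulAction.mem_fixedBy]
    have h1 := q.1.2
    have h2 := q.2.2
    rw [MulAction.mem_fixedBy] at h1 h2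
    exact Prod.ext h1 h2
  · intro p; rfl
  · intro q; rfl

theorem sum_perm {G : Type*} [Group G] [Fintype G] (X : Type*) [MulAction G X] [Finite X]
    [MulAction.IsPretransitive G X] [Nonempty X] :
    ∑ g : G, (Nat.card (MulAction.fixedBy X g) : ℂ) = Nat.card G := by
  have := burnside_nat G X
  rw [card_orbits_of_pretransitive, one_mul] at this
  rw [← this]
  push_cast
  rfl

theorem sum_perm_sq {G : Type*} [Group G] [Fintype G] (X : Type*) [MulAction G X] [Finite X] :
    ∑ g : G, (Nat.card (MulAction.fixedBy X g) : ℂ) * (Nat.card (MulAction.fixedBy X g) : ℂ)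
      = Nat.card (MulAction.orbitRel.Quotient G (X × X)) * Nat.card G := by
  have := burnside_nat G (X × X)
  rw [← Nat.cast_mul, ← this]
  push_cast
  refine Finset.sum_congr rfl fun g _ => ?_
  rw [card_fixedBy_prod]
  push_cast
  rfl

theorem mk_eq_mk_iff {G : Type*} [Group G] (X : Type*) [MulAction G X] (p q : X × X) :
    (Quotient.mk'' p : MulAction.orbitRel.Quotient G (X × X)) = Quotient.mk'' q ↔
      ∃ g : G, g • q.1 = p.1 ∧ g • q.2 = p.2 := by
  rw [Quotient.eq'', MulAction.orbitRel_apply, MulAction.mem_orbit_iff]
  constructor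
  · rintro ⟨g, hg⟩
    exact ⟨g, congrArg Prod.fst hg, congrArg Prod.snd hg⟩
  · rintro ⟨g, h1, h2⟩
    exact ⟨g, Prod.ext h1 h2⟩

theorem card_orbits_sq_eq_two_iff {G : Type*} [Group G] (X : Type*) [MulAction G X] [Finite X]
    [MulAction.IsPretransitive G X] (hX : 2 ≤ Nat.card X) :
    Nat.card (MulAction.orbitRel.Quotient G (X × X)) = 2 ↔ MulAction.IsMultiplyPretransitive G X 2 := by
  classical
  have hnt : Nontrivial X := Finite.one_lt_card_iff_nontrivial.1 hX
  obtain ⟨a, b, hab⟩ := exists_pair_ne X
  have hdiag : ∀ (c d e : X), d ≠ e →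
      (Quotient.mk'' (c, c) : MulAction.orbitRel.Quotient G (X × X)) ≠ Quotient.mk'' (d, e) := by
    intro c d e hde h
    rw [mk_eq_mk_iff] at h
    obtain ⟨g, h1, h2⟩ := h
    apply hde
    have : g • d = g • e := h1.trans h2.symm
    exact smul_left_cancel g this
  rw [MulAction.is_two_pretransitive_iff, Nat.card_eq_two_iff]
  constructor
  · rintro ⟨x, y, hxy, huniv⟩ a' b' c' d' hab' hcd'
    have key : ∀ q : MulAction.orbitRel.Quotient G (X × X), q = x ∨ q = y := by
      intro q
      have : q ∈ ({x, y} : Set _) := by rw [huniv]; trivial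
      simpa using this
    have h1 := hdiag a' a' b' hab'
    have h2 := hdiag a' c' d' hcd'
    have h3 : (Quotient.mk'' (c', d') : MulAction.orbitRel.Quotient G (X × X)) = Quotient.mk'' (a', b') := by
      rcases key (Quotient.mk'' (a', a')) with e1 | e1 <;> rcases key (Quotient.mk'' (a', b')) with e2 | e2 <;>
        rcases key (Quotient.mk'' (c', d')) with e3 | e3
      · exact absurd (e1.trans e2.symm) h1
      · exact absurd (e1.trans e2.symm) h1
      · exact absurd (e1.trans e3.symm) h2
      · exact e3.trans e2.symm
      · exact e3.trans e2.symm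
      · exact absurd (e1.trans e3.symm) h2
      · exact absurd (e1.trans e2.symm) h1
      · exact absurd (e1.trans e2.symm) h1
    rw [mk_eq_mk_iff] at h3
    exact h3
  · intro h2t
    refine ⟨Quotient.mk'' (a, a), Quotient.mk'' (a, b), hdiag a a b hab, ?_⟩
    rw [Set.eq_univ_iff_forall]
    intro q
    induction q using Quotient.inductionOn' with
    | _ p =>
    obtain ⟨c, d⟩ := p
    by_cases hcd : c = d
    · subst hcd
      left
      rw [mk_eq_mk_iff]
      obtain ⟨g, hg⟩ := MulAction.exists_smul_eq G a c
      exact ⟨g, hg, hg⟩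
    · right
      rw [Set.mem_singleton_iff, mk_eq_mk_iff]
      exact h2t hab hcd

/-- For a transitive action of a finite group on a finite set with at least two points: the action is 2-transitive if and only if the function sending g to (number of fixed points of g) − 1 is an irreducible character. -/
theorem result {G : Type*} [Group G] [Finite G] (X : Type*) [MulAction G X] [Finite X] [MulAction.IsPretransitive G X] (hX : 2 ≤ Nat.card X) : Cfsg.IsIrrCharacter G (fun g => (Nat.card (MulAction.fixedBy X g) : ℂ) - 1) ↔ MulAction.IsMultiplyPretransitive G X 2 := by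
  classical
  have : Fintype G := Fintype.ofFinite G
  have hne : Nonempty X := (Nat.card_pos_iff.1 (by omega)).1
  set π : G → ℂ := fun g => (Nat.card (MulAction.fixedBy X g) : ℂ) with hπdef
  set one : G → ℂ := fun _ => 1 with honedef
  have hψ : (fun g => (Nat.card (MulAction.fixedBy X g) : ℂ) - 1) = π - one := rfl
  rw [hψ]
  have hπ : Cfsg.IsCharacter G π := isCharacter_perm X
  have hone : Cfsg.IsIrrCharacter G one := Cfsg.Agent.S0161.isIrrCharacter_one
  have hG0 : (Nat.card G : ℂ) ≠ 0 := Nat.cast_ne_zero.2 Nat.card_pos.ne'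
  have hπ1 : Cfsg.classInner π one = 1 := by
    rw [classInner_def]
    simp only [hπdef, honedef, map_one, mul_one]
    rw [sum_perm X, inv_mul_cancel₀ hG0]
  have h1π : Cfsg.classInner one π = 1 := by
    rw [← classInner_conj_symm, hπ1, map_one]
  have hππ : Cfsg.classInner π π = (Nat.card (MulAction.orbitRel.Quotient G (X × X)) : ℂ) := by
    rw [classInner_def]
    simp only [hπdef, Complex.conj_natCast]
    rw [sum_perm_sq X, mul_comm, mul_assoc, mul_inv_cancel₀ hG0, mul_one]
  have hnorm : Cfsg.classInner (π - one) (π - one)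
      = (Nat.card (MulAction.orbitRel.Quotient G (X × X)) : ℂ) - 1 := by
    rw [classInner_sub_left, classInner_sub_right, classInner_sub_right, hππ, hπ1, h1π,
      classInner_irr_self hone]
    ring
  have hchar : Cfsg.IsCharacter G (π - one) := by
    apply isCharacter_of_nat_mult _ (isClassFunction_sub (isClassFunction_of_isCharacter hπ)
      (isClassFunction_irr hone))
    intro χ hχ
    rw [classInner_sub_left]
    by_cases h : one = χ
    · subst h
      refine ⟨0, ?_⟩
      rw [hπ1, classInner_irr_self hone]
      simp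
    · rw [classInner_irr_ne hone hχ h, sub_zero]
      exact classInner_char_irr_nat hπ hχ
  rw [← card_orbits_sq_eq_two_iff X hX]
  constructor
  · intro hirr
    have := classInner_irr_self hirr
    rw [hnorm] at this
    have h2 : (Nat.card (MulAction.orbitRel.Quotient G (X × X)) : ℂ) = ((2 : ℕ) : ℂ) := by
      rw [sub_eq_iff_eq_add] at this
      rw [this]; norm_num
    exact_mod_cast h2
  · intro h2
    apply isIrrCharacter_of_norm_one hchar
    rw [hnorm, h2]
    norm_num

end Cfsg.Agent.S0157
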