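import Cfsg.Statements.S2332
import Cfsg.Agent.Lib.Helper4.SLMin.Main
import Cfsg.Agent.Lib.Lead.SLMin_X

set_option autoImplicit false
open Cfsg

namespace Cfsg.Agent.S2332

/-- Smallest degree of a non-linear irreducible complex representation of SL_n over a finite field with q elements, for n ≥ 3 and (n, q) not one of (3, 2), (3, 4), (4, 2), (4, 3): every irreducible complex representation of SL_n(F) of degree at least 2 has degree at least (q^n − q)/(q − 1), and there is an irreducible complex representation of exactly that degree. -/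
theorem result {F : Type*} [Field F] [Fintype F] [DecidableEq F] (n : ℕ) (hn : 3 ≤ n)
    (hex : (n, Fintype.card F) ≠ (3, 2) ∧ (n, Fintype.card F) ≠ (3, 4) ∧ (n, Fintype.card F) ≠ (4, 2) ∧ (n, Fintype.card F) ≠ (4, 3)) :
    (∀ (k : ℕ) (ρ : Representation ℂ (Matrix.SpecialLinearGroup (Fin n) F) (Fin k → ℂ)), ρ.IsIrreducible → 2 ≤ k → (Fintype.card F ^ n - Fintype.card F) / (Fintype.card F - 1) ≤ k) ∧
    (∃ ρ : Representation ℂ (Matrix.SpecialLinearGroup (Fin n) F) (Fin ((Fintype.card F ^ n - Fintype.card F) / (Fintype.card F - 1)) → ℂ), ρ.IsIrreducible) := by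
  classical
  obtain ⟨m, rfl⟩ : ∃ m, n = m + 2 := ⟨n - 2, by omega⟩
  have hexc : ¬ Cfsg.Agent.Lib.Helper4.SLMin.IsExc (m + 2) (Fintype.card F) := by
    rintro (h | h | h | h)
    · exact hex.1 h
    · exact hex.2.1 h
    · exact hex.2.2.1 h
    · exact hex.2.2.2 h
  obtain ⟨ψ0, hψ0⟩ : ∃ ψ0 : AddChar F ℂ, ψ0 ≠ 1 := by
    obtain ⟨ψ, hψ⟩ := (AddChar.exists_apply_ne_zero (α := F) (a := 1)).2 one_ne_zero
    refine ⟨ψ, ?_⟩
    rintro rfl
    exact hψ (AddChar.one_apply _)
  constructor
  · intro k ρ hirr hk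
    have hχ : Cfsg.IsIrrCharacter (Matrix.SpecialLinearGroup (Fin (m + 2)) F) ρ.character :=
      ⟨k, ρ, hirr, rfl⟩
    have h1 : ρ.character 1 = (k : ℂ) := by
      rw [Representation.char_one]
      simp
    have hne : ρ.character 1 ≠ 1 := by
      rw [h1]
      intro h
      have : k = 1 := by exact_mod_cast h
      omega
    obtain ⟨k', hk', hb⟩ := Cfsg.Agent.Lib.Helper4.SLMin.main_aux ψ0 hψ0 m (by omega) hexc
      ρ.character hχ hne
    have : k = k' := by
      have h2 : (k : ℂ) = k' := by rw [← h1, hk']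
      exact_mod_cast h2
    rw [this]
    exact hb
  · obtain ⟨χ, hχ, hχ1⟩ := Cfsg.Agent.Lib.Helper4.SLMin.exists_irr (F := F) (m + 2) hn
    obtain ⟨k, ρ, hirr, rfl⟩ := hχ
    have hk : k = Cfsg.Agent.Lib.Helper4.SLMin.bnd (Fintype.card F) (m + 2) := by
      have h1 : ρ.character 1 = (k : ℂ) := by
        rw [Representation.char_one]
        simp
      rw [h1] at hχ1
      exact_mod_cast hχ1
    subst hk
    exact ⟨ρ, hirr⟩

end Cfsg.Agent.S2332
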