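import Mathlib
import Cfsg.Statements.S5344
import Cfsg.Agent.Lib.Helper9.S4Table4

set_option autoImplicit false
open Cfsg
open Cfsg.Agent

namespace Cfsg.Agent.S5344

/-- In a set of 3-transpositions, let a, b, c be members with a and c different and commuting, while neither a nor c commutes with b (a 3-string). Then there is an injective homomorphism from the symmetric group of degree 4 into the ambient group sending the transpositions (0 1), (1 2), (2 3) to a, b, c; so a, b, c generate a copy of the symmetric group of degree 4 in which they are transpositions. -/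
theorem result {G : Type*} [Group G] {D : Set G} (hD : Cfsg.IsThreeTranspositionSet D) {a b c : G} (ha : a ∈ D) (hb : b ∈ D) (hc : c ∈ D) (hac : a ≠ c) (hac' : Commute a c) (hab : ¬ Commute a b) (hbc : ¬ Commute b c) : ∃ φ : Equiv.Perm (Fin 4) →* G, Function.Injective φ ∧ φ (Equiv.swap 0 1) = a ∧ φ (Equiv.swap 1 2) = b ∧ φ (Equiv.swap 2 3) = c := by
  obtain ⟨hord, hprod⟩ := hD
  have hsq : ∀ d ∈ D, d * d = 1 := by
    intro d hd
    have := pow_orderOf_eq_one d
    rw [hord d hd, pow_two] at this
    exact this
  have ha2 := hsq a ha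
  have hb2 := hsq b hb
  have hc2 := hsq c hc
  have hai : a⁻¹ = a := inv_eq_of_mul_eq_one_right ha2
  have hbi : b⁻¹ = b := inv_eq_of_mul_eq_one_right hb2
  have hci : c⁻¹ = c := inv_eq_of_mul_eq_one_right hc2
  have hab3 : (a * b) ^ 3 = 1 := by
    rcases hprod a ha b hb with h | h
    · exfalso
      apply hab
      show a * b = b * a
      have h1 : a * b = (a * b)⁻¹ := by
        rw [eq_inv_iff_mul_eq_one, ← pow_two]
        exact h
      rw [h1, mul_inv_rev, hai, hbi]
    · exact h
  have hbc3 : (b * c) ^ 3 = 1 := by
    rcases hprod b hb c hc with h | h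
    · exfalso
      apply hbc
      show b * c = c * b
      have h1 : b * c = (b * c)⁻¹ := by
        rw [eq_inv_iff_mul_eq_one, ← pow_two]
        exact h
      rw [h1, mul_inv_rev, hbi, hci]
    · exact h
  have hbab : b * (a * b) = a * (b * a) := by
    rw [pow_three] at hab3
    have h1 : b * (a * b) = a⁻¹ * (a * b * (a * b * (a * b))) * (b⁻¹ * a⁻¹) := by group
    rw [h1, hab3, hai, hbi, mul_one]
  have hcbc : c * (b * c) = b * (c * b) := by
    rw [pow_three] at hbc3
    have h1 : c * (b * c) = b⁻¹ * (b * c * (b * c * (b * c))) * (c⁻¹ * b⁻¹) := by group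
    rw [h1, hbc3, hbi, hci, mul_one]
  have hca : c * a = a * c := hac'.eq.symm
  have hne : a * c ≠ 1 := by
    intro h
    apply hac
    have := eq_inv_of_mul_eq_one_left h
    rw [hci] at this
    exact this
  exact H9S4.exists_hom a b c ha2 hb2 hc2 hca hbab hcbc hne

end Cfsg.Agent.S5344
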