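import Mathlib
import Cfsg.Agent.Lib.Helper6.Comm
import Cfsg.Agent.Lib.Helper6.Conj2
import Cfsg.Statements.S3061

set_option autoImplicit false
open Cfsg Cfsg.Agent.Lib.Helper6
open scoped commutatorElement

namespace Cfsg.Agent.S3061


/-- sub-lemma: a member `A ≤ M` of the family commutes with every element of the second centre of `M` -/
theorem comm_second_center {S : Type*} [Group S] [Finite S] {A M : Subgroup S}
    (hA : A ∈ dStarFamily S) (hAM : A ≤ M) {x : S} (hxM : x ∈ M)
    (hx : ∀ k : ℤ, ∀ m ∈ M, ⁅x ^ k, m⁆ ∈ M ⊓ Subgroup.centralizer (M : Set S)) :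
    ∀ a ∈ A, a * x = x * a := by
  obtain ⟨hAc, hAf⟩ := hA
  apply hAf x
  set X := Subgroup.zpowers x with hX
  set ZM := M ⊓ Subgroup.centralizer (M : Set S) with hZM
  have hXM : X ≤ M := Subgroup.zpowers_le.mpr hxM
  have hMN : M ≤ Subgroup.normalizer (ZM : Set S) := by
    intro m hm
    apply mem_normalizer_of_forall_conj_mem
    intro z hz
    have : m * z * m⁻¹ = z := by
      have := Subgroup.mem_centralizer_iff.mp hz.2 m hm
      rw [this]; group
    rw [this]; exact hz
  have hXA : ⁅X, A⁆ ≤ ZM := by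
    rw [Subgroup.commutator_le]
    intro y hy a ha
    obtain ⟨k, rfl⟩ := Subgroup.mem_zpowers_iff.mp hy
    exact hx k a (hAM ha)
  have hAX : ⁅A, X⁆ ≤ ZM := by rw [Subgroup.commutator_comm]; exact hXA
  have hAA : ⁅A, A⁆ ≤ ZM := by
    have : ⁅A, A⁆ = ⊥ := Subgroup.commutator_self_eq_bot_iff.mpr hAc
    rw [this]; exact bot_le
  have hXX : ⁅X, X⁆ ≤ ZM := by
    have hc : IsMulCommutative X := by rw [hX]; infer_instance
    have : ⁅X, X⁆ = ⊥ := Subgroup.commutator_self_eq_bot_iff.mpr hc
    rw [this]; exact bot_le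
  have hAN := hAM.trans hMN
  have hXN := hXM.trans hMN
  have h1 : ⁅A ⊔ X, A⁆ ≤ ZM := commutator_sup_left_le A A X ZM hAA hXA hAN hXN
  have h2 : ⁅A ⊔ X, X⁆ ≤ ZM := commutator_sup_left_le X A X ZM hAX hXX hAN hXN
  have h3 : ⁅A ⊔ X, A ⊔ X⁆ ≤ ZM := commutator_sup_right_le (A ⊔ X) A X ZM h1 h2 hAN hXN
  have h4 : ZM ≤ Subgroup.centralizer ((A ⊔ X : Subgroup S) : Set S) :=
    inf_le_right.trans (Subgroup.centralizer_le (fun y hy => (sup_le hAM hXM) hy))
  exact Subgroup.commutator_eq_bot_iff_le_centralizer.mpr (h3.trans h4)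

theorem comm_of_mem_family {S : Type*} [Group S] [Finite S] {p : ℕ} [Fact p.Prime]
    (hS : IsPGroup p S) {A B : Subgroup S} (hA : A ∈ dStarFamily S) (hB : B ∈ dStarFamily S) :
    ∀ a ∈ A, ∀ b ∈ B, a * b = b * a := by
  by_contra hcon
  push Not at hcon
  obtain ⟨a, ha, b, hb, hab⟩ := hcon
  set M : Subgroup S := A ⊔ B with hM
  have haM : a ∈ M := Subgroup.mem_sup_left ha
  have hbM : b ∈ M := Subgroup.mem_sup_right hb
  -- the quotient of M by its centre is a nontrivial p-group
  have hane : (QuotientGroup.mk (⟨a, haM⟩ : M) : M ⧸ Subgroup.center M) ≠ 1 := by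
    intro h1
    have h2 : (⟨a, haM⟩ : M) ∈ Subgroup.center M := (QuotientGroup.eq_one_iff _).mp h1
    have h3 := Subgroup.mem_center_iff.mp h2 ⟨b, hbM⟩
    exact hab (congrArg Subtype.val h3).symm
  haveI : Nontrivial (M ⧸ Subgroup.center M) := nontrivial_of_ne _ _ hane
  have hQ : IsPGroup p (M ⧸ Subgroup.center M) := (hS.to_subgroup M).to_quotient _
  haveI := hQ.center_nontrivial
  obtain ⟨⟨xbar, hxbar⟩, hne⟩ := exists_ne (1 : Subgroup.center (M ⧸ Subgroup.center M))
  obtain ⟨x', rfl⟩ := QuotientGroup.mk_surjective xbar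
  have hx'ne : (x' : M) ∉ Subgroup.center M := by
    intro h1
    apply hne
    apply Subtype.ext
    exact (QuotientGroup.eq_one_iff _).mpr h1
  have hx : ∀ k : ℤ, ∀ m ∈ M, ⁅((x' : M) : S) ^ k, m⁆ ∈ M ⊓ Subgroup.centralizer (M : Set S) := by
    intro k m hm
    have h1 : ⁅(x' : M) ^ k, (⟨m, hm⟩ : M)⁆ ∈ Subgroup.center M := by
      rw [← QuotientGroup.eq_one_iff]
      have h2 : ((⁅(x' : M) ^ k, (⟨m, hm⟩ : M)⁆ : M) : M ⧸ Subgroup.center M) =
          ⁅(QuotientGroup.mk x' : M ⧸ Subgroup.center M) ^ k, QuotientGroup.mk ⟨m, hm⟩⁆ := by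
        rw [commutatorElement_def, commutatorElement_def]; simp
      rw [h2, commutatorElement_eq_one_iff_commute]
      have h3 : (QuotientGroup.mk x' : M ⧸ Subgroup.center M) ^ k ∈
          Subgroup.center (M ⧸ Subgroup.center M) := Subgroup.zpow_mem _ hxbar k
      exact (Subgroup.mem_center_iff.mp h3 _).symm
    have h5 : ((⁅(x' : M) ^ k, (⟨m, hm⟩ : M)⁆ : M) : S) = ⁅((x' : M) : S) ^ k, m⁆ := by
      rw [commutatorElement_def, commutatorElement_def]; simp
    rw [← h5]
    refine ⟨Subtype.coe_prop _, ?_⟩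
    change _ ∈ Subgroup.centralizer (M : Set S)
    rw [Subgroup.mem_centralizer_iff]
    intro y hy
    have h6 := Subgroup.mem_center_iff.mp h1 ⟨y, hy⟩
    exact congrArg Subtype.val h6
  have hcA := comm_second_center hA (le_sup_left : A ≤ M) x'.2 hx
  have hcB := comm_second_center hB (le_sup_right : B ≤ M) x'.2 hx
  apply hx'ne
  have hle : M ≤ Subgroup.centralizer ({(x' : S)} : Set S) := by
    refine sup_le ?_ ?_
    · intro a ha
      rw [Subgroup.mem_centralizer_iff]
      rintro _ rfl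
      exact (hcA a ha).symm
    · intro b hb
      rw [Subgroup.mem_centralizer_iff]
      rintro _ rfl
      exact (hcB b hb).symm
  rw [Subgroup.mem_center_iff]
  intro y
  apply Subtype.ext
  have := Subgroup.mem_centralizer_iff.mp (hle y.2) (x' : S) rfl
  simpa using this.symm

/-- Let S be a finite p-group. Then D*(S) itself belongs to the family that generates it: D*(S) is abelian, and every x ∈ S with ⟨D*(S), x⟩ of class at most two centralizes D*(S). Hence D*(S) is the unique maximal member of that family. -/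
theorem result {S : Type*} [Group S] [Finite S] {p : ℕ} [Fact p.Prime] (hS : IsPGroup p S) :
    Cfsg.dStar S ∈ Cfsg.dStarFamily S := by
  refine ⟨?_, ?_⟩
  · have h1 : dStar S = Subgroup.closure (⋃ A ∈ dStarFamily S, (A : Set S)) := by
      unfold dStar
      rw [sSup_eq_iSup, Subgroup.closure_iUnion]
      congr 1
      funext A
      rw [Subgroup.closure_iUnion]
      congr 1
      funext hA
      exact (Subgroup.closure_eq A).symm
    rw [h1]
    apply Subgroup.isMulCommutative_closure
    intro a ha b hb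
    simp only [Set.mem_iUnion] at ha hb
    obtain ⟨A, hA, haA⟩ := ha
    obtain ⟨B, hB, hbB⟩ := hb
    exact comm_of_mem_family hS hA hB a haA b hbB
  · intro x hx
    have hle : dStar S ≤ Subgroup.centralizer ({x} : Set S) := by
      unfold dStar
      apply sSup_le
      intro A hA a ha
      rw [Subgroup.mem_centralizer_iff]
      intro y hy
      have hy' : y = x := hy
      rw [hy']
      have hAD : A ≤ dStar S := le_sSup hA
      have hsup : A ⊔ Subgroup.zpowers x ≤ dStar S ⊔ Subgroup.zpowers x :=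
        sup_le_sup_right hAD _
      have h2 : ⁅⁅A ⊔ Subgroup.zpowers x, A ⊔ Subgroup.zpowers x⁆, A ⊔ Subgroup.zpowers x⁆ = ⊥ := by
        rw [eq_bot_iff, ← hx]
        exact Subgroup.commutator_mono (Subgroup.commutator_mono hsup hsup) hsup
      exact (hA.2 x h2 a ha).symm
    intro a ha
    have := Subgroup.mem_centralizer_iff.mp (hle ha) x rfl
    exact this.symm

end Cfsg.Agent.S3061
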