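import Mathlib
import Cfsg.Statements.S1969
import Cfsg.Agent.Lib.Helper4.Sect6
-- import your own Cfsg.Agent.* helpers here

set_option autoImplicit false
universe u
open Cfsg
open Cfsg.Agent.Lib.Helper4 Cfsg.Agent.Lib.Helper7

namespace Cfsg.Agent.S1969

universe v

theorem fchain_mem {X : Type v} [Group X] {𝓥 : Set (Subgroup X → Subgroup X)} {H T M : Subgroup X}
    {A : Set X} {c : X} (h : FChain 𝓥 H T A c)
    (hM : ∀ W' ∈ 𝓥, Subgroup.normalizer ((W' T : Subgroup X) : Set X) ≤ M) : c ∈ M := by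
  induction h with
  | nil _ => exact M.one_mem
  | step c y _ h2 _ ih =>
    obtain ⟨W', hW', hy⟩ := h2
    exact M.mul_mem (hM W' hW' hy.2) ih

/-- Let p be a prime, G a finite group and W an isomorphism-invariant p-group functor (W assigns to every group Q a subgroup W(Q), nontrivial whenever Q is a nontrivial finite p-group, and every isomorphism from a finite p-group Q onto a group R carries W(Q) onto W(R)). Suppose that W(S*) is normal in G* whenever G* = K/R is a section of G with C_{G*}(O_p(G*)) ≤ O_p(G*) and S* is a Sylow p-subgroup of G*. Then W controls strong fusion in every section of G: for every section K/R and every Sylow p-subgroup T of K/R, the subgroup W(T) controls strong fusion in K/R. -/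
theorem result {G : Type u} [Group G] [Finite G] {p : ℕ} [Fact p.Prime] (W : ∀ (Q : Type u) [Group Q], Subgroup Q) (hW : Cfsg.IsCharPFunctor.{u} p W) (hloc : ∀ (K R : Subgroup G) [hR : (R.subgroupOf K).Normal], Subgroup.centralizer ((Cfsg.pCore p (↥K ⧸ R.subgroupOf K) : Subgroup (↥K ⧸ R.subgroupOf K)) : Set (↥K ⧸ R.subgroupOf K)) ≤ Cfsg.pCore p (↥K ⧸ R.subgroupOf K) → ∀ T : Sylow p (↥K ⧸ R.subgroupOf K), (Cfsg.inducedFunctor (G := (↥K ⧸ R.subgroupOf K)) W ((T : Subgroup (↥K ⧸ R.subgroupOf K)))).Normal) : ∀ (K R : Subgroup G) [hR : (R.subgroupOf K).Normal], ∀ T : Sylow p (↥K ⧸ R.subgroupOf K), Cfsg.ControlsStrongFusion p (Cfsg.inducedFunctor (G := (↥K ⧸ R.subgroupOf K)) W ((T : Subgroup (↥K ⧸ R.subgroupOf K)))) := by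
  have h𝓦 : ∀ W' ∈ ({W} : Set (∀ (Q : Type u) [Group Q], Subgroup Q)), Cfsg.IsCharPFunctor.{u} p W' := by
    intro W' hW'
    rw [Set.mem_singleton_iff.mp hW']; exact hW
  have hloc' : ∀ (K R : Subgroup G) [hR : (R.subgroupOf K).Normal],
      Subgroup.centralizer ((Cfsg.pCore p (↥K ⧸ R.subgroupOf K) : Subgroup (↥K ⧸ R.subgroupOf K)) :
        Set (↥K ⧸ R.subgroupOf K)) ≤ Cfsg.pCore p (↥K ⧸ R.subgroupOf K) →
      Cfsg.FamilyControlsStrongFusionIn p (indFam {W} (↥K ⧸ R.subgroupOf K)) ⊤ := by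
    intro K R hR hc
    obtain ⟨T⟩ : Nonempty (Sylow p (↥K ⧸ R.subgroupOf K)) := inferInstance
    apply fcsf_top_of_reach T
    intro A h hA hhA
    apply Reach.single hA ?_ hhA
    refine ⟨Cfsg.inducedFunctor W, ⟨W, rfl, rfl⟩, ⟨Subgroup.mem_top _, ?_⟩⟩
    have hn := hloc K R hc T
    rw [Subgroup.normalizer_eq_top_iff.mpr hn]
    exact Subgroup.mem_top _
  intro K R hR T
  have hmain := fcsf_of_sections (G := G) h𝓦 hloc' (↥K ⧸ R.subgroupOf K)
    (isSectionOf_quotient_subgroupOf K R)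
  refine ⟨T, inducedFunctor_le _, ?_⟩
  intro A hA
  refine ⟨hA, ?_⟩
  intro g hgA
  have hTi : ¬ p ∣ (T : Subgroup (↥K ⧸ R.subgroupOf K)).relIndex ⊤ := by
    rw [Subgroup.relIndex_top_right]; exact T.not_dvd_index
  obtain ⟨c, hc, hceq⟩ := reach_of_familyControls (indFam_isConjugacyFunctor h𝓦) hmain le_top
    T.isPGroup' hTi A g (Subgroup.mem_top _) hA hgA
  refine ⟨c, ?_, fun a ha => (hceq a ha).symm⟩
  apply fchain_mem hc
  rintro _ ⟨W', hW', rfl⟩
  rw [Set.mem_singleton_iff.mp hW']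

end Cfsg.Agent.S1969
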