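import Mathlib
import Cfsg.Statements.S5346
import Cfsg.Agent.Lib.Lead.InvProdP
import Cfsg.Agent.Lib.Lead.Core

set_option autoImplicit false
open Cfsg

namespace Cfsg.Agent.S5346

/-- Let D be a conjugation-invariant generating set of 3-transpositions of a finite group G and d a member of D. Then D has width 1 (no two different members of D commute) if and only if G is the product of the subgroup generated by d with the largest normal 3-subgroup of G. -/
theorem result {G : Type*} [Group G] [Finite G] {D : Set G} (hD : Cfsg.IsThreeTranspositionGroup D) {d : G} (hd : d ∈ D) : Cfsg.commutingWidth D = 1 ↔ Subgroup.zpowers d ⊔ Cfsg.pCore 3 G = ⊤ := by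
  classical
  obtain ⟨⟨hord, hprod⟩, hconj, hgen⟩ := hD
  have hsq : ∀ a ∈ D, a * a = 1 := by
    intro a ha
    rw [← pow_two, ← hord a ha, pow_orderOf_eq_one]
  have hinv : ∀ a ∈ D, a⁻¹ = a := fun a ha => inv_eq_of_mul_eq_one_left (hsq a ha)
  set S : Set ℕ := {n : ℕ | ∃ E : Set G, E ⊆ D ∧ E.Finite ∧ (∀ a ∈ E, ∀ b ∈ E, Commute a b) ∧ E.ncard = n} with hS
  have hbdd : BddAbove S := by
    refine ⟨Nat.card G, ?_⟩
    rintro n ⟨E, -, hEf, -, rfl⟩
    exact Set.ncard_le_card E
  have h1S : 1 ∈ S := ⟨{d}, by simpa using hd, Set.finite_singleton d, by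
    intro a ha b hb
    rw [Set.mem_singleton_iff] at ha hb
    rw [ha, hb], Set.ncard_singleton d⟩
  have hwidth : Cfsg.commutingWidth D = 1 ↔ ∀ a ∈ D, ∀ b ∈ D, Commute a b → a = b := by
    unfold Cfsg.commutingWidth
    constructor
    · intro h a ha b hb hab
      by_contra hne
      have h2 : 2 ∈ S := by
        refine ⟨{a, b}, ?_, Set.toFinite _, ?_, Set.ncard_pair hne⟩
        · intro x hx
          rcases hx with rfl | rfl
          · exact ha
          · exact hb
        · intro x hx y hy
          rcases hx with rfl | rfl <;> rcases hy with rfl | rfl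
          · exact Commute.refl _
          · exact hab
          · exact hab.symm
          · exact Commute.refl _
      have := le_csSup hbdd h2
      rw [h] at this
      omega
    · intro h
      apply le_antisymm
      · apply csSup_le ⟨1, h1S⟩
        rintro n ⟨E, hED, hEf, hEc, rfl⟩
        rw [Set.ncard_le_one hEf]
        intro a ha b hb
        exact h a (hED ha) b (hED hb) (hEc a ha b hb)
      · exact le_csSup hbdd h1S
  rw [hwidth]
  have hN := Cfsg.Agent.Lib.Lead.pCore_normal (G := G) 3
  have hNp := Cfsg.Agent.Lib.Lead.pCore_isPGroup (G := G) 3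
  constructor
  · intro h
    have hcube : ∀ a ∈ D, ∀ b ∈ D, (a * b) ^ 3 = 1 := by
      intro a ha b hb
      by_cases hab : a = b
      · subst hab; rw [hsq a ha, one_pow]
      · rcases hprod a ha b hb with h2 | h3
        · exfalso
          apply hab
          apply h a ha b hb
          have h4 : a * b * (a * b) = 1 := by rw [← pow_two]; exact h2
          have h3 : a * b = (a * b)⁻¹ := eq_inv_of_mul_eq_one_left h4
          rw [mul_inv_rev, hinv a ha, hinv b hb] at h3
          exact h3
        · exact h3
    have hDc : ∀ e ∈ D, e ∈ conjugatesOf d := by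
      intro e he
      change IsConj d e
      rw [isConj_iff]
      refine ⟨d * e, ?_⟩
      have h3 := hcube d hd e he
      rw [pow_succ, pow_two] at h3
      -- d e d e d e = 1
      have h5 : d * e * d = e * d * e := by
        have h6 : d * e * d * (e * d * e) = 1 := by
          rw [← h3]; group
        have h7 : d * e * d = (e * d * e)⁻¹ := eq_inv_of_mul_eq_one_left h6
        rw [h7, mul_inv_rev, mul_inv_rev, hinv e he, hinv d hd, mul_assoc]
      rw [mul_inv_rev, hinv e he, hinv d hd]
      calc d * e * d * (e * d) = (d * e * d) * e * d := by group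
        _ = e * d * e * e * d := by rw [h5]
        _ = e * d * (e * e) * d := by group
        _ = e * (d * d) := by rw [hsq e he]; group
        _ = e := by rw [hsq d hd, mul_one]
    have hcD : ∀ a ∈ conjugatesOf d, a ∈ D := by
      intro a ha
      change IsConj d a at ha
      rw [isConj_iff] at ha
      obtain ⟨g, rfl⟩ := ha
      exact hconj g d hd
    have key := Cfsg.Agent.Lib.Lead.InvProdP.main (G := G) (p := 3) Nat.prime_three (by norm_num) d
      (hord d hd) (by
        intro a ha b hb
        have h3 := hcube a (hcD a ha) b (hcD b hb)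
        have hdvd := orderOf_dvd_of_pow_eq_one h3
        rcases (Nat.dvd_prime Nat.prime_three).mp hdvd with h | h
        · exact ⟨0, by rw [h, pow_zero]⟩
        · exact ⟨1, by rw [h, pow_one]⟩)
    rw [eq_top_iff, ← hgen, Subgroup.closure_le]
    intro e he
    have h1 : d * e ∈ Cfsg.pCore 3 G := key d mem_conjugatesOf_self e (hDc e he)
    have h2 : e = d * (d * e) := by rw [← mul_assoc, hsq d hd, one_mul]
    rw [h2]
    exact Subgroup.mul_mem _ (Subgroup.mem_sup_left (Subgroup.mem_zpowers d)) (Subgroup.mem_sup_right h1)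
  · intro h a ha b hb hab
    by_contra hne
    have hcos : ∀ g : G, g ∈ Cfsg.pCore 3 G ∨ d * g ∈ Cfsg.pCore 3 G := by
      intro g
      have hg : g ∈ Subgroup.zpowers d ⊔ Cfsg.pCore 3 G := by rw [h]; trivial
      rw [Subgroup.mem_sup_of_normal_right] at hg
      obtain ⟨y, hy, z, hz, rfl⟩ := hg
      obtain ⟨k, rfl⟩ := hy
      rcases Int.even_or_odd' k with ⟨m, rfl | rfl⟩
      · left
        change d ^ (2 * m) * z ∈ _
        rw [zpow_mul, zpow_two, hsq d hd, one_zpow, one_mul]
        exact hz
      · right
        change d * (d ^ (2 * m + 1) * z) ∈ _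
        rw [zpow_add, zpow_mul, zpow_two, hsq d hd, one_zpow, one_mul, zpow_one, ← mul_assoc, hsq d hd, one_mul]
        exact hz
    have hnot : ∀ x ∈ D, x ∉ Cfsg.pCore 3 G := by
      intro x hx hxN
      obtain ⟨k, hk⟩ := hNp ⟨x, hxN⟩
      have hk' : x ^ (3 ^ k) = 1 := by
        have := congrArg Subtype.val hk
        simpa using this
      have hdvd := orderOf_dvd_of_pow_eq_one hk'
      rw [hord x hx] at hdvd
      have := Nat.Prime.dvd_of_dvd_pow Nat.prime_two hdvd
      omega
    have hda : d * a ∈ Cfsg.pCore 3 G := (hcos a).resolve_left (hnot a ha)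
    have hdb : d * b ∈ Cfsg.pCore 3 G := (hcos b).resolve_left (hnot b hb)
    have hab' : a * b ∈ Cfsg.pCore 3 G := by
      have : a * b = (d * a)⁻¹ * (d * b) := by
        rw [mul_inv_rev, hinv a ha]; group
      rw [this]
      exact Subgroup.mul_mem _ (Subgroup.inv_mem _ hda) hdb
    obtain ⟨k, hk⟩ := hNp ⟨a * b, hab'⟩
    have hk' : (a * b) ^ (3 ^ k) = 1 := by
      have := congrArg Subtype.val hk
      simpa using this
    have h2 : (a * b) ^ 2 = 1 := by
      rw [pow_two]
      calc a * b * (a * b) = a * (b * a) * b := by group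
        _ = a * (a * b) * b := by rw [hab.eq]
        _ = (a * a) * (b * b) := by group
        _ = 1 := by rw [hsq a ha, hsq b hb, one_mul]
    have hd1 := orderOf_dvd_of_pow_eq_one hk'
    have hd2 := orderOf_dvd_of_pow_eq_one h2
    have hcop : Nat.Coprime (3 ^ k) 2 := Nat.Coprime.pow_left k (by norm_num)
    have h1 : orderOf (a * b) = 1 := Nat.eq_one_of_dvd_coprimes hcop hd1 hd2
    rw [orderOf_eq_one_iff] at h1
    apply hne
    have := eq_inv_of_mul_eq_one_left h1
    rw [this, hinv b hb]

end Cfsg.Agent.S5346
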