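import Mathlib
import Cfsg.Statements.S0321
import Cfsg.Agent.Lib.Helper1.BNPar
import Cfsg.Agent.S0309

set_option autoImplicit false
open Cfsg

namespace Cfsg.Agent.S0321

open Cfsg.Agent.Lib.Helper1 DoubleCoset

theorem zpow_of_invol {W : Type*} [Group W] {x : W} (hx : x * x = 1) (k : ℤ) :
    x ^ k = 1 ∨ x ^ k = x := by
  have h2 : x ^ (2 : ℤ) = 1 := by rw [zpow_ofNat, pow_two, hx]
  have hk : x ^ k = x ^ (k % 2) := by
    conv_lhs => rw [← Int.mul_ediv_add_emod k 2, zpow_add, zpow_mul, h2, one_zpow, one_mul]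
  rcases Int.emod_two_eq_zero_or_one k with h | h
  · left; rw [hk, h, zpow_zero]
  · right; rw [hk, h, zpow_one]

theorem parabolic_singleton {G : Type*} [Group G] (P : Cfsg.BNPair G) {s : G} (hs : s ∈ P.S) :
    (P.parabolic {s} : Set G) = (P.B : Set G) ∪ doubleCoset s (P.B : Set G) P.B := by
  have hJ : ({s} : Set G) ⊆ P.S := Set.singleton_subset_iff.2 hs
  ext g
  rw [SetLike.mem_coe, mem_parabolic_iff P hJ]
  constructor
  · rintro ⟨m, hm, hg⟩
    rw [Subgroup.mem_closure_singleton] at hm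
    obtain ⟨k, rfl⟩ := hm
    have hmN : s ^ k ∈ P.N := P.N.zpow_mem (P.subset hs) k
    have hπ : bnπ P ⟨s ^ k, hmN⟩ = (bnπ P ⟨s, P.subset hs⟩) ^ k := by
      rw [← map_zpow]; rfl
    have hinv : bnπ P ⟨s, P.subset hs⟩ * bnπ P ⟨s, P.subset hs⟩ = 1 :=
      (bnData P).S_invol _ ((mem_bnS P).2 ⟨s, hs, rfl⟩)
    have hg' : g ∈ bnC P (bnπ P ⟨s ^ k, hmN⟩) := by rw [bnC_π]; exact hg
    rcases zpow_of_invol hinv k with h | h
    · left
      rw [hπ, h] at hg'
      have := ((bnData P).mem_C_one).1 hg'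
      exact this
    · right
      rw [hπ, h, bnC_π] at hg'
      exact hg'
  · rintro (hg | hg)
    · exact ⟨1, Subgroup.one_mem _, mem_doubleCoset.2 ⟨g, hg, 1, P.B.one_mem, by simp⟩⟩
    · exact ⟨s, Subgroup.subset_closure rfl, hg⟩

/-- For `n ∈ N` not in `B`, the union `B ∪ B n B` is (the underlying set of) a subgroup exactly when `n` agrees
modulo `B ⊓ N` with one of the distinguished representatives; thus the distinguished involutions are
determined by `B` and `N`. -/
theorem result {G : Type*} [Group G] (P : Cfsg.BNPair G) {n : G}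
    (hn : n ∈ P.N) (hnB : n ∉ P.B) :
    (∃ H : Subgroup G, (H : Set G) = (P.B : Set G) ∪ DoubleCoset.doubleCoset n (P.B : Set G) P.B) ↔ ∃ s ∈ P.S, s⁻¹ * n ∈ P.B := by
  constructor
  · rintro ⟨H, hH⟩
    have hBH : P.B ≤ H := by
      intro b hb
      have : b ∈ (H : Set G) := by rw [hH]; exact Or.inl hb
      exact this
    have hnH : n ∈ H := by
      have : n ∈ (H : Set G) := by rw [hH]; exact Or.inr (mem_doubleCoset_self P.B P.B n)
      exact this
    have hpar := eq_parabolic_of_le P H hBH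
    by_cases hJ : ∃ s, s ∈ P.S ∧ s ∈ H
    · obtain ⟨s, hs, hsH⟩ := hJ
      refine ⟨s, hs, ?_⟩
      have hsB : s ∉ P.B := by
        have hsC : s ∈ (bnData P).C (bnπ P ⟨s, P.subset hs⟩) :=
          (mem_bnC_π P).2 ⟨1, P.B.one_mem, 1, P.B.one_mem, by simp⟩
        exact (bnData P).not_mem_B_of_mem_S ((mem_bnS P).2 ⟨s, hs, rfl⟩) hsC
      have hs' : s ∈ (H : Set G) := hsH
      rw [hH] at hs'
      rcases hs' with h | h
      · exact absurd h hsB
      · have heq := doubleCoset_eq_of_mem h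
        exact (Cfsg.Agent.S0309.result P (P.subset hs) hn).1 heq
    · exfalso
      have hempty : {s | s ∈ P.S ∧ s ∈ H} = (∅ : Set G) := by
        ext s
        simp only [Set.mem_ofPred_eq, Set.mem_empty_iff_false, iff_false]
        exact fun h => hJ ⟨s, h⟩
      rw [hempty] at hpar
      have : P.parabolic ∅ = P.B := by
        unfold Cfsg.BNPair.parabolic
        rw [Subgroup.closure_empty, sup_bot_eq]
      rw [this] at hpar
      rw [hpar] at hnH
      exact hnB hnH
  · rintro ⟨s, hs, hsn⟩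
    have hdc : doubleCoset n (P.B : Set G) P.B = doubleCoset s (P.B : Set G) P.B :=
      ((Cfsg.Agent.S0309.result P (P.subset hs) hn).2 hsn).symm
    exact ⟨P.parabolic {s}, by rw [parabolic_singleton P hs, hdc]⟩

end Cfsg.Agent.S0321
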