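import Mathlib
import Cfsg.Statements.S0322
import Cfsg.Agent.Lib.Helper1.BNPar
import Cfsg.Agent.S0321

set_option autoImplicit false
open Cfsg

namespace Cfsg.Agent.S0322

open Cfsg.Agent.Lib.Helper1 DoubleCoset

theorem parabolic_S_eq_top {G : Type*} [Group G] (P : Cfsg.BNPair G) : P.parabolic P.S = ⊤ := by
  rw [eq_top_iff, ← P.sup_eq_top]
  apply sup_le le_sup_left
  conv_lhs => rw [← P.closure_sup]
  apply sup_le le_sup_right
  exact inf_le_left.trans le_sup_left

/-- A group with a (B,N)-pair of rank one acts doubly transitively on the left cosets of `B`. -/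
theorem result {G : Type*} [Group G] (P : Cfsg.BNPair G) (h : P.rank = 1) : MulAction.IsMultiplyPretransitive G (G ⧸ P.B) 2 := by
  unfold Cfsg.BNPair.rank at h
  obtain ⟨hsub, ⟨s⟩⟩ := Nat.card_eq_one_iff_unique.1 h
  have hS : P.S = {s.1} := by
    ext x
    constructor
    · intro hx
      have := congrArg Subtype.val (Subsingleton.elim (⟨x, hx⟩ : P.S) s)
      exact this
    · rintro rfl
      exact s.2
  have hcover : ∀ g : G, g ∉ P.B → g ∈ doubleCoset s.1 (P.B : Set G) P.B := by
    intro g hg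
    have h1 : g ∈ (P.parabolic {s.1} : Set G) := by
      rw [← hS, parabolic_S_eq_top]; exact Subgroup.mem_top g
    rw [Cfsg.Agent.S0321.parabolic_singleton P s.2] at h1
    rcases h1 with h1 | h1
    · exact absurd h1 hg
    · exact h1
  rw [MulAction.is_two_pretransitive_iff]
  intro a b c d hab hcd
  induction a using QuotientGroup.induction_on with | _ a =>
  induction b using QuotientGroup.induction_on with | _ b =>
  induction c using QuotientGroup.induction_on with | _ c =>
  induction d using QuotientGroup.induction_on with | _ d =>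
  have hab' : a⁻¹ * b ∉ P.B := fun h => hab (QuotientGroup.eq.2 h)
  have hcd' : c⁻¹ * d ∉ P.B := fun h => hcd (QuotientGroup.eq.2 h)
  obtain ⟨β, hβ, β', hβ', h1⟩ := mem_doubleCoset.1 (hcover _ hab')
  obtain ⟨γ, hγ, γ', hγ', h2⟩ := mem_doubleCoset.1 (hcover _ hcd')
  refine ⟨c * γ * β⁻¹ * a⁻¹, ?_, ?_⟩
  · change ((c * γ * β⁻¹ * a⁻¹ * a : G) : G ⧸ P.B) = (c : G ⧸ P.B)
    rw [QuotientGroup.eq]
    have : (c * γ * β⁻¹ * a⁻¹ * a)⁻¹ * c = β * γ⁻¹ := by group
    rw [this]
    exact P.B.mul_mem hβ (P.B.inv_mem hγ)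
  · change ((c * γ * β⁻¹ * a⁻¹ * b : G) : G ⧸ P.B) = (d : G ⧸ P.B)
    rw [QuotientGroup.eq]
    have hb : b = a * (β * s.1 * β') := by rw [← h1]; group
    have hd : d = c * (γ * s.1 * γ') := by rw [← h2]; group
    have : (c * γ * β⁻¹ * a⁻¹ * b)⁻¹ * d = β'⁻¹ * γ' := by
      rw [hb, hd]; group
    rw [this]
    exact P.B.mul_mem (P.B.inv_mem hβ') hγ'

end Cfsg.Agent.S0322
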