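import Mathlib
import Cfsg.Statements.S0319
import Cfsg.Agent.Lib.Helper1.BNPar
import Cfsg.Agent.Lib.Helper1.Tits3
import Cfsg.Agent.S0322

set_option autoImplicit false
open Cfsg

namespace Cfsg.Agent.S0319

open Cfsg.Agent.Lib.Helper1 DoubleCoset
open scoped Pointwise

/-- A perfect group which is the product of a normal subgroup and a solvable subgroup equals the
normal subgroup. -/
theorem eq_top_of_sup_solvable {G : Type*} [Group G] (H B : Subgroup G) [hH : H.Normal]
    (hsolv : Group.IsSolvable B) (hperf : commutator G = ⊤) (hsup : H ⊔ B = ⊤) : H = ⊤ := by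
  by_contra hne
  have hnt : Nontrivial (G ⧸ H) := QuotientGroup.nontrivial_iff.2 hne
  let φ : B →* G ⧸ H := (QuotientGroup.mk' H).comp B.subtype
  have hφ : Function.Surjective φ := by
    intro q
    obtain ⟨g, rfl⟩ := QuotientGroup.mk'_surjective H q
    have hg : g ∈ ((H ⊔ B : Subgroup G) : Set G) := by rw [hsup]; exact Subgroup.mem_top g
    rw [Subgroup.normal_mul] at hg
    obtain ⟨h, hh, b, hb, rfl⟩ := Set.mem_mul.1 hg
    refine ⟨⟨b, hb⟩, ?_⟩
    change (QuotientGroup.mk' H) b = (QuotientGroup.mk' H) (h * b)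
    have h1 : (QuotientGroup.mk' H) h = 1 := (QuotientGroup.eq_one_iff h).2 hh
    rw [map_mul, h1, one_mul]
  have hsolvQ : Group.IsSolvable (G ⧸ H) := solvable_of_surjective hφ
  have hlt := IsSolvable.commutator_lt_top_of_nontrivial (G ⧸ H)
  have htop : commutator (G ⧸ H) = ⊤ := by
    rw [commutator_def]
    have h1 : (⊤ : Subgroup (G ⧸ H)) = (⊤ : Subgroup G).map (QuotientGroup.mk' H) :=
      (Subgroup.map_top_of_surjective _ (QuotientGroup.mk'_surjective H)).symm
    rw [h1, ← Subgroup.map_commutator, ← commutator_def, hperf]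
  rw [htop] at hlt
  exact lt_irrefl _ hlt

/-- Simplicity criterion for groups with a (B,N)-pair: if the distinguished generators admit no
splitting into two non-empty mutually commuting parts, `B` is solvable, `G` is perfect and the intersection
of all conjugates of `B` is trivial, then `G` is simple. -/
theorem result {G : Type*} [Group G] [Nontrivial G]
    (P : Cfsg.BNPair G) (hirr : P.Irreducible) (hsolv : Group.IsSolvable P.B) (hperf : commutator G = ⊤)
    (hcore : P.B.normalCore = ⊥) : IsSimpleGroup G := by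
  refine { exists_pair_ne := exists_pair_ne G, eq_bot_or_eq_top_of_normal := ?_ }
  intro H hH
  set M := H ⊔ P.B with hMdef
  have hBM : P.B ≤ M := le_sup_right
  have hHM : H ≤ M := le_sup_left
  set J : Set G := {s | s ∈ P.S ∧ s ∈ M} with hJdef
  have hJ : J ⊆ P.S := fun _ h => h.1
  have hpar : M = P.parabolic J := eq_parabolic_of_le P M hBM
  by_cases hJe : J.Nonempty
  · by_cases hJ'e : (P.S \ J).Nonempty
    · exfalso
      obtain ⟨s, hs, s', hs', hcomm⟩ := hirr J hJ hJe hJ'e
      apply hcomm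
      have hsS : s ∈ P.S := hJ hs
      have hs'S : s' ∈ P.S := hs'.1
      -- abstract commutation
      have hHle : H ≤ (bnData P).par (bnImg P J) (bnImg_subset P J) := by
        rw [← parabolic_eq_par P hJ, ← hpar]; exact hHM
      have hmeet : ∃ h ∈ H, h ∈ (bnData P).C (bnπ P ⟨s, P.subset hsS⟩) := by
        have hsM : s ∈ ((H ⊔ P.B : Subgroup G) : Set G) := hs.2
        rw [Subgroup.normal_mul] at hsM
        obtain ⟨h, hh, b, hb, hhb⟩ := Set.mem_mul.1 hsM
        refine ⟨h, hh, (mem_bnC_π P).2 ⟨1, P.B.one_mem, b⁻¹, P.B.inv_mem hb, ?_⟩⟩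
        change h = 1 * s * b⁻¹
        have : s = h * b := hhb.symm
        rw [this]; group
      have hc := (bnData P).commute_of_normal (bnImg_subset P J) H hHle
        ((mem_bnImg_iff P hJ hsS).2 hs) ((mem_bnS P).2 ⟨s', hs'S, rfl⟩)
        (fun h => hs'.2 ((mem_bnImg_iff P hJ hs'S).1 h)) hmeet
      have hN : s * s' * s⁻¹ * s'⁻¹ ∈ P.N :=
        P.N.mul_mem (P.N.mul_mem (P.N.mul_mem (P.subset hsS) (P.subset hs'S))
          (P.N.inv_mem (P.subset hsS))) (P.N.inv_mem (P.subset hs'S))
      have h1 : bnπ P ⟨s * s' * s⁻¹ * s'⁻¹, hN⟩ = 1 := by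
        have : (⟨s * s' * s⁻¹ * s'⁻¹, hN⟩ : P.N)
            = ⟨s, P.subset hsS⟩ * ⟨s', P.subset hs'S⟩ * ⟨s, P.subset hsS⟩⁻¹ * ⟨s', P.subset hs'S⟩⁻¹ := rfl
        rw [this, map_mul, map_mul, map_mul, map_inv, map_inv, hc]
        group
      exact (bnπ_eq_one_iff P).1 h1
    · -- J = S
      right
      have hJS : J = P.S := by
        apply Set.Subset.antisymm hJ
        intro s hs
        by_contra hsJ
        exact hJ'e ⟨s, hs, hsJ⟩
      have hMtop : H ⊔ P.B = ⊤ := by
        rw [← hMdef, hpar, hJS, Cfsg.Agent.S0322.parabolic_S_eq_top]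
      exact eq_top_of_sup_solvable H P.B hsolv hperf hMtop
  · -- J = ∅
    left
    have hJ0 : J = ∅ := Set.not_nonempty_iff_eq_empty.1 hJe
    have hMB : M = P.B := by
      rw [hpar, hJ0]
      unfold Cfsg.BNPair.parabolic
      rw [Subgroup.closure_empty, sup_bot_eq]
    have hHB : H ≤ P.B := by rw [← hMB]; exact hHM
    have := (Subgroup.normal_le_normalCore (H := P.B) (N := H)).2 hHB
    rw [hcore] at this
    exact le_bot_iff.1 this

end Cfsg.Agent.S0319
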