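import Mathlib
-- Template for statement S1068 (row 1068; see /opt/grader/pristine/manifest.json for weights).
-- Copy to Cfsg/Agent/S1068.lean and replace the sorry. The statement below is byte-identical to the frozen
-- statement Cfsg.CfsgFrozen.S1068 (Cfsg/Statements/S1068.lean; the theorem Cfsg.twisted_f4_card);
-- the grader kernel-checks Cfsg.Agent.S1068.result against that frozen type. Keep the theorem IN THIS FILE
-- (a `result` declared elsewhere and merely imported here is not credited); helpers may live anywhere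
-- under Cfsg/Agent/.
import Cfsg.Statements.S1068
import Cfsg.Agent.Lib.Helper3.F4T18

set_option autoImplicit false
open Cfsg
open Cfsg.Agent.Lib.Helper3.RF4 Cfsg.Agent.Lib.Helper3.ChevM

namespace Cfsg.Agent.S1068

/-- `|²F₄(q)| = q¹² (q - 1)(q³ + 1)(q⁴ - 1)(q⁶ + 1)` for `q = 2^(2m+1)` (θ = 2^m-th power map), every `m ≥ 0`. -/
theorem result {K : Type*} [Field K] [Fintype K] {m : ℕ} (hK : Fintype.card K = 2 ^ (2 * m + 1)) :
    Nat.card ↥(Cfsg.Lie.twistedF4 K (2 ^ m)) =
      (2 ^ (2 * m + 1)) ^ 12 * (2 ^ (2 * m + 1) - 1) * ((2 ^ (2 * m + 1)) ^ 3 + 1) * ((2 ^ (2 * m + 1)) ^ 4 - 1) * ((2 ^ (2 * m + 1)) ^ 6 + 1) := by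
  haveI : Fact (Nat.Prime 2) := ⟨by norm_num⟩
  haveI : CharP K 2 := charP_of_card_eq_prime_pow hK
  exact card_tF4 (K := K) m hK

end Cfsg.Agent.S1068
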