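import Cfsg.Statements.S0779
import Mathlib
import Cfsg.Agent.Lib.Helper2.Herm

set_option autoImplicit false
open Cfsg

namespace Cfsg.Agent.S0779


open Cfsg.Agent.Lib.Helper2.Herm
open Matrix

/-- Unitary transvections: let |F| = q², h the standard Hermitian form Σ x_i y_i^q and v ≠ 0 with h(v, v) = 0. The linear map x ↦ x + c h(x, v) v is an isometry of h if and only if c = 0 or c^(q−1) = −1. -/
theorem result {F : Type*} [Field F] [Fintype F] {q : ℕ} (hF : Fintype.card F = q ^ 2) (n : ℕ) (v : Fin n → F) (hv : v ≠ 0) (hv0 : Cfsg.hermForm n F q v v = 0) (c : F) : (∀ x y : Fin n → F, Cfsg.hermForm n F q ((Cfsg.unitaryTransvection n q v c).mulVec x) ((Cfsg.unitaryTransvection n q v c).mulVec y) = Cfsg.hermForm n F q x y) ↔ (c = 0 ∨ c ^ (q - 1) = -1) := by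
  have hq1 : 1 ≤ q := by
    rcases Nat.eq_zero_or_pos q with h | h
    · subst h
      have : 1 < Fintype.card F := Fintype.one_lt_card
      rw [hF] at this
      simp at this
    · exact h
  have hqs : q = (q - 1) + 1 := by omega
  have hiff : (c = 0 ∨ c ^ (q - 1) = -1) ↔ c ^ q + c = 0 := by
    constructor
    · rintro (h | h)
      · rw [h, zero_pow (by omega), add_zero]
      · rw [hqs, pow_succ, h]; ring
    · intro h
      by_cases hc : c = 0
      · exact Or.inl hc
      · right
        have h1 : c ^ (q - 1) * c = -1 * c := by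
          rw [← pow_succ, ← hqs]; linear_combination h
        exact mul_right_cancel₀ hc h1
  rw [hiff]
  constructor
  · intro h
    obtain ⟨i, hi⟩ : ∃ i, v i ≠ 0 := by
      by_contra hne
      push Not at hne
      exact hv (funext hne)
    have h1 := h (Pi.single i 1) (Pi.single i 1)
    rw [herm_transvection hF v hv0] at h1
    have hx : Cfsg.hermForm n F q (Pi.single i 1) v = v i ^ q := by
      unfold Cfsg.hermForm
      rw [Finset.sum_eq_single i]
      · simp
      · intro j _ hj; simp [hj]
      · intro h; exact absurd (Finset.mem_univ i) h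
    have hy : Cfsg.hermForm n F q v (Pi.single i 1) = v i := by
      unfold Cfsg.hermForm
      rw [Finset.sum_eq_single i]
      · simp
      · intro j _ hj
        rw [Pi.single_eq_of_ne hj, zero_pow (by omega), mul_zero]
      · intro h; exact absurd (Finset.mem_univ i) h
    rw [hx, hy] at h1
    have h2 : (c ^ q + c) * (v i ^ q * v i) = 0 := by linear_combination h1
    rcases mul_eq_zero.mp h2 with h3 | h3
    · exact h3
    · exact absurd h3 (mul_ne_zero (pow_ne_zero _ hi) hi)
  · intro h x y
    rw [herm_transvection hF v hv0, h, zero_mul, add_zero]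

end Cfsg.Agent.S0779
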