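import Cfsg.Statements.S0781
import Mathlib
import Cfsg.Agent.Lib.Helper2.UnitaryComm
import Cfsg.Agent.S0779

set_option autoImplicit false
open Cfsg

namespace Cfsg.Agent.S0781

/-- In SU_n(q) with n ≥ 4, or n = 3 and q > 2, every element whose matrix is a unitary transvection x ↦ x + c h(x, v) v (v isotropic) is a commutator ⁅B, C⁆ of two elements of SU_n(q). -/
theorem result {F : Type*} [Field F] [Fintype F] {q : ℕ} (hF : Fintype.card F = q ^ 2) (n : ℕ) (hn : 4 ≤ n ∨ (n = 3 ∧ 3 ≤ q)) (A : ↥(Cfsg.SU n F q)) (v : Fin n → F) (c : F) (hv0 : Cfsg.hermForm n F q v v = 0) (hA : ((A : Matrix.SpecialLinearGroup (Fin n) F) : Matrix (Fin n) (Fin n) F) = Cfsg.unitaryTransvection n q v c) : A ∈ commutatorSet ↥(Cfsg.SU n F q) := by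
  have hq : 2 ≤ q := Cfsg.Agent.Lib.Helper1.HermCount.two_le_q hF
  by_cases hv : v = 0
  · have h1 : A = 1 := by
      apply Subtype.ext
      apply Subtype.ext
      rw [hA, hv]
      unfold Cfsg.unitaryTransvection
      simp
    rw [h1]
    exact ⟨1, 1, by simp⟩
  by_cases hc0 : c = 0
  · have h1 : A = 1 := by
      apply Subtype.ext
      apply Subtype.ext
      rw [hA, hc0]
      unfold Cfsg.unitaryTransvection
      simp
    rw [h1]
    exact ⟨1, 1, by simp⟩
  have hpres : ∀ x y : Fin n → F, Cfsg.hermForm n F q ((Cfsg.unitaryTransvection n q v c).mulVec x) ((Cfsg.unitaryTransvection n q v c).mulVec y) = Cfsg.hermForm n F q x y := by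
    intro x y
    rw [← hA]
    exact A.2 x y
  have hc1 := (Cfsg.Agent.S0779.result hF n v hv hv0 c).1 hpres
  have hc : c ^ q = -c := by
    rcases hc1 with h | h
    · exact absurd h hc0
    · have : q = (q - 1) + 1 := by omega
      rw [this, pow_succ, h]
      ring
  rcases hn with hn | ⟨hn, hq3⟩
  · exact Cfsg.Agent.Lib.Helper2.UnitaryComm.comm_siegel hF hn A v c hv0 hv hc hA
  · exact Cfsg.Agent.Lib.Helper2.UnitaryComm.comm_torus hF (by omega) hq3 A v c hv0 hv hc hA

end Cfsg.Agent.S0781
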