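import Cfsg.Statements.S0270
import Cfsg.Agent.Lib.Helper1.SpPoint
import Cfsg.Agent.S0269

set_option autoImplicit false
open Cfsg

namespace Cfsg.Agent.S0270

open Cfsg.Agent.Lib.Helper1.SpBasic Cfsg.Agent.Lib.Helper1.SpPoint Cfsg.Agent.Lib.Helper2.Symp Matrix
open scoped commutatorElement

variable {F : Type*} [Field F] {m : ℕ}

/-- a matrix for which every nonzero vector is an eigenvector is a scalar. -/
theorem scalar_of_eigen (A : Matrix (Fin m ⊕ Fin m) (Fin m ⊕ Fin m) F)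
    (hA : ∀ v : Fin m ⊕ Fin m → F, v ≠ 0 → ∃ c : F, A *ᵥ v = c • v) :
    ∃ a : F, A = a • 1 := by
  have h : ∀ v : Fin m ⊕ Fin m → F, ¬ LinearIndependent F ![v, (Matrix.mulVecLin A) v] := by
    intro v hli
    rw [LinearIndependent.pair_iff] at hli
    by_cases hv : v = 0
    · have := hli 1 0 (by rw [hv]; simp)
      exact one_ne_zero this.1
    · obtain ⟨c, hc⟩ := hA v hv
      have := hli c (-1) (by rw [Matrix.mulVecLin_apply, hc]; simp)
      have h2 := this.2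
      simp at h2
  obtain ⟨a, ha⟩ := LinearMap.exists_eq_smul_id_of_forall_notLinearIndependent h
  refine ⟨a, ?_⟩
  ext i j
  have h1 : A *ᵥ Pi.single j 1 = a • Pi.single j 1 := by
    have := congrArg (fun f => f (Pi.single j 1)) ha
    simpa using this
  have h2 := congrFun h1 i
  rw [Matrix.mulVec_single_one] at h2
  have h3 : A i j = (a • Pi.single j 1 : _ → F) i := h2
  rw [h3, Matrix.smul_apply, Matrix.one_apply, Pi.smul_apply, Pi.single_apply]

/-- a normal subgroup contained in a point stabilizer is central. -/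
theorem le_center_of_le_pointStab (v₀ : Fin m ⊕ Fin m → F) (hv₀ : v₀ ≠ 0)
    (N : Subgroup (Matrix.symplecticGroup (Fin m) F)) [hN : N.Normal] (hNP : N ≤ pointStab v₀) :
    N ≤ Subgroup.center (Matrix.symplecticGroup (Fin m) F) := by
  intro A hA
  have heig : ∀ v : Fin m ⊕ Fin m → F, v ≠ 0 →
      ∃ c : F, (A : Matrix (Fin m ⊕ Fin m) (Fin m ⊕ Fin m) F) *ᵥ v = c • v := by
    intro v hv
    obtain ⟨g, hg⟩ := Cfsg.Agent.S0271.result m v₀ v hv₀ hv
    have h1 : g⁻¹ * A * g⁻¹⁻¹ ∈ N := hN.conj_mem A hA g⁻¹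
    rw [inv_inv] at h1
    obtain ⟨a, -, ha⟩ := hNP h1
    refine ⟨a, ?_⟩
    rw [coe_mul_mulVec, coe_mul_mulVec, hg] at ha
    have := congrArg (fun z => (g : Matrix (Fin m ⊕ Fin m) (Fin m ⊕ Fin m) F) *ᵥ z) ha
    simp only [mulVec_inv_mulVec, Matrix.mulVec_smul, hg] at this
    exact this
  obtain ⟨a, ha⟩ := scalar_of_eigen _ heig
  rw [Subgroup.mem_center_iff]
  intro g
  apply Subtype.ext
  rw [Submonoid.coe_mul, Submonoid.coe_mul, ha]
  simp

theorem comm_mem_of_sup {G : Type*} [Group G] (N R : Subgroup G) [N.Normal]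
    (hR : ∀ a ∈ R, ∀ b ∈ R, a * b = b * a) (g₁ g₂ : G) (h₁ : g₁ ∈ N ⊔ R) (h₂ : g₂ ∈ N ⊔ R) :
    ⁅g₁, g₂⁆ ∈ N := by
  rw [Subgroup.mem_sup_of_normal_left] at h₁ h₂
  obtain ⟨n₁, hn₁, r₁, hr₁, rfl⟩ := h₁
  obtain ⟨n₂, hn₂, r₂, hr₂, rfl⟩ := h₂
  rw [← QuotientGroup.eq_one_iff]
  change (QuotientGroup.mk' N) ⁅n₁ * r₁, n₂ * r₂⁆ = 1
  have e1 : QuotientGroup.mk' N n₁ = 1 := (QuotientGroup.eq_one_iff n₁).mpr hn₁
  have e2 : QuotientGroup.mk' N n₂ = 1 := (QuotientGroup.eq_one_iff n₂).mpr hn₂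
  rw [map_commutatorElement, map_mul, map_mul, e1, e2, one_mul, one_mul,
    commutatorElement_eq_one_iff_commute]
  change QuotientGroup.mk' N r₁ * QuotientGroup.mk' N r₂ =
    QuotientGroup.mk' N r₂ * QuotientGroup.mk' N r₁
  rw [← map_mul, ← map_mul, hR r₁ hr₁ r₂ hr₂]

/-- a normal subgroup not contained in a point stabilizer is everything, if the group is
perfect. -/
theorem eq_top_of_not_le_pointStab (hperf : commutator (Matrix.symplecticGroup (Fin m) F) = ⊤)
    (v₀ : Fin m ⊕ Fin m → F) (hv₀ : v₀ ≠ 0)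
    (N : Subgroup (Matrix.symplecticGroup (Fin m) F)) [hN : N.Normal]
    (hNP : ¬ N ≤ pointStab v₀) : N = ⊤ := by
  obtain ⟨h, hhN, hhP⟩ := SetLike.not_le_iff_exists.mp hNP
  have hsup : N ⊔ pointStab v₀ = ⊤ :=
    eq_top_of_pointStab_lt v₀ hv₀ _ le_sup_right h (Subgroup.mem_sup_left hhN) hhP
  -- the root group
  let R : Subgroup (Matrix.symplecticGroup (Fin m) F) :=
    { carrier := {A | ∃ c : F, A = T v₀ c}
      one_mem' := ⟨0, (T_zero v₀).symm⟩
      mul_mem' := by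
        rintro _ _ ⟨c, rfl⟩ ⟨d, rfl⟩
        exact ⟨c + d, T_add v₀ c d⟩
      inv_mem' := by
        rintro _ ⟨c, rfl⟩
        exact ⟨-c, T_inv v₀ c⟩ }
  have hRcomm : ∀ a ∈ R, ∀ b ∈ R, a * b = b * a := by
    rintro _ ⟨c, rfl⟩ _ ⟨d, rfl⟩
    rw [T_add, T_add, add_comm]
  -- every transvection lies in N ⊔ R
  have hT : ∀ (v : Fin m ⊕ Fin m → F) (c : F), T v c ∈ N ⊔ R := by
    intro v c
    by_cases hv : v = 0
    · rw [hv, T_zero_left]; exact Subgroup.one_mem _
    obtain ⟨g, hg⟩ := Cfsg.Agent.S0271.result m v₀ v hv₀ hv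
    have hgtop : g ∈ N ⊔ pointStab v₀ := hsup ▸ Subgroup.mem_top g
    rw [Subgroup.mem_sup_of_normal_left] at hgtop
    obtain ⟨n, hn, p, ⟨a, -, hp⟩, rfl⟩ := hgtop
    have e1 : T v c = n * (p * T v₀ c * p⁻¹) * n⁻¹ := by
      rw [← hg, ← conj_T]; group
    rw [e1, conj_T, hp, T_smul]
    have h1 : T v₀ (a * a * c) ∈ N ⊔ R := Subgroup.mem_sup_right ⟨_, rfl⟩
    have h2 : n ∈ N ⊔ R := Subgroup.mem_sup_left hn
    exact Subgroup.mul_mem _ (Subgroup.mul_mem _ h2 h1) (Subgroup.inv_mem _ h2)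
  have hNR : N ⊔ R = ⊤ := by
    rw [eq_top_iff, ← transvGroup_eq_top]
    unfold transvGroup
    rw [Subgroup.closure_le]
    rintro A ⟨w, c, hA⟩
    have : A = T w c := Subtype.ext hA
    rw [this]
    exact hT w c
  -- the quotient by N is commutative
  rw [eq_top_iff, ← hperf, commutator_def, Subgroup.commutator_le]
  intro g₁ _ g₂ _
  have hg₁ : g₁ ∈ N ⊔ R := hNR ▸ Subgroup.mem_top g₁
  have hg₂ : g₂ ∈ N ⊔ R := hNR ▸ Subgroup.mem_top g₂
  rw [Subgroup.mem_sup_of_normal_left] at hg₁ hg₂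
  obtain ⟨n₁, hn₁, r₁, hr₁, rfl⟩ := hg₁
  obtain ⟨n₂, hn₂, r₂, hr₂, rfl⟩ := hg₂
  exact comm_mem_of_sup N R hRcomm _ _ (Subgroup.mul_mem _ (Subgroup.mem_sup_left hn₁)
    (Subgroup.mem_sup_right hr₁)) (Subgroup.mul_mem _ (Subgroup.mem_sup_left hn₂)
    (Subgroup.mem_sup_right hr₂))

/-- PSp_{2m}(q) is simple for m at least 2 and (m, q) other than (2, 2). -/
theorem result {F : Type*} [Field F] [Fintype F] (m : ℕ) (hm : 2 ≤ m) (h : m = 2 → 3 ≤ Fintype.card F) : IsSimpleGroup (Cfsg.PSp m F) := by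
  have hperf : commutator (Matrix.symplecticGroup (Fin m) F) = ⊤ := by
    apply Cfsg.Agent.S0269.result
    by_cases h2 : m = 2
    · right; left; exact ⟨h2, h h2⟩
    · left; omega
  set v₀ : Fin m ⊕ Fin m → F := Pi.single (Sum.inl ⟨0, by omega⟩) 1 with hv₀def
  have hv₀ : v₀ ≠ 0 := Cfsg.Agent.S0269.single_ne_zero' _
  have hdich : ∀ N : Subgroup (Matrix.symplecticGroup (Fin m) F), N.Normal →
      N ≤ Subgroup.center (Matrix.symplecticGroup (Fin m) F) ∨ N = ⊤ := by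
    intro N hN
    by_cases hNP : N ≤ pointStab v₀
    · left; exact le_center_of_le_pointStab v₀ hv₀ N hNP
    · right; exact eq_top_of_not_le_pointStab hperf v₀ hv₀ N hNP
  have hcne : Subgroup.center (Matrix.symplecticGroup (Fin m) F) ≠ ⊤ := by
    intro htop
    -- then the group is commutative, so its commutator is trivial
    have hbot : commutator (Matrix.symplecticGroup (Fin m) F) = ⊥ := by
      rw [commutator_def, Subgroup.commutator_eq_bot_iff_le_centralizer, Subgroup.coe_top,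
        Subgroup.centralizer_univ, htop]
    rw [hperf] at hbot
    have h1 : T v₀ (1 : F) ∈ (⊥ : Subgroup (Matrix.symplecticGroup (Fin m) F)) :=
      hbot ▸ Subgroup.mem_top _
    rw [Subgroup.mem_bot] at h1
    obtain ⟨p, hp⟩ := Cfsg.Agent.S0271.exists_partner m v₀ hv₀
    have h2 := T_mulVec v₀ (1 : F) p
    rw [h1, coe_one_mulVec, sympForm_swap, hp] at h2
    have h3 : ((1 : F) * -1) • v₀ = 0 := by
      have := add_eq_left.mp h2.symm
      exact this
    rw [one_mul, neg_smul, one_smul, neg_eq_zero] at h3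
    exact hv₀ h3
  have : Nontrivial (Cfsg.PSp m F) := by
    unfold Cfsg.PSp
    exact QuotientGroup.nontrivial_iff.mpr hcne
  refine ⟨?_⟩
  intro K hK
  have hNn : (K.comap (QuotientGroup.mk' (Subgroup.center (Matrix.symplecticGroup (Fin m) F)))).Normal :=
    hK.comap _
  rcases hdich _ hNn with hle | htop
  · left
    rw [eq_bot_iff]
    intro x hx
    obtain ⟨g, rfl⟩ := QuotientGroup.mk_surjective x
    have hg : g ∈ K.comap (QuotientGroup.mk' (Subgroup.center (Matrix.symplecticGroup (Fin m) F))) := hx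
    rw [Subgroup.mem_bot]
    exact (QuotientGroup.eq_one_iff g).mpr (hle hg)
  · right
    rw [eq_top_iff]
    intro x _
    obtain ⟨g, rfl⟩ := QuotientGroup.mk_surjective x
    have hg : g ∈ K.comap (QuotientGroup.mk' (Subgroup.center (Matrix.symplecticGroup (Fin m) F))) :=
      htop ▸ Subgroup.mem_top g
    exact hg

end Cfsg.Agent.S0270
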