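import Mathlib
import Cfsg.Statements.S0352
import Cfsg.Agent.Lib.Helper1.Steiner

set_option autoImplicit false
open Cfsg

namespace Cfsg.Agent.S0352

open Cfsg.Agent.Lib.Helper1

/-- The intersection numbers of an S(5,8,24) with respect to a fixed block. -/
theorem interNums {α : Type*} [Fintype α] [DecidableEq α] (hα : Fintype.card α = 24) {B : Set (Finset α)} (hB : Cfsg.IsSteinerSystem 5 8 B) {b : Finset α} (hb : b ∈ B) :
    interNum B b 0 = 30 ∧ interNum B b 1 = 0 ∧ interNum B b 2 = 448 ∧ interNum B b 3 = 0 ∧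
    interNum B b 4 = 280 ∧ interNum B b 5 = 0 ∧ interNum B b 6 = 0 ∧ interNum B b 7 = 0 ∧
    interNum B b 8 = 1 := by
  have e0 := steiner_interNum_eqn hB hb 0 (by norm_num)
  have e1 := steiner_interNum_eqn hB hb 1 (by norm_num)
  have e2 := steiner_interNum_eqn hB hb 2 (by norm_num)
  have e3 := steiner_interNum_eqn hB hb 3 (by norm_num)
  have e4 := steiner_interNum_eqn hB hb 4 (by norm_num)
  have n5 := interNum_eq_zero hB hb 5 (by norm_num) (by norm_num)
  have n6 := interNum_eq_zero hB hb 6 (by norm_num) (by norm_num)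
  have n7 := interNum_eq_zero hB hb 7 (by norm_num) (by norm_num)
  have n8 := interNum_self hB hb (by norm_num)
  rw [hα] at e0 e1 e2 e3 e4
  simp only [Finset.sum_range_succ, Finset.sum_range_zero] at e0 e1 e2 e3 e4
  norm_num [Nat.choose] at e0 e1 e2 e3 e4
  omega

/-- In a Steiner system S(5, 8, 24), two distinct blocks intersect in 0, 2 or 4 points. -/
theorem result {α : Type*} [Fintype α] [DecidableEq α] (hα : Fintype.card α = 24) {B : Set (Finset α)} (hB : Cfsg.IsSteinerSystem 5 8 B) {b c : Finset α} (hb : b ∈ B) (hc : c ∈ B) (hbc : b ≠ c) : (b ∩ c).card = 0 ∨ (b ∩ c).card = 2 ∨ (b ∩ c).card = 4 := by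
  obtain ⟨_, h1, _, h3, _⟩ := interNums hα hB hb
  have hpos := interNum_pos_of_mem (b := b) hc
  have hlt : (b ∩ c).card < 5 := by
    by_contra h
    exact hbc (steiner_eq_of_inter hB hb hc (by omega))
  have : (b ∩ c).card ≠ 1 := fun h => by rw [h, h1] at hpos; exact lt_irrefl _ hpos
  have : (b ∩ c).card ≠ 3 := fun h => by rw [h, h3] at hpos; exact lt_irrefl _ hpos
  omega

end Cfsg.Agent.S0352
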