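import Mathlib
import Cfsg.Statements.S0353
import Cfsg.Agent.S0352

set_option autoImplicit false
open Cfsg

namespace Cfsg.Agent.S0353

section
variable {α : Type*} [Fintype α] [DecidableEq α] (hα : Fintype.card α = 24)
  {B : Set (Finset α)} (hB : Cfsg.IsSteinerSystem 5 8 B)

include hα hB

/-- two blocks sharing a subset with at least 4 elements, and distinct, meet exactly there -/
theorem inter_eq_of_four {Q R s : Finset α} (hQ : Q ∈ B) (hR : R ∈ B) (hne : Q ≠ R)
    (hsQ : s ⊆ Q) (hsR : s ⊆ R) (hs : 4 ≤ s.card) : Q ∩ R = s := by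
  have h1 : s ⊆ Q ∩ R := Finset.subset_inter hsQ hsR
  have h2 := Cfsg.Agent.S0352.result hα hB hQ hR hne
  have h3 : (Q ∩ R).card ≤ s.card := by omega
  exact (Finset.eq_of_subset_of_card_le h1 h3).symm

theorem no_five {Q R s : Finset α} (hQ : Q ∈ B) (hR : R ∈ B) (hne : Q ≠ R)
    (hsQ : s ⊆ Q) (hsR : s ⊆ R) : s.card ≤ 4 := by
  have h1 : s ⊆ Q ∩ R := Finset.subset_inter hsQ hsR
  have h2 := Cfsg.Agent.S0352.result hα hB hQ hR hne
  have h3 := Finset.card_le_card h1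
  omega

end


/-- In an S(5, 8, 24), the symmetric difference of two blocks meeting in four points is a block. -/
theorem result {α : Type*} [Fintype α] [DecidableEq α] (hα : Fintype.card α = 24) {B : Set (Finset α)} (hB : Cfsg.IsSteinerSystem 5 8 B) {b c : Finset α} (hb : b ∈ B) (hc : c ∈ B) (h4 : (b ∩ c).card = 4) : symmDiff b c ∈ B := by
  have hcardB : ∀ Q ∈ B, Q.card = 8 := hB.1
  have hex : ∀ s : Finset α, s.card = 5 → ∃ Q ∈ B, s ⊆ Q := by
    intro s hs
    obtain ⟨Q, ⟨hQ, hsQ⟩, -⟩ := hB.2 s hs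
    exact ⟨Q, hQ, hsQ⟩
  have hYc : (b \ c).card = 4 := by
    have := Finset.card_inter_add_card_sdiff b c
    rw [h4, hcardB b hb] at this
    omega
  have hZc : (c \ b).card = 4 := by
    have := Finset.card_inter_add_card_sdiff c b
    rw [Finset.inter_comm, h4, hcardB c hc] at this
    omega
  set Y := b \ c with hY
  set Z := c \ b with hZ
  have hYb : Y ⊆ b := Finset.sdiff_subset
  have hZc' : Z ⊆ c := Finset.sdiff_subset
  have hYZ : Disjoint Y Z := by
    rw [Finset.disjoint_left]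
    intro x hx hx'
    exact (Finset.mem_sdiff.1 hx').2 (Finset.mem_sdiff.1 hx).1
  have hsd : symmDiff b c = Y ∪ Z := rfl
  rw [hsd]
  have hYne : Y.Nonempty := Finset.card_pos.1 (by omega)
  -- Lemma A
  have lemA : ∀ z ∈ Z, ∀ O ∈ B, insert z Y ⊆ O → O ∩ b = Y ∧ O ∩ c ⊆ Z ∧ O ≠ c := by
    intro z hz O hO hsub
    have hzO : z ∈ O := hsub (Finset.mem_insert_self _ _)
    have hYO : Y ⊆ O := fun x hx => hsub (Finset.mem_insert_of_mem hx)
    have hOb : O ≠ b := by
      rintro rfl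
      exact (Finset.mem_sdiff.1 hz).2 hzO
    have h1 : O ∩ b = Y := inter_eq_of_four hα hB hO hb hOb hYO hYb (by omega)
    refine ⟨h1, ?_, ?_⟩
    · intro x hx
      obtain ⟨hxO, hxc⟩ := Finset.mem_inter.1 hx
      rw [hZ, Finset.mem_sdiff]
      refine ⟨hxc, fun hxb => ?_⟩
      have : x ∈ Y := by rw [← h1]; exact Finset.mem_inter.2 ⟨hxO, hxb⟩
      exact (Finset.mem_sdiff.1 this).2 hxc
    · rintro rfl
      obtain ⟨y, hy⟩ := hYne
      exact (Finset.mem_sdiff.1 hy).2 (hYO hy)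
  -- first block
  obtain ⟨i, hi⟩ : Z.Nonempty := Finset.card_pos.1 (by omega)
  have hiY : i ∉ Y := fun h => (Finset.mem_sdiff.1 hi).2 (hYb h)
  obtain ⟨O2, hO2, hS1⟩ := hex (insert i Y) (by rw [Finset.card_insert_of_notMem hiY, hYc])
  obtain ⟨hO2b, hO2c, hO2nc⟩ := lemA i hi O2 hO2 hS1
  have hiO2 : i ∈ O2 := hS1 (Finset.mem_insert_self _ _)
  have hYO2 : Y ⊆ O2 := fun x hx => hS1 (Finset.mem_insert_of_mem hx)
  have hW := Cfsg.Agent.S0352.result hα hB hO2 hc hO2nc
  have hiW : i ∈ O2 ∩ c := Finset.mem_inter.2 ⟨hiO2, hZc' hi⟩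
  have hWpos : 0 < (O2 ∩ c).card := Finset.card_pos.2 ⟨i, hiW⟩
  rcases hW with h0 | h2 | h4'
  · omega
  swap
  · -- the good case
    have hWZ : O2 ∩ c = Z := Finset.eq_of_subset_of_card_le hO2c (by omega)
    have hZO2 : Z ⊆ O2 := by rw [← hWZ]; exact Finset.inter_subset_left
    have hsub : Y ∪ Z ⊆ O2 := Finset.union_subset hYO2 hZO2
    have hcard : (Y ∪ Z).card = 8 := by rw [Finset.card_union_of_disjoint hYZ, hYc, hZc]
    have : Y ∪ Z = O2 := Finset.eq_of_subset_of_card_le hsub (by rw [hcard, hcardB O2 hO2])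
    rw [this]; exact hO2
  -- the bad case
  exfalso
  set W := O2 ∩ c with hWdef
  have hZW : (Z \ W).card = 2 := by
    have := Finset.card_sdiff_add_card_eq_card hO2c
    omega
  obtain ⟨k, hk⟩ : (Z \ W).Nonempty := Finset.card_pos.1 (by omega)
  have hkZ : k ∈ Z := (Finset.mem_sdiff.1 hk).1
  have hkO2 : k ∉ O2 := fun h => (Finset.mem_sdiff.1 hk).2 (Finset.mem_inter.2 ⟨h, hZc' hkZ⟩)
  have hkY : k ∉ Y := fun h => (Finset.mem_sdiff.1 hkZ).2 (hYb h)
  obtain ⟨O3, hO3, hS2⟩ := hex (insert k Y) (by rw [Finset.card_insert_of_notMem hkY, hYc])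
  obtain ⟨hO3b, hO3c, hO3nc⟩ := lemA k hkZ O3 hO3 hS2
  have hkO3 : k ∈ O3 := hS2 (Finset.mem_insert_self _ _)
  have hYO3 : Y ⊆ O3 := fun x hx => hS2 (Finset.mem_insert_of_mem hx)
  have hO32 : O3 ≠ O2 := by rintro rfl; exact hkO2 hkO3
  have hO3O2 : O3 ∩ O2 = Y := inter_eq_of_four hα hB hO3 hO2 hO32 hYO3 hYO2 (by omega)
  have hiO3 : i ∉ O3 := fun h => hiY (by rw [← hO3O2]; exact Finset.mem_inter.2 ⟨h, hiO2⟩)
  have hik : i ≠ k := by rintro rfl; exact hkO2 hiO2
  -- O3 ∩ c = Z \ W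
  have hO3cW : O3 ∩ c ⊆ Z \ W := by
    intro x hx
    rw [Finset.mem_sdiff]
    refine ⟨hO3c hx, fun hxW => ?_⟩
    have hxO2 : x ∈ O2 := (Finset.mem_inter.1 hxW).1
    have hxO3 : x ∈ O3 := (Finset.mem_inter.1 hx).1
    have : x ∈ Y := by rw [← hO3O2]; exact Finset.mem_inter.2 ⟨hxO3, hxO2⟩
    exact (Finset.mem_sdiff.1 this).2 (Finset.mem_inter.1 hx).2
  -- the third block
  obtain ⟨h, hh⟩ := hYne
  set Y' := Y.erase h with hY'
  have hY'c : Y'.card = 3 := by rw [Finset.card_erase_of_mem hh, hYc]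
  have hY'Y : Y' ⊆ Y := Finset.erase_subset _ _
  have hkY' : k ∉ Y' := fun hx => hkY (hY'Y hx)
  have hiS : i ∉ insert k Y' := by
    rw [Finset.mem_insert]
    rintro (h1 | h1)
    · exact hik h1
    · exact hiY (hY'Y h1)
  obtain ⟨Q, hQ, hS3⟩ := hex (insert i (insert k Y')) (by
    rw [Finset.card_insert_of_notMem hiS, Finset.card_insert_of_notMem hkY', hY'c])
  have hiQ : i ∈ Q := hS3 (Finset.mem_insert_self _ _)
  have hkQ : k ∈ Q := hS3 (Finset.mem_insert_of_mem (Finset.mem_insert_self _ _))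
  have hY'Q : Y' ⊆ Q := fun x hx => hS3 (Finset.mem_insert_of_mem (Finset.mem_insert_of_mem hx))
  have hQO2 : Q ≠ O2 := by rintro rfl; exact hkO2 hkQ
  have hQO3 : Q ≠ O3 := by rintro rfl; exact hiO3 hiQ
  have hQb : Q ≠ b := by rintro rfl; exact (Finset.mem_sdiff.1 hi).2 hiQ
  have hiY' : i ∉ Y' := fun hx => hiY (hY'Y hx)
  have h1 : Q ∩ O2 = insert i Y' := by
    apply inter_eq_of_four hα hB hQ hO2 hQO2
    · intro x hx
      rcases Finset.mem_insert.1 hx with rfl | hx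
      · exact hiQ
      · exact hY'Q hx
    · intro x hx
      rcases Finset.mem_insert.1 hx with rfl | hx
      · exact hiO2
      · exact hYO2 (hY'Y hx)
    · rw [Finset.card_insert_of_notMem hiY', hY'c]
  have h2' : Q ∩ O3 = insert k Y' := by
    apply inter_eq_of_four hα hB hQ hO3 hQO3
    · intro x hx
      rcases Finset.mem_insert.1 hx with rfl | hx
      · exact hkQ
      · exact hY'Q hx
    · intro x hx
      rcases Finset.mem_insert.1 hx with rfl | hx
      · exact hkO3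
      · exact hYO3 (hY'Y hx)
    · rw [Finset.card_insert_of_notMem hkY', hY'c]
  -- h ∉ Q
  have hhQ : h ∉ Q := by
    intro hx
    have : h ∈ insert i Y' := by rw [← h1]; exact Finset.mem_inter.2 ⟨hx, hYO2 hh⟩
    rcases Finset.mem_insert.1 this with rfl | h3
    · exact hiY hh
    · exact (Finset.notMem_erase h Y) h3
  -- Q ∩ Z ⊆ {i, k}
  have hQZ : Q ∩ Z ⊆ {i, k} := by
    intro x hx
    obtain ⟨hxQ, hxZ⟩ := Finset.mem_inter.1 hx
    have hxb : x ∉ b := (Finset.mem_sdiff.1 hxZ).2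
    by_cases hxW : x ∈ W
    · have : x ∈ insert i Y' := by
        rw [← h1]; exact Finset.mem_inter.2 ⟨hxQ, (Finset.mem_inter.1 hxW).1⟩
      rcases Finset.mem_insert.1 this with rfl | h3
      · simp
      · exact absurd (hYb (hY'Y h3)) hxb
    · -- x ∈ Z \ W = O3 ∩ c
      have hO3ceq : O3 ∩ c = Z \ W := by
        apply Finset.eq_of_subset_of_card_le hO3cW
        have h5 := Cfsg.Agent.S0352.result hα hB hO3 hc hO3nc
        have : 0 < (O3 ∩ c).card := Finset.card_pos.2 ⟨k, Finset.mem_inter.2 ⟨hkO3, hZc' hkZ⟩⟩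
        omega
      have hx3 : x ∈ O3 ∩ c := by rw [hO3ceq]; exact Finset.mem_sdiff.2 ⟨hxZ, hxW⟩
      have : x ∈ insert k Y' := by
        rw [← h2']; exact Finset.mem_inter.2 ⟨hxQ, (Finset.mem_inter.1 hx3).1⟩
      rcases Finset.mem_insert.1 this with rfl | h3
      · simp
      · exact absurd (hYb (hY'Y h3)) hxb
  have hQZc : (Q ∩ Z).card = 2 := by
    apply le_antisymm
    · exact le_trans (Finset.card_le_card hQZ) Finset.card_le_two
    · have : ({i, k} : Finset α) ⊆ Q ∩ Z := by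
        intro x hx
        rcases Finset.mem_insert.1 hx with rfl | hx
        · exact Finset.mem_inter.2 ⟨hiQ, hi⟩
        · rw [Finset.mem_singleton] at hx; subst hx
          exact Finset.mem_inter.2 ⟨hkQ, hkZ⟩
      have h6 := Finset.card_le_card this
      rw [Finset.card_pair hik] at h6
      exact h6
  -- Q ∩ Y = Y'
  have hQY : Q ∩ Y = Y' := by
    ext x
    rw [Finset.mem_inter, hY', Finset.mem_erase]
    constructor
    · rintro ⟨hxQ, hxY⟩
      exact ⟨fun hxh => hhQ (hxh ▸ hxQ), hxY⟩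
    · rintro ⟨hne, hxY⟩
      exact ⟨hY'Q (Finset.mem_erase.2 ⟨hne, hxY⟩), hxY⟩
  -- count Q ∩ b and Q ∩ c
  have hQb4 : (Q ∩ b).card = 4 := by
    have h5 := Cfsg.Agent.S0352.result hα hB hQ hb hQb
    have : Y' ⊆ Q ∩ b := fun x hx => Finset.mem_inter.2 ⟨hY'Q hx, hYb (hY'Y hx)⟩
    have h6 := Finset.card_le_card this
    omega
  have hsplit_b : (Q ∩ b).card = (Q ∩ (b ∩ c)).card + (Q ∩ Y).card := by
    have := Finset.card_inter_add_card_sdiff (Q ∩ b) c
    rw [← this]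
    congr 1
    · congr 1; ext x; simp [Finset.mem_inter]
    · congr 1; ext x; simp [hY, Finset.mem_inter, Finset.mem_sdiff, and_assoc]
  have hsplit_c : (Q ∩ c).card = (Q ∩ (b ∩ c)).card + (Q ∩ Z).card := by
    have := Finset.card_inter_add_card_sdiff (Q ∩ c) b
    rw [← this]
    congr 1
    · congr 1; ext x; simp [Finset.mem_inter]; tauto
    · congr 1; ext x; simp [hZ, Finset.mem_inter, Finset.mem_sdiff, and_assoc]
  have hQc : Q ≠ c := by
    rintro rfl
    obtain ⟨y, hy⟩ : Y'.Nonempty := Finset.card_pos.1 (by omega)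
    exact (Finset.mem_sdiff.1 (hY'Y hy)).2 (hY'Q hy)
  have h7 := Cfsg.Agent.S0352.result hα hB hQ hc hQc
  rw [hQY, hY'c] at hsplit_b
  rw [hQZc] at hsplit_c
  omega

end Cfsg.Agent.S0353
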