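import Cfsg.Statements.S0559
import Mathlib

set_option autoImplicit false
open Cfsg
open scoped Pointwise

namespace Cfsg.Agent.S0559

theorem mem_conj_smul {G : Type*} [Group G] (H : Subgroup G) (g a : G) :
    a ∈ MulAut.conj g • H ↔ g⁻¹ * a * g ∈ H := by
  rw [Subgroup.mem_pointwise_smul_iff_inv_smul_mem]
  simp [MulAut.smul_def, MulAut.conj_apply]

theorem conj_smul_smul {G : Type*} [Group G] (H : Subgroup G) (g h : G) :
    MulAut.conj (g * h) • H = MulAut.conj g • (MulAut.conj h • H) := by
  rw [map_mul, mul_smul]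

theorem conj_smul_self {G : Type*} [Group G] (H : Subgroup G) (h : G) (hh : h ∈ H) :
    MulAut.conj h • H = H := by
  ext a
  rw [mem_conj_smul]
  constructor
  · intro ha
    have := H.mul_mem (H.mul_mem hh ha) (H.inv_mem hh)
    simpa [mul_assoc] using this
  · intro ha
    exact H.mul_mem (H.mul_mem (H.inv_mem hh) ha) hh

/-- Let G = HK be a finite group (every element a product of an element of H and an element of K), and let A and B be conjugates of H and K. Then every element is a product of an element of A and one of B, and there is g with A = gHg⁻¹ and B = gKg⁻¹ simultaneously. -/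
theorem result {G : Type*} [Group G] [Finite G] (H K A B : Subgroup G) (hHK : ∀ g : G, ∃ h ∈ H, ∃ k ∈ K, g = h * k) (hA : ∃ x : G, A = MulAut.conj x • H) (hB : ∃ y : G, B = MulAut.conj y • K) : (∀ g : G, ∃ a ∈ A, ∃ b ∈ B, g = a * b) ∧ ∃ g : G, A = MulAut.conj g • H ∧ B = MulAut.conj g • K := by
  obtain ⟨x, rfl⟩ := hA
  obtain ⟨y, rfl⟩ := hB
  obtain ⟨h, hh, k, hk, hxy⟩ := hHK (x⁻¹ * y)
  have hy : y = x * h * k := by rw [mul_assoc, ← hxy]; simp
  have hA' : MulAut.conj x • H = MulAut.conj (x * h) • H := by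
    rw [conj_smul_smul, conj_smul_self H h hh]
  have hB' : MulAut.conj y • K = MulAut.conj (x * h) • K := by
    rw [hy, conj_smul_smul, conj_smul_self K k hk]
  refine ⟨?_, x * h, hA', hB'⟩
  intro g
  obtain ⟨a, ha, b, hb, hab⟩ := hHK ((x * h)⁻¹ * g * (x * h))
  refine ⟨(x * h) * a * (x * h)⁻¹, ?_, (x * h) * b * (x * h)⁻¹, ?_, ?_⟩
  · rw [hA', mem_conj_smul]; simpa [mul_assoc] using ha
  · rw [hB', mem_conj_smul]; simpa [mul_assoc] using hb
  · have : g = (x * h) * (a * b) * (x * h)⁻¹ := by rw [← hab]; group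
    rw [this]; group

end Cfsg.Agent.S0559
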