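import Cfsg.Statements.S0562
import Mathlib

set_option autoImplicit false
open Cfsg

namespace Cfsg.Agent.S0562

/-- conjugate of a subgroup by `g` -/
abbrev cj {G : Type*} [Group G] (g : G) (X : Subgroup G) : Subgroup G :=
  X.map (MulAut.conj g).toMonoidHom

theorem mem_cj {G : Type*} [Group G] (g x : G) (X : Subgroup G) :
    x ∈ cj g X ↔ g⁻¹ * x * g ∈ X := by
  constructor
  · rintro ⟨y, hy, rfl⟩
    simpa [mul_assoc] using hy
  · intro h
    exact ⟨g⁻¹ * x * g, h, by simp [mul_assoc]⟩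

theorem cj_eq_of_le {G : Type*} [Group G] [Finite G] (g : G) (X : Subgroup G) (h : X ≤ cj g X) :
    cj g X = X := by
  symm
  apply Subgroup.eq_of_le_of_card_ge h
  rw [Subgroup.card_map_of_injective (MulAut.conj g).injective]

theorem mem_normalizer_of_cj_eq {G : Type*} [Group G] (g : G) (X : Subgroup G) (h : cj g X = X) :
    g ∈ Subgroup.normalizer (X : Set G) := by
  rw [Subgroup.mem_normalizer_iff]
  intro x
  constructor
  · intro hx
    rw [← h]
    exact ⟨x, hx, rfl⟩
  · intro hx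
    rw [← h, mem_cj] at hx
    simpa [mul_assoc] using hx

/-- Let the finite group G be the product HK of subgroups, A normal in H, B normal in K, and L the normalizer of the subgroup generated by A and B. Then every element of L is a product of an element of L ∩ H and an element of L ∩ K. -/
theorem result {G : Type*} [Group G] [Finite G] (H K A B : Subgroup G) (hHK : ∀ g : G, ∃ h ∈ H, ∃ k ∈ K, g = h * k) (hA : A ≤ H) (hAn : (A.subgroupOf H).Normal) (hB : B ≤ K) (hBn : (B.subgroupOf K).Normal) : ∀ g ∈ Subgroup.normalizer ((A ⊔ B : Subgroup G) : Set G), ∃ h ∈ Subgroup.normalizer ((A ⊔ B : Subgroup G) : Set G) ⊓ H, ∃ k ∈ Subgroup.normalizer ((A ⊔ B : Subgroup G) : Set G) ⊓ K, g = h * k := by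
  intro g hg
  set X := A ⊔ B with hX
  obtain ⟨h, hh, k, hk, rfl⟩ := hHK g
  -- conjugation by elements of H preserves A, by elements of K preserves B
  have hAconj : ∀ h ∈ H, ∀ a ∈ A, h * a * h⁻¹ ∈ A := by
    intro h hh a ha
    have := hAn.conj_mem ⟨a, hA ha⟩ (Subgroup.mem_subgroupOf.mpr ha) ⟨h, hh⟩
    exact Subgroup.mem_subgroupOf.mp this
  have hBconj : ∀ k ∈ K, ∀ b ∈ B, k * b * k⁻¹ ∈ B := by
    intro k hk b hb
    have := hBn.conj_mem ⟨b, hB hb⟩ (Subgroup.mem_subgroupOf.mpr hb) ⟨k, hk⟩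
    exact Subgroup.mem_subgroupOf.mp this
  rw [Subgroup.mem_normalizer_iff] at hg
  -- X ≤ cj h⁻¹ X
  have hle : X ≤ cj h⁻¹ X := by
    apply sup_le
    · intro a ha
      rw [mem_cj]
      have := hAconj h hh a ha
      simp only [inv_inv]
      exact (le_sup_left : A ≤ X) this
    · intro b hb
      rw [mem_cj]
      simp only [inv_inv]
      -- h * b * h⁻¹ ∈ X ↔ (h*k) * (k⁻¹ b k) * (h*k)⁻¹ ∈ X
      have hb' : k⁻¹ * b * k ∈ B := by
        have := hBconj k⁻¹ (K.inv_mem hk) b hb
        simpa using this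
      have := (hg (k⁻¹ * b * k)).mp ((le_sup_right : B ≤ X) hb')
      have e : h * k * (k⁻¹ * b * k) * (h * k)⁻¹ = h * b * h⁻¹ := by group
      rw [e] at this
      exact this
  have hh' := cj_eq_of_le h⁻¹ X hle
  have hhN : h⁻¹ ∈ Subgroup.normalizer (X : Set G) := mem_normalizer_of_cj_eq _ _ hh'
  have hhN' : h ∈ Subgroup.normalizer (X : Set G) := by simpa using Subgroup.inv_mem _ hhN
  have hkN : k ∈ Subgroup.normalizer (X : Set G) := by
    have hgN : h * k ∈ Subgroup.normalizer (X : Set G) := by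
      rw [Subgroup.mem_normalizer_iff]; exact hg
    have := Subgroup.mul_mem _ hhN hgN
    simpa using this
  exact ⟨h, ⟨hhN', hh⟩, k, ⟨hkN, hk⟩, rfl⟩

end Cfsg.Agent.S0562
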