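import Cfsg.Statements.S0566
import Mathlib
import Cfsg.Agent.Lib.Lead.SZConjB
import Cfsg.Agent.Lib.Lead.CoprimeSylow

set_option autoImplicit false
open Pointwise
open Cfsg

namespace Cfsg.Agent.S0566

open Cfsg.Agent.Lib.Lead

section Aux

variable {G : Type*} [Group G]

theorem mem_conj_smul (g x : G) (H : Subgroup G) :
    x ∈ MulAut.conj g • H ↔ g⁻¹ * x * g ∈ H := by
  rw [Subgroup.mem_smul_pointwise_iff_exists]
  constructor
  · rintro ⟨s, hs, rfl⟩
    rw [MulAut.smul_def, MulAut.conj_apply]
    have : g⁻¹ * (g * s * g⁻¹) * g = s := by group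
    rw [this]; exact hs
  · intro h
    refine ⟨g⁻¹ * x * g, h, ?_⟩
    rw [MulAut.smul_def, MulAut.conj_apply]
    group

/-- the hypothesis: every product `A (xBx⁻¹)` is a proper subgroup -/
def Hyp (A B : Subgroup G) : Prop :=
  ∀ x : G, ∃ S : Subgroup G, S ≠ ⊤ ∧
    (S : Set G) = (A : Set G) * ((MulAut.conj x • B : Subgroup G) : Set G)

/-- permutability consequence of `Hyp` -/
theorem Hyp.perm {A B : Subgroup G} (h : Hyp A B) (x : G) :
    ∀ k ∈ MulAut.conj x • B, ∀ a ∈ A, ∃ a' ∈ A, ∃ k' ∈ MulAut.conj x • B, k * a = a' * k' := by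
  intro k hk a ha
  obtain ⟨S, -, hS⟩ := h x
  have hkS : k ∈ S := by
    rw [← SetLike.mem_coe, hS]
    exact Set.mem_mul.mpr ⟨1, A.one_mem, k, hk, one_mul k⟩
  have haS : a ∈ S := by
    rw [← SetLike.mem_coe, hS]
    exact Set.mem_mul.mpr ⟨a, ha, 1, Subgroup.one_mem _, mul_one a⟩
  have := S.mul_mem hkS haS
  rw [← SetLike.mem_coe, hS] at this
  obtain ⟨a', ha', k', hk', h'⟩ := Set.mem_mul.mp this
  exact ⟨a', ha', k', hk', h'.symm⟩

theorem Hyp.conj_right {A B : Subgroup G} (h : Hyp A B) (x : G) : Hyp A (MulAut.conj x • B) := by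
  intro y
  obtain ⟨S, hS1, hS2⟩ := h (y * x)
  refine ⟨S, hS1, ?_⟩
  rw [hS2, map_mul, mul_smul]

end Aux

theorem main {G : Type*} [Group G] [Finite G] (n : ℕ) :
    ∀ A B : Subgroup G, Nat.card G - Nat.card A = n → Hyp A B →
      ∃ N : Subgroup G, N.Normal ∧ N ≠ ⊤ ∧ (A ≤ N ∨ B ≤ N) := by
  induction n using Nat.strong_induction_on with
  | _ n ih =>
    intro A B hn hyp
    by_cases hcase : ∀ x : G, MulAut.conj x • B ≤ Subgroup.normalizer (A : Set G)
    · -- the normal closure of B normalizes A
      have hle : Subgroup.normalClosure (B : Set G) ≤ Subgroup.normalizer (A : Set G) := by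
        unfold Subgroup.normalClosure
        rw [Subgroup.closure_le]
        intro a ha
        rw [Group.mem_conjugatesOfSet_iff] at ha
        obtain ⟨b, hb, hba⟩ := ha
        rw [isConj_iff] at hba
        obtain ⟨c, rfl⟩ := hba
        apply hcase c
        rw [mem_conj_smul]
        have : c⁻¹ * (c * b * c⁻¹) * c = b := by group
        rw [this]; exact hb
      by_cases hB : Subgroup.normalClosure (B : Set G) = ⊤
      · have hAn : A.Normal := by
          rw [← Subgroup.normalizer_eq_top_iff, eq_top_iff, ← hB]; exact hle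
        refine ⟨A, hAn, ?_, Or.inl le_rfl⟩
        intro hA
        obtain ⟨S, hS1, hS2⟩ := hyp 1
        apply hS1
        rw [eq_top_iff]
        intro g _
        rw [← SetLike.mem_coe, hS2]
        exact Set.mem_mul.mpr ⟨g, hA ▸ Subgroup.mem_top g, 1, Subgroup.one_mem _, mul_one g⟩
      · exact ⟨_, Subgroup.normalClosure_normal, hB, Or.inr Subgroup.le_normalClosure⟩
    · push_neg at hcase
      obtain ⟨x, hx⟩ := hcase
      set B' := MulAut.conj x • B with hB'
      have hyp' : Hyp A B' := hyp.conj_right x
      obtain ⟨b, hbB, hbN⟩ := SetLike.not_le_iff_exists.mp hx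
      set A₁ := A ⊔ MulAut.conj b • A with hA₁
      have hlt : A < A₁ := by
        refine lt_of_le_of_ne le_sup_left ?_
        intro heq
        apply hbN
        rw [mem_normalizer_iff_conj_smul]
        have : MulAut.conj b • A ≤ A := le_sup_right.trans heq.ge
        exact Subgroup.eq_of_le_of_card_ge this (card_conj_smul b A).ge
      -- the new pair satisfies the hypothesis
      have hyp₁ : Hyp A₁ B' := by
        intro y
        set K := MulAut.conj y • B' with hK
        have P1 := hyp'.perm y
        have P2 : ∀ k ∈ K, ∀ u ∈ MulAut.conj b • A, ∃ u' ∈ MulAut.conj b • A, ∃ k' ∈ K,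
            k * u = u' * k' := by
          intro k hk u hu
          have hk' : b⁻¹ * k * b ∈ MulAut.conj (b⁻¹ * y) • B' := by
            rw [map_mul, mul_smul, mem_conj_smul]
            have : b⁻¹⁻¹ * (b⁻¹ * k * b) * b⁻¹ = k := by group
            rw [this]; exact hk
          have hu' : b⁻¹ * u * b ∈ A := (mem_conj_smul b u A).mp hu
          obtain ⟨a', ha', k'', hk'', he⟩ := hyp'.perm (b⁻¹ * y) _ hk' _ hu'
          refine ⟨b * a' * b⁻¹, ?_, b * k'' * b⁻¹, ?_, ?_⟩
          · rw [mem_conj_smul]
            have : b⁻¹ * (b * a' * b⁻¹) * b = a' := by group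
            rw [this]; exact ha'
          · rw [map_mul, mul_smul, mem_conj_smul] at hk''
            have : b⁻¹⁻¹ * k'' * b⁻¹ = b * k'' * b⁻¹ := by group
            rw [this] at hk''
            exact hk''
          · have e1 : k * u = b * ((b⁻¹ * k * b) * (b⁻¹ * u * b)) * b⁻¹ := by group
            rw [e1, he]; group
        -- the set of elements permuting with K
        let M : Subgroup G :=
          { carrier := {u | (∀ k ∈ K, ∃ u' ∈ A₁, ∃ k' ∈ K, k * u = u' * k') ∧
              (∀ k ∈ K, ∃ u' ∈ A₁, ∃ k' ∈ K, k * u⁻¹ = u' * k')}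
            one_mem' := by
              constructor
              · intro k hk
                exact ⟨1, A₁.one_mem, k, hk, by rw [mul_one, one_mul]⟩
              · intro k hk
                exact ⟨1, A₁.one_mem, k, hk, by rw [inv_one, mul_one, one_mul]⟩
            mul_mem' := by
              rintro u v ⟨hu1, hu2⟩ ⟨hv1, hv2⟩
              constructor
              · intro k hk
                obtain ⟨u', hu', k', hk', e1⟩ := hu1 k hk
                obtain ⟨v', hv', k'', hk'', e2⟩ := hv1 k' hk'
                refine ⟨u' * v', A₁.mul_mem hu' hv', k'', hk'', ?_⟩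
                rw [← mul_assoc, e1, mul_assoc, e2, ← mul_assoc]
              · intro k hk
                obtain ⟨v', hv', k', hk', e1⟩ := hv2 k hk
                obtain ⟨u', hu', k'', hk'', e2⟩ := hu2 k' hk'
                refine ⟨v' * u', A₁.mul_mem hv' hu', k'', hk'', ?_⟩
                rw [mul_inv_rev, ← mul_assoc, e1, mul_assoc, e2, ← mul_assoc]
            inv_mem' := by
              rintro u ⟨hu1, hu2⟩
              refine ⟨hu2, ?_⟩
              rw [inv_inv]
              exact hu1 }
        have hAM : A ≤ M := by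
          intro a ha
          constructor
          · intro k hk
            obtain ⟨a', ha', k', hk', e⟩ := P1 k hk a ha
            exact ⟨a', le_sup_left (a := A) ha', k', hk', e⟩
          · intro k hk
            obtain ⟨a', ha', k', hk', e⟩ := P1 k hk a⁻¹ (A.inv_mem ha)
            exact ⟨a', le_sup_left (a := A) ha', k', hk', e⟩
        have hAbM : MulAut.conj b • A ≤ M := by
          intro u hu
          constructor
          · intro k hk
            obtain ⟨u', hu', k', hk', e⟩ := P2 k hk u hu
            exact ⟨u', le_sup_right (a := A) hu', k', hk', e⟩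
          · intro k hk
            obtain ⟨u', hu', k', hk', e⟩ := P2 k hk u⁻¹ (Subgroup.inv_mem _ hu)
            exact ⟨u', le_sup_right (a := A) hu', k', hk', e⟩
        have hA₁M : A₁ ≤ M := sup_le hAM hAbM
        let S₁ : Subgroup G :=
          { carrier := {g | ∃ u ∈ A₁, ∃ k ∈ K, u * k = g}
            one_mem' := ⟨1, A₁.one_mem, 1, K.one_mem, mul_one 1⟩
            mul_mem' := by
              rintro _ _ ⟨u, hu, k, hk, rfl⟩ ⟨u', hu', k', hk', rfl⟩
              obtain ⟨u'', hu'', k'', hk'', e⟩ := (hA₁M hu').1 k hk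
              refine ⟨u * u'', A₁.mul_mem hu hu'', k'' * k', K.mul_mem hk'' hk', ?_⟩
              calc u * u'' * (k'' * k') = u * (u'' * k'') * k' := by group
                _ = u * (k * u') * k' := by rw [e]
                _ = u * k * (u' * k') := by group
            inv_mem' := by
              rintro _ ⟨u, hu, k, hk, rfl⟩
              obtain ⟨u', hu', k', hk', e⟩ := (hA₁M hu).2 k⁻¹ (K.inv_mem hk)
              exact ⟨u', hu', k', hk', by rw [← e, mul_inv_rev]⟩ }
        refine ⟨S₁, ?_, ?_⟩
        · intro hS₁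
          obtain ⟨S₀, hS₀1, hS₀2⟩ := hyp' 1
          rw [map_one, one_smul] at hS₀2
          have hAS₀ : A ≤ S₀ := by
            intro a ha
            rw [← SetLike.mem_coe, hS₀2]
            exact Set.mem_mul.mpr ⟨a, ha, 1, Subgroup.one_mem _, mul_one a⟩
          have hBS₀ : B' ≤ S₀ := by
            intro c hc
            rw [← SetLike.mem_coe, hS₀2]
            exact Set.mem_mul.mpr ⟨1, A.one_mem, c, hc, one_mul c⟩
          have hA₁S₀ : A₁ ≤ S₀ := by
            apply sup_le hAS₀
            intro u hu
            rw [mem_conj_smul] at hu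
            have := S₀.mul_mem (S₀.mul_mem (hBS₀ hbB) (hAS₀ hu)) (S₀.inv_mem (hBS₀ hbB))
            have e : b * (b⁻¹ * u * b) * b⁻¹ = u := by group
            rwa [e] at this
          have hy : y ∈ S₀ := by
            have hy1 : y⁻¹ ∈ S₁ := hS₁ ▸ Subgroup.mem_top _
            obtain ⟨u, hu, k, hk, e⟩ := hy1
            rw [hK, mem_conj_smul] at hk
            have : y = u⁻¹ * (y⁻¹ * k * y)⁻¹ := by
              have e2 : y⁻¹ * k * y = y⁻¹ * (u⁻¹ * y⁻¹) * y := by rw [← e]; group
              rw [e2]; group
            rw [this]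
            exact S₀.mul_mem (S₀.inv_mem (hA₁S₀ hu)) (S₀.inv_mem (hBS₀ hk))
          have hKS₀ : K ≤ S₀ := by
            intro k hk
            rw [hK, mem_conj_smul] at hk
            have := S₀.mul_mem (S₀.mul_mem hy (hBS₀ hk)) (S₀.inv_mem hy)
            have e : y * (y⁻¹ * k * y) * y⁻¹ = k := by group
            rwa [e] at this
          apply hS₀1
          rw [eq_top_iff]
          intro g _
          have hg : g ∈ S₁ := hS₁ ▸ Subgroup.mem_top g
          obtain ⟨u, hu, k, hk, rfl⟩ := hg
          exact S₀.mul_mem (hA₁S₀ hu) (hKS₀ hk)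
        · ext g
          constructor
          · rintro ⟨u, hu, k, hk, e⟩
            exact Set.mem_mul.mpr ⟨u, hu, k, hk, e⟩
          · intro hg
            obtain ⟨u, hu, k, hk, e⟩ := Set.mem_mul.mp hg
            exact ⟨u, hu, k, hk, e⟩
      have hcard : Nat.card A < Nat.card A₁ := by
        apply lt_of_le_of_ne (Subgroup.card_le_of_le hlt.le)
        intro he
        exact hlt.ne (Subgroup.eq_of_le_of_card_ge hlt.le he.ge)
      have hcard2 : Nat.card A₁ ≤ Nat.card G := Subgroup.card_le_card_group A₁
      obtain ⟨N, hNn, hNt, hN⟩ := ih (Nat.card G - Nat.card A₁) (by omega) A₁ B' rfl hyp₁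
      refine ⟨N, hNn, hNt, ?_⟩
      rcases hN with h | h
      · exact Or.inl (hlt.le.trans h)
      · right
        have h1 : MulAut.conj x⁻¹ • B' ≤ MulAut.conj x⁻¹ • N :=
          Subgroup.pointwise_smul_le_pointwise_smul_iff.mpr h
        haveI := hNn
        rwa [conj_smul_normal x⁻¹ N, hB', ← mul_smul, ← map_mul, inv_mul_cancel, map_one, one_smul] at h1

/-- Let A and B be nontrivial subgroups of a finite group G such that for every x the product set of A and xBx⁻¹ is a proper subgroup of G. Then there is a proper normal subgroup of G containing A or containing B. -/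
theorem result {G : Type*} [Group G] [Finite G] (A B : Subgroup G) (hA : A ≠ ⊥) (hB : B ≠ ⊥) (h : ∀ x : G, ∃ S : Subgroup G, S ≠ ⊤ ∧ (S : Set G) = (A : Set G) * ((MulAut.conj x • B : Subgroup G) : Set G)) : ∃ N : Subgroup G, N.Normal ∧ N ≠ ⊤ ∧ (A ≤ N ∨ B ≤ N) := by
  exact main _ A B rfl h

end Cfsg.Agent.S0566
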