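import Cfsg.Statements.S0050
import Mathlib
import Cfsg.Agent.Lib.Lead.ThompsonPQ
open scoped Pointwise

set_option autoImplicit false
open Cfsg

namespace Cfsg.Agent.S0050

/-- Frattini argument for Hall subgroups: if L is a solvable normal subgroup and H a subgroup of L of order coprime to its index in L, then L together with the normaliser of H generates the whole group. -/
theorem result {G : Type*} [Group G] [Finite G] (L : Subgroup G) [L.Normal] (hL : Group.IsSolvable L)
    (H : Subgroup G) (hHL : H ≤ L) (hHall : (Nat.card H).Coprime (H.relIndex L)) :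
    L ⊔ Subgroup.normalizer (H : Set G) = ⊤ := by
  rw [eq_top_iff]
  intro g _
  have hcard : Nat.card L = Nat.card H * H.relIndex L := by
    have := (H.subgroupOf L).card_mul_index
    rw [Cfsg.Agent.Lib.Lead.card_subgroupOf_of_le hHL] at this
    exact this.symm
  have hHg : MulAut.conj g • H ≤ L := by
    rw [← Cfsg.Agent.Lib.Lead.conj_smul_normal g L]
    exact Subgroup.pointwise_smul_le_pointwise_smul_iff.mpr hHL
  obtain ⟨l, hl⟩ := (Cfsg.Agent.Lib.Lead.hallProp_of_solvable L _ _ hcard hHall).1
    (H.subgroupOf L) ((MulAut.conj g • H).subgroupOf L)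
    (Cfsg.Agent.Lib.Lead.card_subgroupOf_of_le hHL)
    ((Cfsg.Agent.Lib.Lead.card_subgroupOf_of_le hHg).trans (Cfsg.Agent.Lib.Lead.card_conj_smul g H))
  obtain ⟨x, hxL, hx⟩ := Cfsg.Agent.Lib.Lead.conj_of_conj_subgroupOf hHL hHg ⟨l, hl⟩
  have h2 : x⁻¹ * g ∈ Subgroup.normalizer (H : Set G) := by
    rw [Cfsg.Agent.Lib.Lead.mem_normalizer_iff_conj_smul, map_mul, mul_smul, ← hx, ← mul_smul,
      ← map_mul, inv_mul_cancel, map_one, one_smul]
  have : g = x * (x⁻¹ * g) := by group
  rw [this]
  exact Subgroup.mul_mem _ (Subgroup.mem_sup_left hxL) (Subgroup.mem_sup_right h2)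

end Cfsg.Agent.S0050
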