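import Mathlib
import Cfsg.Statements.S1474
import Cfsg.Agent.Lib.Helper4.CNGroup4
import Cfsg.Agent.Lib.Helper4.FittingHall
-- import your own Cfsg.Agent.* helpers here

set_option autoImplicit false
open Cfsg Cfsg.Agent.Lib.Helper4 Cfsg.Agent.Lib.Lead

namespace Cfsg.Agent.S1474

theorem main_aux {G : Type*} [Group G] [Finite G] (hCN : Cfsg.IsCNGroup G) (hnn : ¬ Group.IsNilpotent G)
    (H : Subgroup G) [hHn : H.Normal] (hHnil : Group.IsNilpotent H)
    (hHhall : (Nat.card H).Coprime H.index)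
    (hHmax : ∀ N : Subgroup G, N.Normal → Group.IsNilpotent N → (Nat.card N).Coprime N.index → N ≤ H)
    (hH1 : H ≠ ⊥) :
    H ≠ ⊥ ∧ H ≠ ⊤ ∧
      (∃ E : Subgroup G, Subgroup.IsComplement' H E ∧ Cfsg.IsFrobeniusComplement E ∧
        ∀ e ∈ E, e ≠ 1 → H ⊓ Subgroup.centralizer ({e} : Set G) = ⊥) ∧
      Group.IsNilpotent (G ⧸ H) := by
  classical
  have hHT : H ≠ ⊤ := by
    intro h0
    apply hnn
    rw [h0] at hHnil
    haveI := hHnil
    exact Group.nilpotent_of_mulEquiv (Subgroup.topEquiv (G := G))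
  obtain ⟨E, hc⟩ := Subgroup.exists_right_complement'_of_coprime hHhall
  have hfpf : ∀ e ∈ E, e ≠ 1 → H ⊓ Subgroup.centralizer ({e} : Set G) = ⊥ :=
    fun e he he1 => cn_fpf_of_complement hCN hHn hHnil hHhall hHmax hc e he he1
  have hFrob := isFrobeniusComplement_of_fpf hHn hc hH1 hHT hfpf
  refine ⟨hH1, hHT, ⟨E, hc, hFrob, hfpf⟩, ?_⟩
  obtain ⟨K, hK⟩ := exists_frobData hFrob
  have hcen := hK.center_ne_bot
  obtain ⟨⟨z, hz⟩, hz1⟩ := (Subgroup.ne_bot_iff_exists_ne_one).mp hcen
  have hz1' : (z : G) ≠ 1 := by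
    intro h0
    apply hz1
    apply Subtype.ext
    apply Subtype.ext
    simpa using h0
  have hEle : E ≤ Subgroup.centralizer ({(z : G)} : Set G) := by
    intro e he
    rw [mem_centralizer_singleton_iff']
    have := Subgroup.mem_center_iff.mp hz ⟨e, he⟩
    exact (congrArg Subtype.val this).symm
  have hEnil : Group.IsNilpotent E := isNilpotent_of_le (hCN _ hz1') hEle
  haveI := hEnil
  apply Group.nilpotent_of_surjective ((QuotientGroup.mk' H).comp E.subtype)
  intro gb
  obtain ⟨g, rfl⟩ := QuotientGroup.mk'_surjective H gb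
  obtain ⟨⟨⟨h, hh⟩, ⟨e, he⟩⟩, hge⟩ := hc.2 g
  simp only at hge
  refine ⟨⟨e, he⟩, ?_⟩
  rw [← hge]
  simp only [MonoidHom.comp_apply, Subgroup.subtype_apply, map_mul]
  have : (QuotientGroup.mk' H) h = 1 := by
    rw [← MonoidHom.mem_ker, QuotientGroup.ker_mk']; exact hh
  rw [this, one_mul]

/-- Let G be a finite group in which every non-identity element has nilpotent centralizer, not itself nilpotent, and having a nontrivial normal Sylow p-subgroup for some prime p. Let H be the largest normal nilpotent Hall subgroup of G. Then H is a nontrivial proper normal subgroup with a complement E that is a Frobenius complement in G (no non-identity element of E centralizes a non-identity element of H), and G/H is nilpotent. -/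
theorem result {G : Type*} [Group G] [Finite G] (hCN : Cfsg.IsCNGroup G) (hnn : ¬ Group.IsNilpotent G) (p : ℕ) [Fact p.Prime] (P : Sylow p G)
    (hP1 : (P : Subgroup G) ≠ ⊥) (hPn : (P : Subgroup G).Normal) :
    Cfsg.fittingHall G ≠ ⊥ ∧ Cfsg.fittingHall G ≠ ⊤ ∧
      (∃ E : Subgroup G, Subgroup.IsComplement' (Cfsg.fittingHall G) E ∧ Cfsg.IsFrobeniusComplement E ∧
        ∀ e ∈ E, e ≠ 1 → Cfsg.fittingHall G ⊓ Subgroup.centralizer ({e} : Set G) = ⊥) ∧
      Group.IsNilpotent (G ⧸ Cfsg.fittingHall G) := by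
  classical
  obtain ⟨hHn, hHnil, hHhall⟩ := fittingHall_mem (G := G)
  have hPhall : (Nat.card (P : Subgroup G)).Coprime (P : Subgroup G).index := by
    obtain ⟨j, hj⟩ := IsPGroup.iff_card.mp P.2
    rw [hj]
    apply Nat.Coprime.pow_left
    exact (Nat.Prime.coprime_iff_not_dvd Fact.out).mpr P.not_dvd_index
  have hPH : (P : Subgroup G) ≤ Cfsg.fittingHall G := le_fittingHall hPn P.2.isNilpotent hPhall
  have hH1 : Cfsg.fittingHall G ≠ ⊥ := by
    intro h0
    apply hP1
    rw [eq_bot_iff, ← h0]; exact hPH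
  exact main_aux hCN hnn (Cfsg.fittingHall G) hHnil hHhall
    (fun N h1 h2 h3 => le_fittingHall h1 h2 h3) hH1

end Cfsg.Agent.S1474
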