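import Mathlib
import Cfsg.Statements.S1476
import Cfsg.Agent.Lib.Helper4.CNSolv5
import Cfsg.Agent.S1474
-- import your own Cfsg.Agent.* helpers here

set_option autoImplicit false
open Cfsg Cfsg.Agent.Lib.Helper4 Cfsg.Agent.Lib.Helper4.CNSolv Cfsg.Agent.Lib.Lead

namespace Cfsg.Agent.S1476

/-- Let G be a finite solvable group in which every non-identity element has nilpotent centralizer. Then either G is nilpotent; or G has a normal subgroup K with a Frobenius complement E (K E = G, K ∩ E = 1, E meets its conjugates by outside elements trivially) such that E is cyclic or E is generated by two elementwise-commuting subgroups, one cyclic of odd order and one isomorphic to a generalized quaternion group; or G is a three-step group with respect to some prime p. -/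
theorem result {G : Type*} [Group G] [Finite G] [Group.IsSolvable G] (hCN : Cfsg.IsCNGroup G) :
    Group.IsNilpotent G ∨
      (∃ K E : Subgroup G, K.Normal ∧ Subgroup.IsComplement' K E ∧ Cfsg.IsFrobeniusComplement E ∧
        (IsCyclic E ∨ ∃ C Q : Subgroup G, C ⊔ Q = E ∧ (∀ a ∈ C, ∀ b ∈ Q, a * b = b * a) ∧ IsCyclic C ∧ Odd (Nat.card C) ∧
          ∃ n : ℕ, Nonempty (↥Q ≃* QuaternionGroup (2 ^ n)))) ∨
      ∃ p : ℕ, p.Prime ∧ Cfsg.IsThreeStepGroup p G := by
  classical
  by_cases hnil : Group.IsNilpotent G
  · exact Or.inl hnil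
  right
  have hFn : (fittingSubgroup G).Normal := fittingSubgroup_normal
  have hFnil : Group.IsNilpotent (fittingSubgroup G) := fittingSubgroup_isNilpotent
  have hFc : Subgroup.centralizer (fittingSubgroup G : Set G) ≤ fittingSubgroup G :=
    Cfsg.Agent.S0044.result
  have hF1 : fittingSubgroup G ≠ ⊥ := by
    intro h0
    apply hnil
    have hall : ∀ g : G, g = 1 := by
      intro g
      have h1 : g ∈ Subgroup.centralizer (fittingSubgroup G : Set G) := by
        rw [Subgroup.mem_centralizer_iff]
        intro h hh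
        rw [h0] at hh
        have : h = 1 := hh
        rw [this, one_mul, mul_one]
      have h2 := hFc h1
      rwa [h0, Subgroup.mem_bot] at h2
    have : Subsingleton G := ⟨fun a b => by rw [hall a, hall b]⟩
    infer_instance
  have hcF : Nat.card (fittingSubgroup G) ≠ 1 := fun h => hF1 (Subgroup.card_eq_one.mp h)
  obtain ⟨p, hp, hpF⟩ := Nat.exists_prime_and_dvd hcF
  haveI : Fact p.Prime := ⟨hp⟩
  by_cases hq : ∃ q : ℕ, q.Prime ∧ q ≠ p ∧ q ∣ Nat.card (fittingSubgroup G)
  · obtain ⟨q, hqp, hne, hqF⟩ := hq
    haveI : Fact q.Prime := ⟨hqp⟩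
    obtain ⟨P, hP1, hPn⟩ := exists_normal_sylow hCN (Ne.symm hne) hpF hqF
    obtain ⟨hH1, hHT, ⟨E, hc, hFrob, hfpf⟩, hquot⟩ :=
      Cfsg.Agent.S1474.result hCN hnil p P hP1 hPn
    left
    have hE1 : E ≠ ⊥ := hFrob.1
    have hHn : (fittingHall G).Normal := inferInstance
    obtain ⟨z, hzE, hz1, hzc⟩ := exists_central_of_fpf (K := fittingHall G) (H := E)
      Subgroup.le_normalizer_of_normal hH1 hE1 hfpf
    have hEnil : Group.IsNilpotent E := isNilpotent_of_le (hCN z hz1)
      (fun a ha => Subgroup.mem_centralizer_singleton_iff.mpr (hzc a ha))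
    exact ⟨fittingHall G, E, hHn, hc, hFrob,
      nilpotent_fpf_structure hH1 Subgroup.le_normalizer_of_normal hfpf hEnil⟩
  · push Not at hq
    have hFp : IsPGroup p (fittingSubgroup G) := by
      have h1 := Nat.eq_prime_pow_of_unique_prime_dvd (n := Nat.card (fittingSubgroup G)) (p := p)
        Nat.card_pos.ne' (fun {d} hd hdd => by
          by_contra hne
          exact hq d hd hne hdd)
      exact IsPGroup.of_card h1
    have hFeq : fittingSubgroup G = pCore p G :=
      le_antisymm (le_pCore hFn hFp)
        (le_fittingSubgroup inferInstance (pCore_isPGroup (G := G) p).isNilpotent)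
    have hP1 : pCore p G ≠ ⊥ := hFeq ▸ hF1
    have hPT : pCore p G ≠ ⊤ := by
      intro h0
      apply hnil
      have hnilP : Group.IsNilpotent (pCore p G) := (pCore_isPGroup (G := G) p).isNilpotent
      rw [h0] at hnilP
      exact Group.nilpotent_of_mulEquiv (Subgroup.topEquiv (G := G))
    have hcP : Subgroup.centralizer (pCore p G : Set G) ≤ pCore p G := hFeq ▸ hFc
    rcases case_two hCN hP1 hPT hcP with h | h
    · exact Or.inl h
    · exact Or.inr ⟨p, hp, h⟩

end Cfsg.Agent.S1476
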