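import Mathlib
-- Template for statement S1324 (row 1324; see /opt/grader/pristine/manifest.json for weights).
-- Copy to Cfsg/Agent/S1324.lean and replace the sorry. The statement below is byte-identical to the frozen
-- statement Cfsg.CfsgFrozen.S1324 (Cfsg/Statements/S1324.lean; the theorem Cfsg.coprime_action_generated_by_hyperplane_centralizers);
-- the grader kernel-checks Cfsg.Agent.S1324.result against that frozen type. Keep the theorem IN THIS FILE
-- (a `result` declared elsewhere and merely imported here is not credited); helpers may live anywhere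
-- under Cfsg/Agent/.
import Cfsg.Statements.S1324
import Cfsg.Agent.Lib.Helper3.Gen3

set_option autoImplicit false
open Cfsg

namespace Cfsg.Agent.S1324

/-- Let A be a noncyclic elementary abelian p-subgroup of a finite group H normalizing a subgroup X of order prime to p. Then X is generated by the subgroups X ∩ C_H(B), B ranging over the subgroups of A of index at most p. -/
theorem result {H : Type*} [Group H] [Finite H] (p : ℕ) [Fact p.Prime] (A X : Subgroup H) (hA : Cfsg.IsElementaryAbelian p A) (hA2 : p ^ 2 ≤ Nat.card ↥A) (hX : ¬ p ∣ Nat.card ↥X) (hAX : A ≤ Subgroup.normalizer (X : Set H)) : X = ⨆ B : {B : Subgroup H // B ≤ A ∧ B.relIndex A ≤ p}, X ⊓ Subgroup.centralizer ((B : Subgroup H) : Set H) := by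
  apply le_antisymm
  · have h1 := Cfsg.Agent.Lib.Helper3.Gen.le_hypJoin hA (Nat.card A - Nat.card (⊥ : Subgroup H)) ⊥ X le_rfl
      bot_le (by rw [Subgroup.coe_bot, Subgroup.centralizer_eq_top_iff_subset.mpr (by simp)]; exact le_top) hX hAX
    refine h1.trans (iSup_le ?_)
    rintro ⟨B, -, hBA, hidx⟩
    exact le_iSup (fun B : {B : Subgroup H // B ≤ A ∧ B.relIndex A ≤ p} =>
      X ⊓ Subgroup.centralizer ((B : Subgroup H) : Set H)) ⟨B, hBA, hidx⟩
  · exact iSup_le fun _ => inf_le_left

end Cfsg.Agent.S1324
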