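import Cfsg.Statements.S0561
import Mathlib
import Mathlib
import Cfsg.Agent.Lib.Helper2.HallFac

set_option autoImplicit false
open Pointwise
open Cfsg

namespace Cfsg.Agent.S0561

/-- Let the finite solvable group G be the product HK of subgroups, and let A be normal in H and B normal in K, where A and B are Hall subgroups of G (order coprime to index). Then for all x, y the product set of xAx⁻¹ and yBy⁻¹ is a subgroup of G. -/
theorem result {G : Type*} [Group G] [Finite G] [Group.IsSolvable G] (H K A B : Subgroup G) (hHK : ∀ g : G, ∃ h ∈ H, ∃ k ∈ K, g = h * k) (hA : A ≤ H) (hAn : (A.subgroupOf H).Normal) (hB : B ≤ K) (hBn : (B.subgroupOf K).Normal) (hAh : (Nat.card A).Coprime A.index) (hBh : (Nat.card B).Coprime B.index) (x y : G) : ∃ S : Subgroup G, (S : Set G) = ((MulAut.conj x • A : Subgroup G) : Set G) * ((MulAut.conj y • B : Subgroup G) : Set G) := by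
  have hfac := (Cfsg.Agent.S0559.result H K (MulAut.conj x • H) (MulAut.conj y • K) hHK
    ⟨x, rfl⟩ ⟨y, rfl⟩).1
  have key : ∀ (z : G) (H A : Subgroup G), A ≤ H → (A.subgroupOf H).Normal →
      ∀ h ∈ MulAut.conj z • H, ∀ a ∈ MulAut.conj z • A, h * a * h⁻¹ ∈ MulAut.conj z • A := by
    intro z H A hA hAn h hh a ha
    rw [Cfsg.Agent.S0559.mem_conj_smul] at hh ha ⊢
    have h1 : (⟨z⁻¹ * h * z, hh⟩ : H) * ⟨z⁻¹ * a * z, hA ha⟩ * (⟨z⁻¹ * h * z, hh⟩ : H)⁻¹ ∈
        A.subgroupOf H := hAn.conj_mem ⟨z⁻¹ * a * z, hA ha⟩ (Subgroup.mem_subgroupOf.2 ha) _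
    have h2 := Subgroup.mem_subgroupOf.1 h1
    have h3 : z⁻¹ * (h * a * h⁻¹) * z = (z⁻¹ * h * z) * (z⁻¹ * a * z) * (z⁻¹ * h * z)⁻¹ := by group
    rw [h3]
    simpa using h2
  refine Cfsg.Agent.Lib.Helper2.HallFac.core (MulAut.conj x • H) (MulAut.conj y • K)
    (MulAut.conj x • A) (MulAut.conj y • B) hfac (key x H A hA hAn) (key y K B hB hBn) ?_ ?_
  · rw [Cfsg.Agent.Lib.Lead.card_conj_smul, Cfsg.Agent.Lib.Helper2.index_conj_smul]; exact hAh
  · rw [Cfsg.Agent.Lib.Lead.card_conj_smul, Cfsg.Agent.Lib.Helper2.index_conj_smul]; exact hBh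

end Cfsg.Agent.S0561
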