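import Cfsg.Statements.S0560
import Mathlib
import Cfsg.Agent.Lib.Helper2.Basic

set_option autoImplicit false
open Cfsg
open scoped Pointwise

namespace Cfsg.Agent.S0560

open Cfsg.Agent.Lib.Helper2

lemma map_subtype_smul {G : Type*} [Group G] (H : Subgroup G) (h : H) (X : Subgroup H) :
    (MulAut.conj h • X).map H.subtype = MulAut.conj (h : G) • (X.map H.subtype) := by
  ext x
  constructor
  · rintro ⟨y, hy, rfl⟩
    obtain ⟨w, hw, rfl⟩ := (Subgroup.mem_smul_pointwise_iff_exists _ _ _).mp hy
    rw [Subgroup.mem_smul_pointwise_iff_exists]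
    exact ⟨(w : G), ⟨w, hw, rfl⟩, by simp [MulAut.smul_def]⟩
  · intro hx
    obtain ⟨w, ⟨v, hv, rfl⟩, rfl⟩ := (Subgroup.mem_smul_pointwise_iff_exists _ _ _).mp hx
    refine ⟨MulAut.conj h • v, Subgroup.smul_mem_pointwise_smul _ _ _ hv, ?_⟩
    simp [MulAut.smul_def]

lemma exists_conj_le_sylow {G : Type*} [Group G] [Finite G] (p : ℕ) [Fact p.Prime]
    (S : Sylow p G) (X : Subgroup G) (hX : IsPGroup p X) :
    ∃ x : G, X ≤ MulAut.conj x • (S : Subgroup G) := by
  obtain ⟨S₁, hS₁⟩ := hX.exists_le_sylow
  obtain ⟨x, hx⟩ := MulAction.exists_smul_eq G S S₁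
  refine ⟨x, ?_⟩
  rw [← Sylow.coe_subgroup_smul, hx]
  exact hS₁

/-- Let the finite group G be the product HK of two subgroups and p a prime. Then there are Sylow p-subgroups P of H and Q of K and a Sylow p-subgroup R of G whose underlying set is the product set of P and Q. -/
theorem result {G : Type*} [Group G] [Finite G] (H K : Subgroup G) (hHK : ∀ g : G, ∃ h ∈ H, ∃ k ∈ K, g = h * k) (p : ℕ) [Fact p.Prime] : ∃ (P : Sylow p H) (Q : Sylow p K) (R : Sylow p G), ((R : Subgroup G) : Set G) = (((P : Subgroup H).map H.subtype : Subgroup G) : Set G) * (((Q : Subgroup K).map K.subtype : Subgroup G) : Set G) := by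
  have hpp : p.Prime := Fact.out
  let P₀ : Sylow p H := default
  let Q₀ : Sylow p K := default
  let S : Sylow p G := default
  obtain ⟨x, hx⟩ := exists_conj_le_sylow p S _ (P₀.2.map H.subtype)
  obtain ⟨y, hy⟩ := exists_conj_le_sylow p S _ (Q₀.2.map K.subtype)
  -- y x⁻¹ = k' h'
  obtain ⟨h', hh', k', hk', hxy⟩ := hHK (y * x⁻¹)⁻¹
  -- (y x⁻¹)⁻¹ = h' k'  so  y x⁻¹ = k'⁻¹ h'⁻¹ ; take k = k', h = h'⁻¹: k⁻¹... we need h x = k y
  -- x y⁻¹ = h' k'  =>  h'⁻¹ x = k' y
  have hz : h'⁻¹ * x = k' * y := by
    have : x * y⁻¹ = h' * k' := by rw [← hxy]; group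
    calc h'⁻¹ * x = h'⁻¹ * (x * y⁻¹) * y := by group
      _ = h'⁻¹ * (h' * k') * y := by rw [this]
      _ = k' * y := by group
  set z := h'⁻¹ * x with hzdef
  let hH : H := ⟨h'⁻¹, H.inv_mem hh'⟩
  let kK : K := ⟨k', hk'⟩
  let P : Sylow p H := hH • P₀
  let Q : Sylow p K := kK • Q₀
  let R : Sylow p G := z • S
  have hPG : (P : Subgroup H).map H.subtype ≤ (R : Subgroup G) := by
    have h1 : ((P : Subgroup H)).map H.subtype = MulAut.conj (h'⁻¹ : G) • ((P₀ : Subgroup H).map H.subtype) :=
      map_subtype_smul H hH _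
    rw [h1]
    have h2 : (R : Subgroup G) = MulAut.conj (h'⁻¹ : G) • (MulAut.conj x • (S : Subgroup G)) := by
      change MulAut.conj z • (S : Subgroup G) = _
      rw [hzdef, map_mul, mul_smul]
    rw [h2]
    exact Subgroup.pointwise_smul_le_pointwise_smul_iff.mpr hx
  have hQG : (Q : Subgroup K).map K.subtype ≤ (R : Subgroup G) := by
    have h1 : ((Q : Subgroup K)).map K.subtype = MulAut.conj (k' : G) • ((Q₀ : Subgroup K).map K.subtype) :=
      map_subtype_smul K kK _
    rw [h1]
    have h2 : (R : Subgroup G) = MulAut.conj (k' : G) • (MulAut.conj y • (S : Subgroup G)) := by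
      change MulAut.conj z • (S : Subgroup G) = _
      rw [hz, map_mul, mul_smul]
    rw [h2]
    exact Subgroup.pointwise_smul_le_pointwise_smul_iff.mpr hy
  refine ⟨P, Q, R, ?_⟩
  set PG := (P : Subgroup H).map H.subtype with hPGdef
  set QG := (Q : Subgroup K).map K.subtype with hQGdef
  apply Set.Subset.antisymm
  · -- R ⊆ PG * QG by counting
    have hcount : QG.relIndex (R : Subgroup G) ≤ QG.relIndex PG := by
      -- cards
      have hPc : Nat.card PG = p ^ (Nat.card H).factorization p := by
        rw [hPGdef, Subgroup.card_map_of_injective H.subtype_injective]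
        exact P.card_eq_multiplicity
      have hQc : Nat.card QG = p ^ (Nat.card K).factorization p := by
        rw [hQGdef, Subgroup.card_map_of_injective K.subtype_injective]
        exact Q.card_eq_multiplicity
      have hRc : Nat.card (R : Subgroup G) = p ^ (Nat.card G).factorization p :=
        R.card_eq_multiplicity
      have hprod := card_mul_card_inf_of_factorization H K hHK
      have hfac : (Nat.card G).factorization p + (Nat.card (H ⊓ K : Subgroup G)).factorization p =
          (Nat.card H).factorization p + (Nat.card K).factorization p := by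
        have := congrArg (fun n => n.factorization p) hprod
        beta_reduce at this
        rw [Nat.factorization_mul Nat.card_pos.ne' Nat.card_pos.ne',
          Nat.factorization_mul Nat.card_pos.ne' Nat.card_pos.ne'] at this
        simpa using this
      -- PG ⊓ QG is a p-subgroup of H ⊓ K
      have hinf_le : PG ⊓ QG ≤ H ⊓ K := by
        apply inf_le_inf
        · rintro _ ⟨w, -, rfl⟩; exact w.2
        · rintro _ ⟨w, -, rfl⟩; exact w.2
      have hinfp : IsPGroup p (PG ⊓ QG : Subgroup G) :=
        (P.2.map H.subtype).to_le inf_le_left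
      obtain ⟨j, hj⟩ := hinfp.exists_card_eq
      have hjle : j ≤ (Nat.card (H ⊓ K : Subgroup G)).factorization p := by
        have hd : p ^ j ∣ Nat.card (H ⊓ K : Subgroup G) := by
          rw [← hj]; exact Subgroup.card_dvd_of_le hinf_le
        exact (hpp.pow_dvd_iff_le_factorization Nat.card_pos.ne').mp hd
      -- relIndex computations
      have e1 : Nat.card QG * QG.relIndex (R : Subgroup G) = Nat.card (R : Subgroup G) := by
        have := Subgroup.relIndex_mul_relIndex ⊥ QG (R : Subgroup G) bot_le hQG
        rwa [Subgroup.relIndex_bot_left, Subgroup.relIndex_bot_left] at this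
      have e2 : Nat.card (PG ⊓ QG : Subgroup G) * QG.relIndex PG = Nat.card PG := by
        have := Subgroup.relIndex_mul_relIndex ⊥ (PG ⊓ QG) PG bot_le inf_le_left
        rwa [Subgroup.relIndex_bot_left, Subgroup.relIndex_bot_left,
          Subgroup.inf_relIndex_left] at this
      rw [hQc, hRc] at e1
      rw [hj, hPc] at e2
      set a := (Nat.card H).factorization p
      set b := (Nat.card K).factorization p
      set c := (Nat.card (H ⊓ K : Subgroup G)).factorization p
      set g := (Nat.card G).factorization p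
      have hbg : b ≤ g := by
        apply (Nat.pow_dvd_pow_iff_le_right hpp.one_lt).mp
        exact Dvd.intro _ e1
      have hja : j ≤ a := by
        apply (Nat.pow_dvd_pow_iff_le_right hpp.one_lt).mp
        exact Dvd.intro _ e2
      have r1 : QG.relIndex (R : Subgroup G) = p ^ (g - b) := by
        have : p ^ b * QG.relIndex (R : Subgroup G) = p ^ b * p ^ (g - b) := by
          rw [e1, ← pow_add, Nat.add_sub_cancel' hbg]
        exact Nat.eq_of_mul_eq_mul_left (pow_pos hpp.pos b) this
      have r2 : QG.relIndex PG = p ^ (a - j) := by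
        have : p ^ j * QG.relIndex PG = p ^ j * p ^ (a - j) := by
          rw [e2, ← pow_add, Nat.add_sub_cancel' hja]
        exact Nat.eq_of_mul_eq_mul_left (pow_pos hpp.pos j) this
      rw [r1, r2]
      apply Nat.pow_le_pow_right hpp.pos
      omega
    intro r hr
    obtain ⟨u, hu, v, hv, rfl⟩ := exists_mul_of_relIndex_le PG QG (R : Subgroup G) hPG hcount r hr
    exact Set.mul_mem_mul hu hv
  · rintro _ ⟨u, hu, v, hv, rfl⟩
    exact Subgroup.mul_mem _ (hPG hu) (hQG hv)

end Cfsg.Agent.S0560
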