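import Cfsg.Statements.S0572
import Mathlib

set_option autoImplicit false
open Cfsg
open scoped commutatorElement

namespace Cfsg.Agent.S0572

variable {G : Type*} [Group G]

lemma conj_fix {g a : G} (h : g * a = a * g) : g * a * g⁻¹ = a := by
  rw [h]; group

lemma comm_right {a b2 a2 : G} (h : a2 * a = a * a2) : ⁅a, b2 * a2⁆ = ⁅a, b2⁆ := by
  have h' : a2 * a⁻¹ = a⁻¹ * a2 := by
    calc a2 * a⁻¹ = a⁻¹ * (a * a2) * a⁻¹ := by group
      _ = a⁻¹ * (a2 * a) * a⁻¹ := by rw [h]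
      _ = a⁻¹ * a2 := by group
  simp only [commutatorElement_def, mul_inv_rev]
  calc a * (b2 * a2) * a⁻¹ * (a2⁻¹ * b2⁻¹) = a * b2 * (a2 * a⁻¹) * a2⁻¹ * b2⁻¹ := by group
    _ = a * b2 * (a⁻¹ * a2) * a2⁻¹ * b2⁻¹ := by rw [h']
    _ = a * b2 * a⁻¹ * b2⁻¹ := by group

lemma comm_left {a3 b3 b2 : G} (h : b3 * b2 = b2 * b3) : ⁅a3 * b3, b2⁆ = ⁅a3, b2⁆ := by
  simp only [commutatorElement_def, mul_inv_rev]
  calc a3 * b3 * b2 * (b3⁻¹ * a3⁻¹) * b2⁻¹ = a3 * (b3 * b2) * b3⁻¹ * a3⁻¹ * b2⁻¹ := by group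
    _ = a3 * (b2 * b3) * b3⁻¹ * a3⁻¹ * b2⁻¹ := by rw [h]
    _ = a3 * b2 * a3⁻¹ * b2⁻¹ := by group

/-- conj of commutator by `b1 * a1` lands on a commutator of the same shape. -/
lemma key (A B : Subgroup G) [IsMulCommutative A] [IsMulCommutative B]
    (hAB : ∀ g : G, ∃ a ∈ A, ∃ b ∈ B, g = a * b)
    (hBA : ∀ g : G, ∃ b ∈ B, ∃ a ∈ A, g = b * a)
    {a a1 b b1 : G} (ha : a ∈ A) (ha1 : a1 ∈ A) (hb : b ∈ B) (hb1 : b1 ∈ B) :
    ∃ a3 ∈ A, ∃ b2 ∈ B, (b1 * a1) * ⁅a, b⁆ * (b1 * a1)⁻¹ = ⁅a3, b2⁆ ∧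
      (a1 * b1) * ⁅a, b⁆ * (a1 * b1)⁻¹ = ⁅a3, b2⁆ := by
  have cA : ∀ {x y : G}, x ∈ A → y ∈ A → x * y = y * x := fun hx hy =>
    Subgroup.mul_comm_of_mem_isMulCommutative A hx hy
  have cB : ∀ {x y : G}, x ∈ B → y ∈ B → x * y = y * x := fun hx hy =>
    Subgroup.mul_comm_of_mem_isMulCommutative B hx hy
  obtain ⟨b2, hb2, a2, ha2, h2⟩ := hBA (a1 * b * a1⁻¹)
  obtain ⟨a3, ha3, b3, hb3, h3⟩ := hAB (b1 * a * b1⁻¹)
  refine ⟨a3, ha3, b2, hb2, ?_, ?_⟩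
  · calc (b1 * a1) * ⁅a, b⁆ * (b1 * a1)⁻¹ = b1 * (a1 * ⁅a, b⁆ * a1⁻¹) * b1⁻¹ := by group
      _ = b1 * ⁅a, b2 * a2⁆ * b1⁻¹ := by
          rw [conjugate_commutatorElement, conj_fix (cA ha1 ha), h2]
      _ = b1 * ⁅a, b2⁆ * b1⁻¹ := by rw [comm_right (cA ha2 ha)]
      _ = ⁅a3 * b3, b2⁆ := by
          rw [conjugate_commutatorElement, conj_fix (cB hb1 hb2), h3]
      _ = ⁅a3, b2⁆ := comm_left (cB hb3 hb2)
  · calc (a1 * b1) * ⁅a, b⁆ * (a1 * b1)⁻¹ = a1 * (b1 * ⁅a, b⁆ * b1⁻¹) * a1⁻¹ := by group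
      _ = a1 * ⁅a3 * b3, b⁆ * a1⁻¹ := by
          rw [conjugate_commutatorElement, conj_fix (cB hb1 hb), h3]
      _ = a1 * ⁅a3, b⁆ * a1⁻¹ := by rw [comm_left (cB hb3 hb)]
      _ = ⁅a3, b2 * a2⁆ := by
          rw [conjugate_commutatorElement, conj_fix (cA ha1 ha3), h2]
      _ = ⁅a3, b2⁆ := comm_right (cA ha2 ha3)

/-- Itô's Theorem: if a group G is the product AB of two abelian subgroups, then the commutator subgroup of G is abelian, i.e. the second term of the derived series is trivial. -/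
theorem result {G : Type*} [Group G] (A B : Subgroup G) [IsMulCommutative A] [IsMulCommutative B] (hAB : ∀ g : G, ∃ a ∈ A, ∃ b ∈ B, g = a * b) : derivedSeries G 2 = ⊥ := by
  have cA : ∀ {x y : G}, x ∈ A → y ∈ A → x * y = y * x := fun hx hy =>
    Subgroup.mul_comm_of_mem_isMulCommutative A hx hy
  have cB : ∀ {x y : G}, x ∈ B → y ∈ B → x * y = y * x := fun hx hy =>
    Subgroup.mul_comm_of_mem_isMulCommutative B hx hy
  have hBA : ∀ g : G, ∃ b ∈ B, ∃ a ∈ A, g = b * a := by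
    intro g
    obtain ⟨a, ha, b, hb, h⟩ := hAB g⁻¹
    refine ⟨b⁻¹, B.inv_mem hb, a⁻¹, A.inv_mem ha, ?_⟩
    rw [← mul_inv_rev, ← h, inv_inv]
  set S : Set G := {x | ∃ a ∈ A, ∃ b ∈ B, x = ⁅a, b⁆} with hS
  set N : Subgroup G := Subgroup.closure S with hN
  -- generators commute pairwise
  have hcomm : ∀ x ∈ S, ∀ y ∈ S, x * y = y * x := by
    rintro x ⟨a, ha, b, hb, rfl⟩ y ⟨a1, ha1, b1, hb1, rfl⟩
    obtain ⟨a3, -, b2, -, k1, k2⟩ := key A B hAB hBA ha (A.inv_mem ha1) hb (B.inv_mem hb1)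
    have k : (b1⁻¹ * a1⁻¹) * ⁅a, b⁆ * (b1⁻¹ * a1⁻¹)⁻¹ = (a1⁻¹ * b1⁻¹) * ⁅a, b⁆ * (a1⁻¹ * b1⁻¹)⁻¹ := by
      rw [k1, k2]
    set x := ⁅a, b⁆ with hx
    have k' : (a1 * b1 * a1⁻¹ * b1⁻¹) * x = x * (a1 * b1 * a1⁻¹ * b1⁻¹) := by
      have : (a1 * b1) * ((b1⁻¹ * a1⁻¹) * x * (b1⁻¹ * a1⁻¹)⁻¹) * (a1⁻¹ * b1⁻¹) =
          (a1 * b1) * ((a1⁻¹ * b1⁻¹) * x * (a1⁻¹ * b1⁻¹)⁻¹) * (a1⁻¹ * b1⁻¹) := by rw [k]
      calc (a1 * b1 * a1⁻¹ * b1⁻¹) * x
          = (a1 * b1) * ((a1⁻¹ * b1⁻¹) * x * (a1⁻¹ * b1⁻¹)⁻¹) * (a1⁻¹ * b1⁻¹) := by group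
        _ = (a1 * b1) * ((b1⁻¹ * a1⁻¹) * x * (b1⁻¹ * a1⁻¹)⁻¹) * (a1⁻¹ * b1⁻¹) := this.symm
        _ = x * (a1 * b1 * a1⁻¹ * b1⁻¹) := by group
    rw [commutatorElement_def a1 b1]
    exact k'.symm
  have hNcomm : IsMulCommutative N := Subgroup.isMulCommutative_closure hcomm
  -- S is conjugation invariant
  have hSconj : ∀ g : G, ∀ x ∈ S, g * x * g⁻¹ ∈ S := by
    rintro g x ⟨a, ha, b, hb, rfl⟩
    obtain ⟨b1, hb1, a1, ha1, rfl⟩ := hBA g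
    obtain ⟨a3, ha3, b2, hb2, k1, -⟩ := key A B hAB hBA ha ha1 hb hb1
    exact ⟨a3, ha3, b2, hb2, k1⟩
  have hNn : N.Normal := by
    refine ⟨fun n hn g => ?_⟩
    induction hn using Subgroup.closure_induction with
    | mem x hx => exact Subgroup.subset_closure (hSconj g x hx)
    | one => simp
    | mul x y _ _ ihx ihy =>
      have : g * (x * y) * g⁻¹ = (g * x * g⁻¹) * (g * y * g⁻¹) := by group
      rw [this]; exact N.mul_mem ihx ihy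
    | inv x _ ih =>
      have : g * x⁻¹ * g⁻¹ = (g * x * g⁻¹)⁻¹ := by group
      rw [this]; exact N.inv_mem ih
  -- G' ≤ N
  have hder : derivedSeries G 1 ≤ N := by
    rw [derivedSeries_succ, derivedSeries_zero, Subgroup.commutator_le]
    intro g _ h _
    obtain ⟨a, ha, b, hb, rfl⟩ := hAB g
    obtain ⟨a', ha', b', hb', rfl⟩ := hAB h
    -- work in quotient
    rw [← QuotientGroup.eq_one_iff, ← QuotientGroup.mk'_apply, map_commutatorElement]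
    have hab : ∀ {x y : G}, x ∈ A → y ∈ B → (QuotientGroup.mk' N x) * (QuotientGroup.mk' N y) = (QuotientGroup.mk' N y) * (QuotientGroup.mk' N x) := by
      intro x y hx hy
      rw [← map_mul, ← map_mul, QuotientGroup.mk'_apply, QuotientGroup.mk'_apply, QuotientGroup.eq]
      have : (x * y)⁻¹ * (y * x) = ⁅y⁻¹, x⁻¹⁆ := by
        rw [commutatorElement_def]; group
      rw [this, ← commutatorElement_inv]
      exact N.inv_mem (Subgroup.subset_closure ⟨x⁻¹, A.inv_mem hx, y⁻¹, B.inv_mem hy, rfl⟩)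
    rw [commutatorElement_eq_one_iff_mul_comm]
    simp only [map_mul]
    set f := QuotientGroup.mk' N
    have e1 : f a * f a' = f a' * f a := by rw [← map_mul, cA ha ha', map_mul]
    have e2 : f b * f b' = f b' * f b := by rw [← map_mul, cB hb hb', map_mul]
    calc f a * f b * (f a' * f b') = f a * (f b * f a') * f b' := by group
      _ = f a * (f a' * f b) * f b' := by rw [hab ha' hb]
      _ = (f a * f a') * (f b * f b') := by group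
      _ = (f a' * f a) * (f b' * f b) := by rw [e1, e2]
      _ = f a' * (f a * f b') * f b := by group
      _ = f a' * (f b' * f a) * f b := by rw [hab ha hb']
      _ = f a' * f b' * (f a * f b) := by group
  have : derivedSeries G 2 ≤ ⁅N, N⁆ := by
    rw [derivedSeries_succ]
    exact Subgroup.commutator_mono hder hder
  rw [eq_bot_iff]
  refine this.trans ?_
  rw [Subgroup.commutator_le]
  intro x hx y hy
  rw [Subgroup.mem_bot, commutatorElement_eq_one_iff_mul_comm]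
  exact Subgroup.mul_comm_of_mem_isMulCommutative N hx hy

end Cfsg.Agent.S0572
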