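import Mathlib
-- Template for statement S0989 (row 989; see /opt/grader/pristine/manifest.json for weights).
-- Copy to Cfsg/Agent/S0989.lean and replace the sorry. The statement below is byte-identical to the frozen
-- statement Cfsg.CfsgFrozen.S0989 (Cfsg/Statements/S0989.lean; the theorem Cfsg.card_normalizer_sylow_symmetric_group_prime_degree);
-- the grader kernel-checks Cfsg.Agent.S0989.result against that frozen type. Keep the theorem IN THIS FILE
-- (a `result` declared elsewhere and merely imported here is not credited); helpers may live anywhere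
-- under Cfsg/Agent/.
import Cfsg.Statements.S0989
import Cfsg.Agent.Lib.Helper3.Count
import Cfsg.Agent.Lib.Helper3.PrimeOrder

set_option autoImplicit false
open Cfsg
open Cfsg.Agent.Lib.Helper3

namespace Cfsg.Agent.S0989

/-- In the symmetric group on p or p + 1 letters, p a prime, the normalizer of a Sylow p-subgroup has order p * (p - 1). -/
theorem result {α : Type*} [Fintype α] [DecidableEq α] (p : ℕ) [Fact p.Prime] (hα : Fintype.card α = p ∨ Fintype.card α = p + 1) (P : Sylow p (Equiv.Perm α)) : Nat.card ↥(Subgroup.normalizer ((P : Subgroup (Equiv.Perm α)) : Set (Equiv.Perm α))) = p * (p - 1) := by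
  classical
  have hp : p.Prime := Fact.out
  have hfac : (Nat.card (Equiv.Perm α)).factorization p = 1 := by
    rw [Nat.card_eq_fintype_card, Fintype.card_perm]
    have h0 : (p.factorial).factorization p = 1 := by
      obtain ⟨q, hq⟩ : ∃ q, p = q + 1 := ⟨p - 1, by have := hp.pos; omega⟩
      have hnd : ¬ p ∣ q.factorial := by
        rw [hp.dvd_factorial]; omega
      conv_lhs => rw [hq, Nat.factorial_succ, ← hq]
      rw [Nat.factorization_mul hp.ne_zero (Nat.factorial_ne_zero _)]
      simp [hp.factorization_self, Nat.factorization_eq_zero_of_not_dvd hnd]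
    rcases hα with h | h
    · rw [h, h0]
    · rw [h, Nat.factorial_succ, Nat.factorization_mul (by omega) (Nat.factorial_ne_zero _)]
      have hnd : ¬ p ∣ p + 1 := by
        intro hd
        have : p ∣ 1 := (Nat.dvd_add_right (dvd_refl p)).mp hd
        exact hp.one_lt.ne' (Nat.dvd_one.mp this)
      simp [h0, Nat.factorization_eq_zero_of_not_dvd hnd]
  have hPcard : Nat.card ↥(P : Subgroup (Equiv.Perm α)) = p := by
    rw [Sylow.card_eq_multiplicity, hfac, pow_one]
  have hnt : Nontrivial ↥(P : Subgroup (Equiv.Perm α)) := by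
    rw [← Finite.one_lt_card_iff_nontrivial, hPcard]; exact hp.one_lt
  obtain ⟨g', hg'⟩ := exists_ne (1 : ↥(P : Subgroup (Equiv.Perm α)))
  set g : Equiv.Perm α := (g' : Equiv.Perm α) with hgdef
  have hgP : g ∈ (P : Subgroup (Equiv.Perm α)) := g'.2
  have hg1 : g ≠ 1 := fun h => hg' (Subtype.ext h)
  have hzp : Subgroup.zpowers g = (P : Subgroup (Equiv.Perm α)) :=
    zpowers_eq_of_card_prime hp _ hPcard hgP hg1
  have hgo : orderOf g = p := by rw [← Nat.card_zpowers, hzp, hPcard]
  -- elements of order `p` have cycle type `{p}`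
  have hα2 : Fintype.card α < 2 * p := by
    have := hp.one_lt
    rcases hα with h | h <;> omega
  have hct : ∀ y : Equiv.Perm α, orderOf y = p → y.cycleType = {p} := by
    intro y hy
    have hc : y.IsCycle := Equiv.Perm.isCycle_of_prime_order' (by rw [hy]; exact hp)
      (by rw [hy]; exact hα2)
    rw [hc.cycleType, ← hc.orderOf, hy]
  have hCg : Nat.card ↥(Subgroup.centralizer ({g} : Set (Equiv.Perm α))) = p := by
    rw [Equiv.Perm.nat_card_centralizer, hct g hgo]
    have h01 : (Fintype.card α - p).factorial = 1 := by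
      rcases hα with h | h
      · rw [h]; simp
      · rw [h]; simp
    simp [h01]
  -- the map `x ↦ x g x⁻¹` from the normalizer to the nonidentity elements of `P`
  set N := Subgroup.normalizer ((P : Subgroup (Equiv.Perm α)) : Set (Equiv.Perm α)) with hN
  let E := {y : Equiv.Perm α // y ∈ (P : Subgroup (Equiv.Perm α)) ∧ y ≠ 1}
  let f : ↥N → E := fun x => ⟨(x : Equiv.Perm α) * g * (x : Equiv.Perm α)⁻¹,
    (Subgroup.mem_normalizer_iff.mp x.2 g).mp hgP, by
      intro h
      apply hg1
      have : g = (x : Equiv.Perm α)⁻¹ * ((x : Equiv.Perm α) * g * (x : Equiv.Perm α)⁻¹) * (x : Equiv.Perm α) := by group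
      rw [this, h]; group⟩
  have hEo : ∀ y : E, orderOf y.1 = p := by
    intro y
    have := zpowers_eq_of_card_prime hp _ hPcard y.2.1 y.2.2
    rw [← Nat.card_zpowers, this, hPcard]
  have hfib : ∀ y : E, Nat.card {x // f x = y} = p := by
    intro y
    have hconj : IsConj g y.1 := by
      rw [Equiv.Perm.isConj_iff_cycleType_eq, hct g hgo, hct y.1 (hEo y)]
    obtain ⟨x₀, hx₀⟩ := isConj_iff.mp hconj
    rw [← hCg, ← card_conj_fibre' g y.1 x₀ hx₀]
    apply Nat.card_congr
    refine
      { toFun := fun x => ⟨x.1.1, congrArg Subtype.val x.2⟩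
        invFun := fun x => ⟨⟨x.1, ?_⟩, Subtype.ext x.2⟩
        left_inv := fun x => rfl
        right_inv := fun x => rfl }
    -- `x` normalizes `P`
    have hx := x.2
    rw [hN, Subgroup.mem_normalizer_iff_map_conj_eq]
    have h1 : Subgroup.map (MulAut.conj x.1).toMonoidHom (Subgroup.zpowers g) =
        Subgroup.zpowers y.1 := by
      rw [MonoidHom.map_zpowers]
      congr 1
    have h2 := zpowers_eq_of_card_prime hp _ hPcard y.2.1 y.2.2
    show Subgroup.map (MulAut.conj x.1).toMonoidHom (P : Subgroup (Equiv.Perm α)) = P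
    calc Subgroup.map (MulAut.conj x.1).toMonoidHom (P : Subgroup (Equiv.Perm α))
        = Subgroup.map (MulAut.conj x.1).toMonoidHom (Subgroup.zpowers g) := by rw [hzp]
      _ = Subgroup.zpowers y.1 := h1
      _ = P := h2
  have hcardE : Nat.card E = p - 1 := by
    have e1 : Nat.card E = Nat.card {b : ↥(P : Subgroup (Equiv.Perm α)) // b ≠ 1} := by
      apply Nat.card_congr
      refine
        { toFun := fun y => ⟨⟨y.1, y.2.1⟩, fun h => y.2.2 (congrArg Subtype.val h)⟩
          invFun := fun b => ⟨b.1.1, b.1.2, fun h => b.2 (Subtype.ext h)⟩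
          left_inv := fun y => rfl
          right_inv := fun b => rfl }
    rw [e1]
    have := Fintype.ofFinite ↥(P : Subgroup (Equiv.Perm α))
    rw [Nat.card_eq_fintype_card, Fintype.card_subtype_compl,
      Fintype.card_subtype_eq, ← Nat.card_eq_fintype_card, hPcard]
  rw [card_eq_mul_of_fibres f p hfib, hcardE, mul_comm]

end Cfsg.Agent.S0989
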