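import Cfsg.Statements.S0670
import Mathlib
import Cfsg.Agent.Lib.Lead.ModPerm1

set_option autoImplicit false
open Cfsg
open Cfsg.Agent.Lib.Lead

namespace Cfsg.Agent.S0670

/-- In characteristic `p`, the permutation module of a transitive action of degree `p ^ f` has the line of constant functions as its only irreducible submodule: every non-zero subrepresentation contains it. -/
theorem result {G : Type*} [Group G] [Finite G] {K : Type*} [Field K] {p f : ℕ} [Fact p.Prime] [CharP K p] {Ω : Type*} [Fintype Ω] [MulAction G Ω] [MulAction.IsPretransitive G Ω] (hf : 1 ≤ f) (hcard : Fintype.card Ω = p ^ f) (W : Subrepresentation (Cfsg.permRep K G Ω)) (hW : W.toSubmodule ≠ ⊥) : (Cfsg.permConstants K G Ω).toSubmodule ≤ W.toSubmodule := by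
  classical
  let P : Sylow p G := default
  haveI hPt : MulAction.IsPretransitive P Ω := ModPerm.sylow_transitive hcard P
  obtain ⟨u, huW, hu0, hufix⟩ := ModPerm.exists_fixed_vector (p := p) (P := P) P.isPGroup'
    W.toSubmodule (fun g v hv => W.apply_mem_toSubmodule (g : G) hv) hW
  change Submodule.span K {fun _ => (1 : K)} ≤ W.toSubmodule
  rw [Submodule.span_singleton_le_iff_mem]
  have hne : Nonempty Ω := by
    rw [← Fintype.card_pos_iff, hcard]
    exact pow_pos (Fact.out : p.Prime).pos f
  obtain ⟨x₀⟩ := hne
  have hconst : ∀ x, u x = u x₀ := by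
    intro x
    obtain ⟨g, hg⟩ := hPt.exists_smul_eq x x₀
    have := congrFun (hufix g) x₀
    rw [← this, ← hg, inv_smul_smul]
  have hux : u x₀ ≠ 0 := by
    intro h
    apply hu0
    funext x
    rw [hconst x, h]
    rfl
  have : (fun _ => (1 : K)) = (u x₀)⁻¹ • u := by
    funext x
    simp only [Pi.smul_apply, smul_eq_mul]
    rw [hconst x, inv_mul_cancel₀ hux]
  rw [this]
  exact W.toSubmodule.smul_mem _ huW

end Cfsg.Agent.S0670
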