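import Cfsg.Statements.S0671
import Mathlib
import Cfsg.Agent.Lib.Lead.ModPerm2

set_option autoImplicit false
open Cfsg
open Cfsg.Agent.Lib.Lead

namespace Cfsg.Agent.S0671

/-- If the heart of the permutation module in characteristic `p` of a transitive action of degree `p ^ f` has no trivial composition factor, the action is doubly transitive. The hypothesis is phrased without composition series: no invariant subspaces `W < W'` between the constants and the sum-zero functions with trivial action on the quotient. -/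
theorem result {G : Type*} [Group G] [Finite G] {K : Type*} [Field K] {p f : ℕ} [Fact p.Prime] [CharP K p] {Ω : Type*} [Fintype Ω] [MulAction G Ω] [MulAction.IsPretransitive G Ω] (hf : 1 ≤ f) (hcard : Fintype.card Ω = p ^ f) (h : ∀ W W' : Subrepresentation (Cfsg.permRep K G Ω), (Cfsg.permConstants K G Ω).toSubmodule ≤ W.toSubmodule → W.toSubmodule < W'.toSubmodule → W'.toSubmodule ≤ (Cfsg.permSumZero K G Ω).toSubmodule → ∃ g : G, ∃ v ∈ W'.toSubmodule, Cfsg.permRep K G Ω g v - v ∉ W.toSubmodule) : MulAction.IsMultiplyPretransitive G Ω 2 := by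
  classical
  by_contra hnot
  rw [MulAction.is_two_pretransitive_iff] at hnot
  push Not at hnot
  obtain ⟨a, b, c, d, hab, hcd, hno⟩ := hnot
  obtain ⟨g₀, hg₀⟩ := MulAction.exists_smul_eq G c a
  have had' : a ≠ g₀ • d := by
    intro h
    rw [← hg₀] at h
    exact hcd (MulAction.injective g₀ h)
  -- the orbital relation
  let R : Ω → Ω → Prop := fun x y => ∃ g : G, g • a = x ∧ g • b = y
  have hRg : ∀ (g : G) (x y : Ω), R x y → R (g • x) (g • y) := by
    rintro g x y ⟨k, rfl, rfl⟩
    exact ⟨g * k, mul_smul _ _ _, mul_smul _ _ _⟩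
  have hRg' : ∀ (g : G) (x y : Ω), R (g • x) (g • y) ↔ R x y := by
    intro g x y
    constructor
    · intro h
      have := hRg g⁻¹ _ _ h
      rwa [inv_smul_smul, inv_smul_smul] at this
    · exact hRg g x y
  have hRab : R a b := ⟨1, one_smul _ _, one_smul _ _⟩
  have hRad : ¬ R a (g₀ • d) := by
    rintro ⟨k, hka, hkb⟩
    apply hno (g₀⁻¹ * k)
    · rw [mul_smul, hka, inv_smul_eq_iff, hg₀]
    · rw [mul_smul, hkb, inv_smul_smul]
  have hbd' : b ≠ g₀ • d := by
    intro h
    rw [← h] at hRad
    exact hRad hRab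
  -- column counts
  let kc : Ω → ℕ := fun y => (Finset.univ.filter (fun x => R x y)).card
  have hkc : ∀ (g : G) (y : Ω), kc (g • y) = kc y := by
    intro g y
    apply Finset.card_bij' (fun x _ => g⁻¹ • x) (fun x _ => g • x)
    · intro x _
      exact smul_inv_smul g x
    · intro x _
      exact inv_smul_smul g x
    · intro x hx
      rw [Finset.mem_filter] at hx ⊢
      refine ⟨Finset.mem_univ _, ?_⟩
      have := hRg g⁻¹ _ _ hx.2
      rwa [inv_smul_smul] at this
    · intro x hx
      rw [Finset.mem_filter] at hx ⊢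
      exact ⟨Finset.mem_univ _, hRg g _ _ hx.2⟩
  have hkconst : ∀ y : Ω, kc y = kc a := by
    intro y
    obtain ⟨g, hg⟩ := MulAction.exists_smul_eq G a y
    rw [← hg, hkc]
  -- the operator
  let φ : (Ω → K) →ₗ[K] (Ω → K) :=
    { toFun := fun f x => (∑ y, if R x y then f y else 0) - (kc a : K) * f x
      map_add' := by
        intro f₁ f₂
        funext x
        simp only [Pi.add_apply]
        have : ∀ y, (if R x y then f₁ y + f₂ y else 0) =
            (if R x y then f₁ y else 0) + (if R x y then f₂ y else 0) := by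
          intro y; split_ifs <;> simp
        simp only [this, Finset.sum_add_distrib]
        ring
      map_smul' := by
        intro c f
        funext x
        simp only [Pi.smul_apply, smul_eq_mul, RingHom.id_apply]
        have : ∀ y, (if R x y then c * f y else 0) = c * (if R x y then f y else 0) := by
          intro y; split_ifs <;> simp
        simp only [this, ← Finset.mul_sum]
        ring }
  have hφapp : ∀ f x, φ f x = (∑ y, if R x y then f y else 0) - (kc a : K) * f x := fun _ _ => rfl
  have hφeq : ∀ (g : G) (f : Ω → K), φ (Cfsg.permRep K G Ω g f) = Cfsg.permRep K G Ω g (φ f) := by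
    intro g f
    funext x
    change φ (fun y => f (g⁻¹ • y)) x = φ f (g⁻¹ • x)
    rw [hφapp, hφapp]
    congr 1
    apply Fintype.sum_equiv (MulAction.toPerm g⁻¹)
    intro y
    change (if R x y then f (g⁻¹ • y) else 0) = (if R (g⁻¹ • x) (g⁻¹ • y) then f (g⁻¹ • y) else 0)
    have : R (g⁻¹ • x) (g⁻¹ • y) ↔ R x y := hRg' g⁻¹ x y
    by_cases hxy : R x y
    · rw [if_pos hxy, if_pos (this.mpr hxy)]
    · rw [if_neg hxy, if_neg (fun h => hxy (this.mp h))]
  have hφsum : ∀ f : Ω → K, ∑ x, φ f x = 0 := by
    intro f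
    simp only [hφapp, Finset.sum_sub_distrib]
    rw [Finset.sum_comm]
    have : ∀ y, (∑ x, if R x y then f y else 0) = (kc a : K) * f y := by
      intro y
      rw [← Finset.sum_filter, Finset.sum_const, nsmul_eq_mul]
      change ((kc y : ℕ) : K) * f y = _
      rw [hkconst y]
    simp only [this, ← Finset.mul_sum]
    exact sub_self _
  -- the two subrepresentations
  let W' : Subrepresentation (Cfsg.permRep K G Ω) :=
    { toSubmodule := LinearMap.range φ
      apply_mem_toSubmodule := by
        rintro g _ ⟨m, rfl⟩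
        exact ⟨Cfsg.permRep K G Ω g m, hφeq g m⟩ }
  let W : Subrepresentation (Cfsg.permRep K G Ω) :=
    { toSubmodule := Submodule.map φ (Cfsg.permSumZero K G Ω).toSubmodule
      apply_mem_toSubmodule := by
        rintro g _ ⟨m, hm, rfl⟩
        exact ⟨Cfsg.permRep K G Ω g m,
          (Cfsg.permSumZero K G Ω).apply_mem_toSubmodule g hm, hφeq g m⟩ }
  -- a test vector
  have hz₀ : (Pi.single b 1 - Pi.single (g₀ • d) 1 : Ω → K) ∈
      (Cfsg.permSumZero K G Ω).toSubmodule := by
    change ∑ x, (Pi.single b 1 - Pi.single (g₀ • d) 1 : Ω → K) x = 0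
    simp [Finset.sum_sub_distrib]
  have hφz₀ : φ (Pi.single b 1 - Pi.single (g₀ • d) 1 : Ω → K) a = 1 := by
    rw [hφapp]
    have h1 : (Pi.single b 1 - Pi.single (g₀ • d) 1 : Ω → K) a = 0 := by
      simp [Pi.single_apply, hab, had']
    rw [h1, mul_zero, sub_zero]
    have h2 : ∀ y, (if R a y then (Pi.single b 1 - Pi.single (g₀ • d) 1 : Ω → K) y else 0) =
        (if y = b then (1 : K) else 0) := by
      intro y
      by_cases hyb : y = b
      · subst hyb
        rw [if_pos hRab, if_pos rfl]
        simp [Pi.single_apply, hbd']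
      · rw [if_neg hyb]
        by_cases hyd : y = g₀ • d
        · rw [hyd, if_neg hRad]
        · split_ifs
          · simp [Pi.single_apply, hyb, hyd]
          · rfl
    simp only [h2]
    simp
  have hWne : W.toSubmodule ≠ ⊥ := by
    intro hbot
    have hmem : φ (Pi.single b 1 - Pi.single (g₀ • d) 1 : Ω → K) ∈ W.toSubmodule :=
      ⟨_, hz₀, rfl⟩
    rw [hbot, Submodule.mem_bot] at hmem
    have := congrFun hmem a
    rw [hφz₀] at this
    exact one_ne_zero this
  have hCW := Cfsg.Agent.S0670.result hf hcard W hWne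
  have hWW'le : W.toSubmodule ≤ W'.toSubmodule := by
    rintro _ ⟨m, _, rfl⟩
    exact ⟨m, rfl⟩
  have hWW'ne : W.toSubmodule ≠ W'.toSubmodule := by
    intro heq
    have hmem : φ (Pi.single a 1) ∈ W.toSubmodule := by
      rw [heq]; exact ⟨_, rfl⟩
    obtain ⟨z, hz, hzφ⟩ := hmem
    let Uk : Subrepresentation (Cfsg.permRep K G Ω) :=
      { toSubmodule := LinearMap.ker φ
        apply_mem_toSubmodule := by
          intro g v hv
          rw [LinearMap.mem_ker] at hv ⊢
          rw [hφeq, hv]
          exact map_zero _ }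
    have hu : (Pi.single a 1 - z : Ω → K) ∈ Uk.toSubmodule := by
      change (Pi.single a 1 - z : Ω → K) ∈ LinearMap.ker φ
      rw [LinearMap.mem_ker, map_sub, hzφ, sub_self]
    rcases ModPerm.le_sumZero_or_eq_top hf hcard Uk with hle | htop
    · have := hle hu
      change ∑ x, (Pi.single a 1 - z : Ω → K) x = 0 at this
      have hz' : ∑ x, z x = 0 := hz
      simp only [Pi.sub_apply, Finset.sum_sub_distrib, hz', sub_zero] at this
      simp at this
    · have hmem : (Pi.single b 1 - Pi.single (g₀ • d) 1 : Ω → K) ∈ Uk.toSubmodule := by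
        rw [htop]; trivial
      change _ ∈ LinearMap.ker φ at hmem
      rw [LinearMap.mem_ker] at hmem
      have := congrFun hmem a
      rw [hφz₀] at this
      exact one_ne_zero this
  have hW'Z : W'.toSubmodule ≤ (Cfsg.permSumZero K G Ω).toSubmodule := by
    rintro _ ⟨m, rfl⟩
    exact hφsum m
  obtain ⟨g, v, hv, hgv⟩ := h W W' hCW (lt_of_le_of_ne hWW'le hWW'ne) hW'Z
  obtain ⟨m, rfl⟩ := hv
  apply hgv
  refine ⟨Cfsg.permRep K G Ω g m - m, ?_, ?_⟩
  · change ∑ x, (Cfsg.permRep K G Ω g m - m) x = 0
    simp only [Pi.sub_apply, Finset.sum_sub_distrib]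
    rw [sub_eq_zero]
    exact Fintype.sum_equiv (MulAction.toPerm g⁻¹) _ _ (fun x => rfl)
  · rw [map_sub, hφeq]

end Cfsg.Agent.S0671
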