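import Cfsg.Statements.S0674
import Cfsg.Agent.Lib.Lead.TransInv4

set_option autoImplicit false
open Cfsg
open Cfsg.Agent.Lib.Lead

namespace Cfsg.Agent.S0674

/-- Let `G` be a non-solvable transitive permutation group of prime degree `p` and `K` a field of characteristic `p`. Then the heart of the permutation module is irreducible: an invariant subspace containing the constants and contained in the sum-zero functions is one or the other. -/
theorem result {α : Type*} [Fintype α] [DecidableEq α] {p : ℕ} [Fact p.Prime] (hα : Fintype.card α = p) (G : Subgroup (Equiv.Perm α)) [MulAction.IsPretransitive G α] (hG : ¬ Group.IsSolvable G) {K : Type*} [Field K] [CharP K p] (W : Subrepresentation (Cfsg.permRep K G α)) (h₁ : (Cfsg.permConstants K G α).toSubmodule ≤ W.toSubmodule) (h₂ : W.toSubmodule ≤ (Cfsg.permSumZero K G α).toSubmodule) : W = Cfsg.permConstants K G α ∨ W = Cfsg.permSumZero K G α := by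
  classical
  have hp : p.Prime := Fact.out
  have hW : ∀ g ∈ G, ∀ f ∈ W.toSubmodule, (fun x => f (g⁻¹ x)) ∈ W.toSubmodule := by
    intro g hg f hf
    exact W.apply_mem_toSubmodule (⟨g, hg⟩ : G) hf
  have hcontra : ¬ (2 ≤ Module.finrank K W.toSubmodule ∧ Module.finrank K W.toSubmodule + 2 ≤ p) := by
    rintro ⟨h2, h3⟩
    exact hG (TransInv.solvable_of_invariant hα G W.toSubmodule hW h2 h3)
  have hne : Nonempty α := by
    rw [← Fintype.card_pos_iff, hα]
    exact hp.pos
  obtain ⟨a₀⟩ := hne
  have hconst : Module.finrank K (Cfsg.permConstants K G α).toSubmodule = 1 := by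
    have hne1 : (fun _ : α => (1 : K)) ≠ 0 := by
      intro h
      have := congrFun h a₀
      simp at this
    exact finrank_span_singleton hne1
  have hsz : Module.finrank K (Cfsg.permSumZero K G α).toSubmodule < p := by
    have hlt : (Cfsg.permSumZero K G α).toSubmodule < ⊤ := by
      rw [lt_top_iff_ne_top]
      intro htop
      have hmem : (Pi.single a₀ (1 : K) : α → K) ∈ (Cfsg.permSumZero K G α).toSubmodule := by
        rw [htop]
        trivial
      have h0 : ∑ x, (Pi.single a₀ (1 : K) : α → K) x = 0 := hmem
      rw [Finset.sum_pi_single' a₀ (1 : K) Finset.univ] at h0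
      simp at h0
    have := Submodule.finrank_lt_finrank_of_lt hlt
    rw [finrank_top, Module.finrank_fintype_fun_eq_card, hα] at this
    exact this
  have hr1 : 1 ≤ Module.finrank K W.toSubmodule := by
    rw [← hconst]
    exact Submodule.finrank_mono h₁
  have hr2 : Module.finrank K W.toSubmodule ≤ Module.finrank K (Cfsg.permSumZero K G α).toSubmodule :=
    Submodule.finrank_mono h₂
  by_cases hone : Module.finrank K W.toSubmodule = 1
  · left
    apply Subrepresentation.toSubmodule_injective
    exact (Submodule.eq_of_le_of_finrank_le h₁ (by rw [hone, hconst])).symm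
  · right
    apply Subrepresentation.toSubmodule_injective
    apply Submodule.eq_of_le_of_finrank_le h₂
    omega

end Cfsg.Agent.S0674
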