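import Cfsg.Statements.S0675
import Cfsg.Agent.Lib.Lead.TransInv4
import Cfsg.Agent.S0671
import Cfsg.Agent.S0674

set_option autoImplicit false
open Cfsg
open Cfsg.Agent.Lib.Lead

namespace Cfsg.Agent.S0675

/-- Burnside's Theorem on permutation groups of prime degree: a transitive permutation group of prime degree that is not solvable is doubly transitive. -/
theorem result {α : Type*} [Fintype α] [DecidableEq α] (hα : (Fintype.card α).Prime) (G : Subgroup (Equiv.Perm α)) [MulAction.IsPretransitive G α] : Group.IsSolvable G ∨ MulAction.IsMultiplyPretransitive G α 2 := by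
  classical
  obtain ⟨p, hp⟩ : ∃ p, p = Fintype.card α := ⟨_, rfl⟩
  rw [← hp] at hα
  haveI : Fact p.Prime := ⟨hα⟩
  by_cases hsolv : Group.IsSolvable G
  · exact Or.inl hsolv
  right
  have hp5 : 5 ≤ p := by
    by_contra hlt
    have h3 : p ≤ 3 := by
      have h4 : p ≠ 4 := by
        intro h
        rw [h] at hα
        exact absurd hα (by decide)
      omega
    exact hsolv (TransInv.solvable_of_le_three hp.symm h3 G)
  have two_ne : (2 : ZMod p) ≠ 0 := by
    intro h
    have h1 : ((2 : ℕ) : ZMod p) = 0 := by exact_mod_cast h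
    rw [ZMod.natCast_eq_zero_iff] at h1
    have := Nat.le_of_dvd (by norm_num) h1
    omega
  have three_ne : (3 : ZMod p) ≠ 0 := by
    intro h
    have h1 : ((3 : ℕ) : ZMod p) = 0 := by exact_mod_cast h
    rw [ZMod.natCast_eq_zero_iff] at h1
    have := Nat.le_of_dvd (by norm_num) h1
    omega
  apply Cfsg.Agent.S0671.result (K := ZMod p) (p := p) (f := 1) le_rfl (by rw [pow_one]; exact hp.symm)
  intro W W' hcW hlt hW'
  have hW1 := Cfsg.Agent.S0674.result (p := p) (K := ZMod p) hp.symm G hsolv W hcW (hlt.le.trans hW')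
  have hW2 := Cfsg.Agent.S0674.result (p := p) (K := ZMod p) hp.symm G hsolv W' (hcW.trans hlt.le) hW'
  have hWc : W = Cfsg.permConstants (ZMod p) G α := by
    rcases hW1 with h | h
    · exact h
    · exfalso
      rw [h] at hlt
      exact absurd hlt (not_lt_of_ge hW')
  have hW's : W' = Cfsg.permSumZero (ZMod p) G α := by
    rcases hW2 with h | h
    · exfalso
      rw [h, hWc] at hlt
      exact lt_irrefl _ hlt
    · exact h
  subst hWc
  subst hW's
  have h3 : 2 < Fintype.card α := by omega
  obtain ⟨a, b, c, hab, hac, hbc⟩ := Fintype.two_lt_card_iff.mp h3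
  obtain ⟨g, hg⟩ := MulAction.exists_smul_eq G a b
  let v : α → ZMod p := fun x => (if x = a then 1 else 0) - (if x = c then 1 else 0)
  have hv : v ∈ (Cfsg.permSumZero (ZMod p) G α).toSubmodule := by
    show ∑ x, v x = 0
    simp only [v, Finset.sum_sub_distrib, Finset.sum_ite_eq', Finset.mem_univ, if_true, sub_self]
  refine ⟨g, v, hv, ?_⟩
  intro hmem
  have hmem' : Cfsg.permRep (ZMod p) G α g v - v ∈ Submodule.span (ZMod p) {fun _ : α => (1 : ZMod p)} := hmem
  rw [Submodule.mem_span_singleton] at hmem'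
  obtain ⟨k, hk⟩ := hmem'
  have ha := congrFun hk a
  have hb := congrFun hk b
  have e1 : Cfsg.permRep (ZMod p) G α g v b = v (g⁻¹ • b) := rfl
  have e2 : Cfsg.permRep (ZMod p) G α g v a = v (g⁻¹ • a) := rfl
  have e3 : g⁻¹ • b = a := by rw [← hg, inv_smul_smul]
  have e4 : g⁻¹ • a ≠ a := by
    intro h
    have : g • a = a := by
      conv_lhs => rw [← h]
      rw [smul_inv_smul]
    exact hab (this.symm.trans hg)
  simp only [Pi.smul_apply, Pi.sub_apply, smul_eq_mul, mul_one] at ha hb
  rw [e2] at ha
  rw [e1, e3] at hb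
  have hva : v a = 1 := by
    simp only [v, if_neg hac, sub_zero, if_true]
  have hvb : v b = 0 := by
    simp only [v, if_neg (Ne.symm hab), if_neg hbc, sub_zero]
  rw [hva] at ha hb
  rw [hvb] at hb
  by_cases hc' : g⁻¹ • a = c
  · have hv' : v (g⁻¹ • a) = -1 := by
      simp only [v, if_neg e4, if_pos hc', zero_sub]
    rw [hv'] at ha
    apply three_ne
    have : (1 : ZMod p) - 0 = -1 - 1 := by rw [← hb, ← ha]
    linear_combination this
  · have hv' : v (g⁻¹ • a) = 0 := by
      simp only [v, if_neg e4, if_neg hc', sub_zero]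
    rw [hv'] at ha
    apply two_ne
    have : (1 : ZMod p) - 0 = 0 - 1 := by rw [← hb, ← ha]
    linear_combination this

end Cfsg.Agent.S0675
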