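import Cfsg.Statements.S2395


set_option autoImplicit false
open Cfsg

namespace Cfsg.Agent.S2395


open Cfsg.Lie

/-- one step of the certificate: from the pair `(r, s)` and the roots already known to be
trivial in the abelianisation, deduce new ones -/
def stepZ (D : ChevalleyDatum) (useB : Bool) (Z : List ℕ) (rs : ℕ × ℕ) : List ℕ :=
  if rs.1 < D.nroots ∧ rs.2 < D.nroots ∧ rs.2 ≠ rs.1 ∧ rs.2 ≠ D.neg rs.1 then
    match (D.commTerms rs.1 rs.2).filter (fun c => !(Z.contains c.1)) with
    | [c] => if (c.2.1 = 1 ∨ c.2.1 = -1) ∧ (c.2.2.1 = 1 ∨ c.2.2.2 = 1) then c.1 :: Z else Z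
    | [c1, c2] =>
      if useB = true ∧ (c1.2.1 = 1 ∨ c1.2.1 = -1) ∧ (c2.2.1 = 1 ∨ c2.2.1 = -1) ∧
          c1.2.2.1 = 1 ∧ c1.2.2.2 = 1 ∧
          ((c2.2.2.1 = 2 ∧ c2.2.2.2 = 1) ∨ (c2.2.2.1 = 1 ∧ c2.2.2.2 = 2)) then
        c1.1 :: c2.1 :: Z else Z
    | _ => Z
  else Z

def checkCert (D : ChevalleyDatum) (useB : Bool) (cert : List (ℕ × ℕ)) : Bool :=
  (List.range D.nroots).all fun k => (cert.foldl (stepZ D useB) []).contains k

section sound
variable {K : Type*} [Field K] (D : ChevalleyDatum) {A : Type*} [CommGroup A]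
  (φ : D.SteinbergCover K →* A)

/-- the image of `x̄_r(t)` -/
def X (r : ℕ) (t : K) : A := φ (D.scGen K r t)

theorem X_add (r : ℕ) (a b : K) : X D φ r (a + b) = X D φ r a * X D φ r b := by
  unfold X
  by_cases hr : r < D.nroots
  · have hmem : D.stX r a * D.stX r b * (D.stX r (a + b))⁻¹ ∈ D.steinbergRelsAB K :=
      Or.inl ⟨r, a, b, hr, rfl⟩
    have h1 := PresentedGroup.one_of_mem hmem
    rw [map_mul, map_mul, map_inv, mul_inv_eq_one] at h1
    unfold ChevalleyDatum.scGen
    rw [← h1, map_mul]
  · unfold ChevalleyDatum.scGen ChevalleyDatum.stX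
    simp only [dif_neg hr, map_one, mul_one]

theorem X_zero (r : ℕ) : X D φ r (0 : K) = 1 := by
  have := X_add D φ r (0 : K) 0
  rw [add_zero] at this
  exact (mul_eq_left.1 this.symm)

theorem X_neg (r : ℕ) (a : K) : X D φ r (-a) = (X D φ r a)⁻¹ := by
  have := X_add D φ r a (-a)
  rw [add_neg_cancel, X_zero] at this
  exact eq_inv_of_mul_eq_one_right this.symm

theorem X_sub (r : ℕ) (a b : K) : X D φ r (a - b) = X D φ r a * (X D φ r b)⁻¹ := by
  rw [sub_eq_add_neg, X_add, X_neg]

theorem map_stWord (w : List (ℕ × K)) :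
    φ (PresentedGroup.mk (D.steinbergRelsAB K) (D.stWord w)) =
      (w.map fun p => X D φ p.1 p.2).prod := by
  unfold ChevalleyDatum.stWord
  induction w with
  | nil => simp
  | cons p w ih =>
    rw [List.map_cons, List.prod_cons, map_mul, map_mul, ih, List.map_cons, List.prod_cons]
    rfl

theorem comm_rel (r s : ℕ) (hr : r < D.nroots) (hs : s < D.nroots) (hsr : s ≠ r)
    (hsn : s ≠ D.neg r) (t u : K) :
    ((D.commTerms r s).map fun c =>
      X D φ c.1 ((c.2.1 : K) * (-t) ^ c.2.2.1 * u ^ c.2.2.2)).prod = 1 := by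
  have hmem : (D.stX s u)⁻¹ * (D.stX r t)⁻¹ * D.stX s u * D.stX r t *
      (D.stWord (D.commWord K r s t u))⁻¹ ∈ D.steinbergRelsAB K :=
    Or.inr ⟨r, s, t, u, hr, hs, hsr, hsn, rfl⟩
  have h1 := congrArg φ (PresentedGroup.one_of_mem hmem)
  rw [map_one] at h1
  simp only [map_mul, map_inv] at h1
  rw [map_stWord] at h1
  have h2 : ∀ a b c : A, a⁻¹ * b⁻¹ * a * b * c⁻¹ = 1 → c = 1 := by
    intro a b c h
    have : a⁻¹ * b⁻¹ * a * b = 1 := by
      rw [mul_comm a⁻¹ b⁻¹, mul_assoc b⁻¹, inv_mul_cancel, mul_one, inv_mul_cancel]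
    rw [this, one_mul, inv_eq_one] at h
    exact h
  have h3 := h2 _ _ _ h1
  unfold ChevalleyDatum.commWord at h3
  rw [List.map_map] at h3
  exact h3

/-- roots known to be trivial -/
def Known (Z : List ℕ) : Prop := ∀ k ∈ Z, ∀ v : K, X D φ k v = 1

theorem prod_filter {α : Type*} (L : List α) (p : α → Bool) (f : α → A)
    (h : ∀ c ∈ L, p c = false → f c = 1) :
    (L.map f).prod = ((L.filter p).map f).prod := by
  induction L with
  | nil => simp
  | cons c L ih =>
    have ih' := ih (fun c' hc' => h c' (List.mem_cons_of_mem _ hc'))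
    by_cases hp : p c = true
    · rw [List.filter_cons_of_pos hp, List.map_cons, List.prod_cons, List.map_cons, List.prod_cons, ih']
    · have hp' : p c = false := by simpa using hp
      rw [List.filter_cons_of_neg hp, List.map_cons, List.prod_cons, h c List.mem_cons_self hp', one_mul,
        ih']

theorem intCast_of_unit (C : ℤ) (h : C = 1 ∨ C = -1) : ((C : K)) ≠ 0 := by
  rcases h with rfl | rfl <;> simp

theorem known_step (useB : Bool) (hK : useB = true → ∃ c : K, c ≠ 0 ∧ c ≠ 1) (Z : List ℕ)
    (hZ : Known D φ Z) (rs : ℕ × ℕ) : Known D φ (stepZ D useB Z rs) := by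
  unfold stepZ
  split_ifs with hcond
  · obtain ⟨hr, hs, hsr, hsn⟩ := hcond
    have hrel := comm_rel D φ rs.1 rs.2 hr hs hsr hsn
    have hfil : ∀ t u : K, (((D.commTerms rs.1 rs.2).filter (fun c => !(Z.contains c.1))).map fun c =>
        X D φ c.1 ((c.2.1 : K) * (-t) ^ c.2.2.1 * u ^ c.2.2.2)).prod = 1 := by
      intro t u
      rw [← prod_filter]
      · exact hrel t u
      · intro c _ hc
        have : Z.contains c.1 = true := by simpa using hc
        exact hZ c.1 (List.contains_iff_mem.1 this) _
    split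
    · rename_i c heq
      split_ifs with h1
      · obtain ⟨hC, hij⟩ := h1
        intro k hk v
        rw [List.mem_cons] at hk
        rcases hk with rfl | hk
        · have hC0 := intCast_of_unit (K := K) c.2.1 hC
          rw [heq] at hfil
          simp only [List.map_cons, List.map_nil, List.prod_cons, List.prod_nil, mul_one] at hfil
          rcases hij with hi | hj
          · have := hfil (-(v / (c.2.1 : K))) 1
            rw [hi, neg_neg, pow_one, one_pow, mul_one, mul_div_cancel₀ _ hC0] at this
            exact this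
          · have := hfil (-1) (v / (c.2.1 : K))
            rw [hj, neg_neg, one_pow, mul_one, pow_one, mul_div_cancel₀ _ hC0] at this
            exact this
        · exact hZ k hk v
      · exact hZ
    · rename_i c1 c2 heq
      split_ifs with h1
      · obtain ⟨hB, hC1, hC2, hi1, hj1, hij⟩ := h1
        obtain ⟨c, hc0, hc1⟩ := hK hB
        have hC10 := intCast_of_unit (K := K) c1.2.1 hC1
        have hC20 := intCast_of_unit (K := K) c2.2.1 hC2
        rw [heq] at hfil
        simp only [List.map_cons, List.map_nil, List.prod_cons, List.prod_nil, mul_one, hi1, hj1,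
          pow_one] at hfil
        have hc1' : c - 1 ≠ 0 := sub_ne_zero.2 hc1
        have key2 : ∀ v : K, X D φ c2.1 v = 1 := by
          intro v
          rcases hij with ⟨hi, hj⟩ | ⟨hi, hj⟩
          · rw [hi, hj] at hfil
            simp only [pow_one] at hfil
            have e1 := hfil 1 (v / ((c2.2.1 : K) * (c - 1)))
            have e2 := hfil c (v / ((c2.2.1 : K) * (c - 1)) / c)
            have e3 : (c1.2.1 : K) * -c * (v / ((c2.2.1 : K) * (c - 1)) / c) =
                (c1.2.1 : K) * -1 * (v / ((c2.2.1 : K) * (c - 1))) := by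
              field_simp
            rw [e3] at e2
            have e4 := e2.trans e1.symm
            rw [mul_right_inj] at e4
            have e5 : X D φ c2.1 ((c2.2.1 : K) * (-c) ^ 2 * (v / ((c2.2.1 : K) * (c - 1)) / c) -
                (c2.2.1 : K) * (-1) ^ 2 * (v / ((c2.2.1 : K) * (c - 1)))) = 1 := by
              rw [X_sub, e4, mul_inv_cancel]
            have e6 : (c2.2.1 : K) * (-c) ^ 2 * (v / ((c2.2.1 : K) * (c - 1)) / c) -
                (c2.2.1 : K) * (-1) ^ 2 * (v / ((c2.2.1 : K) * (c - 1))) = v := by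
              field_simp
            rw [e6] at e5
            exact e5
          · rw [hi, hj] at hfil
            simp only [pow_one] at hfil
            have e1 := hfil (v / ((c2.2.1 : K) * (c - 1))) (-1)
            have e2 := hfil (v / ((c2.2.1 : K) * (c - 1)) / c) (-c)
            have e3 : (c1.2.1 : K) * -(v / ((c2.2.1 : K) * (c - 1)) / c) * -c =
                (c1.2.1 : K) * -(v / ((c2.2.1 : K) * (c - 1))) * -1 := by
              field_simp
            rw [e3] at e2
            have e4 := e2.trans e1.symm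
            rw [mul_right_inj] at e4
            have e5 : X D φ c2.1 ((c2.2.1 : K) * -(v / ((c2.2.1 : K) * (c - 1)) / c) * (-c) ^ 2 -
                (c2.2.1 : K) * -(v / ((c2.2.1 : K) * (c - 1))) * (-1) ^ 2) = 1 := by
              rw [X_sub, e4, mul_inv_cancel]
            have e6 : (c2.2.1 : K) * -(v / ((c2.2.1 : K) * (c - 1)) / c) * (-c) ^ 2 -
                (c2.2.1 : K) * -(v / ((c2.2.1 : K) * (c - 1))) * (-1) ^ 2 = -v := by
              field_simp
              ring
            rw [e6, X_neg, inv_eq_one] at e5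
            exact e5
        intro k hk v
        rw [List.mem_cons] at hk
        rcases hk with rfl | hk
        · have := hfil (-(v / (c1.2.1 : K))) 1
          rw [key2, mul_one, neg_neg, mul_one, mul_div_cancel₀ _ hC10] at this
          exact this
        · rw [List.mem_cons] at hk
          rcases hk with rfl | hk
          · exact key2 v
          · exact hZ k hk v
      · exact hZ
    · exact hZ
  · exact hZ

theorem known_foldl (useB : Bool) (hK : useB = true → ∃ c : K, c ≠ 0 ∧ c ≠ 1)
    (cert : List (ℕ × ℕ)) : ∀ Z : List ℕ, Known D φ Z → Known D φ (cert.foldl (stepZ D useB) Z) := by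
  induction cert with
  | nil => intro Z hZ; exact hZ
  | cons rs cert ih =>
    intro Z hZ
    rw [List.foldl_cons]
    exact ih _ (known_step D φ useB hK Z hZ rs)

end sound

theorem perfect_of_cert {K : Type*} [Field K] (D : ChevalleyDatum) (useB : Bool)
    (cert : List (ℕ × ℕ)) (hcheck : checkCert D useB cert = true)
    (hK : useB = true → ∃ c : K, c ≠ 0 ∧ c ≠ 1) : commutator (D.SteinbergCover K) = ⊤ := by
  have hknown := known_foldl D (Abelianization.of (G := D.SteinbergCover K)) useB hK cert []
    (fun k hk => absurd hk (by simp))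
  unfold checkCert at hcheck
  rw [List.all_eq_true] at hcheck
  have hone : (Abelianization.of (G := D.SteinbergCover K)) = 1 := by
    apply PresentedGroup.ext
    intro x
    have hx := hcheck x.1.val (List.mem_range.2 x.1.isLt)
    have h1 := hknown x.1.val (List.contains_iff_mem.1 hx) x.2
    unfold X ChevalleyDatum.scGen ChevalleyDatum.stX at h1
    rw [dif_pos x.1.isLt] at h1
    rw [MonoidHom.one_apply]
    exact h1
  rw [← Abelianization.ker_of, hone]
  exact MonoidHom.ker_one

def certG2 : List (ℕ × ℕ) := [(0, 6), (0, 10), (1, 5), (1, 11), (5, 11), (6, 10), (0, 8), (1, 7), (0, 9), (1, 9), (3, 11)]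
def certB2 : List (ℕ × ℕ) := [(0, 5), (1, 7), (2, 3), (1, 4), (0, 6), (2, 7), (3, 6)]
def certD4 : List (ℕ × ℕ) := [(0, 14), (0, 15), (0, 16), (0, 17), (0, 19), (0, 20), (0, 21), (0, 22), (1, 9), (1, 17), (1, 20), (1, 21), (1, 23), (2, 22), (2, 23), (3, 22), (3, 23), (4, 23), (6, 22), (6, 23), (7, 23), (8, 23), (9, 23), (14, 22)]
def certF4 : List (ℕ × ℕ) := [(0, 24), (0, 26), (0, 31), (0, 32), (0, 42), (0, 43), (0, 45), (0, 46), (1, 23), (1, 28), (0, 29), (1, 35), (0, 36), (1, 37), (0, 38), (1, 47), (2, 37), (0, 39), (2, 38), (1, 39), (3, 37), (0, 40), (3, 38), (1, 40), (3, 39), (2, 40), (3, 40), (3, 41), (0, 44), (3, 42), (1, 44), (3, 43), (2, 44), (3, 45), (3, 46), (3, 47), (4, 44), (5, 44), (6, 44), (7, 44), (7, 45), (7, 46), (7, 47), (8, 46), (8, 47), (9, 47), (11, 47), (18, 47)]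
def certE6 : List (ℕ × ℕ) := [(0, 46), (0, 47), (0, 48), (0, 49), (0, 50), (0, 51), (0, 52), (0, 53), (0, 54), (0, 55), (0, 61), (0, 62), (0, 63), (0, 64), (0, 65), (0, 66), (0, 67), (0, 68), (0, 69), (0, 70), (1, 25), (1, 53), (1, 54), (1, 55), (1, 64), (1, 65), (1, 66), (1, 67), (1, 68), (1, 69), (1, 71), (2, 55), (2, 66), (2, 67), (2, 68), (2, 70), (2, 71), (3, 67), (3, 69), (3, 70), (3, 71), (4, 68), (4, 69), (4, 70), (4, 71), (5, 55), (5, 69), (5, 70), (5, 71), (6, 70), (6, 71), (7, 70), (7, 71), (8, 71), (9, 71), (10, 71), (16, 66), (16, 69), (16, 70), (16, 71), (17, 70), (17, 71), (18, 70), (18, 71), (19, 71), (20, 71), (21, 71), (22, 71), (23, 71), (24, 71), (25, 71), (46, 70)]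
def certE7 : List (ℕ × ℕ) := [(0, 93), (0, 94), (0, 95), (0, 96), (0, 97), (0, 98), (0, 99), (0, 100), (0, 101), (0, 102), (0, 103), (0, 104), (0, 105), (0, 106), (0, 107), (0, 108), (0, 109), (0, 110), (0, 111), (0, 112), (0, 113), (0, 114), (0, 115), (0, 116), (0, 117), (0, 118), (0, 119), (0, 120), (0, 121), (0, 122), (0, 123), (0, 124), (1, 32), (1, 109), (1, 110), (1, 111), (1, 112), (1, 113), (1, 114), (1, 115), (1, 116), (1, 117), (1, 118), (1, 119), (1, 120), (1, 121), (1, 122), (1, 123), (1, 125), (2, 115), (2, 116), (2, 117), (2, 118), (2, 119), (2, 120), (2, 121), (2, 122), (2, 124), (2, 125), (3, 118), (3, 119), (3, 120), (3, 121), (3, 123), (3, 124), (3, 125), (4, 119), (4, 120), (4, 122), (4, 123), (4, 124), (4, 125), (5, 119), (5, 121), (5, 122), (5, 123), (5, 124), (5, 125), (6, 120), (6, 121), (6, 122), (6, 123), (6, 124), (6, 125), (7, 122), (7, 123), (7, 124), (7, 125), (8, 123), (8, 124), (8, 125), (9, 123), (9, 124), (9, 125), (10, 123), (10, 124), (10, 125), (11, 124), (11, 125), (12, 124), (12, 125),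 (13, 124), (13, 125), (14, 124), (14, 125), (15, 124), (15, 125), (16, 124), (16, 125), (17, 125), (18, 125), (19, 125), (20, 125), (21, 125), (22, 125), (23, 125), (24, 125), (25, 125), (26, 125), (27, 125), (28, 125), (29, 125), (30, 125), (31, 125), (32, 125), (93, 124)]
def certE8 : List (ℕ × ℕ) := [(0, 120), (0, 122), (0, 125), (0, 129), (0, 134), (0, 140), (0, 146), (0, 151), (0, 155), (0, 158), (0, 160), (0, 161), (0, 168), (0, 173), (0, 177), (0, 180), (0, 182), (0, 183), (0, 187), (0, 190), (0, 192), (0, 193), (0, 196), (0, 198), (0, 199), (0, 201), (0, 202), (0, 203), (0, 206), (0, 208), (0, 209), (0, 211), (0, 212), (0, 213), (0, 215), (0, 216), (0, 217), (0, 218), (0, 220), (0, 221), (0, 222), (0, 223), (0, 224), (0, 225), (0, 227), (0, 228), (0, 229), (0, 230), (0, 231), (0, 232), (0, 233), (0, 234), (0, 235), (0, 236), (0, 237), (0, 238), (1, 119), (1, 161), (1, 183), (1, 193), (1, 199), (1, 202), (1, 203), (1, 209), (1, 212), (1, 213), (1, 216), (1, 217), (1, 218), (1, 221), (1, 222), (1, 223), (1, 224),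 (1, 225), (1, 228), (1, 229), (1, 230), (1, 231), (1, 232), (1, 233), (1, 234), (1, 235), (1, 236), (1, 237), (1, 239), (2, 203), (2, 213), (2, 217), (2, 218), (2, 222), (2, 223), (2, 224), (2, 225), (2, 229), (2, 230), (2, 231), (2, 232), (2, 233), (2, 234), (2, 235), (2, 236), (2, 238), (2, 239), (3, 218), (3, 223), (3, 224), (3, 225), (3, 230), (3, 231), (3, 232), (3, 233), (3, 234), (3, 235), (3, 237), (3, 238), (3, 239), (4, 224), (4, 225), (4, 231), (4, 232), (4, 233), (4, 234), (4, 236), (4, 237), (4, 238), (4, 239), (5, 225), (5, 232), (5, 233), (5, 235), (5, 236), (5, 237), (5, 238), (5, 239), (6, 225), (6, 234), (6, 235), (6, 236), (6, 237), (6, 238), (6, 239), (7, 234), (7, 235), (7, 236), (7, 237), (7, 238), (7, 239), (8, 235), (8, 236), (8, 237), (8, 238), (8, 239), (9, 236), (9, 237), (9, 238), (9, 239), (10, 237), (10, 238), (10, 239), (11, 238), (11, 239), (12, 239), (14, 233), (14, 234), (14, 235), (14, 236), (14, 237), (14, 238), (14, 239), (15, 235), (15, 236), (15, 237), (15, 238), (15, 239), (16, 236),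 (16, 237), (16, 238), (16, 239), (17, 237), (17, 238), (17, 239), (18, 238), (18, 239), (19, 239), (21, 236), (21, 237), (21, 238), (21, 239), (22, 237), (22, 238), (22, 239), (23, 238), (23, 239), (24, 239), (26, 237), (26, 238), (26, 239), (27, 238), (27, 239), (28, 239), (30, 238), (30, 239), (31, 239), (33, 239), (36, 237), (36, 238), (36, 239), (37, 238), (37, 239), (38, 239), (40, 238), (40, 239), (41, 239), (43, 239), (46, 238), (46, 239), (47, 239), (49, 239), (52, 239), (56, 238), (56, 239), (57, 239), (59, 239), (62, 239), (66, 239), (71, 239), (78, 238), (78, 239), (79, 239), (81, 239), (84, 239), (88, 239), (93, 239), (99, 239), (105, 239), (110, 239), (114, 239), (117, 239), (119, 239), (120, 238)]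

set_option maxRecDepth 1000000 in
theorem checkG2 : checkCert chevG2 true certG2 = true := by decide +kernel
set_option maxRecDepth 1000000 in
theorem checkB2 : checkCert chevB2 true certB2 = true := by decide +kernel
set_option maxRecDepth 1000000 in
theorem checkD4 : checkCert chevD4 false certD4 = true := by decide +kernel
set_option maxRecDepth 1000000 in
theorem checkF4 : checkCert chevF4 false certF4 = true := by decide +kernel
set_option maxRecDepth 1000000 in
theorem checkE6 : checkCert chevE6 false certE6 = true := by decide +kernel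
set_option maxRecDepth 1000000 in
theorem checkE7 : checkCert chevE7 false certE7 = true := by decide +kernel
set_option maxRecDepth 1000000 in
theorem checkE8 : checkCert chevE8 false certE8 = true := by decide +kernel



/-- The group presented by Steinberg's generators x̄_r(t) subject only to (R1) (additivity) and (R2) (the commutator formula) is perfect, for each of the types G₂, B₂, D₄, F₄, E₆, E₇, E₈ over any field (for types B₂ and G₂ the field must have more than two elements — the cases where the Chevalley group is not simple are set aside). -/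
theorem result {K : Type*} [Field K] (D : Cfsg.Lie.ChevalleyDatum) (hD : D ∈ [Cfsg.Lie.chevG2, Cfsg.Lie.chevB2, Cfsg.Lie.chevD4, Cfsg.Lie.chevF4, Cfsg.Lie.chevE6, Cfsg.Lie.chevE7, Cfsg.Lie.chevE8]) (hK : D ∈ [Cfsg.Lie.chevB2, Cfsg.Lie.chevG2] → ∃ x : K, x ≠ 0 ∧ x ≠ 1) :
    commutator (D.SteinbergCover K) = ⊤ := by
  simp only [List.mem_cons, List.not_mem_nil, or_false] at hD
  rcases hD with rfl | rfl | rfl | rfl | rfl | rfl | rfl
  · exact perfect_of_cert _ true certG2 checkG2 (fun _ => hK (by simp))
  · exact perfect_of_cert _ true certB2 checkB2 (fun _ => hK (by simp))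
  · exact perfect_of_cert _ false certD4 checkD4 (fun h => absurd h (by simp))
  · exact perfect_of_cert _ false certF4 checkF4 (fun h => absurd h (by simp))
  · exact perfect_of_cert _ false certE6 checkE6 (fun h => absurd h (by simp))
  · exact perfect_of_cert _ false certE7 checkE7 (fun h => absurd h (by simp))
  · exact perfect_of_cert _ false certE8 checkE8 (fun h => absurd h (by simp))


end Cfsg.Agent.S2395
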