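import Cfsg.Statements.S0129
import Mathlib
import Cfsg.Agent.Lib.Lead.CentralizerBound

set_option autoImplicit false
open Cfsg

namespace Cfsg.Agent.S0129

/-- The order of a p-group is bounded by p^(a(a+1)/2) when it has a maximal normal abelian subgroup of order p^a. -/
theorem result {G : Type*} [Group G] [Finite G] {p : ℕ} [Fact p.Prime] (hG : IsPGroup p G) (A : Subgroup G) [A.Normal] (hA : IsMulCommutative A) (hmax : ∀ B : Subgroup G, B.Normal → IsMulCommutative B → A ≤ B → B = A) (a : ℕ) (ha : Nat.card A = p ^ a) : Nat.card G ≤ p ^ (a * (a + 1) / 2) := by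
  classical
  haveI : Group.IsNilpotent G := hG.isNilpotent
  haveI := hA
  have hC : Subgroup.centralizer (A : Set G) = A :=
    Cfsg.Agent.Lib.Lead.centralizer_eq_of_max_abelian_normal A hmax
  have h1 := Cfsg.Agent.Lib.Lead.index_centralizer_le hG a A ha
  rw [hC] at h1
  have h2 := A.card_mul_index
  rw [← h2, ha]
  have hexp : a * (a + 1) / 2 = a + a * (a - 1) / 2 := by
    have h3 : a * (a + 1) = a * (a - 1) + 2 * a := by
      cases a with
      | zero => simp
      | succ b => simp only [Nat.add_sub_cancel]; ring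
    rw [h3, Nat.add_mul_div_left _ _ (by norm_num : 0 < 2), add_comm]
  rw [hexp, pow_add]
  exact Nat.mul_le_mul_left _ h1

end Cfsg.Agent.S0129
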