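import Mathlib
import Cfsg.Statements.S4207
import Cfsg.Agent.Lib.Lead.BurnsideBasis

set_option autoImplicit false

open Cfsg

namespace Cfsg.Agent.S4207

open Cfsg.Agent.Lib.Lead

variable {P : Type*} [Group P]

/-- Tuples indexed by `T` congruent to the identity tuple modulo the Frattini subgroup. -/
def Tup (T : Finset P) : Type _ := {y : T → P // ∀ t : T, y t * (t : P)⁻¹ ∈ frattini P}

/-- The action of a group `A` of automorphisms trivial on the Frattini quotient. -/
instance tupAction (T : Finset P) (A : Subgroup (MulAut P))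
    [hA : Fact (∀ α ∈ A, ∀ x : P, α x * x⁻¹ ∈ frattini P)] : MulAction A (Tup T) where
  smul α y := ⟨fun t => (α : MulAut P) (y.1 t), fun t => by
    have h1 := hA.out α α.2 (y.1 t)
    have h2 := y.2 t
    have : (α : MulAut P) (y.1 t) * (t : P)⁻¹
        = ((α : MulAut P) (y.1 t) * (y.1 t)⁻¹) * (y.1 t * (t : P)⁻¹) := by group
    rw [this]
    exact Subgroup.mul_mem _ h1 h2⟩
  one_smul y := by
    apply Subtype.ext
    funext t
    rfl
  mul_smul α β y := by
    apply Subtype.ext
    funext t
    rfl

theorem smul_val (T : Finset P) (A : Subgroup (MulAut P))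
    [hA : Fact (∀ α ∈ A, ∀ x : P, α x * x⁻¹ ∈ frattini P)] (α : A) (y : Tup T) (t : T) :
    (α • y).1 t = (α : MulAut P) (y.1 t) := rfl

theorem card_tup [Finite P] (T : Finset P) : Nat.card (Tup T) = Nat.card (frattini P) ^ T.card := by
  classical
  have e : Tup T ≃ (T → frattini P) :=
    { toFun := fun y t => ⟨y.1 t * (t : P)⁻¹, y.2 t⟩
      invFun := fun z => ⟨fun t => (z t : P) * (t : P), fun t => by simp⟩
      left_inv := fun y => by
        apply Subtype.ext
        funext t
        simp
      right_inv := fun z => by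
        funext t
        apply Subtype.ext
        simp }
  rw [Nat.card_congr e, Nat.card_fun, Nat.card_eq_fintype_card (α := T), Fintype.card_coe]

theorem result {P : Type*} [Group P] [Finite P] {p n r : ℕ} [Fact p.Prime] (hP : Nat.card P = p ^ n) (hr : (frattini P).index = p ^ r) (A : Subgroup (MulAut P)) (hA : ∀ α ∈ A, ∀ x : P, α x * x⁻¹ ∈ frattini P) : Nat.card A ∣ p ^ (r * (n - r)) := by
  classical
  have hp : p.Prime := Fact.out
  have hPg : IsPGroup p P := IsPGroup.of_card hP
  have : Fintype P := Fintype.ofFinite P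
  obtain ⟨T, _, hTcard, hTgen⟩ := (burnside_basis p r hPg hr).1 Finset.univ (by simp)
  have hAf : Fact (∀ α ∈ A, ∀ x : P, α x * x⁻¹ ∈ frattini P) := ⟨hA⟩
  -- card of frattini
  have hΦ : Nat.card (frattini P) = p ^ (n - r) := by
    have h1 := (frattini P).card_mul_index
    rw [hr, hP] at h1
    have hrn : r ≤ n := by
      by_contra hlt
      push Not at hlt
      have h2 : p ^ r ∣ p ^ n := Dvd.intro_left _ h1
      exact absurd ((Nat.pow_dvd_pow_iff_le_right hp.one_lt).1 h2) (not_le.2 hlt)
    have h3 : p ^ n = p ^ (n - r) * p ^ r := by rw [← pow_add, Nat.sub_add_cancel hrn]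
    rw [h3] at h1
    exact Nat.eq_of_mul_eq_mul_right (pow_pos hp.pos r) h1
  have hΩ : Nat.card (Tup T) = p ^ (r * (n - r)) := by
    rw [card_tup, hΦ, hTcard, ← pow_mul, mul_comm]
  -- the action is free
  have hfree : ∀ (α : A) (y : Tup T), α • y = y → α = 1 := by
    intro α y hy
    have hgen : Subgroup.closure (Set.range y.1) = ⊤ := by
      apply frattini_nongenerating
      rw [eq_top_iff, ← hTgen, Subgroup.closure_le]
      intro t ht
      have h1 : y.1 ⟨t, ht⟩ ∈ Subgroup.closure (Set.range y.1) ⊔ frattini P :=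
        Subgroup.mem_sup_left (Subgroup.subset_closure ⟨_, rfl⟩)
      have h2 : y.1 ⟨t, ht⟩ * t⁻¹ ∈ Subgroup.closure (Set.range y.1) ⊔ frattini P :=
        Subgroup.mem_sup_right (y.2 ⟨t, ht⟩)
      have : t = (y.1 ⟨t, ht⟩ * t⁻¹)⁻¹ * y.1 ⟨t, ht⟩ := by group
      rw [SetLike.mem_coe, this]
      exact Subgroup.mul_mem _ (Subgroup.inv_mem _ h2) h1
    have h1 : ((α : MulAut P) : P →* P) = MonoidHom.id P := by
      apply MonoidHom.eq_of_eqOn_dense hgen
      rintro _ ⟨t, rfl⟩
      have := congrFun (congrArg Subtype.val hy) t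
      exact this
    apply Subtype.ext
    apply MulEquiv.ext
    intro x
    exact DFunLike.congr_fun h1 x
  -- Burnside's lemma
  have : Fintype A := Fintype.ofFinite A
  have : Fintype (Tup T) := by
    have : Finite (Tup T) := by
      unfold Tup
      infer_instance
    exact Fintype.ofFinite _
  have : Fintype (Quotient (MulAction.orbitRel A (Tup T))) := Fintype.ofFinite _
  have hb := MulAction.sum_card_fixedBy_eq_card_orbits_mul_card_group A (Tup T)
  rw [Finset.sum_eq_single (1 : A)] at hb
  · have h1 : Fintype.card (MulAction.fixedBy (Tup T) (1 : A)) = Fintype.card (Tup T) := by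
      apply Fintype.card_congr
      exact
        { toFun := fun y => y.1
          invFun := fun y => ⟨y, by simp⟩
          left_inv := fun y => rfl
          right_inv := fun y => rfl }
    rw [h1, ← Nat.card_eq_fintype_card, ← Nat.card_eq_fintype_card (α := A), hΩ] at hb
    exact Dvd.intro_left _ hb.symm
  · intro α _ hα
    rw [Fintype.card_eq_zero_iff]
    constructor
    rintro ⟨y, hy⟩
    exact hα (hfree α y hy)
  · intro h
    exact absurd (Finset.mem_univ _) h

end Cfsg.Agent.S4207
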