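import Mathlib
import Cfsg.Agent.Lib.Helper4.BG9b
import Cfsg.Agent.S0058
-- Template for statement S1398 (row 1398; see /opt/grader/pristine/manifest.json for weights).
-- Copy to Cfsg/Agent/S1398.lean and replace the sorry. The statement below is byte-identical to the frozen
-- statement Cfsg.CfsgFrozen.S1398 (Cfsg/Statements/S1398.lean; the theorem Cfsg.minsimple_odd_noncyclic_elementary_uniqueness_criterion);
-- the grader kernel-checks Cfsg.Agent.S1398.result against that frozen type. Keep the theorem IN THIS FILE
-- (a `result` declared elsewhere and merely imported here is not credited); helpers may live anywhere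
-- under Cfsg/Agent/.
import Cfsg.Statements.S1398
-- import your own Cfsg.Agent.* helpers here

set_option autoImplicit false
open Cfsg

namespace Cfsg.Agent.S1398

/-- Let G be a minimal simple group of odd order, M a maximal subgroup, p a prime, and B a noncyclic elementary abelian p-subgroup of M. If C_G(b) ≤ M for every non-identity b ∈ B, or if every subgroup of G of order coprime to p normalized by B is contained in M, then M is the only maximal subgroup of G containing B. -/
theorem result {G : Type*} [Group G] [Finite G] (hG : Cfsg.IsMinSimpleOddOrder G)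
    (M : Subgroup G) (hM : IsCoatom M) (p : ℕ) [Fact p.Prime] (B : Subgroup G) (hBM : B ≤ M)
    (hBe : Cfsg.IsElementaryAbelian p B) (hBnc : ¬ IsCyclic B)
    (h : (∀ b ∈ B, b ≠ 1 → Subgroup.centralizer ({b} : Set G) ≤ M) ∨
      ∀ Y ∈ Cfsg.invSubgroups ⊤ B (Cfsg.primesNotDvd p), Y ≤ M) :
    Cfsg.InUniqueMaximal B := by
  have hp := (Fact.out : p.Prime)
  have hBp : IsPGroup p B := by
    rintro ⟨x, hx⟩
    refine ⟨1, ?_⟩
    apply Subtype.ext
    rw [pow_one, Subgroup.coe_pow, hBe.2 x hx, Subgroup.coe_one]
  have hB1 : B ≠ ⊥ := by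
    intro h0
    apply hBnc
    rw [h0]
    exact isCyclic_of_subsingleton
  have hb : ∀ Y : Subgroup G, (Nat.card Y).Coprime p →
      B ≤ Subgroup.normalizer (Y : Set G) → Y ≤ M := by
    rcases h with ha | hb
    · intro Y hY hBY
      have hcomm : IsMulCommutative B := hBe.1
      have hcop : (Nat.card B).Coprime (Nat.card Y) := by
        obtain ⟨n, hn⟩ := IsPGroup.iff_card.mp hBp
        rw [hn]
        exact Nat.Coprime.pow_left n hY.symm
      have h1 := Cfsg.Agent.S0058.result B Y hBnc hBY hcop
      rw [← h1]
      apply iSup₂_le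
      intro a ha'
      exact inf_le_right.trans (ha a ha'.1 ha'.2)
    · intro Y hY hBY
      apply hb Y
      refine ⟨le_top, ?_, hBY⟩
      intro q hq hd
      refine ⟨hq, ?_⟩
      intro hqp
      have e : q = p := (Nat.prime_dvd_prime_iff_eq hq hp).mp hqp
      rw [e] at hd
      exact (Nat.Prime.coprime_iff_not_dvd hp).mp hY.symm hd
  refine ⟨M, ⟨hM, hBM⟩, ?_⟩
  rintro L ⟨hL, hBL⟩
  exact Cfsg.Agent.Lib.Helper4.BG9.S91.main ⟨hG, hM, hBM, hBp, hB1, hb⟩ L hL hBL

end Cfsg.Agent.S1398
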