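import Mathlib
-- Template for statement S1337 (row 1337; see /opt/grader/pristine/manifest.json for weights).
-- Copy to Cfsg/Agent/S1337.lean and replace the sorry. The statement below is byte-identical to the frozen
-- statement Cfsg.CfsgFrozen.S1337 (Cfsg/Statements/S1337.lean; the theorem Cfsg.p_group_rank_gt_two_normal_rank_two_component);
-- the grader kernel-checks Cfsg.Agent.S1337.result against that frozen type. Keep the theorem IN THIS FILE
-- (a `result` declared elsewhere and merely imported here is not credited); helpers may live anywhere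
-- under Cfsg/Agent/.
import Cfsg.Statements.S1337
import Cfsg.Agent.Lib.Helper3.NormalSq2

set_option autoImplicit false
open Cfsg
open Cfsg.Agent.Lib.Helper3.NormalSq

namespace Cfsg.Agent.S1337

/-- Let P be a finite p-group of p-rank greater than 2. Then P has a normal elementary abelian subgroup U of order p², and for every elementary abelian X ≤ P with |X| ≥ p²: X is joined to U by a chain of pairwise commuting elementary abelian subgroups of order ≥ p² if and only if C_P(X) has p-rank greater than 2. -/
theorem result {P : Type*} [Group P] [Finite P] (p : ℕ) [Fact p.Prime] (hP : IsPGroup p P) (hrk : ¬ Cfsg.PRankLE p 2 P) : ∃ U : Subgroup P, U.Normal ∧ Cfsg.IsElementaryAbelian p U ∧ Nat.card ↥U = p ^ 2 ∧ ∀ X : Subgroup P, Cfsg.IsElementaryAbelian p X → p ^ 2 ≤ Nat.card ↥X → (Relation.ReflTransGen (fun A B : Subgroup P => Cfsg.IsElementaryAbelian p A ∧ p ^ 2 ≤ Nat.card ↥A ∧ Cfsg.IsElementaryAbelian p B ∧ p ^ 2 ≤ Nat.card ↥B ∧ ∀ a ∈ A, ∀ b ∈ B, a * b = b * a) X U ↔ ¬ Cfsg.PRankLE p 2 ↥(Subgroup.centralizer (X : Set P))) := by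
  classical
  obtain ⟨U, hUn, hU, hUcard⟩ := exists_normal_sq_of_rank_three hP hrk
  refine ⟨U, hUn, hU, hUcard, ?_⟩
  have hrk' := hrk
  unfold Cfsg.PRankLE at hrk'
  push Not at hrk'
  obtain ⟨E, hEc, hEe, hEcard⟩ := hrk'
  have hE : Cfsg.IsElementaryAbelian p E := ⟨hEc, hEe⟩
  have hUC : U ≤ Subgroup.centralizer (U : Set P) := by
    have := hU.1
    exact Subgroup.le_centralizer U
  have hbase : ¬ Cfsg.PRankLE p 2 ↥(Subgroup.centralizer (U : Set P)) := by
    by_cases hUE : U ≤ E
    · apply not_pRankLE_of_le hE _ hEcard
      intro e he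
      rw [Subgroup.mem_centralizer_iff]
      intro u hu
      exact comm_of_isElementaryAbelian hE (hUE hu) he
    · set D := E ⊓ Subgroup.centralizer (U : Set P) with hDdef
      have hD : Cfsg.IsElementaryAbelian p D := isElementaryAbelian_of_le' hE inf_le_left
      have hDcard : p ^ 2 ≤ Nat.card D := pow_le_card_of_lt_mul hP D 2
        (lt_of_lt_of_le hEcard (card_le_mul_card_inf_centralizer hP U hU hUcard E))
      have hF : Cfsg.IsElementaryAbelian p (D ⊔ U) := isElementaryAbelian_sup hD hU
        (fun d hd u hu => (Subgroup.mem_centralizer_iff.mp hd.2 u hu).symm)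
      apply not_pRankLE_of_le hF (sup_le inf_le_right hUC)
      by_contra hle
      push Not at hle
      have h1 : D = D ⊔ U := Subgroup.eq_of_le_of_card_ge le_sup_left (hle.trans hDcard)
      apply hUE
      calc U ≤ D ⊔ U := le_sup_right
        _ = D := h1.symm
        _ ≤ E := inf_le_left
  intro X hX hXcard
  constructor
  · intro hconn
    clear hX hXcard
    induction hconn using Relation.ReflTransGen.head_induction_on with
    | refl => exact hbase
    | @head A B hab _ ih =>
      obtain ⟨hA, hAcard, hB, hBcard, hcomm⟩ := hab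
      by_cases hAB : A = B
      · subst hAB; exact ih
      · have hF := isElementaryAbelian_sup hA hB hcomm
        have hAA : A ≤ Subgroup.centralizer (A : Set P) := by
          have := hA.1
          exact Subgroup.le_centralizer A
        have hBA : B ≤ Subgroup.centralizer (A : Set P) := by
          intro b hb
          rw [Subgroup.mem_centralizer_iff]
          intro a ha
          exact hcomm a ha b hb
        apply not_pRankLE_of_le hF (sup_le hAA hBA)
        by_contra hle
        push Not at hle
        have h1 : A = A ⊔ B := Subgroup.eq_of_le_of_card_ge le_sup_left (hle.trans hAcard)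
        have h2 : B = A ⊔ B := Subgroup.eq_of_le_of_card_ge le_sup_right (hle.trans hBcard)
        exact hAB (h1.trans h2.symm)
  · intro hC
    obtain ⟨F, hFC, hF, hFcard⟩ := exists_le_of_not_pRankLE hC
    have hFX : ∀ f ∈ F, ∀ x ∈ X, f * x = x * f := fun f hf x hx =>
      ((Subgroup.mem_centralizer_iff.mp (hFC hf)) x hx).symm
    set B := F ⊔ X with hBdef
    have hB : Cfsg.IsElementaryAbelian p B := isElementaryAbelian_sup hF hX hFX
    have hBcard : p ^ 2 < Nat.card B :=
      lt_of_lt_of_le hFcard (Subgroup.card_le_of_le le_sup_left)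
    set D := B ⊓ Subgroup.centralizer (U : Set P) with hDdef
    have hD : Cfsg.IsElementaryAbelian p D := isElementaryAbelian_of_le' hB inf_le_left
    have hDcard : p ^ 2 ≤ Nat.card D := pow_le_card_of_lt_mul hP D 2
      (lt_of_lt_of_le hBcard (card_le_mul_card_inf_centralizer hP U hU hUcard B))
    refine Relation.ReflTransGen.head (b := B) ⟨hX, hXcard, hB, hBcard.le, fun x hx b hb =>
      comm_of_isElementaryAbelian hB (le_sup_right (a := F) hx) hb⟩ ?_
    refine Relation.ReflTransGen.head (b := D) ⟨hB, hBcard.le, hD, hDcard, fun b hb d hd =>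
      comm_of_isElementaryAbelian hB hb hd.1⟩ ?_
    exact Relation.ReflTransGen.single ⟨hD, hDcard, hU, hUcard.ge, fun d hd u hu =>
      (Subgroup.mem_centralizer_iff.mp hd.2 u hu).symm⟩

end Cfsg.Agent.S1337
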