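import Mathlib
import Cfsg.Agent.Lib.Helper4.Rk2i
import Cfsg.Statements.S1450
-- import your own Cfsg.Agent.* helpers here

set_option autoImplicit false
open Cfsg

namespace Cfsg.Agent.S1450

/-- Let G be a solvable group of odd order, p a prime dividing its order with G having no elementary abelian subgroup of order p ^ 3. Then every prime dividing the index of O_{p'}(G) is at most p; if p = 3 or p is the smallest prime divisor of #G then G has a normal p-complement; the derived subgroup G' has a normal p-complement; every subgroup of G' of order coprime to p lies in O_{p'}(G'); and G/O_{p',p}(G) is abelian of order coprime to p. -/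
theorem result {G : Type*} [Group G] [Finite G] [Group.IsSolvable G] (hodd : Odd (Nat.card G)) (p : ℕ) [Fact p.Prime] (hpG : p ∣ Nat.card G) (hr : Cfsg.PRankLE p 2 G) :
    (∀ q : ℕ, q.Prime → q ∣ (Cfsg.pPrimeCore p G).index → q ≤ p) ∧
      ((p = 3 ∨ ∀ q : ℕ, q.Prime → q ∣ Nat.card G → p ≤ q) → Cfsg.HasNormalPComplement p G) ∧
      Cfsg.HasNormalPComplement p ↥(commutator G) ∧
      (∀ L : Subgroup ↥(commutator G), (Nat.card L).Coprime p → L ≤ Cfsg.pPrimeCore p ↥(commutator G)) ∧
      commutator G ≤ Cfsg.pPrimePCore p G ∧ ((Cfsg.pPrimePCore p G).index).Coprime p := by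
  classical
  have hp : p.Prime := Fact.out
  have hp2 : p ≠ 2 := by
    intro h
    rw [h] at hpG
    rcases hodd with ⟨k, hk⟩
    omega
  obtain ⟨h1, h2, h3, h4, h5⟩ := Cfsg.Agent.Lib.Helper4.Rk2.derived_facts hodd hp2 hr
  set K := Cfsg.pPrimeCore p G with hK
  have hKc : (Nat.card K).Coprime p := Cfsg.Agent.Lib.Helper6.pPrimeCore_coprime p
  have hKn : K.Normal := inferInstance
  refine ⟨h4, ?_, ?_, ?_, h2, h3⟩
  · intro hcase
    have hidxdvd : K.index ∣ Nat.card G := Subgroup.index_dvd_card K
    have hunique : ∀ {d : ℕ}, d.Prime → d ∣ K.index → d = p := by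
      intro d hd hdvd
      have hle := h4 d hd hdvd
      have hdG : d ∣ Nat.card G := hdvd.trans hidxdvd
      rcases hcase with h3' | hmin
      · have hd2 : d ≠ 2 := by
          intro h
          rw [h] at hdG
          rcases hodd with ⟨k, hk⟩
          omega
        have := hd.two_le
        omega
      · exact le_antisymm hle (hmin d hd hdG)
    have hidx := Nat.eq_prime_pow_of_unique_prime_dvd (Subgroup.index_ne_zero_of_finite) hunique
    exact Cfsg.Agent.Lib.Helper4.hasNormalPComplement_of_normal_coprime K hKn hKc _ hidx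
  · -- `G'` has a normal `p`-complement
    set N : Subgroup ↥(commutator G) := K.subgroupOf (commutator G) with hN
    have hNn : N.Normal := hKn.subgroupOf _
    have hNmap : N.map (commutator G).subtype = K ⊓ commutator G := Subgroup.subgroupOf_map_subtype _ _
    have hNcard : Nat.card N = Nat.card (K ⊓ commutator G : Subgroup G) := by
      rw [← hNmap]
      exact (Subgroup.card_map_of_injective (Subgroup.subtype_injective _)).symm
    have hNcop : (Nat.card N).Coprime p := by
      rw [hNcard]
      exact Nat.Coprime.coprime_dvd_left (Subgroup.card_dvd_of_le inf_le_left) hKc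
    obtain ⟨k, hk⟩ := (IsPGroup.iff_card).mp h5
    have e1 := Cfsg.Agent.Lib.Lead.card_map_mk_mul K (commutator G)
    have e2 := N.card_mul_index
    have hidx : N.index = p ^ k := by
      rw [← hk]
      have hpos : 0 < Nat.card N := Nat.card_pos
      apply Nat.eq_of_mul_eq_mul_left hpos
      rw [e2, ← e1, hNcard, inf_comm, mul_comm]
    exact Cfsg.Agent.Lib.Helper4.hasNormalPComplement_of_normal_coprime N hNn hNcop k hidx
  · intro L hL
    set N : Subgroup ↥(commutator G) := K.subgroupOf (commutator G) with hN
    have hNn : N.Normal := hKn.subgroupOf _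
    have hNmap : N.map (commutator G).subtype = K ⊓ commutator G := Subgroup.subgroupOf_map_subtype _ _
    have hNcard : Nat.card N = Nat.card (K ⊓ commutator G : Subgroup G) := by
      rw [← hNmap]
      exact (Subgroup.card_map_of_injective (Subgroup.subtype_injective _)).symm
    have hNcop : (Nat.card N).Coprime p := by
      rw [hNcard]
      exact Nat.Coprime.coprime_dvd_left (Subgroup.card_dvd_of_le inf_le_left) hKc
    have hNle : N ≤ Cfsg.pPrimeCore p ↥(commutator G) :=
      Cfsg.Agent.Lib.Helper6.le_pPrimeCore hNn hNcop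
    refine le_trans ?_ hNle
    intro l hl
    rw [hN, Subgroup.mem_subgroupOf]
    apply h1 _ l.2
    have e1 : orderOf ((l : ↥(commutator G)) : G) = orderOf (⟨l, hl⟩ : ↥L) := by
      rw [← Subgroup.orderOf_coe, ← Subgroup.orderOf_coe]
    rw [e1]
    exact Nat.Coprime.coprime_dvd_left (orderOf_dvd_natCard _) hL

end Cfsg.Agent.S1450
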