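import Cfsg.Statements.S0634
import Mathlib
import Cfsg.Agent.Lib.Helper4.HallHigman
import Cfsg.Agent.Lib.Helper4.PLength
import Cfsg.Agent.Lib.Lead.HallTools

set_option autoImplicit false
open Cfsg

namespace Cfsg.Agent.S0634


open Cfsg Cfsg.Agent.Lib.Lead Cfsg.Agent.Lib.Helper6 Cfsg.Agent.Lib.Helper4 Cfsg.Agent.Lib.Helper7 in
theorem pPrimeCore_quotient_comap {G : Type*} [Group G] [Finite G] (p : ℕ) (U : Subgroup G) [U.Normal]
    (W : Subgroup G) [W.Normal]
    (hW : W = (pPrimeCore p (G ⧸ U)).comap (QuotientGroup.mk' U)) : pPrimeCore p (G ⧸ W) = ⊥ := by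
  obtain ⟨X, hX⟩ : ∃ X, X = pPrimeCore p (G ⧸ W) := ⟨_, rfl⟩
  rw [← hX]
  have hXn : X.Normal := by rw [hX]; infer_instance
  have hXc : (Nat.card X).Coprime p := by rw [hX]; exact pPrimeCore_coprime p
  obtain ⟨N, hN⟩ : ∃ N, N = X.comap (QuotientGroup.mk' W) := ⟨_, rfl⟩
  have hNn : N.Normal := by rw [hN]; exact hXn.comap _
  have h1 : Nat.card N = Nat.card X * Nat.card W := by rw [hN]; exact card_comap_mk W X
  have hWc : Nat.card W = Nat.card (pPrimeCore p (G ⧸ U)) * Nat.card U := by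
    rw [hW]; exact card_comap_mk U _
  have hUW : U ≤ W := by
    intro x hx
    rw [hW, Subgroup.mem_comap]
    have : (QuotientGroup.mk' U) x = 1 := (QuotientGroup.eq_one_iff x).mpr hx
    rw [this]; exact Subgroup.one_mem _
  have hWN : W ≤ N := by
    intro x hx
    rw [hN, Subgroup.mem_comap]
    have : (QuotientGroup.mk' W) x = 1 := (QuotientGroup.eq_one_iff x).mpr hx
    rw [this]; exact Subgroup.one_mem _
  have h2 : Nat.card (N.map (QuotientGroup.mk' U)) * Nat.card U = Nat.card N :=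
    card_map_mk_of_le U N (hUW.trans hWN)
  have hUpos : 0 < Nat.card U := Nat.card_pos
  have h3 : Nat.card (N.map (QuotientGroup.mk' U)) = Nat.card X * Nat.card (pPrimeCore p (G ⧸ U)) := by
    have : Nat.card (N.map (QuotientGroup.mk' U)) * Nat.card U
        = (Nat.card X * Nat.card (pPrimeCore p (G ⧸ U))) * Nat.card U := by
      rw [h2, h1, hWc, mul_assoc]
    exact Nat.eq_of_mul_eq_mul_right hUpos this
  have h4 : (Nat.card (N.map (QuotientGroup.mk' U))).Coprime p := by
    rw [h3]; exact Nat.Coprime.mul_left hXc (pPrimeCore_coprime p)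
  have h5 : N.map (QuotientGroup.mk' U) ≤ pPrimeCore p (G ⧸ U) :=
    le_pPrimeCore (hNn.map _ (QuotientGroup.mk'_surjective U)) h4
  have h6 : N ≤ W := by
    intro x hx
    rw [hW, Subgroup.mem_comap]
    exact h5 ⟨x, hx, rfl⟩
  rw [Subgroup.eq_bot_iff_forall]
  intro y hy
  obtain ⟨g, rfl⟩ := QuotientGroup.mk'_surjective W y
  have : g ∈ N := by rw [hN]; exact hy
  exact (QuotientGroup.eq_one_iff g).mpr (h6 this)

/-- In a p-soluble group each p-factor of the upper p-series contains its own centralizer in the corresponding quotient. -/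
theorem result {G : Type*} [Group G] [Finite G] {p : ℕ} [Fact p.Prime] (hsol : Cfsg.IsPSolvable p G) (k : ℕ) : Subgroup.centralizer ((((Cfsg.upperPSeries p G (2 * k + 2)).1.map (QuotientGroup.mk' (Cfsg.upperPSeries p G (2 * k + 1)).1)) : Subgroup (G ⧸ (Cfsg.upperPSeries p G (2 * k + 1)).1)) : Set (G ⧸ (Cfsg.upperPSeries p G (2 * k + 1)).1)) ≤ (Cfsg.upperPSeries p G (2 * k + 2)).1.map (QuotientGroup.mk' (Cfsg.upperPSeries p G (2 * k + 1)).1) := by
  classical
  have hU1 := Cfsg.Agent.Lib.Helper4.upperPSeries_succ_even (G := G) p (2 * k) (by simp)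
  have hU2 := Cfsg.Agent.Lib.Helper4.upperPSeries_succ_odd (G := G) p (2 * k + 1) (by simp)
  have hbot : Cfsg.pPrimeCore p (G ⧸ (Cfsg.upperPSeries p G (2 * k + 1)).1) = ⊥ :=
    pPrimeCore_quotient_comap p (Cfsg.upperPSeries p G (2 * k)).1 _ hU1
  have hmap : (Cfsg.upperPSeries p G (2 * k + 2)).1.map (QuotientGroup.mk' (Cfsg.upperPSeries p G (2 * k + 1)).1)
      = Cfsg.pCore p (G ⧸ (Cfsg.upperPSeries p G (2 * k + 1)).1) := by
    rw [show 2 * k + 2 = 2 * k + 1 + 1 from rfl, hU2]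
    exact Subgroup.map_comap_eq_self_of_surjective (QuotientGroup.mk'_surjective _) _
  rw [hmap]
  exact Cfsg.Agent.Lib.Helper4.centralizer_pCore_le_of_isPSolvable
    (Cfsg.Agent.Lib.Helper7.isPSolvable_quotient hsol _) hbot

end Cfsg.Agent.S0634
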