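import Mathlib
import Cfsg.Statements.S1462
import Cfsg.Agent.S0634
import Cfsg.Agent.Lib.Helper4.PLength2
import Cfsg.Agent.Lib.Helper4.OmegaOdd
import Cfsg.Agent.Lib.Lead.ThompsonPQ
-- import your own Cfsg.Agent.* helpers here

set_option autoImplicit false
open Cfsg Cfsg.Agent.Lib.Helper4

namespace Cfsg.Agent.S1462

theorem main_aux {G : Type*} [Group G] [Finite G] (p : ℕ) [Fact p.Prime] (hp : p ≠ 2)
    (E L : Subgroup G) (hE : Cfsg.IsElementaryAbelian p E)
    (hEmax : ∀ B : Subgroup G, Cfsg.IsElementaryAbelian p B → E ≤ B → B = E) (hL : (Nat.card L).Coprime p)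
    (hEL : E ≤ Subgroup.normalizer (L : Set G)) (hEp : IsPGroup p E) (S : Sylow p G) (hES : E ≤ S)
    (K U₂ : Subgroup G) [hKn : K.Normal] [hU₂n : U₂.Normal] (hKp : (Nat.card K).Coprime p)
    (hKS : K ⊔ (S : Subgroup G) = U₂)
    (hcent : Subgroup.centralizer ((U₂.map (QuotientGroup.mk' K) : Subgroup (G ⧸ K)) : Set (G ⧸ K)) ≤
      U₂.map (QuotientGroup.mk' K)) : L ≤ K := by
  classical
  -- the quotient
  obtain ⟨π, hπdef⟩ : ∃ π : G →* G ⧸ K, π = QuotientGroup.mk' K := ⟨_, rfl⟩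
  rw [← hπdef] at hcent
  have hπsurj : Function.Surjective π := by rw [hπdef]; exact QuotientGroup.mk'_surjective _
  have hπker : π.ker = K := by rw [hπdef]; exact QuotientGroup.ker_mk' _
  have hSK : (S : Subgroup G) ⊓ K = ⊥ := by
    apply Subgroup.inf_eq_bot_of_coprime
    obtain ⟨j, hj⟩ := IsPGroup.iff_card.mp S.2
    rw [hj]
    exact Nat.Coprime.pow_left j hKp.symm
  have hPbar : U₂.map π = (S : Subgroup G).map π := by
    rw [← hKS, Subgroup.map_sup]
    have : K.map π = ⊥ := by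
      rw [Subgroup.map_eq_bot_iff, hπker]
    rw [this, bot_sup_eq]
  have hPp : IsPGroup p (U₂.map π) := by rw [hPbar]; exact S.2.map π
  haveI hPn : (U₂.map π).Normal := hU₂n.map π hπsurj
  have hEP : E.map π ≤ U₂.map π := by rw [hPbar]; exact Subgroup.map_mono hES
  have hLcop : (Nat.card (L.map π)).Coprime p :=
    Nat.Coprime.coprime_dvd_left (Subgroup.card_map_dvd L π) hL
  have hLP : L.map π ⊓ U₂.map π = ⊥ := by
    apply Subgroup.inf_eq_bot_of_coprime
    obtain ⟨j, hj⟩ := IsPGroup.iff_card.mp hPp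
    rw [hj]
    exact Nat.Coprime.pow_right j hLcop
  have hEL' : E.map π ≤ Subgroup.normalizer ((L.map π : Subgroup (G ⧸ K)) : Set (G ⧸ K)) :=
    (Subgroup.map_mono hEL).trans (Subgroup.le_normalizer_map π)
  -- L̄ centralizes Ē
  have hcomm : ∀ l ∈ L.map π, ∀ e ∈ E.map π, l * e = e * l := by
    intro l hl e he
    have h1 : l * e * l⁻¹ * e⁻¹ ∈ L.map π ⊓ U₂.map π := by
      refine Subgroup.mem_inf.mpr ⟨?_, ?_⟩
      · have h2 : e * l⁻¹ * e⁻¹ ∈ L.map π :=
          (Subgroup.mem_normalizer_iff.mp (hEL' he) l⁻¹).mp (Subgroup.inv_mem _ hl)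
        have : l * e * l⁻¹ * e⁻¹ = l * (e * l⁻¹ * e⁻¹) := by group
        rw [this]
        exact Subgroup.mul_mem _ hl h2
      · exact Subgroup.mul_mem _ (hPn.conj_mem e (hEP he) l) (Subgroup.inv_mem _ (hEP he))
    rw [hLP, Subgroup.mem_bot] at h1
    have : l * e = (l * e * l⁻¹ * e⁻¹) * (e * l) := by group
    rw [this, h1, one_mul]
  have hEcL : E.map π ≤ Subgroup.centralizer ((L.map π : Subgroup (G ⧸ K)) : Set (G ⧸ K)) := by
    intro e he
    rw [Subgroup.mem_centralizer_iff]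
    intro l hl
    exact hcomm l hl e he
  have hLcE : L.map π ≤ Subgroup.centralizer ((E.map π : Subgroup (G ⧸ K)) : Set (G ⧸ K)) := by
    intro l hl
    rw [Subgroup.mem_centralizer_iff]
    intro e he
    exact (hcomm l hl e he).symm
  have hLnP : L.map π ≤ Subgroup.normalizer ((U₂.map π : Subgroup (G ⧸ K)) : Set (G ⧸ K)) := by
    rw [Subgroup.normalizer_eq_top]; exact le_top
  have hEnP : E.map π ≤ Subgroup.normalizer ((U₂.map π : Subgroup (G ⧸ K)) : Set (G ⧸ K)) := by
    rw [Subgroup.normalizer_eq_top]; exact le_top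
  -- elements of order p in C_P̄(Ē) lie in Ē
  have hOmega : ∀ y ∈ U₂.map π ⊓ Subgroup.centralizer ((E.map π : Subgroup (G ⧸ K)) : Set (G ⧸ K)),
      y ^ p = 1 → y ∈ E.map π := by
    intro y hy hyp
    have hy1 : y ∈ (S : Subgroup G).map π := by rw [← hPbar]; exact hy.1
    obtain ⟨s, hs, rfl⟩ := hy1
    have hsp : s ^ p = 1 := by
      have h1 : s ^ p ∈ (S : Subgroup G) ⊓ K := by
        refine Subgroup.mem_inf.mpr ⟨Subgroup.pow_mem _ hs p, ?_⟩
        rw [← hπker, MonoidHom.mem_ker, map_pow]; exact hyp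
      rw [hSK, Subgroup.mem_bot] at h1
      exact h1
    have hsc : ∀ e ∈ E, e * s = s * e := by
      intro e he
      have h1 : e * s * e⁻¹ * s⁻¹ ∈ (S : Subgroup G) ⊓ K := by
        refine Subgroup.mem_inf.mpr ⟨?_, ?_⟩
        · exact Subgroup.mul_mem _ (Subgroup.mul_mem _ (Subgroup.mul_mem _ (hES he) hs)
            (Subgroup.inv_mem _ (hES he))) (Subgroup.inv_mem _ hs)
        · rw [← hπker, MonoidHom.mem_ker]
          have h2 := Subgroup.mem_centralizer_iff.mp hy.2 (π e) ⟨e, he, rfl⟩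
          simp only [map_mul, map_inv]
          rw [h2]
          group
      rw [hSK, Subgroup.mem_bot] at h1
      have : e * s = (e * s * e⁻¹ * s⁻¹) * (s * e) := by group
      rw [this, h1, one_mul]
    have hEA := isEA_sup_zpowers hE hsp hsc
    have hEeq := hEmax _ hEA le_sup_left
    have hsE : s ∈ E := by
      rw [← hEeq]
      exact Subgroup.mem_sup_right (Subgroup.mem_zpowers s)
    exact ⟨s, hsE, rfl⟩
  -- L̄ normalizes Ȳ = C_P̄(Ē)
  have hLnY : L.map π ≤ Subgroup.normalizer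
      ((U₂.map π ⊓ Subgroup.centralizer ((E.map π : Subgroup (G ⧸ K)) : Set (G ⧸ K)) : Subgroup (G ⧸ K)) : Set (G ⧸ K)) := by
    refine le_trans ?_ Subgroup.inf_normalizer_le_normalizer_inf
    refine le_inf hLnP ?_
    intro l hl
    have hlc := hLcE hl
    rw [Subgroup.mem_normalizer_iff]
    intro x
    constructor
    · intro hx
      exact Subgroup.mul_mem _ (Subgroup.mul_mem _ hlc hx) (Subgroup.inv_mem _ hlc)
    · intro hx
      have : x = l⁻¹ * (l * x * l⁻¹) * l := by group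
      rw [this]
      exact Subgroup.mul_mem _ (Subgroup.mul_mem _ (Subgroup.inv_mem _ hlc) hx) hlc
  have hLcY := coprime_centralizes_of_omega_one hp (L.map π)
    (U₂.map π ⊓ Subgroup.centralizer ((E.map π : Subgroup (G ⧸ K)) : Set (G ⧸ K))) hLcop
    (hPp.to_le inf_le_left) hLnY (by
      intro x hx hxp a ha
      exact hcomm a ha x (hOmega x hx hxp))
  have hYcL : U₂.map π ⊓ Subgroup.centralizer ((E.map π : Subgroup (G ⧸ K)) : Set (G ⧸ K)) ≤
      Subgroup.centralizer ((L.map π : Subgroup (G ⧸ K)) : Set (G ⧸ K)) :=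
    Subgroup.le_centralizer_iff.mp hLcY
  have hLcP := Cfsg.Agent.Lib.Lead.thompson_PQ p (E.map π) (L.map π) (U₂.map π) (hEp.map π) hLcop hPp
    hEcL hEnP hLnP hYcL
  have hLbot : L.map π = ⊥ := by
    rw [eq_bot_iff, ← hLP]
    exact le_inf le_rfl (hLcP.trans hcent)
  rw [Subgroup.map_eq_bot_iff, hπker] at hLbot
  exact hLbot


/-- Let G be a finite solvable group, p an odd prime with G = O_{p',p,p'}(G), E an elementary abelian p-subgroup contained in no larger elementary abelian p-subgroup of G, and L a subgroup of order coprime to p normalized by E. Then L ≤ O_{p'}(G). -/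
theorem result {G : Type*} [Group G] [Finite G] [Group.IsSolvable G] (p : ℕ) [Fact p.Prime] (hp : p ≠ 2) (hpl : Cfsg.PLengthLE p 1 G) (E L : Subgroup G) (hE : Cfsg.IsElementaryAbelian p E)
    (hEmax : ∀ B : Subgroup G, Cfsg.IsElementaryAbelian p B → E ≤ B → B = E) (hL : (Nat.card L).Coprime p) (hEL : E ≤ Subgroup.normalizer (L : Set G)) :
    L ≤ Cfsg.pPrimeCore p G := by
  classical
  have hEp : IsPGroup p E := by
    intro e
    refine ⟨1, ?_⟩
    apply Subtype.ext
    rw [pow_one, Subgroup.coe_pow]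
    exact hE.2 e e.2
  obtain ⟨S, hES⟩ := hEp.exists_le_sylow
  obtain ⟨hKp, hKS, hKN⟩ := plength_one_frattini p hpl S
  have hsol : Cfsg.IsPSolvable p G := isPSolvable_of_pLengthLE_one p hpl
  have hcent := Cfsg.Agent.S0634.result (p := p) hsol 0
  change Subgroup.centralizer ((((Cfsg.upperPSeries p G 2).1.map (QuotientGroup.mk' (Cfsg.upperPSeries p G 1).1)) : Subgroup (G ⧸ (Cfsg.upperPSeries p G 1).1)) : Set (G ⧸ (Cfsg.upperPSeries p G 1).1)) ≤ (Cfsg.upperPSeries p G 2).1.map (QuotientGroup.mk' (Cfsg.upperPSeries p G 1).1) at hcent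
  have hKle : (upperPSeries p G 1).1 ≤ Cfsg.pPrimeCore p G :=
    Cfsg.Agent.Lib.Helper6.le_pPrimeCore (upperPSeries p G 1).2 hKp
  refine le_trans ?_ hKle
  exact main_aux p hp E L hE hEmax hL hEL hEp S hES (upperPSeries p G 1).1 (upperPSeries p G 2).1 hKp hKS hcent

end Cfsg.Agent.S1462
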