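import Mathlib
import Cfsg.Statements.S3734
import Cfsg.Agent.Lib.Lead.GenCentralizers
import Cfsg.Agent.Lib.Lead.CoprimeAction2
import Cfsg.Agent.Lib.Helper7.Conj

set_option autoImplicit false
open Cfsg

namespace Cfsg.Agent.S3734

open Cfsg.Agent.Lib.Lead
open scoped commutatorElement

universe u

section basic

variable {X : Type*} [Group X]

/-- subgroups of `A` with cyclic quotient -/
def cyc (A : Subgroup X) : Set (Subgroup X) :=
  {B : Subgroup X | B ≤ A ∧ ∃ a ∈ A, B ⊔ Subgroup.zpowers a = A}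

/-- the subgroup generated by the fixed points of the members of `cyc A` -/
def S (A G : Subgroup X) : Subgroup X :=
  ⨆ B ∈ cyc A, G ⊓ Subgroup.centralizer (B : Set X)

theorem S_le (A G : Subgroup X) : S A G ≤ G :=
  iSup₂_le fun _ _ => inf_le_left

theorem S_mono (A : Subgroup X) {H G : Subgroup X} (h : H ≤ G) : S A H ≤ S A G :=
  iSup₂_mono fun _ _ => inf_le_inf_right _ h

theorem le_S {A G : Subgroup X} {B : Subgroup X} (hB : B ∈ cyc A) :
    G ⊓ Subgroup.centralizer (B : Set X) ≤ S A G :=
  le_iSup₂_of_le B hB le_rfl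

/-- elements of `H ⊔ ⟨a⟩` when `a` commutes with `H` -/
theorem mem_sup_zpowers {H : Subgroup X} {a : X} (hc : ∀ h ∈ H, h * a = a * h) {x : X}
    (hx : x ∈ H ⊔ Subgroup.zpowers a) : ∃ h ∈ H, ∃ k : ℤ, x = h * a ^ k := by
  have hn : Subgroup.zpowers a ≤ Subgroup.normalizer (H : Set X) := by
    intro z hz
    obtain ⟨k, rfl⟩ := Subgroup.mem_zpowers_iff.mp hz
    rw [Subgroup.mem_normalizer_iff]
    intro h
    have hcomm : ∀ h ∈ H, a ^ k * h * (a ^ k)⁻¹ = h := by
      intro h hh
      have : Commute (a ^ k) h := ((show Commute h a from hc h hh).symm).zpow_left k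
      rw [this.eq, mul_inv_cancel_right]
    constructor
    · intro hh
      rw [hcomm h hh]; exact hh
    · intro hh
      have := hcomm _ hh
      have h2 : h = (a ^ k)⁻¹ * (a ^ k * h * (a ^ k)⁻¹) * (a ^ k) := by group
      rw [h2, ← this]
      have h3 : (a ^ k)⁻¹ * (a ^ k * (a ^ k * h * (a ^ k)⁻¹) * (a ^ k)⁻¹) * a ^ k
          = a ^ k * h * (a ^ k)⁻¹ := by group
      rw [h3]; exact hh
  have : x ∈ ((H ⊔ Subgroup.zpowers a : Subgroup X) : Set X) := hx
  rw [Subgroup.coe_mul_of_right_le_normalizer_left H _ hn] at this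
  obtain ⟨h, hh, z, hz, rfl⟩ := this
  obtain ⟨k, rfl⟩ := Subgroup.mem_zpowers_iff.mp hz
  exact ⟨h, hh, k, rfl⟩

end basic

section transport

variable {Y : Type*} [Group Y] {X : Type*} [Group X]

theorem cyc_map (f : Y →* X) {A B : Subgroup Y} (hB : B ∈ cyc A) : B.map f ∈ cyc (A.map f) := by
  obtain ⟨hBA, a, ha, hsup⟩ := hB
  refine ⟨Subgroup.map_mono hBA, f a, Subgroup.mem_map_of_mem f ha, ?_⟩
  rw [← MonoidHom.map_zpowers, ← Subgroup.map_sup, hsup]

theorem map_S_le (f : Y →* X) (A G : Subgroup Y) : (S A G).map f ≤ S (A.map f) (G.map f) := by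
  unfold S
  rw [Subgroup.map_iSup]
  refine iSup_le fun B => ?_
  rw [Subgroup.map_iSup]
  refine iSup_le fun hB => ?_
  refine le_trans ?_ (le_S (cyc_map f hB))
  rintro _ ⟨g, hgGC, rfl⟩
  obtain ⟨hgG, hgC⟩ := Subgroup.mem_inf.mp hgGC
  refine Subgroup.mem_inf.mpr ⟨Subgroup.mem_map_of_mem f hgG, ?_⟩
  rw [Subgroup.mem_centralizer_iff]
  rintro _ ⟨b, hb, rfl⟩
  rw [← map_mul, ← map_mul, Subgroup.mem_centralizer_iff.mp hgC b hb]

theorem push (f : Y →* X) {A G : Subgroup Y} (h : G ≤ S A G) :
    G.map f ≤ S (A.map f) (G.map f) :=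
  (Subgroup.map_mono h).trans (map_S_le f A G)

theorem pull (f : Y →* X) {A G : Subgroup Y} [hAc : IsMulCommutative A]
    (hAG : A ≤ Subgroup.normalizer (G : Set Y)) (hker : G ⊓ f.ker = ⊥)
    (h : G.map f ≤ S (A.map f) (G.map f)) : G ≤ S A G := by
  have key : S (A.map f) (G.map f) ≤ (S A G).map f := by
    refine iSup₂_le fun B' hB' => ?_
    obtain ⟨hB'A, a', ha', hsup⟩ := hB'
    obtain ⟨a, ha, rfl⟩ := ha'
    have hBmem : A ⊓ B'.comap f ∈ cyc A := by
      refine ⟨inf_le_left, a, ha, ?_⟩
      apply le_antisymm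
      · exact sup_le inf_le_left ((Subgroup.zpowers_le).mpr ha)
      · intro c hc
        have hfc : f c ∈ B' ⊔ Subgroup.zpowers (f a) := by
          rw [hsup]; exact Subgroup.mem_map_of_mem f hc
        have hcomm : ∀ h ∈ B', h * f a = f a * h := by
          intro h hh
          obtain ⟨b, hb, rfl⟩ := hB'A hh
          rw [← map_mul, ← map_mul]
          congr 1
          exact setLike_mul_comm (s := A) hb ha
        obtain ⟨b', hb', k, hk⟩ := mem_sup_zpowers hcomm hfc
        have hmem : c * a ^ (-k) ∈ A ⊓ B'.comap f := by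
          refine Subgroup.mem_inf.mpr ⟨A.mul_mem hc (A.zpow_mem ha _), ?_⟩
          rw [Subgroup.mem_comap, map_mul, map_zpow, hk, zpow_neg, mul_assoc, mul_inv_cancel,
            mul_one]
          exact hb'
        have : c = c * a ^ (-k) * a ^ k := by rw [zpow_neg, inv_mul_cancel_right]
        rw [this]
        exact Subgroup.mul_mem _ (Subgroup.mem_sup_left hmem)
          (Subgroup.mem_sup_right (Subgroup.zpow_mem _ (Subgroup.mem_zpowers a) k))
    refine le_trans ?_ (Subgroup.map_mono (le_S hBmem))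
    intro x hx
    obtain ⟨⟨g, hg, rfl⟩, hxC⟩ := Subgroup.mem_inf.mp hx
    refine ⟨g, Subgroup.mem_inf.mpr ⟨hg, ?_⟩, rfl⟩
    rw [Subgroup.mem_centralizer_iff]
    intro b hb
    -- the commutator lies in `G ⊓ ker f`
    have hb' : f b ∈ B' := (Subgroup.mem_inf.mp hb).2
    have h1 : f b * f g = f g * f b := Subgroup.mem_centralizer_iff.mp hxC (f b) hb'
    have h2 : b * g * b⁻¹ * g⁻¹ ∈ G ⊓ f.ker := by
      refine Subgroup.mem_inf.mpr ⟨G.mul_mem ?_ (G.inv_mem hg), ?_⟩
      · exact (Subgroup.mem_normalizer_iff.mp (hAG (Subgroup.mem_inf.mp hb).1) g).mp hg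
      · rw [MonoidHom.mem_ker, map_mul, map_mul, map_mul, map_inv, map_inv, h1]
        group
    rw [hker, Subgroup.mem_bot] at h2
    have : b * g = (b * g * b⁻¹ * g⁻¹) * (g * b) := by group
    rw [this, h2, one_mul]
  intro g hg
  obtain ⟨s, hs, hfs⟩ := key (h (Subgroup.mem_map_of_mem f hg))
  have h2 : s⁻¹ * g ∈ G ⊓ f.ker := by
    refine Subgroup.mem_inf.mpr ⟨G.mul_mem (G.inv_mem (S_le A G hs)) hg, ?_⟩
    rw [MonoidHom.mem_ker, map_mul, map_inv, hfs, inv_mul_cancel]
  rw [hker, Subgroup.mem_bot] at h2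
  have : g = s := by
    have := congrArg (fun z => s * z) h2
    simpa using this
  rw [this]; exact hs

end transport

theorem card_lt_of_lt' {X : Type*} [Group X] [Finite X] {N H : Subgroup X} (h : N < H) :
    Nat.card N < Nat.card H := by
  by_contra hcon
  push Not at hcon
  exact h.ne (Subgroup.eq_of_le_of_card_ge h.le hcon)

theorem gen_aux (n : ℕ) : ∀ (X : Type u) [Group X] [Finite X] (A G : Subgroup X),
    Nat.card A + Nat.card G ≤ n → IsMulCommutative A → A ≤ Subgroup.normalizer (G : Set X) →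
    (Nat.card A).Coprime (Nat.card G) → G ≤ S A G := by
  induction n using Nat.strong_induction_on with
  | _ n ih =>
  intro X _ _ A G hn hAc hAG hcop
  by_cases hcyc : IsCyclic A
  · obtain ⟨a, ha⟩ := hcyc.exists_generator
    have hmem : (⊥ : Subgroup X) ∈ cyc A := by
      refine ⟨bot_le, a, a.2, ?_⟩
      rw [bot_sup_eq]
      apply le_antisymm
      · exact Subgroup.zpowers_le.mpr a.2
      · intro x hx
        obtain ⟨k, hk⟩ := Subgroup.mem_zpowers_iff.mp (ha ⟨x, hx⟩)
        have := congrArg Subtype.val hk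
        simp only [Subgroup.coe_zpow] at this
        rw [← this]
        exact Subgroup.zpow_mem_zpowers _ k
    refine le_trans ?_ (le_S hmem)
    intro g hg
    refine Subgroup.mem_inf.mpr ⟨hg, ?_⟩
    rw [Subgroup.mem_centralizer_iff]
    intro b hb
    have : b = 1 := hb
    rw [this, one_mul, mul_one]
  · by_cases hfaith : ∀ a ∈ A, a ≠ 1 → ¬ G ≤ Subgroup.centralizer {a}
    · have hgen := generated_by_centralizers A G hcyc hAG hcop
      refine hgen.ge.trans (iSup₂_le fun a ha => ?_)
      obtain ⟨haA, ha1⟩ := ha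
      have hlt : G ⊓ Subgroup.centralizer {a} < G := by
        refine lt_of_le_of_ne inf_le_left fun h => ?_
        exact hfaith a haA ha1 (inf_eq_left.mp h)
      have hnorm : A ≤ Subgroup.normalizer ((G ⊓ Subgroup.centralizer {a} : Subgroup X) : Set X) := by
        intro b hb
        have hba : b * a = a * b := setLike_mul_comm (s := A) hb haA
        have key : ∀ c ∈ A, c * a = a * c → ∀ x ∈ G ⊓ Subgroup.centralizer {a},
            c * x * c⁻¹ ∈ G ⊓ Subgroup.centralizer {a} := by
          intro c hc hca x hx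
          obtain ⟨hxG, hxC⟩ := Subgroup.mem_inf.mp hx
          refine Subgroup.mem_inf.mpr ⟨(Subgroup.mem_normalizer_iff.mp (hAG hc) x).mp hxG, ?_⟩
          rw [Subgroup.mem_centralizer_singleton_iff] at hxC ⊢
          have hca' : c⁻¹ * a = a * c⁻¹ := by
            have := congrArg (fun z => c⁻¹ * z * c⁻¹) hca
            simp only [mul_assoc, mul_inv_cancel, mul_one, inv_mul_cancel_left] at this
            exact this.symm
          calc c * x * c⁻¹ * a = c * x * (c⁻¹ * a) := by group
            _ = c * x * (a * c⁻¹) := by rw [hca']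
            _ = c * (x * a) * c⁻¹ := by group
            _ = c * (a * x) * c⁻¹ := by rw [hxC]
            _ = (c * a) * x * c⁻¹ := by group
            _ = (a * c) * x * c⁻¹ := by rw [hca]
            _ = a * (c * x * c⁻¹) := by group
        rw [Subgroup.mem_normalizer_iff]
        intro x
        constructor
        · exact key b hb hba x
        · intro hx
          have hb' : b⁻¹ * a = a * b⁻¹ := setLike_mul_comm (s := A) (A.inv_mem hb) haA
          have := key b⁻¹ (A.inv_mem hb) hb' _ hx
          have h2 : b⁻¹ * (b * x * b⁻¹) * b⁻¹⁻¹ = x := by group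
          rwa [h2] at this
      have hcard := card_lt_of_lt' hlt
      have hcop' : (Nat.card A).Coprime (Nat.card ↥(G ⊓ Subgroup.centralizer {a})) :=
        Nat.Coprime.coprime_dvd_right (Subgroup.card_dvd_of_le inf_le_left) hcop
      have := ih (Nat.card A + Nat.card ↥(G ⊓ Subgroup.centralizer {a})) (by omega) X A
        (G ⊓ Subgroup.centralizer {a}) le_rfl hAc hnorm hcop'
      exact this.trans (S_mono A inf_le_left)
    · push Not at hfaith
      obtain ⟨a, haA, ha1, hGa⟩ := hfaith
      -- the ambient group is replaced by the centralizer of `a`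
      obtain ⟨Y, hY⟩ : ∃ Y : Subgroup X, Y = Subgroup.centralizer ({a} : Set X) := ⟨_, rfl⟩
      have hAY : A ≤ Y := by
        rw [hY]
        intro b hb
        rw [Subgroup.mem_centralizer_singleton_iff]
        exact setLike_mul_comm (s := A) hb haA
      have hGY : G ≤ Y := hY ▸ hGa
      have haY : a ∈ Y := hAY haA
      have hcomm : ∀ y : ↥Y, (y : X) * a = a * y := by
        intro y
        have h1 : (y : X) ∈ Subgroup.centralizer ({a} : Set X) := hY ▸ y.2
        rw [Subgroup.mem_centralizer_singleton_iff] at h1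
        exact h1
      obtain ⟨Z, hZ⟩ : ∃ Z : Subgroup ↥Y, Z = (Subgroup.zpowers a).subgroupOf Y := ⟨_, rfl⟩
      haveI hZn : Z.Normal := by
        constructor
        intro z hz y
        rw [hZ, Subgroup.mem_subgroupOf] at hz ⊢
        obtain ⟨k, hk⟩ := Subgroup.mem_zpowers_iff.mp hz
        have h1 : ((y * z * y⁻¹ : ↥Y) : X) = (y : X) * a ^ k * (y : X)⁻¹ := by
          simp [hk]
        have h2 : Commute (y : X) (a ^ k) := (show Commute (y : X) a from hcomm y).zpow_right k
        rw [h1, h2.eq, mul_inv_cancel_right]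
        exact Subgroup.zpow_mem_zpowers a k
      obtain ⟨f, hf⟩ : ∃ f : ↥Y →* ↥Y ⧸ Z, f = QuotientGroup.mk' Z := ⟨_, rfl⟩
      have hfker : f.ker = Z := by rw [hf, QuotientGroup.ker_mk']
      haveI : IsMulCommutative ↥A := hAc
      have hAG' : A.subgroupOf Y ≤ Subgroup.normalizer ((G.subgroupOf Y : Subgroup ↥Y) : Set ↥Y) := by
        intro b hb
        rw [Subgroup.mem_subgroupOf] at hb
        rw [Subgroup.mem_normalizer_iff]
        intro x
        rw [Subgroup.mem_subgroupOf, Subgroup.mem_subgroupOf]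
        have := Subgroup.mem_normalizer_iff.mp (hAG hb) (x : X)
        simpa using this
      have hdisj : G ⊓ A = ⊥ := by
        have := Subgroup.disjoint_of_coprime_natCard hcop
        rw [disjoint_comm] at this
        exact disjoint_iff.mp this
      have hker : G.subgroupOf Y ⊓ f.ker = ⊥ := by
        rw [hfker, hZ, eq_bot_iff]
        intro x hx
        obtain ⟨hx1, hx2⟩ := Subgroup.mem_inf.mp hx
        rw [Subgroup.mem_subgroupOf] at hx1 hx2
        have : (x : X) ∈ G ⊓ A :=
          Subgroup.mem_inf.mpr ⟨hx1, (Subgroup.zpowers_le.mpr haA) hx2⟩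
        rw [hdisj, Subgroup.mem_bot] at this
        rw [Subgroup.mem_bot]
        exact Subtype.ext this
      have hcardA : Nat.card ↥(A.subgroupOf Y) = Nat.card A :=
        Nat.card_congr (Subgroup.subgroupOfEquivOfLe hAY).toEquiv
      have hcardG : Nat.card ↥(G.subgroupOf Y) = Nat.card G :=
        Nat.card_congr (Subgroup.subgroupOfEquivOfLe hGY).toEquiv
      have hcardA' : Nat.card ↥((A.subgroupOf Y).map f) < Nat.card A := by
        rw [← hcardA]
        set g : ↥(A.subgroupOf Y) →* ↥Y ⧸ Z := f.comp (A.subgroupOf Y).subtype with hg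
        have hrange : g.range = (A.subgroupOf Y).map f := by
          rw [hg, MonoidHom.range_comp, Subgroup.range_subtype]
        have h1 := Subgroup.card_mul_index g.ker
        rw [Subgroup.index_ker, hrange] at h1
        have hkne : g.ker ≠ ⊥ := by
          intro hbot
          have hmem : (⟨⟨a, haY⟩, by rw [Subgroup.mem_subgroupOf]; exact haA⟩ : ↥(A.subgroupOf Y))
              ∈ g.ker := by
            rw [MonoidHom.mem_ker, hg, MonoidHom.comp_apply]
            show f (⟨a, haY⟩ : ↥Y) = 1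
            rw [← MonoidHom.mem_ker, hfker, hZ, Subgroup.mem_subgroupOf]
            exact Subgroup.mem_zpowers a
          rw [hbot, Subgroup.mem_bot] at hmem
          apply ha1
          have := congrArg (fun z : ↥(A.subgroupOf Y) => ((z : ↥Y) : X)) hmem
          simpa using this
        have h2 : 1 < Nat.card ↥g.ker := (Subgroup.one_lt_card_iff_ne_bot _).mpr hkne
        have h3 : 0 < Nat.card ↥((A.subgroupOf Y).map f) := Nat.card_pos
        nlinarith
      have hcardG' : Nat.card ↥((G.subgroupOf Y).map f) ≤ Nat.card G := by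
        rw [← hcardG]
        exact Nat.le_of_dvd Nat.card_pos (Subgroup.card_map_dvd _ f)
      have hcop' : (Nat.card ↥((A.subgroupOf Y).map f)).Coprime
          (Nat.card ↥((G.subgroupOf Y).map f)) := by
        have h1 : Nat.card ↥((A.subgroupOf Y).map f) ∣ Nat.card A :=
          hcardA ▸ Subgroup.card_map_dvd _ f
        have h2 : Nat.card ↥((G.subgroupOf Y).map f) ∣ Nat.card G :=
          hcardG ▸ Subgroup.card_map_dvd _ f
        exact Nat.Coprime.coprime_dvd_left h1 (Nat.Coprime.coprime_dvd_right h2 hcop)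
      have hnorm' : (A.subgroupOf Y).map f ≤
          Subgroup.normalizer (((G.subgroupOf Y).map f : Subgroup (↥Y ⧸ Z)) : Set (↥Y ⧸ Z)) :=
        (Subgroup.map_mono hAG').trans (Subgroup.le_normalizer_map f)
      have h1 := ih (Nat.card ↥((A.subgroupOf Y).map f) + Nat.card ↥((G.subgroupOf Y).map f))
        (by omega) (↥Y ⧸ Z) ((A.subgroupOf Y).map f) ((G.subgroupOf Y).map f) le_rfl
        inferInstance hnorm' hcop'
      have h2 : G.subgroupOf Y ≤ S (A.subgroupOf Y) (G.subgroupOf Y) := pull f hAG' hker h1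
      have h3 := push Y.subtype h2
      rwa [Subgroup.map_subgroupOf_eq_of_le hGY, Subgroup.map_subgroupOf_eq_of_le hAY] at h3

theorem gen {X : Type u} [Group X] [Finite X] (A G : Subgroup X) (hAab : IsMulCommutative A)
    (hAG : A ≤ Subgroup.normalizer (G : Set X)) (hcop : (Nat.card A).Coprime (Nat.card G)) :
    S A G = G :=
  le_antisymm (S_le A G) (gen_aux _ X A G le_rfl hAab hAG hcop)

open Cfsg.Agent.Lib.Helper7 in
theorem le_normalizer_biSup {X : Type*} [Group X] {ι : Type*} (s : Set ι) (F : ι → Subgroup X)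
    (K : Subgroup X) (h : ∀ i ∈ s, K ≤ Subgroup.normalizer ((F i : Subgroup X) : Set X)) :
    K ≤ Subgroup.normalizer ((⨆ i ∈ s, F i : Subgroup X) : Set X) := by
  intro k hk
  rw [mem_normalizer_iff_cj]
  show (⨆ i ∈ s, F i).map (MulAut.conj k).toMonoidHom = _
  rw [Subgroup.map_iSup]
  congr 1
  funext i
  rw [Subgroup.map_iSup]
  congr 1
  funext hi
  exact mem_normalizer_iff_cj.mp (h i hi hk)

theorem comm_part {X : Type u} [Group X] [Finite X] (A G : Subgroup X)
    (hAab : IsMulCommutative A) (hAG : A ≤ Subgroup.normalizer (G : Set X))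
    (hcop : (Nat.card A).Coprime (Nat.card G)) :
    (⨆ B ∈ cyc A, ⁅G ⊓ Subgroup.centralizer (B : Set X), A⁆) = ⁅G, A⁆ := by
  apply le_antisymm
  · exact iSup₂_le fun B _ => Subgroup.commutator_mono inf_le_left le_rfl
  -- `A` normalizes each fixed point subgroup
  have hHB : ∀ B ∈ cyc A, A ≤ Subgroup.normalizer
      ((G ⊓ Subgroup.centralizer (B : Set X) : Subgroup X) : Set X) := by
    intro B hB b hb
    have key : ∀ c ∈ A, ∀ x ∈ G ⊓ Subgroup.centralizer (B : Set X),
        c * x * c⁻¹ ∈ G ⊓ Subgroup.centralizer (B : Set X) := by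
      intro c hc x hx
      obtain ⟨hxG, hxC⟩ := Subgroup.mem_inf.mp hx
      refine Subgroup.mem_inf.mpr ⟨(Subgroup.mem_normalizer_iff.mp (hAG hc) x).mp hxG, ?_⟩
      rw [Subgroup.mem_centralizer_iff] at hxC ⊢
      intro d hd
      have hdc : d * c = c * d := setLike_mul_comm (s := A) (hB.1 hd) hc
      have hdc' : c⁻¹ * d = d * c⁻¹ := by
        have := congrArg (fun z => c⁻¹ * z * c⁻¹) hdc
        simp only [mul_assoc, mul_inv_cancel, mul_one, inv_mul_cancel_left] at this
        exact this
      have hdx := hxC d hd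
      calc d * (c * x * c⁻¹) = (d * c) * x * c⁻¹ := by group
        _ = (c * d) * x * c⁻¹ := by rw [hdc]
        _ = c * (d * x) * c⁻¹ := by group
        _ = c * (x * d) * c⁻¹ := by rw [hdx]
        _ = c * x * (d * c⁻¹) := by group
        _ = c * x * (c⁻¹ * d) := by rw [hdc']
        _ = c * x * c⁻¹ * d := by group
    rw [Subgroup.mem_normalizer_iff]
    intro x
    constructor
    · exact key b hb x
    · intro hx
      have := key b⁻¹ (A.inv_mem hb) _ hx
      have h2 : b⁻¹ * (b * x * b⁻¹) * b⁻¹⁻¹ = x := by group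
      rwa [h2] at this
  obtain ⟨L, hL⟩ : ∃ L : Subgroup X,
      L = ⨆ B ∈ cyc A, ⁅G ⊓ Subgroup.centralizer (B : Set X), A⁆ := ⟨_, rfl⟩
  rw [← hL]
  obtain ⟨C, hC⟩ : ∃ C : Subgroup X, C = G ⊓ Subgroup.centralizer (A : Set X) := ⟨_, rfl⟩
  have hCL : C ≤ Subgroup.normalizer (L : Set X) := by
    rw [hL]
    apply le_normalizer_biSup
    intro B hB
    refine le_trans ?_ (le_normalizer_commutator_left _ A)
    rw [hC]
    exact inf_le_inf_left _ (Subgroup.centralizer_le hB.1)
  have hAL : A ≤ Subgroup.normalizer (L : Set X) := by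
    rw [hL]
    apply le_normalizer_biSup
    intro B hB
    exact le_normalizer_commutator_right _ A (hHB B hB)
  have hGle : G ≤ L ⊔ C := by
    rw [← gen A G hAab hAG hcop]
    refine iSup₂_le fun B hB => ?_
    have hcopB : (Nat.card A).Coprime (Nat.card ↥(G ⊓ Subgroup.centralizer (B : Set X))) :=
      Nat.Coprime.coprime_dvd_right (Subgroup.card_dvd_of_le inf_le_left) hcop
    haveI : IsMulCommutative ↥A := hAab
    have hsolv : Group.IsSolvable ↥A := Group.isSolvable_of_comm (fun a b => mul_comm' a b)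
    have := coprime_commutator_sup_centralizer A (G ⊓ Subgroup.centralizer (B : Set X))
      (hHB B hB) hcopB (Or.inl hsolv)
    rw [← this]
    refine sup_le_sup ?_ ?_
    · rw [hL]
      exact le_iSup₂_of_le B hB le_rfl
    · rw [hC]
      exact inf_le_inf_right _ inf_le_left
  rw [Subgroup.commutator_le]
  intro g hg a ha
  have hg' : g ∈ ((L ⊔ C : Subgroup X) : Set X) := hGle hg
  rw [Subgroup.coe_mul_of_right_le_normalizer_left L C hCL] at hg'
  obtain ⟨l, hl, c, hc, rfl⟩ := hg'
  have hca : c * a = a * c := by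
    rw [hC] at hc
    exact (Subgroup.mem_centralizer_iff.mp (Subgroup.mem_inf.mp hc).2 a ha).symm
  have h1 : ⁅l * c, a⁆ = l * (a * l⁻¹ * a⁻¹) := by
    rw [commutatorElement_def]
    calc l * c * a * (l * c)⁻¹ * a⁻¹ = l * (c * a) * c⁻¹ * l⁻¹ * a⁻¹ := by group
      _ = l * (a * c) * c⁻¹ * l⁻¹ * a⁻¹ := by rw [hca]
      _ = l * (a * l⁻¹ * a⁻¹) := by group
  rw [h1]
  exact L.mul_mem hl ((Subgroup.mem_normalizer_iff.mp (hAL ha) l⁻¹).mp (L.inv_mem hl))

/-- Let A and G be subgroups of a finite group with A abelian, A normalizing G and the orders of A and G coprime. Then G is generated by the fixed-point subgroups C_G(B) of those subgroups B of A for which A/B is cyclic (that is, A = ⟨B, a⟩ for some a), and [G, A] is generated by the commutator subgroups [C_G(B), A] over the same subgroups B. -/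
theorem result {X : Type*} [Group X] [Finite X] (A G : Subgroup X) (hAab : IsMulCommutative A) (hAG : A ≤ Subgroup.normalizer (G : Set X)) (hcop : (Nat.card A).Coprime (Nat.card G)) : (⨆ B ∈ {B : Subgroup X | B ≤ A ∧ ∃ a ∈ A, B ⊔ Subgroup.zpowers a = A}, G ⊓ Subgroup.centralizer (B : Set X)) = G ∧ (⨆ B ∈ {B : Subgroup X | B ≤ A ∧ ∃ a ∈ A, B ⊔ Subgroup.zpowers a = A}, ⁅G ⊓ Subgroup.centralizer (B : Set X), A⁆) = ⁅G, A⁆ := by
  exact ⟨gen A G hAab hAG hcop, comm_part A G hAab hAG hcop⟩

end Cfsg.Agent.S3734
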