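import Mathlib
import Cfsg.Statements.S1443
import Cfsg.Agent.Lib.Helper4.OmegaOdd

set_option autoImplicit false
open Cfsg

namespace Cfsg.Agent.S1443

open Cfsg.Agent.Lib.Helper4 Cfsg.Agent.Lib.Lead

/-- Let G be a finite group, p an odd prime, H a p-subgroup, E an elementary abelian subgroup of H, and A a subgroup of order coprime to p normalizing H. If A centralizes every element of order p in H ∩ C_G(E), then A centralizes H. -/
theorem result {G : Type*} [Group G] [Finite G] (p : ℕ) [Fact p.Prime] (hp : p ≠ 2) (H E A : Subgroup G) (hH : IsPGroup p H) (hE : E ≤ H) (hEe : Cfsg.IsElementaryAbelian p E)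
    (hA : (A ≤ Subgroup.normalizer (H : Set G))) (hcop : (Nat.card A).Coprime p)
    (hfix : ∀ x ∈ (H ⊓ Subgroup.centralizer (E : Set G)), orderOf x = p → A ≤ Subgroup.centralizer ({x} : Set G)) :
    A ≤ Subgroup.centralizer (H : Set G) := by
  have hprime : p.Prime := Fact.out
  set K : Subgroup G := H ⊓ Subgroup.centralizer (E : Set G) with hK
  have hfix' : ∀ x ∈ K, x ^ p = 1 → ∀ a ∈ A, a * x = x * a := by
    intro x hx hxp a ha
    by_cases h1 : x = 1
    · subst h1; simp
    · have hord : orderOf x = p := orderOf_eq_prime hxp h1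
      have := hfix x hx hord ha
      rw [Subgroup.mem_centralizer_iff] at this
      exact (this x rfl).symm
  have hEcomm : E ≤ Subgroup.centralizer (E : Set G) := by
    intro e he
    rw [Subgroup.mem_centralizer_iff]
    intro f hf
    haveI := hEe.1
    have := mul_comm' (⟨f, hf⟩ : E) ⟨e, he⟩
    exact congrArg Subtype.val this
  have hEK : E ≤ K := le_inf hE hEcomm
  have hAE : A ≤ Subgroup.centralizer (E : Set G) := by
    intro a ha
    rw [Subgroup.mem_centralizer_iff]
    intro e he
    exact (hfix' e (hEK he) (hEe.2 e he) a ha).symm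
  have hAcent : A ≤ Subgroup.normalizer ((Subgroup.centralizer (E : Set G) : Subgroup G) : Set G) := by
    have key : ∀ a ∈ A, ∀ y ∈ Subgroup.centralizer (E : Set G),
        a * y * a⁻¹ ∈ Subgroup.centralizer (E : Set G) := by
      intro a ha y hy
      rw [Subgroup.mem_centralizer_iff] at hy ⊢
      intro e he
      have h1 : e * a = a * e := Subgroup.mem_centralizer_iff.mp (hAE ha) e he
      have h2 : e * y = y * e := hy e he
      have h3 : a⁻¹ * e = e * a⁻¹ := by
        have : a⁻¹ * (e * a) * a⁻¹ = a⁻¹ * (a * e) * a⁻¹ := by rw [h1]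
        simpa [mul_assoc] using this
      calc e * (a * y * a⁻¹) = (e * a) * y * a⁻¹ := by group
        _ = a * (e * y) * a⁻¹ := by rw [h1]; group
        _ = a * y * (e * a⁻¹) := by rw [h2]; group
        _ = a * y * a⁻¹ * e := by rw [← h3]; group
    intro a ha
    rw [Subgroup.mem_normalizer_iff]
    intro y
    constructor
    · exact key a ha y
    · intro hy
      have := key a⁻¹ (A.inv_mem ha) _ hy
      simpa [mul_assoc] using this
  have hAK : A ≤ Subgroup.normalizer (K : Set G) :=
    (le_inf hA hAcent).trans Subgroup.inf_normalizer_le_normalizer_inf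
  have hAcK : A ≤ Subgroup.centralizer (K : Set G) :=
    coprime_centralizes_of_omega_one hp A K hcop (hH.to_le inf_le_left) hAK hfix'
  exact thompson_PQ p E A H (hH.to_le hE) hcop hH (Subgroup.le_centralizer_iff.mp hAE)
    (hE.trans Subgroup.le_normalizer) hA (Subgroup.le_centralizer_iff.mp hAcK)

end Cfsg.Agent.S1443
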