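import Mathlib
import Cfsg.Agent.Lib.Helper4.Rk2m
-- Template for statement S1451 (row 1451; see /opt/grader/pristine/manifest.json for weights).
-- Copy to Cfsg/Agent/S1451.lean and replace the sorry. The statement below is byte-identical to the frozen
-- statement Cfsg.CfsgFrozen.S1451 (Cfsg/Statements/S1451.lean; the theorem Cfsg.odd_solvable_rank_two_derived_nilpotent_sylow_tower);
-- the grader kernel-checks Cfsg.Agent.S1451.result against that frozen type. Keep the theorem IN THIS FILE
-- (a `result` declared elsewhere and merely imported here is not credited); helpers may live anywhere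
-- under Cfsg/Agent/.
import Cfsg.Statements.S1451
-- import your own Cfsg.Agent.* helpers here

set_option autoImplicit false
open Cfsg

namespace Cfsg.Agent.S1451

/-- Let G be a solvable group of odd order such that G, or its Fitting subgroup, has no elementary abelian subgroup of order q ^ 3 for any prime q. Then G' is nilpotent; for every Sylow subgroup S of G, every characteristic subgroup T of S with T ≤ [S, S] is normal in G; and for every prime p, G has a characteristic subgroup that is a Hall subgroup for the set of primes greater than p. -/
theorem result {G : Type*} [Group G] [Finite G] [Group.IsSolvable G] (hodd : Odd (Nat.card G)) (hr : Cfsg.RankLE 2 G ∨ Cfsg.RankLE 2 (Cfsg.fittingSubgroup G)) :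
    Group.IsNilpotent ↥(commutator G) ∧
      (∀ (q : ℕ) [Fact q.Prime] (S : Sylow q G) (T : Subgroup ↥(S : Subgroup G)), T.Characteristic → T.map (S : Subgroup G).subtype ≤ ⁅(S : Subgroup G), (S : Subgroup G)⁆ →
        (T.map (S : Subgroup G).subtype).Normal) ∧
      ∀ p : ℕ, ∃ N : Subgroup G, N.Characteristic ∧ Cfsg.IsPiHall {q | q.Prime ∧ p < q} N := by
  have h := Cfsg.Agent.Lib.Helper4.Rk2.hyp420_of hodd hr
  refine ⟨h.commutator_isNilpotent, ?_, ?_⟩
  · intro q hq S T hT hTS
    exact h.char_normal S T hT hTS
  · intro p
    exact h.exists_char_hall p

end Cfsg.Agent.S1451
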