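import Cfsg.Statements.S1360
import Mathlib
import Cfsg.Agent.Lib.Helper2.BG12U4

set_option autoImplicit false
open Cfsg

namespace Cfsg.Agent.S1360

/-- Let G be a minimal simple group of odd order and M a maximal subgroup with standard factorisation M = K U M_σ. Then U contains a subgroup U₀ with the same exponent as U such that no non-identity element of U₀ centralizes a non-identity element of M_σ. -/
theorem result {G : Type*} [Group G] [Finite G] (hG : Cfsg.IsMinSimpleOddOrder G)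
    (M : Subgroup G) (hM : IsCoatom M) (K U : Subgroup G) (hKU : Cfsg.IsSigmaDecomposition M K U) :
    ∃ U₀ : Subgroup G, U₀ ≤ U ∧ Monoid.exponent U₀ = Monoid.exponent U ∧ ∀ u ∈ U₀, u ∈ Cfsg.sigmaHat M → u = 1 := by
  have u := Cfsg.Agent.Lib.Helper2.BG12.sd_uSub hKU hG hM
  have hE := Cfsg.Agent.Lib.Helper2.BG12.sd_isComplIn hKU
  obtain ⟨-, U₀, hU₀U, hexp, hreg⟩ := Cfsg.Agent.Lib.Helper2.BG12.theorem_12_12_U hG hM hE u
  refine ⟨U₀, hU₀U, hexp, ?_⟩
  rintro a ha ⟨-, y, hy, hy1, hay⟩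
  by_contra ha1
  have h1 : Cfsg.sigmaCore M ⊓ Subgroup.centralizer ({a} : Set G) = ⊥ := hreg a ha ha1
  have h2 : y ∈ Cfsg.sigmaCore M ⊓ Subgroup.centralizer ({a} : Set G) := by
    rw [Subgroup.mem_inf, Subgroup.mem_centralizer_singleton_iff]
    exact ⟨hy, hay.symm⟩
  rw [h1, Subgroup.mem_bot] at h2
  exact hy1 h2

end Cfsg.Agent.S1360
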