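import Cfsg.Statements.S1359
import Mathlib
import Cfsg.Agent.Lib.Helper2.BG12U4

set_option autoImplicit false
open Cfsg

namespace Cfsg.Agent.S1359

/-- Let G be a minimal simple group of odd order and M a maximal subgroup with standard factorisation M = K U M_σ. Then the subgroup generated by those elements of U which centralize some non-identity element of M_σ is abelian. -/
theorem result {G : Type*} [Group G] [Finite G] (hG : Cfsg.IsMinSimpleOddOrder G)
    (M : Subgroup G) (hM : IsCoatom M) (K U : Subgroup G) (hKU : Cfsg.IsSigmaDecomposition M K U) :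
    IsMulCommutative (Subgroup.closure ((U : Set G) ∩ Cfsg.sigmaHat M)) := by
  have u := Cfsg.Agent.Lib.Helper2.BG12.sd_uSub hKU hG hM
  have hE := Cfsg.Agent.Lib.Helper2.BG12.sd_isComplIn hKU
  obtain ⟨⟨A₀, hA₀c, hA₀⟩, -⟩ := Cfsg.Agent.Lib.Helper2.BG12.theorem_12_12_U hG hM hE u
  have hc := Cfsg.Agent.Lib.Lead.BG11.comm_of_isMulCommutative hA₀c
  have hle : Subgroup.closure ((U : Set G) ∩ Cfsg.sigmaHat M) ≤ A₀ := by
    rw [Subgroup.closure_le]
    rintro a ⟨haU, -, y, hy, hy1, hay⟩
    apply hA₀ y hy hy1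
    rw [Subgroup.mem_inf, Subgroup.mem_centralizer_singleton_iff]
    exact ⟨haU, hay⟩
  refine ⟨⟨?_⟩⟩
  rintro ⟨a, ha⟩ ⟨b, hb⟩
  exact Subtype.ext (hc a (hle ha) b (hle hb))

end Cfsg.Agent.S1359
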