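import Cfsg.Statements.S1351
import Cfsg.Agent.Lib.Helper5.BG147k

set_option autoImplicit false
open Cfsg

namespace Cfsg.Agent.S1351

/-- Let G be a minimal simple group of odd order and M a maximal subgroup. Then M possesses a Hall κ(M)-subgroup, and every Hall κ(M)-subgroup of M is cyclic. -/
theorem result {G : Type*} [Group G] [Finite G] (hG : Cfsg.IsMinSimpleOddOrder G)
    (M : Subgroup G) (hM : IsCoatom M) :
    (∃ K : Subgroup G, Cfsg.IsPiHallOf (Cfsg.kappa M) K M) ∧
      ∀ K : Subgroup G, Cfsg.IsPiHallOf (Cfsg.kappa M) K M → IsCyclic K := by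
  classical
  have hsolv : Group.IsSolvable ↥M := Cfsg.Agent.Lib.Helper4.BG8.solvable_of_ne_top hG hM.1
  refine ⟨?_, ?_⟩
  · obtain ⟨K, hK, -⟩ := Cfsg.Agent.Lib.Helper2.BG14y.exists_piHallOf_ge hsolv (Cfsg.kappa M)
      (bot_le : (⊥ : Subgroup G) ≤ M)
      (fun q hq hd => by
        rw [Subgroup.card_bot] at hd
        exact absurd (Nat.dvd_one.mp hd) hq.one_lt.ne')
    exact ⟨K, hK⟩
  · intro K hK
    by_cases hK1 : K = ⊥
    · subst hK1
      exact isCyclic_of_subsingleton
    · obtain ⟨Ms, h⟩ := Cfsg.Agent.Lib.Helper5.BG147.t147 hG hM hK hK1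
      exact h.cycK

end Cfsg.Agent.S1351
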