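import Mathlib
-- Template for statement S1281 (row 1281; see /opt/grader/pristine/manifest.json for weights).
-- Copy to Cfsg/Agent/S1281.lean and replace the sorry. The statement below is byte-identical to the frozen
-- statement Cfsg.CfsgFrozen.S1281 (Cfsg/Statements/S1281.lean; the theorem Cfsg.signalizer_functor_quotient_balance);
-- the grader kernel-checks Cfsg.Agent.S1281.result against that frozen type. Keep the theorem IN THIS FILE
-- (a `result` declared elsewhere and merely imported here is not credited); helpers may live anywhere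
-- under Cfsg/Agent/.
import Cfsg.Statements.S1281
import Cfsg.Agent.Lib.Helper3.Sig1

set_option autoImplicit false
open Cfsg
open Cfsg.Agent.Lib.Helper3.Sig Cfsg.Agent.Lib.Lead

namespace Cfsg.Agent.S1281

/-- Let θ be a solvable A-signalizer functor on the finite group G (A a noncyclic elementary abelian p-subgroup) and N a normal subgroup of order prime to p. Then for all non-identity a, b ∈ A, the image of θ a in G / N meets the centralizer of the image of b inside the image of θ b. -/
theorem result {G : Type*} [Group G] [Finite G] (p : ℕ) [Fact p.Prime] (A : Subgroup G) (hA : Cfsg.IsElementaryAbelian p A) (hA2 : p ^ 2 ≤ Nat.card ↥A) (θ : G → Subgroup G) (hθ : Cfsg.IsSolvableSignalizerFunctor p A θ) (N : Subgroup G) [N.Normal] (hN : ¬ p ∣ Nat.card ↥N) (a b : G) (ha : a ∈ A) (ha1 : a ≠ 1) (hb : b ∈ A) (hb1 : b ≠ 1) : (θ a).map (QuotientGroup.mk' N) ⊓ Subgroup.centralizer {QuotientGroup.mk' N b} ≤ (θ b).map (QuotientGroup.mk' N) := by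
  obtain ⟨⟨hcent, hpprime, hinv, hbal⟩, hsolv⟩ := hθ
  rintro y ⟨hy1, hy2⟩
  obtain ⟨x, hx, rfl⟩ := hy1
  have hy2' := Subgroup.mem_centralizer_singleton_iff.mp hy2
  -- the cyclic group generated by b
  have hBA : Subgroup.zpowers b ≤ A := zpowers_le_of_mem hb
  have hBp : IsPGroup p (Subgroup.zpowers b) := (ea_isPGroup hA).to_le hBA
  have hAn : A ≤ Subgroup.normalizer ((θ a : Subgroup G) : Set G) :=
    le_normalizer_of_conj_mem (hinv a ha ha1)
  have hcop : (Nat.card (Subgroup.zpowers b)).Coprime (Nat.card (θ a)) :=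
    coprime_card_of_isPGroup hBp (hpprime a ha ha1)
  have hfix : ∀ c ∈ Subgroup.zpowers b, c * x * c⁻¹ * x⁻¹ ∈ θ a ⊓ N := by
    intro c hc
    refine ⟨Subgroup.mul_mem _ ((Subgroup.mem_normalizer_iff.mp (hAn (hBA hc)) x).mp hx)
      (Subgroup.inv_mem _ hx), ?_⟩
    show c * x * c⁻¹ * x⁻¹ ∈ N
    rw [← QuotientGroup.eq_one_iff]
    -- mk c commutes with mk x
    have hcc : ((c : G) : G ⧸ N) * (x : G) = (x : G) * (c : G) := by
      obtain ⟨k, rfl⟩ := Subgroup.mem_zpowers_iff.mp hc
      have h1 : Commute ((b : G) : G ⧸ N) ((x : G) : G ⧸ N) := hy2'.symm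
      have := (h1.zpow_left k)
      simpa using this.eq
    simp only [QuotientGroup.mk_mul, QuotientGroup.mk_inv]
    rw [hcc]; group
  obtain ⟨c, hc, hcN⟩ := coprime_fixed_coset (Subgroup.zpowers b) (θ a) (hBA.trans hAn) hcop
    (Or.inl inferInstance) (θ a ⊓ N) inf_le_left
    (le_normalizer_inf Subgroup.le_normalizer (le_normalizer_of_normal _ N))
    (le_normalizer_inf (hBA.trans hAn) (le_normalizer_of_normal _ N)) x hx hfix
  refine ⟨c, ?_, ?_⟩
  · apply hbal a ha ha1 b hb hb1
    refine ⟨hc.1, ?_⟩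
    show c ∈ Subgroup.centralizer {b}
    rw [Subgroup.mem_centralizer_singleton_iff]
    exact (Subgroup.mem_centralizer_iff.mp hc.2 b (Subgroup.mem_zpowers b)).symm
  · rw [eq_comm]
    exact (QuotientGroup.eq).mpr hcN.2

end Cfsg.Agent.S1281
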