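import Mathlib
-- Template for statement S1331 (row 1331; see /opt/grader/pristine/manifest.json for weights).
-- Copy to Cfsg/Agent/S1331.lean and replace the sorry. The statement below is byte-identical to the frozen
-- statement Cfsg.CfsgFrozen.S1331 (Cfsg/Statements/S1331.lean; the theorem Cfsg.signalizer_family_member_generated_by_hyperplane_infs);
-- the grader kernel-checks Cfsg.Agent.S1331.result against that frozen type. Keep the theorem IN THIS FILE
-- (a `result` declared elsewhere and merely imported here is not credited); helpers may live anywhere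
-- under Cfsg/Agent/.
import Cfsg.Statements.S1331
import Cfsg.Agent.Lib.Helper3.Sig6

set_option autoImplicit false
open Cfsg
open Cfsg.Agent.Lib.Helper3.Sig Cfsg.Agent.Lib.Lead Cfsg.Agent.Lib.Helper3.Gen

namespace Cfsg.Agent.S1331

/-- Let θ be a solvable A-signalizer functor on the finite group G for the prime p, A elementary abelian of rank at least 3, X a member of the family of θ, and B ≤ A with |B| ≥ p². Then X is generated by the subgroups X ∩ ⋂_{d ∈ D, d ≠ 1} θ d, D ranging over the subgroups of index p in B. -/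
theorem result {G : Type*} [Group G] [Finite G] (p : ℕ) [Fact p.Prime] (A : Subgroup G) (hA : Cfsg.IsElementaryAbelian p A) (hA3 : p ^ 3 ≤ Nat.card ↥A) (θ : G → Subgroup G) (hθ : Cfsg.IsSolvableSignalizerFunctor p A θ) (X : Subgroup G) (hX : X ∈ Cfsg.signalizerFamily p A θ) (B : Subgroup G) (hB : B ≤ A) (hB2 : p ^ 2 ≤ Nat.card ↥B) : X = ⨆ D : {D : Subgroup G // D ≤ B ∧ D.relIndex B = p}, X ⊓ Cfsg.signalizerInf (D : Subgroup G) θ := by
  have hp : p.Prime := Fact.out
  have hp2 : 2 ≤ p := hp.two_le
  have hBea := ea_of_le hA hB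
  have hBp := ea_isPGroup hBea
  apply le_antisymm
  · have h1 := le_hypJoin hBea (Nat.card B - Nat.card (⊥ : Subgroup G)) ⊥ X le_rfl bot_le
      (by rw [Subgroup.coe_bot, Subgroup.centralizer_eq_top_iff_subset.mpr (by simp)]; exact le_top)
      hX.2.1 (hB.trans (family_le_normalizer hX))
    refine h1.trans (iSup_le ?_)
    -- hyperplanes
    have hyp : ∀ D : Subgroup G, D ≤ B → D.relIndex B = p →
        X ⊓ Subgroup.centralizer (D : Set G) ≤
          ⨆ D : {D : Subgroup G // D ≤ B ∧ D.relIndex B = p}, X ⊓ Cfsg.signalizerInf (D : Subgroup G) θ := by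
      intro D hDB hidx
      refine le_trans ?_ (le_iSup (fun D : {D : Subgroup G // D ≤ B ∧ D.relIndex B = p} =>
        X ⊓ Cfsg.signalizerInf (D : Subgroup G) θ) ⟨D, hDB, hidx⟩)
      apply le_inf inf_le_left
      intro x hx
      obtain ⟨hxX, hxC⟩ := Subgroup.mem_inf.mp hx
      unfold Cfsg.signalizerInf
      rw [Subgroup.mem_iInf]
      rintro ⟨d, hd, hd1⟩
      apply hX.2.2.2 d (hB (hDB hd)) hd1
      refine Subgroup.mem_inf.mpr ⟨hxX, ?_⟩
      rw [Subgroup.mem_centralizer_singleton_iff]
      exact (Subgroup.mem_centralizer_iff.mp hxC d hd).symm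
    rintro ⟨D, -, hDB, hidx⟩
    have hdvd : D.relIndex B ∣ Nat.card B := Subgroup.relIndex_dvd_card D B
    obtain ⟨m, hm⟩ := IsPGroup.iff_card.mp hBp
    rw [hm] at hdvd
    obtain ⟨j, -, hj⟩ := (Nat.dvd_prime_pow hp).mp hdvd
    have hj1 : j ≤ 1 := by
      by_contra hcon
      have : 2 ≤ j := by omega
      have h1 : p ^ 2 ≤ p ^ j := Nat.pow_le_pow_right (by omega) this
      have h2 : p < p ^ 2 := by nlinarith
      rw [hj] at hidx
      omega
    rcases Nat.le_one_iff_eq_zero_or_eq_one.mp hj1 with h0 | h1'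
    · -- D = B
      rw [h0, pow_zero, Subgroup.relIndex_eq_one] at hj
      obtain ⟨D₀, hD₀B, hD₀i⟩ := exists_relIndex_eq_prime hBp hB2
      refine le_trans ?_ (hyp D₀ hD₀B hD₀i)
      exact inf_le_inf_left _ (Subgroup.centralizer_le (hD₀B.trans hj))
    · rw [h1', pow_one] at hj
      exact hyp D hDB hj
  · exact iSup_le fun _ => inf_le_left

end Cfsg.Agent.S1331
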