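import Mathlib
-- Template for statement S1285 (row 1285; see /opt/grader/pristine/manifest.json for weights).
-- Copy to Cfsg/Agent/S1285.lean and replace the sorry. The statement below is byte-identical to the frozen
-- statement Cfsg.CfsgFrozen.S1285 (Cfsg/Statements/S1285.lean; the theorem Cfsg.signalizer_functor_complete_of_single_prime);
-- the grader kernel-checks Cfsg.Agent.S1285.result against that frozen type. Keep the theorem IN THIS FILE
-- (a `result` declared elsewhere and merely imported here is not credited); helpers may live anywhere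
-- under Cfsg/Agent/.
import Cfsg.Statements.S1285
import Cfsg.Agent.Lib.Helper3.Sig5

set_option autoImplicit false
open Cfsg
open Cfsg.Agent.Lib.Helper3.Sig Cfsg.Agent.Lib.Lead Cfsg.Agent.Lib.Helper3.Gen

namespace Cfsg.Agent.S1285

/-- Let θ be a solvable A-signalizer functor on the finite group G with A elementary abelian of rank at least 3, and suppose that for some prime q every θ a (a ∈ A non-identity) is a q-group. Then θ is complete. -/
theorem result {G : Type*} [Group G] [Finite G] (p : ℕ) [Fact p.Prime] (A : Subgroup G) (hA : Cfsg.IsElementaryAbelian p A) (hA3 : p ^ 3 ≤ Nat.card ↥A) (θ : G → Subgroup G) (hθ : Cfsg.IsSolvableSignalizerFunctor p A θ) (q : ℕ) [Fact q.Prime] (hq : ∀ a ∈ A, a ≠ 1 → IsPGroup q ↥(θ a)) : Cfsg.IsCompleteSignalizerFunctor p A θ := by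
  refine ⟨hθ.1, ?_⟩
  have hp : p.Prime := Fact.out
  by_cases hqp : q = p
  · subst hqp
    refine ⟨⊥, ?_, ?_, ?_⟩
    · intro b _ x hx
      rw [Subgroup.mem_bot] at hx ⊢
      rw [hx]; group
    · rw [Subgroup.card_bot]; exact hp.one_lt.ne' ∘ Nat.dvd_one.mp
    · intro a ha ha1
      rw [bot_inf_eq, eq_comm, ← Subgroup.card_eq_one]
      obtain ⟨k, hk⟩ := IsPGroup.iff_card.mp (hq a ha ha1)
      have h1 := hθ.1.2.1 a ha ha1
      rw [hk] at h1 ⊢
      rcases Nat.eq_zero_or_pos k with h0 | h0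
      · rw [h0, pow_zero]
      · exact (h1 (dvd_pow_self _ h0.ne')).elim
  · have hbot : (⊥ : Subgroup G) ∈ Cfsg.signalizerFamily p A θ := by
      refine ⟨inferInstance, ?_, ?_, ?_⟩
      · rw [Subgroup.card_bot]; exact hp.one_lt.ne' ∘ Nat.dvd_one.mp
      · intro b _ x hx
        rw [Subgroup.mem_bot] at hx ⊢
        rw [hx]; group
      · intro a _ _
        rw [bot_inf_eq]; exact bot_le
    obtain ⟨Q₀, hQ₀, -⟩ := exists_isMaxQ_ge (q := q) hbot IsPGroup.of_bot
    have hle : ∀ a ∈ A, a ≠ 1 → θ a ≤ Q₀ := by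
      intro a ha ha1
      obtain ⟨Qa, hQa, hθQa⟩ := exists_isMaxQ_ge (theta_mem_family hθ ha ha1) (hq a ha ha1)
      obtain ⟨c, hc, hcQ⟩ := transitivity_aux hA hA3 hθ hqp _ Q₀ Qa hQ₀ hQa rfl
      have hcθ : c⁻¹ ∈ θ a := Subgroup.inv_mem _ (signalizerInf_le_theta ha ha1 hc)
      have h1 := Subgroup.map_mono (f := (MulAut.conj c⁻¹).toMonoidHom) hθQa
      rw [map_conj_eq_self_of_mem hcθ, ← hcQ, map_conj_map_conj_inv] at h1
      exact h1
    refine ⟨Q₀, hQ₀.1.2.2.1, hQ₀.1.2.1, ?_⟩
    intro a ha ha1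
    apply le_antisymm
    · exact hQ₀.1.2.2.2 a ha ha1
    · exact le_inf (hle a ha ha1) (hθ.1.1 a ha ha1)

end Cfsg.Agent.S1285
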