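import Cfsg.Statements.S1364
import Mathlib
import Cfsg.Agent.Lib.Helper2.BG16d1
import Cfsg.Agent.S1437

set_option autoImplicit false
open Cfsg

namespace Cfsg.Agent.S1364

/-- Let G be a minimal simple group of odd order, M a maximal subgroup with standard factorisation M = K U M_σ and K ≠ 1, and put K* = M_σ ∩ C_G(K). Then K* is cyclic, nontrivial and contained in M_F, while M_F itself is not cyclic. -/
theorem result {G : Type*} [Group G] [Finite G] (hG : Cfsg.IsMinSimpleOddOrder G)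
    (M : Subgroup G) (hM : IsCoatom M) (K U : Subgroup G) (hKU : Cfsg.IsSigmaDecomposition M K U) (hK1 : K ≠ ⊥) :
    IsCyclic ↥(Cfsg.sigmaCore M ⊓ Subgroup.centralizer (K : Set G)) ∧ (Cfsg.sigmaCore M ⊓ Subgroup.centralizer (K : Set G)) ≠ ⊥ ∧ (Cfsg.sigmaCore M ⊓ Subgroup.centralizer (K : Set G)) ≤ Cfsg.fittingHallOf M ∧ ¬ IsCyclic (Cfsg.fittingHallOf M) := by
  obtain ⟨Ms, t⟩ := Cfsg.Agent.Lib.Helper5.BG147.t147 hG hM hKU.hall hK1
  refine ⟨t.cycKs, t.hKs1, ?_⟩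
  by_cases hF : Cfsg.fittingHallOf M = Cfsg.sigmaCore M
  · exact Cfsg.Agent.Lib.Helper2.BG16d.kstar_le_of_eq hG hM hKU hK1 hF
  · obtain ⟨-, -, hp, hq, -, -, Q, hQF, hQn, hQq, hQs, hD⟩ :=
      Cfsg.Agent.S1437.result hG M hM K U hKU hF
    refine Cfsg.Agent.Lib.Helper2.BG16d.kstar_le_of_ne hG hM hq rfl hp hQF hQn hQq hQs ?_
    intro D hDc
    obtain ⟨-, -, -, h4, h5, -⟩ := hD D hDc
    exact ⟨h4, fun a ha => (h5 a ha a ha).1⟩

end Cfsg.Agent.S1364
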