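import Cfsg.Statements.S0606
import Cfsg.Agent.Lib.Helper2.EA

set_option autoImplicit false
open Cfsg

namespace Cfsg.Agent.S0606

open Cfsg.Agent.Lib.Helper2

/-- Elementary abelian p-subgroups of maximal order are best offenders on any normal elementary abelian p-subgroup. -/
theorem result {G : Type*} [Group G] [Finite G] {p : ℕ} [Fact p.Prime] (V : Subgroup G) [V.Normal] (hV : Cfsg.IsElementaryAbelian p V) (A : Subgroup G) (hA : A ∈ Cfsg.maxElementaryAbelianSubgroups p G) : Cfsg.IsBestOffenderOn p V A := by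
  have hAea := (isEA_iff p A).mp hA.1
  refine ⟨?_, ?_, ?_⟩
  · intro B hBA
    set W := V ⊓ Subgroup.centralizer (B : Set G) with hW
    have hBW : ∀ b ∈ B, ∀ w ∈ W, b * w = w * b := by
      intro b hb w hw
      have := (Subgroup.mem_inf.mp hw).2
      rw [Subgroup.mem_centralizer_iff] at this
      exact this b hb
    have hE : IsElementaryAbelian p (B ⊔ W) :=
      isEA_sup B W (isEA_of_le hA.1 hBA) (isEA_of_le hV inf_le_left) hBW
    have hcard := hA.2 _ hE
    have hnorm : B ≤ Subgroup.normalizer (W : Set G) := fun b hb =>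
      mem_normalizer_of_commute W b (hBW b hb)
    have hprod := card_sup_mul_card_inf B W hnorm
    have hle : B ⊓ W ≤ V ⊓ Subgroup.centralizer (A : Set G) := by
      intro x hx
      obtain ⟨hxB, hxW⟩ := Subgroup.mem_inf.mp hx
      refine Subgroup.mem_inf.mpr ⟨(Subgroup.mem_inf.mp hxW).1, ?_⟩
      rw [Subgroup.mem_centralizer_iff]
      intro a ha
      exact hAea.1 a ha x (hBA hxB)
    have hcard2 : Nat.card ↥(B ⊓ W) ≤ Nat.card ↥(V ⊓ Subgroup.centralizer (A : Set G)) :=
      Subgroup.card_le_of_le hle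
    calc Nat.card B * Nat.card W = Nat.card ↥(B ⊔ W) * Nat.card ↥(B ⊓ W) := hprod.symm
      _ ≤ Nat.card A * Nat.card ↥(V ⊓ Subgroup.centralizer (A : Set G)) :=
        Nat.mul_le_mul hcard hcard2
  · have : ⁅A, A⁆ = ⊥ := by
      rw [Subgroup.commutator_eq_bot_iff_le_centralizer]
      intro a ha
      rw [Subgroup.mem_centralizer_iff]
      intro b hb
      exact hAea.1 b hb a ha
    rw [this]; exact bot_le
  · intro a ha
    rw [hAea.2 a ha]
    exact Subgroup.one_mem _

end Cfsg.Agent.S0606
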