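import Cfsg.Statements.S1358
import Mathlib
import Cfsg.Agent.Lib.Lead.BG11d
import Cfsg.Agent.Lib.Helper2.BG11d

set_option autoImplicit false
open Cfsg

namespace Cfsg.Agent.S1358

/-- Let G be a minimal simple group of odd order and M a maximal subgroup with standard factorisation M = K U M_σ. Then for every prime p, every Sylow p-subgroup of U is abelian and has no elementary abelian subgroup of order p ^ 3. -/
theorem result {G : Type*} [Group G] [Finite G] (hG : Cfsg.IsMinSimpleOddOrder G)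
    (M : Subgroup G) (hM : IsCoatom M) (K U : Subgroup G) (hKU : Cfsg.IsSigmaDecomposition M K U) :
    ∀ (p : ℕ), p.Prime → ∀ P : Sylow p U, IsMulCommutative (P : Subgroup U) ∧ Cfsg.PRankLE p 2 (P : Subgroup U) := by
  intro p hp P
  haveI : Fact p.Prime := ⟨hp⟩
  have hUM : U ≤ M := hKU.compl.1
  have hUσ : U ⊓ Cfsg.sigmaCore M = ⊥ := by
    rw [eq_bot_iff, ← hKU.compl.2.2.1]
    exact inf_le_inf_left _ le_sup_right
  set PG : Subgroup G := ((P : Subgroup ↥U).map U.subtype) with hPG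
  have hPGU : PG ≤ U := Subgroup.map_subtype_le _
  have hPGp : IsPGroup p PG := P.2.map _
  let f : ↥(P : Subgroup ↥U) →* ↥M := (Subgroup.inclusion hUM).comp (P : Subgroup ↥U).subtype
  have hf : Function.Injective f :=
    (Subgroup.inclusion_injective hUM).comp (Subgroup.subtype_injective _)
  have key : (∀ a ∈ PG, ∀ b ∈ PG, a * b = b * a) ∧ Cfsg.PRankLE p 2 ↥(P : Subgroup ↥U) := by
    by_cases hpσ : p ∈ Cfsg.sigma M
    · have h1 : PG ≤ Cfsg.sigmaCore M :=
        Cfsg.Agent.Lib.Lead.BG11.le_sigmaCore_of_isPGroup hG hM hpσ (hPGU.trans hUM) hPGp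
      have h2 : PG = ⊥ := by rw [eq_bot_iff, ← hUσ]; exact le_inf hPGU h1
      constructor
      · intro a ha b hb
        rw [h2, Subgroup.mem_bot] at ha hb
        rw [ha, hb]
      · apply Cfsg.Agent.Lib.Lead.BG10.prankLE_of_not_dvd hp
        have h3 : Nat.card ↥(P : Subgroup ↥U) = 1 := by
          rw [← Subgroup.card_map_of_injective U.subtype_injective, ← hPG, h2, Subgroup.card_bot]
        rw [h3]
        exact hp.one_lt.ne' ∘ Nat.dvd_one.mp
    · constructor
      · exact Cfsg.Agent.Lib.Helper2.BG11.pgroup_comm_of_not_sigma hG hM hpσ (hPGU.trans hUM) hPGp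
      · have hr2 : Cfsg.PRankLE p 2 ↥M := by
          by_contra h
          exact hpσ (Cfsg.Agent.Lib.Lead.BG10.alpha_subset_sigma hG hM
            ((Cfsg.Agent.Lib.Lead.BG10.alpha_mem_iff hp).mpr h))
        exact Cfsg.Agent.Lib.Helper4.Rk2.prankLE_of_injective f hf hr2
  refine ⟨⟨⟨?_⟩⟩, key.2⟩
  rintro ⟨a, ha⟩ ⟨b, hb⟩
  apply Subtype.ext
  apply Subtype.ext
  exact key.1 a ⟨a, ha, rfl⟩ b ⟨b, hb, rfl⟩

end Cfsg.Agent.S1358
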