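import Cfsg.Statements.S1374
import Mathlib
import Cfsg.Agent.Lib.Lead.BG14n2

set_option autoImplicit false
open Cfsg

namespace Cfsg.Agent.S1374

/-- Let G be a minimal simple group of odd order, M a maximal subgroup and x a non-identity element of M_σ. Then C_M(x) has order coprime to its index in C_G(x), and C_G(x) has a normal subgroup R complementing C_M(x) such that for every conjugate gMg⁻¹ containing x there is exactly one r ∈ R with rMr⁻¹ = gMg⁻¹. -/
theorem result {G : Type*} [Group G] [Finite G] (hG : Cfsg.IsMinSimpleOddOrder G)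
    (M : Subgroup G) (hM : IsCoatom M) (x : G) (hx : x ∈ Cfsg.sigmaCore M) (hx1 : x ≠ 1) :
    (Nat.card ↥(M ⊓ Subgroup.centralizer ({x} : Set G))).Coprime ((M ⊓ Subgroup.centralizer ({x} : Set G)).relIndex (Subgroup.centralizer ({x} : Set G))) ∧
      ∃ R : Subgroup G, Subgroup.centralizer ({x} : Set G) ≤ Subgroup.normalizer (R : Set G) ∧ Cfsg.IsComplIn (M ⊓ Subgroup.centralizer ({x} : Set G)) R (Subgroup.centralizer ({x} : Set G)) ∧
        ∀ g : G, x ∈ M.map (MulAut.conj g).toMonoidHom → ∃! r : G, r ∈ R ∧ M.map (MulAut.conj r).toMonoidHom = M.map (MulAut.conj g).toMonoidHom := by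
  classical
  have hxM : x ∈ M := Cfsg.Agent.Lib.Lead.BG10.sigmaCore_le M hx
  by_cases hC : Subgroup.centralizer ({x} : Set G) ≤ M
  · have hinf : M ⊓ Subgroup.centralizer ({x} : Set G) = Subgroup.centralizer ({x} : Set G) :=
      inf_eq_right.mpr hC
    refine ⟨?_, ⊥, ?_, ?_, ?_⟩
    · rw [hinf, Subgroup.relIndex_self]
      exact Nat.coprime_one_right _
    · intro c _
      rw [Subgroup.mem_normalizer_iff]
      intro h
      simp only [Subgroup.mem_bot]
      constructor
      · rintro rfl; group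
      · intro h1
        have : h = c⁻¹ * (c * h * c⁻¹) * c := by group
        rw [this, h1]; group
    · rw [hinf]
      refine ⟨le_rfl, bot_le, inf_bot_eq _, ?_⟩
      intro m hm
      exact ⟨m, hm, 1, Subgroup.one_mem _, (mul_one m).symm⟩
    · intro g hg
      obtain ⟨c, hcC, hcg⟩ := Cfsg.Agent.Lib.Lead.BG14n.exists_centralizer_cj hG hM hx hg
      have h1 : M.map (MulAut.conj g).toMonoidHom = M :=
        hcg.trans (Cfsg.Agent.Lib.Lead.BG14n.cj_eq_self_of_mem (hC hcC))
      refine ⟨1, ⟨Subgroup.one_mem _, ?_⟩, ?_⟩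
      · rw [h1]
        exact Cfsg.Agent.Lib.Lead.BG14n.cj_eq_self_of_mem M.one_mem
      · rintro r ⟨hr, -⟩
        exact Subgroup.mem_bot.mp hr
  · obtain ⟨N, hN, hCN, -, -, hcompl, -, -, -⟩ :=
      Cfsg.Agent.Lib.Lead.BG14n.exists_partner hG hM hx hx1 hC
    obtain ⟨h1, h2, h3, h4⟩ := Cfsg.Agent.Lib.Lead.BG14n.partner_props hG hM hx hx1 hN hCN hcompl
    exact ⟨h3, _, h1, h2, h4⟩

end Cfsg.Agent.S1374
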