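import Cfsg.Statements.S1357
import Mathlib
import Cfsg.Agent.Lib.Helper4.BG23g
-- import your own Cfsg.Agent.* helpers here

set_option autoImplicit false
open Cfsg

namespace Cfsg.Agent.S1357

/-- Let G be a minimal simple group of odd order and M a maximal subgroup with standard factorisation M = K U M_σ. If M_F ≠ M_σ then U = 1, the Fitting subgroup F(M) meets its conjugates by elements outside its normalizer trivially, and K has prime order. -/
theorem result {G : Type*} [Group G] [Finite G] (hG : Cfsg.IsMinSimpleOddOrder G)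
    (M : Subgroup G) (hM : IsCoatom M) (K U : Subgroup G) (hKU : Cfsg.IsSigmaDecomposition M K U) (hne : Cfsg.fittingHallOf M ≠ Cfsg.sigmaCore M) :
    U = ⊥ ∧ Cfsg.IsTISubset (Cfsg.fittingOf M : Set G) ∧ (Nat.card K).Prime := by
  classical
  obtain ⟨hnn, hU, hK1, hc, hder⟩ := Cfsg.Agent.Lib.Helper4.BG23.p1_of_fittingHall_ne hG hM hKU hne
  obtain ⟨Q, hMQ, c⟩ := Cfsg.Agent.Lib.Helper4.BG23.exists_cfg hG hM hKU hne
  obtain ⟨D₀, hD₀⟩ := Cfsg.Agent.Lib.Helper4.BG23.exists_isComplIn_of_normal_sylow c.hq c.hQX c.hXQ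
    c.hQ c.hQs
  exact ⟨hU, Cfsg.Agent.Lib.Helper4.BG23.fittingOf_ti_of_ne hG hM hKU hne, (c.main hD₀).2.1⟩

end Cfsg.Agent.S1357
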