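import Cfsg.Statements.S2117
import Cfsg.Agent.Lib.Helper3.SzM8
import Cfsg.Agent.Lib.Helper3.SzM9
import Cfsg.Agent.Lib.Helper1.SL2Quat
import Cfsg.Agent.Lib.Helper1.SL2Torus

set_option autoImplicit false
open Cfsg

namespace Cfsg.Agent.S2117

open Cfsg.Agent.Lib.Helper3.SzM
open scoped commutatorElement

/-- For a finite field with q elements, q ≠ 4 and q ≠ 9, the special linear group SL₂ has trivial Schur multiplier (here the Schur multiplier is described through stem extensions, as in the definitions). -/
theorem result {F : Type*} [Field F] [Fintype F] (h4 : Fintype.card F ≠ 4) (h9 : Fintype.card F ≠ 9) : Cfsg.HasCyclicSchurMultiplier (Matrix.SpecialLinearGroup (Fin 2) F) 1 := by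
  classical
  apply Cfsg.Agent.Lib.Helper3.StU.hasCyclicSchurMultiplier_one
  intro Γ _ _ σ hσ
  have hσ' := hσ
  obtain ⟨hsurj, hcen, hcomm⟩ := hσ'
  obtain ⟨p, hchar⟩ := CharP.exists F
  obtain ⟨n, hp, hn⟩ := FiniteField.card F p
  have : Fact p.Prime := ⟨hp⟩
  apply stem_ker_eq_bot_of_sylow σ hσ
  intro r hr
  have : Fact r.Prime := ⟨hr⟩
  by_cases hrp : r = p
  · subst hrp
    refine ⟨ULsub, not_dvd_index_ULsub r, ?_⟩
    intro z hz hz' _
    rw [commutator_comap_ULsub σ hsurj hcen h4 h9] at hz'
    exact Subgroup.mem_bot.mp hz'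
  · obtain ⟨P⟩ : Nonempty (Sylow r (Matrix.SpecialLinearGroup (Fin 2) F)) := inferInstance
    refine ⟨(P : Subgroup (Matrix.SpecialLinearGroup (Fin 2) F)), P.not_dvd_index, ?_⟩
    intro z hz hz' _
    by_cases hr2 : r = 2
    · subst hr2
      have hodd : Odd (Fintype.card F) := by
        rw [hn]
        exact (hp.odd_of_ne_two (Ne.symm hrp)).pow
      obtain ⟨k, hk, ⟨e⟩⟩ := Cfsg.Agent.Lib.Helper1.sylow_two_SL2_quaternion hodd P
      set Pt : Subgroup Γ := (P : Subgroup (Matrix.SpecialLinearGroup (Fin 2) F)).comap σ with hPt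
      let f : Pt →* (P : Subgroup (Matrix.SpecialLinearGroup (Fin 2) F)) :=
        σ.subgroupComap (P : Subgroup (Matrix.SpecialLinearGroup (Fin 2) F))
      have hf : Function.Surjective f :=
        MonoidHom.subgroupComap_surjective_of_surjective σ _ hsurj
      let τ : Pt →* QuaternionGroup (2 ^ k) := e.toMonoidHom.comp f
      have hτ : Function.Surjective τ := e.surjective.comp hf
      have hτc : τ.ker ≤ Subgroup.center Pt := by
        intro x hx
        have hx0 : f x = 1 := by
          apply e.injective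
          rw [map_one]
          exact hx
        have hx1 : σ (x : Γ) = 1 := congrArg Subtype.val hx0
        rw [Subgroup.mem_center_iff]
        intro g
        apply Subtype.ext
        exact Subgroup.mem_center_iff.mp (hcen (MonoidHom.mem_ker.mpr hx1)) g
      have hz1 : z ∈ (commutator Pt).map Pt.subtype := by
        rw [Subgroup.map_subtype_commutator]
        exact hz'
      obtain ⟨z', hz'c, rfl⟩ := hz1
      have hzk : z' ∈ τ.ker := by
        rw [MonoidHom.mem_ker]
        have h1 : f z' = 1 := Subtype.ext (MonoidHom.mem_ker.mp hz)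
        show e (f z') = 1
        rw [h1, map_one]
      have := eq_one_of_mem_commutator_quaternion (2 ^ k) τ hτ hτc hzk hz'c
      rw [this]
      rfl
    · have : IsCyclic (P : Subgroup (Matrix.SpecialLinearGroup (Fin 2) F)) :=
        Cfsg.Agent.Lib.Helper1.sylow_odd_SL2_cyclic p r hr2 hrp P
      rw [commutator_comap_eq_bot_of_isCyclic σ hcen (P : Subgroup (Matrix.SpecialLinearGroup (Fin 2) F))] at hz'
      exact Subgroup.mem_bot.mp hz'

end Cfsg.Agent.S2117
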