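import Cfsg.Statements.S2587
import Cfsg.Agent.Lib.Helper5.Wall3

set_option autoImplicit false
open Cfsg

namespace Cfsg.Agent.S2587


open Cfsg.Agent.Lib.Helper5.Wall



/-- Conjugacy in the finite general unitary group is controlled by the general linear group: two elements of GU_n(q) (the invertible matrices over the field with q² elements preserving the Hermitian form Σ u_i v_i^q) are conjugate in GU_n(q) if and only if they are conjugate in GL_n(q²). -/
theorem result {K : Type*} [Field K] [Fintype K] {q n : ℕ} (hK : Fintype.card K = q ^ 2) (A B : ↥(Cfsg.GU n K q)) : IsConj A B ↔ IsConj (A : GL (Fin n) K) (B : GL (Fin n) K) := by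
  constructor
  · intro h
    rw [isConj_iff] at h ⊢
    obtain ⟨c, hc⟩ := h
    refine ⟨(c : GL (Fin n) K), ?_⟩
    have := congrArg (fun x : ↥(Cfsg.GU n K q) => (x : GL (Fin n) K)) hc
    simpa using this
  · intro h
    rw [isConj_iff] at h
    obtain ⟨X, hX⟩ := h
    have hXA : (X : Matrix (Fin n) (Fin n) K) * (A : GL (Fin n) K) = (B : GL (Fin n) K) * X := by
      have h1 : X * (A : GL (Fin n) K) = (B : GL (Fin n) K) * X := by
        rw [← hX]; group
      have := congrArg (fun x : GL (Fin n) K => (x : Matrix (Fin n) (Fin n) K)) h1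
      simpa using this
    have hA := (mem_GU_iff hK (A : GL (Fin n) K)).1 A.2
    have hB := (mem_GU_iff hK (B : GL (Fin n) K)).1 B.2
    obtain ⟨Z, hZ, hZA⟩ := exists_unitary_conj hK _ _ _ hA hB X.isUnit hXA
    have hZu : IsUnit Z := ⟨⟨Z, ct hK Z, mul_eq_one_comm.1 hZ, hZ⟩, rfl⟩
    obtain ⟨Zu, hZu⟩ := hZu
    have hZmem : Zu ∈ Cfsg.GU n K q := by
      rw [mem_GU_iff hK, hZu]; exact hZ
    rw [isConj_iff]
    refine ⟨⟨Zu, hZmem⟩, ?_⟩
    apply Subtype.ext
    apply Units.ext
    show (Zu : Matrix (Fin n) (Fin n) K) * (A : GL (Fin n) K) * ((Zu⁻¹ : GL (Fin n) K) : Matrix (Fin n) (Fin n) K) = (B : GL (Fin n) K)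
    rw [hZu, hZA, mul_assoc, ← hZu, Units.mul_inv, mul_one]


end Cfsg.Agent.S2587
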