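import Cfsg.Statements.S2588
import Cfsg.Agent.Lib.Helper5.Wall3
import Cfsg.Agent.Lib.Helper5.PSLCoset5
import Cfsg.Agent.Lib.Helper2.HermDecomp

set_option autoImplicit false
open Cfsg

namespace Cfsg.Agent.S2588


open Cfsg.Agent.Lib.Helper5.Wall Cfsg.Agent.S0278
open Cfsg.Agent.Lib.Helper5.PSLCoset Cfsg.Agent.Lib.Helper2.HermDecomp

variable {K : Type*} [Field K] [Fintype K] {q n : ℕ}

/-- an invertible Hermitian matrix is of the form `ct X * X`. -/
theorem exists_ct_mul_self (hK : Fintype.card K = q ^ 2) (H : Matrix (Fin n) (Fin n) K)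
    (hH : ct hK H = H) (hHu : IsUnit H) :
    ∃ X : Matrix (Fin n) (Fin n) K, IsUnit X ∧ ct hK X * X = H := by
  classical
  obtain ⟨σ, hσ, hσq⟩ := exists_sigma hK
  have hherm : ∀ k l, σ (H k l) = H l k := by
    intro k l
    have := congrFun (congrFun hH l) k
    rw [hσq]
    exact this
  obtain ⟨E, hE⟩ := exists_congr_one (σ := σ) hσ (A := H) hherm hHu
  have hEmap : (E.map σ).transpose = ct hK E := by
    ext i j
    simp only [ct, Matrix.transpose_apply, Matrix.map_apply]
    rw [hσq]; rfl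
  rw [hEmap] at hE
  -- E * H * ct E = 1
  have hEu : IsUnit E := by
    refine ⟨⟨E, H * ct hK E, ?_, ?_⟩, rfl⟩
    · rw [← mul_assoc]; exact hE
    · exact mul_eq_one_comm.1 (by rw [← mul_assoc]; exact hE)
  obtain ⟨Eu, rfl⟩ := hEu
  set E' := ((Eu⁻¹ : (Matrix (Fin n) (Fin n) K)ˣ) : Matrix (Fin n) (Fin n) K) with hE'
  have h1 : ct hK E' * ct hK (Eu : Matrix (Fin n) (Fin n) K) = 1 := by
    rw [← ct_mul, hE', Units.mul_inv, ct_one]
  have h2 : ct hK (Eu : Matrix (Fin n) (Fin n) K) * ct hK E' = 1 := mul_eq_one_comm.1 h1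
  refine ⟨ct hK E', ⟨⟨ct hK E', ct hK (Eu : Matrix (Fin n) (Fin n) K), h1, h2⟩, rfl⟩, ?_⟩
  rw [ct_ct]
  calc E' * ct hK E' = E' * ((Eu : Matrix (Fin n) (Fin n) K) * H * ct hK (Eu : Matrix (Fin n) (Fin n) K)) * ct hK E' := by
        rw [hE, mul_one]
    _ = (E' * (Eu : Matrix (Fin n) (Fin n) K)) * H * (ct hK (Eu : Matrix (Fin n) (Fin n) K) * ct hK E') := by
        simp only [mul_assoc]
    _ = H := by rw [h2, hE', Units.inv_mul, one_mul, mul_one]

/-- the twisted anti-involution `x ↦ P⁻¹ x* P`. -/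
def tw (hK : Fintype.card K = q ^ 2) (P P' : Matrix (Fin n) (Fin n) K) (x : Matrix (Fin n) (Fin n) K) :
    Matrix (Fin n) (Fin n) K := P' * ct hK x * P

theorem setup_tw (hK : Fintype.card K = q ^ 2) (A A' P P' : Matrix (Fin n) (Fin n) K)
    (hAA' : A * A' = 1) (hPP' : P * P' = 1) (hPA : ct hK A * P * A = P) :
    Setup (tw hK P P') ({A, P' * ct hK P} : Set (Matrix (Fin n) (Fin n) K)) ∧
      tw hK P P' (P' * ct hK P) = ct hK P' * P ∧ (P' * ct hK P) * (ct hK P' * P) = 1 := by
  have hA'A : A' * A = 1 := mul_eq_one_comm.1 hAA'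
  have hP'P : P' * P = 1 := mul_eq_one_comm.1 hPP'
  have hcA : ct hK A * ct hK A' = 1 := by rw [← ct_mul, hA'A, ct_one]
  have hcA' : ct hK A' * ct hK A = 1 := mul_eq_one_comm.1 hcA
  have hcP : ct hK P * ct hK P' = 1 := by rw [← ct_mul, hP'P, ct_one]
  have hcP' : ct hK P' * ct hK P = 1 := mul_eq_one_comm.1 hcP
  set T := P' * ct hK P with hT
  set T' := ct hK P' * P with hT'
  have hTT' : T * T' = 1 := by
    rw [hT, hT']
    calc P' * ct hK P * (ct hK P' * P) = P' * (ct hK P * ct hK P') * P := by simp only [mul_assoc]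
      _ = 1 := by rw [hcP, mul_one, hP'P]
  have hT'T : T' * T = 1 := mul_eq_one_comm.1 hTT'
  -- P A = ct A' P
  have h1 : P * A = ct hK A' * P := by
    calc P * A = (ct hK A' * ct hK A) * P * A := by rw [hcA', one_mul]
      _ = ct hK A' * (ct hK A * P * A) := by simp only [mul_assoc]
      _ = ct hK A' * P := by rw [hPA]
  have h2 : ct hK A * ct hK P * A = ct hK P := by
    have := congrArg (ct hK) hPA
    rw [ct_mul, ct_mul, ct_ct] at this
    rw [← mul_assoc] at this
    exact this
  have h2' : ct hK P * A = ct hK A' * ct hK P := by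
    calc ct hK P * A = (ct hK A' * ct hK A) * ct hK P * A := by rw [hcA', one_mul]
      _ = ct hK A' * (ct hK A * ct hK P * A) := by simp only [mul_assoc]
      _ = ct hK A' * ct hK P := by rw [h2]
  have hAeq : A = P' * ct hK A' * P := by
    calc A = (P' * P) * A := by rw [hP'P, one_mul]
      _ = P' * (P * A) := by rw [mul_assoc]
      _ = P' * ct hK A' * P := by rw [h1, mul_assoc]
  have hA'eq : A' = P' * ct hK A * P := by
    have : P * A' = ct hK A * P := by
      calc P * A' = (ct hK A * P * A) * A' := by rw [hPA]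
        _ = ct hK A * P * (A * A') := by simp only [mul_assoc]
        _ = ct hK A * P := by rw [hAA', mul_one]
    calc A' = (P' * P) * A' := by rw [hP'P, one_mul]
      _ = P' * (P * A') := by rw [mul_assoc]
      _ = P' * ct hK A * P := by rw [this, mul_assoc]
  have hTA : T * A = A * T := by
    calc T * A = P' * (ct hK P * A) := by rw [hT, mul_assoc]
      _ = P' * (ct hK A' * ct hK P) := by rw [h2']
      _ = (P' * ct hK A' * P) * (P' * ct hK P) := by
          simp only [mul_assoc]
          rw [← mul_assoc P P', hPP', one_mul]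
      _ = A * T := by rw [← hAeq]
  have htwT : tw hK P P' T = T' := by
    unfold tw
    rw [hT, ct_mul, ct_ct, hT']
    calc P' * (P * ct hK P') * P = (P' * P) * ct hK P' * P := by simp only [mul_assoc]
      _ = ct hK P' * P := by rw [hP'P, one_mul]
  have htwT' : tw hK P P' T' = T := by
    unfold tw
    rw [hT', ct_mul, ct_ct, hT]
    calc P' * (ct hK P * P') * P = P' * ct hK P * (P' * P) := by simp only [mul_assoc]
      _ = P' * ct hK P := by rw [hP'P, mul_one]
  have htwA' : tw hK P P' A' = A := by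
    unfold tw; exact hAeq.symm
  have hmul : ∀ x y, tw hK P P' (x * y) = tw hK P P' y * tw hK P P' x := by
    intro x y
    unfold tw
    rw [ct_mul]
    calc P' * (ct hK y * ct hK x) * P = P' * ct hK y * (P * P') * ct hK x * P := by
          rw [hPP', mul_one]; simp only [mul_assoc]
      _ = P' * ct hK y * P * (P' * ct hK x * P) := by simp only [mul_assoc]
  refine ⟨?_, htwT, hTT'⟩
  refine
    { add := ?_
      mul := hmul
      one := ?_
      inv := ?_
      comm := ?_
      stable := ?_ }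
  · intro x y
    unfold tw
    rw [ct_add, mul_add, add_mul]
  · unfold tw
    rw [ct_one, mul_one, hP'P]
  · intro x hx
    have hxT : T * x = x * T := hx T (Set.mem_insert_of_mem _ rfl)
    have : tw hK P P' (tw hK P P' x) = T * x * T' := by
      unfold tw
      rw [ct_mul, ct_mul, ct_ct, hT, hT']
      simp only [mul_assoc]
    rw [this, hxT, mul_assoc, hTT', mul_one]
  · intro x hx y hy
    rcases hx with rfl | rfl <;> rcases hy with rfl | rfl
    · rfl
    · exact hTA.symm
    · exact hTA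
    · rfl
  · intro x hx t ht
    have hxA : A * x = x * A := hx A (Set.mem_insert _ _)
    have hxT : T * x = x * T := hx T (Set.mem_insert_of_mem _ rfl)
    rcases ht with rfl | rfl
    · have h3 : A' * x = x * A' := by
        calc A' * x = A' * x * (t * A') := by rw [hAA', mul_one]
          _ = A' * (x * t) * A' := by simp only [mul_assoc]
          _ = A' * (t * x) * A' := by rw [hxA]
          _ = (A' * t) * x * A' := by simp only [mul_assoc]
          _ = x * A' := by rw [hA'A, one_mul]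
      have h4 := congrArg (tw hK P P') h3
      rw [hmul A' x, hmul x A', htwA'] at h4
      exact h4.symm
    · have h3 : T' * x = x * T' := by
        calc T' * x = T' * x * (T * T') := by rw [hTT', mul_one]
          _ = T' * (x * T) * T' := by simp only [mul_assoc]
          _ = T' * (T * x) * T' := by rw [hxT]
          _ = (T' * T) * x * T' := by simp only [mul_assoc]
          _ = x * T' := by rw [hT'T, one_mul]
      have h4 := congrArg (tw hK P P') h3
      rw [hmul T' x, hmul x T', htwT'] at h4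
      exact h4.symm

theorem exists_hermitian (hK : Fintype.card K = q ^ 2) (A A' P P' : Matrix (Fin n) (Fin n) K)
    (hAA' : A * A' = 1) (hPP' : P * P' = 1) (hPA : ct hK A * P * A = P) :
    ∃ H : Matrix (Fin n) (Fin n) K, IsUnit H ∧ ct hK H = H ∧ ct hK A * H * A = H := by
  classical
  obtain ⟨hS, htwT, hTT'⟩ := setup_tw hK A A' P P' hAA' hPP' hPA
  have hP'P : P' * P = 1 := mul_eq_one_comm.1 hPP'
  obtain ⟨θ, hθ⟩ := exists_pow_ne hK
  have htwe : tw hK P P' (θ • (1 : Matrix (Fin n) (Fin n) K)) = ct hK (θ • (1 : Matrix (Fin n) (Fin n) K)) := by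
    unfold tw
    rw [ct_smul, ct_one, Matrix.mul_smul, Matrix.smul_mul, mul_one, hP'P]
  have hu : IsUnit (θ • (1 : Matrix (Fin n) (Fin n) K) - tw hK P P' (θ • (1 : Matrix (Fin n) (Fin n) K))) := by
    rw [htwe]; exact isUnit_scalar_sub hK θ hθ
  have hTmem : P' * ct hK P ∈ bic ({A, P' * ct hK P} : Set (Matrix (Fin n) (Fin n) K)) :=
    subset_bic _ (Set.mem_insert_of_mem _ rfl)
  have hAmem : A ∈ bic ({A, P' * ct hK P} : Set (Matrix (Fin n) (Fin n) K)) :=
    subset_bic _ (Set.mem_insert _ _)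
  obtain ⟨z, hzu, hzmem, hz⟩ := hS.h90 (θ • 1) (scalar_mem_bic θ _) hu (P' * ct hK P) hTmem
    (by rw [htwT]; exact hTT')
  have htwz : P * tw hK P P' z * P' = ct hK z := by
    unfold tw
    calc P * (P' * ct hK z * P) * P' = (P * P') * ct hK z * (P * P') := by simp only [mul_assoc]
      _ = ct hK z := by rw [hPP', one_mul, mul_one]
  have hzA : z * A = A * z := bic_comm hS.comm hzmem hAmem
  refine ⟨P * z, ?_, ?_, ?_⟩
  · exact (IsUnit.mul ⟨⟨P, P', hPP', hP'P⟩, rfl⟩ hzu)
  · rw [ct_mul, ← htwz]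
    calc P * tw hK P P' z * P' * ct hK P = P * (tw hK P P' z * (P' * ct hK P)) := by
          simp only [mul_assoc]
      _ = P * ((P' * ct hK P) * tw hK P P' z) := by
          rw [bic_comm hS.comm (hS.mem hzmem) hTmem]
      _ = P * z := by rw [hz]
  · calc ct hK A * (P * z) * A = ct hK A * P * (z * A) := by simp only [mul_assoc]
      _ = (ct hK A * P * A) * z := by rw [hzA]; simp only [mul_assoc]
      _ = P * z := by rw [hPA]



/-- An invertible matrix A over the field with q² elements is conjugate in GL_n(q²) to an element of the general unitary group GU_n(q) (isometries of the Hermitian form Σ u_i v_i^q) if and only if A is similar to the inverse transpose of its entrywise q-th power (A ~ A^(−qT), the image of A under the map sending a matrix to the inverse transpose of its entrywise q-th power — inverse transpose composed with the field automorphism — whose fixed points form GU_n(q)). -/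
theorem result {K : Type*} [Field K] [Fintype K] {q n : ℕ} (hK : Fintype.card K = q ^ 2) (A : GL (Fin n) K) : (∃ B : ↥(Cfsg.GU n K q), IsConj A (B : GL (Fin n) K)) ↔ IsConj (A : Matrix (Fin n) (Fin n) K) (((A : Matrix (Fin n) (Fin n) K).map (fun x : K => x ^ q)).transpose)⁻¹ := by
  classical
  set Am : Matrix (Fin n) (Fin n) K := (A : Matrix (Fin n) (Fin n) K) with hAm
  set A' : Matrix (Fin n) (Fin n) K := ((A⁻¹ : GL (Fin n) K) : Matrix (Fin n) (Fin n) K) with hA'
  have hAA' : Am * A' = 1 := by rw [hAm, hA']; exact Units.mul_inv A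
  have hA'A : A' * Am = 1 := mul_eq_one_comm.1 hAA'
  have hcA : ct hK Am * ct hK A' = 1 := by rw [← ct_mul, hA'A, ct_one]
  have hcA' : ct hK A' * ct hK Am = 1 := mul_eq_one_comm.1 hcA
  have hinv : ((Am.map (fun x : K => x ^ q)).transpose)⁻¹ = ct hK A' := by
    have : (Am.map (fun x : K => x ^ q)).transpose = ct hK Am := rfl
    rw [this]
    exact Matrix.inv_eq_right_inv hcA
  rw [hinv]
  constructor
  · rintro ⟨B, hB⟩
    rw [isConj_iff] at hB
    obtain ⟨X, hX⟩ := hB
    set Xm : Matrix (Fin n) (Fin n) K := (X : Matrix (Fin n) (Fin n) K) with hXm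
    set X' : Matrix (Fin n) (Fin n) K := ((X⁻¹ : GL (Fin n) K) : Matrix (Fin n) (Fin n) K) with hX'
    have hXX' : Xm * X' = 1 := Units.mul_inv X
    have hX'X : X' * Xm = 1 := Units.inv_mul X
    have hBm : ((B : GL (Fin n) K) : Matrix (Fin n) (Fin n) K) = Xm * Am * X' := by
      rw [← hX]; rfl
    have hBu := (mem_GU_iff hK (B : GL (Fin n) K)).1 B.2
    rw [hBm, ct_mul, ct_mul] at hBu
    have hcX : ct hK Xm * ct hK X' = 1 := by rw [← ct_mul, hX'X, ct_one]
    have hP : ct hK Am * (ct hK Xm * Xm) * Am = ct hK Xm * Xm := by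
      calc ct hK Am * (ct hK Xm * Xm) * Am
          = (ct hK Xm * ct hK X') * (ct hK Am * (ct hK Xm * Xm) * Am) * (X' * Xm) := by
            rw [hcX, hX'X, one_mul, mul_one]
        _ = ct hK Xm * (ct hK X' * (ct hK Am * ct hK Xm) * (Xm * Am * X')) * Xm := by
            simp only [mul_assoc]
        _ = ct hK Xm * Xm := by rw [hBu, mul_one]
    have hPu : IsUnit (ct hK Xm * Xm) := by
      refine IsUnit.mul ⟨⟨ct hK Xm, ct hK X', hcX, mul_eq_one_comm.1 hcX⟩, rfl⟩ ⟨X, rfl⟩
    obtain ⟨Pu, hPu⟩ := hPu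
    refine ⟨Pu, ?_⟩
    show (Pu : Matrix (Fin n) (Fin n) K) * Am = ct hK A' * Pu
    rw [hPu]
    calc ct hK Xm * Xm * Am = (ct hK A' * ct hK Am) * (ct hK Xm * Xm) * Am := by rw [hcA', one_mul]
      _ = ct hK A' * (ct hK Am * (ct hK Xm * Xm) * Am) := by simp only [mul_assoc]
      _ = ct hK A' * (ct hK Xm * Xm) := by rw [hP]
  · rintro ⟨Pu, hPu⟩
    have hPA : ct hK Am * (Pu : Matrix (Fin n) (Fin n) K) * Am = Pu := by
      have h1 : (Pu : Matrix (Fin n) (Fin n) K) * Am = ct hK A' * Pu := hPu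
      rw [mul_assoc, h1, ← mul_assoc, hcA, one_mul]
    obtain ⟨H, hHu, hHsym, hHA⟩ := exists_hermitian hK Am A' (Pu : Matrix (Fin n) (Fin n) K)
      ((Pu⁻¹ : (Matrix (Fin n) (Fin n) K)ˣ) : Matrix (Fin n) (Fin n) K) hAA' (Units.mul_inv Pu) hPA
    obtain ⟨X, hXu, hXH⟩ := exists_ct_mul_self hK H hHsym hHu
    obtain ⟨Xu, rfl⟩ := hXu
    set Xm : Matrix (Fin n) (Fin n) K := (Xu : Matrix (Fin n) (Fin n) K) with hXm
    set X' : Matrix (Fin n) (Fin n) K := ((Xu⁻¹ : GL (Fin n) K) : Matrix (Fin n) (Fin n) K) with hX'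
    have hXX' : Xm * X' = 1 := Units.mul_inv Xu
    have hX'X : X' * Xm = 1 := Units.inv_mul Xu
    have hcX : ct hK X' * ct hK Xm = 1 := by rw [← ct_mul, hXX', ct_one]
    have hBmem : Xu * A * Xu⁻¹ ∈ Cfsg.GU n K q := by
      rw [mem_GU_iff hK]
      show ct hK (Xm * Am * X') * (Xm * Am * X') = 1
      rw [ct_mul, ct_mul]
      calc ct hK X' * (ct hK Am * ct hK Xm) * (Xm * Am * X')
          = ct hK X' * (ct hK Am * (ct hK Xm * Xm) * Am) * X' := by simp only [mul_assoc]
        _ = ct hK X' * (ct hK Xm * Xm) * X' := by rw [hXH, hHA]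
        _ = (ct hK X' * ct hK Xm) * (Xm * X') := by simp only [mul_assoc]
        _ = 1 := by rw [hcX, hXX', one_mul]
    refine ⟨⟨Xu * A * Xu⁻¹, hBmem⟩, ?_⟩
    rw [isConj_iff]
    exact ⟨Xu, rfl⟩


end Cfsg.Agent.S2588
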