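import Cfsg.Statements.S0804
import Mathlib
import Cfsg.Agent.Lib.Helper2.SL2A5c

set_option autoImplicit false
open Cfsg

namespace Cfsg.Agent.S0804

/-- PSL_2(q) has a subgroup isomorphic to A_5 iff 5 ∣ q(q² − 1). -/
theorem result {F : Type*} [Field F] [Fintype F] {q : ℕ} (hF : Fintype.card F = q) : (∃ H : Subgroup (Matrix.ProjectiveSpecialLinearGroup (Fin 2) F), Nonempty (H ≃* alternatingGroup (Fin 5))) ↔ 5 ∣ q * (q ^ 2 - 1) := by
  classical
  subst hF
  constructor
  · rintro ⟨H, ⟨e⟩⟩
    have h60 : Nat.card H = 60 := by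
      rw [Nat.card_congr e.toEquiv, Nat.card_eq_fintype_card]
      have h2 := two_mul_card_alternatingGroup (α := Fin 5)
      rw [Fintype.card_perm, Fintype.card_fin] at h2
      have : (5 : ℕ).factorial = 120 := by decide
      omega
    have h1 := Subgroup.card_subgroup_dvd_card H
    have h2 := Subgroup.card_mul_index
      (Subgroup.center (Matrix.SpecialLinearGroup (Fin 2) F))
    have h3 : (Subgroup.center (Matrix.SpecialLinearGroup (Fin 2) F)).index =
      Nat.card (Matrix.ProjectiveSpecialLinearGroup (Fin 2) F) := rfl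
    rw [h3, Cfsg.Agent.Lib.Helper1.card_SL2] at h2
    rw [← h2]
    rw [h60] at h1
    exact ((Dvd.intro 12 rfl : 5 ∣ 60).trans h1).mul_left _
  · intro h5
    rcases Nat.even_or_odd (Fintype.card F) with hev | hodd
    · exact Cfsg.Agent.Lib.Helper2.SL2A5.exists_A5_even hev h5
    · exact Cfsg.Agent.Lib.Helper2.SL2A5.exists_A5_odd hodd h5

end Cfsg.Agent.S0804
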