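import Mathlib
-- Template for statement S1013 (row 1013; see /opt/grader/pristine/manifest.json for weights).
-- Copy to Cfsg/Agent/S1013.lean and replace the sorry. The statement below is byte-identical to the frozen
-- statement Cfsg.CfsgFrozen.S1013 (Cfsg/Statements/S1013.lean; the theorem Cfsg.simple_of_transitive_prime_degree_sylow_normalizer_prime_index);
-- the grader kernel-checks Cfsg.Agent.S1013.result against that frozen type. Keep the theorem IN THIS FILE
-- (a `result` declared elsewhere and merely imported here is not credited); helpers may live anywhere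
-- under Cfsg/Agent/.
import Cfsg.Statements.S1013
import Cfsg.Agent.Lib.Helper1.SylowSimple

set_option autoImplicit false
open Cfsg
open Subgroup

namespace Cfsg.Agent.S1013

/-- Let G be a transitive permutation group of prime degree p having more than one Sylow p-subgroup, and suppose a Sylow p-subgroup P has prime index in its normalizer. Then G is simple. -/
theorem result {α : Type*} [Fintype α] [DecidableEq α] {p : ℕ} [Fact p.Prime] (hα : Fintype.card α = p) (G : Subgroup (Equiv.Perm α)) [MulAction.IsPretransitive ↥G α] (P : Sylow p ↥G) (hn : 1 < Nat.card (Sylow p ↥G)) (ht : (((P : Subgroup ↥G).subgroupOf (Subgroup.normalizer ((P : Subgroup ↥G) : Set ↥G))).index).Prime) : IsSimpleGroup ↥G := by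
  have hp : p.Prime := Fact.out
  have hcα : Nat.card α = p := by rw [Nat.card_eq_fintype_card, hα]
  have hne : Nonempty α := by
    rw [← Fintype.card_pos_iff, hα]; exact hp.pos
  obtain ⟨a⟩ := hne
  -- transitive subgroups have order divisible by p
  have hdvd_of_trans : ∀ (N : Subgroup ↥G), MulAction.IsPretransitive ↥N α → p ∣ Nat.card N := by
    intro N hN
    have h1 : (MulAction.stabilizer (↥N) a).index = Nat.card α :=
      MulAction.index_stabilizer_of_transitive (G := ↥N) (x := a)
    rw [hcα] at h1
    rw [← h1]
    exact Subgroup.index_dvd_card _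
  have hprim : MulAction.IsPreprimitive ↥G α :=
    MulAction.IsPreprimitive.of_prime_card (by rw [hcα]; exact hp)
  have hpG : p ∣ Nat.card ↥G := by
    have h1 : (MulAction.stabilizer (↥G) a).index = Nat.card α :=
      MulAction.index_stabilizer_of_transitive (G := ↥G) (x := a)
    rw [hcα] at h1
    rw [← h1]
    exact Subgroup.index_dvd_card _
  have hGfact : Nat.card ↥G ∣ p.factorial := by
    have := Subgroup.card_subgroup_dvd_card G
    rwa [Nat.card_eq_fintype_card (α := Equiv.Perm α), Fintype.card_perm, hα] at this
  have hp2 : ¬ p ^ 2 ∣ Nat.card ↥G := by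
    intro h2
    have h3 : p ^ 2 ∣ p.factorial := h2.trans hGfact
    have hp1 : p = (p - 1) + 1 := by have := hp.pos; omega
    rw [hp1, Nat.factorial_succ, ← hp1, pow_two] at h3
    have h4 : p ∣ (p - 1).factorial := Nat.dvd_of_mul_dvd_mul_left hp.pos h3
    have := (hp.dvd_factorial).mp h4
    have := hp.pos
    omega
  have hPcard : Nat.card (P : Subgroup ↥G) = p := by
    obtain ⟨k, hk⟩ := IsPGroup.iff_card.mp P.2
    have hk' : p ^ k ∣ Nat.card ↥G := hk ▸ Subgroup.card_subgroup_dvd_card (P : Subgroup ↥G)
    have hk2 : k < 2 := by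
      by_contra hcon
      push Not at hcon
      exact hp2 ((pow_dvd_pow p hcon).trans hk')
    have hk0 : k ≠ 0 := by
      rintro rfl
      have hb : (P : Subgroup ↥G) = ⊥ := Subgroup.card_eq_one.mp (by rw [hk, pow_zero])
      exact P.ne_bot_of_dvd_card hpG hb
    have : k = 1 := by omega
    rw [hk, this, pow_one]
  have hNcard : Nat.card (normalizer ((P : Subgroup ↥G) : Set ↥G)) =
      p * ((P : Subgroup ↥G).subgroupOf (normalizer ((P : Subgroup ↥G) : Set ↥G))).index := by
    have h1 := Subgroup.card_mul_index
      ((P : Subgroup ↥G).subgroupOf (normalizer ((P : Subgroup ↥G) : Set ↥G)))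
    have h3 : Nat.card ((P : Subgroup ↥G).subgroupOf (normalizer ((P : Subgroup ↥G) : Set ↥G))) =
        Nat.card (P : Subgroup ↥G) :=
      Nat.card_congr (Subgroup.subgroupOfEquivOfLe le_normalizer).toEquiv
    rw [h3, hPcard] at h1
    exact h1.symm
  have hGne : Nat.card ↥G ≠
      p * ((P : Subgroup ↥G).subgroupOf (normalizer ((P : Subgroup ↥G) : Set ↥G))).index := by
    intro heq
    have htop : normalizer ((P : Subgroup ↥G) : Set ↥G) = ⊤ := by
      apply Subgroup.eq_top_of_card_eq
      rw [hNcard, heq]
    have hnorm : (P : Subgroup ↥G).Normal := Subgroup.normalizer_eq_top_iff.mp htop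
    have := Sylow.unique_of_normal P hnorm
    have : Nat.card (Sylow p ↥G) = 1 := Nat.card_unique
    omega
  have hnt : Nontrivial ↥G := by
    rw [← Finite.one_lt_card_iff_nontrivial]
    have := Nat.le_of_dvd Nat.card_pos hpG
    have := hp.two_le
    omega
  apply Cfsg.Agent.Lib.Helper1.SylowSimple.isSimpleGroup_of_sylow P hPcard ht hNcard hGne
  intro N hNn hNbot
  apply hdvd_of_trans
  have hq : MulAction.IsQuasiPreprimitive ↥G α := inferInstance
  apply hq.isPretransitive_of_normal
  intro hfix
  apply hNbot
  rw [Subgroup.eq_bot_iff_forall]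
  intro n hn
  apply Subtype.ext
  apply Equiv.Perm.ext
  intro x
  have hx : x ∈ MulAction.fixedPoints (↥N) α := by rw [hfix]; exact Set.mem_univ x
  have := hx ⟨n, hn⟩
  exact this

end Cfsg.Agent.S1013
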