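import Mathlib
import Cfsg.Statements.S2616
import Cfsg.Agent.Lib.Helper5.QuadFin

set_option autoImplicit false
open Cfsg

namespace Cfsg.Agent.S2616

open Module QuadraticMap Cfsg.Agent.Lib.Helper5

theorem result {F V : Type*} [Field F] [Finite F] [AddCommGroup V] [Module F V] [FiniteDimensional F V] {m : ℕ} (hm : 1 ≤ m) (hV : Module.finrank F V = 2 * m) (Q : QuadraticForm F V) (hQ : (QuadraticMap.polarBilin Q).Nondegenerate) : (∃ b : Module.Basis (Fin m ⊕ Fin m) F V, (∀ i, Q (b (Sum.inl i)) = 0 ∧ Q (b (Sum.inr i)) = 0) ∧ (∀ i j, QuadraticMap.polar ⇑Q (b (Sum.inl i)) (b (Sum.inr j)) = if i = j then 1 else 0) ∧ (∀ i j, QuadraticMap.polar ⇑Q (b (Sum.inl i)) (b (Sum.inl j)) = 0 ∧ QuadraticMap.polar ⇑Q (b (Sum.inr i)) (b (Sum.inr j)) = 0)) ∨ (∃ (b : Module.Basis ((Fin (m - 1) ⊕ Fin (m - 1)) ⊕ Fin 2) F V) (ζ : F), (∀ t : F, t ^ 2 + t + ζ ≠ 0) ∧ (∀ i, Q (b (Sum.inl (Sum.inl i))) = 0 ∧ Q (b (Sum.inl (Sum.inr i)))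 = 0) ∧ (∀ i j, QuadraticMap.polar ⇑Q (b (Sum.inl (Sum.inl i))) (b (Sum.inl (Sum.inr j))) = if i = j then 1 else 0) ∧ (∀ i j, QuadraticMap.polar ⇑Q (b (Sum.inl (Sum.inl i))) (b (Sum.inl (Sum.inl j))) = 0 ∧ QuadraticMap.polar ⇑Q (b (Sum.inl (Sum.inr i))) (b (Sum.inl (Sum.inr j))) = 0) ∧ (∀ i (k : Fin 2), QuadraticMap.polar ⇑Q (b (Sum.inl (Sum.inl i))) (b (Sum.inr k)) = 0 ∧ QuadraticMap.polar ⇑Q (b (Sum.inl (Sum.inr i))) (b (Sum.inr k)) = 0) ∧ Q (b (Sum.inr 0)) = 1 ∧ QuadraticMap.polar ⇑Q (b (Sum.inr 0)) (b (Sum.inr 1)) = 1 ∧ Q (b (Sum.inr 1)) = ζ) := by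
  classical
  obtain ⟨k, e, f, W, hH, hmem, hdim, hW2, haniso⟩ := exists_witt Q hQ
  have hcases : finrank F W = 0 ∨ finrank F W = 2 := by omega
  rcases hcases with hW0 | hW2'
  · left
    obtain rfl : k = m := by omega
    have hli := hH.linearIndependent' Q
    have hcard : Fintype.card (Fin k ⊕ Fin k) = finrank F V := by
      rw [hV]; simp; ring
    let b : Basis (Fin k ⊕ Fin k) F V := basisOfLinearIndependentOfCardEqFinrank' _ hli hcard
    have hb1 : ∀ i, b (Sum.inl i) = e i := by intro i; simp [b]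
    have hb2 : ∀ i, b (Sum.inr i) = f i := by intro i; simp [b]
    refine ⟨b, ?_, ?_, ?_⟩
    · intro i; rw [hb1, hb2]; exact ⟨hH.qe i, hH.qf i⟩
    · intro i j; rw [hb1, hb2]; exact hH.ef i j
    · intro i j; rw [hb1, hb1, hb2, hb2]; exact ⟨hH.ee i j, hH.ff i j⟩
  · right
    obtain rfl : k = m - 1 := by omega
    have hnd : ∀ x ∈ W, x ≠ 0 → ∃ y ∈ W, polar Q x y ≠ 0 := by
      intro x hx hx0
      obtain ⟨y, hy, hxy⟩ := hH.exists_polar_ne_zero Q hQ x ((hmem x).1 hx) hx0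
      exact ⟨y, (hmem y).2 hy, hxy⟩
    obtain ⟨x, y, hxW, hyW, hQx, hxy, hlixy⟩ := exists_elliptic_pair Q W hW2' haniso hnd
    have hze : ∀ (l : Fin 2) i, polar Q (![x, y] l) (e i) = 0 := by
      intro l i
      rw [polar_comm]
      fin_cases l
      · exact ((hmem x).1 hxW i).1
      · exact ((hmem y).1 hyW i).1
    have hzf : ∀ (l : Fin 2) i, polar Q (![x, y] l) (f i) = 0 := by
      intro l i
      rw [polar_comm]
      fin_cases l
      · exact ((hmem x).1 hxW i).2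
      · exact ((hmem y).1 hyW i).2
    have hli := hH.linearIndependent Q ![x, y] hlixy hze hzf
    have hcard : Fintype.card ((Fin (m - 1) ⊕ Fin (m - 1)) ⊕ Fin 2) = finrank F V := by
      rw [hV]; simp; omega
    let b : Basis ((Fin (m - 1) ⊕ Fin (m - 1)) ⊕ Fin 2) F V :=
      basisOfLinearIndependentOfCardEqFinrank hli hcard
    have hb1 : ∀ i, b (Sum.inl (Sum.inl i)) = e i := by intro i; simp [b]
    have hb2 : ∀ i, b (Sum.inl (Sum.inr i)) = f i := by intro i; simp [b]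
    have hb3 : b (Sum.inr 0) = x := by simp [b]
    have hb4 : b (Sum.inr 1) = y := by simp [b]
    have hb34 : ∀ l : Fin 2, b (Sum.inr l) = ![x, y] l := by intro l; simp [b]
    refine ⟨b, Q y, ?_, ?_, ?_, ?_, ?_, ?_, ?_, ?_⟩
    · intro t ht
      have h1 : Q (t • x + (1 : F) • y) = 0 := by
        rw [map_lin2, hQx, hxy]
        linear_combination ht
      have h2 : t • x + (1 : F) • y ∈ W := W.add_mem (W.smul_mem _ hxW) (W.smul_mem _ hyW)
      have h3 := haniso _ h2 h1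
      rw [LinearIndependent.pair_iff] at hlixy
      exact one_ne_zero (hlixy t 1 h3).2
    · intro i; rw [hb1, hb2]; exact ⟨hH.qe i, hH.qf i⟩
    · intro i j; rw [hb1, hb2]; exact hH.ef i j
    · intro i j; rw [hb1, hb1, hb2, hb2]; exact ⟨hH.ee i j, hH.ff i j⟩
    · intro i l
      rw [hb1, hb2, hb34]
      constructor
      · rw [polar_comm]; exact hze l i
      · rw [polar_comm]; exact hzf l i
    · rw [hb3]; exact hQx
    · rw [hb3, hb4]; exact hxy
    · rw [hb4]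

end Cfsg.Agent.S2616
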