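import Mathlib
import Cfsg.Statements.S1691

set_option autoImplicit false
open Cfsg

namespace Cfsg.Agent.S1691

open Cfsg.Spor

abbrev Rels : Set (FreeGroup Fi24.Gen) := coxRelators Fi24.edges ∪ {r | r ∈ Fi24.extra}

/-- the map to `ZMod 2` sending every generator to `1` -/
noncomputable def sgnFree : FreeGroup Fi24.Gen →* Multiplicative (ZMod 2) :=
  FreeGroup.lift (fun _ => Multiplicative.ofAdd (1 : ZMod 2))

theorem sgnFree_of (x : Fi24.Gen) : sgnFree (FreeGroup.of x) = Multiplicative.ofAdd (1 : ZMod 2) := by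
  simp [sgnFree]

theorem t_sq : (Multiplicative.ofAdd (1 : ZMod 2)) * (Multiplicative.ofAdd (1 : ZMod 2)) = 1 := by
  decide

theorem t_pow_even (n : ℕ) : (Multiplicative.ofAdd (1 : ZMod 2)) ^ (2 * n) = 1 := by
  rw [pow_mul, pow_two, t_sq, one_pow]

theorem sgnFree_rel : ∀ r ∈ Rels, sgnFree r = 1 := by
  intro r hr
  rcases hr with hr | hr
  · obtain ⟨x, _, y, _, rfl⟩ := hr
    rw [map_pow, map_mul, sgnFree_of, sgnFree_of, t_sq, one_pow]
  · have hr' : r ∈ Fi24.extra := hr
    simp only [Fi24.extra, List.mem_cons, List.mem_nil_iff, or_false] at hr'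
    rcases hr' with rfl | rfl
    · simp only [map_mul, map_inv, map_pow, sgnFree_of]
      decide
    · simp only [map_mul, map_pow, sgnFree_of]
      decide

theorem sgnFree_rel' : ∀ r ∈ Rels,
    FreeGroup.lift (fun _ : Fi24.Gen => Multiplicative.ofAdd (1 : ZMod 2)) r = 1 := sgnFree_rel

noncomputable def sgn : Fi24 →* Multiplicative (ZMod 2) :=
  PresentedGroup.toGroup (f := fun _ => Multiplicative.ofAdd (1 : ZMod 2)) sgnFree_rel'

theorem sgn_of (x : Fi24.Gen) : sgn (PresentedGroup.of x) = Multiplicative.ofAdd (1 : ZMod 2) := by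
  unfold sgn
  exact PresentedGroup.toGroup.of sgnFree_rel'

/-- generator of the presented group -/
noncomputable def gen (x : Fi24.Gen) : Fi24 := PresentedGroup.of x

theorem cox_rel (x y : Fi24.Gen) (hx : x ∈ coxNodes Fi24.edges) (hy : y ∈ coxNodes Fi24.edges) :
    (gen x * gen y) ^ coxLabel Fi24.edges x y = 1 := by
  have h : (FreeGroup.of x * FreeGroup.of y) ^ coxLabel Fi24.edges x y ∈ Rels :=
    Or.inl ⟨x, hx, y, hy, rfl⟩
  have := PresentedGroup.one_of_mem h
  simpa [gen, PresentedGroup.of] using this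

theorem all_nodes (x : Fi24.Gen) : x ∈ coxNodes Fi24.edges := by
  cases x <;> decide

theorem gen_sq (x : Fi24.Gen) : gen x * gen x = 1 := by
  have := cox_rel x x (all_nodes x) (all_nodes x)
  have h1 : coxLabel Fi24.edges x x = 1 := by simp [coxLabel]
  rw [h1, pow_one] at this
  exact this

/-- images in the abelianization -/
noncomputable def ab (x : Fi24.Gen) : Abelianization Fi24 := Abelianization.of (gen x)

theorem ab_sq (x : Fi24.Gen) : ab x * ab x = 1 := by
  unfold ab
  rw [← map_mul, gen_sq, map_one]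

theorem ab_edge (x y : Fi24.Gen) (h : coxLabel Fi24.edges x y = 3) : ab x = ab y := by
  have h1 := cox_rel x y (all_nodes x) (all_nodes y)
  rw [h] at h1
  have h2 : (ab x * ab y) ^ 3 = 1 := by
    unfold ab
    rw [← map_mul, ← map_pow, h1, map_one]
  have h3 : (ab x * ab y) ^ 3 = (ab x * ab x) * (ab y * ab y) * (ab x * ab y) := by
    rw [pow_succ, pow_two]
    simp only [mul_comm, mul_left_comm, mul_assoc]
  rw [h3, ab_sq, ab_sq, one_mul, one_mul] at h2
  calc ab x = ab x * (ab y * ab y) := by rw [ab_sq, mul_one]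
    _ = (ab x * ab y) * ab y := by rw [mul_assoc]
    _ = ab y := by rw [h2, one_mul]

theorem ab_all (x : Fi24.Gen) : ab x = ab Fi24.Gen.d := by
  have hc : ab Fi24.Gen.c = ab Fi24.Gen.d := ab_edge _ _ (by decide)
  have hb : ab Fi24.Gen.b = ab Fi24.Gen.d := (ab_edge _ _ (by decide)).trans hc
  have ha : ab Fi24.Gen.a = ab Fi24.Gen.d := (ab_edge _ _ (by decide)).trans hb
  have hk : ab Fi24.Gen.k = ab Fi24.Gen.d := (ab_edge _ _ (by decide)).trans ha
  have hl : ab Fi24.Gen.l = ab Fi24.Gen.d := (ab_edge _ _ (by decide)).trans hk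
  have he : ab Fi24.Gen.e = ab Fi24.Gen.d := (ab_edge _ _ (by decide))
  have hf : ab Fi24.Gen.f = ab Fi24.Gen.d := (ab_edge _ _ (by decide)).trans he
  have hg : ab Fi24.Gen.g = ab Fi24.Gen.d := (ab_edge _ _ (by decide)).trans hf
  have hj : ab Fi24.Gen.j = ab Fi24.Gen.d := (ab_edge _ _ (by decide)).trans hg
  have hh : ab Fi24.Gen.h = ab Fi24.Gen.d := (ab_edge _ _ (by decide))
  have hi : ab Fi24.Gen.i = ab Fi24.Gen.d := (ab_edge _ _ (by decide)).trans hh
  cases x <;> first | assumption | rfl

theorem ab_top : Subgroup.zpowers (ab Fi24.Gen.d) = ⊤ := by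
  rw [eq_top_iff]
  intro y _
  obtain ⟨g, rfl⟩ := QuotientGroup.mk_surjective y
  have hg : g ∈ (Subgroup.zpowers (ab Fi24.Gen.d)).comap (Abelianization.of (G := Fi24)) := by
    have h1 : Subgroup.closure (Set.range (PresentedGroup.of (rels := Rels))) ≤
        (Subgroup.zpowers (ab Fi24.Gen.d)).comap (Abelianization.of (G := Fi24)) := by
      rw [Subgroup.closure_le]
      rintro _ ⟨x, rfl⟩
      change Abelianization.of (gen x) ∈ Subgroup.zpowers (ab Fi24.Gen.d)
      have := ab_all x
      unfold ab at this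
      rw [this]
      exact Subgroup.mem_zpowers _
    apply h1
    rw [PresentedGroup.closure_range_of]
    exact Subgroup.mem_top g
  exact hg

theorem ab_ne_one : ab Fi24.Gen.d ≠ 1 := by
  intro h
  have h1 : Abelianization.lift sgn (ab Fi24.Gen.d) = 1 := by rw [h, map_one]
  unfold ab gen at h1
  rw [Abelianization.lift_apply_of, sgn_of] at h1
  revert h1
  decide

/-- The commutator subgroup of the presented group Fi₂₄ has index 2 (the presented group is Fi₂₄′:2 with Fi₂₄′ its derived subgroup). -/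
theorem result : (commutator Cfsg.Spor.Fi24).index = 2 := by
  have h1 : (commutator Fi24).index = Nat.card (Abelianization Fi24) := Subgroup.index_eq_card _
  rw [h1]
  have h2 : Nat.card (Abelianization Fi24) = Nat.card (⊤ : Subgroup (Abelianization Fi24)) :=
    (Subgroup.card_top).symm
  rw [h2, ← ab_top, Nat.card_zpowers]
  haveI : Fact (Nat.Prime 2) := ⟨Nat.prime_two⟩
  apply orderOf_eq_prime
  · rw [pow_two]; exact ab_sq _
  · exact ab_ne_one

end Cfsg.Agent.S1691
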