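import Cfsg.Agent.Lib.Helper6.Spor.Fi24H0
import Cfsg.Agent.S1691
import Cfsg.Statements.S1698

set_option autoImplicit false
open Cfsg

namespace Cfsg.Agent.S1698

open Cfsg.Spor Cfsg.Agent.Lib.Helper6.TC
open Cfsg.Agent.Lib.Helper6.TCP.Fi24 Cfsg.Agent.Lib.Helper6.TCD.Fi24a
open Cfsg.Agent.Lib.Helper6.Fi24Theta Cfsg.Agent.Lib.Helper6.Fi24Orb Cfsg.Agent.Lib.Helper6.Fi24H0
open Cfsg.Agent.Lib.Helper6.IdxTwo Cfsg.Agent.Lib.Helper6.Rank3Reg

section helpers
set_option maxRecDepth 100000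

theorem AB_eq : X (iota .a) * L * (X (iota .b) * L) = X Fi24.Gen.a * X Fi24.Gen.b := by
  rw [mul_assoc, ← mul_assoc L, L_comm .b, mul_assoc, L_sq, mul_one]
  rfl

theorem word_klk : PresentedGroup.mk Rels (wordElt gc [1, 0, 1]) =
    X Fi24.Gen.k * L * X Fi24.Gen.k := by
  simp only [wordElt_cons, wordElt_nil, mul_one, map_mul, mul_assoc]
  rfl

theorem word_kabk : PresentedGroup.mk Rels (wordElt gc [1, 2, 0, 3, 0, 1]) =
    X Fi24.Gen.k * (X (iota .a) * L * (X (iota .b) * L)) * X Fi24.Gen.k := by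
  simp only [wordElt_cons, wordElt_nil, mul_one, map_mul, mul_assoc]
  rfl

/-- no nontrivial normal subgroup lies in the subgroup `Cfsg.Agent.Lib.Helper6.Fi24Orb.H0` -/
theorem hcore : ∀ N : Subgroup Fi24, N.Normal → N ≤ Cfsg.Agent.Lib.Helper6.Fi24Orb.H0 → N = ⊥ := by
  intro N hN hle
  rcases normal_cases S1 Cfsg.Agent.Lib.Helper6.Fi24Orb.H0 N L hnc S1_le hle L_central L_sq hdec
    (fun h _ k hk => hN.conj_mem k hk h) with h | h | h
  · exact h
  · exfalso
    have h1 : X Fi24.Gen.k * L * (X Fi24.Gen.k)⁻¹ ∈ N := hN.conj_mem L h (X Fi24.Gen.k)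
    rw [X_inv, ← word_klk] at h1
    exact hm_klk (fix_of_mem (by decide) (hle h1))
  · exfalso
    have h0 : X (iota .a) * L * (X (iota .b) * L) ∈ N :=
      h (S1.mul_mem (theta_mem .a) (theta_mem .b))
    have h1 := hN.conj_mem _ h0 (X Fi24.Gen.k)
    rw [X_inv, ← word_kabk] at h1
    exact hm_kabk (fix_of_mem (by decide) (hle h1))

variable {Q : Type*} [Group Q] (π : Fi24 →* Q)

theorem pi_sq (x : Fi24.Gen) : π (X x) * π (X x) = 1 := by
  rw [← map_mul, X_sq, map_one]

theorem step3 (x y z : Fi24.Gen) (hxy : π (X x) = π (X y))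
    (hxz : coxLabel Fi24.edges x z = 3) (hyz : coxLabel Fi24.edges y z = 2) :
    π (X z) = π (X x) := by
  have h3 : (π (X x) * π (X z)) ^ 3 = 1 := by
    rw [← map_mul, ← map_pow, ← hxz, X_rel, map_one]
  have h2 : (π (X x) * π (X z)) ^ 2 = 1 := by
    rw [hxy, ← map_mul, ← map_pow, ← hyz, X_rel, map_one]
  have h1 : π (X x) * π (X z) = 1 := by
    have : (π (X x) * π (X z)) ^ 3 = (π (X x) * π (X z)) ^ 2 * (π (X x) * π (X z)) := pow_succ _ 2
    rw [h3, h2, one_mul] at this
    exact this.symm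
  have h4 := eq_inv_of_mul_eq_one_right h1
  rw [h4]
  exact (eq_inv_of_mul_eq_one_left (pi_sq π x)).symm

theorem step1 (x z : Fi24.Gen) (hx : π (X x) = 1) (hxz : coxLabel Fi24.edges x z = 3) :
    π (X z) = 1 := by
  have h3 : (π (X x) * π (X z)) ^ 3 = 1 := by
    rw [← map_mul, ← map_pow, ← hxz, X_rel, map_one]
  rw [hx, one_mul] at h3
  have h2 : π (X z) ^ 2 = 1 := by rw [pow_two]; exact pi_sq π z
  have : π (X z) ^ 3 = π (X z) ^ 2 * π (X z) := pow_succ _ 2
  rw [h3, h2, one_mul] at this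
  exact this.symm

theorem all_eq (h : π (X Fi24.Gen.a) = π (X Fi24.Gen.b)) (x : Fi24.Gen) :
    π (X x) = π (X Fi24.Gen.a) := by
  have hk : π (X .k) = π (X .a) := step3 π .a .b .k h (by decide) (by decide)
  have hc : π (X .c) = π (X .b) := step3 π .b .a .c h.symm (by decide) (by decide)
  have hl : π (X .l) = π (X .k) := step3 π .k .a .l hk (by decide) (by decide)
  have hd : π (X .d) = π (X .c) := step3 π .c .b .d hc (by decide) (by decide)
  have he : π (X .e) = π (X .d) := step3 π .d .c .e hd (by decide) (by decide)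
  have hh : π (X .h) = π (X .d) := step3 π .d .c .h hd (by decide) (by decide)
  have hf : π (X .f) = π (X .e) := step3 π .e .d .f he (by decide) (by decide)
  have hi : π (X .i) = π (X .h) := step3 π .h .d .i hh (by decide) (by decide)
  have hg : π (X .g) = π (X .f) := step3 π .f .e .g hf (by decide) (by decide)
  have hj : π (X .j) = π (X .g) := step3 π .g .f .j hg (by decide) (by decide)
  cases x
  · rw [hl, hk]
  · exact hk
  · rfl
  · exact h.symm
  · rw [hc, h]
  · rw [hd, hc, h]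
  · rw [he, hd, hc, h]
  · rw [hf, he, hd, hc, h]
  · rw [hg, hf, he, hd, hc, h]
  · rw [hj, hg, hf, he, hd, hc, h]
  · rw [hh, hd, hc, h]
  · rw [hi, hh, hd, hc, h]

/-- a homomorphism identifying `a` and `b` has a cyclic image, so kills the commutator subgroup -/
theorem comm_le_ker (h : π (X Fi24.Gen.a) = π (X Fi24.Gen.b)) : commutator Fi24 ≤ π.ker := by
  have hall : ∀ g : Fi24, π g ∈ Subgroup.zpowers (π (X Fi24.Gen.a)) := by
    intro g
    have h1 : Subgroup.closure (Set.range (PresentedGroup.of (rels := Rels))) ≤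
        (Subgroup.zpowers (π (X Fi24.Gen.a))).comap π := by
      rw [Subgroup.closure_le]
      rintro _ ⟨x, rfl⟩
      show π (X x) ∈ Subgroup.zpowers (π (X Fi24.Gen.a))
      rw [all_eq π h x]
      exact Subgroup.mem_zpowers _
    have h2 : g ∈ Subgroup.closure (Set.range (PresentedGroup.of (rels := Rels))) := by
      rw [PresentedGroup.closure_range_of]
      exact Subgroup.mem_top g
    exact h1 h2
  rw [commutator_def, Subgroup.commutator_le]
  intro g₁ _ g₂ _
  rw [MonoidHom.mem_ker, map_commutatorElement]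
  obtain ⟨n₁, hn₁⟩ := Subgroup.mem_zpowers_iff.mp (hall g₁)
  obtain ⟨n₂, hn₂⟩ := Subgroup.mem_zpowers_iff.mp (hall g₂)
  rw [← hn₁, ← hn₂, commutatorElement_eq_one_iff_commute]
  exact (Commute.refl _).zpow_zpow n₁ n₂

/-- every nontrivial normal subgroup contains the commutator subgroup -/
theorem hmin : ∀ K : Subgroup Fi24, K.Normal → K ≠ ⊥ → commutator Fi24 ≤ K := by
  intro N hN hbot
  obtain ⟨φ, hw, hfixH, htrans, hidx, q₁, q₂, h1, h2⟩ := rep
  have := card_Fi24.1
  have hnle : ¬ N ≤ Cfsg.Agent.Lib.Helper6.Fi24Orb.H0 := fun h => hbot (hcore N hN h)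
  have hsup : Cfsg.Agent.Lib.Helper6.Fi24Orb.H0 ⊔ N = ⊤ := by
    rcases hmax (Cfsg.Agent.Lib.Helper6.Fi24Orb.H0 ⊔ N) le_sup_left with h | h
    · exact absurd (h ▸ le_sup_right) hnle
    · exact h
  haveI : Fact (Nat.Prime 2) := ⟨by norm_num⟩
  haveI : Fact (Nat.Prime 3) := ⟨by norm_num⟩
  haveI : Fact (Nat.Prime 7) := ⟨by norm_num⟩
  have hne := inf_ne_bot_of_rank3 Cfsg.Agent.Lib.Helper6.Fi24Orb.H0 N hidx q₁ q₂ h1 h2 (by norm_num) (by norm_num) (by norm_num)
    (by norm_num) hsup (p₁ := 2) (p₂ := 3) (p₃ := 7) (by norm_num) (by norm_num) (by norm_num)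
    (by norm_num) (by norm_num) (by norm_num)
  have hker : (QuotientGroup.mk' N).ker = N := QuotientGroup.ker_mk' N
  rcases normal_cases S1 Cfsg.Agent.Lib.Helper6.Fi24Orb.H0 (N ⊓ Cfsg.Agent.Lib.Helper6.Fi24Orb.H0) L hnc S1_le inf_le_right L_central L_sq hdec
    (fun h hh k hk => ⟨hN.conj_mem k hk.1 h, Cfsg.Agent.Lib.Helper6.Fi24Orb.H0.mul_mem (Cfsg.Agent.Lib.Helper6.Fi24Orb.H0.mul_mem hh hk.2) (Cfsg.Agent.Lib.Helper6.Fi24Orb.H0.inv_mem hh)⟩)
    with h | h | h
  · exact absurd h hne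
  · -- `l` lies in the normal subgroup
    have hl : QuotientGroup.mk' N L = 1 := by
      rw [← MonoidHom.mem_ker, hker]; exact h.1
    have hk := step1 (QuotientGroup.mk' N) .l .k hl (by decide)
    have ha := step1 (QuotientGroup.mk' N) .k .a hk (by decide)
    have hb := step1 (QuotientGroup.mk' N) .a .b ha (by decide)
    have := comm_le_ker (QuotientGroup.mk' N) (ha.trans hb.symm)
    rwa [hker] at this
  · -- the image of Fi23 lies in the normal subgroup
    have h0 : X (iota .a) * L * (X (iota .b) * L) ∈ N :=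
      (h (S1.mul_mem (theta_mem .a) (theta_mem .b))).1
    rw [AB_eq] at h0
    have h3 : QuotientGroup.mk' N (X .a) * QuotientGroup.mk' N (X .b) = 1 := by
      rw [← map_mul, ← MonoidHom.mem_ker, hker]; exact h0
    have h4 := eq_inv_of_mul_eq_one_left h3
    have h5 : (QuotientGroup.mk' N (X .b))⁻¹ = QuotientGroup.mk' N (X .b) :=
      (eq_inv_of_mul_eq_one_left (pi_sq (QuotientGroup.mk' N) .b)).symm
    rw [h5] at h4
    have := comm_le_ker (QuotientGroup.mk' N) h4
    rwa [hker] at this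

theorem card_comm : Nat.card (commutator Fi24) = 1255205709190661721292800 := by
  have h := Subgroup.card_mul_index (commutator Fi24)
  rw [Cfsg.Agent.S1691.result, card_Fi24.2] at h
  omega

theorem hsq : ¬ IsSquare (Nat.card (commutator Fi24)) := by
  rw [card_comm]
  rintro ⟨m, hm⟩
  have hp : Nat.Prime 29 := by norm_num
  have h1 : 29 ∣ m * m := by rw [← hm]; norm_num
  have h2 : 29 ∣ m := by
    rcases hp.dvd_mul.mp h1 with h | h <;> exact h
  have h3 : 29 * 29 ∣ m * m := Nat.mul_dvd_mul h2 h2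
  rw [← hm] at h3
  norm_num at h3

end helpers

/-- The commutator subgroup of the presented Fi₂₄ (our definition of Fi₂₄′) is simple of the expected order (that is, it is a simple group of the order of the Fischer group Fi₂₄′). -/
theorem result : Cfsg.IsFi24' Cfsg.Spor.Fi24' := by
  refine ⟨?_, card_comm⟩
  have := card_Fi24.1
  have hnt : Nontrivial (commutator Fi24) := by
    rw [← Finite.one_lt_card_iff_nontrivial, card_comm]
    norm_num
  exact simple_of_index_two (commutator Fi24) Cfsg.Agent.S1691.result hmin hsq hnt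

end Cfsg.Agent.S1698
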