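import Cfsg.Statements.S1708
import Cfsg.Agent.Lib.Helper6.Spor.HNW0
import Cfsg.Agent.Lib.Helper6.Spor.HNM133
import Cfsg.Agent.Lib.Helper6.Spor.HNP2WUB
import Cfsg.Agent.Lib.Helper6.Spor.HSRep
import Cfsg.Agent.Lib.Helper6.DC3

set_option autoImplicit false
open Cfsg

namespace Cfsg.Agent.S1708

open Cfsg.Spor Cfsg.Agent.Lib.Helper6.TC Cfsg.Agent.Lib.Helper6.TCD Cfsg.Agent.Lib.Helper6.TCP
open Cfsg.Agent.Lib.Helper6.DC Cfsg.Agent.Lib.Helper6
open Cfsg.Agent.Lib.Helper1.HSG Cfsg.Agent.Lib.Helper1.HSM Cfsg.Agent.Lib.Helper1.HSI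

section helpers
set_option maxRecDepth 100000

/-- the group presented by the relators between `x`, `y`, `z` and one more relator -/
abbrev W : Type := HNP2W.G

/-- the generators of the subgroup -/
abbrev S : Set (FreeGroup HN.Gen) := {HN.x, HN.y, HN.z}

theorem hmapW : ∀ b ∈ HNP2W.base, b ∈ HN.base ∨ b = HNP2WUB.w0 := by decide +kernel

theorem hrelW : ∀ b ∈ HNP2W.base,
    PresentedGroup.mk HN.Rels (wordElt HN.gc (b.map (fun i => i))) = 1 := by
  intro b hb
  rw [List.map_id']
  rcases hmapW b hb with h | rfl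
  · exact HN.hbase b h
  · exact HNW0.w0_trivial

/-- the map into the presented group `HN` -/
noncomputable def iota : W →* PresentedGroup HN.Rels :=
  wpHom (k := 5) (rels := HN.Rels) (gc := HN.gc) (fun i => i) HNP2W.hbl hrelW

theorem iota_word (w : List ℕ) (hw : ∀ c ∈ w, c < 5) :
    iota (PresentedGroup.mk HNP2W.Rels (wordElt HNP2W.gc w)) =
      PresentedGroup.mk HN.Rels (wordElt HN.gc w) := by
  show FreeGroup.lift (fun i : Fin 5 => PresentedGroup.mk HN.Rels (ceOf HN.gc ((fun i => i) i.val)))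
    (wordElt (gcF 5) w) = _
  rw [lift_wordElt_map (fun i => i) w hw, List.map_id']

theorem hrange : iota.range = subH HN.Rels S := by
  apply le_antisymm
  · rw [MonoidHom.range_eq_map, ← PresentedGroup.closure_range_of, MonoidHom.map_closure,
      Subgroup.closure_le]
    rintro _ ⟨_, ⟨i, rfl⟩, rfl⟩
    have e : iota (PresentedGroup.of i) = PresentedGroup.mk HN.Rels (ceOf HN.gc i.val) :=
      wpHom_of (fun i => i) HNP2W.hbl hrelW i
    rw [SetLike.mem_coe, e]
    have hx : PresentedGroup.mk HN.Rels HN.x ∈ subH HN.Rels S :=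
      Subgroup.mem_map_of_mem _ (Subgroup.subset_closure (by simp [S]))
    have hy : PresentedGroup.mk HN.Rels HN.y ∈ subH HN.Rels S :=
      Subgroup.mem_map_of_mem _ (Subgroup.subset_closure (by simp [S]))
    have hz : PresentedGroup.mk HN.Rels HN.z ∈ subH HN.Rels S :=
      Subgroup.mem_map_of_mem _ (Subgroup.subset_closure (by simp [S]))
    fin_cases i
    · exact hx
    · show PresentedGroup.mk HN.Rels (HN.x⁻¹) ∈ _
      rw [map_inv]; exact Subgroup.inv_mem _ hx
    · exact hy
    · show PresentedGroup.mk HN.Rels (HN.y⁻¹) ∈ _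
      rw [map_inv]; exact Subgroup.inv_mem _ hy
    · exact hz
  · unfold subH
    rw [MonoidHom.map_closure, Subgroup.closure_le]
    rintro _ ⟨s, hs, rfl⟩
    simp only [S, Set.mem_insert_iff, Set.mem_singleton_iff] at hs
    rcases hs with rfl | rfl | rfl
    · exact ⟨PresentedGroup.mk _ (wordElt HNP2W.gc [0]), by
        rw [iota_word [0] (by decide), wordElt_cons, wordElt_nil, mul_one]; rfl⟩
    · exact ⟨PresentedGroup.mk _ (wordElt HNP2W.gc [2]), by
        rw [iota_word [2] (by decide), wordElt_cons, wordElt_nil, mul_one]; rfl⟩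
    · exact ⟨PresentedGroup.mk _ (wordElt HNP2W.gc [4]), by
        rw [iota_word [4] (by decide), wordElt_cons, wordElt_nil, mul_one]; rfl⟩

/-- the generator `x` -/
noncomputable def xW : W := PresentedGroup.mk HNP2W.Rels (wordElt HNP2W.gc [0])

theorem xx_eq : xW * xW = PresentedGroup.mk HNP2W.Rels (wordElt HNP2W.gc [0, 0]) := by
  unfold xW
  rw [← map_mul, ← wordElt_append]
  rfl

theorem xx_ne : xW * xW ≠ 1 := by
  intro h
  apply HNM133.xx_ne_one
  rw [← iota_word [0, 0] (by decide), ← xx_eq, h, map_one]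

theorem xx_chk : ∀ p < 100, wapp HS100a.px [0, 0] p = p := by decide +kernel

theorem gbar_xx : HSRep.gbar (xW * xW) = 1 := by
  rw [xx_eq, HSRep.gbar_word [0, 0] (by decide)]
  exact HSRep.prod_eq_one xx_chk

instance finW : Finite W := HNP2WUB.card_le.1

/-- the base points of the chain -/
def bs : List (Fin 100) :=
  [⟨3, by decide⟩, ⟨2, by decide⟩, ⟨1, by decide⟩, ⟨8, by decide⟩, ⟨20, by decide⟩]

theorem ker_le : HSRep.gbar.ker ≤ ptFix HSRep.phi bs := by
  intro g hg
  apply ker_le_ptFix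
  rw [MonoidHom.mem_ker, HSRep.phi_ker]
  exact hg

theorem xx_mem_ker : xW * xW ∈ HSRep.gbar.ker := gbar_xx

theorem two_le_card {G : Type*} [Group G] (H : Subgroup G) [Finite H] {a : G} (ha : a ∈ H)
    (ha1 : a ≠ 1) : 2 ≤ Nat.card H := by
  have h1 : 1 < Nat.card H := by
    rw [Finite.one_lt_card_iff_nontrivial]
    exact ⟨⟨⟨a, ha⟩, 1, fun h => ha1 (congrArg Subtype.val h)⟩⟩
  exact h1

theorem cards : Nat.card W = 177408000 ∧ Nat.card HSRep.gbar.ker = 2 := by
  have hlb : 88704000 * Nat.card (ptFix HSRep.phi bs) ≤ Nat.card W := HSRep.lb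
  have hub : Nat.card W ≤ 177408000 := HNP2WUB.card_le.2
  have h2 : 2 ≤ Nat.card HSRep.gbar.ker := two_le_card _ xx_mem_ker xx_ne
  have h3 : Nat.card HSRep.gbar.ker ≤ Nat.card (ptFix HSRep.phi bs) :=
    Subgroup.card_le_of_le ker_le
  constructor
  · nlinarith
  · nlinarith

theorem gbar_surj : Function.Surjective HSRep.gbar := by
  rw [← MonoidHom.range_eq_top]
  haveI : Finite (GA S22) := Nat.finite_of_card_ne_zero (by rw [HSRep.cardGA]; norm_num)
  rw [← Subgroup.card_eq_iff_eq_top, HSRep.cardGA]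
  have h1 : Nat.card HSRep.gbar.ker * HSRep.gbar.ker.index = Nat.card W := Subgroup.card_mul_index _
  rw [Subgroup.index_ker, cards.1, cards.2] at h1
  omega

theorem mask_chk : ∀ m < 2 ^ 5, (∀ b ∈ HNP2W.base, par (fun c => m.testBit c) b = false) →
    m.testBit 0 = false := by decide +kernel

theorem xW_mem : HSRep.gbar xW ∈ H0 := by
  have hidx : (H0.comap HSRep.gbar).index = 2 := by
    rw [Subgroup.index_comap_of_surjective H0 gbar_surj]
    exact HSRep.indexH0
  obtain ⟨m, hm, hpar, hmem⟩ := index_two_mask HNP2W.hbl (H0.comap HSRep.gbar) hidx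
  have h0 := hmem 0 (by decide) (mask_chk m hm hpar)
  have e : xW = PresentedGroup.mk HNP2W.Rels (ceOf HNP2W.gc 0) := by
    unfold xW
    rw [wordElt_cons, wordElt_nil, mul_one]
  rw [e]
  exact h0

theorem npr : ¬ (Nat.card H0).Prime := by
  rw [HSRep.cardH0]
  norm_num

theorem dhyp : DHyp HSRep.gbar H0 xW where
  hθ := gbar_surj
  hcard := by rw [cards.1, HSRep.cardGA]
  hidx := HSRep.indexH0
  hs := nonempty_HS_equiv.2.1
  hnp := npr
  hk0 := xW_mem
  hk2 := gbar_xx
  hk1 := xx_ne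

theorem iota_inj : Function.Injective iota := by
  rw [← MonoidHom.ker_eq_bot_iff]
  have hM : xW * xW ∉ iota.ker := by
    intro h
    rw [MonoidHom.mem_ker, xx_eq, iota_word [0, 0] (by decide)] at h
    exact HNM133.xx_ne_one h
  rcases dhyp.normal_trivial iota.ker hM with h | ⟨m, hm, hm1⟩
  · exact h
  · exfalso
    apply hm1
    rw [← HSRep.phi_ker]
    apply HSRep.cent_trivial
    intro g
    rw [← map_mul, ← map_mul, Subgroup.mem_center_iff.mp hm g]

/-- the map onto the subgroup -/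
noncomputable def fN : W →* subH HN.Rels S :=
  iota.codRestrict _ (by
    intro x
    rw [← hrange]
    exact ⟨x, rfl⟩)

theorem fN_bij : Function.Bijective fN := by
  constructor
  · intro a b h
    exact iota_inj (congrArg Subtype.val h)
  · rintro ⟨y, hy⟩
    rw [← hrange] at hy
    obtain ⟨x, rfl⟩ := hy
    exact ⟨x, rfl⟩

/-- the isomorphism onto the subgroup -/
noncomputable def eN : W ≃* subH HN.Rels S := MulEquiv.ofBijective fN fN_bij

instance finN : Finite (subH HN.Rels S) := Finite.of_equiv W eN.toEquiv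

theorem dhypN : DHyp (HSRep.gbar.comp eN.symm.toMonoidHom) H0 (eN xW) where
  hθ := gbar_surj.comp eN.symm.surjective
  hcard := by rw [← Nat.card_congr eN.toEquiv, cards.1, HSRep.cardGA]
  hidx := HSRep.indexH0
  hs := nonempty_HS_equiv.2.1
  hnp := npr
  hk0 := by
    show HSRep.gbar (eN.symm (eN xW)) ∈ H0
    rw [MulEquiv.symm_apply_apply]
    exact xW_mem
  hk2 := by
    show HSRep.gbar (eN.symm (eN xW * eN xW)) = 1
    rw [← map_mul, MulEquiv.symm_apply_apply]
    exact gbar_xx
  hk1 := by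
    intro h
    rw [← map_mul] at h
    exact xx_ne (eN.injective (h.trans (map_one eN).symm))

end helpers

/-- In the presented Harada–Norton group, the subgroup N generated by the images of x, y, z has a normal subgroup of index 2 which is a non-split double cover of the Higman–Sims group. -/
theorem result : ∃ K : Subgroup (((Subgroup.closure ({Cfsg.Spor.HN.x, Cfsg.Spor.HN.y, Cfsg.Spor.HN.z} : Set (FreeGroup Cfsg.Spor.HN.Gen))).map (PresentedGroup.mk (Cfsg.Spor.coxRelators Cfsg.Spor.HN.edges ∪ {r | r ∈ Cfsg.Spor.HN.extra})))), K.Normal ∧ K.index = 2 ∧ Cfsg.IsNonsplitDoubleCover K Cfsg.Spor.HS := by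
  obtain ⟨hn, hi, hc, ⟨e⟩, hns⟩ := dhypN.nonsplit
  obtain ⟨⟨eHS⟩, _⟩ := nonempty_HS_equiv
  exact ⟨H0.comap (HSRep.gbar.comp eN.symm.toMonoidHom), hn, hi, hc, ⟨e.trans eHS.symm⟩, hns⟩

end Cfsg.Agent.S1708
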