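import Cfsg.Statements.S0707
import Mathlib


set_option autoImplicit false
open Cfsg

namespace Cfsg.Agent.S0707


theorem prime_card_of_isCoatom_bot {G : Type*} [Group G] (h : IsCoatom (⊥ : Subgroup G)) :
    (Nat.card G).Prime := by
  have hall : ∀ H : Subgroup G, H = ⊥ ∨ H = ⊤ := by
    intro H
    by_cases hH : H = ⊥
    · exact Or.inl hH
    · exact Or.inr (h.2 H (bot_lt_iff_ne_bot.mpr hH))
  haveI : Nontrivial G := by
    by_contra hnt
    rw [not_nontrivial_iff_subsingleton] at hnt
    exact h.1 (Subsingleton.elim _ _)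
  haveI : IsSimpleGroup G := ⟨fun H _ => hall H⟩
  haveI : IsMulCommutative G := by
    refine ⟨⟨fun x y => ?_⟩⟩
    by_cases hx : x = 1
    · subst hx; simp
    · have h1 : Subgroup.zpowers x = ⊤ :=
        (hall _).resolve_left (Subgroup.zpowers_ne_bot.mpr hx)
      have hy : y ∈ Subgroup.zpowers x := by rw [h1]; trivial
      obtain ⟨k, rfl⟩ := Subgroup.mem_zpowers_iff.mp hy
      exact (Commute.self_zpow x k).eq
  exact Group.is_simple_iff_prime_card.mp inferInstance

/-- In a primitive permutation group, distinct points have distinct stabilisers unless the group is regular of prime degree. -/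
theorem result {α : Type*} (G : Subgroup (Equiv.Perm α)) [MulAction.IsPreprimitive G α] (h : ¬ (Nat.card α).Prime ∨ ∃ a : α, MulAction.stabilizer G a ≠ ⊥) {a b : α} (hab : a ≠ b) : MulAction.stabilizer G a ≠ MulAction.stabilizer G b := by
  intro heq
  haveI : Nontrivial α := ⟨⟨a, b, hab⟩⟩
  have hco : IsCoatom (MulAction.stabilizer G a) :=
    MulAction.IsPreprimitive.isCoatom_stabilizer_of_isPreprimitive G a
  obtain ⟨g, hg⟩ := MulAction.exists_smul_eq G a b
  have hconj : ∀ (k : G) (x : α), ∀ s : G, s ∈ MulAction.stabilizer G (k • x) ↔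
      k⁻¹ * s * k ∈ MulAction.stabilizer G x := by
    intro k x s
    rw [MulAction.mem_stabilizer_iff, MulAction.mem_stabilizer_iff, mul_smul, mul_smul,
      inv_smul_eq_iff]
  have hgnot : g ∉ MulAction.stabilizer G a := by
    intro hh
    exact hab (by rw [← hg]; exact (MulAction.mem_stabilizer_iff.mp hh).symm)
  have hgN : g⁻¹ ∈ Subgroup.normalizer (MulAction.stabilizer G a : Set G) := by
    rw [Subgroup.mem_normalizer_iff]
    intro s
    have := hconj g a s
    rw [hg, ← heq] at this
    rw [this, inv_inv]
  have hN : Subgroup.normalizer (MulAction.stabilizer G a : Set G) = ⊤ := by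
    apply hco.2
    apply lt_of_le_of_ne Subgroup.le_normalizer
    intro hne
    apply hgnot
    have := Subgroup.inv_mem _ hgN
    rw [inv_inv, ← hne] at this
    exact this
  have hnorm : (MulAction.stabilizer G a).Normal := Subgroup.normalizer_eq_top_iff.mp hN
  have hbot : MulAction.stabilizer G a = ⊥ := by
    rw [eq_bot_iff]
    intro s hs
    rw [Subgroup.mem_bot]
    apply Subtype.ext
    apply Equiv.ext
    intro x
    obtain ⟨k, rfl⟩ := MulAction.exists_smul_eq G a x
    have h1 : s ∈ MulAction.stabilizer G (k • a) := by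
      rw [hconj]
      have := hnorm.conj_mem s hs k⁻¹
      rwa [inv_inv] at this
    exact MulAction.mem_stabilizer_iff.mp h1
  have hprime : (Nat.card α).Prime := by
    have h1 := prime_card_of_isCoatom_bot (hbot ▸ hco)
    have e := MulAction.orbitEquivQuotientStabilizer G a
    have h2 : Nat.card α = Nat.card G := by
      have h3 : Nat.card (MulAction.orbit G a) = Nat.card α := by
        rw [MulAction.orbit_eq_univ]; exact Nat.card_congr (Equiv.Set.univ α)
      rw [← h3, Nat.card_congr e, hbot]
      exact Nat.card_congr (QuotientGroup.quotientBot (G := G)).toEquiv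
    rw [h2]; exact h1
  rcases h with h | ⟨c, hc⟩
  · exact h hprime
  · apply hc
    obtain ⟨k, rfl⟩ := MulAction.exists_smul_eq G a c
    rw [eq_bot_iff]
    intro s hs
    rw [hconj] at hs
    rw [hbot, Subgroup.mem_bot] at hs
    rw [Subgroup.mem_bot]
    have : s = k * (k⁻¹ * s * k) * k⁻¹ := by group
    rw [this, hs]; group

end Cfsg.Agent.S0707
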