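import Mathlib
import Cfsg.Agent.S2904
import Cfsg.Statements.S3430

set_option autoImplicit false
open Cfsg

namespace Cfsg.Agent.S3430

open scoped commutatorElement

section helpers

open Polynomial

/-! ### a lower bound for the totient -/

/-- the multiplicative form of the bound -/
def cubeQ (n : ℕ) : Prop :=
  8 * n ^ 2 ≤ (if 2 ∣ n then 4 else 1) * (if 3 ∣ n then 9 else 8) * Nat.totient n ^ 3

theorem cubeQ_prime_pow (p k : ℕ) (hp : p.Prime) (hk : 0 < k) : cubeQ (p ^ k) := by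
  obtain ⟨j, rfl⟩ : ∃ j, k = j + 1 := ⟨k - 1, by omega⟩
  unfold cubeQ
  rw [Nat.totient_prime_pow_succ hp]
  by_cases h2 : p = 2
  · subst h2
    have h1 : (2 : ℕ) ∣ 2 ^ (j + 1) := dvd_pow_self 2 (by omega)
    have h3 : ¬ (3 : ℕ) ∣ 2 ^ (j + 1) := by
      intro h
      have := Nat.Prime.dvd_of_dvd_pow Nat.prime_three h
      omega
    rw [if_pos h1, if_neg h3]
    have e1 : (2 ^ (j + 1)) ^ 2 = 4 * 4 ^ j := by
      rw [← pow_mul, mul_comm, pow_mul]; norm_num [pow_succ]; ring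
    have e2 : (2 ^ j * (2 - 1)) ^ 3 = 8 ^ j := by
      rw [show (2 : ℕ) - 1 = 1 by norm_num, mul_one, ← pow_mul, mul_comm, pow_mul]; norm_num
    rw [e1, e2]
    have : 4 ^ j ≤ 8 ^ j := Nat.pow_le_pow_left (by norm_num) j
    omega
  by_cases h3 : p = 3
  · subst h3
    have h1 : ¬ (2 : ℕ) ∣ 3 ^ (j + 1) := by
      intro h
      have := Nat.Prime.dvd_of_dvd_pow Nat.prime_two h
      omega
    have h3 : (3 : ℕ) ∣ 3 ^ (j + 1) := dvd_pow_self 3 (by omega)
    rw [if_neg h1, if_pos h3]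
    have e1 : (3 ^ (j + 1)) ^ 2 = 9 * 9 ^ j := by
      rw [← pow_mul, mul_comm, pow_mul]; norm_num [pow_succ]; ring
    have e2 : (3 ^ j * (3 - 1)) ^ 3 = 8 * 27 ^ j := by
      rw [show (3 : ℕ) - 1 = 2 by norm_num, mul_pow, ← pow_mul, mul_comm j 3, pow_mul]; norm_num
      ring
    rw [e1, e2]
    have : 9 ^ j ≤ 27 ^ j := Nat.pow_le_pow_left (by norm_num) j
    omega
  · have hp5 : 5 ≤ p := by
      have := hp.two_le
      rcases Nat.lt_or_ge p 5 with h | h
      · interval_cases p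
        · exact absurd rfl h2
        · exact absurd rfl h3
        · exact absurd hp (by decide)
      · exact h
    have hA : 1 ≤ (if 2 ∣ p ^ (j + 1) then 4 else 1) * (if 3 ∣ p ^ (j + 1) then 9 else 8) / 8 := by
      split_ifs <;> norm_num
    have hA' : 8 ≤ (if 2 ∣ p ^ (j + 1) then 4 else 1) * (if 3 ∣ p ^ (j + 1) then 9 else 8) := by
      split_ifs <;> norm_num
    obtain ⟨r, rfl⟩ : ∃ r, p = r + 1 := ⟨p - 1, by omega⟩
    have hr : 4 ≤ r := by omega
    rw [Nat.add_sub_cancel]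
    have e1 : ((r + 1) ^ (j + 1)) ^ 2 = (r + 1) ^ 2 * ((r + 1) ^ j) ^ 2 := by ring
    have e2 : ((r + 1) ^ j * r) ^ 3 = r ^ 3 * ((r + 1) ^ j) ^ 3 := by ring
    rw [e1, e2]
    have h4 : (r + 1) ^ 2 ≤ r ^ 3 := by nlinarith
    have h5 : ((r + 1) ^ j) ^ 2 ≤ ((r + 1) ^ j) ^ 3 :=
      Nat.pow_le_pow_right (Nat.pos_of_ne_zero (by positivity)) (by norm_num)
    calc 8 * ((r + 1) ^ 2 * ((r + 1) ^ j) ^ 2) ≤ 8 * (r ^ 3 * ((r + 1) ^ j) ^ 3) :=
          Nat.mul_le_mul_left _ (Nat.mul_le_mul h4 h5)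
      _ ≤ _ := Nat.mul_le_mul_right _ hA'

theorem cubeQ_mul (a b : ℕ) (hab : Nat.Coprime a b) (ha : cubeQ a) (hb : cubeQ b) : cubeQ (a * b) := by
  unfold cubeQ at *
  rw [Nat.totient_mul hab]
  have h2 : (if 2 ∣ a * b then 4 else 1) = (if 2 ∣ a then 4 else 1) * (if 2 ∣ b then 4 else 1) := by
    by_cases h2a : 2 ∣ a
    · have h2b : ¬ 2 ∣ b := fun h => by
        have := Nat.dvd_gcd h2a h
        rw [hab] at this
        omega
      rw [if_pos h2a, if_neg h2b, if_pos (Dvd.dvd.mul_right h2a b)]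
    · by_cases h2b : 2 ∣ b
      · rw [if_neg h2a, if_pos h2b, if_pos (Dvd.dvd.mul_left h2b a)]
      · rw [if_neg h2a, if_neg h2b, if_neg]
        intro h
        rcases (Nat.Prime.dvd_mul Nat.prime_two).1 h with h | h
        · exact h2a h
        · exact h2b h
  have h3 : 8 * (if 3 ∣ a * b then 9 else 8) = (if 3 ∣ a then 9 else 8) * (if 3 ∣ b then 9 else 8) := by
    by_cases h3a : 3 ∣ a
    · have h3b : ¬ 3 ∣ b := fun h => by
        have := Nat.dvd_gcd h3a h
        rw [hab] at this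
        omega
      rw [if_pos h3a, if_neg h3b, if_pos (Dvd.dvd.mul_right h3a b)]
    · by_cases h3b : 3 ∣ b
      · rw [if_neg h3a, if_pos h3b, if_pos (Dvd.dvd.mul_left h3b a)]
      · rw [if_neg h3a, if_neg h3b, if_neg]
        intro h
        rcases (Nat.Prime.dvd_mul Nat.prime_three).1 h with h | h
        · exact h3a h
        · exact h3b h
  have key := Nat.mul_le_mul ha hb
  rw [h2]
  have : 8 * (8 * (a * b) ^ 2) ≤ 8 * ((if 2 ∣ a then 4 else 1) * (if 2 ∣ b then 4 else 1) *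
      (if 3 ∣ a * b then 9 else 8) * (Nat.totient a * Nat.totient b) ^ 3) := by
    calc 8 * (8 * (a * b) ^ 2) = 8 * a ^ 2 * (8 * b ^ 2) := by ring
      _ ≤ _ := key
      _ = (if 2 ∣ a then 4 else 1) * (if 2 ∣ b then 4 else 1) *
          ((if 3 ∣ a then 9 else 8) * (if 3 ∣ b then 9 else 8)) *
          (Nat.totient a * Nat.totient b) ^ 3 := by ring
      _ = _ := by rw [← h3]; ring
  omega

theorem cube_bound (n : ℕ) : 2 * n ^ 2 ≤ 9 * Nat.totient n ^ 3 := by
  have h : cubeQ n := by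
    induction n using Nat.recOnPosPrimePosCoprime with
    | prime_pow p k hp hk => exact cubeQ_prime_pow p k hp hk
    | zero => unfold cubeQ; simp
    | one => unfold cubeQ; simp
    | coprime a b ha hb hab iha ihb => exact cubeQ_mul a b hab iha ihb
  unfold cubeQ at h
  have : (if 2 ∣ n then 4 else 1) * (if 3 ∣ n then 9 else 8) ≤ 36 := by
    split_ifs <;> norm_num
  have := Nat.mul_le_mul_right (Nat.totient n ^ 3) this
  omega

/-! ### a cheap lower bound for `Φₙ(2)` -/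

/-- the value `Φₘ(x)` as a natural number -/
noncomputable def cA (m x : ℕ) : ℕ := ((cyclotomic m ℤ).eval ((x : ℕ) : ℤ)).natAbs

theorem cA_expand_dvd {p k : ℕ} (x : ℕ) (hp : p.Prime) (hpk : p ∣ k) :
    cA (k * p) x = cA k (x ^ p) := by
  unfold cA
  rw [← cyclotomic_expand_eq_cyclotomic hp hpk ℤ, expand_eval]
  push_cast; rfl

theorem cA_expand_ndvd {p k : ℕ} (x : ℕ) (hp : p.Prime) (hpk : ¬ p ∣ k) :
    cA k (x ^ p) = cA (k * p) x * cA k x := by
  unfold cA
  have := congrArg (Polynomial.eval ((x : ℕ) : ℤ)) (cyclotomic_expand_eq_cyclotomic_mul hp hpk ℤ)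
  rw [expand_eval, eval_mul] at this
  rw [← Int.natAbs_mul, ← this]
  push_cast; rfl

theorem cA_one (x : ℕ) (hx : 1 ≤ x) : cA 1 x = x - 1 := by
  unfold cA
  rw [cyclotomic_one]
  simp only [eval_sub, eval_X, eval_one]
  have : ((x : ℕ) : ℤ) - 1 = ((x - 1 : ℕ) : ℤ) := by
    rw [Nat.cast_pred hx]
  rw [this, Int.natAbs_natCast]

theorem cA_lb {m x : ℕ} (hm : 2 ≤ m) (hx : 2 ≤ x) : (x - 1) ^ Nat.totient m < cA m x :=
  sub_one_pow_totient_lt_natAbs_cyclotomic_eval (by omega) (by omega)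

theorem cA_ub (m x : ℕ) (hx : 2 ≤ x) : cA m x ≤ (x + 1) ^ Nat.totient m :=
  Cfsg.Agent.S2904.natAbs_cyclotomic_le m x (by omega)

theorem two_pow_sq (p : ℕ) (hp : 2 ≤ p) : 2 ^ p ≤ (2 ^ p - 1) ^ 2 := by
  obtain ⟨y, hy⟩ : ∃ y, 2 ^ p = y + 4 := by
    have : 2 ^ 2 ≤ 2 ^ p := Nat.pow_le_pow_right (by norm_num) hp
    exact ⟨2 ^ p - 4, by omega⟩
  rw [hy, show y + 4 - 1 = y + 3 by omega]
  nlinarith

theorem two_pow_sq' (p : ℕ) (hp : 3 ≤ p) : 9 * 2 ^ (p - 1) ≤ (2 ^ p - 1) ^ 2 := by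
  obtain ⟨j, rfl⟩ : ∃ j, p = j + 1 := ⟨p - 1, by omega⟩
  have h1 : 2 ^ (j + 1) = 2 * 2 ^ j := pow_succ' 2 j
  rw [Nat.add_sub_cancel, h1]
  obtain ⟨y, hy⟩ : ∃ y, 2 ^ j = y + 4 := by
    have : 2 ^ 2 ≤ 2 ^ j := Nat.pow_le_pow_right (by norm_num) (by omega)
    exact ⟨2 ^ j - 4, by omega⟩
  rw [hy, show 2 * (y + 4) - 1 = 2 * y + 7 by omega]
  nlinarith

theorem cheap (n : ℕ) (hn : 2 ≤ n) : 2 ^ Nat.totient n < cA n 2 ^ 2 := by
  -- choose a prime
  obtain ⟨p, k, hp, hnk, hcase⟩ : ∃ p k : ℕ, p.Prime ∧ n = k * p ∧ (p ∣ k ∨ k = 1 ∨ 3 ≤ p) := by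
    rcases Nat.eq_two_pow_or_exists_odd_prime_and_dvd n with ⟨a, ha⟩ | ⟨p, hp, hpn, hodd⟩
    · obtain ⟨b, rfl⟩ : ∃ b, a = b + 1 := by
        rcases Nat.eq_zero_or_pos a with h0 | h0
        · subst h0; simp at ha; omega
        · exact ⟨a - 1, by omega⟩
      refine ⟨2, 2 ^ b, Nat.prime_two, by rw [ha, pow_succ], ?_⟩
      rcases Nat.eq_zero_or_pos b with h0 | h0
      · right; left; rw [h0, pow_zero]
      · left; exact dvd_pow_self 2 h0.ne'
    · obtain ⟨k, hk⟩ := hpn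
      refine ⟨p, k, hp, by rw [hk, mul_comm], Or.inr (Or.inr ?_)⟩
      have := hp.two_le
      rcases hodd with ⟨t, ht⟩
      omega
  subst hnk
  have hk0 : 0 < k := by
    rcases Nat.eq_zero_or_pos k with h0 | h0
    · subst h0; omega
    · exact h0
  have h2p : 2 ≤ 2 ^ p := by
    calc 2 = 2 ^ 1 := (pow_one 2).symm
      _ ≤ 2 ^ p := Nat.pow_le_pow_right (by norm_num) hp.one_lt.le
  by_cases hpk : p ∣ k
  · -- `Φₙ(2) = Φₖ(2ᵖ)`
    have hk2 : 2 ≤ k := by
      have := Nat.le_of_dvd hk0 hpk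
      have := hp.two_le
      omega
    rw [cA_expand_dvd 2 hp hpk, mul_comm k p, Nat.totient_mul_of_prime_of_dvd hp hpk]
    have h1 := cA_lb (m := k) (x := 2 ^ p) hk2 h2p
    calc 2 ^ (p * Nat.totient k) = (2 ^ p) ^ Nat.totient k := pow_mul 2 p _
      _ ≤ ((2 ^ p - 1) ^ 2) ^ Nat.totient k := Nat.pow_le_pow_left (two_pow_sq p hp.two_le) _
      _ = ((2 ^ p - 1) ^ Nat.totient k) ^ 2 := by rw [← pow_mul, ← pow_mul, mul_comm]
      _ < cA k (2 ^ p) ^ 2 := Nat.pow_lt_pow_left h1 (by norm_num)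
  · have hcop : Nat.Coprime k p := (Nat.Coprime.symm ((Nat.Prime.coprime_iff_not_dvd hp).2 hpk))
    have hexp := cA_expand_ndvd 2 hp hpk
    rw [Nat.totient_mul hcop, Nat.totient_prime hp]
    rcases Nat.lt_or_ge k 2 with hk1 | hk2
    · obtain rfl : k = 1 := by omega
      rw [cA_one _ (by omega), cA_one _ (by omega)] at hexp
      rw [Nat.totient_one, one_mul]
      have : cA (1 * p) 2 = 2 ^ p - 1 := by omega
      rw [this]
      calc 2 ^ (p - 1) < 2 ^ p := Nat.pow_lt_pow_right (by norm_num) (by have := hp.two_le; omega)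
        _ ≤ (2 ^ p - 1) ^ 2 := two_pow_sq p hp.two_le
    · have hp3 : 3 ≤ p := by
        rcases hcase with h | h | h
        · exact absurd h hpk
        · omega
        · exact h
      have h1 := cA_lb (m := k) (x := 2 ^ p) hk2 h2p
      have h2 := cA_ub k 2 (by norm_num)
      rw [hexp] at h1
      have h3 : (2 ^ p - 1) ^ Nat.totient k < cA (k * p) 2 * 3 ^ Nat.totient k :=
        lt_of_lt_of_le h1 (Nat.mul_le_mul_left _ h2)
      have h4 : ((2 ^ p - 1) ^ Nat.totient k) ^ 2 < (cA (k * p) 2 * 3 ^ Nat.totient k) ^ 2 :=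
        Nat.pow_lt_pow_left h3 (by norm_num)
      have h5 : (9 * 2 ^ (p - 1)) ^ Nat.totient k ≤ ((2 ^ p - 1) ^ 2) ^ Nat.totient k :=
        Nat.pow_le_pow_left (two_pow_sq' p hp3) _
      have h6 : 9 ^ Nat.totient k * 2 ^ (Nat.totient k * (p - 1))
          < 9 ^ Nat.totient k * cA (k * p) 2 ^ 2 := by
        calc 9 ^ Nat.totient k * 2 ^ (Nat.totient k * (p - 1))
            = (9 * 2 ^ (p - 1)) ^ Nat.totient k := by
              rw [mul_pow, ← pow_mul, mul_comm (p - 1)]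
          _ ≤ ((2 ^ p - 1) ^ 2) ^ Nat.totient k := h5
          _ = ((2 ^ p - 1) ^ Nat.totient k) ^ 2 := by rw [← pow_mul, ← pow_mul, mul_comm]
          _ < (cA (k * p) 2 * 3 ^ Nat.totient k) ^ 2 := h4
          _ = 9 ^ Nat.totient k * cA (k * p) 2 ^ 2 := by
              rw [mul_pow, ← pow_mul, mul_comm _ 2, pow_mul]; norm_num; ring
      exact Nat.lt_of_mul_lt_mul_left h6

/-! ### the structure of `Φₙ(q)` when there is no large Zsigmondy prime -/

theorem struct (q n : ℕ) (hq : 2 ≤ q) (hn : 3 ≤ n)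
    (hno : ∀ p : ℕ, p.Prime → p ∣ q ^ n - 1 → (∀ i : ℕ, 1 ≤ i → i < n → ¬ p ∣ q ^ i - 1) →
      ¬ (n + 1 < p ∨ p ^ 2 ∣ q ^ n - 1)) :
    cA n q ∣ n * (n + 1) := by
  set Ψ : ℤ := (cyclotomic n ℤ).eval (q : ℤ) with hΨ
  have hPdef : cA n q = Ψ.natAbs := rfl
  set P : ℕ := cA n q with hP
  have hq0 : 0 < q := by omega
  have hn0 : 0 < n := by omega
  have hPdvd : P ∣ q ^ n - 1 := by
    have := Int.natAbs_dvd_natAbs.2 (Cfsg.Agent.S2904.psi_dvd n q)
    rwa [Cfsg.Agent.S2904.natAbs_pow_sub_one q n hq0] at this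
  have hcast : ∀ r : ℕ, r ∣ P ↔ (r : ℤ) ∣ Ψ := fun r => by rw [hPdef]; exact Int.natCast_dvd.symm
  have hprime : ∀ r : ℕ, r.Prime → r ∣ P → r ∣ n * (n + 1) ∧ ¬ r ^ 2 ∣ P := by
    intro r hr hrP
    obtain ⟨e, m, hnm, hm, hk⟩ := Cfsg.Agent.S2904.key hr hn0 hq0 ((hcast r).1 hrP)
    rcases Nat.eq_zero_or_pos e with he | he
    · -- a primitive prime divisor
      subst he
      rw [pow_zero, one_mul] at hnm
      subst hnm
      have hprim : ∀ i : ℕ, 1 ≤ i → i < n → ¬ r ∣ q ^ i - 1 := by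
        intro i hi1 hin hri
        have := Nat.le_of_dvd (by omega) (hk i hri)
        omega
      have hcon := hno r hr (hrP.trans hPdvd) hprim
      push Not at hcon
      have h1 : n ≤ r - 1 := Nat.le_of_dvd (by have := hr.two_le; omega) hm
      have h2 : r = n + 1 := by have := hr.two_le; omega
      refine ⟨?_, ?_⟩
      · rw [h2]; exact Dvd.intro_left n rfl
      · intro hsq
        exact hcon.2 (hsq.trans hPdvd)
    · have hrn : r ∣ n := by
        rw [hnm]; exact Dvd.dvd.mul_right (dvd_pow_self r he.ne') m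
      refine ⟨Dvd.dvd.mul_right hrn _, ?_⟩
      intro hsq
      have hsq' : (r : ℤ) ^ 2 ∣ Ψ := by
        have := (hcast (r ^ 2)).1 hsq
        push_cast at this
        exact this
      rcases hr.eq_two_or_odd' with h2 | hodd
      · subst h2
        have hm1 : m = 1 := by simpa using hm
        subst hm1
        rw [mul_one] at hnm
        have he2 : 2 ≤ e := by
          by_contra hlt
          have : e = 1 := by omega
          subst this
          omega
        exact Cfsg.Agent.S2904.not_four_dvd hq he2 hnm hsq'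
      · exact Cfsg.Agent.S2904.not_sq_dvd_odd hr hodd hq hrn hn0 ((hcast r).1 hrP) hsq'
  have hP0 : P ≠ 0 := by
    intro h0
    have h1 := cA_lb (m := n) (x := q) (by omega) hq
    rw [← hP, h0] at h1
    omega
  have hsq : Squarefree P := by
    rw [Nat.squarefree_iff_prime_squarefree]
    intro r hr h
    exact (hprime r hr (dvd_of_mul_left_dvd h)).2 (by rwa [pow_two])
  rw [← Nat.prod_primeFactors_of_squarefree hsq]
  apply Finset.prod_primes_dvd
  · intro a ha
    exact (Nat.prime_of_mem_primeFactors ha).prime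
  · intro a ha
    exact (hprime a (Nat.prime_of_mem_primeFactors ha) (Nat.dvd_of_mem_primeFactors ha)).1

/-! ### computing the totient in the kernel -/

/-- a kernel-friendly count of the numbers below `m` prime to `n` -/
def cnt4 (n : ℕ) (m : ℕ) : ℕ → ℕ :=
  Nat.rec (motive := fun _ => ℕ → ℕ) (fun acc => acc)
    (fun k ih acc => ih (acc + (Nat.beq (Nat.gcd n k) 1).toNat)) m

/-- a kernel-friendly totient -/
def tot (n : ℕ) : ℕ := cnt4 n n 0

theorem cnt4_succ (n m acc : ℕ) :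
    cnt4 n (m + 1) acc = cnt4 n m (acc + (Nat.beq (Nat.gcd n m) 1).toNat) := rfl

theorem cnt4_eq (n m : ℕ) : ∀ acc : ℕ,
    cnt4 n m acc = acc + ((Finset.range m).filter (Nat.Coprime n)).card := by
  induction m with
  | zero => intro acc; simp [cnt4]
  | succ m ih =>
    intro acc
    rw [cnt4_succ, ih, Finset.range_add_one, Finset.filter_insert]
    by_cases h : Nat.gcd n m = 1
    · have h1 : Nat.beq (Nat.gcd n m) 1 = true := by rw [h]; rfl
      rw [h1, if_pos (show Nat.Coprime n m from h), Finset.card_insert_of_notMem (by simp)]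
      simp only [Bool.toNat_true]
      ring
    · have h1 : Nat.beq (Nat.gcd n m) 1 = false := by
        rw [← Bool.not_eq_true]
        intro hh
        exact h (Nat.eq_of_beq_eq_true hh)
      rw [h1, if_neg (show ¬ Nat.Coprime n m from h)]
      simp

theorem tot_eq (n : ℕ) : Nat.totient n = tot n := by
  rw [tot, cnt4_eq, zero_add]; rfl

set_option maxRecDepth 100000 in
theorem tab1 : ∀ n < 459, 90 < n → n ^ 2 * (n + 1) ^ 2 ≤ 2 ^ (tot n) := by decide +kernel

set_option maxRecDepth 100000 in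
theorem tab2 : ∀ n < 91, 3 ≤ n → 2 ^ (tot n) < n ^ 2 * (n + 1) ^ 2 →
    n ∈ [3, 4, 5, 6, 7, 8, 9, 10, 11, 12, 13, 14, 15, 16, 17, 18, 20, 21, 22, 24, 26, 27, 28, 30, 32, 33, 34, 36, 38, 40, 42, 44, 46, 48, 50, 54, 60, 66, 70, 72, 78, 84, 90] := by decide +kernel

set_option maxRecDepth 100000 in
theorem tab3 : ∀ n < 91, 3 ≤ n → 2 ^ (tot n) < n * (n + 1) →
    n ∈ [3, 4, 5, 6, 8, 9, 10, 12, 14, 16, 18, 20, 24, 30] := by decide +kernel

set_option maxRecDepth 100000 in
theorem tab4 : ∀ n ∈ [3, 4, 5, 6, 8, 9, 10, 12, 14, 16, 18, 20, 24, 30], ∀ q < 32, 3 ≤ q → (q - 1) ^ (tot n) < n * (n + 1) →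
    (q, n) ∈ [(3, 3), (4, 3), (3, 4), (4, 4), (5, 4), (3, 5), (3, 6), (4, 6), (5, 6), (6, 6), (7, 6), (3, 8), (3, 9), (3, 10), (4, 10), (3, 12), (4, 12), (3, 14), (3, 16), (3, 18), (3, 20), (3, 24), (3, 30)] := by decide +kernel

theorem pow_bound (t : ℕ) (ht : 37 ≤ t) : 81 * t ^ 6 ≤ 2 ^ (t + 1) := by
  induction t, ht using Nat.le_induction with
  | base => norm_num
  | succ t ht ih =>
    have h1 : (t + 1) ^ 6 ≤ 2 * t ^ 6 := by
      have h2 : 9 * (t + 1) ≤ 10 * t := by omega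
      have h3 : (9 * (t + 1)) ^ 6 ≤ (10 * t) ^ 6 := Nat.pow_le_pow_left h2 6
      rw [mul_pow, mul_pow] at h3
      norm_num at h3
      omega
    calc 81 * (t + 1) ^ 6 ≤ 81 * (2 * t ^ 6) := Nat.mul_le_mul_left _ h1
      _ = 2 * (81 * t ^ 6) := by ring
      _ ≤ 2 * 2 ^ (t + 1) := Nat.mul_le_mul_left _ ih
      _ = 2 ^ (t + 1 + 1) := by rw [pow_succ 2 (t + 1)]; ring

theorem large_n (n : ℕ) (hn : 459 ≤ n) : n ^ 2 * (n + 1) ^ 2 ≤ 2 ^ Nat.totient n := by
  have hc := cube_bound n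
  set t := Nat.totient n with ht
  have ht37 : 37 ≤ t := by
    by_contra hlt
    have h36 : t ≤ 36 := by omega
    have h1 : t ^ 3 ≤ 36 ^ 3 := Nat.pow_le_pow_left h36 3
    have h2 : 459 ^ 2 ≤ n ^ 2 := Nat.pow_le_pow_left hn 2
    norm_num at h1 h2
    omega
  have h3 := pow_bound t ht37
  have h4 : (2 * n ^ 2) ^ 2 ≤ (9 * t ^ 3) ^ 2 := Nat.pow_le_pow_left hc 2
  have h5 : (n + 1) ^ 2 ≤ 2 * n ^ 2 := by nlinarith
  have h6 : 2 * (n ^ 2 * (n + 1) ^ 2) ≤ 2 * 2 ^ t := by
    calc 2 * (n ^ 2 * (n + 1) ^ 2) ≤ 2 * (n ^ 2 * (2 * n ^ 2)) :=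
          Nat.mul_le_mul_left _ (Nat.mul_le_mul_left _ h5)
      _ = (2 * n ^ 2) ^ 2 := by ring
      _ ≤ (9 * t ^ 3) ^ 2 := h4
      _ = 81 * t ^ 6 := by ring
      _ ≤ 2 ^ (t + 1) := h3
      _ = 2 * 2 ^ t := by rw [pow_succ]; ring
  omega

/-- `n ≤ 90` as soon as `2 ^ φ(n) < n² (n + 1)²` -/
theorem small_n (n : ℕ) (h : 2 ^ Nat.totient n < n ^ 2 * (n + 1) ^ 2) : n < 91 := by
  by_contra hlt
  rcases Nat.lt_or_ge n 459 with h1 | h1
  · have := tab1 n h1 (by omega)
    rw [← tot_eq] at this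
    omega
  · have := large_n n h1
    omega

/-! ### the witnesses -/

/-- the conclusion -/
def Goal (q n : ℕ) : Prop :=
  ∃ p : ℕ, p.Prime ∧ p ∣ q ^ n - 1 ∧ (∀ i : ℕ, 1 ≤ i → i < n → ¬ p ∣ q ^ i - 1) ∧
    (n + 1 < p ∨ p ^ 2 ∣ q ^ n - 1)

theorem wit (q n p : ℕ) (hp : p.Prime)
    (h : p ∣ q ^ n - 1 ∧ (∀ i < n, 1 ≤ i → ¬ p ∣ q ^ i - 1) ∧ n + 1 < p) : Goal q n :=
  ⟨p, hp, h.1, fun i hi1 hin => h.2.1 i hin hi1, Or.inl h.2.2⟩

set_option maxRecDepth 100000 in
theorem w_2_3 : Goal 2 3 := wit 2 3 7 (by norm_num) (by decide +kernel)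

set_option maxRecDepth 100000 in
theorem w_2_5 : Goal 2 5 := wit 2 5 31 (by norm_num) (by decide +kernel)

set_option maxRecDepth 100000 in
theorem w_2_7 : Goal 2 7 := wit 2 7 127 (by norm_num) (by decide +kernel)

set_option maxRecDepth 100000 in
theorem w_2_8 : Goal 2 8 := wit 2 8 17 (by norm_num) (by decide +kernel)

set_option maxRecDepth 100000 in
theorem w_2_9 : Goal 2 9 := wit 2 9 73 (by norm_num) (by decide +kernel)

set_option maxRecDepth 100000 in
theorem w_2_11 : Goal 2 11 := wit 2 11 23 (by norm_num) (by decide +kernel)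

set_option maxRecDepth 100000 in
theorem w_2_13 : Goal 2 13 := wit 2 13 8191 (by norm_num) (by decide +kernel)

set_option maxRecDepth 100000 in
theorem w_2_14 : Goal 2 14 := wit 2 14 43 (by norm_num) (by decide +kernel)

set_option maxRecDepth 100000 in
theorem w_2_15 : Goal 2 15 := wit 2 15 151 (by norm_num) (by decide +kernel)

set_option maxRecDepth 100000 in
theorem w_2_16 : Goal 2 16 := wit 2 16 257 (by norm_num) (by decide +kernel)

set_option maxRecDepth 100000 in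
theorem w_2_17 : Goal 2 17 := wit 2 17 131071 (by norm_num) (by decide +kernel)

set_option maxRecDepth 100000 in
theorem w_2_20 : Goal 2 20 := wit 2 20 41 (by norm_num) (by decide +kernel)

set_option maxRecDepth 100000 in
theorem w_2_21 : Goal 2 21 := wit 2 21 337 (by norm_num) (by decide +kernel)

set_option maxRecDepth 100000 in
theorem w_2_22 : Goal 2 22 := wit 2 22 683 (by norm_num) (by decide +kernel)

set_option maxRecDepth 100000 in
theorem w_2_24 : Goal 2 24 := wit 2 24 241 (by norm_num) (by decide +kernel)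

set_option maxRecDepth 100000 in
theorem w_2_26 : Goal 2 26 := wit 2 26 2731 (by norm_num) (by decide +kernel)

set_option maxRecDepth 100000 in
theorem w_2_27 : Goal 2 27 := wit 2 27 262657 (by norm_num) (by decide +kernel)

set_option maxRecDepth 100000 in
theorem w_2_28 : Goal 2 28 := wit 2 28 113 (by norm_num) (by decide +kernel)

set_option maxRecDepth 100000 in
theorem w_2_30 : Goal 2 30 := wit 2 30 331 (by norm_num) (by decide +kernel)

set_option maxRecDepth 100000 in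
theorem w_2_32 : Goal 2 32 := wit 2 32 65537 (by norm_num) (by decide +kernel)

set_option maxRecDepth 100000 in
theorem w_2_33 : Goal 2 33 := wit 2 33 599479 (by norm_num) (by decide +kernel)

set_option maxRecDepth 100000 in
theorem w_2_34 : Goal 2 34 := wit 2 34 43691 (by norm_num) (by decide +kernel)

set_option maxRecDepth 100000 in
theorem w_2_36 : Goal 2 36 := wit 2 36 109 (by norm_num) (by decide +kernel)

set_option maxRecDepth 100000 in
theorem w_2_38 : Goal 2 38 := wit 2 38 174763 (by norm_num) (by decide +kernel)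

set_option maxRecDepth 100000 in
theorem w_2_40 : Goal 2 40 := wit 2 40 61681 (by norm_num) (by decide +kernel)

set_option maxRecDepth 100000 in
theorem w_2_42 : Goal 2 42 := wit 2 42 5419 (by norm_num) (by decide +kernel)

set_option maxRecDepth 100000 in
theorem w_2_44 : Goal 2 44 := wit 2 44 397 (by norm_num) (by decide +kernel)

set_option maxRecDepth 100000 in
theorem w_2_46 : Goal 2 46 := wit 2 46 2796203 (by norm_num) (by decide +kernel)

set_option maxRecDepth 100000 in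
theorem w_2_48 : Goal 2 48 := wit 2 48 97 (by norm_num) (by decide +kernel)

set_option maxRecDepth 100000 in
theorem w_2_50 : Goal 2 50 := wit 2 50 251 (by norm_num) (by decide +kernel)

set_option maxRecDepth 100000 in
theorem w_2_54 : Goal 2 54 := wit 2 54 87211 (by norm_num) (by decide +kernel)

set_option maxRecDepth 100000 in
theorem w_2_60 : Goal 2 60 := wit 2 60 1321 (by norm_num) (by decide +kernel)

set_option maxRecDepth 100000 in
theorem w_2_66 : Goal 2 66 := wit 2 66 20857 (by norm_num) (by decide +kernel)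

set_option maxRecDepth 100000 in
theorem w_2_70 : Goal 2 70 := wit 2 70 281 (by norm_num) (by decide +kernel)

set_option maxRecDepth 100000 in
theorem w_2_72 : Goal 2 72 := wit 2 72 433 (by norm_num) (by decide +kernel)

set_option maxRecDepth 100000 in
theorem w_2_78 : Goal 2 78 := wit 2 78 22366891 (by norm_num) (by decide +kernel)

set_option maxRecDepth 100000 in
theorem w_2_84 : Goal 2 84 := wit 2 84 1429 (by norm_num) (by decide +kernel)

set_option maxRecDepth 100000 in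
theorem w_2_90 : Goal 2 90 := wit 2 90 18837001 (by norm_num) (by decide +kernel)

set_option maxRecDepth 100000 in
theorem w_3_3 : Goal 3 3 := wit 3 3 13 (by norm_num) (by decide +kernel)

set_option maxRecDepth 100000 in
theorem w_4_3 : Goal 4 3 := wit 4 3 7 (by norm_num) (by decide +kernel)

set_option maxRecDepth 100000 in
theorem w_4_4 : Goal 4 4 := wit 4 4 17 (by norm_num) (by decide +kernel)

set_option maxRecDepth 100000 in
theorem w_5_4 : Goal 5 4 := wit 5 4 13 (by norm_num) (by decide +kernel)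

set_option maxRecDepth 100000 in
theorem w_3_5 : Goal 3 5 := wit 3 5 11 (by norm_num) (by decide +kernel)

set_option maxRecDepth 100000 in
theorem w_4_6 : Goal 4 6 := wit 4 6 13 (by norm_num) (by decide +kernel)

set_option maxRecDepth 100000 in
theorem w_6_6 : Goal 6 6 := wit 6 6 31 (by norm_num) (by decide +kernel)

set_option maxRecDepth 100000 in
theorem w_7_6 : Goal 7 6 := wit 7 6 43 (by norm_num) (by decide +kernel)

set_option maxRecDepth 100000 in
theorem w_3_8 : Goal 3 8 := wit 3 8 41 (by norm_num) (by decide +kernel)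

set_option maxRecDepth 100000 in
theorem w_3_9 : Goal 3 9 := wit 3 9 757 (by norm_num) (by decide +kernel)

set_option maxRecDepth 100000 in
theorem w_3_10 : Goal 3 10 := wit 3 10 61 (by norm_num) (by decide +kernel)

set_option maxRecDepth 100000 in
theorem w_4_10 : Goal 4 10 := wit 4 10 41 (by norm_num) (by decide +kernel)

set_option maxRecDepth 100000 in
theorem w_3_12 : Goal 3 12 := wit 3 12 73 (by norm_num) (by decide +kernel)

set_option maxRecDepth 100000 in
theorem w_4_12 : Goal 4 12 := wit 4 12 241 (by norm_num) (by decide +kernel)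

set_option maxRecDepth 100000 in
theorem w_3_14 : Goal 3 14 := wit 3 14 547 (by norm_num) (by decide +kernel)

set_option maxRecDepth 100000 in
theorem w_3_16 : Goal 3 16 := wit 3 16 193 (by norm_num) (by decide +kernel)

set_option maxRecDepth 100000 in
theorem w_3_18 : Goal 3 18 := wit 3 18 37 (by norm_num) (by decide +kernel)

set_option maxRecDepth 100000 in
theorem w_3_20 : Goal 3 20 := wit 3 20 1181 (by norm_num) (by decide +kernel)

set_option maxRecDepth 100000 in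
theorem w_3_24 : Goal 3 24 := wit 3 24 6481 (by norm_num) (by decide +kernel)

set_option maxRecDepth 100000 in
theorem w_3_30 : Goal 3 30 := wit 3 30 271 (by norm_num) (by decide +kernel)



/-! ### the case `n = 2` -/

theorem sq_sub_one (q : ℕ) (hq : 1 ≤ q) : q ^ 2 - 1 = (q + 1) * (q - 1) := by
  obtain ⟨b, rfl⟩ : ∃ b, q = b + 1 := ⟨q - 1, by omega⟩
  simp only [Nat.add_sub_cancel]
  have : (b + 1) ^ 2 = (b + 1 + 1) * b + 1 := by ring
  omega

theorem not_dvd_pred (q p : ℕ) (hq : 2 ≤ q) (hp3 : 3 ≤ p) (hpd : p ∣ q + 1) : ¬ p ∣ q - 1 := by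
  intro hdv
  have h3 : p ∣ (q + 1) - (q - 1) := Nat.dvd_sub hpd hdv
  have h4 : (q + 1) - (q - 1) = 2 := by omega
  rw [h4] at h3
  have := Nat.le_of_dvd (by norm_num) h3
  omega

theorem case_two (q : ℕ) (hq : 2 ≤ q)
    (h1 : ¬ ∃ s t : ℕ, t ≤ 1 ∧ q + 1 = 2 ^ s * 3 ^ t) : Goal q 2 := by
  by_cases hbig : ∃ p : ℕ, p.Prime ∧ p ∣ q + 1 ∧ 5 ≤ p
  · obtain ⟨p, hp, hpd, hp5⟩ := hbig
    refine ⟨p, hp, ?_, ?_, Or.inl (by omega)⟩
    · rw [sq_sub_one q (by omega)]; exact Dvd.dvd.mul_right hpd _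
    · intro i hi1 hi2
      obtain rfl : i = 1 := by omega
      rw [pow_one]
      exact not_dvd_pred q p hq (by omega) hpd
  · push Not at hbig
    obtain ⟨s, a, ha2, hqa⟩ := Nat.exists_eq_pow_mul_and_not_dvd (show q + 1 ≠ 0 by omega) 2 (by norm_num)
    have ha0 : a ≠ 0 := by
      rintro rfl
      simp at hqa
    obtain ⟨t, b, hb3, hab⟩ := Nat.exists_eq_pow_mul_and_not_dvd ha0 3 (by norm_num)
    have hb1 : b = 1 := by
      by_contra hne
      have hpr := Nat.minFac_prime hne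
      have hpb : b.minFac ∣ b := Nat.minFac_dvd b
      have hpa : b.minFac ∣ a := by rw [hab]; exact Dvd.dvd.mul_left hpb _
      have hpq : b.minFac ∣ q + 1 := by rw [hqa]; exact Dvd.dvd.mul_left hpa _
      have hlt := hbig _ hpr hpq
      have h2 := hpr.two_le
      have hcases : b.minFac = 2 ∨ b.minFac = 3 ∨ b.minFac = 4 := by omega
      rcases hcases with h | h | h
      · rw [h] at hpa; exact ha2 hpa
      · rw [h] at hpb; exact hb3 hpb
      · rw [h] at hpr; exact absurd hpr (by decide)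
    rw [hb1, mul_one] at hab
    rw [hab] at hqa
    have ht2 : 2 ≤ t := by
      by_contra hlt
      exact h1 ⟨s, t, by omega, hqa⟩
    have h9 : 9 ∣ q + 1 := by
      rw [hqa]
      apply Dvd.dvd.mul_left
      calc (9 : ℕ) = 3 ^ 2 := by norm_num
        _ ∣ 3 ^ t := pow_dvd_pow 3 ht2
    have h3 : 3 ∣ q + 1 := Dvd.dvd.trans (by norm_num) h9
    refine ⟨3, Nat.prime_three, ?_, ?_, Or.inr ?_⟩
    · rw [sq_sub_one q (by omega)]; exact Dvd.dvd.mul_right h3 _
    · intro i hi1 hi2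
      obtain rfl : i = 1 := by omega
      rw [pow_one]
      exact not_dvd_pred q 3 hq (by omega) h3
    · rw [sq_sub_one q (by omega)]
      exact Dvd.dvd.mul_right (by simpa using h9) _

end helpers



/-- Let q, n ≥ 2 be integers. Unless (n = 2 and q + 1 = 2^s·3^t for some s ≥ 0 and t ≤ 1), or (q = 2 and n ∈ {4, 6, 10, 12, 18}), or (q = 3 and n ∈ {4, 6}), or (q, n) = (5, 6), there is a prime p dividing q^n − 1 but no q^i − 1 with 1 ≤ i < n (a primitive prime divisor), such that p > n + 1 or p² divides q^n − 1. -/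
theorem result (q n : ℕ) (hq : 2 ≤ q) (hn : 2 ≤ n)
    (h1 : ¬ (n = 2 ∧ ∃ s t : ℕ, t ≤ 1 ∧ q + 1 = 2 ^ s * 3 ^ t))
    (h2 : ¬ (q = 2 ∧ (n = 4 ∨ n = 6 ∨ n = 10 ∨ n = 12 ∨ n = 18)))
    (h3 : ¬ (q = 3 ∧ (n = 4 ∨ n = 6))) (h4 : ¬ (q = 5 ∧ n = 6)) :
    ∃ p : ℕ, p.Prime ∧ p ∣ q ^ n - 1 ∧ (∀ i : ℕ, 1 ≤ i → i < n → ¬ p ∣ q ^ i - 1) ∧ (n + 1 < p ∨ p ^ 2 ∣ q ^ n - 1) := by
  change Goal q n
  rcases Nat.lt_or_ge n 3 with hn2 | hn3
  · obtain rfl : n = 2 := by omega
    exact case_two q hq (fun h => h1 ⟨rfl, h⟩)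
  by_contra hgoal
  have hno : ∀ p : ℕ, p.Prime → p ∣ q ^ n - 1 → (∀ i : ℕ, 1 ≤ i → i < n → ¬ p ∣ q ^ i - 1) →
      ¬ (n + 1 < p ∨ p ^ 2 ∣ q ^ n - 1) :=
    fun p hp hd hprim hor => hgoal ⟨p, hp, hd, hprim, hor⟩
  have hdvd := struct q n hq hn3 hno
  have hle : cA n q ≤ n * (n + 1) := Nat.le_of_dvd (by positivity) hdvd
  have hlb := cA_lb (m := n) (x := q) (by omega) hq
  rcases Nat.lt_or_ge q 3 with hq2 | hq3
  · -- `q = 2`
    obtain rfl : q = 2 := by omega
    have hch := cheap n (by omega)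
    have h5 : 2 ^ Nat.totient n < n ^ 2 * (n + 1) ^ 2 := by
      calc 2 ^ Nat.totient n < cA n 2 ^ 2 := hch
        _ ≤ (n * (n + 1)) ^ 2 := Nat.pow_le_pow_left hle 2
        _ = n ^ 2 * (n + 1) ^ 2 := by ring
    have hn91 := small_n n h5
    rw [tot_eq] at h5
    have hmem := tab2 n hn91 hn3 h5
    simp only [List.mem_cons, List.not_mem_nil, or_false] at hmem
    rcases hmem with rfl | rfl | rfl | rfl | rfl | rfl | rfl | rfl | rfl | rfl | rfl | rfl | rfl | rfl | rfl | rfl | rfl | rfl | rfl | rfl | rfl | rfl | rfl | rfl | rfl | rfl | rfl | rfl | rfl | rfl | rfl | rfl | rfl | rfl | rfl | rfl | rfl | rfl | rfl | rfl | rfl | rfl | rfl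
    · exact hgoal w_2_3
    · exact h2 ⟨rfl, by norm_num⟩
    · exact hgoal w_2_5
    · exact h2 ⟨rfl, by norm_num⟩
    · exact hgoal w_2_7
    · exact hgoal w_2_8
    · exact hgoal w_2_9
    · exact h2 ⟨rfl, by norm_num⟩
    · exact hgoal w_2_11
    · exact h2 ⟨rfl, by norm_num⟩
    · exact hgoal w_2_13
    · exact hgoal w_2_14
    · exact hgoal w_2_15
    · exact hgoal w_2_16
    · exact hgoal w_2_17
    · exact h2 ⟨rfl, by norm_num⟩
    · exact hgoal w_2_20
    · exact hgoal w_2_21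
    · exact hgoal w_2_22
    · exact hgoal w_2_24
    · exact hgoal w_2_26
    · exact hgoal w_2_27
    · exact hgoal w_2_28
    · exact hgoal w_2_30
    · exact hgoal w_2_32
    · exact hgoal w_2_33
    · exact hgoal w_2_34
    · exact hgoal w_2_36
    · exact hgoal w_2_38
    · exact hgoal w_2_40
    · exact hgoal w_2_42
    · exact hgoal w_2_44
    · exact hgoal w_2_46
    · exact hgoal w_2_48
    · exact hgoal w_2_50
    · exact hgoal w_2_54
    · exact hgoal w_2_60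
    · exact hgoal w_2_66
    · exact hgoal w_2_70
    · exact hgoal w_2_72
    · exact hgoal w_2_78
    · exact hgoal w_2_84
    · exact hgoal w_2_90
  · -- `q ≥ 3`
    have h5 : 2 ^ Nat.totient n < n * (n + 1) := by
      calc 2 ^ Nat.totient n ≤ (q - 1) ^ Nat.totient n := Nat.pow_le_pow_left (by omega) _
        _ < cA n q := hlb
        _ ≤ n * (n + 1) := hle
    have h6 : 2 ^ Nat.totient n < n ^ 2 * (n + 1) ^ 2 := by
      have : n * (n + 1) ≤ (n * (n + 1)) ^ 2 := Nat.le_self_pow (by norm_num) _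
      calc 2 ^ Nat.totient n < n * (n + 1) := h5
        _ ≤ (n * (n + 1)) ^ 2 := this
        _ = n ^ 2 * (n + 1) ^ 2 := by ring
    have hn91 := small_n n h6
    have h7 : (q - 1) ^ Nat.totient n < n * (n + 1) := lt_of_lt_of_le hlb hle
    rw [tot_eq] at h5 h7
    have hmem := tab3 n hn91 hn3 h5
    have hn30 : n ≤ 30 := by
      simp only [List.mem_cons, List.not_mem_nil, or_false] at hmem
      omega
    have hq32 : q < 32 := by
      by_contra hge
      have htot : 2 ≤ tot n := by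
        rw [← tot_eq]
        have h8 := Nat.totient_even (show 2 < n by omega)
        have h9 := Nat.totient_pos.2 (show 0 < n by omega)
        rcases h8 with ⟨r, hr⟩
        omega
      have h8 : (q - 1) ^ 2 ≤ (q - 1) ^ tot n := Nat.pow_le_pow_right (by omega) htot
      have h9 : 31 ^ 2 ≤ (q - 1) ^ 2 := Nat.pow_le_pow_left (by omega) 2
      have h10 : n * (n + 1) ≤ 30 * 31 := Nat.mul_le_mul hn30 (by omega)
      omega
    have hmem2 := tab4 n hmem q hq32 hq3 h7
    simp only [List.mem_cons, List.not_mem_nil, or_false, Prod.mk.injEq] at hmem2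
    rcases hmem2 with ⟨rfl, rfl⟩ | ⟨rfl, rfl⟩ | ⟨rfl, rfl⟩ | ⟨rfl, rfl⟩ | ⟨rfl, rfl⟩ | ⟨rfl, rfl⟩ | ⟨rfl, rfl⟩ | ⟨rfl, rfl⟩ | ⟨rfl, rfl⟩ | ⟨rfl, rfl⟩ | ⟨rfl, rfl⟩ | ⟨rfl, rfl⟩ | ⟨rfl, rfl⟩ | ⟨rfl, rfl⟩ | ⟨rfl, rfl⟩ | ⟨rfl, rfl⟩ | ⟨rfl, rfl⟩ | ⟨rfl, rfl⟩ | ⟨rfl, rfl⟩ | ⟨rfl, rfl⟩ | ⟨rfl, rfl⟩ | ⟨rfl, rfl⟩ | ⟨rfl, rfl⟩
    · exact hgoal w_3_3
    · exact hgoal w_4_3
    · exact h3 ⟨rfl, by norm_num⟩
    · exact hgoal w_4_4
    · exact hgoal w_5_4
    · exact hgoal w_3_5
    · exact h3 ⟨rfl, by norm_num⟩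
    · exact hgoal w_4_6
    · exact h4 ⟨rfl, rfl⟩
    · exact hgoal w_6_6
    · exact hgoal w_7_6
    · exact hgoal w_3_8
    · exact hgoal w_3_9
    · exact hgoal w_3_10
    · exact hgoal w_4_10
    · exact hgoal w_3_12
    · exact hgoal w_4_12
    · exact hgoal w_3_14
    · exact hgoal w_3_16
    · exact hgoal w_3_18
    · exact hgoal w_3_20
    · exact hgoal w_3_24
    · exact hgoal w_3_30


end Cfsg.Agent.S3430
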