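import Cfsg.Statements.S0423
import Cfsg.Agent.Lib.Helper6.Spor.J2Ord
import Cfsg.Agent.Lib.Helper6.Simp1
import Cfsg.Agent.Lib.Helper6.Simp3
import Cfsg.Agent.Lib.Helper6.Simp4
import Cfsg.Agent.Lib.Helper6.Simp5
import Cfsg.Agent.Lib.Helper6.TCD.J2X.All
import Cfsg.Agent.Lib.Helper6.TCD.J2C.Idx

set_option autoImplicit false
open Cfsg

namespace Cfsg.Agent.S0423

open Cfsg.Agent.Lib.Helper6.TC Cfsg.Agent.Lib.Helper6.TCD Cfsg.Agent.Lib.Helper6.Simp
open Cfsg.Agent.Lib.Helper6.TCP.J2 Cfsg.Agent.Lib.Helper6.TCD.J2a Cfsg.Agent.Lib.Helper6.TCD.J2X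
open Cfsg.Agent.Lib.Helper6

section helpers
set_option maxRecDepth 100000
set_option linter.unusedSimpArgs false

/-- an element of order 5 -/
def wx : List ℕ := [0, 1]

theorem hQX : ∀ q < 100, QX q = wapp px wx q := by
  intro q hq
  have e : wapp px wx q = XW q := by
    simp only [wx, wapp_cons, wapp_nil, J2Idx.px_c0, J2Idx.px_c1, J2Idx.px_c2, J2Idx.px_c3, J2Idx.px_c4]
    rfl
  rw [e]
  exact chkEqF_spec chkQX0 q (by omega) (by omega)

theorem hXP : ∀ q < 100, wapp px (List.replicate 5 wx).flatten q = q := by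
  intro q hq
  rw [wapp_pow J2Idx.hP (by decide) hQX 5 q hq]
  have e : QX^[5] q = XP q := by
    unfold XP
    simp only [Function.iterate_succ_apply, Function.iterate_zero_apply]
  rw [e]
  exact chkFix_spec chkXP0 q (by omega) (by omega)

theorem hmove : wapp px wx 0 ≠ 0 := by decide +kernel

/-- the presentation with the element `x` killed is trivial -/
theorem htriv : Finite (WG 5 J2C.base) ∧ Nat.card (WG 5 J2C.base) ≤ 1 :=
  wp_bottom J2C.idx

theorem hCbase : ∀ b ∈ J2C.base, b ∈ base ∨ b = wx := by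
  decide +kernel

/-- the presented group is simple of order 604800 -/
theorem simple : IsSimpleGroup G ∧ Nat.card G = 604800 := by
  obtain ⟨φ, hw, ⟨F, hF⟩, hinj, hcard, hfin⟩ := J2Ord.rep
  refine ⟨?_, hcard⟩
  have hnt : Nontrivial G := by
    rw [← Finite.one_lt_card_iff_nontrivial, hcard]
    norm_num
  obtain ⟨hidx, q₁, q₂, h1, h2⟩ := J2Idx.orbits_thm
  have hmax := coatom_of_rank3 _ hidx q₁ q₂ h1 h2 (by norm_num) (by norm_num) (by norm_num)
    (by norm_num) (by norm_num) (by norm_num)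
  have : Fact (Nat.Prime 5) := ⟨by norm_num⟩
  refine simple_of_max' (subH Rels J2Idx.S) hmax (core_eq_bot hinj F hF) (p := 5) (k := 2)
    (by rw [hidx]; norm_num) (by rw [hcard]; norm_num)
    (x := PresentedGroup.mk Rels (wordElt gc wx))
    (orderOf_word hinj hw (by decide) hXP (q0 := 0) (by decide) hmove) ?_
  intro K hK hxK
  refine eq_top_of_trivial_wp htriv hgen J2C.hbl ?_
  intro b hb
  rcases hCbase b hb with h | h
  · rw [hbase b h]
    exact K.one_mem
  · rw [h]
    exact hxK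

end helpers

/-- Existence of a simple group of order 604800. -/
theorem result : ∃ G : Subgroup (Equiv.Perm (Fin 100)), Cfsg.IsJ2 G := by
  obtain ⟨φ, _, _, hinj, _, _⟩ := J2Ord.rep
  exact ⟨φ.range, range_simple φ hinj simple.1 simple.2⟩

end Cfsg.Agent.S0423
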