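import Cfsg.Statements.S0749
import Mathlib
import Cfsg.Agent.Lib.Helper2.WittAlt

set_option autoImplicit false
open Cfsg

namespace Cfsg.Agent.S0749


universe u v

theorem witt_alt {F : Type u} {V : Type v} [Field F] [AddCommGroup V] [Module F V] [FiniteDimensional F V] (B : LinearMap.BilinForm F V) (hB : B.Nondegenerate) (hA : B.IsAlt) (X Y : Submodule F V) (φ : X ≃ₗ[F] Y) (hφ : ∀ x x' : X, B (φ x : V) (φ x' : V) = B (x : V) (x' : V)) : ∃ g : V ≃ₗ[F] V, (∀ u v : V, B (g u) (g v) = B u v) ∧ ∀ x : X, g (x : V) = (φ x : V) := by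
  set e : ULift.{max v u} ↥X ≃ₗ[F] ↥X := ULift.moduleEquiv with he
  set f₁ : ULift.{max v u} ↥X →ₗ[F] V := X.subtype.comp e.toLinearMap with hf₁
  set f₂ : ULift.{max v u} ↥X →ₗ[F] V := (Y.subtype.comp φ.toLinearMap).comp e.toLinearMap with hf₂
  have h₁ : Function.Injective f₁ := X.subtype_injective.comp e.injective
  have h₂ : Function.Injective f₂ := (Y.subtype_injective.comp φ.injective).comp e.injective
  have hiso : ∀ a b, B (f₁ a) (f₁ b) = B (f₂ a) (f₂ b) := by
    intro a b
    exact (hφ (e a) (e b)).symm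
  obtain ⟨g, hg1, hg2⟩ := Cfsg.Agent.Lib.Helper2.WittAlt.witt_aux B hB hA _
    (ULift.{max v u} ↥X) f₁ f₂ rfl h₁ h₂ hiso
  refine ⟨g, hg1, fun x => ?_⟩
  have := hg2 (e.symm x)
  simpa [hf₁, hf₂] using this

/-- Witt's Lemma for alternating forms. If B is a non-degenerate alternating bilinear form on a finite-dimensional vector space V (over any field) and φ is a linear equivalence between subspaces X and Y of V preserving B, then φ extends to a B-preserving linear automorphism of V. -/
theorem result {F V : Type*} [Field F] [AddCommGroup V] [Module F V] [FiniteDimensional F V] (B : LinearMap.BilinForm F V) (hB : B.Nondegenerate) (hA : B.IsAlt) (X Y : Submodule F V) (φ : X ≃ₗ[F] Y) (hφ : ∀ x x' : X, B (φ x : V) (φ x' : V) = B (x : V) (x' : V)) : ∃ g : V ≃ₗ[F] V, (∀ u v : V, B (g u) (g v) = B u v) ∧ ∀ x : X, g (x : V) = (φ x : V) := by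
  exact witt_alt B hB hA X Y φ hφ

end Cfsg.Agent.S0749
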