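import Cfsg.Statements.S2166
import Cfsg.Agent.Lib.Helper5.SpInv2

set_option autoImplicit false
open Cfsg

namespace Cfsg.Agent.S2166


open Matrix Module Cfsg.Agent.Lib.Helper2.Symp Cfsg.Agent.Lib.Helper1.SpBasic
  Cfsg.Agent.Lib.Helper2.SpIsom Cfsg.Agent.Lib.Helper5.SpInv2 Cfsg.Agent.Lib.Helper5.Char2Form

variable {F : Type*} [Field F] {m : ℕ}

/-- An involution of alternating type has even rank. -/
theorem even_rank_of_isAltInv [CharP F 2] (t : Matrix.symplecticGroup (Fin m) F) (ht : t * t = 1)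
    (halt : IsAltInv t) :
    Even ((t : Matrix (Fin m ⊕ Fin m) (Fin m ⊕ Fin m) F) - 1).rank := by
  obtain ⟨g, S, hS, hg⟩ := exists_conj_uMat t ht
  have hg' : g * t * g⁻¹ = uS S hS := Subtype.ext hg
  have h1 : IsAltInv (uS S hS) := by
    rw [← hg', isAltInv_conj]; exact halt
  rw [isAltInv_uS] at h1
  have h2 : (Matrix.toBilin' S).IsAlt := by
    intro x
    rw [Matrix.toBilin'_apply']
    exact h1 x
  have h3 := Cfsg.Agent.Lib.Helper5.AltForm.even_finrank_sub_ker h2
  have h4 := finrank_rad_toBilin' S hS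
  have h5 : finrank F (Fin m → F) = m := by
    rw [Module.finrank_fintype_fun_eq_card, Fintype.card_fin]
  rw [← rank_conj_sub_one g t, hg, rank_uMat_sub_one]
  have h6 : finrank F (Fin m → F) - finrank F (LinearMap.ker (Matrix.toBilin' S)) = S.rank := by
    unfold rad at h4
    omega
  rw [← h6]
  exact h3



/-- Conjugacy of involutions in the symplectic group Sp_{2m}(F), F a finite field of characteristic two, m ≥ 2 (Sp taken as the matrices A with A J Aᵀ = J, acting on column vectors, with the alternating form f(u, v) = u ⬝ (J v)). For an involution t write V(t) for the set of vectors v with f(v, t v) = 0 (a subspace). Two involutions a, b are conjugate in Sp_{2m}(F) exactly when a − 1 and b − 1 have the same rank and, in case that rank is even, V(a) and V(b) have the same number of elements. -/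
theorem result {F : Type*} [Field F] [Fintype F] [CharP F 2] {m : ℕ} (hm : 2 ≤ m) (a b : ↥(Matrix.symplecticGroup (Fin m) F)) (ha : orderOf a = 2) (hb : orderOf b = 2) :
    IsConj a b ↔ ((((a : ↥(Matrix.symplecticGroup (Fin m) F)) : Matrix (Fin m ⊕ Fin m) (Fin m ⊕ Fin m) F) - 1).rank = (((b : ↥(Matrix.symplecticGroup (Fin m) F)) : Matrix (Fin m ⊕ Fin m) (Fin m ⊕ Fin m) F) - 1).rank ∧
      (Even (((a : ↥(Matrix.symplecticGroup (Fin m) F)) : Matrix (Fin m ⊕ Fin m) (Fin m ⊕ Fin m) F) - 1).rank → Nat.card {v : Fin m ⊕ Fin m → F // Cfsg.sympForm m F v (Matrix.mulVec ((a : ↥(Matrix.symplecticGroup (Fin m) F)) : Matrix (Fin m ⊕ Fin m) (Fin m ⊕ Fin m) F) v) = 0} = Nat.card {v : Fin m ⊕ Fin m → F // Cfsg.sympForm m F v (Matrix.mulVec ((b : ↥(Matrix.symplecticGroup (Fin m) F)) : Matrix (Fin m ⊕ Fin m) (Fin m ⊕ Fin m) F) v) = 0})) := by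
  classical
  have ha2 : a * a = 1 := by
    rw [← sq, ← ha]; exact pow_orderOf_eq_one a
  have hb2 : b * b = 1 := by
    rw [← sq, ← hb]; exact pow_orderOf_eq_one b
  have hsq : ∀ x : F, ∃ y : F, y * y = x := by
    intro x
    obtain ⟨r, hr⟩ := FiniteField.isSquare_of_char_two (ringChar.eq F 2) x
    exact ⟨r, hr.symm⟩
  constructor
  · intro hab
    rw [isConj_iff] at hab
    obtain ⟨c, rfl⟩ := hab
    refine ⟨(rank_conj_sub_one c a).symm, fun _ => ?_⟩
    apply Nat.card_congr
    refine Equiv.subtypeEquiv (spEquiv c).toEquiv (fun v => ?_)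
    show _ ↔ Cfsg.sympForm m F ((c : Matrix (Fin m ⊕ Fin m) (Fin m ⊕ Fin m) F) *ᵥ v) _ = 0
    rw [coe_mul_mulVec, coe_mul_mulVec]
    have : ((c⁻¹ : Matrix.symplecticGroup (Fin m) F) : Matrix (Fin m ⊕ Fin m) (Fin m ⊕ Fin m) F) *ᵥ
        ((c : Matrix (Fin m ⊕ Fin m) (Fin m ⊕ Fin m) F) *ᵥ v) = v := inv_mulVec_mulVec c v
    show _ ↔ Cfsg.sympForm m F ((c : Matrix (Fin m ⊕ Fin m) (Fin m ⊕ Fin m) F) *ᵥ v)
      ((c : Matrix (Fin m ⊕ Fin m) (Fin m ⊕ Fin m) F) *ᵥ
        ((a : Matrix (Fin m ⊕ Fin m) (Fin m ⊕ Fin m) F) *ᵥ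
          (((c⁻¹ : Matrix.symplecticGroup (Fin m) F) : Matrix (Fin m ⊕ Fin m) (Fin m ⊕ Fin m) F) *ᵥ
            ((c : Matrix (Fin m ⊕ Fin m) (Fin m ⊕ Fin m) F) *ᵥ v)))) = 0
    rw [this, form_mulVec]
  · rintro ⟨hrank, hcard⟩
    apply conj_of_same_type hsq a b ha2 hb2 hrank
    by_cases hev : Even ((a : Matrix (Fin m ⊕ Fin m) (Fin m ⊕ Fin m) F) - 1).rank
    · have hc := hcard hev
      rw [Nat.card_eq_fintype_card, Nat.card_eq_fintype_card] at hc
      constructor
      · intro h
        by_contra hcon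
        unfold IsAltInv at hcon
        push Not at hcon
        obtain ⟨v, hv⟩ := hcon
        have h1 := Fintype.card_subtype_lt (p := fun v : Fin m ⊕ Fin m → F => Cfsg.sympForm m F v
          (Matrix.mulVec (b : Matrix (Fin m ⊕ Fin m) (Fin m ⊕ Fin m) F) v) = 0) hv
        have h2 : Fintype.card {v : Fin m ⊕ Fin m → F // Cfsg.sympForm m F v
          (Matrix.mulVec (a : Matrix (Fin m ⊕ Fin m) (Fin m ⊕ Fin m) F) v) = 0} =
            Fintype.card (Fin m ⊕ Fin m → F) := by
          exact Fintype.card_congr (Equiv.subtypeUnivEquiv h)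
        omega
      · intro h
        by_contra hcon
        unfold IsAltInv at hcon
        push Not at hcon
        obtain ⟨v, hv⟩ := hcon
        have h1 := Fintype.card_subtype_lt (p := fun v : Fin m ⊕ Fin m → F => Cfsg.sympForm m F v
          (Matrix.mulVec (a : Matrix (Fin m ⊕ Fin m) (Fin m ⊕ Fin m) F) v) = 0) hv
        have h2 : Fintype.card {v : Fin m ⊕ Fin m → F // Cfsg.sympForm m F v
          (Matrix.mulVec (b : Matrix (Fin m ⊕ Fin m) (Fin m ⊕ Fin m) F) v) = 0} =
            Fintype.card (Fin m ⊕ Fin m → F) := by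
          exact Fintype.card_congr (Equiv.subtypeUnivEquiv h)
        omega
    · constructor
      · intro h
        exact absurd (even_rank_of_isAltInv a ha2 h) hev
      · intro h
        rw [hrank] at hev
        exact absurd (even_rank_of_isAltInv b hb2 h) hev


end Cfsg.Agent.S2166
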