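import Cfsg.Statements.S2593
import Cfsg.Agent.S2166

set_option autoImplicit false
open Cfsg

namespace Cfsg.Agent.S2593


open Matrix Module Cfsg.Agent.Lib.Helper2.Symp Cfsg.Agent.Lib.Helper1.SpBasic
  Cfsg.Agent.Lib.Helper2.SpIsom Cfsg.Agent.Lib.Helper5.SpInv2 Cfsg.Agent.Lib.Helper5.Char2Form

variable {F : Type*} [Field F]

section blocks
variable {α β : Type*} [Fintype α] [Fintype β] [DecidableEq α] [DecidableEq β]

/-- Extension by zero of vectors. -/
def extLin (α β : Type*) (F : Type*) [Field F] : (α → F) →ₗ[F] (α ⊕ β → F) where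
  toFun x := Sum.elim x 0
  map_add' x y := by funext i; rcases i with i | i <;> simp
  map_smul' c x := by funext i; rcases i with i | i <;> simp

theorem extLin_injective : Function.Injective (extLin α β F) := by
  intro x y h
  funext i
  exact congrFun h (Sum.inl i)

theorem rank_fromBlocks₁₁ (A : Matrix α α F) :
    (Matrix.fromBlocks A (0 : Matrix α β F) (0 : Matrix β α F) (0 : Matrix β β F)).rank =
      A.rank := by
  unfold Matrix.rank
  have h1 : LinearMap.range (Matrix.fromBlocks A (0 : Matrix α β F) (0 : Matrix β α F)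
      (0 : Matrix β β F)).mulVecLin = (LinearMap.range A.mulVecLin).map (extLin α β F) := by
    ext y
    constructor
    · rintro ⟨v, rfl⟩
      refine ⟨A *ᵥ (fun i => v (Sum.inl i)), ⟨_, rfl⟩, ?_⟩
      rw [Matrix.mulVecLin_apply, Matrix.fromBlocks_mulVec]
      funext k
      rcases k with k | k
      · simp only [Sum.elim_inl, Matrix.zero_mulVec, add_zero]
        rfl
      · simp only [Sum.elim_inr, Matrix.zero_mulVec, add_zero, Pi.zero_apply]
        rfl
    · rintro ⟨_, ⟨w, rfl⟩, rfl⟩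
      refine ⟨Sum.elim w 0, ?_⟩
      rw [Matrix.mulVecLin_apply, Matrix.fromBlocks_mulVec]
      funext k
      rcases k with k | k
      · simp only [Sum.elim_inl, Matrix.zero_mulVec, add_zero]
        rfl
      · simp only [Sum.elim_inr, Matrix.zero_mulVec, add_zero, Pi.zero_apply]
        rfl
  rw [h1]
  exact (Submodule.equivMapOfInjective (extLin α β F) extLin_injective _).finrank_eq.symm

end blocks

section reps

theorem exists_nonalt (m s : ℕ) (hs1 : 1 ≤ s) (hsm : s ≤ m) :
    ∃ S : Matrix (Fin m) (Fin m) F, Sᵀ = S ∧ S.rank = s ∧ ∃ y : Fin m → F, y ⬝ᵥ S *ᵥ y ≠ 0 := by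
  classical
  refine ⟨Matrix.diagonal (fun i : Fin m => if i.val < s then 1 else 0),
    Matrix.diagonal_transpose _, ?_, ?_⟩
  · rw [Matrix.rank_diagonal, Fintype.card_subtype]
    have h1 : (Finset.univ.filter (fun i : Fin m => (if i.val < s then (1 : F) else 0) ≠ 0)) =
        Finset.univ.filter (fun i : Fin m => (i : ℕ) < s) := by
      ext i
      simp only [Finset.mem_filter, Finset.mem_univ, true_and]
      split_ifs with h
      · simp [h]
      · simp [h]
    rw [h1, Fin.card_filter_val_lt]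
    omega
  · refine ⟨Pi.single ⟨0, by omega⟩ 1, ?_⟩
    rw [Matrix.mulVec_single_one, single_dotProduct, one_mul]
    show Matrix.diagonal (fun i : Fin m => if i.val < s then (1 : F) else 0) ⟨0, by omega⟩
      ⟨0, by omega⟩ ≠ 0
    rw [Matrix.diagonal_apply_eq, if_pos (by show 0 < s; omega)]
    exact one_ne_zero

theorem exists_alt [CharP F 2] (m k : ℕ) (hk : 2 * k ≤ m) :
    ∃ S : Matrix (Fin m) (Fin m) F, Sᵀ = S ∧ S.rank = 2 * k ∧ ∀ y : Fin m → F, y ⬝ᵥ S *ᵥ y = 0 := by
  classical
  have hm : k + k + (m - 2 * k) = m := by omega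
  obtain ⟨e, -⟩ : ∃ e : (Fin k ⊕ Fin k) ⊕ Fin (m - 2 * k) ≃ Fin m, True :=
    ⟨((Equiv.sumCongr finSumFinEquiv (Equiv.refl _)).trans finSumFinEquiv).trans (finCongr hm),
      trivial⟩
  have hJ : (Matrix.J (Fin k) F)ᵀ = Matrix.J (Fin k) F := by
    rw [Matrix.J_transpose]
    ext i j
    rw [Matrix.neg_apply]
    exact neg_eq_self _
  refine ⟨Matrix.reindex e e (Matrix.fromBlocks (Matrix.J (Fin k) F) 0 0 0), ?_, ?_, ?_⟩
  · rw [Matrix.transpose_reindex, Matrix.fromBlocks_transpose, hJ]
    simp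
  · rw [Matrix.rank_reindex, rank_fromBlocks₁₁, Matrix.rank_of_isUnit _
      ((Matrix.isUnit_iff_isUnit_det _).2 (Matrix.isUnit_det_J (Fin k) F)), Fintype.card_sum, Fintype.card_fin]
    omega
  · intro y
    rw [Matrix.reindex_apply, Matrix.submatrix_mulVec_equiv, Equiv.symm_symm,
      dotProduct_comp_equiv_symm, Matrix.fromBlocks_mulVec, dotProduct, Fintype.sum_sum_type]
    simp only [Sum.elim_inl, Sum.elim_inr, Matrix.zero_mulVec, add_zero, Pi.zero_apply, mul_zero,
      Finset.sum_const_zero]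
    exact dot_J_self _

end reps

section main
variable {m : ℕ}

theorem eq_zero_of_rank_eq_zero {ι : Type*} [Fintype ι] [DecidableEq ι] (A : Matrix ι ι F)
    (h : A.rank = 0) : A = 0 := by
  unfold Matrix.rank at h
  have h1 : LinearMap.range A.mulVecLin = ⊥ := Submodule.finrank_eq_zero.1 h
  ext i j
  have h2 : A *ᵥ Pi.single j 1 ∈ LinearMap.range A.mulVecLin := ⟨_, rfl⟩
  rw [h1, Submodule.mem_bot] at h2
  have := congrFun h2 i
  rw [Matrix.mulVec_single_one] at this
  exact this

theorem uS_mul_self [CharP F 2] (S : Matrix (Fin m) (Fin m) F) (hS : Sᵀ = S) :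
    uS S hS * uS S hS = 1 := by
  apply Subtype.ext
  show uMat S * uMat S = 1
  unfold uMat
  rw [Matrix.fromBlocks_multiply]
  simp only [Matrix.one_mul, Matrix.mul_one, Matrix.zero_mul, Matrix.mul_zero, add_zero, zero_add]
  have : S + S = 0 := by
    ext i j
    exact CharTwo.add_self_eq_zero _
  rw [this, Matrix.fromBlocks_one]

theorem orderOf_uS [CharP F 2] (S : Matrix (Fin m) (Fin m) F) (hS : Sᵀ = S) (h0 : S ≠ 0) :
    orderOf (uS S hS) = 2 := by
  apply orderOf_eq_prime
  · rw [sq]; exact uS_mul_self S hS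
  · intro h
    apply h0
    have h1 : uMat S = 1 := congrArg Subtype.val h
    have h2 := congrArg Matrix.toBlocks₁₂ h1
    unfold uMat at h2
    rw [Matrix.toBlocks_fromBlocks₁₂, ← Matrix.fromBlocks_one, Matrix.toBlocks_fromBlocks₁₂] at h2
    exact h2

theorem sq_of_orderOf {G : Type*} [Group G] (g : G) (h : orderOf g = 2) : g * g = 1 := by
  rw [← sq, ← h]; exact pow_orderOf_eq_one g

end main



/-- Number of conjugacy classes of involutions in the symplectic group Sp_2m(F) over a finite field of characteristic two (m ≥ 1): for each s with 1 ≤ s ≤ m there is one class with rank(t − 1) = s if s is odd and two if s is even (according as v ↦ f(v, tv), f the symplectic form, vanishes identically or not), so m + ⌊m/2⌋ classes in all. -/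
theorem result {F : Type*} [Field F] [Fintype F] [CharP F 2] {m : ℕ} (hm : 1 ≤ m) : Nat.card {C : ConjClasses ↥(Matrix.symplecticGroup (Fin m) F) // ∃ g : Matrix.symplecticGroup (Fin m) F, ConjClasses.mk g = C ∧ orderOf g = 2} = m + m / 2 := by
  classical
  have hsq : ∀ x : F, ∃ y : F, y * y = x := by
    intro x
    obtain ⟨r, hr⟩ := FiniteField.isSquare_of_char_two (ringChar.eq F 2) x
    exact ⟨r, hr.symm⟩
  -- the target set
  obtain ⟨T, hTdef⟩ : ∃ T : Finset (ℕ × Bool), T = ((Finset.Icc 1 m).image (fun s => (s, false))) ∪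
      (((Finset.Icc 1 m).filter (fun s => 2 ∣ s)).image (fun s => (s, true))) := ⟨_, rfl⟩
  have hTmem : ∀ p : ℕ × Bool, p ∈ T ↔ (1 ≤ p.1 ∧ p.1 ≤ m ∧ (p.2 = true → 2 ∣ p.1)) := by
    rintro ⟨s, b⟩
    rw [hTdef]
    simp only [Finset.mem_union, Finset.mem_image, Finset.mem_Icc, Finset.mem_filter, Prod.mk.injEq]
    constructor
    · rintro (⟨s', ⟨h1, h2⟩, rfl, rfl⟩ | ⟨s', ⟨⟨h1, h2⟩, h3⟩, rfl, rfl⟩)
      · exact ⟨h1, h2, fun h => absurd h (by simp)⟩
      · exact ⟨h1, h2, fun _ => h3⟩
    · rintro ⟨h1, h2, h3⟩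
      cases b
      · left; exact ⟨s, ⟨h1, h2⟩, rfl, rfl⟩
      · right; exact ⟨s, ⟨⟨h1, h2⟩, h3 rfl⟩, rfl, rfl⟩
  have hTcard : T.card = m + m / 2 := by
    rw [hTdef, Finset.card_union_of_disjoint, Finset.card_image_of_injective,
      Finset.card_image_of_injective, Nat.card_Icc]
    · have : Finset.Icc 1 m = Finset.Ioc 0 m := by
        ext x; simp only [Finset.mem_Icc, Finset.mem_Ioc]; omega
      rw [this, Nat.Ioc_filter_dvd_card_eq_div]
      omega
    · intro a b h; exact (Prod.mk.inj h).1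
    · intro a b h; exact (Prod.mk.inj h).1
    · rw [Finset.disjoint_left]
      intro p hp1 hp2
      obtain ⟨s, -, rfl⟩ := Finset.mem_image.1 hp1
      obtain ⟨s', -, h⟩ := Finset.mem_image.1 hp2
      exact absurd (Prod.mk.inj h).2 (by simp)
  -- the invariant
  obtain ⟨inv, hinv⟩ : ∃ inv : Matrix.symplecticGroup (Fin m) F → ℕ × Bool, ∀ g, inv g =
      (((g : Matrix (Fin m ⊕ Fin m) (Fin m ⊕ Fin m) F) - 1).rank, decide (IsAltInv g)) :=
    ⟨_, fun _ => rfl⟩
  have hinv_conj : ∀ c g, inv (c * g * c⁻¹) = inv g := by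
    intro c g
    rw [hinv, hinv, rank_conj_sub_one]
    congr 1
    rw [decide_eq_decide]
    exact isAltInv_conj c g
  have hinv_uS : ∀ (S : Matrix (Fin m) (Fin m) F) (hS : Sᵀ = S),
      inv (uS S hS) = (S.rank, decide (∀ y : Fin m → F, y ⬝ᵥ S *ᵥ y = 0)) := by
    intro S hS
    rw [hinv]
    congr 1
    · exact rank_uMat_sub_one S
    · rw [decide_eq_decide]
      exact isAltInv_uS S hS
  have hinv_mem : ∀ g, orderOf g = 2 → inv g ∈ T := by
    intro g hg
    have hg2 := sq_of_orderOf g hg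
    obtain ⟨c, S, hS, hc⟩ := exists_conj_uMat g hg2
    have hc' : c * g * c⁻¹ = uS S hS := Subtype.ext hc
    rw [← hinv_conj c g, hc', hinv_uS, hTmem]
    refine ⟨?_, ?_, ?_⟩
    · show 1 ≤ S.rank
      by_contra h0
      have hS0 : S = 0 := eq_zero_of_rank_eq_zero S (by omega)
      have h1 : c * g * c⁻¹ = 1 := by
        rw [hc']
        apply Subtype.ext
        show uMat S = 1
        rw [hS0]
        unfold uMat
        exact Matrix.fromBlocks_one
      have h2 : g = 1 := by
        have : g = c⁻¹ * (c * g * c⁻¹) * c := by group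
        rw [this, h1]; group
      rw [h2, orderOf_one] at hg
      omega
    · show S.rank ≤ m
      have := Matrix.rank_le_card_width S
      rw [Fintype.card_fin] at this
      exact this
    · intro halt
      have halt' : ∀ y : Fin m → F, y ⬝ᵥ S *ᵥ y = 0 := of_decide_eq_true halt
      have h3 := Cfsg.Agent.S2166.even_rank_of_isAltInv (uS S hS) (uS_mul_self S hS)
        ((isAltInv_uS S hS).2 halt')
      have h4 : ((uS S hS : Matrix.symplecticGroup (Fin m) F) :
          Matrix (Fin m ⊕ Fin m) (Fin m ⊕ Fin m) F) = uMat S := rfl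
      rw [h4, rank_uMat_sub_one] at h3
      exact even_iff_two_dvd.1 h3
  have hinv_inj : ∀ g h, orderOf g = 2 → orderOf h = 2 → inv g = inv h → IsConj g h := by
    intro g h hg hh hgh
    rw [hinv, hinv] at hgh
    have h1 := (Prod.mk.inj hgh).1
    have h2 := (Prod.mk.inj hgh).2
    rw [decide_eq_decide] at h2
    exact conj_of_same_type hsq g h (sq_of_orderOf g hg) (sq_of_orderOf h hh) h1 h2
  have hinv_surj : ∀ p ∈ T, ∃ g, orderOf g = 2 ∧ inv g = p := by
    rintro ⟨s, b⟩ hp
    rw [hTmem] at hp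
    obtain ⟨h1, h2, h3⟩ := hp
    cases b
    · obtain ⟨S, hS, hrk, y, hy⟩ := exists_nonalt (F := F) m s h1 h2
      have hS0 : S ≠ 0 := by
        intro h0
        rw [h0, Matrix.rank_zero] at hrk
        omega
      refine ⟨uS S hS, orderOf_uS S hS hS0, ?_⟩
      rw [hinv_uS, hrk]
      congr 1
      rw [decide_eq_false_iff_not]
      intro h
      exact hy (h y)
    · obtain ⟨k, rfl⟩ := h3 rfl
      obtain ⟨S, hS, hrk, halt⟩ := exists_alt (F := F) m k h2
      have hS0 : S ≠ 0 := by
        intro h0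
        rw [h0, Matrix.rank_zero] at hrk
        omega
      refine ⟨uS S hS, orderOf_uS S hS hS0, ?_⟩
      rw [hinv_uS, hrk]
      congr 1
      rw [decide_eq_true_iff]
      exact halt
  -- the bijection
  have hchoose : ∀ C : {C : ConjClasses ↥(Matrix.symplecticGroup (Fin m) F) //
      ∃ g : Matrix.symplecticGroup (Fin m) F, ConjClasses.mk g = C ∧ orderOf g = 2},
      ∃ g : Matrix.symplecticGroup (Fin m) F, ConjClasses.mk g = C.1 ∧ orderOf g = 2 := fun C => C.2
  choose rep hrep1 hrep2 using hchoose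
  have hbij : Function.Bijective (fun C : {C : ConjClasses ↥(Matrix.symplecticGroup (Fin m) F) //
      ∃ g : Matrix.symplecticGroup (Fin m) F, ConjClasses.mk g = C ∧ orderOf g = 2} =>
      (⟨inv (rep C), hinv_mem _ (hrep2 C)⟩ : T)) := by
    constructor
    · intro C C' h
      have h1 : inv (rep C) = inv (rep C') := congrArg Subtype.val h
      have h2 := hinv_inj _ _ (hrep2 C) (hrep2 C') h1
      apply Subtype.ext
      rw [← hrep1 C, ← hrep1 C']
      exact ConjClasses.mk_eq_mk_iff_isConj.2 h2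
    · rintro ⟨p, hp⟩
      obtain ⟨g, hg, hgp⟩ := hinv_surj p hp
      refine ⟨⟨ConjClasses.mk g, g, rfl, hg⟩, ?_⟩
      apply Subtype.ext
      show inv (rep ⟨ConjClasses.mk g, g, rfl, hg⟩) = p
      have h1 := hrep1 ⟨ConjClasses.mk g, g, rfl, hg⟩
      have h2 : IsConj (rep ⟨ConjClasses.mk g, g, rfl, hg⟩) g :=
        ConjClasses.mk_eq_mk_iff_isConj.1 h1
      rw [isConj_iff] at h2
      obtain ⟨c, hc⟩ := h2
      rw [← hgp]
      exact (hinv_conj c _).symm.trans (congrArg inv hc)
  rw [Nat.card_congr (Equiv.ofBijective _ hbij), Nat.card_eq_fintype_card, Fintype.card_coe, hTcard]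


end Cfsg.Agent.S2593
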