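import Cfsg.Statements.S2595
import Cfsg.Agent.S2593
import Cfsg.Agent.Lib.Helper5.InvConj
import Cfsg.Agent.Lib.Helper2.QuadStd

set_option autoImplicit false
open Cfsg

namespace Cfsg.Agent.S2595


open Matrix Module Cfsg.Agent.Lib.Helper2.Symp Cfsg.Agent.Lib.Helper1.SpBasic
  Cfsg.Agent.Lib.Helper5.SpInv2 Cfsg.Agent.Lib.Helper5.InvConj Cfsg.Agent.Lib.Helper2.QuadStd
  Cfsg.Agent.Lib.Helper5.QuadGlue

variable {F : Type*} [Field F] {m : ℕ}

section basics
variable [CharP F 2]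

theorem polar_eq_symp (u v : Fin m ⊕ Fin m → F) :
    Cfsg.quadFormPlus m F (u + v) - Cfsg.quadFormPlus m F u - Cfsg.quadFormPlus m F v =
      Cfsg.sympForm m F u v := by
  have h := polar_plus (F := F) m u v
  rw [QP_coe] at h
  unfold QuadraticMap.polar at h
  rw [h]
  unfold Cfsg.sympForm
  rw [dotProduct, Fintype.sum_sum_type, ← Finset.sum_add_distrib]
  apply Finset.sum_congr rfl
  intro i _
  rw [J_mulVec_apply_inl, J_mulVec_apply_inr, mul_neg, Cfsg.Agent.Lib.Helper5.SpInv2.neg_eq_self]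
  ring

/-- the symplectic group as a subgroup of GL -/
def spToGL (m : ℕ) (F : Type*) [Field F] :
    Matrix.symplecticGroup (Fin m) F →* Matrix.GeneralLinearGroup (Fin m ⊕ Fin m) F :=
  (Matrix.symplecticGroup (Fin m) F).subtype.toHomUnits

omit [CharP F 2] in
theorem spToGL_coe (c : Matrix.symplecticGroup (Fin m) F) :
    ((spToGL m F c : Matrix.GeneralLinearGroup (Fin m ⊕ Fin m) F) :
      Matrix (Fin m ⊕ Fin m) (Fin m ⊕ Fin m) F) = c.1 := rfl

theorem iso_mem_sp (t : ↥(Cfsg.isometryGroup F (Cfsg.quadFormPlus m F))) :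
    ((t : Matrix.GeneralLinearGroup (Fin m ⊕ Fin m) F) :
      Matrix (Fin m ⊕ Fin m) (Fin m ⊕ Fin m) F) ∈ Matrix.symplecticGroup (Fin m) F := by
  rw [Cfsg.Agent.Lib.Helper1.SpCard.mem_symplectic_iff_form]
  intro x y
  have ht : ∀ v, Cfsg.quadFormPlus m F (((t : Matrix.GeneralLinearGroup (Fin m ⊕ Fin m) F) :
      Matrix (Fin m ⊕ Fin m) (Fin m ⊕ Fin m) F) *ᵥ v) = Cfsg.quadFormPlus m F v :=
    fun v => t.2 v v
  rw [← polar_eq_symp, ← polar_eq_symp, ← Matrix.mulVec_add, ht, ht, ht]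

/-- the orthogonal group inside the symplectic group -/
def toSp (m : ℕ) (F : Type*) [Field F] [CharP F 2] :
    ↥(Cfsg.isometryGroup F (Cfsg.quadFormPlus m F)) →* Matrix.symplecticGroup (Fin m) F where
  toFun t := ⟨_, iso_mem_sp t⟩
  map_one' := rfl
  map_mul' _ _ := rfl

theorem toSp_coe (t : ↥(Cfsg.isometryGroup F (Cfsg.quadFormPlus m F))) :
    ((toSp m F t : Matrix.symplecticGroup (Fin m) F) : Matrix (Fin m ⊕ Fin m) (Fin m ⊕ Fin m) F) =
      ((t : Matrix.GeneralLinearGroup (Fin m ⊕ Fin m) F) :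
        Matrix (Fin m ⊕ Fin m) (Fin m ⊕ Fin m) F) := rfl

theorem toSp_injective : Function.Injective (toSp m F) := by
  intro t s h
  apply Subtype.ext
  apply Units.ext
  exact congrArg Subtype.val h

theorem spToGL_toSp (t : ↥(Cfsg.isometryGroup F (Cfsg.quadFormPlus m F))) :
    spToGL m F (toSp m F t) = (t : Matrix.GeneralLinearGroup (Fin m ⊕ Fin m) F) :=
  Units.ext rfl

/-- conjugacy in `O` is detected in `Sp` -/
theorem conj_of_sp_conj [Fintype F] (t s : ↥(Cfsg.isometryGroup F (Cfsg.quadFormPlus m F)))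
    (hs : orderOf s = 2) (h : IsConj (toSp m F t) (toSp m F s)) : IsConj t s := by
  have h2 : (2 : F) = 0 := CharTwo.two_eq_zero
  have key : ∀ (t s : ↥(Cfsg.isometryGroup F ⇑(QP m F))), orderOf s = 2 →
      (IsConj t s ↔ ∃ g ∈ Cfsg.preserving (Units.coeHom (Matrix (Fin m ⊕ Fin m) (Fin m ⊕ Fin m) F))
        (fun u v => (⇑(QP m F)) (u + v) - (⇑(QP m F)) u - (⇑(QP m F)) v),
        g * (t : GL (Fin m ⊕ Fin m) F) * g⁻¹ = (s : GL (Fin m ⊕ Fin m) F)) :=
    fun t s hs => conj_iff h2 (QP_nondeg m) t s hs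
  rw [QP_coe] at key
  rw [key t s hs]
  obtain ⟨c, hc⟩ := isConj_iff.1 h
  refine ⟨spToGL m F c, ?_, ?_⟩
  · intro u v
    show Cfsg.quadFormPlus m F (c.1 *ᵥ u + c.1 *ᵥ v) - Cfsg.quadFormPlus m F (c.1 *ᵥ u) -
      Cfsg.quadFormPlus m F (c.1 *ᵥ v) = _
    rw [polar_eq_symp]
    show _ = Cfsg.quadFormPlus m F (u + v) - Cfsg.quadFormPlus m F u - Cfsg.quadFormPlus m F v
    rw [polar_eq_symp]
    exact form_mulVec c u v
  · rw [← spToGL_toSp t, ← spToGL_toSp s, ← map_inv, ← map_mul, ← map_mul, hc]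

end basics

section reps0

theorem Q_uMat (S : Matrix (Fin m) (Fin m) F) (v : Fin m ⊕ Fin m → F) :
    Cfsg.quadFormPlus m F (uMat S *ᵥ v) =
      Cfsg.quadFormPlus m F v + (fun i => v (Sum.inr i)) ⬝ᵥ S *ᵥ (fun i => v (Sum.inr i)) := by
  rw [uMat_mulVec]
  unfold Cfsg.quadFormPlus
  rw [dotProduct, ← Finset.sum_add_distrib]
  apply Finset.sum_congr rfl
  intro i _
  simp only [Pi.add_apply, Sum.elim_inl, Sum.elim_inr, Pi.zero_apply, add_zero]
  ring

/-- lower unitriangular block matrix -/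
def lMat (m : ℕ) (F : Type*) [Field F] : Matrix (Fin m ⊕ Fin m) (Fin m ⊕ Fin m) F :=
  Matrix.fromBlocks 1 0 1 1

theorem lMat_mem : lMat m F ∈ Matrix.symplecticGroup (Fin m) F := by
  have h : lMat m F = (uMat (1 : Matrix (Fin m) (Fin m) F))ᵀ := by
    unfold lMat uMat
    rw [Matrix.fromBlocks_transpose]
    simp
  rw [h]
  exact SymplecticGroup.transpose_mem ((uMat_mem_iff _).2 Matrix.transpose_one)

def lS (m : ℕ) (F : Type*) [Field F] : Matrix.symplecticGroup (Fin m) F := ⟨lMat m F, lMat_mem⟩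

theorem lMat_mulVec (v : Fin m ⊕ Fin m → F) :
    lMat m F *ᵥ v = Sum.elim (fun i => v (Sum.inl i)) (fun i => v (Sum.inl i) + v (Sum.inr i)) := by
  unfold lMat
  rw [Matrix.fromBlocks_mulVec]
  funext k
  rcases k with k | k
  · simp only [Sum.elim_inl, Matrix.one_mulVec, Matrix.zero_mulVec, add_zero, Function.comp_apply,
      Pi.add_apply, Pi.zero_apply]
  · simp only [Sum.elim_inr, Matrix.one_mulVec, Function.comp_apply, Pi.add_apply]

end reps0

section reps
variable [CharP F 2]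

/-- the alternating-type representatives lie in `O⁺` -/
def uO (S : Matrix (Fin m) (Fin m) F) (hS : Sᵀ = S) (halt : ∀ y : Fin m → F, y ⬝ᵥ S *ᵥ y = 0) :
    ↥(Cfsg.isometryGroup F (Cfsg.quadFormPlus m F)) :=
  ⟨spToGL m F (uS S hS), by
    intro u v
    show Cfsg.quadFormPlus m F (uMat S *ᵥ u) = Cfsg.quadFormPlus m F u
    rw [Q_uMat, halt, add_zero]⟩

theorem toSp_uO (S : Matrix (Fin m) (Fin m) F) (hS : Sᵀ = S)
    (halt : ∀ y : Fin m → F, y ⬝ᵥ S *ᵥ y = 0) : toSp m F (uO S hS halt) = uS S hS :=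
  Subtype.ext rfl

theorem lS_mul_self : lS m F * lS m F = 1 := by
  apply ext_mulVec
  intro x
  rw [coe_mul_mulVec, coe_one_mulVec]
  show lMat m F *ᵥ (lMat m F *ᵥ x) = x
  rw [lMat_mulVec, lMat_mulVec]
  funext k
  rcases k with k | k
  · simp
  · simp only [Sum.elim_inr, Sum.elim_inl]
    rw [← add_assoc, CharTwo.add_self_eq_zero, zero_add]

theorem lS_inv : (lS m F)⁻¹ = lS m F := inv_eq_of_mul_eq_one_right lS_mul_self

/-- the diagonal idempotent of rank `s` -/
def dMatS (m s : ℕ) (F : Type*) [Field F] : Matrix (Fin m) (Fin m) F :=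
  Matrix.diagonal (fun i : Fin m => if i.val < s then 1 else 0)

theorem dMatS_transpose (s : ℕ) : (dMatS m s F)ᵀ = dMatS m s F := Matrix.diagonal_transpose _

theorem dMatS_rank (s : ℕ) (hs : s ≤ m) : (dMatS m s F).rank = s := by
  classical
  unfold dMatS
  rw [Matrix.rank_diagonal, Fintype.card_subtype]
  have h1 : (Finset.univ.filter (fun i : Fin m => (if i.val < s then (1 : F) else 0) ≠ 0)) =
      Finset.univ.filter (fun i : Fin m => (i : ℕ) < s) := by
    ext i
    simp only [Finset.mem_filter, Finset.mem_univ, true_and]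
    split_ifs with h
    · simp [h]
    · simp [h]
  rw [h1, Fin.card_filter_val_lt]
  omega

theorem dMatS_nonalt (s : ℕ) (hs1 : 1 ≤ s) (hs : s ≤ m) :
    ¬ ∀ y : Fin m → F, y ⬝ᵥ dMatS m s F *ᵥ y = 0 := by
  classical
  intro h
  have := h (Pi.single ⟨0, by omega⟩ 1)
  rw [Matrix.mulVec_single_one, single_dotProduct, one_mul] at this
  have h2 : dMatS m s F ⟨0, by omega⟩ ⟨0, by omega⟩ = 1 := by
    unfold dMatS
    rw [Matrix.diagonal_apply_eq, if_pos (by show 0 < s; omega)]
  rw [Matrix.col_apply] at this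
  rw [h2] at this
  exact one_ne_zero this

/-- the non-alternating representative in `Sp` -/
def tauS (m s : ℕ) (F : Type*) [Field F] [CharP F 2] : Matrix.symplecticGroup (Fin m) F :=
  lS m F * uS (dMatS m s F) (dMatS_transpose s) * (lS m F)⁻¹

theorem tauS_mulVec (s : ℕ) (v : Fin m ⊕ Fin m → F) :
    (tauS m s F).1 *ᵥ v = Sum.elim
      (fun i => v (Sum.inl i) + (if i.val < s then 1 else 0) * (v (Sum.inl i) + v (Sum.inr i)))
      (fun i => (if i.val < s then 1 else 0) * (v (Sum.inl i) + v (Sum.inr i)) + v (Sum.inr i)) := by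
  unfold tauS
  rw [lS_inv, coe_mul_mulVec, coe_mul_mulVec]
  show lMat m F *ᵥ (uMat (dMatS m s F) *ᵥ (lMat m F *ᵥ v)) = _
  rw [uMat_mulVec, lMat_mulVec, lMat_mulVec]
  funext k
  rcases k with k | k
  · simp only [Sum.elim_inl, Sum.elim_inr, Pi.add_apply, dMatS, Matrix.mulVec_diagonal]
  · simp only [Sum.elim_inl, Sum.elim_inr, Pi.add_apply, dMatS, Matrix.mulVec_diagonal,
      Pi.zero_apply, add_zero]
    have h2 : v (Sum.inl k) + v (Sum.inl k) = 0 := CharTwo.add_self_eq_zero _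
    linear_combination h2

theorem Q_tauS (s : ℕ) (v : Fin m ⊕ Fin m → F) :
    Cfsg.quadFormPlus m F ((tauS m s F).1 *ᵥ v) = Cfsg.quadFormPlus m F v := by
  rw [tauS_mulVec]
  unfold Cfsg.quadFormPlus
  apply Finset.sum_congr rfl
  intro i _
  simp only [Sum.elim_inl, Sum.elim_inr]
  have h2 : (2 : F) = 0 := CharTwo.two_eq_zero
  split_ifs with h
  · linear_combination (v (Sum.inl i) ^ 2 + 2 * v (Sum.inl i) * v (Sum.inr i) + v (Sum.inr i) ^ 2) * h2
  · ring

def tauO (m s : ℕ) (F : Type*) [Field F] [CharP F 2] :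
    ↥(Cfsg.isometryGroup F (Cfsg.quadFormPlus m F)) :=
  ⟨spToGL m F (tauS m s F), fun u _ => Q_tauS s u⟩

theorem toSp_tauO (s : ℕ) : toSp m F (tauO m s F) = tauS m s F := Subtype.ext rfl

end reps

section main
variable [CharP F 2]

theorem orderOf_conj' {G : Type*} [Group G] (c g : G) : orderOf (c * g * c⁻¹) = orderOf g := by
  have h := orderOf_injective (MulAut.conj c).toMonoidHom (MulAut.conj c).injective g
  simpa [MulAut.conj_apply] using h

end main



/-- Number of conjugacy classes of involutions in the full orthogonal group O⁺_2m(F) of the hyperbolic quadratic form Σ x_i y_i over a finite field of characteristic two (m ≥ 1): one class for each odd s ≤ m and two for each even s with 2 ≤ s ≤ m, where s = rank(t − 1); in all m + ⌊m/2⌋. -/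
theorem result {F : Type*} [Field F] [Fintype F] [CharP F 2] {m : ℕ} (hm : 1 ≤ m) : Nat.card {C : ConjClasses ↥(Cfsg.isometryGroup F (Cfsg.quadFormPlus m F)) // ∃ g : ↥(Cfsg.isometryGroup F (Cfsg.quadFormPlus m F)), ConjClasses.mk g = C ∧ orderOf g = 2} = m + m / 2 := by
  classical
  have hsq : ∀ x : F, ∃ y : F, y * y = x := by
    intro x
    obtain ⟨r, hr⟩ := FiniteField.isSquare_of_char_two (ringChar.eq F 2) x
    exact ⟨r, hr.symm⟩
  -- the target set
  obtain ⟨T, hTdef⟩ : ∃ T : Finset (ℕ × Bool), T = ((Finset.Icc 1 m).image (fun s => (s, false))) ∪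
      (((Finset.Icc 1 m).filter (fun s => 2 ∣ s)).image (fun s => (s, true))) := ⟨_, rfl⟩
  have hTmem : ∀ p : ℕ × Bool, p ∈ T ↔ (1 ≤ p.1 ∧ p.1 ≤ m ∧ (p.2 = true → 2 ∣ p.1)) := by
    rintro ⟨s, b⟩
    rw [hTdef]
    simp only [Finset.mem_union, Finset.mem_image, Finset.mem_Icc, Finset.mem_filter, Prod.mk.injEq]
    constructor
    · rintro (⟨s', ⟨h1, h2⟩, rfl, rfl⟩ | ⟨s', ⟨⟨h1, h2⟩, h3⟩, rfl, rfl⟩)
      · exact ⟨h1, h2, fun h => absurd h (by simp)⟩
      · exact ⟨h1, h2, fun _ => h3⟩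
    · rintro ⟨h1, h2, h3⟩
      cases b
      · left; exact ⟨s, ⟨h1, h2⟩, rfl, rfl⟩
      · right; exact ⟨s, ⟨⟨h1, h2⟩, h3 rfl⟩, rfl, rfl⟩
  have hTcard : T.card = m + m / 2 := by
    rw [hTdef, Finset.card_union_of_disjoint, Finset.card_image_of_injective,
      Finset.card_image_of_injective, Nat.card_Icc]
    · have : Finset.Icc 1 m = Finset.Ioc 0 m := by
        ext x; simp only [Finset.mem_Icc, Finset.mem_Ioc]; omega
      rw [this, Nat.Ioc_filter_dvd_card_eq_div]
      omega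
    · intro a b h; exact (Prod.mk.inj h).1
    · intro a b h; exact (Prod.mk.inj h).1
    · rw [Finset.disjoint_left]
      intro p hp1 hp2
      obtain ⟨s, -, rfl⟩ := Finset.mem_image.1 hp1
      obtain ⟨s', -, h⟩ := Finset.mem_image.1 hp2
      exact absurd (Prod.mk.inj h).2 (by simp)
  -- the invariant on `Sp`
  obtain ⟨inv, hinv⟩ : ∃ inv : Matrix.symplecticGroup (Fin m) F → ℕ × Bool, ∀ g, inv g =
      (((g : Matrix (Fin m ⊕ Fin m) (Fin m ⊕ Fin m) F) - 1).rank, decide (IsAltInv g)) :=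
    ⟨_, fun _ => rfl⟩
  have hinv_conj : ∀ c g, inv (c * g * c⁻¹) = inv g := by
    intro c g
    rw [hinv, hinv, rank_conj_sub_one]
    congr 1
    rw [decide_eq_decide]
    exact isAltInv_conj c g
  have hinv_uS : ∀ (S : Matrix (Fin m) (Fin m) F) (hS : Sᵀ = S),
      inv (uS S hS) = (S.rank, decide (∀ y : Fin m → F, y ⬝ᵥ S *ᵥ y = 0)) := by
    intro S hS
    rw [hinv]
    congr 1
    · exact rank_uMat_sub_one S
    · rw [decide_eq_decide]
      exact isAltInv_uS S hS
  have hinv_mem : ∀ g, orderOf g = 2 → inv g ∈ T := by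
    intro g hg
    have hg2 := Cfsg.Agent.S2593.sq_of_orderOf g hg
    obtain ⟨c, S, hS, hc⟩ := exists_conj_uMat g hg2
    have hc' : c * g * c⁻¹ = uS S hS := Subtype.ext hc
    rw [← hinv_conj c g, hc', hinv_uS, hTmem]
    refine ⟨?_, ?_, ?_⟩
    · show 1 ≤ S.rank
      by_contra h0
      have hS0 : S = 0 := Cfsg.Agent.S2593.eq_zero_of_rank_eq_zero S (by omega)
      have h1 : c * g * c⁻¹ = 1 := by
        rw [hc']
        apply Subtype.ext
        show uMat S = 1
        rw [hS0]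
        unfold uMat
        exact Matrix.fromBlocks_one
      have h2 : g = 1 := by
        have : g = c⁻¹ * (c * g * c⁻¹) * c := by group
        rw [this, h1]; group
      rw [h2, orderOf_one] at hg
      omega
    · show S.rank ≤ m
      have := Matrix.rank_le_card_width S
      rw [Fintype.card_fin] at this
      exact this
    · intro halt
      have halt' : ∀ y : Fin m → F, y ⬝ᵥ S *ᵥ y = 0 := of_decide_eq_true halt
      have h3 := Cfsg.Agent.S2166.even_rank_of_isAltInv (uS S hS) (Cfsg.Agent.S2593.uS_mul_self S hS)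
        ((isAltInv_uS S hS).2 halt')
      have h4 : ((uS S hS : Matrix.symplecticGroup (Fin m) F) :
          Matrix (Fin m ⊕ Fin m) (Fin m ⊕ Fin m) F) = uMat S := rfl
      rw [h4, rank_uMat_sub_one] at h3
      exact even_iff_two_dvd.1 h3
  have hord : ∀ g : ↥(Cfsg.isometryGroup F (Cfsg.quadFormPlus m F)),
      orderOf (toSp m F g) = orderOf g := fun g => orderOf_injective (toSp m F) toSp_injective g
  have hinv_inj : ∀ g h : ↥(Cfsg.isometryGroup F (Cfsg.quadFormPlus m F)),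
      orderOf g = 2 → orderOf h = 2 → inv (toSp m F g) = inv (toSp m F h) → IsConj g h := by
    intro g h hg hh hgh
    rw [hinv, hinv] at hgh
    have h1 := (Prod.mk.inj hgh).1
    have h2 := (Prod.mk.inj hgh).2
    rw [decide_eq_decide] at h2
    apply conj_of_sp_conj g h hh
    exact conj_of_same_type hsq _ _ (Cfsg.Agent.S2593.sq_of_orderOf _ ((hord g).trans hg))
      (Cfsg.Agent.S2593.sq_of_orderOf _ ((hord h).trans hh)) h1 h2
  have hinv_surj : ∀ p ∈ T, ∃ g : ↥(Cfsg.isometryGroup F (Cfsg.quadFormPlus m F)),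
      orderOf g = 2 ∧ inv (toSp m F g) = p := by
    rintro ⟨s, b⟩ hp
    rw [hTmem] at hp
    obtain ⟨h1, h2, h3⟩ := hp
    cases b
    · have hD0 : dMatS m s F ≠ 0 := by
        intro h0
        have := dMatS_rank (F := F) s h2
        rw [h0, Matrix.rank_zero] at this
        omega
      refine ⟨tauO m s F, ?_, ?_⟩
      · rw [← hord, toSp_tauO]
        unfold tauS
        rw [orderOf_conj']
        exact Cfsg.Agent.S2593.orderOf_uS _ _ hD0
      · rw [toSp_tauO]
        unfold tauS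
        rw [hinv_conj, hinv_uS, dMatS_rank s h2]
        congr 1
        rw [decide_eq_false_iff_not]
        exact dMatS_nonalt s h1 h2
    · obtain ⟨k, rfl⟩ := h3 rfl
      obtain ⟨S, hS, hrk, halt⟩ := Cfsg.Agent.S2593.exists_alt (F := F) m k h2
      have hS0 : S ≠ 0 := by
        intro h0
        rw [h0, Matrix.rank_zero] at hrk
        omega
      refine ⟨uO S hS halt, ?_, ?_⟩
      · rw [← hord, toSp_uO]
        exact Cfsg.Agent.S2593.orderOf_uS S hS hS0
      · rw [toSp_uO, hinv_uS, hrk]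
        congr 1
        rw [decide_eq_true_iff]
        exact halt
  -- the bijection
  have hchoose : ∀ C : {C : ConjClasses ↥(Cfsg.isometryGroup F (Cfsg.quadFormPlus m F)) //
      ∃ g : ↥(Cfsg.isometryGroup F (Cfsg.quadFormPlus m F)), ConjClasses.mk g = C ∧ orderOf g = 2},
      ∃ g : ↥(Cfsg.isometryGroup F (Cfsg.quadFormPlus m F)), ConjClasses.mk g = C.1 ∧ orderOf g = 2 :=
    fun C => C.2
  choose rep hrep1 hrep2 using hchoose
  have hbij : Function.Bijective (fun C : {C : ConjClasses ↥(Cfsg.isometryGroup F (Cfsg.quadFormPlus m F)) //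
      ∃ g : ↥(Cfsg.isometryGroup F (Cfsg.quadFormPlus m F)), ConjClasses.mk g = C ∧ orderOf g = 2} =>
      (⟨inv (toSp m F (rep C)), hinv_mem _ ((hord _).trans (hrep2 C))⟩ : T)) := by
    constructor
    · intro C C' h
      have h1 : inv (toSp m F (rep C)) = inv (toSp m F (rep C')) := congrArg Subtype.val h
      have h2 := hinv_inj _ _ (hrep2 C) (hrep2 C') h1
      apply Subtype.ext
      rw [← hrep1 C, ← hrep1 C']
      exact ConjClasses.mk_eq_mk_iff_isConj.2 h2
    · rintro ⟨p, hp⟩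
      obtain ⟨g, hg, hgp⟩ := hinv_surj p hp
      refine ⟨⟨ConjClasses.mk g, g, rfl, hg⟩, ?_⟩
      apply Subtype.ext
      show inv (toSp m F (rep ⟨ConjClasses.mk g, g, rfl, hg⟩)) = p
      have h1 := hrep1 ⟨ConjClasses.mk g, g, rfl, hg⟩
      have h2 : IsConj (rep ⟨ConjClasses.mk g, g, rfl, hg⟩) g :=
        ConjClasses.mk_eq_mk_iff_isConj.1 h1
      rw [isConj_iff] at h2
      obtain ⟨c, hc⟩ := h2
      rw [← hgp]
      have h3 := congrArg (fun x => inv (toSp m F x)) hc
      simp only [map_mul, map_inv, hinv_conj] at h3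
      exact h3
  rw [Nat.card_congr (Equiv.ofBijective _ hbij), Nat.card_eq_fintype_card, Fintype.card_coe, hTcard]


end Cfsg.Agent.S2595
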