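import Mathlib
import Cfsg.Agent.Lib.Helper6.TCP.ON
import Cfsg.Agent.Lib.Helper6.TC14
import Cfsg.Agent.Lib.Helper6.TCD.ONa.All
import Cfsg.Statements.S1692

set_option autoImplicit false
open Cfsg

namespace Cfsg.Agent.S1692
open Cfsg.Spor Cfsg.Agent.Lib.Helper6.TC Cfsg.Agent.Lib.Helper6.TCP.ON Cfsg.Agent.Lib.Helper6.TCD.ONa

section helpers
set_option maxRecDepth 100000
set_option linter.unusedSimpArgs false

/-- the generating set of the subgroup -/
abbrev S : Set (FreeGroup ON.Gen) :=
  {ON.a, ON.b, ON.c, ON.d, ON.e, ON.f}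

/-- the words of the generators of the subgroup -/
def subw : List (List ℕ) := [[2], [3], [4], [5], [6], [7]]

theorem wordElt_single2 : wordElt gc [2] = FreeGroup.of ON.Gen.a := by
  rw [wordElt_cons, wordElt_nil, mul_one]
  rfl

theorem wordElt_single3 : wordElt gc [3] = FreeGroup.of ON.Gen.b := by
  rw [wordElt_cons, wordElt_nil, mul_one]
  rfl

theorem wordElt_single4 : wordElt gc [4] = FreeGroup.of ON.Gen.c := by
  rw [wordElt_cons, wordElt_nil, mul_one]
  rfl

theorem wordElt_single5 : wordElt gc [5] = FreeGroup.of ON.Gen.d := by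
  rw [wordElt_cons, wordElt_nil, mul_one]
  rfl

theorem wordElt_single6 : wordElt gc [6] = FreeGroup.of ON.Gen.e := by
  rw [wordElt_cons, wordElt_nil, mul_one]
  rfl

theorem wordElt_single7 : wordElt gc [7] = FreeGroup.of ON.Gen.f := by
  rw [wordElt_cons, wordElt_nil, mul_one]
  rfl

theorem hsw : ∀ s ∈ S, ∃ w ∈ subw, s = wordElt gc w := by
  intro s hs
  simp only [S, Set.mem_insert_iff, Set.mem_singleton_iff] at hs
  rcases hs with rfl | rfl | rfl | rfl | rfl | rfl
  · exact ⟨[2], by simp [subw], (wordElt_single2).symm⟩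
  · exact ⟨[3], by simp [subw], (wordElt_single3).symm⟩
  · exact ⟨[4], by simp [subw], (wordElt_single4).symm⟩
  · exact ⟨[5], by simp [subw], (wordElt_single5).symm⟩
  · exact ⟨[6], by simp [subw], (wordElt_single6).symm⟩
  · exact ⟨[7], by simp [subw], (wordElt_single7).symm⟩

theorem hsw' : ∀ w ∈ subw, (∀ c ∈ w, c < 8) ∧ wordElt gc w ∈ S := by
  intro w hw
  simp only [subw, List.mem_cons, List.mem_nil_iff, or_false] at hw
  rcases hw with rfl | rfl | rfl | rfl | rfl | rfl
  · exact ⟨by decide, by rw [wordElt_single2]; show FreeGroup.of ON.Gen.a ∈ S; simp [S]⟩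
  · exact ⟨by decide, by rw [wordElt_single3]; show FreeGroup.of ON.Gen.b ∈ S; simp [S]⟩
  · exact ⟨by decide, by rw [wordElt_single4]; show FreeGroup.of ON.Gen.c ∈ S; simp [S]⟩
  · exact ⟨by decide, by rw [wordElt_single5]; show FreeGroup.of ON.Gen.d ∈ S; simp [S]⟩
  · exact ⟨by decide, by rw [wordElt_single6]; show FreeGroup.of ON.Gen.e ∈ S; simp [S]⟩
  · exact ⟨by decide, by rw [wordElt_single7]; show FreeGroup.of ON.Gen.f ∈ S; simp [S]⟩

theorem chkW : allB (chkWord WD WI base subw Cfsg.Agent.Lib.Helper6.TCD.ONa.INV ncol nrw) nw = true := by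
  decide +kernel

theorem hS : ∀ s < n * ncol, chkSlot SH SC NH NC WD n ncol nrw nw tmax Cfsg.Agent.Lib.Helper6.TCD.ONa.INV s = true := by
  intro s hs
  have hs' : s < 1828840 := hs
  by_cases h0 : s < 8000
  · exact allR_spec chkS0 s (by omega) (by omega)
  by_cases h1 : s < 16000
  · exact allR_spec chkS1 s (by omega) (by omega)
  by_cases h2 : s < 24000
  · exact allR_spec chkS2 s (by omega) (by omega)
  by_cases h3 : s < 32000
  · exact allR_spec chkS3 s (by omega) (by omega)
  by_cases h4 : s < 40000
  · exact allR_spec chkS4 s (by omega) (by omega)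
  by_cases h5 : s < 48000
  · exact allR_spec chkS5 s (by omega) (by omega)
  by_cases h6 : s < 56000
  · exact allR_spec chkS6 s (by omega) (by omega)
  by_cases h7 : s < 64000
  · exact allR_spec chkS7 s (by omega) (by omega)
  by_cases h8 : s < 72000
  · exact allR_spec chkS8 s (by omega) (by omega)
  by_cases h9 : s < 80000
  · exact allR_spec chkS9 s (by omega) (by omega)
  by_cases h10 : s < 88000
  · exact allR_spec chkS10 s (by omega) (by omega)
  by_cases h11 : s < 96000
  · exact allR_spec chkS11 s (by omega) (by omega)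
  by_cases h12 : s < 104000
  · exact allR_spec chkS12 s (by omega) (by omega)
  by_cases h13 : s < 112000
  · exact allR_spec chkS13 s (by omega) (by omega)
  by_cases h14 : s < 120000
  · exact allR_spec chkS14 s (by omega) (by omega)
  by_cases h15 : s < 128000
  · exact allR_spec chkS15 s (by omega) (by omega)
  by_cases h16 : s < 136000
  · exact allR_spec chkS16 s (by omega) (by omega)
  by_cases h17 : s < 144000
  · exact allR_spec chkS17 s (by omega) (by omega)
  by_cases h18 : s < 152000
  · exact allR_spec chkS18 s (by omega) (by omega)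
  by_cases h19 : s < 160000
  · exact allR_spec chkS19 s (by omega) (by omega)
  by_cases h20 : s < 168000
  · exact allR_spec chkS20 s (by omega) (by omega)
  by_cases h21 : s < 176000
  · exact allR_spec chkS21 s (by omega) (by omega)
  by_cases h22 : s < 184000
  · exact allR_spec chkS22 s (by omega) (by omega)
  by_cases h23 : s < 192000
  · exact allR_spec chkS23 s (by omega) (by omega)
  by_cases h24 : s < 200000
  · exact allR_spec chkS24 s (by omega) (by omega)
  by_cases h25 : s < 208000
  · exact allR_spec chkS25 s (by omega) (by omega)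
  by_cases h26 : s < 216000
  · exact allR_spec chkS26 s (by omega) (by omega)
  by_cases h27 : s < 224000
  · exact allR_spec chkS27 s (by omega) (by omega)
  by_cases h28 : s < 232000
  · exact allR_spec chkS28 s (by omega) (by omega)
  by_cases h29 : s < 240000
  · exact allR_spec chkS29 s (by omega) (by omega)
  by_cases h30 : s < 248000
  · exact allR_spec chkS30 s (by omega) (by omega)
  by_cases h31 : s < 256000
  · exact allR_spec chkS31 s (by omega) (by omega)
  by_cases h32 : s < 264000
  · exact allR_spec chkS32 s (by omega) (by omega)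
  by_cases h33 : s < 272000
  · exact allR_spec chkS33 s (by omega) (by omega)
  by_cases h34 : s < 280000
  · exact allR_spec chkS34 s (by omega) (by omega)
  by_cases h35 : s < 288000
  · exact allR_spec chkS35 s (by omega) (by omega)
  by_cases h36 : s < 296000
  · exact allR_spec chkS36 s (by omega) (by omega)
  by_cases h37 : s < 304000
  · exact allR_spec chkS37 s (by omega) (by omega)
  by_cases h38 : s < 312000
  · exact allR_spec chkS38 s (by omega) (by omega)
  by_cases h39 : s < 320000
  · exact allR_spec chkS39 s (by omega) (by omega)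
  by_cases h40 : s < 328000
  · exact allR_spec chkS40 s (by omega) (by omega)
  by_cases h41 : s < 336000
  · exact allR_spec chkS41 s (by omega) (by omega)
  by_cases h42 : s < 344000
  · exact allR_spec chkS42 s (by omega) (by omega)
  by_cases h43 : s < 352000
  · exact allR_spec chkS43 s (by omega) (by omega)
  by_cases h44 : s < 360000
  · exact allR_spec chkS44 s (by omega) (by omega)
  by_cases h45 : s < 368000
  · exact allR_spec chkS45 s (by omega) (by omega)
  by_cases h46 : s < 376000
  · exact allR_spec chkS46 s (by omega) (by omega)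
  by_cases h47 : s < 384000
  · exact allR_spec chkS47 s (by omega) (by omega)
  by_cases h48 : s < 392000
  · exact allR_spec chkS48 s (by omega) (by omega)
  by_cases h49 : s < 400000
  · exact allR_spec chkS49 s (by omega) (by omega)
  by_cases h50 : s < 408000
  · exact allR_spec chkS50 s (by omega) (by omega)
  by_cases h51 : s < 416000
  · exact allR_spec chkS51 s (by omega) (by omega)
  by_cases h52 : s < 424000
  · exact allR_spec chkS52 s (by omega) (by omega)
  by_cases h53 : s < 432000
  · exact allR_spec chkS53 s (by omega) (by omega)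
  by_cases h54 : s < 440000
  · exact allR_spec chkS54 s (by omega) (by omega)
  by_cases h55 : s < 448000
  · exact allR_spec chkS55 s (by omega) (by omega)
  by_cases h56 : s < 456000
  · exact allR_spec chkS56 s (by omega) (by omega)
  by_cases h57 : s < 464000
  · exact allR_spec chkS57 s (by omega) (by omega)
  by_cases h58 : s < 472000
  · exact allR_spec chkS58 s (by omega) (by omega)
  by_cases h59 : s < 480000
  · exact allR_spec chkS59 s (by omega) (by omega)
  by_cases h60 : s < 488000
  · exact allR_spec chkS60 s (by omega) (by omega)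
  by_cases h61 : s < 496000
  · exact allR_spec chkS61 s (by omega) (by omega)
  by_cases h62 : s < 504000
  · exact allR_spec chkS62 s (by omega) (by omega)
  by_cases h63 : s < 512000
  · exact allR_spec chkS63 s (by omega) (by omega)
  by_cases h64 : s < 520000
  · exact allR_spec chkS64 s (by omega) (by omega)
  by_cases h65 : s < 528000
  · exact allR_spec chkS65 s (by omega) (by omega)
  by_cases h66 : s < 536000
  · exact allR_spec chkS66 s (by omega) (by omega)
  by_cases h67 : s < 544000
  · exact allR_spec chkS67 s (by omega) (by omega)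
  by_cases h68 : s < 552000
  · exact allR_spec chkS68 s (by omega) (by omega)
  by_cases h69 : s < 560000
  · exact allR_spec chkS69 s (by omega) (by omega)
  by_cases h70 : s < 568000
  · exact allR_spec chkS70 s (by omega) (by omega)
  by_cases h71 : s < 576000
  · exact allR_spec chkS71 s (by omega) (by omega)
  by_cases h72 : s < 584000
  · exact allR_spec chkS72 s (by omega) (by omega)
  by_cases h73 : s < 592000
  · exact allR_spec chkS73 s (by omega) (by omega)
  by_cases h74 : s < 600000
  · exact allR_spec chkS74 s (by omega) (by omega)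
  by_cases h75 : s < 608000
  · exact allR_spec chkS75 s (by omega) (by omega)
  by_cases h76 : s < 616000
  · exact allR_spec chkS76 s (by omega) (by omega)
  by_cases h77 : s < 624000
  · exact allR_spec chkS77 s (by omega) (by omega)
  by_cases h78 : s < 632000
  · exact allR_spec chkS78 s (by omega) (by omega)
  by_cases h79 : s < 640000
  · exact allR_spec chkS79 s (by omega) (by omega)
  by_cases h80 : s < 648000
  · exact allR_spec chkS80 s (by omega) (by omega)
  by_cases h81 : s < 656000
  · exact allR_spec chkS81 s (by omega) (by omega)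
  by_cases h82 : s < 664000
  · exact allR_spec chkS82 s (by omega) (by omega)
  by_cases h83 : s < 672000
  · exact allR_spec chkS83 s (by omega) (by omega)
  by_cases h84 : s < 680000
  · exact allR_spec chkS84 s (by omega) (by omega)
  by_cases h85 : s < 688000
  · exact allR_spec chkS85 s (by omega) (by omega)
  by_cases h86 : s < 696000
  · exact allR_spec chkS86 s (by omega) (by omega)
  by_cases h87 : s < 704000
  · exact allR_spec chkS87 s (by omega) (by omega)
  by_cases h88 : s < 712000
  · exact allR_spec chkS88 s (by omega) (by omega)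
  by_cases h89 : s < 720000
  · exact allR_spec chkS89 s (by omega) (by omega)
  by_cases h90 : s < 728000
  · exact allR_spec chkS90 s (by omega) (by omega)
  by_cases h91 : s < 736000
  · exact allR_spec chkS91 s (by omega) (by omega)
  by_cases h92 : s < 744000
  · exact allR_spec chkS92 s (by omega) (by omega)
  by_cases h93 : s < 752000
  · exact allR_spec chkS93 s (by omega) (by omega)
  by_cases h94 : s < 760000
  · exact allR_spec chkS94 s (by omega) (by omega)
  by_cases h95 : s < 768000
  · exact allR_spec chkS95 s (by omega) (by omega)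
  by_cases h96 : s < 776000
  · exact allR_spec chkS96 s (by omega) (by omega)
  by_cases h97 : s < 784000
  · exact allR_spec chkS97 s (by omega) (by omega)
  by_cases h98 : s < 792000
  · exact allR_spec chkS98 s (by omega) (by omega)
  by_cases h99 : s < 800000
  · exact allR_spec chkS99 s (by omega) (by omega)
  by_cases h100 : s < 808000
  · exact allR_spec chkS100 s (by omega) (by omega)
  by_cases h101 : s < 816000
  · exact allR_spec chkS101 s (by omega) (by omega)
  by_cases h102 : s < 824000
  · exact allR_spec chkS102 s (by omega) (by omega)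
  by_cases h103 : s < 832000
  · exact allR_spec chkS103 s (by omega) (by omega)
  by_cases h104 : s < 840000
  · exact allR_spec chkS104 s (by omega) (by omega)
  by_cases h105 : s < 848000
  · exact allR_spec chkS105 s (by omega) (by omega)
  by_cases h106 : s < 856000
  · exact allR_spec chkS106 s (by omega) (by omega)
  by_cases h107 : s < 864000
  · exact allR_spec chkS107 s (by omega) (by omega)
  by_cases h108 : s < 872000
  · exact allR_spec chkS108 s (by omega) (by omega)
  by_cases h109 : s < 880000
  · exact allR_spec chkS109 s (by omega) (by omega)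
  by_cases h110 : s < 888000
  · exact allR_spec chkS110 s (by omega) (by omega)
  by_cases h111 : s < 896000
  · exact allR_spec chkS111 s (by omega) (by omega)
  by_cases h112 : s < 904000
  · exact allR_spec chkS112 s (by omega) (by omega)
  by_cases h113 : s < 912000
  · exact allR_spec chkS113 s (by omega) (by omega)
  by_cases h114 : s < 920000
  · exact allR_spec chkS114 s (by omega) (by omega)
  by_cases h115 : s < 928000
  · exact allR_spec chkS115 s (by omega) (by omega)
  by_cases h116 : s < 936000
  · exact allR_spec chkS116 s (by omega) (by omega)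
  by_cases h117 : s < 944000
  · exact allR_spec chkS117 s (by omega) (by omega)
  by_cases h118 : s < 952000
  · exact allR_spec chkS118 s (by omega) (by omega)
  by_cases h119 : s < 960000
  · exact allR_spec chkS119 s (by omega) (by omega)
  by_cases h120 : s < 968000
  · exact allR_spec chkS120 s (by omega) (by omega)
  by_cases h121 : s < 976000
  · exact allR_spec chkS121 s (by omega) (by omega)
  by_cases h122 : s < 984000
  · exact allR_spec chkS122 s (by omega) (by omega)
  by_cases h123 : s < 992000
  · exact allR_spec chkS123 s (by omega) (by omega)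
  by_cases h124 : s < 1000000
  · exact allR_spec chkS124 s (by omega) (by omega)
  by_cases h125 : s < 1008000
  · exact allR_spec chkS125 s (by omega) (by omega)
  by_cases h126 : s < 1016000
  · exact allR_spec chkS126 s (by omega) (by omega)
  by_cases h127 : s < 1024000
  · exact allR_spec chkS127 s (by omega) (by omega)
  by_cases h128 : s < 1032000
  · exact allR_spec chkS128 s (by omega) (by omega)
  by_cases h129 : s < 1040000
  · exact allR_spec chkS129 s (by omega) (by omega)
  by_cases h130 : s < 1048000
  · exact allR_spec chkS130 s (by omega) (by omega)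
  by_cases h131 : s < 1056000
  · exact allR_spec chkS131 s (by omega) (by omega)
  by_cases h132 : s < 1064000
  · exact allR_spec chkS132 s (by omega) (by omega)
  by_cases h133 : s < 1072000
  · exact allR_spec chkS133 s (by omega) (by omega)
  by_cases h134 : s < 1080000
  · exact allR_spec chkS134 s (by omega) (by omega)
  by_cases h135 : s < 1088000
  · exact allR_spec chkS135 s (by omega) (by omega)
  by_cases h136 : s < 1096000
  · exact allR_spec chkS136 s (by omega) (by omega)
  by_cases h137 : s < 1104000
  · exact allR_spec chkS137 s (by omega) (by omega)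
  by_cases h138 : s < 1112000
  · exact allR_spec chkS138 s (by omega) (by omega)
  by_cases h139 : s < 1120000
  · exact allR_spec chkS139 s (by omega) (by omega)
  by_cases h140 : s < 1128000
  · exact allR_spec chkS140 s (by omega) (by omega)
  by_cases h141 : s < 1136000
  · exact allR_spec chkS141 s (by omega) (by omega)
  by_cases h142 : s < 1144000
  · exact allR_spec chkS142 s (by omega) (by omega)
  by_cases h143 : s < 1152000
  · exact allR_spec chkS143 s (by omega) (by omega)
  by_cases h144 : s < 1160000
  · exact allR_spec chkS144 s (by omega) (by omega)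
  by_cases h145 : s < 1168000
  · exact allR_spec chkS145 s (by omega) (by omega)
  by_cases h146 : s < 1176000
  · exact allR_spec chkS146 s (by omega) (by omega)
  by_cases h147 : s < 1184000
  · exact allR_spec chkS147 s (by omega) (by omega)
  by_cases h148 : s < 1192000
  · exact allR_spec chkS148 s (by omega) (by omega)
  by_cases h149 : s < 1200000
  · exact allR_spec chkS149 s (by omega) (by omega)
  by_cases h150 : s < 1208000
  · exact allR_spec chkS150 s (by omega) (by omega)
  by_cases h151 : s < 1216000
  · exact allR_spec chkS151 s (by omega) (by omega)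
  by_cases h152 : s < 1224000
  · exact allR_spec chkS152 s (by omega) (by omega)
  by_cases h153 : s < 1232000
  · exact allR_spec chkS153 s (by omega) (by omega)
  by_cases h154 : s < 1240000
  · exact allR_spec chkS154 s (by omega) (by omega)
  by_cases h155 : s < 1248000
  · exact allR_spec chkS155 s (by omega) (by omega)
  by_cases h156 : s < 1256000
  · exact allR_spec chkS156 s (by omega) (by omega)
  by_cases h157 : s < 1264000
  · exact allR_spec chkS157 s (by omega) (by omega)
  by_cases h158 : s < 1272000
  · exact allR_spec chkS158 s (by omega) (by omega)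
  by_cases h159 : s < 1280000
  · exact allR_spec chkS159 s (by omega) (by omega)
  by_cases h160 : s < 1288000
  · exact allR_spec chkS160 s (by omega) (by omega)
  by_cases h161 : s < 1296000
  · exact allR_spec chkS161 s (by omega) (by omega)
  by_cases h162 : s < 1304000
  · exact allR_spec chkS162 s (by omega) (by omega)
  by_cases h163 : s < 1312000
  · exact allR_spec chkS163 s (by omega) (by omega)
  by_cases h164 : s < 1320000
  · exact allR_spec chkS164 s (by omega) (by omega)
  by_cases h165 : s < 1328000
  · exact allR_spec chkS165 s (by omega) (by omega)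
  by_cases h166 : s < 1336000
  · exact allR_spec chkS166 s (by omega) (by omega)
  by_cases h167 : s < 1344000
  · exact allR_spec chkS167 s (by omega) (by omega)
  by_cases h168 : s < 1352000
  · exact allR_spec chkS168 s (by omega) (by omega)
  by_cases h169 : s < 1360000
  · exact allR_spec chkS169 s (by omega) (by omega)
  by_cases h170 : s < 1368000
  · exact allR_spec chkS170 s (by omega) (by omega)
  by_cases h171 : s < 1376000
  · exact allR_spec chkS171 s (by omega) (by omega)
  by_cases h172 : s < 1384000
  · exact allR_spec chkS172 s (by omega) (by omega)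
  by_cases h173 : s < 1392000
  · exact allR_spec chkS173 s (by omega) (by omega)
  by_cases h174 : s < 1400000
  · exact allR_spec chkS174 s (by omega) (by omega)
  by_cases h175 : s < 1408000
  · exact allR_spec chkS175 s (by omega) (by omega)
  by_cases h176 : s < 1416000
  · exact allR_spec chkS176 s (by omega) (by omega)
  by_cases h177 : s < 1424000
  · exact allR_spec chkS177 s (by omega) (by omega)
  by_cases h178 : s < 1432000
  · exact allR_spec chkS178 s (by omega) (by omega)
  by_cases h179 : s < 1440000
  · exact allR_spec chkS179 s (by omega) (by omega)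
  by_cases h180 : s < 1448000
  · exact allR_spec chkS180 s (by omega) (by omega)
  by_cases h181 : s < 1456000
  · exact allR_spec chkS181 s (by omega) (by omega)
  by_cases h182 : s < 1464000
  · exact allR_spec chkS182 s (by omega) (by omega)
  by_cases h183 : s < 1472000
  · exact allR_spec chkS183 s (by omega) (by omega)
  by_cases h184 : s < 1480000
  · exact allR_spec chkS184 s (by omega) (by omega)
  by_cases h185 : s < 1488000
  · exact allR_spec chkS185 s (by omega) (by omega)
  by_cases h186 : s < 1496000
  · exact allR_spec chkS186 s (by omega) (by omega)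
  by_cases h187 : s < 1504000
  · exact allR_spec chkS187 s (by omega) (by omega)
  by_cases h188 : s < 1512000
  · exact allR_spec chkS188 s (by omega) (by omega)
  by_cases h189 : s < 1520000
  · exact allR_spec chkS189 s (by omega) (by omega)
  by_cases h190 : s < 1528000
  · exact allR_spec chkS190 s (by omega) (by omega)
  by_cases h191 : s < 1536000
  · exact allR_spec chkS191 s (by omega) (by omega)
  by_cases h192 : s < 1544000
  · exact allR_spec chkS192 s (by omega) (by omega)
  by_cases h193 : s < 1552000
  · exact allR_spec chkS193 s (by omega) (by omega)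
  by_cases h194 : s < 1560000
  · exact allR_spec chkS194 s (by omega) (by omega)
  by_cases h195 : s < 1568000
  · exact allR_spec chkS195 s (by omega) (by omega)
  by_cases h196 : s < 1576000
  · exact allR_spec chkS196 s (by omega) (by omega)
  by_cases h197 : s < 1584000
  · exact allR_spec chkS197 s (by omega) (by omega)
  by_cases h198 : s < 1592000
  · exact allR_spec chkS198 s (by omega) (by omega)
  by_cases h199 : s < 1600000
  · exact allR_spec chkS199 s (by omega) (by omega)
  by_cases h200 : s < 1608000
  · exact allR_spec chkS200 s (by omega) (by omega)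
  by_cases h201 : s < 1616000
  · exact allR_spec chkS201 s (by omega) (by omega)
  by_cases h202 : s < 1624000
  · exact allR_spec chkS202 s (by omega) (by omega)
  by_cases h203 : s < 1632000
  · exact allR_spec chkS203 s (by omega) (by omega)
  by_cases h204 : s < 1640000
  · exact allR_spec chkS204 s (by omega) (by omega)
  by_cases h205 : s < 1648000
  · exact allR_spec chkS205 s (by omega) (by omega)
  by_cases h206 : s < 1656000
  · exact allR_spec chkS206 s (by omega) (by omega)
  by_cases h207 : s < 1664000
  · exact allR_spec chkS207 s (by omega) (by omega)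
  by_cases h208 : s < 1672000
  · exact allR_spec chkS208 s (by omega) (by omega)
  by_cases h209 : s < 1680000
  · exact allR_spec chkS209 s (by omega) (by omega)
  by_cases h210 : s < 1688000
  · exact allR_spec chkS210 s (by omega) (by omega)
  by_cases h211 : s < 1696000
  · exact allR_spec chkS211 s (by omega) (by omega)
  by_cases h212 : s < 1704000
  · exact allR_spec chkS212 s (by omega) (by omega)
  by_cases h213 : s < 1712000
  · exact allR_spec chkS213 s (by omega) (by omega)
  by_cases h214 : s < 1720000
  · exact allR_spec chkS214 s (by omega) (by omega)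
  by_cases h215 : s < 1728000
  · exact allR_spec chkS215 s (by omega) (by omega)
  by_cases h216 : s < 1736000
  · exact allR_spec chkS216 s (by omega) (by omega)
  by_cases h217 : s < 1744000
  · exact allR_spec chkS217 s (by omega) (by omega)
  by_cases h218 : s < 1752000
  · exact allR_spec chkS218 s (by omega) (by omega)
  by_cases h219 : s < 1760000
  · exact allR_spec chkS219 s (by omega) (by omega)
  by_cases h220 : s < 1768000
  · exact allR_spec chkS220 s (by omega) (by omega)
  by_cases h221 : s < 1776000
  · exact allR_spec chkS221 s (by omega) (by omega)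
  by_cases h222 : s < 1784000
  · exact allR_spec chkS222 s (by omega) (by omega)
  by_cases h223 : s < 1792000
  · exact allR_spec chkS223 s (by omega) (by omega)
  by_cases h224 : s < 1800000
  · exact allR_spec chkS224 s (by omega) (by omega)
  by_cases h225 : s < 1808000
  · exact allR_spec chkS225 s (by omega) (by omega)
  by_cases h226 : s < 1816000
  · exact allR_spec chkS226 s (by omega) (by omega)
  by_cases h227 : s < 1824000
  · exact allR_spec chkS227 s (by omega) (by omega)
  by_cases h228 : s < 1828840
  · exact allR_spec chkS228 s (by omega) (by omega)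
  omega

theorem hN : ∀ ν < n, chkName SH NH NC WD n ncol nrw nw tmax ν = true := by
  intro ν hν
  have hν' : ν < 228605 := hν
  by_cases h0 : ν < 6000
  · exact allR_spec chkN0 ν (by omega) (by omega)
  by_cases h1 : ν < 12000
  · exact allR_spec chkN1 ν (by omega) (by omega)
  by_cases h2 : ν < 18000
  · exact allR_spec chkN2 ν (by omega) (by omega)
  by_cases h3 : ν < 24000
  · exact allR_spec chkN3 ν (by omega) (by omega)
  by_cases h4 : ν < 30000
  · exact allR_spec chkN4 ν (by omega) (by omega)
  by_cases h5 : ν < 36000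
  · exact allR_spec chkN5 ν (by omega) (by omega)
  by_cases h6 : ν < 42000
  · exact allR_spec chkN6 ν (by omega) (by omega)
  by_cases h7 : ν < 48000
  · exact allR_spec chkN7 ν (by omega) (by omega)
  by_cases h8 : ν < 54000
  · exact allR_spec chkN8 ν (by omega) (by omega)
  by_cases h9 : ν < 60000
  · exact allR_spec chkN9 ν (by omega) (by omega)
  by_cases h10 : ν < 66000
  · exact allR_spec chkN10 ν (by omega) (by omega)
  by_cases h11 : ν < 72000
  · exact allR_spec chkN11 ν (by omega) (by omega)
  by_cases h12 : ν < 78000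
  · exact allR_spec chkN12 ν (by omega) (by omega)
  by_cases h13 : ν < 84000
  · exact allR_spec chkN13 ν (by omega) (by omega)
  by_cases h14 : ν < 90000
  · exact allR_spec chkN14 ν (by omega) (by omega)
  by_cases h15 : ν < 96000
  · exact allR_spec chkN15 ν (by omega) (by omega)
  by_cases h16 : ν < 102000
  · exact allR_spec chkN16 ν (by omega) (by omega)
  by_cases h17 : ν < 108000
  · exact allR_spec chkN17 ν (by omega) (by omega)
  by_cases h18 : ν < 114000
  · exact allR_spec chkN18 ν (by omega) (by omega)
  by_cases h19 : ν < 120000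
  · exact allR_spec chkN19 ν (by omega) (by omega)
  by_cases h20 : ν < 126000
  · exact allR_spec chkN20 ν (by omega) (by omega)
  by_cases h21 : ν < 132000
  · exact allR_spec chkN21 ν (by omega) (by omega)
  by_cases h22 : ν < 138000
  · exact allR_spec chkN22 ν (by omega) (by omega)
  by_cases h23 : ν < 144000
  · exact allR_spec chkN23 ν (by omega) (by omega)
  by_cases h24 : ν < 150000
  · exact allR_spec chkN24 ν (by omega) (by omega)
  by_cases h25 : ν < 156000
  · exact allR_spec chkN25 ν (by omega) (by omega)
  by_cases h26 : ν < 162000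
  · exact allR_spec chkN26 ν (by omega) (by omega)
  by_cases h27 : ν < 168000
  · exact allR_spec chkN27 ν (by omega) (by omega)
  by_cases h28 : ν < 174000
  · exact allR_spec chkN28 ν (by omega) (by omega)
  by_cases h29 : ν < 180000
  · exact allR_spec chkN29 ν (by omega) (by omega)
  by_cases h30 : ν < 186000
  · exact allR_spec chkN30 ν (by omega) (by omega)
  by_cases h31 : ν < 192000
  · exact allR_spec chkN31 ν (by omega) (by omega)
  by_cases h32 : ν < 198000
  · exact allR_spec chkN32 ν (by omega) (by omega)
  by_cases h33 : ν < 204000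
  · exact allR_spec chkN33 ν (by omega) (by omega)
  by_cases h34 : ν < 210000
  · exact allR_spec chkN34 ν (by omega) (by omega)
  by_cases h35 : ν < 216000
  · exact allR_spec chkN35 ν (by omega) (by omega)
  by_cases h36 : ν < 222000
  · exact allR_spec chkN36 ν (by omega) (by omega)
  by_cases h37 : ν < 228000
  · exact allR_spec chkN37 ν (by omega) (by omega)
  by_cases h38 : ν < 228605
  · exact allR_spec chkN38 ν (by omega) (by omega)
  omega

theorem hL : ∀ ν < n, chkLive SH NH n ncol tmax ν = true := by
  intro ν hν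
  have hν' : ν < 228605 := hν
  by_cases h0 : ν < 6000
  · exact allR_spec chkL0 ν (by omega) (by omega)
  by_cases h1 : ν < 12000
  · exact allR_spec chkL1 ν (by omega) (by omega)
  by_cases h2 : ν < 18000
  · exact allR_spec chkL2 ν (by omega) (by omega)
  by_cases h3 : ν < 24000
  · exact allR_spec chkL3 ν (by omega) (by omega)
  by_cases h4 : ν < 30000
  · exact allR_spec chkL4 ν (by omega) (by omega)
  by_cases h5 : ν < 36000
  · exact allR_spec chkL5 ν (by omega) (by omega)
  by_cases h6 : ν < 42000
  · exact allR_spec chkL6 ν (by omega) (by omega)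
  by_cases h7 : ν < 48000
  · exact allR_spec chkL7 ν (by omega) (by omega)
  by_cases h8 : ν < 54000
  · exact allR_spec chkL8 ν (by omega) (by omega)
  by_cases h9 : ν < 60000
  · exact allR_spec chkL9 ν (by omega) (by omega)
  by_cases h10 : ν < 66000
  · exact allR_spec chkL10 ν (by omega) (by omega)
  by_cases h11 : ν < 72000
  · exact allR_spec chkL11 ν (by omega) (by omega)
  by_cases h12 : ν < 78000
  · exact allR_spec chkL12 ν (by omega) (by omega)
  by_cases h13 : ν < 84000
  · exact allR_spec chkL13 ν (by omega) (by omega)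
  by_cases h14 : ν < 90000
  · exact allR_spec chkL14 ν (by omega) (by omega)
  by_cases h15 : ν < 96000
  · exact allR_spec chkL15 ν (by omega) (by omega)
  by_cases h16 : ν < 102000
  · exact allR_spec chkL16 ν (by omega) (by omega)
  by_cases h17 : ν < 108000
  · exact allR_spec chkL17 ν (by omega) (by omega)
  by_cases h18 : ν < 114000
  · exact allR_spec chkL18 ν (by omega) (by omega)
  by_cases h19 : ν < 120000
  · exact allR_spec chkL19 ν (by omega) (by omega)
  by_cases h20 : ν < 126000
  · exact allR_spec chkL20 ν (by omega) (by omega)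
  by_cases h21 : ν < 132000
  · exact allR_spec chkL21 ν (by omega) (by omega)
  by_cases h22 : ν < 138000
  · exact allR_spec chkL22 ν (by omega) (by omega)
  by_cases h23 : ν < 144000
  · exact allR_spec chkL23 ν (by omega) (by omega)
  by_cases h24 : ν < 150000
  · exact allR_spec chkL24 ν (by omega) (by omega)
  by_cases h25 : ν < 156000
  · exact allR_spec chkL25 ν (by omega) (by omega)
  by_cases h26 : ν < 162000
  · exact allR_spec chkL26 ν (by omega) (by omega)
  by_cases h27 : ν < 168000
  · exact allR_spec chkL27 ν (by omega) (by omega)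
  by_cases h28 : ν < 174000
  · exact allR_spec chkL28 ν (by omega) (by omega)
  by_cases h29 : ν < 180000
  · exact allR_spec chkL29 ν (by omega) (by omega)
  by_cases h30 : ν < 186000
  · exact allR_spec chkL30 ν (by omega) (by omega)
  by_cases h31 : ν < 192000
  · exact allR_spec chkL31 ν (by omega) (by omega)
  by_cases h32 : ν < 198000
  · exact allR_spec chkL32 ν (by omega) (by omega)
  by_cases h33 : ν < 204000
  · exact allR_spec chkL33 ν (by omega) (by omega)
  by_cases h34 : ν < 210000
  · exact allR_spec chkL34 ν (by omega) (by omega)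
  by_cases h35 : ν < 216000
  · exact allR_spec chkL35 ν (by omega) (by omega)
  by_cases h36 : ν < 222000
  · exact allR_spec chkL36 ν (by omega) (by omega)
  by_cases h37 : ν < 228000
  · exact allR_spec chkL37 ν (by omega) (by omega)
  by_cases h38 : ν < 228605
  · exact allR_spec chkL38 ν (by omega) (by omega)
  omega

theorem hwords :
    (∀ j < nrw, j < nw → PresentedGroup.mk Rels (wordElt gc (wordL WD j)) = 1) ∧
    (∀ j, nrw ≤ j → j < nw → wordElt gc (wordL WD j) ∈ Subgroup.closure S) ∧
    (∀ j < nw, ∀ c ∈ wordL WD j, c < ncol) :=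
  words_ok (S := S) (nw := nw) hinvG hbl hbase
    (fun w hw => Subgroup.subset_closure (hsw' w hw).2) (fun j hj => allB_spec chkW j hj)

theorem idx_le : (subH Rels S).index ≤ N ∧ (subH Rels S).index ≠ 0 := by
  have h := index_le (rels := Rels) (S := S) (gc := gc) (n := n) (ncol := ncol) (nrw := nrw) (nw := nw)
    (tmax := tmax) (INV := Cfsg.Agent.Lib.Helper6.TCD.ONa.INV) (SH := SH) (SC := SC) (NH := NH) (NC := NC) (WD := WD)
    (by decide) hgen hinv1 hinvG (fun j hj => hwords.1 j hj (by unfold nrw nw at *; omega)) hwords.2.1 hwords.2.2 hS hN hL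
  have e : cntLive NH n tmax n = N := chkC
  rw [e] at h
  exact h

theorem hP : PHyp px N 8 Cfsg.Agent.Lib.Helper6.TCP.ON.INV where
  Npos := by decide
  hinv1 := hinv1
  hinvinv := hinvinv
  hlt := by
    intro c hc p hp
    interval_cases c
    · exact (chkCol_spec chkP0 p hp).1
    · exact (chkCol_spec chkP1 p hp).1
    · exact (chkCol_spec chkP2 p hp).1
    · exact (chkCol_spec chkP3 p hp).1
    · exact (chkCol_spec chkP4 p hp).1
    · exact (chkCol_spec chkP5 p hp).1
    · exact (chkCol_spec chkP6 p hp).1
    · exact (chkCol_spec chkP7 p hp).1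
  hpx := by
    intro c hc p hp
    interval_cases c
    · exact (chkCol_spec chkP0 p hp).2
    · exact (chkCol_spec chkP1 p hp).2
    · exact (chkCol_spec chkP2 p hp).2
    · exact (chkCol_spec chkP3 p hp).2
    · exact (chkCol_spec chkP4 p hp).2
    · exact (chkCol_spec chkP5 p hp).2
    · exact (chkCol_spec chkP6 p hp).2
    · exact (chkCol_spec chkP7 p hp).2

theorem px_c0 (p : ℕ) : px 0 p = P0 p := rfl
theorem px_c1 (p : ℕ) : px 1 p = P1 p := rfl
theorem px_c2 (p : ℕ) : px 2 p = P2 p := rfl
theorem px_c3 (p : ℕ) : px 3 p = P3 p := rfl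
theorem px_c4 (p : ℕ) : px 4 p = P4 p := rfl
theorem px_c5 (p : ℕ) : px 5 p = P5 p := rfl
theorem px_c6 (p : ℕ) : px 6 p = P6 p := rfl
theorem px_c7 (p : ℕ) : px 7 p = P7 p := rfl

theorem hfixk_0 : ∀ p < N, P2 (P2 p) = p := fun p hp => (chkCol_spec chkP2 p hp).2

theorem hfixw_0 (p : ℕ) : wapp px (base.getD 0 []) p = P2 (P2 p) := by
  show wapp px [2, 2] p = _
  simp only [wapp_cons, wapp_nil, px_c2]

theorem hfixk_1 : ∀ p < N, P3 (P3 p) = p := fun p hp => (chkCol_spec chkP3 p hp).2

theorem hfixw_1 (p : ℕ) : wapp px (base.getD 1 []) p = P3 (P3 p) := by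
  show wapp px [3, 3] p = _
  simp only [wapp_cons, wapp_nil, px_c3]

theorem hfixk_2 : ∀ p < N, P4 (P4 p) = p := fun p hp => (chkCol_spec chkP4 p hp).2

theorem hfixw_2 (p : ℕ) : wapp px (base.getD 2 []) p = P4 (P4 p) := by
  show wapp px [4, 4] p = _
  simp only [wapp_cons, wapp_nil, px_c4]

theorem hfixk_3 : ∀ p < N, P5 (P5 p) = p := fun p hp => (chkCol_spec chkP5 p hp).2

theorem hfixw_3 (p : ℕ) : wapp px (base.getD 3 []) p = P5 (P5 p) := by
  show wapp px [5, 5] p = _
  simp only [wapp_cons, wapp_nil, px_c5]

theorem hfixk_4 : ∀ p < N, P6 (P6 p) = p := fun p hp => (chkCol_spec chkP6 p hp).2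

theorem hfixw_4 (p : ℕ) : wapp px (base.getD 4 []) p = P6 (P6 p) := by
  show wapp px [6, 6] p = _
  simp only [wapp_cons, wapp_nil, px_c6]

theorem hfixk_5 : ∀ p < N, P7 (P7 p) = p := fun p hp => (chkCol_spec chkP7 p hp).2

theorem hfixw_5 (p : ℕ) : wapp px (base.getD 5 []) p = P7 (P7 p) := by
  show wapp px [7, 7] p = _
  simp only [wapp_cons, wapp_nil, px_c7]

theorem hfixk_6 : ∀ p < N, R6 p = p := by
  intro p hp
  have hp' : p < 122760 := hp
  by_cases g0 : p < 41666
  · exact chkFix_spec chkR6_0 p (by omega) (by omega)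
  by_cases g1 : p < 83332
  · exact chkFix_spec chkR6_1 p (by omega) (by omega)
  exact chkFix_spec chkR6_2 p (by omega) (by omega)

theorem hfixw_6 (p : ℕ) : wapp px (base.getD 6 []) p = R6 p := by
  show wapp px [2, 3, 2, 3, 2, 3] p = _
  simp only [wapp_cons, wapp_nil, px_c0, px_c1, px_c2, px_c3, px_c4, px_c5, px_c6, px_c7]
  rfl

theorem hfixk_7 : ∀ p < N, R7 p = p := by
  intro p hp
  have hp' : p < 122760 := hp
  by_cases g0 : p < 3358
  · exact chkFix_spec chkR7_0 p (by omega) (by omega)
  by_cases g1 : p < 65858
  · exact chkFix_spec chkR7_1 p (by omega) (by omega)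
  exact chkFix_spec chkR7_2 p (by omega) (by omega)

theorem hfixw_7 (p : ℕ) : wapp px (base.getD 7 []) p = R7 p := by
  show wapp px [2, 4, 2, 4] p = _
  simp only [wapp_cons, wapp_nil, px_c0, px_c1, px_c2, px_c3, px_c4, px_c5, px_c6, px_c7]
  rfl

theorem hfixk_8 : ∀ p < N, R8 p = p := by
  intro p hp
  have hp' : p < 122760 := hp
  by_cases g0 : p < 5598
  · exact chkFix_spec chkR8_0 p (by omega) (by omega)
  by_cases g1 : p < 68098
  · exact chkFix_spec chkR8_1 p (by omega) (by omega)
  exact chkFix_spec chkR8_2 p (by omega) (by omega)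

theorem hfixw_8 (p : ℕ) : wapp px (base.getD 8 []) p = R8 p := by
  show wapp px [2, 5, 2, 5] p = _
  simp only [wapp_cons, wapp_nil, px_c0, px_c1, px_c2, px_c3, px_c4, px_c5, px_c6, px_c7]
  rfl

theorem hfixk_9 : ∀ p < N, R9 p = p := by
  intro p hp
  have hp' : p < 122760 := hp
  by_cases g0 : p < 7838
  · exact chkFix_spec chkR9_0 p (by omega) (by omega)
  by_cases g1 : p < 70338
  · exact chkFix_spec chkR9_1 p (by omega) (by omega)
  exact chkFix_spec chkR9_2 p (by omega) (by omega)

theorem hfixw_9 (p : ℕ) : wapp px (base.getD 9 []) p = R9 p := by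
  show wapp px [2, 6, 2, 6] p = _
  simp only [wapp_cons, wapp_nil, px_c0, px_c1, px_c2, px_c3, px_c4, px_c5, px_c6, px_c7]
  rfl

theorem hfixk_10 : ∀ p < N, R10 p = p := by
  intro p hp
  have hp' : p < 122760 := hp
  by_cases g0 : p < 10078
  · exact chkFix_spec chkR10_0 p (by omega) (by omega)
  by_cases g1 : p < 72578
  · exact chkFix_spec chkR10_1 p (by omega) (by omega)
  exact chkFix_spec chkR10_2 p (by omega) (by omega)

theorem hfixw_10 (p : ℕ) : wapp px (base.getD 10 []) p = R10 p := by
  show wapp px [2, 7, 2, 7] p = _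
  simp only [wapp_cons, wapp_nil, px_c0, px_c1, px_c2, px_c3, px_c4, px_c5, px_c6, px_c7]
  rfl

theorem hfixk_11 : ∀ p < N, R11 p = p := by
  intro p hp
  have hp' : p < 122760 := hp
  by_cases g0 : p < 8212
  · exact chkFix_spec chkR11_0 p (by omega) (by omega)
  by_cases g1 : p < 49878
  · exact chkFix_spec chkR11_1 p (by omega) (by omega)
  by_cases g2 : p < 91544
  · exact chkFix_spec chkR11_2 p (by omega) (by omega)
  exact chkFix_spec chkR11_3 p (by omega) (by omega)

theorem hfixw_11 (p : ℕ) : wapp px (base.getD 11 []) p = R11 p := by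
  show wapp px [3, 4, 3, 4, 3, 4] p = _
  simp only [wapp_cons, wapp_nil, px_c0, px_c1, px_c2, px_c3, px_c4, px_c5, px_c6, px_c7]
  rfl

theorem hfixk_12 : ∀ p < N, R12 p = p := by
  intro p hp
  have hp' : p < 122760 := hp
  by_cases g0 : p < 15676
  · exact chkFix_spec chkR12_0 p (by omega) (by omega)
  by_cases g1 : p < 78176
  · exact chkFix_spec chkR12_1 p (by omega) (by omega)
  exact chkFix_spec chkR12_2 p (by omega) (by omega)

theorem hfixw_12 (p : ℕ) : wapp px (base.getD 12 []) p = R12 p := by
  show wapp px [3, 5, 3, 5] p = _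
  simp only [wapp_cons, wapp_nil, px_c0, px_c1, px_c2, px_c3, px_c4, px_c5, px_c6, px_c7]
  rfl

theorem hfixk_13 : ∀ p < N, R13 p = p := by
  intro p hp
  have hp' : p < 122760 := hp
  by_cases g0 : p < 17916
  · exact chkFix_spec chkR13_0 p (by omega) (by omega)
  by_cases g1 : p < 80416
  · exact chkFix_spec chkR13_1 p (by omega) (by omega)
  exact chkFix_spec chkR13_2 p (by omega) (by omega)

theorem hfixw_13 (p : ℕ) : wapp px (base.getD 13 []) p = R13 p := by
  show wapp px [3, 6, 3, 6] p = _
  simp only [wapp_cons, wapp_nil, px_c0, px_c1, px_c2, px_c3, px_c4, px_c5, px_c6, px_c7]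
  rfl

theorem hfixk_14 : ∀ p < N, R14 p = p := by
  intro p hp
  have hp' : p < 122760 := hp
  by_cases g0 : p < 20156
  · exact chkFix_spec chkR14_0 p (by omega) (by omega)
  by_cases g1 : p < 82656
  · exact chkFix_spec chkR14_1 p (by omega) (by omega)
  exact chkFix_spec chkR14_2 p (by omega) (by omega)

theorem hfixw_14 (p : ℕ) : wapp px (base.getD 14 []) p = R14 p := by
  show wapp px [3, 7, 3, 7] p = _
  simp only [wapp_cons, wapp_nil, px_c0, px_c1, px_c2, px_c3, px_c4, px_c5, px_c6, px_c7]
  rfl

theorem hfixk_15 : ∀ p < N, R15 p = p := by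
  intro p hp
  have hp' : p < 122760 := hp
  by_cases g0 : p < 27662
  · exact chkFix_spec chkR15_0 p (by omega) (by omega)
  by_cases g1 : p < 58912
  · exact chkFix_spec chkR15_1 p (by omega) (by omega)
  by_cases g2 : p < 90162
  · exact chkFix_spec chkR15_2 p (by omega) (by omega)
  by_cases g3 : p < 121412
  · exact chkFix_spec chkR15_3 p (by omega) (by omega)
  exact chkFix_spec chkR15_4 p (by omega) (by omega)

theorem hQU_15 : ∀ p < N, Q15 p = U15 p := by
  intro p hp
  have hp' : p < 122760 := hp
  by_cases g0 : p < 29861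
  · exact chkEqF_spec chkQ15_0 p (by omega) (by omega)
  by_cases g1 : p < 113194
  · exact chkEqF_spec chkQ15_1 p (by omega) (by omega)
  exact chkEqF_spec chkQ15_2 p (by omega) (by omega)

theorem hUw_15 (p : ℕ) : wapp px [4, 5] p = U15 p := by
  simp only [wapp_cons, wapp_nil, px_c0, px_c1, px_c2, px_c3, px_c4, px_c5, px_c6, px_c7]
  rfl

theorem hfixw_15 (p : ℕ) (hp : p < N) : wapp px (base.getD 15 []) p = R15 p := by
  have e : base.getD 15 [] = (List.replicate 8 [4, 5]).flatten := by decide +kernel
  rw [e, wapp_pow hP (by decide) (fun q hq => (hQU_15 q hq).trans (hUw_15 q).symm) 8 p hp]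
  unfold R15
  simp only [Function.iterate_succ_apply, Function.iterate_zero_apply]

theorem hfixk_16 : ∀ p < N, R16 p = p := by
  intro p hp
  have hp' : p < 122760 := hp
  by_cases g0 : p < 59804
  · exact chkFix_spec chkR16_0 p (by omega) (by omega)
  by_cases g1 : p < 122304
  · exact chkFix_spec chkR16_1 p (by omega) (by omega)
  exact chkFix_spec chkR16_2 p (by omega) (by omega)

theorem hfixw_16 (p : ℕ) : wapp px (base.getD 16 []) p = R16 p := by
  show wapp px [4, 6, 4, 6] p = _
  simp only [wapp_cons, wapp_nil, px_c0, px_c1, px_c2, px_c3, px_c4, px_c5, px_c6, px_c7]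
  rfl

theorem hfixk_17 : ∀ p < N, R17 p = p := by
  intro p hp
  have hp' : p < 122760 := hp
  by_cases g0 : p < 62044
  · exact chkFix_spec chkR17_0 p (by omega) (by omega)
  exact chkFix_spec chkR17_1 p (by omega) (by omega)

theorem hfixw_17 (p : ℕ) : wapp px (base.getD 17 []) p = R17 p := by
  show wapp px [4, 7, 4, 7] p = _
  simp only [wapp_cons, wapp_nil, px_c0, px_c1, px_c2, px_c3, px_c4, px_c5, px_c6, px_c7]
  rfl

theorem hfixk_18 : ∀ p < N, R18 p = p := by
  intro p hp
  have hp' : p < 122760 := hp
  by_cases g0 : p < 1189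
  · exact chkFix_spec chkR18_0 p (by omega) (by omega)
  by_cases g1 : p < 42855
  · exact chkFix_spec chkR18_1 p (by omega) (by omega)
  by_cases g2 : p < 84521
  · exact chkFix_spec chkR18_2 p (by omega) (by omega)
  exact chkFix_spec chkR18_3 p (by omega) (by omega)

theorem hfixw_18 (p : ℕ) : wapp px (base.getD 18 []) p = R18 p := by
  show wapp px [5, 6, 5, 6, 5, 6] p = _
  simp only [wapp_cons, wapp_nil, px_c0, px_c1, px_c2, px_c3, px_c4, px_c5, px_c6, px_c7]
  rfl

theorem hfixk_19 : ∀ p < N, R19 p = p := by
  intro p hp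
  have hp' : p < 122760 := hp
  by_cases g0 : p < 5141
  · exact chkFix_spec chkR19_0 p (by omega) (by omega)
  by_cases g1 : p < 67641
  · exact chkFix_spec chkR19_1 p (by omega) (by omega)
  exact chkFix_spec chkR19_2 p (by omega) (by omega)

theorem hfixw_19 (p : ℕ) : wapp px (base.getD 19 []) p = R19 p := by
  show wapp px [5, 7, 5, 7] p = _
  simp only [wapp_cons, wapp_nil, px_c0, px_c1, px_c2, px_c3, px_c4, px_c5, px_c6, px_c7]
  rfl

theorem hfixk_20 : ∀ p < N, R20 p = p := by
  intro p hp
  have hp' : p < 122760 := hp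
  by_cases g0 : p < 4920
  · exact chkFix_spec chkR20_0 p (by omega) (by omega)
  by_cases g1 : p < 46586
  · exact chkFix_spec chkR20_1 p (by omega) (by omega)
  by_cases g2 : p < 88252
  · exact chkFix_spec chkR20_2 p (by omega) (by omega)
  exact chkFix_spec chkR20_3 p (by omega) (by omega)

theorem hfixw_20 (p : ℕ) : wapp px (base.getD 20 []) p = R20 p := by
  show wapp px [6, 7, 6, 7, 6, 7] p = _
  simp only [wapp_cons, wapp_nil, px_c0, px_c1, px_c2, px_c3, px_c4, px_c5, px_c6, px_c7]
  rfl

theorem hfixk_21 : ∀ p < N, R21 p = p := by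
  intro p hp
  have hp' : p < 122760 := hp
  by_cases g0 : p < 10738
  · exact chkFix_spec chkR21_0 p (by omega) (by omega)
  by_cases g1 : p < 73238
  · exact chkFix_spec chkR21_1 p (by omega) (by omega)
  exact chkFix_spec chkR21_2 p (by omega) (by omega)

theorem hfixw_21 (p : ℕ) : wapp px (base.getD 21 []) p = R21 p := by
  show wapp px [2, 7, 1, 1] p = _
  simp only [wapp_cons, wapp_nil, px_c0, px_c1, px_c2, px_c3, px_c4, px_c5, px_c6, px_c7]
  rfl

theorem hfixk_22 : ∀ p < N, R22 p = p := by
  intro p hp
  have hp' : p < 122760 := hp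
  by_cases g0 : p < 5191
  · exact chkFix_spec chkR22_0 p (by omega) (by omega)
  by_cases g1 : p < 30191
  · exact chkFix_spec chkR22_1 p (by omega) (by omega)
  by_cases g2 : p < 55191
  · exact chkFix_spec chkR22_2 p (by omega) (by omega)
  by_cases g3 : p < 80191
  · exact chkFix_spec chkR22_3 p (by omega) (by omega)
  by_cases g4 : p < 105191
  · exact chkFix_spec chkR22_4 p (by omega) (by omega)
  exact chkFix_spec chkR22_5 p (by omega) (by omega)

theorem hfixw_22 (p : ℕ) : wapp px (base.getD 22 []) p = R22 p := by
  show wapp px [2, 7, 5, 4, 5, 4, 5, 4, 5, 4] p = _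
  simp only [wapp_cons, wapp_nil, px_c0, px_c1, px_c2, px_c3, px_c4, px_c5, px_c6, px_c7]
  rfl

theorem hfixk_23 : ∀ p < N, R23 p = p := by
  intro p hp
  have hp' : p < 122760 := hp
  by_cases g0 : p < 7431
  · exact chkFix_spec chkR23_0 p (by omega) (by omega)
  by_cases g1 : p < 32431
  · exact chkFix_spec chkR23_1 p (by omega) (by omega)
  by_cases g2 : p < 57431
  · exact chkFix_spec chkR23_2 p (by omega) (by omega)
  by_cases g3 : p < 82431
  · exact chkFix_spec chkR23_3 p (by omega) (by omega)
  by_cases g4 : p < 107431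
  · exact chkFix_spec chkR23_4 p (by omega) (by omega)
  exact chkFix_spec chkR23_5 p (by omega) (by omega)

theorem hfixw_23 (p : ℕ) : wapp px (base.getD 23 []) p = R23 p := by
  show wapp px [4, 1, 5, 1, 5, 4, 5, 0, 5, 0] p = _
  simp only [wapp_cons, wapp_nil, px_c0, px_c1, px_c2, px_c3, px_c4, px_c5, px_c6, px_c7]
  rfl

theorem hfixk_24 : ∀ p < N, R24 p = p := by
  intro p hp
  have hp' : p < 122760 := hp
  by_cases g0 : p < 9671
  · exact chkFix_spec chkR24_0 p (by omega) (by omega)
  by_cases g1 : p < 34671
  · exact chkFix_spec chkR24_1 p (by omega) (by omega)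
  by_cases g2 : p < 59671
  · exact chkFix_spec chkR24_2 p (by omega) (by omega)
  by_cases g3 : p < 84671
  · exact chkFix_spec chkR24_3 p (by omega) (by omega)
  by_cases g4 : p < 109671
  · exact chkFix_spec chkR24_4 p (by omega) (by omega)
  exact chkFix_spec chkR24_5 p (by omega) (by omega)

theorem hfixw_24 (p : ℕ) : wapp px (base.getD 24 []) p = R24 p := by
  show wapp px [5, 1, 4, 1, 4, 5, 4, 0, 4, 0] p = _
  simp only [wapp_cons, wapp_nil, px_c0, px_c1, px_c2, px_c3, px_c4, px_c5, px_c6, px_c7]
  rfl

theorem hfixk_25 : ∀ p < N, R25 p = p := by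
  intro p hp
  have hp' : p < 122760 := hp
  by_cases g0 : p < 1062
  · exact chkFix_spec chkR25_0 p (by omega) (by omega)
  by_cases g1 : p < 51062
  · exact chkFix_spec chkR25_1 p (by omega) (by omega)
  by_cases g2 : p < 101062
  · exact chkFix_spec chkR25_2 p (by omega) (by omega)
  exact chkFix_spec chkR25_3 p (by omega) (by omega)

theorem hQU_25 : ∀ p < N, Q25 p = U25 p := by
  intro p hp
  have hp' : p < 122760 := hp
  by_cases g0 : p < 23822
  · exact chkEqF_spec chkQ25_0 p (by omega) (by omega)
  by_cases g1 : p < 73822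
  · exact chkEqF_spec chkQ25_1 p (by omega) (by omega)
  exact chkEqF_spec chkQ25_2 p (by omega) (by omega)

theorem hUw_25 (p : ℕ) : wapp px [3, 4, 5, 0] p = U25 p := by
  simp only [wapp_cons, wapp_nil, px_c0, px_c1, px_c2, px_c3, px_c4, px_c5, px_c6, px_c7]
  rfl

theorem hfixw_25 (p : ℕ) (hp : p < N) : wapp px (base.getD 25 []) p = R25 p := by
  have e : base.getD 25 [] = (List.replicate 5 [3, 4, 5, 0]).flatten := by decide +kernel
  rw [e, wapp_pow hP (by decide) (fun q hq => (hQU_25 q hq).trans (hUw_25 q).symm) 5 p hp]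
  unfold R25
  simp only [Function.iterate_succ_apply, Function.iterate_zero_apply]

theorem hfixk_26 : ∀ p < N, R26 p = p := by
  intro p hp
  have hp' : p < 122760 := hp
  by_cases g0 : p < 12864
  · exact chkFix_spec chkR26_0 p (by omega) (by omega)
  by_cases g1 : p < 35591
  · exact chkFix_spec chkR26_1 p (by omega) (by omega)
  by_cases g2 : p < 58318
  · exact chkFix_spec chkR26_2 p (by omega) (by omega)
  by_cases g3 : p < 81045
  · exact chkFix_spec chkR26_3 p (by omega) (by omega)
  by_cases g4 : p < 103772
  · exact chkFix_spec chkR26_4 p (by omega) (by omega)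
  exact chkFix_spec chkR26_5 p (by omega) (by omega)

theorem hfixw_26 (p : ℕ) : wapp px (base.getD 26 []) p = R26 p := by
  show wapp px [0, 3, 4, 0, 4, 3, 0, 3, 4, 0, 4] p = _
  simp only [wapp_cons, wapp_nil, px_c0, px_c1, px_c2, px_c3, px_c4, px_c5, px_c6, px_c7]
  rfl

theorem hfixk_27 : ∀ p < N, R27 p = p := by
  intro p hp
  have hp' : p < 122760 := hp
  by_cases g0 : p < 3739
  · exact chkFix_spec chkR27_0 p (by omega) (by omega)
  by_cases g1 : p < 26466
  · exact chkFix_spec chkR27_1 p (by omega) (by omega)
  by_cases g2 : p < 49193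
  · exact chkFix_spec chkR27_2 p (by omega) (by omega)
  by_cases g3 : p < 71920
  · exact chkFix_spec chkR27_3 p (by omega) (by omega)
  by_cases g4 : p < 94647
  · exact chkFix_spec chkR27_4 p (by omega) (by omega)
  by_cases g5 : p < 117374
  · exact chkFix_spec chkR27_5 p (by omega) (by omega)
  exact chkFix_spec chkR27_6 p (by omega) (by omega)

theorem hfixw_27 (p : ℕ) : wapp px (base.getD 27 []) p = R27 p := by
  show wapp px [0, 6, 5, 0, 5, 6, 0, 6, 5, 0, 5] p = _
  simp only [wapp_cons, wapp_nil, px_c0, px_c1, px_c2, px_c3, px_c4, px_c5, px_c6, px_c7]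
  rfl

theorem hfixk_28 : ∀ p < N, R28 p = p := by
  intro p hp
  have hp' : p < 122760 := hp
  by_cases g0 : p < 95377
  · exact chkFix_spec chkR28_0 p (by omega) (by omega)
  exact chkFix_spec chkR28_1 p (by omega) (by omega)

theorem hfixw_28 (p : ℕ) : wapp px (base.getD 28 []) p = R28 p := by
  show wapp px [0, 1] p = _
  simp only [wapp_cons, wapp_nil, px_c0, px_c1, px_c2, px_c3, px_c4, px_c5, px_c6, px_c7]
  rfl

theorem hfix_k : ∀ k < 29, ∀ p < N, wapp px (base.getD k []) p = p := by
  intro k hk
  interval_cases k
  · intro p hp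
    rw [hfixw_0]
    exact hfixk_0 p hp
  · intro p hp
    rw [hfixw_1]
    exact hfixk_1 p hp
  · intro p hp
    rw [hfixw_2]
    exact hfixk_2 p hp
  · intro p hp
    rw [hfixw_3]
    exact hfixk_3 p hp
  · intro p hp
    rw [hfixw_4]
    exact hfixk_4 p hp
  · intro p hp
    rw [hfixw_5]
    exact hfixk_5 p hp
  · intro p hp
    rw [hfixw_6]
    exact hfixk_6 p hp
  · intro p hp
    rw [hfixw_7]
    exact hfixk_7 p hp
  · intro p hp
    rw [hfixw_8]
    exact hfixk_8 p hp
  · intro p hp
    rw [hfixw_9]
    exact hfixk_9 p hp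
  · intro p hp
    rw [hfixw_10]
    exact hfixk_10 p hp
  · intro p hp
    rw [hfixw_11]
    exact hfixk_11 p hp
  · intro p hp
    rw [hfixw_12]
    exact hfixk_12 p hp
  · intro p hp
    rw [hfixw_13]
    exact hfixk_13 p hp
  · intro p hp
    rw [hfixw_14]
    exact hfixk_14 p hp
  · intro p hp
    rw [hfixw_15 p hp]
    exact hfixk_15 p hp
  · intro p hp
    rw [hfixw_16]
    exact hfixk_16 p hp
  · intro p hp
    rw [hfixw_17]
    exact hfixk_17 p hp
  · intro p hp
    rw [hfixw_18]
    exact hfixk_18 p hp
  · intro p hp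
    rw [hfixw_19]
    exact hfixk_19 p hp
  · intro p hp
    rw [hfixw_20]
    exact hfixk_20 p hp
  · intro p hp
    rw [hfixw_21]
    exact hfixk_21 p hp
  · intro p hp
    rw [hfixw_22]
    exact hfixk_22 p hp
  · intro p hp
    rw [hfixw_23]
    exact hfixk_23 p hp
  · intro p hp
    rw [hfixw_24]
    exact hfixk_24 p hp
  · intro p hp
    rw [hfixw_25 p hp]
    exact hfixk_25 p hp
  · intro p hp
    rw [hfixw_26]
    exact hfixk_26 p hp
  · intro p hp
    rw [hfixw_27]
    exact hfixk_27 p hp
  · intro p hp
    rw [hfixw_28]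
    exact hfixk_28 p hp


theorem hfix : ∀ b ∈ base, ∀ p < N, wapp px b p = p := by
  intro b hb
  obtain ⟨k, hk, rfl⟩ := List.mem_iff_getElem.mp hb
  have hk' : k < 29 := hk
  have := hfix_k k hk'
  rw [List.getD_eq_getElem _ _ hk] at this
  exact this

theorem htree : ∀ p, 0 < p → p < N → ∃ c < 8, ∃ q < p, px c q = p := chkTree_spec chkT

theorem hsubP : ∀ s ∈ S, ∃ w, (∀ c ∈ w, c < 8) ∧ s = wordElt gc w ∧ wapp px w 0 = 0 := by
  intro s hs
  obtain ⟨w, hw, rfl⟩ := hsw s hs
  refine ⟨w, (hsw' w hw).1, rfl, ?_⟩
  simp only [subw, List.mem_cons, List.mem_nil_iff, or_false] at hw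
  rcases hw with rfl | rfl | rfl | rfl | rfl | rfl
  · exact Nat.eq_of_beq_eq_true chkH0
  · exact Nat.eq_of_beq_eq_true chkH1
  · exact Nat.eq_of_beq_eq_true chkH2
  · exact Nat.eq_of_beq_eq_true chkH3
  · exact Nat.eq_of_beq_eq_true chkH4
  · exact Nat.eq_of_beq_eq_true chkH5

theorem hlab : ∀ w ∈ subw, ∀ p < N, lab (wapp px w p) = lab p := by
  intro w hw
  simp only [subw, List.mem_cons, List.mem_nil_iff, or_false] at hw
  rcases hw with rfl | rfl | rfl | rfl | rfl | rfl
  · exact chkLab_spec chkLab0
  · exact chkLab_spec chkLab1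
  · exact chkLab_spec chkLab2
  · exact chkLab_spec chkLab3
  · exact chkLab_spec chkLab4
  · exact chkLab_spec chkLab5

theorem hsel_mem : ∀ k p, ∃ w ∈ subw, hsel k p = wapp px w p := by
  intro k p
  match k with
  | 0 => exact ⟨_, List.getElem_mem (l := subw) (n := 0) (by decide), rfl⟩
  | 1 => exact ⟨_, List.getElem_mem (l := subw) (n := 1) (by decide), rfl⟩
  | 2 => exact ⟨_, List.getElem_mem (l := subw) (n := 2) (by decide), rfl⟩
  | 3 => exact ⟨_, List.getElem_mem (l := subw) (n := 3) (by decide), rfl⟩
  | 4 => exact ⟨_, List.getElem_mem (l := subw) (n := 4) (by decide), rfl⟩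
  | (k + 5) => exact ⟨_, List.getElem_mem (l := subw) (n := 5) (by decide), rfl⟩

theorem isRoot_cases {p : ℕ} (h : isRoot p = true) : p = 0 ∨ p = 1 ∨ p = 6 ∨ p = 12 ∨ p = 32 := by
  unfold isRoot at h
  rw [brec_beq] at h
  by_cases h0 : p = 0
  · exact Or.inl h0
  · rw [if_neg h0] at h
    rw [brec_beq] at h
    by_cases h1 : p = 1
    · exact Or.inr (Or.inl h1)
    · rw [if_neg h1] at h
      rw [brec_beq] at h
      by_cases h2 : p = 6
      · exact Or.inr (Or.inr (Or.inl h2))
      · rw [if_neg h2] at h
        rw [brec_beq] at h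
        by_cases h3 : p = 12
        · exact Or.inr (Or.inr (Or.inr (Or.inl h3)))
        · rw [if_neg h3] at h
          rw [brec_beq] at h
          by_cases h4 : p = 32
          · exact Or.inr (Or.inr (Or.inr (Or.inr (h4))))
          · rw [if_neg h4] at h
            exact absurd h (by simp)

theorem lab_r0 : lab 0 = 0 := by decide +kernel
theorem lab_r1 : lab 1 = 1 := by decide +kernel
theorem lab_r2 : lab 6 = 2 := by decide +kernel
theorem lab_r3 : lab 12 = 3 := by decide +kernel
theorem lab_r4 : lab 32 = 4 := by decide +kernel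

theorem htreeH (p0 : ℕ) (hp0 : p0 = 0 ∨ p0 = 1 ∨ p0 = 6 ∨ p0 = 12 ∨ p0 = 32) :
    ∀ p < N, lab p = lab p0 → p ≠ p0 → ∃ w ∈ subw, rnk (wapp px w p) < rnk p := by
  intro p hp hl hne
  rcases chkRank_spec chkRk p hp with h | h
  · exfalso
    have := isRoot_cases h
    rcases this with rfl | rfl | rfl | rfl | rfl <;> rcases hp0 with rfl | rfl | rfl | rfl | rfl <;>
      simp only [lab_r0, lab_r1, lab_r2, lab_r3, lab_r4] at hl <;> first | exact hne rfl | omega
  · obtain ⟨w, hw, e⟩ := hsel_mem (Nat.land (Nat.shiftRight (HR p) 4) 15) p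
    refine ⟨w, hw, ?_⟩
    rw [← e]
    exact h

theorem main : (((Subgroup.closure ({Cfsg.Spor.ON.a, Cfsg.Spor.ON.b, Cfsg.Spor.ON.c, Cfsg.Spor.ON.d, Cfsg.Spor.ON.e, Cfsg.Spor.ON.f} : Set (FreeGroup Cfsg.Spor.ON.Gen))).map (PresentedGroup.mk (Cfsg.Spor.coxRelators Cfsg.Spor.ON.edges ∪ {r | r ∈ Cfsg.Spor.ON.extra})))).index = 122760 := by
  obtain ⟨φ, hw, hfixH, htrans⟩ := perm_rep (rels := Rels) (S := S) hP hC (rel_cover hP hfix) hsubP htree
  obtain ⟨hidx, F, hF⟩ := index_eq hP.Npos hfixH htrans idx_le.1 idx_le.2
  exact hidx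

theorem orbits_thm : (subH Rels S).index = 122760 ∧ ∃ q1 q2 q3 q4 : ON ⧸ subH Rels S, (MulAction.orbit (subH Rels S) q1).ncard = 5586 ∧ (MulAction.orbit (subH Rels S) q2).ncard = 6384 ∧ (MulAction.orbit (subH Rels S) q3).ncard = 52136 ∧ (MulAction.orbit (subH Rels S) q4).ncard = 58653 := by
  obtain ⟨φ, hw, hfixH, htrans⟩ := perm_rep (rels := Rels) (S := S) hP hC (rel_cover hP hfix) hsubP htree
  obtain ⟨hidx, F, hF⟩ := index_eq hP.Npos hfixH htrans idx_le.1 idx_le.2
  refine ⟨hidx, F.symm ⟨12, by decide⟩, F.symm ⟨32, by decide⟩, F.symm ⟨6, by decide⟩, F.symm ⟨1, by decide⟩, ?_, ?_, ?_, ?_⟩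
  · have h1 := orbit_spec hF hw subw hsw hsw' lab rnk 12 (by decide) hlab (htreeH 12 (by simp))
    have h2 := orbit_ncard lab 12 (by decide) h1
    rw [lab_r3, ← cntLab_eq] at h2
    exact h2.trans chkCnt3
  · have h1 := orbit_spec hF hw subw hsw hsw' lab rnk 32 (by decide) hlab (htreeH 32 (by simp))
    have h2 := orbit_ncard lab 32 (by decide) h1
    rw [lab_r4, ← cntLab_eq] at h2
    exact h2.trans chkCnt4
  · have h1 := orbit_spec hF hw subw hsw hsw' lab rnk 6 (by decide) hlab (htreeH 6 (by simp))
    have h2 := orbit_ncard lab 6 (by decide) h1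
    rw [lab_r2, ← cntLab_eq] at h2
    exact h2.trans chkCnt2
  · have h1 := orbit_spec hF hw subw hsw hsw' lab rnk 1 (by decide) hlab (htreeH 1 (by simp))
    have h2 := orbit_ncard lab 1 (by decide) h1
    rw [lab_r1, ← cntLab_eq] at h2
    exact h2.trans chkCnt1

end helpers

/-- In the presented O'Nan group (generators g, a, b, c, d, e, f), the subgroup generated by the images of a, …, f has index 122760. -/
theorem result : (((Subgroup.closure ({Cfsg.Spor.ON.a, Cfsg.Spor.ON.b, Cfsg.Spor.ON.c, Cfsg.Spor.ON.d, Cfsg.Spor.ON.e, Cfsg.Spor.ON.f} : Set (FreeGroup Cfsg.Spor.ON.Gen))).map (PresentedGroup.mk (Cfsg.Spor.coxRelators Cfsg.Spor.ON.edges ∪ {r | r ∈ Cfsg.Spor.ON.extra})))).index = 122760 := by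
  exact main

end Cfsg.Agent.S1692
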