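import Mathlib
import Cfsg.Statements.S2577
import Cfsg.Agent.Lib.Helper5.CommInv
import Cfsg.Agent.Lib.Helper5.SemisimpleConj
import Cfsg.Agent.Lib.Helper5.PrimaryDecomp

set_option autoImplicit false
open Cfsg

namespace Cfsg.Agent.S2577

open Module Polynomial Cfsg.Agent.Lib.Helper5

universe u v

section linalg
variable {F : Type*} [Field F] {V : Type*} [AddCommGroup V] [Module F V] [FiniteDimensional F V]

/-- two involutions with `-1`-eigenspaces of the same dimension are conjugate -/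
theorem exists_equiv_of_finrank_eigM (h2 : (2 : F) ≠ 0) (a b : V →ₗ[F] V) (ha : a * a = 1)
    (hb : b * b = 1) (hab : finrank F (eigM a) = finrank F (eigM b)) :
    ∃ E : V ≃ₗ[F] V, ∀ v, E (a v) = b (E v) := by
  have hca := eig_isCompl h2 ha
  have hcb := eig_isCompl h2 hb
  have h1 := Submodule.finrank_add_eq_of_isCompl hca
  have h3 := Submodule.finrank_add_eq_of_isCompl hcb
  have hP : finrank F (eigP a) = finrank F (eigP b) := by omega
  let α : eigP a ≃ₗ[F] eigP b := LinearEquiv.ofFinrankEq _ _ hP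
  let β : eigM a ≃ₗ[F] eigM b := LinearEquiv.ofFinrankEq _ _ hab
  let ea := Submodule.prodEquivOfIsCompl _ _ hca
  let eb := Submodule.prodEquivOfIsCompl _ _ hcb
  refine ⟨ea.symm ≪≫ₗ (α.prodCongr β) ≪≫ₗ eb, ?_⟩
  intro v
  obtain ⟨⟨x, y⟩, rfl⟩ := ea.surjective v
  have hax : a (x : V) = x := mem_eigP.1 x.2
  have hay : a (y : V) = -y := mem_eigM.1 y.2
  have h4 : a (ea (x, y)) = ea (x, -y) := by
    simp only [ea, Submodule.coe_prodEquivOfIsCompl', map_add, hax, hay]
    simp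
  rw [h4]
  simp only [LinearEquiv.trans_apply, LinearEquiv.symm_apply_apply, LinearEquiv.prodCongr_apply,
    map_neg]
  have hbx : b ((α x : eigP b) : V) = α x := mem_eigP.1 (α x).2
  have hby : b ((β y : eigM b) : V) = -(β y) := mem_eigM.1 (β y).2
  simp only [eb, Submodule.coe_prodEquivOfIsCompl', map_add, hbx, hby]
  simp

/-- rank of `a + 1` in terms of the `-1`-eigenspace -/
theorem finrank_range_add_one (a : V →ₗ[F] V) :
    finrank F (LinearMap.range (a + 1)) + finrank F (eigM a) = finrank F V :=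
  LinearMap.finrank_range_add_finrank_ker (a + 1)

theorem finrank_range_sub_one (a : V →ₗ[F] V) :
    finrank F (LinearMap.range (a - 1)) + finrank F (eigP a) = finrank F V :=
  LinearMap.finrank_range_add_finrank_ker (a - 1)

end linalg

section mat
variable {F : Type*} [Field F] {n : ℕ}

theorem rank_add_one (g : Matrix (Fin n) (Fin n) F) :
    (g + 1).rank + finrank F (eigM (Matrix.toLin' g)) = n := by
  have h := finrank_range_add_one (Matrix.toLin' g)
  rw [Module.finrank_fin_fun] at h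
  have e : (g + 1).rank = finrank F (LinearMap.range (Matrix.toLin' g + 1)) := by
    rw [Matrix.rank, ← Matrix.toLin'_apply', map_add, Matrix.toLin'_one]
    rfl
  omega

theorem rank_sub_one (g : Matrix (Fin n) (Fin n) F) :
    (g - 1).rank + finrank F (eigP (Matrix.toLin' g)) = n := by
  have h := finrank_range_sub_one (Matrix.toLin' g)
  rw [Module.finrank_fin_fun] at h
  have e : (g - 1).rank = finrank F (LinearMap.range (Matrix.toLin' g - 1)) := by
    rw [Matrix.rank, ← Matrix.toLin'_apply', map_sub, Matrix.toLin'_one]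
    rfl
  omega

theorem toLin'_inv (g : Matrix (Fin n) (Fin n) F) (hg : g * g = 1) :
    Matrix.toLin' g * Matrix.toLin' g = 1 := by
  rw [Module.End.mul_eq_comp, ← Matrix.toLin'_mul, hg, Matrix.toLin'_one]
  rfl

theorem rank_neg_add_one (h2 : (2 : F) ≠ 0) (g : Matrix (Fin n) (Fin n) F) (hg : g * g = 1) :
    (-g + 1).rank + (g + 1).rank = n := by
  have h1 := rank_add_one g
  have h3 := rank_add_one (-g)
  have h4 := Submodule.finrank_add_eq_of_isCompl (eig_isCompl h2 (toLin'_inv g hg))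
  rw [Module.finrank_fin_fun] at h4
  have h5 : eigM (Matrix.toLin' (-g)) = eigP (Matrix.toLin' g) := by
    ext x
    rw [mem_eigM, mem_eigP, map_neg, LinearMap.neg_apply, neg_inj]
  rw [h5] at h3
  omega

/-- involutive matrices with the same rank of `g + 1` are similar -/
theorem exists_conj_of_rank (h2 : (2 : F) ≠ 0) (g h : Matrix (Fin n) (Fin n) F) (hg : g * g = 1)
    (hh : h * h = 1) (hr : (g + 1).rank = (h + 1).rank) :
    ∃ P : Matrix (Fin n) (Fin n) F, IsUnit P.det ∧ P * g = h * P := by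
  have h1 := rank_add_one g
  have h3 := rank_add_one h
  obtain ⟨E, hE⟩ := exists_equiv_of_finrank_eigM h2 (Matrix.toLin' g) (Matrix.toLin' h)
    (toLin'_inv g hg) (toLin'_inv h hh) (by omega)
  refine ⟨LinearMap.toMatrix' E.toLinearMap, ?_, ?_⟩
  · have h1 : LinearMap.toMatrix' E.toLinearMap * LinearMap.toMatrix' E.symm.toLinearMap = 1 := by
      rw [← LinearMap.toMatrix'_comp]
      have : E.toLinearMap ∘ₗ E.symm.toLinearMap = LinearMap.id := by
        ext v; simp
      rw [this, LinearMap.toMatrix'_id]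
    exact IsUnit.of_mul_eq_one _ (by rw [← Matrix.det_mul, h1, Matrix.det_one])
  · have h2 : E.toLinearMap ∘ₗ Matrix.toLin' g = Matrix.toLin' h ∘ₗ E.toLinearMap := by
      apply LinearMap.ext
      intro v
      exact hE v
    have h3 := congrArg LinearMap.toMatrix' h2
    rwa [LinearMap.toMatrix'_comp, LinearMap.toMatrix'_comp, LinearMap.toMatrix'_toLin',
      LinearMap.toMatrix'_toLin'] at h3

theorem rank_conj (P g h : Matrix (Fin n) (Fin n) F) (hP : IsUnit P.det) (hPg : P * g = h * P) :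
    (g + 1).rank = (h + 1).rank := by
  have h1 : P * (g + 1) = (h + 1) * P := by
    rw [mul_add, add_mul, hPg, mul_one, one_mul]
  have h2 : (P * (g + 1)).rank = (g + 1).rank := Matrix.rank_mul_eq_right_of_isUnit_det _ _ hP
  have h3 : ((h + 1) * P).rank = (h + 1).rank := Matrix.rank_mul_eq_left_of_isUnit_det _ _ hP
  rw [← h2, h1, h3]

/-- the diagonal involution with `i` entries `-1` -/
def dmat (n i : ℕ) : Matrix (Fin n) (Fin n) F :=
  Matrix.diagonal (fun j : Fin n => if (j : ℕ) < i then (-1 : F) else 1)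

theorem dmat_mul_self (i : ℕ) : (dmat n i : Matrix (Fin n) (Fin n) F) * dmat n i = 1 := by
  unfold dmat
  rw [Matrix.diagonal_mul_diagonal, ← Matrix.diagonal_one]
  congr 1
  funext j
  split_ifs <;> simp

theorem rank_dmat [DecidableEq F] (h2 : (2 : F) ≠ 0) (i : ℕ) (hi : i ≤ n) :
    ((dmat n i : Matrix (Fin n) (Fin n) F) + 1).rank = n - i := by
  have h1 : (dmat n i : Matrix (Fin n) (Fin n) F) + 1
      = Matrix.diagonal (fun j : Fin n => if (j : ℕ) < i then (0 : F) else 2) := by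
    unfold dmat
    rw [← Matrix.diagonal_one, Matrix.diagonal_add]
    congr 1
    funext j
    split_ifs
    · simp
    · norm_num
  rw [h1, Matrix.rank_diagonal]
  have h3 : ∀ j : Fin n, ((if (j : ℕ) < i then (0 : F) else 2) ≠ 0) ↔ ¬ (j : ℕ) < i := by
    intro j
    split_ifs with h
    · simp [h]
    · simp [h, h2]
  rw [Fintype.card_congr (Equiv.subtypeEquivRight h3), Fintype.card_subtype_compl,
    Fintype.card_fin]
  congr 1
  rw [Fintype.card_subtype]
  rw [Fin.card_filter_val_lt]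
  omega

end mat

section irr
variable {F : Type u} [Field F] {V : Type v} [AddCommGroup V] [Module F V] [FiniteDimensional F V]

/-- charpoly of an endomorphism killed by an irreducible monic polynomial -/
theorem charpoly_of_irreducible (φ : V →ₗ[F] V) (s : F[X]) (hs : Irreducible s) (hm : s.Monic)
    (hφ : aeval φ s = 0) : ∃ k, φ.charpoly = s ^ k := by
  classical
  obtain ⟨ι, _, p, hp, e, Ψ, hΨ⟩ := exists_primary_decomp φ
  obtain ⟨he, hc⟩ := decomp_facts φ s hs.squarefree hφ p hp e Ψ hΨ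
  refine ⟨∑ i, e i, ?_⟩
  rw [hc, ← Finset.prod_pow_eq_pow_sum]
  apply Finset.prod_congr rfl
  intro i _
  have hdvd : p i ^ e i ∣ s := by
    have h1 := hΨ s (Ψ.symm (Pi.single i 1)) i
    rw [hφ, LinearMap.zero_apply, map_zero, Pi.zero_apply, LinearEquiv.apply_symm_apply,
      Pi.single_eq_same, mul_one] at h1
    have := (Ideal.Quotient.eq_zero_iff_mem.1 h1.symm)
    exact Ideal.mem_span_singleton.1 this
  rcases Nat.eq_zero_or_pos (e i) with h0 | hpos
  · rw [h0, pow_zero, pow_zero, nz_one]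
  · have h1 : e i = 1 := le_antisymm (he i) hpos
    rw [h1, pow_one] at hdvd ⊢
    rw [pow_one]
    have hassoc : Associated (p i) s := (hp i).associated_of_dvd hs hdvd
    exact Polynomial.eq_of_monic_of_associated (nz_monic (hp i).ne_zero) hm
      ((nz_associated (hp i).ne_zero).trans hassoc)

theorem charpoly_eq_of_irreducible (φ ψ : V →ₗ[F] V) (s : F[X]) (hs : Irreducible s)
    (hm : s.Monic) (hφ : aeval φ s = 0) (hψ : aeval ψ s = 0) : φ.charpoly = ψ.charpoly := by
  obtain ⟨k, hk⟩ := charpoly_of_irreducible φ s hs hm hφ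
  obtain ⟨l, hl⟩ := charpoly_of_irreducible ψ s hs hm hψ
  have h1 := LinearMap.charpoly_natDegree φ
  have h2 := LinearMap.charpoly_natDegree ψ
  rw [hk, natDegree_pow] at h1
  rw [hl, natDegree_pow] at h2
  have hpos : 0 < s.natDegree := hs.natDegree_pos
  have : k = l := by
    have : k * s.natDegree = l * s.natDegree := by rw [h1, h2]
    exact Nat.eq_of_mul_eq_mul_right hpos this
  rw [hk, hl, this]

theorem finrank_of_irreducible (φ : V →ₗ[F] V) (s : F[X]) (hs : Irreducible s) (hm : s.Monic)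
    (hφ : aeval φ s = 0) : s.natDegree ∣ finrank F V := by
  obtain ⟨k, hk⟩ := charpoly_of_irreducible φ s hs hm hφ
  have h1 := LinearMap.charpoly_natDegree φ
  rw [hk, natDegree_pow] at h1
  exact ⟨k, by rw [← h1, mul_comm]⟩

end irr

section mat2
variable {F : Type u} [Field F] {n : ℕ}

theorem irreducible_sq_sub (l : F) (hl : ¬ IsSquare l) : Irreducible (X ^ 2 - C l : F[X]) := by
  apply irreducible_of_degree_le_three_of_not_isRoot
  · rw [natDegree_X_pow_sub_C]
    decide
  · intro x hx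
    rw [IsRoot.def, eval_sub, eval_pow, eval_X, eval_C, sub_eq_zero] at hx
    exact hl ⟨x, by rw [← hx, sq]⟩

theorem aeval_sq_sub (g : Matrix (Fin n) (Fin n) F) (l : F) (hg : g * g = l • 1) :
    aeval (Matrix.toLin' g) (X ^ 2 - C l : F[X]) = 0 := by
  rw [map_sub, map_pow, aeval_X, aeval_C, sq, Module.End.mul_eq_comp, ← Matrix.toLin'_mul, hg]
  rw [map_smul, Matrix.toLin'_one, Algebra.algebraMap_eq_smul_one]
  exact sub_self _

theorem even_of_sq (g : Matrix (Fin n) (Fin n) F) (l : F) (hl : ¬ IsSquare l)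
    (hg : g * g = l • 1) : Even n := by
  have h := finrank_of_irreducible (Matrix.toLin' g) _ (irreducible_sq_sub l hl)
    (monic_X_pow_sub_C l (by norm_num)) (aeval_sq_sub g l hg)
  rw [natDegree_X_pow_sub_C, Module.finrank_fin_fun] at h
  exact even_iff_two_dvd.2 h

theorem exists_conj_of_sq (g h : Matrix (Fin n) (Fin n) F) (l : F) (hl : ¬ IsSquare l)
    (hg : g * g = l • 1) (hh : h * h = l • 1) :
    ∃ P : Matrix (Fin n) (Fin n) F, IsUnit P.det ∧ P * g = h * P := by
  have hs := irreducible_sq_sub l hl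
  have hc := charpoly_eq_of_irreducible (Matrix.toLin' g) (Matrix.toLin' h) _ hs
    (monic_X_pow_sub_C l (by norm_num)) (aeval_sq_sub g l hg) (aeval_sq_sub h l hh)
  obtain ⟨E, hE⟩ := conj_of_charpoly_eq (Matrix.toLin' g) (Matrix.toLin' h) _ hs.squarefree
    (aeval_sq_sub g l hg) (aeval_sq_sub h l hh) hc
  refine ⟨LinearMap.toMatrix' E.toLinearMap, ?_, ?_⟩
  · have h1 : LinearMap.toMatrix' E.toLinearMap * LinearMap.toMatrix' E.symm.toLinearMap = 1 := by
      rw [← LinearMap.toMatrix'_comp]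
      have : E.toLinearMap ∘ₗ E.symm.toLinearMap = LinearMap.id := by
        ext v; simp
      rw [this, LinearMap.toMatrix'_id]
    exact IsUnit.of_mul_eq_one _ (by rw [← Matrix.det_mul, h1, Matrix.det_one])
  · have h2 : E.toLinearMap ∘ₗ Matrix.toLin' g = Matrix.toLin' h ∘ₗ E.toLinearMap := by
      apply LinearMap.ext
      intro v
      exact hE v
    have h3 := congrArg LinearMap.toMatrix' h2
    rwa [LinearMap.toMatrix'_comp, LinearMap.toMatrix'_comp, LinearMap.toMatrix'_toLin',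
      LinearMap.toMatrix'_toLin'] at h3

end mat2

section mat3
variable {F : Type*} [Field F] {n : ℕ}

theorem exists_sq_eq_scalar (μ : F) (hn : Even n) :
    ∃ g : Matrix (Fin n) (Fin n) F, g * g = μ • 1 := by
  obtain ⟨m, rfl⟩ := hn
  let b : Matrix (Fin 2) (Fin 2) F := !![0, 1; μ, 0]
  have hb : b * b = μ • 1 := by
    ext i j
    fin_cases i <;> fin_cases j <;> simp [b, Matrix.mul_apply, Fin.sum_univ_two]
  let B : Matrix (Fin 2 × Fin m) (Fin 2 × Fin m) F := Matrix.blockDiagonal (fun _ : Fin m => b)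
  have hB : B * B = μ • 1 := by
    show Matrix.blockDiagonal (fun _ : Fin m => b) * Matrix.blockDiagonal (fun _ : Fin m => b) = _
    rw [← Matrix.blockDiagonal_mul]
    have : (fun k : Fin m => (fun _ : Fin m => b) k * (fun _ : Fin m => b) k)
        = μ • (1 : Fin m → Matrix (Fin 2) (Fin 2) F) := by
      funext k
      exact hb
    rw [this, Matrix.blockDiagonal_smul, Matrix.blockDiagonal_one]
  have hcard : Fintype.card (Fin 2 × Fin m) = m + m := by
    rw [Fintype.card_prod, Fintype.card_fin, Fintype.card_fin]; ring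
  let e : Fin 2 × Fin m ≃ Fin (m + m) := Fintype.equivFinOfCardEq hcard
  refine ⟨Matrix.reindexAlgEquiv F F e B, ?_⟩
  rw [← map_mul, hB, map_smul, map_one]

end mat3

section pgl
variable {F : Type*} [Field F] {n : ℕ}

theorem mem_center_iff' (hn : 1 ≤ n) (z : GL (Fin n) F) :
    z ∈ Subgroup.center (GL (Fin n) F) ↔ ∃ c : F, c ≠ 0 ∧ z.1 = c • 1 := by
  rw [Matrix.GeneralLinearGroup.mem_center_iff_val_mem_range_scalar]
  constructor
  · rintro ⟨c, hc⟩
    refine ⟨c, ?_, ?_⟩
    · rintro rfl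
      have h1 : z.1 = 0 := by rw [← hc]; simp
      have h2 := z.mul_inv
      rw [h1, zero_mul] at h2
      have : (0 : Matrix (Fin n) (Fin n) F) ⟨0, by omega⟩ ⟨0, by omega⟩ = (1 : Matrix (Fin n) (Fin n) F) ⟨0, by omega⟩ ⟨0, by omega⟩ := by rw [h2]
      simp at this
    · rw [← hc, Matrix.scalar_apply, Matrix.smul_one_eq_diagonal]
  · rintro ⟨c, _, hc⟩
    exact ⟨c, by rw [hc, Matrix.scalar_apply, Matrix.smul_one_eq_diagonal]⟩

/-- conjugacy in `PGL` gives similarity up to a scalar -/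
theorem conj_imp (hn : 1 ≤ n) (g h : GL (Fin n) F)
    (hc : IsConj (QuotientGroup.mk g : GL (Fin n) F ⧸ Subgroup.center (GL (Fin n) F))
      (QuotientGroup.mk h)) :
    ∃ (P : Matrix (Fin n) (Fin n) F) (c : F), IsUnit P.det ∧ c ≠ 0 ∧ P * g.1 = c • (h.1 * P) := by
  rw [isConj_iff] at hc
  obtain ⟨y, hy⟩ := hc
  obtain ⟨x, rfl⟩ := QuotientGroup.mk_surjective y
  rw [← QuotientGroup.mk_inv, ← QuotientGroup.mk_mul, ← QuotientGroup.mk_mul,
    QuotientGroup.eq] at hy
  obtain ⟨c, hc0, hc⟩ := (mem_center_iff' hn _).1 hy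
  refine ⟨x.1, c⁻¹, ?_, inv_ne_zero hc0, ?_⟩
  · exact (Matrix.isUnit_iff_isUnit_det _).1 x.isUnit
  · have h1 : h = (x * g * x⁻¹) * ((x * g * x⁻¹)⁻¹ * h) := by group
    have h2 : h.1 = (x * g * x⁻¹).1 * (c • 1) := by
      conv_lhs => rw [h1]
      rw [Units.val_mul, hc]
    rw [Matrix.mul_smul, Matrix.mul_one] at h2
    rw [h2, Matrix.smul_mul, smul_smul]
    have h3 : (x * g * x⁻¹).1 * x.1 = x.1 * g.1 := by
      rw [← Units.val_mul, ← Units.val_mul]
      congr 1
      group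
    rw [h3, inv_mul_cancel₀ hc0, one_smul]

/-- similarity up to a scalar gives conjugacy in `PGL` -/
theorem conj_of (hn : 1 ≤ n) (g h : GL (Fin n) F) (P : Matrix (Fin n) (Fin n) F) (c : F)
    (hP : IsUnit P.det) (hc0 : c ≠ 0) (hPg : P * g.1 = c • (h.1 * P)) :
    IsConj (QuotientGroup.mk g : GL (Fin n) F ⧸ Subgroup.center (GL (Fin n) F))
      (QuotientGroup.mk h) := by
  let x : GL (Fin n) F := Matrix.GeneralLinearGroup.mk'' P hP
  rw [isConj_iff]
  refine ⟨QuotientGroup.mk x, ?_⟩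
  rw [← QuotientGroup.mk_inv, ← QuotientGroup.mk_mul, ← QuotientGroup.mk_mul,
    QuotientGroup.eq, mem_center_iff' hn]
  refine ⟨c⁻¹, inv_ne_zero hc0, ?_⟩
  -- (x g x⁻¹)⁻¹ h = c⁻¹
  have h1 : ((x * g * x⁻¹)⁻¹ * h) = x * (g⁻¹ * (x⁻¹ * h * x)) * x⁻¹ := by group
  have h2 : (x⁻¹ * h * x).1 = c⁻¹ • g.1 := by
    have h3 : h.1 * x.1 = c⁻¹ • (x.1 * g.1) := by
      show h.1 * P = c⁻¹ • (P * g.1)
      rw [hPg, smul_smul, inv_mul_cancel₀ hc0, one_smul]
    rw [Units.val_mul, Units.val_mul, Matrix.mul_assoc, h3, Matrix.mul_smul, ← Matrix.mul_assoc,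
      ← Units.val_mul, inv_mul_cancel, Units.val_one, Matrix.one_mul]
  rw [h1, Units.val_mul, Units.val_mul, Units.val_mul, h2, Matrix.mul_smul, ← Units.val_mul,
    inv_mul_cancel, Units.val_one, Matrix.mul_smul, Matrix.mul_one, Matrix.smul_mul,
    ← Units.val_mul, mul_inv_cancel, Units.val_one]

theorem orderOf_mk_eq_two_iff (hn : 1 ≤ n) (g : GL (Fin n) F) :
    orderOf (QuotientGroup.mk g : GL (Fin n) F ⧸ Subgroup.center (GL (Fin n) F)) = 2 ↔
      (∃ l : F, l ≠ 0 ∧ g.1 * g.1 = l • 1) ∧ ¬ ∃ c : F, g.1 = c • 1 := by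
  constructor
  · intro h
    constructor
    · have h1 : (QuotientGroup.mk g : GL (Fin n) F ⧸ Subgroup.center (GL (Fin n) F)) ^ 2 = 1 := by
        rw [← h]; exact pow_orderOf_eq_one _
      rw [← QuotientGroup.mk_pow, QuotientGroup.eq_one_iff, mem_center_iff' hn] at h1
      obtain ⟨l, hl0, hl⟩ := h1
      refine ⟨l, hl0, ?_⟩
      rw [← hl, sq, Units.val_mul]
    · rintro ⟨c, hc⟩
      have hc0 : c ≠ 0 := by
        rintro rfl
        have h2 := g.mul_inv
        rw [hc, zero_smul, zero_mul] at h2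
        have : (0 : Matrix (Fin n) (Fin n) F) ⟨0, by omega⟩ ⟨0, by omega⟩ = (1 : Matrix (Fin n) (Fin n) F) ⟨0, by omega⟩ ⟨0, by omega⟩ := by rw [h2]
        simp at this
      have h1 : (QuotientGroup.mk g : GL (Fin n) F ⧸ Subgroup.center (GL (Fin n) F)) = 1 := by
        rw [QuotientGroup.eq_one_iff, mem_center_iff' hn]
        exact ⟨c, hc0, hc⟩
      rw [h1, orderOf_one] at h
      omega
  · rintro ⟨⟨l, hl0, hl⟩, hns⟩
    apply orderOf_eq_prime
    · rw [← QuotientGroup.mk_pow, QuotientGroup.eq_one_iff, mem_center_iff' hn]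
      exact ⟨l, hl0, by rw [sq, Units.val_mul, hl]⟩
    · intro h1
      rw [QuotientGroup.eq_one_iff, mem_center_iff' hn] at h1
      obtain ⟨c, _, hc⟩ := h1
      exact hns ⟨c, hc⟩

end pgl

section main
variable {F : Type*} [Field F] {n : ℕ}

theorem two_ne_zero_of_odd [Fintype F] (hF : Odd (Fintype.card F)) : (2 : F) ≠ 0 := by
  apply Ring.two_ne_zero
  intro h
  have := FiniteField.even_card_iff_char_two.1 h
  rcases hF with ⟨k, hk⟩
  omega

theorem exists_nonsquare_of_odd [Fintype F] (hF : Odd (Fintype.card F)) : ∃ μ : F, ¬ IsSquare μ := by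
  apply FiniteField.exists_nonsquare
  intro h
  have := FiniteField.even_card_iff_char_two.1 h
  rcases hF with ⟨k, hk⟩
  omega

theorem nonsquare_ratio [Fintype F] (l μ : F) (hl : ¬ IsSquare l)
    (hμ : ¬ IsSquare μ) : ∃ c : F, c ≠ 0 ∧ l = c * c * μ := by
  classical
  have hμ0 : μ ≠ 0 := fun h => hμ (h ▸ ⟨0, by simp⟩)
  have hl0 : l ≠ 0 := fun h => hl (h ▸ ⟨0, by simp⟩)
  have h1 : quadraticChar F (l / μ) = 1 := by
    rw [div_eq_mul_inv, map_mul, quadraticChar_neg_one_iff_not_isSquare.2 hl]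
    have h3 : quadraticChar F μ⁻¹ = -1 := by
      apply quadraticChar_neg_one_iff_not_isSquare.2
      intro ⟨r, hr⟩
      apply hμ
      refine ⟨r⁻¹, ?_⟩
      rw [← mul_inv, ← hr, inv_inv]
    rw [h3]; norm_num
  obtain ⟨c, hc⟩ := (quadraticChar_one_iff_isSquare (div_ne_zero hl0 hμ0)).1 h1
  refine ⟨c, ?_, ?_⟩
  · rintro rfl
    rw [mul_zero] at hc
    exact div_ne_zero hl0 hμ0 hc
  · rw [← hc, div_mul_cancel₀ _ hμ0]

/-- the diagonal involution as an element of `GL` -/
def Dg (n i : ℕ) : GL (Fin n) F :=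
  ⟨dmat n i, dmat n i, dmat_mul_self i, dmat_mul_self i⟩

theorem Dg_val (i : ℕ) : (Dg n i : GL (Fin n) F).1 = dmat n i := rfl

theorem exists_Bg (μ : F) (hμ : μ ≠ 0) (he : Even n) :
    ∃ B : GL (Fin n) F, B.1 * B.1 = μ • 1 := by
  obtain ⟨g, hg⟩ := exists_sq_eq_scalar (n := n) μ he
  refine ⟨⟨g, μ⁻¹ • g, ?_, ?_⟩, hg⟩
  · rw [Matrix.mul_smul, hg, smul_smul, inv_mul_cancel₀ hμ, one_smul]
  · rw [Matrix.smul_mul, hg, smul_smul, inv_mul_cancel₀ hμ, one_smul]

/-- cancel an invertible matrix: squares of similar matrices -/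
theorem sq_of_conj (P g h : Matrix (Fin n) (Fin n) F) (hPg : P * g = h * P) :
    P * (g * g) = (h * h) * P := by
  rw [← Matrix.mul_assoc, hPg, Matrix.mul_assoc, hPg, ← Matrix.mul_assoc]

theorem eq_of_mul_right (P A B : Matrix (Fin n) (Fin n) F) (hP : IsUnit P.det)
    (h : A * P = B * P) : A = B := by
  have hP' : IsUnit P := (Matrix.isUnit_iff_isUnit_det _).2 hP
  exact hP'.mul_left_inj.1 h

theorem scalar_inj (hn : 1 ≤ n) (a b : F) (h : a • (1 : Matrix (Fin n) (Fin n) F) = b • 1) :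
    a = b := by
  have := congrFun (congrFun h ⟨0, by omega⟩) ⟨0, by omega⟩
  simpa using this

end main


section main2
variable {F : Type*} [Field F] {n : ℕ}

theorem dmat_index_inj [DecidableEq F] (h2 : (2 : F) ≠ 0) (hn : 2 ≤ n) (i j : ℕ) (hi2 : 2 * i ≤ n)
    (hj2 : 2 * j ≤ n) (P : Matrix (Fin n) (Fin n) F) (c : F) (hP : IsUnit P.det)
    (hPg : P * dmat n i = c • (dmat n j * P)) : i = j := by
  have hPg' : P * dmat n i = (c • dmat n j) * P := by rw [Matrix.smul_mul]; exact hPg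
  have hsq := sq_of_conj P _ _ hPg'
  rw [dmat_mul_self, Matrix.mul_one, Matrix.smul_mul, Matrix.mul_smul, dmat_mul_self, smul_smul] at hsq
  have h1 : (1 : Matrix (Fin n) (Fin n) F) * P = ((c * c) • 1) * P := by
    rw [Matrix.one_mul]; exact hsq
  have hn1 : 1 ≤ n := by omega
  have h3 := scalar_inj hn1 1 (c * c) (by rw [one_smul]; exact eq_of_mul_right P _ _ hP h1)
  have hri := rank_dmat (F := F) (n := n) h2 i (by omega)
  have hrj := rank_dmat (F := F) (n := n) h2 j (by omega)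
  rcases mul_self_eq_one_iff.1 h3.symm with hc | hc
  · rw [hc, one_smul] at hPg'
    have := rank_conj P _ _ hP hPg'
    rw [hri, hrj] at this
    omega
  · rw [hc, neg_one_smul] at hPg'
    have := rank_conj P _ _ hP hPg'
    have h4 := rank_neg_add_one h2 (dmat n j : Matrix (Fin n) (Fin n) F) (dmat_mul_self j)
    rw [hri] at this
    rw [hrj] at h4
    omega

theorem dmat_ne_B (hn : 1 ≤ n) (i : ℕ) (μ : F) (hμ : ¬ IsSquare μ)
    (B P : Matrix (Fin n) (Fin n) F) (c : F) (hP : IsUnit P.det) (hc0 : c ≠ 0)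
    (hB : B * B = μ • 1) (hPg : P * dmat n i = c • (B * P)) : False := by
  have hPg' : P * dmat n i = (c • B) * P := by rw [Matrix.smul_mul]; exact hPg
  have hsq := sq_of_conj P _ _ hPg'
  rw [dmat_mul_self, Matrix.mul_one, Matrix.smul_mul, Matrix.mul_smul, hB, smul_smul, smul_smul]
    at hsq
  have h1 : (1 : Matrix (Fin n) (Fin n) F) * P = ((c * c * μ) • 1) * P := by
    rw [Matrix.one_mul]; exact hsq
  have h3 := scalar_inj hn 1 (c * c * μ) (by rw [one_smul]; exact eq_of_mul_right P _ _ hP h1)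
  apply hμ
  refine ⟨c⁻¹, ?_⟩
  field_simp
  linear_combination -h3

theorem dmat_not_scalar (h2 : (2 : F) ≠ 0) (hn : 2 ≤ n) (i : ℕ) (hi : 1 ≤ i) (hi2 : 2 * i ≤ n) :
    ¬ ∃ c : F, (dmat n i : Matrix (Fin n) (Fin n) F) = c • 1 := by
  rintro ⟨c, hc⟩
  have e0 := congrFun (congrFun hc ⟨0, by omega⟩) ⟨0, by omega⟩
  have e1 := congrFun (congrFun hc ⟨n - 1, by omega⟩) ⟨n - 1, by omega⟩
  simp only [dmat, Matrix.diagonal_apply_eq, Matrix.smul_apply, Matrix.one_apply_eq, smul_eq_mul,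
    mul_one] at e0 e1
  rw [if_pos (by omega)] at e0
  rw [if_neg (by omega)] at e1
  apply h2
  have : (1 : F) = -1 := e1.trans e0.symm
  linear_combination this

theorem B_not_scalar (hn : 1 ≤ n) (μ : F) (hμ : ¬ IsSquare μ) (B : Matrix (Fin n) (Fin n) F)
    (hB : B * B = μ • 1) : ¬ ∃ c : F, B = c • 1 := by
  rintro ⟨c, rfl⟩
  rw [Matrix.smul_mul, Matrix.mul_smul, Matrix.one_mul, smul_smul] at hB
  have := scalar_inj hn _ _ hB
  exact hμ ⟨c, this.symm⟩

theorem exists_rep_square [DecidableEq F] (h2 : (2 : F) ≠ 0) (hn : 2 ≤ n)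
    (g : Matrix (Fin n) (Fin n) F) (ν : F) (hν : ν ≠ 0) (hg : g * g = (ν * ν) • 1)
    (hns : ¬ ∃ c : F, g = c • 1) :
    ∃ i, 1 ≤ i ∧ 2 * i ≤ n ∧ ∃ (P : Matrix (Fin n) (Fin n) F) (c : F), IsUnit P.det ∧ c ≠ 0 ∧
      P * g = c • (dmat n i * P) := by
  let g' : Matrix (Fin n) (Fin n) F := ν⁻¹ • g
  have hg' : g' * g' = 1 := by
    show (ν⁻¹ • g) * (ν⁻¹ • g) = 1
    rw [Matrix.smul_mul, Matrix.mul_smul, hg, smul_smul, smul_smul]
    have : ν⁻¹ * ν⁻¹ * (ν * ν) = 1 := by field_simp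
    rw [this, one_smul]
  have hgg' : g = ν • g' := by
    show g = ν • (ν⁻¹ • g)
    rw [smul_smul, mul_inv_cancel₀ hν, one_smul]
  have hinv := toLin'_inv g' hg'
  have hcompl := eig_isCompl h2 hinv
  have hsum := Submodule.finrank_add_eq_of_isCompl hcompl
  rw [Module.finrank_fin_fun] at hsum
  have hr := rank_add_one g'
  have hM_ne_top : eigM (Matrix.toLin' g') ≠ ⊤ := by
    intro h
    have := eigM_eq_top_iff.1 h
    apply hns
    refine ⟨-ν, ?_⟩
    have h3 : g' = -1 := by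
      apply Matrix.toLin'.injective
      rw [this, map_neg, Matrix.toLin'_one]
      rfl
    rw [hgg', h3]
    simp
  have hP_ne_top : eigP (Matrix.toLin' g') ≠ ⊤ := by
    intro h
    have := eigP_eq_top_iff.1 h
    apply hns
    refine ⟨ν, ?_⟩
    have h3 : g' = 1 := by
      apply Matrix.toLin'.injective
      rw [this, Matrix.toLin'_one]
      rfl
    rw [hgg', h3]
  have hM_lt := Submodule.finrank_lt hM_ne_top
  have hP_lt := Submodule.finrank_lt hP_ne_top
  rw [Module.finrank_fin_fun] at hM_lt hP_lt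
  set i := finrank F (eigM (Matrix.toLin' g')) with hi
  by_cases hcase : 2 * i ≤ n
  · refine ⟨i, by omega, hcase, ?_⟩
    obtain ⟨P, hP, hPg⟩ := exists_conj_of_rank h2 g' (dmat n i) hg' (dmat_mul_self i)
      (by rw [rank_dmat h2 i (by omega)]; omega)
    refine ⟨P, ν, hP, hν, ?_⟩
    rw [hgg', Matrix.mul_smul, hPg]
  · refine ⟨n - i, by omega, by omega, ?_⟩
    have hneg : (-g') * (-g') = 1 := by rw [neg_mul_neg, hg']
    have hrn := rank_neg_add_one h2 g' hg'
    obtain ⟨P, hP, hPg⟩ := exists_conj_of_rank h2 (-g') (dmat n (n - i)) hneg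
      (dmat_mul_self (n - i)) (by rw [rank_dmat h2 (n - i) (by omega)]; omega)
    refine ⟨P, -ν, hP, neg_ne_zero.2 hν, ?_⟩
    rw [hgg', Matrix.mul_smul, neg_smul, ← smul_neg, ← hPg, Matrix.mul_neg]
    simp

end main2


/-- Number of conjugacy classes of involutions in PGL_n(q) for q odd and n ≥ 2: there are ⌊n/2⌋ classes represented by diagonal matrices with i entries −1 (1 ≤ i ≤ n/2) and, when n is even, one more class represented by a block-diagonal matrix of 2 × 2 blocks [[0, 1], [μ, 0]] with μ a non-square (a matrix squaring to a scalar but having no eigenvalue in the field); in all ⌊n/2⌋ + 1 classes if n is even and ⌊n/2⌋ if n is odd. -/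
theorem result {F : Type*} [Field F] [Fintype F] {q : ℕ} (hF : Fintype.card F = q) (hq : Odd q) {n : ℕ} (hn : 2 ≤ n) : Nat.card {C : ConjClasses (GL (Fin n) F ⧸ Subgroup.center (GL (Fin n) F)) // ∃ g : GL (Fin n) F ⧸ Subgroup.center (GL (Fin n) F), ConjClasses.mk g = C ∧ orderOf g = 2} = n / 2 + (if Even n then 1 else 0) := by
  classical
  have hodd : Odd (Fintype.card F) := hF ▸ hq
  have h2 := two_ne_zero_of_odd hodd
  obtain ⟨μ, hμ⟩ := exists_nonsquare_of_odd hodd
  have hμ0 : μ ≠ 0 := fun h => hμ (h ▸ ⟨0, by simp⟩)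
  have hn1 : 1 ≤ n := by omega
  have hBex : ∀ _ : Even n, ∃ B : GL (Fin n) F, B.1 * B.1 = μ • 1 := fun he => exists_Bg μ hμ0 he
  choose Bg hBg using hBex
  let rep : {i // i ∈ Finset.Icc 1 (n / 2)} ⊕ PLift (Even n) → GL (Fin n) F := fun t =>
    match t with
    | Sum.inl i => Dg n i.1
    | Sum.inr he => Bg he.down
  have hiI : ∀ i : {i // i ∈ Finset.Icc 1 (n / 2)}, 1 ≤ i.1 ∧ 2 * i.1 ≤ n := by
    intro i
    have := Finset.mem_Icc.1 i.2
    constructor
    · exact this.1
    · have := this.2; omega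
  -- order two
  have hO : ∀ t, orderOf (QuotientGroup.mk (rep t) :
      GL (Fin n) F ⧸ Subgroup.center (GL (Fin n) F)) = 2 := by
    intro t
    rw [orderOf_mk_eq_two_iff hn1]
    rcases t with i | he
    · refine ⟨⟨1, one_ne_zero, ?_⟩, ?_⟩
      · show dmat n i.1 * dmat n i.1 = (1 : F) • 1
        rw [dmat_mul_self, one_smul]
      · exact dmat_not_scalar h2 hn i.1 (hiI i).1 (hiI i).2
    · refine ⟨⟨μ, hμ0, hBg he.down⟩, ?_⟩
      exact B_not_scalar hn1 μ hμ _ (hBg he.down)
  -- injectivity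
  have hI : ∀ t t', IsConj (QuotientGroup.mk (rep t) :
      GL (Fin n) F ⧸ Subgroup.center (GL (Fin n) F)) (QuotientGroup.mk (rep t')) → t = t' := by
    intro t t' hc
    rcases t with i | he <;> rcases t' with j | he'
    · obtain ⟨P, c, hP, hc0, hPg⟩ := conj_imp hn1 _ _ hc
      have := dmat_index_inj h2 hn i.1 j.1 (hiI i).2 (hiI j).2 P c hP hPg
      exact congrArg Sum.inl (Subtype.ext this)
    · obtain ⟨P, c, hP, hc0, hPg⟩ := conj_imp hn1 _ _ hc
      exact (dmat_ne_B hn1 i.1 μ hμ _ P c hP hc0 (hBg he'.down) hPg).elim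
    · obtain ⟨P, c, hP, hc0, hPg⟩ := conj_imp hn1 _ _ hc.symm
      exact (dmat_ne_B hn1 j.1 μ hμ _ P c hP hc0 (hBg he.down) hPg).elim
    · exact congrArg Sum.inr (Subsingleton.elim _ _)
  -- surjectivity
  have hS : ∀ g : GL (Fin n) F, orderOf (QuotientGroup.mk g :
      GL (Fin n) F ⧸ Subgroup.center (GL (Fin n) F)) = 2 →
      ∃ t, IsConj (QuotientGroup.mk g :
        GL (Fin n) F ⧸ Subgroup.center (GL (Fin n) F)) (QuotientGroup.mk (rep t)) := by
    intro g hg
    rw [orderOf_mk_eq_two_iff hn1] at hg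
    obtain ⟨⟨l, hl0, hl⟩, hns⟩ := hg
    by_cases hsq : IsSquare l
    · obtain ⟨ν, hν⟩ := hsq
      have hν0 : ν ≠ 0 := by
        rintro rfl
        rw [mul_zero] at hν
        exact hl0 hν
      rw [hν] at hl
      obtain ⟨i, hi1, hi2, P, c, hP, hc0, hPg⟩ := exists_rep_square h2 hn g.1 ν hν0 hl hns
      have hmem : i ∈ Finset.Icc 1 (n / 2) := by
        rw [Finset.mem_Icc]
        exact ⟨hi1, by omega⟩
      exact ⟨Sum.inl ⟨i, hmem⟩, conj_of hn1 g _ P c hP hc0 hPg⟩
    · have he : Even n := even_of_sq g.1 l hsq hl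
      obtain ⟨c, hc0, hc⟩ := nonsquare_ratio l μ hsq hμ
      have hcB : (c • (Bg he).1) * (c • (Bg he).1) = l • 1 := by
        rw [Matrix.smul_mul, Matrix.mul_smul, hBg he, smul_smul, smul_smul, hc]
      obtain ⟨P, hP, hPg⟩ := exists_conj_of_sq g.1 (c • (Bg he).1) l hsq hl hcB
      refine ⟨Sum.inr ⟨he⟩, conj_of hn1 g _ P c hP hc0 ?_⟩
      rw [hPg, Matrix.smul_mul]
  -- the bijection
  have hcard : Nat.card {C : ConjClasses (GL (Fin n) F ⧸ Subgroup.center (GL (Fin n) F)) //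
      ∃ g : GL (Fin n) F ⧸ Subgroup.center (GL (Fin n) F), ConjClasses.mk g = C ∧ orderOf g = 2}
      = Nat.card ({i // i ∈ Finset.Icc 1 (n / 2)} ⊕ PLift (Even n)) := by
    symm
    apply Nat.card_congr
    refine Equiv.ofBijective (fun t => ⟨ConjClasses.mk (QuotientGroup.mk (rep t)),
      QuotientGroup.mk (rep t), rfl, hO t⟩) ⟨?_, ?_⟩
    · intro t t' h
      have := congrArg Subtype.val h
      exact hI t t' (ConjClasses.mk_eq_mk_iff_isConj.1 this)
    · rintro ⟨C, x, rfl, hx⟩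
      obtain ⟨g, rfl⟩ := QuotientGroup.mk_surjective x
      obtain ⟨t, ht⟩ := hS g hx
      refine ⟨t, Subtype.ext ?_⟩
      exact (ConjClasses.mk_eq_mk_iff_isConj.2 ht).symm
  rw [hcard, Nat.card_sum, Nat.card_eq_fintype_card, Fintype.card_coe, Nat.card_Icc]
  congr 1
  split_ifs with he
  · have : Unique (PLift (Even n)) := ⟨⟨⟨he⟩⟩, fun _ => rfl⟩
    exact Nat.card_unique
  · have : IsEmpty (PLift (Even n)) := ⟨fun h => he h.down⟩
    exact Nat.card_of_isEmpty

end Cfsg.Agent.S2577
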