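import Mathlib
import Cfsg.Statements.S5246
import Cfsg.Agent.Lib.Helper9.PStabFus1
import Cfsg.Agent.Lib.Helper9.Radical1

set_option autoImplicit false
open Cfsg
open Cfsg.Agent Cfsg.Agent.Lib.Helper9

namespace Cfsg.Agent.S5246

/-- Let p be an odd prime, G a finite group and P a Sylow p-subgroup. Call a fusion system F p-stable when, for every fully normalized subgroup Q and every χ ∈ Aut_F(Q) acting quadratically on Q (that is, χ fixes a⁻¹χ(a) for every a ∈ Q; equivalently χ(a⁻¹)·a·χ(a⁻¹)·χ(χ(a)) = 1), χ lies in O_p(Aut_F(Q)). Then G is p-stable in the normalizer form (for every p-subgroup Q and x ∈ N_G(Q) with [Q, x, x] = 1, the image of x lies in O_p(N_G(Q)/C_G(Q))) if and only if the fusion system of G on P is p-stable. -/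
theorem result {Ω : Type*} [Group Ω] [Finite Ω] {p : ℕ} [Fact p.Prime] (hp : p ≠ 2) (P : Sylow p Ω) : Cfsg.IsNormalizerPStable p Ω ↔ (∀ Q : Subgroup Ω, (Cfsg.groupFusionSystem (P : Subgroup Ω)).IsFullyNormalized Q → ∀ χ : MulAut ↥Q, χ ∈ (Cfsg.groupFusionSystem (P : Subgroup Ω)).autGroup Q → (∀ a : ↥Q, (χ a⁻¹) * a * (χ a⁻¹) * (χ (χ a)) = 1) → χ ∈ ((Cfsg.pCore p ↥((Cfsg.groupFusionSystem (P : Subgroup Ω)).autGroup Q)).map ((Cfsg.groupFusionSystem (P : Subgroup Ω)).autGroup Q).subtype : Subgroup (MulAut ↥Q))) := by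
  have hcongr : ∀ (Q : Subgroup Ω) (χ : MulAut ↥Q) (K K' : Subgroup (MulAut ↥Q)), K = K' →
      (χ ∈ (Cfsg.pCore p ↥K).map K.subtype ↔ χ ∈ (Cfsg.pCore p ↥K').map K'.subtype) := by
    rintro Q χ K _ rfl; rfl
  constructor
  · intro hst Q hQ χ hχ hquad
    have hQP : Q ≤ P := hQ.1
    rw [hcongr Q χ _ _ (H9PStab.autGroup_eq_range _ Q hQP)]
    rw [H9PStab.autGroup_eq_range _ Q hQP] at hχ
    obtain ⟨⟨g, hg⟩, rfl⟩ := hχ
    have hQp : IsPGroup p Q := P.isPGroup'.to_le hQP
    have hc := (H9PStab.quad_iff Q g hg).2 hquad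
    have := hst Q hQp g hg hc
    exact (H9PStab.mem_pCore_quot_iff p Q g hg).1 this
  · intro hF Q' hQ'p g hg hc
    have hne : {h : Ω | Q'.map (MulAut.conj h).toMonoidHom ≤ (P : Subgroup Ω)}.Nonempty :=
      exists_map_conj_le_sylow P hQ'p
    obtain ⟨h, hh, hmax⟩ := Set.exists_max_image
      {h : Ω | Q'.map (MulAut.conj h).toMonoidHom ≤ (P : Subgroup Ω)}
      (fun h => Nat.card (Cfsg.FusionSystem.normalizerIn (P : Subgroup Ω)
        (Q'.map (MulAut.conj h).toMonoidHom))) (Set.toFinite _) hne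
    have hh' : Q'.map (MulAut.conj h).toMonoidHom ≤ (P : Subgroup Ω) := hh
    have hQfn : (Cfsg.groupFusionSystem (P : Subgroup Ω)).IsFullyNormalized
        (Q'.map (MulAut.conj h).toMonoidHom) := by
      refine ⟨hh', fun R hR => ?_⟩
      obtain ⟨-, hRP, k, rfl⟩ := (gfs_isConj_iff _ _ _).1 hR
      have e : (Q'.map (MulAut.conj h).toMonoidHom).map (MulAut.conj k).toMonoidHom
          = Q'.map (MulAut.conj (k * h)).toMonoidHom := by
        rw [Subgroup.map_map]
        congr 1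
        ext x
        simp [MulAut.conj_apply, mul_assoc]
      rw [e] at hRP ⊢
      exact hmax (k * h) hRP
    have hinj : Function.Injective (MulAut.conj h).toMonoidHom := (MulAut.conj h).injective
    have hecoe : ∀ x : Q', ((Q'.equivMapOfInjective (MulAut.conj h).toMonoidHom hinj x :
        ↥(Q'.map (MulAut.conj h).toMonoidHom)) : Ω) = h * x * h⁻¹ := by
      intro x
      rw [Subgroup.coe_equivMapOfInjective_apply]
      simp [MulAut.conj_apply]
    have he : IsFIso (Cfsg.groupFusionSystem (⊤ : Subgroup Ω))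
        (Q'.equivMapOfInjective (MulAut.conj h).toMonoidHom hinj) := by
      refine ⟨le_top, fun _ => Subgroup.mem_top _, h, fun x => ?_⟩
      exact hecoe x
    have hg' : h * g * h⁻¹ ∈ Subgroup.normalizer
        ((Q'.map (MulAut.conj h).toMonoidHom : Subgroup Ω) : Set Ω) := by
      rw [normalizer_map_conj]
      exact conj_mem_map_conj _ h hg
    have hrel : ∀ x : Q', (Q'.map (MulAut.conj h).toMonoidHom).normalizerMonoidHom
        ⟨h * g * h⁻¹, hg'⟩ (Q'.equivMapOfInjective (MulAut.conj h).toMonoidHom hinj x) =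
        Q'.equivMapOfInjective (MulAut.conj h).toMonoidHom hinj
          (Q'.normalizerMonoidHom ⟨g, hg⟩ x) := by
      intro x
      apply Subtype.ext
      rw [H9PStab.nmh_coe, hecoe, hecoe, H9PStab.nmh_coe]
      group
    have hquad := (H9PStab.quad_iff Q' g hg).1 hc
    have hquad' : ∀ a : ↥(Q'.map (MulAut.conj h).toMonoidHom),
        (Q'.map (MulAut.conj h).toMonoidHom).normalizerMonoidHom ⟨h * g * h⁻¹, hg'⟩ a⁻¹ * a *
        (Q'.map (MulAut.conj h).toMonoidHom).normalizerMonoidHom ⟨h * g * h⁻¹, hg'⟩ a⁻¹ *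
        (Q'.map (MulAut.conj h).toMonoidHom).normalizerMonoidHom ⟨h * g * h⁻¹, hg'⟩
          ((Q'.map (MulAut.conj h).toMonoidHom).normalizerMonoidHom ⟨h * g * h⁻¹, hg'⟩ a) = 1 := by
      intro a
      obtain ⟨x, rfl⟩ := (Q'.equivMapOfInjective (MulAut.conj h).toMonoidHom hinj).surjective a
      rw [← map_inv, hrel, hrel, hrel, ← map_mul, ← map_mul, ← map_mul, hquad x, map_one]
    have hχ'F : (Q'.map (MulAut.conj h).toMonoidHom).normalizerMonoidHom ⟨h * g * h⁻¹, hg'⟩ ∈
        (Cfsg.groupFusionSystem (P : Subgroup Ω)).autGroup (Q'.map (MulAut.conj h).toMonoidHom) := by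
      rw [H9PStab.autGroup_eq_range _ _ hh']
      exact ⟨_, rfl⟩
    have h1 := hF _ hQfn _ hχ'F hquad'
    rw [hcongr _ _ _ _ ((H9PStab.autGroup_eq_range _ _ hh').trans
      (H9PStab.autGroup_eq_range (⊤ : Subgroup Ω) _ le_top).symm)] at h1
    rw [pCore_autGroup_transport _ p _ he, mem_trAut_iff] at h1
    have h2 : MulAut.congr (Q'.equivMapOfInjective (MulAut.conj h).toMonoidHom hinj).symm
        ((Q'.map (MulAut.conj h).toMonoidHom).normalizerMonoidHom ⟨h * g * h⁻¹, hg'⟩) =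
        Q'.normalizerMonoidHom ⟨g, hg⟩ := by
      ext x
      have h3 : (MulAut.congr (Q'.equivMapOfInjective (MulAut.conj h).toMonoidHom hinj).symm
        ((Q'.map (MulAut.conj h).toMonoidHom).normalizerMonoidHom ⟨h * g * h⁻¹, hg'⟩)) x =
          (Q'.equivMapOfInjective (MulAut.conj h).toMonoidHom hinj).symm
            ((Q'.map (MulAut.conj h).toMonoidHom).normalizerMonoidHom ⟨h * g * h⁻¹, hg'⟩
              (Q'.equivMapOfInjective (MulAut.conj h).toMonoidHom hinj x)) := rfl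
      rw [h3, hrel x, MulEquiv.symm_apply_apply]
    rw [h2] at h1
    rw [hcongr _ _ _ _ (H9PStab.autGroup_eq_range (⊤ : Subgroup Ω) Q' le_top)] at h1
    exact (H9PStab.mem_pCore_quot_iff p Q' g hg).2 h1

end Cfsg.Agent.S5246
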