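import Cfsg.Statements.S0669
import Mathlib

set_option autoImplicit false
open Cfsg

namespace Cfsg.Agent.S0669

/-- The rank of a transitive action: orbits on ordered pairs correspond to orbits of a point stabiliser. -/
theorem result {G : Type*} [Group G] {Ω : Type*} [Finite Ω] [MulAction G Ω] [MulAction.IsPretransitive G Ω] (a : Ω) : Nat.card (MulAction.orbitRel.Quotient G (Ω × Ω)) = Nat.card (MulAction.orbitRel.Quotient (MulAction.stabilizer G a) Ω) := by
  symm
  let f : MulAction.orbitRel.Quotient (MulAction.stabilizer G a) Ω →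
      MulAction.orbitRel.Quotient G (Ω × Ω) :=
    Quotient.map' (fun b => (a, b)) (by
      intro b b' h
      change b ∈ MulAction.orbit _ b' at h
      obtain ⟨g, hg⟩ := MulAction.mem_orbit_iff.mp h
      change (a, b) ∈ MulAction.orbit G (a, b')
      refine MulAction.mem_orbit_iff.mpr ⟨(g : G), ?_⟩
      have h1 : (g : G) • a = a := g.2
      have h2 : (g : G) • b' = b := hg
      rw [Prod.smul_mk, h1, h2])
  apply Nat.card_congr
  refine Equiv.ofBijective f ⟨?_, ?_⟩
  · intro q q'
    refine Quotient.inductionOn₂' q q' ?_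
    intro b b' h
    have h' : (Quotient.mk'' (a, b) : MulAction.orbitRel.Quotient G (Ω × Ω)) =
        Quotient.mk'' (a, b') := h
    rw [Quotient.eq''] at h' ⊢
    change (a, b) ∈ MulAction.orbit G (a, b') at h'
    obtain ⟨g, hg⟩ := MulAction.mem_orbit_iff.mp h'
    rw [Prod.smul_mk, Prod.mk.injEq] at hg
    change b ∈ MulAction.orbit _ b'
    exact MulAction.mem_orbit_iff.mpr ⟨⟨g, hg.1⟩, hg.2⟩
  · intro q
    refine Quotient.inductionOn' q ?_
    rintro ⟨x, y⟩
    obtain ⟨g, hg⟩ := MulAction.exists_smul_eq G a x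
    refine ⟨Quotient.mk'' (g⁻¹ • y), ?_⟩
    change (Quotient.mk'' (a, g⁻¹ • y) : MulAction.orbitRel.Quotient G (Ω × Ω)) = Quotient.mk'' (x, y)
    rw [Quotient.eq'']
    change (a, g⁻¹ • y) ∈ MulAction.orbit G (x, y)
    refine MulAction.mem_orbit_iff.mpr ⟨g⁻¹, ?_⟩
    rw [Prod.smul_mk, ← hg, inv_smul_smul]

end Cfsg.Agent.S0669
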