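import Mathlib
import Cfsg.Statements.S4475
import Cfsg.Agent.Lib.Helper4.Characters
import Cfsg.Agent.Lib.Helper1.CharCenter

set_option autoImplicit false
open Cfsg
open scoped ComplexConjugate
open Matrix Cfsg.Agent.Lib.Helper4 Cfsg.Agent.Lib.Helper1

namespace Cfsg.Agent.S4475

section

variable {G : Type*} [Group G] [Fintype G] {n : ℕ}

/-- the averaged bilinear form -/
noncomputable def avgForm (ρ : Representation ℂ G (Fin n → ℂ)) (A : Matrix (Fin n) (Fin n) ℂ) :
    Matrix (Fin n) (Fin n) ℂ :=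
  ∑ g : G, (repMat ρ g)ᵀ * A * repMat ρ g

theorem avgForm_invariant (ρ : Representation ℂ G (Fin n → ℂ)) (A : Matrix (Fin n) (Fin n) ℂ)
    (h : G) : (repMat ρ h)ᵀ * avgForm ρ A * repMat ρ h = avgForm ρ A := by
  unfold avgForm
  rw [Finset.mul_sum, Finset.sum_mul]
  apply Fintype.sum_equiv (Equiv.mulRight h)
  intro g
  simp only [Equiv.coe_mulRight]
  rw [repMat_mul, Matrix.transpose_mul]
  simp only [Matrix.mul_assoc]

theorem avgForm_single_apply (ρ : Representation ℂ G (Fin n → ℂ)) (i j k l : Fin n) :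
    avgForm ρ (Matrix.single i j 1) k l = ∑ g : G, repMat ρ g i k * repMat ρ g j l := by
  unfold avgForm
  rw [Matrix.sum_apply]
  apply Finset.sum_congr rfl
  intro g _
  rw [Matrix.mul_apply]
  simp only [Matrix.mul_apply, Matrix.transpose_apply, Matrix.single_apply]
  rw [Finset.sum_eq_single j]
  · rw [Finset.sum_eq_single i]
    · simp
    · intro b _ hb
      simp [Ne.symm hb]
    · simp
  · intro b _ hb
    have : ∀ x : Fin n, ¬ (i = x ∧ j = b) := fun x hx => hb hx.2.symm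
    simp [this]
  · simp

theorem sum_avgForm_diag (ρ : Representation ℂ G (Fin n → ℂ)) :
    ∑ i, ∑ j, avgForm ρ (Matrix.single i j 1) i j = ∑ g : G, ρ.character g * ρ.character g := by
  simp only [avgForm_single_apply]
  have : ∀ g : G, ρ.character g * ρ.character g
      = ∑ i, ∑ j, repMat ρ g i i * repMat ρ g j j := by
    intro g
    rw [character_eq_trace_repMat, Matrix.trace, Finset.sum_mul_sum]
    rfl
  simp only [this]
  rw [Finset.sum_comm (s := (Finset.univ : Finset G))]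
  apply Finset.sum_congr rfl
  intro i _
  rw [Finset.sum_comm]
  
theorem sum_avgForm_swap (ρ : Representation ℂ G (Fin n → ℂ)) :
    ∑ i, ∑ j, avgForm ρ (Matrix.single i j 1) j i = ∑ g : G, ρ.character (g * g) := by
  simp only [avgForm_single_apply]
  have : ∀ g : G, ρ.character (g * g) = ∑ i, ∑ j, repMat ρ g i j * repMat ρ g j i := by
    intro g
    rw [character_eq_trace_repMat, repMat_mul, Matrix.trace]
    simp only [Matrix.diag_apply, Matrix.mul_apply]
  simp only [this]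
  rw [Finset.sum_comm (s := (Finset.univ : Finset G))]
  apply Finset.sum_congr rfl
  intro i _
  rw [Finset.sum_comm]

/-- intertwining form of invariance -/
theorem invariant_comm (ρ : Representation ℂ G (Fin n → ℂ)) (M : Matrix (Fin n) (Fin n) ℂ)
    (hinv : ∀ g : G, (repMat ρ g)ᵀ * M * repMat ρ g = M) (g : G) :
    M * repMat ρ g = (repMat ρ g⁻¹)ᵀ * M := by
  have h1 : (repMat ρ g⁻¹)ᵀ * (repMat ρ g)ᵀ = 1 := by
    rw [← Matrix.transpose_mul, ← repMat_mul, mul_inv_cancel, repMat_one, Matrix.transpose_one]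
  calc M * repMat ρ g = ((repMat ρ g⁻¹)ᵀ * (repMat ρ g)ᵀ) * M * repMat ρ g := by
        rw [h1, Matrix.one_mul]
    _ = (repMat ρ g⁻¹)ᵀ * ((repMat ρ g)ᵀ * M * repMat ρ g) := by
        simp only [Matrix.mul_assoc]
    _ = (repMat ρ g⁻¹)ᵀ * M := by rw [hinv g]

omit [Fintype G] in
theorem rho_apply_eq (ρ : Representation ℂ G (Fin n → ℂ)) (g : G) (v : Fin n → ℂ) :
    ρ g v = repMat ρ g *ᵥ v := by
  unfold repMat
  rw [← Matrix.toLin'_apply, Matrix.toLin'_toMatrix']

theorem isUnit_of_invariant (ρ : Representation ℂ G (Fin n → ℂ)) [hirr : ρ.IsIrreducible]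
    (M : Matrix (Fin n) (Fin n) ℂ) (hM : M ≠ 0)
    (hinv : ∀ g : G, (repMat ρ g)ᵀ * M * repMat ρ g = M) : IsUnit M := by
  let W : Subrepresentation ρ :=
    { toSubmodule := LinearMap.ker (Matrix.toLin' M)
      apply_mem_toSubmodule := by
        intro g v hv
        rw [LinearMap.mem_ker, Matrix.toLin'_apply] at hv ⊢
        rw [rho_apply_eq, Matrix.mulVec_mulVec, invariant_comm ρ M hinv g, ← Matrix.mulVec_mulVec,
          hv, Matrix.mulVec_zero] }
  rcases eq_bot_or_eq_top W with h | h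
  · have hker : LinearMap.ker (Matrix.toLin' M) = ⊥ := by
      have := congrArg Subrepresentation.toSubmodule h
      exact this
    rw [LinearMap.ker_eq_bot] at hker
    rw [← Matrix.mulVec_injective_iff_isUnit]
    intro v w hvw
    apply hker
    rw [Matrix.toLin'_apply, Matrix.toLin'_apply]
    exact hvw
  · exfalso
    apply hM
    have hker : LinearMap.ker (Matrix.toLin' M) = ⊤ := by
      have := congrArg Subrepresentation.toSubmodule h
      exact this
    rw [LinearMap.ker_eq_top] at hker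
    have := congrArg LinearMap.toMatrix' hker
    rw [LinearMap.toMatrix'_toLin'] at this
    rw [this]
    simp

theorem schur_form (ρ : Representation ℂ G (Fin n → ℂ)) [hirr : ρ.IsIrreducible]
    (M₀ M : Matrix (Fin n) (Fin n) ℂ) (hM₀ : IsUnit M₀)
    (hinv₀ : ∀ g : G, (repMat ρ g)ᵀ * M₀ * repMat ρ g = M₀)
    (hinv : ∀ g : G, (repMat ρ g)ᵀ * M * repMat ρ g = M) : ∃ c : ℂ, M = c • M₀ := by
  have hdet : IsUnit M₀.det := (Matrix.isUnit_iff_isUnit_det M₀).mp hM₀
  have hcomm : ∀ g : G, (M₀⁻¹ * M) * repMat ρ g = repMat ρ g * (M₀⁻¹ * M) := by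
    intro g
    have h1 : repMat ρ g * M₀⁻¹ = M₀⁻¹ * (repMat ρ g⁻¹)ᵀ := by
      calc repMat ρ g * M₀⁻¹ = M₀⁻¹ * (M₀ * repMat ρ g) * M₀⁻¹ := by
            rw [← Matrix.mul_assoc, Matrix.nonsing_inv_mul M₀ hdet, Matrix.one_mul]
        _ = M₀⁻¹ * ((repMat ρ g⁻¹)ᵀ * M₀) * M₀⁻¹ := by rw [invariant_comm ρ M₀ hinv₀ g]
        _ = M₀⁻¹ * (repMat ρ g⁻¹)ᵀ * (M₀ * M₀⁻¹) := by simp only [Matrix.mul_assoc]
        _ = M₀⁻¹ * (repMat ρ g⁻¹)ᵀ := by rw [Matrix.mul_nonsing_inv M₀ hdet, Matrix.mul_one]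
    rw [Matrix.mul_assoc, invariant_comm ρ M hinv g, ← Matrix.mul_assoc, ← h1, Matrix.mul_assoc]
  obtain ⟨c, hc⟩ := scalar_of_commute ρ (Matrix.toLin' (M₀⁻¹ * M)) (by
    intro g
    apply LinearMap.ext
    intro v
    simp only [LinearMap.comp_apply, Matrix.toLin'_apply, rho_apply_eq, Matrix.mulVec_mulVec]
    rw [hcomm g])
  refine ⟨c, ?_⟩
  have h2 : M₀⁻¹ * M = c • (1 : Matrix (Fin n) (Fin n) ℂ) := by
    have := congrArg LinearMap.toMatrix' hc
    rw [LinearMap.toMatrix'_toLin'] at this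
    rw [this, map_smul, LinearMap.toMatrix'_id]
  calc M = M₀ * (M₀⁻¹ * M) := by
        rw [← Matrix.mul_assoc, Matrix.mul_nonsing_inv M₀ hdet, Matrix.one_mul]
    _ = c • M₀ := by rw [h2, Matrix.mul_smul, Matrix.mul_one]

theorem sum_char_sq (ρ : Representation ℂ G (Fin n → ℂ)) (hirr : ρ.IsIrreducible)
    (hreal : ∀ g : G, (ρ.character g).im = 0) :
    ∑ g : G, ρ.character g * ρ.character g = (Nat.card G : ℂ) := by
  have hχ : IsIrrCharacter G ρ.character := ⟨n, ρ, hirr, rfl⟩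
  have h1 := classInner_irr_self hχ
  rw [classInner_def] at h1
  have h2 : ∀ g : G, conj (ρ.character g) = ρ.character g := by
    intro g
    exact Complex.conj_eq_iff_im.mpr (hreal g)
  simp only [h2] at h1
  have hne : (Nat.card G : ℂ) ≠ 0 := by
    exact_mod_cast Nat.card_pos.ne'
  field_simp at h1
  rw [← h1]
  apply Finset.sum_congr rfl
  intro g _
  ring

end

theorem result {G : Type*} [Group G] [Fintype G] (n : ℕ) (ρ : Representation ℂ G (Fin n → ℂ)) (hirr : ρ.IsIrreducible) (hreal : ∀ g : G, (ρ.character g).im = 0) : (∃ M : Matrix (Fin n) (Fin n) ℂ, M ≠ 0 ∧ ∀ g : G, (LinearMap.toMatrix' (ρ g)).transpose * M * LinearMap.toMatrix' (ρ g) = M) ∧ ∀ M : Matrix (Fin n) (Fin n) ℂ, (∀ g : G, (LinearMap.toMatrix' (ρ g)).transpose * M * LinearMap.toMatrix' (ρ g) = M) → M.transpose = ((Nat.card G : ℂ)⁻¹ * ∑ s : G, ρ.character (s * s)) • M := by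
  have := hirr
  have hne : (Nat.card G : ℂ) ≠ 0 := by
    exact_mod_cast Nat.card_pos.ne'
  -- some averaged form is nonzero
  have hex : ∃ i j, avgForm ρ (Matrix.single i j 1) ≠ 0 := by
    by_contra hcon
    push Not at hcon
    have h1 := sum_avgForm_diag ρ
    rw [sum_char_sq ρ hirr hreal] at h1
    apply hne
    rw [← h1]
    apply Finset.sum_eq_zero
    intro i _
    apply Finset.sum_eq_zero
    intro j _
    rw [hcon i j]
    rfl
  obtain ⟨i₀, j₀, h₀⟩ := hex
  obtain ⟨M₀, hM₀def⟩ : ∃ M₀, M₀ = avgForm ρ (Matrix.single i₀ j₀ 1) := ⟨_, rfl⟩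
  have hM₀ne : M₀ ≠ 0 := by rw [hM₀def]; exact h₀
  have hM₀inv : ∀ g : G, (repMat ρ g)ᵀ * M₀ * repMat ρ g = M₀ := by
    intro g; rw [hM₀def]; exact avgForm_invariant ρ _ g
  have hM₀unit : IsUnit M₀ := isUnit_of_invariant ρ M₀ hM₀ne hM₀inv
  refine ⟨⟨M₀, hM₀ne, hM₀inv⟩, ?_⟩
  -- transposes
  have htinv : ∀ g : G, (repMat ρ g)ᵀ * M₀ᵀ * repMat ρ g = M₀ᵀ := by
    intro g
    have := congrArg Matrix.transpose (hM₀inv g)
    rw [Matrix.transpose_mul, Matrix.transpose_mul, Matrix.transpose_transpose,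
      ← Matrix.mul_assoc] at this
    exact this
  obtain ⟨ε, hε⟩ := schur_form ρ M₀ M₀ᵀ hM₀unit hM₀inv htinv
  -- every invariant form is ε-symmetric
  have hsymm : ∀ M : Matrix (Fin n) (Fin n) ℂ,
      (∀ g : G, (repMat ρ g)ᵀ * M * repMat ρ g = M) → Mᵀ = ε • M := by
    intro M hM
    obtain ⟨c, hc⟩ := schur_form ρ M₀ M hM₀unit hM₀inv hM
    rw [hc, Matrix.transpose_smul, hε, smul_comm]
  -- determine ε
  have hεval : ε = (Nat.card G : ℂ)⁻¹ * ∑ s : G, ρ.character (s * s) := by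
    have h1 := sum_avgForm_diag ρ
    rw [sum_char_sq ρ hirr hreal] at h1
    have h2 := sum_avgForm_swap ρ
    have h3 : ∑ i, ∑ j, avgForm ρ (Matrix.single i j 1) j i
        = ε * ∑ i, ∑ j, avgForm ρ (Matrix.single i j 1) i j := by
      rw [Finset.mul_sum]
      apply Finset.sum_congr rfl
      intro i _
      rw [Finset.mul_sum]
      apply Finset.sum_congr rfl
      intro j _
      have := hsymm _ (avgForm_invariant ρ (Matrix.single i j 1))
      have h4 := congrFun (congrFun this i) j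
      rw [Matrix.transpose_apply, Matrix.smul_apply, smul_eq_mul] at h4
      exact h4
    rw [h2, h1] at h3
    rw [h3]
    field_simp
  intro M hM
  rw [← hεval]
  exact hsymm M hM

end Cfsg.Agent.S4475

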