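import Cfsg.Statements.S0672
import Mathlib
import Cfsg.Agent.Lib.Lead.HeartPairs

set_option autoImplicit false
open Cfsg

namespace Cfsg.Agent.S0672

/-- Let a finite group act faithfully and doubly transitively with point stabilisers of even order, and let `K` have characteristic `p` dividing the degree. If the heart of the permutation module admits no non-zero equivariant map to the permutation module on unordered pairs (phrased: every intertwining map from the sum-zero functions vanishing on the constants is zero), the action is triply transitive. -/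
theorem result {G : Type*} [Group G] [Finite G] {K : Type*} [Field K] {p : ℕ} [Fact p.Prime] [CharP K p] {Ω : Type*} [Fintype Ω] [DecidableEq Ω] [MulAction G Ω] [FaithfulSMul G Ω] (h2 : MulAction.IsMultiplyPretransitive G Ω 2) (hp : p ∣ Fintype.card Ω) (heven : ∀ a : Ω, Even (Nat.card (MulAction.stabilizer G a))) (h : ∀ f : Representation.IntertwiningMap (Cfsg.permSumZero K G Ω).toRepresentation (Cfsg.permRep K G (Set.powersetCard Ω 2)), (∀ v : (Cfsg.permSumZero K G Ω).toSubmodule, (v : Ω → K) ∈ (Cfsg.permConstants K G Ω).toSubmodule → f v = 0) → f = 0) : MulAction.IsMultiplyPretransitive G Ω 3 := by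
  classical
  by_cases H : ∀ a b c z : Ω, a ≠ b → a ≠ c → b ≠ c → a ≠ z → b ≠ z →
      ∃ g : G, ((g • a = a ∧ g • b = b) ∨ (g • a = b ∧ g • b = a)) ∧ g • c = z
  · exact Cfsg.Agent.Lib.Lead.HeartPairs.three_trans_of_H h2 heven H
  · exfalso
    push Not at H
    obtain ⟨a, b, c, z, hab, hac, hbc, haz, hbz, hno⟩ := H
    obtain ⟨f, hf1, hf2⟩ := Cfsg.Agent.Lib.Lead.HeartPairs.exists_inter_of_not_H (K := K) h2
      hab hac hbc haz hbz (by
        rintro ⟨g, hg, hgc⟩
        exact hno g hg hgc)
    exact hf2 (h f hf1)

end Cfsg.Agent.S0672
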