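import Cfsg.Statements.S0676
import Mathlib
import Cfsg.Agent.Lib.Helper2.PrimeDeg2
import Cfsg.Agent.S0672
import Cfsg.Agent.S0675

set_option autoImplicit false
open Cfsg

namespace Cfsg.Agent.S0676

/-- A non-solvable transitive permutation group of prime degree `p` whose Sylow `p`-normaliser has even order is triply transitive. -/
theorem result {α : Type*} [Fintype α] [DecidableEq α] {p : ℕ} [Fact p.Prime] (hα : Fintype.card α = p) (G : Subgroup (Equiv.Perm α)) [MulAction.IsPretransitive G α] (hG : ¬ Group.IsSolvable G) (P : Sylow p G) (heven : Even (Nat.card (Subgroup.normalizer ((P : Subgroup G) : Set G)))) : MulAction.IsMultiplyPretransitive G α 3 := by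
  classical
  have hp : p.Prime := Fact.out
  have hp5 : 5 ≤ p := by
    by_contra hlt
    have h3 : p ≤ 3 := by
      have h4 : p ≠ 4 := by
        intro h
        rw [h] at hp
        exact absurd hp (by decide)
      omega
    exact hG (Cfsg.Agent.Lib.Lead.TransInv.solvable_of_le_three hα h3 G)
  have hp2 : p ≠ 2 := by omega
  have h2t : MulAction.IsMultiplyPretransitive G α 2 :=
    (Cfsg.Agent.S0675.result (hα ▸ hp) G).resolve_left hG
  obtain ⟨σ, t, e, hσG, htG, htt, hσe, hte⟩ :=
    Cfsg.Agent.Lib.Helper2.PrimeDeg.exists_inverting hα hp2 G P heven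
  -- point stabilizers have even order
  have hstab : ∀ a : α, Nat.card (MulAction.stabilizer G a) * Fintype.card α = Nat.card G := by
    intro a
    rw [← Nat.card_eq_fintype_card, ← MulAction.index_stabilizer_of_transitive G a]
    exact Subgroup.card_mul_index _
  have heven0 : Even (Nat.card (MulAction.stabilizer G (e 0))) := by
    rw [even_iff_two_dvd]
    have hmem : (⟨t, htG⟩ : G) ∈ MulAction.stabilizer G (e 0) := by
      rw [MulAction.mem_stabilizer_iff]
      show t (e 0) = e 0
      rw [hte, neg_zero]
    have ht1 : (⟨⟨t, htG⟩, hmem⟩ : MulAction.stabilizer G (e 0)) ≠ 1 := by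
      intro h
      have h1 : t = 1 := congrArg (fun x : MulAction.stabilizer G (e 0) =>
        ((x : G) : Equiv.Perm α)) h
      have h2 : t (e 1) = e 1 := by rw [h1]; rfl
      rw [hte] at h2
      have h3 : (-1 : ZMod p) = 1 := e.injective h2
      have h4 : (2 : ZMod p) = 0 := by
        have : (1 : ZMod p) + 1 = 0 := by
          nth_rewrite 1 [← h3]
          exact neg_add_cancel 1
        rw [← this]
        norm_num
      exact Cfsg.Agent.Lib.Helper2.PrimeDeg.two_ne_zero_zmod hp2 h4
    have ht2 : (⟨⟨t, htG⟩, hmem⟩ : MulAction.stabilizer G (e 0)) ^ 2 = 1 := by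
      apply Subtype.ext
      apply Subtype.ext
      show t ^ 2 = 1
      rw [sq]
      exact htt
    have hord : orderOf (⟨⟨t, htG⟩, hmem⟩ : MulAction.stabilizer G (e 0)) = 2 :=
      orderOf_eq_prime ht2 ht1
    rw [← hord]
    exact orderOf_dvd_natCard _
  have heven' : ∀ a : α, Even (Nat.card (MulAction.stabilizer G a)) := by
    intro a
    have h1 := hstab a
    have h2 := hstab (e 0)
    have hpos : 0 < Fintype.card α := by rw [hα]; exact hp.pos
    have h3 : Nat.card (MulAction.stabilizer G a) = Nat.card (MulAction.stabilizer G (e 0)) :=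
      Nat.eq_of_mul_eq_mul_right hpos (h1.trans h2.symm)
    rw [h3]
    exact heven0
  have hpdvd : p ∣ Fintype.card α := by rw [hα]
  apply Cfsg.Agent.S0672.result (K := ZMod p) (p := p) h2t hpdvd heven'
  intro f hf
  exact Cfsg.Agent.Lib.Helper2.PrimeDeg.inter_zero hα hp2 G hG hσG htG htt hσe hte f hf

end Cfsg.Agent.S0676
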