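import Cfsg.Statements.S0800
import Mathlib


set_option autoImplicit false
open Cfsg

namespace Cfsg.Agent.S0800

open Matrix

variable {F : Type*} [Field F]

/-- Cayley–Hamilton for 2×2 matrices of determinant one. -/
theorem ch (G : Matrix (Fin 2) (Fin 2) F) (hdet : G.det = 1) :
    G * G = G.trace • G - 1 := by
  rw [Matrix.det_fin_two] at hdet
  ext i j
  fin_cases i <;> fin_cases j <;>
    simp [Matrix.mul_apply, Fin.sum_univ_two, Matrix.trace_fin_two] <;>
    first | linear_combination -hdet | linear_combination hdet | ring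

theorem pow_span (G : Matrix (Fin 2) (Fin 2) F) (τ : F) (hG : G * G = τ • G - 1) (k : ℕ) :
    ∃ a b : F, G ^ k = a • (1 : Matrix (Fin 2) (Fin 2) F) + b • G := by
  induction k with
  | zero => exact ⟨1, 0, by simp⟩
  | succ k ih =>
    obtain ⟨a, b, h⟩ := ih
    refine ⟨-b, a + b * τ, ?_⟩
    rw [pow_succ, h, add_mul, Matrix.smul_mul, Matrix.smul_mul, one_mul, hG]
    module

theorem det_lin (G : Matrix (Fin 2) (Fin 2) F) (hdet : G.det = 1) (a b : F) :
    (a • (1 : Matrix (Fin 2) (Fin 2) F) + b • G).det = a * a + a * b * G.trace + b * b := by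
  rw [Matrix.det_fin_two] at hdet
  rw [Matrix.det_fin_two, Matrix.trace_fin_two]
  simp
  linear_combination (b * b) * hdet

theorem lin_isUnit_of_noroot (G : Matrix (Fin 2) (Fin 2) F) (hdet : G.det = 1)
    (hno : ∀ x : F, x * x - G.trace * x + 1 ≠ 0) (a b : F)
    (hne : a • (1 : Matrix (Fin 2) (Fin 2) F) + b • G ≠ 0) :
    (a • (1 : Matrix (Fin 2) (Fin 2) F) + b • G).det ≠ 0 := by
  rw [det_lin G hdet]
  intro h0
  by_cases hb : b = 0
  · subst hb
    have ha : a = 0 := by
      have : a * a = 0 := by linear_combination h0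
      exact mul_self_eq_zero.mp this
    subst ha
    exact hne (by simp)
  · apply hno (-a / b)
    field_simp
    linear_combination h0

theorem case_split (G : Matrix (Fin 2) (Fin 2) F) (hdet : G.det = 1) (lam : F)
    (hlam : lam * lam - G.trace * lam + 1 = 0) (hne : lam * lam ≠ 1) (k : ℕ) (hk : lam ^ k = 1) :
    G ^ k = 1 := by
  have hG := ch G hdet
  have hl0 : lam ≠ 0 := by
    rintro rfl; simp at hlam
  have htr : G.trace = lam + lam⁻¹ := by
    field_simp
    linear_combination -hlam
  set U : Matrix (Fin 2) (Fin 2) F := G - lam⁻¹ • 1 with hU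
  set V : Matrix (Fin 2) (Fin 2) F := G - lam • 1 with hV
  have hGU : G * U = lam • U := by
    rw [hU, mul_sub, hG, htr, Matrix.mul_smul, mul_one, smul_sub, smul_smul, mul_inv_cancel₀ hl0]
    module
  have hGV : G * V = lam⁻¹ • V := by
    rw [hV, mul_sub, hG, htr, Matrix.mul_smul, mul_one, smul_sub, smul_smul, inv_mul_cancel₀ hl0]
    module
  have hkU : ∀ k : ℕ, G ^ k * U = lam ^ k • U := by
    intro k
    induction k with
    | zero => simp
    | succ k ih => rw [pow_succ, Matrix.mul_assoc, hGU, Matrix.mul_smul, ih, smul_smul, pow_succ, mul_comm]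
  have hkV : ∀ k : ℕ, G ^ k * V = (lam⁻¹) ^ k • V := by
    intro k
    induction k with
    | zero => simp
    | succ k ih => rw [pow_succ, Matrix.mul_assoc, hGV, Matrix.mul_smul, ih, smul_smul, pow_succ, mul_comm]
  have hUV : U - V = (lam - lam⁻¹) • (1 : Matrix (Fin 2) (Fin 2) F) := by
    rw [hU, hV]; module
  have hd : lam - lam⁻¹ ≠ 0 := by
    intro h
    apply hne
    field_simp at h
    linear_combination h
  have h1 : (lam - lam⁻¹) • G ^ k = (lam - lam⁻¹) • (1 : Matrix (Fin 2) (Fin 2) F) := by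
    calc (lam - lam⁻¹) • G ^ k = G ^ k * (U - V) := by rw [hUV, Matrix.mul_smul, mul_one]
      _ = U - V := by rw [mul_sub, hkU, hkV, inv_pow, hk]; simp
      _ = _ := hUV
  have := congrArg (fun M => (lam - lam⁻¹)⁻¹ • M) h1
  simpa [smul_smul, inv_mul_cancel₀ hd] using this

theorem case_unip (p : ℕ) [Fact p.Prime] [CharP F p] (G : Matrix (Fin 2) (Fin 2) F) (hdet : G.det = 1)
    (lam : F) (hlam : lam * lam - G.trace * lam + 1 = 0) (heq : lam * lam = 1) :
    G ^ (2 * p) = 1 := by
  have hG := ch G hdet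
  have hl0 : lam ≠ 0 := by
    rintro rfl; simp at hlam
  have htr : G.trace = 2 * lam := by
    have h1 : G.trace * lam = 2 := by linear_combination -hlam + heq
    have : G.trace * (lam * lam) = 2 * lam := by rw [← mul_assoc, h1]
    rw [heq, mul_one] at this
    exact this
  set N : Matrix (Fin 2) (Fin 2) F := G - lam • 1 with hN
  have hNN : N * N = 0 := by
    rw [hN, sub_mul, mul_sub, mul_sub, hG, htr]
    simp only [Matrix.mul_smul, Matrix.smul_mul, mul_one, one_mul, smul_smul, heq]
    module
  have hGN : G = lam • 1 + N := by rw [hN]; abel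
  have hcomm : Commute (lam • (1 : Matrix (Fin 2) (Fin 2) F)) N := by
    rw [Commute, SemiconjBy, Matrix.smul_mul, Matrix.mul_smul, one_mul, mul_one]
  have hp2 : 2 ≤ p := (Fact.out : p.Prime).two_le
  have hNp : N ^ p = 0 := by
    obtain ⟨r, rfl⟩ : ∃ r, p = 2 + r := ⟨p - 2, by omega⟩
    rw [pow_add, pow_two, hNN, zero_mul]
  have hGp : G ^ p = lam ^ p • (1 : Matrix (Fin 2) (Fin 2) F) := by
    rw [hGN, add_pow_char_of_commute (p := p) hcomm, hNp, add_zero, smul_pow, one_pow]
  rw [mul_comm, pow_mul, hGp, smul_pow, one_pow, ← pow_mul, mul_comm, pow_mul, pow_two, heq, one_pow, one_smul]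

theorem case_noroot [Fintype F] (p : ℕ) [Fact p.Prime] [CharP F p] (G : Matrix (Fin 2) (Fin 2) F)
    (hdet : G.det = 1) (hno : ∀ x : F, x * x - G.trace * x + 1 ≠ 0) :
    G ^ (Fintype.card F - 1) = 1 ∨ G ^ (Fintype.card F + 1) = 1 := by
  have hG := ch G hdet
  obtain ⟨n, -, hn⟩ := FiniteField.card F p
  set q := Fintype.card F with hq
  set τ := G.trace with hτ
  have hτq : τ ^ q = τ := FiniteField.pow_card τ
  set Q := G ^ q with hQ
  have hQQ : Q * Q = τ • Q - 1 := by
    have h1 : (G * G) ^ q = (τ • G - 1) ^ q := by rw [hG]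
    have hc : Commute (τ • G) (1 : Matrix (Fin 2) (Fin 2) F) := Commute.one_right _
    rw [(Commute.refl G).mul_pow, hn, sub_pow_char_pow_of_commute (p := p) (h := hc), one_pow, smul_pow, ← hn,
      hτq] at h1
    exact h1
  have hGQ : Commute G Q := (Commute.refl G).pow_right q
  obtain ⟨H, hH⟩ : ∃ H : Matrix (Fin 2) (Fin 2) F, H = τ • 1 - G := ⟨_, rfl⟩
  have hGH : G * H = 1 := by
    rw [hH, mul_sub, hG, Matrix.mul_smul, mul_one]; abel
  have hHG : H * G = 1 := by
    rw [hH, sub_mul, hG, Matrix.smul_mul, one_mul]; abel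
  have hprod : (Q - G) * (Q - H) = 0 := by
    rw [sub_mul, mul_sub, mul_sub, hGH, hQQ, hH, mul_sub, Matrix.mul_smul, mul_one, hGQ.eq]
    abel
  obtain ⟨a, b, hab⟩ := pow_span G τ hG q
  have hq1 : 1 ≤ q := Fintype.card_pos
  by_cases hQG : Q - G = 0
  · left
    have h1 : G ^ (q - 1) * G = G := by
      rw [← pow_succ, Nat.sub_add_cancel hq1]
      exact sub_eq_zero.mp hQG
    have := congrArg (fun M => M * H) h1
    simpa [Matrix.mul_assoc, hGH] using this
  · right
    have hlin : Q - G = a • (1 : Matrix (Fin 2) (Fin 2) F) + (b - 1) • G := by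
      rw [hQ, hab]; module
    have hdet' : (Q - G).det ≠ 0 := by
      rw [hlin]
      apply lin_isUnit_of_noroot G hdet hno
      rw [← hlin]; exact hQG
    have hunit : IsUnit (Q - G).det := isUnit_iff_ne_zero.mpr hdet'
    have h2 : Q - H = 0 := by
      have := congrArg (fun M => (Q - G)⁻¹ * M) hprod
      simpa [← Matrix.mul_assoc, Matrix.nonsing_inv_mul _ hunit] using this
    rw [pow_succ, ← hQ, sub_eq_zero.mp h2, hHG]

/-- Tori of SL_2(q): if g ∈ SL_2(q) has order coprime to the characteristic p, then the order of g divides q − 1 or q + 1. -/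
theorem result {F : Type*} [Field F] [Fintype F] {q : ℕ} (hF : Fintype.card F = q) (p : ℕ) [Fact p.Prime] [CharP F p] (g : Matrix.SpecialLinearGroup (Fin 2) F) (hg : Nat.Coprime (orderOf g) p) : orderOf g ∣ q - 1 ∨ orderOf g ∣ q + 1 := by
  classical
  subst hF
  set G : Matrix (Fin 2) (Fin 2) F := (g : Matrix (Fin 2) (Fin 2) F) with hGdef
  have hdet : G.det = 1 := g.2
  have hpow : ∀ k : ℕ, G ^ k = 1 → orderOf g ∣ k := by
    intro k hk
    apply orderOf_dvd_of_pow_eq_one
    apply Subtype.ext
    rw [Matrix.SpecialLinearGroup.coe_pow, Matrix.SpecialLinearGroup.coe_one]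
    exact hk
  by_cases hroot : ∃ x : F, x * x - G.trace * x + 1 = 0
  · obtain ⟨lam, hlam⟩ := hroot
    have hl0 : lam ≠ 0 := by
      rintro rfl; simp at hlam
    by_cases heq : lam * lam = 1
    · have h1 := hpow _ (case_unip p G hdet lam hlam heq)
      have h2 : orderOf g ∣ 2 := hg.dvd_of_dvd_mul_right h1
      by_cases hp2 : p = 2
      · subst hp2
        have : orderOf g ∣ 1 := by
          have := Nat.Coprime.eq_one_of_dvd hg h2
          rw [this]
        left; exact this.trans (one_dvd _)
      · left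
        refine h2.trans ?_
        obtain ⟨n, -, hn⟩ := FiniteField.card F p
        have hodd : Odd p := (Fact.out : p.Prime).odd_of_ne_two hp2
        have hqodd : Odd (Fintype.card F) := by rw [hn]; exact hodd.pow
        obtain ⟨r, hr⟩ := hqodd
        exact ⟨r, by omega⟩
    · left
      apply hpow
      apply case_split G hdet lam hlam heq
      exact FiniteField.pow_card_sub_one_eq_one lam hl0
  · push Not at hroot
    rcases case_noroot p G hdet hroot with h | h
    · left; exact hpow _ h
    · right; exact hpow _ h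

end Cfsg.Agent.S0800
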