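import Cfsg.Statements.S3765
import Mathlib
import Cfsg.Agent.Lib.Helper4.HH14
-- import your own Cfsg.Agent.* helpers here

set_option autoImplicit false
open Cfsg

namespace Cfsg.Agent.S3765

/-- Let p, q, r be distinct primes and let X, Q, V be subgroups of a finite group with X of order r normalizing the q-group Q and acting faithfully on it (X ∩ C(Q) = 1), and V a nontrivial elementary abelian p-group normalized by X and Q on which XQ acts faithfully. If q = 2 and r has the form 2^n + 1, assume in addition that Q is abelian. Then C_V(X) ≠ 1. -/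
theorem result {G : Type*} [Group G] [Finite G] {p q r : ℕ} (hp : p.Prime) (hq : q.Prime) (hr : r.Prime) (hpq : p ≠ q) (hpr : p ≠ r) (hqr : q ≠ r) (X Q V : Subgroup G) (hX : Nat.card X = r) (hQ : IsPGroup q Q) (hXQ : X ≤ Subgroup.normalizer (Q : Set G)) (hXfaith : X ⊓ Subgroup.centralizer (Q : Set G) = ⊥) (hV : Cfsg.IsElementaryAbelian p V) (hV1 : V ≠ ⊥) (hXV : X ≤ Subgroup.normalizer (V : Set G)) (hQV : Q ≤ Subgroup.normalizer (V : Set G)) (hfaith : (X ⊔ Q) ⊓ Subgroup.centralizer (V : Set G) = ⊥) (hexc : q = 2 → (∃ n : ℕ, r = 2 ^ n + 1) → IsMulCommutative Q) : V ⊓ Subgroup.centralizer (X : Set G) ≠ ⊥ := by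
  classical
  intro hCV
  obtain ⟨x, hxX, hx1, hxr, hzx⟩ := Cfsg.Agent.Lib.Helper4.HH.exists_gen_of_prime_card X r hr hX
  have hxN : x ∈ Subgroup.normalizer (V : Set G) := hXV hxX
  have hxQn : ∀ m ∈ Q, x * m * x⁻¹ ∈ Q :=
    fun m hm => (Subgroup.mem_normalizer_iff.1 (hXQ hxX) m).1 hm
  have hmain := Cfsg.Agent.Lib.Helper4.HH.hh_sub V (Subgroup.normalizer (V : Set G)) p hp hV
    le_rfl x hxN q r hq hr hqr hpq.symm hpr.symm hxr
    (by
      intro v hv hxv
      have hvC : v ∈ Subgroup.centralizer (X : Set G) := by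
        rw [← hzx, Cfsg.Agent.Lib.Helper4.HH.mem_centralizer_zpowers_iff]
        calc x * v = (x * v * x⁻¹) * x := by group
          _ = v * x := by rw [hxv]
      have : v ∈ V ⊓ Subgroup.centralizer (X : Set G) := Subgroup.mem_inf.2 ⟨hv, hvC⟩
      rw [hCV] at this
      exact Subgroup.mem_bot.1 this)
    Q hQV hQ hxQn
    (by
      intro h2 hF a ha b hb v _
      haveI := hexc h2 hF
      have h1 : (⟨a, ha⟩ : Q) * ⟨b, hb⟩ = ⟨b, hb⟩ * ⟨a, ha⟩ := mul_comm' _ _
      have h3 : a * b = b * a := congrArg Subtype.val h1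
      rw [h3])
  have hcomm : ∀ m ∈ Q, x * m = m * x := by
    intro m hm
    have hc : (m * x)⁻¹ * (x * m) ∈ (X ⊔ Q) ⊓ Subgroup.centralizer (V : Set G) := by
      refine Subgroup.mem_inf.2 ⟨?_, ?_⟩
      · have hxS : x ∈ X ⊔ Q := Subgroup.mem_sup_left hxX
        have hmS : m ∈ X ⊔ Q := Subgroup.mem_sup_right hm
        exact Subgroup.mul_mem _ (Subgroup.inv_mem _ (Subgroup.mul_mem _ hmS hxS))
          (Subgroup.mul_mem _ hxS hmS)
      · rw [Subgroup.mem_centralizer_iff]
        intro v hv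
        have h1 := hmain m hm v hv
        calc v * ((m * x)⁻¹ * (x * m))
            = (m * x)⁻¹ * ((m * x) * v * (m * x)⁻¹) * (x * m) := by group
          _ = (m * x)⁻¹ * ((x * m) * v * (x * m)⁻¹) * (x * m) := by rw [h1]
          _ = (m * x)⁻¹ * (x * m) * v := by group
    rw [hfaith, Subgroup.mem_bot] at hc
    have h2 : x * m = (m * x) * ((m * x)⁻¹ * (x * m)) := by group
    rw [h2, hc, mul_one]
  have hxC : x ∈ X ⊓ Subgroup.centralizer (Q : Set G) := by
    refine Subgroup.mem_inf.2 ⟨hxX, ?_⟩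
    rw [Subgroup.mem_centralizer_iff]
    intro m hm
    exact (hcomm m hm).symm
  rw [hXfaith, Subgroup.mem_bot] at hxC
  exact hx1 hxC

end Cfsg.Agent.S3765
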