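import Mathlib
import Cfsg.Statements.S0493
import Cfsg.Agent.S0143
import Cfsg.Agent.S0144
import Cfsg.Agent.S0219

set_option autoImplicit false
open Cfsg

namespace Cfsg.Agent.S0493

section
variable {G : Type*} [Group G] [Finite G] [IsSimpleGroup G]

theorem cyclic_of_solvable (h : Group.IsSolvable G) : IsCyclic G := by
  have hcomm : ∀ a b : G, a * b = b * a := IsSimpleGroup.comm_iff_isSolvable.2 h
  have hp := Cfsg.Agent.S0143.prime_card_of_comm hcomm
  haveI : Fact (Nat.card G).Prime := ⟨hp⟩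
  exact isCyclic_of_prime_card rfl

theorem cyclic_of_pq (p q a b : ℕ) (hp : p.Prime) (hq : q.Prime) (h : Nat.card G = p ^ a * q ^ b) :
    IsCyclic G :=
  cyclic_of_solvable (Cfsg.Agent.S0144.result p q a b hp hq h)

theorem cyclic_of_two_odd (m : ℕ) (hm : Odd m) (h : Nat.card G = 2 * m) : IsCyclic G := by
  haveI : Fact (Nat.Prime 2) := ⟨Nat.prime_two⟩
  have heven : Even (Nat.card G) := by rw [h]; exact even_two_mul m
  obtain T : Sylow 2 G := default
  have hm0 : m ≠ 0 := by
    rintro rfl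
    exact (Nat.not_odd_iff_even.2 (by decide)) hm
  have hTcard : Nat.card T = 2 := by
    rw [Sylow.card_eq_multiplicity, h, Nat.factorization_mul (by norm_num) hm0]
    have h2 : (2 : ℕ).factorization 2 = 1 := Nat.Prime.factorization_self Nat.prime_two
    have hm2 : m.factorization 2 = 0 := by
      apply Nat.factorization_eq_zero_of_not_dvd
      intro hd
      exact (Nat.not_even_iff_odd.2 hm) (even_iff_two_dvd.2 hd)
    simp [h2, hm2]
  have hTcyc : IsCyclic (T : Subgroup G) := isCyclic_of_prime_card hTcard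
  obtain ⟨H, hH⟩ := Cfsg.Agent.S0219.result heven T hTcyc
  have hHn : H.Normal := Subgroup.normal_of_index_eq_two hH
  rcases hHn.eq_bot_or_eq_top with hbot | htop
  · have hcard : Nat.card G = 2 := by
      rw [← H.index_mul_card, hH, hbot, Subgroup.card_bot]
    exact isCyclic_of_prime_card hcard
  · rw [htop, Subgroup.index_top] at hH
    omega

theorem card_ne_84 : Nat.card G ≠ 84 := by
  intro h
  haveI : Fact (Nat.Prime 7) := ⟨by norm_num⟩
  obtain P : Sylow 7 G := default
  have hPcard : Nat.card P = 7 := by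
    rw [Sylow.card_eq_multiplicity, h]
    have : (84 : ℕ).factorization 7 = 1 := by
      have h84 : (84 : ℕ) = 7 ^ 1 * 12 := by norm_num
      rw [h84, Nat.factorization_mul (by norm_num) (by norm_num), Nat.Prime.factorization_pow (by norm_num)]
      have h12 : (12 : ℕ).factorization 7 = 0 := Nat.factorization_eq_zero_of_not_dvd (by norm_num)
      simp [h12]
    rw [this, pow_one]
  have hidx : (P : Subgroup G).index = 12 := by
    have := (P : Subgroup G).index_mul_card
    rw [hPcard, h] at this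
    omega
  have h1 : Nat.card (Sylow 7 G) ∣ 12 := hidx ▸ P.card_dvd_index
  have h2 : Nat.card (Sylow 7 G) ≡ 1 [MOD 7] := card_sylow_modEq_one 7 G
  have h3 : Nat.card (Sylow 7 G) = 1 := by
    have hle : Nat.card (Sylow 7 G) ≤ 12 := Nat.le_of_dvd (by norm_num) h1
    have hpos : 0 < Nat.card (Sylow 7 G) := Nat.card_pos
    unfold Nat.ModEq at h2
    revert h1 h2
    generalize Nat.card (Sylow 7 G) = k at hle hpos ⊢
    interval_cases k <;> simp
  have hnorm : (P : Subgroup G).Normal := by
    have hsub : Subsingleton (Sylow 7 G) := (Nat.card_eq_one_iff_unique.1 h3).1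
    exact Sylow.normal_of_subsingleton P
  rcases hnorm.eq_bot_or_eq_top with hbot | htop
  · have : Nat.card (P : Subgroup G) = 1 := by rw [hbot, Subgroup.card_bot]
    omega
  · have : Nat.card (P : Subgroup G) = Nat.card G := by rw [htop, Subgroup.card_top]
    omega

end

/-- A finite simple group of order at most 100 that is not cyclic has order 60. -/
theorem result {G : Type*} [Group G] [Finite G] [IsSimpleGroup G]
    (hG : ¬ IsCyclic G) (h : Nat.card G ≤ 100) : Nat.card G = 60 := by
  have hpos : 1 ≤ Nat.card G := Nat.card_pos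
  obtain ⟨n, hn⟩ : ∃ n, Nat.card G = n := ⟨_, rfl⟩
  rw [hn] at h hpos ⊢
  interval_cases n
  · exact absurd (cyclic_of_pq 2 3 0 0 (by norm_num) (by norm_num) (by rw [hn]; norm_num)) hG
  · exact absurd (cyclic_of_pq 2 3 1 0 (by norm_num) (by norm_num) (by rw [hn]; norm_num)) hG
  · exact absurd (cyclic_of_pq 3 2 1 0 (by norm_num) (by norm_num) (by rw [hn]; norm_num)) hG
  · exact absurd (cyclic_of_pq 2 3 2 0 (by norm_num) (by norm_num) (by rw [hn]; norm_num)) hG
  · exact absurd (cyclic_of_pq 5 2 1 0 (by norm_num) (by norm_num) (by rw [hn]; norm_num)) hG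
  · exact absurd (cyclic_of_pq 2 3 1 1 (by norm_num) (by norm_num) (by rw [hn]; norm_num)) hG
  · exact absurd (cyclic_of_pq 7 2 1 0 (by norm_num) (by norm_num) (by rw [hn]; norm_num)) hG
  · exact absurd (cyclic_of_pq 2 3 3 0 (by norm_num) (by norm_num) (by rw [hn]; norm_num)) hG
  · exact absurd (cyclic_of_pq 3 2 2 0 (by norm_num) (by norm_num) (by rw [hn]; norm_num)) hG
  · exact absurd (cyclic_of_pq 2 5 1 1 (by norm_num) (by norm_num) (by rw [hn]; norm_num)) hG
  · exact absurd (cyclic_of_pq 11 2 1 0 (by norm_num) (by norm_num) (by rw [hn]; norm_num)) hG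
  · exact absurd (cyclic_of_pq 2 3 2 1 (by norm_num) (by norm_num) (by rw [hn]; norm_num)) hG
  · exact absurd (cyclic_of_pq 13 2 1 0 (by norm_num) (by norm_num) (by rw [hn]; norm_num)) hG
  · exact absurd (cyclic_of_pq 2 7 1 1 (by norm_num) (by norm_num) (by rw [hn]; norm_num)) hG
  · exact absurd (cyclic_of_pq 3 5 1 1 (by norm_num) (by norm_num) (by rw [hn]; norm_num)) hG
  · exact absurd (cyclic_of_pq 2 3 4 0 (by norm_num) (by norm_num) (by rw [hn]; norm_num)) hG
  · exact absurd (cyclic_of_pq 17 2 1 0 (by norm_num) (by norm_num) (by rw [hn]; norm_num)) hG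
  · exact absurd (cyclic_of_pq 2 3 1 2 (by norm_num) (by norm_num) (by rw [hn]; norm_num)) hG
  · exact absurd (cyclic_of_pq 19 2 1 0 (by norm_num) (by norm_num) (by rw [hn]; norm_num)) hG
  · exact absurd (cyclic_of_pq 2 5 2 1 (by norm_num) (by norm_num) (by rw [hn]; norm_num)) hG
  · exact absurd (cyclic_of_pq 3 7 1 1 (by norm_num) (by norm_num) (by rw [hn]; norm_num)) hG
  · exact absurd (cyclic_of_pq 2 11 1 1 (by norm_num) (by norm_num) (by rw [hn]; norm_num)) hG
  · exact absurd (cyclic_of_pq 23 2 1 0 (by norm_num) (by norm_num) (by rw [hn]; norm_num)) hG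
  · exact absurd (cyclic_of_pq 2 3 3 1 (by norm_num) (by norm_num) (by rw [hn]; norm_num)) hG
  · exact absurd (cyclic_of_pq 5 2 2 0 (by norm_num) (by norm_num) (by rw [hn]; norm_num)) hG
  · exact absurd (cyclic_of_pq 2 13 1 1 (by norm_num) (by norm_num) (by rw [hn]; norm_num)) hG
  · exact absurd (cyclic_of_pq 3 2 3 0 (by norm_num) (by norm_num) (by rw [hn]; norm_num)) hG
  · exact absurd (cyclic_of_pq 2 7 2 1 (by norm_num) (by norm_num) (by rw [hn]; norm_num)) hG
  · exact absurd (cyclic_of_pq 29 2 1 0 (by norm_num) (by norm_num) (by rw [hn]; norm_num)) hG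
  · exact absurd (cyclic_of_two_odd 15 (by decide) (by rw [hn])) hG
  · exact absurd (cyclic_of_pq 31 2 1 0 (by norm_num) (by norm_num) (by rw [hn]; norm_num)) hG
  · exact absurd (cyclic_of_pq 2 3 5 0 (by norm_num) (by norm_num) (by rw [hn]; norm_num)) hG
  · exact absurd (cyclic_of_pq 3 11 1 1 (by norm_num) (by norm_num) (by rw [hn]; norm_num)) hG
  · exact absurd (cyclic_of_pq 2 17 1 1 (by norm_num) (by norm_num) (by rw [hn]; norm_num)) hG
  · exact absurd (cyclic_of_pq 5 7 1 1 (by norm_num) (by norm_num) (by rw [hn]; norm_num)) hG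
  · exact absurd (cyclic_of_pq 2 3 2 2 (by norm_num) (by norm_num) (by rw [hn]; norm_num)) hG
  · exact absurd (cyclic_of_pq 37 2 1 0 (by norm_num) (by norm_num) (by rw [hn]; norm_num)) hG
  · exact absurd (cyclic_of_pq 2 19 1 1 (by norm_num) (by norm_num) (by rw [hn]; norm_num)) hG
  · exact absurd (cyclic_of_pq 3 13 1 1 (by norm_num) (by norm_num) (by rw [hn]; norm_num)) hG
  · exact absurd (cyclic_of_pq 2 5 3 1 (by norm_num) (by norm_num) (by rw [hn]; norm_num)) hG
  · exact absurd (cyclic_of_pq 41 2 1 0 (by norm_num) (by norm_num) (by rw [hn]; norm_num)) hG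
  · exact absurd (cyclic_of_two_odd 21 (by decide) (by rw [hn])) hG
  · exact absurd (cyclic_of_pq 43 2 1 0 (by norm_num) (by norm_num) (by rw [hn]; norm_num)) hG
  · exact absurd (cyclic_of_pq 2 11 2 1 (by norm_num) (by norm_num) (by rw [hn]; norm_num)) hG
  · exact absurd (cyclic_of_pq 3 5 2 1 (by norm_num) (by norm_num) (by rw [hn]; norm_num)) hG
  · exact absurd (cyclic_of_pq 2 23 1 1 (by norm_num) (by norm_num) (by rw [hn]; norm_num)) hG
  · exact absurd (cyclic_of_pq 47 2 1 0 (by norm_num) (by norm_num) (by rw [hn]; norm_num)) hG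
  · exact absurd (cyclic_of_pq 2 3 4 1 (by norm_num) (by norm_num) (by rw [hn]; norm_num)) hG
  · exact absurd (cyclic_of_pq 7 2 2 0 (by norm_num) (by norm_num) (by rw [hn]; norm_num)) hG
  · exact absurd (cyclic_of_pq 2 5 1 2 (by norm_num) (by norm_num) (by rw [hn]; norm_num)) hG
  · exact absurd (cyclic_of_pq 3 17 1 1 (by norm_num) (by norm_num) (by rw [hn]; norm_num)) hG
  · exact absurd (cyclic_of_pq 2 13 2 1 (by norm_num) (by norm_num) (by rw [hn]; norm_num)) hG
  · exact absurd (cyclic_of_pq 53 2 1 0 (by norm_num) (by norm_num) (by rw [hn]; norm_num)) hG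
  · exact absurd (cyclic_of_pq 2 3 1 3 (by norm_num) (by norm_num) (by rw [hn]; norm_num)) hG
  · exact absurd (cyclic_of_pq 5 11 1 1 (by norm_num) (by norm_num) (by rw [hn]; norm_num)) hG
  · exact absurd (cyclic_of_pq 2 7 3 1 (by norm_num) (by norm_num) (by rw [hn]; norm_num)) hG
  · exact absurd (cyclic_of_pq 3 19 1 1 (by norm_num) (by norm_num) (by rw [hn]; norm_num)) hG
  · exact absurd (cyclic_of_pq 2 29 1 1 (by norm_num) (by norm_num) (by rw [hn]; norm_num)) hG
  · exact absurd (cyclic_of_pq 59 2 1 0 (by norm_num) (by norm_num) (by rw [hn]; norm_num)) hG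
  · rfl
  · exact absurd (cyclic_of_pq 61 2 1 0 (by norm_num) (by norm_num) (by rw [hn]; norm_num)) hG
  · exact absurd (cyclic_of_pq 2 31 1 1 (by norm_num) (by norm_num) (by rw [hn]; norm_num)) hG
  · exact absurd (cyclic_of_pq 3 7 2 1 (by norm_num) (by norm_num) (by rw [hn]; norm_num)) hG
  · exact absurd (cyclic_of_pq 2 3 6 0 (by norm_num) (by norm_num) (by rw [hn]; norm_num)) hG
  · exact absurd (cyclic_of_pq 5 13 1 1 (by norm_num) (by norm_num) (by rw [hn]; norm_num)) hG
  · exact absurd (cyclic_of_two_odd 33 (by decide) (by rw [hn])) hG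
  · exact absurd (cyclic_of_pq 67 2 1 0 (by norm_num) (by norm_num) (by rw [hn]; norm_num)) hG
  · exact absurd (cyclic_of_pq 2 17 2 1 (by norm_num) (by norm_num) (by rw [hn]; norm_num)) hG
  · exact absurd (cyclic_of_pq 3 23 1 1 (by norm_num) (by norm_num) (by rw [hn]; norm_num)) hG
  · exact absurd (cyclic_of_two_odd 35 (by decide) (by rw [hn])) hG
  · exact absurd (cyclic_of_pq 71 2 1 0 (by norm_num) (by norm_num) (by rw [hn]; norm_num)) hG
  · exact absurd (cyclic_of_pq 2 3 3 2 (by norm_num) (by norm_num) (by rw [hn]; norm_num)) hG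
  · exact absurd (cyclic_of_pq 73 2 1 0 (by norm_num) (by norm_num) (by rw [hn]; norm_num)) hG
  · exact absurd (cyclic_of_pq 2 37 1 1 (by norm_num) (by norm_num) (by rw [hn]; norm_num)) hG
  · exact absurd (cyclic_of_pq 3 5 1 2 (by norm_num) (by norm_num) (by rw [hn]; norm_num)) hG
  · exact absurd (cyclic_of_pq 2 19 2 1 (by norm_num) (by norm_num) (by rw [hn]; norm_num)) hG
  · exact absurd (cyclic_of_pq 7 11 1 1 (by norm_num) (by norm_num) (by rw [hn]; norm_num)) hG
  · exact absurd (cyclic_of_two_odd 39 (by decide) (by rw [hn])) hG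
  · exact absurd (cyclic_of_pq 79 2 1 0 (by norm_num) (by norm_num) (by rw [hn]; norm_num)) hG
  · exact absurd (cyclic_of_pq 2 5 4 1 (by norm_num) (by norm_num) (by rw [hn]; norm_num)) hG
  · exact absurd (cyclic_of_pq 3 2 4 0 (by norm_num) (by norm_num) (by rw [hn]; norm_num)) hG
  · exact absurd (cyclic_of_pq 2 41 1 1 (by norm_num) (by norm_num) (by rw [hn]; norm_num)) hG
  · exact absurd (cyclic_of_pq 83 2 1 0 (by norm_num) (by norm_num) (by rw [hn]; norm_num)) hG
  · exact absurd hn card_ne_84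
  · exact absurd (cyclic_of_pq 5 17 1 1 (by norm_num) (by norm_num) (by rw [hn]; norm_num)) hG
  · exact absurd (cyclic_of_pq 2 43 1 1 (by norm_num) (by norm_num) (by rw [hn]; norm_num)) hG
  · exact absurd (cyclic_of_pq 3 29 1 1 (by norm_num) (by norm_num) (by rw [hn]; norm_num)) hG
  · exact absurd (cyclic_of_pq 2 11 3 1 (by norm_num) (by norm_num) (by rw [hn]; norm_num)) hG
  · exact absurd (cyclic_of_pq 89 2 1 0 (by norm_num) (by norm_num) (by rw [hn]; norm_num)) hG
  · exact absurd (cyclic_of_two_odd 45 (by decide) (by rw [hn])) hG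
  · exact absurd (cyclic_of_pq 7 13 1 1 (by norm_num) (by norm_num) (by rw [hn]; norm_num)) hG
  · exact absurd (cyclic_of_pq 2 23 2 1 (by norm_num) (by norm_num) (by rw [hn]; norm_num)) hG
  · exact absurd (cyclic_of_pq 3 31 1 1 (by norm_num) (by norm_num) (by rw [hn]; norm_num)) hG
  · exact absurd (cyclic_of_pq 2 47 1 1 (by norm_num) (by norm_num) (by rw [hn]; norm_num)) hG
  · exact absurd (cyclic_of_pq 5 19 1 1 (by norm_num) (by norm_num) (by rw [hn]; norm_num)) hG
  · exact absurd (cyclic_of_pq 2 3 5 1 (by norm_num) (by norm_num) (by rw [hn]; norm_num)) hG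
  · exact absurd (cyclic_of_pq 97 2 1 0 (by norm_num) (by norm_num) (by rw [hn]; norm_num)) hG
  · exact absurd (cyclic_of_pq 2 7 1 2 (by norm_num) (by norm_num) (by rw [hn]; norm_num)) hG
  · exact absurd (cyclic_of_pq 3 11 2 1 (by norm_num) (by norm_num) (by rw [hn]; norm_num)) hG
  · exact absurd (cyclic_of_pq 2 5 2 2 (by norm_num) (by norm_num) (by rw [hn]; norm_num)) hG

end Cfsg.Agent.S0493
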