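import Mathlib
import Cfsg.Statements.S0991

set_option autoImplicit false
open Cfsg

namespace Cfsg.Agent.S0991

theorem result {G : Type*} [Group G] [Finite G] [IsSimpleGroup G] (hG : ¬ IsMulCommutative G) (H : Subgroup G) (hH : H ≠ ⊤) : ∃ f : G →* ↥(alternatingGroup (Fin H.index)), Function.Injective f := by
  classical
  have : Fintype (G ⧸ H) := Fintype.ofFinite _
  have hcard : Fintype.card (G ⧸ H) = H.index := by
    rw [Subgroup.index_eq_card, Nat.card_eq_fintype_card]
  let e : (G ⧸ H) ≃ Fin H.index := Fintype.equivFinOfCardEq hcard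
  let φ : G →* Equiv.Perm (Fin H.index) :=
    (e.permCongrHom.toMonoidHom).comp (MulAction.toPermHom G (G ⧸ H))
  have hker : φ.ker = ⊥ := by
    rcases (MonoidHom.normal_ker φ).eq_bot_or_eq_top with h | h
    · exact h
    · exfalso
      apply hH
      rw [eq_top_iff]
      intro g _
      have hg : g ∈ φ.ker := by rw [h]; trivial
      rw [MonoidHom.mem_ker] at hg
      have h1 : (MulAction.toPermHom G (G ⧸ H)) g = 1 := by
        have : e.permCongrHom ((MulAction.toPermHom G (G ⧸ H)) g) = 1 := hg
        exact (MulEquiv.map_eq_one_iff _).mp this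
      have h2 : g • (QuotientGroup.mk 1 : G ⧸ H) = QuotientGroup.mk 1 := by
        have := congrArg (fun σ : Equiv.Perm (G ⧸ H) => σ (QuotientGroup.mk 1)) h1
        simpa using this
      rw [MulAction.Quotient.smul_mk, eq_comm, QuotientGroup.eq] at h2
      simpa using h2
  have hinj : Function.Injective φ := (MonoidHom.ker_eq_bot_iff φ).mp hker
  let ψ : G →* ℤˣ := Equiv.Perm.sign.comp φ
  have hψ : ψ.ker = ⊤ := by
    rcases (MonoidHom.normal_ker ψ).eq_bot_or_eq_top with h | h
    · exfalso
      apply hG
      have hψinj : Function.Injective ψ := (MonoidHom.ker_eq_bot_iff ψ).mp h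
      refine ⟨⟨fun a b => ?_⟩⟩
      apply hψinj
      rw [map_mul, map_mul, mul_comm]
    · exact h
  have hmem : ∀ g : G, φ g ∈ alternatingGroup (Fin H.index) := by
    intro g
    rw [Equiv.Perm.mem_alternatingGroup]
    have : g ∈ ψ.ker := by rw [hψ]; trivial
    exact this
  refine ⟨φ.codRestrict (alternatingGroup (Fin H.index)) hmem, ?_⟩
  intro a b hab
  apply hinj
  have := congrArg Subtype.val hab
  simpa using this

end Cfsg.Agent.S0991
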