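import Mathlib
import Cfsg.Statements.S4216

set_option autoImplicit false
set_option linter.unusedSectionVars false

open Cfsg
open scoped commutatorElement

namespace Cfsg.Agent.S4216

variable {G : Type*} [Group G] {p : ℕ} [Fact p.Prime] (P : Sylow p G)

/-- Grün's subgroup. -/
def grunD : Subgroup G :=
  ((P : Subgroup G) ⊓ ⁅Subgroup.normalizer ((P : Subgroup G) : Set G), Subgroup.normalizer ((P : Subgroup G) : Set G)⁆) ⊔ ⨆ z : G, (P : Subgroup G) ⊓ (⁅(P : Subgroup G), (P : Subgroup G)⁆).map (MulAut.conj z).toMonoidHom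

theorem grunD_le : grunD P ≤ (P : Subgroup G) := by
  unfold grunD
  exact sup_le inf_le_left (iSup_le fun z => inf_le_left)

theorem grunD_le_commutator : grunD P ≤ commutator G := by
  unfold grunD
  refine sup_le (inf_le_right.trans ?_) (iSup_le fun z => inf_le_right.trans ?_)
  · rw [commutator_def]
    exact Subgroup.commutator_mono le_top le_top
  · rintro _ ⟨c, hc, rfl⟩
    have h1 : c ∈ commutator G := by
      rw [commutator_def]
      exact Subgroup.commutator_mono le_top le_top hc
    have hn : (commutator G).Normal := inferInstance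
    simpa using hn.conj_mem c h1 z

theorem mem_grunD_of_normalizer {x : G} (hx : x ∈ (P : Subgroup G))
    (hx' : x ∈ ⁅Subgroup.normalizer ((P : Subgroup G) : Set G), Subgroup.normalizer ((P : Subgroup G) : Set G)⁆) :
    x ∈ grunD P := by
  unfold grunD
  exact Subgroup.mem_sup_left ⟨hx, hx'⟩

theorem mem_grunD_of_conj {x : G} (hx : x ∈ (P : Subgroup G)) (z c : G)
    (hc : c ∈ ⁅(P : Subgroup G), (P : Subgroup G)⁆) (hxc : z * c * z⁻¹ = x) : x ∈ grunD P := by
  unfold grunD
  apply Subgroup.mem_sup_right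
  apply Subgroup.mem_iSup_of_mem z
  refine ⟨hx, c, hc, ?_⟩
  simpa using hxc

theorem commutator_le_grunD : ⁅(P : Subgroup G), (P : Subgroup G)⁆ ≤ grunD P := by
  intro c hc
  have hcP : c ∈ (P : Subgroup G) := by
    have h1 : ⁅(P : Subgroup G), (P : Subgroup G)⁆ ≤ (P : Subgroup G) := by
      rw [Subgroup.commutator_le]
      intro a ha b hb
      rw [commutatorElement_def]
      exact Subgroup.mul_mem _ (Subgroup.mul_mem _ (Subgroup.mul_mem _ ha hb) (Subgroup.inv_mem _ ha))
        (Subgroup.inv_mem _ hb)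
    exact h1 hc
  exact mem_grunD_of_conj P hcP 1 c hc (by simp)

/-- The subgroup of `P` corresponding to Grün's subgroup. -/
def grunD' : Subgroup (P : Subgroup G) := (grunD P).subgroupOf (P : Subgroup G)

/-- The abelian target group of the transfer. -/
abbrev Tgt : Type _ :=
  Abelianization (P : Subgroup G) ⧸ (grunD' P).map (Abelianization.of (G := (P : Subgroup G)))

/-- The map `P → P / D`. -/
noncomputable def phi : (P : Subgroup G) →* Tgt P :=
  (QuotientGroup.mk' _).comp (Abelianization.of (G := (P : Subgroup G)))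

theorem phi_eq_one_iff (x : (P : Subgroup G)) : phi P x = 1 ↔ (x : G) ∈ grunD P := by
  unfold phi
  rw [MonoidHom.comp_apply, QuotientGroup.mk'_apply, QuotientGroup.eq_one_iff]
  constructor
  · rintro ⟨d, hd, hdx⟩
    have h1 : d⁻¹ * x ∈ commutator (P : Subgroup G) := by
      rw [← Abelianization.ker_of (G := (P : Subgroup G)), MonoidHom.mem_ker, map_mul, map_inv, hdx]
      simp
    have h2 : ((d⁻¹ * x : (P : Subgroup G)) : G) ∈ ⁅(P : Subgroup G), (P : Subgroup G)⁆ := by
      have := Subgroup.mem_map_of_mem (P : Subgroup G).subtype h1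
      rw [commutator_def, Subgroup.map_commutator, ← MonoidHom.range_eq_map,
        Subgroup.range_subtype] at this
      exact this
    have h3 : (d : G) ∈ grunD P := hd
    have h4 := (grunD P).mul_mem h3 (commutator_le_grunD P h2)
    simpa using h4
  · intro hx
    exact ⟨x, hx, rfl⟩

theorem phi_eq_of_mul_inv_mem (x y : (P : Subgroup G)) (h : (x : G) * (y : G)⁻¹ ∈ grunD P) :
    phi P x = phi P y := by
  have h1 : phi P (x * y⁻¹) = 1 := by
    rw [phi_eq_one_iff]
    simpa using h
  rw [map_mul, map_inv, mul_inv_eq_one] at h1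
  exact h1

/-- `phi` extended by `1` to all of `G`. -/
noncomputable def phiG (v : G) : Tgt P := by
  classical
  exact if h : v ∈ (P : Subgroup G) then phi P ⟨v, h⟩ else 1

theorem phiG_of_mem {v : G} (h : v ∈ (P : Subgroup G)) : phiG P v = phi P ⟨v, h⟩ := by
  unfold phiG
  rw [dif_pos h]

theorem phiG_eq_one_of_mem_grunD {v : G} (h : v ∈ grunD P) : phiG P v = 1 := by
  rw [phiG_of_mem P (grunD_le P h), phi_eq_one_iff]
  exact h

theorem phiG_eq_of_mul_inv_mem {v w : G} (hv : v ∈ (P : Subgroup G)) (hw : w ∈ (P : Subgroup G))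
    (h : v * w⁻¹ ∈ grunD P) : phiG P v = phiG P w := by
  rw [phiG_of_mem P hv, phiG_of_mem P hw]
  exact phi_eq_of_mul_inv_mem P _ _ h

theorem phiG_conj {a z : G} (ha : a ∈ (P : Subgroup G)) (hz : z ∈ (P : Subgroup G)) :
    phiG P (z⁻¹ * a * z) = phiG P a := by
  have h1 : z⁻¹ * a * z ∈ (P : Subgroup G) :=
    Subgroup.mul_mem _ (Subgroup.mul_mem _ (Subgroup.inv_mem _ hz) ha) hz
  rw [phiG_of_mem P h1, phiG_of_mem P ha]
  have : (⟨z⁻¹ * a * z, h1⟩ : (P : Subgroup G)) = (⟨z, hz⟩ : (P : Subgroup G))⁻¹ * ⟨a, ha⟩ * ⟨z, hz⟩ := rfl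
  rw [this, map_mul, map_mul, map_inv, mul_comm, ← mul_assoc, mul_inv_cancel, one_mul]

section Main

variable [Finite G]

theorem orderOf_conj' (k a : G) : orderOf (k⁻¹ * a * k) = orderOf a := by
  have := MulEquiv.orderOf_eq (MulAut.conj k⁻¹) a
  simpa using this

/-- Inside a non-trivial `P`-orbit on `G ⧸ P`, the number of points fixed by `u ∈ P` is divisible
by `p`. -/
theorem card_fixed_dvd (u : G) (huP : u ∈ (P : Subgroup G)) (x₀ : G ⧸ (P : Subgroup G))
    (hx₀ : x₀ ∉ MulAction.fixedPoints (P : Subgroup G) (G ⧸ (P : Subgroup G))) :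
    p ∣ Nat.card {x : G ⧸ (P : Subgroup G) //
      u • x = x ∧ x ∈ MulAction.orbit (P : Subgroup G) x₀} := by
  classical
  have hp : p.Prime := Fact.out
  let S : SubMulAction (Subgroup.zpowers u) (G ⧸ (P : Subgroup G)) :=
    { carrier := MulAction.orbit (P : Subgroup G) x₀
      smul_mem' := by
        rintro ⟨c, hc⟩ x ⟨y, rfl⟩
        have hcP : c ∈ (P : Subgroup G) := (Subgroup.zpowers_le.2 huP) hc
        refine ⟨⟨c, hcP⟩ * y, ?_⟩
        show ((⟨c, hcP⟩ : (P : Subgroup G)) * y) • x₀ = c • (y • x₀)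
        rw [mul_smul]
        rfl }
  have hC : IsPGroup p (Subgroup.zpowers u) := P.2.to_le (Subgroup.zpowers_le.2 huP)
  have h1 := hC.card_modEq_card_fixedPoints (↥S)
  have h3 : Nat.card ↥S = Nat.card (MulAction.orbit (P : Subgroup G) x₀) := rfl
  obtain ⟨n, hn⟩ := P.2.card_orbit x₀
  have hn0 : n ≠ 0 := by
    rintro rfl
    apply hx₀
    have : Fintype (MulAction.orbit (P : Subgroup G) x₀) := Fintype.ofFinite _
    rw [MulAction.mem_fixedPoints_iff_card_orbit_eq_one, ← Nat.card_eq_fintype_card, hn, pow_zero]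
  have h2 : Nat.card (MulAction.fixedPoints (Subgroup.zpowers u) ↥S)
      = Nat.card {x : G ⧸ (P : Subgroup G) //
          u • x = x ∧ x ∈ MulAction.orbit (P : Subgroup G) x₀} := by
    apply Nat.card_congr
    refine
      { toFun := fun y => ⟨y.1.1, ?_⟩
        invFun := fun x => ⟨⟨x.1, ?_⟩, ?_⟩
        left_inv := fun y => rfl
        right_inv := fun x => rfl }
    · refine ⟨?_, y.1.2⟩
      have := y.2 ⟨u, Subgroup.mem_zpowers u⟩
      exact congrArg Subtype.val this
    · exact x.2.2
    · rintro ⟨c, hc⟩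
      apply Subtype.ext
      show c • x.1 = x.1
      have hux : u ∈ MulAction.stabilizer G x.1 := x.2.1
      obtain ⟨j, rfl⟩ := Subgroup.mem_zpowers_iff.1 hc
      exact Subgroup.zpow_mem _ hux j
  rw [h3, hn, h2] at h1
  have h4 : p ∣ p ^ n := dvd_pow_self p hn0
  exact (Nat.modEq_zero_iff_dvd.1 ((h1.symm.trans (Nat.modEq_zero_iff_dvd.2 h4))))

/-- The value of `phiG` at `k⁻¹ u k` for a coset `kP` fixed by `P`. -/
theorem phiG_fixedP (u : G) (huP : u ∈ (P : Subgroup G)) (x : G ⧸ (P : Subgroup G))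
    (hx : x ∈ MulAction.fixedPoints (P : Subgroup G) (G ⧸ (P : Subgroup G))) :
    phiG P (x.out⁻¹ * u * x.out) = phiG P u := by
  have hk : x.out ∈ Subgroup.normalizer ((P : Subgroup G) : Set G) := by
    rw [← Sylow.mem_fixedPoints_mul_left_cosets_iff_mem_normalizer, QuotientGroup.out_eq']
    exact hx
  have hk' : x.out⁻¹ ∈ Subgroup.normalizer ((P : Subgroup G) : Set G) := Subgroup.inv_mem _ hk
  have h1 : x.out⁻¹ * u * x.out ∈ (P : Subgroup G) := by
    have := (Subgroup.mem_normalizer_iff.1 hk') u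
    rw [inv_inv] at this
    exact this.1 huP
  apply phiG_eq_of_mul_inv_mem P h1 huP
  apply mem_grunD_of_normalizer P (Subgroup.mul_mem _ h1 (Subgroup.inv_mem _ huP))
  have : x.out⁻¹ * u * x.out * u⁻¹ = ⁅x.out⁻¹, u⁆ := by
    rw [commutatorElement_def, inv_inv]
  rw [this]
  exact Subgroup.commutator_mem_commutator hk' (Subgroup.le_normalizer huP)

/-- `phiG` at `k⁻¹ u k` is constant on the `u`-fixed points of a `P`-orbit. -/
theorem phiG_const (u : G) (huP : u ∈ (P : Subgroup G)) (x x₀ : G ⧸ (P : Subgroup G))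
    (hx : u • x = x) (hx₀ : u • x₀ = x₀) (hxx₀ : x ∈ MulAction.orbit (P : Subgroup G) x₀) :
    phiG P (x.out⁻¹ * u * x.out) = phiG P (x₀.out⁻¹ * u * x₀.out) := by
  obtain ⟨y, hy⟩ := hxx₀
  have hfix : ∀ z : G ⧸ (P : Subgroup G), u • z = z → z.out⁻¹ * u * z.out ∈ (P : Subgroup G) := by
    intro z hz
    have h1 : ((u * z.out : G) : G ⧸ (P : Subgroup G)) = ((z.out : G) : G ⧸ (P : Subgroup G)) := by
      have : ((u * z.out : G) : G ⧸ (P : Subgroup G)) = u • ((z.out : G) : G ⧸ (P : Subgroup G)) := rfl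
      rw [this, QuotientGroup.out_eq', hz]
    have h2 := QuotientGroup.eq.1 h1.symm
    have : z.out⁻¹ * u * z.out = z.out⁻¹ * (u * z.out) := by group
    rw [this]
    exact h2
  have hk : (y : G) * x₀.out * ((y : G) * x₀.out)⁻¹ = 1 := mul_inv_cancel _
  -- `x.out = y * x₀.out * z` with `z ∈ P`
  have hz : ((y : G) * x₀.out)⁻¹ * x.out ∈ (P : Subgroup G) := by
    apply QuotientGroup.eq.1
    rw [QuotientGroup.out_eq', ← hy]
    show (((y : G) * x₀.out : G) : G ⧸ (P : Subgroup G)) = y • x₀
    have : (((y : G) * x₀.out : G) : G ⧸ (P : Subgroup G)) = (y : G) • ((x₀.out : G) : G ⧸ (P : Subgroup G)) := rfl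
    rw [this, QuotientGroup.out_eq']
    rfl
  set z : G := ((y : G) * x₀.out)⁻¹ * x.out with hzdef
  set a : G := x₀.out⁻¹ * ((y : G)⁻¹ * u * y) * x₀.out with hadef
  have hxa : x.out⁻¹ * u * x.out = z⁻¹ * a * z := by
    rw [hzdef, hadef]
    group
  have haP : a ∈ (P : Subgroup G) := by
    have h1 := hfix x hx
    rw [hxa] at h1
    have : a = z * (z⁻¹ * a * z) * z⁻¹ := by group
    rw [this]
    exact Subgroup.mul_mem _ (Subgroup.mul_mem _ hz h1) (Subgroup.inv_mem _ hz)
  rw [hxa, phiG_conj P haP hz]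
  apply phiG_eq_of_mul_inv_mem P haP (hfix x₀ hx₀)
  apply mem_grunD_of_conj P (Subgroup.mul_mem _ haP (Subgroup.inv_mem _ (hfix x₀ hx₀)))
    x₀.out⁻¹ ⁅(y : G)⁻¹, u⁆
  · exact Subgroup.commutator_mem_commutator (Subgroup.inv_mem _ y.2) huP
  · rw [hadef, commutatorElement_def]
    group

theorem mem_grunD (u : G) (huP : u ∈ (P : Subgroup G)) (huG : u ∈ commutator G) :
    u ∈ grunD P := by
  classical
  induction' hn : orderOf u using Nat.strong_induction_on with n ih generalizing u
  by_cases hu1 : u = 1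
  · rw [hu1]
    exact Subgroup.one_mem _
  have hp : p.Prime := Fact.out
  have IH : ∀ v : G, v ∈ (P : Subgroup G) → v ∈ commutator G → orderOf v < orderOf u →
      v ∈ grunD P := by
    intro v hvP hvG hlt
    exact ih (orderOf v) (hn ▸ hlt) v hvP hvG rfl
  obtain ⟨m, hm⟩ := (IsPGroup.iff_orderOf.1 P.2) ⟨u, huP⟩
  have hm' : orderOf u = p ^ m := by
    rw [← hm]
    exact (Subgroup.orderOf_mk u huP).symm
  have hncomm : (commutator G).Normal := inferInstance
  -- conjugates of `p`-th powers lie in `D`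
  have key1 : ∀ (k : G) (j : ℕ), p ∣ j → k⁻¹ * u ^ j * k ∈ (P : Subgroup G) →
      k⁻¹ * u ^ j * k ∈ grunD P := by
    intro k j hj hmem
    apply IH _ hmem
    · have := hncomm.conj_mem (u ^ j) (Subgroup.pow_mem _ huG j) k⁻¹
      simpa using this
    · rw [orderOf_conj', orderOf_pow]
      apply Nat.div_lt_self (orderOf_pos u)
      have h1 : p ∣ Nat.gcd (orderOf u) j := by
        apply Nat.dvd_gcd _ hj
        rw [hm']
        apply dvd_pow_self
        rintro rfl
        rw [pow_zero, orderOf_eq_one_iff] at hm'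
        exact hu1 hm'
      exact lt_of_lt_of_le hp.one_lt (Nat.le_of_dvd (Nat.gcd_pos_of_pos_left _ (orderOf_pos u)) h1)
  -- the transfer
  have : Fintype (Quotient (MulAction.orbitRel (Subgroup.zpowers u) (G ⧸ (P : Subgroup G)))) :=
    Fintype.ofFinite _
  have : Fintype (G ⧸ (P : Subgroup G)) := Fintype.ofFinite _
  have hV : MonoidHom.transfer (phi P) u = 1 := by
    have : u ∈ (MonoidHom.transfer (phi P)).ker := Abelianization.commutator_subset_ker _ huG
    exact this
  rw [MonoidHom.transfer_eq_prod_quotient_orbitRel_zpowers_quot] at hV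
  have hV2 : ∏ q : Quotient (MulAction.orbitRel (Subgroup.zpowers u) (G ⧸ (P : Subgroup G))),
      phiG P (q.out.out⁻¹ * u ^ Function.minimalPeriod (u • ·) q.out * q.out.out) = 1 := by
    rw [← hV]
    refine Finset.prod_congr rfl fun q _ => ?_
    exact phiG_of_mem P _
  -- only the fixed points contribute
  have hV3 : ∏ q ∈ Finset.univ.filter (fun q : Quotient (MulAction.orbitRel (Subgroup.zpowers u)
        (G ⧸ (P : Subgroup G))) => Function.minimalPeriod (u • ·) q.out = 1),
      phiG P (q.out.out⁻¹ * u ^ Function.minimalPeriod (u • ·) q.out * q.out.out) = 1 := by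
    rw [← hV2]
    apply Finset.prod_filter_of_ne
    intro q _ hne
    by_contra hper
    apply hne
    apply phiG_eq_one_of_mem_grunD
    apply key1
    · have h1 : Function.minimalPeriod (u • ·) q.out ∣ orderOf u := by
        rw [← MulAction.pow_smul_eq_iff_minimalPeriod_dvd, pow_orderOf_eq_one, one_smul]
      rw [hm'] at h1
      obtain ⟨i, _, hi⟩ := (Nat.dvd_prime_pow hp).1 h1
      rw [hi]
      apply dvd_pow_self
      rintro rfl
      rw [pow_zero] at hi
      exact hper hi
    · exact QuotientGroup.out_conj_pow_minimalPeriod_mem (P : Subgroup G) u q.out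
  -- reindex over the fixed points of `u` on `G ⧸ P`
  have hV4 : ∏ x ∈ Finset.univ.filter (fun x : G ⧸ (P : Subgroup G) => u • x = x),
      phiG P (x.out⁻¹ * u * x.out) = 1 := by
    rw [← hV3]
    symm
    apply Finset.prod_bij (fun q _ => q.out)
    · intro q hq
      rw [Finset.mem_filter] at hq ⊢
      exact ⟨Finset.mem_univ _, Function.minimalPeriod_eq_one_iff_isFixedPt.1 hq.2⟩
    · intro q _ q' _ h
      exact Quotient.out_injective h
    · intro x hx
      rw [Finset.mem_filter] at hx
      have hxfix : ∀ c : Subgroup.zpowers u, c • x = x := by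
        rintro ⟨c, hc⟩
        have hux : u ∈ MulAction.stabilizer G x := hx.2
        obtain ⟨j, rfl⟩ := Subgroup.mem_zpowers_iff.1 hc
        exact Subgroup.zpow_mem _ hux j
      have hout : (Quotient.mk'' x : Quotient (MulAction.orbitRel (Subgroup.zpowers u)
          (G ⧸ (P : Subgroup G)))).out = x := by
        have h1 := Quotient.mk_out (s := MulAction.orbitRel (Subgroup.zpowers u)
          (G ⧸ (P : Subgroup G))) x
        rw [MulAction.orbitRel_apply] at h1
        obtain ⟨c, hc⟩ := h1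
        rw [← hc]
        exact hxfix c
      refine ⟨Quotient.mk'' x, ?_, hout⟩
      rw [Finset.mem_filter]
      refine ⟨Finset.mem_univ _, ?_⟩
      rw [hout]
      exact Function.minimalPeriod_eq_one_iff_isFixedPt.2 hx.2
    · intro q hq
      rw [Finset.mem_filter] at hq
      rw [hq.2, pow_one]
  -- split according to whether the coset is fixed by `P`
  rw [← Finset.prod_filter_mul_prod_filter_not _
    (fun x => x ∈ MulAction.fixedPoints (P : Subgroup G) (G ⧸ (P : Subgroup G)))] at hV4
  -- the second factor is trivial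
  have hrest : ∏ x ∈ (Finset.univ.filter (fun x : G ⧸ (P : Subgroup G) => u • x = x)).filter
      (fun x => ¬ x ∈ MulAction.fixedPoints (P : Subgroup G) (G ⧸ (P : Subgroup G))),
      phiG P (x.out⁻¹ * u * x.out) = 1 := by
    have : Fintype (MulAction.orbitRel.Quotient (P : Subgroup G) (G ⧸ (P : Subgroup G))) :=
      Fintype.ofFinite _
    rw [← Finset.prod_fiberwise _ (fun x => (Quotient.mk'' x :
      MulAction.orbitRel.Quotient (P : Subgroup G) (G ⧸ (P : Subgroup G))))]
    apply Finset.prod_eq_one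
    intro O _
    by_cases hempty : ((Finset.univ.filter (fun x : G ⧸ (P : Subgroup G) => u • x = x)).filter
      (fun x => ¬ x ∈ MulAction.fixedPoints (P : Subgroup G) (G ⧸ (P : Subgroup G)))).filter
      (fun x => (Quotient.mk'' x :
        MulAction.orbitRel.Quotient (P : Subgroup G) (G ⧸ (P : Subgroup G))) = O) = ∅
    · rw [hempty, Finset.prod_empty]
    obtain ⟨x₀, hx₀⟩ := Finset.nonempty_iff_ne_empty.2 hempty
    simp only [Finset.mem_filter, Finset.mem_univ, true_and] at hx₀
    obtain ⟨⟨hx₀u, hx₀P⟩, hx₀O⟩ := hx₀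
    -- the fibre is the set of `u`-fixed points in the orbit of `x₀`
    have hfib : ((Finset.univ.filter (fun x : G ⧸ (P : Subgroup G) => u • x = x)).filter
      (fun x => ¬ x ∈ MulAction.fixedPoints (P : Subgroup G) (G ⧸ (P : Subgroup G)))).filter
      (fun x => (Quotient.mk'' x :
        MulAction.orbitRel.Quotient (P : Subgroup G) (G ⧸ (P : Subgroup G))) = O)
        = Finset.univ.filter (fun x : G ⧸ (P : Subgroup G) =>
            u • x = x ∧ x ∈ MulAction.orbit (P : Subgroup G) x₀) := by
      ext x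
      simp only [Finset.mem_filter, Finset.mem_univ, true_and]
      constructor
      · rintro ⟨⟨h1, _⟩, h3⟩
        refine ⟨h1, ?_⟩
        rw [← hx₀O] at h3
        exact MulAction.orbitRel_apply.1 (Quotient.exact' h3)
      · rintro ⟨h1, h2⟩
        refine ⟨⟨h1, ?_⟩, ?_⟩
        · intro hxP
          apply hx₀P
          obtain ⟨y, hy⟩ := h2
          have e1 : y⁻¹ • x = x := (MulAction.mem_fixedPoints.1 hxP) y⁻¹
          have e2 : y⁻¹ • x = x₀ := by
            rw [← hy]
            exact inv_smul_smul y x₀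
          have e3 : x₀ = x := e2.symm.trans e1
          rw [e3]
          exact hxP
        · rw [← hx₀O]
          exact Quotient.sound' (MulAction.orbitRel_apply.2 h2)
    rw [hfib]
    rw [Finset.prod_eq_pow_card (b := phiG P (x₀.out⁻¹ * u * x₀.out)) (fun x hx => by
      rw [Finset.mem_filter] at hx
      exact phiG_const P u huP x x₀ hx.2.1 hx₀u hx.2.2)]
    have hdvd : p ∣ (Finset.univ.filter (fun x : G ⧸ (P : Subgroup G) =>
            u • x = x ∧ x ∈ MulAction.orbit (P : Subgroup G) x₀)).card := by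
      have := card_fixed_dvd P u huP x₀ hx₀P
      rw [Nat.card_eq_fintype_card, Fintype.card_subtype] at this
      exact this
    obtain ⟨s, hs⟩ := hdvd
    rw [hs, pow_mul]
    -- the `p`-th power is trivial
    have hfixmem : x₀.out⁻¹ * u * x₀.out ∈ (P : Subgroup G) := by
      have h1 : ((u * x₀.out : G) : G ⧸ (P : Subgroup G)) = ((x₀.out : G) : G ⧸ (P : Subgroup G)) := by
        have : ((u * x₀.out : G) : G ⧸ (P : Subgroup G)) = u • ((x₀.out : G) : G ⧸ (P : Subgroup G)) := rfl
        rw [this, QuotientGroup.out_eq', hx₀u]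
      have h2 := QuotientGroup.eq.1 h1.symm
      have : x₀.out⁻¹ * u * x₀.out = x₀.out⁻¹ * (u * x₀.out) := by group
      rw [this]
      exact h2
    have hpow : phiG P (x₀.out⁻¹ * u * x₀.out) ^ p = 1 := by
      rw [phiG_of_mem P hfixmem, ← map_pow, phi_eq_one_iff]
      have : (((⟨x₀.out⁻¹ * u * x₀.out, hfixmem⟩ : (P : Subgroup G)) ^ p : (P : Subgroup G)) : G)
          = x₀.out⁻¹ * u ^ p * x₀.out := by
        rw [Subgroup.coe_pow]
        have := conj_pow (a := x₀.out⁻¹) (b := u) (i := p)
        simpa using this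
      rw [this]
      apply key1 _ _ (dvd_refl p)
      rw [← this]
      exact Subgroup.pow_mem _ hfixmem p
    rw [hpow, one_pow]
  rw [hrest, mul_one] at hV4
  -- the first factor is a power of `phiG u`
  rw [Finset.prod_eq_pow_card (b := phiG P u) (fun x hx => by
      rw [Finset.mem_filter] at hx
      exact phiG_fixedP P u huP x hx.2)] at hV4
  -- the exponent is prime to `p`
  have hcard : ((Finset.univ.filter (fun x : G ⧸ (P : Subgroup G) => u • x = x)).filter
      (fun x => x ∈ MulAction.fixedPoints (P : Subgroup G) (G ⧸ (P : Subgroup G)))).card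
      = Nat.card (MulAction.fixedPoints (P : Subgroup G) (G ⧸ (P : Subgroup G))) := by
    rw [Nat.card_eq_fintype_card, Fintype.card_subtype]
    congr 1
    ext x
    simp only [Finset.mem_filter, Finset.mem_univ, true_and]
    constructor
    · exact fun h => h.2
    · intro h
      exact ⟨(MulAction.mem_fixedPoints.1 h) ⟨u, huP⟩, h⟩
  have hmod := P.2.card_modEq_card_fixedPoints (G ⧸ (P : Subgroup G))
  have hndvd : ¬ p ∣ Nat.card (MulAction.fixedPoints (P : Subgroup G) (G ⧸ (P : Subgroup G))) := by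
    intro hdvd
    have h1 : p ∣ Nat.card (G ⧸ (P : Subgroup G)) :=
      (Nat.modEq_zero_iff_dvd.1 (hmod.trans (Nat.modEq_zero_iff_dvd.2 hdvd)))
    exact P.not_dvd_index h1
  rw [hcard] at hV4
  -- conclude
  rw [phiG_of_mem P huP] at hV4
  have h1 : orderOf (phi P ⟨u, huP⟩) ∣
      Nat.card (MulAction.fixedPoints (P : Subgroup G) (G ⧸ (P : Subgroup G))) :=
    orderOf_dvd_of_pow_eq_one hV4
  have h2 : orderOf (phi P ⟨u, huP⟩) ∣ p ^ m := by
    rw [← hm]
    exact orderOf_map_dvd _ _
  obtain ⟨i, _, hi⟩ := (Nat.dvd_prime_pow hp).1 h2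
  rcases Nat.eq_zero_or_pos i with rfl | hipos
  · rw [pow_zero, orderOf_eq_one_iff, phi_eq_one_iff] at hi
    exact hi
  · exfalso
    apply hndvd
    refine dvd_trans ?_ h1
    rw [hi]
    exact dvd_pow_self p hipos.ne'

end Main

theorem result {G : Type*} [Group G] [Finite G] {p : ℕ} [Fact p.Prime] (P : Sylow p G) : (P : Subgroup G) ⊓ commutator G = ((P : Subgroup G) ⊓ ⁅Subgroup.normalizer ((P : Subgroup G) : Set G), Subgroup.normalizer ((P : Subgroup G) : Set G)⁆) ⊔ ⨆ z : G, (P : Subgroup G) ⊓ (⁅(P : Subgroup G), (P : Subgroup G)⁆).map (MulAut.conj z).toMonoidHom := by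
  apply le_antisymm
  · rintro u ⟨huP, huG⟩
    exact mem_grunD P u huP huG
  · exact le_inf (grunD_le P) (grunD_le_commutator P)

end Cfsg.Agent.S4216
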