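import Cfsg.Statements.S0344
import Mathlib
import Cfsg.Agent.Lib.Helper2.S3T16
import Cfsg.Agent.Lib.Helper2.ZP14
import Cfsg.Agent.Lib.Helper2.FZ33
import Cfsg.Agent.Lib.Lead.Zass5
import Cfsg.Agent.Lib.Lead.Zass4
import Cfsg.Agent.Lib.Lead.Zass7
import Cfsg.Agent.Lib.Helper8.SmallSolvable

set_option autoImplicit false
open Cfsg

namespace Cfsg.Agent.S0344

open MulAction Cfsg.Agent.Lib.Lead.Zass Cfsg.Agent.Lib.Helper2.FZ Cfsg.Agent.Lib.Helper2.S3T

/-- A finite simple Zassenhaus group with a two-point stabiliser of even order is isomorphic to `PSL₂(F)` for a finite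
field `F` with more than three elements. -/
theorem result {G Ω : Type*} [Group G] [Finite G] [MulAction G Ω] [Finite Ω]
    (hZ : Cfsg.IsZassenhausGroup G Ω) [IsSimpleGroup G]
    {a b : Ω} (hab : a ≠ b) (heven : Even (Nat.card ↥(MulAction.stabilizer G a ⊓ MulAction.stabilizer G b))) :
    ∃ (F : Type) (_ : Field F) (_ : Fintype F), 3 < Fintype.card F ∧ Nonempty (G ≃* Matrix.ProjectiveSpecialLinearGroup (Fin 2) F) := by
  classical
  haveI : Fintype Ω := Fintype.ofFinite Ω
  have Z := zdata_of hZ
  obtain ⟨h₀, hh₀1, hh₀a, hh₀b, c₀, hc₀a, hc₀b⟩ := exists_ne_one_H hZ hab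
  obtain ⟨F, hFa, hFcard, hFfix⟩ := exists_H hZ hab
  have hFn : (F.subgroupOf (stabilizer G a)).Normal := by
    constructor
    intro n hn g
    rw [Subgroup.mem_subgroupOf] at hn ⊢
    exact H_conj_mem hZ a F hFa hFcard hFfix (mem_stabilizer_iff.mp g.2) hn
  have hreg : ∀ y z : Ω, y ≠ a → z ≠ a → ∃! u : F, (u : G) • y = z := by
    intro y z hy hz
    obtain ⟨u, hu, huy⟩ := H_trans a F hFa hFcard hFfix hy hz
    refine ⟨⟨u, hu⟩, huy, ?_⟩
    intro v hv
    by_contra hne
    have h1 : ((u : G)⁻¹ * (v : G)) • y = y := by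
      rw [mul_smul, hv, ← huy, inv_smul_smul]
    have h2 : (u : G)⁻¹ * (v : G) ≠ 1 := by
      intro h3
      apply hne
      apply Subtype.ext
      have : (v : G) = u * (u⁻¹ * (v : G)) := by group
      rw [this, h3, mul_one]
    exact hy (hFfix _ (F.mul_mem (F.inv_mem hu) v.2) h2 y h1)
  have hb := even_bound hZ hab heven
  obtain ⟨hcomm, -⟩ := large_d hZ hab hb F hFa hFn hreg
  have hcomm' : ∀ u ∈ F, ∀ v ∈ F, u * v = v * u := by
    intro u hu v hv
    have := hcomm.is_comm.comm (⟨u, hu⟩ : F) ⟨v, hv⟩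
    exact congrArg Subtype.val this
  -- an involution in the two-point stabilizer
  haveI : Fact (Nat.Prime 2) := ⟨Nat.prime_two⟩
  obtain ⟨z', hz'⟩ := exists_prime_orderOf_dvd_card' (G := ↥(stabilizer G a ⊓ stabilizer G b : Subgroup G))
    2 (even_iff_two_dvd.mp heven)
  obtain ⟨z, hzdef⟩ : ∃ z : G, z = (z' : G) := ⟨_, rfl⟩
  have hz1 : z ≠ 1 := by
    rw [hzdef]
    intro h
    have : z' = 1 := Subtype.ext h
    rw [this, orderOf_one] at hz'
    omega
  have hzz : z * z = 1 := by
    have := pow_orderOf_eq_one z'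
    rw [hz', sq] at this
    rw [hzdef]
    exact congrArg Subtype.val this
  have hza : z • a = a := by rw [hzdef]; exact memHa z'.2
  have hzb : z • b = b := by rw [hzdef]; exact memHb z'.2
  have hzc : z • c₀ ≠ c₀ := by
    intro h
    exact hz1 (hZ.2.2.1 _ a b c₀ hab (Ne.symm hc₀b) (Ne.symm hc₀a) hza hzb h)
  have h4 : 4 ≤ Fintype.card Ω := by
    have h1 : ({a, b, c₀, z • c₀} : Finset Ω).card = 4 := by
      rw [Finset.card_insert_of_notMem, Finset.card_insert_of_notMem,
        Finset.card_insert_of_notMem, Finset.card_singleton]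
      · rw [Finset.mem_singleton]
        exact Ne.symm hzc
      · rw [Finset.mem_insert, Finset.mem_singleton]
        push Not
        refine ⟨Ne.symm hc₀b, ?_⟩
        intro h
        rw [← hzb] at h
        exact hc₀b (MulAction.injective _ h).symm
      · rw [Finset.mem_insert, Finset.mem_insert, Finset.mem_singleton]
        push Not
        refine ⟨hab, Ne.symm hc₀a, ?_⟩
        intro h
        rw [← hza] at h
        exact hc₀a (MulAction.injective _ h).symm
    rw [← h1]
    exact Finset.card_le_univ _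
  rcases Cfsg.Agent.Lib.Helper2.ZP.abelian_kernel hZ hab F hFa hFcard hFfix hcomm' with
    ⟨h3, hsharp⟩ | ⟨K, hK, hKf, hKcard, hKodd, hiso⟩
  · exfalso
    obtain ⟨F', t, T⟩ := exists_tdata_of_invol h3 hsharp h4 hab hza hzb hzz hz1
    exact T.not_simple
  · refine ⟨K, hK, hKf, ?_, hiso⟩
    by_contra hle
    push Not at hle
    have h5 : Fintype.card Ω = 4 := by omega
    -- `G` embeds in the symmetric group of degree four
    haveI := hZ.1
    have hinj : Function.Injective (MulAction.toPermHom G Ω) := MulAction.toPerm_injective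
    have hdvd : Nat.card G ∣ 24 := by
      have := Subgroup.card_dvd_of_injective _ hinj
      rw [Nat.card_perm, Nat.card_eq_fintype_card (α := Ω), h5] at this
      exact this
    have hsol := Cfsg.Agent.Lib.Helper8.isSolvable_of_card_dvd_24 hdvd
    have hab' := IsSimpleGroup.comm_iff_isSolvable.mpr hsol
    haveI := hZ.2.1
    haveI : IsPretransitive G Ω := by
      rw [← is_one_pretransitive_iff]
      exact isMultiplyPretransitive_of_le (n := 2) (by norm_num)
        (by rw [Nat.card_eq_fintype_card]; omega)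
    apply hz1
    apply hZ.1.eq_of_smul_eq_smul
    intro c
    obtain ⟨x, hx⟩ := MulAction.exists_smul_eq G a c
    rw [one_smul, ← hx, ← mul_smul, hab' _ x, mul_smul, hza]

end Cfsg.Agent.S0344
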