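import Mathlib
-- Template for statement S1056 (row 1056; see /opt/grader/pristine/manifest.json for weights).
-- Copy to Cfsg/Agent/S1056.lean and replace the sorry. The statement below is byte-identical to the frozen
-- statement Cfsg.CfsgFrozen.S1056 (Cfsg/Statements/S1056.lean; the theorem Cfsg.chevalley_b2_is_simple_group);
-- the grader kernel-checks Cfsg.Agent.S1056.result against that frozen type. Keep the theorem IN THIS FILE
-- (a `result` declared elsewhere and merely imported here is not credited); helpers may live anywhere
-- under Cfsg/Agent/.
import Cfsg.Statements.S1056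
import Cfsg.Agent.Lib.Helper3.ChevData.B2Simple

set_option autoImplicit false
open Cfsg
open Cfsg.Agent.Lib.Helper3.ChevM

namespace Cfsg.Agent.S1056

/-- B₂(F) is simple for every field `F` other than the field with two elements. -/
theorem result {F : Type*} [Field F] (hF : ∃ a : F, a ≠ 0 ∧ a ≠ 1) : IsSimpleGroup ↥(Cfsg.Lie.chevB2.group F) ∧ ¬ IsMulCommutative ↥(Cfsg.Lie.chevB2.group F) := by
  exact commB2.simple simpleB2 (Or.inr hF)

end Cfsg.Agent.S1056
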