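import Cfsg.Statements.S0557
import Mathlib
import Cfsg.Agent.Lib.Helper2.Basic
import Cfsg.Agent.Lib.Helper2.ComplementSystem

set_option autoImplicit false
open Cfsg

namespace Cfsg.Agent.S0557


open Subgroup
open scoped commutatorElement

/-- the subgroup generated by elements of order coprime to `m`. -/
def opi {G : Type*} [Group G] (m : ℕ) : Subgroup G :=
  Subgroup.closure {g : G | (orderOf g).Coprime m}

theorem opi_normal {G : Type*} [Group G] (m : ℕ) : (opi (G := G) m).Normal := by
  constructor
  intro n hn g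
  unfold opi at hn ⊢
  induction hn using Subgroup.closure_induction with
  | mem x hx =>
    apply Subgroup.subset_closure
    show (orderOf (MulAut.conj g x)).Coprime m
    rw [MulEquiv.orderOf_eq]
    exact hx
  | one => simp
  | mul a b _ _ iha ihb =>
    have : g * (a * b) * g⁻¹ = (g * a * g⁻¹) * (g * b * g⁻¹) := by group
    rw [this]; exact mul_mem iha ihb
  | inv a _ iha =>
    have : g * a⁻¹ * g⁻¹ = (g * a * g⁻¹)⁻¹ := by group
    rw [this]; exact inv_mem iha

/-- the index of `opi m` involves only primes dividing `m`. -/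
theorem opi_index_coprime {G : Type*} [Group G] [Finite G] (m k : ℕ) (hmk : m.Coprime k) :
    ((opi (G := G) m).index).Coprime k := by
  have hn := opi_normal (G := G) m
  apply Nat.coprime_of_dvd
  intro q hq hq1 hq2
  haveI : Fact q.Prime := ⟨hq⟩
  have hqm : ¬ q ∣ m := fun h => hq.one_lt.ne' (Nat.eq_one_of_dvd_coprimes hmk h hq2)
  rw [Subgroup.index_eq_card] at hq1
  obtain ⟨x, hx⟩ := exists_prime_orderOf_dvd_card' q hq1
  obtain ⟨g, rfl⟩ := QuotientGroup.mk_surjective x
  obtain ⟨a, m', hm', hgm⟩ := Nat.exists_eq_pow_mul_and_not_dvd (orderOf_pos g).ne' q hq.ne_one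
  have hm'0 : m' ≠ 0 := by rintro rfl; exact hm' (dvd_zero _)
  have h1 : orderOf (g ^ m') = q ^ a := by
    rw [orderOf_pow_of_dvd hm'0 ⟨q ^ a, by rw [hgm]; ring⟩, hgm, Nat.mul_div_cancel _ (Nat.pos_of_ne_zero hm'0)]
  have h2 : g ^ m' ∈ opi (G := G) m := by
    apply Subgroup.subset_closure
    show (orderOf (g ^ m')).Coprime m
    rw [h1]
    exact Nat.Coprime.pow_left _ ((Nat.Prime.coprime_iff_not_dvd hq).2 hqm)
  have h3 : (QuotientGroup.mk g : G ⧸ opi (G := G) m) ^ m' = 1 := by
    rw [← QuotientGroup.mk_pow, QuotientGroup.eq_one_iff]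
    exact h2
  have h4 := orderOf_dvd_of_pow_eq_one h3
  rw [hx] at h4
  exact hm' h4


theorem focal_mono {G : Type*} [Group G] {L L' : Subgroup G} (h : L ≤ L') :
    L.focalSubgroup ≤ L'.focalSubgroup := by
  apply Subgroup.closure_mono
  rintro g ⟨hg, x, hx, u, rfl⟩
  exact ⟨h hg, x, h hx, u, rfl⟩

theorem focal_iterate_mono {G : Type*} [Group G] {L L' : Subgroup G} (h : L ≤ L') (n : ℕ) :
    (fun K : Subgroup G => Subgroup.focalSubgroup K)^[n] L ≤
      (fun K : Subgroup G => Subgroup.focalSubgroup K)^[n] L' := by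
  induction n with
  | zero => exact h
  | succ n ih =>
    rw [Function.iterate_succ_apply', Function.iterate_succ_apply']
    exact focal_mono ih

theorem focal_map_subtype_le {G : Type*} [Group G] (H N : Subgroup G) :
    ((H.subgroupOf N).focalSubgroup).map N.subtype ≤ (H ⊓ N).focalSubgroup := by
  rw [Subgroup.map_le_iff_le_comap, Subgroup.focalSubgroup_def, Subgroup.closure_le]
  rintro g ⟨hg, x, hx, u, rfl⟩
  rw [Subgroup.mem_subgroupOf] at hg hx
  apply Subgroup.subset_closure
  refine ⟨⟨hg, (⁅x, u⁆ : N).2⟩, (x : G), ⟨hx, x.2⟩, (u : G), ?_⟩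
  simp [commutatorElement_def]

/-- a Hall subgroup `D'` of a group `N` generated by elements of order coprime to `|D'|` equals its
own focal subgroup. -/
theorem focal_eq_self_of_hall {N : Type*} [Group N] [Finite N] (D : Subgroup N) (m : ℕ)
    (hDm : Nat.card D ∣ m) (hcop : m.Coprime D.index)
    (hgen : Subgroup.closure {g : N | (orderOf g).Coprime m} = ⊤) : D ≤ D.focalSubgroup := by
  set V := D.transferFocal with hV
  have hQm : Nat.card (D ⧸ D.focalSubgroupOf) ∣ m := by
    refine dvd_trans ?_ hDm
    rw [← Subgroup.index_eq_card]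
    exact Subgroup.index_dvd_card _
  have hker : V.ker = ⊤ := by
    rw [eq_top_iff, ← hgen, Subgroup.closure_le]
    intro x hx
    rw [SetLike.mem_coe, MonoidHom.mem_ker]
    have h1 : orderOf (V x) ∣ orderOf x := orderOf_map_dvd V x
    have h2 : orderOf (V x) ∣ m := dvd_trans (orderOf_dvd_natCard _) hQm
    have h3 : orderOf (V x) = 1 := Nat.eq_one_of_dvd_coprimes hx h1 h2
    exact orderOf_eq_one_iff.mp h3
  intro d hd
  have hcop2 : (Nat.card (D ⧸ D.focalSubgroupOf)).Coprime D.index :=
    Nat.Coprime.coprime_dvd_left hQm hcop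
  obtain ⟨z, hz⟩ := (powCoprime hcop2).surjective (QuotientGroup.mk ⟨d, hd⟩)
  obtain ⟨e, rfl⟩ := QuotientGroup.mk_surjective z
  have h4 : V e = (QuotientGroup.mk ⟨d, hd⟩ : D ⧸ D.focalSubgroupOf) := by
    rw [hV, Subgroup.transferFocal_eq_pow]
    exact hz
  have h5 : V e = 1 := by
    rw [← MonoidHom.mem_ker, hker]; trivial
  rw [h5] at h4
  have h6 := (QuotientGroup.eq_one_iff _).mp h4.symm
  rw [Subgroup.focalSubgroupOf_def, Subgroup.mem_subgroupOf] at h6
  exact h6

theorem main557 {G : Type*} [Group G] [Finite G] (H : Subgroup G) (hHall : (Nat.card H).Coprime H.index) (n : ℕ) (hfoc : (fun K : Subgroup G => Subgroup.focalSubgroup K)^[n] H = ⊥) : ∃ N : Subgroup G, N.Normal ∧ Subgroup.IsComplement' N H := by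
  set m := Nat.card H with hm
  set N : Subgroup G := opi m with hN
  have hNn : N.Normal := opi_normal m
  have hidx : N.index.Coprime H.index := opi_index_coprime m _ hHall
  have hsup : H ⊔ N = ⊤ := by
    rw [← Subgroup.index_eq_one]
    have h1 : (H ⊔ N).index ∣ N.index := Subgroup.index_dvd_of_le le_sup_right
    have h2 : (H ⊔ N).index ∣ H.index := Subgroup.index_dvd_of_le le_sup_left
    exact Nat.eq_one_of_dvd_coprimes hidx h1 h2
  have hnorm : H ≤ Subgroup.normalizer (N : Set G) := by
    rw [Subgroup.normalizer_eq_top]; exact le_top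
  have hrel : (H.subgroupOf N).index = H.index := by
    have := Cfsg.Agent.Lib.Helper2.relIndex_sup_left_of_le_normalizer H N hnorm
    rw [hsup, Subgroup.relIndex_top_right] at this
    exact this.symm
  have hD : H ⊓ N ≤ (H ⊓ N).focalSubgroup := by
    have hcard : Nat.card (H.subgroupOf N) ∣ m := by
      rw [← Subgroup.card_map_of_injective N.subtype_injective, Subgroup.subgroupOf_map_subtype]
      exact Subgroup.card_dvd_of_le inf_le_left
    have hgen : Subgroup.closure {g : N | (orderOf g).Coprime m} = ⊤ := by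
      have h0 : ((↑) : N → G) ⁻¹' {g : G | (orderOf g).Coprime m} = {g : N | (orderOf g).Coprime m} := by
        ext g
        simp only [Set.mem_ofPred_eq, Set.mem_preimage]
        rw [Subgroup.orderOf_coe]
      rw [← h0]
      exact Subgroup.closure_closure_coe_preimage
    have h1 := focal_eq_self_of_hall (H.subgroupOf N) m hcard (by rw [hrel]; exact hHall) hgen
    intro d hd
    have hdN : d ∈ N := hd.2
    have h2 : (⟨d, hdN⟩ : N) ∈ H.subgroupOf N := by
      rw [Subgroup.mem_subgroupOf]; exact hd.1
    exact focal_map_subtype_le H N ⟨_, h1 h2, rfl⟩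
  have hDk : ∀ k : ℕ, H ⊓ N ≤ (fun K : Subgroup G => Subgroup.focalSubgroup K)^[k] H := by
    intro k
    induction k with
    | zero => exact inf_le_left
    | succ k ih =>
      rw [Function.iterate_succ_apply']
      exact hD.trans (focal_mono ih)
  have hbot : H ⊓ N = ⊥ := by
    rw [eq_bot_iff, ← hfoc]; exact hDk n
  refine ⟨N, hNn, ?_⟩
  apply Subgroup.isComplement'_of_card_mul_and_disjoint
  · have := Cfsg.Agent.Lib.Helper2.card_sup_mul_card_inf H N hnorm
    rw [hsup, hbot, Subgroup.card_bot, mul_one, Subgroup.card_top] at this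
    rw [mul_comm]; exact this.symm
  · rw [disjoint_iff, inf_comm]; exact hbot

/-- Let H be a subgroup of a finite group G with order coprime to its index. If iterating the focal-subgroup construction starting from H reaches the trivial subgroup after finitely many steps, then H has a normal complement in G. -/
theorem result {G : Type*} [Group G] [Finite G] (H : Subgroup G) (hHall : (Nat.card H).Coprime H.index) (n : ℕ) (hfoc : (fun K : Subgroup G => Subgroup.focalSubgroup K)^[n] H = ⊥) : ∃ N : Subgroup G, N.Normal ∧ Subgroup.IsComplement' N H := by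
  exact main557 H hHall n hfoc

end Cfsg.Agent.S0557
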