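import Cfsg.Statements.S0080
import Cfsg.Agent.Lib.Lead.Focal2

set_option autoImplicit false
open Pointwise
open Cfsg

namespace Cfsg.Agent.S0080

/-- When the index of H is prime to the order of H/H', the focal subgroup of H is G' ∩ H, and H/(G' ∩ H) has a normal complement. -/
theorem result {G : Type*} [Group G] [Finite G] (H : Subgroup G) (h : Nat.Coprime H.index (⁅H, H⁆.relIndex H)) : Subgroup.focalSubgroup H = commutator G ⊓ H ∧ ∃ N : Subgroup G, N.Normal ∧ N ⊓ H = commutator G ⊓ H ∧ N ⊔ H = ⊤ := by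
  apply Cfsg.Agent.Lib.Lead.exists_normal_of_coprime
  have h1 : Nat.card (H ⧸ H.focalSubgroupOf) = H.focalSubgroup.relIndex H := by
    rw [← Subgroup.index_eq_card]; rfl
  rw [h1]
  have h2 : H.focalSubgroup.relIndex H ∣ ⁅H, H⁆.relIndex H :=
    Subgroup.relIndex_dvd_of_le_left H H.commutator_le_focalSubgroup
  exact (Nat.Coprime.coprime_dvd_right h2 h).symm

end Cfsg.Agent.S0080
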