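import Cfsg.Statements.S0604
import Cfsg.Agent.Lib.Helper2.Thompson

set_option autoImplicit false
open Cfsg
open scoped Pointwise

namespace Cfsg.Agent.S0604

open Cfsg.Agent.Lib.Helper2

theorem card_subgroupOf_of_le {G : Type*} [Group G] {A U : Subgroup G} (h : A ≤ U) :
    Nat.card (A.subgroupOf U) = Nat.card A := by
  rw [← Subgroup.card_map_of_injective U.subtype_injective, Subgroup.map_subgroupOf_eq_of_le h]

theorem isEA_subgroupOf_of_le {G : Type*} [Group G] {p : ℕ} {A U : Subgroup G} (h : A ≤ U)
    (hA : IsElementaryAbelian p A) : IsElementaryAbelian p (A.subgroupOf U) := by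
  rw [← isEA_map_of_injective U.subtype U.subtype_injective, Subgroup.map_subgroupOf_eq_of_le h]
  exact hA

/-- The Thompson subgroup of G is the join of the Thompson subgroups of its Sylow p-subgroups. -/
theorem result {G : Type*} [Group G] [Finite G] {p : ℕ} [Fact p.Prime] : Cfsg.thompsonSubgroup p G = ⨆ S : Sylow p G, Cfsg.thompsonSubgroupOf p (S : Subgroup G) := by
  have claim1 : ∀ A ∈ maxElementaryAbelianSubgroups p G, ∀ U : Subgroup G, A ≤ U →
      A.subgroupOf U ∈ maxElementaryAbelianSubgroups p U := by
    intro A hA U hAU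
    refine ⟨isEA_subgroupOf_of_le hAU hA.1, ?_⟩
    intro B hB
    have hB' : IsElementaryAbelian p (B.map U.subtype) :=
      (isEA_map_of_injective U.subtype U.subtype_injective B).mpr hB
    have h1 := hA.2 _ hB'
    rw [Subgroup.card_map_of_injective U.subtype_injective] at h1
    rw [card_subgroupOf_of_le hAU]; exact h1
  have hpg : ∀ A : Subgroup G, IsElementaryAbelian p A → IsPGroup p A := by
    intro A hA a
    refine ⟨1, ?_⟩
    apply Subtype.ext
    rw [pow_one]
    simpa using ((isEA_iff p A).mp hA).2 a a.2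
  apply le_antisymm
  · apply sSup_le
    intro A hA
    obtain ⟨S, hS⟩ := (hpg A hA.1).exists_le_sylow
    refine le_trans ?_ (le_iSup _ S)
    unfold thompsonSubgroupOf
    rw [← Subgroup.map_subgroupOf_eq_of_le hS]
    exact Subgroup.map_mono (le_sSup (claim1 A hA S hS))
  · apply iSup_le
    intro S
    unfold thompsonSubgroupOf
    rw [Subgroup.map_le_iff_le_comap]
    apply sSup_le
    intro B hB
    rw [← Subgroup.map_le_iff_le_comap]
    apply le_sSup
    refine ⟨(isEA_map_of_injective _ (S : Subgroup G).subtype_injective B).mpr hB.1, ?_⟩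
    intro C hC
    obtain ⟨A, hA⟩ := maxEA_nonempty (G := G) p
    obtain ⟨S₀, hS₀⟩ := (hpg A hA.1).exists_le_sylow
    obtain ⟨g, hg⟩ := MulAction.exists_smul_eq G S₀ S
    -- the conjugate of A under g
    set A' := A.map (MulAut.conj g).toMonoidHom with hA'
    have hA'S : A' ≤ (S : Subgroup G) := by
      rintro _ ⟨a, ha, rfl⟩
      have : (S : Subgroup G) = MulAut.conj g • (S₀ : Subgroup G) := by
        rw [← hg]; exact Sylow.coe_subgroup_smul
      rw [this]
      exact Subgroup.smul_mem_pointwise_smul a (MulAut.conj g) _ (hS₀ ha)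
    have hA'EA : IsElementaryAbelian p A' :=
      (isEA_map_of_injective _ (MulAut.conj g).injective A).mpr hA.1
    have hA'card : Nat.card A' = Nat.card A :=
      Subgroup.card_map_of_injective (MulAut.conj g).injective
    rw [Subgroup.card_map_of_injective (S : Subgroup G).subtype_injective]
    calc Nat.card C ≤ Nat.card A := hA.2 C hC
      _ = Nat.card A' := hA'card.symm
      _ = Nat.card (A'.subgroupOf (S : Subgroup G)) := (card_subgroupOf_of_le hA'S).symm
      _ ≤ Nat.card B := hB.2 _ (isEA_subgroupOf_of_le hA'S hA'EA)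

end Cfsg.Agent.S0604
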