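import Mathlib
import Cfsg.Statements.S3742

set_option autoImplicit false
open Cfsg

namespace Cfsg.Agent.S3742

open QuaternionGroup

abbrev Q := QuaternionGroup 2

/-- value tables of the 4-cycles attached to the elements of order 4 -/
def encF : Q → Fin 4 → Fin 4
  | .a i => if i.val = 1 then ![1, 2, 3, 0] else if i.val = 3 then ![3, 0, 1, 2] else ![0, 1, 2, 3]
  | .xa i => if i.val = 0 then ![1, 3, 0, 2] else if i.val = 1 then ![2, 3, 1, 0]
      else if i.val = 2 then ![2, 0, 3, 1] else ![3, 2, 0, 1]

def dec (f : Fin 4 → Fin 4) : Q :=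
  if f 0 = 1 ∧ f 1 = 2 then .a 1
  else if f 0 = 3 ∧ f 1 = 0 then .a 3
  else if f 0 = 1 ∧ f 1 = 3 then .xa 0
  else if f 0 = 2 ∧ f 1 = 3 then .xa 1
  else if f 0 = 2 ∧ f 1 = 0 then .xa 2
  else if f 0 = 3 ∧ f 1 = 2 then .xa 3
  else .a 0

/-- the automorphism of `Q₈` attached to a permutation of the four "diagonals" -/
def psi (σ : Equiv.Perm (Fin 4)) (q : Q) : Q :=
  if q = .a 0 then .a 0 else if q = .a 2 then .a 2
  else dec (fun i => σ (encF q (σ.symm i)))

set_option maxRecDepth 100000 in
theorem psi_one : ∀ q : Q, psi 1 q = q := by decide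

set_option maxRecDepth 100000 in
theorem psi_mul : ∀ (σ : Equiv.Perm (Fin 4)) (p q : Q), psi σ (p * q) = psi σ p * psi σ q := by
  decide

set_option maxRecDepth 100000 in
set_option maxHeartbeats 4000000 in
theorem psi_comp : ∀ (σ τ : Equiv.Perm (Fin 4)) (q : Q), psi (σ * τ) q = psi σ (psi τ q) := by
  decide

set_option maxRecDepth 100000 in
theorem psi_inj : ∀ (σ : Equiv.Perm (Fin 4)), (∀ q : Q, psi σ q = q) → σ = 1 := by
  decide

/-- `psi` as a homomorphism into the automorphism group -/
def psiHom : Equiv.Perm (Fin 4) →* MulAut Q where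
  toFun σ :=
    { toFun := psi σ
      invFun := psi σ⁻¹
      left_inv := fun q => by rw [← psi_comp, inv_mul_cancel, psi_one]
      right_inv := fun q => by rw [← psi_comp, mul_inv_cancel, psi_one]
      map_mul' := psi_mul σ }
  map_one' := by
    ext q
    exact psi_one q
  map_mul' := by
    intro σ τ
    ext q
    exact psi_comp σ τ q

theorem psiHom_injective : Function.Injective psiHom := by
  rw [injective_iff_map_eq_one]
  intro σ hσ
  apply psi_inj
  intro q
  have := congrArg (fun f : MulAut Q => f q) hσ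
  exact this

theorem gen : ∀ q : Q, ∃ m < 2, ∃ n < 4, q = (xa 0 : Q) ^ m * (a 1 : Q) ^ n := by decide

theorem unique_invol : ∀ q : Q, q ≠ 1 → q ^ 2 = 1 → q = a 2 := by decide

/-- the set of possible images of the pair of generators -/
def T : Finset (Q × Q) :=
  Finset.univ.filter (fun uv => uv.1 ^ 2 = a 2 ∧ uv.2 ^ 2 = a 2 ∧ uv.2 ≠ uv.1 ∧ uv.2 ≠ uv.1⁻¹)

theorem T_card : T.card = 24 := by decide

/-- an automorphism is determined by the images of the two generators -/
def Phi (φ : MulAut Q) : Q × Q := (φ (a 1), φ (xa 0))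

theorem Phi_injective : Function.Injective Phi := by
  intro φ φ' h
  have h1 : φ (a 1) = φ' (a 1) := congrArg Prod.fst h
  have h2 : φ (xa 0) = φ' (xa 0) := congrArg Prod.snd h
  ext q
  obtain ⟨m, -, n, -, rfl⟩ := gen q
  rw [map_mul, map_mul, map_pow, map_pow, map_pow, map_pow, h1, h2]

theorem Phi_mem (φ : MulAut Q) : Phi φ ∈ T := by
  have h2 : φ (a 2) = a 2 := by
    apply unique_invol
    · intro h
      have : φ (a 2) = φ 1 := by rw [h, map_one]
      have := φ.injective this
      revert this
      decide
    · rw [← map_pow]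
      have : (a 2 : Q) ^ 2 = 1 := by decide
      rw [this, map_one]
  simp only [T, Finset.mem_filter, Finset.mem_univ, true_and, Phi]
  refine ⟨?_, ?_, ?_, ?_⟩
  · rw [← map_pow]
    have : (a 1 : Q) ^ 2 = a 2 := by decide
    rw [this, h2]
  · rw [← map_pow]
    have : (xa 0 : Q) ^ 2 = a 2 := by decide
    rw [this, h2]
  · intro h
    have := φ.injective h
    revert this
    decide
  · intro h
    rw [← map_inv] at h
    have := φ.injective h
    revert this
    decide

theorem card_aut_le : Nat.card (MulAut Q) ≤ 24 := by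
  let f : MulAut Q → T := fun φ => ⟨Phi φ, Phi_mem φ⟩
  have hf : Function.Injective f := by
    intro φ φ' h
    exact Phi_injective (congrArg Subtype.val h)
  have h1 := Nat.card_le_card_of_injective f hf
  have h3 : Nat.card T = 24 := by
    rw [Nat.card_eq_fintype_card, Fintype.card_coe, T_card]
  rw [h3] at h1
  exact h1

instance : Finite (MulAut Q) := Finite.of_injective Phi Phi_injective

theorem card_perm_four : Nat.card (Equiv.Perm (Fin 4)) = 24 := by
  rw [Nat.card_perm, Nat.card_eq_fintype_card, Fintype.card_fin]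
  rfl

/-- The automorphism group of the quaternion group of order 8 is isomorphic to the symmetric group of degree 4. -/
theorem result : Nonempty (MulAut (QuaternionGroup 2) ≃* Equiv.Perm (Fin 4)) := by
  have hbij : Function.Bijective psiHom :=
    psiHom_injective.bijective_of_nat_card_le (by rw [card_perm_four]; exact card_aut_le)
  exact ⟨(MulEquiv.ofBijective psiHom hbij).symm⟩

end Cfsg.Agent.S3742
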