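import Cfsg.Statements.S0102
import Mathlib
import Cfsg.Agent.Lib.Lead.AbelianSylowB
open scoped IsMulCommutative

set_option autoImplicit false
open Cfsg

namespace Cfsg.Agent.S0102

/-- A finite perfect group with cyclic Sylow p-subgroups has no perfect central extension whose kernel has order divisible by p. -/
theorem result {G : Type*} {H : Type*} [Group G] [Group H] [Finite G] [Finite H] (hG : commutator G = ⊤) {p : ℕ} [Fact p.Prime] (hcyc : ∀ P : Sylow p G, IsCyclic P) (σ : H →* G) (hσ : Function.Surjective σ) (hz : σ.ker ≤ Subgroup.center H) (hH : commutator H = ⊤) : ¬ p ∣ Nat.card σ.ker := by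
  classical
  intro hdiv
  obtain ⟨z, hzo⟩ := exists_prime_orderOf_dvd_card' p hdiv
  have hzH : orderOf (z : H) = p := by rw [Subgroup.orderOf_coe]; exact hzo
  have hzc : (z : H) ∈ Subgroup.center H := hz z.2
  have hzp : IsPGroup p (Subgroup.zpowers (z : H)) := by
    apply IsPGroup.of_card (n := 1)
    rw [Nat.card_zpowers, hzH, pow_one]
  obtain ⟨P, hP⟩ := hzp.exists_le_sylow
  have hzP : (z : H) ∈ (P : Subgroup H) := hP (Subgroup.mem_zpowers _)
  -- P is abelian
  have hmapp : IsPGroup p ((P : Subgroup H).map σ) := P.isPGroup'.map σ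
  obtain ⟨Q, hQ⟩ := hmapp.exists_le_sylow
  have : IsCyclic (Q : Subgroup G) := hcyc Q
  let f : (P : Subgroup H) →* (Q : Subgroup G) :=
    (σ.comp (P : Subgroup H).subtype).codRestrict (Q : Subgroup G)
      (fun x => hQ (Subgroup.mem_map_of_mem σ x.2))
  have hker : f.ker ≤ Subgroup.center (P : Subgroup H) := by
    intro x hx
    rw [MonoidHom.mem_ker] at hx
    have h1 : σ (x : H) = 1 := by
      have := congrArg Subtype.val hx
      simpa [f] using this
    have h2 : (x : H) ∈ Subgroup.center H := hz (MonoidHom.mem_ker.mpr h1)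
    rw [Subgroup.mem_center_iff]
    intro y
    apply Subtype.ext
    have := (Subgroup.mem_center_iff.mp h2) (y : H)
    simpa using this
  haveI hPc : IsMulCommutative (P : Subgroup H) := f.isMulCommutative_of_isCyclic_of_ker_le_center hker
  have hzc2 : (z : H) ∈ Subgroup.centralizer (Subgroup.normalizer ((P : Subgroup H) : Set H) : Set H) :=
    Subgroup.center_le_centralizer _ hzc
  have h1 : Cfsg.Agent.Lib.Lead.transferAb P (z : H) = 1 := by
    have hm : (z : H) ∈ commutator H := by rw [hH]; trivial
    exact Abelianization.commutator_subset_ker _ hm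
  have h2 := Cfsg.Agent.Lib.Lead.eq_one_of_transferAb_eq_one P (z : H) hzP hzc2 h1
  rw [h2, orderOf_one] at hzH
  exact (Fact.out : p.Prime).one_lt.ne hzH

end Cfsg.Agent.S0102
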