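import Mathlib
import Cfsg.Statements.S3377

set_option autoImplicit false
open Cfsg

namespace Cfsg.Agent.S3377

section helpers

abbrev rels : Set (FreeGroup (Fin 2)) :=
  ({FreeGroup.of (0 : Fin 2) ^ 3, FreeGroup.of (1 : Fin 2) ^ 5,
        (FreeGroup.of (0 : Fin 2) * FreeGroup.of 1) ^ 2} : Set (FreeGroup (Fin 2)))

abbrev P := PresentedGroup rels

def a : P := PresentedGroup.of 0
def b : P := PresentedGroup.of 1

theorem a_pow : a ^ 3 = 1 := by
  have h : (FreeGroup.of (0 : Fin 2) ^ 3) ∈ rels := by simp [rels]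
  have := PresentedGroup.one_of_mem h
  simpa [a, PresentedGroup.of] using this

theorem b_pow : b ^ 5 = 1 := by
  have h : (FreeGroup.of (1 : Fin 2) ^ 5) ∈ rels := by simp [rels]
  have := PresentedGroup.one_of_mem h
  simpa [b, PresentedGroup.of] using this

theorem ab_pow : (a * b) ^ 2 = 1 := by
  have h : ((FreeGroup.of (0 : Fin 2) * FreeGroup.of 1) ^ 2) ∈ rels := by simp [rels]
  have := PresentedGroup.one_of_mem h
  simpa [a, b, PresentedGroup.of] using this

theorem ha (x : P) : x * a * a * a = x := by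
  have : x * a * a * a = x * a ^ 3 := by simp only [pow_succ, pow_zero, one_mul, mul_assoc]
  rw [this, a_pow, mul_one]

theorem hb (x : P) : x * b * b * b * b * b = x := by
  have : x * b * b * b * b * b = x * b ^ 5 := by simp only [pow_succ, pow_zero, one_mul, mul_assoc]
  rw [this, b_pow, mul_one]

theorem hab (x : P) : x * a * b * a * b = x := by
  have : x * a * b * a * b = x * (a * b) ^ 2 := by simp only [pow_succ, pow_zero, one_mul, mul_assoc]
  rw [this, ab_pow, mul_one]

def r0 : P := 1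
def r1 : P := r0 * a
def r2 : P := r0 * b
def r3 : P := r1 * a
def r4 : P := r1 * b
def r5 : P := r2 * a
def r6 : P := r2 * b
def r7 : P := r3 * b
def r8 : P := r4 * a
def r9 : P := r4 * b
def r10 : P := r5 * a
def r11 : P := r6 * a
def r12 : P := r6 * b
def r13 : P := r7 * a
def r14 : P := r7 * b
def r15 : P := r8 * a
def r16 : P := r9 * a
def r17 : P := r9 * b
def r18 : P := r10 * b
def r19 : P := r11 * a
def r20 : P := r12 * a
def r21 : P := r13 * a
def r22 : P := r14 * a
def r23 : P := r14 * b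
def r24 : P := r15 * b
def r25 : P := r16 * a
def r26 : P := r17 * a
def r27 : P := r18 * b
def r28 : P := r19 * b
def r29 : P := r21 * b
def r30 : P := r22 * a
def r31 : P := r23 * a
def r32 : P := r24 * b
def r33 : P := r25 * b
def r34 : P := r27 * a
def r35 : P := r27 * b
def r36 : P := r28 * b
def r37 : P := r29 * b
def r38 : P := r30 * b
def r39 : P := r32 * a
def r40 : P := r32 * b
def r41 : P := r33 * b
def r42 : P := r34 * a
def r43 : P := r35 * a
def r44 : P := r36 * a
def r45 : P := r37 * a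
def r46 : P := r37 * b
def r47 : P := r38 * b
def r48 : P := r39 * a
def r49 : P := r40 * a
def r50 : P := r41 * a
def r51 : P := r42 * b
def r52 : P := r44 * a
def r53 : P := r45 * a
def r54 : P := r46 * a
def r55 : P := r47 * a
def r56 : P := r50 * a
def r57 : P := r51 * b
def r58 : P := r52 * b
def r59 : P := r56 * b

theorem E_0_a : r0 * a = r1 := rfl
theorem E_0_b : r0 * b = r2 := rfl
theorem E_1_a : r1 * a = r3 := rfl
theorem E_1_b : r1 * b = r4 := rfl
theorem E_2_a : r2 * a = r5 := rfl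
theorem E_2_b : r2 * b = r6 := rfl
theorem E_3_b : r3 * b = r7 := rfl
theorem E_4_a : r4 * a = r8 := rfl
theorem E_4_b : r4 * b = r9 := rfl
theorem E_5_a : r5 * a = r10 := rfl
theorem E_6_a : r6 * a = r11 := rfl
theorem E_6_b : r6 * b = r12 := rfl
theorem E_7_a : r7 * a = r13 := rfl
theorem E_7_b : r7 * b = r14 := rfl
theorem E_8_a : r8 * a = r15 := rfl
theorem E_9_a : r9 * a = r16 := rfl
theorem E_9_b : r9 * b = r17 := rfl
theorem E_10_b : r10 * b = r18 := rfl
theorem E_11_a : r11 * a = r19 := rfl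
theorem E_12_a : r12 * a = r20 := rfl
theorem E_13_a : r13 * a = r21 := rfl
theorem E_14_a : r14 * a = r22 := rfl
theorem E_14_b : r14 * b = r23 := rfl
theorem E_15_b : r15 * b = r24 := rfl
theorem E_16_a : r16 * a = r25 := rfl
theorem E_17_a : r17 * a = r26 := rfl
theorem E_18_b : r18 * b = r27 := rfl
theorem E_19_b : r19 * b = r28 := rfl
theorem E_21_b : r21 * b = r29 := rfl
theorem E_22_a : r22 * a = r30 := rfl
theorem E_23_a : r23 * a = r31 := rfl
theorem E_24_b : r24 * b = r32 := rfl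
theorem E_25_b : r25 * b = r33 := rfl
theorem E_27_a : r27 * a = r34 := rfl
theorem E_27_b : r27 * b = r35 := rfl
theorem E_28_b : r28 * b = r36 := rfl
theorem E_29_b : r29 * b = r37 := rfl
theorem E_30_b : r30 * b = r38 := rfl
theorem E_32_a : r32 * a = r39 := rfl
theorem E_32_b : r32 * b = r40 := rfl
theorem E_33_b : r33 * b = r41 := rfl
theorem E_34_a : r34 * a = r42 := rfl
theorem E_35_a : r35 * a = r43 := rfl
theorem E_36_a : r36 * a = r44 := rfl
theorem E_37_a : r37 * a = r45 := rfl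
theorem E_37_b : r37 * b = r46 := rfl
theorem E_38_b : r38 * b = r47 := rfl
theorem E_39_a : r39 * a = r48 := rfl
theorem E_40_a : r40 * a = r49 := rfl
theorem E_41_a : r41 * a = r50 := rfl
theorem E_42_b : r42 * b = r51 := rfl
theorem E_44_a : r44 * a = r52 := rfl
theorem E_45_a : r45 * a = r53 := rfl
theorem E_46_a : r46 * a = r54 := rfl
theorem E_47_a : r47 * a = r55 := rfl
theorem E_50_a : r50 * a = r56 := rfl
theorem E_51_b : r51 * b = r57 := rfl
theorem E_52_b : r52 * b = r58 := rfl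
theorem E_56_b : r56 * b = r59 := rfl

theorem E_3_a : r3 * a = r0 := by
  have h := ha r0
  rw [E_0_a, E_1_a] at h
  exact h
theorem E_10_a : r10 * a = r2 := by
  have h := ha r2
  rw [E_2_a, E_5_a] at h
  exact h
theorem E_15_a : r15 * a = r4 := by
  have h := ha r4
  rw [E_4_a, E_8_a] at h
  exact h
theorem E_19_a : r19 * a = r6 := by
  have h := ha r6
  rw [E_6_a, E_11_a] at h
  exact h
theorem E_21_a : r21 * a = r7 := by
  have h := ha r7
  rw [E_7_a, E_13_a] at h
  exact h
theorem E_25_a : r25 * a = r9 := by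
  have h := ha r9
  rw [E_9_a, E_16_a] at h
  exact h
theorem E_30_a : r30 * a = r14 := by
  have h := ha r14
  rw [E_14_a, E_22_a] at h
  exact h
theorem E_42_a : r42 * a = r27 := by
  have h := ha r27
  rw [E_27_a, E_34_a] at h
  exact h
theorem E_48_a : r48 * a = r32 := by
  have h := ha r32
  rw [E_32_a, E_39_a] at h
  exact h
theorem E_52_a : r52 * a = r36 := by
  have h := ha r36
  rw [E_36_a, E_44_a] at h
  exact h
theorem E_53_a : r53 * a = r37 := by
  have h := ha r37
  rw [E_37_a, E_45_a] at h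
  exact h
theorem E_56_a : r56 * a = r41 := by
  have h := ha r41
  rw [E_41_a, E_50_a] at h
  exact h
theorem E_8_b : r8 * b = r0 := by
  have h := hab r0
  rw [E_0_a, E_1_b, E_4_a] at h
  exact h
theorem E_13_b : r13 * b = r1 := by
  have h := hab r1
  rw [E_1_a, E_3_b, E_7_a] at h
  exact h
theorem E_5_b : r5 * b = r3 := by
  have h := hab r2
  rw [E_2_a] at h
  have h2 : r3 * a * b = r2 := by rw [E_3_a, E_0_b]
  exact mul_right_cancel (mul_right_cancel (h.trans h2.symm))
theorem E_11_b : r11 * b = r10 := by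
  have h := hab r6
  rw [E_6_a] at h
  have h2 : r10 * a * b = r6 := by rw [E_10_a, E_2_b]
  exact mul_right_cancel (mul_right_cancel (h.trans h2.symm))
theorem E_16_b : r16 * b = r15 := by
  have h := hab r9
  rw [E_9_a] at h
  have h2 : r15 * a * b = r9 := by rw [E_15_a, E_4_b]
  exact mul_right_cancel (mul_right_cancel (h.trans h2.symm))
theorem E_20_b : r20 * b = r19 := by
  have h := hab r12
  rw [E_12_a] at h
  have h2 : r19 * a * b = r12 := by rw [E_19_a, E_6_b]
  exact mul_right_cancel (mul_right_cancel (h.trans h2.symm))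
theorem E_22_b : r22 * b = r21 := by
  have h := hab r14
  rw [E_14_a] at h
  have h2 : r21 * a * b = r14 := by rw [E_21_a, E_7_b]
  exact mul_right_cancel (mul_right_cancel (h.trans h2.symm))
theorem E_26_b : r26 * b = r25 := by
  have h := hab r17
  rw [E_17_a] at h
  have h2 : r25 * a * b = r17 := by rw [E_25_a, E_9_b]
  exact mul_right_cancel (mul_right_cancel (h.trans h2.symm))
theorem E_31_b : r31 * b = r30 := by
  have h := hab r23
  rw [E_23_a] at h
  have h2 : r30 * a * b = r23 := by rw [E_30_a, E_14_b]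
  exact mul_right_cancel (mul_right_cancel (h.trans h2.symm))
theorem E_43_b : r43 * b = r42 := by
  have h := hab r35
  rw [E_35_a] at h
  have h2 : r42 * a * b = r35 := by rw [E_42_a, E_27_b]
  exact mul_right_cancel (mul_right_cancel (h.trans h2.symm))
theorem E_49_b : r49 * b = r48 := by
  have h := hab r40
  rw [E_40_a] at h
  have h2 : r48 * a * b = r40 := by rw [E_48_a, E_32_b]
  exact mul_right_cancel (mul_right_cancel (h.trans h2.symm))
theorem E_54_b : r54 * b = r53 := by
  have h := hab r46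
  rw [E_46_a] at h
  have h2 : r53 * a * b = r46 := by rw [E_53_a, E_37_b]
  exact mul_right_cancel (mul_right_cancel (h.trans h2.symm))
theorem E_12_b : r12 * b = r8 := by
  have h := hb r0
  rw [E_0_b, E_2_b, E_6_b] at h
  have h2 : r8 * b = r0 := by rw [E_8_b]
  exact mul_right_cancel (h.trans h2.symm)
theorem E_17_b : r17 * b = r13 := by
  have h := hb r1
  rw [E_1_b, E_4_b, E_9_b] at h
  have h2 : r13 * b = r1 := by rw [E_13_b]
  exact mul_right_cancel (h.trans h2.symm)
theorem E_23_b : r23 * b = r5 := by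
  have h := hb r3
  rw [E_3_b, E_7_b, E_14_b] at h
  have h2 : r5 * b = r3 := by rw [E_5_b]
  exact mul_right_cancel (h.trans h2.symm)
theorem E_35_b : r35 * b = r11 := by
  have h := hb r10
  rw [E_10_b, E_18_b, E_27_b] at h
  have h2 : r11 * b = r10 := by rw [E_11_b]
  exact mul_right_cancel (h.trans h2.symm)
theorem E_40_b : r40 * b = r16 := by
  have h := hb r15
  rw [E_15_b, E_24_b, E_32_b] at h
  have h2 : r16 * b = r15 := by rw [E_16_b]
  exact mul_right_cancel (h.trans h2.symm)
theorem E_46_b : r46 * b = r22 := by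
  have h := hb r21
  rw [E_21_b, E_29_b, E_37_b] at h
  have h2 : r22 * b = r21 := by rw [E_22_b]
  exact mul_right_cancel (h.trans h2.symm)
theorem E_18_a : r18 * a = r23 := by
  have h := hab r5
  rw [E_5_a, E_10_b] at h
  have h2 : r23 * b = r5 := by rw [E_23_b]
  exact mul_right_cancel (h.trans h2.symm)
theorem E_24_a : r24 * a = r12 := by
  have h := hab r8
  rw [E_8_a, E_15_b] at h
  have h2 : r12 * b = r8 := by rw [E_12_b]
  exact mul_right_cancel (h.trans h2.symm)
theorem E_28_a : r28 * a = r35 := by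
  have h := hab r11
  rw [E_11_a, E_19_b] at h
  have h2 : r35 * b = r11 := by rw [E_35_b]
  exact mul_right_cancel (h.trans h2.symm)
theorem E_29_a : r29 * a = r17 := by
  have h := hab r13
  rw [E_13_a, E_21_b] at h
  have h2 : r17 * b = r13 := by rw [E_17_b]
  exact mul_right_cancel (h.trans h2.symm)
theorem E_33_a : r33 * a = r40 := by
  have h := hab r16
  rw [E_16_a, E_25_b] at h
  have h2 : r40 * b = r16 := by rw [E_40_b]
  exact mul_right_cancel (h.trans h2.symm)
theorem E_38_a : r38 * a = r46 := by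
  have h := hab r22
  rw [E_22_a, E_30_b] at h
  have h2 : r46 * b = r22 := by rw [E_46_b]
  exact mul_right_cancel (h.trans h2.symm)
theorem E_20_a : r20 * a = r24 := by
  have h := ha r12
  rw [E_12_a] at h
  have h2 : r24 * a = r12 := by rw [E_24_a]
  exact mul_right_cancel (h.trans h2.symm)
theorem E_26_a : r26 * a = r29 := by
  have h := ha r17
  rw [E_17_a] at h
  have h2 : r29 * a = r17 := by rw [E_29_a]
  exact mul_right_cancel (h.trans h2.symm)
theorem E_31_a : r31 * a = r18 := by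
  have h := ha r18
  rw [E_18_a, E_23_a] at h
  exact h
theorem E_43_a : r43 * a = r28 := by
  have h := ha r28
  rw [E_28_a, E_35_a] at h
  exact h
theorem E_49_a : r49 * a = r33 := by
  have h := ha r33
  rw [E_33_a, E_40_a] at h
  exact h
theorem E_54_a : r54 * a = r38 := by
  have h := ha r38
  rw [E_38_a, E_46_a] at h
  exact h
theorem E_39_b : r39 * b = r20 := by
  have h := hab r20
  rw [E_20_a, E_24_b, E_32_a] at h
  exact h
theorem E_45_b : r45 * b = r26 := by
  have h := hab r26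
  rw [E_26_a, E_29_b, E_37_a] at h
  exact h
theorem E_34_b : r34 * b = r31 := by
  have h := hab r27
  rw [E_27_a] at h
  have h2 : r31 * a * b = r27 := by rw [E_31_a, E_18_b]
  exact mul_right_cancel (mul_right_cancel (h.trans h2.symm))
theorem E_44_b : r44 * b = r43 := by
  have h := hab r36
  rw [E_36_a] at h
  have h2 : r43 * a * b = r36 := by rw [E_43_a, E_28_b]
  exact mul_right_cancel (mul_right_cancel (h.trans h2.symm))
theorem E_50_b : r50 * b = r49 := by
  have h := hab r41
  rw [E_41_a] at h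
  have h2 : r49 * a * b = r41 := by rw [E_49_a, E_33_b]
  exact mul_right_cancel (mul_right_cancel (h.trans h2.symm))
theorem E_55_b : r55 * b = r54 := by
  have h := hab r47
  rw [E_47_a] at h
  have h2 : r54 * a * b = r47 := by rw [E_54_a, E_38_b]
  exact mul_right_cancel (mul_right_cancel (h.trans h2.symm))
theorem E_36_b : r36 * b = r39 := by
  have h := hb r19
  rw [E_19_b, E_28_b] at h
  have h2 : r39 * b * b = r19 := by rw [E_39_b, E_20_b]
  exact mul_right_cancel (mul_right_cancel (h.trans h2.symm))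
theorem E_41_b : r41 * b = r45 := by
  have h := hb r25
  rw [E_25_b, E_33_b] at h
  have h2 : r45 * b * b = r25 := by rw [E_45_b, E_26_b]
  exact mul_right_cancel (mul_right_cancel (h.trans h2.symm))
theorem E_47_b : r47 * b = r34 := by
  have h := hb r30
  rw [E_30_b, E_38_b] at h
  have h2 : r34 * b * b = r30 := by rw [E_34_b, E_31_b]
  exact mul_right_cancel (mul_right_cancel (h.trans h2.symm))
theorem E_57_b : r57 * b = r44 := by
  have h := hb r42
  rw [E_42_b, E_51_b] at h
  have h2 : r44 * b * b = r42 := by rw [E_44_b, E_43_b]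
  exact mul_right_cancel (mul_right_cancel (h.trans h2.symm))
theorem E_51_a : r51 * a = r47 := by
  have h := hab r34
  rw [E_34_a, E_42_b] at h
  have h2 : r47 * b = r34 := by rw [E_47_b]
  exact mul_right_cancel (h.trans h2.symm)
theorem E_48_b : r48 * b = r52 := by
  have h := hab r39
  rw [E_39_a] at h
  have h2 : r52 * a * b = r39 := by rw [E_52_a, E_36_b]
  exact mul_right_cancel (mul_right_cancel (h.trans h2.symm))
theorem E_58_a : r58 * a = r57 := by
  have h := hab r44
  rw [E_44_a, E_52_b] at h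
  have h2 : r57 * b = r44 := by rw [E_57_b]
  exact mul_right_cancel (h.trans h2.symm)
theorem E_53_b : r53 * b = r56 := by
  have h := hab r45
  rw [E_45_a] at h
  have h2 : r56 * a * b = r45 := by rw [E_56_a, E_41_b]
  exact mul_right_cancel (mul_right_cancel (h.trans h2.symm))
theorem E_55_a : r55 * a = r51 := by
  have h := ha r47
  rw [E_47_a] at h
  have h2 : r51 * a = r47 := by rw [E_51_a]
  exact mul_right_cancel (h.trans h2.symm)
theorem E_58_b : r58 * b = r50 := by
  have h := hb r48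
  rw [E_48_b, E_52_b] at h
  have h2 : r50 * b * b = r48 := by rw [E_50_b, E_49_b]
  exact mul_right_cancel (mul_right_cancel (h.trans h2.symm))
theorem E_59_b : r59 * b = r55 := by
  have h := hb r53
  rw [E_53_b, E_56_b] at h
  have h2 : r55 * b * b = r53 := by rw [E_55_b, E_54_b]
  exact mul_right_cancel (mul_right_cancel (h.trans h2.symm))
theorem E_59_a : r59 * a = r58 := by
  have h := hab r50
  rw [E_50_a, E_56_b] at h
  have h2 : r58 * b = r50 := by rw [E_58_b]
  exact mul_right_cancel (h.trans h2.symm)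
theorem E_57_a : r57 * a = r59 := by
  have h := hab r55
  rw [E_55_a, E_51_b] at h
  have h2 : r59 * b = r55 := by rw [E_59_b]
  exact mul_right_cancel (h.trans h2.symm)

def R : Fin 60 → P := ![r0, r1, r2, r3, r4, r5, r6, r7, r8, r9, r10, r11, r12, r13, r14, r15, r16, r17, r18, r19, r20, r21, r22, r23, r24, r25, r26, r27, r28, r29, r30, r31, r32, r33, r34, r35, r36, r37, r38, r39, r40, r41, r42, r43, r44, r45, r46, r47, r48, r49, r50, r51, r52, r53, r54, r55, r56, r57, r58, r59]
def ta : Fin 60 → Fin 60 := ![1, 3, 5, 0, 8, 10, 11, 13, 15, 16, 2, 19, 20, 21, 22, 4, 25, 26, 23, 6, 24, 7, 30, 31, 12, 9, 29, 34, 35, 17, 14, 18, 39, 40, 42, 43, 44, 45, 46, 48, 49, 50, 27, 28, 52, 53, 54, 55, 32, 33, 56, 47, 36, 37, 38, 51, 41, 59, 57, 58]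
def tb : Fin 60 → Fin 60 := ![2, 4, 6, 7, 9, 3, 12, 14, 0, 17, 18, 10, 8, 1, 23, 24, 15, 13, 27, 28, 19, 29, 21, 5, 32, 33, 25, 35, 36, 37, 38, 30, 40, 41, 31, 11, 39, 46, 47, 20, 16, 45, 51, 42, 43, 26, 22, 34, 52, 48, 49, 57, 58, 56, 53, 54, 59, 44, 50, 55]

theorem R_a (i : Fin 60) : R i * a = R (ta i) := by
  fin_cases i
  · exact E_0_a
  · exact E_1_a
  · exact E_2_a
  · exact E_3_a
  · exact E_4_a
  · exact E_5_a
  · exact E_6_a
  · exact E_7_a
  · exact E_8_a
  · exact E_9_a
  · exact E_10_a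
  · exact E_11_a
  · exact E_12_a
  · exact E_13_a
  · exact E_14_a
  · exact E_15_a
  · exact E_16_a
  · exact E_17_a
  · exact E_18_a
  · exact E_19_a
  · exact E_20_a
  · exact E_21_a
  · exact E_22_a
  · exact E_23_a
  · exact E_24_a
  · exact E_25_a
  · exact E_26_a
  · exact E_27_a
  · exact E_28_a
  · exact E_29_a
  · exact E_30_a
  · exact E_31_a
  · exact E_32_a
  · exact E_33_a
  · exact E_34_a
  · exact E_35_a
  · exact E_36_a
  · exact E_37_a
  · exact E_38_a
  · exact E_39_a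
  · exact E_40_a
  · exact E_41_a
  · exact E_42_a
  · exact E_43_a
  · exact E_44_a
  · exact E_45_a
  · exact E_46_a
  · exact E_47_a
  · exact E_48_a
  · exact E_49_a
  · exact E_50_a
  · exact E_51_a
  · exact E_52_a
  · exact E_53_a
  · exact E_54_a
  · exact E_55_a
  · exact E_56_a
  · exact E_57_a
  · exact E_58_a
  · exact E_59_a

theorem R_b (i : Fin 60) : R i * b = R (tb i) := by
  fin_cases i
  · exact E_0_b
  · exact E_1_b
  · exact E_2_b
  · exact E_3_b
  · exact E_4_b
  · exact E_5_b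
  · exact E_6_b
  · exact E_7_b
  · exact E_8_b
  · exact E_9_b
  · exact E_10_b
  · exact E_11_b
  · exact E_12_b
  · exact E_13_b
  · exact E_14_b
  · exact E_15_b
  · exact E_16_b
  · exact E_17_b
  · exact E_18_b
  · exact E_19_b
  · exact E_20_b
  · exact E_21_b
  · exact E_22_b
  · exact E_23_b
  · exact E_24_b
  · exact E_25_b
  · exact E_26_b
  · exact E_27_b
  · exact E_28_b
  · exact E_29_b
  · exact E_30_b
  · exact E_31_b
  · exact E_32_b
  · exact E_33_b
  · exact E_34_b
  · exact E_35_b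
  · exact E_36_b
  · exact E_37_b
  · exact E_38_b
  · exact E_39_b
  · exact E_40_b
  · exact E_41_b
  · exact E_42_b
  · exact E_43_b
  · exact E_44_b
  · exact E_45_b
  · exact E_46_b
  · exact E_47_b
  · exact E_48_b
  · exact E_49_b
  · exact E_50_b
  · exact E_51_b
  · exact E_52_b
  · exact E_53_b
  · exact E_54_b
  · exact E_55_b
  · exact E_56_b
  · exact E_57_b
  · exact E_58_b
  · exact E_59_b

-- images in S5: a ↦ (1, 2, 0, 3, 4), b ↦ (2, 3, 4, 0, 1)

theorem R_zero : R 0 = 1 := rfl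

theorem a_inv : a⁻¹ = a * a := by
  have := a_pow
  rw [pow_succ, pow_two] at this
  exact inv_eq_of_mul_eq_one_left this

theorem b_inv : b⁻¹ = b * b * b * b := by
  have := b_pow
  rw [pow_succ] at this
  rw [inv_eq_of_mul_eq_one_left this]
  simp only [pow_succ, pow_zero, one_mul, mul_assoc]

theorem R_closed (x : P) : ∀ i : Fin 60, ∃ j : Fin 60, R i * x = R j := by
  induction x using PresentedGroup.induction_on with
  | H z =>
    induction z using FreeGroup.induction_on with
    | C1 => intro i; exact ⟨i, by simp⟩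
    | of g =>
      intro i
      fin_cases g
      · exact ⟨ta i, R_a i⟩
      · exact ⟨tb i, R_b i⟩
    | inv_of g _ =>
      intro i
      fin_cases g
      · refine ⟨ta (ta i), ?_⟩
        have : (PresentedGroup.mk rels (pure (0 : Fin 2))⁻¹ : P) = a⁻¹ := rfl
        show R i * PresentedGroup.mk rels (pure (0 : Fin 2))⁻¹ = _
        rw [this, a_inv, ← mul_assoc, R_a, R_a]
      · refine ⟨tb (tb (tb (tb i))), ?_⟩
        have : (PresentedGroup.mk rels (pure (1 : Fin 2))⁻¹ : P) = b⁻¹ := rfl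
        show R i * PresentedGroup.mk rels (pure (1 : Fin 2))⁻¹ = _
        rw [this, b_inv, ← mul_assoc, ← mul_assoc, ← mul_assoc, R_b, R_b, R_b, R_b]
    | mul x y hx hy =>
      intro i
      obtain ⟨j, hj⟩ := hx i
      obtain ⟨k, hk⟩ := hy j
      refine ⟨k, ?_⟩
      rw [map_mul, ← mul_assoc, hj, hk]

theorem R_surjective : Function.Surjective R := by
  intro x
  obtain ⟨j, hj⟩ := R_closed x 0
  rw [R_zero, one_mul] at hj
  exact ⟨j, hj.symm⟩


def pa : Equiv.Perm (Fin 5) := ⟨![1, 2, 0, 3, 4], ![2, 0, 1, 3, 4], by decide, by decide⟩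
def pb : Equiv.Perm (Fin 5) := ⟨![2, 3, 4, 0, 1], ![3, 4, 0, 1, 2], by decide, by decide⟩

theorem pa_mem : pa ∈ alternatingGroup (Fin 5) := by
  rw [Equiv.Perm.mem_alternatingGroup]; decide

theorem pb_mem : pb ∈ alternatingGroup (Fin 5) := by
  rw [Equiv.Perm.mem_alternatingGroup]; decide

def gens : Fin 2 → alternatingGroup (Fin 5) := ![⟨pa, pa_mem⟩, ⟨pb, pb_mem⟩]

theorem gens_rel : ∀ r ∈ rels, FreeGroup.lift gens r = 1 := by
  intro r hr
  simp only [rels, Set.mem_insert_iff, Set.mem_singleton_iff] at hr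
  rcases hr with rfl | rfl | rfl
  · simp only [map_pow, FreeGroup.lift_apply_of]
    apply Subtype.ext
    simp only [gens, Matrix.cons_val_zero, Subgroup.coe_pow, Subgroup.coe_one]
    decide
  · simp only [map_pow, FreeGroup.lift_apply_of]
    apply Subtype.ext
    simp only [gens, Matrix.cons_val_one, Matrix.cons_val_zero, Subgroup.coe_pow, Subgroup.coe_one]
    decide
  · simp only [map_pow, map_mul, FreeGroup.lift_apply_of]
    apply Subtype.ext
    simp only [gens, Matrix.cons_val_one, Matrix.cons_val_zero, Subgroup.coe_pow, Subgroup.coe_mul, Subgroup.coe_one]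
    decide

def f : P →* alternatingGroup (Fin 5) := PresentedGroup.toGroup gens_rel

theorem f_a (x : Fin 5) : ((f a : alternatingGroup (Fin 5)) : Equiv.Perm (Fin 5)) x = pa x := by
  have : f a = gens 0 := PresentedGroup.toGroup.of gens_rel
  rw [this]; rfl

theorem f_b (x : Fin 5) : ((f b : alternatingGroup (Fin 5)) : Equiv.Perm (Fin 5)) x = pb x := by
  have : f b = gens 1 := PresentedGroup.toGroup.of gens_rel
  rw [this]; rfl

def V : Fin 60 → (Fin 5 → Fin 5) := ![![0, 1, 2, 3, 4], ![1, 2, 0, 3, 4], ![2, 3, 4, 0, 1], ![2, 0, 1, 3, 4], ![0, 3, 4, 1, 2], ![3, 4, 2, 0, 1], ![4, 0, 1, 2, 3], ![1, 3, 4, 2, 0], ![3, 4, 0, 1, 2], ![4, 1, 2, 0, 3], ![4, 2, 3, 0, 1], ![0, 1, 4, 2, 3], ![1, 2, 3, 4, 0], ![3, 4, 1, 2, 0], ![4, 2, 0, 1, 3], ![4, 0, 3, 1, 2], ![1, 2, 4, 0, 3], ![2, 0, 3, 4, 1], ![3, 0, 1, 4, 2], ![1, 4, 0, 2, 3], ![2, 3, 1, 4, 0], ![4, 1, 3, 2, 0], ![2, 0, 4, 1, 3], ![0, 1, 3, 4, 2], ![3, 1, 2, 4, 0], ![2, 4, 1, 0, 3], ![0, 3, 2, 4, 1], ![1, 4, 2, 3, 0], ![0, 2,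 3, 1, 4], ![3, 2, 0, 4, 1], ![0, 4, 2, 1, 3], ![1, 3, 0, 4, 2], ![2, 4, 0, 3, 1], ![1, 0, 3, 2, 4], ![4, 2, 1, 3, 0], ![2, 3, 0, 1, 4], ![3, 1, 4, 0, 2], ![0, 4, 1, 3, 2], ![2, 1, 3, 0, 4], ![4, 0, 2, 3, 1], ![0, 3, 1, 2, 4], ![3, 2, 4, 1, 0], ![2, 1, 4, 3, 0], ![3, 0, 2, 1, 4], ![1, 4, 3, 0, 2], ![4, 1, 0, 3, 2], ![1, 3, 2, 0, 4], ![3, 0, 4, 2, 1], ![0, 2, 4, 3, 1], ![3, 1, 0, 2, 4], ![2, 4, 3, 1, 0], ![4, 3, 0, 2, 1], ![4, 3, 1, 0, 2], ![1, 0, 4, 3, 2], ![3, 2, 1, 0, 4], ![0, 4, 3, 2, 1], ![4, 3, 2, 1, 0], ![0, 2, 1, 4, 3], ![1, 0, 2, 4, 3], ![2, 1, 0, 4, 3]]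

theorem F_0 (x : Fin 5) : ((f r0 : alternatingGroup (Fin 5)) : Equiv.Perm (Fin 5)) x = V 0 x := by
  have : f r0 = 1 := map_one f
  rw [this]; revert x; decide
theorem F_1 (x : Fin 5) : ((f r1 : alternatingGroup (Fin 5)) : Equiv.Perm (Fin 5)) x = V 1 x := by
  have : f r1 = f r0 * f a := map_mul f r0 a
  rw [this, Subgroup.coe_mul, Equiv.Perm.mul_apply, f_a, F_0]; revert x; decide
theorem F_2 (x : Fin 5) : ((f r2 : alternatingGroup (Fin 5)) : Equiv.Perm (Fin 5)) x = V 2 x := by
  have : f r2 = f r0 * f b := map_mul f r0 b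
  rw [this, Subgroup.coe_mul, Equiv.Perm.mul_apply, f_b, F_0]; revert x; decide
theorem F_3 (x : Fin 5) : ((f r3 : alternatingGroup (Fin 5)) : Equiv.Perm (Fin 5)) x = V 3 x := by
  have : f r3 = f r1 * f a := map_mul f r1 a
  rw [this, Subgroup.coe_mul, Equiv.Perm.mul_apply, f_a, F_1]; revert x; decide
theorem F_4 (x : Fin 5) : ((f r4 : alternatingGroup (Fin 5)) : Equiv.Perm (Fin 5)) x = V 4 x := by
  have : f r4 = f r1 * f b := map_mul f r1 b
  rw [this, Subgroup.coe_mul, Equiv.Perm.mul_apply, f_b, F_1]; revert x; decide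
theorem F_5 (x : Fin 5) : ((f r5 : alternatingGroup (Fin 5)) : Equiv.Perm (Fin 5)) x = V 5 x := by
  have : f r5 = f r2 * f a := map_mul f r2 a
  rw [this, Subgroup.coe_mul, Equiv.Perm.mul_apply, f_a, F_2]; revert x; decide
theorem F_6 (x : Fin 5) : ((f r6 : alternatingGroup (Fin 5)) : Equiv.Perm (Fin 5)) x = V 6 x := by
  have : f r6 = f r2 * f b := map_mul f r2 b
  rw [this, Subgroup.coe_mul, Equiv.Perm.mul_apply, f_b, F_2]; revert x; decide
theorem F_7 (x : Fin 5) : ((f r7 : alternatingGroup (Fin 5)) : Equiv.Perm (Fin 5)) x = V 7 x := by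
  have : f r7 = f r3 * f b := map_mul f r3 b
  rw [this, Subgroup.coe_mul, Equiv.Perm.mul_apply, f_b, F_3]; revert x; decide
theorem F_8 (x : Fin 5) : ((f r8 : alternatingGroup (Fin 5)) : Equiv.Perm (Fin 5)) x = V 8 x := by
  have : f r8 = f r4 * f a := map_mul f r4 a
  rw [this, Subgroup.coe_mul, Equiv.Perm.mul_apply, f_a, F_4]; revert x; decide
theorem F_9 (x : Fin 5) : ((f r9 : alternatingGroup (Fin 5)) : Equiv.Perm (Fin 5)) x = V 9 x := by
  have : f r9 = f r4 * f b := map_mul f r4 b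
  rw [this, Subgroup.coe_mul, Equiv.Perm.mul_apply, f_b, F_4]; revert x; decide
theorem F_10 (x : Fin 5) : ((f r10 : alternatingGroup (Fin 5)) : Equiv.Perm (Fin 5)) x = V 10 x := by
  have : f r10 = f r5 * f a := map_mul f r5 a
  rw [this, Subgroup.coe_mul, Equiv.Perm.mul_apply, f_a, F_5]; revert x; decide
theorem F_11 (x : Fin 5) : ((f r11 : alternatingGroup (Fin 5)) : Equiv.Perm (Fin 5)) x = V 11 x := by
  have : f r11 = f r6 * f a := map_mul f r6 a
  rw [this, Subgroup.coe_mul, Equiv.Perm.mul_apply, f_a, F_6]; revert x; decide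
theorem F_12 (x : Fin 5) : ((f r12 : alternatingGroup (Fin 5)) : Equiv.Perm (Fin 5)) x = V 12 x := by
  have : f r12 = f r6 * f b := map_mul f r6 b
  rw [this, Subgroup.coe_mul, Equiv.Perm.mul_apply, f_b, F_6]; revert x; decide
theorem F_13 (x : Fin 5) : ((f r13 : alternatingGroup (Fin 5)) : Equiv.Perm (Fin 5)) x = V 13 x := by
  have : f r13 = f r7 * f a := map_mul f r7 a
  rw [this, Subgroup.coe_mul, Equiv.Perm.mul_apply, f_a, F_7]; revert x; decide
theorem F_14 (x : Fin 5) : ((f r14 : alternatingGroup (Fin 5)) : Equiv.Perm (Fin 5)) x = V 14 x := by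
  have : f r14 = f r7 * f b := map_mul f r7 b
  rw [this, Subgroup.coe_mul, Equiv.Perm.mul_apply, f_b, F_7]; revert x; decide
theorem F_15 (x : Fin 5) : ((f r15 : alternatingGroup (Fin 5)) : Equiv.Perm (Fin 5)) x = V 15 x := by
  have : f r15 = f r8 * f a := map_mul f r8 a
  rw [this, Subgroup.coe_mul, Equiv.Perm.mul_apply, f_a, F_8]; revert x; decide
theorem F_16 (x : Fin 5) : ((f r16 : alternatingGroup (Fin 5)) : Equiv.Perm (Fin 5)) x = V 16 x := by
  have : f r16 = f r9 * f a := map_mul f r9 a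
  rw [this, Subgroup.coe_mul, Equiv.Perm.mul_apply, f_a, F_9]; revert x; decide
theorem F_17 (x : Fin 5) : ((f r17 : alternatingGroup (Fin 5)) : Equiv.Perm (Fin 5)) x = V 17 x := by
  have : f r17 = f r9 * f b := map_mul f r9 b
  rw [this, Subgroup.coe_mul, Equiv.Perm.mul_apply, f_b, F_9]; revert x; decide
theorem F_18 (x : Fin 5) : ((f r18 : alternatingGroup (Fin 5)) : Equiv.Perm (Fin 5)) x = V 18 x := by
  have : f r18 = f r10 * f b := map_mul f r10 b
  rw [this, Subgroup.coe_mul, Equiv.Perm.mul_apply, f_b, F_10]; revert x; decide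
theorem F_19 (x : Fin 5) : ((f r19 : alternatingGroup (Fin 5)) : Equiv.Perm (Fin 5)) x = V 19 x := by
  have : f r19 = f r11 * f a := map_mul f r11 a
  rw [this, Subgroup.coe_mul, Equiv.Perm.mul_apply, f_a, F_11]; revert x; decide
theorem F_20 (x : Fin 5) : ((f r20 : alternatingGroup (Fin 5)) : Equiv.Perm (Fin 5)) x = V 20 x := by
  have : f r20 = f r12 * f a := map_mul f r12 a
  rw [this, Subgroup.coe_mul, Equiv.Perm.mul_apply, f_a, F_12]; revert x; decide
theorem F_21 (x : Fin 5) : ((f r21 : alternatingGroup (Fin 5)) : Equiv.Perm (Fin 5)) x = V 21 x := by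
  have : f r21 = f r13 * f a := map_mul f r13 a
  rw [this, Subgroup.coe_mul, Equiv.Perm.mul_apply, f_a, F_13]; revert x; decide
theorem F_22 (x : Fin 5) : ((f r22 : alternatingGroup (Fin 5)) : Equiv.Perm (Fin 5)) x = V 22 x := by
  have : f r22 = f r14 * f a := map_mul f r14 a
  rw [this, Subgroup.coe_mul, Equiv.Perm.mul_apply, f_a, F_14]; revert x; decide
theorem F_23 (x : Fin 5) : ((f r23 : alternatingGroup (Fin 5)) : Equiv.Perm (Fin 5)) x = V 23 x := by
  have : f r23 = f r14 * f b := map_mul f r14 b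
  rw [this, Subgroup.coe_mul, Equiv.Perm.mul_apply, f_b, F_14]; revert x; decide
theorem F_24 (x : Fin 5) : ((f r24 : alternatingGroup (Fin 5)) : Equiv.Perm (Fin 5)) x = V 24 x := by
  have : f r24 = f r15 * f b := map_mul f r15 b
  rw [this, Subgroup.coe_mul, Equiv.Perm.mul_apply, f_b, F_15]; revert x; decide
theorem F_25 (x : Fin 5) : ((f r25 : alternatingGroup (Fin 5)) : Equiv.Perm (Fin 5)) x = V 25 x := by
  have : f r25 = f r16 * f a := map_mul f r16 a
  rw [this, Subgroup.coe_mul, Equiv.Perm.mul_apply, f_a, F_16]; revert x; decide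
theorem F_26 (x : Fin 5) : ((f r26 : alternatingGroup (Fin 5)) : Equiv.Perm (Fin 5)) x = V 26 x := by
  have : f r26 = f r17 * f a := map_mul f r17 a
  rw [this, Subgroup.coe_mul, Equiv.Perm.mul_apply, f_a, F_17]; revert x; decide
theorem F_27 (x : Fin 5) : ((f r27 : alternatingGroup (Fin 5)) : Equiv.Perm (Fin 5)) x = V 27 x := by
  have : f r27 = f r18 * f b := map_mul f r18 b
  rw [this, Subgroup.coe_mul, Equiv.Perm.mul_apply, f_b, F_18]; revert x; decide
theorem F_28 (x : Fin 5) : ((f r28 : alternatingGroup (Fin 5)) : Equiv.Perm (Fin 5)) x = V 28 x := by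
  have : f r28 = f r19 * f b := map_mul f r19 b
  rw [this, Subgroup.coe_mul, Equiv.Perm.mul_apply, f_b, F_19]; revert x; decide
theorem F_29 (x : Fin 5) : ((f r29 : alternatingGroup (Fin 5)) : Equiv.Perm (Fin 5)) x = V 29 x := by
  have : f r29 = f r21 * f b := map_mul f r21 b
  rw [this, Subgroup.coe_mul, Equiv.Perm.mul_apply, f_b, F_21]; revert x; decide
theorem F_30 (x : Fin 5) : ((f r30 : alternatingGroup (Fin 5)) : Equiv.Perm (Fin 5)) x = V 30 x := by
  have : f r30 = f r22 * f a := map_mul f r22 a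
  rw [this, Subgroup.coe_mul, Equiv.Perm.mul_apply, f_a, F_22]; revert x; decide
theorem F_31 (x : Fin 5) : ((f r31 : alternatingGroup (Fin 5)) : Equiv.Perm (Fin 5)) x = V 31 x := by
  have : f r31 = f r23 * f a := map_mul f r23 a
  rw [this, Subgroup.coe_mul, Equiv.Perm.mul_apply, f_a, F_23]; revert x; decide
theorem F_32 (x : Fin 5) : ((f r32 : alternatingGroup (Fin 5)) : Equiv.Perm (Fin 5)) x = V 32 x := by
  have : f r32 = f r24 * f b := map_mul f r24 b
  rw [this, Subgroup.coe_mul, Equiv.Perm.mul_apply, f_b, F_24]; revert x; decide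
theorem F_33 (x : Fin 5) : ((f r33 : alternatingGroup (Fin 5)) : Equiv.Perm (Fin 5)) x = V 33 x := by
  have : f r33 = f r25 * f b := map_mul f r25 b
  rw [this, Subgroup.coe_mul, Equiv.Perm.mul_apply, f_b, F_25]; revert x; decide
theorem F_34 (x : Fin 5) : ((f r34 : alternatingGroup (Fin 5)) : Equiv.Perm (Fin 5)) x = V 34 x := by
  have : f r34 = f r27 * f a := map_mul f r27 a
  rw [this, Subgroup.coe_mul, Equiv.Perm.mul_apply, f_a, F_27]; revert x; decide
theorem F_35 (x : Fin 5) : ((f r35 : alternatingGroup (Fin 5)) : Equiv.Perm (Fin 5)) x = V 35 x := by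
  have : f r35 = f r27 * f b := map_mul f r27 b
  rw [this, Subgroup.coe_mul, Equiv.Perm.mul_apply, f_b, F_27]; revert x; decide
theorem F_36 (x : Fin 5) : ((f r36 : alternatingGroup (Fin 5)) : Equiv.Perm (Fin 5)) x = V 36 x := by
  have : f r36 = f r28 * f b := map_mul f r28 b
  rw [this, Subgroup.coe_mul, Equiv.Perm.mul_apply, f_b, F_28]; revert x; decide
theorem F_37 (x : Fin 5) : ((f r37 : alternatingGroup (Fin 5)) : Equiv.Perm (Fin 5)) x = V 37 x := by
  have : f r37 = f r29 * f b := map_mul f r29 b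
  rw [this, Subgroup.coe_mul, Equiv.Perm.mul_apply, f_b, F_29]; revert x; decide
theorem F_38 (x : Fin 5) : ((f r38 : alternatingGroup (Fin 5)) : Equiv.Perm (Fin 5)) x = V 38 x := by
  have : f r38 = f r30 * f b := map_mul f r30 b
  rw [this, Subgroup.coe_mul, Equiv.Perm.mul_apply, f_b, F_30]; revert x; decide
theorem F_39 (x : Fin 5) : ((f r39 : alternatingGroup (Fin 5)) : Equiv.Perm (Fin 5)) x = V 39 x := by
  have : f r39 = f r32 * f a := map_mul f r32 a
  rw [this, Subgroup.coe_mul, Equiv.Perm.mul_apply, f_a, F_32]; revert x; decide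
theorem F_40 (x : Fin 5) : ((f r40 : alternatingGroup (Fin 5)) : Equiv.Perm (Fin 5)) x = V 40 x := by
  have : f r40 = f r32 * f b := map_mul f r32 b
  rw [this, Subgroup.coe_mul, Equiv.Perm.mul_apply, f_b, F_32]; revert x; decide
theorem F_41 (x : Fin 5) : ((f r41 : alternatingGroup (Fin 5)) : Equiv.Perm (Fin 5)) x = V 41 x := by
  have : f r41 = f r33 * f b := map_mul f r33 b
  rw [this, Subgroup.coe_mul, Equiv.Perm.mul_apply, f_b, F_33]; revert x; decide
theorem F_42 (x : Fin 5) : ((f r42 : alternatingGroup (Fin 5)) : Equiv.Perm (Fin 5)) x = V 42 x := by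
  have : f r42 = f r34 * f a := map_mul f r34 a
  rw [this, Subgroup.coe_mul, Equiv.Perm.mul_apply, f_a, F_34]; revert x; decide
theorem F_43 (x : Fin 5) : ((f r43 : alternatingGroup (Fin 5)) : Equiv.Perm (Fin 5)) x = V 43 x := by
  have : f r43 = f r35 * f a := map_mul f r35 a
  rw [this, Subgroup.coe_mul, Equiv.Perm.mul_apply, f_a, F_35]; revert x; decide
theorem F_44 (x : Fin 5) : ((f r44 : alternatingGroup (Fin 5)) : Equiv.Perm (Fin 5)) x = V 44 x := by
  have : f r44 = f r36 * f a := map_mul f r36 a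
  rw [this, Subgroup.coe_mul, Equiv.Perm.mul_apply, f_a, F_36]; revert x; decide
theorem F_45 (x : Fin 5) : ((f r45 : alternatingGroup (Fin 5)) : Equiv.Perm (Fin 5)) x = V 45 x := by
  have : f r45 = f r37 * f a := map_mul f r37 a
  rw [this, Subgroup.coe_mul, Equiv.Perm.mul_apply, f_a, F_37]; revert x; decide
theorem F_46 (x : Fin 5) : ((f r46 : alternatingGroup (Fin 5)) : Equiv.Perm (Fin 5)) x = V 46 x := by
  have : f r46 = f r37 * f b := map_mul f r37 b
  rw [this, Subgroup.coe_mul, Equiv.Perm.mul_apply, f_b, F_37]; revert x; decide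
theorem F_47 (x : Fin 5) : ((f r47 : alternatingGroup (Fin 5)) : Equiv.Perm (Fin 5)) x = V 47 x := by
  have : f r47 = f r38 * f b := map_mul f r38 b
  rw [this, Subgroup.coe_mul, Equiv.Perm.mul_apply, f_b, F_38]; revert x; decide
theorem F_48 (x : Fin 5) : ((f r48 : alternatingGroup (Fin 5)) : Equiv.Perm (Fin 5)) x = V 48 x := by
  have : f r48 = f r39 * f a := map_mul f r39 a
  rw [this, Subgroup.coe_mul, Equiv.Perm.mul_apply, f_a, F_39]; revert x; decide
theorem F_49 (x : Fin 5) : ((f r49 : alternatingGroup (Fin 5)) : Equiv.Perm (Fin 5)) x = V 49 x := by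
  have : f r49 = f r40 * f a := map_mul f r40 a
  rw [this, Subgroup.coe_mul, Equiv.Perm.mul_apply, f_a, F_40]; revert x; decide
theorem F_50 (x : Fin 5) : ((f r50 : alternatingGroup (Fin 5)) : Equiv.Perm (Fin 5)) x = V 50 x := by
  have : f r50 = f r41 * f a := map_mul f r41 a
  rw [this, Subgroup.coe_mul, Equiv.Perm.mul_apply, f_a, F_41]; revert x; decide
theorem F_51 (x : Fin 5) : ((f r51 : alternatingGroup (Fin 5)) : Equiv.Perm (Fin 5)) x = V 51 x := by
  have : f r51 = f r42 * f b := map_mul f r42 b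
  rw [this, Subgroup.coe_mul, Equiv.Perm.mul_apply, f_b, F_42]; revert x; decide
theorem F_52 (x : Fin 5) : ((f r52 : alternatingGroup (Fin 5)) : Equiv.Perm (Fin 5)) x = V 52 x := by
  have : f r52 = f r44 * f a := map_mul f r44 a
  rw [this, Subgroup.coe_mul, Equiv.Perm.mul_apply, f_a, F_44]; revert x; decide
theorem F_53 (x : Fin 5) : ((f r53 : alternatingGroup (Fin 5)) : Equiv.Perm (Fin 5)) x = V 53 x := by
  have : f r53 = f r45 * f a := map_mul f r45 a
  rw [this, Subgroup.coe_mul, Equiv.Perm.mul_apply, f_a, F_45]; revert x; decide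
theorem F_54 (x : Fin 5) : ((f r54 : alternatingGroup (Fin 5)) : Equiv.Perm (Fin 5)) x = V 54 x := by
  have : f r54 = f r46 * f a := map_mul f r46 a
  rw [this, Subgroup.coe_mul, Equiv.Perm.mul_apply, f_a, F_46]; revert x; decide
theorem F_55 (x : Fin 5) : ((f r55 : alternatingGroup (Fin 5)) : Equiv.Perm (Fin 5)) x = V 55 x := by
  have : f r55 = f r47 * f a := map_mul f r47 a
  rw [this, Subgroup.coe_mul, Equiv.Perm.mul_apply, f_a, F_47]; revert x; decide
theorem F_56 (x : Fin 5) : ((f r56 : alternatingGroup (Fin 5)) : Equiv.Perm (Fin 5)) x = V 56 x := by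
  have : f r56 = f r50 * f a := map_mul f r50 a
  rw [this, Subgroup.coe_mul, Equiv.Perm.mul_apply, f_a, F_50]; revert x; decide
theorem F_57 (x : Fin 5) : ((f r57 : alternatingGroup (Fin 5)) : Equiv.Perm (Fin 5)) x = V 57 x := by
  have : f r57 = f r51 * f b := map_mul f r51 b
  rw [this, Subgroup.coe_mul, Equiv.Perm.mul_apply, f_b, F_51]; revert x; decide
theorem F_58 (x : Fin 5) : ((f r58 : alternatingGroup (Fin 5)) : Equiv.Perm (Fin 5)) x = V 58 x := by
  have : f r58 = f r52 * f b := map_mul f r52 b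
  rw [this, Subgroup.coe_mul, Equiv.Perm.mul_apply, f_b, F_52]; revert x; decide
theorem F_59 (x : Fin 5) : ((f r59 : alternatingGroup (Fin 5)) : Equiv.Perm (Fin 5)) x = V 59 x := by
  have : f r59 = f r56 * f b := map_mul f r56 b
  rw [this, Subgroup.coe_mul, Equiv.Perm.mul_apply, f_b, F_56]; revert x; decide

theorem F (i : Fin 60) (x : Fin 5) : ((f (R i) : alternatingGroup (Fin 5)) : Equiv.Perm (Fin 5)) x = V i x := by
  fin_cases i
  · exact F_0 x
  · exact F_1 x
  · exact F_2 x
  · exact F_3 x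
  · exact F_4 x
  · exact F_5 x
  · exact F_6 x
  · exact F_7 x
  · exact F_8 x
  · exact F_9 x
  · exact F_10 x
  · exact F_11 x
  · exact F_12 x
  · exact F_13 x
  · exact F_14 x
  · exact F_15 x
  · exact F_16 x
  · exact F_17 x
  · exact F_18 x
  · exact F_19 x
  · exact F_20 x
  · exact F_21 x
  · exact F_22 x
  · exact F_23 x
  · exact F_24 x
  · exact F_25 x
  · exact F_26 x
  · exact F_27 x
  · exact F_28 x
  · exact F_29 x
  · exact F_30 x
  · exact F_31 x
  · exact F_32 x
  · exact F_33 x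
  · exact F_34 x
  · exact F_35 x
  · exact F_36 x
  · exact F_37 x
  · exact F_38 x
  · exact F_39 x
  · exact F_40 x
  · exact F_41 x
  · exact F_42 x
  · exact F_43 x
  · exact F_44 x
  · exact F_45 x
  · exact F_46 x
  · exact F_47 x
  · exact F_48 x
  · exact F_49 x
  · exact F_50 x
  · exact F_51 x
  · exact F_52 x
  · exact F_53 x
  · exact F_54 x
  · exact F_55 x
  · exact F_56 x
  · exact F_57 x
  · exact F_58 x
  · exact F_59 x

set_option maxRecDepth 1000000 in
theorem V_inj : Function.Injective V := by decide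

theorem fR_inj : Function.Injective (fun i => f (R i)) := by
  intro i j h
  apply V_inj
  funext x
  rw [← F i x, ← F j x]
  simp only at h
  rw [h]

theorem f_inj : Function.Injective f := by
  intro x y h
  obtain ⟨i, rfl⟩ := R_surjective x
  obtain ⟨j, rfl⟩ := R_surjective y
  rw [fR_inj h]

theorem f_bij : Function.Bijective f := by
  refine ⟨f_inj, ?_⟩
  have hb : Function.Bijective (fun i => f (R i)) := by
    apply Function.Injective.bijective_of_nat_card_le fR_inj
    rw [nat_card_alternatingGroup]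
    simp [Nat.factorial]
  intro y
  obtain ⟨i, hi⟩ := hb.2 y
  exact ⟨R i, hi⟩

end helpers

/-- The alternating group of degree 5 has the presentation ⟨x, y | x³ = 1, y⁵ = 1, (xy)² = 1⟩: the group so presented is isomorphic to Alt(5). -/
theorem result :
    Nonempty (PresentedGroup ({FreeGroup.of (0 : Fin 2) ^ 3, FreeGroup.of (1 : Fin 2) ^ 5,
        (FreeGroup.of (0 : Fin 2) * FreeGroup.of 1) ^ 2} : Set (FreeGroup (Fin 2))) ≃* alternatingGroup (Fin 5)) := by
  exact ⟨MulEquiv.ofBijective f f_bij⟩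

end Cfsg.Agent.S3377
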