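import Mathlib
import Cfsg.Agent.Lib.Helper1.SL2Sylow
import Cfsg.Agent.S3377
import Cfsg.Agent.S0494
import Cfsg.Agent.S0144
import Cfsg.Agent.S0071
import Cfsg.Statements.S3378

set_option autoImplicit false
open Cfsg

namespace Cfsg.Agent.S3378

section helpers

section part2

open Matrix

/-- the relators of the presentation of `SL₂(5)` -/
def rels3 : Set (FreeGroup (Fin 3)) :=
  {FreeGroup.of (0 : Fin 3) ^ 3, FreeGroup.of (1 : Fin 3) ^ 5, FreeGroup.of (2 : Fin 3) ^ 2,
    (FreeGroup.of (2 : Fin 3))⁻¹ * FreeGroup.of 0 * FreeGroup.of 2 * (FreeGroup.of (0 : Fin 3))⁻¹,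
    (FreeGroup.of (2 : Fin 3))⁻¹ * FreeGroup.of 1 * FreeGroup.of 2 * (FreeGroup.of (1 : Fin 3))⁻¹,
    (FreeGroup.of (0 : Fin 3) * FreeGroup.of 1) ^ 2 * (FreeGroup.of (2 : Fin 3))⁻¹}

abbrev P3 : Type := PresentedGroup rels3

noncomputable def px : P3 := PresentedGroup.of 0
noncomputable def py : P3 := PresentedGroup.of 1
noncomputable def pz : P3 := PresentedGroup.of 2

theorem px_cube : px ^ 3 = 1 := by
  show PresentedGroup.mk rels3 (FreeGroup.of 0) ^ 3 = 1
  rw [← map_pow]
  apply PresentedGroup.one_of_mem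
  simp [rels3]

theorem py_pow : py ^ 5 = 1 := by
  show PresentedGroup.mk rels3 (FreeGroup.of 1) ^ 5 = 1
  rw [← map_pow]
  apply PresentedGroup.one_of_mem
  simp [rels3]

theorem pz_sq : pz ^ 2 = 1 := by
  show PresentedGroup.mk rels3 (FreeGroup.of 2) ^ 2 = 1
  rw [← map_pow]
  apply PresentedGroup.one_of_mem
  simp [rels3]

theorem pz_px : pz⁻¹ * px * pz * px⁻¹ = 1 := by
  show (PresentedGroup.mk rels3 (FreeGroup.of 2))⁻¹ * PresentedGroup.mk rels3 (FreeGroup.of 0) *
    PresentedGroup.mk rels3 (FreeGroup.of 2) * (PresentedGroup.mk rels3 (FreeGroup.of 0))⁻¹ = 1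
  rw [← map_inv, ← map_inv, ← map_mul, ← map_mul, ← map_mul]
  apply PresentedGroup.one_of_mem
  simp [rels3]

theorem pz_py : pz⁻¹ * py * pz * py⁻¹ = 1 := by
  show (PresentedGroup.mk rels3 (FreeGroup.of 2))⁻¹ * PresentedGroup.mk rels3 (FreeGroup.of 1) *
    PresentedGroup.mk rels3 (FreeGroup.of 2) * (PresentedGroup.mk rels3 (FreeGroup.of 1))⁻¹ = 1
  rw [← map_inv, ← map_inv, ← map_mul, ← map_mul, ← map_mul]
  apply PresentedGroup.one_of_mem
  simp [rels3]

theorem pxy_sq : (px * py) ^ 2 * pz⁻¹ = 1 := by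
  show (PresentedGroup.mk rels3 (FreeGroup.of 0) * PresentedGroup.mk rels3 (FreeGroup.of 1)) ^ 2 *
    (PresentedGroup.mk rels3 (FreeGroup.of 2))⁻¹ = 1
  rw [← map_inv, ← map_mul, ← map_pow, ← map_mul]
  apply PresentedGroup.one_of_mem
  simp [rels3]

theorem lift3 {H : Type*} [Group H] (X Y Z : H) (h1 : X ^ 3 = 1) (h2 : Y ^ 5 = 1)
    (h3 : Z ^ 2 = 1) (h4 : Z⁻¹ * X * Z * X⁻¹ = 1) (h5 : Z⁻¹ * Y * Z * Y⁻¹ = 1)
    (h6 : (X * Y) ^ 2 * Z⁻¹ = 1) : ∃ f : P3 →* H, f px = X ∧ f py = Y ∧ f pz = Z := by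
  have h : ∀ r ∈ rels3, FreeGroup.lift ![X, Y, Z] r = 1 := by
    rintro r (rfl | rfl | rfl | rfl | rfl | rfl)
    · simpa using h1
    · simpa using h2
    · simpa using h3
    · simpa using h4
    · simpa using h5
    · simpa using h6
  refine ⟨PresentedGroup.toGroup h, ?_, ?_, ?_⟩
  · show PresentedGroup.toGroup h (PresentedGroup.of 0) = X
    rw [PresentedGroup.toGroup.of]; rfl
  · show PresentedGroup.toGroup h (PresentedGroup.of 1) = Y
    rw [PresentedGroup.toGroup.of]; rfl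
  · show PresentedGroup.toGroup h (PresentedGroup.of 2) = Z
    rw [PresentedGroup.toGroup.of]; rfl

theorem P3_gen : Subgroup.closure ({px, py, pz} : Set P3) = ⊤ := by
  rw [← PresentedGroup.closure_range_of rels3]
  congr 1
  ext g
  constructor
  · rintro (rfl | rfl | rfl)
    · exact ⟨0, rfl⟩
    · exact ⟨1, rfl⟩
    · exact ⟨2, rfl⟩
  · rintro ⟨i, rfl⟩
    fin_cases i
    · exact Or.inl rfl
    · exact Or.inr (Or.inl rfl)
    · exact Or.inr (Or.inr rfl)

theorem surj3 {H : Type*} [Group H] (f : P3 →* H)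
    (h : Subgroup.closure ({f px, f py, f pz} : Set H) = ⊤) : Function.Surjective f := by
  rw [← MonoidHom.range_eq_top, MonoidHom.range_eq_map, ← P3_gen, MonoidHom.map_closure]
  rw [← h]
  congr 1
  ext g
  simp [Set.image_insert_eq]


/-! ### Part 2 : the presented group is `SL₂(5)` -/

open Cfsg.Agent.Lib.Helper1 in
def Xm : SpecialLinearGroup (Fin 2) (ZMod 5) := ⟨!![0, -1; 1, -1], by decide⟩
def Ym : SpecialLinearGroup (Fin 2) (ZMod 5) := ⟨!![1, 1; 0, 1], by decide⟩
def Zm : SpecialLinearGroup (Fin 2) (ZMod 5) := ⟨!![-1, 0; 0, -1], by decide⟩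

theorem exists_hom_SL : ∃ f : P3 →* SpecialLinearGroup (Fin 2) (ZMod 5),
    f px = Xm ∧ f py = Ym ∧ f pz = Zm := by
  apply lift3 <;> decide

theorem Ym_pow_val : ∀ t : ZMod 5,
    (!![1, t; 0, 1] : Matrix (Fin 2) (Fin 2) (ZMod 5)) = (Ym ^ t.val).1 := by decide

open Cfsg.Agent.Lib.Helper1 in
theorem t01_eq_pow [Fact (Nat.Prime 5)] (t : ZMod 5) : t01 t = Ym ^ t.val := by
  apply Subtype.ext
  rw [t01_val]
  exact Ym_pow_val t

theorem Xm_10 : Xm 1 0 ≠ 0 := by decide

open Cfsg.Agent.Lib.Helper1 in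
theorem surj_SL (f : P3 →* SpecialLinearGroup (Fin 2) (ZMod 5))
    (hx : f px = Xm) (hy : f py = Ym) : Function.Surjective f := by
  haveI : Fact (Nat.Prime 5) := ⟨by norm_num⟩
  rw [← MonoidHom.range_eq_top, eq_top_iff]
  have hu : uSL (ZMod 5) ≤ f.range := by
    intro g hg
    obtain ⟨t, rfl⟩ := (mem_uSL_iff g).1 hg
    rw [t01_eq_pow, ← hy, ← map_pow]
    exact ⟨_, rfl⟩
  have hc : cj Xm (uSL (ZMod 5)) ≤ f.range := by
    intro g hg
    rw [mem_cj] at hg
    have h1 := hu hg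
    have hX : Xm ∈ f.range := ⟨px, hx⟩
    have : g = Xm * (Xm⁻¹ * g * Xm) * Xm⁻¹ := by group
    rw [this]
    exact f.range.mul_mem (f.range.mul_mem hX h1) (f.range.inv_mem hX)
  rw [← uSL_sup_cj_eq_top Xm Xm_10]
  exact sup_le hu hc


theorem pz_comm (g : P3) : pz * g = g * pz := by
  have h : (⊤ : Subgroup P3) ≤ Subgroup.centralizer {pz} := by
    rw [← P3_gen, Subgroup.closure_le]
    rintro g (rfl | rfl | rfl)
    · rw [SetLike.mem_coe, Subgroup.mem_centralizer_singleton_iff]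
      have h := pz_px
      have h2 : pz⁻¹ * px * pz = px := by
        have := congrArg (· * px) h
        simpa using this
      calc px * pz = pz * (pz⁻¹ * px * pz) := by group
        _ = pz * px := by rw [h2]
    · rw [SetLike.mem_coe, Subgroup.mem_centralizer_singleton_iff]
      have h := pz_py
      have h2 : pz⁻¹ * py * pz = py := by
        have := congrArg (· * py) h
        simpa using this
      calc py * pz = pz * (pz⁻¹ * py * pz) := by group
        _ = pz * py := by rw [h2]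
    · rw [SetLike.mem_coe, Subgroup.mem_centralizer_singleton_iff]
  exact (Subgroup.mem_centralizer_singleton_iff.1 (h (Subgroup.mem_top g))).symm

/-- the central subgroup generated by `z` -/
noncomputable def Zs : Subgroup P3 := Subgroup.zpowers pz

instance Zs_normal : Zs.Normal := by
  refine ⟨fun n hn g => ?_⟩
  have : g * n * g⁻¹ = n := by
    obtain ⟨k, rfl⟩ := Subgroup.mem_zpowers_iff.1 hn
    have hc : Commute pz g := pz_comm g
    have := (hc.zpow_left k).eq
    rw [← this]; group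
  rw [this]; exact hn

theorem pz_mem : pz ∈ Zs := Subgroup.mem_zpowers pz

theorem card_Zs : Nat.card Zs ≤ 2 := by
  unfold Zs
  rw [Nat.card_zpowers]
  exact Nat.le_of_dvd (by norm_num) (orderOf_dvd_of_pow_eq_one pz_sq)

theorem pxy_eq : (px * py) ^ 2 = pz := by
  have h := pxy_sq
  have := congrArg (· * pz) h
  simpa using this

theorem exists_hom_quot : ∃ f : Cfsg.Agent.S3377.P →* P3 ⧸ Zs, Function.Surjective f := by
  have h : ∀ r ∈ Cfsg.Agent.S3377.rels,
      FreeGroup.lift ![(QuotientGroup.mk px : P3 ⧸ Zs), QuotientGroup.mk py] r = 1 := by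
    rintro r (rfl | rfl | rfl)
    · simp only [map_pow, FreeGroup.lift_apply_of, Matrix.cons_val_zero]
      rw [← QuotientGroup.mk_pow, px_cube]; rfl
    · simp only [map_pow, FreeGroup.lift_apply_of, Matrix.cons_val_one, Matrix.cons_val_zero]
      rw [← QuotientGroup.mk_pow, py_pow]; rfl
    · simp only [map_pow, map_mul, FreeGroup.lift_apply_of, Matrix.cons_val_one,
        Matrix.cons_val_zero]
      rw [← QuotientGroup.mk_mul, ← QuotientGroup.mk_pow, pxy_eq]
      exact (QuotientGroup.eq_one_iff _).2 pz_mem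
  refine ⟨PresentedGroup.toGroup h, ?_⟩
  rw [← MonoidHom.range_eq_top, eq_top_iff]
  have h1 : (⊤ : Subgroup (P3 ⧸ Zs)) = Subgroup.map (QuotientGroup.mk' Zs) ⊤ := by
    rw [← MonoidHom.range_eq_map, eq_comm, MonoidHom.range_eq_top]
    exact QuotientGroup.mk'_surjective Zs
  rw [h1, ← P3_gen, MonoidHom.map_closure, Subgroup.closure_le]
  rintro _ ⟨g, (rfl | rfl | rfl), rfl⟩
  · refine ⟨PresentedGroup.of 0, ?_⟩
    rw [PresentedGroup.toGroup.of]; rfl
  · refine ⟨PresentedGroup.of 1, ?_⟩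
    rw [PresentedGroup.toGroup.of]; rfl
  · refine ⟨1, ?_⟩
    rw [map_one]
    exact ((QuotientGroup.eq_one_iff _).2 pz_mem).symm

theorem finite_P : Finite Cfsg.Agent.S3377.P :=
  Finite.of_injective _ Cfsg.Agent.S3377.f_bij.1

theorem card_P : Nat.card Cfsg.Agent.S3377.P = 60 := by
  rw [Nat.card_congr (Equiv.ofBijective _ Cfsg.Agent.S3377.f_bij), nat_card_alternatingGroup]
  simp [Nat.factorial]

theorem card_P3_le : Finite P3 ∧ Nat.card P3 ≤ 120 := by
  obtain ⟨f, hf⟩ := exists_hom_quot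
  haveI := finite_P
  haveI : Finite (P3 ⧸ Zs) := Finite.of_surjective _ hf
  have hq : Nat.card (P3 ⧸ Zs) ≤ 60 := by
    rw [← card_P]; exact Nat.card_le_card_of_surjective _ hf
  have hz : Finite Zs := by
    apply Nat.finite_of_card_ne_zero
    unfold Zs
    rw [Nat.card_zpowers]
    exact (Nat.pos_of_dvd_of_pos (orderOf_dvd_of_pow_eq_one pz_sq) (by norm_num)).ne'
  have hcard := Subgroup.card_eq_card_quotient_mul_card_subgroup Zs
  have hfin : Finite P3 := by
    apply Nat.finite_of_card_ne_zero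
    rw [hcard]
    exact Nat.mul_ne_zero Nat.card_pos.ne' Nat.card_pos.ne'
  refine ⟨hfin, ?_⟩
  rw [hcard]
  calc Nat.card (P3 ⧸ Zs) * Nat.card Zs ≤ 60 * 2 := Nat.mul_le_mul hq card_Zs
    _ = 120 := by norm_num

theorem P3_equiv : Nonempty (P3 ≃* SpecialLinearGroup (Fin 2) (ZMod 5)) := by
  obtain ⟨f, hx, hy, -⟩ := exists_hom_SL
  obtain ⟨hfin, hle⟩ := card_P3_le
  haveI : Fact (Nat.Prime 5) := ⟨by norm_num⟩
  have hc : Nat.card (SpecialLinearGroup (Fin 2) (ZMod 5)) = 120 := by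
    rw [Cfsg.Agent.Lib.Helper1.card_SL2, ZMod.card]; norm_num
  have hb : Function.Bijective f :=
    (surj_SL f hx hy).bijective_of_nat_card_le (by rw [hc]; exact hle)
  exact ⟨MulEquiv.ofBijective f hb⟩


end part2

/-! ### Part 1 : recognition -/

section part1

variable {G : Type*} [Group G]

/-- unique involution in every Sylow 2-subgroup -/
def UI2 (G : Type*) [Group G] : Prop :=
  ∀ P : Sylow 2 G, ∀ x ∈ (P : Subgroup G), ∀ y ∈ (P : Subgroup G),
    x ^ 2 = 1 → x ≠ 1 → y ^ 2 = 1 → y ≠ 1 → x = y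

theorem Q8_inv : ∀ x y : QuaternionGroup 2, x ^ 2 = 1 → x ≠ 1 → y ^ 2 = 1 → y ≠ 1 → x = y := by
  decide

theorem UI2_of_Q8 (hQ : ∀ P : Sylow 2 G, Nonempty ((P : Subgroup G) ≃* QuaternionGroup 2)) :
    UI2 G := by
  intro P x hx y hy hx2 hx1 hy2 hy1
  obtain ⟨e⟩ := hQ P
  have h := Q8_inv (e ⟨x, hx⟩) (e ⟨y, hy⟩)
    (by rw [← map_pow]; rw [show (⟨x, hx⟩ : (P : Subgroup G)) ^ 2 = 1 from Subtype.ext hx2, map_one])
    (by
      intro h
      apply hx1
      have := e.injective (h.trans (map_one e).symm)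
      exact congrArg Subtype.val this)
    (by rw [← map_pow]; rw [show (⟨y, hy⟩ : (P : Subgroup G)) ^ 2 = 1 from Subtype.ext hy2, map_one])
    (by
      intro h
      apply hy1
      have := e.injective (h.trans (map_one e).symm)
      exact congrArg Subtype.val this)
  exact congrArg Subtype.val (e.injective h)

theorem isPGroup_zpowers_of_sq {x : G} (hx2 : x ^ 2 = 1) : IsPGroup 2 (Subgroup.zpowers x) := by
  intro g
  obtain ⟨k, hk⟩ := Subgroup.mem_zpowers_iff.1 g.2
  refine ⟨1, Subtype.ext ?_⟩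
  simp only [pow_one, Subgroup.coe_pow, Subgroup.coe_one]
  rw [← hk, ← zpow_natCast, ← zpow_mul, mul_comm, zpow_mul, zpow_natCast, hx2, one_zpow]

theorem UI2.comm_eq [Finite G] (h : UI2 G) {x y : G} (hx2 : x ^ 2 = 1) (hx1 : x ≠ 1)
    (hy2 : y ^ 2 = 1) (hy1 : y ≠ 1) (hc : x * y = y * x) : x = y := by
  haveI : Fact (Nat.Prime 2) := ⟨Nat.prime_two⟩
  have hp : IsPGroup 2 (Subgroup.zpowers y ⊔ Subgroup.zpowers x : Subgroup G) := by
    apply IsPGroup.to_sup_of_normal_right' (isPGroup_zpowers_of_sq hy2) (isPGroup_zpowers_of_sq hx2)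
    rw [Subgroup.zpowers_le, Subgroup.mem_normalizer_iff]
    intro g
    have key : ∀ g ∈ Subgroup.zpowers x, y * g * y⁻¹ = g := by
      intro g hg
      obtain ⟨k, rfl⟩ := Subgroup.mem_zpowers_iff.1 hg
      have hc' : Commute y x := hc.symm
      have := (hc'.zpow_right k).eq
      rw [this]; group
    constructor
    · intro hg
      rw [key g hg]; exact hg
    · intro hg
      have := key _ hg
      have h2 : g = y⁻¹ * (y * g * y⁻¹) * y := by group
      rw [h2]
      have h3 : y⁻¹ * (y * g * y⁻¹) * y = y * (y * g * y⁻¹) * y⁻¹ := by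
        have : y⁻¹ = y := by
          rw [inv_eq_iff_mul_eq_one, ← pow_two, hy2]
        rw [this]
      rw [h3, this]; exact hg
  obtain ⟨P, hP⟩ := hp.exists_le_sylow
  exact h P x (hP (Subgroup.mem_sup_right (Subgroup.mem_zpowers x))) y
    (hP (Subgroup.mem_sup_left (Subgroup.mem_zpowers y))) hx2 hx1 hy2 hy1


variable [Finite G]

theorem card_sylow2 (hcard : Nat.card G = 120) (S : Sylow 2 G) : Nat.card S = 8 := by
  haveI : Fact (Nat.Prime 2) := ⟨Nat.prime_two⟩
  obtain ⟨k, hk⟩ := IsPGroup.iff_card.1 S.2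
  have h1 : Nat.card S ∣ 120 := hcard ▸ Subgroup.card_subgroup_dvd_card _
  have h2 := S.not_dvd_index
  have h3 : Nat.card S * (S : Subgroup G).index = 120 := by
    rw [← hcard]; exact Subgroup.card_mul_index _
  rw [hk] at h1 h3 ⊢
  have hk7 : k < 7 := by
    by_contra h
    have : 2 ^ 7 ∣ 2 ^ k := pow_dvd_pow 2 (by omega)
    have := Nat.le_of_dvd (by norm_num) (this.trans h1)
    omega
  interval_cases k <;> omega

theorem exists_invol_of_even (H : Subgroup G) (h2 : 2 ∣ Nat.card H) :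
    ∃ u ∈ H, u ^ 2 = 1 ∧ u ≠ 1 := by
  haveI : Fact (Nat.Prime 2) := ⟨Nat.prime_two⟩
  obtain ⟨t, ht⟩ := exists_prime_orderOf_dvd_card' (G := H) 2 h2
  refine ⟨t.1, t.2, ?_, ?_⟩
  · have := pow_orderOf_eq_one t
    rw [ht] at this
    exact congrArg Subtype.val this
  · intro h
    have : t = 1 := Subtype.ext h
    rw [this, orderOf_one] at ht
    omega

/-- `t` is an involution of the Sylow `2`-subgroup `S` -/
structure Inv (S : Sylow 2 G) (t : G) : Prop where
  mem : t ∈ (S : Subgroup G)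
  sq : t ^ 2 = 1
  ne : t ≠ 1

theorem exists_Inv (hcard : Nat.card G = 120) (S : Sylow 2 G) : ∃ t, Inv S t := by
  obtain ⟨t, h1, h2, h3⟩ := exists_invol_of_even (S : Subgroup G)
    (by rw [card_sylow2 hcard S]; norm_num)
  exact ⟨t, h1, h2, h3⟩

omit [Finite G] in
theorem conj_sq {t : G} (ht : t ^ 2 = 1) (g : G) : (g * t * g⁻¹) ^ 2 = 1 := by
  rw [conj_pow, ht]; group

omit [Finite G] in
theorem conj_ne {t : G} (ht : t ≠ 1) (g : G) : g * t * g⁻¹ ≠ 1 := by
  intro h
  apply ht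
  have : t = g⁻¹ * (g * t * g⁻¹) * g := by group
  rw [this, h]; group

omit [Finite G] in
theorem UI2.conj_eq (h : UI2 G) {S : Sylow 2 G} {t : G} (ht : Inv S t) {g : G}
    (hg : g * t * g⁻¹ ∈ (S : Subgroup G)) : g * t * g⁻¹ = t :=
  h S _ hg t ht.mem (conj_sq ht.sq g) (conj_ne ht.ne g) ht.sq ht.ne

omit [Finite G] in
theorem UI2.sylow_le_centralizer (h : UI2 G) {S : Sylow 2 G} {t : G} (ht : Inv S t) :
    (S : Subgroup G) ≤ Subgroup.centralizer {t} := by
  intro q hq
  rw [Subgroup.mem_centralizer_singleton_iff]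
  have := h.conj_eq ht (g := q)
    ((S : Subgroup G).mul_mem ((S : Subgroup G).mul_mem hq ht.mem) ((S : Subgroup G).inv_mem hq))
  calc q * t = q * t * q⁻¹ * q := by group
    _ = t * q := by rw [this]

theorem UI2.conj_invol (h : UI2 G) {S : Sylow 2 G} {t : G} (ht : Inv S t) {u : G}
    (hu2 : u ^ 2 = 1) (hu1 : u ≠ 1) : ∃ g : G, g * u * g⁻¹ = t := by
  haveI : Fact (Nat.Prime 2) := ⟨Nat.prime_two⟩
  obtain ⟨P, hP⟩ := (isPGroup_zpowers_of_sq hu2).exists_le_sylow
  obtain ⟨g, rfl⟩ := MulAction.exists_smul_eq G P S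
  refine ⟨g, ?_⟩
  have hu : u ∈ (P : Subgroup G) := hP (Subgroup.mem_zpowers u)
  have hmem : g * u * g⁻¹ ∈ ((g • P : Sylow 2 G) : Subgroup G) := by
    rw [Sylow.coe_subgroup_smul, Subgroup.mem_pointwise_smul_iff_inv_smul_mem]
    have : (MulAut.conj g)⁻¹ • (g * u * g⁻¹) = u := by
      rw [MulAut.smul_def, MulAut.conj_inv_apply]; group
    rw [this]; exact hu
  exact h _ _ hmem t ht.mem (conj_sq hu2 g) (conj_ne hu1 g) ht.sq ht.ne

theorem UI2.central_of_normal_even (h : UI2 G) {S : Sylow 2 G} {t : G} (ht : Inv S t)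
    (N : Subgroup G) [hn : N.Normal] (hN : N ≤ Subgroup.centralizer {t}) (h2 : 2 ∣ Nat.card N) :
    ∀ g : G, g * t * g⁻¹ = t := by
  obtain ⟨u, huN, hu2, hu1⟩ := exists_invol_of_even N h2
  obtain ⟨g, hg⟩ := h.conj_invol ht hu2 hu1
  have htN : t ∈ N := by rw [← hg]; exact hn.conj_mem u huN g
  intro k
  have hk : k * t * k⁻¹ ∈ Subgroup.centralizer {t} := hN (hn.conj_mem t htN k)
  rw [Subgroup.mem_centralizer_singleton_iff] at hk
  exact h.comm_eq (conj_sq ht.sq k) (conj_ne ht.ne k) ht.sq ht.ne hk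


theorem UI2.no_S5 (h : UI2 G) (φ : G ≃* Equiv.Perm (Fin 5)) : False := by
  have h1 : (Equiv.swap (0 : Fin 5) 1) ^ 2 = 1 := by decide
  have h2 : (Equiv.swap (2 : Fin 5) 3) ^ 2 = 1 := by decide
  have h3 : (Equiv.swap (0 : Fin 5) 1) ≠ 1 := by decide
  have h4 : (Equiv.swap (2 : Fin 5) 3) ≠ 1 := by decide
  have h5 : (Equiv.swap (0 : Fin 5) 1) * Equiv.swap 2 3 = Equiv.swap 2 3 * Equiv.swap 0 1 := by
    decide
  have h6 : (Equiv.swap (0 : Fin 5) 1) ≠ Equiv.swap 2 3 := by decide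
  apply h6
  have := h.comm_eq (x := φ.symm (Equiv.swap 0 1)) (y := φ.symm (Equiv.swap 2 3))
    (by rw [← map_pow, h1, map_one])
    (by
      intro hh
      apply h3
      exact φ.symm.injective (hh.trans (map_one φ.symm).symm))
    (by rw [← map_pow, h2, map_one])
    (by
      intro hh
      apply h4
      exact φ.symm.injective (hh.trans (map_one φ.symm).symm))
    (by rw [← map_mul, ← map_mul, h5])
  exact φ.symm.injective this

omit [Finite G] in
theorem solvable_of_normal (N : Subgroup G) [N.Normal] (h1 : Group.IsSolvable N)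
    (h2 : Group.IsSolvable (G ⧸ N)) : Group.IsSolvable G :=
  Group.isSolvable_of_ker_le_range N.subtype (QuotientGroup.mk' N) (by simp)

omit [Finite G] in
theorem card_quot (N : Subgroup G) [N.Normal] : Nat.card N * Nat.card (G ⧸ N) = Nat.card G := by
  rw [← Subgroup.index_eq_card]; exact N.card_mul_index


theorem UI2.solvable_of_centralizer_eq (h : UI2 G) (hcard : Nat.card G = 120) {S : Sylow 2 G}
    {t : G} (ht : Inv S t) (hC : Subgroup.centralizer {t} = (S : Subgroup G)) :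
    Group.IsSolvable G := by
  haveI : Fact (Nat.Prime 2) := ⟨Nat.prime_two⟩
  have h8 := card_sylow2 hcard S
  have key : ∀ Q : Subgroup G, Q ≤ (S : Subgroup G) →
      ∀ g ∈ Subgroup.normalizer (Q : Set G), Nat.Coprime (orderOf g) 2 →
      g ∈ Subgroup.centralizer (Q : Set G) := by
    intro Q hQ g hg hco
    by_cases hQb : Q = ⊥
    · subst hQb
      rw [Subgroup.mem_centralizer_iff]
      intro x hx
      have : x = 1 := by simpa using hx
      rw [this]; simp
    · have hQp : IsPGroup 2 Q := S.2.to_le hQ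
      obtain ⟨k, hk⟩ := IsPGroup.iff_card.1 hQp
      have hk0 : k ≠ 0 := by
        rintro rfl
        rw [pow_zero] at hk
        exact hQb (Subgroup.card_eq_one.1 hk)
      have h2 : 2 ∣ Nat.card Q := by rw [hk]; exact dvd_pow_self 2 hk0
      obtain ⟨u, huQ, hu2, hu1⟩ := exists_invol_of_even Q h2
      have hut : u = t := h S u (hQ huQ) t ht.mem hu2 hu1 ht.sq ht.ne
      subst hut
      have hgt : g * u * g⁻¹ ∈ Q := (Subgroup.mem_normalizer_iff.1 hg u).1 huQ
      have hgu := h.conj_eq ht (hQ hgt)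
      have hgC : g ∈ Subgroup.centralizer {u} := by
        rw [Subgroup.mem_centralizer_singleton_iff]
        calc g * u = g * u * g⁻¹ * g := by group
          _ = u * g := by rw [hgu]
      rw [hC] at hgC
      have ho : orderOf g ∣ 2 ^ 3 := by
        have := orderOf_dvd_natCard (⟨g, hgC⟩ : (S : Subgroup G))
        rw [h8] at this
        rwa [Subgroup.orderOf_mk] at this
      have h1 : orderOf g = 1 := Nat.Coprime.eq_one_of_dvd (hco.pow_right 3) ho
      rw [orderOf_eq_one_iff] at h1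
      rw [h1]; exact Subgroup.one_mem _
  obtain ⟨N, hNn, hNc⟩ := (Cfsg.Agent.S0071.result S).2 key
  haveI := hNn
  have hcN : Nat.card N * Nat.card S = Nat.card G := hNc.card_mul_card
  have hN15 : Nat.card N = 15 := by rw [h8, hcard] at hcN; omega
  have hq : Nat.card (G ⧸ N) = 8 := by
    have := card_quot N; rw [hN15, hcard] at this; omega
  exact solvable_of_normal N
    (Cfsg.Agent.S0144.result 3 5 1 1 (by norm_num) (by norm_num) (by rw [hN15]; norm_num))
    (Cfsg.Agent.S0144.result 2 3 3 0 (by norm_num) (by norm_num) (by rw [hq]; norm_num))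

theorem index_normalCore_dvd (C : Subgroup G) : C.normalCore.index ∣ (C.index).factorial := by
  rw [Subgroup.normalCore_eq_ker]
  have := Subgroup.card_dvd_of_injective _
    (QuotientGroup.kerLift_injective (MulAction.toPermHom G (G ⧸ C)))
  rwa [Nat.card_perm, ← Subgroup.index_eq_card, ← Subgroup.index_eq_card] at this

theorem case3 (hcard : Nat.card G = 120) (C : Subgroup G) (hCi : C.index = 3) :
    2 ∣ Nat.card C.normalCore := by
  have h1 := index_normalCore_dvd C
  rw [hCi] at h1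
  have h2 : Nat.card C.normalCore * C.normalCore.index = 120 := hcard ▸ Subgroup.card_mul_index _
  have h3 : C.normalCore.index ∣ 6 := by simpa [Nat.factorial] using h1
  have h4 : C.normalCore.index ≤ 6 := Nat.le_of_dvd (by norm_num) h3
  generalize C.normalCore.index = j at *
  interval_cases j <;> omega

theorem UI2.case5 (h : UI2 G) (hcard : Nat.card G = 120) (C : Subgroup G) (hCi : C.index = 5)
    (hKodd : ¬ 2 ∣ Nat.card C.normalCore) : Group.IsSolvable G := by
  have hC24 : Nat.card C = 24 := by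
    have := C.card_mul_index; rw [hCi, hcard] at this; omega
  have h1 : Nat.card C.normalCore ∣ 24 := hC24 ▸ Subgroup.card_dvd_of_le (Subgroup.normalCore_le C)
  have h2 : Nat.card C.normalCore ≤ 24 := Nat.le_of_dvd (by norm_num) h1
  have h3 : Nat.card C.normalCore = 1 ∨ Nat.card C.normalCore = 3 := by
    generalize Nat.card C.normalCore = j at *
    interval_cases j <;> omega
  rcases h3 with h3 | h3
  · exfalso
    have hK : C.normalCore = ⊥ := Subgroup.card_eq_one.1 h3
    rw [Subgroup.normalCore_eq_ker] at hK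
    have hinj : Function.Injective (MulAction.toPermHom G (G ⧸ C)) :=
      (MonoidHom.ker_eq_bot_iff _).1 hK
    have h5 : Nat.card (G ⧸ C) = 5 := by rw [← Subgroup.index_eq_card]; exact hCi
    have hbij : Function.Bijective (MulAction.toPermHom G (G ⧸ C)) := by
      apply hinj.bijective_of_nat_card_le
      rw [Nat.card_perm, h5, hcard]; decide
    have e : (G ⧸ C) ≃ Fin 5 := Finite.equivFinOfCardEq h5
    exact h.no_S5 ((MulEquiv.ofBijective _ hbij).trans e.permCongrHom)
  · have hq : Nat.card (G ⧸ C.normalCore) = 40 := by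
      have := card_quot C.normalCore; rw [h3, hcard] at this; omega
    exact solvable_of_normal C.normalCore
      (Cfsg.Agent.S0144.result 3 2 1 0 (by norm_num) (by norm_num) (by rw [h3]; norm_num))
      (Cfsg.Agent.S0144.result 2 5 3 1 (by norm_num) (by norm_num) (by rw [hq]; norm_num))

theorem UI2.central (h : UI2 G) (hcard : Nat.card G = 120) (hns : ¬ Group.IsSolvable G)
    {S : Sylow 2 G} {t : G} (ht : Inv S t) : ∀ g : G, g * t * g⁻¹ = t := by
  haveI : Fact (Nat.Prime 2) := ⟨Nat.prime_two⟩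
  by_contra hcon
  have hSC : (S : Subgroup G) ≤ Subgroup.centralizer {t} := h.sylow_le_centralizer ht
  have h8 : Nat.card S = 8 := card_sylow2 hcard S
  have hC8 : 8 ∣ Nat.card (Subgroup.centralizer ({t} : Set G)) :=
    h8 ▸ Subgroup.card_dvd_of_le hSC
  have hCi : Nat.card (Subgroup.centralizer ({t} : Set G)) *
      (Subgroup.centralizer ({t} : Set G)).index = 120 := hcard ▸ Subgroup.card_mul_index _
  have hCne : Subgroup.centralizer ({t} : Set G) ≠ ⊤ := by
    intro htop
    apply hcon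
    intro g
    have : g ∈ Subgroup.centralizer ({t} : Set G) := htop ▸ Subgroup.mem_top g
    rw [Subgroup.mem_centralizer_singleton_iff] at this
    rw [this]; group
  have hi1 : (Subgroup.centralizer ({t} : Set G)).index ≠ 1 :=
    fun h1 => hCne (Subgroup.index_eq_one.1 h1)
  have hKodd : ¬ 2 ∣ Nat.card (Subgroup.centralizer ({t} : Set G)).normalCore :=
    fun h2 => hcon (h.central_of_normal_even ht _ (Subgroup.normalCore_le _) h2)
  obtain ⟨c, hc⟩ := hC8
  rw [hc] at hCi
  have hci : c * (Subgroup.centralizer ({t} : Set G)).index = 15 := by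
    have : 8 * (c * (Subgroup.centralizer ({t} : Set G)).index) = 8 * 15 := by
      rw [← mul_assoc]; exact hCi
    exact Nat.eq_of_mul_eq_mul_left (by norm_num) this
  have hile : (Subgroup.centralizer ({t} : Set G)).index ≤ 15 :=
    Nat.le_of_dvd (by norm_num) ⟨c, by rw [← hci, mul_comm]⟩
  obtain ⟨i, hi⟩ : ∃ i, (Subgroup.centralizer ({t} : Set G)).index = i := ⟨_, rfl⟩
  rw [hi] at hci hile hi1
  have hcases : i = 3 ∨ i = 5 ∨ i = 15 := by
    interval_cases i <;> omega
  rcases hcases with rfl | rfl | rfl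
  · exact hKodd (case3 hcard _ hi)
  · exact hns (h.case5 hcard _ hi hKodd)
  · have hc1 : c = 1 := by omega
    rw [hc1] at hc
    have : (S : Subgroup G) = Subgroup.centralizer {t} :=
      Subgroup.eq_of_le_of_card_ge hSC (by rw [hc, h8])
    exact hns (h.solvable_of_centralizer_eq hcard ht this.symm)


section small

variable {H : Type*} [Group H] [Finite H]

theorem solvable_30 (h : Nat.card H = 30) : Group.IsSolvable H := by
  haveI : Fact (Nat.Prime 2) := ⟨Nat.prime_two⟩
  have hmin : (Nat.card H).minFac = 2 := by rw [h]; norm_num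
  obtain P : Sylow 2 H := default
  have hP2 : Nat.card P = 2 := by
    obtain ⟨k, hk⟩ := IsPGroup.iff_card.1 P.2
    have h1 : Nat.card P ∣ 30 := h ▸ Subgroup.card_subgroup_dvd_card _
    have h2 := P.not_dvd_index
    have h3 : Nat.card P * (P : Subgroup H).index = 30 := by
      rw [← h]; exact Subgroup.card_mul_index _
    rw [hk] at h1 h3 ⊢
    have hk7 : k < 5 := by
      by_contra hh
      have : 2 ^ 5 ∣ 2 ^ k := pow_dvd_pow 2 (by omega)
      have := Nat.le_of_dvd (by norm_num) (this.trans h1)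
      omega
    interval_cases k <;> omega
  have hcyc : IsCyclic P := isCyclic_of_prime_card hP2
  have hcomp := IsCyclic.isComplement' hmin hcyc
  have hc := hcomp.card_mul_card
  rw [hP2, h] at hc
  have hK15 : Nat.card (MonoidHom.transferSylow P (hcyc.normalizer_le_centralizer hmin)).ker = 15 := by
    omega
  have hq : Nat.card (H ⧸ (MonoidHom.transferSylow P (hcyc.normalizer_le_centralizer hmin)).ker) = 2 := by
    have := card_quot (MonoidHom.transferSylow P (hcyc.normalizer_le_centralizer hmin)).ker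
    rw [hK15, h] at this; omega
  exact solvable_of_normal _
    (Cfsg.Agent.S0144.result 3 5 1 1 (by norm_num) (by norm_num) (by rw [hK15]; norm_num))
    (Cfsg.Agent.S0144.result 2 3 1 0 (by norm_num) (by norm_num) (by rw [hq]; norm_num))

theorem burn (n p q a b : ℕ) (hn : Nat.card H = n) (hp : p.Prime) (hq : q.Prime)
    (h : n = p ^ a * q ^ b) : Group.IsSolvable H :=
  Cfsg.Agent.S0144.result p q a b hp hq (hn.trans h)

theorem solvable_of_dvd_60 (h1 : Nat.card H ∣ 60) (h2 : Nat.card H ≠ 60) :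
    Group.IsSolvable H := by
  have hle : Nat.card H ≤ 60 := Nat.le_of_dvd (by norm_num) h1
  obtain ⟨n, hn⟩ : ∃ n, Nat.card H = n := ⟨_, rfl⟩
  rw [hn] at h1 h2 hle
  have hc : n = 1 ∨ n = 2 ∨ n = 3 ∨ n = 4 ∨ n = 5 ∨ n = 6 ∨ n = 10 ∨ n = 12 ∨ n = 15 ∨
      n = 20 ∨ n = 30 := by
    interval_cases n <;> omega
  have p2 : Nat.Prime 2 := by norm_num
  have p3 : Nat.Prime 3 := by norm_num
  have p5 : Nat.Prime 5 := by norm_num
  rcases hc with rfl | rfl | rfl | rfl | rfl | rfl | rfl | rfl | rfl | rfl | rfl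
  · exact burn 1 2 3 0 0 hn p2 p3 (by norm_num)
  · exact burn 2 2 3 1 0 hn p2 p3 (by norm_num)
  · exact burn 3 2 3 0 1 hn p2 p3 (by norm_num)
  · exact burn 4 2 3 2 0 hn p2 p3 (by norm_num)
  · exact burn 5 2 5 0 1 hn p2 p5 (by norm_num)
  · exact burn 6 2 3 1 1 hn p2 p3 (by norm_num)
  · exact burn 10 2 5 1 1 hn p2 p5 (by norm_num)
  · exact burn 12 2 3 2 1 hn p2 p3 (by norm_num)
  · exact burn 15 3 5 1 1 hn p3 p5 (by norm_num)
  · exact burn 20 2 5 2 1 hn p2 p5 (by norm_num)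
  · exact solvable_30 hn

theorem simple_of_card_60 (h : Nat.card H = 60) (hns : ¬ Group.IsSolvable H) :
    IsSimpleGroup H := by
  haveI : Nontrivial H := by
    rw [← Finite.one_lt_card_iff_nontrivial, h]; norm_num
  refine ⟨fun N hN => ?_⟩
  by_contra hcon
  rw [not_or] at hcon
  obtain ⟨hb, ht⟩ := hcon
  haveI := hN
  have hc := card_quot N
  rw [h] at hc
  have hN1 : Nat.card N ≠ 1 := fun h1 => hb (Subgroup.card_eq_one.1 h1)
  have hN60 : Nat.card N ≠ 60 := fun h1 => ht ((Subgroup.card_eq_iff_eq_top N).1 (h1.trans h.symm))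
  apply hns
  apply solvable_of_normal N
  · exact solvable_of_dvd_60 ⟨_, hc.symm⟩ hN60
  · apply solvable_of_dvd_60 ⟨Nat.card N, by rw [← hc, mul_comm]⟩
    intro h60
    rw [h60] at hc
    omega

end small


omit [Finite G] in
theorem mem_zpowers_invol {t z : G} (ht : t ^ 2 = 1) (hz : z ∈ Subgroup.zpowers t) :
    z = 1 ∨ z = t := by
  obtain ⟨k, rfl⟩ := Subgroup.mem_zpowers_iff.1 hz
  rcases Int.emod_two_eq_zero_or_one k with h | h
  · left
    have : k = 2 * (k / 2) := by omega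
    rw [this, zpow_mul, zpow_ofNat, ht, one_zpow]
  · right
    have : k = 2 * (k / 2) + 1 := by omega
    rw [this, zpow_add, zpow_mul, zpow_ofNat, ht, one_zpow, one_mul, zpow_one]

omit [Finite G] in
theorem lift_odd {t : G} (ht2 : t ^ 2 = 1) (hcen : ∀ g : G, g * t * g⁻¹ = t) (n : ℕ)
    (hn : Odd n) (g₀ : G) (h : g₀ ^ n ∈ Subgroup.zpowers t) :
    ∃ g, (g = g₀ ∨ g = g₀ * t) ∧ g ^ n = 1 := by
  rcases mem_zpowers_invol ht2 h with h1 | h1
  · exact ⟨g₀, Or.inl rfl, h1⟩
  · refine ⟨g₀ * t, Or.inr rfl, ?_⟩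
    have hc : Commute g₀ t := by
      have := hcen g₀
      show g₀ * t = t * g₀
      calc g₀ * t = g₀ * t * g₀⁻¹ * g₀ := by group
        _ = t * g₀ := by rw [this]
    rw [hc.mul_pow, h1]
    obtain ⟨m, rfl⟩ := hn
    rw [← pow_succ', show 2 * m + 1 + 1 = 2 * (m + 1) by ring, pow_mul, ht2, one_pow]

theorem P_gen : Subgroup.closure ({Cfsg.Agent.S3377.a, Cfsg.Agent.S3377.b} :
    Set Cfsg.Agent.S3377.P) = ⊤ := by
  rw [← PresentedGroup.closure_range_of Cfsg.Agent.S3377.rels]
  congr 1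
  ext g
  constructor
  · rintro (rfl | rfl)
    · exact ⟨0, rfl⟩
    · exact ⟨1, rfl⟩
  · rintro ⟨i, rfl⟩
    fin_cases i
    · exact Or.inl rfl
    · exact Or.inr rfl

theorem main_aux (hcard : Nat.card G = 120) (hns : ¬ Group.IsSolvable G) (h : UI2 G)
    {S : Sylow 2 G} {t : G} (ht : Inv S t) (hcen : ∀ g : G, g * t * g⁻¹ = t) :
    Nonempty (G ≃* P3) := by
  -- the centre
  haveI hZn : (Subgroup.zpowers t).Normal := by
    refine ⟨fun n hn g => ?_⟩
    rcases mem_zpowers_invol ht.sq hn with rfl | rfl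
    · simp
    · rw [hcen]; exact hn
  have hot : orderOf t = 2 := orderOf_eq_prime ht.sq ht.ne
  have hZ2 : Nat.card (Subgroup.zpowers t) = 2 := by rw [Nat.card_zpowers, hot]
  have hq60 : Nat.card (G ⧸ Subgroup.zpowers t) = 60 := by
    have := card_quot (Subgroup.zpowers t); rw [hZ2, hcard] at this; omega
  have hqns : ¬ Group.IsSolvable (G ⧸ Subgroup.zpowers t) := by
    intro hs
    apply hns
    exact solvable_of_normal (Subgroup.zpowers t)
      (Cfsg.Agent.S0144.result 2 3 1 0 (by norm_num) (by norm_num) (by rw [hZ2]; norm_num)) hs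
  haveI := simple_of_card_60 hq60 hqns
  obtain ⟨e1⟩ := Cfsg.Agent.S0494.result hq60
  let e2 : Cfsg.Agent.S3377.P ≃* alternatingGroup (Fin 5) :=
    MulEquiv.ofBijective Cfsg.Agent.S3377.f Cfsg.Agent.S3377.f_bij
  let φ : Cfsg.Agent.S3377.P ≃* G ⧸ Subgroup.zpowers t := e2.trans e1.symm
  -- every involution is `t`
  have hinv : ∀ u : G, u ^ 2 = 1 → u = 1 ∨ u = t := by
    intro u hu2
    by_cases hu1 : u = 1
    · exact Or.inl hu1
    · right
      obtain ⟨g, hg⟩ := h.conj_invol ht hu2 hu1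
      have : u = g⁻¹ * (g * u * g⁻¹) * g := by group
      rw [this, hg]
      have := hcen g⁻¹
      rwa [inv_inv] at this
  have hmkt : (QuotientGroup.mk t : G ⧸ Subgroup.zpowers t) = 1 :=
    (QuotientGroup.eq_one_iff _).2 (Subgroup.mem_zpowers t)
  -- lifts
  obtain ⟨x₀, hx₀⟩ := QuotientGroup.mk_surjective (φ Cfsg.Agent.S3377.a)
  obtain ⟨y₀, hy₀⟩ := QuotientGroup.mk_surjective (φ Cfsg.Agent.S3377.b)
  have hx₀3 : x₀ ^ 3 ∈ Subgroup.zpowers t := by
    rw [← QuotientGroup.eq_one_iff, QuotientGroup.mk_pow, hx₀, ← map_pow,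
      Cfsg.Agent.S3377.a_pow, map_one]
  have hy₀5 : y₀ ^ 5 ∈ Subgroup.zpowers t := by
    rw [← QuotientGroup.eq_one_iff, QuotientGroup.mk_pow, hy₀, ← map_pow,
      Cfsg.Agent.S3377.b_pow, map_one]
  obtain ⟨x, hx, hx3⟩ := lift_odd ht.sq hcen 3 (by decide) x₀ hx₀3
  obtain ⟨y, hy, hy5⟩ := lift_odd ht.sq hcen 5 (by decide) y₀ hy₀5
  have hmx : (QuotientGroup.mk x : G ⧸ Subgroup.zpowers t) = φ Cfsg.Agent.S3377.a := by
    rcases hx with rfl | rfl
    · exact hx₀
    · rw [QuotientGroup.mk_mul, hmkt, mul_one, hx₀]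
  have hmy : (QuotientGroup.mk y : G ⧸ Subgroup.zpowers t) = φ Cfsg.Agent.S3377.b := by
    rcases hy with rfl | rfl
    · exact hy₀
    · rw [QuotientGroup.mk_mul, hmkt, mul_one, hy₀]
  -- generation of the quotient
  have hgen : Subgroup.closure ({φ Cfsg.Agent.S3377.a, φ Cfsg.Agent.S3377.b} :
      Set (G ⧸ Subgroup.zpowers t)) = ⊤ := by
    have h1 : Subgroup.map φ.toMonoidHom (Subgroup.closure
        ({Cfsg.Agent.S3377.a, Cfsg.Agent.S3377.b} : Set Cfsg.Agent.S3377.P)) = ⊤ := by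
      rw [P_gen]
      exact Subgroup.map_top_of_surjective _ φ.surjective
    rw [MonoidHom.map_closure] at h1
    rw [← h1]
    congr 1
    ext g
    simp [Set.image_insert_eq]
  -- `(xy)^2 = t`
  have hxy : (x * y) ^ 2 = t := by
    have hmem : (x * y) ^ 2 ∈ Subgroup.zpowers t := by
      rw [← QuotientGroup.eq_one_iff, QuotientGroup.mk_pow, QuotientGroup.mk_mul, hmx, hmy,
        ← map_mul, ← map_pow, Cfsg.Agent.S3377.ab_pow, map_one]
    rcases mem_zpowers_invol ht.sq hmem with h1 | h1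
    · exfalso
      have hxyZ : x * y ∈ Subgroup.zpowers t := by
        rcases hinv _ h1 with h2 | h2
        · rw [h2]; exact Subgroup.one_mem _
        · rw [h2]; exact Subgroup.mem_zpowers t
      have hab : φ Cfsg.Agent.S3377.a * φ Cfsg.Agent.S3377.b = 1 := by
        rw [← hmx, ← hmy, ← QuotientGroup.mk_mul]
        exact (QuotientGroup.eq_one_iff _).2 hxyZ
      have ha1 : φ Cfsg.Agent.S3377.a = 1 := by
        have h3 : (φ Cfsg.Agent.S3377.a) ^ 3 = 1 := by
          rw [← map_pow, Cfsg.Agent.S3377.a_pow, map_one]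
        have h5 : (φ Cfsg.Agent.S3377.b) ^ 5 = 1 := by
          rw [← map_pow, Cfsg.Agent.S3377.b_pow, map_one]
        have hb : φ Cfsg.Agent.S3377.b = (φ Cfsg.Agent.S3377.a)⁻¹ :=
          (inv_eq_of_mul_eq_one_right hab).symm
        rw [hb, inv_pow, inv_eq_one] at h5
        have h6 : (φ Cfsg.Agent.S3377.a) ^ 6 = 1 := by
          rw [show 6 = 3 * 2 by norm_num, pow_mul, h3, one_pow]
        calc φ Cfsg.Agent.S3377.a = (φ Cfsg.Agent.S3377.a) ^ 6 * ((φ Cfsg.Agent.S3377.a) ^ 5)⁻¹ := by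
              group
          _ = 1 := by rw [h6, h5]; simp
      have hb1 : φ Cfsg.Agent.S3377.b = 1 := by rw [ha1, one_mul] at hab; exact hab
      rw [ha1, hb1] at hgen
      have : (⊤ : Subgroup (G ⧸ Subgroup.zpowers t)) = ⊥ := by
        rw [← hgen]; simp
      have hcard1 := Subgroup.card_top (G := G ⧸ Subgroup.zpowers t)
      rw [this, Subgroup.card_bot, hq60] at hcard1
      omega
    · exact h1
  -- the homomorphism
  have hcomm : ∀ g : G, t⁻¹ * g * t * g⁻¹ = 1 := by
    intro g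
    have := hcen g
    calc t⁻¹ * g * t * g⁻¹ = t⁻¹ * (g * t * g⁻¹) := by group
      _ = 1 := by rw [this]; group
  obtain ⟨f, hfx, hfy, hfz⟩ := lift3 x y t hx3 hy5 ht.sq (hcomm x) (hcomm y)
    (by rw [hxy]; group)
  have hsurj : Function.Surjective f := by
    rw [← MonoidHom.range_eq_top, eq_top_iff]
    have hZR : Subgroup.zpowers t ≤ f.range := by
      rw [Subgroup.zpowers_le]; exact ⟨pz, hfz⟩
    have hmap : Subgroup.map (QuotientGroup.mk' (Subgroup.zpowers t)) f.range = ⊤ := by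
      rw [eq_top_iff, ← hgen, Subgroup.closure_le]
      rintro _ (rfl | rfl)
      · exact ⟨x, ⟨px, hfx⟩, hmx⟩
      · exact ⟨y, ⟨py, hfy⟩, hmy⟩
    intro g _
    have hg : (QuotientGroup.mk' (Subgroup.zpowers t)) g ∈
        Subgroup.map (QuotientGroup.mk' (Subgroup.zpowers t)) f.range := by
      rw [hmap]; exact Subgroup.mem_top _
    obtain ⟨r, hr, hrg⟩ := hg
    have : r⁻¹ * g ∈ Subgroup.zpowers t := QuotientGroup.eq.1 hrg
    have h2 : g = r * (r⁻¹ * g) := by group
    rw [h2]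
    exact f.range.mul_mem hr (hZR this)
  obtain ⟨hfin, hle⟩ := card_P3_le
  have hb : Function.Bijective f :=
    hsurj.bijective_of_nat_card_le (by rw [hcard]; exact hle)
  exact ⟨(MulEquiv.ofBijective f hb).symm⟩

theorem main1 (hcard : Nat.card G = 120) (hns : ¬ Group.IsSolvable G)
    (hQ : ∀ P : Sylow 2 G, Nonempty ((P : Subgroup G) ≃* QuaternionGroup 2)) :
    Nonempty (G ≃* Matrix.SpecialLinearGroup (Fin 2) (ZMod 5)) := by
  have h := UI2_of_Q8 hQ
  haveI : Fact (Nat.Prime 2) := ⟨Nat.prime_two⟩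
  obtain S : Sylow 2 G := default
  obtain ⟨t, ht⟩ := exists_Inv hcard S
  obtain ⟨e⟩ := main_aux hcard hns h ht (h.central hcard hns ht)
  obtain ⟨e'⟩ := P3_equiv
  exact ⟨e.trans e'⟩

end part1

end helpers



/-- Every non-solvable group of order 120 whose Sylow 2-subgroups are quaternion of order 8 is isomorphic to SL(2,5), and SL(2,5) has the presentation ⟨x, y, z | x³ = y⁵ = z² = 1, z⁻¹xz = x, z⁻¹yz = y, (xy)² = z⟩. -/
theorem result :
    (∀ (G : Type*) [Group G] [Finite G], Nat.card G = 120 → ¬ Group.IsSolvable G →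
      (∀ P : Sylow 2 G, Nonempty ((P : Subgroup G) ≃* QuaternionGroup 2)) →
      Nonempty (G ≃* Matrix.SpecialLinearGroup (Fin 2) (ZMod 5))) ∧
    Nonempty (PresentedGroup ({FreeGroup.of (0 : Fin 3) ^ 3, FreeGroup.of (1 : Fin 3) ^ 5, FreeGroup.of (2 : Fin 3) ^ 2,
        (FreeGroup.of (2 : Fin 3))⁻¹ * FreeGroup.of 0 * FreeGroup.of 2 * (FreeGroup.of (0 : Fin 3))⁻¹,
        (FreeGroup.of (2 : Fin 3))⁻¹ * FreeGroup.of 1 * FreeGroup.of 2 * (FreeGroup.of (1 : Fin 3))⁻¹,
        (FreeGroup.of (0 : Fin 3) * FreeGroup.of 1) ^ 2 * (FreeGroup.of (2 : Fin 3))⁻¹} : Set (FreeGroup (Fin 3)))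
      ≃* Matrix.SpecialLinearGroup (Fin 2) (ZMod 5)) := by
  refine ⟨fun G _ _ hcard hns hQ => main1 hcard hns hQ, ?_⟩
  exact P3_equiv


end Cfsg.Agent.S3378
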