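import Cfsg.Statements.S0684
import Mathlib
import Mathlib
import Cfsg.Agent.Lib.Helper2.FpfLinear

set_option autoImplicit false
open Cfsg

namespace Cfsg.Agent.S0684

open Cfsg.Agent.Lib.Helper2.FpfLinear

/-- Point stabiliser of a sharply doubly transitive group not of semilinear type: a maximal normal abelian subgroup `A` of a linear group `H` that is regular on non-zero vectors and has no irreducible cyclic normal subgroup is cyclic and reducible, and the order of `A` divides `p ^ k - 1` for `k` the dimension of a minimal `A`-invariant subspace. -/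
theorem result {p : ℕ} [Fact p.Prime] {V : Type*} [AddCommGroup V] [Module (ZMod p) V] [Finite V] (H : Subgroup (V ≃ₗ[ZMod p] V)) (hreg : ∀ v w : V, v ≠ 0 → w ≠ 0 → ∃! h : H, (h : V ≃ₗ[ZMod p] V) v = w) (hI : ∀ A : Subgroup H, A.Normal → IsCyclic A → ∃ W : Submodule (ZMod p) V, W ≠ ⊥ ∧ W ≠ ⊤ ∧ ∀ a ∈ A, ∀ v ∈ W, ((a : H) : V ≃ₗ[ZMod p] V) v ∈ W) (A : Subgroup H) (hAn : A.Normal) (hAc : IsMulCommutative A) (hAmax : ∀ B : Subgroup H, B.Normal → IsMulCommutative B → A ≤ B → B = A) : IsCyclic A ∧ ∃ W : Submodule (ZMod p) V, W ≠ ⊥ ∧ W ≠ ⊤ ∧ (∀ a ∈ A, ∀ v ∈ W, ((a : H) : V ≃ₗ[ZMod p] V) v ∈ W) ∧ (∀ W' : Submodule (ZMod p) V, W' ≤ W → (∀ a ∈ A, ∀ v ∈ W', ((a : H) : V ≃ₗ[ZMod p] V) v ∈ W') → W' = ⊥ ∨ W' = W) ∧ Nat.card A ∣ p ^ Module.finrank (ZMod p) W - 1 := by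
  classical
  -- fixed-point-freeness
  have hfpfH : ∀ h ∈ H, ∀ v : V, v ≠ 0 → h v = v → h = 1 := by
    intro h hh v hv hhv
    obtain ⟨h₀, -, huniq⟩ := hreg v v hv hv
    have h1 := huniq ⟨h, hh⟩ hhv
    have h2 := huniq 1 (by simp)
    have : (⟨h, hh⟩ : H) = 1 := h1.trans h2.symm
    exact congrArg Subtype.val this
  -- `V` is nontrivial
  haveI : Nontrivial V := by
    obtain ⟨W, hW, -, -⟩ := hI ⊥ inferInstance inferInstance
    obtain ⟨w, -, hw⟩ := (Submodule.ne_bot_iff W).mp hW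
    exact ⟨⟨w, 0, hw⟩⟩
  set A' : Subgroup (V ≃ₗ[ZMod p] V) := A.map H.subtype with hA'
  have hA'mem : ∀ a : V ≃ₗ[ZMod p] V, a ∈ A' ↔ ∃ h : a ∈ H, (⟨a, h⟩ : H) ∈ A := by
    intro a
    constructor
    · rintro ⟨x, hx, rfl⟩
      exact ⟨x.2, hx⟩
    · rintro ⟨h, ha⟩
      exact ⟨⟨a, h⟩, ha, rfl⟩
  have hcomm : ∀ a ∈ A', ∀ b ∈ A', a * b = b * a := by
    intro a ha b hb
    obtain ⟨ha1, ha2⟩ := (hA'mem a).mp ha
    obtain ⟨hb1, hb2⟩ := (hA'mem b).mp hb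
    have := hAc.is_comm.comm (⟨⟨a, ha1⟩, ha2⟩ : A) ⟨⟨b, hb1⟩, hb2⟩
    have h2 := congrArg (fun x : A => ((x : H) : V ≃ₗ[ZMod p] V)) this
    exact h2
  have hfpf : ∀ a ∈ A', ∀ v : V, v ≠ 0 → a v = v → a = 1 := by
    intro a ha v hv hav
    obtain ⟨ha1, -⟩ := (hA'mem a).mp ha
    exact hfpfH a ha1 v hv hav
  let e : A ≃* A' := A.equivMapOfInjective H.subtype (Subgroup.subtype_injective H)
  have hcycA' : IsCyclic A' := isCyclic_of_fpf_comm A' hcomm hfpf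
  have hcyc : IsCyclic A := (e.isCyclic).mpr hcycA'
  refine ⟨hcyc, ?_⟩
  obtain ⟨W₁, hW₁b, hW₁t, hW₁inv⟩ := hI A hAn hcyc
  have hW₁inv' : ∀ a ∈ (A' : Set (V ≃ₗ[ZMod p] V)), ∀ v ∈ W₁, a v ∈ W₁ := by
    intro a ha v hv
    obtain ⟨ha1, ha2⟩ := (hA'mem a).mp ha
    exact hW₁inv ⟨a, ha1⟩ ha2 v hv
  obtain ⟨W, hWb, hWW₁, hWinv, hWmin⟩ := exists_min_invariant (A' : Set (V ≃ₗ[ZMod p] V)) W₁
    hW₁b hW₁inv'
  refine ⟨W, hWb, ?_, ?_, ?_, ?_⟩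
  · intro ht
    apply hW₁t
    rw [eq_top_iff, ← ht]
    exact hWW₁
  · intro a ha v hv
    exact hWinv a ⟨a, ha, rfl⟩ v hv
  · intro W' hW'W hW'inv
    apply hWmin W' hW'W
    intro a ha v hv
    obtain ⟨ha1, ha2⟩ := (hA'mem a).mp ha
    exact hW'inv ⟨a, ha1⟩ ha2 v hv
  · have h1 := card_dvd_of_fpf A' hfpf W (fun a ha v hv => hWinv a ha v hv)
    rw [← Nat.card_congr e.toEquiv] at h1
    haveI : Fintype W := Fintype.ofFinite W
    have h2 : Nat.card W = p ^ Module.finrank (ZMod p) W := by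
      rw [Nat.card_eq_fintype_card, Module.card_eq_pow_finrank (K := ZMod p) (V := W), ZMod.card]
    rwa [h2] at h1

end Cfsg.Agent.S0684
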