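import Cfsg.Statements.S0685
import Mathlib
import Mathlib
import Cfsg.Agent.S0684

set_option autoImplicit false
open Cfsg

namespace Cfsg.Agent.S0685

/-- In a linear group over the prime field that is regular on non-zero vectors and has no irreducible cyclic normal subgroup, a maximal normal abelian subgroup is properly contained in its centraliser, which is non-abelian. -/
theorem result {p : ℕ} [Fact p.Prime] {V : Type*} [AddCommGroup V] [Module (ZMod p) V] [Finite V] (H : Subgroup (V ≃ₗ[ZMod p] V)) (hreg : ∀ v w : V, v ≠ 0 → w ≠ 0 → ∃! h : H, (h : V ≃ₗ[ZMod p] V) v = w) (hI : ∀ A : Subgroup H, A.Normal → IsCyclic A → ∃ W : Submodule (ZMod p) V, W ≠ ⊥ ∧ W ≠ ⊤ ∧ ∀ a ∈ A, ∀ v ∈ W, ((a : H) : V ≃ₗ[ZMod p] V) v ∈ W) (A : Subgroup H) (hAn : A.Normal) (hAc : IsMulCommutative A) (hAmax : ∀ B : Subgroup H, B.Normal → IsMulCommutative B → A ≤ B → B = A) : A < Subgroup.centralizer (A : Set H) ∧ ¬ IsMulCommutative (Subgroup.centralizer (A : Set H)) := by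
  classical
  obtain ⟨hcyc, W, hWb, hWt, hWinv, hWmin, hdvd⟩ :=
    Cfsg.Agent.S0684.result H hreg hI A hAn hAc hAmax
  haveI := hAn
  have hAC : A ≤ Subgroup.centralizer (A : Set H) := by
    intro a ha
    rw [Subgroup.mem_centralizer_iff]
    intro b hb
    have := hAc.is_comm.comm (⟨b, hb⟩ : A) ⟨a, ha⟩
    exact congrArg Subtype.val this
  have hne : Subgroup.centralizer (A : Set H) ≠ A := by
    intro hCA
    haveI : Fintype W := Fintype.ofFinite W
    have hWcard : Nat.card W = p ^ Module.finrank (ZMod p) W := by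
      rw [Nat.card_eq_fintype_card, Module.card_eq_pow_finrank (K := ZMod p) (V := W), ZMod.card]
    rw [← hWcard] at hdvd
    obtain ⟨w₀, hw₀W, hw₀⟩ := (Submodule.ne_bot_iff W).mp hWb
    have hW2 : 2 ≤ Nat.card W := by
      have : 1 < Nat.card W := by
        rw [Finite.one_lt_card_iff_nontrivial]
        exact ⟨⟨⟨w₀, hw₀W⟩, 0, fun h => hw₀ (congrArg Subtype.val h)⟩⟩
      omega
    -- (i) `|H| = |V| - 1`
    have hHcard : Nat.card H = Nat.card V - 1 := by
      have hbij : Function.Bijective (fun h : H => (⟨(h : V ≃ₗ[ZMod p] V) w₀, by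
          intro h0
          exact hw₀ ((h : V ≃ₗ[ZMod p] V).map_eq_zero_iff.mp h0)⟩ : {v : V // v ≠ 0})) := by
        constructor
        · intro h h' hh
          have h1 : (h : V ≃ₗ[ZMod p] V) w₀ = (h' : V ≃ₗ[ZMod p] V) w₀ := congrArg Subtype.val hh
          have hne' : (h' : V ≃ₗ[ZMod p] V) w₀ ≠ 0 := by
            intro h0
            exact hw₀ ((h' : V ≃ₗ[ZMod p] V).map_eq_zero_iff.mp h0)
          obtain ⟨h₀, -, huniq⟩ := hreg w₀ _ hw₀ hne'
          exact (huniq h h1).trans (huniq h' rfl).symm
        · rintro ⟨v, hv⟩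
          obtain ⟨h, hh, -⟩ := hreg w₀ v hw₀ hv
          exact ⟨h, Subtype.ext hh⟩
      rw [Nat.card_congr (Equiv.ofBijective _ hbij)]
      haveI : Fintype V := Fintype.ofFinite V
      rw [Nat.card_eq_fintype_card, Nat.card_eq_fintype_card,
        Fintype.card_subtype_compl (fun v : V => v = 0), Fintype.card_subtype_eq]
    -- (ii) `|W|^2 ≤ |V|`
    have hVW : Nat.card W * Nat.card W ≤ Nat.card V := by
      obtain ⟨v, hvW⟩ : ∃ v : V, v ∉ W := by
        by_contra hcon
        push Not at hcon
        exact hWt (eq_top_iff.mpr fun x _ => hcon x)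
      have hv0 : v ≠ 0 := by
        rintro rfl
        exact hvW W.zero_mem
      obtain ⟨h, hh, -⟩ := hreg w₀ v hw₀ hv0
      set W' : Submodule (ZMod p) V := W.map ((h : V ≃ₗ[ZMod p] V) : V →ₗ[ZMod p] V) with hW'
      have hW'card : Nat.card W' = Nat.card W := by
        have := (h : V ≃ₗ[ZMod p] V).submoduleMap W
        exact (Nat.card_congr this.toEquiv).symm
      have hinf : W ⊓ W' = ⊥ := by
        have hinv : ∀ a ∈ A, ∀ x ∈ W ⊓ W', ((a : H) : V ≃ₗ[ZMod p] V) x ∈ W ⊓ W' := by
          intro a ha x hx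
          refine ⟨hWinv a ha x hx.1, ?_⟩
          obtain ⟨y, hy, rfl⟩ := hx.2
          have hconj : h⁻¹ * a * h ∈ A := by
            have := hAn.conj_mem a ha h⁻¹
            simpa using this
          refine ⟨((h⁻¹ * a * h : H) : V ≃ₗ[ZMod p] V) y, hWinv _ hconj y hy, ?_⟩
          change (h : V ≃ₗ[ZMod p] V) (((h⁻¹ * a * h : H) : V ≃ₗ[ZMod p] V) y) =
            (a : V ≃ₗ[ZMod p] V) ((h : V ≃ₗ[ZMod p] V) y)
          have e : (h * (h⁻¹ * a * h) : H) = a * h := by group
          have e2 := congrArg (fun g : H => (g : V ≃ₗ[ZMod p] V) y) e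
          exact e2
        rcases hWmin (W ⊓ W') inf_le_left hinv with h1 | h1
        · exact h1
        · exfalso
          have hle : W ≤ W' := by rw [← h1]; exact inf_le_right
          have heq : W = W' := by
            apply SetLike.coe_injective
            apply Set.eq_of_subset_of_ncard_le hle _ (Set.toFinite _)
            rw [← Nat.card_coe_set_eq, ← Nat.card_coe_set_eq]
            exact hW'card.le
          apply hvW
          rw [heq, ← hh]
          exact ⟨w₀, hw₀W, rfl⟩
      have hinj : Function.Injective (fun x : W × W' => (x.1 : V) + (x.2 : V)) := by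
        rintro ⟨⟨a, ha⟩, ⟨b, hb⟩⟩ ⟨⟨c, hc⟩, ⟨d, hd⟩⟩ hxy
        simp only at hxy
        have h1 : a - c = d - b := by
          rw [sub_eq_sub_iff_add_eq_add, hxy, add_comm]
        have h2 : a - c ∈ W ⊓ W' := ⟨W.sub_mem ha hc, by rw [h1]; exact W'.sub_mem hd hb⟩
        rw [hinf, Submodule.mem_bot] at h2
        have h3 : d - b = 0 := by rw [← h1, h2]
        have hac : a = c := sub_eq_zero.mp h2
        have hbd : b = d := (sub_eq_zero.mp h3).symm
        subst hac; subst hbd; rfl
      have := Nat.card_le_card_of_injective _ hinj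
      rwa [Nat.card_prod, hW'card] at this
    -- (iii) `|H| ≤ |A|^2`
    have hHA : Nat.card H ≤ Nat.card A * Nat.card A := by
      let φ : H →* MulAut A := MulAut.conjNormal
      have hker : φ.ker = Subgroup.centralizer (A : Set H) := by
        ext h
        rw [MonoidHom.mem_ker, Subgroup.mem_centralizer_iff]
        constructor
        · intro hφ b hb
          have := congrArg (fun ψ : MulAut A => ((ψ ⟨b, hb⟩ : A) : H)) hφ
          simp only [φ, MulAut.conjNormal_apply, MulAut.one_apply] at this
          have h2 : h * b = b * h := by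
            have := congrArg (· * h) this
            simpa [mul_assoc] using this
          exact h2.symm
        · intro hc
          apply MulEquiv.ext
          intro b
          apply Subtype.ext
          simp only [φ, MulAut.conjNormal_apply, MulAut.one_apply]
          rw [← hc b b.2, mul_inv_cancel_right]
      have hcardC : Nat.card (Subgroup.centralizer (A : Set H)) = Nat.card A := by rw [hCA]
      have h1 := Subgroup.card_mul_index φ.ker
      rw [Subgroup.index_ker, hker, hcardC] at h1
      rw [← h1]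
      apply Nat.mul_le_mul_left
      have h2 : Nat.card φ.range ≤ Nat.card (MulAut A) := Subgroup.card_le_card_group _
      have h3 : Nat.card (MulAut A) = Nat.totient (Nat.card A) := IsCyclic.card_mulAut A
      rw [h3] at h2
      exact h2.trans (Nat.totient_le _)
    -- (iv) arithmetic
    have hApos : 0 < Nat.card A := Nat.card_pos
    have hAle : Nat.card A ≤ Nat.card W - 1 := Nat.le_of_dvd (by omega) hdvd
    have h5 : Nat.card A * Nat.card A ≤ (Nat.card W - 1) * (Nat.card W - 1) :=
      Nat.mul_le_mul hAle hAle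
    obtain ⟨w, hw⟩ : ∃ w, Nat.card W = w + 2 := ⟨Nat.card W - 2, by omega⟩
    rw [hw] at hVW h5
    have h6 : w + 2 - 1 = w + 1 := by omega
    rw [h6] at h5
    have h7 : (w + 2) * (w + 2) - 1 ≤ Nat.card H := by
      rw [hHcard]; omega
    have h8 := h7.trans (hHA.trans h5)
    have h9 : (w + 2) * (w + 2) = (w + 1) * (w + 1) + 2 * w + 3 := by ring
    omega
  constructor
  · exact lt_of_le_of_ne hAC (Ne.symm hne)
  · intro hC
    exact hne (hAmax _ inferInstance hC hAC)

end Cfsg.Agent.S0685
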