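import Cfsg.Statements.S0887
import Mathlib
import Mathlib
import Cfsg.Agent.Lib.Helper2.DegRatio
import Cfsg.Agent.Lib.Helper1.CliffordCorr
import Cfsg.Agent.S0170

set_option autoImplicit false
open Cfsg

namespace Cfsg.Agent.S0887

open Cfsg.Agent.Lib.Helper1 Cfsg.Agent.Lib.Helper4 Cfsg.Agent.Lib.Helper2.DegRatio

/-- Let N be a normal subgroup of the finite group G, χ an irreducible character of G and ϑ an irreducible character of N having nonzero inner product with the restriction of χ. If χ 1 = c and ϑ 1 = d as natural numbers, then d divides c and c / d divides the index of N. -/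
theorem result {G : Type*} [Group G] [Fintype G] (N : Subgroup G) [N.Normal] [Fintype N] (χ : G → ℂ) (hχ : Cfsg.IsIrrCharacter G χ) (ϑ : N → ℂ) (hϑ : Cfsg.IsIrrCharacter N ϑ) (hcon : Cfsg.classInner (fun n : N => χ n) ϑ ≠ 0) (c d : ℕ) (hc : χ 1 = c) (hd : ϑ 1 = d) : d ∣ c ∧ c / d ∣ N.index := by
  classical
  have hdc : d ∣ c := Cfsg.Agent.Lib.Helper2.CliffordDeg.degree_dvd_of_constituent N hχ hϑ hcon hd hc
  refine ⟨hdc, ?_⟩
  have hd0 : d ≠ 0 := by
    rintro rfl
    rw [Nat.cast_zero] at hd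
    exact irr_apply_one_ne_zero hϑ hd
  set T : Subgroup G := inertia N ϑ with hT
  have hNT : N ≤ T := le_inertia N (isClassFunction_irr hϑ)
  haveI : Fintype T := Fintype.ofFinite T
  obtain ⟨ψ, hψ, hχψ, c', hψN⟩ := clifford_correspondence N ϑ hϑ χ hχ hcon T hT hNT
  set N' : Subgroup T := N.subgroupOf T with hN'
  haveI hN'n : N'.Normal := Subgroup.normal_subgroupOf
  haveI : Fintype N' := Fintype.ofFinite N'
  let e : N' ≃* N := Subgroup.subgroupOfEquivOfLe hNT
  set ϑ' : N' → ℂ := fun x => ϑ (e x) with hϑ'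
  have hϑ'irr : Cfsg.IsIrrCharacter N' ϑ' := isIrrCharacter_comp_mulEquiv hϑ e
  have hinv' : ∀ (t : T) (x : N'), ϑ' ⟨t * x * t⁻¹, hN'n.conj_mem (x : T) x.2 t⟩ = ϑ' x := by
    intro t x
    have h1 : Cfsg.Agent.S0193.conjFun N ϑ (t : G) = ϑ := t.2
    have h2 := congrFun h1 (e x)
    show ϑ (e ⟨t * x * t⁻¹, hN'n.conj_mem (x : T) x.2 t⟩) = ϑ (e x)
    rw [← h2]
    exact congrArg ϑ (Subtype.ext rfl)
  have hψ1 : ψ 1 = c' * ϑ 1 := by
    have h1 := hψN 1
    exact h1
  have hc'0 : c' ≠ 0 := by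
    rintro rfl
    rw [zero_mul] at hψ1
    exact irr_apply_one_ne_zero hψ hψ1
  have hcon' : Cfsg.classInner (fun x : N' => ψ x) ϑ' ≠ 0 := by
    have h1 : (fun x : N' => ψ (x : T)) = c' • ϑ' := by
      funext x
      rw [Pi.smul_apply, smul_eq_mul]
      exact hψN (e x)
    rw [h1, classInner_smul_left, classInner_irr_self hϑ'irr, mul_one]
    exact hc'0
  obtain ⟨k, hk1, hk2⟩ := ratio_dvd_of_invariant N' ψ hψ ϑ' hϑ'irr hinv' hcon'
  have hϑ'1 : ϑ' 1 = d := by
    show ϑ (e 1) = d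
    rw [map_one, hd]
  rw [hϑ'1] at hk1
  have hχ1 : (c : ℂ) = ((T.index * k * d : ℕ) : ℂ) := by
    rw [← hc, hχψ, Cfsg.Agent.S0170.indFun_one, hk1]
    have h2 : (Nat.card G : ℂ) = (T.index : ℂ) * (Nat.card T : ℂ) := by
      rw [← Nat.cast_mul, Subgroup.index_mul_card]
    have hT0 : (Nat.card T : ℂ) ≠ 0 := Nat.cast_ne_zero.2 Nat.card_pos.ne'
    rw [h2]
    push_cast
    field_simp
  have hceq : c = T.index * k * d := by exact_mod_cast hχ1
  rw [hceq, Nat.mul_div_cancel _ (Nat.pos_of_ne_zero hd0)]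
  have h3 : N.relIndex T * T.index = N.index := Subgroup.relIndex_mul_index hNT
  have h4 : N'.index = N.relIndex T := rfl
  rw [← h3, mul_comm]
  rw [h4] at hk2
  exact Nat.mul_dvd_mul hk2 dvd_rfl

end Cfsg.Agent.S0887
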