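import Mathlib
import Cfsg.Statements.S0136
import Cfsg.Agent.Lib.Helper1.CharFound5
import Cfsg.Agent.S0145

set_option autoImplicit false
open Cfsg

namespace Cfsg.Agent.S0136

open Cfsg.Agent.Lib.Helper1
open scoped ComplexConjugate

/-- Two elements of a finite group are conjugate if and only if no irreducible complex character separates them. -/
theorem result {G : Type*} [Group G] [Finite G] (g h : G) : IsConj g h ↔ ∀ χ : Cfsg.IrrCharacter G, (χ : G → ℂ) g = (χ : G → ℂ) h := by
  classical
  constructor
  · intro hc χ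
    obtain ⟨c, hc⟩ := isConj_iff.1 hc
    rw [← hc, isClassFunction_irr χ.2 g c]
  · intro hall
    by_contra hnc
    have h1 := (Cfsg.Agent.S0145.result g h).2 hnc
    have h2 := (Cfsg.Agent.S0145.result g g).1 (IsConj.refl g)
    have h3 : (fun χ : Cfsg.IrrCharacter G => (χ : G → ℂ) g * conj ((χ : G → ℂ) h))
        = fun χ : Cfsg.IrrCharacter G => (χ : G → ℂ) g * conj ((χ : G → ℂ) g) := by
      funext χ
      rw [hall χ]
    rw [h3, h2] at h1
    have hC0 : (Nat.card (Subgroup.centralizer ({g} : Set G)) : ℂ) ≠ 0 :=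
      Nat.cast_ne_zero.2 Nat.card_pos.ne'
    exact hC0 h1

end Cfsg.Agent.S0136
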