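import Mathlib
-- Template for statement S1051 (row 1051; see /opt/grader/pristine/manifest.json for weights).
-- Copy to Cfsg/Agent/S1051.lean and replace the sorry. The statement below is byte-identical to the frozen
-- statement Cfsg.CfsgFrozen.S1051 (Cfsg/Statements/S1051.lean; the theorem Cfsg.chevalley_borel_normal_core_trivial);
-- the grader kernel-checks Cfsg.Agent.S1051.result against that frozen type. Keep the theorem IN THIS FILE
-- (a `result` declared elsewhere and merely imported here is not credited); helpers may live anywhere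
-- under Cfsg/Agent/.
import Cfsg.Statements.S1051
import Cfsg.Agent.Lib.Helper3.ChevData.G2Rel
import Cfsg.Agent.Lib.Helper3.ChevData.G2Hdec
import Cfsg.Agent.Lib.Helper3.ChevData.G2Tri
import Cfsg.Agent.Lib.Helper3.ChevData.G2NegTri
import Cfsg.Agent.Lib.Helper3.ChevData.G2Opp
import Cfsg.Agent.Lib.Helper3.ChevData.G2NegRefl
import Cfsg.Agent.Lib.Helper3.ChevData.G2Rwc
import Cfsg.Agent.Lib.Helper3.ChevData.G2Inj
import Cfsg.Agent.Lib.Helper3.ChevData.B2Rel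
import Cfsg.Agent.Lib.Helper3.ChevData.B2Hdec
import Cfsg.Agent.Lib.Helper3.ChevData.B2Tri
import Cfsg.Agent.Lib.Helper3.ChevData.B2NegTri
import Cfsg.Agent.Lib.Helper3.ChevData.B2Opp
import Cfsg.Agent.Lib.Helper3.ChevData.B2NegRefl
import Cfsg.Agent.Lib.Helper3.ChevData.B2Rwc
import Cfsg.Agent.Lib.Helper3.ChevData.B2Inj
import Cfsg.Agent.Lib.Helper3.ChevData.D4Rel
import Cfsg.Agent.Lib.Helper3.ChevData.D4Hdec
import Cfsg.Agent.Lib.Helper3.ChevData.D4Tri
import Cfsg.Agent.Lib.Helper3.ChevData.D4NegTri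
import Cfsg.Agent.Lib.Helper3.ChevData.D4Opp
import Cfsg.Agent.Lib.Helper3.ChevData.D4NegRefl
import Cfsg.Agent.Lib.Helper3.ChevData.D4Rwc
import Cfsg.Agent.Lib.Helper3.ChevData.D4Inj
import Cfsg.Agent.Lib.Helper3.ChevData.F4Rel
import Cfsg.Agent.Lib.Helper3.ChevData.F4Hdec
import Cfsg.Agent.Lib.Helper3.ChevData.F4Tri
import Cfsg.Agent.Lib.Helper3.ChevData.F4NegTri
import Cfsg.Agent.Lib.Helper3.ChevData.F4Opp
import Cfsg.Agent.Lib.Helper3.ChevData.F4NegRefl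
import Cfsg.Agent.Lib.Helper3.ChevData.F4Rwc
import Cfsg.Agent.Lib.Helper3.ChevData.F4Inj
import Cfsg.Agent.Lib.Helper3.ChevData.E6Rel
import Cfsg.Agent.Lib.Helper3.ChevData.E6Hdec
import Cfsg.Agent.Lib.Helper3.ChevData.E6Tri
import Cfsg.Agent.Lib.Helper3.ChevData.E6NegTri
import Cfsg.Agent.Lib.Helper3.ChevData.E6Opp
import Cfsg.Agent.Lib.Helper3.ChevData.E6NegRefl
import Cfsg.Agent.Lib.Helper3.ChevData.E6Rwc
import Cfsg.Agent.Lib.Helper3.ChevData.E6Inj
import Cfsg.Agent.Lib.Helper3.ChevData.E7Rel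
import Cfsg.Agent.Lib.Helper3.ChevData.E7Hdec
import Cfsg.Agent.Lib.Helper3.ChevData.E7Tri
import Cfsg.Agent.Lib.Helper3.ChevData.E7NegTri
import Cfsg.Agent.Lib.Helper3.ChevData.E7Opp
import Cfsg.Agent.Lib.Helper3.ChevData.E7NegRefl
import Cfsg.Agent.Lib.Helper3.ChevData.E7Rwc
import Cfsg.Agent.Lib.Helper3.ChevData.E7Inj
import Cfsg.Agent.Lib.Helper3.ChevData.E8Rel
import Cfsg.Agent.Lib.Helper3.ChevData.E8Hdec
import Cfsg.Agent.Lib.Helper3.ChevData.E8Tri
import Cfsg.Agent.Lib.Helper3.ChevData.E8NegTri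
import Cfsg.Agent.Lib.Helper3.ChevData.E8Opp
import Cfsg.Agent.Lib.Helper3.ChevData.E8NegRefl
import Cfsg.Agent.Lib.Helper3.ChevData.E8Rwc
import Cfsg.Agent.Lib.Helper3.ChevData.E8Inj

set_option autoImplicit false
open Cfsg
open Cfsg.Agent.Lib.Helper3.ChevM

namespace Cfsg.Agent.S1051

/-- `⋂_g g B g⁻¹ = 1`: the normal core of `B` in the Chevalley group is trivial. -/
theorem result {F : Type*} [Field F] (D : Cfsg.Lie.ChevalleyDatum) (hD : D ∈ [Cfsg.Lie.chevG2, Cfsg.Lie.chevB2, Cfsg.Lie.chevD4, Cfsg.Lie.chevF4, Cfsg.Lie.chevE6, Cfsg.Lie.chevE7, Cfsg.Lie.chevE8]) : ((D.borelSubgroup F).subgroupOf (D.group F)).normalCore = ⊥ := by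
  simp only [List.mem_cons, List.not_mem_nil, or_false] at hD
  rcases hD with rfl | rfl | rfl | rfl | rfl | rfl | rfl
  · exact relG2.borel_core_trivial (of_pairRange (m := 12) (n := 12) g2Hdec) g2Tri g2NegTri w0G2 w0rG2 w0G2_lt g2Opp (of_pairRange (m := 2) (n := 12) g2NegRefl) rwG2 g2Rwc g2Inj
  · exact relB2.borel_core_trivial (of_pairRange (m := 8) (n := 8) b2Hdec) b2Tri b2NegTri w0B2 w0rB2 w0B2_lt b2Opp (of_pairRange (m := 2) (n := 8) b2NegRefl) rwB2 b2Rwc b2Inj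
  · exact relD4.borel_core_trivial (of_pairRange (m := 24) (n := 24) d4Hdec) d4Tri d4NegTri w0D4 w0rD4 w0D4_lt d4Opp (of_pairRange (m := 4) (n := 24) d4NegRefl) rwD4 d4Rwc d4Inj
  · exact relF4.borel_core_trivial (of_pairRange (m := 48) (n := 48) f4Hdec) f4Tri f4NegTri w0F4 w0rF4 w0F4_lt f4Opp (of_pairRange (m := 4) (n := 48) f4NegRefl) rwF4 f4Rwc f4Inj
  · exact relE6.borel_core_trivial (of_pairRange (m := 72) (n := 72) e6Hdec) e6Tri e6NegTri w0E6 w0rE6 w0E6_lt e6Opp (of_pairRange (m := 6) (n := 72) e6NegRefl) rwE6 e6Rwc e6Inj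
  · exact relE7.borel_core_trivial (of_pairRange (m := 126) (n := 126) e7Hdec) e7Tri e7NegTri w0E7 w0rE7 w0E7_lt e7Opp (of_pairRange (m := 7) (n := 126) e7NegRefl) rwE7 e7Rwc e7Inj
  · exact relE8.borel_core_trivial (of_pairRange (m := 240) (n := 240) e8Hdec) e8Tri e8NegTri w0E8 w0rE8 w0E8_lt e8Opp (of_pairRange (m := 8) (n := 240) e8NegRefl) rwE8 e8Rwc e8Inj

end Cfsg.Agent.S1051
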