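import Mathlib
-- Template for statement S1077 (row 1077; see /opt/grader/pristine/manifest.json for weights).
-- Copy to Cfsg/Agent/S1077.lean and replace the sorry. The statement below is byte-identical to the frozen
-- statement Cfsg.CfsgFrozen.S1077 (Cfsg/Statements/S1077.lean; the theorem Cfsg.steinberg_ker_eq_center);
-- the grader kernel-checks Cfsg.Agent.S1077.result against that frozen type. Keep the theorem IN THIS FILE
-- (a `result` declared elsewhere and merely imported here is not credited); helpers may live anywhere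
-- under Cfsg/Agent/.
import Cfsg.Statements.S1077
import Cfsg.Agent.Lib.Helper3.StB16

set_option autoImplicit false
open Cfsg
open Cfsg.Agent.Lib.Helper3.ChevM Cfsg.Agent.Lib.Helper3.StB

namespace Cfsg.Agent.S1077

/-- Steinberg's Theorem: there is a homomorphism `x̄_r(t) ↦ x_r(t)` from the presented group onto the Chevalley group whose kernel is precisely the centre; hence `L(K) ≅ Ḡ/Z(Ḡ)`. -/
theorem result {K : Type*} [Field K] (D : Cfsg.Lie.ChevalleyDatum) (hD : D ∈ [Cfsg.Lie.chevG2, Cfsg.Lie.chevB2, Cfsg.Lie.chevD4, Cfsg.Lie.chevF4, Cfsg.Lie.chevE6, Cfsg.Lie.chevE7, Cfsg.Lie.chevE8]) :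
    ∃ θ : D.SteinbergGroup K →* ↥(D.group K), Function.Surjective θ ∧ θ.ker = Subgroup.center (D.SteinbergGroup K) ∧
      ∀ (r : ℕ) (t : K), r < D.nroots → ((θ (D.stGen K r t) : GL D.Idx K) : Matrix D.Idx D.Idx K) = D.x K r t := by
  refine st_dispatch (F := K) (P := fun D => ∃ θ : D.SteinbergGroup K →* ↥(D.group K),
    Function.Surjective θ ∧ θ.ker = Subgroup.center (D.SteinbergGroup K) ∧
      ∀ (r : ℕ) (t : K), r < D.nroots →
        ((θ (D.stGen K r t) : GL D.Idx K) : Matrix D.Idx D.Idx K) = D.x K r t) D hD ?_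
  intro C R Kc Y hcore
  exact pres_exists R Kc Y hcore _ (fun g hg => Or.inl hg) (stLift_rels R Kc)

end Cfsg.Agent.S1077
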