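import Mathlib
-- Template for statement S1082 (row 1082; see /opt/grader/pristine/manifest.json for weights).
-- Copy to Cfsg/Agent/S1082.lean and replace the sorry. The statement below is byte-identical to the frozen
-- statement Cfsg.CfsgFrozen.S1082 (Cfsg/Statements/S1082.lean; the theorem Cfsg.chevalley_d4_equiv_pomega_eight_plus);
-- the grader kernel-checks Cfsg.Agent.S1082.result against that frozen type. Keep the theorem IN THIS FILE
-- (a `result` declared elsewhere and merely imported here is not credited); helpers may live anywhere
-- under Cfsg/Agent/.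
import Cfsg.Statements.S1082
import Cfsg.Agent.Lib.Helper3.PO9

set_option autoImplicit false
open Cfsg
open Cfsg.Agent.Lib.Helper3.PO

namespace Cfsg.Agent.S1082

/-- D₄(F) ≅ PΩ₈⁺(F), the commutator subgroup of the orthogonal group of `Σ xᵢ yᵢ` modulo its centre. -/
theorem result {F : Type*} [Field F] : Nonempty (↥(Cfsg.Lie.chevD4.group F) ≃* Cfsg.POmega F (Cfsg.quadFormPlus 4 F)) := by
  exact d4_iso

end Cfsg.Agent.S1082
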