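import Mathlib
-- Template for statement S2398 (row 2398; see /opt/grader/pristine/manifest.json for weights).
-- Copy to Cfsg/Agent/S2398.lean and replace the sorry. The statement below is byte-identical to the frozen
-- statement Cfsg.CfsgFrozen.S2398 (Cfsg/Statements/S2398.lean; the theorem Cfsg.lie4_steinberg_cover_lift_unique);
-- the grader kernel-checks Cfsg.Agent.S2398.result against that frozen type. Keep the theorem IN THIS FILE
-- (a `result` declared elsewhere and merely imported here is not credited); helpers may live anywhere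
-- under Cfsg/Agent/.
import Cfsg.Statements.S2398
import Cfsg.Agent.S2395
import Cfsg.Agent.Lib.Helper3.StU11
import Cfsg.Agent.Lib.Helper3.ChevData.G2Univ
import Cfsg.Agent.Lib.Helper3.ChevData.B2Univ
import Cfsg.Agent.Lib.Helper3.ChevData.D4Univ
import Cfsg.Agent.Lib.Helper3.ChevData.F4Univ
import Cfsg.Agent.Lib.Helper3.ChevData.E6Univ
import Cfsg.Agent.Lib.Helper3.ChevData.E7Univ
import Cfsg.Agent.Lib.Helper3.ChevData.E8Univ

set_option autoImplicit false
open Cfsg
open Cfsg.Agent.Lib.Helper3.StU Cfsg.Agent.Lib.Helper3.ChevM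

namespace Cfsg.Agent.S2398

/-- Universality of the group Δ presented by Steinberg's generators with relators (R1), (R2), over a field with more than four elements (types G₂, B₂, D₄, F₄, E₆, E₇, E₈): for every central extension `π₁ : E → G₁` (surjective, central kernel) and every homomorphism `σ : Δ → G₁` there is exactly one homomorphism `τ : Δ → E` with `π₁ ∘ τ = σ`. In particular every central extension of Δ splits; together with the fact that Δ maps onto the Chevalley group with central kernel, this makes Δ the universal central extension of the Chevalley group. -/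
theorem result {K : Type*} [Field K] (hK5 : ∃ s : Finset K, 4 < s.card) (D : Cfsg.Lie.ChevalleyDatum) (hD : D ∈ [Cfsg.Lie.chevG2, Cfsg.Lie.chevB2, Cfsg.Lie.chevD4, Cfsg.Lie.chevF4, Cfsg.Lie.chevE6, Cfsg.Lie.chevE7, Cfsg.Lie.chevE8])
    {G₁ E : Type*} [Group G₁] [Group E] (π₁ : E →* G₁) (hπ : Function.Surjective π₁) (hc : π₁.ker ≤ Subgroup.center E)
    (σ : D.SteinbergCover K →* G₁) : ∃! τ : D.SteinbergCover K →* E, π₁.comp τ = σ := by
  have hperf : commutator (D.SteinbergCover K) = ⊤ := by
    refine Cfsg.Agent.S2395.result D hD (fun _ => ?_)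
    obtain ⟨v, hv0, hv1⟩ := exists_pow_ne_one (F := K) hK5 1 le_rfl (by norm_num)
    exact ⟨v, hv0, by simpa using hv1⟩
  simp only [List.mem_cons, List.not_mem_nil, or_false] at hD
  rcases hD with rfl | rfl | rfl | rfl | rfl | rfl | rfl
  · exact cover_lift_unique commG2 univHypG2 hK5 hperf π₁ hπ hc σ
  · exact cover_lift_unique commB2 univHypB2 hK5 hperf π₁ hπ hc σ
  · exact cover_lift_unique commD4 univHypD4 hK5 hperf π₁ hπ hc σ
  · exact cover_lift_unique commF4 univHypF4 hK5 hperf π₁ hπ hc σ
  · exact cover_lift_unique commE6 univHypE6 hK5 hperf π₁ hπ hc σ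
  · exact cover_lift_unique commE7 univHypE7 hK5 hperf π₁ hπ hc σ
  · exact cover_lift_unique commE8 univHypE8 hK5 hperf π₁ hπ hc σ

end Cfsg.Agent.S2398
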