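import Mathlib
import Cfsg.Agent.Lib.Helper6.Modular2
import Cfsg.Agent.Lib.Lead.MaxClass2
import Cfsg.Agent.Lib.Lead.MaxClass4
import Cfsg.Agent.Lib.Helper1.DihedralIso
import Cfsg.Agent.S0113
import Cfsg.Statements.S3224

set_option autoImplicit false
open Cfsg Cfsg.Agent.Lib.Helper6

namespace Cfsg.Agent.S3224

theorem arith_qd (m r : ℕ) (hm : 2 ≤ m) (hr : r < 2 ^ m) (h4 : r % 4 = 3)
    (hsq : r * r ≡ 1 [MOD 2 ^ m]) : r + 1 = 2 ^ m ∨ (r + 1 = 2 ^ (m - 1) ∧ 3 ≤ m) := by
  obtain ⟨t, rfl⟩ : ∃ t, r = 4 * t + 3 := ⟨r / 4, by omega⟩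
  -- 2^m ∣ (r*r - 1) in ℤ
  have h1 : ((2 ^ m : ℕ) : ℤ) ∣ ((4 * t + 3 : ℕ) : ℤ) * ((4 * t + 3 : ℕ) : ℤ) - 1 := by
    have := (Nat.modEq_iff_dvd.mp hsq.symm)
    push_cast at this ⊢
    exact this
  have h2 : ((4 * t + 3 : ℕ) : ℤ) * ((4 * t + 3 : ℕ) : ℤ) - 1 = (2 * (t : ℤ) + 1) * (8 * ((t : ℤ) + 1)) := by
    push_cast; ring
  rw [h2] at h1
  have hcop : IsCoprime ((2 ^ m : ℕ) : ℤ) (2 * (t : ℤ) + 1) := by
    push_cast
    apply IsCoprime.pow_left
    rw [Int.isCoprime_iff_gcd_eq_one]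
    have : Int.gcd 2 (2 * (t:ℤ) + 1) ∣ 1 := by
      have h3 : (Int.gcd 2 (2 * (t:ℤ) + 1) : ℤ) ∣ 2 := Int.gcd_dvd_left _ _
      have h4 : (Int.gcd 2 (2 * (t:ℤ) + 1) : ℤ) ∣ 2 * (t:ℤ) + 1 := Int.gcd_dvd_right _ _
      have h5 : (Int.gcd 2 (2 * (t:ℤ) + 1) : ℤ) ∣ 1 := by
        have := dvd_sub h4 (Dvd.dvd.mul_right h3 (t:ℤ))
        simpa using this
      exact_mod_cast h5
    exact Nat.eq_one_of_dvd_one this
  have h3 : ((2 ^ m : ℕ) : ℤ) ∣ 8 * ((t : ℤ) + 1) := hcop.dvd_of_dvd_mul_left h1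
  have h4' : 2 ^ m ∣ 8 * (t + 1) := by exact_mod_cast h3
  -- 2^(m-1) ∣ 4 * (t+1) = r + 1
  obtain ⟨j, rfl⟩ : ∃ j, m = j + 1 := ⟨m - 1, by omega⟩
  have h5 : 2 ^ j ∣ 4 * (t + 1) := by
    have : 2 * 2 ^ j ∣ 2 * (4 * (t + 1)) := by
      have e : 2 * (4 * (t + 1)) = 8 * (t + 1) := by ring
      rw [e, ← pow_succ']; exact h4'
    exact Nat.dvd_of_mul_dvd_mul_left (by norm_num) this
  obtain ⟨s, hs⟩ := h5
  have hs1 : 1 ≤ s := by
    rcases Nat.eq_zero_or_pos s with h0 | h0
    · rw [h0] at hs; omega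
    · exact h0
  have hs2 : s ≤ 2 := by
    by_contra hcon
    push Not at hcon
    have : 2 ^ j * 3 ≤ 2 ^ j * s := Nat.mul_le_mul_left _ hcon
    rw [pow_succ] at hr
    omega
  simp only [Nat.add_sub_cancel]
  have hs3 : s = 1 ∨ s = 2 := by omega
  rcases hs3 with rfl | rfl
  · right
    constructor
    · omega
    · -- 4 ∣ 2^j
      by_contra hcon
      push Not at hcon
      have hj : j = 1 := by omega
      subst hj
      omega
  · left
    rw [pow_succ]; omega


/-- A finite 2-group containing an involution whose centralizer has order 4 is dihedral, quasi-dihedral (semidihedral), or of order 4. -/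
theorem result {S : Type*} [Group S] [Finite S] (hS : IsPGroup 2 S)
    (x : S) (hx : orderOf x = 2) (hC : Nat.card ↥(Subgroup.centralizer ({x} : Set S)) = 4) :
    (∃ n : ℕ, Nonempty (S ≃* DihedralGroup n)) ∨ Cfsg.IsQuasiDihedral S ∨ Nat.card S = 4 := by
  classical
  haveI : Fact (Nat.Prime 2) := ⟨Nat.prime_two⟩
  obtain ⟨N, hN⟩ := IsPGroup.iff_card.mp hS
  set A := Subgroup.centralizer ({x} : Set S) with hA
  have hxx : x * x = 1 := by
    have := pow_orderOf_eq_one x
    rwa [hx, pow_two] at this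
  have hxinv : x⁻¹ = x := inv_eq_of_mul_eq_one_right hxx
  have hx1 : x ≠ 1 := by
    intro h; rw [h, orderOf_one] at hx; omega
  have hxA : x ∈ A := by
    rw [hA, Subgroup.mem_centralizer_iff]
    intro y hy
    rw [Set.mem_singleton_iff] at hy
    rw [hy]
  have hAmem : ∀ g : S, g ∈ A ↔ g * x = x * g := by
    intro g
    rw [hA, Subgroup.mem_centralizer_iff]
    constructor
    · intro h; exact (h x rfl).symm
    · intro h y hy
      rw [Set.mem_singleton_iff] at hy
      rw [hy]; exact h.symm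
  have hN2 : 2 ≤ N := by
    have h1 : Nat.card A ∣ Nat.card S := Subgroup.card_subgroup_dvd_card A
    rw [hC, hN] at h1
    have h2 : (2:ℕ) ^ 2 ∣ 2 ^ N := by norm_num; exact h1
    exact (Nat.pow_dvd_pow_iff_le_right (by norm_num : 1 < 2)).mp h2
  by_cases hN3 : N = 2
  · right; right; rw [hN, hN3]; norm_num
  have hN3' : 3 ≤ N := by omega
  -- `A` is self-centralizing
  have hAcomm : ∀ u ∈ A, ∀ v ∈ A, u * v = v * u := by
    intro u hu v hv
    have h1 : Nat.card A = 2 ^ 2 := by rw [hC]; norm_num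
    have := IsPGroup.isMulCommutative_of_card_eq_prime_sq h1
    exact congrArg Subtype.val (this.is_comm.comm ⟨u, hu⟩ ⟨v, hv⟩)
  have hCA : Subgroup.centralizer (A : Set S) = A := by
    apply le_antisymm
    · intro g hg
      rw [Subgroup.mem_centralizer_iff] at hg
      rw [hAmem]
      exact (hg x hxA).symm
    · intro g hg
      rw [Subgroup.mem_centralizer_iff]
      intro v hv
      exact hAcomm v hv g hg
  have hclass := Cfsg.Agent.Lib.Lead.nilpotencyClass_of_self_centralizing_sq (p := 2) N S hN A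
    (by rw [hC]; norm_num) hCA
  obtain ⟨C, hCcyc, hCidx⟩ := Cfsg.Agent.S0113.result N hN3' hN hclass
  haveI := hCcyc
  obtain ⟨⟨a, haC⟩, hgen⟩ := IsCyclic.exists_generator (α := C)
  obtain ⟨m, rfl⟩ : ∃ m, N = m + 1 := ⟨N - 1, by omega⟩
  have hm2 : 2 ≤ m := by omega
  have hCcard : Nat.card C = 2 ^ m := by
    have h1 := Subgroup.card_mul_index C
    rw [hCidx, hN, pow_succ] at h1
    exact Nat.eq_of_mul_eq_mul_right (by norm_num) h1
  have hao : orderOf a = 2 ^ m := by
    have := orderOf_eq_card_of_forall_mem_zpowers hgen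
    rw [Subgroup.orderOf_mk] at this
    rw [this, hCcard]
  have hCz : C = Subgroup.zpowers a := by
    symm
    apply Subgroup.eq_of_le_of_card_ge (Subgroup.zpowers_le.mpr haC)
    rw [Nat.card_zpowers, hao, hCcard]
  haveI hCn : C.Normal := Subgroup.normal_of_index_eq_two hCidx
  set z := a ^ (2 ^ (m - 1)) with hz
  have hm1 : 1 ≤ m := by omega
  have hzo : orderOf z = 2 := by
    rw [hz, orderOf_pow_of_dvd (by positivity) (by rw [hao]; exact pow_dvd_pow 2 (Nat.sub_le m 1)),
      hao]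
    obtain ⟨j, rfl⟩ : ∃ j, m = j + 1 := ⟨m - 1, by omega⟩
    simp [pow_succ]
  have hzC : z ∈ C := by rw [hCz]; exact Subgroup.pow_mem _ (Subgroup.mem_zpowers a) _
  -- every involution of `C` equals `z`
  have hinvC : ∀ y ∈ C, orderOf y = 2 → y = z := by
    intro y hy hy2
    rw [hCz] at hy
    exact involution_zpowers hm1 hao hy hy2
  -- `x ∉ C`
  have hxC : x ∉ C := by
    intro hxC
    have hall : ∀ g : S, g ∈ A := by
      intro g
      rw [hAmem]
      have h1 : g * x * g⁻¹ ∈ C := hCn.conj_mem x hxC g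
      have h2 : g * x * g⁻¹ = z := hinvC _ h1 (by rw [orderOf_conj_h6]; exact hx)
      have h3 : x = z := hinvC x hxC hx
      rw [← h3] at h2
      calc g * x = (g * x * g⁻¹) * g := by group
        _ = x * g := by rw [h2]
    have : A = ⊤ := by rw [eq_top_iff]; intro g _; exact hall g
    have h4 : Nat.card A = Nat.card S := by rw [this]; exact Subgroup.card_top
    rw [hC, hN] at h4
    have : 2 ^ 3 ≤ 2 ^ (m + 1) := Nat.pow_le_pow_right (by norm_num) hN3'
    omega
  -- `z ∈ A`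
  have hzA : z ∈ A := by
    rw [hAmem]
    have h1 : x * z * x⁻¹ ∈ C := hCn.conj_mem z hzC x
    have h2 : x * z * x⁻¹ = z := hinvC _ h1 (by rw [orderOf_conj_h6]; exact hzo)
    calc z * x = (x * z * x⁻¹) * x := by rw [h2]
      _ = x * z := by group
  -- an element of order 4 in `C` that does not commute with `x`
  set w := a ^ (2 ^ (m - 2)) with hw
  have hwo : orderOf w = 4 := by
    rw [hw, orderOf_pow_of_dvd (by positivity) (by rw [hao]; exact pow_dvd_pow 2 (Nat.sub_le m 2)),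
      hao]
    obtain ⟨j, rfl⟩ : ∃ j, m = j + 2 := ⟨m - 2, by omega⟩
    simp [pow_succ, mul_assoc]
  have hwC : w ∈ C := by rw [hCz]; exact Subgroup.pow_mem _ (Subgroup.mem_zpowers a) _
  have hwA : w ∉ A := by
    intro hwA
    have h1 : Subgroup.zpowers w = A := by
      apply Subgroup.eq_of_le_of_card_ge (Subgroup.zpowers_le.mpr hwA)
      rw [Nat.card_zpowers, hwo, hC]
    apply hxC
    have h2 : x ∈ Subgroup.zpowers w := by rw [h1]; exact hxA
    exact (Subgroup.zpowers_le.mpr hwC) h2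
  -- the action of `x` on `C`
  have hxaC : x * a * x⁻¹ ∈ Subgroup.zpowers a := by
    rw [← hCz]; exact hCn.conj_mem a haC x
  have hfin : IsOfFinOrder a := by rw [← orderOf_pos_iff, hao]; positivity
  rw [← hfin.mem_powers_iff_mem_zpowers, Submonoid.mem_powers_iff] at hxaC
  obtain ⟨r₀, hr₀⟩ := hxaC
  set r := r₀ % 2 ^ m with hr
  have hrlt : r < 2 ^ m := Nat.mod_lt _ (by positivity)
  have hconj : x * a * x⁻¹ = a ^ r := by
    rw [← hr₀, hr, ← hao, pow_mod_orderOf]
  have hconjpow : ∀ k : ℕ, x * a ^ k * x⁻¹ = (a ^ k) ^ r := by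
    intro k
    rw [← conj_pow, hconj, ← pow_mul, ← pow_mul, mul_comm]
  have hrr : a ^ (r * r) = a ^ 1 := by
    rw [pow_one, pow_mul, ← hconj, conj_pow, ← hconj]
    calc x * (x * a * x⁻¹) * x⁻¹ = (x * x) * a * (x * x)⁻¹ := by group
      _ = a := by rw [hxx]; group
  have hmod : r * r ≡ 1 [MOD 2 ^ m] := by
    rw [← hao]; exact pow_eq_pow_iff_modEq.mp hrr
  have hr4 : r % 4 = 3 := by
    have h2 : (r * r) % 2 = 1 % 2 := by
      have := hmod.of_dvd (dvd_pow_self 2 (by omega : m ≠ 0))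
      exact this
    have hodd : r % 2 = 1 := by
      rcases Nat.mod_two_eq_zero_or_one r with h0 | h0
      · rw [Nat.mul_mod, h0] at h2; simp at h2
      · exact h0
    by_contra hne
    have h1 : r % 4 = 1 := by omega
    apply hwA
    rw [hAmem]
    have h3 : x * w * x⁻¹ = w := by
      rw [hw, hconjpow, ← hw, ← pow_mod_orderOf, hwo, h1, pow_one]
    calc w * x = (x * w * x⁻¹) * x := by rw [h3]
      _ = x * w := by group
  rcases arith_qd m r hm2 hrlt hr4 hmod with hcase | ⟨hcase, hm3⟩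
  · -- dihedral
    left
    have hinv : x * a * x⁻¹ = a⁻¹ := by
      rw [hconj, eq_inv_iff_mul_eq_one, ← pow_succ, hcase, ← hao, pow_orderOf_eq_one]
    set y := x * a with hy
    have hyy : y * y = 1 := by
      rw [hy]
      calc x * a * (x * a) = (x * a * x⁻¹) * a := by rw [hxinv]; group
        _ = 1 := by rw [hinv]; group
    have hy1 : y ≠ 1 := by
      intro h0
      apply hxC
      have : x = a⁻¹ := eq_inv_of_mul_eq_one_left h0
      rw [this]; exact C.inv_mem haC
    have hyo : orderOf y = 2 := orderOf_eq_prime (by rw [pow_two]; exact hyy) hy1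
    have hxy : x * y = a := by
      rw [hy, ← mul_assoc, hxx, one_mul]
    have hK : Subgroup.closure ({x, y} : Set S) = ⊤ := by
      have hcoatom : IsCoatom C :=
        Cfsg.Agent.Lib.Lead.isCoatom_of_index_prime (by rw [hCidx]; exact Nat.prime_two)
      apply hcoatom.2
      have hxK : x ∈ Subgroup.closure ({x, y} : Set S) := Subgroup.subset_closure (by simp)
      have hyK : y ∈ Subgroup.closure ({x, y} : Set S) := Subgroup.subset_closure (by simp)
      have haK : a ∈ Subgroup.closure ({x, y} : Set S) := by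
        rw [← hxy]; exact Subgroup.mul_mem _ hxK hyK
      refine lt_of_le_of_ne ?_ ?_
      · rw [hCz]; exact Subgroup.zpowers_le.mpr haK
      · intro h0
        apply hxC
        rw [h0]; exact hxK
    obtain ⟨e⟩ := Cfsg.Agent.Lib.Helper1.DihedralIso.closure_equiv_dihedral x y hx hyo
      (by rw [hxy, hao]; positivity)
    exact ⟨orderOf (x * y),
      ⟨(Subgroup.topEquiv.symm.trans (MulEquiv.subgroupCongr hK.symm)).trans e⟩⟩
  · -- quasi-dihedral
    right; left
    refine ⟨m, hm3, hN, a, x, hao, hx, ?_⟩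
    rw [hconj]
    congr 1
    omega

end Cfsg.Agent.S3224
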