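import Mathlib
import Cfsg.Agent.Lib.Helper6.Kieler
import Cfsg.Agent.Lib.Helper6.ParChar
import Cfsg.Agent.Lib.Lead.CoprimeFrattini
import Cfsg.Statements.S2805

set_option autoImplicit false
open Cfsg

namespace Cfsg.Agent.S2805

open Cfsg.Agent.Lib.Helper3 Cfsg.Agent.Lib.Helper6

section helpers
variable {H : Type*} [Group H]

instance pCore_characteristic' (p : ℕ) : (pCore p H).Characteristic := by
  rw [Subgroup.characteristic_iff_map_eq]
  intro φ
  exact pCore_map_equiv p φ

variable [Finite H] {p : ℕ} [hp : Fact p.Prime]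

theorem charp_of_isSubnormal (hH : Subgroup.centralizer (Cfsg.pCore p H : Set H) ≤ Cfsg.pCore p H)
    {K : Subgroup H} (hK : K.IsSubnormal) :
    Subgroup.centralizer (Cfsg.pCore p K : Set K) ≤ Cfsg.pCore p K := by
  rw [← fstar_eq_pCore_iff_centralizer_le] at hH ⊢
  have h1 : IsPGroup p (Cfsg.generalizedFittingSubgroup H) := by
    rw [hH]; exact Cfsg.Agent.Lib.Helper6.pCore_isPGroup p
  exact generalizedFittingSubgroup_eq_pCore_of_isPGroup
    (isPGroup_generalizedFittingSubgroup_of_isSubnormal hK h1)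

omit [Finite H] hp in
theorem charp_ambient (K : Subgroup H)
    (h : Subgroup.centralizer (Cfsg.pCore p K : Set K) ≤ Cfsg.pCore p K) :
    Subgroup.centralizer (((Cfsg.pCore p K).map K.subtype : Subgroup H) : Set H) ⊓ K ≤
      (Cfsg.pCore p K).map K.subtype := by
  rintro x ⟨hxC, hxK⟩
  refine ⟨⟨x, hxK⟩, h ?_, rfl⟩
  rw [Subgroup.mem_centralizer_iff]
  intro y hy
  apply Subtype.ext
  exact Subgroup.mem_centralizer_iff.mp hxC (y : H) ⟨y, hy, rfl⟩

omit [Finite H] hp in
theorem le_normalizer_map_subtype_of_normal (K : Subgroup H) (N : Subgroup K) [hN : N.Normal] :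
    K ≤ Subgroup.normalizer ((N.map K.subtype : Subgroup H) : Set H) := by
  intro k hk
  rw [Subgroup.mem_normalizer_iff]
  intro x
  constructor
  · rintro ⟨y, hy, rfl⟩
    exact ⟨⟨k, hk⟩ * y * ⟨k, hk⟩⁻¹, hN.conj_mem y hy _, by simp⟩
  · rintro ⟨y, hy, hyx⟩
    refine ⟨⟨k, hk⟩⁻¹ * y * ⟨k, hk⟩, ?_, ?_⟩
    · have := hN.conj_mem y hy ⟨k, hk⟩⁻¹
      simpa using this
    · have : x = k⁻¹ * (y : H) * k := by
        have h1 : (y : H) = k * x * k⁻¹ := hyx
        rw [h1]; group
      rw [this]; simp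

theorem kieler (hH : Subgroup.centralizer (Cfsg.pCore p H : Set H) ≤ Cfsg.pCore p H)
    (T : Sylow p H) {L : Subgroup H} (hL : L.IsSubnormal) :
    L ⊓ Subgroup.centralizer ((omegaZ p (T : Subgroup H) : Subgroup H) : Set H) =
      L ⊓ Subgroup.centralizer ((omegaZ p ((T : Subgroup H) ⊓ L) : Subgroup H) : Set H) := by
  induction hL with
  | top => rw [inf_top_eq]
  | step L K hle hK hN ih =>
    have hS : IsSylowOf p K ((T : Subgroup H) ⊓ K) := isSylowOf_inf_of_isSubnormal T hK
    have hKL : K ≤ Subgroup.normalizer (L : Set H) :=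
      (Subgroup.normal_subgroupOf_iff_le_normalizer hle).mp hN
    have hLsn : L.IsSubnormal := Subgroup.IsSubnormal.step L K hle hK hN
    set Q := (Cfsg.pCore p K).map K.subtype with hQ
    set QE := (Cfsg.pCore p L).map L.subtype with hQE
    haveI : (Cfsg.pCore p K).Normal := inferInstance
    have hQK : Q ≤ K := Subgroup.map_subtype_le _
    have hKQ : K ≤ Subgroup.normalizer (Q : Set H) := le_normalizer_map_subtype_of_normal K _
    have hCQ := charp_ambient K (charp_of_isSubnormal hH hK)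
    have hQp : IsPGroup p Q := (Cfsg.Agent.Lib.Helper6.pCore_isPGroup p).map _
    have hQS : Q ≤ (T : Subgroup H) ⊓ K := hS.normal_le hQp hQK hKQ
    have hQEE : QE ≤ L := Subgroup.map_subtype_le _
    have hKQE : K ≤ Subgroup.normalizer (QE : Set H) :=
      hKL.trans (Cfsg.Agent.Lib.Lead.le_normalizer_map_characteristic L (Cfsg.pCore p L))
    have hCQE := charp_ambient L (charp_of_isSubnormal hH hLsn)
    have hQEp : IsPGroup p QE := (Cfsg.Agent.Lib.Helper6.pCore_isPGroup p).map _
    have hQES : QE ≤ (T : Subgroup H) ⊓ K := hS.normal_le hQEp (hQEE.trans hle) hKQE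
    have key : L ⊓ Subgroup.centralizer ((omegaZ p ((T : Subgroup H) ⊓ K) : Subgroup H) : Set H) =
        L ⊓ Subgroup.centralizer ((omegaZ p (((T : Subgroup H) ⊓ K) ⊓ L) : Subgroup H) : Set H) := by
      apply le_antisymm
      · exact le_inf inf_le_left (kieler_normal_aux2 K L _ QE hQEE hKQE hCQE hQES hS hle hKL)
      · exact le_inf inf_le_left (kieler_normal_aux1 K L _ Q hQK hKQ hCQ hQS hS hle hKL)
    have e1 : ((T : Subgroup H) ⊓ K) ⊓ L = (T : Subgroup H) ⊓ L := by
      rw [inf_assoc, inf_eq_right.mpr hle]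
    rw [e1] at key
    calc L ⊓ Subgroup.centralizer ((omegaZ p (T : Subgroup H) : Subgroup H) : Set H)
        = L ⊓ (K ⊓ Subgroup.centralizer ((omegaZ p (T : Subgroup H) : Subgroup H) : Set H)) := by
          rw [← inf_assoc, inf_eq_left.mpr hle]
      _ = L ⊓ (K ⊓ Subgroup.centralizer ((omegaZ p ((T : Subgroup H) ⊓ K) : Subgroup H) : Set H)) := by
          rw [ih]
      _ = L ⊓ Subgroup.centralizer ((omegaZ p ((T : Subgroup H) ⊓ K) : Subgroup H) : Set H) := by
          rw [← inf_assoc, inf_eq_left.mpr hle]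
      _ = _ := key

end helpers



/-- Kieler's Lemma: let H be a finite group of characteristic p (C_H(O_p(H)) ≤ O_p(H)), T a Sylow p-subgroup of H and L a subnormal subgroup of H. Then C_L(Ω₁(Z(T))) = C_L(Ω₁(Z(T ∩ L))), Ω₁(Z(·)) denoting the elements of order dividing p in the centre. -/
theorem result {H : Type*} [Group H] [Finite H] {p : ℕ} [Fact p.Prime] (hH : Subgroup.centralizer (Cfsg.pCore p H : Set H) ≤ Cfsg.pCore p H) (T : Sylow p H) (L : Subgroup H) (hL : L.IsSubnormal) : L ⊓ Subgroup.centralizer ((Cfsg.omegaOne p ((T : Subgroup H) ⊓ Subgroup.centralizer ((T : Subgroup H) : Set H))) : Set H) = L ⊓ Subgroup.centralizer ((Cfsg.omegaOne p (((T : Subgroup H) ⊓ L) ⊓ Subgroup.centralizer ((((T : Subgroup H) ⊓ L) : Subgroup H) : Set H))) : Set H) := by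
  exact kieler hH T hL

end Cfsg.Agent.S2805
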