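import Mathlib
import Cfsg.Agent.Lib.Helper6.SylowJoin
import Cfsg.Agent.Lib.Helper6.PRes
import Cfsg.Agent.Lib.Helper6.PCore
import Cfsg.Agent.Lib.Helper7.Wielandt4
import Cfsg.Agent.Lib.Helper6.Amalgam3
import Cfsg.Agent.Lib.Lead.CoprimeFrattini
import Cfsg.Statements.S2905

set_option autoImplicit false
open Cfsg

namespace Cfsg.Agent.S2905

open Cfsg.Agent.Lib.Helper6 Cfsg.Agent.Lib.Helper7

section helpers
variable {P : Type*} [Group P] [Finite P] {p : ℕ} [hp : Fact p.Prime]

theorem le_of_ne_top (hP : Cfsg.IsPMinimal p P) (S : Sylow p P) {M : Subgroup P} (hM : IsCoatom M)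
    (hSM : (S : Subgroup P) ≤ M) {X : Subgroup P} (hSX : (S : Subgroup P) ≤ X) (hX : X ≠ ⊤) :
    X ≤ M := by
  obtain ⟨M', hM', hXM'⟩ := (eq_top_or_exists_le_coatom X).resolve_left hX
  obtain ⟨-, M₀, -, huniq⟩ := hP S
  have h1 := huniq M' ⟨hM', hSX.trans hXM'⟩
  have h2 := huniq M ⟨hM, hSM⟩
  rw [h2, ← h1]; exact hXM'

/-- a normal subgroup inside `M` meets `S` in a normal subgroup -/
theorem inf_sylow_normal (hP : Cfsg.IsPMinimal p P) (S : Sylow p P) {M : Subgroup P} (hM : IsCoatom M)
    (hSM : (S : Subgroup P) ≤ M) (N : Subgroup P) [hN : N.Normal] (hNM : N ≤ M) :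
    ((S : Subgroup P) ⊓ N).Normal := by
  have hSyl := isSylowOf_inf_of_isSubnormal S hN.isSubnormal
  obtain ⟨Q, hQ⟩ := hSyl.exists_sylow
  have h1 := Sylow.normalizer_sup_eq_top Q
  rw [hQ] at h1
  rw [← Subgroup.normalizer_eq_top_iff]
  by_contra hne
  have hSle : (S : Subgroup P) ≤ Subgroup.normalizer (((S : Subgroup P) ⊓ N : Subgroup P) : Set P) := by
    refine le_trans ?_ (normalizer_inf_le' (S : Subgroup P) N)
    rw [Subgroup.normalizer_eq_top_iff.mpr hN]
    exact le_inf Subgroup.le_normalizer le_top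
  have h2 := le_of_ne_top hP S hM hSM hSle hne
  have : (⊤ : Subgroup P) ≤ M := h1 ▸ sup_le h2 hNM
  exact hM.1 (top_le_iff.mp this)


omit [Finite P] hp in
theorem normalizer_inf_le_normalizer_sup'' (A B : Subgroup P) :
    Subgroup.normalizer (A : Set P) ⊓ Subgroup.normalizer (B : Set P) ≤
      Subgroup.normalizer ((A ⊔ B : Subgroup P) : Set P) := by
  intro g hg
  rw [mem_normalizer_iff_cj, cj_sup, mem_normalizer_iff_cj.mp hg.1, mem_normalizer_iff_cj.mp hg.2]

/-- for a prime `q ≠ p`: a Sylow `p`-subgroup `S₂` and a Sylow `q`-subgroup `Pq` with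
`S₂` normalizing `Q ⊔ Pq`, where `Q` is the normal Sylow `p`-subgroup of `O^p(P)` -/
theorem exists_sylow_pair (hT : ∀ T : Sylow p ↥(Cfsg.pResidual p P),
      (T : Subgroup ↥(Cfsg.pResidual p P)).Normal) (q : ℕ) [hq : Fact q.Prime] (hqp : q ≠ p) :
    ∃ (Q : Subgroup P) (S₂ : Sylow p P) (Pq : Sylow q P), Q.Normal ∧ IsPGroup p Q ∧
      (S₂ : Subgroup P) ≤ Subgroup.normalizer ((Q ⊔ (Pq : Subgroup P) : Subgroup P) : Set P) := by
  set R := Cfsg.pResidual p P with hR
  haveI hRn : R.Normal := pResidual_normal' p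
  obtain ⟨T₀⟩ : Nonempty (Sylow p ↥R) := inferInstance
  haveI hT₀c : (T₀ : Subgroup ↥R).Characteristic := T₀.characteristic_of_normal (hT T₀)
  set Q := (T₀ : Subgroup ↥R).map R.subtype with hQ
  have hQn : Q.Normal := by
    rw [← Subgroup.normalizer_eq_top_iff, eq_top_iff]
    refine le_trans ?_ (Cfsg.Agent.Lib.Lead.le_normalizer_map_characteristic R (T₀ : Subgroup ↥R))
    rw [Subgroup.normalizer_eq_top_iff.mpr hRn]
  have hQp : IsPGroup p Q := T₀.isPGroup'.map _
  have hQS : IsSylowOf p R Q := isSylowOf_of_sylow T₀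
  obtain ⟨Pq⟩ : Nonempty (Sylow q P) := inferInstance
  have hPqR : (Pq : Subgroup P) ≤ R := by
    intro x hx
    apply mem_pResidual_of_coprime'
    obtain ⟨k, hk⟩ := (IsPGroup.iff_orderOf.mp Pq.isPGroup') ⟨x, hx⟩
    have hk' : orderOf x = q ^ k := by rw [← hk]; simp
    rw [hk']
    exact Nat.Coprime.pow_left k ((Nat.coprime_primes hq.out hp.out).mpr hqp)
  have hPqS : IsSylowOf q R (Pq : Subgroup P) :=
    ⟨hPqR, Pq.isPGroup', fun X hX _ hle => Pq.is_maximal' hX hle⟩
  obtain ⟨Q', hQ'⟩ := hPqS.exists_sylow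
  have hfrat := Sylow.normalizer_sup_eq_top Q'
  rw [hQ'] at hfrat
  set N := Subgroup.normalizer ((Pq : Subgroup P) : Set P) with hN
  obtain ⟨S₁, hS₁⟩ := exists_isSylowOf p N
  obtain ⟨S₂, hS₂⟩ := hS₁.2.1.exists_le_sylow
  have hS₂N : (S₂ : Subgroup P) ⊓ N = S₁ :=
    hS₁.2.2 _ (S₂.isPGroup'.to_le inf_le_left) inf_le_right (le_inf hS₂ hS₁.1)
  have hS₂R : (S₂ : Subgroup P) ⊓ R = Q := by
    have h1 : Q ≤ (S₂ : Subgroup P) ⊓ R := by
      haveI := hQn
      exact le_inf (hQp.le_sylow_of_normal S₂) hQS.1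
    exact hQS.2.2 _ (S₂.isPGroup'.to_le inf_le_left) inf_le_right h1
  have h2 := sylow_le_sup_of_normal S₂ (A := R) (B := N) (by rw [sup_comm]; exact hfrat)
    (by rw [hS₂N]; exact hS₁)
  rw [hS₂N, hS₂R] at h2
  refine ⟨Q, S₂, Pq, hQn, hQp, h2.trans (sup_le ?_ ?_)⟩
  · exact (le_sup_left : Q ≤ Q ⊔ (Pq : Subgroup P)).trans Subgroup.le_normalizer
  · refine le_trans ?_ (normalizer_inf_le_normalizer_sup'' Q (Pq : Subgroup P))
    refine le_inf ?_ hS₁.1
    rw [Subgroup.normalizer_eq_top_iff.mpr hQn]; exact le_top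

end helpers



/-- Let P be a finite p-minimal group (a Sylow p-subgroup S is not normal and lies in a unique maximal subgroup M of P) and let F be the normal core of M. Then: every subnormal subgroup N of P contained in M satisfies N ∩ S ≤ O_p(P); if O^p(P) has a normal Sylow p-subgroup then the order of P has at most two prime divisors; every normal subgroup N of P either contains O^p(P) or is contained in F; and O^p(P)F ⧸ F is a minimal normal subgroup of P ⧸ F. -/
theorem result {P : Type*} [Group P] [Finite P] {p : ℕ} [Fact p.Prime] (hP : Cfsg.IsPMinimal p P) (S : Sylow p P) (M : Subgroup P) (hM : IsCoatom M) (hSM : (S : Subgroup P) ≤ M) [hF : M.normalCore.Normal] : (∀ N : Subgroup P, N.IsSubnormal → N ≤ M → N ⊓ (S : Subgroup P) ≤ Cfsg.pCore p P) ∧ ((∀ T : Sylow p ↥(Cfsg.pResidual p P), (T : Subgroup ↥(Cfsg.pResidual p P)).Normal) → (Nat.card P).primeFactors.card ≤ 2) ∧ (∀ N : Subgroup P, N.Normal → Cfsg.pResidual p P ≤ N ∨ N ≤ M.normalCore) ∧ (∀ N : Subgroup P, N.Normal → M.normalCore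 ≤ N → N ≤ Cfsg.pResidual p P ⊔ M.normalCore → N = M.normalCore ∨ N = Cfsg.pResidual p P ⊔ M.normalCore) ∧ M.normalCore < Cfsg.pResidual p P ⊔ M.normalCore := by
  have h3 : ∀ N : Subgroup P, N.Normal → Cfsg.pResidual p P ≤ N ∨ N ≤ M.normalCore := by
    intro N hN
    by_cases hNS : (S : Subgroup P) ⊔ N = ⊤
    · left
      haveI := hN
      exact pResidual_le_of_isPGroup_quotient N
        (isPGroup_quotient_of_sylow_sup_eq_top N (S : Subgroup P) S.isPGroup' hNS)
    · right
      have h1 := le_of_ne_top hP S hM hSM le_sup_left hNS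
      exact (Subgroup.normal_le_normalCore (hN := hN)).mpr (le_sup_right.trans h1)
  refine ⟨?_, ?_, h3, ?_, ?_⟩
  · intro N hNsn hNM
    have hN₀n : (bigSub M).Normal := bigSub_normal_of_isCoatom M hM
    haveI := hN₀n
    have h1 : N ≤ bigSub M := le_bigSub hNsn hNM
    have h2 := inf_sylow_normal hP S hM hSM (bigSub M) (bigSub_le M)
    have h4 : (S : Subgroup P) ⊓ bigSub M ≤ Cfsg.pCore p P :=
      le_pCore h2 (S.isPGroup'.to_le inf_le_left)
    rw [inf_comm]
    exact (inf_le_inf_left _ h1).trans h4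
  · intro hT
    -- either some `{p,q}`-subgroup containing a Sylow `p`-subgroup is everything ...
    by_cases hex : ∃ (q : ℕ) (_ : Fact q.Prime) (Q : Subgroup P) (S₂ : Sylow p P) (Pq : Sylow q P),
        q ≠ p ∧ Q.Normal ∧ IsPGroup p Q ∧
        (S₂ : Subgroup P) ≤ Subgroup.normalizer ((Q ⊔ (Pq : Subgroup P) : Subgroup P) : Set P) ∧
        (Q ⊔ (Pq : Subgroup P)) ⊔ (S₂ : Subgroup P) = ⊤
    · obtain ⟨q, hq, Q, S₂, Pq, hqp, hQn, hQp, hS₂Y, htop⟩ := hex
      haveI := hq
      haveI := hQn
      have hYn : (Q ⊔ (Pq : Subgroup P)).Normal := by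
        rw [← Subgroup.normalizer_eq_top_iff, eq_top_iff, ← htop]
        exact sup_le Subgroup.le_normalizer hS₂Y
      have hsub : (Nat.card P).primeFactors ⊆ {p, q} := by
        intro r hr
        have hrp : r.Prime := Nat.prime_of_mem_primeFactors hr
        haveI : Fact r.Prime := ⟨hrp⟩
        have hrd : r ∣ Nat.card P := Nat.dvd_of_mem_primeFactors hr
        by_contra hcon
        simp only [Finset.mem_insert, Finset.mem_singleton, not_or] at hcon
        obtain ⟨x, hx⟩ := exists_prime_orderOf_dvd_card' r hrd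
        have hcp : Nat.Coprime (orderOf x) p := by
          rw [hx]; exact (Nat.coprime_primes hrp Fact.out).mpr hcon.1
        have hcq : Nat.Coprime (orderOf x) q := by
          rw [hx]; exact (Nat.coprime_primes hrp Fact.out).mpr hcon.2
        have hxY : x ∈ Q ⊔ (Pq : Subgroup P) := by
          haveI := hYn
          exact mem_of_coprime_of_mem_sup _ S₂.isPGroup' hcp (by rw [htop]; exact Subgroup.mem_top x)
        have hxQ : x ∈ Q := mem_of_coprime_of_mem_sup Q Pq.isPGroup' hcq hxY
        obtain ⟨k, hk⟩ := (IsPGroup.iff_orderOf.mp hQp) ⟨x, hxQ⟩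
        have hk' : orderOf x = p ^ k := by rw [← hk]; simp
        rw [hx] at hk'
        have : r = p := by
          have hdvd : r ∣ p ^ k := by rw [← hk']
          exact (Nat.prime_dvd_prime_iff_eq hrp Fact.out).mp (hrp.dvd_of_dvd_pow hdvd)
        exact hcon.1 this
      calc (Nat.card P).primeFactors.card ≤ ({p, q} : Finset ℕ).card := Finset.card_le_card hsub
        _ ≤ 2 := Finset.card_le_two
    · -- ... or `M` contains a Sylow `q`-subgroup for every prime `q`
      exfalso
      push Not at hex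
      have hidx : M.index = 1 := by
        by_contra hne
        obtain ⟨q, hqprime, hqdvd⟩ := Nat.exists_prime_and_dvd hne
        haveI hq : Fact q.Prime := ⟨hqprime⟩
        by_cases hqp : q = p
        · subst hqp
          exact S.not_dvd_index (hqdvd.trans (Subgroup.index_dvd_of_le hSM))
        · obtain ⟨Q, S₂, Pq, hQn, hQp, hS₂Y⟩ := exists_sylow_pair hT q hqp
          have hne_top := hex q hq Q S₂ Pq hqp hQn hQp hS₂Y
          obtain ⟨g, hg⟩ := MulAction.exists_smul_eq P S₂ S
          have hgS : cj g (S₂ : Subgroup P) = S := by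
            rw [← hg, sylow_smul_eq_map_conj]
          set X := (Q ⊔ (Pq : Subgroup P)) ⊔ (S₂ : Subgroup P) with hX
          have hX' : cj g X ≠ ⊤ := by
            intro h
            apply hne_top
            have := congrArg (cj g⁻¹) h
            rw [cj_inv_cj] at this
            rw [this]
            exact Subgroup.map_top_of_surjective _ (MulAut.conj g⁻¹).surjective
          have hSX : (S : Subgroup P) ≤ cj g X := by
            rw [← hgS]; exact cj_mono g le_sup_right
          have hXM := le_of_ne_top hP S hM hSM hSX hX'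
          have hPqM : ((g • Pq : Sylow q P) : Subgroup P) ≤ M := by
            rw [sylow_smul_eq_map_conj]
            exact (cj_mono g (le_sup_right.trans le_sup_left)).trans hXM
          exact (g • Pq).not_dvd_index (hqdvd.trans (Subgroup.index_dvd_of_le hPqM))
      exact hM.1 (Subgroup.index_eq_one.mp hidx)
  · intro N hN hFN hNR
    rcases h3 N hN with h | h
    · right
      exact le_antisymm hNR (sup_le h hFN)
    · left
      exact le_antisymm h hFN
  · refine lt_of_le_of_ne le_sup_right ?_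
    intro h
    have h1 : Cfsg.pResidual p P ≤ M := by
      have : Cfsg.pResidual p P ≤ M.normalCore := by rw [h]; exact le_sup_left
      exact this.trans (Subgroup.normalCore_le M)
    have h2 := pResidual_sup_sylow S
    have : (⊤ : Subgroup P) ≤ M := h2 ▸ sup_le h1 hSM
    exact hM.1 (top_le_iff.mp this)


end Cfsg.Agent.S2905
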