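import Mathlib
-- Template for statement S1265 (row 1265; see /opt/grader/pristine/manifest.json for weights).
-- Copy to Cfsg/Agent/S1265.lean and replace the sorry. The statement below is byte-identical to the frozen
-- statement Cfsg.CfsgFrozen.S1265 (Cfsg/Statements/S1265.lean; the theorem Cfsg.centralizer_generalized_fitting_le);
-- the grader kernel-checks Cfsg.Agent.S1265.result against that frozen type. Keep the theorem IN THIS FILE
-- (a `result` declared elsewhere and merely imported here is not credited); helpers may live anywhere
-- under Cfsg/Agent/.
import Cfsg.Statements.S1265
import Cfsg.Agent.Lib.Helper3.Components7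

set_option autoImplicit false
open Cfsg

namespace Cfsg.Agent.S1265

/-- For a finite group G, the centralizer of the generalized Fitting subgroup F*(G) is contained in F*(G). -/
theorem result {G : Type*} [Group G] [Finite G] : Subgroup.centralizer (Cfsg.generalizedFittingSubgroup G : Set G) ≤ Cfsg.generalizedFittingSubgroup G := by
  exact Cfsg.Agent.Lib.Helper3.centralizer_generalizedFittingSubgroup_le

end Cfsg.Agent.S1265
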