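import Mathlib
import Cfsg.Statements.S1184
import Cfsg.Agent.Lib.Helper3.Isolated

set_option autoImplicit false
open Cfsg
open Cfsg.Agent.Lib.Helper3

namespace Cfsg.Agent.S1184

theorem result {G : Type*} [Group G] [Finite G] (z : G) (hz : Cfsg.IsIsolatedInvolution z) (g h : G) (hne : g * z * g⁻¹ ≠ h * z * h⁻¹) : ¬ Commute (g * z * g⁻¹ * (h * z * h⁻¹)) z := by
  intro hcomm
  have hzz := IsIsolatedInvolution.mul_self hz
  have hodd1 : Odd (orderOf (z * (g * z * g⁻¹))) := IsIsolatedInvolution.odd_orderOf_mul_conj hz g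
  have hdodd := IsIsolatedInvolution.odd_orderOf_conj_mul_conj hz g h
  have haa : (g * z * g⁻¹) * (g * z * g⁻¹) = 1 := conj_mul_self hzz g
  have hbb : (h * z * h⁻¹) * (h * z * h⁻¹) = 1 := conj_mul_self hzz h
  generalize g * z * g⁻¹ = a at *
  generalize h * z * h⁻¹ = b at *
  have hainv : a⁻¹ = a := inv_eq_of_mul_eq_one_right haa
  have hbinv : b⁻¹ = b := inv_eq_of_mul_eq_one_right hbb
  -- z * a inverts d = a * b
  have hinv : (z * a) * (a * b) * (z * a)⁻¹ = (a * b)⁻¹ := by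
    have h1 : a * (a * b) * a⁻¹ = (a * b)⁻¹ := by
      rw [mul_inv_rev, hainv, hbinv]
      calc a * (a * b) * a = (a * a) * b * a := by simp only [mul_assoc]
        _ = b * a := by rw [haa, one_mul]
    have h2 : z * (a * b)⁻¹ * z⁻¹ = (a * b)⁻¹ := by
      have := hcomm.eq
      have h3 : z * (a * b) * z⁻¹ = a * b := by
        rw [← this]; group
      calc z * (a * b)⁻¹ * z⁻¹ = (z * (a * b) * z⁻¹)⁻¹ := by group
        _ = (a * b)⁻¹ := by rw [h3]
    calc (z * a) * (a * b) * (z * a)⁻¹ = z * (a * (a * b) * a⁻¹) * z⁻¹ := by group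
      _ = (a * b)⁻¹ := by rw [h1, h2]
  have hdd := mul_self_eq_one_of_odd_inverts _ _ hinv hodd1
  have hd1 := eq_one_of_odd_of_mul_self _ hdodd hdd
  apply hne
  calc a = b⁻¹ := eq_inv_of_mul_eq_one_left hd1
    _ = b := hbinv

end Cfsg.Agent.S1184
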