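import Cfsg.Statements.S0754
import Mathlib


set_option autoImplicit false
open Cfsg

namespace Cfsg.Agent.S0754

/-- In a field F with q^2 elements, every non-zero μ with μ^q = μ (that is, μ in the subfield of order q) has exactly q + 1 solutions λ of λ^(q+1) = μ. -/
theorem result {F : Type*} [Field F] [Fintype F] {q : ℕ} (hF : Fintype.card F = q ^ 2) (μ : F) (hμ : μ ≠ 0) (hμq : μ ^ q = μ) : Nat.card {x : F // x ^ (q + 1) = μ} = q + 1 := by
  classical
  have hq2 : 2 ≤ q := by
    have h1 : 1 < Fintype.card F := Fintype.one_lt_card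
    rw [hF] at h1
    by_contra h
    have : q = 0 ∨ q = 1 := by omega
    rcases this with rfl | rfl <;> simp at h1
  have hfac : q ^ 2 - 1 = (q - 1) * (q + 1) := by
    obtain ⟨k, rfl⟩ : ∃ k, q = k + 1 := ⟨q - 1, by omega⟩
    have : (k + 1) ^ 2 = (k + 1 - 1) * (k + 1 + 1) + 1 := by
      simp only [Nat.add_sub_cancel]; ring
    omega
  have hcardU : Nat.card Fˣ = (q - 1) * (q + 1) := by
    rw [Nat.card_eq_fintype_card, Fintype.card_units, hF, hfac]
  set N : Fˣ →* Fˣ := powMonoidHom (q + 1) with hN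
  have hker : Nat.card N.ker = q + 1 := by
    rw [hN, IsCyclic.card_powMonoidHom_ker, hcardU]
    exact Nat.gcd_mul_left_left _ _
  have hrange : Nat.card N.range = q - 1 := by
    rw [hN, IsCyclic.card_powMonoidHom_range, hcardU, Nat.gcd_mul_left_left]
    exact Nat.mul_div_cancel _ (by omega)
  set R' : Subgroup Fˣ := (powMonoidHom (q - 1) : Fˣ →* Fˣ).ker with hR'
  have hR'card : Nat.card R' = q - 1 := by
    rw [hR', IsCyclic.card_powMonoidHom_ker, hcardU]
    exact Nat.gcd_mul_right_left _ _
  have hle : N.range ≤ R' := by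
    rintro _ ⟨x, rfl⟩
    rw [hR', MonoidHom.mem_ker]
    show (x ^ (q + 1)) ^ (q - 1) = 1
    rw [← pow_mul, mul_comm, ← hcardU]
    exact pow_card_eq_one'
  have heq : N.range = R' := Subgroup.eq_of_le_of_card_ge hle (by rw [hrange, hR'card])
  set μu : Fˣ := Units.mk0 μ hμ with hμu
  have hμR : μu ∈ R' := by
    rw [hR', MonoidHom.mem_ker]
    show μu ^ (q - 1) = 1
    apply Units.ext
    rw [Units.val_pow_eq_pow_val, Units.val_one, hμu, Units.val_mk0]
    have : μ ^ (q - 1) * μ = 1 * μ := by
      rw [← pow_succ, Nat.sub_add_cancel (by omega), hμq, one_mul]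
    exact mul_right_cancel₀ hμ this
  rw [← heq] at hμR
  obtain ⟨x0, hx0⟩ := hμR
  have hx0' : x0 ^ (q + 1) = μu := hx0
  have hx0F : (x0 : F) ^ (q + 1) = μ := by
    have := congrArg Units.val hx0'
    rwa [Units.val_pow_eq_pow_val, hμu, Units.val_mk0] at this
  have hne : ∀ x : {x : F // x ^ (q + 1) = μ}, x.1 ≠ 0 := by
    intro x h0
    have := x.2
    rw [h0, zero_pow (by omega)] at this
    exact hμ this.symm
  have e : {x : F // x ^ (q + 1) = μ} ≃ N.ker :=
    { toFun := fun x => ⟨Units.mk0 x.1 (hne x) / x0, by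
        rw [MonoidHom.mem_ker]
        show (Units.mk0 x.1 (hne x) / x0) ^ (q + 1) = 1
        rw [div_pow, hx0', div_eq_one]
        apply Units.ext
        rw [Units.val_pow_eq_pow_val, Units.val_mk0, hμu, Units.val_mk0]
        exact x.2⟩
      invFun := fun k => ⟨((k.1 * x0 : Fˣ) : F), by
        have hk : k.1 ^ (q + 1) = 1 := MonoidHom.mem_ker.mp k.2
        rw [← Units.val_pow_eq_pow_val, mul_pow, hk, one_mul, Units.val_pow_eq_pow_val, hx0F]⟩
      left_inv := fun x => by
        apply Subtype.ext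
        simp
      right_inv := fun k => by
        apply Subtype.ext
        apply Units.ext
        simp }
  rw [Nat.card_congr e, hker]

end Cfsg.Agent.S0754
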