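import Cfsg.Statements.S0292
import Mathlib
import Cfsg.Agent.Lib.Helper2.CentOmega6
import Cfsg.Agent.Lib.Helper2.OrthCard1
import Cfsg.Agent.S0286

set_option autoImplicit false
open Cfsg

namespace Cfsg.Agent.S0292

/-- 2 |PΩ_{2m+1}(q)| = q^(m^2) prod_{i=1}^{m} (q^(2i) - 1), for q odd and m at least 3 (type B_m). -/
theorem result {F : Type*} [Field F] [Fintype F] {q : ℕ} (hF : Fintype.card F = q) (hodd : Odd q) (m : ℕ) (hm : 3 ≤ m) : 2 * Nat.card (Cfsg.POmega F (Cfsg.quadFormOdd m F)) = q ^ (m ^ 2) * ∏ i ∈ Finset.range m, (q ^ (2 * (i + 1)) - 1) := by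
  classical
  subst hF
  have h2 : (2 : F) ≠ 0 := by
    intro h
    have hch : ringChar F = 2 :=
      CharP.ringChar_of_prime_eq_zero Nat.prime_two (by exact_mod_cast h)
    have := FiniteField.even_card_of_char_two hch
    rw [Nat.odd_iff] at hodd
    omega
  have hcoe := Cfsg.Agent.Lib.Helper2.OrthCard.QOd_coe (F := F) m
  have hO := Cfsg.Agent.S0286.result (F := F) rfl hodd m
  have hcard : Fintype.card (Unit ⊕ (Fin m ⊕ Fin m)) = 2 * m + 1 := by
    rw [Fintype.card_sum, Fintype.card_sum, Fintype.card_fin, Fintype.card_unit]; omega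
  have hn : 6 ≤ Fintype.card (Unit ⊕ (Fin m ⊕ Fin m)) := by rw [hcard]; omega
  have hQ : (QuadraticMap.polarBilin (Cfsg.Agent.Lib.Helper2.OrthCard.QOd m F)).Nondegenerate :=
    Cfsg.Agent.Lib.Helper2.OrthCard.QOd_nondeg h2 m
  have hmain := Cfsg.Agent.Lib.Helper2.CentO.card_eq (Q := Cfsg.Agent.Lib.Helper2.OrthCard.QOd m F)
  have e : 2 * Fintype.card F ^ (m ^ 2) *
      ∏ i ∈ Finset.range m, (Fintype.card F ^ (2 * (i + 1)) - 1) =
      2 * (Fintype.card F ^ (m ^ 2) *
      ∏ i ∈ Finset.range m, (Fintype.card F ^ (2 * (i + 1)) - 1)) := by ring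
  rw [e] at hO
  have hidx := Cfsg.Agent.Lib.Helper2.CentO.index_odd h2 hQ (by omega)
  have hmem : Cfsg.Agent.Lib.Helper2.Spinor.negOne (Cfsg.Agent.Lib.Helper2.OrthCard.QOd m F) ∉
      Cfsg.Omega F ⇑(Cfsg.Agent.Lib.Helper2.OrthCard.QOd m F) := by
    intro hmem
    have h1 := (Cfsg.Agent.Lib.Helper2.Spinor.mem_commutator_iff h2 hQ (by omega) _).1 hmem
    have h3 := congrArg Prod.fst h1
    unfold Cfsg.Agent.Lib.Helper2.Spinor.Phi at h3
    rw [MonoidHom.prod_apply] at h3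
    simp only [Prod.fst_one, MonoidHom.comp_apply, Subgroup.coe_subtype] at h3
    have h4 := congrArg Units.val h3
    rw [Matrix.GeneralLinearGroup.val_det_apply, Cfsg.Agent.Lib.Helper2.Spinor.negOne_coe,
      Matrix.det_neg, Matrix.det_one, mul_one, Units.val_one, hcard] at h4
    have h5 : (-1 : F) ^ (2 * m + 1) = -1 := by
      rw [pow_succ, pow_mul]; simp
    rw [h5] at h4
    apply h2
    linear_combination (-1 : F) * h4
  have hZ := Cfsg.Agent.Lib.Helper2.CentO.card_center_of_not hQ hn (Or.inr hmem)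
  rw [hidx, hZ, hcoe, hO] at hmain
  omega

end Cfsg.Agent.S0292
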