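import Cfsg.Statements.S0790
import Mathlib
import Cfsg.Agent.Lib.Helper2.Spinor6
import Cfsg.Agent.Lib.Helper2.QuadStd

set_option autoImplicit false
open Cfsg

namespace Cfsg.Agent.S0790

/-- −1 ∈ Ω⁺_2m(q) iff q^m ≡ 1 (mod 4), for q odd and m ≥ 1 (so that in the other case SO⁺_2m(q) = 2 × Ω⁺_2m(q)). -/
theorem result {F : Type*} [Field F] [Fintype F] {q : ℕ} (hF : Fintype.card F = q) (hodd : Odd q) (m : ℕ) (hm : 1 ≤ m) : (∃ g : ↥(Cfsg.isometryGroup F (Cfsg.quadFormPlus m F)), g ∈ Cfsg.Omega F (Cfsg.quadFormPlus m F) ∧ ((g : Matrix.GeneralLinearGroup (Fin m ⊕ Fin m) F) : Matrix (Fin m ⊕ Fin m) (Fin m ⊕ Fin m) F) = -1) ↔ q ^ m % 4 = 1 := by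
  classical
  have hchar : ringChar F ≠ 2 := by
    intro h
    have := FiniteField.even_card_of_char_two h
    rw [hF] at this
    rcases hodd with ⟨k, hk⟩
    omega
  have h2 : (2 : F) ≠ 0 := Ring.two_ne_zero hchar
  have hcoe := Cfsg.Agent.Lib.Helper2.QuadStd.QP_coe (F := F) m
  rw [← hcoe]
  have hn : 2 ≤ Fintype.card (Fin m ⊕ Fin m) := by
    rw [Fintype.card_sum, Fintype.card_fin]; omega
  have heven : Even (Fintype.card (Fin m ⊕ Fin m)) := by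
    rw [Fintype.card_sum, Fintype.card_fin]; exact ⟨m, rfl⟩
  have hmain := Cfsg.Agent.Lib.Helper2.Spinor.negOne_mem_commutator_iff (Q := Cfsg.Agent.Lib.Helper5.QuadGlue.QP m F) h2
    (Cfsg.Agent.Lib.Helper2.QuadStd.QP_nondeg m) hn heven
  have hex : (∃ g : ↥(Cfsg.isometryGroup F ⇑(Cfsg.Agent.Lib.Helper5.QuadGlue.QP m F)),
      g ∈ Cfsg.Omega F ⇑(Cfsg.Agent.Lib.Helper5.QuadGlue.QP m F) ∧
      ((g : Matrix.GeneralLinearGroup (Fin m ⊕ Fin m) F) : Matrix (Fin m ⊕ Fin m) (Fin m ⊕ Fin m) F) = -1) ↔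
      Cfsg.Agent.Lib.Helper2.Spinor.negOne (Cfsg.Agent.Lib.Helper5.QuadGlue.QP m F) ∈
        commutator ↥(Cfsg.isometryGroup F ⇑(Cfsg.Agent.Lib.Helper5.QuadGlue.QP m F)) := by
    constructor
    · rintro ⟨g, hg, hg1⟩
      rw [← Cfsg.Agent.Lib.Helper2.Spinor.eq_negOne_of_coe g hg1]
      exact hg
    · intro h
      exact ⟨_, h, Cfsg.Agent.Lib.Helper2.Spinor.negOne_coe _⟩
  rw [hex, hmain]
  have hcount : Fintype.card {x : Fin m ⊕ Fin m → F // (Cfsg.Agent.Lib.Helper5.QuadGlue.QP m F) x = 1} =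
      (q ^ m - 1) * q ^ (m - 1) := by
    rw [Fintype.card_subtype]
    have h := Cfsg.Agent.Lib.Helper1.card_hyperbolic_eq (F := F) m 1
    rw [if_neg one_ne_zero, zero_add, hF] at h
    rw [← h]
    congr 1
    ext v
    simp only [Finset.mem_filter, Finset.mem_univ, true_and]
    rw [Cfsg.Agent.Lib.Helper5.QuadGlue.QP_apply]
    rfl
  rw [hcount]
  have hcop : Nat.Coprime 4 (q ^ (m - 1)) := by
    apply Nat.Coprime.pow_right
    have : Nat.Coprime 2 q := Nat.coprime_two_left.2 hodd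
    exact Nat.Coprime.pow_left 2 this
  rw [hcop.dvd_mul_right]
  have hoddm : Odd (q ^ m) := hodd.pow
  rcases hoddm with ⟨k, hk⟩
  rw [hk]
  omega

end Cfsg.Agent.S0790
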