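import Cfsg.Statements.S0791
import Mathlib
import Cfsg.Agent.Lib.Helper2.Spinor6
import Cfsg.Agent.Lib.Helper2.QuadStd2

set_option autoImplicit false
open Cfsg

namespace Cfsg.Agent.S0791

/-- −1 ∈ Ω⁻_2m(q) iff q^m ≡ −1 (mod 4), for q odd and m ≥ 1; for the minus-type form quadFormMinus (m−1) with anisotropic binary part. -/
theorem result {F : Type*} [Field F] [Fintype F] {q : ℕ} (hF : Fintype.card F = q) (hodd : Odd q) (m : ℕ) (hm : 1 ≤ m) (a b : F) (hab : ∀ z₁ z₂ : F, z₁ ^ 2 + a * z₁ * z₂ + b * z₂ ^ 2 = 0 → z₁ = 0 ∧ z₂ = 0) : (∃ g : ↥(Cfsg.isometryGroup F (Cfsg.quadFormMinus (m - 1) F a b)), g ∈ Cfsg.Omega F (Cfsg.quadFormMinus (m - 1) F a b) ∧ ((g : Matrix.GeneralLinearGroup ((Fin (m - 1) ⊕ Fin (m - 1)) ⊕ Fin 2) F) : Matrix ((Fin (m - 1) ⊕ Fin (m - 1)) ⊕ Fin 2) ((Fin (m - 1) ⊕ Fin (m - 1)) ⊕ Fin 2) F) = -1) ↔ q ^ m % 4 = 3 := by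
  classical
  have hchar : ringChar F ≠ 2 := by
    intro h
    have := FiniteField.even_card_of_char_two h
    rw [hF] at this
    rcases hodd with ⟨k, hk⟩
    omega
  have h2 : (2 : F) ≠ 0 := Ring.two_ne_zero hchar
  have hcoe := Cfsg.Agent.Lib.Helper2.QuadStd.QM_coe (F := F) (m - 1) a b
  rw [← hcoe]
  have hn : 2 ≤ Fintype.card ((Fin (m - 1) ⊕ Fin (m - 1)) ⊕ Fin 2) := by
    rw [Fintype.card_sum, Fintype.card_sum, Fintype.card_fin, Fintype.card_fin]; omega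
  have heven : Even (Fintype.card ((Fin (m - 1) ⊕ Fin (m - 1)) ⊕ Fin 2)) := by
    rw [Fintype.card_sum, Fintype.card_sum, Fintype.card_fin, Fintype.card_fin]
    exact ⟨m - 1 + 1, by ring⟩
  have hmain := Cfsg.Agent.Lib.Helper2.Spinor.negOne_mem_commutator_iff
    (Q := Cfsg.Agent.Lib.Helper5.QuadGlue.QM (m - 1) F a b) h2
    (Cfsg.Agent.Lib.Helper2.QuadStd.QM_nondeg h2 (m - 1) a b hab) hn heven
  have hex : (∃ g : ↥(Cfsg.isometryGroup F ⇑(Cfsg.Agent.Lib.Helper5.QuadGlue.QM (m - 1) F a b)),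
      g ∈ Cfsg.Omega F ⇑(Cfsg.Agent.Lib.Helper5.QuadGlue.QM (m - 1) F a b) ∧
      ((g : Matrix.GeneralLinearGroup ((Fin (m - 1) ⊕ Fin (m - 1)) ⊕ Fin 2) F) :
        Matrix ((Fin (m - 1) ⊕ Fin (m - 1)) ⊕ Fin 2) ((Fin (m - 1) ⊕ Fin (m - 1)) ⊕ Fin 2) F) = -1) ↔
      Cfsg.Agent.Lib.Helper2.Spinor.negOne (Cfsg.Agent.Lib.Helper5.QuadGlue.QM (m - 1) F a b) ∈
        commutator ↥(Cfsg.isometryGroup F ⇑(Cfsg.Agent.Lib.Helper5.QuadGlue.QM (m - 1) F a b)) := by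
    constructor
    · rintro ⟨g, hg, hg1⟩
      rw [← Cfsg.Agent.Lib.Helper2.Spinor.eq_negOne_of_coe g hg1]
      exact hg
    · intro h
      exact ⟨_, h, Cfsg.Agent.Lib.Helper2.Spinor.negOne_coe _⟩
  rw [hex, hmain, Cfsg.Agent.Lib.Helper2.QuadStd.card_minus_eq (m - 1) a b hab 1 one_ne_zero, hF]
  have hm1 : m - 1 + 1 = m := by omega
  rw [hm1]
  have hcop : Nat.Coprime 4 (q ^ (m - 1)) := by
    apply Nat.Coprime.pow_right
    have : Nat.Coprime 2 q := Nat.coprime_two_left.2 hodd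
    exact Nat.Coprime.pow_left 2 this
  rw [hcop.dvd_mul_left]
  have hoddm : Odd (q ^ m) := hodd.pow
  rcases hoddm with ⟨k, hk⟩
  rw [hk]
  omega

end Cfsg.Agent.S0791
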