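import Cfsg.Statements.S0294
import Mathlib
import Cfsg.Agent.Lib.Helper2.CentOmega6
import Cfsg.Agent.Lib.Helper2.OrthCard1
import Cfsg.Agent.S0288
import Cfsg.Agent.S0791

set_option autoImplicit false
open Cfsg

namespace Cfsg.Agent.S0294

/-- gcd(4, q^m + 1) |PΩ^-_{2m}(q)| = q^(m(m-1)) (q^m + 1) prod_{i=1}^{m-1} (q^(2i) - 1), m at least 4 (type ²D_m). -/
theorem result {F : Type*} [Field F] [Fintype F] {q : ℕ} (hF : Fintype.card F = q) (m : ℕ) (hm : 4 ≤ m) (a b : F) (hab : ∀ z₁ z₂ : F, z₁ ^ 2 + a * z₁ * z₂ + b * z₂ ^ 2 = 0 → z₁ = 0 ∧ z₂ = 0) : Nat.gcd 4 (q ^ m + 1) * Nat.card (Cfsg.POmega F (Cfsg.quadFormMinus (m - 1) F a b)) = q ^ (m * (m - 1)) * (q ^ m + 1) * ∏ i ∈ Finset.range (m - 1), (q ^ (2 * (i + 1)) - 1) := by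
  classical
  subst hF
  have hcoe := Cfsg.Agent.Lib.Helper2.OrthCard.QMn_coe (F := F) (m - 1) a b
  have hO := Cfsg.Agent.S0288.result (F := F) rfl m (by omega) a b hab
  have hcard : Fintype.card ((Fin (m - 1) ⊕ Fin (m - 1)) ⊕ Fin 2) = 2 * m := by
    rw [Fintype.card_sum, Fintype.card_sum, Fintype.card_fin, Fintype.card_fin]; omega
  have hn : 6 ≤ Fintype.card ((Fin (m - 1) ⊕ Fin (m - 1)) ⊕ Fin 2) := by rw [hcard]; omega
  have hQ : (QuadraticMap.polarBilin
      (Cfsg.Agent.Lib.Helper2.OrthCard.QMn (F := F) (m - 1) a b)).Nondegenerate :=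
    Cfsg.Agent.Lib.Helper2.OrthCard.QMn_nondeg (m - 1) a b hab
  have hmain := Cfsg.Agent.Lib.Helper2.CentO.card_eq
    (Q := Cfsg.Agent.Lib.Helper2.OrthCard.QMn (F := F) (m - 1) a b)
  have e : 2 * Fintype.card F ^ (m * (m - 1)) * (Fintype.card F ^ m + 1) *
      ∏ i ∈ Finset.range (m - 1), (Fintype.card F ^ (2 * (i + 1)) - 1) =
      2 * (Fintype.card F ^ (m * (m - 1)) * (Fintype.card F ^ m + 1) *
      ∏ i ∈ Finset.range (m - 1), (Fintype.card F ^ (2 * (i + 1)) - 1)) := by ring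
  rw [e] at hO
  by_cases h2 : (2 : F) = 0
  · have hidx := Cfsg.Agent.Lib.Helper2.CentO.index_two h2 hQ (Or.inr (by omega)) (by omega)
    have hZ := Cfsg.Agent.Lib.Helper2.CentO.card_center_of_not hQ hn (Or.inl h2)
    rw [hidx, hZ, hcoe, hO] at hmain
    have hch : ringChar F = 2 :=
      CharP.ringChar_of_prime_eq_zero Nat.prime_two (by exact_mod_cast h2)
    have heven := FiniteField.even_card_of_char_two hch
    have hpow : (Fintype.card F ^ m) % 2 = 0 := by
      rw [Nat.pow_mod, heven, Nat.zero_pow (by omega)]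
    have hg : Nat.gcd 4 (Fintype.card F ^ m + 1) = 1 := by
      have h4 : (4 : ℕ) = 2 ^ 2 := by norm_num
      rw [h4]
      apply Nat.Coprime.pow_left
      rw [Nat.coprime_two_left, Nat.odd_iff]
      omega
    rw [hg]
    omega
  · have hidx := Cfsg.Agent.Lib.Helper2.CentO.index_odd h2 hQ (by omega)
    have hch : ringChar F ≠ 2 := by
      intro h
      apply h2
      have := ringChar.Nat.cast_ringChar (R := F)
      rw [h] at this
      exact_mod_cast this
    have hodd1 := FiniteField.odd_card_of_char_ne_two hch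
    have hodd : Odd (Fintype.card F) := Nat.odd_iff.2 hodd1
    have hoddm : Odd (Fintype.card F ^ m) := hodd.pow
    have h791 := Cfsg.Agent.S0791.result (F := F) rfl hodd m (by omega) a b hab
    rw [← hcoe] at h791
    by_cases hmem : Cfsg.Agent.Lib.Helper2.Spinor.negOne
        (Cfsg.Agent.Lib.Helper2.OrthCard.QMn (F := F) (m - 1) a b) ∈
        Cfsg.Omega F ⇑(Cfsg.Agent.Lib.Helper2.OrthCard.QMn (F := F) (m - 1) a b)
    · have hZ := Cfsg.Agent.Lib.Helper2.CentO.card_center_of_mem hQ hn h2 hmem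
      have h43 : Fintype.card F ^ m % 4 = 3 :=
        h791.1 ⟨_, hmem, Cfsg.Agent.Lib.Helper2.Spinor.negOne_coe _⟩
      rw [hidx, hZ, hcoe, hO] at hmain
      have hg : Nat.gcd 4 (Fintype.card F ^ m + 1) = 4 := by
        apply Nat.gcd_eq_left
        omega
      rw [hg]
      omega
    · have hZ := Cfsg.Agent.Lib.Helper2.CentO.card_center_of_not hQ hn (Or.inr hmem)
      have h43 : Fintype.card F ^ m % 4 ≠ 3 := by
        intro h
        obtain ⟨g, hg, hg1⟩ := h791.2 h
        apply hmem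
        rw [← Cfsg.Agent.Lib.Helper2.Spinor.eq_negOne_of_coe g hg1]
        exact hg
      rw [hidx, hZ, hcoe, hO] at hmain
      have h41 : Fintype.card F ^ m % 4 = 1 := by
        rcases hoddm with ⟨k, hk⟩
        omega
      have hg : Nat.gcd 4 (Fintype.card F ^ m + 1) = 2 := by
        obtain ⟨k, hk⟩ : ∃ k, Fintype.card F ^ m = 4 * k + 1 := ⟨Fintype.card F ^ m / 4, by omega⟩
        rw [hk]
        have e1 : 4 * k + 1 + 1 = 2 * (2 * k + 1) := by omega
        have e2 : (4 : ℕ) = 2 * 2 := by norm_num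
        rw [e1, e2, Nat.gcd_mul_left]
        have : Nat.gcd 2 (2 * k + 1) = 1 := by
          rw [← Nat.coprime_iff_gcd_eq_one, Nat.coprime_two_left, Nat.odd_iff]
          omega
        rw [this]
      rw [hg]
      omega

end Cfsg.Agent.S0294
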