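import Mathlib
-- Template for statement S1062 (row 1062; see /opt/grader/pristine/manifest.json for weights).
-- Copy to Cfsg/Agent/S1062.lean and replace the sorry. The statement below is byte-identical to the frozen
-- statement Cfsg.CfsgFrozen.S1062 (Cfsg/Statements/S1062.lean; the theorem Cfsg.chevalley_card_f4);
-- the grader kernel-checks Cfsg.Agent.S1062.result against that frozen type. Keep the theorem IN THIS FILE
-- (a `result` declared elsewhere and merely imported here is not credited); helpers may live anywhere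
-- under Cfsg/Agent/.
import Cfsg.Statements.S1062
import Cfsg.Agent.Lib.Helper3.ChevData.F4UHyp
import Cfsg.Agent.Lib.Helper3.ChevData.F4Bn
import Cfsg.Agent.Lib.Helper3.ChevData.F4NegTri
import Cfsg.Agent.Lib.Helper3.ChevData.F4Vec
import Cfsg.Agent.Lib.Helper3.ChevData.F4Poin

set_option autoImplicit false
open Cfsg
open Cfsg.Agent.Lib.Helper3.ChevM

namespace Cfsg.Agent.S1062

/-- `|F₄(q)| = q²⁴ (q² - 1)(q⁶ - 1)(q⁸ - 1)(q¹² - 1)`. -/
theorem result {F : Type*} [Field F] [Fintype F] {q : ℕ} (hq : Fintype.card F = q) : Nat.card ↥(Cfsg.Lie.chevF4.group F) = q ^ 24 * (q ^ 2 - 1) * (q ^ 6 - 1) * (q ^ 8 - 1) * (q ^ 12 - 1) := by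
  have key : (∏ k : Fin 4, Nat.gcd (Fintype.card F - 1) (smDF4 k)) * Nat.card ↥(Cfsg.Lie.chevF4.group F) =
      Fintype.card F ^ 24 * (Fintype.card F - 1) ^ 4 * poin cdF4.D relF4.refl Set.univ (Fintype.card F) :=
    uhypF4.card_group_formula (F := F) bnF4 f4NegTri f4Sign (by decide +kernel) vecF4
      (of_pairRange (m := 4) (n := 48) f4Vec) smPF4 smQF4 smPiF4 smQiF4 smDF4
      (by decide +kernel) (by decide +kernel) (by decide +kernel) (by decide +kernel)
  rw [f4Poin] at key
  have e : (∏ k : Fin 4, Nat.gcd (Fintype.card F - 1) (smDF4 k)) = 1 := by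
    simp [Fin.prod_univ_succ, smDF4, Nat.gcd_comm]
  rw [e, one_mul, hq] at key
  have hq1 : 1 ≤ q := by rw [← hq]; exact Fintype.card_pos
  have h2 : 1 ≤ q ^ 2 := Nat.one_le_pow _ _ hq1
  have h6 : 1 ≤ q ^ 6 := Nat.one_le_pow _ _ hq1
  have h8 : 1 ≤ q ^ 8 := Nat.one_le_pow _ _ hq1
  have h12 : 1 ≤ q ^ 12 := Nat.one_le_pow _ _ hq1
  simp only [List.map_cons, List.map_nil, List.sum_cons, List.sum_nil] at key
  zify [hq1, h2, h6, h8, h12] at key ⊢
  rw [key]
  ring

end Cfsg.Agent.S1062
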