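import Mathlib
-- Template for statement S1063 (row 1063; see /opt/grader/pristine/manifest.json for weights).
-- Copy to Cfsg/Agent/S1063.lean and replace the sorry. The statement below is byte-identical to the frozen
-- statement Cfsg.CfsgFrozen.S1063 (Cfsg/Statements/S1063.lean; the theorem Cfsg.chevalley_card_e6);
-- the grader kernel-checks Cfsg.Agent.S1063.result against that frozen type. Keep the theorem IN THIS FILE
-- (a `result` declared elsewhere and merely imported here is not credited); helpers may live anywhere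
-- under Cfsg/Agent/.
import Cfsg.Statements.S1063
import Cfsg.Agent.Lib.Helper3.ChevData.E6UHyp
import Cfsg.Agent.Lib.Helper3.ChevData.E6Bn
import Cfsg.Agent.Lib.Helper3.ChevData.E6NegTri
import Cfsg.Agent.Lib.Helper3.ChevData.E6Vec
import Cfsg.Agent.Lib.Helper3.ChevData.E6Poin

set_option autoImplicit false
open Cfsg
open Cfsg.Agent.Lib.Helper3.ChevM

namespace Cfsg.Agent.S1063

/-- `gcd(3, q-1) · |E₆(q)| = q³⁶ (q² - 1)(q⁵ - 1)(q⁶ - 1)(q⁸ - 1)(q⁹ - 1)(q¹² - 1)`. -/
theorem result {F : Type*} [Field F] [Fintype F] {q : ℕ} (hq : Fintype.card F = q) : Nat.gcd 3 (q - 1) * Nat.card ↥(Cfsg.Lie.chevE6.group F) = q ^ 36 * (q ^ 2 - 1) * (q ^ 5 - 1) * (q ^ 6 - 1) * (q ^ 8 - 1) * (q ^ 9 - 1) * (q ^ 12 - 1) := by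
  have key : (∏ k : Fin 6, Nat.gcd (Fintype.card F - 1) (smDE6 k)) * Nat.card ↥(Cfsg.Lie.chevE6.group F) =
      Fintype.card F ^ 36 * (Fintype.card F - 1) ^ 6 * poin cdE6.D relE6.refl Set.univ (Fintype.card F) :=
    uhypE6.card_group_formula (F := F) bnE6 e6NegTri e6Sign (by decide +kernel) vecE6
      (of_pairRange (m := 6) (n := 72) e6Vec) smPE6 smQE6 smPiE6 smQiE6 smDE6
      (by decide +kernel) (by decide +kernel) (by decide +kernel) (by decide +kernel)
  rw [e6Poin] at key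
  have e : (∏ k : Fin 6, Nat.gcd (Fintype.card F - 1) (smDE6 k)) = Nat.gcd 3 (Fintype.card F - 1) := by
    simp [Fin.prod_univ_succ, smDE6, Nat.gcd_comm]
  rw [e, hq] at key
  have hq1 : 1 ≤ q := by rw [← hq]; exact Fintype.card_pos
  have h2 : 1 ≤ q ^ 2 := Nat.one_le_pow _ _ hq1
  have h5 : 1 ≤ q ^ 5 := Nat.one_le_pow _ _ hq1
  have h6 : 1 ≤ q ^ 6 := Nat.one_le_pow _ _ hq1
  have h8 : 1 ≤ q ^ 8 := Nat.one_le_pow _ _ hq1
  have h9 : 1 ≤ q ^ 9 := Nat.one_le_pow _ _ hq1
  have h12 : 1 ≤ q ^ 12 := Nat.one_le_pow _ _ hq1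
  simp only [List.map_cons, List.map_nil, List.sum_cons, List.sum_nil] at key
  zify [hq1, h2, h5, h6, h8, h9, h12] at key ⊢
  rw [key]
  ring

end Cfsg.Agent.S1063
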