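import Mathlib
-- Template for statement S1064 (row 1064; see /opt/grader/pristine/manifest.json for weights).
-- Copy to Cfsg/Agent/S1064.lean and replace the sorry. The statement below is byte-identical to the frozen
-- statement Cfsg.CfsgFrozen.S1064 (Cfsg/Statements/S1064.lean; the theorem Cfsg.chevalley_card_e7);
-- the grader kernel-checks Cfsg.Agent.S1064.result against that frozen type. Keep the theorem IN THIS FILE
-- (a `result` declared elsewhere and merely imported here is not credited); helpers may live anywhere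
-- under Cfsg/Agent/.
import Cfsg.Statements.S1064
import Cfsg.Agent.Lib.Helper3.ChevData.E7UHyp
import Cfsg.Agent.Lib.Helper3.ChevData.E7Bn
import Cfsg.Agent.Lib.Helper3.ChevData.E7NegTri
import Cfsg.Agent.Lib.Helper3.ChevData.E7Vec
import Cfsg.Agent.Lib.Helper3.ChevData.E7Poin

set_option autoImplicit false
open Cfsg
open Cfsg.Agent.Lib.Helper3.ChevM

namespace Cfsg.Agent.S1064

/-- `gcd(2, q-1) · |E₇(q)| = q⁶³ ∏_{d ∈ {2,6,8,10,12,14,18}} (q^d - 1)`. -/
theorem result {F : Type*} [Field F] [Fintype F] {q : ℕ} (hq : Fintype.card F = q) : Nat.gcd 2 (q - 1) * Nat.card ↥(Cfsg.Lie.chevE7.group F) = q ^ 63 * (q ^ 2 - 1) * (q ^ 6 - 1) * (q ^ 8 - 1) * (q ^ 10 - 1) * (q ^ 12 - 1) * (q ^ 14 - 1) * (q ^ 18 - 1) := by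
  have key : (∏ k : Fin 7, Nat.gcd (Fintype.card F - 1) (smDE7 k)) * Nat.card ↥(Cfsg.Lie.chevE7.group F) =
      Fintype.card F ^ 63 * (Fintype.card F - 1) ^ 7 * poin cdE7.D relE7.refl Set.univ (Fintype.card F) :=
    uhypE7.card_group_formula (F := F) bnE7 e7NegTri e7Sign (by decide +kernel) vecE7
      (of_pairRange (m := 7) (n := 126) e7Vec) smPE7 smQE7 smPiE7 smQiE7 smDE7
      (by decide +kernel) (by decide +kernel) (by decide +kernel) (by decide +kernel)
  rw [e7Poin] at key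
  have e : (∏ k : Fin 7, Nat.gcd (Fintype.card F - 1) (smDE7 k)) = Nat.gcd 2 (Fintype.card F - 1) := by
    simp [Fin.prod_univ_succ, smDE7, Nat.gcd_comm]
  rw [e, hq] at key
  have hq1 : 1 ≤ q := by rw [← hq]; exact Fintype.card_pos
  have h2 : 1 ≤ q ^ 2 := Nat.one_le_pow _ _ hq1
  have h6 : 1 ≤ q ^ 6 := Nat.one_le_pow _ _ hq1
  have h8 : 1 ≤ q ^ 8 := Nat.one_le_pow _ _ hq1
  have h10 : 1 ≤ q ^ 10 := Nat.one_le_pow _ _ hq1
  have h12 : 1 ≤ q ^ 12 := Nat.one_le_pow _ _ hq1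
  have h14 : 1 ≤ q ^ 14 := Nat.one_le_pow _ _ hq1
  have h18 : 1 ≤ q ^ 18 := Nat.one_le_pow _ _ hq1
  simp only [List.map_cons, List.map_nil, List.sum_cons, List.sum_nil] at key
  zify [hq1, h2, h6, h8, h10, h12, h14, h18] at key ⊢
  rw [key]
  ring

end Cfsg.Agent.S1064
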