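import Mathlib
-- Template for statement S1065 (row 1065; see /opt/grader/pristine/manifest.json for weights).
-- Copy to Cfsg/Agent/S1065.lean and replace the sorry. The statement below is byte-identical to the frozen
-- statement Cfsg.CfsgFrozen.S1065 (Cfsg/Statements/S1065.lean; the theorem Cfsg.chevalley_card_e8);
-- the grader kernel-checks Cfsg.Agent.S1065.result against that frozen type. Keep the theorem IN THIS FILE
-- (a `result` declared elsewhere and merely imported here is not credited); helpers may live anywhere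
-- under Cfsg/Agent/.
import Cfsg.Statements.S1065
import Cfsg.Agent.Lib.Helper3.ChevData.E8UHyp
import Cfsg.Agent.Lib.Helper3.ChevData.E8Bn
import Cfsg.Agent.Lib.Helper3.ChevData.E8NegTri
import Cfsg.Agent.Lib.Helper3.ChevData.E8Vec
import Cfsg.Agent.Lib.Helper3.ChevData.E8Poin

set_option autoImplicit false
set_option maxRecDepth 1000000
open Cfsg
open Cfsg.Agent.Lib.Helper3.ChevM

namespace Cfsg.Agent.S1065

/-- `|E₈(q)| = q¹²⁰ ∏_{d ∈ {2,8,12,14,18,20,24,30}} (q^d - 1)`. -/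
theorem result {F : Type*} [Field F] [Fintype F] {q : ℕ} (hq : Fintype.card F = q) : Nat.card ↥(Cfsg.Lie.chevE8.group F) = q ^ 120 * (q ^ 2 - 1) * (q ^ 8 - 1) * (q ^ 12 - 1) * (q ^ 14 - 1) * (q ^ 18 - 1) * (q ^ 20 - 1) * (q ^ 24 - 1) * (q ^ 30 - 1) := by
  have key : (∏ k : Fin 8, Nat.gcd (Fintype.card F - 1) (smDE8 k)) * Nat.card ↥(Cfsg.Lie.chevE8.group F) =
      Fintype.card F ^ 120 * (Fintype.card F - 1) ^ 8 * poin cdE8.D relE8.refl Set.univ (Fintype.card F) :=
    uhypE8.card_group_formula (F := F) bnE8 e8NegTri e8Sign (by decide +kernel) vecE8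
      (of_pairRange (m := 8) (n := 240) e8Vec) smPE8 smQE8 smPiE8 smQiE8 smDE8
      (by decide +kernel) (by decide +kernel) (by decide +kernel) (by decide +kernel)
  rw [e8Poin] at key
  have e : (∏ k : Fin 8, Nat.gcd (Fintype.card F - 1) (smDE8 k)) = 1 := by
    simp [Fin.prod_univ_succ, smDE8, Nat.gcd_comm]
  rw [e, one_mul, hq] at key
  have hq1 : 1 ≤ q := by rw [← hq]; exact Fintype.card_pos
  have h2 : 1 ≤ q ^ 2 := Nat.one_le_pow _ _ hq1
  have h8 : 1 ≤ q ^ 8 := Nat.one_le_pow _ _ hq1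
  have h12 : 1 ≤ q ^ 12 := Nat.one_le_pow _ _ hq1
  have h14 : 1 ≤ q ^ 14 := Nat.one_le_pow _ _ hq1
  have h18 : 1 ≤ q ^ 18 := Nat.one_le_pow _ _ hq1
  have h20 : 1 ≤ q ^ 20 := Nat.one_le_pow _ _ hq1
  have h24 : 1 ≤ q ^ 24 := Nat.one_le_pow _ _ hq1
  have h30 : 1 ≤ q ^ 30 := Nat.one_le_pow _ _ hq1
  simp only [List.map_cons, List.map_nil, List.sum_cons, List.sum_nil] at key
  zify [hq1, h2, h8, h12, h14, h18, h20, h24, h30] at key ⊢
  rw [key]
  ring

end Cfsg.Agent.S1065
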