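import Mathlib
-- Template for statement S1067 (row 1067; see /opt/grader/pristine/manifest.json for weights).
-- Copy to Cfsg/Agent/S1067.lean and replace the sorry. The statement below is byte-identical to the frozen
-- statement Cfsg.CfsgFrozen.S1067 (Cfsg/Statements/S1067.lean; the theorem Cfsg.twisted_d4_card);
-- the grader kernel-checks Cfsg.Agent.S1067.result against that frozen type. Keep the theorem IN THIS FILE
-- (a `result` declared elsewhere and merely imported here is not credited); helpers may live anywhere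
-- under Cfsg/Agent/.
import Cfsg.Statements.S1067
import Cfsg.Agent.Lib.Helper3.ChevData.D4TwH

set_option autoImplicit false
open Cfsg
open Cfsg.Agent.Lib.Helper3.ChevM

namespace Cfsg.Agent.S1067

/-- `|³D₄(q)| = q¹² (q² - 1)(q⁶ - 1)(q⁸ + q⁴ + 1)`, the group being realised inside D₄ over the field with `q³` elements. -/
theorem result {K : Type*} [Field K] [Fintype K] {q : ℕ} (hq : IsPrimePow q) (hK : Fintype.card K = q ^ 3) :
    Nat.card ↥(Cfsg.Lie.twistedD4 K q) = q ^ 12 * (q ^ 2 - 1) * (q ^ 6 - 1) * (q ^ 8 + q ^ 4 + 1) := by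
  obtain ⟨φ, hφ, hφd, hφ1⟩ := exists_frob K q 3 hq (by norm_num) hK
  rw [twistedD4_eq'' K q φ hφ (fun t => hφd t)]
  have key := d4_tw_card φ q hφ1 hφd hK
  refine key.trans ?_
  have hq1 : 1 ≤ q := hq.one_lt.le
  have h2 : 1 ≤ q ^ 2 := Nat.one_le_pow _ _ hq1
  have h3 : 1 ≤ q ^ 3 := Nat.one_le_pow _ _ hq1
  have h6 : 1 ≤ q ^ 6 := Nat.one_le_pow _ _ hq1
  simp only [List.map_cons, List.map_nil, List.sum_cons, List.sum_nil]
  zify [hq1, h2, h3, h6]
  ring

end Cfsg.Agent.S1067
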