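import Mathlib
-- Template for statement S0990 (row 990; see /opt/grader/pristine/manifest.json for weights).
-- Copy to Cfsg/Agent/S0990.lean and replace the sorry. The statement below is byte-identical to the frozen
-- statement Cfsg.CfsgFrozen.S0990 (Cfsg/Statements/S0990.lean; the theorem Cfsg.sylow_alternating_normalizer_card_of_odd_prime);
-- the grader kernel-checks Cfsg.Agent.S0990.result against that frozen type. Keep the theorem IN THIS FILE
-- (a `result` declared elsewhere and merely imported here is not credited); helpers may live anywhere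
-- under Cfsg/Agent/.
import Cfsg.Statements.S0990


set_option autoImplicit false
open Cfsg

namespace Cfsg.Agent.S0990

/-- Let p be an odd prime and P a Sylow p-subgroup of the symmetric group on a finite set with at least two elements. Then P is contained in the alternating group, and twice the order of the normalizer of P inside the alternating group equals the order of the normalizer of P in the symmetric group. -/
theorem result {α : Type*} [Fintype α] [DecidableEq α] (hα : 2 ≤ Fintype.card α) (p : ℕ) [Fact p.Prime] (hp : p ≠ 2) (P : Sylow p (Equiv.Perm α)) : (P : Subgroup (Equiv.Perm α)) ≤ alternatingGroup α ∧ 2 * Nat.card ↥(Subgroup.normalizer ((((P : Subgroup (Equiv.Perm α)).subgroupOf (alternatingGroup α) : Subgroup ↥(alternatingGroup α)) : Set ↥(alternatingGroup α)))) = Nat.card ↥(Subgroup.normalizer ((P : Subgroup (Equiv.Perm α)) : Set (Equiv.Perm α))) := by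
  have hpp : p.Prime := Fact.out
  have hpodd : Odd p := hpp.odd_of_ne_two hp
  have : Nontrivial α := Fintype.one_lt_card_iff_nontrivial.mp (by omega)
  have hPA : (P : Subgroup (Equiv.Perm α)) ≤ alternatingGroup α := by
    intro g hg
    rw [Equiv.Perm.mem_alternatingGroup]
    obtain ⟨k, hk⟩ := P.2 ⟨g, hg⟩
    have hgk : g ^ (p ^ k) = 1 := by simpa using congrArg Subtype.val hk
    have hs : (Equiv.Perm.sign g) ^ (p ^ k) = 1 := by rw [← map_pow, hgk, map_one]
    rcases Int.units_eq_one_or (Equiv.Perm.sign g) with h | h
    · exact h
    · rw [h] at hs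
      have hodd : Odd (p ^ k) := hpodd.pow
      rw [hodd.neg_one_pow] at hs
      exact absurd hs (by decide)
  refine ⟨hPA, ?_⟩
  set NS := Subgroup.normalizer ((P : Subgroup (Equiv.Perm α)) : Set (Equiv.Perm α)) with hNS
  have hfr : NS ⊔ alternatingGroup α = ⊤ := Sylow.normalizer_sup_eq_top' P hPA
  rw [← Subgroup.subgroupOf_normalizer_eq hPA]
  have h1 : (alternatingGroup α).relIndex NS = 2 := by
    rw [← Subgroup.relIndex_sup_right, hfr, Subgroup.relIndex_top_right,
      alternatingGroup.index_eq_two]
  -- `|NS ∩ Alt| * 2 = |NS|`
  have h2 : Nat.card ↥((alternatingGroup α).subgroupOf NS) * (alternatingGroup α).relIndex NS =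
      Nat.card ↥NS := Subgroup.card_mul_index _
  have h3 : Nat.card ↥((alternatingGroup α).subgroupOf NS) =
      Nat.card ↥(NS.subgroupOf (alternatingGroup α)) := by
    rw [← Subgroup.card_map_of_injective (Subgroup.subtype_injective NS),
      ← Subgroup.card_map_of_injective (Subgroup.subtype_injective (alternatingGroup α)),
      Subgroup.subgroupOf_map_subtype, Subgroup.subgroupOf_map_subtype, inf_comm]
  rw [h1, h3] at h2
  rw [← h2, mul_comm]

end Cfsg.Agent.S0990
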