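import Mathlib
import Cfsg.Statements.S1121
import Cfsg.Agent.Lib.Helper3.RankOne

set_option autoImplicit false
open Cfsg
open MulAction
open Cfsg.Agent.Lib.Helper3
open Cfsg.Agent.Lib.Helper3.RankOne

namespace Cfsg.Agent.S1121

theorem result {G Ω : Type*} [Group G] [Finite G] [MulAction G Ω] {a : Ω} {t : G} {Q : Subgroup G}
    (hS : Cfsg.IsRankOneSetup G Ω a t Q) :
    (∀ s u : G, s ∈ MulAction.stabilizer G a → s ≠ 1 → s * s = 1 → u ∉ MulAction.stabilizer G a → u ≠ 1 → u * u = 1 → Odd (orderOf (s * u))) ∧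
      ∀ u v : G, u ≠ 1 → u * u = 1 → v ≠ 1 → v * v = 1 → ∃ g : G, g * u * g⁻¹ = v := by
  have part1 : ∀ s u : G, s ∈ MulAction.stabilizer G a → s ≠ 1 → s * s = 1 →
      u ∉ MulAction.stabilizer G a → u ≠ 1 → u * u = 1 → Odd (orderOf (s * u)) := by
    intro s u hs hs1 hss hu _ huu
    by_contra hodd
    rw [Nat.not_odd_iff_even] at hodd
    obtain ⟨m, hm⟩ := hodd
    have hpos : 0 < orderOf (s * u) := orderOf_pos _
    have hw1 : (s * u) ^ m ≠ 1 := pow_ne_one_of_lt_orderOf (by omega) (by omega)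
    have hww : (s * u) ^ m * (s * u) ^ m = 1 := by rw [← pow_add, ← hm, pow_orderOf_eq_one]
    have hwinv : ((s * u) ^ m)⁻¹ = (s * u) ^ m := inv_eq_of_mul_eq_one_right hww
    have h1 := dihedral_pow_mul_left s u hss huu m
    have h1' := dihedral_pow_mul_right s u hss huu m
    have hcs : (s * u) ^ m * s = s * (s * u) ^ m := by
      have : (s * u) ^ m * s = s * ((s * u) ^ m)⁻¹ := by
        rw [eq_mul_inv_iff_mul_eq]; exact h1
      rw [hwinv] at this; exact this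
    have hcu : (s * u) ^ m * u = u * (s * u) ^ m := by
      have : (s * u) ^ m * u = u * ((s * u) ^ m)⁻¹ := by
        rw [eq_mul_inv_iff_mul_eq]; exact h1'
      rw [hwinv] at this; exact this
    set z := (s * u) ^ m with hz
    have hsQ : s ∈ Q := involution_mem_Q hS hs hss
    -- z fixes a
    have hza : z • a = a := by
      by_contra hne
      have : s • (z • a) = z • a := by
        rw [← mul_smul, ← hcs, mul_smul, mem_stabilizer_iff.mp hs]
      exact hs1 (eq_one_of_smul_eq hS hsQ hne this)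
    have hzQ : z ∈ Q := involution_mem_Q hS (mem_stabilizer_iff.mpr hza) hww
    apply hu
    rw [mem_stabilizer_iff]
    by_contra hne
    have : z • (u • a) = u • a := by
      rw [← mul_smul, hcu, mul_smul, hza]
    exact hw1 (eq_one_of_smul_eq hS hzQ hne this)
  refine ⟨part1, ?_⟩
  -- an involution in Q
  have : Fact (Nat.Prime 2) := ⟨Nat.prime_two⟩
  obtain ⟨s₀, hs₀⟩ : ∃ s : Q, orderOf s = 2 := by
    have := Fintype.ofFinite Q
    apply exists_prime_orderOf_dvd_card 2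
    rw [← Nat.card_eq_fintype_card]
    exact even_iff_two_dvd.mp hS.even_card
  have hs₀o : orderOf (s₀ : G) = 2 := by rw [Subgroup.orderOf_coe]; exact hs₀
  have hs₀s : (s₀ : G) * s₀ = 1 := by
    have := pow_orderOf_eq_one (s₀ : G)
    rwa [hs₀o, pow_two] at this
  have hs₀1 : (s₀ : G) ≠ 1 := by
    intro h; rw [h, orderOf_one] at hs₀o; omega
  have hs₀a : (s₀ : G) ∈ stabilizer G a := hS.le s₀.2
  have conj_of_odd : ∀ x y : G, x * x = 1 → y * y = 1 → Odd (orderOf (x * y)) → ∃ g : G, g * x * g⁻¹ = y := by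
    intro x y hx hy ⟨j, hj⟩
    have hd : (x * y) ^ (2 * j + 1) = 1 := by rw [← hj]; exact pow_orderOf_eq_one _
    exact ⟨_, (dihedral_odd_conj x y hx hy j hd).1⟩
  -- every involution is conjugate to t
  have key : ∀ u : G, u ≠ 1 → u * u = 1 → ∃ g : G, g * u * g⁻¹ = t := by
    intro u hu1 huu
    by_cases hua : u ∈ stabilizer G a
    · exact conj_of_odd u t huu hS.mul_self (part1 u t hua hu1 huu hS.not_mem hS.ne_one hS.mul_self)
    · obtain ⟨g₁, hg₁⟩ := conj_of_odd s₀ u hs₀s huu (part1 s₀ u hs₀a hs₀1 hs₀s hua hu1 huu)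
      obtain ⟨g₂, hg₂⟩ := conj_of_odd s₀ t hs₀s hS.mul_self
        (part1 s₀ t hs₀a hs₀1 hs₀s hS.not_mem hS.ne_one hS.mul_self)
      refine ⟨g₂ * g₁⁻¹, ?_⟩
      rw [← hg₁, ← hg₂]; group
  intro u v hu1 huu hv1 hvv
  obtain ⟨g₁, hg₁⟩ := key u hu1 huu
  obtain ⟨g₂, hg₂⟩ := key v hv1 hvv
  refine ⟨g₂⁻¹ * g₁, ?_⟩
  calc g₂⁻¹ * g₁ * u * (g₂⁻¹ * g₁)⁻¹ = g₂⁻¹ * (g₁ * u * g₁⁻¹) * g₂ := by group
    _ = g₂⁻¹ * (g₂ * v * g₂⁻¹) * g₂ := by rw [hg₁, hg₂]
    _ = v := by group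

end Cfsg.Agent.S1121
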