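import Mathlib
import Cfsg.Statements.S1124
import Cfsg.Agent.Lib.Helper3.OddOrder
import Cfsg.Agent.Lib.Helper3.Basic

set_option autoImplicit false
open Cfsg
open scoped Pointwise
open Cfsg.Agent.Lib.Helper3

namespace Cfsg.Agent.S1124

theorem result {M : Type*} [Group M] [Finite M]
    (t : M) (ht : orderOf t = 2) (X : Subgroup M) (hodd : Odd (Nat.card X))
    (hnorm : ∀ x ∈ X, t * x * t⁻¹ ∈ X) :
    (∀ x ∈ X, ∃! p : M × M, p.1 ∈ X ⊓ Subgroup.centralizer {t} ∧ p.2 ∈ Cfsg.invertedBy X t ∧ x = p.1 * p.2) ∧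
      Nat.card X = Nat.card ↥(X ⊓ Subgroup.centralizer {t}) * Nat.card (Cfsg.invertedBy X t) ∧
      ∀ x ∈ X, MulAut.conj x • Subgroup.closure (Cfsg.invertedBy X t) = Subgroup.closure (Cfsg.invertedBy X t) := by
  have htt : t * t = 1 := by
    have := pow_orderOf_eq_one t
    rwa [ht, pow_two] at this
  have htinv : t⁻¹ = t := inv_eq_of_mul_eq_one_right htt
  have hoddX : ∀ x ∈ X, Odd (orderOf x) := by
    intro x hx
    have := odd_orderOf_of_odd_card hodd (⟨x, hx⟩ : X)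
    rwa [← Subgroup.orderOf_coe] at this
  -- σ(σ x) = x
  have hσσ : ∀ x : M, t * (t * x * t⁻¹) * t⁻¹ = x := by
    intro x
    calc t * (t * x * t⁻¹) * t⁻¹ = (t * t) * x * (t * t)⁻¹ := by group
      _ = x := by rw [htt]; group
  have hmemC : ∀ c : M, c ∈ X ⊓ Subgroup.centralizer {t} ↔ c ∈ X ∧ t * c * t⁻¹ = c := by
    intro c
    rw [Subgroup.mem_inf, Subgroup.mem_centralizer_singleton_iff]
    constructor
    · rintro ⟨h1, h2⟩
      refine ⟨h1, ?_⟩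
      rw [← h2]; group
    · rintro ⟨h1, h2⟩
      refine ⟨h1, ?_⟩
      calc c * t = (t * c * t⁻¹) * t := by rw [h2]
        _ = t * c := by group
  have hmemI : ∀ k : M, k ∈ Cfsg.invertedBy X t ↔ k ∈ X ∧ t * k * t⁻¹ = k⁻¹ := fun k => Iff.rfl
  -- key: from x = c * k get k⁻¹ * k⁻¹ = x⁻¹ * σ x
  have hkey : ∀ x c k : M, t * c * t⁻¹ = c → t * k * t⁻¹ = k⁻¹ → x = c * k →
      k⁻¹ * k⁻¹ = x⁻¹ * (t * x * t⁻¹) := by
    intro x c k hc hk hx
    rw [hx]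
    calc k⁻¹ * k⁻¹ = (c * k)⁻¹ * (c * k⁻¹) := by group
      _ = (c * k)⁻¹ * ((t * c * t⁻¹) * (t * k * t⁻¹)) := by rw [hc, hk]
      _ = (c * k)⁻¹ * (t * (c * k) * t⁻¹) := by group
  -- existence
  have hex : ∀ x ∈ X, ∃ c k : M, c ∈ X ⊓ Subgroup.centralizer {t} ∧ k ∈ Cfsg.invertedBy X t ∧ x = c * k := by
    intro x hx
    set y := x⁻¹ * (t * x * t⁻¹) with hy
    have hyX : y ∈ X := X.mul_mem (X.inv_mem hx) (hnorm x hx)
    have hyinv : t * y * t⁻¹ = y⁻¹ := by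
      calc t * y * t⁻¹ = (t * x * t⁻¹)⁻¹ * (t * (t * x * t⁻¹) * t⁻¹) := by rw [hy]; group
        _ = (t * x * t⁻¹)⁻¹ * x := by rw [hσσ]
        _ = y⁻¹ := by rw [hy]; group
    obtain ⟨n, hn⟩ := exists_pow_sq_eq_of_odd_order y (hoddX y hyX)
    set k := y ^ n with hk
    have hkX : k ∈ X := X.pow_mem hyX n
    have hkinv : t * k * t⁻¹ = k⁻¹ := by
      have : t * k * t⁻¹ = (t * y * t⁻¹) ^ n := by
        rw [hk]
        have := map_pow (MulAut.conj t) y n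
        simpa [MulAut.conj_apply] using this
      rw [this, hyinv, inv_pow]
    refine ⟨x * k, k⁻¹, ?_, ?_, by group⟩
    · rw [hmemC]
      refine ⟨X.mul_mem hx hkX, ?_⟩
      calc t * (x * k) * t⁻¹ = (t * x * t⁻¹) * (t * k * t⁻¹) := by group
        _ = (x * y) * k⁻¹ := by rw [hkinv, hy]; group
        _ = x * (k * k) * k⁻¹ := by rw [hn]
        _ = x * k := by group
    · rw [hmemI]
      refine ⟨X.inv_mem hkX, ?_⟩
      calc t * k⁻¹ * t⁻¹ = (t * k * t⁻¹)⁻¹ := by group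
        _ = (k⁻¹)⁻¹ := by rw [hkinv]
  -- uniqueness
  have huniq : ∀ c₁ k₁ c₂ k₂ : M, c₁ ∈ X ⊓ Subgroup.centralizer {t} → k₁ ∈ Cfsg.invertedBy X t →
      c₂ ∈ X ⊓ Subgroup.centralizer {t} → k₂ ∈ Cfsg.invertedBy X t → c₁ * k₁ = c₂ * k₂ →
      c₁ = c₂ ∧ k₁ = k₂ := by
    intro c₁ k₁ c₂ k₂ hc₁ hk₁ hc₂ hk₂ h
    rw [hmemC] at hc₁ hc₂
    rw [hmemI] at hk₁ hk₂
    have e1 := hkey (c₁ * k₁) c₁ k₁ hc₁.2 hk₁.2 rfl
    have e2 := hkey (c₁ * k₁) c₂ k₂ hc₂.2 hk₂.2 h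
    have e3 : k₁⁻¹ * k₁⁻¹ = k₂⁻¹ * k₂⁻¹ := by rw [e1, e2]
    have e4 : k₁⁻¹ = k₂⁻¹ := eq_of_sq_eq_of_odd_order _ _ (hoddX _ (X.inv_mem hk₁.1))
      (hoddX _ (X.inv_mem hk₂.1)) e3
    have e5 : k₁ = k₂ := inv_injective e4
    subst e5
    exact ⟨mul_right_cancel h, rfl⟩
  refine ⟨?_, ?_, ?_⟩
  · intro x hx
    obtain ⟨c, k, hc, hk, hxck⟩ := hex x hx
    refine ⟨(c, k), ⟨hc, hk, hxck⟩, ?_⟩
    rintro ⟨c', k'⟩ ⟨hc', hk', hx'⟩
    simp only at hc' hk' hx'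
    obtain ⟨e1, e2⟩ := huniq c' k' c k hc' hk' hc hk (by rw [← hx', ← hxck])
    rw [e1, e2]
  · rw [← Nat.card_prod]
    apply Nat.card_congr
    symm
    refine Equiv.ofBijective (fun p => ⟨p.1.1 * p.2.1, X.mul_mem (Subgroup.mem_inf.mp p.1.2).1 p.2.2.1⟩) ⟨?_, ?_⟩
    · rintro ⟨⟨c₁, hc₁⟩, ⟨k₁, hk₁⟩⟩ ⟨⟨c₂, hc₂⟩, ⟨k₂, hk₂⟩⟩ h
      have h' : c₁ * k₁ = c₂ * k₂ := congrArg Subtype.val h
      obtain ⟨e1, e2⟩ := huniq c₁ k₁ c₂ k₂ hc₁ hk₁ hc₂ hk₂ h'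
      subst e1; subst e2; rfl
    · rintro ⟨x, hx⟩
      obtain ⟨c, k, hc, hk, hxck⟩ := hex x hx
      exact ⟨(⟨c, hc⟩, ⟨k, hk⟩), Subtype.ext hxck.symm⟩
  · -- normality of closure of inverted elements
    have hIinv : ∀ k ∈ Cfsg.invertedBy X t, k⁻¹ ∈ Cfsg.invertedBy X t := by
      intro k hk
      rw [hmemI] at hk ⊢
      refine ⟨X.inv_mem hk.1, ?_⟩
      calc t * k⁻¹ * t⁻¹ = (t * k * t⁻¹)⁻¹ := by group
        _ = (k⁻¹)⁻¹ := by rw [hk.2]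
    have hconjC : ∀ c ∈ X ⊓ Subgroup.centralizer {t}, ∀ k ∈ Cfsg.invertedBy X t,
        c * k * c⁻¹ ∈ Cfsg.invertedBy X t := by
      intro c hc k hk
      rw [hmemC] at hc
      rw [hmemI] at hk ⊢
      refine ⟨X.mul_mem (X.mul_mem hc.1 hk.1) (X.inv_mem hc.1), ?_⟩
      calc t * (c * k * c⁻¹) * t⁻¹ = (t * c * t⁻¹) * (t * k * t⁻¹) * (t * c * t⁻¹)⁻¹ := by group
        _ = c * k⁻¹ * c⁻¹ := by rw [hc.2, hk.2]
        _ = (c * k * c⁻¹)⁻¹ := by group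
    have hconjI : ∀ k₁ ∈ Cfsg.invertedBy X t, ∀ k ∈ Cfsg.invertedBy X t,
        k₁ * k * k₁⁻¹ ∈ Subgroup.closure (Cfsg.invertedBy X t) := by
      intro k₁ hk₁ k hk
      have h1 : k₁ * k * k₁ ∈ Cfsg.invertedBy X t := by
        rw [hmemI] at hk₁ hk ⊢
        refine ⟨X.mul_mem (X.mul_mem hk₁.1 hk.1) hk₁.1, ?_⟩
        calc t * (k₁ * k * k₁) * t⁻¹ = (t * k₁ * t⁻¹) * (t * k * t⁻¹) * (t * k₁ * t⁻¹) := by group
          _ = k₁⁻¹ * k⁻¹ * k₁⁻¹ := by rw [hk₁.2, hk.2]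
          _ = (k₁ * k * k₁)⁻¹ := by group
      have h2 : k₁ * k * k₁⁻¹ = (k₁ * k * k₁) * k₁⁻¹ * k₁⁻¹ := by group
      rw [h2]
      exact Subgroup.mul_mem _ (Subgroup.mul_mem _ (Subgroup.subset_closure h1)
        (Subgroup.subset_closure (hIinv k₁ hk₁))) (Subgroup.subset_closure (hIinv k₁ hk₁))
    have hle : ∀ x ∈ X, MulAut.conj x • Subgroup.closure (Cfsg.invertedBy X t) ≤ Subgroup.closure (Cfsg.invertedBy X t) := by
      intro x hx
      obtain ⟨c, k₁, hc, hk₁, hxck⟩ := hex x hx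
      have e : (MulAut.conj x • Subgroup.closure (Cfsg.invertedBy X t) : Subgroup M)
          = (Subgroup.closure (Cfsg.invertedBy X t)).map (MulAut.conj x).toMonoidHom := rfl
      rw [e, MonoidHom.map_closure, Subgroup.closure_le]
      rintro _ ⟨k, hk, rfl⟩
      change x * k * x⁻¹ ∈ Subgroup.closure (Cfsg.invertedBy X t)
      have e2 : x * k * x⁻¹ = c * (k₁ * k * k₁⁻¹) * c⁻¹ := by rw [hxck]; group
      rw [e2]
      -- conj by c preserves closure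
      have hcl : ∀ z ∈ Subgroup.closure (Cfsg.invertedBy X t), c * z * c⁻¹ ∈ Subgroup.closure (Cfsg.invertedBy X t) := by
        intro z hz
        induction hz using Subgroup.closure_induction with
        | mem z hz => exact Subgroup.subset_closure (hconjC c hc z hz)
        | one => simp
        | mul a b _ _ iha ihb =>
          have : c * (a * b) * c⁻¹ = (c * a * c⁻¹) * (c * b * c⁻¹) := by group
          rw [this]; exact Subgroup.mul_mem _ iha ihb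
        | inv a _ iha =>
          have : c * a⁻¹ * c⁻¹ = (c * a * c⁻¹)⁻¹ := by group
          rw [this]; exact Subgroup.inv_mem _ iha
      exact hcl _ (hconjI k₁ hk₁ k hk)
    intro x hx
    apply Subgroup.eq_of_le_of_card_ge (hle x hx)
    have e : (MulAut.conj x • Subgroup.closure (Cfsg.invertedBy X t) : Subgroup M)
        = (Subgroup.closure (Cfsg.invertedBy X t)).map (MulAut.conj x).toMonoidHom := rfl
    rw [e, Subgroup.card_map_of_injective (MulAut.conj x).injective]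

end Cfsg.Agent.S1124
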