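import Mathlib
import Cfsg.Statements.S3993
import Cfsg.Agent.Lib.Helper7.ClassCount

set_option autoImplicit false
open Cfsg

namespace Cfsg.Agent.S3993

open Cfsg.Agent.Lib.Helper7

universe u

/-- number of solutions of `x ^ n = 1` -/
noncomputable def L (H : Type*) [Group H] (n : ℕ) : ℕ := Nat.card {g : H // g ^ n = 1}

theorem L_gcd (H : Type*) [Group H] [Finite H] (n : ℕ) :
    L H n = L H (Nat.gcd n (Nat.card H)) := by
  unfold L
  apply Nat.card_congr
  apply Equiv.subtypeEquivRight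
  intro g
  rw [← orderOf_dvd_iff_pow_eq_one, ← orderOf_dvd_iff_pow_eq_one, Nat.dvd_gcd_iff]
  exact ⟨fun h => ⟨h, orderOf_dvd_natCard g⟩, fun h => h.1⟩

/-- central quotient by a subgroup of order coprime to `k` does not change `L _ k` -/
theorem L_quotient (H : Type*) [Group H] [Finite H] (Z : Subgroup H) [Z.Normal]
    (hZ : Z ≤ Subgroup.center H) (k : ℕ) (hk : Nat.Coprime (Nat.card Z) k) :
    L H k = L (H ⧸ Z) k := by
  unfold L
  have hwd : ∀ h : {g : H // g ^ k = 1}, (QuotientGroup.mk h.1 : H ⧸ Z) ^ k = 1 := by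
    intro h
    rw [← QuotientGroup.mk_pow, h.2, QuotientGroup.mk_one]
  refine Nat.card_congr (Equiv.ofBijective (fun h => ⟨QuotientGroup.mk h.1, hwd h⟩) ⟨?_, ?_⟩)
  · rintro ⟨h, hh⟩ ⟨h', hh'⟩ heq
    have heq' : (QuotientGroup.mk h : H ⧸ Z) = QuotientGroup.mk h' := congrArg Subtype.val heq
    rw [QuotientGroup.eq] at heq'
    set w := h⁻¹ * h' with hw
    have hwc : w ∈ Subgroup.center H := hZ heq'
    have h'eq : h' = h * w := by rw [hw]; group
    have hcomm : Commute h w := (Subgroup.mem_center_iff.mp hwc) h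
    have hwk : w ^ k = 1 := by
      have := hh'
      rw [h'eq, hcomm.mul_pow, hh, one_mul] at this
      exact this
    have hw1 : w = 1 := by
      have h1 : orderOf w ∣ k := orderOf_dvd_of_pow_eq_one hwk
      have h2 : orderOf w ∣ Nat.card Z := by
        have := orderOf_dvd_natCard (⟨w, heq'⟩ : Z)
        rwa [← Subgroup.orderOf_coe] at this
      have h3 : orderOf w ∣ 1 := by
        have := Nat.dvd_gcd h2 h1
        rwa [hk] at this
      exact orderOf_eq_one_iff.mp (Nat.dvd_one.mp h3)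
    apply Subtype.ext
    show h = h'
    rw [h'eq, hw1, mul_one]
  · rintro ⟨q, hq⟩
    obtain ⟨h, rfl⟩ := QuotientGroup.mk_surjective q
    have hmem : h ^ k ∈ Z := by
      rw [← QuotientGroup.eq_one_iff, QuotientGroup.mk_pow]
      exact hq
    obtain ⟨w, hw⟩ := (powCoprime hk).surjective (⟨h ^ k, hmem⟩⁻¹ : Z)
    have hw' : (w : H) ^ k = (h ^ k)⁻¹ := by
      have := congrArg Subtype.val hw
      simpa using this
    have hcomm : Commute h (w : H) := (Subgroup.mem_center_iff.mp (hZ w.2)) h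
    refine ⟨⟨h * w, ?_⟩, ?_⟩
    · rw [hcomm.mul_pow, hw', mul_inv_cancel]
    · apply Subtype.ext
      show (QuotientGroup.mk (h * (w : H)) : H ⧸ Z) = QuotientGroup.mk h
      rw [QuotientGroup.mk_mul, (QuotientGroup.eq_one_iff (w : H)).mpr w.2, mul_one]


/-- the number of generators of a cyclic subgroup -/
theorem card_gens {G : Type*} [Group G] [Finite G] (x₀ : G) :
    Nat.card {x : G // Subgroup.zpowers x = Subgroup.zpowers x₀} = Nat.totient (orderOf x₀) := by
  classical
  haveI : Fintype ↥(Subgroup.zpowers x₀) := Fintype.ofFinite _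
  have h1 := IsCyclic.card_orderOf_eq_totient (α := ↥(Subgroup.zpowers x₀))
    (d := Fintype.card ↥(Subgroup.zpowers x₀)) dvd_rfl
  have hcard : Fintype.card ↥(Subgroup.zpowers x₀) = orderOf x₀ := by
    rw [← Nat.card_eq_fintype_card, Nat.card_zpowers]
  rw [hcard] at h1
  rw [← h1, ← Fintype.card_subtype, ← Nat.card_eq_fintype_card]
  refine Nat.card_congr ⟨fun x => ⟨⟨x.1, ?_⟩, ?_⟩, fun c => ⟨c.1.1, ?_⟩, ?_, ?_⟩
  · have h : x.1 ∈ Subgroup.zpowers x.1 := Subgroup.mem_zpowers x.1
    rw [x.2] at h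
    exact h
  · rw [Subgroup.orderOf_mk, ← Nat.card_zpowers, x.2, Nat.card_zpowers]
  · apply Subgroup.eq_of_le_of_card_ge
    · rw [Subgroup.zpowers_le]; exact c.1.2
    · rw [Nat.card_zpowers, Nat.card_zpowers, Subgroup.orderOf_coe, c.2]
  · intro x; rfl
  · intro c; rfl

/-- Counting elements whose order satisfies a predicate: the count is divisible by any common
divisor of the values `φ d` for `d` satisfying the predicate. -/
theorem dvd_card_of_dvd_totient {G : Type*} [Group G] [Finite G] (Pred : ℕ → Prop) (q : ℕ)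
    (hq : ∀ d, Pred d → q ∣ Nat.totient d) :
    q ∣ Nat.card {x : G // Pred (orderOf x)} := by
  classical
  have : Fintype G := Fintype.ofFinite G
  rw [Nat.card_eq_fintype_card, Fintype.card_subtype]
  set S : Finset G := Finset.univ.filter (fun x => Pred (orderOf x)) with hS
  rw [Finset.card_eq_sum_card_fiberwise (f := fun x : G => Subgroup.zpowers x)
    (t := S.image (fun x : G => Subgroup.zpowers x)) (fun x hx => Finset.mem_image_of_mem _ hx)]
  apply Finset.dvd_sum
  intro C hC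
  obtain ⟨x₀, hx₀, rfl⟩ := Finset.mem_image.mp hC
  have hx₀' : Pred (orderOf x₀) := (Finset.mem_filter.mp hx₀).2
  have : (S.filter (fun x => Subgroup.zpowers x = Subgroup.zpowers x₀)) =
      Finset.univ.filter (fun x : G => Subgroup.zpowers x = Subgroup.zpowers x₀) := by
    ext x
    simp only [Finset.mem_filter, Finset.mem_univ, true_and, hS]
    constructor
    · exact fun h => h.2
    · intro h
      refine ⟨?_, h⟩
      have : orderOf x = orderOf x₀ := by rw [← Nat.card_zpowers, h, Nat.card_zpowers]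
      rw [this]; exact hx₀'
  rw [this, ← Fintype.card_subtype, ← Nat.card_eq_fintype_card, card_gens]
  exact hq _ hx₀'


theorem ppow_dvd_X {G : Type*} [Group G] [Finite G] (p a k : ℕ) (hp : p.Prime) :
    p ^ a ∣ Nat.card {x : G // x ^ (p ^ a * k * p) = 1 ∧ x ^ (p ^ a * k) ≠ 1} := by
  have hequiv : Nat.card {x : G // x ^ (p ^ a * k * p) = 1 ∧ x ^ (p ^ a * k) ≠ 1} =
      Nat.card {x : G // (fun d => d ∣ p ^ a * k * p ∧ ¬ d ∣ p ^ a * k) (orderOf x)} := by
    apply Nat.card_congr
    apply Equiv.subtypeEquivRight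
    intro x
    simp only [ne_eq, orderOf_dvd_iff_pow_eq_one]
  rw [hequiv]
  refine dvd_card_of_dvd_totient (G := G) (fun d => d ∣ p ^ a * k * p ∧ ¬ d ∣ p ^ a * k) (p ^ a) ?_
  rintro d ⟨hd1, hd2⟩
  have hd0 : d ≠ 0 := by
    rintro rfl
    have h0 := zero_dvd_iff.mp hd1
    apply hd2
    have hk : k = 0 := by
      rcases Nat.mul_eq_zero.mp h0 with h | h
      · rcases Nat.mul_eq_zero.mp h with h' | h'
        · exact absurd h' (pow_ne_zero a hp.ne_zero)
        · exact h'
      · exact absurd h hp.ne_zero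
    rw [hk, mul_zero]
  obtain ⟨b, c, hc, hd⟩ := Nat.exists_eq_pow_mul_and_not_dvd hd0 p hp.ne_one
  have hck : c ∣ k := by
    have h1 : c ∣ p ^ (a + 1) * k := by
      have : c ∣ d := ⟨p ^ b, by rw [hd]; ring⟩
      refine this.trans (hd1.trans ⟨1, by ring⟩)
    have hcop : Nat.Coprime c (p ^ (a + 1)) :=
      Nat.Coprime.pow_right _ ((Nat.Prime.coprime_iff_not_dvd hp).mpr hc).symm
    exact hcop.dvd_of_dvd_mul_left h1
  have hab : a + 1 ≤ b := by
    by_contra hlt
    push_neg at hlt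
    apply hd2
    rw [hd]
    exact mul_dvd_mul (pow_dvd_pow p (by omega)) hck
  have h1 : p ^ (a + 1) ∣ d := by
    rw [hd]
    exact (pow_dvd_pow p hab).trans ⟨c, rfl⟩
  have h2 := Nat.totient_dvd_of_dvd h1
  rw [Nat.totient_prime_pow_succ hp] at h2
  exact (Dvd.intro _ rfl).trans h2


theorem ppart {G : Type*} [Group G] (y z : G) (hc : Commute y z) (P k : ℕ) (u v : ℤ)
    (h1 : (P : ℤ) * u + (k : ℤ) * v = 1) (hy : y ^ P = 1) (hz : z ^ k = 1) :
    (y * z) ^ ((k : ℤ) * v) = y := by
  rw [hc.mul_zpow]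
  have hz' : z ^ ((k : ℤ) * v) = 1 := by rw [zpow_mul, zpow_natCast, hz, one_zpow]
  rw [hz', mul_one]
  have : (k : ℤ) * v = 1 - (P : ℤ) * u := by linarith
  rw [this, zpow_sub, zpow_one, zpow_mul, zpow_natCast, hy, one_zpow, inv_one, mul_one]

theorem card_X_eq_sigma {G : Type*} [Group G] [Finite G] (p a k : ℕ) (hp : p.Prime)
    (hpk : ¬ p ∣ k) :
    Nat.card {x : G // x ^ (p ^ a * k * p) = 1 ∧ x ^ (p ^ a * k) ≠ 1} =
    Nat.card (Σ y : {y : G // orderOf y = p ^ (a + 1)},
      {z : G // Commute y.1 z ∧ z ^ k = 1}) := by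
  have hcop : Nat.Coprime (p ^ (a + 1)) k :=
    Nat.Coprime.pow_left _ ((Nat.Prime.coprime_iff_not_dvd hp).mpr hpk)
  have hbez := Nat.gcd_eq_gcd_ab (p ^ (a + 1)) k
  rw [hcop] at hbez
  set u := Nat.gcdA (p ^ (a + 1)) k
  set v := Nat.gcdB (p ^ (a + 1)) k
  have hbez' : ((p ^ (a + 1) : ℕ) : ℤ) * u + (k : ℤ) * v = 1 := by exact_mod_cast hbez.symm
  have hPk : p ^ a * k * p = p ^ (a + 1) * k := by ring
  -- well-definedness
  have hwd : ∀ (y z : G), orderOf y = p ^ (a + 1) → Commute y z → z ^ k = 1 →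
      (y * z) ^ (p ^ a * k * p) = 1 ∧ (y * z) ^ (p ^ a * k) ≠ 1 := by
    intro y z hy hc hz
    constructor
    · rw [hc.mul_pow, hPk, pow_mul, ← hy, pow_orderOf_eq_one, one_pow, one_mul, mul_comm,
        pow_mul, hz, one_pow]
    · rw [hc.mul_pow]
      have : z ^ (p ^ a * k) = 1 := by rw [mul_comm, pow_mul, hz, one_pow]
      rw [this, mul_one]
      intro h
      have hd := orderOf_dvd_of_pow_eq_one h
      rw [hy, pow_succ] at hd
      have : p ∣ k := Nat.dvd_of_mul_dvd_mul_left (pow_pos hp.pos a) hd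
      exact hpk this
  symm
  refine Nat.card_congr (Equiv.ofBijective
    (fun s => ⟨s.1.1 * s.2.1, hwd s.1.1 s.2.1 s.1.2 s.2.2.1 s.2.2.2⟩) ⟨?_, ?_⟩)
  · rintro ⟨⟨y, hy⟩, ⟨z, hzc, hz⟩⟩ ⟨⟨y', hy'⟩, ⟨z', hzc', hz'⟩⟩ h
    have h' : y * z = y' * z' := congrArg Subtype.val h
    have e1 : (y * z) ^ ((k : ℤ) * v) = y :=
      ppart y z hzc _ k u v hbez' (by rw [← hy]; exact pow_orderOf_eq_one y) hz
    have e2 : (y' * z') ^ ((k : ℤ) * v) = y' :=
      ppart y' z' hzc' _ k u v hbez' (by rw [← hy']; exact pow_orderOf_eq_one y') hz'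
    have hyy : y = y' := by rw [← e1, ← e2, h']
    subst hyy
    have hzz : z = z' := mul_left_cancel h'
    subst hzz
    rfl
  · rintro ⟨x, hx1, hx2⟩
    have hx1' : x ^ (p ^ (a + 1) * k) = 1 := by rw [← hPk]; exact hx1
    set y := x ^ ((k : ℤ) * v) with hy
    set z := x ^ (((p ^ (a + 1) : ℕ) : ℤ) * u) with hz
    have hyz : y * z = x := by
      rw [hy, hz, ← zpow_add, add_comm, hbez', zpow_one]
    have hcomm : Commute y z := (Commute.refl x).zpow_zpow _ _
    have hyP : y ^ (p ^ (a + 1)) = 1 := by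
      rw [hy, ← zpow_natCast, ← zpow_mul]
      have : (k : ℤ) * v * ((p ^ (a + 1) : ℕ) : ℤ) = ((p ^ (a + 1) * k : ℕ) : ℤ) * v := by
        push_cast; ring
      rw [this, zpow_mul, zpow_natCast, hx1', one_zpow]
    have hzk : z ^ k = 1 := by
      rw [hz, ← zpow_natCast, ← zpow_mul]
      have : ((p ^ (a + 1) : ℕ) : ℤ) * u * (k : ℤ) = ((p ^ (a + 1) * k : ℕ) : ℤ) * u := by
        push_cast; ring
      rw [this, zpow_mul, zpow_natCast, hx1', one_zpow]
    have hoy : orderOf y = p ^ (a + 1) := by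
      obtain ⟨b, hb, hb'⟩ := (Nat.dvd_prime_pow hp).mp (orderOf_dvd_of_pow_eq_one hyP)
      rcases Nat.lt_or_ge b (a + 1) with hlt | hge
      · exfalso
        apply hx2
        rw [← hyz, hcomm.mul_pow]
        have h1 : y ^ (p ^ a * k) = 1 := by
          rw [pow_mul]
          have : y ^ p ^ a = 1 := by
            apply orderOf_dvd_iff_pow_eq_one.mp
            rw [hb']
            exact pow_dvd_pow p (by omega)
          rw [this, one_pow]
        have h2 : z ^ (p ^ a * k) = 1 := by rw [mul_comm, pow_mul, hzk, one_pow]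
        rw [h1, h2, one_mul]
      · have : b = a + 1 := le_antisymm hb hge
        rw [hb', this]
    refine ⟨⟨⟨y, hoy⟩, ⟨z, hcomm, hzk⟩⟩, ?_⟩
    apply Subtype.ext
    exact hyz


theorem dvd_sum_of_class {G : Type*} [Group G] [Fintype G] [DecidableEq G] (Y : Finset G)
    (F : G → ℕ) (k : ℕ)
    (hY : ∀ y ∈ Y, ∀ g : G, g * y * g⁻¹ ∈ Y) (hF : ∀ y g, F (g * y * g⁻¹) = F y)
    (hk : ∀ y ∈ Y, k ∣ Set.ncard {w : G | IsConj y w} * F y) : k ∣ ∑ y ∈ Y, F y := by
  classical
  rw [Finset.sum_partition (IsConj.setoid G)]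
  apply Finset.dvd_sum
  intro c hc
  obtain ⟨y₀, hy₀, rfl⟩ := Finset.mem_image.mp hc
  have h1 : ∀ y ∈ Y.filter (fun y => (Quotient.mk (IsConj.setoid G) y) =
      Quotient.mk (IsConj.setoid G) y₀), F y = F y₀ := by
    intro y hy
    have := (Finset.mem_filter.mp hy).2
    have hconj : IsConj y y₀ := Quotient.exact this
    obtain ⟨g, hg⟩ := isConj_iff.mp hconj
    rw [← hg, hF]
  rw [Finset.sum_congr rfl h1, Finset.sum_const, smul_eq_mul]
  have h2 : (Y.filter (fun y => (Quotient.mk (IsConj.setoid G) y) =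
      Quotient.mk (IsConj.setoid G) y₀)).card = Set.ncard {w : G | IsConj y₀ w} := by
    rw [← Set.ncard_coe_finset]
    congr 1
    ext w
    simp only [Finset.coe_filter, Set.mem_setOf_eq]
    constructor
    · rintro ⟨_, h⟩
      exact (Quotient.exact h).symm
    · intro h
      obtain ⟨g, hg⟩ := isConj_iff.mp h
      exact ⟨hg ▸ hY y₀ hy₀ g, Quotient.sound h.symm⟩
  rw [h2]
  exact hk y₀ hy₀

theorem L_split {G : Type*} [Group G] [Finite G] (n p : ℕ) :
    L G (n * p) = L G n + Nat.card {x : G // x ^ (n * p) = 1 ∧ x ^ n ≠ 1} := by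
  classical
  have : Fintype G := Fintype.ofFinite G
  unfold L
  simp only [Nat.card_eq_fintype_card, Fintype.card_subtype]
  rw [← Finset.card_filter_add_card_filter_not (s := Finset.univ.filter
    (fun x : G => x ^ (n * p) = 1)) (fun x : G => x ^ n = 1), Finset.filter_filter,
    Finset.filter_filter]
  congr 2
  ext x
  simp only [Finset.mem_filter, Finset.mem_univ, true_and]
  constructor
  · exact fun h => h.2
  · intro h
    exact ⟨by rw [pow_mul, h, one_pow], h⟩


theorem class_term {G : Type u} [Group G] [Finite G]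
    (IH : ∀ (H : Type u) [Group H] [Finite H], Nat.card H < Nat.card G →
      ∀ n, n ∣ Nat.card H → n ∣ L H n)
    (p a k : ℕ) (hp : p.Prime) (hpk : ¬ p ∣ k) (hkG : k ∣ Nat.card G) (y : G)
    (hy : orderOf y = p ^ (a + 1)) :
    k ∣ Set.ncard {w : G | IsConj y w} * Nat.card {z : G // Commute y z ∧ z ^ k = 1} := by
  set C := Subgroup.centralizer ({y} : Set G) with hC
  have hyC : y ∈ C := Subgroup.mem_centralizer_singleton_iff.mpr rfl
  set Z : Subgroup C := Subgroup.zpowers (⟨y, hyC⟩ : C) with hZ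
  have hZc : Z ≤ Subgroup.center C := by
    rw [hZ, Subgroup.zpowers_le, Subgroup.mem_center_iff]
    intro c
    apply Subtype.ext
    exact Subgroup.mem_centralizer_singleton_iff.mp c.2
  haveI : Z.Normal := by
    constructor
    intro w hw c
    have h1 := (Subgroup.mem_center_iff.mp (hZc hw)) c
    have : c * w * c⁻¹ = w := by rw [h1]; group
    rw [this]; exact hw
  have hcardZ : Nat.card Z = p ^ (a + 1) := by
    rw [hZ, Nat.card_zpowers, Subgroup.orderOf_mk, hy]
  have hcop : Nat.Coprime (Nat.card Z) k := by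
    rw [hcardZ]
    exact Nat.Coprime.pow_left _ ((Nat.Prime.coprime_iff_not_dvd hp).mpr hpk)
  have hF : Nat.card {z : G // Commute y z ∧ z ^ k = 1} = L C k := by
    unfold L
    refine Nat.card_congr ⟨fun z => ⟨⟨z.1, ?_⟩, ?_⟩, fun c => ⟨c.1.1, ?_, ?_⟩, ?_, ?_⟩
    · exact Subgroup.mem_centralizer_singleton_iff.mpr z.2.1.eq.symm
    · apply Subtype.ext
      simpa using z.2.2
    · exact (Subgroup.mem_centralizer_singleton_iff.mp c.1.2).symm
    · have := congrArg Subtype.val c.2
      simpa using this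
    · intro z; rfl
    · intro c; rfl
  have hLq := L_quotient C Z hZc k hcop
  have hCZ : Nat.card C = Nat.card (C ⧸ Z) * Nat.card Z :=
    Subgroup.card_eq_card_quotient_mul_card_subgroup Z
  have hlt : Nat.card (C ⧸ Z) < Nat.card G := by
    have h1 : Nat.card C ≤ Nat.card G := Nat.le_of_dvd Nat.card_pos (Subgroup.card_subgroup_dvd_card C)
    have h2 : 2 ≤ Nat.card Z := by
      rw [hcardZ]
      calc 2 ≤ p := hp.two_le
        _ = p ^ 1 := (pow_one p).symm
        _ ≤ p ^ (a + 1) := Nat.pow_le_pow_right hp.pos (by omega)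
    have h3 : 0 < Nat.card (C ⧸ Z) := Nat.card_pos
    nlinarith
  have hgcd := IH (C ⧸ Z) hlt (Nat.gcd k (Nat.card (C ⧸ Z))) (Nat.gcd_dvd_right _ _)
  rw [← L_gcd] at hgcd
  have hgg : Nat.gcd k (Nat.card C) = Nat.gcd k (Nat.card (C ⧸ Z)) := by
    rw [hCZ]
    exact Nat.Coprime.gcd_mul_right_cancel_right _ hcop
  have hcls := ncard_cls_mul_card_centralizer y
  have h1 : k ∣ Set.ncard {w : G | IsConj y w} * Nat.gcd (Nat.card C) k := by
    rw [← Nat.gcd_mul_left]
    exact Nat.dvd_gcd (hcls ▸ hkG) (Dvd.intro_left _ rfl)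
  rw [hF, hLq]
  refine h1.trans (mul_dvd_mul_left _ ?_)
  rw [Nat.gcd_comm, hgg]
  exact hgcd

theorem main : ∀ N : ℕ, ∀ (G : Type u) [Group G] [Finite G], Nat.card G = N →
    ∀ n, n ∣ N → n ∣ L G n := by
  intro N
  induction N using Nat.strong_induction_on with
  | _ N IH =>
  intro G _ _ hG
  have hNpos : 0 < N := hG ▸ Nat.card_pos
  have IH' : ∀ (H : Type u) [Group H] [Finite H], Nat.card H < Nat.card G →
      ∀ n, n ∣ Nat.card H → n ∣ L H n := by
    intro H _ _ hlt n hn
    exact IH (Nat.card H) (hG ▸ hlt) H rfl n hn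
  have inner : ∀ d, ∀ n, n * d = N → n ∣ L G n := by
    intro d
    induction d using Nat.strong_induction_on with
    | _ d ihd =>
    intro n hnd
    by_cases hd1 : d = 1
    · subst hd1
      rw [mul_one] at hnd
      have : L G n = n := by
        unfold L
        rw [hnd, ← hG]
        exact Nat.card_congr (Equiv.subtypeUnivEquiv (fun x => pow_card_eq_one'))
      rw [this]
    · obtain ⟨p, hp, hpd⟩ := Nat.exists_prime_and_dvd hd1
      obtain ⟨d', rfl⟩ := hpd
      have hd'pos : 0 < d' := by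
        rcases Nat.eq_zero_or_pos d' with h | h
        · subst h; simp at hnd; omega
        · exact h
      have hd'lt : d' < p * d' := by nlinarith [hp.two_le]
      have h1 := ihd d' hd'lt (n * p) (by rw [← hnd]; ring)
      have hn0 : n ≠ 0 := by
        rintro rfl
        simp at hnd; omega
      obtain ⟨a, k, hpk, hnak⟩ := Nat.exists_eq_pow_mul_and_not_dvd hn0 p hp.ne_one
      subst hnak
      have hsplit := L_split (G := G) (p ^ a * k) p
      have hB := ppow_dvd_X (G := G) p a k hp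
      have hkG : k ∣ Nat.card G := by
        rw [hG, ← hnd]
        exact ⟨p ^ a * (p * d'), by ring⟩
      have hCdvd : k ∣ Nat.card {x : G // x ^ (p ^ a * k * p) = 1 ∧ x ^ (p ^ a * k) ≠ 1} := by
        classical
        have : Fintype G := Fintype.ofFinite G
        rw [card_X_eq_sigma p a k hp hpk, Nat.card_sigma]
        rw [← Finset.sum_subtype (Finset.univ.filter (fun y : G => orderOf y = p ^ (a + 1)))
          (by simp) (fun y => Nat.card {z : G // Commute y z ∧ z ^ k = 1})]
        apply dvd_sum_of_class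
        · intro y hy g
          simp only [Finset.mem_filter, Finset.mem_univ, true_and] at hy ⊢
          have := (MulAut.conj g).orderOf_eq y
          rw [MulAut.conj_apply] at this
          rw [this, hy]
        · intro y g
          refine Nat.card_congr ⟨fun z => ⟨g⁻¹ * z.1 * g, ?_, ?_⟩,
            fun z => ⟨g * z.1 * g⁻¹, ?_, ?_⟩, ?_, ?_⟩
          · have h := z.2.1.eq
            show y * (g⁻¹ * z.1 * g) = g⁻¹ * z.1 * g * y
            have h' : g * y * g⁻¹ * z.1 = z.1 * (g * y * g⁻¹) := h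
            calc y * (g⁻¹ * z.1 * g) = g⁻¹ * (g * y * g⁻¹ * z.1) * g := by group
              _ = g⁻¹ * (z.1 * (g * y * g⁻¹)) * g := by rw [h']
              _ = _ := by group
          · have : g⁻¹ * z.1 * g = g⁻¹ * z.1 * g⁻¹⁻¹ := by rw [inv_inv]
            rw [this, conj_pow, z.2.2]; group
          · have h := z.2.1.eq
            show g * y * g⁻¹ * (g * z.1 * g⁻¹) = g * z.1 * g⁻¹ * (g * y * g⁻¹)
            calc g * y * g⁻¹ * (g * z.1 * g⁻¹) = g * (y * z.1) * g⁻¹ := by group
              _ = g * (z.1 * y) * g⁻¹ := by rw [h]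
              _ = _ := by group
          · rw [conj_pow, z.2.2]; group
          · intro z; apply Subtype.ext; show g * (g⁻¹ * z.1 * g) * g⁻¹ = z.1; group
          · intro z; apply Subtype.ext; show g⁻¹ * (g * z.1 * g⁻¹) * g = z.1; group
        · intro y hy
          simp only [Finset.mem_filter, Finset.mem_univ, true_and] at hy
          exact class_term IH' p a k hp hpk hkG y hy
      have hX : p ^ a * k ∣ Nat.card {x : G // x ^ (p ^ a * k * p) = 1 ∧ x ^ (p ^ a * k) ≠ 1} :=
        Nat.Coprime.mul_dvd_of_dvd_of_dvd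
          (Nat.Coprime.pow_left _ ((Nat.Prime.coprime_iff_not_dvd hp).mpr hpk)) hB hCdvd
      have h2 : p ^ a * k ∣ L G (p ^ a * k * p) := (Dvd.intro _ rfl).trans h1
      rw [hsplit] at h2
      exact (Nat.dvd_add_left hX).mp h2
  intro n hn
  obtain ⟨d, hd⟩ := hn
  exact inner d n hd.symm

theorem result {G : Type*} [Group G] [Finite G] (m : ℕ) (hm : m ∣ Nat.card G) :
    m ∣ Nat.card {g : G // g ^ m = 1} :=
  main (Nat.card G) G rfl m hm

end Cfsg.Agent.S3993
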