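import Mathlib
-- Template for statement S1088 (row 1088; see /opt/grader/pristine/manifest.json for weights).
-- Copy to Cfsg/Agent/S1088.lean and replace the sorry. The statement below is byte-identical to the frozen
-- statement Cfsg.CfsgFrozen.S1088 (Cfsg/Statements/S1088.lean; the theorem Cfsg.twisted_d4_card_unipotent);
-- the grader kernel-checks Cfsg.Agent.S1088.result against that frozen type. Keep the theorem IN THIS FILE
-- (a `result` declared elsewhere and merely imported here is not credited); helpers may live anywhere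
-- under Cfsg/Agent/.
import Cfsg.Statements.S1088
import Cfsg.Agent.Lib.Helper3.ChevData.D4TwGrp

set_option autoImplicit false
open Cfsg
open Cfsg.Agent.Lib.Helper3.ChevM

namespace Cfsg.Agent.S1088

/-- |U¹| = |G¹ ∩ U| = q ^ 12 for ³D₄(q). -/
theorem result {K : Type*} [Field K] [Fintype K] {q : ℕ} (hq : IsPrimePow q) (hK : Fintype.card K = q ^ 3) :
    Nat.card ↥(Cfsg.Lie.chevD4.posUnipotent K ⊓ Cfsg.Lie.twistedD4 K q) = q ^ 12 := by
  obtain ⟨φ, hφ, hφd, hφ1⟩ := exists_frob K q 3 hq (by norm_num) hK
  rw [twistedD4_eq K q φ hφ (fun t => hφd t)]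
  exact twD4A.card_posUnipotent_inf φ q hφ1 hφd (by rw [Nat.card_eq_fintype_card, hK]; rfl)

end Cfsg.Agent.S1088
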