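import Mathlib
import Cfsg.Statements.S2623
import Cfsg.Agent.Lib.Helper5.QuadFin

set_option autoImplicit false
open Cfsg

namespace Cfsg.Agent.S2623

open Module QuadraticMap Cfsg.Agent.Lib.Helper5
open scoped Matrix

variable {F : Type*} [Field F] {n : ℕ}

/-- Gram matrix of the polar form in the standard basis -/
def gram (Q : QuadraticForm F (Fin n → F)) : Matrix (Fin n) (Fin n) F :=
  Matrix.of (fun i j : Fin n => QuadraticMap.polar ⇑Q (Pi.single i 1) (Pi.single j 1))

theorem polar_eq_gram (Q : QuadraticForm F (Fin n → F)) (x y : Fin n → F) :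
    polar Q x y = ∑ a, ∑ b, x a * y b * gram Q a b := by
  have hx : x = ∑ a, x a • (Pi.single a (1 : F) : Fin n → F) := by
    funext k
    simp [Finset.sum_apply, Pi.single_apply]
  have hy : y = ∑ b, y b • (Pi.single b (1 : F) : Fin n → F) := by
    funext k
    simp [Finset.sum_apply, Pi.single_apply]
  conv_lhs => rw [hx, hy]
  rw [polar_sum_left]
  apply Finset.sum_congr rfl
  intro a _
  rw [polar_sum_right, Finset.mul_sum]
  apply Finset.sum_congr rfl
  intro b _
  simp only [gram, Matrix.of_apply]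
  ring

/-- the Gram matrix of a family of vectors -/
theorem gram_family (Q : QuadraticForm F (Fin n → F)) (v : Fin n → (Fin n → F)) :
    (Matrix.of fun a i => v i a)ᵀ * gram Q * (Matrix.of fun a i => v i a) =
      Matrix.of (fun i j => polar Q (v i) (v j)) := by
  ext i j
  rw [Matrix.of_apply, polar_eq_gram, Matrix.mul_apply]
  simp only [Matrix.mul_apply, Matrix.transpose_apply, Matrix.of_apply, Finset.sum_mul]
  rw [Finset.sum_comm]
  apply Finset.sum_congr rfl
  intro a _
  apply Finset.sum_congr rfl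
  intro b _
  ring

theorem isSquare_of_isometry (Q₁ Q₂ : QuadraticForm F (Fin n → F))
    (g : (Fin n → F) ≃ₗ[F] (Fin n → F)) (hg : ∀ v, Q₂ (g v) = Q₁ v) :
    IsSquare ((gram Q₁).det * (gram Q₂).det) := by
  have h1 := gram_family Q₂ (fun i => g (Pi.single i 1))
  have h2 : (Matrix.of fun i j => polar Q₂ (g (Pi.single i 1)) (g (Pi.single j 1))) = gram Q₁ := by
    ext i j
    simp only [gram, Matrix.of_apply, polar, ← map_add, hg]
  rw [h2] at h1
  rw [← h1, Matrix.det_mul, Matrix.det_mul, Matrix.det_transpose]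
  exact ⟨(Matrix.of fun a i => g (Pi.single i 1) a).det * (gram Q₂).det, by ring⟩


/-- Gram determinant in terms of an orthogonal family -/
theorem gram_det_family {m : ℕ} (Q : QuadraticForm F (Fin (m + 1) → F))
    (v : Fin (m + 1) → (Fin (m + 1) → F)) (h2 : (2 : F) ≠ 0)
    (hortho : ∀ i j, i ≠ j → polar Q (v i) (v j) = 0)
    (hone : ∀ i, i ≠ Fin.last m → Q (v i) = 1) :
    (Matrix.of fun a i => v i a).det ^ 2 * (gram Q).det = 2 ^ (m + 1) * Q (v (Fin.last m)) := by
  classical
  have h1 := congrArg Matrix.det (gram_family Q v)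
  rw [Matrix.det_mul, Matrix.det_mul, Matrix.det_transpose] at h1
  have h3 : (Matrix.of fun i j => polar Q (v i) (v j)) =
      Matrix.diagonal (fun i => 2 * Q (v i)) := by
    ext i j
    by_cases hij : i = j
    · subst hij
      rw [Matrix.of_apply, Matrix.diagonal_apply_eq, QuadraticMap.polar_self]
      simp
    · rw [Matrix.of_apply, Matrix.diagonal_apply_ne _ hij, hortho i j hij]
  rw [h3, Matrix.det_diagonal, Fin.prod_univ_castSucc] at h1
  have h4 : ∏ i : Fin m, (2 * Q (v (Fin.castSucc i))) = 2 ^ m := by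
    rw [Finset.prod_congr rfl (fun i _ => by
      rw [hone (Fin.castSucc i) (Fin.castSucc_lt_last i).ne, mul_one] :
      ∀ i ∈ Finset.univ, 2 * Q (v (Fin.castSucc i)) = 2)]
    rw [Finset.prod_const, Finset.card_univ, Fintype.card_fin]
  rw [h4] at h1
  rw [pow_succ 2 m]
  linear_combination h1

theorem result {F : Type*} [Field F] [Fintype F] (h2 : (2 : F) ≠ 0) {n : ℕ} (Q₁ Q₂ : QuadraticForm F (Fin n → F)) (h₁ : (QuadraticMap.polarBilin Q₁).Nondegenerate) (h₂ : (QuadraticMap.polarBilin Q₂).Nondegenerate) : (∃ g : (Fin n → F) ≃ₗ[F] (Fin n → F), ∀ v, Q₂ (g v) = Q₁ v) ↔ IsSquare ((Matrix.of (fun i j : Fin n => QuadraticMap.polar ⇑Q₁ (Pi.single i 1) (Pi.single j 1))).det * (Matrix.of (fun i j : Fin n => QuadraticMap.polar ⇑Q₂ (Pi.single i 1) (Pi.single j 1))).det) := by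
  classical
  constructor
  · rintro ⟨g, hg⟩
    exact isSquare_of_isometry Q₁ Q₂ g hg
  · intro hsq
    change IsSquare ((gram Q₁).det * (gram Q₂).det) at hsq
    rcases Nat.eq_zero_or_pos n with hn | hn
    · subst hn
      refine ⟨LinearEquiv.refl F _, ?_⟩
      intro v
      have : v = 0 := Subsingleton.elim _ _
      rw [this, LinearEquiv.refl_apply, QuadraticMap.map_zero, QuadraticMap.map_zero]
    obtain ⟨m, rfl⟩ : ∃ m, n = m + 1 := ⟨n - 1, by omega⟩
    have hfr : finrank F (Fin (m + 1) → F) = m + 1 := Module.finrank_fin_fun F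
    obtain ⟨b₁, hb₁o, hb₁1, hb₁d⟩ := exists_orthogonal_family_aux h2 m _ Q₁ h₁ hfr
    obtain ⟨b₂, hb₂o, hb₂1, hb₂d⟩ := exists_orthogonal_family_aux h2 m _ Q₂ h₂ hfr
    have hd₁ := gram_det_family Q₁ b₁ h2 hb₁o hb₁1
    have hd₂ := gram_det_family Q₂ b₂ h2 hb₂o hb₂1
    set d₁ := Q₁ (b₁ (Fin.last m)) with hd₁def
    set d₂ := Q₂ (b₂ (Fin.last m)) with hd₂def
    set p₁ := (Matrix.of fun a i => b₁ i a).det
    set p₂ := (Matrix.of fun a i => b₂ i a).det
    obtain ⟨r, hr⟩ := hsq
    have h2m : (2 : F) ^ (m + 1) ≠ 0 := pow_ne_zero _ h2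
    -- `d₁ d₂` is a square
    have hsq' : d₁ * d₂ = (p₁ * p₂ * r / 2 ^ (m + 1)) ^ 2 := by
      calc d₁ * d₂ = ((2 ^ (m + 1) * d₁) * (2 ^ (m + 1) * d₂)) / (2 ^ (m + 1)) ^ 2 := by
            field_simp
        _ = (p₁ ^ 2 * (gram Q₁).det * (p₂ ^ 2 * (gram Q₂).det)) / (2 ^ (m + 1)) ^ 2 := by
            rw [hd₁, hd₂]
        _ = (p₁ ^ 2 * p₂ ^ 2 * ((gram Q₁).det * (gram Q₂).det)) / (2 ^ (m + 1)) ^ 2 := by ring
        _ = (p₁ * p₂ * r / 2 ^ (m + 1)) ^ 2 := by rw [hr, div_pow]; ring
    set s := p₁ * p₂ * r / 2 ^ (m + 1) with hs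
    -- the first family is a basis
    have hli : LinearIndependent F b₁ := by
      apply LinearMap.BilinForm.linearIndependent_of_iIsOrtho (B := polarBilin Q₁)
      · intro i j hij
        exact hb₁o i j hij
      · intro i
        show polar Q₁ (b₁ i) (b₁ i) ≠ 0
        rw [QuadraticMap.polar_self]
        by_cases hi : i = Fin.last m
        · rw [hi]
          simp only [nsmul_eq_mul, Nat.cast_ofNat]
          exact mul_ne_zero h2 hb₁d
        · rw [hb₁1 i hi]
          simpa using h2
    let B₁ : Basis (Fin (m + 1)) F (Fin (m + 1) → F) :=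
      basisOfLinearIndependentOfCardEqFinrank' _ hli (by rw [hfr, Fintype.card_fin])
    have hB₁ : ∀ i, B₁ i = b₁ i := by intro i; simp [B₁]
    let u : Fin (m + 1) → F := fun i => if i = Fin.last m then s / d₂ else 1
    obtain ⟨g, hg⟩ := exists_similarity_of_basis' Q₁ Q₂ h₁ B₁ 1 one_ne_zero
      (fun i => u i • b₂ i) (by
        intro i
        rw [QuadraticMap.map_smul, hB₁, one_mul, smul_eq_mul]
        by_cases hi : i = Fin.last m
        · simp only [u, hi, if_true]
          show s / d₂ * (s / d₂) * d₂ = d₁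
          field_simp
          rw [mul_comm, hsq']
        · simp only [u, hi, if_false]
          rw [hb₂1 i hi, hb₁1 i hi]; ring) (by
        intro i j
        rw [hB₁, hB₁, one_mul, polar_smul_left, polar_smul_right, smul_eq_mul, smul_eq_mul]
        by_cases hij : i = j
        · subst hij
          rw [QuadraticMap.polar_self, QuadraticMap.polar_self]
          by_cases hi : i = Fin.last m
          · simp only [u, hi, if_true, nsmul_eq_mul, Nat.cast_ofNat]
            show s / d₂ * (s / d₂ * (2 * d₂)) = 2 * d₁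
            field_simp
            rw [mul_comm, hsq']
          · simp only [u, hi, if_false]
            rw [hb₂1 i hi, hb₁1 i hi]; ring
        · rw [hb₂o i j hij, hb₁o i j hij]; ring)
    exact ⟨g, fun v => by rw [hg v, one_mul]⟩

end Cfsg.Agent.S2623
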