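import Mathlib
import Cfsg.Statements.S4426
import Cfsg.Agent.Lib.Helper8.TildeBlock3

set_option autoImplicit false
open Cfsg

namespace Cfsg.Agent.S4426

open scoped ComplexConjugate
open Cfsg.Agent.Lib.Helper1 Cfsg.Agent.Lib.Helper4 Cfsg.Agent.Lib.Helper8

/-- Let χ be an irreducible character in the p-block B of the finite group G (relative to a maximal ideal M of the algebraic integers containing p), let p^a be the p-part of the order of G, and let χ̃ be the class function equal to p^a · χ on p-regular elements and zero elsewhere. For ξ ∈ B the inner product [χ̃, ξ] is an integer. The following are equivalent: (a) χ has height zero in B; (b) for some ξ ∈ B the integer [χ̃, ξ] is nonzero and the exact power of p dividing it equals the exact power of p dividing ξ(1); (c) the same holds for every ξ ∈ B. -/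
theorem result {G : Type*} [Group G] [Fintype G] (p : ℕ) [Fact p.Prime] (M : Ideal Cfsg.AlgInt) (hM : Cfsg.IsPModular p M) (B : Set (Cfsg.IrrCharacter G)) (hB : Cfsg.IsPBlock M B) (χ : Cfsg.IrrCharacter G) (hχ : χ ∈ B) : (Cfsg.blockHeight p B (χ : G → ℂ) = 0 ↔ ∃ ξ ∈ B, ∃ n : ℤ, Cfsg.classInner (fun x : G => if p ∣ orderOf x then (0 : ℂ) else ((p ^ (Nat.card G).factorization p : ℕ) : ℂ) * (χ : G → ℂ) x) (ξ : G → ℂ) = (n : ℂ) ∧ n ≠ 0 ∧ padicValInt p n = (Cfsg.charDegree (ξ : G → ℂ)).factorization p) ∧ (Cfsg.blockHeight p B (χ : G → ℂ) = 0 ↔ ∀ ξ ∈ B, ∃ n : ℤ, Cfsg.classInner (fun x : G => if p ∣ orderOf x then (0 : ℂ) else ((p ^ (Nat.card G).factorization p : ℕ) : ℂ) * (χ : G → ℂ) x) (ξ : G → ℂ) = (n : ℂ) ∧ n ≠ 0 ∧ padicValInt p n = (Cfsg.charDegree (ξ : G → ℂ)).factorization p) := by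
  classical
  have hMp := isPModular_isPrime hM
  have hχc := isCharacter_of_irr χ.2
  have hBeq := eq_blockOf_of_mem hMp hB hχ
  -- the unit predicate
  have hall : (∃ ξ ∈ B, ¬ MemLocalIdeal M (classInner (tilde p (χ : G → ℂ)) (ξ : G → ℂ) / (ξ : G → ℂ) 1)) →
      ∀ ξ ∈ B, ¬ MemLocalIdeal M (classInner (tilde p (χ : G → ℂ)) (ξ : G → ℂ) / (ξ : G → ℂ) 1) := by
    rintro ⟨ψ, hψ, hu⟩ ξ hξ
    have hsb : SameBlock M (ψ : G → ℂ) (ξ : G → ℂ) := by
      rw [hBeq] at hψ hξ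
      exact sameBlock_trans hMp (sameBlock_symm hψ) hξ
    exact tildeUnit_congr hM hχc ψ.2 ξ.2 hsb hu
  have h1 : blockHeight p B (χ : G → ℂ) = 0 →
      ∃ ξ ∈ B, ¬ MemLocalIdeal M (classInner (tilde p (χ : G → ℂ)) (ξ : G → ℂ) / (ξ : G → ℂ) 1) :=
    exists_tildeUnit_of_height_zero hM hB hχ
  have h2 : (∀ ξ ∈ B, ¬ MemLocalIdeal M (classInner (tilde p (χ : G → ℂ)) (ξ : G → ℂ) / (ξ : G → ℂ) 1)) →
      blockHeight p B (χ : G → ℂ) = 0 := by
    intro h
    rw [blockHeight_eq_zero_iff ⟨χ, hχ⟩]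
    intro ξ hξ
    exact factorization_le_of_tildeUnit hM χ.2 ξ.2 (h ξ hξ)
  have hiff : ∀ ξ : IrrCharacter G, (∃ n : ℤ, classInner (fun x : G => if p ∣ orderOf x then (0 : ℂ) else ((p ^ (Nat.card G).factorization p : ℕ) : ℂ) * (χ : G → ℂ) x) (ξ : G → ℂ) = (n : ℂ) ∧ n ≠ 0 ∧ padicValInt p n = (Cfsg.charDegree (ξ : G → ℂ)).factorization p) ↔
      ¬ MemLocalIdeal M (classInner (tilde p (χ : G → ℂ)) (ξ : G → ℂ) / (ξ : G → ℂ) 1) :=
    fun ξ => tildeUnit_iff hM hχc ξ.2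
  simp only [hiff]
  refine ⟨⟨h1, fun h => h2 (hall h)⟩, ⟨fun h => hall (h1 h), h2⟩⟩

end Cfsg.Agent.S4426
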