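import Mathlib
import Cfsg.Statements.S0969
import Cfsg.Agent.Lib.Helper8.CentralDefect2
import Cfsg.Agent.S4426
import Cfsg.Agent.Lib.Helper8.BlockPairMax
import Cfsg.Agent.Lib.Helper8.BlockFirstMain3

set_option autoImplicit false
open Cfsg

namespace Cfsg.Agent.S0969

open scoped ComplexConjugate
open Cfsg.Agent.Lib.Helper1 Cfsg.Agent.Lib.Helper4 Cfsg.Agent.Lib.Helper8

/-- Let D be a central p-subgroup of the finite group G and χ an irreducible character with the exponent of p in χ(1) equal to the exponent of p in the index of D; fix a maximal ideal M of the algebraic integers containing p. Then D is a defect group of the block of χ, and χ g = 0 whenever the p-part of g does not lie in D. -/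
theorem result {G : Type*} [Group G] [Finite G] (p : ℕ) [Fact p.Prime] (M : Ideal Cfsg.AlgInt) (hM : Cfsg.IsPModular p M) (D : Subgroup G) (hD : IsPGroup p D) (hDZ : D ≤ Subgroup.center G) (χ : Cfsg.IrrCharacter G) (hdeg : (Cfsg.charDegree (χ : G → ℂ)).factorization p = D.index.factorization p) : Cfsg.IsDefectGroup p M (Cfsg.blockOf M (χ : G → ℂ)) D ∧ ∀ g x : G, Cfsg.IsPPart p g x → x ∉ D → (χ : G → ℂ) g = 0 := by
  classical
  have : Fintype G := Fintype.ofFinite G
  have hMp := isPModular_isPrime hM
  have hp : p.Prime := hM.1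
  obtain ⟨hcount, hvan⟩ := central_defect_count D hD hDZ χ.2 hdeg
  refine ⟨?_, ?_⟩
  · set B := blockOf M (χ : G → ℂ) with hBdef
    have hB : IsPBlock M B := ⟨χ, rfl⟩
    have hχ : χ ∈ B := sameBlock_refl hMp.ne_top _
    set a := (Nat.card G).factorization p with ha
    set bb := (charDegree (χ : G → ℂ)).factorization p with hbb
    have hDcard := card_eq_pow_of_central_defect D hD hdeg
    have hdegpos := (irr_apply_one_eq_charDegree χ.2).2
    have hba : bb ≤ a :=
      (Nat.factorization_le_iff_dvd hdegpos.ne' Nat.card_pos.ne').2 (charDegree_dvd_card χ.2) p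
    -- the inner product with the truncated character
    have hinner : classInner (fun x : G => if p ∣ orderOf x then (0 : ℂ) else
        ((p ^ (Nat.card G).factorization p : ℕ) : ℂ) * (χ : G → ℂ) x) (χ : G → ℂ) =
        (((p ^ bb : ℕ) : ℤ) : ℂ) := by
      rw [classInner_def]
      have h2 : ∑ g : G, (if p ∣ orderOf g then (0 : ℂ) else
          ((p ^ (Nat.card G).factorization p : ℕ) : ℂ) * (χ : G → ℂ) g) * conj ((χ : G → ℂ) g) =
          (((p ^ a : ℕ) : ℝ) * (∑ h : G, if p ∣ orderOf h then 0 else
            Complex.normSq ((χ : G → ℂ) h)) : ℝ) := by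
        rw [Finset.mul_sum]
        push_cast
        refine Finset.sum_congr rfl fun g _ => ?_
        split_ifs
        · simp
        · rw [mul_assoc, Complex.mul_conj]
      rw [h2]
      have hD0 : (Nat.card D : ℝ) ≠ 0 := Nat.cast_ne_zero.2 Nat.card_pos.ne'
      have h3 : (∑ h : G, if p ∣ orderOf h then 0 else Complex.normSq ((χ : G → ℂ) h)) =
          (Nat.card G : ℝ) / (Nat.card D : ℝ) := by
        rw [eq_div_iff hD0, mul_comm]
        exact hcount
      rw [h3, hDcard]
      have hG0 : (Nat.card G : ℂ) ≠ 0 := Nat.cast_ne_zero.2 Nat.card_pos.ne'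
      have hpow : (p : ℂ) ≠ 0 := Nat.cast_ne_zero.2 hp.pos.ne'
      have e : a = (a - bb) + bb := by omega
      push_cast
      rw [show ((p : ℂ) ^ a) = (p : ℂ) ^ (a - bb) * (p : ℂ) ^ bb by rw [← pow_add, ← e]]
      field_simp
      rfl
    have hht : blockHeight p B (χ : G → ℂ) = 0 := by
      apply ((Cfsg.Agent.S4426.result p M hM B hB χ hχ).1).2
      refine ⟨χ, hχ, ((p ^ bb : ℕ) : ℤ), hinner, ?_, ?_⟩
      · exact_mod_cast (pow_pos hp.pos bb).ne'
      · rw [padicValInt.of_nat, padicValNat.prime_pow]
    -- the defect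
    have hdef : blockDefect p B = a - bb := by
      unfold blockHeight at hht
      unfold blockDefect
      have h6 : sInf ((fun ψ : IrrCharacter G => (charDegree (ψ : G → ℂ)).factorization p) '' B) ≤
          (charDegree (χ : G → ℂ)).factorization p := Nat.sInf_le ⟨χ, hχ, rfl⟩
      omega
    obtain ⟨P, hP⟩ := exists_isDefectGroup (p := p) hMp hB
    have hPcard := card_of_isDefectGroup hM hB hP
    have hDn : D.Normal := by
      refine ⟨fun d hd g => ?_⟩
      have := Subgroup.mem_center_iff.1 (hDZ hd) g
      rw [this]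
      simpa using hd
    have hDP : D ≤ P := normal_le_of_isDefectGroup hM hB hP D hD
    have hDeq : D = P := by
      apply Subgroup.eq_of_le_of_card_ge hDP
      rw [hPcard, hdef, hDcard]
    rw [hDeq]
    exact hP
  · intro g x hx hxD
    apply hvan
    intro d hd
    by_contra hnd
    exact hxD ((isPPart_eq_of_central hp hD hDZ hx hd hnd) ▸ hd)

end Cfsg.Agent.S0969
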