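import Mathlib
import Cfsg.Statements.S4678
import Cfsg.Agent.Lib.Helper8.PairFusion

set_option autoImplicit false
open Cfsg

namespace Cfsg.Agent.S4678

open scoped ComplexConjugate
open Cfsg.Agent.Lib.Helper1 Cfsg.Agent.Lib.Helper4 Cfsg.Agent.Lib.Helper8

/-- Fix a prime p and a maximal ideal M of the algebraic integers containing p, a p-block B of the finite group G with maximal Brauer pair (P, e), its fusion system F on P, and a Brauer pair (Q, f) ≤ (P, e). Then Q is fully centralized in F if and only if C_P(Q) is a defect group of f as a block of C_G(Q). -/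
theorem result {G : Type*} [Group G] [Fintype G] (p : ℕ) [Fact p.Prime] (M : Ideal Cfsg.AlgInt) (hM : Cfsg.IsPModular p M) (B : Set (Cfsg.IrrCharacter G)) (P : Subgroup G) (e : Set (Cfsg.IrrCharacter (Subgroup.centralizer (P : Set G)))) (hmax : Cfsg.IsMaximalBrauerPair p M B P e) (F : Cfsg.FusionSystem P) (hF : Cfsg.IsBlockFusionSystemOn p M B P e F) (Q : Subgroup G) (f : Set (Cfsg.IrrCharacter (Subgroup.centralizer (Q : Set G)))) (hQP : Q ≤ P) (hf : Cfsg.IsPBlock M f) (hle : Cfsg.SubpairLE p M Q f P e) : F.IsFullyCentralized Q ↔ Cfsg.IsDefectGroup p M f ((P ⊓ Subgroup.centralizer (Q : Set G)).subgroupOf (Subgroup.centralizer (Q : Set G))) := by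
  classical
  have hMp := isPModular_isPrime hM
  have hPe : IsBrauerPair p M P e := hmax.1.1
  obtain ⟨⟨D, hD, hDle⟩, x, hlex, hDx⟩ := centralizer_defectGroup_of_subpairLE hM hmax hQP hf hle
  constructor
  · intro hfc
    have hconj := isConj_of_subpairLE hF hle hlex
    have h1 := hfc.2 _ hconj
    rw [card_centralizerIn, card_centralizerIn, card_defectGroup_conjBlock hM hf x hD hDx] at h1
    have : (P ⊓ Subgroup.centralizer (Q : Set G)).subgroupOf (Subgroup.centralizer (Q : Set G)) = D :=
      Subgroup.eq_of_le_of_card_ge hDle h1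
    rw [this]
    exact hD
  · intro hdef
    refine ⟨hQP, ?_⟩
    intro Q' hQ'
    obtain ⟨g, rfl, hleg⟩ := exists_of_isConj hM hF hle hQ'
    have hQgP : Q.map (MulAut.conj g).toMonoidHom ≤ P := subpairLE_le hleg
    have hfg : IsPBlock M (conjBlock Q g f) := (isBrauerPair_conj g ⟨hPe.1.to_le hQP, hf⟩).2
    obtain ⟨D', hD', hD'le⟩ := exists_defectGroup_ge_centralizer hM hPe hQgP hfg hleg
    rw [card_centralizerIn, card_centralizerIn, ← card_defectGroup_conjBlock hM hf g hdef hD']
    exact Subgroup.card_le_of_le hD'le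

end Cfsg.Agent.S4678
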