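import Mathlib
import Cfsg.Statements.S1527
-- import your own Cfsg.Agent.* helpers here

set_option autoImplicit false
open Cfsg

namespace Cfsg.Agent.S1527

variable {G : Type*} [Group G]

/-- the union of the conjugates of `H` minus the identity -/
def U (H : Subgroup G) : Set G := {g | g ≠ 1 ∧ ∃ x : G, x * g * x⁻¹ ∈ H}

theorem conj_ne_one {g x : G} (hg : g ≠ 1) : x * g * x⁻¹ ≠ 1 := by
  intro h
  apply hg
  have : g = x⁻¹ * (x * g * x⁻¹) * x := by group
  rw [this, h]; group

/-- pairs `(g, x)` with `x g x⁻¹ ∈ H`, `g ≠ 1`, correspond to pairs `(x, h)` with `1 ≠ h ∈ H` -/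
def e1 (H : Subgroup G) :
    (Σ g : U H, {x : G // x * (g : G) * x⁻¹ ∈ H}) ≃ G × {h : G // h ∈ H ∧ h ≠ 1} where
  toFun := fun ⟨g, x⟩ => (x.1, ⟨x.1 * (g : G) * x.1⁻¹, x.2, conj_ne_one g.2.1⟩)
  invFun := fun ⟨x, h⟩ =>
    ⟨⟨x⁻¹ * h.1 * x, by
      have hne : x⁻¹ * h.1 * x ≠ 1 := by
        have := conj_ne_one (x := x⁻¹) h.2.2
        simpa using this
      refine ⟨hne, x, ?_⟩
      have : x * (x⁻¹ * h.1 * x) * x⁻¹ = h.1 := by group
      rw [this]; exact h.2.1⟩,
    ⟨x, by
      have : x * (x⁻¹ * h.1 * x) * x⁻¹ = h.1 := by group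
      show x * (x⁻¹ * h.1 * x) * x⁻¹ ∈ H
      rw [this]; exact h.2.1⟩⟩
  left_inv := by
    rintro ⟨⟨g, hg⟩, ⟨x, hx⟩⟩
    have : x⁻¹ * (x * g * x⁻¹) * x = g := by group
    refine Sigma.ext (Subtype.ext this) ?_
    refine (Subtype.heq_iff_coe_eq ?_).mpr rfl
    intro y
    simp only [this]
  right_inv := by
    rintro ⟨x, ⟨h, hh⟩⟩
    have : x * (x⁻¹ * h * x) * x⁻¹ = h := by group
    simp only [this]

/-- for `g ∈ U H` the set of `x` with `x g x⁻¹ ∈ H` is a coset of the normalizer -/
noncomputable def e2 (H : Subgroup G) (hTI : Cfsg.IsTISubset (H : Set G)) (g : U H) :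
    {x : G // x * (g : G) * x⁻¹ ∈ H} ≃ Subgroup.normalizer (H : Set G) where
  toFun := fun x => ⟨x.1 * (Classical.choose g.2.2)⁻¹, by
    by_contra hn
    have hx0 := Classical.choose_spec g.2.2
    have := hTI _ hn _ hx0 (by
      have e : x.1 * (Classical.choose g.2.2)⁻¹ * (Classical.choose g.2.2 * (g : G) * (Classical.choose g.2.2)⁻¹) *
          (x.1 * (Classical.choose g.2.2)⁻¹)⁻¹ = x.1 * (g : G) * x.1⁻¹ := by group
      rw [e]; exact x.2)
    exact conj_ne_one g.2.1 this⟩
  invFun := fun n => ⟨n.1 * Classical.choose g.2.2, by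
    have hx0 := Classical.choose_spec g.2.2
    have e : n.1 * Classical.choose g.2.2 * (g : G) * (n.1 * Classical.choose g.2.2)⁻¹ =
        n.1 * (Classical.choose g.2.2 * (g : G) * (Classical.choose g.2.2)⁻¹) * n.1⁻¹ := by group
    rw [e]
    exact (Subgroup.mem_normalizer_iff.mp n.2 _).mp hx0⟩
  left_inv := by
    rintro ⟨x, hx⟩
    apply Subtype.ext
    show x * (Classical.choose g.2.2)⁻¹ * Classical.choose g.2.2 = x
    group
  right_inv := by
    rintro ⟨n, hn⟩
    apply Subtype.ext
    show n * Classical.choose g.2.2 * (Classical.choose g.2.2)⁻¹ = n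
    group

theorem card_nontriv [Finite G] (H : Subgroup G) :
    Nat.card {h : G // h ∈ H ∧ h ≠ 1} = Nat.card H - 1 := by
  classical
  have e : {h : G // h ∈ H ∧ h ≠ 1} ≃ {h : H // ¬ (h = 1)} :=
    { toFun := fun h => ⟨⟨h.1, h.2.1⟩, fun e => h.2.2 (congrArg Subtype.val e)⟩
      invFun := fun h => ⟨h.1.1, h.1.2, fun e => h.2 (Subtype.ext e)⟩
      left_inv := fun _ => rfl
      right_inv := fun _ => rfl }
  rw [Nat.card_congr e]
  haveI : Fintype H := Fintype.ofFinite _
  rw [Nat.card_eq_fintype_card, Fintype.card_subtype_compl, Nat.card_eq_fintype_card]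
  simp

theorem card_U [Finite G] (H : Subgroup G) (hTI : Cfsg.IsTISubset (H : Set G)) :
    Nat.card (U H) * Nat.card (Subgroup.normalizer (H : Set G)) = Nat.card G * (Nat.card H - 1) := by
  classical
  haveI : Fintype (U H) := Fintype.ofFinite _
  have h1 : Nat.card (Σ g : U H, {x : G // x * (g : G) * x⁻¹ ∈ H}) =
      Nat.card (U H) * Nat.card (Subgroup.normalizer (H : Set G)) := by
    rw [Nat.card_sigma]
    simp only [fun g => Nat.card_congr (e2 H hTI g)]
    rw [Finset.sum_const, Finset.card_univ, smul_eq_mul, ← Nat.card_eq_fintype_card]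
  rw [← h1, Nat.card_congr (e1 H), Nat.card_prod, card_nontriv]

theorem card_U' [Finite G] (H : Subgroup G) (hTI : Cfsg.IsTISubset (H : Set G)) :
    Nat.card (U H) = (Subgroup.normalizer (H : Set G)).index * (Nat.card H - 1) := by
  have h := card_U H hTI
  have h2 : Nat.card (Subgroup.normalizer (H : Set G)) * (Subgroup.normalizer (H : Set G)).index = Nat.card G :=
    Subgroup.card_mul_index _
  rw [← h2] at h
  have hpos : 0 < Nat.card (Subgroup.normalizer (H : Set G)) := Nat.card_pos
  apply Nat.eq_of_mul_eq_mul_right hpos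
  rw [h]; ring

/-- Let G be a finite group and H i (i in a finite index type) subgroups of pairwise coprime orders, each of whose underlying sets is a TI-subset of G, such that every non-identity element of G is conjugate to an element of some H i. Then Nat.card G − 1 = Σ_i [G : N_G(H i)] · (Nat.card (H i) − 1). -/
theorem result {G : Type*} [Group G] [Finite G] {ι : Type*} [Fintype ι] (H : ι → Subgroup G) (hcop : ∀ i j, i ≠ j → Nat.Coprime (Nat.card (H i)) (Nat.card (H j))) (hTI : ∀ i, Cfsg.IsTISubset (H i : Set G)) (hcover : ∀ g : G, g ≠ 1 → ∃ i, ∃ x : G, x * g * x⁻¹ ∈ H i) : Nat.card G - 1 = ∑ i, (Subgroup.normalizer (H i : Set G)).index * (Nat.card (H i) - 1) := by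
  classical
  haveI : Fintype G := Fintype.ofFinite _
  simp only [← fun i => card_U' (H i) (hTI i)]
  -- G \ {1} is the disjoint union of the U (H i)
  have hdisj : ∀ i j, i ≠ j → ∀ g, g ∈ U (H i) → g ∈ U (H j) → False := by
    intro i j hij g hi hj
    obtain ⟨hg1, x, hx⟩ := hi
    obtain ⟨_, y, hy⟩ := hj
    have ho : ∀ (K : Subgroup G) (z : G), z * g * z⁻¹ ∈ K → orderOf g ∣ Nat.card K := by
      intro K z hz
      have : orderOf (z * g * z⁻¹) = orderOf g := (MulAut.conj z).orderOf_eq g
      rw [← this]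
      exact Subgroup.orderOf_dvd_natCard K hz
    have h1 := Nat.dvd_gcd (ho _ x hx) (ho _ y hy)
    rw [(hcop i j hij).gcd_eq_one] at h1
    exact hg1 (orderOf_eq_one_iff.mp (Nat.dvd_one.mp h1))
  have hcard : ∀ i, Nat.card (U (H i)) = (Finset.univ.filter (fun g => g ∈ U (H i))).card := by
    intro i
    rw [Nat.card_eq_fintype_card, Fintype.card_subtype]
  simp only [hcard]
  rw [← Finset.card_biUnion]
  · have : (Finset.univ.biUnion fun i => Finset.univ.filter (fun g => g ∈ U (H i))) =
        Finset.univ.erase (1 : G) := by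
      ext g
      simp only [Finset.mem_biUnion, Finset.mem_univ, Finset.mem_filter, true_and, Finset.mem_erase,
        and_true]
      constructor
      · rintro ⟨i, hi⟩; exact hi.1
      · intro hg
        obtain ⟨i, x, hx⟩ := hcover g hg
        exact ⟨i, hg, x, hx⟩
    rw [this, Finset.card_erase_of_mem (Finset.mem_univ _), Finset.card_univ, Nat.card_eq_fintype_card]
  · intro i _ j _ hij
    rw [Function.onFun, Finset.disjoint_left]
    intro g hgi hgj
    simp only [Finset.mem_filter, Finset.mem_univ, true_and] at hgi hgj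
    exact hdisj i j hij g hgi hgj

end Cfsg.Agent.S1527
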