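import Mathlib
import Cfsg.Statements.S1526
import Cfsg.Agent.Lib.Helper4.FrobPart4
import Cfsg.Agent.Lib.Helper4.FrobPart5
import Cfsg.Agent.Lib.Helper4.FrobPart6
import Cfsg.Agent.S1527

set_option autoImplicit false
set_option maxHeartbeats 1600000
open Cfsg

namespace Cfsg.Agent.S1526

open Cfsg.Agent.Lib.Helper4.FrobTI

/-- Let G be a finite group of odd order and (L i, H i), i in a finite index type with at least two elements, pairs of subgroups with H i a nontrivial proper normal subgroup of L i such that every non-identity element of H i has its centraliser within L i contained in H i (L i is a Frobenius group with kernel H i), the orders of the H i pairwise coprime, and the underlying set of each H i a TI-subset of G with normaliser L i. If every non-identity element of G is conjugate to an element of some H i, we reach a contradiction. -/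
theorem result {G : Type*} [Group G] [Finite G] (hodd : Odd (Nat.card G)) {ι : Type*} [Fintype ι] (hι : 2 ≤ Fintype.card ι) (L H : ι → Subgroup G) (hHL : ∀ i, H i < L i) (hH1 : ∀ i, H i ≠ ⊥) (hHn : ∀ i, ∀ x ∈ L i, ∀ h ∈ H i, x * h * x⁻¹ ∈ H i) (hfrob : ∀ i, ∀ h ∈ H i, h ≠ 1 → L i ⊓ Subgroup.centralizer ({h} : Set G) ≤ H i) (hcop : ∀ i j, i ≠ j → Nat.Coprime (Nat.card (H i)) (Nat.card (H j))) (hTI : ∀ i, Cfsg.IsTISubset (H i : Set G) ∧ Subgroup.normalizer (H i : Set G) = L i) (hcover : ∀ g : G, g ≠ 1 → ∃ i, ∃ x : G, x * g * x⁻¹ ∈ H i) : False := by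
  classical
  haveI := Fintype.ofFinite G
  haveI : Nonempty ι := Fintype.card_pos_iff.mp (by omega)
  have hN : ∀ i, Subgroup.normalizer (H i : Set G) = L i := fun i => (hTI i).2
  have hTI' : ∀ i, ∀ g : G, g ∉ Subgroup.normalizer (H i : Set G) → ∀ t ∈ (H i : Set G),
      g * t * g⁻¹ ∈ (H i : Set G) → t = 1 := fun i => (hTI i).1
  have hC : ∀ i, ∀ h ∈ H i, h ≠ 1 → Subgroup.centralizer ({h} : Set G) ≤ H i := by
    intro i h hh h1 c hc
    have hch : h * c = c * h := by
      rw [Subgroup.mem_centralizer_iff] at hc
      exact hc h rfl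
    have hcL : c ∈ L i := by
      rw [← hN i]
      by_contra hcn
      apply h1
      apply hTI' i c hcn h hh
      have : c * h * c⁻¹ = h := by rw [← hch]; group
      rw [this]; exact hh
    exact hfrob i h hh h1 ⟨hcL, hc⟩
  have hlt : ∀ i, H i < Subgroup.normalizer (H i : Set G) := fun i => by rw [hN i]; exact hHL i
  have hex := fun i => exists_localData hodd (H i) (hH1 i) (hlt i) (hC i) (hTI' i)
  choose e a F η β hloc using hex
  -- disjointness of the supports
  have hdisj : ∀ i j, i ≠ j → Disjoint (SS (H i)) (SS (H j)) := by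
    intro i j hij
    rw [Set.disjoint_left]
    rintro g ⟨hg1, x, hx⟩ ⟨-, y, hy⟩
    apply hg1
    have hord : ∀ z : G, orderOf (z * g * z⁻¹) = orderOf g := fun z =>
      orderOf_injective (MulAut.conj z).toMonoidHom (MulAut.conj z).injective g
    have h1 : orderOf g ∣ Nat.card (H i) := by
      rw [← hord x]; exact Subgroup.orderOf_dvd_natCard _ hx
    have h2 : orderOf g ∣ Nat.card (H j) := by
      rw [← hord y]; exact Subgroup.orderOf_dvd_natCard _ hy
    have h3 : orderOf g = 1 := Nat.eq_one_of_dvd_coprimes (hcop i j hij) h1 h2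
    exact orderOf_eq_one_iff.mp h3
  -- the counting formula
  have hcount0 := Cfsg.Agent.S1527.result H hcop (fun i => (hTI i).1) hcover
  have hgpos : 0 < Nat.card G := Nat.card_pos
  have hhpos : ∀ i, 0 < Nat.card (H i) := fun i => Nat.card_pos
  have hidx : ∀ i, (Subgroup.normalizer (H i : Set G)).index * (e i * Nat.card (H i)) =
      Nat.card G := by
    intro i
    rw [← (hloc i).card_norm]
    exact Subgroup.index_mul_card _
  have hcount : ∑ j, ((Nat.card (H j) : ℝ) - 1) / ((e j : ℝ) * Nat.card (H j)) =
      1 - 1 / (Nat.card G : ℝ) := by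
    have hgR : (0 : ℝ) < Nat.card G := by exact_mod_cast hgpos
    have h1 : (Nat.card G : ℝ) - 1 =
        ∑ i, ((Subgroup.normalizer (H i : Set G)).index : ℝ) * ((Nat.card (H i) : ℝ) - 1) := by
      have : ((Nat.card G - 1 : ℕ) : ℝ) = ((∑ i, (Subgroup.normalizer (H i : Set G)).index *
          (Nat.card (H i) - 1) : ℕ) : ℝ) := by rw [hcount0]
      rw [Nat.cast_sub hgpos, Nat.cast_sum] at this
      have h1' : ((1 : ℕ) : ℝ) = 1 := Nat.cast_one
      rw [h1'] at this
      rw [this]
      refine Finset.sum_congr rfl fun i _ => ?_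
      rw [Nat.cast_mul, Nat.cast_sub (hhpos i), h1']
    have h2 : ∀ i, ((Nat.card (H i) : ℝ) - 1) / ((e i : ℝ) * Nat.card (H i)) =
        (1 / (Nat.card G : ℝ)) *
          (((Subgroup.normalizer (H i : Set G)).index : ℝ) * ((Nat.card (H i) : ℝ) - 1)) := by
      intro i
      have h3 : (((Subgroup.normalizer (H i : Set G)).index : ℝ)) * ((e i : ℝ) * Nat.card (H i)) =
          Nat.card G := by exact_mod_cast hidx i
      have h4 : (0 : ℝ) < (e i : ℝ) * Nat.card (H i) := by
        have : 0 < e i * Nat.card (H i) :=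
          Nat.mul_pos (by have := (hloc i).e_ge; omega) (hhpos i)
        exact_mod_cast this
      rw [← h3]
      have h5 : (((Subgroup.normalizer (H i : Set G)).index : ℝ)) ≠ 0 := by
        intro h0
        rw [h0, zero_mul] at h3
        linarith
      field_simp
    rw [Finset.sum_congr rfl fun i _ => h2 i, ← Finset.mul_sum, ← h1]
    field_simp
  -- abelianization divides
  have hqdvd : ∀ i, (a i * e i + 1) ∣ Nat.card (H i) := by
    intro i
    rw [(hloc i).q_eq]
    exact Subgroup.card_quotient_dvd_card _
  apply arith_main e a (fun i => Nat.card (H i)) (Nat.card G) (mm η β) hgpos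
    (fun j => (hloc j).e_odd) (fun j => (hloc j).e_ge) (fun j => (hloc j).a_even)
    (fun j => (hloc j).a_ge) hhpos
  · intro i j hij heq
    have h1 := hqdvd i
    have h2 := hqdvd j
    rw [heq] at h1
    have h3 : a j * e j + 1 = 1 := Nat.eq_one_of_dvd_coprimes (hcop i j hij) h1 h2
    have := (hloc j).a_ge
    have := (hloc j).e_ge
    have : 0 < a j * e j := Nat.mul_pos (by omega) (by omega)
    omega
  · intro j haj hej
    haveI := (hloc j).nilp
    have hq := (hloc j).q_eq
    rw [haj, hej] at hq
    have hp : (Nat.card (Abelianization (H j))).Prime := by rw [← hq]; norm_num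
    rw [card_eq_card_abelianization_of_prime (H j) hp, ← hq]
  · exact hcount
  · intro i j hji h0 h0'
    have := odd_mm hodd hloc hdisj (i := i) (j := j) (Ne.symm hji)
    rw [h0, h0'] at this
    simp at this
  · exact boundA hloc hdisj
  · exact boundB hloc hdisj

end Cfsg.Agent.S1526
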