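import Cfsg.Statements.S1695
import Cfsg.Agent.Lib.Helper6.Spor.HeOrd
import Cfsg.Agent.Lib.Helper6.Simp4
import Cfsg.Agent.Lib.Helper6.TCD.HeaL.NC
import Cfsg.Agent.Lib.Helper6.TCD.HeC.Idx

set_option autoImplicit false
open Cfsg

namespace Cfsg.Agent.S1695

open Cfsg.Spor Cfsg.Agent.Lib.Helper6.TC Cfsg.Agent.Lib.Helper6.TCD Cfsg.Agent.Lib.Helper6.Simp
open Cfsg.Agent.Lib.Helper6.TCP.He Cfsg.Agent.Lib.Helper6.TCD.Hea Cfsg.Agent.Lib.Helper6.TCD.HeaL

section helpers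
set_option maxRecDepth 100000
set_option linter.unusedSimpArgs false

/-- an element of order 7 -/
def wx : List ℕ := [6, 2, 4, 2, 5, 3]
def wu : List ℕ := [2]
def wv : List ℕ := [2, 4, 3, 6, 5, 2, 3]

/-- the word of a conjugate of a power of `x x^u` that is equal to a generator -/
noncomputable def wR : List ℕ :=
  invw Cfsg.Agent.Lib.Helper6.TCP.He.INV wv ++
    (List.replicate 1 (wx ++ invw Cfsg.Agent.Lib.Helper6.TCP.He.INV wu ++ wx ++ wu)).flatten ++ wv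

theorem hXP : ∀ q < 2058, wapp px (List.replicate 7 wx).flatten q = q := by
  intro q hq
  have e : (List.replicate 7 wx).flatten = [6, 2, 4, 2, 5, 3, 6, 2, 4, 2, 5, 3, 6, 2, 4, 2, 5, 3, 6, 2, 4, 2, 5, 3, 6, 2, 4, 2, 5, 3, 6, 2, 4, 2, 5, 3, 6, 2, 4, 2, 5, 3] := by
    decide +kernel
  have e2 : wapp px [6, 2, 4, 2, 5, 3, 6, 2, 4, 2, 5, 3, 6, 2, 4, 2, 5, 3, 6, 2, 4, 2, 5, 3, 6, 2, 4, 2, 5, 3, 6, 2, 4, 2, 5, 3, 6, 2, 4, 2, 5, 3] q = XP q := by
    simp only [wapp_cons, wapp_nil, Cfsg.Agent.S1683.px_c0, Cfsg.Agent.S1683.px_c1, Cfsg.Agent.S1683.px_c2, Cfsg.Agent.S1683.px_c3, Cfsg.Agent.S1683.px_c4, Cfsg.Agent.S1683.px_c5, Cfsg.Agent.S1683.px_c6]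
    rfl
  rw [e, e2]
  exact chkFix_spec chkXP0 q (by omega) (by omega)

theorem hWR : ∀ q < 2058, wapp px wR q = wapp px [4] q := by
  intro q hq
  have e : wR = [3, 2, 5, 6, 3, 4, 2, 6, 2, 4, 2, 5, 3, 2, 6, 2, 4, 2, 5, 3, 2, 2, 4, 3, 6, 5, 2, 3] := by
    decide +kernel
  have e2 : wapp px [3, 2, 5, 6, 3, 4, 2, 6, 2, 4, 2, 5, 3, 2, 6, 2, 4, 2, 5, 3, 2, 2, 4, 3, 6, 5, 2, 3] q = WR q := by
    simp only [wapp_cons, wapp_nil, Cfsg.Agent.S1683.px_c0, Cfsg.Agent.S1683.px_c1, Cfsg.Agent.S1683.px_c2, Cfsg.Agent.S1683.px_c3, Cfsg.Agent.S1683.px_c4, Cfsg.Agent.S1683.px_c5, Cfsg.Agent.S1683.px_c6]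
    rfl
  rw [e, e2]
  exact chkEqF_spec chkWR0 q (by omega) (by omega)

theorem hmove : wapp px wx 0 ≠ 0 := by decide +kernel

/-- the sizes of the four orbits -/
def sz : Fin 4 → ℕ := ![136, 136, 425, 1360]

theorem hdvd : ∀ T : Finset (Fin 4), (1 + ∑ i ∈ T, sz i) ∣ 2058 → T = ∅ ∨ T = Finset.univ := by
  decide

theorem hpair : ∀ i j : Fin 4, i ≠ j → sz i = sz j → (i = 0 ∧ j = 1) ∨ (i = 1 ∧ j = 0) := by
  decide

/-- the presentation with the generator `e` killed is trivial -/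
theorem htriv : Finite (WG 7 HeC.base) ∧ Nat.card (WG 7 HeC.base) ≤ 1 :=
  wp_bottom HeC.idx

theorem hCbase : ∀ b ∈ HeC.base, b ∈ Cfsg.Agent.Lib.Helper6.TCP.He.base ∨ b = [4] := by
  decide +kernel

end helpers

/-- The presented Held group is simple of the expected order (that is, it is a simple group of the order of the Held group). -/
theorem result : Cfsg.IsHe Cfsg.Spor.He := by
  obtain ⟨φ, hw, ⟨F, hF⟩, hinj, hcard, hfin⟩ := Cfsg.Agent.Lib.Helper6.HeOrd.rep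
  refine ⟨?_, hcard⟩
  have hnt : Nontrivial He := by
    rw [← Finite.one_lt_card_iff_nontrivial, hcard]
    norm_num
  obtain ⟨hidx, q₁, q₂, q₃, q₄, h12, h1, h2, h3, h4⟩ := Cfsg.Agent.S1683.result
  have hsz : ∀ i, (MulAction.orbit (subH Rels Cfsg.Agent.S1683.S) (![q₁, q₂, q₃, q₄] i)).ncard = sz i := by
    intro i
    fin_cases i
    · exact h1
    · exact h2
    · exact h3
    · exact h4
  have hmax := coatom_of_orbits (subH Rels Cfsg.Agent.S1683.S) hidx ![q₁, q₂, q₃, q₄] sz hsz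
    (by
      intro i j hij heq
      have hc : sz i = sz j := by rw [← hsz i, ← hsz j, heq]
      have h01 : (i = 0 ∧ j = 1) ∨ (i = 1 ∧ j = 0) := hpair i j hij hc
      rcases h01 with ⟨rfl, rfl⟩ | ⟨rfl, rfl⟩
      · exact h12 heq
      · exact h12 heq.symm)
    (by decide) (by decide) hdvd
  have : Fact (Nat.Prime 7) := ⟨by norm_num⟩
  refine simple_of_max' (subH Rels Cfsg.Agent.S1683.S) hmax (core_eq_bot hinj F hF) (p := 7) (k := 3)
    (by rw [hidx]; norm_num) (by rw [hcard]; norm_num)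
    (x := PresentedGroup.mk Rels (wordElt gc wx))
    (orderOf_word hinj hw (by decide) hXP (q0 := 0) (by decide) hmove) ?_
  intro K hK hxK
  have ha : PresentedGroup.mk Rels (wordElt gc [4]) ∈ K := by
    rw [← mk_eq_of_wapp_eq (gc := gc) hinj hw (w := wR) (by decide +kernel) (by decide) hWR]
    exact conj_word_mem hinvG hK 1 (by decide) (by decide) hxK
  refine eq_top_of_trivial_wp htriv hgen HeC.hbl ?_
  intro b hb
  rcases hCbase b hb with h | h
  · rw [hbase b h]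
    exact K.one_mem
  · rw [h]
    exact ha

end Cfsg.Agent.S1695
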