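import Mathlib
import Cfsg.Statements.S1972
import Cfsg.Agent.Lib.Helper4.TransferCore4
-- import your own Cfsg.Agent.* helpers here

set_option autoImplicit false
universe u
open Cfsg Cfsg.Agent.Lib.Helper4
open scoped commutatorElement

namespace Cfsg.Agent.S1972

/-- Let p be a prime, G a finite group and W an isomorphism-invariant p-group functor (W assigns to every group Q a subgroup W(Q), nontrivial whenever Q is a nontrivial finite p-group, and every isomorphism from a finite p-group Q onto a group R carries W(Q) onto W(R)). Suppose that whenever G* = K/R is a section of G with C_{G*}(O_p(G*)) ≤ O_p(G*) and S* is a Sylow p-subgroup of G* with W(S*) not normal in G*, there is an element g of S* outside O_p(G*) such that [X, g, …, g] ≤ Y with p − 1 entries g, for every chief factor X/Y of G* with X ≤ O_p(G*). Then W controls transfer in every section of G. -/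
theorem result {G : Type u} [Group G] [Finite G] {p : ℕ} [Fact p.Prime] (W : ∀ (Q : Type u) [Group Q], Subgroup Q) (hW : Cfsg.IsCharPFunctor.{u} p W) (hloc : ∀ (K R : Subgroup G) [hR : (R.subgroupOf K).Normal], Subgroup.centralizer ((Cfsg.pCore p (↥K ⧸ R.subgroupOf K) : Subgroup (↥K ⧸ R.subgroupOf K)) : Set (↥K ⧸ R.subgroupOf K)) ≤ Cfsg.pCore p (↥K ⧸ R.subgroupOf K) → ∀ T : Sylow p (↥K ⧸ R.subgroupOf K), ¬ (Cfsg.inducedFunctor (G := (↥K ⧸ R.subgroupOf K)) W ((T : Subgroup (↥K ⧸ R.subgroupOf K)))).Normal → ∃ g : (↥K ⧸ R.subgroupOf K), g ∈ (T : Subgroup (↥K ⧸ R.subgroupOf K)) ∧ g ∉ Cfsg.pCore p (↥K ⧸ R.subgroupOf K) ∧ ∀ U V : Subgroup (↥K ⧸ R.subgroupOf K), Cfsg.IsChiefFactor U V → U ≤ Cfsg.pCore p (↥K ⧸ R.subgroupOf K) → Cfsg.iterCommutator U (Subgroup.zpowers g) (p - 1) ≤ V) : ∀ (K R : Subgroup G) [hR : (R.subgroupOf K).Normal], Cfsg.ControlsTransferIn p (Cfsg.inducedFunctor (G := (↥K ⧸ R.subgroupOf K)) W) ⊤ := by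
  classical
  have h𝓦 : ∀ W' ∈ ({W} : Set (∀ (Q : Type u) [Group Q], Subgroup Q)), IsCharPFunctor.{u} p W' := by
    intro W' hW'
    rw [Set.mem_singleton_iff.mp hW']; exact hW
  have key : ∀ n : ℕ, ∀ (K R : Subgroup G) [hR : (R.subgroupOf K).Normal],
      Nat.card (↥K ⧸ R.subgroupOf K) = n → ∀ T : Sylow p (↥K ⧸ R.subgroupOf K),
        (T : Subgroup (↥K ⧸ R.subgroupOf K)) ⊓ commutator (↥K ⧸ R.subgroupOf K) ≤
          tcTarget {W} (T : Subgroup (↥K ⧸ R.subgroupOf K)) := by
    intro n
    induction n using Nat.strong_induction_on with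
    | _ n ih =>
    intro K R hR hn T
    by_contra hfail
    have hsecs : ∀ (Y : Type u) [Group Y] [Finite Y], IsSectionOf G Y → Nat.card Y < n →
        ∀ T' : Sylow p Y, (T' : Subgroup Y) ⊓ commutator Y ≤ tcTarget {W} (T' : Subgroup Y) := by
      intro Y _ _ hY hcard
      obtain ⟨K', R', hR', ⟨e⟩⟩ := hY.exists_equiv
      have h1 := ih (Nat.card Y) hcard K' R' (Nat.card_congr e.toEquiv).symm
      exact tc_of_mulEquiv h𝓦 e h1
    have hZ : IsSectionOf G (↥K ⧸ R.subgroupOf K) := isSectionOf_quotient_subgroupOf K R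
    have hmf : MinFail {W} T :=
      { h𝓦 := h𝓦
        hne := ⟨W, rfl⟩
        sub := by
          intro H hH
          exact hsecs ↥H (hZ.subgroup H) (by rw [← hn]; exact card_subgroup_lt_of_ne_top hH)
        quot := by
          intro N _ hN
          exact hsecs _ (hZ.quotient N) (by rw [← hn]; exact card_quotient_lt_of_ne_bot hN)
        fail := hfail }
    have hc := hmf.centralizer_pCore_le
    have hnn : ¬ (Cfsg.inducedFunctor (G := (↥K ⧸ R.subgroupOf K)) W
        ((T : Subgroup (↥K ⧸ R.subgroupOf K)))).Normal := by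
      intro hnorm
      apply hfail
      rw [tcTarget_singleton, Subgroup.normalizer_eq_top_iff.mpr hnorm, commutator_def]
    obtain ⟨g, hgT, hgQ, hE⟩ := hloc K R hc T hnn
    obtain ⟨U, V, hch, hUQ, hnE⟩ := hmf.exists_chief_not_engel g hgT hgQ
    exact hnE (hE U V hch hUQ)
  intro K R hR
  obtain ⟨S⟩ : Nonempty (Sylow p (↥K ⧸ R.subgroupOf K)) := inferInstance
  refine ⟨(S : Subgroup (↥K ⧸ R.subgroupOf K)), le_top, S.isPGroup', ?_, ?_⟩
  · rw [Subgroup.relIndex_top_right]; exact S.not_dvd_index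
  · simp only [top_inf_eq]
    apply le_antisymm
    · have h1 := key _ K R rfl S
      rw [tcTarget_singleton, commutator_def] at h1
      exact h1
    · exact inf_le_inf_left _ (Subgroup.commutator_mono le_top le_top)

end Cfsg.Agent.S1972
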