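import Cfsg.Statements.S1580
import Cfsg.Agent.Lib.Helper1.EnP6All
import Cfsg.Agent.Lib.Helper1.EnC6
import Cfsg.Agent.Lib.Helper1.LeechEnum11

set_option autoImplicit false
open Cfsg

namespace Cfsg.Agent.S1580

open Cfsg.Agent.Lib.Helper1 Cfsg.Agent.Lib.Helper1.LeechEnum Cfsg.Agent.Lib.Helper1.LeechConn
  Cfsg.Agent.Lib.Helper1.LeechAut

theorem hY : ∀ y ∈ EnP6.prob.Y, Good y := by
  intro y hy
  have h : y ∈ [pD0, pU] := hy
  have : y = pD0 ∨ y = pU := by simpa using h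
  rcases this with rfl | rfl
  · exact good_pD0
  · exact good_pU

theorem cond_iff (v : ℕ) (hv : v < 65536 ^ 24) (hg : Good v) :
    EnP6.prob.cond v = true ↔
      (dotInt d₀ (vec v) = 24 ∧ dotInt Cfsg.Spor.vecU (vec v) = 16) := by
  have h2 := dot_d0 v
  rw [sum_flds hv hg] at h2
  have h3 := dot_vecU v
  show (Nat.beq (v % 65535 + 4 * fld 23 v) 7192 && Nat.beq (fld 23 v + fld 0 v) 516) = true ↔ _
  rw [Bool.and_eq_true, nbeq_iff, nbeq_iff, h2, h3]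
  omega

theorem reach (z : GolayPt → ℤ) (hz : z ∈ leechLattice)
    (hc : sqNorm z = 32 ∧ dotInt d₀ z = 24 ∧ dotInt Cfsg.Spor.vecU z = 16) :
    ReachG [d₀, Cfsg.Spor.vecU] z (vec EnP6.prob.z0) := by
  have h := (reach_of_checks hY EnP6.gens_ok ⟨_, EnP6.chkA_ok⟩ EnP6.all_ok hz hc.1
    (fun v hv hvz => (cond_iff v hv (good_of hvz hz (by rw [hc.1]; norm_num))).2
      (by rw [hvz]; exact hc.2))).toG
  have e1 : EnP6.prob.Y.map vec = [d₀, Cfsg.Spor.vecU] := by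
    show [vec pD0, vec pU] = _
    rw [vec_pD0, vec_pU]
  rwa [e1] at h

/-- The McLaughlin configuration: for u of customary norm 6 and v minimal with u − v minimal, there are 275 further such summands x of customary inner product 2 with v, permuted transitively by the stabiliser of u and v. -/
theorem result (u v : ↥Cfsg.leechLattice) (hu : Cfsg.sqNorm (u : Cfsg.GolayPt → ℤ) = 48) (hv : Cfsg.sqNorm (v : Cfsg.GolayPt → ℤ) = 32 ∧ Cfsg.sqNorm ((u - v) : Cfsg.GolayPt → ℤ) = 32) : {x : ↥Cfsg.leechLattice | Cfsg.sqNorm (x : Cfsg.GolayPt → ℤ) = 32 ∧ Cfsg.sqNorm ((u - x) : Cfsg.GolayPt → ℤ) = 32 ∧ Cfsg.dotInt (v : Cfsg.GolayPt → ℤ) (x : Cfsg.GolayPt → ℤ) = 16}.ncard = 275 ∧ ∀ x ∈ {x : ↥Cfsg.leechLattice | Cfsg.sqNorm (x : Cfsg.GolayPt → ℤ) = 32 ∧ Cfsg.sqNorm ((u - x) : Cfsg.GolayPt → ℤ) = 32 ∧ Cfsg.dotInt (v : Cfsg.GolayPt → ℤ) (x : Cfsg.GolayPt → ℤ) = 16}, ∀ x' ∈ {x : ↥Cfsg.leechLattice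 | Cfsg.sqNorm (x : Cfsg.GolayPt → ℤ) = 32 ∧ Cfsg.sqNorm ((u - x) : Cfsg.GolayPt → ℤ) = 32 ∧ Cfsg.dotInt (v : Cfsg.GolayPt → ℤ) (x : Cfsg.GolayPt → ℤ) = 16}, ∃ g : ↥Cfsg.Co0, g • u = u ∧ g • v = v ∧ g • x = x' := by
  obtain ⟨h, hh1, hh2⟩ := std_pair_A u v hu hv
  have key : ∀ x : leechLattice,
      (sqNorm (x : GolayPt → ℤ) = 32 ∧ sqNorm ((u - x) : GolayPt → ℤ) = 32 ∧
        dotInt (v : GolayPt → ℤ) (x : GolayPt → ℤ) = 16) ↔
      (sqNorm ((h • x : leechLattice) : GolayPt → ℤ) = 32 ∧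
        dotInt d₀ ((h • x : leechLattice) : GolayPt → ℤ) = 24 ∧
        dotInt Cfsg.Spor.vecU ((h • x : leechLattice) : GolayPt → ℤ) = 16) := by
    intro x
    have h3 := dot_of_norms (u : GolayPt → ℤ) x
    rw [smul_norm h x, ← hh1, ← hh2, smul_dot, smul_dot, h3, hu]
    constructor
    · rintro ⟨a, b, c⟩; rw [a] at b; exact ⟨a, by omega, c⟩
    · rintro ⟨a, b, c⟩; rw [a, b]; exact ⟨rfl, by norm_num, c⟩
  constructor
  · have e1 : {x : ↥Cfsg.leechLattice | Cfsg.sqNorm (x : Cfsg.GolayPt → ℤ) = 32 ∧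
        Cfsg.sqNorm ((u - x) : Cfsg.GolayPt → ℤ) = 32 ∧
        Cfsg.dotInt (v : Cfsg.GolayPt → ℤ) (x : Cfsg.GolayPt → ℤ) = 16} =
        {x : leechLattice | (fun w : leechLattice => sqNorm (w : GolayPt → ℤ) = 32 ∧
          (dotInt d₀ (w : GolayPt → ℤ) = 24 ∧
            dotInt Cfsg.Spor.vecU (w : GolayPt → ℤ) = 16)) (h • x)} := by
      ext x
      exact key x
    rw [e1, ncard_smul h (fun w : leechLattice => sqNorm (w : GolayPt → ℤ) = 32 ∧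
          (dotInt d₀ (w : GolayPt → ℤ) = 24 ∧
            dotInt Cfsg.Spor.vecU (w : GolayPt → ℤ) = 16)),
      ncard_subtype (fun z => sqNorm z = 32 ∧ (dotInt d₀ z = 24 ∧
        dotInt Cfsg.Spor.vecU z = 16))]
    exact EnC6.census (fun z => dotInt d₀ z = 24 ∧ dotInt Cfsg.Spor.vecU z = 16) cond_iff
  · intro x hx x' hx'
    obtain ⟨g, hg1, hg2⟩ := stab_trans reach h x x' ((key x).1 hx) ((key x').1 hx')
    exact ⟨g, hg1 u (by rw [hh1]; simp), hg1 v (by rw [hh2]; simp), hg2⟩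

end Cfsg.Agent.S1580
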