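import Cfsg.Statements.S0095
import Cfsg.Agent.Lib.Lead.ExtraspecialCard
open scoped commutatorElement

set_option autoImplicit false
open Cfsg

namespace Cfsg.Agent.S0095

/-- The order of an extraspecial p-group is an odd power p^(2n+1) of p with n ≥ 1. -/
theorem result {P : Type*} [Group P] [Finite P] {p : ℕ} [Fact p.Prime] (h : Cfsg.IsExtraspecial p P) : ∃ n : ℕ, 1 ≤ n ∧ Nat.card P = p ^ (2 * n + 1) := by
  classical
  obtain ⟨⟨hP, hfrat, hcommP⟩, hcard⟩ := h
  have hp : p.Prime := Fact.out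
  have hcomm : ∀ g t : P, ⁅g, t⁆ ∈ Subgroup.center P := by
    intro g t
    rw [← hcommP, commutator_def]
    exact Subgroup.commutator_mem_commutator (Subgroup.mem_top g) (Subgroup.mem_top t)
  have htop : (⊤ : Subgroup P) ⊓ Subgroup.centralizer ((⊤ : Subgroup P) : Set P) = Subgroup.center P := by
    rw [Subgroup.coe_top, Subgroup.centralizer_univ, top_inf_eq]
  obtain ⟨m, hm⟩ := Cfsg.Agent.Lib.Lead.extraspecial_card_aux hcard hcomm (Nat.card (⊤ : Subgroup P)) ⊤ le_rfl le_top htop
  rw [Subgroup.card_top] at hm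
  refine ⟨m, ?_, hm⟩
  by_contra hm0
  have hm0' : m = 0 := by omega
  subst hm0'
  simp only [Nat.mul_zero, Nat.zero_add, pow_one] at hm
  have hZtop : Subgroup.center P = ⊤ := by
    apply Subgroup.eq_top_of_card_eq
    rw [hcard, hm]
  have hcomm1 : commutator P = ⊥ := by
    rw [commutator_def, Subgroup.commutator_eq_bot_iff_le_centralizer, Subgroup.coe_top, Subgroup.centralizer_univ, hZtop]
  rw [hcommP] at hcomm1
  rw [hcomm1, Subgroup.card_bot] at hcard
  exact hp.one_lt.ne hcard

end Cfsg.Agent.S0095
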