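import Cfsg.Statements.S0868
import Mathlib
import Cfsg.Agent.S0856
import Cfsg.Agent.Lib.Helper8.AvgNormal
import Cfsg.Agent.Lib.Helper1.CharFound8
import Cfsg.Agent.S0161

set_option autoImplicit false
open scoped ComplexConjugate
open Cfsg

namespace Cfsg.Agent.S0868


open Cfsg.Agent.Lib.Helper1 Cfsg.Agent.Lib.Helper4 Cfsg.Agent.Lib.Helper8 in
open scoped ComplexConjugate in
/-- the coset average in the statement is the `avgN` of the product `ψ · χ̄` -/
theorem eta_eq_avgN {G : Type*} [Group G] [Fintype G] (N : Subgroup G) [N.Normal] [Fintype N]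
    (χ ψ : G → ℂ) (g : G) :
    (Nat.card N : ℂ)⁻¹ * ∑ n : N, ψ ((n : G) * g) * conj (χ ((n : G) * g))
      = avgN N (ψ * fun x => conj (χ x)) g := by
  classical
  unfold avgN
  congr 1
  have h1 : ∑ n : N, ψ ((n : G) * g) * conj (χ ((n : G) * g))
      = ∑ n ∈ subFinset N, ψ (n * g) * conj (χ (n * g)) := by
    symm
    exact Finset.sum_subtype (subFinset N) (fun x => mem_subFinset)
      (fun n : G => ψ (n * g) * conj (χ (n * g)))
  rw [h1, ← sum_subFinset_conj N g⁻¹ (fun n => (ψ * fun x => conj (χ x)) (g * n))]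
  refine Finset.sum_congr rfl fun n _ => ?_
  simp only [Pi.mul_apply, inv_inv]
  have : g * (g⁻¹ * n * g) = n * g := by group
  rw [this]

open Cfsg.Agent.Lib.Helper1 Cfsg.Agent.Lib.Helper4 Cfsg.Agent.Lib.Helper8 in
open scoped ComplexConjugate in
/-- `⟨ψ χ̄, ξ⟩ = ⟨ψ, ξ χ⟩` -/
theorem classInner_mul_conj {G : Type*} [Group G] [Fintype G] (ψ χ ξ : G → ℂ) :
    Cfsg.classInner (ψ * fun x => conj (χ x)) ξ = Cfsg.classInner ψ (ξ * χ) := by
  rw [classInner_def, classInner_def]
  congr 1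
  refine Finset.sum_congr rfl fun g _ => ?_
  simp only [Pi.mul_apply, map_mul]
  ring

open Cfsg.Agent.Lib.Helper1 Cfsg.Agent.Lib.Helper4 Cfsg.Agent.Lib.Helper8 in
open scoped ComplexConjugate in
/-- the multiplicity of an irreducible `ξ` in `Ind_N^G 1` in terms of `avgScalar` -/
theorem classInner_ind_one {G : Type*} [Group G] [Fintype G] (N : Subgroup G) [N.Normal] [Fintype N]
    (ξ : G → ℂ) (hξ : Cfsg.IsIrrCharacter G ξ) :
    Cfsg.classInner (Cfsg.indFun N (fun _ => (1 : ℂ))) ξ = conj (avgScalar N ξ * ξ 1) := by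
  classical
  rw [Cfsg.Agent.S0146.result N _ ξ (isClassFunction_irr hξ), classInner_def]
  unfold avgScalar
  have hξ1 : ξ 1 ≠ 0 := irr_apply_one_ne_zero hξ
  rw [mul_assoc, div_mul_cancel₀ _ hξ1, map_mul, map_inv₀, Complex.conj_natCast, map_sum]
  congr 1
  simp only [one_mul]
  exact (Finset.sum_subtype (subFinset N) (fun x => mem_subFinset) (fun n : G => conj (ξ n))).symm

/-- Let N be a normal subgroup of the finite group G, χ an irreducible character of G whose restriction ϑ to N is irreducible, and ψ an irreducible character of G. Define η on G by η g = (1 / order of N) * Σ over n in N of ψ (n * g) * conj (χ (n * g)). Then: if the restriction of ψ to N has nonzero inner product with ϑ, η is an irreducible character of G; if that inner product is zero, η vanishes identically; and if ψ = χ then η is identically 1. -/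
theorem result {G : Type*} [Group G] [Fintype G] (N : Subgroup G) [N.Normal] [Fintype N] (χ : G → ℂ) (hχ : Cfsg.IsIrrCharacter G χ) (hχN : Cfsg.IsIrrCharacter N (fun n : N => χ n)) (ψ : G → ℂ) (hψ : Cfsg.IsIrrCharacter G ψ) (η : G → ℂ) (hη : η = fun g => (Nat.card N : ℂ)⁻¹ * ∑ n : N, ψ ((n : G) * g) * conj (χ ((n : G) * g))) : (Cfsg.classInner (fun n : N => ψ n) (fun n : N => χ n) ≠ 0 → Cfsg.IsIrrCharacter G η) ∧ (Cfsg.classInner (fun n : N => ψ n) (fun n : N => χ n) = 0 → η = 0) ∧ (ψ = χ → η = fun _ => 1) := by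
  classical
  haveI : Fintype (Cfsg.IrrCharacter G) := Fintype.ofFinite _
  have hχcf : Cfsg.IsClassFunction G χ := Cfsg.Agent.Lib.Helper1.isClassFunction_irr hχ
  have hψcf : Cfsg.IsClassFunction G ψ := Cfsg.Agent.Lib.Helper1.isClassFunction_irr hψ
  have hcχ : Cfsg.IsIrrCharacter G (fun x => conj (χ x)) := Cfsg.Agent.Lib.Helper1.isIrrCharacter_conj hχ
  have hΨc : Cfsg.IsCharacter G (ψ * fun x => conj (χ x)) :=
    Cfsg.Agent.S0177.isCharacter_mul (Cfsg.Agent.Lib.Helper4.isCharacter_of_irr hψ)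
      (Cfsg.Agent.Lib.Helper4.isCharacter_of_irr hcχ)
  have hηavg : η = Cfsg.Agent.Lib.Helper8.avgN N (ψ * fun x => conj (χ x)) := by
    rw [hη]; funext g; exact eta_eq_avgN N χ ψ g
  have hηcf : Cfsg.IsClassFunction G η := by
    rw [hηavg]
    exact Cfsg.Agent.Lib.Helper8.isClassFunction_avgN N
      (Cfsg.Agent.Lib.Helper4.isClassFunction_of_isCharacter hΨc)
  -- coefficients of η
  have hcoef : ∀ ξ : Cfsg.IrrCharacter G, Cfsg.classInner η (ξ : G → ℂ)
      = conj (Cfsg.Agent.Lib.Helper8.avgScalar N (ξ : G → ℂ)) * Cfsg.classInner ψ ((ξ : G → ℂ) * χ) := by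
    intro ξ
    rw [hηavg, Cfsg.Agent.Lib.Helper8.classInner_avgN, Cfsg.Agent.Lib.Helper8.avgN_irr N ξ.2,
      Cfsg.Agent.Lib.Helper4.classInner_smul_right, classInner_mul_conj]
  have hexp := Cfsg.Agent.Lib.Helper1.class_function_expansion η hηcf
  -- Gallagher via S0856 with φ = 1
  have h1irr : Cfsg.IsIrrCharacter N (fun _ => (1 : ℂ)) := Cfsg.Agent.S0161.isIrrCharacter_one
  have hprodeq : ((fun _ => (1 : ℂ)) * fun n : N => χ n) = fun n : N => χ n := by
    funext n; simp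
  have hbij := Cfsg.Agent.S0856.result N (fun _ => (1 : ℂ)) (fun n : N => χ n) h1irr hχN
    (fun _ _ => rfl) (fun g n => hχcf n g) (by rw [hprodeq]; exact hχN) χ hχ (fun _ => rfl)
  rw [hprodeq] at hbij
  obtain ⟨hmaps, hinj, hsurj⟩ := hbij
  -- membership in A via avgScalar
  have hA : ∀ ξ : Cfsg.IrrCharacter G, Cfsg.Agent.Lib.Helper8.avgScalar N (ξ : G → ℂ) ≠ 0 →
      (ξ : G → ℂ) ∈ {β : G → ℂ | Cfsg.IsIrrCharacter G β ∧
        Cfsg.classInner (Cfsg.indFun N (fun _ => (1 : ℂ))) β ≠ 0} := by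
    intro ξ hs
    refine ⟨ξ.2, ?_⟩
    rw [classInner_ind_one N ξ ξ.2]
    intro h
    rw [map_eq_zero] at h
    rcases mul_eq_zero.mp h with h | h
    · exact hs h
    · exact Cfsg.Agent.Lib.Helper4.irr_apply_one_ne_zero ξ.2 h
  have hA' : ∀ β : G → ℂ, β ∈ {β : G → ℂ | Cfsg.IsIrrCharacter G β ∧
        Cfsg.classInner (Cfsg.indFun N (fun _ => (1 : ℂ))) β ≠ 0} →
      Cfsg.Agent.Lib.Helper8.avgScalar N β = 1 := by
    rintro β ⟨hβ, hne⟩
    rw [classInner_ind_one N β hβ] at hne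
    rcases Cfsg.Agent.Lib.Helper8.avgScalar_eq N hβ with h | h
    · exfalso; apply hne; rw [h, zero_mul, map_zero]
    · exact h
  -- membership in B via the restriction
  have hB : ∀ φ' : G → ℂ, Cfsg.IsIrrCharacter G φ' →
      (Cfsg.classInner (Cfsg.indFun N (fun n : N => χ n)) φ' ≠ 0 ↔
        Cfsg.classInner (fun n : N => φ' n) (fun n : N => χ n) ≠ 0) := by
    intro φ' hφ'
    rw [Cfsg.Agent.S0146.result N _ φ' (Cfsg.Agent.Lib.Helper1.isClassFunction_irr hφ'),
      ← Cfsg.Agent.Lib.Helper4.classInner_conj_symm]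
    simp only [ne_eq, map_eq_zero]
  -- the key computation
  have key : ∀ β : G → ℂ, β ∈ {β : G → ℂ | Cfsg.IsIrrCharacter G β ∧
        Cfsg.classInner (Cfsg.indFun N (fun _ => (1 : ℂ))) β ≠ 0} → β * χ = ψ → η = β := by
    intro β hβA hβψ
    have hcoef' : ∀ ξ : Cfsg.IrrCharacter G, Cfsg.classInner η (ξ : G → ℂ)
        = if ξ = ⟨β, hβA.1⟩ then 1 else 0 := by
      intro ξ
      rw [hcoef ξ]
      by_cases hξ : ξ = ⟨β, hβA.1⟩
      · rw [if_pos hξ, hξ]
        simp only
        rw [hA' β hβA, map_one, one_mul, hβψ, Cfsg.Agent.Lib.Helper4.classInner_irr_self hψ]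
      · rw [if_neg hξ]
        by_cases hs : Cfsg.Agent.Lib.Helper8.avgScalar N (ξ : G → ℂ) = 0
        · rw [hs, map_zero, zero_mul]
        · have hξA := hA ξ hs
          have hirr : Cfsg.IsIrrCharacter G ((ξ : G → ℂ) * χ) := (hmaps hξA).1
          have hne : (ξ : G → ℂ) * χ ≠ ψ := by
            intro h
            apply hξ
            apply Subtype.ext
            exact hinj hξA hβA (h.trans hβψ.symm)
          rw [Cfsg.Agent.Lib.Helper4.classInner_irr hψ hirr, if_neg (fun h => hne h.symm), mul_zero]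
    rw [hexp, Finset.sum_congr rfl (fun ξ _ => by rw [hcoef' ξ])]
    simp only [ite_smul, one_smul, zero_smul, Finset.sum_ite_eq', Finset.mem_univ, if_true]
  refine ⟨?_, ?_, ?_⟩
  · intro hne
    have hψB : ψ ∈ {ψ : G → ℂ | Cfsg.IsIrrCharacter G ψ ∧
        Cfsg.classInner (Cfsg.indFun N (fun n : N => χ n)) ψ ≠ 0} := ⟨hψ, (hB ψ hψ).mpr hne⟩
    obtain ⟨β, hβA, hβψ⟩ := hsurj hψB
    rw [key β hβA hβψ]
    exact hβA.1
  · intro h0
    rw [hexp]
    apply Finset.sum_eq_zero
    intro ξ _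
    rw [hcoef ξ]
    by_cases hs : Cfsg.Agent.Lib.Helper8.avgScalar N (ξ : G → ℂ) = 0
    · rw [hs, map_zero, zero_mul, zero_smul]
    · have hξA := hA ξ hs
      have hmem : Cfsg.IsIrrCharacter G ((ξ : G → ℂ) * χ) ∧
          Cfsg.classInner (Cfsg.indFun N (fun n : N => χ n)) ((ξ : G → ℂ) * χ) ≠ 0 := hmaps hξA
      have hirr := hmem.1
      have hne : ψ ≠ (ξ : G → ℂ) * χ := by
        intro h
        have := (hB _ hirr).mp hmem.2
        rw [← h] at this
        exact this h0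
      rw [Cfsg.Agent.Lib.Helper4.classInner_irr hψ hirr, if_neg hne, mul_zero, zero_smul]
  · intro hψχ
    have h1A : (fun _ : G => (1 : ℂ)) ∈ {β : G → ℂ | Cfsg.IsIrrCharacter G β ∧
        Cfsg.classInner (Cfsg.indFun N (fun _ => (1 : ℂ))) β ≠ 0} := by
      refine ⟨Cfsg.Agent.S0161.isIrrCharacter_one, ?_⟩
      rw [Cfsg.Agent.S0146.result N _ _ (Cfsg.Agent.Lib.Helper1.isClassFunction_irr
        Cfsg.Agent.S0161.isIrrCharacter_one)]
      rw [Cfsg.Agent.Lib.Helper4.classInner_irr_self h1irr]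
      exact one_ne_zero
    apply key _ h1A
    rw [hψχ]
    funext g
    simp

end Cfsg.Agent.S0868
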