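import Mathlib
import Cfsg.Statements.S0169
import Cfsg.Agent.Lib.Helper1.CliffordCorr
import Cfsg.Agent.Lib.Helper1.ScalarIndex
import Cfsg.Agent.Lib.Helper1.LinearChar
import Cfsg.Agent.Lib.Helper1.CharInt
import Cfsg.Agent.S0138
import Cfsg.Agent.S0178

set_option autoImplicit false
open Cfsg

namespace Cfsg.Agent.S0169

open Cfsg.Agent.Lib.Helper1 Cfsg.Agent.Lib.Helper4
open scoped ComplexConjugate

/-- Itô's Theorem on character degrees: the degree of an irreducible complex representation of a finite group divides the index of any abelian normal subgroup. -/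
theorem result {G : Type*} [Group G] [Finite G] {V : Type*} [AddCommGroup V] [Module ℂ V] [FiniteDimensional ℂ V] (ρ : Representation ℂ G V) [ρ.IsIrreducible] (H : Subgroup G) [H.Normal] (hH : ∀ a ∈ H, ∀ b ∈ H, a * b = b * a) : Module.finrank ℂ V ∣ H.index := by
  classical
  have : Fintype G := Fintype.ofFinite G
  have : Fintype H := Fintype.ofFinite H
  set χ : G → ℂ := ρ.character with hχdef
  have hχ : Cfsg.IsIrrCharacter G χ := isIrrCharacter_character ρ
  have hχ1 : χ 1 = (Module.finrank ℂ V : ℂ) := Representation.char_one ρ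
  have hd0 : (Module.finrank ℂ V : ℂ) ≠ 0 := finrank_ne_zero_of_irreducible ρ
  have hres : Cfsg.IsCharacter H (fun h : H => χ h) :=
    Cfsg.Agent.S0148.isCharacter_restrict H (isCharacter_of_irr hχ)
  obtain ⟨θ, hθ, m, hm0, hm⟩ := exists_constituent hres (by
    change χ ((1 : H) : G) ≠ 0
    rw [OneMemClass.coe_one, hχ1]; exact hd0)
  have hconst : Cfsg.classInner (fun n : H => χ n) θ ≠ 0 := by
    rw [hm]; exact_mod_cast hm0.ne'
  -- θ is linear
  have hθ1 : θ 1 = 1 := by
    obtain ⟨n, σ, hσ, rfl⟩ := hθ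
    haveI := hσ
    have h1 := Cfsg.Agent.S0178.result σ ⊤ (fun a _ b _ => Subtype.ext (hH a a.2 b b.2))
    rw [Subgroup.index_top, Module.finrank_fin_fun] at h1
    have h2 : (Module.finrank ℂ (Fin n → ℂ) : ℂ) ≠ 0 := finrank_ne_zero_of_irreducible σ
    rw [Module.finrank_fin_fun] at h2
    have h3 : n ≠ 0 := by exact_mod_cast h2
    have h4 : n = 1 := by omega
    rw [Representation.char_one, Module.finrank_fin_fun, h4]
    simp
  obtain ⟨φ, hφ⟩ := exists_hom_of_isIrrCharacter hθ hθ1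
  have hnorm : ∀ h : H, ‖θ h‖ = 1 := by
    intro h
    rw [hφ]
    have h1 : ((φ h : ℂˣ) : ℂ) ^ orderOf h = 1 := by
      rw [← Units.val_pow_eq_pow_val, ← map_pow, pow_orderOf_eq_one, map_one, Units.val_one]
    exact Complex.norm_eq_one_of_pow_eq_one h1 (orderOf_pos h).ne'
  set T := inertia H θ with hT
  have hNT : H ≤ T := le_inertia H (isClassFunction_irr hθ)
  obtain ⟨ψ, hψ, hχψ, c, hc⟩ := clifford_correspondence H θ hθ χ hχ hconst T hT hNT
  obtain ⟨n, σ, hσ, hσψ⟩ := hψ
  haveI := hσ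
  have : Fintype T := Fintype.ofFinite T
  have hψ1 : ψ 1 = (n : ℂ) := by
    rw [← hσψ, Representation.char_one, Module.finrank_fin_fun]
  have hcn : c = n := by
    have h1 := hc 1
    have h2 : (⟨((1 : H) : G), hNT (1 : H).2⟩ : T) = 1 := Subtype.ext (by simp)
    rw [h2, hθ1, mul_one, hψ1] at h1
    exact h1.symm
  have hscal : ∀ a ∈ H.subgroupOf T, ∃ ω : ℂ, σ a = ω • (LinearMap.id : (Fin n → ℂ) →ₗ[ℂ] (Fin n → ℂ)) := by
    intro a ha
    rw [← Cfsg.Agent.S0138.result σ a, hσψ, Module.finrank_fin_fun]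
    have ha' : (a : G) ∈ H := Subgroup.mem_subgroupOf.1 ha
    have h1 := hc ⟨a, ha'⟩
    have h2 : (⟨((⟨(a : G), ha'⟩ : H) : G), hNT ha'⟩ : T) = a := Subtype.ext rfl
    rw [h2] at h1
    rw [h1, norm_mul, hnorm, mul_one, hcn]
    simp
  have hdvd := finrank_dvd_index_of_scalar σ (H.subgroupOf T) hscal
  rw [Module.finrank_fin_fun] at hdvd
  -- the degree equation
  have hdeg : Module.finrank ℂ V = T.index * n := by
    have h1 := congrFun hχψ 1
    rw [hχ1, Cfsg.Agent.S0170.indFun_one, hψ1] at h1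
    have hT0 : (Nat.card T : ℂ) ≠ 0 := Nat.cast_ne_zero.2 Nat.card_pos.ne'
    have h2 : (Module.finrank ℂ V : ℂ) * (Nat.card T : ℂ) = (Nat.card G : ℂ) * n := by
      rw [h1]; field_simp
    have h3 : Module.finrank ℂ V * Nat.card T = Nat.card G * n := by exact_mod_cast h2
    rw [← T.index_mul_card] at h3
    have h4 : Module.finrank ℂ V * Nat.card T = (T.index * n) * Nat.card T := by
      rw [h3]; ring
    exact Nat.eq_of_mul_eq_mul_right Nat.card_pos h4
  rw [hdeg, ← Subgroup.relIndex_mul_index hNT, mul_comm]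
  exact Nat.mul_dvd_mul hdvd dvd_rfl

end Cfsg.Agent.S0169
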