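import Mathlib
import Cfsg.Statements.S4713
import Cfsg.Agent.Lib.Helper8.IM2

set_option autoImplicit false
open Cfsg

namespace Cfsg.Agent.S4713

open scoped ComplexConjugate
open Cfsg.Agent.Lib.Helper1 Cfsg.Agent.Lib.Helper4 Cfsg.Agent.Lib.Helper8

/-- Let p be a prime and G a finite p-solvable group. Then G has a normal abelian Sylow p-subgroup if and only if the degree of every irreducible character of G is prime to p. -/
theorem result {G : Type*} [Group G] [Finite G] (p : ℕ) [Fact p.Prime] (hsolv : Cfsg.IsPSolvable p G) (P : Sylow p G) : ((P : Subgroup G).Normal ∧ IsMulCommutative P) ↔ ∀ χ : Cfsg.IrrCharacter G, ¬ p ∣ Cfsg.charDegree (χ : G → ℂ) := by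
  constructor
  · rintro ⟨hPn, hPc⟩ χ hdvd
    haveI := hPn
    have hA : ∀ a ∈ (P : Subgroup G), ∀ b ∈ (P : Subgroup G), a * b = b * a := by
      intro a ha b hb
      exact congrArg Subtype.val (hPc.is_comm.comm (⟨a, ha⟩ : (P : Subgroup G)) ⟨b, hb⟩)
    exact P.not_dvd_index (hdvd.trans (charDegree_dvd_index_of_abelian (P : Subgroup G) hA χ))
  · intro h
    obtain ⟨Q, hQn, hQc, hQp, hQidx⟩ :=
      exists_normal_abelian_sylow_of_pSolvable p (Nat.card G) G rfl hsolv h
    let Q' : Sylow p G := hQp.toSylow hQidx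
    have hQ' : (Q' : Subgroup G) = Q := rfl
    haveI : (Q' : Subgroup G).Normal := by rw [hQ']; exact hQn
    obtain ⟨g, hg⟩ := MulAction.exists_smul_eq G Q' P
    rw [Sylow.smul_eq_of_normal] at hg
    subst hg
    refine ⟨hQn, ⟨⟨?_⟩⟩⟩
    intro a b
    exact Subtype.ext (hQc a a.2 b b.2)

end Cfsg.Agent.S4713
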