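import Mathlib
import Cfsg.Statements.S1467
-- import your own Cfsg.Agent.* helpers here

set_option autoImplicit false
open Cfsg

namespace Cfsg.Agent.S1467

variable {G : Type*} [Group G]

theorem puigStep_antitone {X Y : Subgroup G} (h : X ≤ Y) : puigStep Y ≤ puigStep X := by
  apply sSup_le_sSup
  rintro A ⟨hA1, hA2⟩
  exact ⟨hA1, h.trans hA2⟩

theorem puigStep_bot : puigStep (⊥ : Subgroup G) = ⊤ := by
  rw [eq_top_iff]
  intro x _
  have hmem : Subgroup.zpowers x ∈ {A : Subgroup G | IsMulCommutative A ∧ (⊥ : Subgroup G) ≤ Subgroup.normalizer (A : Set G)} :=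
    ⟨inferInstance, bot_le⟩
  exact (le_sSup hmem) (Subgroup.mem_zpowers x)

theorem even_le_succ : ∀ k : ℕ, puigSeq G (2 * k) ≤ puigSeq G (2 * k + 2) ∧
    puigSeq G (2 * k + 3) ≤ puigSeq G (2 * k + 1) ∧ puigSeq G (2 * k) ≤ puigSeq G (2 * k + 1) := by
  intro k
  induction k with
  | zero =>
    refine ⟨?_, ?_, ?_⟩
    · show puigSeq G 0 ≤ _
      exact bot_le
    · show puigStep (puigSeq G 2) ≤ puigStep (puigSeq G 0)
      exact puigStep_antitone bot_le
    · exact bot_le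
  | succ k ih =>
    obtain ⟨h1, h2, h3⟩ := ih
    have e1 : 2 * (k + 1) = 2 * k + 2 := by ring
    have e2 : 2 * k + 2 + 2 = 2 * k + 4 := by ring
    have e3 : 2 * k + 2 + 3 = 2 * k + 5 := by ring
    have e4 : 2 * k + 2 + 1 = 2 * k + 3 := by ring
    rw [e1, e2, e3, e4]
    have a1 : puigSeq G (2 * k + 2) ≤ puigSeq G (2 * k + 4) := by
      show puigStep (puigSeq G (2 * k + 1)) ≤ puigStep (puigSeq G (2 * k + 3))
      exact puigStep_antitone h2
    have a2 : puigSeq G (2 * k + 5) ≤ puigSeq G (2 * k + 3) := by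
      show puigStep (puigSeq G (2 * k + 4)) ≤ puigStep (puigSeq G (2 * k + 2))
      exact puigStep_antitone a1
    have a3 : puigSeq G (2 * k + 2) ≤ puigSeq G (2 * k + 1) := by
      show puigStep (puigSeq G (2 * k + 1)) ≤ puigStep (puigSeq G (2 * k))
      exact puigStep_antitone h3
    have a4 : puigSeq G (2 * k + 2) ≤ puigSeq G (2 * k + 3) := by
      show puigStep (puigSeq G (2 * k + 1)) ≤ puigStep (puigSeq G (2 * k + 2))
      exact puigStep_antitone a3
    exact ⟨a1, a2, a4⟩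

theorem even_mono : Monotone (fun n => puigSeq G (2 * n)) := by
  apply monotone_nat_of_le_succ
  intro n
  exact (even_le_succ n).1

theorem odd_anti : Antitone (fun n => puigSeq G (2 * n + 1)) := by
  apply antitone_nat_of_succ_le
  intro n
  have : 2 * (n + 1) + 1 = 2 * n + 3 := by ring
  show puigSeq G (2 * (n + 1) + 1) ≤ _
  rw [this]
  exact (even_le_succ n).2.1

theorem even_le_odd (n m : ℕ) : puigSeq G (2 * n) ≤ puigSeq G (2 * m + 1) := by
  have h1 : puigSeq G (2 * n) ≤ puigSeq G (2 * (max n m)) := even_mono (le_max_left n m)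
  have h2 : puigSeq G (2 * (max n m) + 1) ≤ puigSeq G (2 * m + 1) := odd_anti (le_max_right n m)
  exact h1.trans (((even_le_succ (max n m)).2.2).trans h2)

theorem stab [Finite G] : ∃ k : ℕ, ∀ n : ℕ, k ≤ n →
    puigSeq G (2 * n) = puigLower G ∧ puigSeq G (2 * n + 1) = puigSubgroup G := by
  obtain ⟨k1, hk1⟩ := WellFoundedGT.monotone_chain_condition
    (⟨fun n => puigSeq G (2 * n), even_mono⟩ : ℕ →o Subgroup G)
  obtain ⟨k2, hk2⟩ := WellFoundedLT.antitone_chain_condition (odd_anti (G := G))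
  have hk1' : ∀ m, k1 ≤ m → puigSeq G (2 * k1) = puigSeq G (2 * m) := hk1
  have hk2' : ∀ m, k2 ≤ m → puigSeq G (2 * k2 + 1) = puigSeq G (2 * m + 1) := hk2
  have hL : puigLower G = puigSeq G (2 * k1) := by
    apply le_antisymm
    · apply iSup_le
      intro n
      rcases le_total n k1 with h | h
      · exact even_mono h
      · rw [hk1' n h]
    · exact le_iSup (fun n => puigSeq G (2 * n)) k1
  have hU : puigSubgroup G = puigSeq G (2 * k2 + 1) := by
    apply le_antisymm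
    · exact iInf_le (fun n => puigSeq G (2 * n + 1)) k2
    · apply le_iInf
      intro n
      rcases le_total n k2 with h | h
      · exact odd_anti h
      · rw [hk2' n h]
  refine ⟨max k1 k2, fun n hn => ⟨?_, ?_⟩⟩
  · rw [hL]; exact (hk1' n ((le_max_left _ _).trans hn)).symm
  · rw [hU]; exact (hk2' n ((le_max_right _ _).trans hn)).symm

/-- Let G be a finite group with Puig series L_n(G). Then L_0 = 1, L_1 = G; L_{2n} ≤ L_{2n+2} ≤ L_{2m+3} ≤ L_{2m+1} for all n, m; there is k with L_{2n}(G) = L_*(G) and L_{2n+1}(G) = L(G) for all n ≥ k; L_*(G) ≤ L(G); and applying one Puig step to L_*(G) gives L(G) and to L(G) gives L_*(G). -/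
theorem result {G : Type*} [Group G] [Finite G] :
    Cfsg.puigSeq G 0 = ⊥ ∧ Cfsg.puigSeq G 1 = ⊤ ∧
      (∀ n m : ℕ, Cfsg.puigSeq G (2 * n) ≤ Cfsg.puigSeq G (2 * n + 2) ∧ Cfsg.puigSeq G (2 * n) ≤ Cfsg.puigSeq G (2 * m + 1) ∧
        Cfsg.puigSeq G (2 * m + 3) ≤ Cfsg.puigSeq G (2 * m + 1)) ∧
      (∃ k : ℕ, ∀ n : ℕ, k ≤ n → Cfsg.puigSeq G (2 * n) = Cfsg.puigLower G ∧ Cfsg.puigSeq G (2 * n + 1) = Cfsg.puigSubgroup G) ∧
      Cfsg.puigLower G ≤ Cfsg.puigSubgroup G ∧
      Cfsg.puigStep (Cfsg.puigLower G) = Cfsg.puigSubgroup G ∧ Cfsg.puigStep (Cfsg.puigSubgroup G) = Cfsg.puigLower G := by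
  refine ⟨rfl, puigStep_bot, fun n m => ⟨(even_le_succ n).1, even_le_odd n m, (even_le_succ m).2.1⟩,
    stab, ?_, ?_, ?_⟩
  · apply iSup_le
    intro n
    apply le_iInf
    intro m
    exact even_le_odd n m
  · obtain ⟨k, hk⟩ := stab (G := G)
    obtain ⟨h1, h2⟩ := hk k le_rfl
    rw [← h1, ← h2]
    rfl
  · obtain ⟨k, hk⟩ := stab (G := G)
    obtain ⟨_, h2⟩ := hk k le_rfl
    obtain ⟨h1, _⟩ := hk (k + 1) (Nat.le_succ k)
    rw [← h1, ← h2]
    rfl

end Cfsg.Agent.S1467
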