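import Mathlib
import Cfsg.Statements.S1466
import Cfsg.Agent.S1467
import Cfsg.Agent.Lib.Lead.Nilpotent

set_option autoImplicit false
open Cfsg

namespace Cfsg.Agent.S1466

variable {R : Type*} [Group R]

theorem le_puigStep_of_normal (A : Subgroup R) (hA : A.Normal) (hAc : IsMulCommutative A)
    (X : Subgroup R) : A ≤ puigStep X := by
  apply le_sSup
  refine ⟨hAc, ?_⟩
  rw [Subgroup.normalizer_eq_top]
  exact le_top

theorem le_puigSeq_of_normal (A : Subgroup R) (hA : A.Normal) (hAc : IsMulCommutative A)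
    (i : ℕ) (hi : 0 < i) : A ≤ puigSeq R i := by
  obtain ⟨j, rfl⟩ := Nat.exists_eq_succ_of_ne_zero hi.ne'
  exact le_puigStep_of_normal A hA hAc _

/-- Let p be a prime and R a nontrivial finite p-group. Then for every i > 0, Z(R) ≤ C_R(L_i(R)) ≤ L_i(R); likewise Z(R) ≤ C_R(L_*(R)) ≤ L_*(R) and Z(R) ≤ C_R(L(R)) ≤ L(R); and L(R) ≠ 1, L_*(R) ≠ 1. -/
theorem result {R : Type*} [Group R] [Finite R] (p : ℕ) [Fact p.Prime] (hR : IsPGroup p R) [Nontrivial R] :
    (∀ i : ℕ, 0 < i → Subgroup.center R ≤ Subgroup.centralizer ((Cfsg.puigSeq R i : Subgroup R) : Set R) ∧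
        Subgroup.centralizer ((Cfsg.puigSeq R i : Subgroup R) : Set R) ≤ Cfsg.puigSeq R i) ∧
      (Subgroup.center R ≤ Subgroup.centralizer ((Cfsg.puigLower R : Subgroup R) : Set R) ∧ Subgroup.centralizer ((Cfsg.puigLower R : Subgroup R) : Set R) ≤ Cfsg.puigLower R) ∧
      (Subgroup.center R ≤ Subgroup.centralizer ((Cfsg.puigSubgroup R : Subgroup R) : Set R) ∧ Subgroup.centralizer ((Cfsg.puigSubgroup R : Subgroup R) : Set R) ≤ Cfsg.puigSubgroup R) ∧
      Cfsg.puigSubgroup R ≠ ⊥ ∧ Cfsg.puigLower R ≠ ⊥ := by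
  haveI hnil : Group.IsNilpotent R := hR.isNilpotent
  -- a maximal normal abelian subgroup
  have hfin : Set.Finite {M : Subgroup R | M.Normal ∧ IsMulCommutative M} := Set.toFinite _
  have hne : Set.Nonempty {M : Subgroup R | M.Normal ∧ IsMulCommutative M} :=
    ⟨⊥, inferInstance, inferInstance⟩
  obtain ⟨A, hAmax⟩ := hfin.exists_maximal hne
  have hAn : A.Normal := hAmax.prop.1
  have hAc : IsMulCommutative A := hAmax.prop.2
  have hCA : Subgroup.centralizer (A : Set R) = A := by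
    haveI := hAn
    haveI := hAc
    apply Cfsg.Agent.Lib.Lead.centralizer_eq_of_max_abelian_normal A
    intro M hM hMc hle
    exact le_antisymm (hAmax.le_of_ge ⟨hM, hMc⟩ hle) hle
  have key : ∀ i : ℕ, 0 < i → Subgroup.center R ≤ Subgroup.centralizer ((Cfsg.puigSeq R i : Subgroup R) : Set R) ∧
        Subgroup.centralizer ((Cfsg.puigSeq R i : Subgroup R) : Set R) ≤ Cfsg.puigSeq R i := by
    intro i hi
    refine ⟨Subgroup.center_le_centralizer _, ?_⟩
    have hAL : A ≤ puigSeq R i := le_puigSeq_of_normal A hAn hAc i hi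
    calc Subgroup.centralizer ((Cfsg.puigSeq R i : Subgroup R) : Set R)
        ≤ Subgroup.centralizer (A : Set R) := Subgroup.centralizer_le hAL
      _ = A := hCA
      _ ≤ puigSeq R i := hAL
  obtain ⟨k, hk⟩ := Cfsg.Agent.S1467.stab (G := R)
  obtain ⟨hL, hU⟩ := hk (k + 1) (Nat.le_succ k)
  have hlow := key (2 * (k + 1)) (by omega)
  have hup := key (2 * (k + 1) + 1) (by omega)
  rw [hL] at hlow
  rw [hU] at hup
  have hZ : Subgroup.center R ≠ ⊥ := by
    haveI := hR.center_nontrivial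
    exact (Subgroup.nontrivial_iff_ne_bot _).mp inferInstance
  refine ⟨key, hlow, hup, ?_, ?_⟩
  · intro h
    apply hZ
    rw [eq_bot_iff, ← h]
    exact hup.1.trans hup.2
  · intro h
    apply hZ
    rw [eq_bot_iff, ← h]
    exact hlow.1.trans hlow.2

end Cfsg.Agent.S1466
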