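import Cfsg.Statements.S1465
import Mathlib
import Cfsg.Agent.Lib.Lead.OddStable2

set_option autoImplicit false
open Cfsg

namespace Cfsg.Agent.S1465

/-- Let p be an odd prime, G a solvable group of odd order, P a normal p-subgroup of G, and X the subgroup generated by a family of abelian p-subgroups of G each normalized by P. Then the image of X in G/C_G(P) lies in O_p(G/C_G(P)); and if O_{p'}(G) = 1 and O_p(G) ∩ C_G(P) ≤ P then X ≤ O_p(G). -/
theorem result {G : Type*} [Group G] [Finite G] [Group.IsSolvable G] (hodd : Odd (Nat.card G)) (p : ℕ) [Fact p.Prime] (hp : p ≠ 2) (P : Subgroup G) [P.Normal] (hP : IsPGroup p P)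
    (S : Set (Subgroup G)) (hS : ∀ B ∈ S, IsMulCommutative B ∧ IsPGroup p B ∧ P ≤ Subgroup.normalizer (B : Set G)) :
    (sSup S).map (QuotientGroup.mk' (Subgroup.centralizer (P : Set G))) ≤ Cfsg.pCore p (G ⧸ Subgroup.centralizer (P : Set G)) ∧
      (Cfsg.pPrimeCore p G = ⊥ → Cfsg.pCore p G ⊓ Subgroup.centralizer (P : Set G) ≤ P → sSup S ≤ Cfsg.pCore p G) := by
  haveI hCn : (Subgroup.centralizer (P : Set G)).Normal := inferInstance
  have hst : Cfsg.IsPStableOn p P :=
    Cfsg.Agent.Lib.Lead.OddStable.isPStableOn_of_normalizerPStable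
      (Cfsg.Agent.Lib.Lead.OddStable.isNormalizerPStable_of_odd hodd hp) P hP
  have hLL : sSup S ≤ Cfsg.Agent.Lib.Lead.DStarThm.LL p P := by
    apply sSup_le
    intro B hB b hb
    obtain ⟨hBc, hBp, hBN⟩ := hS B hB
    apply Cfsg.Agent.Lib.Lead.DStarThm.mem_LL_of_quadratic hst
    have hz : Subgroup.zpowers b ≤ B := Subgroup.zpowers_le.mpr hb
    have h1 : ⁅P, Subgroup.zpowers b⁆ ≤ B := by
      rw [Subgroup.commutator_le]
      intro x hx y hy
      have hyB : y ∈ B := hz hy
      have hxN := hBN hx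
      have h2 : x * y * x⁻¹ ∈ B := (Subgroup.mem_normalizer_iff.mp hxN y).mp hyB
      rw [commutatorElement_def]
      exact B.mul_mem h2 (B.inv_mem hyB)
    rw [eq_bot_iff]
    calc ⁅⁅P, Subgroup.zpowers b⁆, Subgroup.zpowers b⁆ ≤ ⁅B, B⁆ := Subgroup.commutator_mono h1 hz
      _ = ⊥ := by
        rw [eq_bot_iff, Subgroup.commutator_le]
        intro x hx y hy
        rw [Subgroup.mem_bot, commutatorElement_eq_one_iff_mul_comm]
        have := hBc.is_comm.comm ⟨x, hx⟩ ⟨y, hy⟩
        exact congrArg Subtype.val this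
  refine ⟨?_, ?_⟩
  · rw [Subgroup.map_le_iff_le_comap]
    exact hLL
  · intro hred hcap
    have hcen : Subgroup.centralizer (P : Set G) ≤
        Subgroup.centralizer ((Cfsg.pCore p G ⊓ Subgroup.centralizer (P : Set G) : Subgroup G) : Set G) :=
      Subgroup.centralizer_le hcap
    have hCp : IsPGroup p (Subgroup.centralizer (P : Set G)) :=
      Cfsg.Agent.Lib.Lead.OddStable.isPGroup_of_normal_of_central hred _ hcen
    have hLLp : IsPGroup p (Cfsg.Agent.Lib.Lead.DStarThm.LL p P) := by
      intro g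
      have h1 : IsPGroup p (Cfsg.pCore p (G ⧸ Subgroup.centralizer (P : Set G))) :=
        Cfsg.Agent.Lib.Helper9.pCore_isPGroup' p
      obtain ⟨k, hk⟩ := h1 ⟨_, g.2⟩
      have h2 : ((g : G) ^ p ^ k) ∈ Subgroup.centralizer (P : Set G) := by
        rw [← QuotientGroup.eq_one_iff]
        have := congrArg Subtype.val hk
        simpa using this
      obtain ⟨m, hm⟩ := hCp ⟨_, h2⟩
      refine ⟨k + m, ?_⟩
      apply Subtype.ext
      have := congrArg Subtype.val hm
      simp only [Subgroup.coe_pow, Subgroup.coe_one] at this ⊢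
      rw [pow_add, pow_mul]
      exact this
    exact hLL.trans (Cfsg.Agent.Lib.Helper9.le_pCore (Cfsg.Agent.Lib.Lead.DStarThm.LL_normal _) hLLp)

end Cfsg.Agent.S1465
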