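import Mathlib
import Cfsg.Statements.S2119
import Cfsg.Agent.Lib.Helper9.AutAlt6

set_option autoImplicit false
open Cfsg
open Cfsg.Agent.Lib.Helper9

namespace Cfsg.Agent.S2119

/-- Automorphisms of the alternating groups: for n ≥ 4 with n ≠ 6, every automorphism of the alternating group of degree n is conjugation by a unique permutation, i.e. conjugation induces an isomorphism from the symmetric group of degree n onto the automorphism group of the alternating group (so the outer automorphism group has order 2). -/
theorem result (n : ℕ) (hn : 4 ≤ n) (h6 : n ≠ 6) : Function.Bijective (MulAut.conjNormal : Equiv.Perm (Fin n) →* MulAut ↥(alternatingGroup (Fin n))) := by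
  classical
  have hcard : Fintype.card (Fin n) = n := Fintype.card_fin n
  constructor
  · -- injectivity
    rw [injective_iff_map_eq_one]
    intro π hπ
    have hcomm : ∀ g : alternatingGroup (Fin n), π * (g : Equiv.Perm (Fin n)) * π⁻¹ = g := by
      intro g
      have h1 := congrArg (fun ψ : MulAut (alternatingGroup (Fin n)) => ((ψ g : alternatingGroup (Fin n)) : Equiv.Perm (Fin n))) hπ
      simpa [MulAut.conjNormal_apply] using h1
    ext i
    by_contra hne
    have hne' : π i ≠ i := by
      intro h; apply hne; rw [h]; rfl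
    -- two more points
    have hc : 2 ≤ (Finset.univ \ ({i, π i} : Finset (Fin n))).card := by
      have h1 : ({i, π i} : Finset (Fin n)).card ≤ 2 := Finset.card_le_two
      have h2 := Finset.card_sdiff_add_card_inter (Finset.univ : Finset (Fin n)) {i, π i}
      have h3 : (Finset.univ ∩ ({i, π i} : Finset (Fin n))).card ≤ 2 :=
        (Finset.card_le_card Finset.inter_subset_right).trans h1
      rw [Finset.card_univ, hcard] at h2
      omega
    obtain ⟨k, hk, l, hl, hkl⟩ := Finset.one_lt_card.mp hc
    simp only [Finset.mem_sdiff, Finset.mem_univ, Finset.mem_insert, Finset.mem_singleton,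
      true_and, not_or] at hk hl
    have hjk : π i ≠ k := fun h => hk.2 h.symm
    have hjl : π i ≠ l := fun h => hl.2 h.symm
    have hmem : H9AutAlt.cyc (π i) k l ∈ alternatingGroup (Fin n) :=
      (H9AutAlt.cyc_isThreeCycle hjk hjl hkl).mem_alternatingGroup
    have h1 := hcomm ⟨H9AutAlt.cyc (π i) k l, hmem⟩
    have h2 : π * H9AutAlt.cyc (π i) k l = H9AutAlt.cyc (π i) k l * π := by
      have : π * H9AutAlt.cyc (π i) k l * π⁻¹ = H9AutAlt.cyc (π i) k l := h1
      calc π * H9AutAlt.cyc (π i) k l = (π * H9AutAlt.cyc (π i) k l * π⁻¹) * π := by group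
        _ = H9AutAlt.cyc (π i) k l * π := by rw [this]
    have h3 := DFunLike.congr_fun h2 i
    rw [Equiv.Perm.mul_apply, Equiv.Perm.mul_apply,
      H9AutAlt.cyc_apply_of_ne (Ne.symm hne') (fun h => hk.1 h.symm) (fun h => hl.1 h.symm),
      H9AutAlt.cyc_apply_fst hjk hjl] at h3
    exact hjk h3
  · -- surjectivity
    intro φ
    have hφ := H9AutAlt.map_isThreeCycle (α := Fin n) (by rw [hcard]; exact h6) φ
    have h0 : 0 < n := by omega
    have h1 : 1 < n := by omega
    have h2 : 2 < n := by omega
    have h3 : 3 < n := by omega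
    obtain ⟨π, hπ⟩ := H9AutAlt.exists_conj_of_preserves φ hφ
      (z0 := (⟨0, h0⟩ : Fin n)) (z1 := ⟨1, h1⟩) (p2 := ⟨2, h2⟩) (p3 := ⟨3, h3⟩)
      (by simp [Fin.ext_iff]) (by simp [Fin.ext_iff]) (by simp [Fin.ext_iff])
      (by simp [Fin.ext_iff]) (by simp [Fin.ext_iff]) (by simp [Fin.ext_iff])
    refine ⟨π, ?_⟩
    apply MulEquiv.ext
    intro g
    apply Subtype.ext
    rw [MulAut.conjNormal_apply]
    exact (hπ g).symm

end Cfsg.Agent.S2119
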