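import Cfsg.Statements.S2620

set_option autoImplicit false
open Cfsg

namespace Cfsg.Agent.S2620

theorem gram_det {F : Type*} [Field F] {ι κ : Type*} [Fintype ι] [DecidableEq ι] [Fintype κ] [DecidableEq κ]
    (b : Module.Basis ι F (κ → F)) (J : Matrix κ κ F) (β : (κ → F) → (κ → F) → F)
    (hβ : ∀ u v, β u v = Matrix.toBilin' J u v) :
    ∃ d : F, d ≠ 0 ∧ (Matrix.of (fun i j : ι => β (b i) (b j))).det = d ^ 2 * J.det := by
  classical
  let e : ι ≃ κ := b.indexEquiv (Pi.basisFun F κ)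
  let b' : Module.Basis κ F (κ → F) := b.reindex e
  let B : LinearMap.BilinForm F (κ → F) := Matrix.toBilin' J
  let P : Matrix κ κ F := (Pi.basisFun F κ).toMatrix b'
  have hG : LinearMap.BilinForm.toMatrix b' B = P.transpose * J * P := by
    rw [← LinearMap.BilinForm.toMatrix_mul_basis_toMatrix (Pi.basisFun F κ) b' B,
      LinearMap.BilinForm.toMatrix_basisFun, LinearMap.BilinForm.toMatrix'_toBilin']
  have hsub : Matrix.of (fun i j : ι => β (b i) (b j)) = (LinearMap.BilinForm.toMatrix b' B).submatrix e e := by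
    ext i j
    simp only [Matrix.of_apply, Matrix.submatrix_apply, LinearMap.BilinForm.toMatrix_apply, hβ]
    simp [b', B]
  have hP : P.det ≠ 0 := by
    have : Invertible P := (Pi.basisFun F κ).invertibleToMatrix b'
    exact (Matrix.isUnit_det_of_invertible P).ne_zero
  refine ⟨P.det, hP, ?_⟩
  rw [hsub, Matrix.det_submatrix_equiv_self, hG, Matrix.det_mul, Matrix.det_mul, Matrix.det_transpose]
  ring

theorem det_J {F : Type*} [Field F] (m : ℕ) :
    (Matrix.fromBlocks (0 : Matrix (Fin m) (Fin m) F) (1 : Matrix (Fin m) (Fin m) F) (1 : Matrix (Fin m) (Fin m) F) (0 : Matrix (Fin m) (Fin m) F)).det = (-1) ^ m := by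
  have h1 : (Matrix.fromBlocks (0 : Matrix (Fin m) (Fin m) F) (1 : Matrix (Fin m) (Fin m) F) (1 : Matrix (Fin m) (Fin m) F) (0 : Matrix (Fin m) (Fin m) F)) * (Matrix.fromBlocks (1 : Matrix (Fin m) (Fin m) F) (1 : Matrix (Fin m) (Fin m) F) (0 : Matrix (Fin m) (Fin m) F) (1 : Matrix (Fin m) (Fin m) F))
      = Matrix.fromBlocks (0 : Matrix (Fin m) (Fin m) F) (1 : Matrix (Fin m) (Fin m) F) (1 : Matrix (Fin m) (Fin m) F) (1 : Matrix (Fin m) (Fin m) F) := by
    rw [Matrix.fromBlocks_multiply]; simp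
  have h2 := congrArg Matrix.det h1
  rw [Matrix.det_mul, Matrix.det_fromBlocks_zero₂₁, Matrix.det_one, mul_one, mul_one,
    Matrix.det_fromBlocks_one₂₂] at h2
  rw [h2]
  simp [Matrix.det_neg]

theorem polar_plus {F : Type*} [Field F] (m : ℕ) (u v : Fin m ⊕ Fin m → F) :
    QuadraticMap.polar (Cfsg.quadFormPlus m F) u v =
      Matrix.toBilin' (Matrix.fromBlocks (0 : Matrix (Fin m) (Fin m) F) (1 : Matrix (Fin m) (Fin m) F) (1 : Matrix (Fin m) (Fin m) F) (0 : Matrix (Fin m) (Fin m) F)) u v := by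
  rw [Matrix.toBilin'_apply']
  simp only [QuadraticMap.polar, Cfsg.quadFormPlus, Pi.add_apply, dotProduct, Matrix.mulVec,
    Fintype.sum_sum_type, Matrix.fromBlocks_apply₁₁, Matrix.fromBlocks_apply₁₂, Matrix.fromBlocks_apply₂₁,
    Matrix.fromBlocks_apply₂₂, Matrix.zero_apply, zero_mul, Finset.sum_const_zero, zero_add, add_zero,
    Matrix.one_apply, ite_mul, one_mul, Finset.sum_ite_eq, Finset.mem_univ, if_true]
  rw [← Finset.sum_sub_distrib, ← Finset.sum_sub_distrib, ← Finset.sum_add_distrib]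
  apply Finset.sum_congr rfl
  intro i _
  ring

theorem result {F : Type*} [Field F] [Fintype F] {q : ℕ} (hF : Fintype.card F = q) (hq : Odd q) {m : ℕ} (hm : 1 ≤ m) {ι : Type*} [Fintype ι] [DecidableEq ι] (b : Module.Basis ι F (Fin m ⊕ Fin m → F)) : IsSquare (Matrix.of (fun i j : ι => QuadraticMap.polar (Cfsg.quadFormPlus m F) (b i) (b j))).det ↔ Even (m * (q - 1) / 2) := by
  classical
  obtain ⟨d, hd, hdet⟩ := gram_det b (Matrix.fromBlocks (0 : Matrix (Fin m) (Fin m) F) (1 : Matrix (Fin m) (Fin m) F) (1 : Matrix (Fin m) (Fin m) F) (0 : Matrix (Fin m) (Fin m) F))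
    (QuadraticMap.polar (Cfsg.quadFormPlus m F)) (polar_plus m)
  rw [hdet, det_J]
  have hsq : IsSquare (d ^ 2 * (-1 : F) ^ m) ↔ IsSquare ((-1 : F) ^ m) := by
    constructor
    · rintro ⟨r, hr⟩
      refine ⟨r / d, ?_⟩
      field_simp
      linear_combination hr
    · rintro ⟨r, hr⟩
      exact ⟨d * r, by rw [hr]; ring⟩
  rw [hsq]
  have hneg := FiniteField.isSquare_neg_one_iff (F := F)
  rw [hF] at hneg
  obtain ⟨t, rfl⟩ := hq
  have h2 : m * (2 * t + 1 - 1) / 2 = m * t := by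
    rw [Nat.add_sub_cancel, ← mul_assoc, mul_comm m 2, mul_assoc, Nat.mul_div_cancel_left _ (by norm_num)]
  rw [h2, Nat.even_mul]
  rcases Nat.even_or_odd m with hme | hmo
  · simp only [hme, true_or, iff_true]
    rw [hme.neg_one_pow]; exact ⟨1, by simp⟩
  · rw [hmo.neg_one_pow, hneg]
    have : ¬ Even m := Nat.not_even_iff_odd.mpr hmo
    simp only [this, false_or]
    rcases Nat.even_or_odd t with ⟨s, hs⟩ | ⟨s, hs⟩
    · subst hs
      constructor
      · intro _; exact ⟨s, rfl⟩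
      · intro _; omega
    · subst hs
      constructor
      · intro h; omega
      · intro h; exfalso; exact (Nat.not_even_iff_odd.mpr ⟨s, rfl⟩) h

end Cfsg.Agent.S2620
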