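import Cfsg.Statements.S2703
import Cfsg.Agent.Lib.Helper5.PSLCoset13
import Cfsg.Agent.Lib.Helper5.QuadGlue
import Cfsg.Agent.S2616
import Cfsg.Agent.S2620
import Cfsg.Agent.S2621

set_option autoImplicit false
open Cfsg

namespace Cfsg.Agent.S2703

open Matrix Matrix.SpecialLinearGroup Cfsg.Agent.Lib.Helper5.SLnAut Cfsg.Agent.Lib.Helper5.SLnBN
  Cfsg.Agent.Lib.Helper5.PSLCoset Cfsg.Agent.Lib.Helper5.QuadGlue Cfsg.Agent.Lib.Helper5.QuadEmbed

section dot
variable {n : ℕ} {F : Type*} [Field F]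

/-- The sum of squares. -/
def dotQ (n : ℕ) (F : Type*) [Field F] (v : Fin n → F) : F := v ⬝ᵥ v

/-- The sum of squares as a quadratic form. -/
noncomputable def dotQF (n : ℕ) (F : Type*) [Field F] : QuadraticForm F (Fin n → F) :=
  (1 : Matrix (Fin n) (Fin n) F).toQuadraticForm'

theorem dotQF_apply (v : Fin n → F) : dotQF n F v = dotQ n F v := by
  unfold dotQF dotQ
  rw [dot_toQuadraticMap', Matrix.one_mulVec]

theorem dotQF_coe : (⇑(dotQF n F)) = dotQ n F := funext dotQF_apply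

theorem polar_dotQ (u v : Fin n → F) : QuadraticMap.polar (dotQ n F) u v = 2 * (u ⬝ᵥ v) := by
  unfold QuadraticMap.polar dotQ
  rw [add_dotProduct, dotProduct_add, dotProduct_add, dotProduct_comm v u]
  ring

theorem dotQF_nondegenerate (h2 : (2 : F) ≠ 0) :
    (QuadraticMap.polarBilin (dotQF n F)).Nondegenerate := by
  have key : ∀ u : Fin n → F, (∀ v, QuadraticMap.polar (dotQF n F) u v = 0) → u = 0 := by
    intro u hu
    funext i
    have h := hu (Pi.single i 1)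
    rw [dotQF_coe, polar_dotQ, dotProduct_single_one] at h
    exact (mul_eq_zero.1 h).resolve_left h2
  refine ⟨fun u hu => key u hu, fun u hu => key u ?_⟩
  intro v
  rw [QuadraticMap.polar_comm]
  exact hu v

theorem eq_smul_one_of_quad (h2 : (2 : F) ≠ 0) (S : Matrix (Fin n) (Fin n) F) (hS : Sᵀ = S)
    (c : F) (h : ∀ v : Fin n → F, v ⬝ᵥ (S *ᵥ v) = c * (v ⬝ᵥ v)) : S = c • 1 := by
  have hd : ∀ i, S i i = c := by
    intro i
    have h1 := h (Pi.single i 1)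
    rw [Matrix.mulVec_single_one, single_one_dotProduct, single_one_dotProduct,
      Pi.single_eq_same, mul_one] at h1
    exact h1
  ext i j
  by_cases hij : i = j
  · subst hij
    rw [hd, Matrix.smul_apply, Matrix.one_apply_eq, smul_eq_mul, mul_one]
  · have h1 := h (Pi.single i 1 + Pi.single j 1)
    have hji : S j i = S i j := by
      have := congrFun (congrFun hS i) j
      rw [Matrix.transpose_apply] at this
      exact this
    simp only [Matrix.mulVec_add, Matrix.mulVec_single_one, dotProduct_add, add_dotProduct,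
      single_one_dotProduct, Matrix.col_apply, Pi.single_eq_same, Pi.single_eq_of_ne hij,
      Pi.single_eq_of_ne (Ne.symm hij), hd, hji] at h1
    rw [Matrix.smul_apply, Matrix.one_apply_ne hij, smul_zero]
    have h3 : 2 * S i j = 0 := by linear_combination h1
    exact (mul_eq_zero.1 h3).resolve_left h2

theorem mul_transpose_comm (g : Matrix (Fin n) (Fin n) F) (z : F) (hz : z ≠ 0)
    (h : g * gᵀ = z • 1) : gᵀ * g = z • 1 := by
  have h1 : g * (z⁻¹ • gᵀ) = 1 := by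
    rw [Matrix.mul_smul, h, smul_smul, inv_mul_cancel₀ hz, one_smul]
  have h2 := _root_.mul_eq_one_comm.1 h1
  rw [Matrix.smul_mul] at h2
  rw [← one_smul F (gᵀ * g), ← mul_inv_cancel₀ hz, ← smul_smul, h2]

theorem mem_sim_iff (h2 : (2 : F) ≠ 0) (g : GL (Fin n) F) :
    g ∈ Cfsg.Geo.quadSimilarityGroup (dotQ n F) ↔
      ∃ z : F, z ≠ 0 ∧ (g : Matrix (Fin n) (Fin n) F) * (g : Matrix (Fin n) (Fin n) F)ᵀ = z • 1 := by
  have hq : ∀ v : Fin n → F, ((g : Matrix (Fin n) (Fin n) F) *ᵥ v) ⬝ᵥ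
      ((g : Matrix (Fin n) (Fin n) F) *ᵥ v) = v ⬝ᵥ (((g : Matrix (Fin n) (Fin n) F)ᵀ
        * (g : Matrix (Fin n) (Fin n) F)) *ᵥ v) := by
    intro v
    symm
    rw [← Matrix.mulVec_mulVec, Matrix.dotProduct_mulVec v, Matrix.vecMul_transpose]
  constructor
  · rintro ⟨c, hc⟩
    refine ⟨c, c.ne_zero, ?_⟩
    have h3 : (g : Matrix (Fin n) (Fin n) F)ᵀ * (g : Matrix (Fin n) (Fin n) F) = (c : F) • 1 := by
      apply eq_smul_one_of_quad h2
      · rw [Matrix.transpose_mul, Matrix.transpose_transpose]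
      · intro v
        rw [← hq]
        exact hc v
    have h4 := mul_transpose_comm (g : Matrix (Fin n) (Fin n) F)ᵀ c c.ne_zero
      (by rw [Matrix.transpose_transpose]; exact h3)
    rw [Matrix.transpose_transpose] at h4
    exact h4
  · rintro ⟨z, hz, h⟩
    refine ⟨Units.mk0 z hz, fun v => ?_⟩
    show dotQ n F _ = z * dotQ n F v
    unfold dotQ
    rw [hq, mul_transpose_comm _ z hz h, Matrix.smul_mulVec, Matrix.one_mulVec, dotProduct_smul,
      smul_eq_mul]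

end dot

section cent
variable {n : ℕ} {F : Type*} [Field F] [Finite F]

theorem mem_commSub_tau [Nontrivial (Fin n)] (c : GL (Fin n) F) :
    c ∈ commSub (semiHom n F) (tauBar : MulAut (ProjectiveSpecialLinearGroup (Fin n) F)) ↔
      ∃ z : F, z ≠ 0 ∧ (c : Matrix (Fin n) (Fin n) F) * (c : Matrix (Fin n) (Fin n) F)ᵀ
        = z • 1 := by
  have h := mem_commSub_graphfield (1 : F ≃+* F) c
  rw [semi_one_one, one_mul] at h
  rw [h]
  have e : ((c : Matrix (Fin n) (Fin n) F).map (1 : F ≃+* F)) = (c : Matrix (Fin n) (Fin n) F) := by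
    ext i j
    rfl
  rw [e]

theorem centralizer_tau_equiv (hn : 2 ≤ n) (h2 : (2 : F) ≠ 0) :
    Nonempty (↥(Cfsg.inndiagPSL n F ⊓
      Subgroup.centralizer {(tauBar : MulAut (ProjectiveSpecialLinearGroup (Fin n) F))})
        ≃* Cfsg.PGO F (dotQ n F)) := by
  have : Nontrivial (Fin n) := Fin.nontrivial_iff_two_le.2 hn
  have hcent : ∀ g : GL (Fin n) F, g ∈ Cfsg.Geo.quadSimilarityGroup (dotQ n F) →
      semi g (1 : F ≃+* F) ∈ Cfsg.inndiagPSL n F ⊓
        Subgroup.centralizer {(tauBar : MulAut (ProjectiveSpecialLinearGroup (Fin n) F))} := by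
    intro g hg
    refine Subgroup.mem_inf.2 ⟨semi_mem_inndiag g, ?_⟩
    apply semi_mem_centralizer_of_mem_commSub
    rw [mem_commSub_tau]
    exact (mem_sim_iff h2 g).1 hg
  obtain ⟨φ, hφ⟩ : ∃ φ : ↥(Cfsg.Geo.quadSimilarityGroup (dotQ n F)) →* ↥(Cfsg.inndiagPSL n F ⊓
      Subgroup.centralizer {(tauBar : MulAut (ProjectiveSpecialLinearGroup (Fin n) F))}),
      ∀ g, (φ g : MulAut (ProjectiveSpecialLinearGroup (Fin n) F))
        = semi (g : GL (Fin n) F) (1 : F ≃+* F) :=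
    ⟨{ toFun := fun g => ⟨semi (g : GL (Fin n) F) (1 : F ≃+* F), hcent g.1 g.2⟩
       map_one' := by
         apply Subtype.ext
         exact semi_one_one
       map_mul' := by
         intro g g'
         apply Subtype.ext
         exact (semi_one_mul_semi_one (g : GL (Fin n) F) (g' : GL (Fin n) F)).symm },
      fun g => rfl⟩
  have hsurj : Function.Surjective φ := by
    rintro ⟨a, ha⟩
    obtain ⟨ha1, ha2⟩ := Subgroup.mem_inf.1 ha
    obtain ⟨c, rfl⟩ := mem_inndiag_iff.1 ha1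
    have hc : c ∈ commSub (semiHom n F)
      (tauBar : MulAut (ProjectiveSpecialLinearGroup (Fin n) F)) := ha2
    rw [mem_commSub_tau] at hc
    refine ⟨⟨c, (mem_sim_iff h2 c).2 hc⟩, ?_⟩
    apply Subtype.ext
    rw [hφ]
  have hker : φ.ker = (Cfsg.Geo.scalars (Fin n) F).subgroupOf
      (Cfsg.Geo.quadSimilarityGroup (dotQ n F)) := by
    ext g
    rw [MonoidHom.mem_ker, Subgroup.mem_subgroupOf, Cfsg.Geo.mem_scalars_iff]
    constructor
    · intro h
      have h1 : semi (g : GL (Fin n) F) (1 : F ≃+* F) = semi (1 : GL (Fin n) F) 1 := by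
        rw [← hφ, h, semi_one_one]
        rfl
      obtain ⟨-, z, hz0, hz⟩ := semi_eq_semi _ _ _ _ h1
      exact ⟨Units.mk0 z hz0, by rw [hz, Units.val_one, Units.val_mk0]⟩
    · rintro ⟨z, hz⟩
      apply Subtype.ext
      rw [hφ]
      have h1 : semi (g : GL (Fin n) F) (1 : F ≃+* F) = semi (1 : GL (Fin n) F) 1 :=
        semi_eq_of_smul _ _ 1 (z : F) z.ne_zero (by rw [hz, Units.val_one])
      rw [h1, semi_one_one]
      rfl
  exact ⟨((QuotientGroup.quotientMulEquivOfEq hker).symm.trans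
    (QuotientGroup.quotientKerEquivOfSurjective φ hsurj)).symm⟩

end cent

section congr
variable {ι₁ ι₂ : Type} [Fintype ι₁] [DecidableEq ι₁] [Fintype ι₂] [DecidableEq ι₂]
  {F : Type*} [Field F]

/-- Conjugation by an invertible rectangular matrix. -/
def glCongr (P : Matrix ι₂ ι₁ F) (P' : Matrix ι₁ ι₂ F) (h1 : P * P' = 1) (h2 : P' * P = 1) :
    GL ι₁ F →* GL ι₂ F where
  toFun g := ⟨P * (g : Matrix ι₁ ι₁ F) * P', P * ((g⁻¹ : GL ι₁ F) : Matrix ι₁ ι₁ F) * P', by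
      have e : (g : Matrix ι₁ ι₁ F) * ((g⁻¹ : GL ι₁ F) : Matrix ι₁ ι₁ F) = 1 := by
        rw [← Units.val_mul, mul_inv_cancel, Units.val_one]
      calc P * (g : Matrix ι₁ ι₁ F) * P' * (P * ((g⁻¹ : GL ι₁ F) : Matrix ι₁ ι₁ F) * P')
          = P * ((g : Matrix ι₁ ι₁ F) * ((P' * P) * ((g⁻¹ : GL ι₁ F) : Matrix ι₁ ι₁ F))) * P' := by
            simp only [Matrix.mul_assoc]
        _ = 1 := by rw [h2, Matrix.one_mul, e, Matrix.mul_one, h1], by
      have e : ((g⁻¹ : GL ι₁ F) : Matrix ι₁ ι₁ F) * (g : Matrix ι₁ ι₁ F) = 1 := by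
        rw [← Units.val_mul, inv_mul_cancel, Units.val_one]
      calc P * ((g⁻¹ : GL ι₁ F) : Matrix ι₁ ι₁ F) * P' * (P * (g : Matrix ι₁ ι₁ F) * P')
          = P * (((g⁻¹ : GL ι₁ F) : Matrix ι₁ ι₁ F) * ((P' * P) * (g : Matrix ι₁ ι₁ F))) * P' := by
            simp only [Matrix.mul_assoc]
        _ = 1 := by rw [h2, Matrix.one_mul, e, Matrix.mul_one, h1]⟩
  map_one' := by
    apply Units.ext
    show P * ((1 : GL ι₁ F) : Matrix ι₁ ι₁ F) * P' = 1
    rw [Units.val_one, Matrix.mul_one, h1]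
  map_mul' g g' := by
    apply Units.ext
    show P * ((g * g' : GL ι₁ F) : Matrix ι₁ ι₁ F) * P'
      = P * (g : Matrix ι₁ ι₁ F) * P' * (P * (g' : Matrix ι₁ ι₁ F) * P')
    calc P * ((g * g' : GL ι₁ F) : Matrix ι₁ ι₁ F) * P'
        = P * ((g : Matrix ι₁ ι₁ F) * (1 * (g' : Matrix ι₁ ι₁ F))) * P' := by
          rw [Matrix.one_mul, Units.val_mul]
      _ = P * ((g : Matrix ι₁ ι₁ F) * ((P' * P) * (g' : Matrix ι₁ ι₁ F))) * P' := by rw [h2]
      _ = P * (g : Matrix ι₁ ι₁ F) * P' * (P * (g' : Matrix ι₁ ι₁ F) * P') := by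
          simp only [Matrix.mul_assoc]

theorem glCongr_coe (P : Matrix ι₂ ι₁ F) (P' : Matrix ι₁ ι₂ F) (h1 : P * P' = 1) (h2 : P' * P = 1)
    (g : GL ι₁ F) : ((glCongr P P' h1 h2 g : GL ι₂ F) : Matrix ι₂ ι₂ F)
      = P * (g : Matrix ι₁ ι₁ F) * P' := rfl

theorem glCongr_glCongr (P : Matrix ι₂ ι₁ F) (P' : Matrix ι₁ ι₂ F) (h1 : P * P' = 1)
    (h2 : P' * P = 1) (g : GL ι₁ F) : glCongr P' P h2 h1 (glCongr P P' h1 h2 g) = g := by
  apply Units.ext
  rw [glCongr_coe, glCongr_coe]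
  calc P' * (P * (g : Matrix ι₁ ι₁ F) * P') * P
      = (P' * P) * (g : Matrix ι₁ ι₁ F) * (P' * P) := by simp only [Matrix.mul_assoc]
    _ = g := by rw [h2, Matrix.one_mul, Matrix.mul_one]

theorem glCongr_mem_sim (P : Matrix ι₂ ι₁ F) (P' : Matrix ι₁ ι₂ F) (h1 : P * P' = 1)
    (h2 : P' * P = 1) (Q₁ : (ι₁ → F) → F) (Q₂ : (ι₂ → F) → F) (hQ : ∀ v, Q₂ (P *ᵥ v) = Q₁ v)
    (g : GL ι₁ F) (hg : g ∈ Cfsg.Geo.quadSimilarityGroup Q₁) :
    glCongr P P' h1 h2 g ∈ Cfsg.Geo.quadSimilarityGroup Q₂ := by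
  obtain ⟨c, hc⟩ := hg
  refine ⟨c, fun w => ?_⟩
  have hw : w = P *ᵥ (P' *ᵥ w) := by
    rw [Matrix.mulVec_mulVec, h1, Matrix.one_mulVec]
  rw [glCongr_coe, ← Matrix.mulVec_mulVec, ← Matrix.mulVec_mulVec, hQ, hc]
  conv_rhs => rw [hw, hQ]

theorem glCongr_mem_scalars (P : Matrix ι₂ ι₁ F) (P' : Matrix ι₁ ι₂ F) (h1 : P * P' = 1)
    (h2 : P' * P = 1) (g : GL ι₁ F) (hg : g ∈ Cfsg.Geo.scalars ι₁ F) :
    glCongr P P' h1 h2 g ∈ Cfsg.Geo.scalars ι₂ F := by
  rw [Cfsg.Geo.mem_scalars_iff] at hg ⊢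
  obtain ⟨c, hc⟩ := hg
  refine ⟨c, ?_⟩
  rw [glCongr_coe, hc, Matrix.mul_smul, Matrix.mul_one, Matrix.smul_mul, h1]

theorem pgo_congr (P : Matrix ι₂ ι₁ F) (P' : Matrix ι₁ ι₂ F) (h1 : P * P' = 1)
    (h2 : P' * P = 1) (Q₁ : (ι₁ → F) → F) (Q₂ : (ι₂ → F) → F) (hQ : ∀ v, Q₂ (P *ᵥ v) = Q₁ v) :
    Nonempty (Cfsg.PGO F Q₁ ≃* Cfsg.PGO F Q₂) := by
  have hQ' : ∀ w, Q₁ (P' *ᵥ w) = Q₂ w := by
    intro w
    rw [← hQ, Matrix.mulVec_mulVec, h1, Matrix.one_mulVec]
  let ψ : ↥(Cfsg.Geo.quadSimilarityGroup Q₁) →* ↥(Cfsg.Geo.quadSimilarityGroup Q₂) :=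
    { toFun := fun g => ⟨glCongr P P' h1 h2 g.1, glCongr_mem_sim P P' h1 h2 Q₁ Q₂ hQ g.1 g.2⟩
      map_one' := by
        apply Subtype.ext
        exact map_one _
      map_mul' := by
        intro g g'
        apply Subtype.ext
        exact map_mul _ _ _ }
  let φ : ↥(Cfsg.Geo.quadSimilarityGroup Q₁) →* Cfsg.PGO F Q₂ :=
    (QuotientGroup.mk' _).comp ψ
  have hsurj : Function.Surjective φ := by
    intro x
    obtain ⟨h, rfl⟩ := QuotientGroup.mk_surjective x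
    refine ⟨⟨glCongr P' P h2 h1 h.1, glCongr_mem_sim P' P h2 h1 Q₂ Q₁ hQ' h.1 h.2⟩, ?_⟩
    show QuotientGroup.mk (ψ _) = QuotientGroup.mk h
    congr 1
    apply Subtype.ext
    exact glCongr_glCongr P' P h2 h1 h.1
  have hker : φ.ker = (Cfsg.Geo.scalars ι₁ F).subgroupOf (Cfsg.Geo.quadSimilarityGroup Q₁) := by
    ext g
    rw [MonoidHom.mem_ker, Subgroup.mem_subgroupOf]
    show QuotientGroup.mk (ψ g) = 1 ↔ _
    rw [QuotientGroup.eq_one_iff, Subgroup.mem_subgroupOf]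
    constructor
    · intro h
      have := glCongr_mem_scalars P' P h2 h1 _ h
      rw [show ((ψ g : ↥(Cfsg.Geo.quadSimilarityGroup Q₂)) : GL ι₂ F) = glCongr P P' h1 h2 g.1
        from rfl, glCongr_glCongr] at this
      exact this
    · intro h
      exact glCongr_mem_scalars P P' h1 h2 _ h
  exact ⟨(QuotientGroup.quotientMulEquivOfEq hker).symm.trans
    (QuotientGroup.quotientKerEquivOfSurjective φ hsurj)⟩

end congr

section final
variable {F : Type*} [Field F] [Fintype F]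

theorem two_ne_zero_of_odd (hodd : Odd (Fintype.card F)) : (2 : F) ≠ 0 := by
  intro h
  have hc : ringChar F = 2 := by
    have : ringChar F ∣ 2 := by
      rw [← Nat.cast_ofNat (R := F)] at h
      exact (ringChar.spec F 2).1 h
    rcases (Nat.dvd_prime Nat.prime_two).1 this with h1 | h1
    · exact absurd h1 (CharP.ringChar_ne_one)
    · exact h1
  have := FiniteField.even_card_of_char_two hc
  exact (Nat.not_even_iff_odd.2 hodd) (Nat.even_iff.2 this)

theorem pgo_congr_of_equiv {ι₁ ι₂ : Type} [Fintype ι₁] [DecidableEq ι₁] [Fintype ι₂]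
    [DecidableEq ι₂] (E : (ι₁ → F) ≃ₗ[F] (ι₂ → F)) (Q₁ : (ι₁ → F) → F) (Q₂ : (ι₂ → F) → F)
    (hE : ∀ v, Q₂ (E v) = Q₁ v) : Nonempty (Cfsg.PGO F Q₁ ≃* Cfsg.PGO F Q₂) := by
  apply pgo_congr (LinearMap.toMatrix' E.toLinearMap) (LinearMap.toMatrix' E.symm.toLinearMap)
  · rw [← LinearMap.toMatrix'_comp, LinearEquiv.comp_symm, LinearMap.toMatrix'_id]
  · rw [← LinearMap.toMatrix'_comp, LinearEquiv.symm_comp, LinearMap.toMatrix'_id]
  · intro v
    rw [LinearMap.toMatrix'_mulVec]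
    exact hE v

theorem gram_dot {n : ℕ} {W : Type*} [AddCommGroup W] [Module F W] (E : (Fin n → F) ≃ₗ[F] W)
    (Q' : W → F) (hE : ∀ v, Q' (E v) = dotQ n F v) :
    Matrix.of (fun i j : Fin n => QuadraticMap.polar Q' (((Pi.basisFun F (Fin n)).map E) i)
      (((Pi.basisFun F (Fin n)).map E) j)) = (2 : F) • (1 : Matrix (Fin n) (Fin n) F) := by
  ext i j
  rw [Matrix.of_apply, Module.Basis.map_apply, Module.Basis.map_apply, Pi.basisFun_apply,
    Pi.basisFun_apply]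
  have h1 := polar_dotQ (Pi.single i (1 : F)) (Pi.single j 1)
  unfold QuadraticMap.polar at h1 ⊢
  rw [← map_add, hE, hE, hE, h1, single_one_dotProduct, Matrix.smul_apply, Matrix.one_apply,
    smul_eq_mul, Pi.single_apply]

theorem isSquare_det_gram {n m : ℕ} (hnm : n = 2 * m) :
    IsSquare ((2 : F) • (1 : Matrix (Fin n) (Fin n) F)).det := by
  rw [Matrix.det_smul, Matrix.det_one, mul_one, Fintype.card_fin, hnm, pow_mul']
  exact ⟨2 ^ m, by rw [pow_two]⟩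

theorem dot_classify (hodd : Odd (Fintype.card F)) {n m : ℕ} (hm : 1 ≤ m) (hnm : n = 2 * m) :
    (Even (m * (Fintype.card F - 1) / 2) →
      ∃ E : (Fin n → F) ≃ₗ[F] (Fin m ⊕ Fin m → F),
        ∀ v, Cfsg.quadFormPlus m F (E v) = dotQ n F v) ∧
    (¬ Even (m * (Fintype.card F - 1) / 2) →
      ∃ a b : F, (∀ z₁ z₂ : F, z₁ ^ 2 + a * z₁ * z₂ + b * z₂ ^ 2 = 0 → z₁ = 0 ∧ z₂ = 0) ∧
        ∃ E : (Fin n → F) ≃ₗ[F] ((Fin (m - 1) ⊕ Fin (m - 1)) ⊕ Fin 2 → F),
          ∀ v, Cfsg.quadFormMinus (m - 1) F a b (E v) = dotQ n F v) := by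
  have h2 : (2 : F) ≠ 0 := two_ne_zero_of_odd hodd
  have hV : Module.finrank F (Fin n → F) = 2 * m := by
    rw [Module.finrank_fin_fun, hnm]
  rcases Cfsg.Agent.S2616.result hm hV (dotQF n F) (dotQF_nondegenerate h2) with
    ⟨b, h0, h1, h2'⟩ | ⟨b, ζ, hζ, h0, h1, h2', h3, h4, h5, h6⟩
  · have hE : ∀ v, Cfsg.quadFormPlus m F (b.equivFun v) = dotQ n F v := by
      intro v
      rw [← plus_glue (dotQF n F) b h0 h1 h2' v, dotQF_apply]
    have hev : Even (m * (Fintype.card F - 1) / 2) := by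
      rw [← Cfsg.Agent.S2620.result rfl hodd hm ((Pi.basisFun F (Fin n)).map b.equivFun),
        gram_dot b.equivFun _ hE]
      exact isSquare_det_gram hnm
    exact ⟨fun _ => ⟨b.equivFun, hE⟩, fun h => absurd hev h⟩
  · have hac : ∀ z₁ z₂ : F, z₁ ^ 2 + 1 * z₁ * z₂ + ζ * z₂ ^ 2 = 0 → z₁ = 0 ∧ z₂ = 0 := by
      intro z₁ z₂ h
      by_cases hz : z₂ = 0
      · subst hz
        refine ⟨?_, rfl⟩
        have : z₁ ^ 2 = 0 := by linear_combination h
        exact pow_eq_zero_iff (two_ne_zero) |>.1 this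
      · exfalso
        apply hζ (z₁ / z₂)
        field_simp
        linear_combination h
    have hE : ∀ v, Cfsg.quadFormMinus (m - 1) F 1 ζ (b.equivFun v) = dotQ n F v := by
      intro v
      rw [← minus_glue (dotQF n F) b 1 ζ h0 h1 h2' h3 h4 h5 h6 v, dotQF_apply]
    have hev : ¬ Even (m * (Fintype.card F - 1) / 2) := by
      rw [← Cfsg.Agent.S2621.result rfl hodd hm 1 ζ hac
        ((Pi.basisFun F (Fin n)).map b.equivFun), gram_dot b.equivFun _ hE]
      exact isSquare_det_gram hnm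
    exact ⟨fun h => absurd h hev, fun _ => ⟨1, ζ, hac, b.equivFun, hE⟩⟩

end final


/-- Let T = PSL_n(F) over the field with q elements, q odd, n = 2m ≥ 4 even, and ι the inverse-transpose automorphism. Its centralizer in G = Inndiag(T) (the image of PGL_n(F)) is isomorphic to the projective conformal orthogonal group of the plus-type form Σ xᵢ yᵢ in dimension n when n(q − 1)/4 is even, and to that of a minus-type form (Σ xᵢ yᵢ + z₁² + a z₁ z₂ + b z₂² with anisotropic binary part) when n(q − 1)/4 is odd. -/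
theorem result {F : Type*} [Field F] [Fintype F] (hodd : Odd (Fintype.card F)) {n m : ℕ} (hm : 2 ≤ m) (hnm : n = 2 * m) (ι : MulAut (Matrix.ProjectiveSpecialLinearGroup (Fin n) F)) (hι : Cfsg.IsInverseTransposeAutPSL ι) :
    (Even (n * (Fintype.card F - 1) / 4) → Nonempty (↥(Cfsg.inndiagPSL n F ⊓ Subgroup.centralizer {ι}) ≃* Cfsg.PGO F (Cfsg.quadFormPlus m F))) ∧ (¬ Even (n * (Fintype.card F - 1) / 4) → ∃ a b : F, (∀ z₁ z₂ : F, z₁ ^ 2 + a * z₁ * z₂ + b * z₂ ^ 2 = 0 → z₁ = 0 ∧ z₂ = 0) ∧ Nonempty (↥(Cfsg.inndiagPSL n F ⊓ Subgroup.centralizer {ι}) ≃* Cfsg.PGO F (Cfsg.quadFormMinus (m - 1) F a b))) := by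
  have hι' := eq_tauBar_of_invTranspose hι
  subst hι'
  have h2 : (2 : F) ≠ 0 := two_ne_zero_of_odd hodd
  have hpar : n * (Fintype.card F - 1) / 4 = m * (Fintype.card F - 1) / 2 := by
    rw [hnm, mul_assoc]
    omega
  rw [hpar]
  obtain ⟨e₀⟩ := centralizer_tau_equiv (n := n) (F := F) (by omega) h2
  obtain ⟨hP, hM⟩ := dot_classify hodd (show 1 ≤ m by omega) hnm
  constructor
  · intro hev
    obtain ⟨E, hE⟩ := hP hev
    obtain ⟨e₁⟩ := pgo_congr_of_equiv E (dotQ n F) (Cfsg.quadFormPlus m F) hE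
    exact ⟨e₀.trans e₁⟩
  · intro hev
    obtain ⟨a, b, hab, E, hE⟩ := hM hev
    obtain ⟨e₁⟩ := pgo_congr_of_equiv E (dotQ n F) (Cfsg.quadFormMinus (m - 1) F a b) hE
    exact ⟨a, b, hab, ⟨e₀.trans e₁⟩⟩

end Cfsg.Agent.S2703
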