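import Cfsg.Statements.S4209
import Cfsg.Agent.Lib.Helper5.PolySeq1
import Cfsg.Agent.Lib.Lead.RegularP1
import Cfsg.Agent.Lib.Helper8.RegularP
import Cfsg.Agent.S4206

set_option autoImplicit false
open Cfsg

namespace Cfsg.Agent.S4209


open scoped commutatorElement
open Cfsg.Agent.Lib.Helper5.PolySeq

universe u

/-- the filtration `⊤, γ₁, γ₂, …` -/
def gam (X : Type*) [Group X] : ℕ → Subgroup X
  | 0 => ⊤
  | i + 1 => (⊤ : Subgroup X).lowerCentralSeries i

theorem gam_anti (X : Type*) [Group X] : Antitone (gam X) := by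
  apply antitone_nat_of_succ_le
  intro n
  cases n with
  | zero => exact le_top
  | succ n => exact Subgroup.lowerCentralSeries_antitone _ (Nat.le_succ n)

instance gam_normal (X : Type*) [Group X] (i : ℕ) : (gam X i).Normal := by
  cases i with
  | zero => exact (inferInstance : (⊤ : Subgroup X).Normal)
  | succ i => exact Subgroup.normal_of_characteristic ((⊤ : Subgroup X).lowerCentralSeries i)

theorem gam_comm (X : Type*) [Group X] [Finite X] :
    ∀ i j, ⁅gam X i, gam X j⁆ ≤ gam X (i + j) := by
  intro i j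
  cases i with
  | zero =>
    rw [zero_add]
    exact Subgroup.commutator_le_right _ _
  | succ i =>
    cases j with
    | zero => exact Subgroup.commutator_le_left _ _
    | succ j =>
      have h := Cfsg.Agent.S4206.result (G := X) (fun i => (⊤ : Subgroup X).lowerCentralSeries i)
        (fun i => Subgroup.normal_of_characteristic _)
        (fun i => Subgroup.lowerCentralSeries_antitone _ (Nat.le_succ i)) ⊤
        (fun i => le_of_eq rfl) i j
      have e : i + 1 + (j + 1) = (i + j + 1) + 1 := by omega
      rw [e]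
      exact h

/-- weak Hall--Petresco for `p`-th powers in class `< p` -/
theorem hp {X : Type*} [Group X] [Finite X] {p : ℕ} [hp : Fact p.Prime]
    (hcl : (⊤ : Subgroup X).lowerCentralSeries (p - 1) = ⊥) (x y : X) :
    ((x * y) ^ p)⁻¹ * x ^ p * y ^ p ∈ Cfsg.powerClosure p 1 (commutator X) := by
  have hp2 : 2 ≤ p := hp.out.two_le
  have hs : gam X p = ⊥ := by
    obtain ⟨q, rfl⟩ : ∃ q, p = q + 1 := ⟨p - 1, by omega⟩
    exact hcl
  apply hall_petresco_weak (gam_anti X) (gam_comm X) hp2 hs p
  · intro i hi2 hip c hc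
    have hc2 : c ∈ commutator X := by
      obtain ⟨r, rfl⟩ : ∃ r, i = r + 2 := ⟨i - 2, by omega⟩
      have : (⊤ : Subgroup X).lowerCentralSeries (r + 1) ≤ (⊤ : Subgroup X).lowerCentralSeries 1 :=
        Subgroup.lowerCentralSeries_antitone _ (by omega)
      exact this hc
    obtain ⟨t, ht⟩ := hp.out.dvd_choose_self (by omega : i ≠ 0) hip
    rw [ht, mul_comm, pow_mul]
    have := Cfsg.Agent.Lib.Lead.RegularP.pow_mem_powerClosure p 1
      ((commutator X).pow_mem hc2 t)
    simpa using this
  · exact Subgroup.mem_top x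
  · exact Subgroup.mem_top y

theorem lcs_subgroup {G : Type*} [Group G] (K : Subgroup G) {n : ℕ}
    (h : (⊤ : Subgroup G).lowerCentralSeries n = ⊥) :
    (⊤ : Subgroup K).lowerCentralSeries n = ⊥ := by
  have h1 : ((⊤ : Subgroup K).lowerCentralSeries n).map K.subtype ≤ ⊥ := by
    rw [Subgroup.top_subtype_lowerCentralSeries, ← h]
    exact Subgroup.lowerCentralSeries_mono n le_top
  rw [le_bot_iff, Subgroup.map_eq_bot_iff_of_injective _ K.subtype_injective] at h1
  exact h1

theorem main (p : ℕ) [Fact p.Prime] : ∀ n : ℕ, ∀ (G : Type u) [Group G] [Finite G],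
    Nat.card G = n → IsPGroup p G → (⊤ : Subgroup G).lowerCentralSeries (p - 1) = ⊥ →
    Cfsg.IsRegularPGroup p G := by
  intro n
  induction n using Nat.strong_induction_on with
  | _ n ih =>
  intro G _ _ hn hG hcl
  rw [Cfsg.Agent.Lib.Lead.RegularP.kemhadze hG]
  intro a b
  set K := Subgroup.closure ({a, b} : Set G) with hK
  have haK : a ∈ K := Subgroup.subset_closure (by simp)
  have hbK : b ∈ K := Subgroup.subset_closure (by simp)
  by_cases htriv : Subsingleton K
  · have ha1 : a = 1 := by
      have := Subsingleton.elim (⟨a, haK⟩ : K) 1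
      simpa using congrArg Subtype.val this
    have hb1 : b = 1 := by
      have := Subsingleton.elim (⟨b, hbK⟩ : K) 1
      simpa using congrArg Subtype.val this
    exact ⟨1, Subgroup.one_mem _, by simp [ha1, hb1]⟩
  · rw [not_subsingleton_iff_nontrivial] at htriv
    have hKp : IsPGroup p K := hG.to_subgroup K
    haveI : Group.IsNilpotent K := hKp.isNilpotent
    have hKcl := lcs_subgroup K hcl
    set D : Subgroup K := commutator K with hD
    have hDlt : D < ⊤ := Group.IsSolvable.commutator_lt_top_of_nontrivial K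
    have hcardD : Nat.card D < n := by
      have h1 : Nat.card D < Nat.card K := by
        apply lt_of_le_of_ne (Subgroup.card_le_card_group D)
        intro h
        exact (ne_of_lt hDlt) (Subgroup.eq_top_of_card_eq D h)
      have h2 : Nat.card K ≤ Nat.card G := Subgroup.card_le_card_group K
      omega
    have hDreg : Cfsg.IsRegularPGroup p D :=
      ih _ hcardD D rfl (hKp.to_subgroup D) (lcs_subgroup D hKcl)
    have hw := hp hKcl (⟨a, haK⟩ : K) ⟨b, hbK⟩
    have hmap : (Cfsg.powerClosure p 1 (⊤ : Subgroup D)).map D.subtype =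
        Cfsg.powerClosure p 1 D := by
      rw [Cfsg.Agent.Lib.Helper8.powerClosure_map, ← MonoidHom.range_eq_map, Subgroup.range_subtype]
    rw [← hmap] at hw
    obtain ⟨z, hz, hzw⟩ := hw
    have hpow := (Cfsg.Agent.Lib.Lead.RegularP.power_subgroups hDreg ⊤ 1).1
    have hz' : z ∈ {y : D | ∃ x ∈ (⊤ : Subgroup D), y = x ^ (p ^ 1)} := by
      rw [hpow]
      exact hz
    obtain ⟨d, -, hzd⟩ := hz'
    rw [pow_one] at hzd
    refine ⟨((d⁻¹ : D) : K), ?_, ?_⟩
    · have h1 : ((d⁻¹ : D) : K) ∈ D := (d⁻¹ : D).2
      have h2 : D.map K.subtype = ⁅K, K⁆ := by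
        rw [hD, commutator_def, Subgroup.map_commutator, ← MonoidHom.range_eq_map,
          Subgroup.range_subtype]
      rw [← h2]
      exact Subgroup.mem_map_of_mem _ h1
    · have e1 : ((⟨a, haK⟩ : K) * ⟨b, hbK⟩) ^ p =
          (⟨a, haK⟩ : K) ^ p * (⟨b, hbK⟩ : K) ^ p * ((d⁻¹ : D) : K) ^ p := by
        have e2 : (D.subtype z : K) = (d : K) ^ p := by
          rw [hzd]; simp
        rw [e2] at hzw
        have e3 : ((d⁻¹ : D) : K) ^ p = ((d : K) ^ p)⁻¹ := by simp
        rw [e3, hzw]
        group
      have := congrArg (Subtype.val : K → G) e1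
      simpa using this


/-- A finite `p`-group of nilpotency class less than `p` (the term of index `p - 1` of the lower central series of the whole group, indexed from `0`, is trivial) is a regular `p`-group. -/
theorem result {G : Type*} [Group G] [Finite G] {p : ℕ} [Fact p.Prime] (hG : IsPGroup p G) (hcl : (⊤ : Subgroup G).lowerCentralSeries (p - 1) = ⊥) : Cfsg.IsRegularPGroup p G := by
  exact main p _ G rfl hG hcl

end Cfsg.Agent.S4209
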