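import Cfsg.Statements.S0635
import Mathlib
import Cfsg.Agent.Lib.Helper2.PSeries
import Cfsg.Agent.Lib.Helper4.HallHigman
import Cfsg.Agent.Lib.Helper4.SolvBalance

set_option autoImplicit false
open Cfsg

namespace Cfsg.Agent.S0635


universe u

open Cfsg Cfsg.Agent.Lib.Helper2.PSeries Cfsg.Agent.Lib.Helper2.PConstrained in
/-- `Z(S) ≤ O_{p',p}(G)` for a Sylow `p`-subgroup `S` of a `p`-solvable group -/
theorem center_sylow_le {G : Type u} [Group G] [Finite G] {p : ℕ} [Fact p.Prime]
    (hsol : IsPSolvable p G) (S : Sylow p G) (z : ↥(S : Subgroup G))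
    (hz : z ∈ Subgroup.center ↥(S : Subgroup G)) : (z : G) ∈ pPrimePCore p G := by
  classical
  have hHH := Cfsg.Agent.Lib.Helper4.centralizer_pCore_le_of_isPSolvable
    (Cfsg.Agent.Lib.Helper7.isPSolvable_quotient hsol (pPrimeCore p G))
    (Cfsg.Agent.Lib.Helper4.pPrimeCore_quotient_self p)
  have hRS : pCore p (G ⧸ pPrimeCore p G) ≤ (S : Subgroup G).map (QuotientGroup.mk' (pPrimeCore p G)) := by
    have := Cfsg.Agent.Lib.Helper6.pCore_le_sylow
      (S.mapSurjective (QuotientGroup.mk'_surjective (pPrimeCore p G)))
    exact this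
  rw [pPrimePCore_def, Subgroup.mem_comap]
  apply hHH
  rw [Subgroup.mem_centralizer_iff]
  intro r hr
  obtain ⟨s, hs, rfl⟩ := hRS hr
  have h1 := (Subgroup.mem_center_iff.mp hz) ⟨s, hs⟩
  have h2 : s * (z : G) = (z : G) * s := congrArg Subtype.val h1
  rw [← map_mul, ← map_mul, h2]

open Cfsg Cfsg.Agent.Lib.Helper2.PSeries Cfsg.Agent.Lib.Helper2.PConstrained in
theorem main (p : ℕ) [Fact p.Prime] : ∀ n : ℕ, ∀ (G : Type u) [Group G] [Finite G], Nat.card G ≤ n →
    IsPSolvable p G → ∀ S : Sylow p G, PLengthLE p (Group.nilpotencyClass ↥(S : Subgroup G)) G := by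
  intro n
  induction n with
  | zero =>
    intro G _ _ h
    exact absurd h (by have := Nat.card_pos (α := G); omega)
  | succ n ih =>
    intro G _ _ hcard hsol S
    classical
    haveI hSnil : Group.IsNilpotent ↥(S : Subgroup G) := S.isPGroup'.isNilpotent
    rcases Nat.eq_zero_or_pos (Group.nilpotencyClass ↥(S : Subgroup G)) with hc0 | hcpos
    · rw [hc0]
      apply pLengthLE_zero_of_coprime
      have hStriv : Subsingleton ↥(S : Subgroup G) := Group.nilpotencyClass_zero_iff_subsingleton.mp hc0
      have hSbot : (S : Subgroup G) = ⊥ := Subgroup.eq_bot_of_subsingleton _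
      have h1 : ¬ p ∣ (S : Subgroup G).index := S.not_dvd_index
      rw [hSbot, Subgroup.index_bot] at h1
      exact ((Nat.Prime.coprime_iff_not_dvd (Fact.out : p.Prime)).mpr h1).symm
    · by_cases hL : pPrimePCore p G = ⊥
      · -- then `G` is trivial
        have hK : pPrimeCore p G = ⊥ := by
          rw [eq_bot_iff, ← hL]; exact pPrimeCore_le_pPrimePCore
        have hHH := Cfsg.Agent.Lib.Helper4.centralizer_pCore_le_of_isPSolvable
          (Cfsg.Agent.Lib.Helper7.isPSolvable_quotient hsol (pPrimeCore p G))
          (Cfsg.Agent.Lib.Helper4.pPrimeCore_quotient_self p)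
        have hR : pCore p (G ⧸ pPrimeCore p G) = ⊥ := by
          rw [← map_pPrimePCore, hL, Subgroup.map_bot]
        have htop : (⊤ : Subgroup G) = ⊥ := by
          rw [eq_bot_iff]
          intro x _
          have hx : QuotientGroup.mk' (pPrimeCore p G) x ∈ pCore p (G ⧸ pPrimeCore p G) := by
            apply hHH
            rw [hR, Subgroup.mem_centralizer_iff]
            intro r hr
            rw [SetLike.mem_coe, Subgroup.mem_bot] at hr
            rw [hr, one_mul, mul_one]
          rw [hR, Subgroup.mem_bot, QuotientGroup.mk'_apply, QuotientGroup.eq_one_iff, hK] at hx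
          exact hx
        unfold PLengthLE
        rw [eq_top_iff, htop]
        exact bot_le
      · have hcardL : 1 < Nat.card (pPrimePCore p G) := (Subgroup.one_lt_card_iff_ne_bot _).mpr hL
        have hmul := Cfsg.Agent.Lib.Lead.card_quotient_mul (pPrimePCore p G)
        have hcard' : Nat.card (G ⧸ pPrimePCore p G) ≤ n := by
          have hpos : 0 < Nat.card (G ⧸ pPrimePCore p G) := Nat.card_pos
          nlinarith
        have hIH := ih (G ⧸ pPrimePCore p G) hcard'
          (Cfsg.Agent.Lib.Helper7.isPSolvable_quotient hsol (pPrimePCore p G))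
          (S.mapSurjective (QuotientGroup.mk'_surjective (pPrimePCore p G)))
        -- class bound
        have hcls : Group.nilpotencyClass
            ↥((S.mapSurjective (QuotientGroup.mk'_surjective (pPrimePCore p G)) :
              Sylow p (G ⧸ pPrimePCore p G)) : Subgroup (G ⧸ pPrimePCore p G))
            ≤ Group.nilpotencyClass ↥(S : Subgroup G) - 1 := by
          show Group.nilpotencyClass ↥((S : Subgroup G).map (QuotientGroup.mk' (pPrimePCore p G)))
            ≤ Group.nilpotencyClass ↥(S : Subgroup G) - 1
          have hker : Subgroup.center ↥(S : Subgroup G) ≤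
              ((QuotientGroup.mk' (pPrimePCore p G)).subgroupMap (S : Subgroup G)).ker := by
            intro z hz
            rw [MonoidHom.mem_ker]
            apply Subtype.ext
            have := center_sylow_le hsol S z hz
            exact (QuotientGroup.eq_one_iff _).mpr this
          have hsurj := QuotientGroup.lift_surjective_of_surjective (Subgroup.center ↥(S : Subgroup G))
            ((QuotientGroup.mk' (pPrimePCore p G)).subgroupMap (S : Subgroup G))
            ((QuotientGroup.mk' (pPrimePCore p G)).subgroupMap_surjective (S : Subgroup G)) hker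
          have h1 := Group.nilpotencyClass_le_of_surjective _ hsurj
          rwa [Group.nilpotencyClass_quotient_center] at h1
        have h2 := pLengthLE_mono hcls hIH
        have h3 := pLengthLE_succ_of_quotient _ h2
        have h4 : Group.nilpotencyClass ↥(S : Subgroup G) - 1 + 1 = Group.nilpotencyClass ↥(S : Subgroup G) := by
          omega
        rwa [h4] at h3

/-- The p-length of a p-soluble group is at most the nilpotency class of its Sylow p-subgroups. -/
theorem result {G : Type*} [Group G] [Finite G] {p : ℕ} [Fact p.Prime] (hsol : Cfsg.IsPSolvable p G) (S : Sylow p G) : Cfsg.PLengthLE p (Group.nilpotencyClass ↥(S : Subgroup G)) G := by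
  exact main p (Nat.card G) G le_rfl hsol S

end Cfsg.Agent.S0635
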