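import Cfsg.Statements.S2610
import Cfsg.Agent.Lib.Helper5.SpinorDiag
import Cfsg.Agent.Lib.Helper2.PlusType1

set_option autoImplicit false
open Cfsg

namespace Cfsg.Agent.S2610


open Cfsg.Agent.Lib.Helper5.SpinorDiag Cfsg.Agent.Lib.Helper2 Cfsg.Agent.Lib.Helper2.Spinor
open Cfsg.Agent.Lib.Helper2.CDG Cfsg.Agent.Lib.Helper2.ReflGen Matrix

section
variable {F : Type*} [Field F] {ι : Type} [Fintype ι] [DecidableEq ι]
variable {Q : QuadraticForm F (ι → F)}

theorem isSquare_sq_mul {s P : F} (hs : s ≠ 0) : IsSquare (s ^ 2 * P) ↔ IsSquare P := by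
  constructor
  · rintro ⟨t, ht⟩
    refine ⟨t / s, ?_⟩
    field_simp
    rw [pow_two t, ← ht]; ring
  · rintro ⟨t, rfl⟩
    exact ⟨s * t, by ring⟩

theorem list_mulVec {N : ℕ} (b : Fin N → ι → F)
    (hortho : ∀ i j, i ≠ j → QuadraticMap.polar (⇑Q) (b i) (b j) = 0) (hani : ∀ i, Q (b i) ≠ 0)
    (L : List (Fin N)) (hL : L.Nodup) (k : Fin N) :
    ((L.map (fun i => Cfsg.reflectionMatrix ⇑Q (b i))).prod) *ᵥ (b k) =
      if k ∈ L then - b k else b k := by
  induction L with
  | nil => simp
  | cons i L ih =>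
    rw [List.nodup_cons] at hL
    rw [List.map_cons, List.prod_cons, ← Matrix.mulVec_mulVec, ih hL.2]
    by_cases hk : k ∈ L
    · have hik : i ≠ k := by rintro rfl; exact hL.1 hk
      rw [if_pos hk, if_pos (List.mem_cons_of_mem _ hk), Matrix.mulVec_neg,
        (reflection_facts Q (b i) (hani i)).2.2.1 _ (hortho i k hik)]
    · rw [if_neg hk]
      by_cases hik : i = k
      · subst hik
        rw [if_pos List.mem_cons_self, (reflection_facts Q (b i) (hani i)).2.1]
      · rw [if_neg (by rw [List.mem_cons]; rintro (h | h); exact hik h.symm; exact hk h),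
          (reflection_facts Q (b i) (hani i)).2.2.1 _ (hortho i k hik)]

theorem prod_eq_neg_one {N : ℕ} (b : Module.Basis (Fin N) F (ι → F))
    (hortho : ∀ i j, i ≠ j → QuadraticMap.polar (⇑Q) (b i) (b j) = 0) (hani : ∀ i, Q (b i) ≠ 0) :
    (((List.finRange N).map (fun i => b i)).map (fun v => Cfsg.reflectionMatrix ⇑Q v)).prod = -1 := by
  rw [List.map_map]
  have h1 : ∀ k, (((List.finRange N).map ((fun v => Cfsg.reflectionMatrix ⇑Q v) ∘ fun i => b i)).prod) *ᵥ (b k)
      = (-1 : Matrix ι ι F) *ᵥ (b k) := by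
    intro k
    have := list_mulVec (Q := Q) (fun i => b i) hortho hani (List.finRange N) (List.nodup_finRange N) k
    rw [if_pos (List.mem_finRange k)] at this
    rw [Matrix.neg_mulVec, Matrix.one_mulVec]
    exact this
  have h2 : Matrix.mulVecLin (((List.finRange N).map ((fun v => Cfsg.reflectionMatrix ⇑Q v) ∘ fun i => b i)).prod)
      = Matrix.mulVecLin (-1 : Matrix ι ι F) := by
    apply b.ext
    intro k
    exact h1 k
  apply Matrix.mulVec_injective
  funext x
  exact LinearMap.congr_fun h2 x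

end



/-- For a quadratic form Q on F^n with non-degenerate polar form, F finite of odd order and n ≥ 2 even, the isometry −1 lies in Ω (the commutator subgroup of the orthogonal group) if and only if the discriminant of Q (the determinant of the Gram matrix of its polar form) is a square. -/
theorem result {F : Type*} [Field F] [Fintype F] (h2 : (2 : F) ≠ 0) {n : ℕ} (hn : 2 ≤ n) (he : Even n) (Q : QuadraticForm F (Fin n → F)) (hQ : (QuadraticMap.polarBilin Q).Nondegenerate) : (∃ g : ↥(Cfsg.isometryGroup F ⇑Q), g ∈ Cfsg.Omega F ⇑Q ∧ ((g : Matrix.GeneralLinearGroup (Fin n) F) : Matrix (Fin n) (Fin n) F) = -1) ↔ IsSquare (Matrix.of (fun i j : Fin n => QuadraticMap.polar ⇑Q (Pi.single i 1) (Pi.single j 1))).det := by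
  classical
  obtain ⟨b, hortho, hani⟩ := exists_orthogonal_basis (Q := Q) h2 hQ
  have hN : Module.finrank F (Fin n → F) = n := Module.finrank_fin_fun F
  -- the Gram matrices
  have hG : (Matrix.of (fun i j : Fin n => QuadraticMap.polar ⇑Q (Pi.single i 1) (Pi.single j 1))) =
      LinearMap.BilinForm.toMatrix (Pi.basisFun F (Fin n)) (QuadraticMap.polarBilin Q) := by
    ext i j
    rw [LinearMap.BilinForm.toMatrix_apply, Pi.basisFun_apply, Pi.basisFun_apply]
    rfl
  have hD : LinearMap.BilinForm.toMatrix b (QuadraticMap.polarBilin Q) =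
      Matrix.diagonal (fun i => 2 * Q (b i)) := by
    ext i j
    rw [LinearMap.BilinForm.toMatrix_apply, Matrix.diagonal_apply]
    by_cases hij : i = j
    · subst hij
      rw [if_pos rfl]
      exact polar_self Q (b i)
    · rw [if_neg hij]
      exact hortho i j hij
  obtain ⟨u, hu, hdet⟩ := PlusType.det_change_basis (QuadraticMap.polarBilin Q) b (Pi.basisFun F (Fin n))
  rw [← hG, hD, Matrix.det_diagonal, Finset.prod_mul_distrib, Finset.prod_const, Finset.card_univ,
    Fintype.card_fin] at hdet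
  obtain ⟨k, hk⟩ := he
  have h2pow : (2 : F) ^ Module.finrank F (Fin n → F) = (2 ^ k) ^ 2 := by
    rw [hN, hk, ← two_mul, pow_mul']
  have hsq : IsSquare (Matrix.of (fun i j : Fin n => QuadraticMap.polar ⇑Q (Pi.single i 1) (Pi.single j 1))).det ↔
      IsSquare (∏ i, Q (b i)) := by
    rw [hdet, h2pow, ← mul_assoc, ← mul_pow]
    exact isSquare_sq_mul (mul_ne_zero hu (pow_ne_zero _ h2))
  rw [hsq]
  have hprod := prod_eq_neg_one (Q := Q) b hortho hani
  have hvs : ∀ v ∈ (List.finRange (Module.finrank F (Fin n → F))).map (fun i => b i), Q v ≠ 0 := by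
    intro v hv
    rw [List.mem_map] at hv
    obtain ⟨i, -, rfl⟩ := hv
    exact hani i
  have hcrit := fun g hg => criterion (Q := Q) h2 hQ (by rw [Fintype.card_fin]; exact hn) g
    ((List.finRange (Module.finrank F (Fin n → F))).map (fun i => b i)) hvs hg
  have hlen : ((List.finRange (Module.finrank F (Fin n → F))).map (fun i => b i)).length = Module.finrank F (Fin n → F) := by
    rw [List.length_map, List.length_finRange]
  have hpr : (((List.finRange (Module.finrank F (Fin n → F))).map (fun i => b i)).map (fun v => Q v)).prod = ∏ i, Q (b i) := by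
    rw [List.map_map, Fin.prod_univ_def]
    rfl
  constructor
  · rintro ⟨g, hg, hgm⟩
    have := ((hcrit g (by rw [hgm, hprod])).1 hg).2
    rw [hpr] at this
    exact this
  · intro hs
    refine ⟨negOne Q, (hcrit (negOne Q) (by rw [negOne_coe, hprod])).2 ⟨?_, ?_⟩, negOne_coe Q⟩
    · rw [hlen, hN, hk]; exact ⟨k, rfl⟩
    · rw [hpr]; exact hs


end Cfsg.Agent.S2610
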