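import Cfsg.Statements.S2305
import Mathlib
import Cfsg.Agent.Lib.Helper5.BorelChar

set_option autoImplicit false
open Cfsg

namespace Cfsg.Agent.S2305

open scoped ComplexConjugate

/-- Positive definiteness of the inner product. -/
theorem eq_zero_of_norm_zero {G : Type*} [Group G] [Fintype G] {f : G → ℂ}
    (h : Cfsg.classInner f f = 0) : f = 0 := by
  funext g
  have hG0 : (Nat.card G : ℂ) ≠ 0 := Nat.cast_ne_zero.2 Nat.card_pos.ne'
  unfold Cfsg.classInner at h
  have h1 : ∑ x : G, f x * conj (f x) = 0 := by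
    rcases mul_eq_zero.1 h with h | h
    · exact absurd (inv_eq_zero.1 h) hG0
    · exact h
  have h2 : ∑ x : G, Complex.normSq (f x) = 0 := by
    have : ((∑ x : G, Complex.normSq (f x) : ℝ) : ℂ) = 0 := by
      rw [← h1]
      push_cast
      exact Finset.sum_congr rfl fun x _ => (Complex.mul_conj (f x)).symm
    exact_mod_cast this
  have h3 := (Finset.sum_eq_zero_iff_of_nonneg (fun x _ => Complex.normSq_nonneg (f x))).1 h2 g
    (Finset.mem_univ g)
  exact Complex.normSq_eq_zero.1 h3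

theorem eq_of_inner_eq {G : Type*} [Group G] [Fintype G] {f₁ f₂ : G → ℂ} {c : ℂ}
    (h11 : Cfsg.classInner f₁ f₁ = c) (h12 : Cfsg.classInner f₁ f₂ = c)
    (h21 : Cfsg.classInner f₂ f₁ = c) (h22 : Cfsg.classInner f₂ f₂ = c) : f₁ = f₂ := by
  have : f₁ - f₂ = 0 := by
    apply eq_zero_of_norm_zero
    rw [Cfsg.Agent.Lib.Helper4.classInner_sub_left, Cfsg.Agent.Lib.Helper4.classInner_sub_right,
      Cfsg.Agent.Lib.Helper4.classInner_sub_right, h11, h12, h21, h22]
    ring
  exact sub_eq_zero.1 this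


/-- Over a finite field F, for multiplicative characters α, β, α′, β′ of F, the characters of GL₂ induced from the linear characters b ↦ α(b₁₁) β(b₂₂) and b ↦ α′(b₁₁) β′(b₂₂) of the upper triangular subgroup coincide exactly when {α, β} = {α′, β′} as unordered pairs. -/
theorem result {F : Type*} [Field F] [Fintype F] [DecidableEq F] (α β α' β' : MulChar F ℂ) :
    Cfsg.indFun (Cfsg.upperTriangularGL 2 F) (fun b => α (((b : Matrix.GeneralLinearGroup (Fin 2) F) : Matrix (Fin 2) (Fin 2) F) 0 0) * β (((b : Matrix.GeneralLinearGroup (Fin 2) F) : Matrix (Fin 2) (Fin 2) F) 1 1)) = Cfsg.indFun (Cfsg.upperTriangularGL 2 F) (fun b => α' (((b : Matrix.GeneralLinearGroup (Fin 2) F) : Matrix (Fin 2) (Fin 2) F) 0 0) * β' (((b : Matrix.GeneralLinearGroup (Fin 2) F) : Matrix (Fin 2) (Fin 2) F) 1 1)) ↔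
      (α = α' ∧ β = β') ∨ (α = β' ∧ β = α') := by
  classical
  have hswap : ∀ α β : MulChar F ℂ,
      Cfsg.indFun (Cfsg.upperTriangularGL 2 F) (fun b => α (((b : Matrix.GeneralLinearGroup (Fin 2) F) : Matrix (Fin 2) (Fin 2) F) 0 0) * β (((b : Matrix.GeneralLinearGroup (Fin 2) F) : Matrix (Fin 2) (Fin 2) F) 1 1))
        = Cfsg.indFun (Cfsg.upperTriangularGL 2 F) (fun b => β (((b : Matrix.GeneralLinearGroup (Fin 2) F) : Matrix (Fin 2) (Fin 2) F) 0 0) * α (((b : Matrix.GeneralLinearGroup (Fin 2) F) : Matrix (Fin 2) (Fin 2) F) 1 1)) := by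
    intro α β
    by_cases hab : α = β
    · subst hab
      rfl
    have hba : ¬ β = α := fun h => hab h.symm
    have e1 := Cfsg.Agent.Lib.Helper5.classInner_indFun_gl2 α β α β
    have e2 := Cfsg.Agent.Lib.Helper5.classInner_indFun_gl2 α β β α
    have e3 := Cfsg.Agent.Lib.Helper5.classInner_indFun_gl2 β α α β
    have e4 := Cfsg.Agent.Lib.Helper5.classInner_indFun_gl2 β α β α
    rw [if_pos (⟨rfl, rfl⟩ : α = α ∧ β = β), if_neg (fun h : α = β ∧ β = α => hab h.1)] at e1 e2
    rw [if_pos (⟨rfl, rfl⟩ : β = β ∧ α = α), if_neg (fun h : β = α ∧ α = β => hba h.1)] at e3 e4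
    rw [add_comm] at e2 e3
    exact eq_of_inner_eq e1 e2 e3 e4
  constructor
  · intro heq
    by_contra hcon
    push Not at hcon
    have h1 := Cfsg.Agent.Lib.Helper5.classInner_indFun_gl2 α β α' β'
    have h2 := Cfsg.Agent.Lib.Helper5.classInner_indFun_gl2 α β α β
    have h3 : (if α = α ∧ β = β then (1 : ℂ) else 0) + (if α = β ∧ β = α then 1 else 0)
        = (if α = α' ∧ β = β' then 1 else 0) + (if α = β' ∧ β = α' then 1 else 0) := by
      rw [← h2, ← h1, ← heq]
    rw [if_pos (⟨rfl, rfl⟩ : α = α ∧ β = β),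
      if_neg (fun h : α = α' ∧ β = β' => hcon.1 h.1 h.2),
      if_neg (fun h : α = β' ∧ β = α' => hcon.2 h.1 h.2), add_zero] at h3
    split_ifs at h3 <;> norm_num at h3
  · rintro (⟨h1, h2⟩ | ⟨h1, h2⟩)
    · rw [h1, h2]
    · rw [h1, h2]
      exact hswap β' α'

end Cfsg.Agent.S2305
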