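import Mathlib
import Cfsg.Statements.S2330

set_option autoImplicit false
open Cfsg

namespace Cfsg.Agent.S2330

variable {F : Type*} [Field F]

/-- companion matrix with trace `t` and determinant `d` -/
def comp (t d : F) : Matrix (Fin 2) (Fin 2) F := !![0, -d; 1, t]

theorem comp_trace (t d : F) : (comp t d).trace = t := by
  simp [comp, Matrix.trace_fin_two]

theorem comp_det (t d : F) : (comp t d).det = d := by
  simp [comp, Matrix.det_fin_two]

/-- a non-scalar `2 × 2` matrix is similar to its companion matrix -/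
theorem exists_conj_comp (A : Matrix (Fin 2) (Fin 2) F)
    (hA : ¬ ∃ a : F, A = a • (1 : Matrix (Fin 2) (Fin 2) F)) :
    ∃ P : Matrix (Fin 2) (Fin 2) F, P.det ≠ 0 ∧ A * P = P * comp A.trace A.det := by
  by_cases hc : A 1 0 ≠ 0
  · refine ⟨!![1, A 0 0; 0, A 1 0], ?_, ?_⟩
    · simp [Matrix.det_fin_two, hc]
    · ext i j
      fin_cases i <;> fin_cases j <;>
        simp [comp, Matrix.mul_apply, Fin.sum_univ_two, Matrix.trace_fin_two, Matrix.det_fin_two] <;>
        ring
  push Not at hc
  by_cases hb : A 0 1 ≠ 0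
  · refine ⟨!![0, A 0 1; 1, A 1 1], ?_, ?_⟩
    · simp [Matrix.det_fin_two, hb]
    · ext i j
      fin_cases i <;> fin_cases j <;>
        simp [comp, Matrix.mul_apply, Fin.sum_univ_two, Matrix.trace_fin_two, Matrix.det_fin_two] <;>
        ring
  push Not at hb
  have had : A 0 0 ≠ A 1 1 := by
    intro h
    apply hA
    refine ⟨A 0 0, ?_⟩
    ext i j
    fin_cases i <;> fin_cases j <;> simp [hb, hc, h]
  refine ⟨!![1, A 0 0; 1, A 1 1], ?_, ?_⟩
  · simp only [Matrix.det_fin_two, Matrix.of_apply, Matrix.cons_val', Matrix.cons_val_zero,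
      Matrix.cons_val_one, Matrix.cons_val_fin_one]
    intro h
    apply had
    linear_combination -h
  · ext i j
    fin_cases i <;> fin_cases j <;>
      simp [comp, Matrix.mul_apply, Fin.sum_univ_two, Matrix.trace_fin_two, Matrix.det_fin_two,
        hb, hc] <;>
      ring

/-- the companion matrix in `GL₂` -/
noncomputable def compGL (t : F) (d : Fˣ) : GL (Fin 2) F :=
  Matrix.GeneralLinearGroup.mkOfDetNeZero (comp t d) (by rw [comp_det]; exact d.ne_zero)

@[simp] theorem compGL_val (t : F) (d : Fˣ) : (compGL t d : Matrix (Fin 2) (Fin 2) F) = comp t d := rfl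

theorem det_ne_zero (g : GL (Fin 2) F) : (g : Matrix (Fin 2) (Fin 2) F).det ≠ 0 :=
  ((Matrix.isUnit_iff_isUnit_det _).1 g.isUnit).ne_zero

theorem isConj_compGL (g : GL (Fin 2) F)
    (hg : ¬ ∃ a : F, (g : Matrix (Fin 2) (Fin 2) F) = a • (1 : Matrix (Fin 2) (Fin 2) F)) :
    IsConj (compGL (g : Matrix (Fin 2) (Fin 2) F).trace (Units.mk0 _ (det_ne_zero g))) g := by
  obtain ⟨P, hP, hAP⟩ := exists_conj_comp g.1 hg
  rw [isConj_iff]
  refine ⟨Matrix.GeneralLinearGroup.mkOfDetNeZero P hP, ?_⟩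
  rw [mul_inv_eq_iff_eq_mul]
  apply Units.ext
  exact hAP.symm

theorem trace_eq_of_isConj {g h : GL (Fin 2) F} (hgh : IsConj g h) :
    (g : Matrix (Fin 2) (Fin 2) F).trace = (h : Matrix (Fin 2) (Fin 2) F).trace := by
  rw [isConj_iff] at hgh
  obtain ⟨c, rfl⟩ := hgh
  have h1 : ((c * g * c⁻¹ : GL (Fin 2) F) : Matrix (Fin 2) (Fin 2) F) = c.1 * g.1 * (c⁻¹).1 := rfl
  rw [h1, Matrix.trace_mul_comm, ← Matrix.mul_assoc]
  have : (c⁻¹).1 * c.1 = 1 := Units.inv_mul c
  rw [this, Matrix.one_mul]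

theorem det_eq_of_isConj {g h : GL (Fin 2) F} (hgh : IsConj g h) :
    (g : Matrix (Fin 2) (Fin 2) F).det = (h : Matrix (Fin 2) (Fin 2) F).det := by
  rw [isConj_iff] at hgh
  obtain ⟨c, rfl⟩ := hgh
  have h1 : ((c * g * c⁻¹ : GL (Fin 2) F) : Matrix (Fin 2) (Fin 2) F) = c.1 * g.1 * (c⁻¹).1 := rfl
  have h2 : (c.1 * (c⁻¹).1) = 1 := Units.mul_inv c
  rw [h1, Matrix.det_mul, Matrix.det_mul, mul_comm, ← mul_assoc, ← Matrix.det_mul, 
    Units.inv_mul c, Matrix.det_one, one_mul]

theorem scalar_isConj_iff (a : Fˣ) (h : GL (Fin 2) F) :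
    IsConj (Matrix.GeneralLinearGroup.scalar (Fin 2) a) h ↔
      h = Matrix.GeneralLinearGroup.scalar (Fin 2) a := by
  constructor
  · intro hc
    rw [isConj_iff] at hc
    obtain ⟨c, rfl⟩ := hc
    rw [← Matrix.GeneralLinearGroup.scalar_commute, mul_inv_cancel_right]
  · rintro rfl
    exact IsConj.refl _

/-- the parametrisation of classes -/
noncomputable def classOf : Fˣ ⊕ (F × Fˣ) → ConjClasses (GL (Fin 2) F)
  | Sum.inl a => ConjClasses.mk (Matrix.GeneralLinearGroup.scalar (Fin 2) a)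
  | Sum.inr (t, d) => ConjClasses.mk (compGL t d)

theorem classOf_bijective : Function.Bijective (classOf (F := F)) := by
  constructor
  · rintro (a | ⟨t, d⟩) (b | ⟨t', d'⟩) h
    · simp only [classOf, ConjClasses.mk_eq_mk_iff_isConj, scalar_isConj_iff] at h
      have := congrArg (fun g : GL (Fin 2) F => (g : Matrix (Fin 2) (Fin 2) F) 0 0) h
      simp at this
      rw [Units.ext this.symm]
    · exfalso
      simp only [classOf, ConjClasses.mk_eq_mk_iff_isConj, scalar_isConj_iff] at h
      have := congrArg (fun g : GL (Fin 2) F => (g : Matrix (Fin 2) (Fin 2) F) 1 0) h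
      simp [comp] at this
    · exfalso
      simp only [classOf, ConjClasses.mk_eq_mk_iff_isConj] at h
      have h' := (scalar_isConj_iff b _).1 h.symm
      have := congrArg (fun g : GL (Fin 2) F => (g : Matrix (Fin 2) (Fin 2) F) 1 0) h'
      simp [comp] at this
    · simp only [classOf, ConjClasses.mk_eq_mk_iff_isConj] at h
      have h1 := trace_eq_of_isConj h
      have h2 := det_eq_of_isConj h
      simp only [compGL_val, comp_trace, comp_det] at h1 h2
      rw [h1, Units.ext h2]
  · intro c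
    obtain ⟨g, rfl⟩ := ConjClasses.exists_rep c
    by_cases hg : ∃ a : F, (g : Matrix (Fin 2) (Fin 2) F) = a • (1 : Matrix (Fin 2) (Fin 2) F)
    · obtain ⟨a, ha⟩ := hg
      have ha0 : a ≠ 0 := by
        intro h0
        have := det_ne_zero g
        rw [ha, h0, zero_smul, Matrix.det_zero] at this
        exact this rfl
      refine ⟨Sum.inl (Units.mk0 a ha0), ?_⟩
      simp only [classOf]
      congr 1
      apply Units.ext
      rw [ha]
      ext i j
      simp [Matrix.scalar_apply, Matrix.diagonal_apply, Matrix.one_apply]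
    · refine ⟨Sum.inr ((g : Matrix (Fin 2) (Fin 2) F).trace, Units.mk0 _ (det_ne_zero g)), ?_⟩
      simp only [classOf]
      rw [ConjClasses.mk_eq_mk_iff_isConj]
      exact isConj_compGL g hg


theorem result {F : Type*} [Field F] [Fintype F] :
    Nat.card (ConjClasses (Matrix.GeneralLinearGroup (Fin 2) F)) = Fintype.card F ^ 2 - 1 := by
  classical
  rw [← Nat.card_congr (Equiv.ofBijective _ (classOf_bijective (F := F))), Nat.card_eq_fintype_card,
    Fintype.card_sum, Fintype.card_prod, Fintype.card_units]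
  have h1 : 1 ≤ Fintype.card F := Fintype.card_pos
  obtain ⟨k, hk⟩ : ∃ k, Fintype.card F = k + 1 := ⟨Fintype.card F - 1, by omega⟩
  rw [hk]
  have : (k + 1) ^ 2 - 1 = k + (k + 1) * k := by
    have : (k + 1) ^ 2 = k + (k + 1) * k + 1 := by ring
    omega
  rw [this]
  simp

end Cfsg.Agent.S2330
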