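import Cfsg.Statements.S0825
import Mathlib
import Cfsg.Agent.Lib.Helper2.S8O6c
import Cfsg.Agent.Lib.Helper2.IsoRingEquiv

set_option autoImplicit false
open Cfsg

namespace Cfsg.Agent.S0825

/-- O⁺_6(2) ≅ S_8: the isometry group of the hyperbolic form x_1y_1 + x_2y_2 + x_3y_3 over the field with 2 elements is isomorphic to the symmetric group on 8 letters. -/
theorem result {F : Type*} [Field F] [Fintype F] (hF : Fintype.card F = 2) : Nonempty (↥(Cfsg.isometryGroup F (Cfsg.quadFormPlus 3 F)) ≃* Equiv.Perm (Fin 8)) := by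
  have hcard : Fintype.card F = Fintype.card (ZMod 2) := by rw [hF, ZMod.card]
  let e : F ≃+* ZMod 2 := FiniteField.ringEquivOfCardEq hcard
  have h : ∀ v : Fin 3 ⊕ Fin 3 → F, Cfsg.quadFormPlus 3 (ZMod 2) (fun i => e (v i)) =
      e (Cfsg.quadFormPlus 3 F v) := by
    intro v
    unfold Cfsg.quadFormPlus
    rw [map_sum]
    apply Finset.sum_congr rfl
    intro i _
    rw [map_mul]
  obtain ⟨e1⟩ := Cfsg.Agent.Lib.Helper2.IsoRingEquiv.isometryGroup_equiv e
    (Cfsg.quadFormPlus 3 F) (Cfsg.quadFormPlus 3 (ZMod 2)) h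
  obtain ⟨e2⟩ := Cfsg.Agent.Lib.Helper2.S8O6.equiv_zmod2
  exact ⟨e1.trans e2⟩

end Cfsg.Agent.S0825
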