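import Cfsg.Statements.S0256
import Mathlib
import Cfsg.Agent.S0302
import Cfsg.Agent.S0825
import Cfsg.Agent.Lib.Helper2.EquivComm

set_option autoImplicit false
open Cfsg

namespace Cfsg.Agent.S0256

/-- PSL_4(2) is isomorphic to A_8. -/
theorem result {F : Type*} [Field F] [Fintype F] (hF : Fintype.card F = 2) : Nonempty (Matrix.ProjectiveSpecialLinearGroup (Fin 4) F ≃* alternatingGroup (Fin 8)) := by
  obtain ⟨e1⟩ := Cfsg.Agent.S0302.result (F := F)
  obtain ⟨e2⟩ := Cfsg.Agent.S0825.result (F := F) hF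
  have h8 : Nat.card (Fin 8) = 8 := by simp
  have e3 : ↥(Cfsg.Omega F (Cfsg.quadFormPlus 3 F)) ≃* ↥(alternatingGroup (Fin 8)) :=
    (Cfsg.Agent.Lib.Helper2.EquivComm.commutatorEquiv e2).trans
      (MulEquiv.subgroupCongr (alternatingGroup.commutator_perm_eq (by rw [h8]; norm_num)))
  have hc : Subgroup.center ↥(alternatingGroup (Fin 8)) = ⊥ :=
    alternatingGroup.center_eq_bot (by rw [h8]; norm_num)
  exact ⟨e1.symm.trans ((Cfsg.Agent.Lib.Helper2.EquivComm.centerQuotEquiv e3).trans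
    (Cfsg.Agent.Lib.Helper2.EquivComm.quotCenterOfBot hc))⟩

end Cfsg.Agent.S0256
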