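import Cfsg.Statements.S0254
import Mathlib
import Cfsg.Agent.S0300
import Cfsg.Agent.Lib.Helper2.S6O4c
import Cfsg.Agent.Lib.Helper1.SLCard

set_option autoImplicit false
open Cfsg

namespace Cfsg.Agent.S0254

/-- PSL_2(9) is isomorphic to A_6. -/
theorem result {F : Type*} [Field F] [Fintype F] (hF : Fintype.card F = 9) : Nonempty (Matrix.ProjectiveSpecialLinearGroup (Fin 2) F ≃* alternatingGroup (Fin 6)) := by
  have hab : ∀ z₁ z₂ : ZMod 3, z₁ ^ 2 + 0 * z₁ * z₂ + 1 * z₂ ^ 2 = 0 → z₁ = 0 ∧ z₂ = 0 := by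
    decide
  obtain ⟨e1⟩ := Cfsg.Agent.S0300.result (F := ZMod 3) (K := F) (q := 3) (ZMod.card 3)
    (by rw [hF]; norm_num) 0 1 hab
  have hc := Cfsg.Agent.Lib.Helper1.card_PSL_field (F := F) 2 (by norm_num)
  rw [hF] at hc
  have h360 : Nat.card (Matrix.ProjectiveSpecialLinearGroup (Fin 2) F) = 360 := by
    have h1 : ∏ i : Fin 2, (9 ^ 2 - 9 ^ (i : ℕ)) = 5760 := by decide
    rw [h1] at hc
    have h2 : Nat.gcd 2 (9 - 1) = 2 := by decide
    rw [h2] at hc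
    omega
  have hcard : Nat.card (Cfsg.POmega (ZMod 3) (Cfsg.quadFormMinus 1 (ZMod 3) 0 1)) = 360 := by
    rw [Nat.card_congr e1.toEquiv, h360]
  obtain ⟨e2⟩ := Cfsg.Agent.Lib.Helper2.S6O4.equiv_of_card hcard
  exact ⟨e1.symm.trans e2⟩

end Cfsg.Agent.S0254
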