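import Cfsg.Statements.S0742
import Mathlib
import Mathlib
import Cfsg.Agent.Lib.Helper2.ZP14

set_option autoImplicit false
open Cfsg

namespace Cfsg.Agent.S0742

open MulAction Cfsg.Agent.Lib.Lead.Zass Cfsg.Agent.Lib.Helper2.FZ Cfsg.Agent.Lib.Helper2.ZP

/-- A finite Zassenhaus group of degree `n + 1` with two-point stabilisers of even order `d` satisfying `2d ≤ n - 1` has `n = p^f` for an odd prime `p` and is isomorphic to `PSL(2, p^f)`. -/
theorem result {G Ω : Type*} [Group G] [Finite G] [MulAction G Ω] [Fintype Ω] (hZ : Cfsg.IsZassenhausGroup G Ω) {a b : Ω} (hab : a ≠ b) (heven : Even (Nat.card ↥(MulAction.stabilizer G a ⊓ MulAction.stabilizer G b))) (hd : 2 * Nat.card ↥(MulAction.stabilizer G a ⊓ MulAction.stabilizer G b) ≤ Fintype.card Ω - 2) : ∃ (p f : ℕ) (K : Type) (_ : Field K) (_ : Fintype K), p.Prime ∧ p ≠ 2 ∧ Fintype.card K = p ^ f ∧ Fintype.card Ω = p ^ f + 1 ∧ Nonempty (G ≃* Matrix.ProjectiveSpecialLinearGroup (Fin 2) K) := by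
  classical
  have Z := zdata_of hZ
  have hb := even_bound hZ hab heven
  obtain ⟨F, hFa, hFcard, hFfix⟩ := exists_H hZ hab
  have hFn : (F.subgroupOf (stabilizer G a)).Normal := by
    constructor
    intro n hn g
    rw [Subgroup.mem_subgroupOf] at hn ⊢
    exact H_conj_mem hZ a F hFa hFcard hFfix (mem_stabilizer_iff.mp g.2) hn
  have hreg : ∀ y z : Ω, y ≠ a → z ≠ a → ∃! u : F, (u : G) • y = z := by
    intro y z hy hz
    obtain ⟨u, hu, huy⟩ := H_trans a F hFa hFcard hFfix hy hz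
    refine ⟨⟨u, hu⟩, huy, ?_⟩
    intro v hv
    by_contra hne
    have h1 : ((u : G)⁻¹ * (v : G)) • y = y := by
      rw [mul_smul, hv, ← huy, inv_smul_smul]
    have h2 : (u : G)⁻¹ * (v : G) ≠ 1 := by
      intro h3
      apply hne
      apply Subtype.ext
      have : (v : G) = u * (u⁻¹ * (v : G)) := by group
      rw [this, h3, mul_one]
    exact hy (hFfix _ (F.mul_mem (F.inv_mem hu) v.2) h2 y h1)
  obtain ⟨hFab, -⟩ := large_d hZ hab hb F hFa hFn hreg
  have hcomm : ∀ u ∈ F, ∀ v ∈ F, u * v = v * u := by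
    intro u hu v hv
    have := hFab.is_comm.comm (⟨u, hu⟩ : F) ⟨v, hv⟩
    exact congrArg Subtype.val this
  have hΩ2 : 2 ≤ Fintype.card Ω := by
    have h1 : ({a, b} : Finset Ω).card = 2 := Finset.card_pair hab
    rw [← h1]
    exact Finset.card_le_univ _
  have he : 2 * Nat.card ↥(stabilizer G a ⊓ stabilizer G b : Subgroup G) + 1 = Nat.card F := by
    omega
  have P : PData G Ω a b F := ⟨hZ, hab, hFa, hFcard, hFfix, hcomm, he⟩
  obtain ⟨K, instK, instFK, hcardK, hiso⟩ := P.psl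
  obtain ⟨n, hp', hKn⟩ := FiniteField.card K (ringChar K)
  refine ⟨ringChar K, n, K, instK, instFK, hp', odd_char (P.card_odd hcardK), hKn, ?_, hiso⟩
  rw [← hcardK, hKn]

end Cfsg.Agent.S0742
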