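import Cfsg.Statements.S0496
import Cfsg.Agent.Lib.Helper9.SmallOrdA
import Cfsg.Agent.Lib.Helper9.SmallOrdB
import Cfsg.Agent.Lib.Helper9.SmallOrdC

set_option autoImplicit false
open Cfsg

namespace Cfsg.Agent.S0496

/-- A non-abelian finite simple group of order at most 1092 has order 60, 168, 360, 504, 660 or 1092. -/
theorem result {G : Type*} [Group G] [Finite G] [IsSimpleGroup G]
    (hG : ¬ IsMulCommutative G) (h : Nat.card G ≤ 1092) :
    Nat.card G = 60 ∨ Nat.card G = 168 ∨ Nat.card G = 360 ∨ Nat.card G = 504 ∨ Nat.card G = 660 ∨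
      Nat.card G = 1092 := by
  open Cfsg.Agent.Lib.Helper9.SmallOrd in
  by_cases h100 : Nat.card G ≤ 100
  · have hnc : ¬ IsCyclic G := fun hc => hG (comm_of_cyclic hc)
    exact Or.inl (Cfsg.Agent.S0493.result hnc h100)
  · push Not at h100
    obtain ⟨n, hn⟩ : ∃ n, Nat.card G = n := ⟨_, rfl⟩
    rw [hn] at h h100 ⊢
    by_cases h400 : n ≤ 400
    · exact small_100_400 hG n hn h100 h400
    · push Not at h400
      by_cases h750 : n ≤ 750
      · exact small_400_750 hG n hn h400 h750
      · push Not at h750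
        exact small_750_1092 hG n hn h750 h

end Cfsg.Agent.S0496
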