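import Cfsg.Statements.S0721
import Mathlib
import Cfsg.Agent.Lib.Helper2.MinNormalPower

set_option autoImplicit false
open Cfsg

namespace Cfsg.Agent.S0721


/-- A type-0 carrier without any algebraic instances. -/
def Carrier (n : ℕ) : Type := Fin n

/-- A minimal normal subgroup of a finite group is isomorphic to a direct power `T ^ m` of a simple group `T` (possibly of prime order). -/
theorem result {H : Type*} [Group H] [Finite H] (N : Subgroup H) [N.Normal] (hN : N ≠ ⊥) (hmin : ∀ M : Subgroup H, M.Normal → M ≤ N → M = ⊥ ∨ M = N) : ∃ (T : Type) (_ : Group T) (m : ℕ), IsSimpleGroup T ∧ 0 < m ∧ Nonempty (N ≃* (Fin m → T)) := by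
  classical
  obtain ⟨T₀, m, hsimple, hm, ⟨e⟩⟩ :=
    Cfsg.Agent.Lib.Helper2.MinNormalPower.exists_equiv_pi N hN hmin
  let e₀ : ↥T₀ ≃ Carrier (Nat.card ↥T₀) := Finite.equivFin ↥T₀
  letI inst : Group (Carrier (Nat.card ↥T₀)) := e₀.symm.group
  let e₁ : Carrier (Nat.card ↥T₀) ≃* ↥T₀ := e₀.symm.mulEquiv
  refine ⟨Carrier (Nat.card ↥T₀), inst, m, ?_, hm,
    ⟨e.trans (MulEquiv.piCongrRight fun _ => e₁.symm)⟩⟩
  exact e₁.isSimpleGroup

end Cfsg.Agent.S0721
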