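import Mathlib
import Cfsg.Statements.S1019
import Cfsg.Agent.Lib.Helper3.Count

set_option autoImplicit false
open Cfsg
open Cfsg.Agent.Lib.Helper3

namespace Cfsg.Agent.S1019

theorem result {G : Type*} [Group G] [Finite G] (H : Subgroup G) (x : G) (hx : x ∈ H) : Nat.card (MulAction.fixedBy (G ⧸ H) x) * Nat.card {g : G // IsConj x g} = H.index * Nat.card {g : G // IsConj x g ∧ g ∈ H} := by
  -- A = {g | g⁻¹ x g ∈ H}
  have hfix : ∀ g : G, (QuotientGroup.mk g : G ⧸ H) ∈ MulAction.fixedBy (G ⧸ H) x ↔ g⁻¹ * x * g ∈ H := by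
    intro g
    rw [MulAction.mem_fixedBy, MulAction.Quotient.smul_mk, eq_comm, QuotientGroup.eq, smul_eq_mul,
      mul_assoc]
  let f₁ : {g : G // g⁻¹ * x * g ∈ H} → MulAction.fixedBy (G ⧸ H) x :=
    fun g => ⟨QuotientGroup.mk g.1, (hfix g.1).mpr g.2⟩
  have h1 : Nat.card {g : G // g⁻¹ * x * g ∈ H} = Nat.card (MulAction.fixedBy (G ⧸ H) x) * Nat.card H := by
    apply card_eq_mul_of_fibres f₁
    intro q
    rw [← card_quotient_fibre H q.1]
    apply Nat.card_congr
    refine
      { toFun := fun g => ⟨g.1.1, congrArg Subtype.val g.2⟩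
        invFun := fun g => ⟨⟨g.1, ?_⟩, Subtype.ext g.2⟩
        left_inv := fun g => rfl
        right_inv := fun g => rfl }
    rw [← hfix, g.2]; exact q.2
  let f₂ : {g : G // g⁻¹ * x * g ∈ H} → {y : G // IsConj x y ∧ y ∈ H} :=
    fun g => ⟨g.1⁻¹ * x * g.1, isConj_iff.mpr ⟨g.1⁻¹, by simp⟩, g.2⟩
  have h2 : Nat.card {g : G // g⁻¹ * x * g ∈ H} = Nat.card {y : G // IsConj x y ∧ y ∈ H} * Nat.card (Subgroup.centralizer ({x} : Set G)) := by
    apply card_eq_mul_of_fibres f₂
    intro y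
    obtain ⟨g₀, hg₀⟩ := isConj_iff.mp y.2.1
    rw [← card_conj_fibre x y.1 g₀⁻¹ (by simpa using hg₀)]
    apply Nat.card_congr
    refine
      { toFun := fun g => ⟨g.1.1, congrArg Subtype.val g.2⟩
        invFun := fun g => ⟨⟨g.1, ?_⟩, Subtype.ext g.2⟩
        left_inv := fun g => rfl
        right_inv := fun g => rfl }
    rw [g.2]; exact y.2.2
  have h3 := card_conj_class_mul_card_centralizer x
  have h4 := H.index_mul_card
  have hC : 0 < Nat.card (Subgroup.centralizer ({x} : Set G)) := Nat.card_pos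
  have hH : 0 < Nat.card H := Nat.card_pos
  have key : Nat.card (MulAction.fixedBy (G ⧸ H) x) * Nat.card {g : G // IsConj x g} * (Nat.card (Subgroup.centralizer ({x} : Set G)) * Nat.card H) = H.index * Nat.card {g : G // IsConj x g ∧ g ∈ H} * (Nat.card (Subgroup.centralizer ({x} : Set G)) * Nat.card H) := by
    have e1 : Nat.card (MulAction.fixedBy (G ⧸ H) x) * Nat.card {g : G // IsConj x g} * (Nat.card (Subgroup.centralizer ({x} : Set G)) * Nat.card H) = (Nat.card (MulAction.fixedBy (G ⧸ H) x) * Nat.card H) * (Nat.card {g : G // IsConj x g} * Nat.card (Subgroup.centralizer ({x} : Set G))) := by ring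
    have e2 : H.index * Nat.card {g : G // IsConj x g ∧ g ∈ H} * (Nat.card (Subgroup.centralizer ({x} : Set G)) * Nat.card H) = (Nat.card {y : G // IsConj x y ∧ y ∈ H} * Nat.card (Subgroup.centralizer ({x} : Set G))) * (H.index * Nat.card H) := by ring
    rw [e1, e2, ← h1, ← h2, h3, h4]
  exact Nat.eq_of_mul_eq_mul_right (Nat.mul_pos hC hH) key

end Cfsg.Agent.S1019
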