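import Cfsg.Statements.S2700
import Cfsg.Agent.Lib.Helper5.GraphInv
import Cfsg.Agent.Lib.Helper5.AltForm2

set_option autoImplicit false
open Cfsg

namespace Cfsg.Agent.S2700

open Matrix Matrix.SpecialLinearGroup Cfsg.Agent.Lib.Helper5.SLnAut Cfsg.Agent.Lib.Helper5.SLnBN
  Cfsg.Agent.Lib.Helper5.PSLCoset Cfsg.Agent.Lib.Helper5.QuadGlue Cfsg.Agent.Lib.Helper5.QuadEmbed
  Cfsg.Agent.Lib.Helper5.GraphInv Cfsg.Agent.S2703

section classify
variable {F : Type*} [Field F] [Fintype F]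

theorem isSquare_sq_mul {a d : F} (ha : a ≠ 0) : IsSquare (a ^ 2 * d) ↔ IsSquare d := by
  constructor
  · rintro ⟨s, hs⟩
    refine ⟨s / a, ?_⟩
    field_simp
    rw [mul_comm, hs]
    ring
  · rintro ⟨s, rfl⟩
    exact ⟨a * s, by ring⟩

/-- The quadratic form of a matrix. -/
def matQ {n : ℕ} (c : Matrix (Fin n) (Fin n) F) (v : Fin n → F) : F := v ⬝ᵥ (c *ᵥ v)

theorem polar_matQ {n : ℕ} (c : Matrix (Fin n) (Fin n) F) (hc : cᵀ = c) (u v : Fin n → F) :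
    QuadraticMap.polar (matQ c) u v = 2 * (u ⬝ᵥ (c *ᵥ v)) := by
  unfold QuadraticMap.polar matQ
  have h1 : v ⬝ᵥ (c *ᵥ u) = u ⬝ᵥ (c *ᵥ v) := by
    rw [Matrix.dotProduct_mulVec, ← Matrix.mulVec_transpose, hc, dotProduct_comm]
  rw [Matrix.mulVec_add, add_dotProduct, dotProduct_add, dotProduct_add, h1]
  ring

theorem matQ_nondegenerate {n : ℕ} (h2 : (2 : F) ≠ 0) (c : Matrix (Fin n) (Fin n) F)
    (hc : cᵀ = c) (hdet : c.det ≠ 0) :
    (QuadraticMap.polarBilin c.toQuadraticForm').Nondegenerate := by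
  have hcoe : (⇑(c.toQuadraticForm')) = matQ c := funext (dot_toQuadraticMap' c)
  have key : ∀ u : Fin n → F, (∀ v, QuadraticMap.polar (c.toQuadraticForm') u v = 0) → u = 0 := by
    intro u hu
    apply Matrix.eq_zero_of_mulVec_eq_zero hdet
    funext i
    have h := hu (Pi.single i 1)
    rw [hcoe, polar_matQ c hc, Matrix.dotProduct_mulVec, ← Matrix.mulVec_transpose, hc,
      dotProduct_single_one] at h
    exact (mul_eq_zero.1 h).resolve_left h2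
  refine ⟨fun u hu => key u hu, fun u hu => key u ?_⟩
  intro v
  rw [QuadraticMap.polar_comm]
  exact hu v

theorem gram_matQ {n : ℕ} {W : Type*} [AddCommGroup W] [Module F W] (c : Matrix (Fin n) (Fin n) F)
    (hc : cᵀ = c) (E : (Fin n → F) ≃ₗ[F] W)
    (Q' : W → F) (hE : ∀ v, Q' (E v) = matQ c v) :
    Matrix.of (fun i j : Fin n => QuadraticMap.polar Q' (((Pi.basisFun F (Fin n)).map E) i)
      (((Pi.basisFun F (Fin n)).map E) j)) = (2 : F) • c := by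
  ext i j
  rw [Matrix.of_apply, Module.Basis.map_apply, Module.Basis.map_apply, Pi.basisFun_apply,
    Pi.basisFun_apply]
  have h1 := polar_matQ c hc (Pi.single i (1 : F)) (Pi.single j 1)
  unfold QuadraticMap.polar at h1 ⊢
  rw [← map_add, hE, hE, hE, h1, Matrix.mulVec_single_one, single_one_dotProduct,
    Matrix.smul_apply, smul_eq_mul]
  rfl

theorem isSquare_det_gram_iff {n m : ℕ} (h2 : (2 : F) ≠ 0) (hnm : n = 2 * m)
    (c : Matrix (Fin n) (Fin n) F) :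
    IsSquare ((2 : F) • c).det ↔ IsSquare c.det := by
  rw [Matrix.det_smul, Fintype.card_fin]
  have e : (2 : F) ^ n = ((2 : F) ^ m) ^ 2 := by rw [hnm, pow_mul']
  rw [e]
  exact isSquare_sq_mul (pow_ne_zero m h2)

/-- Classification of symmetric invertible matrices of even size over a finite field of odd
order, with the square class of the determinant. -/
theorem sym_classify (hodd : Odd (Fintype.card F)) {n m : ℕ} (hm : 1 ≤ m) (hnm : n = 2 * m)
    (c : Matrix (Fin n) (Fin n) F) (hc : cᵀ = c) (hdet : c.det ≠ 0) :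
    (∃ E : (Fin n → F) ≃ₗ[F] (Fin m ⊕ Fin m → F),
      (∀ v, Cfsg.quadFormPlus m F (E v) = matQ c v) ∧
      (IsSquare c.det ↔ Even (m * (Fintype.card F - 1) / 2))) ∨
    (∃ (ζ : F) (E : (Fin n → F) ≃ₗ[F] ((Fin (m - 1) ⊕ Fin (m - 1)) ⊕ Fin 2 → F)),
      (∀ t : F, t ^ 2 + t + ζ ≠ 0) ∧
      (∀ v, Cfsg.quadFormMinus (m - 1) F 1 ζ (E v) = matQ c v) ∧
      (IsSquare c.det ↔ ¬ Even (m * (Fintype.card F - 1) / 2))) := by
  have h2 : (2 : F) ≠ 0 := two_ne_zero_of_odd hodd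
  have hV : Module.finrank F (Fin n → F) = 2 * m := by
    rw [Module.finrank_fin_fun, hnm]
  have hcoe : ∀ v, c.toQuadraticForm' v = matQ c v := dot_toQuadraticMap' c
  rcases Cfsg.Agent.S2616.result hm hV c.toQuadraticForm' (matQ_nondegenerate h2 c hc hdet) with
    ⟨b, h0, h1, h2'⟩ | ⟨b, ζ, hζ, h0, h1, h2', h3, h4, h5, h6⟩
  · left
    have hE : ∀ v, Cfsg.quadFormPlus m F (b.equivFun v) = matQ c v := by
      intro v
      rw [← plus_glue c.toQuadraticForm' b h0 h1 h2' v, hcoe]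
    refine ⟨b.equivFun, hE, ?_⟩
    rw [← Cfsg.Agent.S2620.result rfl hodd hm ((Pi.basisFun F (Fin n)).map b.equivFun),
      gram_matQ c hc b.equivFun _ hE, isSquare_det_gram_iff h2 hnm]
  · right
    have hac : ∀ z₁ z₂ : F, z₁ ^ 2 + 1 * z₁ * z₂ + ζ * z₂ ^ 2 = 0 → z₁ = 0 ∧ z₂ = 0 := by
      intro z₁ z₂ h
      by_cases hz : z₂ = 0
      · subst hz
        refine ⟨?_, rfl⟩
        have : z₁ ^ 2 = 0 := by linear_combination h
        exact pow_eq_zero_iff (two_ne_zero) |>.1 this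
      · exfalso
        apply hζ (z₁ / z₂)
        field_simp
        linear_combination h
    have hE : ∀ v, Cfsg.quadFormMinus (m - 1) F 1 ζ (b.equivFun v) = matQ c v := by
      intro v
      rw [← minus_glue c.toQuadraticForm' b 1 ζ h0 h1 h2' h3 h4 h5 h6 v, hcoe]
    refine ⟨ζ, b.equivFun, hζ, hE, ?_⟩
    rw [← Cfsg.Agent.S2621.result rfl hodd hm 1 ζ hac
      ((Pi.basisFun F (Fin n)).map b.equivFun), gram_matQ c hc b.equivFun _ hE,
      isSquare_det_gram_iff h2 hnm]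

end classify

section binary
variable {F : Type*} [Field F]

/-- A shear on the last two coordinates. -/
def shear (k : ℕ) (α u : F) (hu : u ≠ 0) :
    (((Fin k ⊕ Fin k) ⊕ Fin 2) → F) ≃ₗ[F] (((Fin k ⊕ Fin k) ⊕ Fin 2) → F) where
  toFun w := Sum.elim (fun x => w (Sum.inl x))
    ![w (Sum.inr 0) + α * w (Sum.inr 1), u * w (Sum.inr 1)]
  invFun w := Sum.elim (fun x => w (Sum.inl x))
    ![w (Sum.inr 0) - α * u⁻¹ * w (Sum.inr 1), u⁻¹ * w (Sum.inr 1)]
  map_add' w w' := by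
    have h01 : ∀ l : Fin 2, l = 0 ∨ l = 1 := by decide
    funext i
    rcases i with x | l
    · rfl
    · rcases h01 l with rfl | rfl
      · simp only [Sum.elim_inr, Pi.add_apply, Matrix.cons_val_zero]
        ring
      · simp only [Sum.elim_inr, Pi.add_apply, Matrix.cons_val_one, Matrix.cons_val_fin_one]
        ring
  map_smul' a w := by
    have h01 : ∀ l : Fin 2, l = 0 ∨ l = 1 := by decide
    funext i
    rcases i with x | l
    · rfl
    · rcases h01 l with rfl | rfl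
      · simp only [Sum.elim_inr, Pi.smul_apply, Matrix.cons_val_zero, smul_eq_mul,
          RingHom.id_apply]
        ring
      · simp only [Sum.elim_inr, Pi.smul_apply, Matrix.cons_val_one, Matrix.cons_val_fin_one,
          smul_eq_mul, RingHom.id_apply]
        ring
  left_inv w := by
    have h01 : ∀ l : Fin 2, l = 0 ∨ l = 1 := by decide
    funext i
    rcases i with x | l
    · rfl
    · rcases h01 l with rfl | rfl
      · simp only [Sum.elim_inr, Matrix.cons_val_zero, Matrix.cons_val_one,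
          Matrix.cons_val_fin_one]
        field_simp
        ring
      · simp only [Sum.elim_inr, Matrix.cons_val_one, Matrix.cons_val_fin_one]
        field_simp
  right_inv w := by
    have h01 : ∀ l : Fin 2, l = 0 ∨ l = 1 := by decide
    funext i
    rcases i with x | l
    · rfl
    · rcases h01 l with rfl | rfl
      · simp only [Sum.elim_inr, Matrix.cons_val_zero, Matrix.cons_val_one,
          Matrix.cons_val_fin_one]
        field_simp
        ring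
      · simp only [Sum.elim_inr, Matrix.cons_val_one, Matrix.cons_val_fin_one]
        field_simp

theorem shear_inl (k : ℕ) (α u : F) (hu : u ≠ 0) (w : ((Fin k ⊕ Fin k) ⊕ Fin 2) → F)
    (x : Fin k ⊕ Fin k) : shear k α u hu w (Sum.inl x) = w (Sum.inl x) := rfl

theorem shear_inr0 (k : ℕ) (α u : F) (hu : u ≠ 0) (w : ((Fin k ⊕ Fin k) ⊕ Fin 2) → F) :
    shear k α u hu w (Sum.inr 0) = w (Sum.inr 0) + α * w (Sum.inr 1) := rfl

theorem shear_inr1 (k : ℕ) (α u : F) (hu : u ≠ 0) (w : ((Fin k ⊕ Fin k) ⊕ Fin 2) → F) :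
    shear k α u hu w (Sum.inr 1) = u * w (Sum.inr 1) := rfl

theorem minus_shear (k : ℕ) (α u : F) (hu : u ≠ 0) (ζ ζ' : F) (h1 : 2 * α + u = 1)
    (h2 : α ^ 2 + α * u + ζ' * u ^ 2 = ζ) (w : ((Fin k ⊕ Fin k) ⊕ Fin 2) → F) :
    Cfsg.quadFormMinus k F 1 ζ' (shear k α u hu w) = Cfsg.quadFormMinus k F 1 ζ w := by
  unfold Cfsg.quadFormMinus
  simp only [shear_inl, shear_inr0, shear_inr1]
  linear_combination (w (Sum.inr 0) * w (Sum.inr 1)) * h1 + (w (Sum.inr 1)) ^ 2 * h2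

theorem exists_shear_params [Fintype F] (hodd : Odd (Fintype.card F)) (ζ ζ' : F)
    (hζ : ∀ t : F, t ^ 2 + t + ζ ≠ 0) (hζ' : ∀ t : F, t ^ 2 + t + ζ' ≠ 0) :
    ∃ α u : F, u ≠ 0 ∧ 2 * α + u = 1 ∧ α ^ 2 + α * u + ζ' * u ^ 2 = ζ := by
  classical
  have h2 : (2 : F) ≠ 0 := two_ne_zero_of_odd hodd
  obtain ⟨h, hh⟩ : ∃ h : F, 2 * h = 1 := ⟨2⁻¹, mul_inv_cancel₀ h2⟩
  have hns : ∀ ξ : F, (∀ t : F, t ^ 2 + t + ξ ≠ 0) → ¬ IsSquare (h ^ 2 - ξ) := by
    rintro ξ hξ ⟨s, hs⟩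
    apply hξ (s - h)
    linear_combination (-1 : F) * hs + (-(s - h)) * hh
  have hd := hns ζ hζ
  have hd' := hns ζ' hζ'
  have h0' : (h ^ 2 - ζ') ≠ 0 := fun e => hd' (e ▸ IsSquare.zero)
  have h0 : (h ^ 2 - ζ) ≠ 0 := fun e => hd (e ▸ IsSquare.zero)
  have hprod : IsSquare ((h ^ 2 - ζ) * (h ^ 2 - ζ')) := by
    rw [← quadraticChar_one_iff_isSquare (mul_ne_zero h0 h0'), map_mul,
      quadraticChar_neg_one_iff_not_isSquare.2 hd, quadraticChar_neg_one_iff_not_isSquare.2 hd']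
    norm_num
  obtain ⟨r, hr⟩ := hprod
  have hr0 : r ≠ 0 := by
    rintro rfl
    rw [mul_zero] at hr
    exact mul_ne_zero h0 h0' hr
  obtain ⟨u, hu⟩ : ∃ u : F, u = r * (h ^ 2 - ζ')⁻¹ := ⟨_, rfl⟩
  have hu0 : u ≠ 0 := by
    rw [hu]
    exact mul_ne_zero hr0 (inv_ne_zero h0')
  have hu2 : u ^ 2 * (h ^ 2 - ζ') = h ^ 2 - ζ := by
    obtain ⟨d', hd'e⟩ : ∃ d' : F, d' = h ^ 2 - ζ' := ⟨_, rfl⟩
    rw [← hd'e] at hr h0' hu ⊢
    rw [hu, mul_pow, pow_two r, ← hr]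
    field_simp
  refine ⟨(1 - u) * h, u, hu0, ?_, ?_⟩
  · linear_combination (1 - u) * hh
  · linear_combination (h * u * (u - 1)) * hh + (-1 : F) * hu2

end binary

section congr
variable {F : Type*} [Field F] {n : ℕ}

/-- The invertible matrix of a linear automorphism. -/
def glOfEquiv (L : (Fin n → F) ≃ₗ[F] (Fin n → F)) : GL (Fin n) F :=
  ⟨LinearMap.toMatrix' L.toLinearMap, LinearMap.toMatrix' L.symm.toLinearMap, by
    rw [← LinearMap.toMatrix'_comp, LinearEquiv.comp_symm, LinearMap.toMatrix'_id], by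
    rw [← LinearMap.toMatrix'_comp, LinearEquiv.symm_comp, LinearMap.toMatrix'_id]⟩

theorem glOfEquiv_mulVec (L : (Fin n → F) ≃ₗ[F] (Fin n → F)) (v : Fin n → F) :
    (glOfEquiv L : Matrix (Fin n) (Fin n) F) *ᵥ v = L v :=
  LinearMap.toMatrix'_mulVec _ _

theorem congr_of_isometry_sym (h2 : (2 : F) ≠ 0) (c c' : Matrix (Fin n) (Fin n) F) (hc : cᵀ = c)
    (hc' : c'ᵀ = c') (L : (Fin n → F) ≃ₗ[F] (Fin n → F))
    (hL : ∀ v, matQ c' (L v) = matQ c v) :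
    (glOfEquiv L : Matrix (Fin n) (Fin n) F)ᵀ * c' * (glOfEquiv L : Matrix (Fin n) (Fin n) F)
      = c := by
  have hS : ((glOfEquiv L : Matrix (Fin n) (Fin n) F)ᵀ * c'
      * (glOfEquiv L : Matrix (Fin n) (Fin n) F) - c)ᵀ
      = (glOfEquiv L : Matrix (Fin n) (Fin n) F)ᵀ * c'
        * (glOfEquiv L : Matrix (Fin n) (Fin n) F) - c := by
    rw [Matrix.transpose_sub, Matrix.transpose_mul, Matrix.transpose_mul,
      Matrix.transpose_transpose, hc, hc', Matrix.mul_assoc]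
  have h0 := eq_smul_one_of_quad h2 _ hS 0 (by
    intro v
    rw [Matrix.sub_mulVec, dotProduct_sub, ← dot_mulVec_mul, zero_mul, sub_eq_zero,
      glOfEquiv_mulVec]
    exact hL v)
  rw [zero_smul, sub_eq_zero] at h0
  exact h0

theorem congr_of_isometry_bil (c c' : Matrix (Fin n) (Fin n) F)
    (L : (Fin n → F) ≃ₗ[F] (Fin n → F))
    (hL : ∀ u v, (L u) ⬝ᵥ (c' *ᵥ (L v)) = u ⬝ᵥ (c *ᵥ v)) :
    (glOfEquiv L : Matrix (Fin n) (Fin n) F)ᵀ * c' * (glOfEquiv L : Matrix (Fin n) (Fin n) F)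
      = c := by
  ext i j
  have h1 := hL (Pi.single i 1) (Pi.single j 1)
  rw [← glOfEquiv_mulVec, ← glOfEquiv_mulVec, dot_mulVec_mul, Matrix.mulVec_single_one,
    single_one_dotProduct, Matrix.mulVec_single_one, single_one_dotProduct] at h1
  exact h1

theorem isConj_of_congr [Finite F] [Nontrivial (Fin n)] (c c' P : GL (Fin n) F)
    (h : (P : Matrix (Fin n) (Fin n) F)ᵀ * (c' : Matrix (Fin n) (Fin n) F)
      * (P : Matrix (Fin n) (Fin n) F) = c) :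
    Cfsg.IsConjUnder (Cfsg.inndiagPSL n F) (gam c) (gam c') := by
  rw [isConjUnder_gam_iff]
  refine ⟨tauGL P, 1, one_ne_zero, ?_⟩
  have e1 : ((P⁻¹ : GL (Fin n) F) : Matrix (Fin n) (Fin n) F)ᵀ * (P : Matrix (Fin n) (Fin n) F)ᵀ
      = 1 := by
    rw [← Matrix.transpose_mul, ← Units.val_mul, mul_inv_cancel, Units.val_one,
      Matrix.transpose_one]
  have e2 : (P : Matrix (Fin n) (Fin n) F) * ((P⁻¹ : GL (Fin n) F) : Matrix (Fin n) (Fin n) F)
      = 1 := by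
    rw [← Units.val_mul, mul_inv_cancel, Units.val_one]
  rw [one_smul, tauGL_coe, Matrix.transpose_transpose, ← h]
  calc (c' : Matrix (Fin n) (Fin n) F)
      = (((P⁻¹ : GL (Fin n) F) : Matrix (Fin n) (Fin n) F)ᵀ * (P : Matrix (Fin n) (Fin n) F)ᵀ)
        * (c' : Matrix (Fin n) (Fin n) F) * ((P : Matrix (Fin n) (Fin n) F)
          * ((P⁻¹ : GL (Fin n) F) : Matrix (Fin n) (Fin n) F)) := by
        rw [e1, e2, Matrix.one_mul, Matrix.mul_one]
    _ = _ := by simp only [Matrix.mul_assoc]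

end congr

section symcongr
variable {F : Type*} [Field F] [Fintype F] {n m : ℕ}

theorem sym_congr (hodd : Odd (Fintype.card F)) (hm : 1 ≤ m) (hnm : n = 2 * m)
    (c c' : Matrix (Fin n) (Fin n) F) (hc : cᵀ = c) (hc' : c'ᵀ = c') (hdet : c.det ≠ 0)
    (hdet' : c'.det ≠ 0) (hsq : IsSquare c.det ↔ IsSquare c'.det) :
    ∃ L : (Fin n → F) ≃ₗ[F] (Fin n → F), ∀ v, matQ c' (L v) = matQ c v := by
  rcases sym_classify hodd hm hnm c hc hdet with ⟨E, hE, hp⟩ | ⟨ζ, E, hζ, hE, hp⟩ <;>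
  rcases sym_classify hodd hm hnm c' hc' hdet' with ⟨E', hE', hp'⟩ | ⟨ζ', E', hζ', hE', hp'⟩
  · refine ⟨E.trans E'.symm, fun v => ?_⟩
    rw [← hE', ← hE, LinearEquiv.trans_apply, LinearEquiv.apply_symm_apply]
  · exfalso
    tauto
  · exfalso
    tauto
  · obtain ⟨α, u, hu, h1, h2⟩ := exists_shear_params hodd ζ ζ' hζ hζ'
    refine ⟨E.trans ((shear (m - 1) α u hu).trans E'.symm), fun v => ?_⟩
    rw [← hE', ← hE, LinearEquiv.trans_apply, LinearEquiv.trans_apply,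
      LinearEquiv.apply_symm_apply, minus_shear (m - 1) α u hu ζ ζ' h1 h2]

end symcongr

section skew
variable {F : Type*} [Field F] {n m : ℕ}

theorem skew_equiv (h2 : (2 : F) ≠ 0) (hnm : n = 2 * m) (c : Matrix (Fin n) (Fin n) F)
    (hc : cᵀ = -c) (hdet : c.det ≠ 0) :
    ∃ E : (Fin n → F) ≃ₗ[F] (Fin m ⊕ Fin m → F),
      ∀ u v, Cfsg.sympForm m F (E u) (E v) = u ⬝ᵥ (c *ᵥ v) := by
  obtain ⟨B, hB⟩ : ∃ B : LinearMap.BilinForm F (Fin n → F), ∀ u v, B u v = u ⬝ᵥ (c *ᵥ v) :=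
    ⟨Matrix.toLinearMap₂' F c, fun u v => Matrix.toLinearMap₂'_apply' c u v⟩
  have halt : B.IsAlt := by
    intro v
    rw [hB]
    have h1 : v ⬝ᵥ (c *ᵥ v) = -(v ⬝ᵥ (c *ᵥ v)) := by
      conv_lhs => rw [Matrix.dotProduct_mulVec, ← Matrix.mulVec_transpose, hc, Matrix.neg_mulVec,
        neg_dotProduct, dotProduct_comm]
    have h3 : 2 * (v ⬝ᵥ (c *ᵥ v)) = 0 := by linear_combination h1
    exact (mul_eq_zero.1 h3).resolve_left h2
  have hnd : ∀ x, (∀ y, B x y = 0) → x = 0 := by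
    intro x hx
    have h1 : cᵀ *ᵥ x = 0 := by
      funext i
      have := hx (Pi.single i 1)
      rw [hB, Matrix.dotProduct_mulVec, ← Matrix.mulVec_transpose, dotProduct_single_one] at this
      exact this
    rw [hc, Matrix.neg_mulVec, neg_eq_zero] at h1
    exact Matrix.eq_zero_of_mulVec_eq_zero hdet h1
  obtain ⟨m', b, hm', hb⟩ := Cfsg.Agent.Lib.Helper5.AltForm.exists_symplectic_basis halt hnd
  rw [Module.finrank_fin_fun, hnm] at hm'
  obtain rfl : m' = m := by omega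
  refine ⟨b.equivFun, fun u v => ?_⟩
  rw [← hB, Cfsg.Agent.Lib.Helper5.AltForm.form_eq_sympForm B b hb u v]
  rfl

theorem exists_skew (hnm : n = 2 * m) :
    ∃ c : GL (Fin n) F, (c : Matrix (Fin n) (Fin n) F)ᵀ = -(c : Matrix (Fin n) (Fin n) F) := by
  obtain ⟨E₀⟩ : Nonempty ((Fin n → F) ≃ₗ[F] (Fin m ⊕ Fin m → F)) :=
    ⟨LinearEquiv.funCongrLeft F F (finSumFinEquiv.trans (finCongr (by omega : m + m = n)))⟩
  obtain ⟨P, hP⟩ : ∃ P : Matrix (Fin m ⊕ Fin m) (Fin n) F, P = LinearMap.toMatrix' E₀.toLinearMap :=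
    ⟨_, rfl⟩
  obtain ⟨P', hP'⟩ : ∃ P' : Matrix (Fin n) (Fin m ⊕ Fin m) F,
    P' = LinearMap.toMatrix' E₀.symm.toLinearMap := ⟨_, rfl⟩
  have h1 : P * P' = 1 := by
    rw [hP, hP', ← LinearMap.toMatrix'_comp, LinearEquiv.comp_symm, LinearMap.toMatrix'_id]
  have h2 : P' * P = 1 := by
    rw [hP, hP', ← LinearMap.toMatrix'_comp, LinearEquiv.symm_comp, LinearMap.toMatrix'_id]
  have hJ1 : Matrix.J (Fin m) F * (-Matrix.J (Fin m) F) = 1 := by
    rw [Matrix.mul_neg, Matrix.J_squared, neg_neg]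
  have hJ2 : (-Matrix.J (Fin m) F) * Matrix.J (Fin m) F = 1 := by
    rw [Matrix.neg_mul, Matrix.J_squared, neg_neg]
  refine ⟨⟨Pᵀ * Matrix.J (Fin m) F * P, P' * (-Matrix.J (Fin m) F) * P'ᵀ, ?_, ?_⟩, ?_⟩
  · calc Pᵀ * Matrix.J (Fin m) F * P * (P' * (-Matrix.J (Fin m) F) * P'ᵀ)
        = Pᵀ * (Matrix.J (Fin m) F * ((P * P') * (-Matrix.J (Fin m) F))) * P'ᵀ := by
          simp only [Matrix.mul_assoc]
      _ = 1 := by
          rw [h1, Matrix.one_mul, hJ1, Matrix.mul_one, ← Matrix.transpose_mul, h2,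
            Matrix.transpose_one]
  · calc P' * (-Matrix.J (Fin m) F) * P'ᵀ * (Pᵀ * Matrix.J (Fin m) F * P)
        = P' * ((-Matrix.J (Fin m) F) * ((P'ᵀ * Pᵀ) * Matrix.J (Fin m) F)) * P := by
          simp only [Matrix.mul_assoc]
      _ = 1 := by
          rw [← Matrix.transpose_mul, h1, Matrix.transpose_one, Matrix.one_mul, hJ2,
            Matrix.mul_one, h2]
  · show (Pᵀ * Matrix.J (Fin m) F * P)ᵀ = -(Pᵀ * Matrix.J (Fin m) F * P)
    rw [Matrix.transpose_mul, Matrix.transpose_mul, Matrix.transpose_transpose,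
      Matrix.J_transpose, Matrix.neg_mul, Matrix.mul_neg, Matrix.mul_assoc]

end skew

section reps
variable {F : Type*} [Field F] [Fintype F] {n m : ℕ}

theorem aniso_of_noroot (ζ : F) (hζ : ∀ t : F, t ^ 2 + t + ζ ≠ 0) :
    ∀ z₁ z₂ : F, z₁ ^ 2 + 1 * z₁ * z₂ + ζ * z₂ ^ 2 = 0 → z₁ = 0 ∧ z₂ = 0 := by
  intro z₁ z₂ h
  by_cases hz : z₂ = 0
  · subst hz
    refine ⟨?_, rfl⟩
    have : z₁ ^ 2 = 0 := by linear_combination h
    exact pow_eq_zero_iff (two_ne_zero) |>.1 this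
  · exfalso
    apply hζ (z₁ / z₂)
    field_simp
    linear_combination h

/-- Symmetric representatives of the two types. -/
theorem exists_reps (hodd : Odd (Fintype.card F)) (hm : 1 ≤ m) (hnm : n = 2 * m) :
    ∃ c₂ c₃ : GL (Fin n) F,
      (c₂ : Matrix (Fin n) (Fin n) F)ᵀ = c₂ ∧ (c₃ : Matrix (Fin n) (Fin n) F)ᵀ = c₃ ∧
      ¬ (IsSquare (c₂ : Matrix (Fin n) (Fin n) F).det ↔
        IsSquare (c₃ : Matrix (Fin n) (Fin n) F).det) ∧
      (∃ E : (Fin n → F) ≃ₗ[F] (Fin m ⊕ Fin m → F),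
        ∀ v, Cfsg.quadFormPlus m F (E v) = matQ (c₂ : Matrix (Fin n) (Fin n) F) v) ∧
      (∃ (ζ : F) (E : (Fin n → F) ≃ₗ[F] ((Fin (m - 1) ⊕ Fin (m - 1)) ⊕ Fin 2 → F)),
        (∀ t : F, t ^ 2 + t + ζ ≠ 0) ∧
        ∀ v, Cfsg.quadFormMinus (m - 1) F 1 ζ (E v) = matQ (c₃ : Matrix (Fin n) (Fin n) F) v) := by
  have h2 : (2 : F) ≠ 0 := two_ne_zero_of_odd hodd
  have hchar : ringChar F ≠ 2 := by
    intro h
    have := FiniteField.even_card_of_char_two h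
    exact (Nat.not_even_iff_odd.2 hodd) (Nat.even_iff.2 this)
  obtain ⟨ν, hν⟩ := FiniteField.exists_nonsquare hchar
  have hν0 : ν ≠ 0 := fun h => hν (h ▸ IsSquare.zero)
  have i₀ : Fin n := ⟨0, by omega⟩
  obtain ⟨D, hD⟩ : ∃ D : Matrix (Fin n) (Fin n) F,
    D = Matrix.diagonal (fun i => if i = i₀ then ν else 1) := ⟨_, rfl⟩
  have hDdet : D.det = ν := by
    rw [hD, Matrix.det_diagonal, Finset.prod_ite_eq' Finset.univ i₀ (fun _ => ν),
      if_pos (Finset.mem_univ _)]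
  have hDsym : Dᵀ = D := by rw [hD, Matrix.diagonal_transpose]
  have hD0 : D.det ≠ 0 := by rw [hDdet]; exact hν0
  obtain ⟨cB, hcB⟩ : ∃ cB : GL (Fin n) F, (cB : Matrix (Fin n) (Fin n) F) = D :=
    ⟨Matrix.GeneralLinearGroup.mkOfDetNeZero D hD0, rfl⟩
  have hA := sym_classify hodd hm hnm (1 : Matrix (Fin n) (Fin n) F) Matrix.transpose_one
    (by rw [Matrix.det_one]; exact one_ne_zero)
  have hB := sym_classify hodd hm hnm D hDsym hD0
  rw [Matrix.det_one] at hA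
  rw [hDdet] at hB
  have hsq1 : IsSquare (1 : F) := ⟨1, by rw [one_mul]⟩
  rcases hA with ⟨E, hE, hp⟩ | ⟨ζ, E, hζ, hE, hp⟩ <;>
  rcases hB with ⟨E', hE', hp'⟩ | ⟨ζ', E', hζ', hE', hp'⟩
  · exfalso
    tauto
  · refine ⟨1, cB, ?_, ?_, ?_, ⟨E, ?_⟩, ⟨ζ', E', hζ', ?_⟩⟩
    · rw [Units.val_one, Matrix.transpose_one]
    · rw [hcB, hDsym]
    · rw [Units.val_one, Matrix.det_one, hcB, hDdet]
      tauto
    · rw [Units.val_one]
      exact hE
    · rw [hcB]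
      exact hE'
  · refine ⟨cB, 1, ?_, ?_, ?_, ⟨E', ?_⟩, ⟨ζ, E, hζ, ?_⟩⟩
    · rw [hcB, hDsym]
    · rw [Units.val_one, Matrix.transpose_one]
    · rw [Units.val_one, Matrix.det_one, hcB, hDdet]
      tauto
    · rw [hcB]
      exact hE'
    · rw [Units.val_one]
      exact hE
  · exfalso
    tauto

end reps

section final
variable {F : Type*} [Field F] [Fintype F] {n m : ℕ}

theorem det_ne_zero_GL (c : GL (Fin n) F) : (c : Matrix (Fin n) (Fin n) F).det ≠ 0 :=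
  ((Matrix.isUnit_iff_isUnit_det (c : Matrix (Fin n) (Fin n) F)).1 c.isUnit).ne_zero

theorem not_conj_skew_sym (h2 : (2 : F) ≠ 0) [Nontrivial (Fin n)] (c₁ c₂ : GL (Fin n) F)
    (h1 : (c₁ : Matrix (Fin n) (Fin n) F)ᵀ = -(c₁ : Matrix (Fin n) (Fin n) F))
    (hs : (c₂ : Matrix (Fin n) (Fin n) F)ᵀ = c₂) :
    ¬ Cfsg.IsConjUnder (Cfsg.inndiagPSL n F) (gam c₁) (gam c₂) := by
  rw [isConjUnder_gam_iff]
  rintro ⟨g, z, hz, h⟩
  have ht : (c₂ : Matrix (Fin n) (Fin n) F)ᵀ = -(c₂ : Matrix (Fin n) (Fin n) F) := by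
    rw [h, Matrix.transpose_smul, Matrix.transpose_mul, Matrix.transpose_mul,
      Matrix.transpose_transpose, h1, Matrix.neg_mul, Matrix.mul_neg, smul_neg, Matrix.mul_assoc]
  rw [hs] at ht
  have h3 : (2 : F) • (c₂ : Matrix (Fin n) (Fin n) F) = 0 := by
    rw [two_smul]
    nth_rewrite 2 [ht]
    rw [add_neg_cancel]
  have hc0 : (c₂ : Matrix (Fin n) (Fin n) F) = 0 := (smul_eq_zero.1 h3).resolve_left h2
  have h4 := det_ne_zero_GL c₂
  rw [hc0, Matrix.det_zero] at h4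
  exact h4 rfl

theorem sq_iff_of_conj [Nontrivial (Fin n)] (hnm : n = 2 * m) (c c' : GL (Fin n) F)
    (h : Cfsg.IsConjUnder (Cfsg.inndiagPSL n F) (gam c) (gam c')) :
    IsSquare (c : Matrix (Fin n) (Fin n) F).det ↔ IsSquare (c' : Matrix (Fin n) (Fin n) F).det := by
  rw [isConjUnder_gam_iff] at h
  obtain ⟨g, z, hz, h⟩ := h
  rw [h, Matrix.det_smul, Matrix.det_mul, Matrix.det_mul, Matrix.det_transpose, Fintype.card_fin]
  have e : z ^ n * ((g : Matrix (Fin n) (Fin n) F).det * (c : Matrix (Fin n) (Fin n) F).det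
      * (g : Matrix (Fin n) (Fin n) F).det)
      = (z ^ m * (g : Matrix (Fin n) (Fin n) F).det) ^ 2 * (c : Matrix (Fin n) (Fin n) F).det := by
    have e' : z ^ n = (z ^ m) ^ 2 := by rw [hnm, pow_mul']
    rw [e']
    ring
  rw [e, isSquare_sq_mul (mul_ne_zero (pow_ne_zero m hz) (det_ne_zero_GL g))]

theorem sq_eq_one_of_smul_transpose [Nontrivial (Fin n)] (c : GL (Fin n) F) (z : F)
    (h : (c : Matrix (Fin n) (Fin n) F) = z • (c : Matrix (Fin n) (Fin n) F)ᵀ) :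
    z = 1 ∨ z = -1 := by
  have h1 : (c : Matrix (Fin n) (Fin n) F)ᵀ = z • (c : Matrix (Fin n) (Fin n) F) := by
    conv_lhs => rw [h, Matrix.transpose_smul, Matrix.transpose_transpose]
  have h2 : (c : Matrix (Fin n) (Fin n) F) = (z * z) • (c : Matrix (Fin n) (Fin n) F) := by
    conv_lhs => rw [h, h1, smul_smul]
  have h3 : (z * z - 1) • (c : Matrix (Fin n) (Fin n) F) = 0 := by
    rw [sub_smul, one_smul, ← h2, sub_self]
  have hc0 : (c : Matrix (Fin n) (Fin n) F) ≠ 0 := by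
    intro h0
    have h4 := det_ne_zero_GL c
    rw [h0, Matrix.det_zero] at h4
    exact h4 rfl
  have h4 : z * z - 1 = 0 := (smul_eq_zero.1 h3).resolve_right hc0
  have h5 : (z - 1) * (z + 1) = 0 := by linear_combination h4
  rcases mul_eq_zero.1 h5 with h6 | h6
  · left
    linear_combination h6
  · right
    linear_combination h6

end final


/-- Let T = PSL_n(F) over a finite field of odd order with n = 2m ≥ 4 even, and G = Inndiag(T) the image of PGL_n(F). The involutory graph automorphisms of T fall into exactly three G-classes, with representatives γ₁, γ₂, γ₃ whose centralizers in G are isomorphic respectively to the projective conformal symplectic group PGSp_n(F), the projective conformal orthogonal group of the plus-type form Σ xᵢ yᵢ, and that of a minus-type form Σ xᵢ yᵢ + z₁² + a z₁ z₂ + b z₂² (anisotropic binary part) in dimension n. -/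
theorem result {F : Type*} [Field F] [Fintype F] (hodd : Odd (Fintype.card F)) {n m : ℕ} (hm : 2 ≤ m) (hnm : n = 2 * m) :
    ∃ (γ₁ γ₂ γ₃ : MulAut (Matrix.ProjectiveSpecialLinearGroup (Fin n) F)) (a b : F), (∀ z₁ z₂ : F, z₁ ^ 2 + a * z₁ * z₂ + b * z₂ ^ 2 = 0 → z₁ = 0 ∧ z₂ = 0) ∧ Cfsg.IsGraphAutClassPSL γ₁ ∧ orderOf γ₁ = 2 ∧ Cfsg.IsGraphAutClassPSL γ₂ ∧ orderOf γ₂ = 2 ∧ Cfsg.IsGraphAutClassPSL γ₃ ∧ orderOf γ₃ = 2 ∧ ¬ Cfsg.IsConjUnder (Cfsg.inndiagPSL n F) γ₁ γ₂ ∧ ¬ Cfsg.IsConjUnder (Cfsg.inndiagPSL n F) γ₁ γ₃ ∧ ¬ Cfsg.IsConjUnder (Cfsg.inndiagPSL n F) γ₂ γ₃ ∧ (∀ γ : MulAut (Matrix.ProjectiveSpecialLinearGroup (Fin n) F), Cfsg.IsGraphAutClassPSL γ → orderOf γ = 2 → Cfsg.IsConjUnder (Cfsg.inndiagPSL n F) γ₁ γ ∨ Cfsg.IsConjUnder (Cfsg.inndiagPSL n F) γ₂ γ ∨ Cfsg.IsConjUnder (Cfsg.inndiagPSL n F) γ₃ γ) ∧ Nonempty (↥(Cfsg.inndiagPSL n F ⊓ Subgroup.centralizer {γ₁}) ≃* Cfsg.PGSp m F) ∧ Nonempty (↥(Cfsg.inndiagPSL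 n F ⊓ Subgroup.centralizer {γ₂}) ≃* Cfsg.PGO F (Cfsg.quadFormPlus m F)) ∧ Nonempty (↥(Cfsg.inndiagPSL n F ⊓ Subgroup.centralizer {γ₃}) ≃* Cfsg.PGO F (Cfsg.quadFormMinus (m - 1) F a b)) := by
  have h2 : (2 : F) ≠ 0 := two_ne_zero_of_odd hodd
  have hn3 : 3 ≤ n := by omega
  have hn2 : 2 ≤ n := by omega
  have hm1 : 1 ≤ m := by omega
  have : Nontrivial (Fin n) := Fin.nontrivial_iff_two_le.2 hn2
  obtain ⟨c₁, hc₁⟩ := exists_skew (F := F) hnm
  obtain ⟨c₂, c₃, hc₂, hc₃, hsq, ⟨E₂, hE₂⟩, ⟨ζ, E₃, hζ, hE₃⟩⟩ := exists_reps hodd hm1 hnm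
  obtain ⟨E₁, hE₁⟩ := skew_equiv h2 hnm (c₁ : Matrix (Fin n) (Fin n) F) hc₁ (det_ne_zero_GL c₁)
  refine ⟨gam c₁, gam c₂, gam c₃, 1, ζ, aniso_of_noroot ζ hζ, gam_isGraph hn3 c₁, ?_,
    gam_isGraph hn3 c₂, ?_, gam_isGraph hn3 c₃, ?_, not_conj_skew_sym h2 c₁ c₂ hc₁ hc₂,
    not_conj_skew_sym h2 c₁ c₃ hc₁ hc₃, ?_, ?_, ?_, ?_, ?_⟩
  · rw [orderOf_gam_eq_two_iff hn3]
    refine ⟨-1, neg_ne_zero.2 one_ne_zero, ?_⟩
    rw [hc₁, neg_smul, one_smul, neg_neg]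
  · rw [orderOf_gam_eq_two_iff hn3]
    exact ⟨1, one_ne_zero, by rw [hc₂, one_smul]⟩
  · rw [orderOf_gam_eq_two_iff hn3]
    exact ⟨1, one_ne_zero, by rw [hc₃, one_smul]⟩
  · intro h
    exact hsq (sq_iff_of_conj hnm c₂ c₃ h)
  · intro γ hγ hγ2
    obtain ⟨c, rfl⟩ := exists_gam_of_isGraph hγ
    obtain ⟨z, hz0, hz⟩ := (orderOf_gam_eq_two_iff hn3 c).1 hγ2
    rcases sq_eq_one_of_smul_transpose c z hz with rfl | rfl
    · -- symmetric
      have hc : (c : Matrix (Fin n) (Fin n) F)ᵀ = c := by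
        rw [one_smul] at hz
        exact hz.symm
      have hcases : (IsSquare (c₂ : Matrix (Fin n) (Fin n) F).det ↔
          IsSquare (c : Matrix (Fin n) (Fin n) F).det) ∨
          (IsSquare (c₃ : Matrix (Fin n) (Fin n) F).det ↔
          IsSquare (c : Matrix (Fin n) (Fin n) F).det) := by
        tauto
      rcases hcases with h | h
      · right
        left
        obtain ⟨L, hL⟩ := sym_congr hodd hm1 hnm _ _ hc₂ hc (det_ne_zero_GL c₂)
          (det_ne_zero_GL c) h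
        exact isConj_of_congr c₂ c (glOfEquiv L) (congr_of_isometry_sym h2 _ _ hc₂ hc L hL)
      · right
        right
        obtain ⟨L, hL⟩ := sym_congr hodd hm1 hnm _ _ hc₃ hc (det_ne_zero_GL c₃)
          (det_ne_zero_GL c) h
        exact isConj_of_congr c₃ c (glOfEquiv L) (congr_of_isometry_sym h2 _ _ hc₃ hc L hL)
    · -- skew
      left
      have hc : (c : Matrix (Fin n) (Fin n) F)ᵀ = -(c : Matrix (Fin n) (Fin n) F) := by
        conv_rhs => rw [hz, neg_smul, one_smul, neg_neg]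
      obtain ⟨E, hE⟩ := skew_equiv h2 hnm (c : Matrix (Fin n) (Fin n) F) hc (det_ne_zero_GL c)
      apply isConj_of_congr c₁ c (glOfEquiv (E₁.trans E.symm))
      apply congr_of_isometry_bil
      intro u v
      rw [← hE, ← hE₁, LinearEquiv.trans_apply, LinearEquiv.trans_apply,
        LinearEquiv.apply_symm_apply, LinearEquiv.apply_symm_apply]
  · obtain ⟨e₀⟩ := centralizer_gam_bil hn2 c₁
    obtain ⟨e₁⟩ := bilSim_congr E₁
      (fun u v : Fin n → F => u ⬝ᵥ ((c₁ : Matrix (Fin n) (Fin n) F) *ᵥ v)) (Cfsg.sympForm m F) hE₁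
    exact ⟨e₀.trans e₁⟩
  · obtain ⟨e₀⟩ := centralizer_gam_sym hn2 h2 c₂ hc₂
    obtain ⟨e₁⟩ := pgo_congr_of_equiv E₂
      (fun v : Fin n → F => v ⬝ᵥ ((c₂ : Matrix (Fin n) (Fin n) F) *ᵥ v))
      (Cfsg.quadFormPlus m F) hE₂
    exact ⟨e₀.trans e₁⟩
  · obtain ⟨e₀⟩ := centralizer_gam_sym hn2 h2 c₃ hc₃
    obtain ⟨e₁⟩ := pgo_congr_of_equiv E₃
      (fun v : Fin n → F => v ⬝ᵥ ((c₃ : Matrix (Fin n) (Fin n) F) *ᵥ v))
      (Cfsg.quadFormMinus (m - 1) F 1 ζ) hE₃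
    exact ⟨e₀.trans e₁⟩

end Cfsg.Agent.S2700
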