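import Mathlib
import Cfsg.Statements.S0200
import Cfsg.Agent.S0199

set_option autoImplicit false
open Cfsg

namespace Cfsg.Agent.S0200

/-- An involution lying in no normal 2-subgroup of a finite group inverts a nontrivial element of odd order (a consequence of the Baer–Suzuki Theorem). -/
theorem result {G : Type*} [Group G] [Finite G] (t : G) (ht : orderOf t = 2) (hO : ∀ N : Subgroup G, N.Normal → IsPGroup 2 N → t ∉ N) : ∃ h : G, h ≠ 1 ∧ Odd (orderOf h) ∧ t * h * t⁻¹ = h⁻¹ := by
  classical
  by_contra hcon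
  push Not at hcon
  have : Fact (Nat.Prime 2) := ⟨Nat.prime_two⟩
  have ht2 : t ^ 2 = 1 := by rw [← ht]; exact pow_orderOf_eq_one t
  have htinv : t⁻¹ = t := by
    rw [inv_eq_iff_mul_eq_one, ← sq]; exact ht2
  have htt : t * t = 1 := by rw [← sq]; exact ht2
  have hX : IsPGroup 2 (Subgroup.zpowers t) := by
    rw [IsPGroup.iff_card]
    refine ⟨1, ?_⟩
    rw [Nat.card_zpowers, ht]; norm_num
  have key : ∀ g : G, IsPGroup 2 ↥(Subgroup.zpowers t ⊔ (Subgroup.zpowers t).map (MulAut.conj g).toMonoidHom) := by
    intro g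
    set s := g * t * g⁻¹ with hs
    have hss : s * s = 1 := by
      rw [hs]
      calc g * t * g⁻¹ * (g * t * g⁻¹) = g * (t * t) * g⁻¹ := by group
        _ = 1 := by rw [htt]; group
    have hsinv : s⁻¹ = s := by rw [inv_eq_iff_mul_eq_one]; exact hss
    set d := t * s with hd
    have hdinv : t * d * t⁻¹ = d⁻¹ := by
      rw [hd, mul_inv_rev, hsinv, htinv, mul_assoc, mul_assoc, ← mul_assoc t t, htt, one_mul]
    -- every power of d is inverted by t
    have hpow : ∀ k : ℕ, t * d ^ k * t⁻¹ = (d ^ k)⁻¹ := by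
      intro k
      have := map_pow (MulAut.conj t).toMonoidHom d k
      simp only [MulEquiv.coe_toMonoidHom, MulAut.conj_apply] at this
      rw [this, hdinv, inv_pow]
    -- order of d is a power of 2
    have hdord : ∃ k, orderOf d = 2 ^ k := by
      have hpos : orderOf d ≠ 0 := (orderOf_pos d).ne'
      obtain ⟨k, m, hm, hkm⟩ := Nat.exists_eq_two_pow_mul_odd hpos
      have hord : orderOf (d ^ (2 ^ k)) = m := by
        rw [orderOf_pow_of_dvd (by positivity) ⟨m, hkm⟩, hkm]
        exact Nat.mul_div_cancel_left m (by positivity)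
      have h1 : d ^ (2 ^ k) = 1 := by
        by_contra hne
        exact hcon _ hne (hord ▸ hm) (hpow _)
      rw [h1, orderOf_one] at hord
      exact ⟨k, by rw [hkm, ← hord, mul_one]⟩
    have hD : IsPGroup 2 (Subgroup.zpowers d) := by
      obtain ⟨k, hk⟩ := hdord
      rw [IsPGroup.iff_card]
      exact ⟨k, by rw [Nat.card_zpowers, hk]⟩
    have hnorm : Subgroup.zpowers t ≤ Subgroup.normalizer ((Subgroup.zpowers d : Subgroup G) : Set G) := by
      rw [Subgroup.zpowers_le, Subgroup.mem_normalizer_iff]
      have hfwd : ∀ h : G, h ∈ Subgroup.zpowers d → t * h * t⁻¹ ∈ Subgroup.zpowers d := by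
        intro h hh
        obtain ⟨n, rfl⟩ := Subgroup.mem_zpowers_iff.mp hh
        have := map_zpow (MulAut.conj t).toMonoidHom d n
        simp only [MulEquiv.coe_toMonoidHom, MulAut.conj_apply] at this
        rw [this, hdinv]
        exact Subgroup.zpow_mem _ (Subgroup.inv_mem _ (Subgroup.mem_zpowers d)) n
      intro h
      refine ⟨hfwd h, fun hh => ?_⟩
      have := hfwd _ hh
      rw [htinv] at this
      have e : t * (t * h * t) * t = h := by
        rw [mul_assoc t h t, ← mul_assoc t t, htt, one_mul, mul_assoc, htt, mul_one]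
      rwa [e] at this
    have hsup := IsPGroup.to_sup_of_normal_right' hX hD hnorm
    refine hsup.to_le ?_
    apply sup_le le_sup_left
    rw [MonoidHom.map_zpowers, Subgroup.zpowers_le]
    simp only [MulEquiv.coe_toMonoidHom, MulAut.conj_apply]
    have : g * t * g⁻¹ = t * d := by
      rw [hd, ← mul_assoc, htt, one_mul]
    rw [this]
    exact Subgroup.mul_mem _ (le_sup_left (a := Subgroup.zpowers t) (Subgroup.mem_zpowers t))
      (le_sup_right (b := Subgroup.zpowers d) (Subgroup.mem_zpowers d))
  obtain ⟨N, hN, hN2, hle⟩ := Cfsg.Agent.S0199.result (Subgroup.zpowers t) hX key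
  exact hO N hN hN2 (hle (Subgroup.mem_zpowers t))

end Cfsg.Agent.S0200
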