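import Cfsg.Statements.S4637
import Mathlib
import Cfsg.Agent.Lib.Helper8.VK2
import Cfsg.Agent.Lib.Helper8.VK9
import Cfsg.Agent.Lib.Helper8.VK10
import Cfsg.Agent.Lib.Helper8.VK13
import Cfsg.Agent.Lib.Helper8.VK14
import Cfsg.Agent.Lib.Helper8.KN6
import Cfsg.Agent.Lib.Helper8.BlockFirstMain5

set_option autoImplicit false
open Cfsg

namespace Cfsg.Agent.S4637

/-- Let B be a block of the finite group G relative to a maximal ideal M of the algebraic integers containing 2, with a Klein four defect group P. Let c be a block of C_G(P) inducing B, T the stabilizer of c in N_G(P) and e the index of C_G(P) in T (the inertial index). Then e is 1 or 3, B contains exactly four irreducible characters, and the 2-regular rank of B (its number of irreducible Brauer characters) equals e. -/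
theorem result {G : Type*} [Group G] [Finite G] (M : Ideal Cfsg.AlgInt) (hM : Cfsg.IsPModular 2 M) (B : Set (Cfsg.IrrCharacter G)) (hB : Cfsg.IsPBlock M B) (P : Subgroup G) (hPD : Cfsg.IsDefectGroup 2 M B P) (hV : IsKleinFour P) (c : Set (Cfsg.IrrCharacter (Subgroup.centralizer (P : Set G)))) (hc : Cfsg.IsInducedBlock M (Subgroup.centralizer (P : Set G)) c B) (T : Subgroup G) (hT : ∀ g : G, g ∈ T ↔ (g ∈ Subgroup.normalizer (P : Set G) ∧ Cfsg.StabilizesBlock (Subgroup.centralizer (P : Set G)) c g)) (e : ℕ) (he : (Subgroup.centralizer (P : Set G)).relIndex T = e) : (e = 1 ∨ e = 3) ∧ Nat.card B = 4 ∧ Cfsg.blockRank 2 B = e := by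
  classical
  open Cfsg.Agent.Lib.Helper1 Cfsg.Agent.Lib.Helper4 Cfsg.Agent.Lib.Helper8 Cfsg.Agent.Lib.Helper8.VK in
  have : Fintype G := Fintype.ofFinite G
  have : Fact (Nat.Prime 2) := ⟨Nat.prime_two⟩
  have hMp := Cfsg.Agent.Lib.Helper8.isPModular_isPrime hM
  have hP := Cfsg.Agent.Lib.Helper8.isPGroup_of_isDefectGroup hPD
  have hcard : Nat.card P = 4 := IsKleinFour.card_four
  have hexp : ∀ g ∈ P, g * g = 1 := fun g hg =>
    congrArg Subtype.val (IsKleinFour.mul_self (⟨g, hg⟩ : P))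
  have hab : ∀ x ∈ P, ∀ y ∈ P, x * y = y * x := by
    intro x hx y hy
    have := mul_comm_of_exponent_two (IsKleinFour.exponent_two (G := P)) (⟨x, hx⟩ : P) ⟨y, hy⟩
    exact congrArg Subtype.val this
  have hPH : P ≤ Subgroup.centralizer (P : Set G) := by
    intro x hx
    rw [Subgroup.mem_centralizer_iff]
    intro y hy
    exact hab y hy x hx
  have hCN : Subgroup.centralizer (P : Set G) ≤ Subgroup.normalizer (P : Set G) :=
    Subgroup.centralizer_le_normalizer _
  have hNH := Cfsg.Agent.Lib.Helper8.normalizer_le_normalizer_centralizer P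
  have hbP := Cfsg.Agent.Lib.Helper8.isDefectGroup_of_induced hM P _ hPH hCN hPD hc
  have hidx := (Cfsg.Agent.Lib.Helper8.defect_iff_stab_index hM P _ hP hPH le_rfl hCN hNH hc.1 hbP
    hc T hT).1 hPD
  have hTN : T ≤ Subgroup.normalizer (P : Set G) := fun t ht => ((hT t).1 ht).1
  have hCT : Subgroup.centralizer (P : Set G) ≤ T := fun h hh =>
    (hT h).2 ⟨hCN hh, Cfsg.Agent.Lib.Helper8.stabilizesBlock_of_mem _ c hh⟩
  have he13 := Cfsg.Agent.Lib.Helper8.VK.relIndex_one_or_three P T hcard hTN hidx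
  rw [he] at he13
  refine ⟨he13, ?_⟩
  -- the maximal Brauer pair
  have hpair := Cfsg.Agent.Lib.Helper8.AF.pair_of_induced hM P hP hPH hc
  have hmax := Cfsg.Agent.Lib.Helper8.AF.maxPair_of_defect hM hPD hpair
  obtain ⟨X, hX, hXrep⟩ := Cfsg.Agent.Lib.Helper8.VK.exists_pElement_reps (G := G) 2
  -- a nontrivial element of `P`
  obtain ⟨y, hyP, hy1⟩ : ∃ y ∈ P, y ≠ 1 := by
    by_contra hcon
    push Not at hcon
    have : P = ⊥ := (Subgroup.eq_bot_iff_forall P).2 hcon
    rw [this, Subgroup.card_bot] at hcard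
    omega
  have hyo : ∃ k : ℕ, orderOf y = 2 ^ k :=
    ⟨1, by rw [pow_one]; exact orderOf_eq_prime (by rw [pow_two]; exact hexp y hyP) hy1⟩
  obtain ⟨f, hle, hfB⟩ := Cfsg.Agent.Lib.Helper8.VK.exists_subpair_zpowers hM hmax hyP
  have hfind := Cfsg.Agent.Lib.Helper8.VK.induced_of_pair_zpowers hM hfB
  have hk4 : Nat.card B = 4 := Cfsg.Agent.Lib.Helper8.VK.card_block_eq_four hM hB hPD hcard hexp
    hy1 hyo _ (Cfsg.Agent.Lib.Helper8.VK.mem_centralizer_zpowers_iff y) hfind
  refine ⟨hk4, ?_⟩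
  -- the subsection formula
  have hrank : ∀ x ∈ X, x ≠ 1 → ∀ f : Set (IrrCharacter
      (Subgroup.centralizer ((Subgroup.zpowers x : Subgroup G) : Set G))),
      IsInducedBlock M (Subgroup.centralizer ((Subgroup.zpowers x : Subgroup G) : Set G)) f B →
        blockRank 2 f = 1 := fun x hx hx1 f hf =>
    (Cfsg.Agent.Lib.Helper8.VK.subsection_rank_one hM hB hPD hcard hexp hx1 (hX x hx) _
      (Cfsg.Agent.Lib.Helper8.VK.mem_centralizer_zpowers_iff x) hf).2.2.1
  have hcount := Cfsg.Agent.Lib.Helper8.VK.card_block_eq_rank_add hM hB X hX hXrep hrank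
  have hsig : Nat.card (Cfsg.Agent.Lib.Helper8.VK.SubSec M B X) = ∑ x ∈ X.erase 1,
      Nat.card {f : Set (IrrCharacter
        (Subgroup.centralizer ((Subgroup.zpowers x : Subgroup G) : Set G))) //
        IsInducedBlock M (Subgroup.centralizer ((Subgroup.zpowers x : Subgroup G) : Set G)) f B} :=
    Cfsg.Agent.Lib.Helper8.VK.card_sigma_finset (X.erase 1) (fun x =>
      {f : Set (IrrCharacter
        (Subgroup.centralizer ((Subgroup.zpowers x : Subgroup G) : Set G))) //
        IsInducedBlock M (Subgroup.centralizer ((Subgroup.zpowers x : Subgroup G) : Set G)) f B})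
  rw [← hsig, hk4] at hcount
  rcases he13 with h1 | h3
  · -- trivial inertial quotient
    have hTC : T ≤ Subgroup.centralizer (P : Set G) := by
      rw [← Subgroup.relIndex_eq_one, he, h1]
    have hT1 : ∀ t : G, t ∈ Subgroup.normalizer (P : Set G) →
        StabilizesBlock (Subgroup.centralizer (P : Set G)) c t →
          t ∈ Subgroup.centralizer (P : Set G) := fun t htN hst => hTC ((hT t).2 ⟨htN, hst⟩)
    have h3le := Cfsg.Agent.Lib.Helper8.VK.three_le_card_subSec hM hmax hab hcard hexp X hXrep hT1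
    obtain ⟨χ₀, hχ₀⟩ := Cfsg.Agent.Lib.Helper8.isPBlock_nonempty hMp hB
    have h1le := Cfsg.Agent.Lib.Helper8.VK.one_le_blockRank (p := 2) hχ₀
    omega
  · -- inertial quotient of order three
    have hrel : (Subgroup.centralizer (P : Set G)).relIndex T = 3 := by rw [he, h3]
    have htrans : ∀ y ∈ P, y ≠ 1 → ∀ y' ∈ P, y' ≠ 1 → ∃ t : G,
        t ∈ Subgroup.normalizer (P : Set G) ∧
        StabilizesBlock (Subgroup.centralizer (P : Set G)) c t ∧ t * y * t⁻¹ = y' := by
      intro y hy hy1 y' hy' hy'1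
      obtain ⟨t, htT, ht⟩ := Cfsg.Agent.Lib.Helper8.VK.exists_conj_of_relIndex_three P T hTN hCT
        hrel hy hy1 hy' hy'1
      exact ⟨t, ((hT t).1 htT).1, ((hT t).1 htT).2, ht⟩
    have h1eq := Cfsg.Agent.Lib.Helper8.VK.card_subSec_eq_one hM hmax hexp X hX hXrep
      ⟨y, hyP, hy1⟩ htrans
    omega

end Cfsg.Agent.S4637
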