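import Mathlib
import Cfsg.Statements.S4687
import Cfsg.Agent.Lib.Helper8.FS4

set_option autoImplicit false
open Cfsg

namespace Cfsg.Agent.S4687

open scoped ComplexConjugate
open Cfsg.Agent.Lib.Helper1 Cfsg.Agent.Lib.Helper4 Cfsg.Agent.Lib.Helper8

/-- Fix a prime p and a maximal ideal M of the algebraic integers containing p, and a p-block B of the finite group G with maximal Brauer pair (P, e), P abelian. Then B is nilpotent if and only if its inertial quotient is trivial: every element of N_G(P) stabilizing e centralizes P. -/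
theorem result {G : Type*} [Group G] [Fintype G] (p : ℕ) [Fact p.Prime] (M : Ideal Cfsg.AlgInt) (hM : Cfsg.IsPModular p M) (B : Set (Cfsg.IrrCharacter G)) (P : Subgroup G) (e : Set (Cfsg.IrrCharacter (Subgroup.centralizer (P : Set G)))) (hmax : Cfsg.IsMaximalBrauerPair p M B P e) (hab : ∀ x ∈ P, ∀ y ∈ P, x * y = y * x) : Cfsg.IsNilpotentBlock p M B ↔ ∀ x : G, x ∈ Subgroup.normalizer (P : Set G) → Cfsg.StabilizesBlock (Subgroup.centralizer (P : Set G)) e x → x ∈ Subgroup.centralizer (P : Set G) := by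
  classical
  have hPe : Cfsg.IsBrauerPair p M P e := hmax.1.1
  have hp : p.Prime := Fact.out
  have hPC : P ≤ Subgroup.centralizer (P : Set G) := by
    intro u hu
    rw [Subgroup.mem_centralizer_iff]
    intro q hq
    exact hab q hq u hu
  constructor
  · rintro ⟨-, hnil⟩ x hxN hxst
    obtain ⟨θ, -, -, -, hpel⟩ := maxPair_imp hM P e hmax
    obtain ⟨u, v, hu, hv, hxuv, ⟨k, huk⟩, hvc⟩ :=
      Cfsg.Agent.Lib.Helper6.exists_pPart_decomp_zpowers p x
    have hxT : x ∈ pairStab (Subgroup.normalizer (P : Set G)) (Subgroup.centralizer (P : Set G)) e :=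
      ⟨hxN, hxst⟩
    have hzp : Subgroup.zpowers x ≤
        pairStab (Subgroup.normalizer (P : Set G)) (Subgroup.centralizer (P : Set G)) e :=
      (Subgroup.zpowers_le).2 hxT
    obtain ⟨huN, hust⟩ := hzp hu
    obtain ⟨hvN, hvst⟩ := hzp hv
    have hvC : v ∈ Subgroup.centralizer (P : Set G) := by
      apply hnil P e hmax.1 v hvN hvst
      intro hdvd
      exact hp.one_lt.ne' (Nat.eq_one_of_dvd_coprimes hvc hdvd (dvd_refl p))
    have huC : u ∈ Subgroup.centralizer (P : Set G) := by
      have h1 : orderOf u ∣ p ^ k := orderOf_dvd_of_pow_eq_one huk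
      obtain ⟨j, -, hj⟩ := (Nat.dvd_prime_pow hp).1 h1
      have := hpel u huN hust ⟨j, hj⟩
      exact (sup_le hPC le_rfl) this
    rw [hxuv]
    exact Subgroup.mul_mem _ huC hvC
  · intro h
    refine ⟨hmax.1.2.1, ?_⟩
    intro Q f' hQf x hxN hxst _
    obtain ⟨z, hz⟩ := exists_conj_subpairLE hM hmax hQf
    have hQ₁P : Q.map (MulAut.conj z).toMonoidHom ≤ P := subpairLE_le hz
    have hx₁N : z * x * z⁻¹ ∈ Subgroup.normalizer
        ((Q.map (MulAut.conj z).toMonoidHom : Subgroup G) : Set G) :=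
      Subgroup.le_normalizer_map _ ⟨x, hxN, rfl⟩
    have hx₁st := stabilizesBlock_conj z hxst
    obtain ⟨y, hyN, hyst, c, hc, hxyc⟩ := abelian_stab_factor hM hmax hab hQ₁P hz hx₁N hx₁st
    have hyC : y ∈ Subgroup.centralizer ((Q.map (MulAut.conj z).toMonoidHom : Subgroup G) : Set G) :=
      Subgroup.centralizer_le (by exact_mod_cast hQ₁P) (h y hyN hyst)
    have hx₁C : z * x * z⁻¹ ∈ Subgroup.centralizer
        ((Q.map (MulAut.conj z).toMonoidHom : Subgroup G) : Set G) := by
      rw [hxyc]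
      exact Subgroup.mul_mem _ hyC hc
    rw [mem_centralizer_map_conj] at hx₁C
    have e1 : z⁻¹ * (z * x * z⁻¹) * z = x := by group
    rwa [e1] at hx₁C

end Cfsg.Agent.S4687
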