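import Mathlib
import Cfsg.Statements.S2430
import Cfsg.Agent.S2429

set_option autoImplicit false
open Cfsg

namespace Cfsg.Agent.S2430

open Cfsg.Agent.Lib.Helper5 Matrix

section
variable {F : Type*} [Field F] [Fintype F] [DecidableEq F]

omit [Fintype F] [DecidableEq F] in
theorem diagHom_comm (u v : Fˣ) : diagHom u * diagHom v = diagHom v * diagHom u := by
  rw [← map_mul, ← map_mul, mul_comm]

omit [Fintype F] [DecidableEq F] in
theorem trace_diagHom (u : Fˣ) :
    ((diagHom u : SpecialLinearGroup (Fin 2) F) : Matrix (Fin 2) (Fin 2) F).trace =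
      (u : F) + ((u⁻¹ : Fˣ) : F) := by
  show (!![(u : F), 0; 0, ((u⁻¹ : Fˣ) : F)] : Matrix (Fin 2) (Fin 2) F).trace = _
  rw [Matrix.trace_fin_two_of]

/-- the centraliser of a regular semisimple element is generated by one element -/
theorem exists_generator_centralizer (h2 : (2 : F) ≠ 0) (y : SpecialLinearGroup (Fin 2) F)
    (ht : (y : Matrix (Fin 2) (Fin 2) F).trace ^ 2 ≠ 4) :
    ∃ g' : SpecialLinearGroup (Fin 2) F,
      Subgroup.zpowers g' = Subgroup.centralizer ({y} : Set (SpecialLinearGroup (Fin 2) F)) := by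
  have hq : 2 ≤ Fintype.card F := Fintype.one_lt_card
  have hcard := card_centralizer_generic y ht
  -- it suffices to find an element of the centraliser of the right order
  suffices h : ∃ g' : SpecialLinearGroup (Fin 2) F,
      g' ∈ Subgroup.centralizer ({y} : Set (SpecialLinearGroup (Fin 2) F)) ∧
      orderOf g' = Nat.card (Subgroup.centralizer ({y} : Set (SpecialLinearGroup (Fin 2) F))) by
    obtain ⟨g', hg', ho⟩ := h
    refine ⟨g', ?_⟩
    apply Subgroup.eq_of_le_of_card_ge (Subgroup.zpowers_le.2 hg')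
    rw [Nat.card_zpowers, ho]
  -- a conjugate of a known generator
  have key : ∀ (g₁ y' : SpecialLinearGroup (Fin 2) F), g₁ * y' = y' * g₁ →
      (y' : Matrix (Fin 2) (Fin 2) F).trace = (y : Matrix (Fin 2) (Fin 2) F).trace →
      ∃ g' : SpecialLinearGroup (Fin 2) F,
        g' ∈ Subgroup.centralizer ({y} : Set (SpecialLinearGroup (Fin 2) F)) ∧
        orderOf g' = orderOf g₁ := by
    intro g₁ y' hcomm htr
    have hc : IsConj y y' := isConj_of_trace_eq y y' htr.symm ht
    obtain ⟨h, hh⟩ := isConj_iff.1 hc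
    refine ⟨h⁻¹ * g₁ * h, ?_, ?_⟩
    · rw [Subgroup.mem_centralizer_singleton_iff]
      have hy : y = h⁻¹ * y' * h := by rw [← hh]; group
      calc h⁻¹ * g₁ * h * y = h⁻¹ * g₁ * h * (h⁻¹ * y' * h) := by rw [← hy]
        _ = h⁻¹ * (g₁ * y') * h := by group
        _ = h⁻¹ * (y' * g₁) * h := by rw [hcomm]
        _ = (h⁻¹ * y' * h) * (h⁻¹ * g₁ * h) := by group
        _ = y * (h⁻¹ * g₁ * h) := by rw [← hy]
    · have : SemiconjBy h⁻¹ g₁ (h⁻¹ * g₁ * h) := by
        unfold SemiconjBy
        group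
      exact (SemiconjBy.orderOf_eq _ this).symm
  rcases rootCount_eq_zero_or_two _ ht with hr | hr
  · -- non-split
    obtain ⟨g₀, hord, ht₀, hr₀⟩ := Cfsg.Agent.S2429.exists_nonsplit_generator (F := F)
    obtain ⟨y', hy'T, hty'⟩ := Cfsg.Agent.S2429.exists_mem_centralizer_trace_eq h2 g₀ hr₀ _ hr
    rw [Subgroup.mem_centralizer_singleton_iff] at hy'T
    obtain ⟨g', hg', ho⟩ := key g₀ y' hy'T.symm hty'
    refine ⟨g', hg', ?_⟩
    rw [ho, hord]
    rw [hr, add_zero] at hcard
    exact hcard.symm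
  · -- split
    obtain ⟨ζ, hζ⟩ := IsCyclic.exists_generator (α := Fˣ)
    have hζo : orderOf (diagHom ζ : SpecialLinearGroup (Fin 2) F) = Fintype.card F - 1 := by
      rw [orderOf_injective diagHom diagHom_injective, orderOf_eq_card_of_forall_mem_zpowers hζ,
        Nat.card_eq_fintype_card, Fintype.card_units]
    have hpos : 0 < rootCount (y : Matrix (Fin 2) (Fin 2) F).trace := by rw [hr]; norm_num
    obtain ⟨a, ha⟩ := Finset.card_pos.1 hpos
    rw [Finset.mem_filter] at ha
    have ha0 : a ≠ 0 := by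
      rintro rfl
      have := ha.2
      simp at this
    have hty' : ((diagHom (Units.mk0 a ha0) : SpecialLinearGroup (Fin 2) F) :
        Matrix (Fin 2) (Fin 2) F).trace = (y : Matrix (Fin 2) (Fin 2) F).trace := by
      rw [trace_diagHom]
      show a + a⁻¹ = _
      have : a * (a + a⁻¹) = a * (y : Matrix (Fin 2) (Fin 2) F).trace := by
        rw [mul_add, mul_inv_cancel₀ ha0]
        linear_combination ha.2
      exact mul_left_cancel₀ ha0 this
    obtain ⟨g', hg', ho⟩ := key (diagHom ζ) (diagHom (Units.mk0 a ha0)) (diagHom_comm _ _) hty'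
    refine ⟨g', hg', ?_⟩
    rw [ho, hζo]
    rw [hr] at hcard
    omega

theorem sylow_core (h2 : (2 : F) ≠ 0) (ℓ : ℕ) [Fact ℓ.Prime] (hℓ : ℓ ≠ 2)
    (P : Sylow ℓ (SpecialLinearGroup (Fin 2) F)) (n : ℕ)
    (hn : n = Fintype.card F - 1 ∨ n = Fintype.card F + 1) (hdvd : ℓ ∣ n) :
    ∃ y : SpecialLinearGroup (Fin 2) F, (y : Matrix (Fin 2) (Fin 2) F).trace ^ 2 ≠ 4 ∧
      Nat.card (Subgroup.centralizer ({y} : Set (SpecialLinearGroup (Fin 2) F))) = n ∧
      (P : Subgroup (SpecialLinearGroup (Fin 2) F)) ≤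
        Subgroup.centralizer ({y} : Set (SpecialLinearGroup (Fin 2) F)) ∧
      y ∈ (P : Subgroup (SpecialLinearGroup (Fin 2) F)) := by
  have hℓp : ℓ.Prime := Fact.out
  have hq : 2 ≤ Fintype.card F := Fintype.one_lt_card
  have hℓ3 : 3 ≤ ℓ := by
    have := hℓp.two_le
    omega
  have hdvdG : ℓ ∣ Nat.card (SpecialLinearGroup (Fin 2) F) := by
    rw [card_SL2]
    rcases hn with rfl | rfl
    · exact Dvd.dvd.mul_right (Dvd.dvd.mul_left hdvd _) _
    · exact Dvd.dvd.mul_left hdvd _
  have hne := P.ne_bot_of_dvd_card hdvdG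
  have hnt : Nontrivial (P : Subgroup (SpecialLinearGroup (Fin 2) F)) :=
    (Subgroup.nontrivial_iff_ne_bot _).2 hne
  have hcn := IsPGroup.center_nontrivial (P.isPGroup')
  obtain ⟨⟨z, hz⟩, hz1⟩ := exists_ne (1 : Subgroup.center (P : Subgroup (SpecialLinearGroup (Fin 2) F)))
  set y : SpecialLinearGroup (Fin 2) F := (z : SpecialLinearGroup (Fin 2) F) with hy
  have hyP : y ∈ (P : Subgroup (SpecialLinearGroup (Fin 2) F)) := z.2
  have hy1 : y ≠ 1 := by
    intro h
    apply hz1
    apply Subtype.ext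
    apply Subtype.ext
    exact h
  obtain ⟨k, hk⟩ := (IsPGroup.iff_orderOf.1 P.isPGroup') z
  have hoy : orderOf y = ℓ ^ k := by
    rw [← hk]
    exact (orderOf_injective (P : Subgroup (SpecialLinearGroup (Fin 2) F)).subtype
      Subtype.val_injective z)
  have hk0 : k ≠ 0 := by
    rintro rfl
    rw [pow_zero, orderOf_eq_one_iff] at hoy
    exact hy1 hoy
  have hℓy : ℓ ∣ orderOf y := by
    rw [hoy]
    exact dvd_pow_self ℓ hk0
  have hcop2 : Nat.Coprime ℓ 2 := by
    rw [Nat.coprime_primes hℓp Nat.prime_two]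
    exact hℓ
  -- `y` is not scalar
  have hyns : ¬ ∃ c : F, (y : Matrix (Fin 2) (Fin 2) F) =
      c • (1 : Matrix (Fin 2) (Fin 2) F) := by
    rintro ⟨c, hc⟩
    have hc2 := (sq_eq_four_of_scalar y c hc).2
    have h1 : y ^ 2 = 1 := by
      rw [pow_two]
      apply Subtype.ext
      show (y : Matrix (Fin 2) (Fin 2) F) * (y : Matrix (Fin 2) (Fin 2) F) = 1
      rw [hc, Matrix.smul_mul, Matrix.one_mul, smul_smul, ← pow_two, hc2, one_smul]
    have h3 := dvd_trans hℓy (orderOf_dvd_of_pow_eq_one h1)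
    have := Nat.le_of_dvd two_pos h3
    omega
  have hpowC := pow_card_centralizer_eq_one y
  have hℓC : ℓ ∣ Nat.card (Subgroup.centralizer ({y} : Set (SpecialLinearGroup (Fin 2) F))) :=
    dvd_trans hℓy (orderOf_dvd_of_pow_eq_one hpowC)
  have hyt : (y : Matrix (Fin 2) (Fin 2) F).trace ^ 2 ≠ 4 := by
    intro h
    rw [card_centralizer_special y hyns h, if_neg h2] at hℓC
    have h5 : ℓ ∣ Fintype.card F := hcop2.dvd_of_dvd_mul_left hℓC
    rcases hn with rfl | rfl
    · have : ℓ ∣ 1 := by
        have h6 : Fintype.card F = (Fintype.card F - 1) + 1 := by omega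
        rw [h6] at h5
        exact (Nat.dvd_add_right hdvd).1 h5
      have := Nat.le_of_dvd one_pos this
      omega
    · have : ℓ ∣ 1 := (Nat.dvd_add_right h5).1 hdvd
      have := Nat.le_of_dvd one_pos this
      omega
  refine ⟨y, hyt, ?_, ?_, hyP⟩
  · have hcard := card_centralizer_generic y hyt
    have hcases : Nat.card (Subgroup.centralizer ({y} : Set (SpecialLinearGroup (Fin 2) F))) =
        Fintype.card F - 1 ∨
        Nat.card (Subgroup.centralizer ({y} : Set (SpecialLinearGroup (Fin 2) F))) =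
        Fintype.card F + 1 := by
      rcases rootCount_eq_zero_or_two _ hyt with h | h
      · right; rw [h] at hcard; omega
      · left; rw [h] at hcard; omega
    have hboth : ¬ (ℓ ∣ Fintype.card F - 1 ∧ ℓ ∣ Fintype.card F + 1) := by
      rintro ⟨h5, h6⟩
      have h7 : Fintype.card F + 1 = (Fintype.card F - 1) + 2 := by omega
      rw [h7] at h6
      have : ℓ ∣ 2 := (Nat.dvd_add_right h5).1 h6
      have := Nat.le_of_dvd two_pos this
      omega
    rcases hcases with h | h <;> rcases hn with rfl | rfl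
    · exact h
    · exfalso
      rw [h] at hℓC
      exact hboth ⟨hℓC, hdvd⟩
    · exfalso
      rw [h] at hℓC
      exact hboth ⟨hdvd, hℓC⟩
    · exact h
  · intro x hx
    rw [Subgroup.mem_centralizer_singleton_iff]
    have := (Subgroup.mem_center_iff.1 hz) ⟨x, hx⟩
    exact congrArg Subtype.val this

theorem main_core (h2 : (2 : F) ≠ 0) (ℓ : ℕ) [Fact ℓ.Prime] (hℓ : ℓ ≠ 2)
    (P : Sylow ℓ (SpecialLinearGroup (Fin 2) F)) (n : ℕ)
    (hn : n = Fintype.card F - 1 ∨ n = Fintype.card F + 1) (hdvd : ℓ ∣ n) :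
    Nat.card (Subgroup.centralizer ((P : Subgroup (SpecialLinearGroup (Fin 2) F)) :
      Set (SpecialLinearGroup (Fin 2) F))) = n ∧
    IsCyclic (Subgroup.centralizer ((P : Subgroup (SpecialLinearGroup (Fin 2) F)) :
      Set (SpecialLinearGroup (Fin 2) F))) ∧
    Nat.card (Subgroup.normalizer ((P : Subgroup (SpecialLinearGroup (Fin 2) F)) :
      Set (SpecialLinearGroup (Fin 2) F))) = 2 * n := by
  obtain ⟨y, hyt, hcard, hPT, hyP⟩ := sylow_core h2 ℓ hℓ P n hn hdvd
  have hns := not_scalar_of_sq_ne_four y hyt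
  set T := Subgroup.centralizer ({y} : Set (SpecialLinearGroup (Fin 2) F)) with hT
  have hCP : Subgroup.centralizer ((P : Subgroup (SpecialLinearGroup (Fin 2) F)) :
      Set (SpecialLinearGroup (Fin 2) F)) = T := by
    ext x
    rw [Subgroup.mem_centralizer_iff]
    constructor
    · intro h
      rw [hT, Subgroup.mem_centralizer_singleton_iff]
      exact (h y hyP).symm
    · intro hx h hh
      exact Cfsg.Agent.S2429.centralizer_comm y hns h x (hPT hh) hx
  have hNP : Subgroup.normalizer ((P : Subgroup (SpecialLinearGroup (Fin 2) F)) :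
      Set (SpecialLinearGroup (Fin 2) F)) =
      Subgroup.normalizer ((T : Subgroup (SpecialLinearGroup (Fin 2) F)) :
        Set (SpecialLinearGroup (Fin 2) F)) := by
    ext h
    rw [mem_normalizer_iff_conj h2 y hyt, Subgroup.mem_set_normalizer_iff]
    constructor
    · intro hn
      have h1 : h * y * h⁻¹ ∈ (P : Subgroup (SpecialLinearGroup (Fin 2) F)) := (hn y).1 hyP
      apply eq_or_eq_inv_of_trace_eq h2 y hyt _ (hPT h1)
      show ((h : Matrix (Fin 2) (Fin 2) F) * (y : Matrix (Fin 2) (Fin 2) F) *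
        ((h⁻¹ : SpecialLinearGroup (Fin 2) F) : Matrix (Fin 2) (Fin 2) F)).trace = _
      rw [Matrix.trace_mul_cycle]
      have : ((h⁻¹ : SpecialLinearGroup (Fin 2) F) : Matrix (Fin 2) (Fin 2) F) *
          (h : Matrix (Fin 2) (Fin 2) F) = 1 := by
        have h1 : h⁻¹ * h = 1 := inv_mul_cancel h
        exact congrArg (fun z : SpecialLinearGroup (Fin 2) F =>
          (z : Matrix (Fin 2) (Fin 2) F)) h1
      rw [this, one_mul]
    · rintro (hc | hc) m
      · -- `h` centralises `T`
        have hhT : h ∈ T := by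
          rw [hT, Subgroup.mem_centralizer_singleton_iff, ← mul_inv_eq_iff_eq_mul]
          exact hc
        constructor
        · intro hm
          have hm' : m ∈ (P : Subgroup (SpecialLinearGroup (Fin 2) F)) := hm
          have := Cfsg.Agent.S2429.centralizer_comm y hns h m hhT (hPT hm')
          rw [this, mul_inv_cancel_right]
          exact hm
        · intro hm
          have hm' : h * m * h⁻¹ ∈ (P : Subgroup (SpecialLinearGroup (Fin 2) F)) := hm
          have h5 := Cfsg.Agent.S2429.centralizer_comm y hns h⁻¹ (h * m * h⁻¹)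
            (T.inv_mem hhT) (hPT hm')
          have h6 : m = h⁻¹ * (h * m * h⁻¹) * h := by group
          rw [h6, h5]
          have : h * m * h⁻¹ * h⁻¹ * h = h * m * h⁻¹ := by group
          rw [this]
          exact hm
      · -- `h` inverts `T`
        constructor
        · intro hm
          have hm' : m ∈ (P : Subgroup (SpecialLinearGroup (Fin 2) F)) := hm
          rw [SetLike.mem_coe, conj_eq_inv_of_inverting h y hns hc m (hPT hm')]
          exact inv_mem hm'
        · intro hm
          have hm' : h * m * h⁻¹ ∈ (P : Subgroup (SpecialLinearGroup (Fin 2) F)) := hm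
          have h5 := conj_eq_inv_of_inverting h y hns hc _ (hPT hm')
          have h6 : m = h⁻¹ * (h * m * h⁻¹) * h := by group
          rw [SetLike.mem_coe, h6]
          generalize h * m * h⁻¹ = w at hm' h5
          have e : w = h⁻¹ * w⁻¹ * h := by rw [← h5]; group
          have h7 : h⁻¹ * w * h = w⁻¹ := by
            calc h⁻¹ * w * h = (h⁻¹ * w⁻¹ * h)⁻¹ := by group
              _ = w⁻¹ := by rw [← e]
          rw [h7]
          exact inv_mem hm'
  refine ⟨?_, ?_, ?_⟩
  · rw [hCP, hcard]
  · rw [hCP, Subgroup.isCyclic_iff_exists_zpowers_eq_top]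
    exact exists_generator_centralizer h2 y hyt
  · rw [hNP, card_normalizer_centralizer h2 y hyt, ← hT, hcard]

end

/-- Let F be a finite field with q elements, q odd, ℓ an odd prime, and P a Sylow ℓ-subgroup of SL₂ over F. If ℓ divides q − 1, the centraliser of P is cyclic of order q − 1 (a split torus) and the normaliser of P has order 2(q − 1); if ℓ divides q + 1, the centraliser of P is cyclic of order q + 1 (a non-split torus) and the normaliser of P has order 2(q + 1). -/
theorem result {F : Type*} [Field F] [Fintype F] (hodd : Odd (Fintype.card F)) (ℓ : ℕ) [Fact ℓ.Prime] (hℓ : ℓ ≠ 2)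
    (P : Sylow ℓ (Matrix.SpecialLinearGroup (Fin 2) F)) :
    (ℓ ∣ Fintype.card F - 1 →
      Nat.card (Subgroup.centralizer ((P : Subgroup (Matrix.SpecialLinearGroup (Fin 2) F)) : Set (Matrix.SpecialLinearGroup (Fin 2) F))) = Fintype.card F - 1 ∧
      IsCyclic (Subgroup.centralizer ((P : Subgroup (Matrix.SpecialLinearGroup (Fin 2) F)) : Set (Matrix.SpecialLinearGroup (Fin 2) F))) ∧
      Nat.card (Subgroup.normalizer ((P : Subgroup (Matrix.SpecialLinearGroup (Fin 2) F)) : Set (Matrix.SpecialLinearGroup (Fin 2) F))) = 2 * (Fintype.card F - 1)) ∧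
    (ℓ ∣ Fintype.card F + 1 →
      Nat.card (Subgroup.centralizer ((P : Subgroup (Matrix.SpecialLinearGroup (Fin 2) F)) : Set (Matrix.SpecialLinearGroup (Fin 2) F))) = Fintype.card F + 1 ∧
      IsCyclic (Subgroup.centralizer ((P : Subgroup (Matrix.SpecialLinearGroup (Fin 2) F)) : Set (Matrix.SpecialLinearGroup (Fin 2) F))) ∧
      Nat.card (Subgroup.normalizer ((P : Subgroup (Matrix.SpecialLinearGroup (Fin 2) F)) : Set (Matrix.SpecialLinearGroup (Fin 2) F))) = 2 * (Fintype.card F + 1)) := by
  classical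
  have h2 : (2 : F) ≠ 0 := by
    apply Ring.two_ne_zero
    intro h
    have h1 := FiniteField.even_card_iff_char_two.1 h
    rcases hodd with ⟨k, hk⟩
    omega
  constructor
  · intro hdvd
    exact main_core h2 ℓ hℓ P _ (Or.inl rfl) hdvd
  · intro hdvd
    exact main_core h2 ℓ hℓ P _ (Or.inr rfl) hdvd

end Cfsg.Agent.S2430
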