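import Cfsg.Statements.S2437
import Mathlib
import Cfsg.Agent.Lib.Helper5.BorelGL2

set_option autoImplicit false
open Cfsg

namespace Cfsg.Agent.S2437

open Cfsg.Agent.Lib.Helper5 Matrix

section count
variable {F : Type*} [Field F] [Fintype F] [DecidableEq F]

/-- Number of solutions `(b, d)` of `d * u = b * v`. -/
theorem count_line (u v : F) :
    ∑ b : F, ∑ d : F, (if d * u = b * v then 1 else 0 : ℕ)
      = if u = 0 ∧ v = 0 then Fintype.card F * Fintype.card F else Fintype.card F := by
  by_cases hu : u = 0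
  · by_cases hv : v = 0
    · subst hu hv
      rw [if_pos ⟨rfl, rfl⟩]
      simp
    · subst hu
      rw [if_neg (fun h => hv h.2)]
      have : ∀ b : F, ∑ d : F, (if d * 0 = b * v then 1 else 0 : ℕ)
          = if b = 0 then Fintype.card F else 0 := by
        intro b
        by_cases hb : b = 0
        · subst hb
          simp
        · rw [if_neg hb]
          apply Finset.sum_eq_zero
          intro d _
          rw [if_neg]
          rw [mul_zero]
          exact fun h => (mul_ne_zero hb hv) h.symm
      rw [Finset.sum_congr rfl fun b _ => this b, Finset.sum_ite_eq']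
      simp
  · rw [if_neg (fun h => hu h.1)]
    have : ∀ b : F, ∑ d : F, (if d * u = b * v then 1 else 0 : ℕ) = 1 := by
      intro b
      have h1 : ∀ d : F, (d * u = b * v) ↔ d = b * v / u := by
        intro d
        rw [eq_div_iff hu]
      simp only [h1]
      rw [Finset.sum_ite_eq']
      simp
    rw [Finset.sum_congr rfl fun b _ => this b]
    simp

theorem sub_inv_eq_zero_iff (a : Fˣ) : ((a : F) - ((a⁻¹ : Fˣ) : F) = 0) ↔ (a = 1 ∨ a = -1) := by
  rw [sub_eq_zero]
  constructor
  · intro h
    have h1 : (a : F) * (a : F) = 1 := by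
      nth_rewrite 2 [h]
      exact Units.mul_inv a
    have h2 : ((a : F) - 1) * ((a : F) + 1) = 0 := by linear_combination h1
    rcases mul_eq_zero.1 h2 with h3 | h3
    · left
      apply Units.ext
      exact sub_eq_zero.1 h3
    · right
      apply Units.ext
      rw [Units.val_neg, Units.val_one]
      exact eq_neg_of_add_eq_zero_left h3
  · rintro (rfl | rfl)
    · simp
    · simp

theorem card_sub_inv_eq_zero (h2 : (2 : F) ≠ 0) :
    ∑ a : Fˣ, (if (a : F) - ((a⁻¹ : Fˣ) : F) = 0 then 1 else 0 : ℕ) = 2 := by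
  simp only [sub_inv_eq_zero_iff]
  rw [Finset.sum_boole]
  have : (Finset.univ.filter fun a : Fˣ => a = 1 ∨ a = -1) = {1, -1} := by
    ext a
    simp
  rw [this, Finset.card_pair]
  · norm_num
  · intro h
    have := congrArg Units.val h
    rw [Units.val_neg, Units.val_one] at this
    apply h2
    linear_combination this

end count


/-- Over a finite field F with q elements, q odd, the upper triangular subgroup of SL₂ (a Borel subgroup, of order q(q − 1)) has exactly q + 3 conjugacy classes. -/
theorem result {F : Type*} [Field F] [Fintype F] (hodd : Odd (Fintype.card F)) :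
    Nat.card (ConjClasses ((Cfsg.upperTriangularGL 2 F).comap Matrix.SpecialLinearGroup.toGL)) = Fintype.card F + 3 := by
  classical
  have h2 : (2 : F) ≠ 0 := by
    apply Ring.two_ne_zero
    intro h
    have := (FiniteField.even_card_iff_char_two).1 h
    rcases hodd with ⟨k, hk⟩
    omega
  -- parametrize the Borel subgroup
  let e : Fˣ × F ≃ ((Cfsg.upperTriangularGL 2 F).comap
      (SpecialLinearGroup.toGL : SpecialLinearGroup (Fin 2) F →* GL (Fin 2) F)) :=
    Equiv.ofBijective slE slE_bijective
  have hcomm : ∀ p p' : Fˣ × F, Commute (e p) (e p') ↔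
      p'.2 * ((p.1 : F) - ((p.1⁻¹ : Fˣ) : F)) = p.2 * ((p'.1 : F) - ((p'.1⁻¹ : Fˣ) : F)) := by
    intro p p'
    unfold Commute SemiconjBy
    rw [Subtype.ext_iff, Subgroup.coe_mul, Subgroup.coe_mul]
    rw [← slM_injective.eq_iff, map_mul, map_mul]
    show slM (slE p : SpecialLinearGroup (Fin 2) F) * slM (slE p' : SpecialLinearGroup (Fin 2) F)
      = slM (slE p' : SpecialLinearGroup (Fin 2) F) * slM (slE p : SpecialLinearGroup (Fin 2) F) ↔ _
    rw [slM_slE, slM_slE, Matrix.mul_fin_two, Matrix.mul_fin_two]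
    generalize ((p.1⁻¹ : Fˣ) : F) = ai
    generalize ((p'.1⁻¹ : Fˣ) : F) = ci
    constructor
    · intro h
      have h01 := congrFun (congrFun h 0) 1
      simp at h01
      linear_combination h01
    · intro h
      ext i j
      fin_cases i <;> fin_cases j <;> simp
      · ring
      · linear_combination h
      · ring
  have hk := card_comm_eq_card_conjClasses_mul_card ((Cfsg.upperTriangularGL 2 F).comap
      (SpecialLinearGroup.toGL : SpecialLinearGroup (Fin 2) F →* GL (Fin 2) F))
  have hB : Nat.card ((Cfsg.upperTriangularGL 2 F).comap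
      (SpecialLinearGroup.toGL : SpecialLinearGroup (Fin 2) F →* GL (Fin 2) F))
      = Fintype.card Fˣ * Fintype.card F := by
    rw [← Nat.card_congr e, Nat.card_eq_fintype_card, Fintype.card_prod]
  have hpairs : Nat.card {p : ((Cfsg.upperTriangularGL 2 F).comap
      (SpecialLinearGroup.toGL : SpecialLinearGroup (Fin 2) F →* GL (Fin 2) F)) ×
      ((Cfsg.upperTriangularGL 2 F).comap
      (SpecialLinearGroup.toGL : SpecialLinearGroup (Fin 2) F →* GL (Fin 2) F)) //
        Commute p.1 p.2}
      = Fintype.card {p : (Fˣ × F) × (Fˣ × F) //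
        p.2.2 * ((p.1.1 : F) - ((p.1.1⁻¹ : Fˣ) : F))
          = p.1.2 * ((p.2.1 : F) - ((p.2.1⁻¹ : Fˣ) : F))} := by
    rw [← Nat.card_eq_fintype_card]
    symm
    apply Nat.card_congr
    refine (Equiv.prodCongr e e).subtypeEquiv ?_
    rintro ⟨p, p'⟩
    exact (hcomm p p').symm
  rw [hpairs, hB, Fintype.card_subtype, Finset.card_filter, Fintype.sum_prod_type] at hk
  simp only [Fintype.sum_prod_type] at hk
  have hsum : ∑ a : Fˣ, ∑ b : F, ∑ c : Fˣ, ∑ d : F,
      (if d * ((a : F) - ((a⁻¹ : Fˣ) : F)) = b * ((c : F) - ((c⁻¹ : Fˣ) : F)) then 1 else 0 : ℕ)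
      = Fintype.card Fˣ * Fintype.card F * (Fintype.card Fˣ + 4) := by
    have h1 : ∀ a : Fˣ, ∑ b : F, ∑ c : Fˣ, ∑ d : F,
        (if d * ((a : F) - ((a⁻¹ : Fˣ) : F)) = b * ((c : F) - ((c⁻¹ : Fˣ) : F)) then 1 else 0 : ℕ)
        = ∑ c : Fˣ, (if (a : F) - ((a⁻¹ : Fˣ) : F) = 0 ∧ (c : F) - ((c⁻¹ : Fˣ) : F) = 0
            then Fintype.card F * Fintype.card F else Fintype.card F) := by
      intro a
      rw [Finset.sum_comm]
      refine Finset.sum_congr rfl fun c _ => ?_
      exact count_line _ _
    rw [Finset.sum_congr rfl fun a _ => h1 a]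
    have hq : Fintype.card F = Fintype.card Fˣ + 1 := by
      rw [Fintype.card_units]
      have : 0 < Fintype.card F := Fintype.card_pos
      omega
    have h3 : ∀ a c : Fˣ, (if (a : F) - ((a⁻¹ : Fˣ) : F) = 0 ∧ (c : F) - ((c⁻¹ : Fˣ) : F) = 0
            then Fintype.card F * Fintype.card F else Fintype.card F)
        = Fintype.card F + Fintype.card F * Fintype.card Fˣ *
          ((if (a : F) - ((a⁻¹ : Fˣ) : F) = 0 then 1 else 0) *
            (if (c : F) - ((c⁻¹ : Fˣ) : F) = 0 then 1 else 0)) := by
      intro a c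
      by_cases ha : (a : F) - ((a⁻¹ : Fˣ) : F) = 0
      · by_cases hc : (c : F) - ((c⁻¹ : Fˣ) : F) = 0
        · rw [if_pos ⟨ha, hc⟩, if_pos ha, if_pos hc]
          rw [hq]
          ring
        · rw [if_neg (fun h => hc h.2), if_neg hc, mul_zero, mul_zero, add_zero]
      · rw [if_neg (fun h => ha h.1), if_neg ha, zero_mul, mul_zero, add_zero]
    simp only [h3]
    simp only [Finset.sum_add_distrib, Finset.sum_const, Finset.card_univ, smul_eq_mul,
      ← Finset.mul_sum, ← Finset.sum_mul]
    rw [card_sub_inv_eq_zero h2, hq]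
    ring
  rw [hsum] at hk
  have hpos : 0 < Fintype.card Fˣ * Fintype.card F :=
    Nat.mul_pos Fintype.card_pos Fintype.card_pos
  have hfin : Nat.card (ConjClasses ((Cfsg.upperTriangularGL 2 F).comap
      (SpecialLinearGroup.toGL : SpecialLinearGroup (Fin 2) F →* GL (Fin 2) F)))
      = Fintype.card Fˣ + 4 := by
    have : (Fintype.card Fˣ * Fintype.card F) * (Fintype.card Fˣ + 4)
        = (Fintype.card Fˣ * Fintype.card F) * Nat.card (ConjClasses
          ((Cfsg.upperTriangularGL 2 F).comap
      (SpecialLinearGroup.toGL : SpecialLinearGroup (Fin 2) F →* GL (Fin 2) F))) := by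
      rw [hk]
      ring
    exact (Nat.eq_of_mul_eq_mul_left hpos this).symm
  rw [hfin, Fintype.card_units]
  have : 0 < Fintype.card F := Fintype.card_pos
  omega

end Cfsg.Agent.S2437
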