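import Cfsg.Statements.S2431
import Cfsg.Agent.Lib.Helper5.SL2Nonsplit
import Cfsg.Agent.Lib.Helper5.SL2TorusNorm
import Cfsg.Agent.Lib.Helper5.SL2Odd

set_option autoImplicit false
open Cfsg

namespace Cfsg.Agent.S2431


open Matrix Cfsg.Agent.Lib.Helper5

section base
variable {F : Type*} [Field F] [Fintype F] [DecidableEq F]

/-- An element of order `q - 1` (with `q ≥ 5`) is split regular. -/
theorem split_of_orderOf (hq5 : 5 ≤ Fintype.card F) (h2 : (2 : F) ≠ 0)
    (g : SpecialLinearGroup (Fin 2) F) (hg : orderOf g = Fintype.card F - 1) :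
    (g : Matrix (Fin 2) (Fin 2) F).trace ^ 2 ≠ 4 ∧
      Nat.card (Subgroup.centralizer ({g} : Set (SpecialLinearGroup (Fin 2) F)))
        = Fintype.card F - 1 := by
  have hns : ¬ ∃ c : F, (g : Matrix (Fin 2) (Fin 2) F) = c • (1 : Matrix (Fin 2) (Fin 2) F) := by
    rintro ⟨c, hc⟩
    have hc2 := (sq_eq_four_of_scalar g c hc).2
    have hgg : g ^ 2 = 1 := by
      apply Subtype.ext
      rw [sq]
      show (g : Matrix (Fin 2) (Fin 2) F) * (g : Matrix (Fin 2) (Fin 2) F) = 1
      rw [hc, Matrix.smul_mul, Matrix.one_mul, smul_smul, ← sq, hc2, one_smul]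
    have := orderOf_dvd_of_pow_eq_one hgg
    rw [hg] at this
    have := Nat.le_of_dvd (by norm_num) this
    omega
  have hdvd : Fintype.card F - 1 ∣
      Nat.card (Subgroup.centralizer ({g} : Set (SpecialLinearGroup (Fin 2) F))) := by
    rw [← hg]
    exact orderOf_dvd_of_pow_eq_one (pow_card_centralizer_eq_one g)
  have hpos : 0 < Nat.card (Subgroup.centralizer ({g} : Set (SpecialLinearGroup (Fin 2) F))) :=
    Nat.card_pos
  have hkey : ∀ k, Fintype.card F - 1 ∣ k → k ≤ Fintype.card F + 1 → 0 < k →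
      k = Fintype.card F - 1 := by
    intro k ⟨j, hj⟩ hk hk0
    have hj1 : j = 1 := by
      rcases j with _ | _ | j
      · simp at hj; omega
      · rfl
      · exfalso
        have : (Fintype.card F - 1) * 2 ≤ (Fintype.card F - 1) * (j + 1 + 1) :=
          Nat.mul_le_mul_left _ (by omega)
        omega
    rw [hj, hj1, mul_one]
  by_cases ht : (g : Matrix (Fin 2) (Fin 2) F).trace ^ 2 = 4
  · exfalso
    have h := card_centralizer_special g hns ht
    rw [if_neg h2] at h
    rw [h] at hdvd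
    have hcop : Nat.Coprime (Fintype.card F - 1) (Fintype.card F) := by
      have : Fintype.card F = (Fintype.card F - 1) + 1 := by omega
      rw [this]
      simp
    have h3 : Fintype.card F - 1 ∣ 2 := (Nat.Coprime.dvd_mul_right hcop).1 hdvd
    have := Nat.le_of_dvd (by norm_num) h3
    omega
  · refine ⟨ht, ?_⟩
    have h := card_centralizer_generic g ht
    exact hkey _ hdvd (by omega) hpos

/-- the base element: a regular semisimple element whose order is divisible by `4` -/
theorem exists_base (hodd : Odd (Fintype.card F)) :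
    ∃ g₀ : SpecialLinearGroup (Fin 2) F, (g₀ : Matrix (Fin 2) (Fin 2) F).trace ^ 2 ≠ 4 ∧
      Nat.card (Subgroup.centralizer ({g₀} : Set (SpecialLinearGroup (Fin 2) F))) = orderOf g₀ ∧
      ((Fintype.card F % 4 = 1 ∧ orderOf g₀ = Fintype.card F - 1) ∨
        (Fintype.card F % 4 = 3 ∧ orderOf g₀ = Fintype.card F + 1)) := by
  have h2 : (2 : F) ≠ 0 := two_ne_zero_of_odd hodd
  have h3 := three_le_card_of_odd hodd
  obtain ⟨k, hk⟩ := hodd
  have h4 : Fintype.card F % 4 = 1 ∨ Fintype.card F % 4 = 3 := by omega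
  rcases h4 with h4 | h4
  · obtain ⟨g₀, hg₀⟩ := exists_orderOf_eq_card_sub_one (F := F)
    have hq5 : 5 ≤ Fintype.card F := by omega
    obtain ⟨ht, hc⟩ := split_of_orderOf hq5 h2 g₀ hg₀
    exact ⟨g₀, ht, by rw [hc, hg₀], Or.inl ⟨h4, hg₀⟩⟩
  · have hp : (ringChar F).Prime := CharP.char_is_prime F (ringChar F)
    haveI : Fact (ringChar F).Prime := ⟨hp⟩
    obtain ⟨g₀, hg₀⟩ := exists_orderOf_eq_card_add_one (F := F) (ringChar F)
    obtain ⟨-, ht, -, hc⟩ := nonsplit_of_orderOf g₀ hg₀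
    exact ⟨g₀, ht, by rw [hc, hg₀], Or.inr ⟨h4, hg₀⟩⟩

end base

theorem pow_four_eq {G : Type*} [Monoid G] (y : G) : y ^ 4 = (y * y) * (y * y) := by
  rw [show 4 = 2 + 2 from rfl, pow_add, pow_two]

theorem orderOf_conj'' {G : Type*} [Group G] (c g : G) : orderOf (c * g * c⁻¹) = orderOf g := by
  have := orderOf_injective (MulAut.conj c).toMonoidHom (MulAut.conj c).injective g
  simpa using this

section torus
variable {F : Type*} [Field F] [Fintype F] [DecidableEq F]

theorem fact_two_of_mod (n : ℕ) (h : n % 4 = 2) : n.factorization 2 = 1 := by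
  obtain ⟨m, hm⟩ : ∃ m, n = 2 * m := ⟨n / 2, by omega⟩
  have hmo : ¬ 2 ∣ m := by omega
  have hm0 : m ≠ 0 := by omega
  rw [hm, Nat.factorization_mul (by norm_num) hm0]
  simp only [Finsupp.coe_add, Pi.add_apply]
  rw [Nat.Prime.factorization_self Nat.prime_two, Nat.factorization_eq_zero_of_not_dvd hmo]

theorem fact_two_card (hodd : Odd (Fintype.card F)) (n : ℕ)
    (hn : (Fintype.card F % 4 = 1 ∧ n = Fintype.card F - 1) ∨
        (Fintype.card F % 4 = 3 ∧ n = Fintype.card F + 1)) :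
    (Nat.card (SpecialLinearGroup (Fin 2) F)).factorization 2 = n.factorization 2 + 1 := by
  have h3 := three_le_card_of_odd hodd
  have hq2 : ¬ 2 ∣ Fintype.card F := by
    obtain ⟨k, hk⟩ := hodd; omega
  rw [card_SL2, Nat.factorization_mul (Nat.mul_ne_zero (by omega) (by omega)) (by omega),
    Nat.factorization_mul (by omega) (by omega)]
  simp only [Finsupp.coe_add, Pi.add_apply]
  rw [Nat.factorization_eq_zero_of_not_dvd hq2]
  rcases hn with ⟨h4, rfl⟩ | ⟨h4, rfl⟩
  · rw [fact_two_of_mod (Fintype.card F + 1) (by omega)]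
    omega
  · rw [fact_two_of_mod (Fintype.card F - 1) (by omega)]
    omega

theorem exists_torus (hodd : Odd (Fintype.card F))
    (S : Sylow 2 (SpecialLinearGroup (Fin 2) F)) :
    ∃ g₀ : SpecialLinearGroup (Fin 2) F, (g₀ : Matrix (Fin 2) (Fin 2) F).trace ^ 2 ≠ 4 ∧
      Nat.card (Subgroup.centralizer ({g₀} : Set (SpecialLinearGroup (Fin 2) F))) = orderOf g₀ ∧
      ((Fintype.card F % 4 = 1 ∧ orderOf g₀ = Fintype.card F - 1) ∨
        (Fintype.card F % 4 = 3 ∧ orderOf g₀ = Fintype.card F + 1)) ∧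
      (∀ s ∈ (S : Subgroup (SpecialLinearGroup (Fin 2) F)),
        s * g₀ * s⁻¹ = g₀ ∨ s * g₀ * s⁻¹ = g₀⁻¹) := by
  have h2 : (2 : F) ≠ 0 := two_ne_zero_of_odd hodd
  obtain ⟨g, ht, hc, hn⟩ := exists_base hodd
  set T := Subgroup.centralizer ({g} : Set (SpecialLinearGroup (Fin 2) F)) with hT
  set N := Subgroup.normalizer ((T : Subgroup (SpecialLinearGroup (Fin 2) F)) :
    Set (SpecialLinearGroup (Fin 2) F)) with hN
  have hNc : Nat.card N = 2 * orderOf g := by
    rw [hN, hT, card_normalizer_centralizer h2 g ht, hc]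
  have hpos : orderOf g ≠ 0 := (orderOf_pos g).ne'
  obtain P : Sylow 2 N := default
  have hP : Nat.card (P : Subgroup N) = 2 ^ ((orderOf g).factorization 2 + 1) := by
    rw [Sylow.card_eq_multiplicity, hNc, Nat.factorization_mul (by norm_num) hpos]
    simp only [Finsupp.coe_add, Pi.add_apply]
    rw [Nat.Prime.factorization_self Nat.prime_two, add_comm]
  set Q₀ : Subgroup (SpecialLinearGroup (Fin 2) F) := (P : Subgroup N).map N.subtype with hQ₀
  have hQ₀c : Nat.card Q₀ = 2 ^ (Nat.card (SpecialLinearGroup (Fin 2) F)).factorization 2 := by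
    rw [fact_two_card hodd (orderOf g) hn, ← hP, hQ₀]
    exact Subgroup.card_map_of_injective N.subtype_injective
  set Q : Sylow 2 (SpecialLinearGroup (Fin 2) F) := Sylow.ofCard Q₀ hQ₀c with hQ
  obtain ⟨c, hcQ⟩ := MulAction.exists_smul_eq (SpecialLinearGroup (Fin 2) F) Q S
  refine ⟨c * g * c⁻¹, ?_, ?_, ?_, ?_⟩
  · rw [Cfsg.Agent.Lib.Helper5.trace_conj]; exact ht
  · rw [orderOf_conj'', ← hc]
    have ht' : ((c * g * c⁻¹ : SpecialLinearGroup (Fin 2) F) :
        Matrix (Fin 2) (Fin 2) F).trace ^ 2 ≠ 4 := by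
      rw [Cfsg.Agent.Lib.Helper5.trace_conj]; exact ht
    have e1 := card_centralizer_generic (c * g * c⁻¹) ht'
    have e2 := card_centralizer_generic g ht
    rw [Cfsg.Agent.Lib.Helper5.trace_conj] at e1
    exact Nat.add_right_cancel (e1.trans e2.symm)
  · rw [orderOf_conj'']; exact hn
  · intro s hs
    rw [← hcQ, Sylow.coe_subgroup_smul, Subgroup.mem_smul_pointwise_iff_exists] at hs
    obtain ⟨u, hu, rfl⟩ := hs
    have hu' : u ∈ Q₀ := hu
    rw [hQ₀, Subgroup.mem_map] at hu'
    obtain ⟨v, -, rfl⟩ := hu'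
    have hv : (v : SpecialLinearGroup (Fin 2) F) ∈ Subgroup.normalizer
      ((Subgroup.centralizer ({g} : Set (SpecialLinearGroup (Fin 2) F)) :
        Subgroup (SpecialLinearGroup (Fin 2) F)) : Set (SpecialLinearGroup (Fin 2) F)) := v.2
    rw [mem_normalizer_iff_conj h2 g ht] at hv
    rw [MulAut.smul_def, MulAut.conj_apply]
    rcases hv with hv | hv
    · left
      calc c * (N.subtype v) * c⁻¹ * (c * g * c⁻¹) * (c * (N.subtype v) * c⁻¹)⁻¹
          = c * ((N.subtype v) * g * (N.subtype v)⁻¹) * c⁻¹ := by group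
        _ = c * g * c⁻¹ := by rw [show (N.subtype v) = (v : SpecialLinearGroup (Fin 2) F) from rfl, hv]
    · right
      calc c * (N.subtype v) * c⁻¹ * (c * g * c⁻¹) * (c * (N.subtype v) * c⁻¹)⁻¹
          = c * ((N.subtype v) * g * (N.subtype v)⁻¹) * c⁻¹ := by group
        _ = c * g⁻¹ * c⁻¹ := by rw [show (N.subtype v) = (v : SpecialLinearGroup (Fin 2) F) from rfl, hv]
        _ = (c * g * c⁻¹)⁻¹ := by group

end torus

section struct
variable {F : Type*} [Field F] [Fintype F] [DecidableEq F]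

local notation "G" => SpecialLinearGroup (Fin 2) F

theorem struct_facts (h2 : (2 : F) ≠ 0) (S : Sylow 2 G) (g₀ : G)
    (ht : (g₀ : Matrix (Fin 2) (Fin 2) F).trace ^ 2 ≠ 4)
    (hc : Nat.card (Subgroup.centralizer ({g₀} : Set G)) = orderOf g₀)
    (hS : Nat.card (S : Subgroup G) = 2 ^ ((orderOf g₀).factorization 2 + 1))
    (hinv : ∀ s ∈ (S : Subgroup G), s * g₀ * s⁻¹ = g₀ ∨ s * g₀ * s⁻¹ = g₀⁻¹) :
    Nat.card (Subgroup.centralizer ({g₀} : Set G) ⊓ (S : Subgroup G) : Subgroup G) =
        2 ^ ((orderOf g₀).factorization 2) ∧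
      (∃ w ∈ (S : Subgroup G), w ∉ Subgroup.centralizer ({g₀} : Set G)) ∧
      (∀ t ∈ Subgroup.centralizer ({g₀} : Set G), t ^ (2 ^ ((orderOf g₀).factorization 2)) = 1 →
        t ∈ (S : Subgroup G)) := by
  classical
  set T := Subgroup.centralizer ({g₀} : Set G) with hT
  set N := Subgroup.normalizer ((T : Subgroup G) : Set G) with hN
  set a := (orderOf g₀).factorization 2 with ha
  set R := T ⊓ (S : Subgroup G) with hR
  have hpos : orderOf g₀ ≠ 0 := (orderOf_pos g₀).ne'
  have hSN : (S : Subgroup G) ≤ N := by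
    intro s hs
    rw [hN, hT, mem_normalizer_iff_conj h2 g₀ ht]
    exact hinv s hs
  have hRT : R ≤ T := inf_le_left
  have hRS : R ≤ (S : Subgroup G) := inf_le_right
  -- the order of `R`
  obtain ⟨k, hk1, hk⟩ : ∃ k ≤ a + 1, Nat.card R = 2 ^ k := by
    have := Subgroup.card_dvd_of_le hRS
    rw [hS] at this
    exact (Nat.dvd_prime_pow Nat.prime_two).1 this
  have hka : k ≤ a := by
    have := Subgroup.card_dvd_of_le hRT
    rw [hk, hc] at this
    exact (Nat.Prime.pow_dvd_iff_le_factorization Nat.prime_two hpos).1 this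
  have hidx : T.relIndex (S : Subgroup G) ≤ 2 := by
    have h1 := relIndex_centralizer_normalizer h2 g₀ ht
    have := Subgroup.relIndex_le_of_le_right (H := T) hSN (by rw [hN, hT, h1]; norm_num)
    rw [hN, hT, h1] at this
    exact this
  have hcard : Nat.card R * T.relIndex (S : Subgroup G) = Nat.card (S : Subgroup G) := by
    have := Subgroup.card_mul_index (R.subgroupOf (S : Subgroup G))
    rw [Nat.card_congr (Subgroup.subgroupOfEquivOfLe hRS).toEquiv] at this
    rw [← this]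
    congr 1
    exact (Subgroup.inf_relIndex_right T (S : Subgroup G)).symm
  rw [hk, hS] at hcard
  have hk' : k = a := by
    by_contra hne
    have hlt : k + 1 ≤ a := by omega
    have h1 : 2 ^ k * T.relIndex (S : Subgroup G) ≤ 2 ^ k * 2 := Nat.mul_le_mul_left _ hidx
    have h3 : 2 ^ (k + 1) ≤ 2 ^ a := Nat.pow_le_pow_right (by norm_num) hlt
    have h4 : 2 ^ (a + 1) = 2 ^ a * 2 := pow_succ 2 a
    have h5 : 2 ^ (k + 1) = 2 ^ k * 2 := pow_succ 2 k
    have h6 : 0 < 2 ^ a := by positivity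
    omega
  have hRc : Nat.card R = 2 ^ a := by rw [hk, hk']
  refine ⟨hRc, ?_, ?_⟩
  · by_contra hcon
    push Not at hcon
    have : (S : Subgroup G) ≤ T := hcon
    have h1 := Subgroup.card_dvd_of_le this
    rw [hS, hc] at h1
    have := (Nat.Prime.pow_dvd_iff_le_factorization Nat.prime_two hpos).1 h1
    omega
  · intro t htT hpow
    have hg₀T : g₀ ∈ T := by rw [hT, Subgroup.mem_centralizer_singleton_iff]
    haveI : IsCyclic T := by
      apply isCyclic_of_orderOf_eq_card (⟨g₀, hg₀T⟩ : T)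
      rw [hc]
      exact (Subgroup.orderOf_mk g₀ hg₀T)
    have hle := IsCyclic.card_pow_eq_one_le (α := T) (n := 2 ^ a) (by positivity)
    set A := (Finset.univ.filter (fun x : T => x ^ (2 ^ a) = 1)) with hA
    set B := (Finset.univ.filter (fun x : T => (x : G) ∈ R)) with hB
    have hBA : B ⊆ A := by
      intro x hx
      rw [hB, Finset.mem_filter] at hx
      rw [hA, Finset.mem_filter]
      refine ⟨Finset.mem_univ _, ?_⟩
      have := @pow_card_eq_one' R _ ⟨(x : G), hx.2⟩
      rw [hRc] at this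
      apply Subtype.ext
      have h3 := congrArg (fun z : R => (z : G)) this
      exact h3
    have hBc : B.card = 2 ^ a := by
      rw [← hRc, ← Nat.card_congr (Subgroup.subgroupOfEquivOfLe hRT).toEquiv,
        Nat.card_eq_fintype_card, hB, ← Fintype.card_subtype]
      rfl
    have hAB : A = B := (Finset.eq_of_subset_of_card_le hBA (by rw [hBc]; exact hle)).symm
    have : (⟨t, htT⟩ : T) ∈ A := by
      rw [hA, Finset.mem_filter]
      refine ⟨Finset.mem_univ _, ?_⟩
      apply Subtype.ext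
      exact hpow
    rw [hAB, hB, Finset.mem_filter] at this
    exact hRS this.2

end struct

section parts
variable {F : Type*} [Field F] [Fintype F] [DecidableEq F]

local notation "G" => SpecialLinearGroup (Fin 2) F

omit [Fintype F] [DecidableEq F] in
theorem mul_self_of_scalar (y : G)
    (h : ∃ c : F, (y : Matrix (Fin 2) (Fin 2) F) = c • (1 : Matrix (Fin 2) (Fin 2) F)) :
    y * y = 1 := by
  obtain ⟨c, hc⟩ := h
  have hc2 := (sq_eq_four_of_scalar y c hc).2
  apply Subtype.ext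
  show (y : Matrix (Fin 2) (Fin 2) F) * (y : Matrix (Fin 2) (Fin 2) F) = 1
  rw [hc, Matrix.smul_mul, Matrix.one_mul, smul_smul, ← sq, hc2, one_smul]

omit [Fintype F] [DecidableEq F] in
theorem exists_nonscalar [Finite F] (h2 : (2 : F) ≠ 0) (R : Subgroup G) (hR : 2 < Nat.card R) :
    ∃ y ∈ R, y * y ≠ 1 := by
  by_contra hcon
  push Not at hcon
  have hsub : (R : Set G) ⊆ {1, negOneSL} := by
    intro y hy
    rcases eq_one_or_negOne_of_mul_self h2 y (hcon y hy) with h | h
    · left; exact h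
    · right; exact h
  have h1 : Nat.card R = (R : Set G).ncard := (Nat.card_coe_set_eq _)
  have h3 := Set.ncard_le_ncard hsub (Set.toFinite _)
  have h4 : ({1, negOneSL} : Set G).ncard ≤ 2 := by
    have := Set.ncard_insert_le (1 : G) {negOneSL}
    rw [Set.ncard_singleton] at this
    exact this
  omega

/-- an element of `N(S)` normalising the torus lies in `S` -/
theorem mem_of_normalizes (S : Sylow 2 G) (g₀ : G)
    (hns : ¬ ∃ c : F, (g₀ : Matrix (Fin 2) (Fin 2) F) = c • (1 : Matrix (Fin 2) (Fin 2) F))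
    (hc : Nat.card (Subgroup.centralizer ({g₀} : Set G)) = orderOf g₀)
    (hRc : Nat.card (Subgroup.centralizer ({g₀} : Set G) ⊓ (S : Subgroup G) : Subgroup G) =
        2 ^ ((orderOf g₀).factorization 2))
    (w : G) (hwS : w ∈ (S : Subgroup G)) (hwinv : w * g₀ * w⁻¹ = g₀⁻¹)
    (hpowS : ∀ t ∈ Subgroup.centralizer ({g₀} : Set G),
      t ^ (2 ^ ((orderOf g₀).factorization 2)) = 1 → t ∈ (S : Subgroup G))
    (h : G) (hh : h ∈ Subgroup.normalizer ((S : Subgroup G) : Set G))
    (hcase : h * g₀ * h⁻¹ = g₀ ∨ h * g₀ * h⁻¹ = g₀⁻¹) : h ∈ (S : Subgroup G) := by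
  set T := Subgroup.centralizer ({g₀} : Set G) with hT
  set a := (orderOf g₀).factorization 2 with ha
  have hpos : orderOf g₀ ≠ 0 := (orderOf_pos g₀).ne'
  have key : ∀ h : G, h ∈ Subgroup.normalizer ((S : Subgroup G) : Set G) → h ∈ T →
      h ∈ (S : Subgroup G) := by
    intro h hh hhT
    have h1 : h * w * h⁻¹ ∈ (S : Subgroup G) := (Subgroup.mem_normalizer_iff.1 hh w).1 hwS
    have h3 : w * h⁻¹ * w⁻¹ = h := by
      have := conj_eq_inv_of_inverting w g₀ hns hwinv h⁻¹ (inv_mem hhT)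
      rw [this, inv_inv]
    have h4 : h * h ∈ (S : Subgroup G) := by
      have e : h * h = (h * w * h⁻¹) * w⁻¹ := by
        nth_rewrite 2 [← h3]
        group
      rw [e]
      exact mul_mem h1 (inv_mem hwS)
    have h5 : h * h ∈ T ⊓ (S : Subgroup G) := ⟨mul_mem hhT hhT, h4⟩
    have h6 : (h * h) ^ (2 ^ a) = 1 := by
      have := @pow_card_eq_one' (T ⊓ (S : Subgroup G) : Subgroup G) _ ⟨h * h, h5⟩
      rw [hRc] at this
      exact congrArg (fun z : (T ⊓ (S : Subgroup G) : Subgroup G) => (z : G)) this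
    have h7 : h ^ (2 ^ a * 2) = 1 := by
      rw [mul_comm, pow_mul, sq]; exact h6
    have h8 : h ^ (orderOf g₀) = 1 := by
      have := @pow_card_eq_one' T _ ⟨h, hhT⟩
      rw [hc] at this
      exact congrArg (fun z : T => (z : G)) this
    have h9 := pow_gcd_eq_one.2 ⟨h7, h8⟩
    have h10 : Nat.gcd (2 ^ a * 2) (orderOf g₀) = 2 ^ a := by
      have e1 := Nat.ordProj_mul_ordCompl_eq_self (orderOf g₀) 2
      have e2 := Nat.not_dvd_ordCompl Nat.prime_two hpos
      rw [← ha] at e1 e2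
      have e3 : Nat.gcd (2 ^ a * 2) (2 ^ a * (orderOf g₀ / 2 ^ a)) = 2 ^ a := by
        rw [Nat.gcd_mul_left]
        have : Nat.gcd 2 (orderOf g₀ / 2 ^ a) = 1 := by
          rw [← Nat.coprime_iff_gcd_eq_one, Nat.Prime.coprime_iff_not_dvd Nat.prime_two]
          exact e2
        rw [this, mul_one]
      rw [e1] at e3
      exact e3
    rw [h10] at h9
    exact hpowS h hhT h9
  rcases hcase with hcase | hcase
  · apply key h hh
    rw [hT, Subgroup.mem_centralizer_singleton_iff]
    calc h * g₀ = (h * g₀ * h⁻¹) * h := by group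
      _ = g₀ * h := by rw [hcase]
  · have hwN : w⁻¹ ∈ Subgroup.normalizer ((S : Subgroup G) : Set G) :=
      Subgroup.le_normalizer (inv_mem hwS)
    have h1 : h * w⁻¹ ∈ (S : Subgroup G) := by
      apply key _ (mul_mem hh hwN)
      rw [hT, Subgroup.mem_centralizer_singleton_iff]
      have e0 : w * g₀⁻¹ * w⁻¹ = g₀ := by
        calc w * g₀⁻¹ * w⁻¹ = (w * g₀ * w⁻¹)⁻¹ := by group
          _ = g₀ := by rw [hwinv, inv_inv]
      have e1 : w⁻¹ * g₀ * w = g₀⁻¹ := by
        calc w⁻¹ * g₀ * w = w⁻¹ * (w * g₀⁻¹ * w⁻¹) * w := by rw [e0]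
          _ = g₀⁻¹ := by group
      calc h * w⁻¹ * g₀ = h * (w⁻¹ * g₀ * w) * w⁻¹ := by group
        _ = (h * g₀ * h⁻¹)⁻¹ * (h * w⁻¹) := by rw [e1]; group
        _ = g₀ * (h * w⁻¹) := by rw [hcase, inv_inv]
    have := mul_mem h1 hwS
    rwa [inv_mul_cancel_right] at this

end parts

section setup
variable {F : Type*} [Field F] [Fintype F] [DecidableEq F]

local notation "G" => SpecialLinearGroup (Fin 2) F

/-- the configuration: a Sylow `2`-subgroup inside the normaliser of a torus -/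
structure Setup (S : Sylow 2 G) (g₀ w : G) : Prop where
  h2 : (2 : F) ≠ 0
  ht : (g₀ : Matrix (Fin 2) (Fin 2) F).trace ^ 2 ≠ 4
  hc : Nat.card (Subgroup.centralizer ({g₀} : Set G)) = orderOf g₀
  hRc : Nat.card (Subgroup.centralizer ({g₀} : Set G) ⊓ (S : Subgroup G) : Subgroup G) =
        2 ^ ((orderOf g₀).factorization 2)
  hwS : w ∈ (S : Subgroup G)
  hwT : w ∉ Subgroup.centralizer ({g₀} : Set G)
  hinv : ∀ s ∈ (S : Subgroup G), s * g₀ * s⁻¹ = g₀ ∨ s * g₀ * s⁻¹ = g₀⁻¹
  hpowS : ∀ t ∈ Subgroup.centralizer ({g₀} : Set G),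
      t ^ (2 ^ ((orderOf g₀).factorization 2)) = 1 → t ∈ (S : Subgroup G)

variable {S : Sylow 2 (SpecialLinearGroup (Fin 2) F)} {g₀ w : SpecialLinearGroup (Fin 2) F}

theorem Setup.hns (H : Setup S g₀ w) :
    ¬ ∃ c : F, (g₀ : Matrix (Fin 2) (Fin 2) F) = c • (1 : Matrix (Fin 2) (Fin 2) F) :=
  not_scalar_of_sq_ne_four g₀ H.ht

theorem mem_centralizer_of_conj_eq {g h : G} (hc : h * g * h⁻¹ = g) :
    h ∈ Subgroup.centralizer ({g} : Set G) := by
  rw [Subgroup.mem_centralizer_singleton_iff]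
  calc h * g = (h * g * h⁻¹) * h := by group
    _ = g * h := by rw [hc]

theorem Setup.hwinv (H : Setup S g₀ w) : w * g₀ * w⁻¹ = g₀⁻¹ := by
  rcases H.hinv w H.hwS with h | h
  · exact absurd (mem_centralizer_of_conj_eq h) H.hwT
  · exact h

theorem Setup.le_normalizer (H : Setup S g₀ w) :
    (S : Subgroup G) ≤ Subgroup.normalizer
      ((Subgroup.centralizer ({g₀} : Set G) : Subgroup G) : Set G) := by
  intro s hs
  rw [mem_normalizer_iff_conj H.h2 g₀ H.ht]
  exact H.hinv s hs

theorem Setup.mem_of_normalizes (H : Setup S g₀ w) (h : G)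
    (hh : h ∈ Subgroup.normalizer ((S : Subgroup G) : Set G))
    (hcase : h * g₀ * h⁻¹ = g₀ ∨ h * g₀ * h⁻¹ = g₀⁻¹) : h ∈ (S : Subgroup G) :=
  Cfsg.Agent.S2431.mem_of_normalizes S g₀ H.hns H.hc H.hRc w H.hwS H.hwinv H.hpowS h hh hcase

omit [Fintype F] [DecidableEq F] in
theorem conj_mul_self (h x : G) : (h * x * h⁻¹) * (h * x * h⁻¹) = h * (x * x) * h⁻¹ := by group

theorem Setup.mem_of_conj_torus (H : Setup S g₀ w) (h : G)
    (hh : h ∈ Subgroup.normalizer ((S : Subgroup G) : Set G))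
    (x : G) (hxT : x ∈ Subgroup.centralizer ({g₀} : Set G)) (hxx : x * x ≠ 1)
    (hx' : h * x * h⁻¹ ∈ Subgroup.centralizer ({g₀} : Set G)) : h ∈ (S : Subgroup G) := by
  have hnsx : ¬ ∃ r : F, (x : Matrix (Fin 2) (Fin 2) F) = r • (1 : Matrix (Fin 2) (Fin 2) F) :=
    fun hs => hxx (mul_self_of_scalar x hs)
  have hnsx' : ¬ ∃ r : F, ((h * x * h⁻¹ : G) : Matrix (Fin 2) (Fin 2) F) =
      r • (1 : Matrix (Fin 2) (Fin 2) F) := by
    intro hs
    have := mul_self_of_scalar _ hs
    rw [conj_mul_self] at this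
    apply hxx
    calc x * x = h⁻¹ * (h * (x * x) * h⁻¹) * h := by group
      _ = 1 := by rw [this]; group
  have hC' := centralizer_eq_of_mem_span g₀ (h * x * h⁻¹) hx' H.hns hnsx'
  have hmem : h * g₀ * h⁻¹ ∈ Subgroup.centralizer ({g₀} : Set G) := by
    rw [← hC', Subgroup.mem_centralizer_singleton_iff]
    have e : x * g₀ = g₀ * x := Subgroup.mem_centralizer_singleton_iff.1 hxT
    calc h * g₀ * h⁻¹ * (h * x * h⁻¹) = h * (g₀ * x) * h⁻¹ := by group
      _ = h * (x * g₀) * h⁻¹ := by rw [e]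
      _ = h * x * h⁻¹ * (h * g₀ * h⁻¹) := by group
  apply H.mem_of_normalizes h hh
  exact eq_or_eq_inv_of_trace_eq H.h2 g₀ H.ht _ hmem (Cfsg.Agent.Lib.Helper5.trace_conj h g₀)

/-- part 1: the centraliser of `S` is the centre -/
theorem Setup.part1 (H : Setup S g₀ w) (ha : 4 ∣ orderOf g₀) :
    Subgroup.centralizer ((S : Subgroup G) : Set G) = Subgroup.center G := by
  have hpos : orderOf g₀ ≠ 0 := (orderOf_pos g₀).ne'
  have ha2 : 2 ≤ (orderOf g₀).factorization 2 := by
    have : 2 ^ 2 ∣ orderOf g₀ := ha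
    exact (Nat.Prime.pow_dvd_iff_le_factorization Nat.prime_two hpos).1 this
  apply le_antisymm
  · intro c hc
    obtain ⟨y, hy, hyy⟩ := exists_nonscalar H.h2
      (Subgroup.centralizer ({g₀} : Set G) ⊓ (S : Subgroup G)) (by
        rw [H.hRc]
        calc 2 < 2 ^ 2 := by norm_num
          _ ≤ 2 ^ (orderOf g₀).factorization 2 := Nat.pow_le_pow_right (by norm_num) ha2)
    have hnsy : ¬ ∃ r : F, (y : Matrix (Fin 2) (Fin 2) F) = r • (1 : Matrix (Fin 2) (Fin 2) F) :=
      fun hs => hyy (mul_self_of_scalar y hs)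
    have hCy := centralizer_eq_of_mem_span g₀ y hy.1 H.hns hnsy
    have hcT : c ∈ Subgroup.centralizer ({g₀} : Set G) := by
      rw [← hCy, Subgroup.mem_centralizer_singleton_iff]
      exact (Subgroup.mem_centralizer_iff.1 hc y hy.2).symm
    have h1 := conj_eq_inv_of_inverting w g₀ H.hns H.hwinv c hcT
    have h3 : w * c = c * w := Subgroup.mem_centralizer_iff.1 hc w H.hwS
    have h4 : c * c = 1 := by
      have : c = c⁻¹ := by
        rw [← h1, h3]; group
      calc c * c = c * c⁻¹ := by rw [← this]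
        _ = 1 := mul_inv_cancel c
    rw [Subgroup.mem_center_iff]
    rcases eq_one_or_negOne_of_mul_self H.h2 c h4 with rfl | rfl
    · intro g; rw [mul_one, one_mul]
    · intro g; exact negOneSL_commute g
  · exact Subgroup.center_le_centralizer _

end setup

section part2
variable {F : Type*} [Field F] [Fintype F] [DecidableEq F]

local notation "G" => SpecialLinearGroup (Fin 2) F

variable {S : Sylow 2 (SpecialLinearGroup (Fin 2) F)} {g₀ w : SpecialLinearGroup (Fin 2) F}

theorem Setup.exists_pow_four_ne (H : Setup S g₀ w) (h8 : 8 ∣ orderOf g₀) :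
    ∃ x ∈ (Subgroup.centralizer ({g₀} : Set G) ⊓ (S : Subgroup G) : Subgroup G), x ^ 4 ≠ 1 := by
  classical
  set T := Subgroup.centralizer ({g₀} : Set G) with hT
  set R := T ⊓ (S : Subgroup G) with hR
  have hRT : R ≤ T := inf_le_left
  have hpos : orderOf g₀ ≠ 0 := (orderOf_pos g₀).ne'
  have ha3 : 3 ≤ (orderOf g₀).factorization 2 := by
    have : 2 ^ 3 ∣ orderOf g₀ := h8
    exact (Nat.Prime.pow_dvd_iff_le_factorization Nat.prime_two hpos).1 this
  have hg₀T : g₀ ∈ T := by rw [hT, Subgroup.mem_centralizer_singleton_iff]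
  haveI : IsCyclic T := by
    apply isCyclic_of_orderOf_eq_card (⟨g₀, hg₀T⟩ : T)
    rw [H.hc]
    exact (Subgroup.orderOf_mk g₀ hg₀T)
  have hle := IsCyclic.card_pow_eq_one_le (α := T) (n := 4) (by norm_num)
  by_contra hcon
  push Not at hcon
  set A := (Finset.univ.filter (fun x : T => x ^ 4 = 1)) with hA
  set B := (Finset.univ.filter (fun x : T => (x : G) ∈ R)) with hB
  have hBA : B ⊆ A := by
    intro x hx
    rw [hB, Finset.mem_filter] at hx
    rw [hA, Finset.mem_filter]
    refine ⟨Finset.mem_univ _, ?_⟩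
    apply Subtype.ext
    exact hcon _ hx.2
  have hBc : B.card = 2 ^ (orderOf g₀).factorization 2 := by
    rw [← H.hRc, ← Nat.card_congr (Subgroup.subgroupOfEquivOfLe hRT).toEquiv,
      Nat.card_eq_fintype_card, hB, ← Fintype.card_subtype]
    rfl
  have h1 := Finset.card_le_card hBA
  rw [hBc] at h1
  have h3 : 2 ^ 3 ≤ 2 ^ (orderOf g₀).factorization 2 := Nat.pow_le_pow_right (by norm_num) ha3
  omega

theorem Setup.part2 (H : Setup S g₀ w) (h8 : 8 ∣ orderOf g₀) :
    Subgroup.normalizer ((S : Subgroup G) : Set G) = (S : Subgroup G) := by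
  apply le_antisymm
  · intro h hh
    obtain ⟨x, hx, hx4⟩ := H.exists_pow_four_ne h8
    have hxS : h * x * h⁻¹ ∈ (S : Subgroup G) := (Subgroup.mem_normalizer_iff.1 hh x).1 hx.2
    have hxx : x * x ≠ 1 := by
      intro h1
      apply hx4
      rw [pow_four_eq, h1, one_mul]
    have hx' : h * x * h⁻¹ ∈ Subgroup.centralizer ({g₀} : Set G) := by
      by_contra hnot
      have h1 := mul_self_eq_negOne_of_mem_normalizer H.h2 g₀ H.ht _ (H.le_normalizer hxS) hnot
      have h3 : (h * x * h⁻¹) ^ 4 = 1 := by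
        rw [pow_four_eq, h1, negOneSL_mul_self]
      rw [conj_pow] at h3
      apply hx4
      calc x ^ 4 = h⁻¹ * (h * x ^ 4 * h⁻¹) * h := by group
        _ = 1 := by rw [h3]; group
    exact H.mem_of_conj_torus h hh x hx.1 hxx hx'
  · exact Subgroup.le_normalizer

end part2

section omega
variable {F : Type*} [Field F]

local notation "G" => SpecialLinearGroup (Fin 2) F

theorem rel1 {A : Type*} [Ring A] (X W : A) (h1 : X * X = -1) (h2 : W * W = -1)
    (h3 : W * X = -(X * W)) : (1 + X) * (1 + W) * X = W * ((1 + X) * (1 + W)) := by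
  have e : (1 + X) * (1 + W) * X - W * ((1 + X) * (1 + W)) =
      (X * X + 1) + X * (W * X + X * W) - (X * X + 1) * W - (W * W + 1) - (W * X + X * W) * W
        + X * (W * W + 1) := by noncomm_ring
  have e1 : X * X + 1 = 0 := by rw [h1]; simp
  have e2 : W * W + 1 = 0 := by rw [h2]; simp
  have e3 : W * X + X * W = 0 := by rw [h3]; simp
  rw [e1, e2, e3] at e
  simp only [mul_zero, zero_mul, add_zero, sub_zero] at e
  exact sub_eq_zero.1 e

theorem rel2 {A : Type*} [Ring A] (X W : A) (h1 : X * X = -1)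
    (h3 : W * X = -(X * W)) : (1 + X) * (1 + W) * W = X * W * ((1 + X) * (1 + W)) := by
  have e : (1 + X) * (1 + W) * W - X * W * ((1 + X) * (1 + W)) =
      - (X * (W * X + X * W)) + (X * X + 1) * W - X * (W * X + X * W) * W
        + (X * X + 1) * W * W := by noncomm_ring
  have e1 : X * X + 1 = 0 := by rw [h1]; simp
  have e3 : W * X + X * W = 0 := by rw [h3]; simp
  rw [e1, e3] at e
  simp only [mul_zero, zero_mul, add_zero, neg_zero, sub_zero] at e
  exact sub_eq_zero.1 e

theorem det_one_add (x : G) (htr : (x : Matrix (Fin 2) (Fin 2) F).trace = 0) :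
    (1 + (x : Matrix (Fin 2) (Fin 2) F)).det = 2 := by
  have hd := x.det_coe
  rw [Matrix.det_fin_two] at hd
  rw [Matrix.trace_fin_two] at htr
  rw [Matrix.det_fin_two]
  simp only [Matrix.add_apply, Matrix.one_apply_eq, Matrix.one_apply_ne (show (0 : Fin 2) ≠ 1 by decide),
    Matrix.one_apply_ne (show (1 : Fin 2) ≠ 0 by decide)]
  linear_combination hd + htr

theorem negOneSL_coe : ((negOneSL : G) : Matrix (Fin 2) (Fin 2) F) = -1 := rfl

theorem trace_eq_zero_of_sq (x : G) (hx : x * x = negOneSL) :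
    (x : Matrix (Fin 2) (Fin 2) F).trace = 0 := by
  have h1 : (x : Matrix (Fin 2) (Fin 2) F) * (x : Matrix (Fin 2) (Fin 2) F) = -1 :=
    congrArg (fun z : G => (z : Matrix (Fin 2) (Fin 2) F)) hx
  have hCH := cayley_two_sl x
  rw [h1, neg_add_cancel] at hCH
  -- `tr x • x = 0`, multiply by `x`
  have h3 := congrArg (fun M => M * (x : Matrix (Fin 2) (Fin 2) F)) hCH
  simp only [zero_mul, Matrix.smul_mul, h1] at h3
  have h4 := congrFun (congrFun h3 0) 0
  simp only [Matrix.zero_apply, Matrix.smul_apply, Matrix.neg_apply, Matrix.one_apply_eq,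
    smul_eq_mul, mul_neg, mul_one] at h4
  have := neg_eq_zero.1 h4.symm
  exact this

/-- the element of order `6` normalising the quaternion group -/
theorem exists_omega (h2 : (2 : F) ≠ 0) (x w : G) (hx : x * x = negOneSL) (hw : w * w = negOneSL)
    (hwx : w * x = negOneSL * (x * w)) :
    ∃ ω : G, ω * x * ω⁻¹ = w ∧ ω * w * ω⁻¹ = x * w := by
  set X := (x : Matrix (Fin 2) (Fin 2) F) with hX
  set W := (w : Matrix (Fin 2) (Fin 2) F) with hW
  have h1 : X * X = -1 := congrArg (fun z : G => (z : Matrix (Fin 2) (Fin 2) F)) hx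
  have h1' : W * W = -1 := congrArg (fun z : G => (z : Matrix (Fin 2) (Fin 2) F)) hw
  have h3 : W * X = -(X * W) := by
    have := congrArg (fun z : G => (z : Matrix (Fin 2) (Fin 2) F)) hwx
    simp only [Matrix.SpecialLinearGroup.coe_mul, negOneSL_coe, neg_mul, one_mul] at this
    exact this
  have hdet : ((2 : F)⁻¹ • ((1 + X) * (1 + W))).det = 1 := by
    rw [Matrix.det_smul, Fintype.card_fin, Matrix.det_mul, det_one_add x (trace_eq_zero_of_sq x hx),
      det_one_add w (trace_eq_zero_of_sq w hw)]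
    field_simp
  refine ⟨mkSL2 _ hdet, ?_, ?_⟩
  · rw [mul_inv_eq_iff_eq_mul]
    apply Subtype.ext
    show ((2 : F)⁻¹ • ((1 + X) * (1 + W))) * X = W * ((2 : F)⁻¹ • ((1 + X) * (1 + W)))
    rw [Matrix.smul_mul, Matrix.mul_smul, rel1 X W h1 h1' h3]
  · rw [mul_inv_eq_iff_eq_mul]
    apply Subtype.ext
    show ((2 : F)⁻¹ • ((1 + X) * (1 + W))) * W = X * W * ((2 : F)⁻¹ • ((1 + X) * (1 + W)))
    rw [Matrix.smul_mul, Matrix.mul_smul, rel2 X W h1 h3]

end omega

section part3
variable {F : Type*} [Field F] [Fintype F] [DecidableEq F]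

local notation "G" => SpecialLinearGroup (Fin 2) F

variable {S : Sylow 2 (SpecialLinearGroup (Fin 2) F)} {g₀ w : SpecialLinearGroup (Fin 2) F}

theorem mem_of_both_invert {g s w : G} (hs : s * g * s⁻¹ = g⁻¹) (hw : w * g * w⁻¹ = g⁻¹) :
    s * w⁻¹ ∈ Subgroup.centralizer ({g} : Set G) := by
  apply mem_centralizer_of_conj_eq
  have e0 : w * g⁻¹ * w⁻¹ = g := by
    calc w * g⁻¹ * w⁻¹ = (w * g * w⁻¹)⁻¹ := by group
      _ = g := by rw [hw, inv_inv]
  have e1 : w⁻¹ * g * w = g⁻¹ := by
    calc w⁻¹ * g * w = w⁻¹ * (w * g⁻¹ * w⁻¹) * w := by rw [e0]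
      _ = g⁻¹ := by group
  calc s * w⁻¹ * g * (s * w⁻¹)⁻¹ = s * (w⁻¹ * g * w) * s⁻¹ := by group
    _ = (s * g * s⁻¹)⁻¹ := by rw [e1]; group
    _ = g := by rw [hs, inv_inv]

theorem card_eq_of_relIndex {G' : Type*} [Group G'] (H K : Subgroup G') (h : H ≤ K) :
    Nat.card H * H.relIndex K = Nat.card K := by
  have := Subgroup.card_mul_index (H.subgroupOf K)
  rw [Nat.card_congr (Subgroup.subgroupOfEquivOfLe h).toEquiv] at this
  exact this

theorem Setup.part3 (H : Setup S g₀ w) (ha : (orderOf g₀).factorization 2 = 2)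
    (hS : Nat.card (S : Subgroup G) = 8) :
    Nat.card (Subgroup.normalizer ((S : Subgroup G) : Set G)) = 3 * Nat.card (S : Subgroup G) := by
  classical
  set T := Subgroup.centralizer ({g₀} : Set G) with hT
  set z : G := negOneSL with hz
  have hRc : Nat.card (T ⊓ (S : Subgroup G) : Subgroup G) = 4 := by rw [H.hRc, ha]; norm_num
  obtain ⟨x, hx, hxx⟩ := exists_nonscalar H.h2 (T ⊓ (S : Subgroup G)) (by rw [hRc]; norm_num)
  have hxT : x ∈ T := hx.1
  have hxS : x ∈ (S : Subgroup G) := hx.2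
  have hzc : ∀ g : G, g * z = z * g := negOneSL_commute
  have hzz : z * z = 1 := negOneSL_mul_self
  -- elements of `R` have fourth power one
  have hR4 : ∀ r ∈ (T ⊓ (S : Subgroup G) : Subgroup G), (r * r) * (r * r) = 1 := by
    intro r hr
    have := @pow_card_eq_one' (T ⊓ (S : Subgroup G) : Subgroup G) _ ⟨r, hr⟩
    rw [hRc] at this
    have h3 := congrArg (fun y : (T ⊓ (S : Subgroup G) : Subgroup G) => (y : G)) this
    rw [← pow_four_eq]
    exact h3
  have hsq : ∀ r ∈ (T ⊓ (S : Subgroup G) : Subgroup G), r * r ≠ 1 → r * r = z := by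
    intro r hr hne
    rcases eq_one_or_negOne_of_mul_self H.h2 (r * r) (hR4 r hr) with h | h
    · exact absurd h hne
    · exact h
  have hxz : x * x = z := hsq x hx hxx
  have hwN := H.le_normalizer H.hwS
  have hwz : w * w = z := mul_self_eq_negOne_of_mem_normalizer H.h2 g₀ H.ht w hwN H.hwT
  have hwx : w * x * w⁻¹ = x⁻¹ := conj_eq_inv_of_inverting w g₀ H.hns H.hwinv x hxT
  have hxinv : x⁻¹ = z * x := by
    apply inv_eq_of_mul_eq_one_right
    rw [← mul_assoc, hzc x, mul_assoc, hxz, hzz]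
  have hwx' : w * x = z * (x * w) := by
    calc w * x = (w * x * w⁻¹) * w := by group
      _ = z * x * w := by rw [hwx, hxinv]
      _ = z * (x * w) := mul_assoc _ _ _
  obtain ⟨ω, hA, hB⟩ := exists_omega H.h2 x w hxz hwz hwx'
  have hzS : z ∈ (S : Subgroup G) := by rw [← hxz]; exact mul_mem hxS hxS
  have hzT : z ∈ T := by rw [← hxz]; exact mul_mem hxT hxT
  have hzxz : z * x * z = x := by
    rw [mul_assoc, hzc x, ← mul_assoc, hzz, one_mul]
  have hC : ω * (x * w) * ω⁻¹ = x := by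
    calc ω * (x * w) * ω⁻¹ = (ω * x * ω⁻¹) * (ω * w * ω⁻¹) := by group
      _ = w * (x * w) := by rw [hA, hB]
      _ = (w * x) * w := by group
      _ = z * (x * w) * w := by rw [hwx']
      _ = z * x * (w * w) := by group
      _ = x := by rw [hwz, hzxz]
  have hωz : ω * z * ω⁻¹ = z := by
    rw [hzc ω, mul_assoc, mul_inv_cancel, mul_one]
  have hω'z : ω⁻¹ * z * ω = z := by
    rw [hzc ω⁻¹, mul_assoc, inv_mul_cancel, mul_one]
  have hA' : ω⁻¹ * w * ω = x := by
    rw [← hA]; group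
  -- the elements of `R`
  have hnsx : ¬ ∃ r : F, (x : Matrix (Fin 2) (Fin 2) F) = r • (1 : Matrix (Fin 2) (Fin 2) F) :=
    fun hs => hxx (mul_self_of_scalar x hs)
  have hCx := centralizer_eq_of_mem_span g₀ x hxT H.hns hnsx
  have hRlist : ∀ r ∈ (T ⊓ (S : Subgroup G) : Subgroup G), r = 1 ∨ r = z ∨ r = x ∨ r = z * x := by
    intro r hr
    by_cases hrr : r * r = 1
    · rcases eq_one_or_negOne_of_mul_self H.h2 r hrr with h | h
      · exact Or.inl h
      · exact Or.inr (Or.inl h)
    · have hrz := hsq r hr hrr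
      have hcomm : r * x = x * r := by
        have : r ∈ Subgroup.centralizer ({x} : Set G) := by rw [hCx]; exact hr.1
        exact Subgroup.mem_centralizer_singleton_iff.1 this
      have hcomm' : x⁻¹ * r = r * x⁻¹ := by
        calc x⁻¹ * r = x⁻¹ * (r * x) * x⁻¹ := by group
          _ = x⁻¹ * (x * r) * x⁻¹ := by rw [hcomm]
          _ = r * x⁻¹ := by group
      have hy : (r * x⁻¹) * (r * x⁻¹) = 1 := by
        calc (r * x⁻¹) * (r * x⁻¹) = r * (x⁻¹ * r) * x⁻¹ := by group
          _ = r * (r * x⁻¹) * x⁻¹ := by rw [hcomm']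
          _ = (r * r) * (x * x)⁻¹ := by group
          _ = 1 := by rw [hrz, hxz, mul_inv_cancel]
      rcases eq_one_or_negOne_of_mul_self H.h2 _ hy with h | h
      · right; right; left
        calc r = (r * x⁻¹) * x := by group
          _ = x := by rw [h, one_mul]
      · right; right; right
        calc r = (r * x⁻¹) * x := by group
          _ = z * x := by rw [h]
  have hSlist : ∀ s ∈ (S : Subgroup G), s ∉ T → s * w⁻¹ ∈ (T ⊓ (S : Subgroup G) : Subgroup G) := by
    intro s hs hsT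
    refine Subgroup.mem_inf.2 ⟨?_, mul_mem hs (inv_mem H.hwS)⟩
    rcases H.hinv s hs with h | h
    · exact absurd (mem_centralizer_of_conj_eq h) hsT
    · exact mem_of_both_invert h H.hwinv
  -- `ω` normalises `S`
  have hωR : ∀ r ∈ (T ⊓ (S : Subgroup G) : Subgroup G), ω * r * ω⁻¹ ∈ (S : Subgroup G) := by
    intro r hr
    rcases hRlist r hr with rfl | rfl | rfl | rfl
    · rw [mul_one, mul_inv_cancel]; exact one_mem _
    · rw [hωz]; exact hzS
    · rw [hA]; exact H.hwS
    · have : ω * (z * x) * ω⁻¹ = (ω * z * ω⁻¹) * (ω * x * ω⁻¹) := by group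
      rw [this, hωz, hA]
      exact mul_mem hzS H.hwS
  have hωN : ω ∈ Subgroup.normalizer ((S : Subgroup G) : Set G) := by
    apply Subgroup.mem_normalizer_fintype
    intro n hn
    by_cases hnT : n ∈ T
    · exact hωR n ⟨hnT, hn⟩
    · have h1 := hωR _ (hSlist n hn hnT)
      have : ω * n * ω⁻¹ = (ω * (n * w⁻¹) * ω⁻¹) * (ω * w * ω⁻¹) := by group
      rw [this, hB]
      exact mul_mem h1 (mul_mem hxS H.hwS)
  have hωS : ω ∉ (S : Subgroup G) := by
    intro hω
    have h1 := H.le_normalizer hω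
    have h3 := (Subgroup.mem_normalizer_iff.1 h1 x).1 hxT
    rw [hA] at h3
    exact H.hwT h3
  -- the covering
  have hcover : ∀ h ∈ Subgroup.normalizer ((S : Subgroup G) : Set G),
      h ∈ (S : Subgroup G) ∨ ω⁻¹ * h ∈ (S : Subgroup G) ∨ ω * h ∈ (S : Subgroup G) := by
    intro h hh
    have hx'S : h * x * h⁻¹ ∈ (S : Subgroup G) := (Subgroup.mem_normalizer_iff.1 hh x).1 hxS
    by_cases hx'T : h * x * h⁻¹ ∈ T
    · left
      exact H.mem_of_conj_torus h hh x hxT hxx hx'T
    · have hr := hSlist _ hx'S hx'T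
      have hx'r : h * x * h⁻¹ = (h * x * h⁻¹ * w⁻¹) * w := by group
      have hω'N : ω⁻¹ ∈ Subgroup.normalizer ((S : Subgroup G) : Set G) := inv_mem hωN
      rcases hRlist _ hr with h1 | h1 | h1 | h1
      · right; left
        apply H.mem_of_conj_torus _ (mul_mem hω'N hh) x hxT hxx
        have : ω⁻¹ * h * x * (ω⁻¹ * h)⁻¹ = ω⁻¹ * (h * x * h⁻¹) * ω := by group
        rw [this, hx'r, h1, one_mul, hA']
        exact hxT
      · right; left
        apply H.mem_of_conj_torus _ (mul_mem hω'N hh) x hxT hxx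
        have : ω⁻¹ * h * x * (ω⁻¹ * h)⁻¹ = ω⁻¹ * (h * x * h⁻¹) * ω := by group
        rw [this, hx'r, h1]
        have : ω⁻¹ * (z * w) * ω = (ω⁻¹ * z * ω) * (ω⁻¹ * w * ω) := by group
        rw [this, hω'z, hA']
        exact mul_mem hzT hxT
      · right; right
        apply H.mem_of_conj_torus _ (mul_mem hωN hh) x hxT hxx
        have : ω * h * x * (ω * h)⁻¹ = ω * (h * x * h⁻¹) * ω⁻¹ := by group
        rw [this, hx'r, h1, hC]
        exact hxT
      · right; right
        apply H.mem_of_conj_torus _ (mul_mem hωN hh) x hxT hxx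
        have : ω * h * x * (ω * h)⁻¹ = ω * (h * x * h⁻¹) * ω⁻¹ := by group
        rw [this, hx'r, h1]
        have : ω * (z * x * w) * ω⁻¹ = (ω * z * ω⁻¹) * (ω * (x * w) * ω⁻¹) := by group
        rw [this, hωz, hC]
        exact mul_mem hzT hxT
  -- counting
  set A := Subgroup.normalizer ((S : Subgroup G) : Set G) with hAdef
  have hSA : (S : Subgroup G) ≤ A := Subgroup.le_normalizer
  have hsub : (A : Set G) ⊆ ((S : Subgroup G) : Set G) ∪ (fun s => ω * s) '' ((S : Subgroup G) : Set G)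
      ∪ (fun s => ω⁻¹ * s) '' ((S : Subgroup G) : Set G) := by
    intro h hh
    rcases hcover h hh with h1 | h1 | h1
    · left; left; exact h1
    · left; right
      exact ⟨ω⁻¹ * h, h1, by simp⟩
    · right
      exact ⟨ω * h, h1, by simp⟩
  have hle : Nat.card A ≤ 24 := by
    have h0 : Nat.card A = (A : Set G).ncard := Nat.card_coe_set_eq (A : Set G)
    rw [h0]
    have h1 := Set.ncard_le_ncard hsub (Set.toFinite _)
    have h3 := Set.ncard_union_le (((S : Subgroup G) : Set G) ∪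
      (fun s => ω * s) '' ((S : Subgroup G) : Set G)) ((fun s => ω⁻¹ * s) '' ((S : Subgroup G) : Set G))
    have h4 := Set.ncard_union_le ((S : Subgroup G) : Set G)
      ((fun s => ω * s) '' ((S : Subgroup G) : Set G))
    have h5 := Set.ncard_image_of_injective ((S : Subgroup G) : Set G) (mul_right_injective ω)
    have h6 := Set.ncard_image_of_injective ((S : Subgroup G) : Set G) (mul_right_injective ω⁻¹)
    have h7 : (((S : Subgroup G) : Set G)).ncard = 8 := by
      rw [← hS]; exact (Nat.card_coe_set_eq ((S : Subgroup G) : Set G)).symm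
    omega
  have hcard := card_eq_of_relIndex (S : Subgroup G) A hSA
  have hodd : ¬ 2 ∣ (S : Subgroup G).relIndex A := by
    intro hdvd
    have h1 := Subgroup.relIndex_mul_index hSA
    have h3 : 2 ∣ (S : Subgroup G).index := by
      rw [← h1]; exact Dvd.dvd.mul_right hdvd _
    exact S.not_dvd_index h3
  have hne1 : (S : Subgroup G).relIndex A ≠ 1 := by
    intro h1
    exact hωS (Subgroup.relIndex_eq_one.1 h1 hωN)
  rw [hS] at hcard
  rw [hS]
  have : (S : Subgroup G).relIndex A = 3 := by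
    have h0 : (S : Subgroup G).relIndex A ≤ 3 := by omega
    interval_cases h : (S : Subgroup G).relIndex A
    · omega
    · exact absurd rfl hne1
    · exact absurd (dvd_refl 2) hodd
    · rfl
  omega

end part3

theorem fact_two_of_mod_eight (n : ℕ) (h : n % 8 = 4) : n.factorization 2 = 2 := by
  obtain ⟨m, hm⟩ : ∃ m, n = 2 ^ 2 * m := ⟨n / 4, by omega⟩
  have hmo : ¬ 2 ∣ m := by omega
  have hm0 : m ≠ 0 := by omega
  rw [hm, Nat.factorization_mul (by norm_num) hm0]
  simp only [Finsupp.coe_add, Pi.add_apply]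
  rw [Nat.Prime.factorization_pow Nat.prime_two, Nat.factorization_eq_zero_of_not_dvd hmo]
  simp



/-- Let F be a finite field with q elements, q odd, and S a Sylow 2-subgroup of SL₂ over F. The centraliser of S is the centre of SL₂ (of order 2); S is its own normaliser when q ≡ ±1 mod 8, and has index 3 in its normaliser when q ≡ ±3 mod 8. -/
theorem result {F : Type*} [Field F] [Fintype F] (hodd : Odd (Fintype.card F)) (S : Sylow 2 (Matrix.SpecialLinearGroup (Fin 2) F)) :
    Subgroup.centralizer ((S : Subgroup (Matrix.SpecialLinearGroup (Fin 2) F)) : Set (Matrix.SpecialLinearGroup (Fin 2) F)) = Subgroup.center (Matrix.SpecialLinearGroup (Fin 2) F) ∧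
    ((Fintype.card F % 8 = 1 ∨ Fintype.card F % 8 = 7) →
      Subgroup.normalizer ((S : Subgroup (Matrix.SpecialLinearGroup (Fin 2) F)) : Set (Matrix.SpecialLinearGroup (Fin 2) F)) = (S : Subgroup (Matrix.SpecialLinearGroup (Fin 2) F))) ∧
    ((Fintype.card F % 8 = 3 ∨ Fintype.card F % 8 = 5) →
      Nat.card (Subgroup.normalizer ((S : Subgroup (Matrix.SpecialLinearGroup (Fin 2) F)) : Set (Matrix.SpecialLinearGroup (Fin 2) F))) = 3 * Nat.card S) := by
  classical
  have h2 : (2 : F) ≠ 0 := two_ne_zero_of_odd hodd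
  have h3 := three_le_card_of_odd hodd
  obtain ⟨g₀, ht, hc, hn, hinv⟩ := exists_torus hodd S
  have hS : Nat.card (S : Subgroup (SpecialLinearGroup (Fin 2) F)) =
      2 ^ ((orderOf g₀).factorization 2 + 1) := by
    rw [Sylow.card_eq_multiplicity, fact_two_card hodd (orderOf g₀) hn]
  obtain ⟨hRc, ⟨w, hwS, hwT⟩, hpowS⟩ := struct_facts h2 S g₀ ht hc hS hinv
  have H : Setup S g₀ w := ⟨h2, ht, hc, hRc, hwS, hwT, hinv, hpowS⟩
  have h4 : 4 ∣ orderOf g₀ := by
    rcases hn with ⟨h, hn⟩ | ⟨h, hn⟩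
    · rw [hn]; exact Nat.dvd_of_mod_eq_zero (by omega)
    · rw [hn]; exact Nat.dvd_of_mod_eq_zero (by omega)
  refine ⟨H.part1 h4, ?_, ?_⟩
  · intro h8
    apply H.part2
    rcases hn with ⟨h, hn⟩ | ⟨h, hn⟩
    · rw [hn]; exact Nat.dvd_of_mod_eq_zero (by omega)
    · rw [hn]; exact Nat.dvd_of_mod_eq_zero (by omega)
  · intro h8
    have ha : (orderOf g₀).factorization 2 = 2 := by
      apply fact_two_of_mod_eight
      rcases hn with ⟨h, hn⟩ | ⟨h, hn⟩
      · rw [hn]; omega
      · rw [hn]; omega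
    rw [ha] at hS
    exact H.part3 ha hS


end Cfsg.Agent.S2431
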