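import Cfsg.Statements.S2299
import Cfsg.Agent.Lib.Helper5.SL2OddCount

set_option autoImplicit false
open Cfsg

namespace Cfsg.Agent.S2299

open Matrix Cfsg.Agent.Lib.Helper5 Cfsg.Agent.Lib.Helper1 Cfsg.Agent.Lib.Helper4

theorem nat_of_deg {G : Type*} {χ : G → ℂ} {x : G} {n m : ℕ} (h1 : χ x = (n : ℂ))
    (h2 : χ x = (m : ℂ)) : n = m :=
  Nat.cast_injective (R := ℂ) (h1.symm.trans h2)


/-- Over a finite field F with q elements, q odd, every irreducible complex character of SL₂ has degree 1, q, q + 1, q − 1, (q + 1)/2 or (q − 1)/2; and when q ≥ 5 (so that these six numbers are distinct) there are exactly one irreducible character of degree 1, one of degree q, (q − 3)/2 of degree q + 1, (q − 1)/2 of degree q − 1, two of degree (q + 1)/2 and two of degree (q − 1)/2. -/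
theorem result {F : Type*} [Field F] [Fintype F] (hodd : Odd (Fintype.card F)) :
    (∀ χ : Matrix.SpecialLinearGroup (Fin 2) F → ℂ, Cfsg.IsIrrCharacter (Matrix.SpecialLinearGroup (Fin 2) F) χ →
      χ 1 = 1 ∨ χ 1 = (Fintype.card F : ℂ) ∨ χ 1 = (Fintype.card F : ℂ) + 1 ∨ χ 1 = (Fintype.card F : ℂ) - 1 ∨
        χ 1 = (((Fintype.card F + 1) / 2 : ℕ) : ℂ) ∨ χ 1 = (((Fintype.card F - 1) / 2 : ℕ) : ℂ)) ∧
    (5 ≤ Fintype.card F →
      Nat.card {χ : Cfsg.IrrCharacter (Matrix.SpecialLinearGroup (Fin 2) F) // (χ : Matrix.SpecialLinearGroup (Fin 2) F → ℂ) 1 = 1} = 1 ∧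
      Nat.card {χ : Cfsg.IrrCharacter (Matrix.SpecialLinearGroup (Fin 2) F) // (χ : Matrix.SpecialLinearGroup (Fin 2) F → ℂ) 1 = (Fintype.card F : ℂ)} = 1 ∧
      Nat.card {χ : Cfsg.IrrCharacter (Matrix.SpecialLinearGroup (Fin 2) F) // (χ : Matrix.SpecialLinearGroup (Fin 2) F → ℂ) 1 = (Fintype.card F : ℂ) + 1} = (Fintype.card F - 3) / 2 ∧
      Nat.card {χ : Cfsg.IrrCharacter (Matrix.SpecialLinearGroup (Fin 2) F) // (χ : Matrix.SpecialLinearGroup (Fin 2) F → ℂ) 1 = (Fintype.card F : ℂ) - 1} = (Fintype.card F - 1) / 2 ∧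
      Nat.card {χ : Cfsg.IrrCharacter (Matrix.SpecialLinearGroup (Fin 2) F) // (χ : Matrix.SpecialLinearGroup (Fin 2) F → ℂ) 1 = (((Fintype.card F + 1) / 2 : ℕ) : ℂ)} = 2 ∧
      Nat.card {χ : Cfsg.IrrCharacter (Matrix.SpecialLinearGroup (Fin 2) F) // (χ : Matrix.SpecialLinearGroup (Fin 2) F → ℂ) 1 = (((Fintype.card F - 1) / 2 : ℕ) : ℂ)} = 2) := by
  classical
  obtain ⟨C, hC, hcard⟩ := exists_torus (F := F)
  obtain ⟨ν, α₀, θ₀, χp, χm, ηp, ηm, T⟩ := exists_oddTable hodd C hC hcard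
  have hq3 := three_le_card_of_odd hodd
  obtain ⟨k, hk⟩ := hodd
  refine ⟨?_, ?_⟩
  · intro χ hχ
    rcases T.list χ hχ with h | h | ⟨β, hβ, h⟩ | ⟨θ, hθ, h⟩ | h | h | h | h
    · left
      rw [h]
      rfl
    · right; left
      rw [h, stFun_one]
    · right; right; left
      rw [h, psFun_apply_one]
    · right; right; right; left
      rw [h, cuspChar_apply_one]
    · right; right; right; right; left
      rw [h, T.χp_one]
    · right; right; right; right; left
      rw [h, T.χm_one']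
    · right; right; right; right; right
      rw [h, T.ηp_one]
    · right; right; right; right; right
      rw [h, T.ηm_one']
  · intro hq5
    -- degrees as natural numbers
    have hdeg : ∀ χ : SpecialLinearGroup (Fin 2) F → ℂ,
        Cfsg.IsIrrCharacter (SpecialLinearGroup (Fin 2) F) χ →
        (χ = trivFun _ ∧ χ 1 = ((1 : ℕ) : ℂ)) ∨ (χ = stFun ∧ χ 1 = ((Fintype.card F : ℕ) : ℂ)) ∨
        ((∃ β : MulChar F ℂ, β ≠ β⁻¹ ∧ χ = psFun β) ∧ χ 1 = ((Fintype.card F + 1 : ℕ) : ℂ)) ∨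
        ((∃ θ : C →* ℂˣ, θ ≠ θ⁻¹ ∧ χ = cuspChar C hC hcard θ) ∧
          χ 1 = ((Fintype.card F - 1 : ℕ) : ℂ)) ∨
        ((χ = χp ∨ χ = χm) ∧ χ 1 = (((Fintype.card F + 1) / 2 : ℕ) : ℂ)) ∨
        ((χ = ηp ∨ χ = ηm) ∧ χ 1 = (((Fintype.card F - 1) / 2 : ℕ) : ℂ)) := by
      intro χ hχ
      rcases T.list χ hχ with h | h | ⟨β, hβ, h⟩ | ⟨θ, hθ, h⟩ | h | h | h | h
      · exact Or.inl ⟨h, by rw [h]; exact trivFun_one_nat⟩
      · exact Or.inr (Or.inl ⟨h, by rw [h]; exact stFun_one_nat⟩)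
      · exact Or.inr (Or.inr (Or.inl ⟨⟨β, hβ, h⟩, by rw [h]; exact psFun_one_nat β⟩))
      · exact Or.inr (Or.inr (Or.inr (Or.inl ⟨⟨θ, hθ, h⟩, by
          rw [h]; exact cuspChar_one_nat C hC hcard θ⟩)))
      · exact Or.inr (Or.inr (Or.inr (Or.inr (Or.inl ⟨Or.inl h, by rw [h]; exact T.χp_one⟩))))
      · exact Or.inr (Or.inr (Or.inr (Or.inr (Or.inl ⟨Or.inr h, by rw [h]; exact T.χm_one'⟩))))
      · exact Or.inr (Or.inr (Or.inr (Or.inr (Or.inr ⟨Or.inl h, by rw [h]; exact T.ηp_one⟩))))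
      · exact Or.inr (Or.inr (Or.inr (Or.inr (Or.inr ⟨Or.inr h, by rw [h]; exact T.ηm_one'⟩))))
    refine ⟨?_, ?_, ?_, ?_, ?_, ?_⟩
    · apply card_irr_single (fun χ => χ 1 = 1) (trivFun _) isIrrCharacter_trivFun rfl
      intro χ hχ h1
      have h1' : χ 1 = ((1 : ℕ) : ℂ) := by rw [h1, Nat.cast_one]
      rcases hdeg χ hχ with ⟨h, -⟩ | ⟨-, h⟩ | ⟨-, h⟩ | ⟨-, h⟩ | ⟨-, h⟩ | ⟨-, h⟩
      · exact h
      all_goals (exfalso; have := nat_of_deg h h1'; omega)
    · apply card_irr_single (fun χ => χ 1 = (Fintype.card F : ℂ)) stFun isIrrCharacter_stFun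
        stFun_one
      intro χ hχ h1
      exact eq_stFun_of_degree hχ h1
    · have key := card_irr_family (G := SpecialLinearGroup (Fin 2) F)
        (X := {β : MulChar F ℂ // β ≠ β⁻¹})
        (fun χ => χ 1 = (Fintype.card F : ℂ) + 1) (fun β => psFun β.1)
        (fun β => isIrrCharacter_psFun β.2) (fun β => psFun_apply_one β.1)
        (by
          intro χ hχ h1
          obtain ⟨β, hβ, h⟩ := exists_psFun_of_degree hχ h1
          exact ⟨⟨β, hβ⟩, h.symm⟩)
        (fun β => ⟨β.1⁻¹, by rw [inv_inv]; exact β.2.symm⟩)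
        (fun β h => β.2 (congrArg Subtype.val h).symm)
        (by
          intro x y
          rw [psFun_eq_iff x.2]
          constructor
          · rintro (h | h)
            · exact Or.inl (Subtype.ext h)
            · exact Or.inr (Subtype.ext h)
          · rintro (h | h)
            · exact Or.inl (congrArg Subtype.val h)
            · exact Or.inr (congrArg Subtype.val h))
      rw [card_mulChar_ne_inv_odd ⟨k, hk⟩] at key
      omega
    · have key := card_irr_family (G := SpecialLinearGroup (Fin 2) F)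
        (X := {θ : C →* ℂˣ // θ ≠ θ⁻¹})
        (fun χ => χ 1 = (Fintype.card F : ℂ) - 1) (fun θ => cuspChar C hC hcard θ.1)
        (fun θ => isIrrCharacter_cuspChar C hC hcard θ.2)
        (fun θ => cuspChar_apply_one C hC hcard θ.1)
        (by
          intro χ hχ h1
          obtain ⟨θ, hθ, h⟩ := exists_cuspChar_of_degree C (by omega) hC hcard hχ h1
          exact ⟨⟨θ, hθ⟩, h.symm⟩)
        (fun θ => ⟨θ.1⁻¹, by rw [monoidHom_inv_inv]; exact θ.2.symm⟩)
        (fun θ h => θ.2 (congrArg Subtype.val h).symm)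
        (by
          intro x y
          rw [cuspChar_eq_iff C hC hcard x.2]
          constructor
          · rintro (h | h)
            · exact Or.inl (Subtype.ext h)
            · exact Or.inr (Subtype.ext h)
          · rintro (h | h)
            · exact Or.inl (congrArg Subtype.val h)
            · exact Or.inr (congrArg Subtype.val h))
      rw [card_torusHom_ne_inv_odd ⟨k, hk⟩ C hC hcard] at key
      omega
    · apply card_irr_pair (fun χ => χ 1 = (((Fintype.card F + 1) / 2 : ℕ) : ℂ)) χp χm T.irr_χp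
        T.irr_χm T.ne_χ T.χp_one T.χm_one'
      intro χ hχ h1
      rcases hdeg χ hχ with ⟨-, h⟩ | ⟨-, h⟩ | ⟨-, h⟩ | ⟨-, h⟩ | ⟨h, -⟩ | ⟨-, h⟩
      · exfalso; have := nat_of_deg h h1; omega
      · exfalso; have := nat_of_deg h h1; omega
      · exfalso; have := nat_of_deg h h1; omega
      · exfalso; have := nat_of_deg h h1; omega
      · exact h
      · exfalso; have := nat_of_deg h h1; omega
    · apply card_irr_pair (fun χ => χ 1 = (((Fintype.card F - 1) / 2 : ℕ) : ℂ)) ηp ηm T.irr_ηp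
        T.irr_ηm T.ne_η T.ηp_one T.ηm_one'
      intro χ hχ h1
      rcases hdeg χ hχ with ⟨-, h⟩ | ⟨-, h⟩ | ⟨-, h⟩ | ⟨-, h⟩ | ⟨-, h⟩ | ⟨h, -⟩
      · exfalso; have := nat_of_deg h h1; omega
      · exfalso; have := nat_of_deg h h1; omega
      · exfalso; have := nat_of_deg h h1; omega
      · exfalso; have := nat_of_deg h h1; omega
      · exfalso; have := nat_of_deg h h1; omega
      · exact h

end Cfsg.Agent.S2299
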