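import Cfsg.Statements.S2566


set_option autoImplicit false
open Cfsg

namespace Cfsg.Agent.S2566


open Matrix

/-- The underlying space. -/
abbrev V4 := Fin 2 ⊕ Fin 2 → ZMod 2

/-- The quadratic form. -/
abbrev QQ : V4 → ZMod 2 := Cfsg.quadFormPlus 2 (ZMod 2)

/-- The covector `v ↦ B(v, w)` of the polar form. -/
def Bvec (w : V4) : V4 := fun j => w (Sum.swap j)

def va : V4 := Sum.elim ![1, 0] ![1, 0]
def ve : V4 := Sum.elim ![1, 1] ![0, 1]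
def vf : V4 := Sum.elim ![0, 1] ![1, 1]
def vb : V4 := Sum.elim ![1, 1] ![1, 0]
def vc : V4 := Sum.elim ![1, 0] ![1, 1]
def vd : V4 := Sum.elim ![0, 1] ![0, 1]

/-- The first triangle. -/
def t1 : Fin 3 → V4 := ![va, ve, vf]
/-- The second triangle. -/
def t2 : Fin 3 → V4 := ![vb, vc, vd]

/-- The matrix acting by `σ` on the first triangle. -/
def GA (σ : Equiv.Perm (Fin 3)) : Matrix (Fin 2 ⊕ Fin 2) (Fin 2 ⊕ Fin 2) (ZMod 2) :=
  vecMulVec (t1 (σ 0)) (Bvec ve) + vecMulVec (t1 (σ 1)) (Bvec va)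
    + vecMulVec vb (Bvec vc) + vecMulVec vc (Bvec vb)

/-- The matrix acting by `σ` on the second triangle. -/
def GB (σ : Equiv.Perm (Fin 3)) : Matrix (Fin 2 ⊕ Fin 2) (Fin 2 ⊕ Fin 2) (ZMod 2) :=
  vecMulVec va (Bvec ve) + vecMulVec ve (Bvec va)
    + vecMulVec (t2 (σ 0)) (Bvec vc) + vecMulVec (t2 (σ 1)) (Bvec vb)

/-- The swap. -/
def Sw : Matrix (Fin 2 ⊕ Fin 2) (Fin 2 ⊕ Fin 2) (ZMod 2) :=
  vecMulVec vb (Bvec ve) + vecMulVec vc (Bvec va)
    + vecMulVec va (Bvec vc) + vecMulVec ve (Bvec vb)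

set_option maxRecDepth 100000 in
theorem GA_one : GA 1 = 1 := by decide

set_option maxRecDepth 100000 in
theorem GA_mul : ∀ σ τ : Equiv.Perm (Fin 3), GA (σ * τ) = GA σ * GA τ := by decide


set_option maxRecDepth 100000 in
theorem GB_one : GB 1 = 1 := by decide

set_option maxRecDepth 100000 in
theorem GB_mul : ∀ σ τ : Equiv.Perm (Fin 3), GB (σ * τ) = GB σ * GB τ := by decide

set_option maxRecDepth 100000 in
theorem GA_pres : ∀ (σ : Equiv.Perm (Fin 3)) (v : V4), QQ (GA σ *ᵥ v) = QQ v := by decide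

set_option maxRecDepth 100000 in
theorem GB_pres : ∀ (σ : Equiv.Perm (Fin 3)) (v : V4), QQ (GB σ *ᵥ v) = QQ v := by decide

set_option maxRecDepth 100000 in
theorem Sw_pres : ∀ (v : V4), QQ (Sw *ᵥ v) = QQ v := by decide

set_option maxRecDepth 100000 in
theorem Sw_mul_Sw : Sw * Sw = 1 := by decide

set_option maxRecDepth 100000 in
theorem Sw_GA : ∀ σ : Equiv.Perm (Fin 3), Sw * GA σ = GB σ * Sw := by decide

set_option maxRecDepth 100000 in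
theorem GA_GB_comm : ∀ σ τ : Equiv.Perm (Fin 3), GA σ * GB τ = GB τ * GA σ := by decide

set_option maxRecDepth 100000 in
theorem GA_GB_eq_one : ∀ σ τ : Equiv.Perm (Fin 3), GA σ * GB τ = 1 → σ = 1 ∧ τ = 1 := by decide

set_option maxRecDepth 100000 in
theorem GA_GB_ne_Sw : ∀ σ τ : Equiv.Perm (Fin 3), GA σ * GB τ ≠ Sw := by decide

set_option maxRecDepth 100000 in
theorem decomp : ∀ v : V4, v = (Bvec ve ⬝ᵥ v) • va + (Bvec va ⬝ᵥ v) • ve + (Bvec vc ⬝ᵥ v) • vb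
    + (Bvec vb ⬝ᵥ v) • vc := by decide


/-- The admissible images of the basis `(a, e, b, c)`. -/
def tuples : Finset (V4 × V4 × V4 × V4) :=
  ((Finset.univ : Finset V4).filter (fun u₁ => QQ u₁ = 1)).biUnion fun u₁ =>
  ((Finset.univ : Finset V4).filter (fun u₂ => QQ u₂ = 1 ∧ QQ (u₁ + u₂) = 1)).biUnion fun u₂ =>
  ((Finset.univ : Finset V4).filter
    (fun u₃ => QQ u₃ = 1 ∧ QQ (u₁ + u₃) = 0 ∧ QQ (u₂ + u₃) = 0)).biUnion fun u₃ =>
  ((Finset.univ : Finset V4).filter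
    (fun u₄ => QQ u₄ = 1 ∧ QQ (u₁ + u₄) = 0 ∧ QQ (u₂ + u₄) = 0 ∧ QQ (u₃ + u₄) = 1)).image
      fun u₄ => (u₁, u₂, u₃, u₄)

set_option maxRecDepth 1000000 in
set_option maxHeartbeats 4000000 in
theorem card_tuples : tuples.card = 72 := by decide

set_option maxRecDepth 100000 in
theorem basis_vals : QQ va = 1 ∧ QQ ve = 1 ∧ QQ vb = 1 ∧ QQ vc = 1 ∧ QQ (va + ve) = 1 ∧
    QQ (va + vb) = 0 ∧ QQ (ve + vb) = 0 ∧ QQ (va + vc) = 0 ∧ QQ (ve + vc) = 0 ∧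
    QQ (vb + vc) = 1 := by decide

/-- The isometry group. -/
abbrev OO := ↥(Cfsg.isometryGroup (ZMod 2) (Cfsg.quadFormPlus 2 (ZMod 2)))

theorem OO_pres (g : OO) (v : V4) :
    QQ (((g : GL (Fin 2 ⊕ Fin 2) (ZMod 2)) : Matrix (Fin 2 ⊕ Fin 2) (Fin 2 ⊕ Fin 2) (ZMod 2)) *ᵥ v)
      = QQ v := g.2 v v

theorem mulVec_decomp (M : Matrix (Fin 2 ⊕ Fin 2) (Fin 2 ⊕ Fin 2) (ZMod 2)) (v : V4) :
    M *ᵥ v = (Bvec ve ⬝ᵥ v) • (M *ᵥ va) + (Bvec va ⬝ᵥ v) • (M *ᵥ ve) + (Bvec vc ⬝ᵥ v) • (M *ᵥ vb)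
      + (Bvec vb ⬝ᵥ v) • (M *ᵥ vc) := by
  conv_lhs => rw [decomp v]
  simp only [Matrix.mulVec_add, Matrix.mulVec_smul]

/-- The images of the basis under an isometry. -/
def tup (g : OO) : V4 × V4 × V4 × V4 :=
  (((g : GL (Fin 2 ⊕ Fin 2) (ZMod 2)) : Matrix (Fin 2 ⊕ Fin 2) (Fin 2 ⊕ Fin 2) (ZMod 2)) *ᵥ va,
   ((g : GL (Fin 2 ⊕ Fin 2) (ZMod 2)) : Matrix (Fin 2 ⊕ Fin 2) (Fin 2 ⊕ Fin 2) (ZMod 2)) *ᵥ ve,
   ((g : GL (Fin 2 ⊕ Fin 2) (ZMod 2)) : Matrix (Fin 2 ⊕ Fin 2) (Fin 2 ⊕ Fin 2) (ZMod 2)) *ᵥ vb,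
   ((g : GL (Fin 2 ⊕ Fin 2) (ZMod 2)) : Matrix (Fin 2 ⊕ Fin 2) (Fin 2 ⊕ Fin 2) (ZMod 2)) *ᵥ vc)

theorem tup_mem (g : OO) : tup g ∈ tuples := by
  obtain ⟨h1, h2, h3, h4, h5, h6, h7, h8, h9, h10⟩ := basis_vals
  unfold tuples tup
  simp only [Finset.mem_biUnion, Finset.mem_filter, Finset.mem_univ, true_and, Finset.mem_image]
  refine ⟨_, ?_, _, ⟨?_, ?_⟩, _, ⟨?_, ?_, ?_⟩, _, ⟨?_, ?_, ?_, ?_⟩, rfl⟩
  · rw [OO_pres, h1]
  · rw [OO_pres, h2]
  · rw [← Matrix.mulVec_add, OO_pres, h5]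
  · rw [OO_pres, h3]
  · rw [← Matrix.mulVec_add, OO_pres, h6]
  · rw [← Matrix.mulVec_add, OO_pres, h7]
  · rw [OO_pres, h4]
  · rw [← Matrix.mulVec_add, OO_pres, h8]
  · rw [← Matrix.mulVec_add, OO_pres, h9]
  · rw [← Matrix.mulVec_add, OO_pres, h10]

theorem tup_injective : Function.Injective tup := by
  intro g g' h
  unfold tup at h
  simp only [Prod.mk.injEq] at h
  obtain ⟨h1, h2, h3, h4⟩ := h
  apply Subtype.ext
  apply Units.ext
  apply Matrix.toLin'.injective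
  apply LinearMap.ext
  intro v
  rw [Matrix.toLin'_apply, Matrix.toLin'_apply, mulVec_decomp _ v, h1, h2, h3, h4,
    ← mulVec_decomp _ v]

theorem card_OO_le : Nat.card OO ≤ 72 := by
  have h := Nat.card_le_card_of_injective (fun g : OO => (⟨tup g, tup_mem g⟩ : {p // p ∈ tuples}))
    (by
      intro g g' h
      exact tup_injective (congrArg Subtype.val h))
  rw [Nat.card_eq_fintype_card (α := {p // p ∈ tuples}), Fintype.card_coe, card_tuples] at h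
  exact h

/-- The first factor as a homomorphism to matrices. -/
def mA : Equiv.Perm (Fin 3) →* Matrix (Fin 2 ⊕ Fin 2) (Fin 2 ⊕ Fin 2) (ZMod 2) where
  toFun := GA
  map_one' := GA_one
  map_mul' := GA_mul

/-- The second factor as a homomorphism to matrices. -/
def mB : Equiv.Perm (Fin 3) →* Matrix (Fin 2 ⊕ Fin 2) (Fin 2 ⊕ Fin 2) (ZMod 2) where
  toFun := GB
  map_one' := GB_one
  map_mul' := GB_mul

/-- The first factor. -/
def phiA : Equiv.Perm (Fin 3) →* OO :=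
  (mA.toHomUnits).codRestrict (Cfsg.isometryGroup (ZMod 2) (Cfsg.quadFormPlus 2 (ZMod 2)))
    (fun σ u _ => GA_pres σ u)

/-- The second factor. -/
def phiB : Equiv.Perm (Fin 3) →* OO :=
  (mB.toHomUnits).codRestrict (Cfsg.isometryGroup (ZMod 2) (Cfsg.quadFormPlus 2 (ZMod 2)))
    (fun σ u _ => GB_pres σ u)

theorem phiA_coe (σ : Equiv.Perm (Fin 3)) :
    (((phiA σ : OO) : GL (Fin 2 ⊕ Fin 2) (ZMod 2)) :
      Matrix (Fin 2 ⊕ Fin 2) (Fin 2 ⊕ Fin 2) (ZMod 2)) = GA σ := rfl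

theorem phiB_coe (σ : Equiv.Perm (Fin 3)) :
    (((phiB σ : OO) : GL (Fin 2 ⊕ Fin 2) (ZMod 2)) :
      Matrix (Fin 2 ⊕ Fin 2) (Fin 2 ⊕ Fin 2) (ZMod 2)) = GB σ := rfl

/-- The swap as an isometry. -/
def gSw : OO := ⟨⟨Sw, Sw, Sw_mul_Sw, Sw_mul_Sw⟩, fun u _ => Sw_pres u⟩

theorem OO_ext {g g' : OO}
    (h : (((g : OO) : GL (Fin 2 ⊕ Fin 2) (ZMod 2)) :
      Matrix (Fin 2 ⊕ Fin 2) (Fin 2 ⊕ Fin 2) (ZMod 2)) =
      (((g' : OO) : GL (Fin 2 ⊕ Fin 2) (ZMod 2)) :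
      Matrix (Fin 2 ⊕ Fin 2) (Fin 2 ⊕ Fin 2) (ZMod 2))) : g = g' :=
  Subtype.ext (Units.ext h)

theorem OO_coe_mul (g g' : OO) :
    (((g * g' : OO) : GL (Fin 2 ⊕ Fin 2) (ZMod 2)) :
      Matrix (Fin 2 ⊕ Fin 2) (Fin 2 ⊕ Fin 2) (ZMod 2)) =
    (((g : OO) : GL (Fin 2 ⊕ Fin 2) (ZMod 2)) :
      Matrix (Fin 2 ⊕ Fin 2) (Fin 2 ⊕ Fin 2) (ZMod 2)) *
      (((g' : OO) : GL (Fin 2 ⊕ Fin 2) (ZMod 2)) :
      Matrix (Fin 2 ⊕ Fin 2) (Fin 2 ⊕ Fin 2) (ZMod 2)) := rfl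

theorem phi_comm (σ τ : Equiv.Perm (Fin 3)) : Commute (phiA σ) (phiB τ) := by
  apply OO_ext
  rw [OO_coe_mul, OO_coe_mul, phiA_coe, phiB_coe]
  exact GA_GB_comm σ τ

/-- The product map. -/
def psi : Equiv.Perm (Fin 3) × Equiv.Perm (Fin 3) →* OO :=
  MonoidHom.noncommCoprod phiA phiB phi_comm

theorem psi_injective : Function.Injective psi := by
  rw [injective_iff_map_eq_one]
  rintro ⟨σ, τ⟩ h
  have h1 := congrArg (fun g : OO => ((g : GL (Fin 2 ⊕ Fin 2) (ZMod 2)) :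
    Matrix (Fin 2 ⊕ Fin 2) (Fin 2 ⊕ Fin 2) (ZMod 2))) h
  have h2 : GA σ * GB τ = 1 := h1
  obtain ⟨h3, h4⟩ := GA_GB_eq_one σ τ h2
  rw [h3, h4]
  rfl

theorem phiA_injective : Function.Injective phiA := by
  rw [injective_iff_map_eq_one]
  intro σ h
  have h1 : psi (σ, 1) = 1 := by
    show phiA σ * phiB 1 = 1
    rw [h, map_one, mul_one]
  have := psi_injective (h1.trans (map_one psi).symm)
  exact (Prod.mk.inj this).1

theorem phiB_injective : Function.Injective phiB := by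
  rw [injective_iff_map_eq_one]
  intro σ h
  have h1 : psi (1, σ) = 1 := by
    show phiA 1 * phiB σ = 1
    rw [h, map_one, mul_one]
  have := psi_injective (h1.trans (map_one psi).symm)
  exact (Prod.mk.inj this).2

theorem psi_range : psi.range = phiA.range ⊔ phiB.range :=
  MonoidHom.noncommCoprod_range phiA phiB phi_comm

theorem card_psi_range : Nat.card psi.range = 36 := by
  rw [← Nat.card_congr (MonoidHom.ofInjective psi_injective).toEquiv, Nat.card_prod,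
    Nat.card_eq_fintype_card, Fintype.card_perm, Fintype.card_fin]
  rfl

theorem gSw_not_mem : gSw ∉ psi.range := by
  rintro ⟨⟨σ, τ⟩, h⟩
  have h1 := congrArg (fun g : OO => ((g : GL (Fin 2 ⊕ Fin 2) (ZMod 2)) :
    Matrix (Fin 2 ⊕ Fin 2) (Fin 2 ⊕ Fin 2) (ZMod 2))) h
  have h2 : GA σ * GB τ = Sw := h1
  exact GA_GB_ne_Sw σ τ h2

theorem card_OO : Nat.card OO = 72 := by
  have h1 : 36 ∣ Nat.card OO := by
    rw [← card_psi_range]
    exact Subgroup.card_subgroup_dvd_card _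
  have h2 := card_OO_le
  have h3 : Nat.card OO ≠ 36 := by
    intro h
    have h4 : psi.range = ⊤ := by
      apply Subgroup.eq_top_of_card_eq
      rw [card_psi_range, h]
    apply gSw_not_mem
    rw [h4]
    trivial
  have h4 : Nat.card OO ≠ 0 := Nat.card_pos.ne'
  obtain ⟨k, hk⟩ := h1
  have hk1 : k ≠ 0 := by rintro rfl; exact h4 (by rw [hk])
  have hk2 : k ≠ 1 := by rintro rfl; exact h3 (by rw [hk])
  have hk3 : k ≤ 2 := by omega
  have : k = 2 := by omega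
  rw [hk, this]

theorem gSw_conj (σ : Equiv.Perm (Fin 3)) : gSw * phiA σ * gSw⁻¹ = phiB σ := by
  rw [mul_inv_eq_iff_eq_mul]
  apply OO_ext
  rw [OO_coe_mul, OO_coe_mul, phiA_coe, phiB_coe]
  exact Sw_GA σ




/-- The full orthogonal group of the plus-type form x₁y₁ + x₂y₂ in dimension 4 over the field of two elements has order 72 and is isomorphic to the wreath product of the symmetric group of degree 3 by a group of order 2: it has a normal subgroup isomorphic to the direct product of two symmetric groups of degree 3, of index 2, whose two direct factors are interchanged by conjugation by some element. -/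
theorem result :
    Nat.card ↥(Cfsg.isometryGroup (ZMod 2) (Cfsg.quadFormPlus 2 (ZMod 2))) = 72 ∧
    ∃ (A B : Subgroup ↥(Cfsg.isometryGroup (ZMod 2) (Cfsg.quadFormPlus 2 (ZMod 2)))),
      Nonempty (↥A ≃* Equiv.Perm (Fin 3)) ∧ Nonempty (↥B ≃* Equiv.Perm (Fin 3)) ∧ A ⊓ B = ⊥ ∧ (∀ a ∈ A, ∀ b ∈ B, a * b = b * a) ∧
      (A ⊔ B).index = 2 ∧ ∃ g : ↥(Cfsg.isometryGroup (ZMod 2) (Cfsg.quadFormPlus 2 (ZMod 2))), A.map (MulAut.conj g).toMonoidHom = B := by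
  refine ⟨card_OO, phiA.range, phiB.range, ⟨(MonoidHom.ofInjective phiA_injective).symm⟩,
    ⟨(MonoidHom.ofInjective phiB_injective).symm⟩, ?_, ?_, ?_, gSw, ?_⟩
  · rw [eq_bot_iff]
    rintro x ⟨⟨σ, rfl⟩, ⟨τ, hτ⟩⟩
    have h1 : psi (σ, τ⁻¹) = 1 := by
      show phiA σ * phiB τ⁻¹ = 1
      rw [← hτ, ← map_mul, mul_inv_cancel, map_one]
    have := psi_injective (h1.trans (map_one psi).symm)
    rw [(Prod.mk.inj this).1, map_one]
    exact Subgroup.mem_bot.2 rfl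
  · rintro a ⟨σ, rfl⟩ b ⟨τ, rfl⟩
    exact phi_comm σ τ
  · rw [← psi_range]
    have h := Subgroup.index_mul_card psi.range
    rw [card_psi_range, card_OO] at h
    omega
  · ext x
    rw [Subgroup.mem_map]
    constructor
    · rintro ⟨y, ⟨σ, rfl⟩, rfl⟩
      exact ⟨σ, (gSw_conj σ).symm⟩
    · rintro ⟨σ, rfl⟩
      exact ⟨phiA σ, ⟨σ, rfl⟩, gSw_conj σ⟩


end Cfsg.Agent.S2566
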