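import Cfsg.Statements.S2702
import Cfsg.Agent.Lib.Helper5.GraphSplit3
import Cfsg.Agent.Lib.Helper5.PSLCoset16
import Cfsg.Agent.S2700
import Cfsg.Agent.S0245
import Cfsg.Agent.S0287
import Cfsg.Agent.S0288

set_option autoImplicit false
open Cfsg

namespace Cfsg.Agent.S2702


open Matrix Module Matrix.SpecialLinearGroup Cfsg.Agent.Lib.Helper5.SLnAut
  Cfsg.Agent.Lib.Helper5.SLnBN Cfsg.Agent.Lib.Helper5.PSLCoset Cfsg.Agent.Lib.Helper5.QuadGlue
  Cfsg.Agent.Lib.Helper5.QuadEmbed Cfsg.Agent.Lib.Helper5.GraphInv Cfsg.Agent.S2703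
  Cfsg.Agent.S2700 Cfsg.Agent.Lib.Helper5.GraphSplit Cfsg.Agent.Lib.Helper5.PGO
  Cfsg.Agent.Lib.Helper2 Cfsg.Agent.Lib.Helper2.QuadStd Cfsg.Agent.Lib.Helper2.OrthCard

section congr
variable {ι₁ ι₂ : Type} [Fintype ι₁] [DecidableEq ι₁] [Fintype ι₂] [DecidableEq ι₂]
  {F : Type*} [Field F]

theorem map_det_bilSim_congr (E : (ι₁ → F) ≃ₗ[F] (ι₂ → F)) (f₁ : (ι₁ → F) → (ι₁ → F) → F)
    (f₂ : (ι₂ → F) → (ι₂ → F) → F) (hE : ∀ u v, f₂ (E u) (E v) = f₁ u v) :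
    (Cfsg.Geo.similarityGroup f₁).map Matrix.GeneralLinearGroup.det
      = (Cfsg.Geo.similarityGroup f₂).map Matrix.GeneralLinearGroup.det := by
  have h1 : LinearMap.toMatrix' E.toLinearMap * LinearMap.toMatrix' E.symm.toLinearMap = 1 := by
    rw [← LinearMap.toMatrix'_comp, LinearEquiv.comp_symm, LinearMap.toMatrix'_id]
  have h2 : LinearMap.toMatrix' E.symm.toLinearMap * LinearMap.toMatrix' E.toLinearMap = 1 := by
    rw [← LinearMap.toMatrix'_comp, LinearEquiv.symm_comp, LinearMap.toMatrix'_id]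
  have hf : ∀ u v, f₂ (LinearMap.toMatrix' E.toLinearMap *ᵥ u)
      (LinearMap.toMatrix' E.toLinearMap *ᵥ v) = f₁ u v := by
    intro u v
    rw [LinearMap.toMatrix'_mulVec, LinearMap.toMatrix'_mulVec]
    exact hE u v
  have hf' : ∀ u v, f₁ (LinearMap.toMatrix' E.symm.toLinearMap *ᵥ u)
      (LinearMap.toMatrix' E.symm.toLinearMap *ᵥ v) = f₂ u v := by
    intro u v
    rw [← hf, Matrix.mulVec_mulVec, Matrix.mulVec_mulVec, h1, Matrix.one_mulVec,
      Matrix.one_mulVec]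
  exact map_det_eq _ _ (glCongr _ _ h1 h2) (glCongr _ _ h2 h1)
    (fun g hg => glCongr_mem_bilSim _ _ h1 h2 f₁ f₂ hf g hg)
    (fun g hg => glCongr_mem_bilSim _ _ h2 h1 f₂ f₁ hf' g hg)
    (fun g => Or.inl (det_glCongr _ _ h1 h2 g)) (fun g => Or.inl (det_glCongr _ _ h2 h1 g))

theorem map_det_quadSim_congr (E : (ι₁ → F) ≃ₗ[F] (ι₂ → F)) (Q₁ : (ι₁ → F) → F)
    (Q₂ : (ι₂ → F) → F) (hE : ∀ v, Q₂ (E v) = Q₁ v) :
    (Cfsg.Geo.quadSimilarityGroup Q₁).map Matrix.GeneralLinearGroup.det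
      = (Cfsg.Geo.quadSimilarityGroup Q₂).map Matrix.GeneralLinearGroup.det := by
  have h1 : LinearMap.toMatrix' E.toLinearMap * LinearMap.toMatrix' E.symm.toLinearMap = 1 := by
    rw [← LinearMap.toMatrix'_comp, LinearEquiv.comp_symm, LinearMap.toMatrix'_id]
  have h2 : LinearMap.toMatrix' E.symm.toLinearMap * LinearMap.toMatrix' E.toLinearMap = 1 := by
    rw [← LinearMap.toMatrix'_comp, LinearEquiv.symm_comp, LinearMap.toMatrix'_id]
  have hf : ∀ v, Q₂ (LinearMap.toMatrix' E.toLinearMap *ᵥ v) = Q₁ v := by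
    intro v
    rw [LinearMap.toMatrix'_mulVec]
    exact hE v
  have hf' : ∀ v, Q₁ (LinearMap.toMatrix' E.symm.toLinearMap *ᵥ v) = Q₂ v := by
    intro v
    rw [← hf, Matrix.mulVec_mulVec, h1, Matrix.one_mulVec]
  exact map_det_eq _ _ (glCongr _ _ h1 h2) (glCongr _ _ h2 h1)
    (fun g hg => glCongr_mem_sim _ _ h1 h2 Q₁ Q₂ hf g hg)
    (fun g hg => glCongr_mem_sim _ _ h2 h1 Q₂ Q₁ hf' g hg)
    (fun g => Or.inl (det_glCongr _ _ h1 h2 g)) (fun g => Or.inl (det_glCongr _ _ h2 h1 g))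

end congr

section D
variable {F : Type*} [Field F] [Fintype F] {n m : ℕ}

/-- the determinants of the matrices commuting with the graph automorphism -/
noncomputable abbrev D (c : GL (Fin n) F) : Subgroup Fˣ :=
  (commSub (semiHom n F) (gam c)).map Matrix.GeneralLinearGroup.det

theorem det_sq_of_sim (c g : GL (Fin n) F) (z : F)
    (h : (g : Matrix (Fin n) (Fin n) F) * (c : Matrix (Fin n) (Fin n) F)
      * (g : Matrix (Fin n) (Fin n) F)ᵀ = z • (c : Matrix (Fin n) (Fin n) F)) :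
    (g : Matrix (Fin n) (Fin n) F).det ^ 2 = z ^ n := by
  have h1 := congrArg Matrix.det h
  rw [Matrix.det_mul, Matrix.det_mul, Matrix.det_transpose, Matrix.det_smul,
    Fintype.card_fin] at h1
  apply mul_right_cancel₀ (det_ne_zero_GL c)
  rw [← h1]
  ring

theorem pow_le_D (c : GL (Fin n) F) : (powMonoidHom n : Fˣ →* Fˣ).range ≤ D c := by
  rintro _ ⟨u, rfl⟩
  exact ⟨Matrix.GeneralLinearGroup.scalar (Fin n) u, scalar_mem_commSub _ u, det_scalar u⟩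

theorem D_le_pow_of_odd [Nontrivial (Fin n)] (hn : Odd n) (c : GL (Fin n) F) :
    D c ≤ (powMonoidHom n : Fˣ →* Fˣ).range := by
  rintro _ ⟨g, hg, rfl⟩
  obtain ⟨z, hz0, hz⟩ := (mem_commSub_gam c g).1 hg
  have hd := det_sq_of_sim c g z hz
  obtain ⟨k, hk⟩ := hn
  have hd0 : (g : Matrix (Fin n) (Fin n) F).det ≠ 0 := det_ne_zero_GL g
  set d := (g : Matrix (Fin n) (Fin n) F).det with hddef
  have hzk : z ^ k ≠ 0 := pow_ne_zero _ hz0
  have hw2 : (d / z ^ k) ^ 2 = z := by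
    rw [div_pow, hd, hk, pow_succ, pow_mul, ← pow_mul, mul_comm 2 k, pow_mul]
    field_simp
  have hw0 : d / z ^ k ≠ 0 := div_ne_zero hd0 hzk
  have h3 : (d - (d / z ^ k) ^ n) * (d + (d / z ^ k) ^ n) = 0 := by
    have : ((d / z ^ k) ^ n) ^ 2 = z ^ n := by
      rw [← pow_mul, mul_comm, pow_mul, hw2]
    linear_combination hd - this
  rcases mul_eq_zero.1 h3 with h | h
  · refine ⟨Units.mk0 _ hw0, Units.ext ?_⟩
    rw [powMonoidHom_apply, Units.val_pow_eq_pow_val, Units.val_mk0,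
      Matrix.GeneralLinearGroup.val_det_apply]
    linear_combination -h
  · refine ⟨Units.mk0 _ (neg_ne_zero.2 hw0), Units.ext ?_⟩
    rw [powMonoidHom_apply, Units.val_pow_eq_pow_val, Units.val_mk0,
      Matrix.GeneralLinearGroup.val_det_apply, Odd.neg_pow ⟨k, hk⟩]
    linear_combination -h

theorem D_le_pow_of_char_two [Nontrivial (Fin n)] [CharP F 2] (c : GL (Fin n) F) :
    D c ≤ (powMonoidHom n : Fˣ →* Fˣ).range := by
  rintro _ ⟨g, hg, rfl⟩
  obtain ⟨z, hz0, hz⟩ := (mem_commSub_gam c g).1 hg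
  have hd := det_sq_of_sim c g z hz
  have h2 : (2 : F) = 0 := by
    have := CharP.cast_eq_zero F 2
    exact_mod_cast this
  obtain ⟨w, hw⟩ : IsSquare z := FiniteField.isSquare_of_char_two (ringChar.eq F 2) z
  have hw0 : w ≠ 0 := by
    rintro rfl
    exact hz0 (by rw [hw, mul_zero])
  set d := (g : Matrix (Fin n) (Fin n) F).det with hddef
  have h3 : (d - w ^ n) ^ 2 = 0 := by
    have : (w ^ n) ^ 2 = z ^ n := by
      rw [hw, ← pow_two, ← pow_mul, ← pow_mul, mul_comm]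
    linear_combination hd + this + (z ^ n - d * w ^ n) * h2
  have h4 : d = w ^ n := by
    have := pow_eq_zero_iff (two_ne_zero) |>.1 h3
    linear_combination this
  refine ⟨Units.mk0 w hw0, Units.ext ?_⟩
  rw [powMonoidHom_apply, Units.val_pow_eq_pow_val, Units.val_mk0,
    Matrix.GeneralLinearGroup.val_det_apply]
  exact h4.symm

theorem index_pow (k : ℕ) {p f : ℕ} (hF : Fintype.card F = p ^ f) :
    (powMonoidHom k : Fˣ →* Fˣ).range.index = Nat.gcd k (p ^ f - 1) := by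
  rw [IsCyclic.index_powMonoidHom_range, Nat.card_units, Nat.card_eq_fintype_card, hF,
    Nat.gcd_comm]

theorem D_bil [Nontrivial (Fin n)] (c : GL (Fin n) F) :
    D c = (Cfsg.Geo.similarityGroup
      (fun u v : Fin n → F => u ⬝ᵥ ((c : Matrix (Fin n) (Fin n) F) *ᵥ v))).map
        Matrix.GeneralLinearGroup.det :=
  map_det_eq _ _ tauGL tauGL
    (fun g hg => by
      rw [mem_bilSim_iff]
      exact tauGL_cond _ g ((mem_commSub_gam c g).1 hg))
    (fun h hh => by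
      rw [mem_commSub_gam]
      exact tauGL_cond' _ h ((mem_bilSim_iff _ h).1 hh))
    (fun g => Or.inr (det_tauGL g)) (fun g => Or.inr (det_tauGL g))

theorem D_quad [Nontrivial (Fin n)] (h2 : (2 : F) ≠ 0) (c : GL (Fin n) F)
    (hc : (c : Matrix (Fin n) (Fin n) F)ᵀ = c) :
    D c = (Cfsg.Geo.quadSimilarityGroup
      (fun v : Fin n → F => v ⬝ᵥ ((c : Matrix (Fin n) (Fin n) F) *ᵥ v))).map
        Matrix.GeneralLinearGroup.det :=
  map_det_eq _ _ tauGL tauGL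
    (fun g hg => by
      rw [mem_quadSim_iff h2 _ hc]
      exact tauGL_cond _ g ((mem_commSub_gam c g).1 hg))
    (fun h hh => by
      rw [mem_commSub_gam]
      exact tauGL_cond' _ h ((mem_quadSim_iff h2 _ hc h).1 hh))
    (fun g => Or.inr (det_tauGL g)) (fun g => Or.inr (det_tauGL g))

theorem D_skew [Nontrivial (Fin n)] (h2 : (2 : F) ≠ 0) (hnm : n = 2 * m) (c : GL (Fin n) F)
    (hc : (c : Matrix (Fin n) (Fin n) F)ᵀ = -(c : Matrix (Fin n) (Fin n) F)) :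
    D c = (powMonoidHom m : Fˣ →* Fˣ).range := by
  obtain ⟨E, hE⟩ := skew_equiv h2 hnm (c : Matrix (Fin n) (Fin n) F) hc (det_ne_zero_GL c)
  rw [D_bil, map_det_bilSim_congr E _ (Cfsg.sympForm m F) hE]
  exact map_det_GSp

theorem QP_coe' (m : ℕ) : Cfsg.quadFormPlus m F = ⇑(QP m F) :=
  funext (fun v => (QP_apply m v).symm)

theorem D_sym [Nontrivial (Fin n)] (hodd : Odd (Fintype.card F)) (hm : 1 ≤ m) (hnm : n = 2 * m)
    (c : GL (Fin n) F) (hc : (c : Matrix (Fin n) (Fin n) F)ᵀ = c) :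
    D c = Subgroup.zpowers (-1 : Fˣ) ⊔ (powMonoidHom m : Fˣ →* Fˣ).range := by
  have h2 : (2 : F) ≠ 0 := two_ne_zero_of_odd hodd
  rw [D_quad h2 c hc]
  rcases sym_classify hodd hm hnm _ hc (det_ne_zero_GL c) with ⟨E, hE, -⟩ | ⟨ζ, E, hζ, hE, -⟩
  · rw [map_det_quadSim_congr E
      (fun v : Fin n → F => v ⬝ᵥ ((c : Matrix (Fin n) (Fin n) F) *ᵥ v))
      (Cfsg.quadFormPlus m F) hE, QP_coe']
    apply map_det_GO (QP_nondeg m) (QP_ne_zero hm) (card_plus m)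
    intro ν
    exact ⟨dnu m ν, dnu_sim m ν, dnu_det m ν⟩
  · have hab := aniso_of_noroot ζ hζ
    rw [map_det_quadSim_congr E
      (fun v : Fin n → F => v ⬝ᵥ ((c : Matrix (Fin n) (Fin n) F) *ᵥ v))
      (Cfsg.quadFormMinus (m - 1) F 1 ζ) hE, ← QMn_coe]
    have hcard : Fintype.card ((Fin (m - 1) ⊕ Fin (m - 1)) ⊕ Fin 2) = 2 * m := by
      rw [card_minus]
      omega
    apply map_det_GO (QMn_nondeg (m - 1) 1 ζ hab) (QMn_ne_zero (m - 1) 1 ζ) hcard
    intro ν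
    obtain ⟨α, β, hαβ⟩ := exists_norm h2 1 ζ hab (ν : F)
    have hdet : (dnuMinusMat (m - 1) 1 ζ (ν : F) α β).det ≠ 0 := by
      rw [dnuMinusMat_det (m - 1) 1 ζ ν α β hαβ]
      exact pow_ne_zero _ ν.ne_zero
    refine ⟨Matrix.GeneralLinearGroup.mkOfDetNeZero (dnuMinusMat (m - 1) 1 ζ (ν : F) α β) hdet,
      fun v => ?_, ?_⟩
    · rw [QMn_coe]
      exact dnuMinusMat_sim (m - 1) 1 ζ ν α β hαβ v
    · show (dnuMinusMat (m - 1) 1 ζ (ν : F) α β).det = _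
      rw [dnuMinusMat_det (m - 1) 1 ζ ν α β hαβ]
      congr 1
      omega

end D

section arith

theorem card_ne_plus (q m : ℕ) (hq : 3 ≤ q) (hm : 1 ≤ m) :
    2 * q ^ (m * (m - 1)) * (q ^ m - 1) * ∏ i ∈ Finset.range (m - 1), (q ^ (2 * (i + 1)) - 1)
      ≠ q ^ (m ^ 2) * ∏ i ∈ Finset.range m, (q ^ (2 * (i + 1)) - 1) := by
  obtain ⟨k, rfl⟩ : ∃ k, m = k + 1 := ⟨m - 1, by omega⟩
  rw [Nat.add_sub_cancel, Finset.prod_range_succ]
  have hP : 0 < ∏ i ∈ Finset.range k, (q ^ (2 * (i + 1)) - 1) := by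
    apply Finset.prod_pos
    intro i _
    have : 1 < q ^ (2 * (i + 1)) := Nat.one_lt_pow (by omega) (by omega)
    omega
  have hA : 0 < q ^ ((k + 1) * k) := Nat.pow_pos (by omega)
  have hX : 3 ≤ q ^ (k + 1) := by
    calc 3 ≤ q := hq
      _ = q ^ 1 := (pow_one q).symm
      _ ≤ q ^ (k + 1) := Nat.pow_le_pow_right (by omega) (by omega)
  have e1 : q ^ ((k + 1) ^ 2) = q ^ ((k + 1) * k) * q ^ (k + 1) := by
    rw [← pow_add]
    congr 1
    ring
  have e2 : q ^ (2 * (k + 1)) = (q ^ (k + 1)) ^ 2 := by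
    rw [← pow_mul, mul_comm]
  rw [e1, e2]
  generalize q ^ (k + 1) = X at hX
  generalize q ^ ((k + 1) * k) = A at hA
  generalize ∏ i ∈ Finset.range k, (q ^ (2 * (i + 1)) - 1) = P at hP
  intro h
  obtain ⟨Y, rfl⟩ : ∃ Y, X = Y + 3 := ⟨X - 3, by omega⟩
  have e3 : (Y + 3) ^ 2 - 1 = Y ^ 2 + 6 * Y + 8 := by
    have : (Y + 3) ^ 2 = (Y ^ 2 + 6 * Y + 8) + 1 := by ring
    rw [this, Nat.add_sub_cancel]
  have e4 : Y + 3 - 1 = Y + 2 := by omega
  rw [e3, e4] at h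
  have hAP : 0 < A * P := Nat.mul_pos hA hP
  have h' : (A * P) * (2 * (Y + 2)) = (A * P) * ((Y + 3) * (Y ^ 2 + 6 * Y + 8)) := by
    linarith [h]
  have h'' := Nat.eq_of_mul_eq_mul_left hAP h'
  nlinarith [h'']

theorem card_ne_minus (q m : ℕ) (hq : 3 ≤ q) (hm : 1 ≤ m) :
    2 * q ^ (m * (m - 1)) * (q ^ m + 1) * ∏ i ∈ Finset.range (m - 1), (q ^ (2 * (i + 1)) - 1)
      ≠ q ^ (m ^ 2) * ∏ i ∈ Finset.range m, (q ^ (2 * (i + 1)) - 1) := by
  obtain ⟨k, rfl⟩ : ∃ k, m = k + 1 := ⟨m - 1, by omega⟩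
  rw [Nat.add_sub_cancel, Finset.prod_range_succ]
  have hP : 0 < ∏ i ∈ Finset.range k, (q ^ (2 * (i + 1)) - 1) := by
    apply Finset.prod_pos
    intro i _
    have : 1 < q ^ (2 * (i + 1)) := Nat.one_lt_pow (by omega) (by omega)
    omega
  have hA : 0 < q ^ ((k + 1) * k) := Nat.pow_pos (by omega)
  have hX : 3 ≤ q ^ (k + 1) := by
    calc 3 ≤ q := hq
      _ = q ^ 1 := (pow_one q).symm
      _ ≤ q ^ (k + 1) := Nat.pow_le_pow_right (by omega) (by omega)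
  have e1 : q ^ ((k + 1) ^ 2) = q ^ ((k + 1) * k) * q ^ (k + 1) := by
    rw [← pow_add]
    congr 1
    ring
  have e2 : q ^ (2 * (k + 1)) = (q ^ (k + 1)) ^ 2 := by
    rw [← pow_mul, mul_comm]
  rw [e1, e2]
  generalize q ^ (k + 1) = X at hX
  generalize q ^ ((k + 1) * k) = A at hA
  generalize ∏ i ∈ Finset.range k, (q ^ (2 * (i + 1)) - 1) = P at hP
  intro h
  obtain ⟨Y, rfl⟩ : ∃ Y, X = Y + 3 := ⟨X - 3, by omega⟩
  have e3 : (Y + 3) ^ 2 - 1 = Y ^ 2 + 6 * Y + 8 := by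
    have : (Y + 3) ^ 2 = (Y ^ 2 + 6 * Y + 8) + 1 := by ring
    rw [this, Nat.add_sub_cancel]
  rw [e3] at h
  have hAP : 0 < A * P := Nat.mul_pos hA hP
  have h' : (A * P) * (2 * (Y + 3 + 1)) = (A * P) * ((Y + 3) * (Y ^ 2 + 6 * Y + 8)) := by
    linarith [h]
  have h'' := Nat.eq_of_mul_eq_mul_left hAP h'
  nlinarith [h'']

end arith

section final
variable {F : Type*} [Field F] [Fintype F] {n m : ℕ}

theorem index_sym (hodd : Odd (Fintype.card F)) {p f : ℕ} (hF : Fintype.card F = p ^ f) (m : ℕ) :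
    (Subgroup.zpowers (-1 : Fˣ) ⊔ (powMonoidHom m : Fˣ →* Fˣ).range).index
      = Nat.gcd (2 * m) (p ^ f - 1) / 2 := by
  have h2 : (2 : F) ≠ 0 := two_ne_zero_of_odd hodd
  rw [sup_comm, index_pow_sup]
  have hord : orderOf (-1 : Fˣ) = 2 := by
    apply orderOf_eq_prime
    · rw [neg_one_sq]
    · exact neg_one_ne_one_units h2
  have hcard : Nat.card (Subgroup.zpowers (-1 : Fˣ)) = 2 := by
    rw [Nat.card_zpowers, hord]
  have h1 := Subgroup.card_mul_index (Subgroup.zpowers (-1 : Fˣ))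
  rw [hcard, Nat.card_units, Nat.card_eq_fintype_card, hF] at h1
  rw [← h1, Nat.gcd_mul_left, Nat.mul_div_cancel_left _ (by norm_num : 0 < 2), Nat.gcd_comm]

theorem iso_skew (hodd : Odd (Fintype.card F)) (hm : 1 ≤ m) (hnm : n = 2 * m) (c : GL (Fin n) F)
    (hc : (c : Matrix (Fin n) (Fin n) F)ᵀ = -(c : Matrix (Fin n) (Fin n) F)) :
    Nonempty (↥(Cfsg.inndiagPSL n F ⊓ Subgroup.centralizer {gam c}) ≃* Cfsg.PGSp m F) := by
  have h2 : (2 : F) ≠ 0 := two_ne_zero_of_odd hodd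
  have hn2 : 2 ≤ n := by omega
  obtain ⟨E, hE⟩ := skew_equiv h2 hnm (c : Matrix (Fin n) (Fin n) F) hc (det_ne_zero_GL c)
  obtain ⟨e₀⟩ := centralizer_gam_bil hn2 c
  obtain ⟨e₁⟩ := bilSim_congr E
    (fun u v : Fin n → F => u ⬝ᵥ ((c : Matrix (Fin n) (Fin n) F) *ᵥ v)) (Cfsg.sympForm m F) hE
  exact ⟨e₀.trans e₁⟩

theorem not_iso_sym (hodd : Odd (Fintype.card F)) (hm : 1 ≤ m) (hnm : n = 2 * m)
    (c : GL (Fin n) F) (hc : (c : Matrix (Fin n) (Fin n) F)ᵀ = c) :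
    ¬ Nonempty (↥(Cfsg.inndiagPSL n F ⊓ Subgroup.centralizer {gam c}) ≃* Cfsg.PGSp m F) := by
  rintro ⟨e⟩
  have h2 : (2 : F) ≠ 0 := two_ne_zero_of_odd hodd
  have hn2 : 2 ≤ n := by omega
  have hq3 : 3 ≤ Fintype.card F := by
    have h1 := Fintype.one_lt_card (α := F)
    rcases hodd with ⟨k, hk⟩
    omega
  have hcardSp := card_PGSp (F := F) (m := m) hm
  rw [Cfsg.Agent.S0245.result rfl m] at hcardSp
  obtain ⟨e₀⟩ := centralizer_gam_sym hn2 h2 c hc
  rcases sym_classify hodd hm hnm _ hc (det_ne_zero_GL c) with ⟨E, hE, -⟩ | ⟨ζ, E, hζ, hE, -⟩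
  · obtain ⟨e₁⟩ := pgo_congr_of_equiv E
      (fun v : Fin n → F => v ⬝ᵥ ((c : Matrix (Fin n) (Fin n) F) *ᵥ v))
      (Cfsg.quadFormPlus m F) hE
    have h1 : Nat.card (Cfsg.PGO F (Cfsg.quadFormPlus m F)) = Nat.card (Cfsg.PGSp m F) :=
      Nat.card_congr ((e₁.symm.trans e₀.symm).trans e).toEquiv
    haveI : Nonempty (Fin m ⊕ Fin m) := ⟨Sum.inl ⟨0, hm⟩⟩
    have h3 : Nat.card (Cfsg.PGO F (Cfsg.quadFormPlus m F))
        = Nat.card (Cfsg.isometryGroup F (Cfsg.quadFormPlus m F)) := by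
      rw [QP_coe']
      exact card_PGO (QP_ne_zero hm) (fun ν => ⟨dnu m ν, dnu_sim m ν⟩)
    rw [h3, Cfsg.Agent.S0287.result rfl m hm, hcardSp] at h1
    exact card_ne_plus _ m hq3 hm h1
  · have hab := aniso_of_noroot ζ hζ
    obtain ⟨e₁⟩ := pgo_congr_of_equiv E
      (fun v : Fin n → F => v ⬝ᵥ ((c : Matrix (Fin n) (Fin n) F) *ᵥ v))
      (Cfsg.quadFormMinus (m - 1) F 1 ζ) hE
    have h1 : Nat.card (Cfsg.PGO F (Cfsg.quadFormMinus (m - 1) F 1 ζ))
        = Nat.card (Cfsg.PGSp m F) :=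
      Nat.card_congr ((e₁.symm.trans e₀.symm).trans e).toEquiv
    haveI : Nonempty ((Fin (m - 1) ⊕ Fin (m - 1)) ⊕ Fin 2) := ⟨Sum.inr 0⟩
    have h3 : Nat.card (Cfsg.PGO F (Cfsg.quadFormMinus (m - 1) F 1 ζ))
        = Nat.card (Cfsg.isometryGroup F (Cfsg.quadFormMinus (m - 1) F 1 ζ)) := by
      rw [← QMn_coe]
      apply card_PGO (QMn_ne_zero (m - 1) 1 ζ)
      intro ν
      obtain ⟨α, β, hαβ⟩ := exists_norm h2 1 ζ hab (ν : F)
      have hdet : (dnuMinusMat (m - 1) 1 ζ (ν : F) α β).det ≠ 0 := by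
        rw [dnuMinusMat_det (m - 1) 1 ζ ν α β hαβ]
        exact pow_ne_zero _ ν.ne_zero
      refine ⟨Matrix.GeneralLinearGroup.mkOfDetNeZero (dnuMinusMat (m - 1) 1 ζ (ν : F) α β) hdet,
        fun v => ?_⟩
      rw [QMn_coe]
      exact dnuMinusMat_sim (m - 1) 1 ζ ν α β hαβ v
    rw [h3, Cfsg.Agent.S0288.result rfl m hm 1 ζ hab, hcardSp] at h1
    exact card_ne_minus _ m hq3 hm h1

end final



/-- Let T = PSL_n(F) over the field with q = p^f elements, n ≥ 3, G = Inndiag(T) the image of PGL_n(F), and γ an involutory graph automorphism of T. The G-class of γ is the union of exactly c T-classes, where: if n is even and q is odd, c = gcd(n/2, q − 1) when C_G(γ) is isomorphic to the projective conformal symplectic group PGSp_n(F) (symplectic type) and c = gcd(n, q − 1)/2 otherwise; and c = gcd(n, q − 1) when n is odd or q is even. -/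
theorem result {F : Type*} [Field F] [Fintype F] {p f : ℕ} [Fact p.Prime] (hF : Fintype.card F = p ^ f) (hf : 1 ≤ f) {n : ℕ} (hn : 3 ≤ n) (γ : MulAut (Matrix.ProjectiveSpecialLinearGroup (Fin n) F)) (hγ : Cfsg.IsGraphAutClassPSL γ) (hγ2 : orderOf γ = 2) :
    ((Even n ∧ Odd p ∧ Nonempty (↥(Cfsg.inndiagPSL n F ⊓ Subgroup.centralizer {γ}) ≃* Cfsg.PGSp (n / 2) F)) → Cfsg.splitClassCount (Cfsg.inndiagPSL n F) (Cfsg.Inn (Matrix.ProjectiveSpecialLinearGroup (Fin n) F)) γ = Nat.gcd (n / 2) (p ^ f - 1)) ∧ ((Even n ∧ Odd p ∧ ¬ Nonempty (↥(Cfsg.inndiagPSL n F ⊓ Subgroup.centralizer {γ}) ≃* Cfsg.PGSp (n / 2) F)) → Cfsg.splitClassCount (Cfsg.inndiagPSL n F) (Cfsg.Inn (Matrix.ProjectiveSpecialLinearGroup (Fin n) F)) γ = Nat.gcd n (p ^ f - 1) / 2) ∧ (¬ (Even n ∧ Odd p) → Cfsg.splitClassCount (Cfsg.inndiagPSL n F) (Cfsg.Inn (Matrix.ProjectiveSpecialLinearGroup (Fin n) F)) γ = Nat.gcd n (p ^ f - 1)) := by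
  have hn2 : 2 ≤ n := by omega
  have : Nontrivial (Fin n) := Fin.nontrivial_iff_two_le.2 hn2
  obtain ⟨c, rfl⟩ := exists_gam_of_isGraph hγ
  have hcount : Cfsg.splitClassCount (Cfsg.inndiagPSL n F)
      (Cfsg.Inn (Matrix.ProjectiveSpecialLinearGroup (Fin n) F)) (gam c) = (D c).index :=
    splitCount_eq (by omega) (gam c)
  rw [hcount]
  by_cases hcase : Even n ∧ Odd p
  · obtain ⟨hev, hp⟩ := hcase
    have hodd : Odd (Fintype.card F) := by
      rw [hF]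
      exact hp.pow
    have h2 : (2 : F) ≠ 0 := two_ne_zero_of_odd hodd
    have hnm : n = 2 * (n / 2) := by
      obtain ⟨k, hk⟩ := hev
      omega
    have hm : 1 ≤ n / 2 := by omega
    obtain ⟨z, hz0, hz⟩ := (orderOf_gam_eq_two_iff hn c).1 hγ2
    rcases sq_eq_one_of_smul_transpose c z hz with rfl | rfl
    · -- symmetric
      have hc : (c : Matrix (Fin n) (Fin n) F)ᵀ = c := by
        rw [one_smul] at hz
        exact hz.symm
      refine ⟨fun h => absurd h.2.2 (not_iso_sym hodd hm hnm c hc), fun _ => ?_,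
        fun h => absurd ⟨hev, hp⟩ h⟩
      rw [D_sym hodd hm hnm c hc, index_sym hodd hF, ← hnm]
    · -- skew
      have hc : (c : Matrix (Fin n) (Fin n) F)ᵀ = -(c : Matrix (Fin n) (Fin n) F) := by
        conv_rhs => rw [hz, neg_smul, one_smul, neg_neg]
      refine ⟨fun _ => ?_, fun h => absurd (iso_skew hodd hm hnm c hc) h.2.2,
        fun h => absurd ⟨hev, hp⟩ h⟩
      rw [D_skew h2 hnm c hc, index_pow _ hF]
  · refine ⟨fun h => absurd ⟨h.1, h.2.1⟩ hcase, fun h => absurd ⟨h.1, h.2.1⟩ hcase, fun _ => ?_⟩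
    have hD : D c = (powMonoidHom n : Fˣ →* Fˣ).range := by
      apply le_antisymm _ (pow_le_D c)
      by_cases hn' : Odd n
      · exact D_le_pow_of_odd hn' c
      · have hp : ¬ Odd p := by
          intro hp
          exact hcase ⟨Nat.not_odd_iff_even.1 hn', hp⟩
        have hp2 : p = 2 := by
          rcases (Fact.out : p.Prime).eq_two_or_odd' with h | h
          · exact h
          · exact absurd h hp
        have hch : ringChar F = 2 := by
          rw [FiniteField.even_card_iff_char_two, hF, hp2]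
          obtain ⟨k, rfl⟩ : ∃ k, f = k + 1 := ⟨f - 1, by omega⟩
          rw [pow_succ]
          omega
        haveI : CharP F 2 := ringChar.of_eq hch
        exact D_le_pow_of_char_two c
    rw [hD, index_pow _ hF]


end Cfsg.Agent.S2702
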