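import Mathlib
import Cfsg.Statements.S3444
import Cfsg.Agent.Lib.Helper4.PiCore
import Cfsg.Agent.Lib.Lead.HallThm

set_option autoImplicit false
set_option linter.style.haveILetI false
open Cfsg

namespace Cfsg.Agent.S3444

universe u

variable {G : Type u} [Group G]

/-- the fibre power of `G` over `G ⧸ V`: tuples all congruent modulo `V`. -/
def fiberPow (V : Subgroup G) [V.Normal] (k : ℕ) : Subgroup (Fin k → G) where
  carrier := {f | ∀ i j, QuotientGroup.mk' V (f i) = QuotientGroup.mk' V (f j)}
  one_mem' := by intro i j; simp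
  mul_mem' := by
    intro f g hf hg i j
    simp only [Pi.mul_apply, map_mul]
    rw [hf i j, hg i j]
  inv_mem' := by
    intro f hf i j
    simp only [Pi.inv_apply, map_inv]
    rw [hf i j]

lemma mem_fiberPow (V : Subgroup G) [V.Normal] (k : ℕ) (f : Fin k → G) :
    f ∈ fiberPow V k ↔ ∀ i j, QuotientGroup.mk' V (f i) = QuotientGroup.mk' V (f j) := Iff.rfl

/-- the diagonal embedding -/
def diag (V : Subgroup G) [V.Normal] (k : ℕ) : G →* fiberPow V k where
  toFun g := ⟨fun _ => g, fun _ _ => rfl⟩
  map_one' := rfl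
  map_mul' _ _ := rfl

lemma diag_injective (V : Subgroup G) [V.Normal] (k : ℕ) (hk : 0 < k) :
    Function.Injective (diag V k) := by
  intro a b hab
  have := congrArg (fun f : fiberPow V k => (f : Fin k → G) ⟨0, hk⟩) hab
  exact this

lemma order_shape [Finite G] (V : Subgroup G) [V.Normal] (p : ℕ) [Fact p.Prime] (hV : IsPGroup p V)
    (x : G) : ∃ a : ℕ, orderOf x = orderOf (QuotientGroup.mk' V x) * p ^ a := by
  set m := orderOf (QuotientGroup.mk' V x) with hm
  have hm0 : m ≠ 0 := (orderOf_pos _).ne'
  have hmd : m ∣ orderOf x := orderOf_map_dvd _ x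
  have hxm : x ^ m ∈ V := by
    rw [← QuotientGroup.eq_one_iff, ← QuotientGroup.mk'_apply, map_pow, hm]
    exact pow_orderOf_eq_one _
  obtain ⟨a, ha⟩ := (IsPGroup.iff_orderOf.mp hV) ⟨x ^ m, hxm⟩
  rw [← Subgroup.orderOf_coe] at ha
  rw [orderOf_pow_of_dvd hm0 hmd] at ha
  refine ⟨a, ?_⟩
  rw [← ha, Nat.mul_div_cancel' hmd]

lemma spectrum_fiberPow [Finite G] (V : Subgroup G) [V.Normal] (p : ℕ) [Fact p.Prime]
    (hV : IsPGroup p V) (k : ℕ) (hk : 0 < k) :
    Set.range (orderOf : fiberPow V k → ℕ) = Set.range (orderOf : G → ℕ) := by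
  have hp : (Fact.out : p.Prime) = Fact.out := rfl
  have hpp : p.Prime := Fact.out
  ext n
  constructor
  · rintro ⟨f, rfl⟩
    haveI : Nonempty (Fin k) := ⟨⟨0, hk⟩⟩
    obtain ⟨j, hj⟩ := Finite.exists_max (fun i => orderOf ((f : Fin k → G) i))
    refine ⟨(f : Fin k → G) j, ?_⟩
    have hdiv : ∀ i, orderOf ((f : Fin k → G) i) ∣ orderOf ((f : Fin k → G) j) := by
      intro i
      obtain ⟨a, ha⟩ := order_shape V p hV ((f : Fin k → G) i)
      obtain ⟨b, hb⟩ := order_shape V p hV ((f : Fin k → G) j)
      have hq : QuotientGroup.mk' V ((f : Fin k → G) i) = QuotientGroup.mk' V ((f : Fin k → G) j) :=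
        f.2 i j
      rw [hq] at ha
      have hle : orderOf ((f : Fin k → G) i) ≤ orderOf ((f : Fin k → G) j) := hj i
      rw [ha, hb] at hle ⊢
      have hm0 : 0 < orderOf (QuotientGroup.mk' V ((f : Fin k → G) j)) := orderOf_pos _
      have hle' : p ^ a ≤ p ^ b := Nat.le_of_mul_le_mul_left hle hm0
      have hab : a ≤ b := (Nat.pow_le_pow_iff_right hpp.one_lt).mp hle'
      exact Nat.mul_dvd_mul_left _ (pow_dvd_pow p hab)
    symm
    rw [orderOf_eq_orderOf_iff]
    intro n
    constructor
    · intro h
      have h1 : ((f ^ n : fiberPow V k) : Fin k → G) j = 1 := by rw [h]; rfl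
      simpa using h1
    · intro h
      apply Subtype.ext
      funext i
      show ((f : Fin k → G) i) ^ n = 1
      rw [← orderOf_dvd_iff_pow_eq_one] at h ⊢
      exact (hdiv i).trans h
  · rintro ⟨g, rfl⟩
    exact ⟨diag V k g, orderOf_injective _ (diag_injective V k hk) g⟩

lemma card_fiberPow_ge [Finite G] (V : Subgroup G) [V.Normal] (k : ℕ) :
    Nat.card V ^ k ≤ Nat.card (fiberPow V k) := by
  have : Nat.card (Fin k → V) = Nat.card V ^ k := by
    rw [Nat.card_fun, Nat.card_fin]
  rw [← this]
  apply Nat.card_le_card_of_injective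
    (fun f : Fin k → V => (⟨fun i => (f i : G), by
      intro i j
      rw [QuotientGroup.mk'_apply, QuotientGroup.mk'_apply,
        (QuotientGroup.eq_one_iff _).mpr (f i).2, (QuotientGroup.eq_one_iff _).mpr (f j).2]⟩ :
        fiberPow V k))
  intro f g hfg
  funext i
  apply Subtype.ext
  have := congrArg (fun h : fiberPow V k => (h : Fin k → G) i) hfg
  exact this

/-- a `Type 0` carrier with no algebraic instances -/
def Carrier (n : ℕ) : Type := Fin n

instance (n : ℕ) : Fintype (Carrier n) := inferInstanceAs (Fintype (Fin n))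

lemma card_carrier (n : ℕ) : Fintype.card (Carrier n) = n := Fintype.card_fin n

/-- A finite group with a non-trivial solvable normal subgroup is not determined by its set of element orders, not even up to finitely many possibilities: for every bound N there is a finite group of order greater than N with exactly the same set of element orders. -/
theorem result {G : Type*} [Group G] [Finite G] (K : Subgroup G) [K.Normal] (hK : K ≠ ⊥)
    (hs : Group.IsSolvable K) (N : ℕ) :
    ∃ (H : Type) (_ : Group H) (_ : Fintype H), N < Fintype.card H ∧ Set.range (orderOf : H → ℕ) = Set.range (orderOf : G → ℕ) := by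
  -- a nontrivial normal p-subgroup
  haveI : Nontrivial K := (Subgroup.nontrivial_iff_ne_bot K).mpr hK
  haveI := hs
  obtain ⟨p, M, hp, hMn, -, hMp, hM1, -⟩ := Cfsg.Agent.Lib.Lead.exists_normal_abelian_pgroup (G := K)
  haveI : Fact p.Prime := ⟨hp⟩
  have hKn : K.Normal := inferInstance
  have hsub : (M.map K.subtype).IsSubnormal := hMn.isSubnormal.trans' hKn.isSubnormal
  have hMV : M.map K.subtype ≤ Cfsg.piCore {p} G := by
    apply Cfsg.Agent.Lib.Helper4.le_piCore_of_isSubnormal hsub
    intro q hq hqd
    rw [Subgroup.card_map_of_injective K.subtype_injective] at hqd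
    obtain ⟨k, hk⟩ := IsPGroup.iff_card.mp hMp
    rw [hk] at hqd
    have := (Nat.prime_dvd_prime_iff_eq hq hp).mp (hq.dvd_of_dvd_pow hqd)
    rw [this]; exact Set.mem_singleton _
  set V := Cfsg.piCore {p} G with hVdef
  have hVp : IsPGroup p V := by
    have hpi := Cfsg.Agent.Lib.Helper4.isPiNum_card_piCore (G := G) {p}
    have hcard : Nat.card V = p ^ (Nat.card V).primeFactorsList.length := by
      apply Nat.eq_prime_pow_of_unique_prime_dvd Nat.card_pos.ne'
      intro d hd hdn
      exact hpi d hd hdn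
    exact IsPGroup.of_card hcard
  have hV1 : V ≠ ⊥ := by
    intro h
    rw [h, le_bot_iff] at hMV
    apply hM1
    rw [← (Subgroup.map_eq_bot_iff_of_injective M K.subtype_injective)]
    exact hMV
  have hV2 : 2 ≤ Nat.card V := by
    have : 1 < Nat.card V := by
      rw [Subgroup.one_lt_card_iff_ne_bot]; exact hV1
    exact this
  -- the group
  set k := N + 1 with hk
  set Hk := fiberPow V k with hHk
  have hcard : N < Nat.card Hk := by
    calc N < 2 ^ k := by
          rw [hk]; exact lt_of_lt_of_le (Nat.lt_succ_self N) (Nat.lt_two_pow_self).le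
      _ ≤ Nat.card V ^ k := Nat.pow_le_pow_left hV2 k
      _ ≤ Nat.card Hk := card_fiberPow_ge V k
  have hspec := spectrum_fiberPow V p hVp k (by omega)
  -- transport to `Fin`
  let e : Carrier (Nat.card Hk) ≃ Hk := (Finite.equivFin Hk).symm
  letI : Group (Carrier (Nat.card Hk)) := e.group
  refine ⟨Carrier (Nat.card Hk), e.group, inferInstance, ?_, ?_⟩
  · rw [card_carrier]; exact hcard
  · rw [← hspec]
    have he : ∀ x : Carrier (Nat.card Hk), orderOf (e.mulEquiv x) = orderOf x := fun x =>
      MulEquiv.orderOf_eq e.mulEquiv x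
    ext n
    constructor
    · rintro ⟨x, rfl⟩
      exact ⟨e.mulEquiv x, he x⟩
    · rintro ⟨y, rfl⟩
      refine ⟨e.mulEquiv.symm y, ?_⟩
      rw [← he, MulEquiv.apply_symm_apply]

end Cfsg.Agent.S3444
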