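import Cfsg.Statements.S2582
import Cfsg.Agent.Lib.Helper5.UnipForm1
import Cfsg.Agent.Lib.Helper5.UnipForm4
import Cfsg.Agent.Lib.Helper5.AltForm2
import Cfsg.Agent.Lib.Helper2.SpFrames

set_option autoImplicit false
open Cfsg

namespace Cfsg.Agent.S2582


open Module Matrix Cfsg.Agent.Lib.Helper5.UnipForm Cfsg.Agent.Lib.Helper2.SpIsom
  Cfsg.Agent.Lib.Helper5.AltForm

/-- the parity condition for an element of the symplectic group -/
theorem sp_parity {F : Type*} [Field F] {m : ℕ} (A : Matrix.symplecticGroup (Fin m) F) (k : ℕ) :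
    ∃ r : ℕ, 2 * finrank F (LinearMap.ker ((Matrix.toLin' ((A : Matrix (Fin m ⊕ Fin m) (Fin m ⊕ Fin m) F) - 1)) ^ (2 * k + 1))) =
      finrank F (LinearMap.ker ((Matrix.toLin' ((A : Matrix (Fin m ⊕ Fin m) (Fin m ⊕ Fin m) F) - 1)) ^ (2 * k))) +
      finrank F (LinearMap.ker ((Matrix.toLin' ((A : Matrix (Fin m ⊕ Fin m) (Fin m ⊕ Fin m) F) - 1)) ^ (2 * k + 2))) + 2 * r := by
  set M : Matrix (Fin m ⊕ Fin m) (Fin m ⊕ Fin m) F := (A : Matrix (Fin m ⊕ Fin m) (Fin m ⊕ Fin m) F) with hM
  set M' : Matrix (Fin m ⊕ Fin m) (Fin m ⊕ Fin m) F := ((A⁻¹ : Matrix.symplecticGroup (Fin m) F) : Matrix (Fin m ⊕ Fin m) (Fin m ⊕ Fin m) F) with hM'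
  have hMM' : M * M' = 1 := by
    have := congrArg (fun z : Matrix.symplecticGroup (Fin m) F =>
      (z : Matrix (Fin m ⊕ Fin m) (Fin m ⊕ Fin m) F)) (mul_inv_cancel A)
    exact this
  have hM'M : M' * M = 1 := mul_eq_one_comm.1 hMM'
  set u : Module.End F (Fin m ⊕ Fin m → F) := Matrix.toLin' M with hu
  set u' : Module.End F (Fin m ⊕ Fin m → F) := Matrix.toLin' M' with hu'
  have h1 : u * u' = 1 := by
    rw [hu, hu', Module.End.mul_eq_comp, ← Matrix.toLin'_mul, hMM', Matrix.toLin'_one]
    rfl
  have h2 : u' * u = 1 := by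
    rw [hu, hu', Module.End.mul_eq_comp, ← Matrix.toLin'_mul, hM'M, Matrix.toLin'_one]
    rfl
  have hpres : ∀ x y, sympBilin m F (u x) (u y) = sympBilin m F x y := by
    intro x y
    rw [sympBilin_apply, sympBilin_apply, hu, Matrix.toLin'_apply, Matrix.toLin'_apply]
    exact (Cfsg.Agent.Lib.Helper1.SpCard.mem_symplectic_iff_form M).1 A.2 x y
  have hsub : u - 1 = Matrix.toLin' (M - 1) := by
    rw [hu, map_sub, Matrix.toLin'_one]
    rfl
  have halt := alt_of_alt (sympBilin m F) u u' h1 h2 hpres sympBilin_isAlt k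
  have hpar := parity (sympBilin m F) u u' Cfsg.Agent.Lib.Helper2.SpFrames.sympBilin_nondeg
    (sympBilin_isAlt (m := m) (F := F)).isRefl h1 h2 hpres (2 * k) halt
  rw [hsub] at hpar
  exact hpar



/-- Which unipotent Jordan types occur in the finite symplectic group: over a finite field, a unipotent matrix with Jordan block sizes d_1, …, d_t (sum 2m, all at least 1) is similar to an element of Sp_2m(F) if and only if every odd block size occurs an even number of times. -/
theorem result {F : Type*} [Field F] [Fintype F] {m t : ℕ} (d : Fin t → ℕ) (hd : ∀ k, 1 ≤ d k) (hsum : ∑ k, d k = 2 * m) : (∃ e : ((k : Fin t) × Fin (d k)) ≃ (Fin m ⊕ Fin m), ∃ A : Matrix.symplecticGroup (Fin m) F, IsConj (Matrix.reindex e e (Cfsg.jordanTypeMatrix d F)) (A : Matrix (Fin m ⊕ Fin m) (Fin m ⊕ Fin m) F)) ↔ ∀ j : ℕ, Odd j → Even (Finset.univ.filter (fun k : Fin t => d k = j)).card := by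
  classical
  constructor
  · rintro ⟨e, A, hconj⟩ i hi
    obtain ⟨k, rfl⟩ := hi
    obtain ⟨r, hr⟩ := sp_parity A k
    have hdim : ∀ j, finrank F (LinearMap.ker ((Matrix.toLin'
        ((A : Matrix (Fin m ⊕ Fin m) (Fin m ⊕ Fin m) F) - 1)) ^ j)) = ∑ k, min (d k) j := by
      intro j
      rw [← finrank_ker_of_isConj e (Cfsg.jordanTypeMatrix d F) _ hconj j,
        finrank_ker_jordanType_pow]
    rw [hdim, hdim, hdim, two_mul_sum_min] at hr
    exact ⟨r, by omega⟩
  · intro hpar
    set s : Multiset ℕ := (Finset.univ : Finset (Fin t)).val.map d with hs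
    have hsmap : ∀ j, (s.map (fun a => min a j)).sum = ∑ k, min (d k) j := by
      intro j
      rw [hs, Multiset.map_map]
      rfl
    have hpos : ∀ a ∈ s, 1 ≤ a := by
      intro a ha
      obtain ⟨k, -, rfl⟩ := Multiset.mem_map.1 ha
      exact hd k
    have hcount : ∀ j, s.count j = (Finset.univ.filter (fun k : Fin t => d k = j)).card := by
      intro j
      rw [hs, Multiset.count_map, Finset.card_def, Finset.filter_val]
      congr 1
      apply Multiset.filter_congr
      intro x _
      exact eq_comm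
    have hsp : SpUnip F s := by
      apply spUnip_of_parity _ s rfl hpos
      intro j hj
      rw [hcount]
      exact hpar j hj
    obtain ⟨V, iA, iM, iF, ω, A, n, hω1, hω2, hω3, hnil, hdims⟩ := hsp
    -- the dimension of `V`
    have hVdim : finrank F V = 2 * m := by
      set N := n + ∑ k, d k with hN
      have h0 : (A - 1) ^ N = 0 := by rw [hN, pow_add, hnil, zero_mul]
      have h1 := hdims N
      rw [h0, LinearMap.ker_zero, finrank_top, hsmap] at h1
      rw [h1, ← hsum]
      apply Finset.sum_congr rfl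
      intro k _
      apply min_eq_left
      rw [hN]
      exact (Finset.single_le_sum (fun i _ => Nat.zero_le (d i)) (Finset.mem_univ k)).trans
        (Nat.le_add_left _ _)
    obtain ⟨m', b, hm', hb⟩ := exists_symplectic_basis hω1 hω2
    obtain rfl : m' = m := by omega
    have hmem : LinearMap.toMatrix b b A ∈ Matrix.symplecticGroup (Fin m') F := by
      rw [Cfsg.Agent.Lib.Helper1.SpCard.mem_symplectic_iff_form]
      intro x y
      have hx : x = b.repr (b.repr.symm (Finsupp.equivFunOnFinite.symm x)) := by simp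
      have hy : y = b.repr (b.repr.symm (Finsupp.equivFunOnFinite.symm y)) := by simp
      set u := b.repr.symm (Finsupp.equivFunOnFinite.symm x) with hu
      set v := b.repr.symm (Finsupp.equivFunOnFinite.symm y) with hv
      rw [hx, hy, LinearMap.toMatrix_mulVec_repr, LinearMap.toMatrix_mulVec_repr,
        ← Cfsg.Agent.Lib.Helper5.AltForm.form_eq_sympForm ω b hb,
        ← Cfsg.Agent.Lib.Helper5.AltForm.form_eq_sympForm ω b hb, hω3]
    have hcard : Fintype.card ((k : Fin t) × Fin (d k)) = Fintype.card (Fin m' ⊕ Fin m') := by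
      rw [Fintype.card_sigma, Fintype.card_sum, Fintype.card_fin]
      simp only [Fintype.card_fin]
      rw [hsum]
      ring
    set e : ((k : Fin t) × Fin (d k)) ≃ (Fin m' ⊕ Fin m') := Fintype.equivOfCardEq hcard with he
    refine ⟨e, ⟨LinearMap.toMatrix b b A, hmem⟩, ?_⟩
    show IsConj (Matrix.reindex e e (Cfsg.jordanTypeMatrix d F)) (LinearMap.toMatrix b b A)
    set N := n + ∑ k, d k with hN
    have hdimR : ∀ j, finrank F (LinearMap.ker ((Matrix.toLin'
        (Matrix.reindex e e (Cfsg.jordanTypeMatrix d F) - 1)) ^ j)) = ∑ k, min (d k) j :=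
      fun j => finrank_ker_reindex_jordanType d e j
    have hdimB : ∀ j, finrank F (LinearMap.ker ((Matrix.toLin'
        (LinearMap.toMatrix b b A - 1)) ^ j)) = ∑ k, min (d k) j := by
      intro j
      rw [finrank_ker_toMatrix, hdims, hsmap]
    have hfull : ∑ k, min (d k) N = finrank F (Fin m' ⊕ Fin m' → F) := by
      rw [Module.finrank_fintype_fun_eq_card, ← hcard, Fintype.card_sigma]
      simp only [Fintype.card_fin]
      apply Finset.sum_congr rfl
      intro k _
      apply min_eq_left
      rw [hN]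
      exact (Finset.single_le_sum (fun i _ => Nat.zero_le (d i)) (Finset.mem_univ k)).trans
        (Nat.le_add_left _ _)
    apply isConj_of_ker_dims _ _ N N
    · apply pow_eq_zero_of_finrank_ker
      rw [hdimR, hfull]
    · apply pow_eq_zero_of_finrank_ker
      rw [hdimB, hfull]
    · intro j
      rw [hdimR, hdimB]


end Cfsg.Agent.S2582
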