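import Mathlib
import Cfsg.Statements.S2570
import Cfsg.Agent.Lib.Helper5.UnipotentGL

set_option autoImplicit false
open Cfsg

namespace Cfsg.Agent.S2570

open Cfsg.Agent.Lib.Helper5

/-- The condition cutting out the Jordan types of elements of order `p`. -/
def Good (p n : ℕ) (μ : Nat.Partition n) : Prop :=
  (∀ a ∈ μ.parts, a ≤ p) ∧ ¬ (∀ a ∈ μ.parts, a ≤ 1)

theorem orderOf_eq_iff {F : Type*} [Field F] (p : ℕ) [Fact p.Prime] [CharP F p] {n : ℕ}
    (g : GL (Fin n) F) (μ : Nat.Partition n) (hμ : HasJType (g.val - 1) μ) :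
    orderOf g = p ↔ Good p n μ := by
  have hp : p.Prime := Fact.out
  unfold Good
  rw [← hμ.pow_eq_zero_iff, ← hμ.pow_eq_zero_iff, pow_one, orderOf_eq_prime_iff]
  have h1 := sub_one_pow_char_pow p g.val 1
  rw [pow_one] at h1
  rw [h1, sub_eq_zero, sub_eq_zero]
  constructor
  · rintro ⟨h2, h3⟩
    refine ⟨?_, ?_⟩
    · rw [← Units.val_pow_eq_pow_val, h2, Units.val_one]
    · intro h4
      exact h3 (Units.ext h4)
  · rintro ⟨h2, h3⟩
    refine ⟨?_, ?_⟩
    · apply Units.ext
      rw [Units.val_pow_eq_pow_val, h2, Units.val_one]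
    · intro h4
      exact h3 (by rw [h4, Units.val_one])

theorem ones_unique {n : ℕ} (μ ν : Nat.Partition n) (h1 : ∀ a ∈ μ.parts, a ≤ 1)
    (h2 : ∀ a ∈ ν.parts, a ≤ 1) : μ = ν := by
  have key : ∀ ρ : Nat.Partition n, (∀ a ∈ ρ.parts, a ≤ 1) → ρ.parts = Multiset.replicate n 1 := by
    intro ρ h
    have hall : ∀ a ∈ ρ.parts, a = 1 := by
      intro a ha
      have := ρ.parts_pos ha
      have := h a ha
      omega
    rw [Multiset.eq_replicate]
    refine ⟨?_, hall⟩
    have h3 := Multiset.eq_replicate_card.2 hall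
    have h4 := ρ.parts_sum
    rw [h3, Multiset.sum_replicate, smul_eq_mul, mul_one] at h4
    exact h4
  apply Nat.Partition.ext
  rw [key μ h1, key ν h2]

theorem exists_ones (n : ℕ) : ∃ μ : Nat.Partition n, ∀ a ∈ μ.parts, a ≤ 1 := by
  refine ⟨⟨Multiset.replicate n 1, ?_, ?_⟩, ?_⟩
  · intro a ha
    rw [Multiset.eq_of_mem_replicate ha]
    exact Nat.one_pos
  · rw [Multiset.sum_replicate, smul_eq_mul, mul_one]
  · intro a ha
    rw [Multiset.eq_of_mem_replicate ha]

theorem card_good (p n : ℕ) (hp : 1 ≤ p) :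
    Nat.card {μ : Nat.Partition n // Good p n μ} =
      (Finset.univ.filter (fun μ : Nat.Partition n => ∀ a ∈ μ.parts, a ≤ p)).card - 1 := by
  classical
  obtain ⟨μ₀, hμ₀⟩ := exists_ones n
  rw [Nat.card_eq_fintype_card, Fintype.card_subtype]
  have hsplit : Finset.univ.filter (fun μ : Nat.Partition n => ∀ a ∈ μ.parts, a ≤ p) =
      insert μ₀ (Finset.univ.filter (fun μ : Nat.Partition n => Good p n μ)) := by
    ext μ
    rw [Finset.mem_insert, Finset.mem_filter, Finset.mem_filter]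
    constructor
    · rintro ⟨-, h⟩
      by_cases h1 : ∀ a ∈ μ.parts, a ≤ 1
      · left; exact ones_unique μ μ₀ h1 hμ₀
      · right; exact ⟨Finset.mem_univ _, h, h1⟩
    · rintro (rfl | ⟨-, h⟩)
      · exact ⟨Finset.mem_univ _, fun a ha => (hμ₀ a ha).trans hp⟩
      · exact ⟨Finset.mem_univ _, h.1⟩
  have hnot : μ₀ ∉ Finset.univ.filter (fun μ : Nat.Partition n => Good p n μ) := by
    rw [Finset.mem_filter]
    rintro ⟨-, h⟩
    exact h.2 hμ₀
  rw [hsplit, Finset.card_insert_of_notMem hnot]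
  rfl

/-- Number of conjugacy classes of elements of order p in GL_n over a finite field of characteristic p: they correspond to the Jordan types, that is, to the partitions of n with all parts at most p other than the partition into ones, so there are (number of partitions of n with parts ≤ p) − 1 of them. -/
theorem result {F : Type*} [Field F] [Fintype F] {p : ℕ} [Fact p.Prime] [CharP F p] (n : ℕ) : Nat.card {C : ConjClasses (GL (Fin n) F) // ∃ g : GL (Fin n) F, ConjClasses.mk g = C ∧ orderOf g = p} = (Finset.univ.filter (fun μ : Nat.Partition n => ∀ a ∈ μ.parts, a ≤ p)).card - 1 := by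
  classical
  have hp : p.Prime := Fact.out
  have hnil : ∀ g : GL (Fin n) F, orderOf g = p → (g.val - 1) ^ (p ^ 1) = 0 := by
    intro g hg
    exact nilpotent_of_orderOf p g 1 (by rw [hg, pow_one])
  have hex : ∀ C : {C : ConjClasses (GL (Fin n) F) //
      ∃ g : GL (Fin n) F, ConjClasses.mk g = C ∧ orderOf g = p},
      ∃ μ : {μ : Nat.Partition n // Good p n μ}, ∃ g : GL (Fin n) F,
        orderOf g = p ∧ ConjClasses.mk g = C.1 ∧ HasJType (g.val - 1) μ.1 := by
    rintro ⟨C, g, hgC, hg⟩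
    obtain ⟨μ, hμ⟩ := exists_hasJType (g.val - 1) (p ^ 1) (hnil g hg)
    exact ⟨⟨μ, (orderOf_eq_iff p g μ hμ).1 hg⟩, g, hg, hgC, hμ⟩
  rw [← card_good p n hp.one_lt.le]
  apply Nat.card_eq_of_bijective (fun C => Classical.choose (hex C))
  constructor
  · intro C D hCD
    obtain ⟨g, hg, hgC, hgμ⟩ := Classical.choose_spec (hex C)
    obtain ⟨h, hh, hhD, hhμ⟩ := Classical.choose_spec (hex D)
    simp only at hCD
    rw [← hCD] at hhμ
    apply Subtype.ext
    rw [← hgC, ← hhD, ConjClasses.mk_eq_mk_iff_isConj]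
    apply isConj_of_kdM_eq g h (p ^ 1) (p ^ 1) (hnil g hg) (hnil h hh)
    intro j
    rw [hgμ j, hhμ j]
  · rintro ⟨μ, hμ⟩
    obtain ⟨M, hM, hMμ⟩ := exists_matrix_of_partition (F := F) μ
    obtain ⟨g, hgM, hgo⟩ := exists_unipotent_of_nilpotent p M n hM
    have hgμ : HasJType (g.val - 1) μ := by rw [hgM]; exact hMμ
    have hgp : orderOf g = p := (orderOf_eq_iff p g μ hgμ).2 hμ
    refine ⟨⟨ConjClasses.mk g, g, rfl, hgp⟩, ?_⟩
    obtain ⟨h, hh, hhD, hhμ⟩ := Classical.choose_spec (hex ⟨ConjClasses.mk g, g, rfl, hgp⟩)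
    simp only at hhD
    rw [ConjClasses.mk_eq_mk_iff_isConj] at hhD
    have h1 : HasJType (g.val - 1) (Classical.choose (hex ⟨ConjClasses.mk g, g, rfl, hgp⟩)).1 := by
      intro j
      rw [← kdM_eq_of_isConj hhD j]
      exact hhμ j
    apply Subtype.ext
    exact h1.unique hgμ

end Cfsg.Agent.S2570
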