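import Cfsg.Statements.S0840
import Mathlib
import Cfsg.Agent.Lib.Helper8.BlockOmega

set_option autoImplicit false
open scoped ComplexConjugate
open Cfsg

namespace Cfsg.Agent.S0840


open Cfsg.Agent.Lib.Helper8 Cfsg.Agent.Lib.Helper1 Cfsg.Agent.Lib.Helper4 in
theorem card_class_eq {G : Type*} [Group G] [Fintype G] (a : G) :
    (Nat.card {x : G // IsConj a x} : ℂ) = ((Subgroup.centralizer ({a} : Set G)).index : ℂ) := by
  classical
  have h := Cfsg.Agent.S0141.sum_classIndicator_mul a (fun _ => (1 : ℂ)) (fun _ _ => rfl)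
  simp only [mul_one] at h
  rw [← h]
  unfold classIndicator
  rw [Finset.sum_boole, Nat.card_eq_fintype_card, Fintype.card_subtype]

open Cfsg.Agent.Lib.Helper8 Cfsg.Agent.Lib.Helper1 Cfsg.Agent.Lib.Helper4 in
theorem card_pairs_eq_conv {G : Type*} [Group G] [Fintype G] (a b c : G) :
    (Nat.card {p : G × G // IsConj a p.1 ∧ IsConj b p.2 ∧ p.1 * p.2 = c} : ℂ) =
      conv (classIndicator a) (classIndicator b) c := by
  classical
  rw [conv_apply]
  unfold classIndicator
  have h1 : ∀ y : G, (if IsConj a y then (1 : ℂ) else 0) * (if IsConj b (y⁻¹ * c) then (1 : ℂ) else 0)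
      = if (IsConj a y ∧ IsConj b (y⁻¹ * c)) then 1 else 0 := by
    intro y
    by_cases h1 : IsConj a y <;> by_cases h2 : IsConj b (y⁻¹ * c) <;>
      simp only [h1, h2, if_true, if_false, and_self, and_false, false_and, and_true, mul_one, mul_zero,
        zero_mul]
  rw [Finset.sum_congr rfl fun y _ => h1 y, Finset.sum_boole]
  congr 1
  rw [← Fintype.card_subtype, ← Nat.card_eq_fintype_card]
  apply Nat.card_congr
  refine ⟨fun ⟨⟨x, y⟩, h1, h2, h3⟩ => ⟨x, h1, by
      have : x⁻¹ * c = y := by rw [← h3]; group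
      rw [this]; exact h2⟩, fun y => ⟨(y.1, y.1⁻¹ * c), y.2.1, y.2.2, by simp⟩, ?_, ?_⟩
  · rintro ⟨⟨x, y⟩, h1, h2, h3⟩
    apply Subtype.ext
    simp only [Prod.mk.injEq, true_and]
    rw [← h3]; group
  · rintro ⟨y, h1, h2⟩
    rfl

/-- Class multiplication coefficients from the character table: for elements a, b, c of a finite group G, the number of ordered pairs (x, y) with x conjugate to a, y conjugate to b and x * y = c equals the product of the sizes of the conjugacy classes of a and b, divided by the order of G, times the sum over the irreducible characters χ of χ a * χ b * conj (χ c) / χ 1. -/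
theorem result {G : Type*} [Group G] [Finite G] (a b c : G) : (Nat.card {p : G × G // IsConj a p.1 ∧ IsConj b p.2 ∧ p.1 * p.2 = c} : ℂ) = (Nat.card {x : G // IsConj a x} : ℂ) * (Nat.card {x : G // IsConj b x} : ℂ) / (Nat.card G : ℂ) * ∑ᶠ χ : Cfsg.IrrCharacter G, (χ : G → ℂ) a * (χ : G → ℂ) b * conj ((χ : G → ℂ) c) / (χ : G → ℂ) 1 := by
  classical
  haveI : Fintype G := Fintype.ofFinite G
  haveI : Fintype (Cfsg.IrrCharacter G) := Fintype.ofFinite _
  rw [card_pairs_eq_conv, card_class_eq, card_class_eq, finsum_eq_sum_of_fintype (M := ℂ)]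
  have hF : IsClassFunction G (Cfsg.Agent.Lib.Helper8.conv (Cfsg.Agent.Lib.Helper1.classIndicator a)
      (Cfsg.Agent.Lib.Helper1.classIndicator b)) :=
    Cfsg.Agent.Lib.Helper8.isClassFunction_conv
      (Cfsg.Agent.Lib.Helper1.classIndicator_isClassFunction a)
      (Cfsg.Agent.Lib.Helper1.classIndicator_isClassFunction b)
  rw [Cfsg.Agent.Lib.Helper8.classFunction_eq_sum_omega hF c]
  have hG0 : (Nat.card G : ℂ) ≠ 0 := Nat.cast_ne_zero.2 Nat.card_pos.ne'
  rw [Finset.mul_sum, Finset.mul_sum]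
  refine Finset.sum_congr rfl fun ψ _ => ?_
  have hψ1 : (ψ : G → ℂ) 1 ≠ 0 := Cfsg.Agent.Lib.Helper4.irr_apply_one_ne_zero ψ.2
  rw [Cfsg.Agent.Lib.Helper8.omega_conv ψ.2 (Cfsg.Agent.Lib.Helper1.classIndicator_isClassFunction b),
    Cfsg.Agent.Lib.Helper8.omega_classIndicator (Cfsg.Agent.Lib.Helper1.isClassFunction_irr ψ.2),
    Cfsg.Agent.Lib.Helper8.omega_classIndicator (Cfsg.Agent.Lib.Helper1.isClassFunction_irr ψ.2)]
  unfold Cfsg.centralChar
  field_simp

end Cfsg.Agent.S0840
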