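import Mathlib
import Cfsg.Statements.S0175
import Cfsg.Agent.Lib.Helper4.VirtualChar
import Cfsg.Agent.Lib.Helper8.ClassAlgebra3
import Cfsg.Agent.Lib.Helper1.IndFun
import Cfsg.Agent.S0146
import Cfsg.Agent.S0148
import Cfsg.Agent.S0161
import Cfsg.Agent.S0170

set_option autoImplicit false
open Cfsg

namespace Cfsg.Agent.S0175

open Cfsg.Agent.Lib.Helper1 Cfsg.Agent.Lib.Helper4
open scoped ComplexConjugate

variable {G : Type*} [Group G] [Fintype G]

/-- The value at the identity of a function induced from a homomorphism. -/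
theorem indFun_hom_one (H : Subgroup G) (lam : H →* ℂˣ) :
    Cfsg.indFun H (fun h => (lam h : ℂ)) 1 = (Nat.card H : ℂ)⁻¹ * (Nat.card G : ℂ) := by
  rw [Cfsg.Agent.S0170.indFun_one]
  simp

/-- If all conjugates of `g` lie in the kernel of `lam`, the induced function takes its degree. -/
theorem indFun_hom_of_forall (H : Subgroup G) (lam : H →* ℂˣ) (g : G)
    (hg : ∀ x : G, ∃ hx : x⁻¹ * g * x ∈ H, lam ⟨x⁻¹ * g * x, hx⟩ = 1) :
    Cfsg.indFun H (fun h => (lam h : ℂ)) g = (Nat.card H : ℂ)⁻¹ * (Nat.card G : ℂ) := by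
  rw [indFun_apply]
  congr 1
  have : ∀ x : G, Cfsg.extendByZero H (fun h => (lam h : ℂ)) (x⁻¹ * g * x) = 1 := by
    intro x
    obtain ⟨hx, h1⟩ := hg x
    rw [extendByZero_of_mem _ _ hx]
    simp only [h1, Units.val_one]
  rw [Finset.sum_congr rfl (fun x _ => this x), Finset.sum_const, Finset.card_univ,
    Nat.card_eq_fintype_card]
  simp

/-- The permutation character takes its degree only on the subgroup. -/
theorem mem_of_indFun_one_eq (H : Subgroup G) (g : G)
    (hg : Cfsg.indFun H (fun _ => (1 : ℂ)) g = (Nat.card H : ℂ)⁻¹ * (Nat.card G : ℂ)) : g ∈ H := by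
  classical
  have hH0 : (Nat.card H : ℂ) ≠ 0 := Nat.cast_ne_zero.2 Nat.card_pos.ne'
  rw [indFun_apply] at hg
  have h1 := mul_left_cancel₀ (inv_ne_zero hH0) hg
  have h2 : ∀ x : G, Cfsg.extendByZero H (fun _ => (1 : ℂ)) (x⁻¹ * g * x)
      = if x⁻¹ * g * x ∈ H then 1 else 0 := by
    intro x
    by_cases hx : x⁻¹ * g * x ∈ H
    · rw [if_pos hx, extendByZero_of_mem _ _ hx]
    · rw [if_neg hx, extendByZero_of_notMem _ _ hx]
  rw [Finset.sum_congr rfl (fun x _ => h2 x), Finset.sum_boole, Nat.card_eq_fintype_card] at h1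
  have h3 : (Finset.univ.filter fun x : G => x⁻¹ * g * x ∈ H).card = Fintype.card G := by
    exact_mod_cast h1
  have h4 : (Finset.univ.filter fun x : G => x⁻¹ * g * x ∈ H) = Finset.univ := by
    apply Finset.eq_univ_of_card
    exact h3
  have h5 : (1 : G) ∈ Finset.univ.filter fun x : G => x⁻¹ * g * x ∈ H := by
    rw [h4]; exact Finset.mem_univ _
  simpa using (Finset.mem_filter.1 h5).2

theorem main (hM : ∀ χ : G → ℂ, Cfsg.IsIrrCharacter G χ → ∃ (H : Subgroup G) (lam : H →* ℂˣ),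
    χ = Cfsg.indFun H (fun h => (lam h : ℂ))) :
    ∀ d : ℕ, ∃ k : ℕ, ∀ χ : G → ℂ, Cfsg.IsIrrCharacter G χ → ∀ n : ℕ, χ 1 = n → n ≤ d →
      ∀ g ∈ derivedSeries G k, χ g = χ 1 := by
  classical
  have : Fintype (Cfsg.IrrCharacter G) := Fintype.ofFinite _
  intro d
  induction d with
  | zero =>
    refine ⟨0, fun χ hχ n hn hn0 => ?_⟩
    exfalso
    obtain ⟨m, hm0, hm⟩ := irr_apply_one_pos hχ
    rw [hn] at hm
    have : n = m := by exact_mod_cast hm
    omega
  | succ d ih =>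
    obtain ⟨k, hk⟩ := ih
    refine ⟨k + 1, fun χ hχ n hn hnd g hg => ?_⟩
    by_cases hle : n ≤ d
    · exact hk χ hχ n hn hle g (derivedSeries_antitone G (Nat.le_succ k) hg)
    have hnd1 : n = d + 1 := by omega
    obtain ⟨H, lam, hχH⟩ := hM χ hχ
    have : Fintype H := Fintype.ofFinite H
    have h1H : Cfsg.IsIrrCharacter H (fun _ => (1 : ℂ)) := Cfsg.Agent.S0161.isIrrCharacter_one
    have h1G : Cfsg.IsIrrCharacter G (fun _ => (1 : ℂ)) := Cfsg.Agent.S0161.isIrrCharacter_one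
    set π : G → ℂ := Cfsg.indFun H (fun _ => (1 : ℂ)) with hπ
    have hπc : Cfsg.IsCharacter G π := Cfsg.Agent.S0148.result H _ (isCharacter_of_irr h1H)
    have hπ1 : π 1 = ((d + 1 : ℕ) : ℂ) := by
      have h1 : π 1 = (Nat.card H : ℂ)⁻¹ * (Nat.card G : ℂ) := by
        rw [hπ, Cfsg.Agent.S0170.indFun_one]; simp
      rw [h1, ← indFun_hom_one H lam, ← hχH, hn, hnd1]
    -- multiplicities
    have hm : ∀ ξ : Cfsg.IrrCharacter G, ∃ m : ℕ, Cfsg.classInner π (ξ : G → ℂ) = m :=
      fun ξ => classInner_char_irr_nat hπc ξ.2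
    choose m hm using hm
    have hdeg : ∀ ξ : Cfsg.IrrCharacter G, ∃ e : ℕ, 0 < e ∧ (ξ : G → ℂ) 1 = e :=
      fun ξ => irr_apply_one_pos ξ.2
    choose e he0 he using hdeg
    have hexp : π = ∑ ξ : Cfsg.IrrCharacter G, (m ξ : ℂ) • (ξ : G → ℂ) := by
      have := class_function_expansion π (isClassFunction_of_isCharacter hπc)
      rw [Finset.sum_congr rfl (fun ξ _ => by rw [hm ξ])] at this
      exact this
    let ξ₁ : Cfsg.IrrCharacter G := ⟨fun _ => 1, h1G⟩
    have hm1 : m ξ₁ = 1 := by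
      have h1 : Cfsg.classInner π (fun _ : G => (1 : ℂ)) = 1 := by
        rw [hπ, Cfsg.Agent.S0146.result H _ _ (isClassFunction_irr h1G)]
        exact classInner_irr_self h1H
      have h2 := hm ξ₁
      simp only [ξ₁] at h2
      rw [h1] at h2
      exact_mod_cast h2.symm
    have he1 : e ξ₁ = 1 := by
      have h2 := he ξ₁
      simp only [ξ₁] at h2
      exact_mod_cast h2.symm
    have hsum : ∑ ξ : Cfsg.IrrCharacter G, m ξ * e ξ = d + 1 := by
      have h1 := congrFun hexp 1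
      rw [hπ1, Finset.sum_apply] at h1
      simp only [Pi.smul_apply, smul_eq_mul, he] at h1
      exact_mod_cast h1.symm
    have hsmall : ∀ ξ : Cfsg.IrrCharacter G, ξ ≠ ξ₁ → m ξ ≠ 0 → e ξ ≤ d := by
      intro ξ hξ hmξ
      rw [← Finset.add_sum_erase Finset.univ _ (Finset.mem_univ ξ₁), hm1, he1] at hsum
      have h1 : m ξ * e ξ ≤ ∑ x ∈ Finset.univ.erase ξ₁, m x * e x :=
        Finset.single_le_sum (f := fun x => m x * e x) (fun _ _ => Nat.zero_le _)
          (Finset.mem_erase.2 ⟨hξ, Finset.mem_univ _⟩)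
      have h2 : e ξ ≤ m ξ * e ξ := Nat.le_mul_of_pos_left _ (Nat.pos_of_ne_zero hmξ)
      omega
    -- the derived subgroup D_k lies in H
    have hDH : ∀ x ∈ derivedSeries G k, x ∈ H := by
      intro x hx
      apply mem_of_indFun_one_eq H x
      change π x = _
      have h1 : π x = π 1 := by
        rw [hexp, Finset.sum_apply, Finset.sum_apply]
        refine Finset.sum_congr rfl fun ξ _ => ?_
        simp only [Pi.smul_apply, smul_eq_mul]
        by_cases hmξ : m ξ = 0
        · rw [hmξ]; simp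
        · by_cases hξ : ξ = ξ₁
          · rw [hξ]
          · rw [hk ξ ξ.2 (e ξ) (he ξ) (hsmall ξ hξ hmξ) x hx]
      rw [h1, hπ, Cfsg.Agent.S0170.indFun_one]; simp
    -- the next derived subgroup lies in the kernel of lam
    have hDker : derivedSeries G (k + 1) ≤ (MonoidHom.ker lam).map H.subtype := by
      rw [derivedSeries_succ, Subgroup.commutator_le]
      intro a ha b hb
      refine ⟨⟨a, hDH a ha⟩ * ⟨b, hDH b hb⟩ * ⟨a, hDH a ha⟩⁻¹ * ⟨b, hDH b hb⟩⁻¹, ?_, rfl⟩
      rw [SetLike.mem_coe, MonoidHom.mem_ker]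
      simp only [map_mul, map_inv]
      rw [mul_comm (lam ⟨a, hDH a ha⟩) (lam ⟨b, hDH b hb⟩)]
      group
    have hnorm : (derivedSeries G (k + 1)).Normal := derivedSeries_normal G (k + 1)
    rw [hχH, indFun_hom_one]
    apply indFun_hom_of_forall
    intro x
    have hx : x⁻¹ * g * x ∈ derivedSeries G (k + 1) := by
      have := hnorm.conj_mem g hg x⁻¹
      simpa using this
    obtain ⟨y, hy, hyx⟩ := hDker hx
    have hmem : x⁻¹ * g * x ∈ H := by rw [← hyx]; exact y.2
    refine ⟨hmem, ?_⟩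
    have : (⟨x⁻¹ * g * x, hmem⟩ : H) = y := Subtype.ext hyx.symm
    rw [this]
    exact hy

/-- Taketa's Theorem on M-groups: if every irreducible complex character of a finite group is induced from a linear character (a homomorphism to ℂˣ) of some subgroup, the group is solvable. -/
theorem result {G : Type*} [Group G] [Fintype G] (hM : ∀ χ : G → ℂ, Cfsg.IsIrrCharacter G χ → ∃ (H : Subgroup G) (lam : H →* ℂˣ), χ = Cfsg.indFun H (fun h => (lam h : ℂ))) : Group.IsSolvable G := by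
  classical
  have : Fintype (Cfsg.IrrCharacter G) := Fintype.ofFinite _
  have hdeg : ∀ ξ : Cfsg.IrrCharacter G, ∃ e : ℕ, 0 < e ∧ (ξ : G → ℂ) 1 = e :=
    fun ξ => irr_apply_one_pos ξ.2
  choose e he0 he using hdeg
  obtain ⟨k, hk⟩ := main hM (∑ ξ : Cfsg.IrrCharacter G, e ξ)
  rw [Group.isSolvable_def]
  refine ⟨k, ?_⟩
  rw [eq_bot_iff]
  intro g hg
  rw [Subgroup.mem_bot]
  have hall : ∀ χ : Cfsg.IrrCharacter G, (χ : G → ℂ) g = (χ : G → ℂ) 1 := by
    intro χ
    exact hk χ χ.2 (e χ) (he χ)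
      (Finset.single_le_sum (f := e) (fun _ _ => Nat.zero_le _) (Finset.mem_univ χ)) g hg
  exact isConj_one_left.1 (Cfsg.Agent.Lib.Helper8.isConj_of_forall_irr_eq hall)

end Cfsg.Agent.S0175
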