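import Cfsg.Statements.S0855
import Mathlib
import Cfsg.Agent.Lib.Helper2.ThompsonDeg
import Cfsg.Agent.Lib.Helper2.CliffordDeg
import Cfsg.Agent.Lib.Helper8.Deflation
import Cfsg.Agent.S0169
import Cfsg.Agent.S0187

set_option autoImplicit false
open Cfsg

namespace Cfsg.Agent.S0855

/-- For a finite group G and a prime p: every irreducible character of G has degree a power of p if and only if G has an abelian normal subgroup whose order is prime to p and whose index is a power of p. -/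
theorem result {G : Type*} [Group G] [Finite G] (p : ℕ) (hp : p.Prime) : (∀ χ : Cfsg.IrrCharacter G, ∃ k : ℕ, (χ : G → ℂ) 1 = (p : ℂ) ^ k) ↔ ∃ A : Subgroup G, A.Normal ∧ (∀ a ∈ A, ∀ b ∈ A, a * b = b * a) ∧ Nat.Coprime (Nat.card A) p ∧ ∃ k : ℕ, A.index = p ^ k := by
  classical
  haveI : Fact p.Prime := ⟨hp⟩
  haveI : Fintype G := Fintype.ofFinite G
  constructor
  · intro hdeg
    obtain ⟨N, hNn, hNc, k, hk⟩ := Cfsg.Agent.Lib.Helper2.ThompsonDeg.exists_normal_complement p
      (G := G) (by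
        intro χ h1
        obtain ⟨j, hj⟩ := hdeg χ
        refine ⟨p ^ j, by rw [hj]; push_cast; rfl, ?_⟩
        rcases Nat.eq_zero_or_pos j with rfl | hj0
        · exfalso; apply h1; rw [hj]; simp
        · exact dvd_pow_self p hj0.ne')
    haveI := hNn
    haveI : Fintype N := Fintype.ofFinite N
    refine ⟨N, hNn, ?_, hNc, k, hk⟩
    have hlin : ∀ ψ : Cfsg.IrrCharacter N, (ψ : N → ℂ) 1 = 1 := by
      intro ψ
      obtain ⟨χ, hχ, hc⟩ := Cfsg.Agent.Lib.Helper2.CliffordDeg.exists_irr_over N ψ.2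
      obtain ⟨j, hj⟩ := hdeg ⟨χ, hχ⟩
      obtain ⟨ha, -⟩ := Cfsg.Agent.Lib.Helper8.irr_apply_one_eq_charDegree ψ.2
      have hdvd := Cfsg.Agent.Lib.Helper2.CliffordDeg.degree_dvd_of_constituent N hχ ψ.2 hc ha
        (b := p ^ j) (by simp only at hj; rw [hj]; push_cast; rfl)
      obtain ⟨i, -, hi⟩ := (Nat.dvd_prime_pow hp).1 hdvd
      have h2 := Cfsg.Agent.Lib.Helper8.charDegree_dvd_card ψ.2
      rw [hi] at h2
      have hi0 : i = 0 := by
        by_contra hne
        have : p ∣ Nat.card N := (dvd_pow_self p hne).trans h2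
        exact (Nat.Prime.coprime_iff_not_dvd hp).1 hNc.symm this
      rw [ha, hi, hi0]; simp
    have hcomm := (Cfsg.Agent.S0187.result (G := N)).2 hlin
    intro a ha b hb
    exact congrArg Subtype.val (hcomm ⟨a, ha⟩ ⟨b, hb⟩)
  · rintro ⟨A, hAn, hab, -, k, hk⟩ χ
    obtain ⟨m, ρ, hρ, hχ⟩ := χ.2
    haveI := hρ
    haveI := hAn
    have hdvd := Cfsg.Agent.S0169.result ρ A hab
    rw [Module.finrank_fin_fun, hk] at hdvd
    obtain ⟨i, -, hi⟩ := (Nat.dvd_prime_pow hp).1 hdvd
    refine ⟨i, ?_⟩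
    rw [← hχ, Representation.char_one, Module.finrank_fin_fun, hi]
    push_cast; rfl

end Cfsg.Agent.S0855
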