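import Mathlib
import Cfsg.Statements.S4445
import Cfsg.Agent.Lib.Helper8.GL22
import Cfsg.Agent.S0133

set_option autoImplicit false
open Cfsg

namespace Cfsg.Agent.S4445

open scoped ComplexConjugate
open Cfsg.Agent.Lib.Helper1 Cfsg.Agent.Lib.Helper4 Cfsg.Agent.Lib.Helper8

/-- Inside a finite group Γ let the solvable subgroup S normalise G with the orders of G and S coprime. Then the number of S-invariant irreducible characters of G (χ(s g s⁻¹) = χ(g) for all s ∈ S, g ∈ G) equals the number of conjugacy classes of G mapped to themselves by conjugation by every element of S. -/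
theorem result {Γ : Type*} [Group Γ] [Fintype Γ] (G S : Subgroup Γ) [Fintype G] (hnorm : ∀ s ∈ S, ∀ g ∈ G, s * g * s⁻¹ ∈ G) (hcop : (Nat.card G).Coprime (Nat.card S)) (hsolv : Group.IsSolvable S) : Nat.card {χ : Cfsg.IrrCharacter G // (∀ s ∈ S, ∀ g g' : G, (g' : Γ) = s * g * s⁻¹ → (χ : G → ℂ) g' = (χ : G → ℂ) g)} = Nat.card {K : ConjClasses G // ∀ s ∈ S, ∀ g g' : G, (g' : Γ) = s * g * s⁻¹ → ConjClasses.mk g = K → ConjClasses.mk g' = K} := by
  classical
  have hnorm' : ∀ s ∈ S, Normalizes s G := fun s hs => normalizes_of_forall hnorm hs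
  have hbot : ∀ (A : Subgroup Γ), ∀ x ∈ (⊥ : Subgroup Γ), Normalizes x A := by
    intro A x hx
    rw [Subgroup.mem_bot.1 hx]
    exact Normalizes.one A
  haveI : Fintype (G ⊓ Subgroup.centralizer (S : Set Γ) : Subgroup Γ) := Fintype.ofFinite _
  have h1 := glau_count (Nat.card S) G S ⊥ le_rfl hsolv hnorm' (hbot G) (hbot S) hcop
    (G ⊓ Subgroup.centralizer (S : Set Γ)) rfl
  have h2 := class_count hnorm' hcop hsolv (G ⊓ Subgroup.centralizer (S : Set Γ)) rfl
  have h3 := Cfsg.Agent.S0133.result (G := (G ⊓ Subgroup.centralizer (S : Set Γ) : Subgroup Γ))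
  have e1 : Nat.card {χ : Cfsg.IrrCharacter G // (∀ s ∈ S, ∀ g g' : G, (g' : Γ) = s * g * s⁻¹ →
      (χ : G → ℂ) g' = (χ : G → ℂ) g)}
      = Nat.card {χ : Cfsg.IrrCharacter G // InvS S G (χ : G → ℂ) ∧
        InvS (⊥ : Subgroup Γ) G (χ : G → ℂ)} := by
    apply Nat.card_congr (Equiv.subtypeEquivRight ?_)
    intro χ
    constructor
    · intro h
      exact ⟨h, invS_bot _ _⟩
    · rintro ⟨h, _⟩
      exact h
  have e2 : Nat.card {β : Cfsg.IrrCharacter (G ⊓ Subgroup.centralizer (S : Set Γ) : Subgroup Γ) //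
      InvS (⊥ : Subgroup Γ) (G ⊓ Subgroup.centralizer (S : Set Γ))
        (β : (G ⊓ Subgroup.centralizer (S : Set Γ) : Subgroup Γ) → ℂ)}
      = Nat.card (Cfsg.IrrCharacter (G ⊓ Subgroup.centralizer (S : Set Γ) : Subgroup Γ)) := by
    apply Nat.card_congr
    exact Equiv.subtypeUnivEquiv (fun β => invS_bot _ _)
  rw [e1, h1, e2, h3, ← h2]
  rfl

end Cfsg.Agent.S4445
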