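import Mathlib
import Cfsg.Statements.S0168
import Cfsg.Agent.Lib.Helper1.CharFound8
import Cfsg.Agent.S0139

set_option autoImplicit false
open Cfsg

namespace Cfsg.Agent.S0168

open Cfsg.Agent.Lib.Helper1 Cfsg.Agent.Lib.Helper4
open scoped ComplexConjugate

/-- The Burnside–Brauer Theorem. Let χ be the character of a faithful complex representation of a finite group, taking m distinct values. Then every irreducible character has nonzero inner product with χ ^ i for some i < m. -/
theorem result {G : Type*} [Group G] [Fintype G] {V : Type*} [AddCommGroup V] [Module ℂ V] [FiniteDimensional ℂ V] (ρ : Representation ℂ G V) (hfaithful : Function.Injective ρ) (ψ : G → ℂ) (hψ : Cfsg.IsIrrCharacter G ψ) : ∃ i : ℕ, i < Nat.card (Set.range ρ.character) ∧ Cfsg.classInner (fun g => ρ.character g ^ i) ψ ≠ 0 := by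
  classical
  by_contra hcon
  push Not at hcon
  set χ := ρ.character with hχ
  have hfin : Finite (Set.range χ) := Set.finite_range χ
  set m := Nat.card (Set.range χ) with hm
  let vals : Set.range χ ≃ Fin m := Finite.equivFin _
  let v : Fin m → ℂ := fun j => ((vals.symm j : Set.range χ) : ℂ)
  have hv : Function.Injective v := fun a b hab => vals.symm.injective (Subtype.ext hab)
  let idx : G → Fin m := fun g => vals ⟨χ g, Set.mem_range_self g⟩
  have hidx : ∀ g, v (idx g) = χ g := by
    intro g
    simp only [v, idx, Equiv.symm_apply_apply]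
  let β : Fin m → ℂ := fun j => ∑ g ∈ Finset.univ.filter (fun g => idx g = j), conj (ψ g)
  have hG0 : (Nat.card G : ℂ) ≠ 0 := Nat.cast_ne_zero.2 Nat.card_pos.ne'
  have hzero : Matrix.vecMul β (Matrix.vandermonde v) = 0 := by
    funext i
    have h1 := hcon i i.2
    rw [classInner_def] at h1
    have h2 : ∑ g : G, χ g ^ (i : ℕ) * conj (ψ g) = 0 := by
      rcases mul_eq_zero.1 h1 with h | h
      · exact absurd (inv_eq_zero.1 h) hG0
      · exact h
    rw [Pi.zero_apply, ← h2]
    simp only [Matrix.vecMul, dotProduct, Matrix.vandermonde_apply, β]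
    rw [← Finset.sum_fiberwise Finset.univ idx]
    refine Finset.sum_congr rfl fun j _ => ?_
    rw [Finset.sum_mul]
    refine Finset.sum_congr rfl fun g hg => ?_
    rw [Finset.mem_filter] at hg
    rw [← hidx g, hg.2, mul_comm]
  have hβ : β = 0 :=
    Matrix.eq_zero_of_vecMul_eq_zero (Matrix.det_vandermonde_ne_zero_iff.2 hv) hzero
  have h1 : β (idx 1) = conj (ψ 1) := by
    simp only [β]
    rw [Finset.sum_eq_single (1 : G)]
    · intro g hg hg1
      exfalso
      rw [Finset.mem_filter] at hg
      have h3 : χ g = χ 1 := by rw [← hidx g, hg.2, hidx]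
      have h4 : χ 1 = (Module.finrank ℂ V : ℂ) := by
        rw [hχ]; exact Representation.char_one ρ
      rw [h4] at h3
      have h5 := (Cfsg.Agent.S0139.result ρ g).1 h3
      have h6 : ρ g = ρ 1 := by rw [h5, map_one]; rfl
      exact hg1 (hfaithful h6)
    · intro h; simp at h
  rw [hβ, Pi.zero_apply] at h1
  have := irr_apply_one_ne_zero hψ
  apply this
  have h2 : conj (conj (ψ 1)) = 0 := by rw [← h1, map_zero]
  simpa using h2

end Cfsg.Agent.S0168
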