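import Cfsg.Statements.S0165
import Cfsg.Agent.S0135
import Cfsg.Agent.Lib.Helper1.CharFound1
import Cfsg.Agent.Lib.Helper5.DefectZero

set_option autoImplicit false
open Cfsg

namespace Cfsg.Agent.S0165

open Cfsg.Agent.Lib.Helper1

/-- If p ^ n is the exact power of the prime p dividing the order of a finite group and p ^ n divides the degree of an irreducible complex representation, then its character vanishes at every element of order divisible by p. -/
theorem result {G : Type*} [Group G] [Finite G] {V : Type*} [AddCommGroup V] [Module ℂ V] [FiniteDimensional ℂ V] (ρ : Representation ℂ G V) [ρ.IsIrreducible] (p n : ℕ) (hp : p.Prime) (hn : p ^ n ∣ Nat.card G) (hn' : ¬ p ^ (n + 1) ∣ Nat.card G) (hdeg : p ^ n ∣ Module.finrank ℂ V) (x : G) (hx : p ∣ orderOf x) : ρ.character x = 0 := by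
  haveI : Fact p.Prime := ⟨hp⟩
  have hd : Module.finrank ℂ V ∣ Nat.card G := Cfsg.Agent.S0135.result ρ
  have h1 : ρ.character 1 = (Module.finrank ℂ V : ℂ) := Representation.char_one ρ
  have hdeg' : Cfsg.charDegree ρ.character = Module.finrank ℂ V := by
    unfold Cfsg.charDegree
    rw [h1]
    simp
  have hpos : Module.finrank ℂ V ≠ 0 := by
    intro h0
    rw [h0, zero_dvd_iff] at hd
    exact Nat.card_pos.ne' hd
  refine Cfsg.Agent.Lib.Helper5.DefectZero.defect_zero_vanishes p
    ⟨ρ.character, isIrrCharacter_character ρ⟩ ?_ x hx ?_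
  · rw [hdeg']
    intro hdiv
    apply hn'
    obtain ⟨k, hk⟩ := hd
    obtain ⟨d', hd'⟩ := hdeg
    rw [hk, Nat.mul_div_cancel_left _ (Nat.pos_of_ne_zero hpos)] at hdiv
    obtain ⟨k', rfl⟩ := hdiv
    rw [hk, hd', pow_succ]
    exact ⟨d' * k', by ring⟩
  · show ρ.character 1 ≠ 0
    rw [h1]
    exact_mod_cast hpos

end Cfsg.Agent.S0165
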