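import Mathlib
import Cfsg.Agent.Lib.Helper6.FixedOrd4
import Cfsg.Statements.S3031

set_option autoImplicit false
open Cfsg

namespace Cfsg.Agent.S3031

open scoped commutatorElement

section helpers
end helpers



/-- Let G be a finite group, p the smallest prime dividing |G| and P a Sylow p-subgroup. Suppose that P is cyclic, or that P has a subgroup D with 1 < |D| < |P| such that every subgroup E of P of order |D|, and also every subgroup E of P of order 4 when |D| = 2, satisfies g E g⁻¹ ∩ N_G(E) ≤ E for all g ∈ G (E is strongly closed in its normalizer with respect to G). Then G has a normal p-complement. -/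
theorem result {G : Type*} [Group G] [Finite G] {p : ℕ} [Fact p.Prime] (hdiv : p ∣ Nat.card G)
    (hmin : ∀ q : ℕ, q.Prime → q ∣ Nat.card G → p ≤ q) (P : Sylow p G)
    (h : IsCyclic ↥(P : Subgroup G) ∨ ∃ D : Subgroup G, D ≤ (P : Subgroup G) ∧ 1 < Nat.card D ∧ Nat.card D < Nat.card (P : Subgroup G) ∧
      ∀ E : Subgroup G, E ≤ (P : Subgroup G) → (Nat.card E = Nat.card D ∨ (Nat.card D = 2 ∧ Nat.card E = 4)) →
        ∀ g : G, E.map (MulAut.conj g).toMonoidHom ⊓ Subgroup.normalizer (E : Set G) ≤ E) :
    Cfsg.HasNormalPComplement p G := by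
  have hp : p.Prime := Fact.out
  rcases h with hcyc | ⟨D, hDP, hD1, hDlt, hsc⟩
  · have hne1 : Nat.card G ≠ 1 := by
      intro h1
      rw [h1] at hdiv
      exact hp.one_lt.ne' (Nat.dvd_one.mp hdiv)
    have hminFac : (Nat.card G).minFac = p := by
      apply le_antisymm
      · exact Nat.minFac_le_of_dvd hp.two_le hdiv
      · exact hmin _ (Nat.minFac_prime hne1) (Nat.minFac_dvd _)
    have hc := IsCyclic.isComplement' hminFac (P := P) hcyc
    exact ⟨P, _, inferInstance, hc⟩
  · obtain ⟨k, hk⟩ := IsPGroup.iff_card.mp (P.2.to_le hDP)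
    obtain ⟨n, hn⟩ := IsPGroup.iff_card.mp P.2
    have hn' : Nat.card (P : Subgroup G) = p ^ n := hn
    have hk1 : 1 ≤ k := by
      rcases Nat.eq_zero_or_pos k with h0 | h0
      · rw [hk, h0, pow_zero] at hD1; omega
      · exact h0
    have hkn : k < n := by
      rw [hk, hn'] at hDlt
      exact (Nat.pow_lt_pow_iff_right hp.one_lt).mp hDlt
    have H : Cfsg.Agent.Lib.Helper6.FixedOrd.Hyp p (P : Subgroup G) k := by
      refine ⟨P.2, hk1, ?_, ?_⟩
      · rw [hn']; exact pow_dvd_pow p hkn
      · intro E hEP hE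
        apply hsc E hEP
        rw [hk]; exact hE
    apply H.hasNormalPComplement P
    intro b hb q hq hqb
    have h1 : p ≤ q := hmin q hq (hqb.trans (orderOf_dvd_natCard b))
    have h2 : q ≠ p := by
      rintro rfl
      have := Nat.Coprime.eq_one_of_dvd hb.symm hqb
      exact hq.one_lt.ne' this
    omega


end Cfsg.Agent.S3031
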