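import Mathlib
import Cfsg.Agent.Lib.Helper6.WeakCl2
import Cfsg.Statements.S2840

set_option autoImplicit false
open Cfsg Cfsg.Agent.Lib.Helper6
open scoped commutatorElement

namespace Cfsg.Agent.S2840

/-- Let Q be a nontrivial p-subgroup of the finite group H that is a weakly closed subgroup and K a subgroup containing Q; let K° be the weak closure of Q in K (generated by the H-conjugates of Q inside K). Then K° is generated by the K-conjugates of Q, and K° is the subnormal closure of Q in K. -/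
theorem result {H : Type*} [Group H] [Finite H] {p : ℕ} [Fact p.Prime] (Q : Subgroup H) (hQp : IsPGroup p ↥Q) (hQ1 : Q ≠ ⊥) (hwc : Cfsg.IsWeaklyClosedSubgroup p Q) (K : Subgroup H) (hQK : Q ≤ K) (Kc : Subgroup H) (hKc : Kc = Cfsg.weakClosure Q K) : Kc = ⨆ k : ↥K, ((Q : Subgroup H).map (MulAut.conj ((k : H) : H)).toMonoidHom) ∧ Kc = (Cfsg.subnormalClosure (Q.subgroupOf K)).map K.subtype := by
  have ha : Kc = ⨆ k : ↥K, ((Q : Subgroup H).map (MulAut.conj ((k : H) : H)).toMonoidHom) := by
    rw [hKc]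
    unfold weakClosure
    apply le_antisymm
    · apply iSup_le
      rintro ⟨g, hg⟩
      obtain ⟨k, hk, hgk⟩ := IsWeaklyClosedSubgroup_exists_conj_in hQp hwc hQK hg
      show (Q : Subgroup H).map (MulAut.conj g).toMonoidHom ≤ _
      rw [hgk]
      exact le_iSup (fun k : ↥K => (Q : Subgroup H).map (MulAut.conj ((k : H) : H)).toMonoidHom)
        ⟨k, hk⟩
    · apply iSup_le
      intro k
      have hk : (Q : Subgroup H).map (MulAut.conj (k : H)).toMonoidHom ≤ K := by
        rintro _ ⟨q, hq, rfl⟩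
        simp only [MulEquiv.coe_toMonoidHom, MulAut.conj_apply]
        exact K.mul_mem (K.mul_mem k.2 (hQK hq)) (K.inv_mem k.2)
      exact le_iSup (fun g : {g : H // Q.map (MulAut.conj g).toMonoidHom ≤ K} =>
        Q.map (MulAut.conj (g : H)).toMonoidHom) ⟨(k : H), hk⟩
  refine ⟨ha, ?_⟩
  rw [ha]
  set L₀ : Subgroup H := ⨆ k : ↥K, ((Q : Subgroup H).map (MulAut.conj ((k : H) : H)).toMonoidHom)
    with hL₀
  have hL₀K : L₀ ≤ K := by
    apply iSup_le
    intro k
    rintro _ ⟨q, hq, rfl⟩
    simp only [MulEquiv.coe_toMonoidHom, MulAut.conj_apply]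
    exact K.mul_mem (K.mul_mem k.2 (hQK hq)) (K.inv_mem k.2)
  apply le_antisymm
  · -- each conjugate lies in every subnormal subgroup containing Q
    have hwcK : IsWeaklyClosedSubgroup p (Q.subgroupOf K) :=
      IsWeaklyClosedSubgroup_subgroupOf hQp hwc hQK
    have hQKp : IsPGroup p (Q.subgroupOf K) := hQp.comap_subtype
    apply iSup_le
    intro k
    rintro _ ⟨q, hq, rfl⟩
    refine ⟨k * ⟨q, hQK hq⟩ * k⁻¹, ?_, by simp [MulAut.conj_apply]⟩
    unfold subnormalClosure
    show k * ⟨q, hQK hq⟩ * k⁻¹ ∈ sInf {K_1 : Subgroup ↥K | Q.subgroupOf K ≤ K_1 ∧ K_1.IsSubnormal}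
    rw [Subgroup.mem_sInf]
    rintro S ⟨hQS, hS⟩
    have := IsWeaklyClosedSubgroup_conj_le_of_isSubnormal hQKp hwcK hS hQS k
    apply this
    exact ⟨⟨q, hQK hq⟩, (Subgroup.mem_subgroupOf (K := K)).mpr hq, by simp [MulAut.conj_apply]⟩
  · have hn : (L₀.subgroupOf K).Normal := by
      constructor
      intro x hx k
      rw [Subgroup.mem_subgroupOf] at hx ⊢
      have h1 : L₀.map (MulAut.conj (k : H)).toMonoidHom ≤ L₀ := by
        rw [hL₀, Subgroup.map_iSup]
        apply iSup_le
        intro k'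
        rw [map_conj_map_conj]
        exact le_iSup (fun k : ↥K => (Q : Subgroup H).map (MulAut.conj ((k : H) : H)).toMonoidHom)
          (k * k')
      have := h1 ⟨(x : H), hx, rfl⟩
      simpa [MulAut.conj_apply] using this
    have h2 : subnormalClosure (Q.subgroupOf K) ≤ L₀.subgroupOf K := by
      apply sInf_le
      refine ⟨?_, hn.isSubnormal⟩
      intro x hx
      rw [Subgroup.mem_subgroupOf] at hx ⊢
      have h3 : Q ≤ L₀ := by
        have := le_iSup (fun k : ↥K => (Q : Subgroup H).map (MulAut.conj ((k : H) : H)).toMonoidHom)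
          (1 : ↥K)
        simp only [Subgroup.coe_one] at this
        rw [map_conj_one] at this
        exact this
      exact h3 hx
    refine (Subgroup.map_mono h2).trans ?_
    rw [Subgroup.map_subgroupOf_eq_of_le hL₀K]

end Cfsg.Agent.S2840
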