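import Mathlib
import Cfsg.Agent.Lib.Helper6.WeakCl
import Cfsg.Agent.Lib.Helper6.Stability
import Cfsg.Agent.Lib.Helper6.CharP
import Cfsg.Agent.Lib.Helper6.ParChar
import Cfsg.Agent.Lib.Helper3.CharP5
import Cfsg.Statements.S2842

set_option autoImplicit false
open Cfsg

namespace Cfsg.Agent.S2842

open Cfsg.Agent.Lib.Helper6 Cfsg.Agent.Lib.Helper3
open scoped commutatorElement

section
variable {H : Type*} [Group H]

theorem conj_mem_of_le_normalizer {D X : Subgroup H} (h : X ≤ Subgroup.normalizer (D : Set H))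
    {x d : H} (hx : x ∈ X) (hd : d ∈ D) : x * d * x⁻¹ ∈ D :=
  (Subgroup.mem_normalizer_iff.mp (h hx) d).mp hd

theorem conj_mem_of_le_normalizer' {D X : Subgroup H} (h : X ≤ Subgroup.normalizer (D : Set H))
    {x d : H} (hx : x ∈ X) (hd : d ∈ D) : x⁻¹ * d * x ∈ D := by
  have := conj_mem_of_le_normalizer h (X.inv_mem hx) hd
  simpa using this

theorem le_normalizer_of_conj_mem {D X : Subgroup H}
    (h : ∀ x ∈ X, ∀ d ∈ D, x * d * x⁻¹ ∈ D) : X ≤ Subgroup.normalizer (D : Set H) := by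
  intro n hn
  rw [Subgroup.mem_normalizer_iff]
  intro x
  constructor
  · exact h n hn x
  · intro hx
    have := h n⁻¹ (Subgroup.inv_mem _ hn) _ hx
    simpa [mul_assoc] using this

theorem le_normalizer_pCoreOf (p : ℕ) (L : Subgroup H) :
    L ≤ Subgroup.normalizer ((Cfsg.pCoreOf p L : Subgroup H) : Set H) := by
  apply le_normalizer_of_conj_mem
  rintro l hl _ ⟨x, hx, rfl⟩
  refine ⟨⟨l, hl⟩ * x * ⟨l, hl⟩⁻¹, ?_, by simp⟩
  exact (inferInstance : (Cfsg.pCore p ↥L).Normal).conj_mem x hx ⟨l, hl⟩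

/-- elements of `N(P)` acting trivially on `U / P` -/
def ker0 (P U : Subgroup H) : Subgroup H where
  carrier := {g | g ∈ Subgroup.normalizer (P : Set H) ∧ ∀ u ∈ U, u⁻¹ * g * u * g⁻¹ ∈ P}
  one_mem' := ⟨Subgroup.one_mem _, fun u _ => by simp⟩
  mul_mem' := by
    rintro g h ⟨hg1, hg2⟩ ⟨hh1, hh2⟩
    refine ⟨Subgroup.mul_mem _ hg1 hh1, ?_⟩
    intro u hu
    have e : u⁻¹ * (g * h) * u * (g * h)⁻¹ = (u⁻¹ * g * u * g⁻¹) * (g * (u⁻¹ * h * u * h⁻¹) * g⁻¹) := by
      group
    rw [e]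
    exact P.mul_mem (hg2 u hu) ((Subgroup.mem_normalizer_iff.mp hg1 _).mp (hh2 u hu))
  inv_mem' := by
    rintro g ⟨hg1, hg2⟩
    refine ⟨Subgroup.inv_mem _ hg1, ?_⟩
    intro u hu
    have e : u⁻¹ * g⁻¹ * u * g⁻¹⁻¹ = g⁻¹ * (u⁻¹ * g * u * g⁻¹)⁻¹ * g⁻¹⁻¹ := by group
    rw [e]
    exact (Subgroup.mem_normalizer_iff.mp (Subgroup.inv_mem _ hg1) _).mp (P.inv_mem (hg2 u hu))

theorem conj_mem_ker0 {P U : Subgroup H}
    (hNU : Subgroup.normalizer (P : Set H) ≤ Subgroup.normalizer (U : Set H)) {n g : H}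
    (hn : n ∈ Subgroup.normalizer (P : Set H)) (hg : g ∈ ker0 P U) : n * g * n⁻¹ ∈ ker0 P U := by
  obtain ⟨hg1, hg2⟩ := hg
  refine ⟨Subgroup.mul_mem _ (Subgroup.mul_mem _ hn hg1) (Subgroup.inv_mem _ hn), ?_⟩
  intro u hu
  have hu' : n⁻¹ * u * n ∈ U := conj_mem_of_le_normalizer' hNU hn hu
  have h1 := hg2 _ hu'
  have e : u⁻¹ * (n * g * n⁻¹) * u * (n * g * n⁻¹)⁻¹
      = n * ((n⁻¹ * u * n)⁻¹ * g * (n⁻¹ * u * n) * g⁻¹) * n⁻¹ := by group
  rw [e]
  exact (Subgroup.mem_normalizer_iff.mp hn _).mp h1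

theorem main [Finite H] {p : ℕ} [Fact p.Prime] (Q : Subgroup H) (hQp : IsPGroup p ↥Q)
    (hwc : Cfsg.IsWeaklyClosedSubgroup p Q)
    (hCQ : Subgroup.centralizer ((Q : Subgroup H) : Set H) ≤ Q) (L : Subgroup H) (hQL : Q ≤ L)
    (P : Subgroup H) (hP : P = Cfsg.pCoreOf p L)
    (U : Subgroup H) (hU : U = Cfsg.pCoreOf p (Subgroup.normalizer (P : Set H)))
    (hchar : Subgroup.centralizer (U : Set H) ≤ U) :
    ⁅Q, Subgroup.centralizer (P : Set H)⁆ ≤ Q ⊓ P ∧
      IsPGroup p ↥(Subgroup.centralizer (P : Set H)) ∧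
      Subgroup.centralizer (Cfsg.pCore p ↥L : Set ↥L) ≤ Cfsg.pCore p ↥L := by
  classical
  set N : Subgroup H := Subgroup.normalizer (P : Set H) with hN
  set C : Subgroup H := Subgroup.centralizer (P : Set H) with hC
  have hPp : IsPGroup p P := hP ▸ pCoreOf_isPGroup p L
  have hPL : P ≤ L := hP ▸ pCoreOf_le L
  have hLN : L ≤ N := by rw [hN, hP]; exact le_normalizer_pCoreOf p L
  have hQN : Q ≤ N := hQL.trans hLN
  have hPN : P ≤ N := Subgroup.le_normalizer
  have hCN : C ≤ N := Subgroup.centralizer_le_normalizer (P : Set H)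
  have hUp : IsPGroup p U := hU ▸ pCoreOf_isPGroup p N
  have hUN : U ≤ N := hU ▸ pCoreOf_le N
  have hNU : N ≤ Subgroup.normalizer (U : Set H) := by rw [hU]; exact le_normalizer_pCoreOf p N
  have hPU : P ≤ U := by
    rw [hU]; exact le_map_pCore_of_le_normalizer hPp hPN le_rfl
  have hNC : N ≤ Subgroup.normalizer (C : Set H) := by
    apply le_normalizer_of_conj_mem
    intro n hn c hc
    rw [hC, Subgroup.mem_centralizer_iff] at hc ⊢
    intro x hx
    have hx' : n⁻¹ * x * n ∈ P := conj_mem_of_le_normalizer' (le_refl N) hn hx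
    have h1 := hc _ hx'
    calc x * (n * c * n⁻¹) = n * ((n⁻¹ * x * n) * c) * n⁻¹ := by group
      _ = n * (c * (n⁻¹ * x * n)) * n⁻¹ := by rw [h1]
      _ = n * c * n⁻¹ * x := by group
  -- `U ⊓ L ≤ P`
  have hULP : U ⊓ L ≤ P := by
    rw [hP]
    apply le_map_pCore_of_le_normalizer (hUp.to_le inf_le_left) inf_le_right
    apply le_normalizer_of_conj_mem
    intro l hl d hd
    exact Subgroup.mem_inf.mpr ⟨conj_mem_of_le_normalizer hNU (hLN hl) (Subgroup.mem_inf.mp hd).1,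
      L.mul_mem (L.mul_mem hl (Subgroup.mem_inf.mp hd).2) (L.inv_mem hl)⟩
  -- `Q ⊔ U` is a `p`-group, so `U` normalizes `Q`
  have hQUp : IsPGroup p (Q ⊔ U : Subgroup H) := by
    rw [sup_comm]
    exact IsPGroup.to_sup_of_normal_left' hUp hQp (hQN.trans hNU)
  have hQUQ : Q ⊔ U ≤ Subgroup.normalizer (Q : Set H) :=
    IsWeaklyClosedSubgroup_le_normalizer hwc hQUp le_sup_left
  have hUQ : U ≤ Subgroup.normalizer (Q : Set H) := le_sup_right.trans hQUQ
  -- `Q ≤ ker0`
  have hQK : Q ≤ ker0 P U := by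
    intro q hq
    refine ⟨hQN hq, ?_⟩
    intro u hu
    apply hULP
    refine Subgroup.mem_inf.mpr ⟨?_, ?_⟩
    · have h1 : q * u * q⁻¹ ∈ U := conj_mem_of_le_normalizer hNU (hQN hq) hu
      have e : u⁻¹ * q * u * q⁻¹ = u⁻¹ * (q * u * q⁻¹) := by group
      rw [e]
      exact U.mul_mem (U.inv_mem hu) h1
    · apply hQL
      have h1 : u⁻¹ * q * u ∈ Q := conj_mem_of_le_normalizer' hUQ hu hq
      exact Q.mul_mem h1 (Q.inv_mem hq)
  -- `J = ker0 ⊓ C` is a `p`-group
  set J : Subgroup H := ker0 P U ⊓ C with hJ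
  have hJN : J ≤ N := inf_le_right.trans hCN
  have hNJ : N ≤ Subgroup.normalizer (J : Set H) := by
    apply le_normalizer_of_conj_mem
    intro n hn d hd
    exact Subgroup.mem_inf.mpr ⟨conj_mem_ker0 hNU hn (Subgroup.mem_inf.mp hd).1,
      conj_mem_of_le_normalizer hNC hn (Subgroup.mem_inf.mp hd).2⟩
  have hJp : IsPGroup p J := by
    apply isPGroup_of_pPrime_elements_trivial
    intro g hg hco
    obtain ⟨hg1, hg2⟩ := Subgroup.mem_inf.mp hg
    let A : ℕ → Subgroup H := fun i => if i = 0 then ⊥ else if i = 1 then P else U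
    have hA := commute_of_stabilizes_chain g hco A (by simp [A]) 2 ?_ ?_ 2 le_rfl
    · have hgU : g ∈ Subgroup.centralizer (U : Set H) := by
        rw [Subgroup.mem_centralizer_iff]
        intro r hr
        have := hA r (by simpa [A] using hr)
        exact this.symm
      exact eq_one_of_coprime_of_mem_pGroup hUp (hchar hgU) hco
    · intro i hi
      have hle : A i ≤ U := by
        by_cases h0 : i = 0
        · simp [A, h0]
        by_cases h1 : i = 1
        · simp only [A, h1]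
          simpa using hPU
        · simp only [A, h0, h1, if_false]
          exact le_rfl
      exact hUp.to_le hle
    · intro i hi r hr
      interval_cases i
      · have hr' : r ∈ P := by simpa [A] using hr
        have h1 := (Subgroup.mem_centralizer_iff.mp hg2) r hr'
        have e : r⁻¹ * g * r * g⁻¹ = r⁻¹ * (g * r) * g⁻¹ := by group
        rw [e, ← h1]
        simp [A]
      · have hr' : r ∈ U := by simpa [A] using hr
        have : r⁻¹ * g * r * g⁻¹ ∈ P := hg1.2 r hr'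
        simpa [A] using this
  have hJU : J ≤ U := by
    rw [hU]; exact le_map_pCore_of_le_normalizer hJp hJN hNJ
  -- commutators of `C` and `Q` lie in `J`
  have hcomm : ∀ c ∈ C, ∀ q ∈ Q, c * q * c⁻¹ * q⁻¹ ∈ J := by
    intro c hc q hq
    refine Subgroup.mem_inf.mpr ⟨?_, ?_⟩
    · exact Subgroup.mul_mem _ (conj_mem_ker0 hNU (hCN hc) (hQK hq)) (Subgroup.inv_mem _ (hQK hq))
    · have h1 : q * c⁻¹ * q⁻¹ ∈ C := conj_mem_of_le_normalizer hNC (hQN hq) (C.inv_mem hc)
      have e : c * q * c⁻¹ * q⁻¹ = c * (q * c⁻¹ * q⁻¹) := by group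
      rw [e]
      exact C.mul_mem hc h1
  -- `C` normalizes `Q`
  have hCQU : C ≤ Subgroup.normalizer ((Q ⊔ U : Subgroup H) : Set H) := by
    apply le_normalizer_of_conj_mem
    intro c hc d hd
    have h1 : Q ⊔ U ≤ (Q ⊔ U).comap (MulAut.conj c).toMonoidHom := by
      apply sup_le
      · intro q hq
        rw [Subgroup.mem_comap]
        show c * q * c⁻¹ ∈ Q ⊔ U
        have e : c * q * c⁻¹ = (c * q * c⁻¹ * q⁻¹) * q := by group
        rw [e]
        exact Subgroup.mul_mem _ (Subgroup.mem_sup_right (hJU (hcomm c hc q hq)))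
          (Subgroup.mem_sup_left hq)
      · intro u hu
        rw [Subgroup.mem_comap]
        show c * u * c⁻¹ ∈ Q ⊔ U
        exact Subgroup.mem_sup_right (conj_mem_of_le_normalizer hNU (hCN hc) hu)
    exact h1 hd
  have hCQ' : C ≤ Subgroup.normalizer (Q : Set H) :=
    hCQU.trans (IsWeaklyClosedSubgroup_normalizer_le hwc hQUp le_sup_left)
  have hQUP : Q ⊓ U ≤ Q ⊓ P := by
    intro x hx
    obtain ⟨hx1, hx2⟩ := Subgroup.mem_inf.mp hx
    exact Subgroup.mem_inf.mpr ⟨hx1, hULP (Subgroup.mem_inf.mpr ⟨hx2, hQL hx1⟩)⟩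
  have ha : ⁅Q, C⁆ ≤ Q ⊓ P := by
    rw [Subgroup.commutator_le]
    intro q hq c hc
    apply hQUP
    refine Subgroup.mem_inf.mpr ⟨?_, ?_⟩
    · rw [commutatorElement_def]
      have h1 : c * q⁻¹ * c⁻¹ ∈ Q := conj_mem_of_le_normalizer hCQ' hc (Q.inv_mem hq)
      have e : q * c * q⁻¹ * c⁻¹ = q * (c * q⁻¹ * c⁻¹) := by group
      rw [e]
      exact Q.mul_mem hq h1
    · rw [commutatorElement_def]
      have h1 := hJU (hcomm c hc q hq)
      have e : q * c * q⁻¹ * c⁻¹ = (c * q * c⁻¹ * q⁻¹)⁻¹ := by group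
      rw [e]
      exact U.inv_mem h1
  have hb : IsPGroup p C := by
    apply isPGroup_of_pPrime_elements_trivial
    intro x hx hco
    have hxQ : x ∈ Subgroup.centralizer (Q : Set H) := by
      rw [Subgroup.mem_centralizer_iff]
      intro q hq
      have h1 : q⁻¹ * x * q * x⁻¹ ∈ Q ⊓ P := by
        apply ha
        have : q⁻¹ * x * q * x⁻¹ = ⁅q⁻¹, x⁆ := by rw [commutatorElement_def]; group
        rw [this]
        exact Subgroup.commutator_mem_commutator (Q.inv_mem hq) hx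
      have h2 : q⁻¹ * x * q * x⁻¹ ∈ P := (Subgroup.mem_inf.mp h1).2
      have h3 : Commute x (q⁻¹ * x * q * x⁻¹) :=
        ((Subgroup.mem_centralizer_iff.mp hx) _ h2).symm
      have h4 : ∃ k : ℕ, orderOf (q⁻¹ * x * q * x⁻¹) = p ^ k := by
        obtain ⟨k, hk⟩ := (IsPGroup.iff_orderOf.mp hPp) ⟨_, h2⟩
        exact ⟨k, by rw [← hk]; exact (Subgroup.orderOf_mk _ h2).symm⟩
      exact (commute_of_commute_comm x q hco h3 h4).symm
    exact eq_one_of_coprime_of_mem_pGroup hQp (hCQ hxQ) hco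
  refine ⟨ha, hb, ?_⟩
  have hn : (Subgroup.centralizer (Cfsg.pCore p ↥L : Set ↥L)).Normal := inferInstance
  apply le_pCore hn
  intro ⟨z, hz⟩
  have hzC : (z : H) ∈ C := by
    rw [hC, Subgroup.mem_centralizer_iff]
    intro x hx
    rw [hP] at hx
    obtain ⟨x', hx', rfl⟩ := hx
    have := (Subgroup.mem_centralizer_iff.mp hz) x' hx'
    exact congrArg Subtype.val this
  obtain ⟨k, hk⟩ := hb ⟨(z : H), hzC⟩
  refine ⟨k, ?_⟩
  apply Subtype.ext
  apply Subtype.ext
  have := congrArg Subtype.val hk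
  simpa using this

/-- from `F*(N) = O_p(N)` for `N = N_H(P)` to `C_H(U) ≤ U`. -/
theorem hchar_of_fstar [Finite H] {p : ℕ} [Fact p.Prime] (P : Subgroup H) (hPp : IsPGroup p ↥P)
    (hF : Cfsg.generalizedFittingSubgroup ↥(Subgroup.normalizer (P : Set H))
      = Cfsg.pCore p ↥(Subgroup.normalizer (P : Set H))) :
    Subgroup.centralizer ((Cfsg.pCoreOf p (Subgroup.normalizer (P : Set H)) : Subgroup H) : Set H)
      ≤ Cfsg.pCoreOf p (Subgroup.normalizer (P : Set H)) := by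
  set N : Subgroup H := Subgroup.normalizer (P : Set H) with hN
  have h1 : Subgroup.centralizer (Cfsg.pCore p ↥N : Set ↥N) ≤ Cfsg.pCore p ↥N := by
    have := centralizer_generalizedFittingSubgroup_le (G := ↥N)
    rwa [hF] at this
  have hPU : P ≤ Cfsg.pCoreOf p N :=
    le_map_pCore_of_le_normalizer hPp Subgroup.le_normalizer le_rfl
  intro x hx
  have hxN : x ∈ N := by
    apply Subgroup.centralizer_le_normalizer (P : Set H)
    exact Subgroup.centralizer_le (by exact_mod_cast hPU) hx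
  have h2 : (⟨x, hxN⟩ : ↥N) ∈ Subgroup.centralizer (Cfsg.pCore p ↥N : Set ↥N) := by
    rw [Subgroup.mem_centralizer_iff]
    intro u hu
    apply Subtype.ext
    exact (Subgroup.mem_centralizer_iff.mp hx) (u : H) ⟨u, hu, rfl⟩
  exact ⟨⟨x, hxN⟩, h1 h2, rfl⟩

end

/-- Let Q be a nontrivial p-subgroup of the finite group H that is a weakly closed subgroup with C_H(Q) ≤ Q, and Q ≤ L ≤ H. Suppose H has characteristic p, or more generally that C_H(y) has characteristic p for some nonidentity y ∈ C_{O_p(L)}(Q). Then [Q, C_H(O_p(L))] ≤ Q ∩ O_p(L), C_H(O_p(L)) is a p-group, and L has characteristic p. -/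
theorem result {H : Type*} [Group H] [Finite H] {p : ℕ} [Fact p.Prime] (Q : Subgroup H) (hQp : IsPGroup p ↥Q) (hQ1 : Q ≠ ⊥) (hwc : Cfsg.IsWeaklyClosedSubgroup p Q) (hCQ : Subgroup.centralizer ((Q : Subgroup H) : Set H) ≤ Q) (L : Subgroup H) (hQL : Q ≤ L) (hyp : Subgroup.centralizer (Cfsg.pCore p H : Set H) ≤ Cfsg.pCore p H ∨ ∃ y : H, y ≠ 1 ∧ y ∈ (Cfsg.pCoreOf p L) ⊓ Subgroup.centralizer ((Q : Subgroup H) : Set H) ∧ Subgroup.centralizer (Cfsg.pCore p ↥(Subgroup.centralizer ({y} : Set H)) : Set ↥(Subgroup.centralizer ({y} : Set H))) ≤ Cfsg.pCore p ↥(Subgroup.centralizer ({y} : Set H))) : ⁅Q, Subgroup.centralizer (((Cfsg.pCoreOf p L) : Subgroup H) : Set H)⁆ ≤ Q ⊓ (Cfsg.pCoreOf p L) ∧ IsPGroup p ↥(Subgroup.centralizer (((Cfsg.pCoreOf p L) : Subgroup H) : Set H)) ∧ Subgroup.centralizer (Cfsg.pCore p ↥L : Set ↥L) ≤ Cfsg.pCore p ↥L := by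
  classical
  have hPp : IsPGroup p (Cfsg.pCoreOf p L) := pCoreOf_isPGroup p L
  apply main Q hQp hwc hCQ L hQL (Cfsg.pCoreOf p L) rfl _ rfl
  apply hchar_of_fstar _ hPp
  rcases hyp with hyp | ⟨y, hy1, hy2, hy3⟩
  · exact generalizedFittingSubgroup_normalizer_eq_pCore (Q := Cfsg.pCore p H)
      (Cfsg.Agent.Lib.Helper6.pCore_isPGroup p) hyp hPp
  · set P : Subgroup H := Cfsg.pCoreOf p L with hP
    set N : Subgroup H := Subgroup.normalizer (P : Set H) with hN
    obtain ⟨hyP, hyQ⟩ := Subgroup.mem_inf.mp hy2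
    -- `F*(C_H(y))` is a `p`-group
    have h1 : IsPGroup p (Cfsg.generalizedFittingSubgroup ↥(Subgroup.centralizer ({y} : Set H))) := by
      rw [generalizedFittingSubgroup_eq_pCore_of_centralizer_le
        (Cfsg.pCore p ↥(Subgroup.centralizer ({y} : Set H))) hy3
        ((Cfsg.Agent.Lib.Helper6.pCore_isPGroup p).to_subgroup _)]
      exact Cfsg.Agent.Lib.Helper6.pCore_isPGroup p
    have h2 : IsPGroup p (Cfsg.generalizedFittingSubgroup
        ↥(Subgroup.centralizer ((Subgroup.zpowers y : Subgroup H) : Set H))) :=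
      isPGroup_generalizedFittingSubgroup_of_mulEquiv
        (MulEquiv.subgroupCongr (centralizer_zpowers_eq y).symm) h1
    have hzP : Subgroup.zpowers y ≤ P := by
      rw [Subgroup.zpowers_le]; exact hyP
    have h3 : IsPGroup p (Cfsg.generalizedFittingSubgroup
        ↥(Subgroup.centralizer ((P : Subgroup H) : Set H))) :=
      isPGroup_generalizedFittingSubgroup_centralizer_mono hPp (Nat.card P) (Subgroup.zpowers y)
        hzP (Nat.sub_le _ _) h2
    have hCN : Subgroup.centralizer ((P : Subgroup H) : Set H) ≤ N :=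
      Subgroup.centralizer_le_normalizer (P : Set H)
    have h4 : IsPGroup p (Cfsg.generalizedFittingSubgroup
        ↥((Subgroup.centralizer ((P : Subgroup H) : Set H)).subgroupOf N)) :=
      isPGroup_generalizedFittingSubgroup_of_mulEquiv (Subgroup.subgroupOfEquivOfLe hCN).symm h3
    apply generalizedFittingSubgroup_eq_pCore_of_centralizer_le
      ((Subgroup.centralizer ((P : Subgroup H) : Set H)).subgroupOf N) _ h4
    intro x hx
    rw [Subgroup.mem_subgroupOf, Subgroup.mem_centralizer_iff]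
    intro u hu
    have hPU : P ≤ Cfsg.pCoreOf p N :=
      le_map_pCore_of_le_normalizer hPp Subgroup.le_normalizer le_rfl
    obtain ⟨u', hu', rfl⟩ := hPU hu
    have := (Subgroup.mem_centralizer_iff.mp hx) u' hu'
    exact congrArg Subtype.val this

end Cfsg.Agent.S2842
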