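import Mathlib
import Cfsg.Agent.Lib.Helper6.Large
import Cfsg.Agent.Lib.Lead.Nilpotent
import Cfsg.Agent.Lib.Helper6.YL2
import Cfsg.Agent.S2842
import Cfsg.Statements.S2845

set_option autoImplicit false
open Cfsg

namespace Cfsg.Agent.S2845

open Cfsg.Agent.Lib.Helper6 Cfsg.Agent.Lib.Helper3
open scoped commutatorElement

section
variable {H : Type*} [Group H]

/-- a `p`-group `Q` normalizing a nontrivial `p`-group `P` centralizes a nontrivial element of `P`. -/
theorem exists_ne_one_mem_inf_centralizer [Finite H] {p : ℕ} [Fact p.Prime] {Q P : Subgroup H}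
    (hQ : IsPGroup p ↥Q) (hP : IsPGroup p ↥P) (hQP : Q ≤ Subgroup.normalizer (P : Set H))
    (hP1 : P ≠ ⊥) : ∃ y : H, y ≠ 1 ∧ y ∈ P ⊓ Subgroup.centralizer (Q : Set H) := by
  set R : Subgroup H := Q ⊔ P with hR
  have hRp : IsPGroup p R := by
    rw [hR, sup_comm]; exact IsPGroup.to_sup_of_normal_left' hP hQ hQP
  have hPR : P ≤ R := le_sup_right
  have hRN : R ≤ Subgroup.normalizer (P : Set H) := sup_le hQP Subgroup.le_normalizer
  haveI hn : (P.subgroupOf R).Normal := Subgroup.normal_subgroupOf_of_le_normalizer hRN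
  haveI : Group.IsNilpotent ↥R := hRp.isNilpotent
  have hne : P.subgroupOf R ≠ ⊥ := by
    intro h
    apply hP1
    rw [Subgroup.subgroupOf_eq_bot] at h
    have := h.eq_bot
    rwa [inf_of_le_left hPR] at this
  have h1 := Cfsg.Agent.Lib.Lead.inf_center_ne_bot (P.subgroupOf R) hne
  obtain ⟨⟨x, hx⟩, hx1⟩ := (Subgroup.ne_bot_iff_exists_ne_one).mp h1
  obtain ⟨hxP, hxZ⟩ := Subgroup.mem_inf.mp hx
  refine ⟨(x : H), ?_, Subgroup.mem_inf.mpr ⟨Subgroup.mem_subgroupOf.mp hxP, ?_⟩⟩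
  · intro h
    apply hx1
    apply Subtype.ext
    apply Subtype.ext
    simpa using h
  · rw [Subgroup.mem_centralizer_iff]
    intro q hq
    have := (Subgroup.mem_center_iff.mp hxZ) ⟨q, (le_sup_left : Q ≤ R) hq⟩
    exact congrArg Subtype.val this

/-- the part about subgroups `L ≥ Q` with `O_p(L) ≠ 1`. -/
theorem partA [Finite H] {p : ℕ} [Fact p.Prime] (Q : Subgroup H) (hQp : IsPGroup p ↥Q)
    (hQ1 : Q ≠ ⊥) (hL : Cfsg.IsLarge Q) (L : Subgroup H) (hQL : Q ≤ L)
    (hO : Cfsg.pCore p ↥L ≠ ⊥) :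
    IsPGroup p ↥(Subgroup.centralizer (((Cfsg.pCoreOf p L) : Subgroup H) : Set H)) ∧
      Subgroup.centralizer (Cfsg.pCore p ↥L : Set ↥L) ≤ Cfsg.pCore p ↥L := by
  have hwc := isWeaklyClosedSubgroup_of_isLarge hQp hQ1 hL
  have hP1 : Cfsg.pCoreOf p L ≠ ⊥ := by
    intro h
    apply hO
    unfold Cfsg.pCoreOf at h
    rwa [Subgroup.map_eq_bot_iff_of_injective _ L.subtype_injective] at h
  have hQP : Q ≤ Subgroup.normalizer ((Cfsg.pCoreOf p L : Subgroup H) : Set H) :=
    hQL.trans (Cfsg.Agent.S2842.le_normalizer_pCoreOf p L)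
  obtain ⟨y, hy1, hy2⟩ := exists_ne_one_mem_inf_centralizer hQp (pCoreOf_isPGroup p L) hQP hP1
  obtain ⟨hyP, hyQ⟩ := Subgroup.mem_inf.mp hy2
  -- `C_H(y)` has characteristic `p`
  have hKN : Subgroup.centralizer ({y} : Set H) ≤ Subgroup.normalizer (Q : Set H) := by
    have h1 : Subgroup.zpowers y ≤ Subgroup.centralizer (Q : Set H) := by
      rw [Subgroup.zpowers_le]; exact hyQ
    have h2 : Subgroup.zpowers y ≠ ⊥ := by
      rw [Ne, Subgroup.zpowers_eq_bot]; exact hy1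
    have h3 := hL.2 _ h1 h2
    refine le_trans ?_ h3
    rw [← centralizer_zpowers_eq]
    exact Subgroup.centralizer_le_normalizer _
  have hQK : Q ≤ Subgroup.centralizer ({y} : Set H) := by
    intro q hq
    rw [Subgroup.mem_centralizer_iff]
    intro z hz
    rw [Set.mem_singleton_iff] at hz
    rw [hz]
    exact ((Subgroup.mem_centralizer_iff.mp hyQ) q hq).symm
  have hchar : Subgroup.centralizer (Cfsg.pCore p ↥(Subgroup.centralizer ({y} : Set H)) :
      Set ↥(Subgroup.centralizer ({y} : Set H))) ≤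
      Cfsg.pCore p ↥(Subgroup.centralizer ({y} : Set H)) := by
    set K : Subgroup H := Subgroup.centralizer ({y} : Set H) with hK
    have hQO : Q ≤ Cfsg.pCoreOf p K := le_map_pCore_of_le_normalizer hQp hQK hKN
    intro x hx
    have hxQ : (x : H) ∈ Subgroup.centralizer (Q : Set H) := by
      rw [Subgroup.mem_centralizer_iff]
      intro q hq
      obtain ⟨q', hq', rfl⟩ := hQO hq
      have := (Subgroup.mem_centralizer_iff.mp hx) q' hq'
      exact congrArg Subtype.val this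
    obtain ⟨x', hx', hxx⟩ := hQO (hL.1 hxQ)
    have : x' = x := Subtype.ext hxx
    rw [← this]; exact hx'
  have := Cfsg.Agent.S2842.result Q hQp hQ1 hwc hL.1 L hQL (Or.inr ⟨y, hy1, hy2, hchar⟩)
  exact ⟨this.2.1, this.2.2⟩

theorem weakClosure_dichotomy [Finite H] {p : ℕ} [Fact p.Prime] (Q : Subgroup H)
    (hQp : IsPGroup p ↥Q) (hQ1 : Q ≠ ⊥) (hL : Cfsg.IsLarge Q) (L : Subgroup H) (hQL : Q ≤ L) :
    Cfsg.weakClosure Q L = Q ∨
      Subgroup.centralizer (((Cfsg.weakClosure Q L) : Subgroup H) : Set H) = ⊥ := by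
  by_cases h : ∀ g : H, Q.map (MulAut.conj g).toMonoidHom ≤ L →
      g ∈ Subgroup.normalizer (Q : Set H)
  · left
    unfold Cfsg.weakClosure
    apply le_antisymm
    · apply iSup_le
      rintro ⟨g, hg⟩
      rw [map_conj_eq_self_of_mem_normalizer (h g hg)]
    · have h1 : Q.map (MulAut.conj (1 : H)).toMonoidHom ≤ L := by rw [map_conj_one]; exact hQL
      have := le_iSup (fun g : {g : H // Q.map (MulAut.conj g).toMonoidHom ≤ L} =>
        Q.map (MulAut.conj (g : H)).toMonoidHom) ⟨1, h1⟩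
      simp only [map_conj_one] at this
      exact this
  · right
    push Not at h
    obtain ⟨g, hgL, hgN⟩ := h
    have h1 := isLarge_centralizer_inf_eq_bot hQp hQ1 hL hgN
    rw [eq_bot_iff, ← h1]
    have hQle : Q ≤ Cfsg.weakClosure Q L := by
      have h1 : Q.map (MulAut.conj (1 : H)).toMonoidHom ≤ L := by rw [map_conj_one]; exact hQL
      have := le_iSup (fun g : {g : H // Q.map (MulAut.conj g).toMonoidHom ≤ L} =>
        Q.map (MulAut.conj (g : H)).toMonoidHom) ⟨1, h1⟩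
      simp only [map_conj_one] at this
      exact this
    have hQgle : Q.map (MulAut.conj g).toMonoidHom ≤ Cfsg.weakClosure Q L :=
      le_iSup (fun g : {g : H // Q.map (MulAut.conj g).toMonoidHom ≤ L} =>
        Q.map (MulAut.conj (g : H)).toMonoidHom) ⟨g, hgL⟩
    exact le_inf (Subgroup.centralizer_le (by exact_mod_cast hQle))
      (Subgroup.centralizer_le (by exact_mod_cast hQgle))

theorem partB [Finite H] {p : ℕ} [Fact p.Prime] (Q : Subgroup H) (hQp : IsPGroup p ↥Q)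
    (hQ1 : Q ≠ ⊥) (hL : Cfsg.IsLarge Q) (R : Subgroup H) (hR : Cfsg.IsParabolic p R)
    (hO : Cfsg.pCore p ↥R ≠ ⊥) :
    Subgroup.centralizer (((Cfsg.pCoreOf p R) : Subgroup H) : Set H) ≤ (Cfsg.pCoreOf p R) ∧
      Subgroup.centralizer (Cfsg.pCore p ↥R : Set ↥R) ≤ Cfsg.pCore p ↥R := by
  obtain ⟨T, hTR⟩ := hR
  obtain ⟨g, hg⟩ := exists_map_conj_le_sylow T hQp
  set Q' : Subgroup H := Q.map (MulAut.conj g).toMonoidHom with hQ'
  have hQ'p : IsPGroup p Q' := isPGroup_map_conj hQp g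
  have hQ'1 : Q' ≠ ⊥ := by
    intro h
    apply hQ1
    rw [hQ', Subgroup.map_eq_bot_iff_of_injective _ (MulAut.conj g).injective] at h
    exact h
  have hQ'L : Cfsg.IsLarge Q' := isLarge_map_conj hL g
  obtain ⟨hA1, hA2⟩ := partA Q' hQ'p hQ'1 hQ'L R (hg.trans hTR) hO
  refine ⟨?_, hA2⟩
  set C : Subgroup H := Subgroup.centralizer (((Cfsg.pCoreOf p R) : Subgroup H) : Set H) with hC
  have hRC : R ≤ Subgroup.normalizer (C : Set H) :=
    (Cfsg.Agent.S2842.le_normalizer_pCoreOf p R).trans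
      (Cfsg.Agent.Lib.Helper6.normalizer_le_normalizer_centralizer _)
  -- `C ≤ T`
  have hTC : IsPGroup p ((T : Subgroup H) ⊔ C : Subgroup H) := by
    rw [sup_comm]
    exact IsPGroup.to_sup_of_normal_left' hA1 T.isPGroup' (hTR.trans hRC)
  have hCT : C ≤ T := by
    have h1 := T.is_maximal' hTC le_sup_left
    rw [← h1]; exact le_sup_right
  exact le_map_pCore_of_le_normalizer hA1 (hCT.trans hTR) hRC

end

/-- Let Q be a nontrivial large p-subgroup of the finite group H. Then for every subgroup L ≥ Q with O_p(L) ≠ 1, C_H(O_p(L)) is a p-group and L has characteristic p, and either the weak closure L° of Q in L equals Q or C_H(L°) = 1; for every subgroup R of H containing a Sylow p-subgroup of H with O_p(R) ≠ 1, C_H(O_p(R)) ≤ O_p(R); and H has parabolic characteristic p. -/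
theorem result {H : Type*} [Group H] [Finite H] {p : ℕ} [Fact p.Prime] (Q : Subgroup H) (hQp : IsPGroup p ↥Q) (hQ1 : Q ≠ ⊥) (hL : Cfsg.IsLarge Q) : (∀ L : Subgroup H, Q ≤ L → Cfsg.pCore p ↥L ≠ ⊥ → IsPGroup p ↥(Subgroup.centralizer (((Cfsg.pCoreOf p L) : Subgroup H) : Set H)) ∧ Subgroup.centralizer (Cfsg.pCore p ↥L : Set ↥L) ≤ Cfsg.pCore p ↥L ∧ (Cfsg.weakClosure Q L = Q ∨ Subgroup.centralizer (((Cfsg.weakClosure Q L) : Subgroup H) : Set H) = ⊥)) ∧ (∀ R : Subgroup H, Cfsg.IsParabolic p R → Cfsg.pCore p ↥R ≠ ⊥ → Subgroup.centralizer (((Cfsg.pCoreOf p R) : Subgroup H) : Set H) ≤ (Cfsg.pCoreOf p R)) ∧ Cfsg.IsOfParabolicCharacteristic p H := by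
  refine ⟨?_, ?_, ?_⟩
  · intro L hQL hO
    obtain ⟨h1, h2⟩ := partA Q hQp hQ1 hL L hQL hO
    exact ⟨h1, h2, weakClosure_dichotomy Q hQp hQ1 hL L hQL⟩
  · intro R hR hO
    exact (partB Q hQp hQ1 hL R hR hO).1
  · intro R hRp hR1 hpar
    apply (partB Q hQp hQ1 hL _ hpar ?_).2
    intro h
    apply hR1
    have h1 : R ≤ Cfsg.pCoreOf p (Subgroup.normalizer (R : Set H)) :=
      le_map_pCore_of_le_normalizer hRp Subgroup.le_normalizer le_rfl
    unfold Cfsg.pCoreOf at h1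
    rw [h, Subgroup.map_bot] at h1
    exact le_bot_iff.mp h1

end Cfsg.Agent.S2845
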