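import Mathlib
import Cfsg.Agent.Lib.Helper6.Large
import Cfsg.Agent.Lib.Helper6.YL2
import Cfsg.Agent.Lib.Helper3.CharP5
import Cfsg.Agent.S2845
import Cfsg.Statements.S2843

set_option autoImplicit false
open Cfsg

namespace Cfsg.Agent.S2843

open Cfsg.Agent.Lib.Helper6 Cfsg.Agent.Lib.Helper3
open Cfsg.Agent.S2842 (conj_mem_of_le_normalizer conj_mem_of_le_normalizer' le_normalizer_of_conj_mem)
open scoped commutatorElement

local notation "cj[" g "]" Q:max => Subgroup.map (MulEquiv.toMonoidHom (MulAut.conj g)) Q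

section
variable {H : Type*} [Group H]

/-- elements of `N(W)` commuting with `C` modulo `W` -/
def commMod (W C : Subgroup H) : Subgroup H where
  carrier := {x | x ∈ Subgroup.normalizer (W : Set H) ∧ ∀ c ∈ C, ⁅x, c⁆ ∈ W}
  one_mem' := ⟨Subgroup.one_mem _, fun c _ => by simp⟩
  mul_mem' := by
    rintro x y ⟨hx1, hx2⟩ ⟨hy1, hy2⟩
    refine ⟨Subgroup.mul_mem _ hx1 hy1, ?_⟩
    intro c hc
    have e : ⁅x * y, c⁆ = x * ⁅y, c⁆ * x⁻¹ * ⁅x, c⁆ := by
      simp only [commutatorElement_def]; group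
    rw [e]
    exact W.mul_mem ((Subgroup.mem_normalizer_iff.mp hx1 _).mp (hy2 c hc)) (hx2 c hc)
  inv_mem' := by
    rintro x ⟨hx1, hx2⟩
    refine ⟨Subgroup.inv_mem _ hx1, ?_⟩
    intro c hc
    have e : ⁅x⁻¹, c⁆ = x⁻¹ * (⁅x, c⁆)⁻¹ * x⁻¹⁻¹ := by
      simp only [commutatorElement_def]; group
    rw [e]
    exact (Subgroup.mem_normalizer_iff.mp (Subgroup.inv_mem _ hx1) _).mp (W.inv_mem (hx2 c hc))

theorem le_weakClosure {Q L : Subgroup H} {g : H} (hg : cj[g] Q ≤ L) :
    cj[g] Q ≤ Cfsg.weakClosure Q L :=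
  le_iSup (fun g : {g : H // Q.map (MulAut.conj g).toMonoidHom ≤ L} =>
    Q.map (MulAut.conj (g : H)).toMonoidHom) ⟨g, hg⟩

theorem weakClosure_le {Q L X : Subgroup H} (h : ∀ g : H, cj[g] Q ≤ L → cj[g] Q ≤ X) :
    Cfsg.weakClosure Q L ≤ X := by
  unfold Cfsg.weakClosure
  apply iSup_le
  rintro ⟨g, hg⟩
  exact h g hg

theorem weakClosure_le_self (Q L : Subgroup H) : Cfsg.weakClosure Q L ≤ L :=
  weakClosure_le (fun _ hg => hg)

theorem main [Finite H] {p : ℕ} [Fact p.Prime] (Q : Subgroup H) (hQp : IsPGroup p ↥Q)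
    (hQ1 : Q ≠ ⊥) (hL : Cfsg.IsLarge Q) (L : Subgroup H) (hQL : Q ≤ L) (Y : Subgroup H)
    (hYp : IsPGroup p ↥Y) (hY1 : Y ≠ ⊥)
    (hLY : L ≤ Subgroup.normalizer ((Y : Subgroup H) : Set H)) :
    Cfsg.weakClosure Q L = Cfsg.weakClosure Q (L ⊔ Subgroup.centralizer ((Y : Subgroup H) : Set H)) ∧
    ⁅Cfsg.weakClosure Q L, Subgroup.centralizer ((Y : Subgroup H) : Set H)⁆ ≤
      (Cfsg.pCoreOf p (Cfsg.weakClosure Q L)) ∧
    Subgroup.centralizer ((Y : Subgroup H) : Set H) ≤
      Subgroup.normalizer (((Cfsg.weakClosure Q L) : Subgroup H) : Set H) := by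
  classical
  set C : Subgroup H := Subgroup.centralizer ((Y : Subgroup H) : Set H) with hC
  set M : Subgroup H := L ⊔ C with hM
  have hwc := isWeaklyClosedSubgroup_of_isLarge hQp hQ1 hL
  have hCY : C ≤ Subgroup.normalizer ((Y : Subgroup H) : Set H) :=
    Subgroup.centralizer_le_normalizer _
  have hMY : M ≤ Subgroup.normalizer ((Y : Subgroup H) : Set H) := sup_le hLY hCY
  have hNC : Subgroup.normalizer ((Y : Subgroup H) : Set H) ≤ Subgroup.normalizer (C : Set H) :=
    normalizer_le_normalizer_centralizer Y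
  have hMC : M ≤ Subgroup.normalizer (C : Set H) := hMY.trans hNC
  have hLM : L ≤ M := le_sup_left
  have hCM : C ≤ M := le_sup_right
  have hQM : Q ≤ M := hQL.trans hLM
  -- K1
  have K1 : ∀ g : H, cj[g] Q ≤ M → C ≤ Subgroup.normalizer ((cj[g] Q : Subgroup H) : Set H) := by
    intro g hg
    have hQ'p : IsPGroup p (cj[g] Q) := isPGroup_map_conj hQp g
    have hQ'L : Cfsg.IsLarge (cj[g] Q) := isLarge_map_conj hL g
    obtain ⟨y, hy1, hy2⟩ := Cfsg.Agent.S2845.exists_ne_one_mem_inf_centralizer hQ'p hYp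
      (hg.trans hMY) hY1
    obtain ⟨hyY, hyQ⟩ := Subgroup.mem_inf.mp hy2
    have h1 : Subgroup.zpowers y ≤ Subgroup.centralizer ((cj[g] Q : Subgroup H) : Set H) := by
      rw [Subgroup.zpowers_le]; exact hyQ
    have h2 : Subgroup.zpowers y ≠ ⊥ := by
      rw [Ne, Subgroup.zpowers_eq_bot]; exact hy1
    have h3 := hQ'L.2 _ h1 h2
    refine le_trans ?_ h3
    refine le_trans ?_ (Subgroup.centralizer_le_normalizer _)
    apply Subgroup.centralizer_le
    intro z hz
    exact (Subgroup.zpowers_le.mpr hyY) hz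
  -- K2
  have K2 : ∀ g : H, cj[g] Q ≤ M → cj[g] Q ≤ L := by
    intro g hg
    obtain ⟨m, hm, hgm⟩ := IsWeaklyClosedSubgroup_exists_conj_in hQp hwc hQM hg
    have hn : (C.subgroupOf M).Normal := Subgroup.normal_subgroupOf_of_le_normalizer hMC
    have htop : L.subgroupOf M ⊔ C.subgroupOf M = ⊤ := by
      rw [← Subgroup.subgroupOf_sup hLM hCM, ← hM, Subgroup.subgroupOf_self]
    have hm' : (⟨m, hm⟩ : ↥M) ∈ L.subgroupOf M ⊔ C.subgroupOf M := by rw [htop]; trivial
    rw [Subgroup.mem_sup_of_normal_right] at hm'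
    obtain ⟨l, hl, c, hc, hlc⟩ := hm'
    have hlc' : m = (l : H) * (c : H) := by
      have := congrArg Subtype.val hlc
      simpa using this.symm
    have hc' : cj[(c : H)] Q = Q :=
      map_conj_eq_self_of_mem_normalizer
        (by
          have := K1 1 (by rw [map_conj_one]; exact hQM) (Subgroup.mem_subgroupOf.mp hc)
          rwa [map_conj_one] at this)
    rw [hgm, hlc', ← map_conj_map_conj, hc']
    rintro _ ⟨q, hq, rfl⟩
    have hl' : (l : H) ∈ L := Subgroup.mem_subgroupOf.mp hl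
    exact L.mul_mem (L.mul_mem hl' (hQL hq)) (L.inv_mem hl')
  have e1 : Cfsg.weakClosure Q L = Cfsg.weakClosure Q M := by
    apply le_antisymm
    · exact weakClosure_le (fun g hg => le_weakClosure (hg.trans hLM))
    · exact weakClosure_le (fun g hg => le_weakClosure (K2 g hg))
  -- C normalizes L°
  have e3 : C ≤ Subgroup.normalizer (((Cfsg.weakClosure Q L) : Subgroup H) : Set H) := by
    intro c hc
    apply mem_normalizer_of_map_conj_eq_self
    have key : ∀ c ∈ C, cj[c] (Cfsg.weakClosure Q L) ≤ Cfsg.weakClosure Q L := by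
      intro c hc
      unfold Cfsg.weakClosure
      rw [Subgroup.map_iSup]
      apply iSup_le
      rintro ⟨g, hg⟩
      have h1 : cj[c] (cj[g] Q) = cj[g] Q :=
        map_conj_eq_self_of_mem_normalizer (K1 g (hg.trans hLM) hc)
      show cj[c] (cj[g] Q) ≤ _
      rw [h1]
      exact le_iSup (fun g : {g : H // Q.map (MulAut.conj g).toMonoidHom ≤ L} =>
        Q.map (MulAut.conj (g : H)).toMonoidHom) ⟨g, hg⟩
    apply le_antisymm (key c hc)
    have := Subgroup.map_mono (f := (MulAut.conj c).toMonoidHom) (key c⁻¹ (C.inv_mem hc))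
    rwa [map_conj_map_conj_inv] at this
  refine ⟨e1, ?_, e3⟩
  -- the subgroup `W`
  set W : Subgroup H := ⨆ g : {g : H // Q.map (MulAut.conj g).toMonoidHom ≤ L},
    (cj[(g : H)] Q ⊓ C) with hW
  have hAW : ∀ g : H, cj[g] Q ≤ L → cj[g] Q ⊓ C ≤ W := by
    intro g hg
    exact le_iSup (fun g : {g : H // Q.map (MulAut.conj g).toMonoidHom ≤ L} =>
      (cj[(g : H)] Q ⊓ C)) ⟨g, hg⟩
  have hWC : W ≤ C := by
    apply iSup_le
    intro g
    exact inf_le_right
  have hWL : W ≤ Cfsg.weakClosure Q L := by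
    apply iSup_le
    rintro ⟨g, hg⟩
    exact inf_le_left.trans (le_weakClosure hg)
  -- each `A_i` is normalized by `C`
  have hCA : ∀ g : H, cj[g] Q ≤ L →
      C ≤ Subgroup.normalizer (((cj[g] Q ⊓ C : Subgroup H)) : Set H) := by
    intro g hg
    apply le_normalizer_of_conj_mem
    intro c hc d hd
    obtain ⟨hd1, hd2⟩ := Subgroup.mem_inf.mp hd
    exact Subgroup.mem_inf.mpr ⟨conj_mem_of_le_normalizer (K1 g (hg.trans hLM)) hc hd1,
      C.mul_mem (C.mul_mem hc hd2) (C.inv_mem hc)⟩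
  have hWp : IsPGroup p W := by
    have h1 : W ≤ Cfsg.pCoreOf p W := by
      rw [hW]
      apply iSup_le
      rintro ⟨g, hg⟩
      rw [← hW]
      exact le_map_pCore_of_le_normalizer ((isPGroup_map_conj hQp g).to_le inf_le_left)
        (hAW g hg) (hWC.trans (hCA g hg))
    exact (pCoreOf_isPGroup p W).to_le h1
  -- `L` normalizes `W`
  have hLW : L ≤ Subgroup.normalizer (W : Set H) := by
    apply le_normalizer_of_conj_mem
    intro l hl d hd
    have h1 : W ≤ W.comap (MulAut.conj l).toMonoidHom := by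
      rw [hW]
      apply iSup_le
      rintro ⟨g, hg⟩
      rw [← hW]
      intro a ha
      obtain ⟨ha1, ha2⟩ := Subgroup.mem_inf.mp ha
      rw [Subgroup.mem_comap]
      show l * a * l⁻¹ ∈ W
      have hlg : cj[l * g] Q ≤ L := by
        rw [← map_conj_map_conj]
        rintro _ ⟨q, hq, rfl⟩
        exact L.mul_mem (L.mul_mem hl (hg hq)) (L.inv_mem hl)
      apply hAW (l * g) hlg
      refine Subgroup.mem_inf.mpr ⟨?_, ?_⟩
      · rw [← map_conj_map_conj]
        exact ⟨a, ha1, rfl⟩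
      · exact conj_mem_of_le_normalizer hMC (hLM hl) ha2
    exact h1 hd
  have hLW' : Cfsg.weakClosure Q L ≤ Subgroup.normalizer (W : Set H) :=
    (weakClosure_le_self Q L).trans hLW
  have hWO : W ≤ Cfsg.pCoreOf p (Cfsg.weakClosure Q L) :=
    le_map_pCore_of_le_normalizer hWp hWL hLW'
  refine le_trans ?_ hWO
  -- `⁅L°, C⁆ ≤ W`
  have hle : Cfsg.weakClosure Q L ≤ commMod W C := by
    apply weakClosure_le
    intro g hg x hx
    refine ⟨hLW (hg hx), ?_⟩
    intro c hc
    apply hAW g hg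
    rw [commutatorElement_def]
    refine Subgroup.mem_inf.mpr ⟨?_, ?_⟩
    · have h1 : c * x⁻¹ * c⁻¹ ∈ cj[g] Q :=
        conj_mem_of_le_normalizer (K1 g (hg.trans hLM)) hc (Subgroup.inv_mem _ hx)
      have e : x * c * x⁻¹ * c⁻¹ = x * (c * x⁻¹ * c⁻¹) := by group
      rw [e]
      exact Subgroup.mul_mem _ hx h1
    · have h1 : x * c * x⁻¹ ∈ C := conj_mem_of_le_normalizer hMC (hLM (hg hx)) hc
      exact C.mul_mem h1 (C.inv_mem hc)
  rw [Subgroup.commutator_le]
  intro x hx c hc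
  exact (hle hx).2 c hc

end

/-- Let Q be a nontrivial large p-subgroup of the finite group H, Q ≤ L ≤ H, and Y a nontrivial p-subgroup of H normalized by L. Let L° be the weak closure of Q in L (generated by the conjugates of Q inside L). Then L° equals the weak closure of Q in L·C_H(Y), and [L°, C_H(Y)] ≤ O_p(L°); in particular C_H(Y) normalizes L°. -/
theorem result {H : Type*} [Group H] [Finite H] {p : ℕ} [Fact p.Prime] (Q : Subgroup H) (hQp : IsPGroup p ↥Q) (hQ1 : Q ≠ ⊥) (hL : Cfsg.IsLarge Q) (L : Subgroup H) (hQL : Q ≤ L) (Y : Subgroup H) (hYp : IsPGroup p ↥Y) (hY1 : Y ≠ ⊥) (hLY : L ≤ Subgroup.normalizer ((Y : Subgroup H) : Set H)) : Cfsg.weakClosure Q L = Cfsg.weakClosure Q (L ⊔ Subgroup.centralizer ((Y : Subgroup H) : Set H)) ∧ ⁅Cfsg.weakClosure Q L, Subgroup.centralizer ((Y : Subgroup H) : Set H)⁆ ≤ (Cfsg.pCoreOf p (Cfsg.weakClosure Q L)) ∧ Subgroup.centralizer ((Y : Subgroup H) : Set H) ≤ Subgroup.normalizer (((Cfsg.weakClosure Q L)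 : Subgroup H) : Set H) := by
  exact main Q hQp hQ1 hL L hQL Y hYp hY1 hLY

end Cfsg.Agent.S2843
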