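import Mathlib
import Cfsg.Agent.Lib.Lead.CoprimeAction3
import Cfsg.Agent.Lib.Lead.ThompsonPQ
import Cfsg.Agent.Lib.Lead.GenCentralizers
import Cfsg.Agent.Lib.Helper6.Kieler
import Cfsg.Agent.Lib.Helper7.Conj
import Cfsg.Statements.S2909

set_option autoImplicit false
open Cfsg

namespace Cfsg.Agent.S2909

open Cfsg.Agent.Lib.Lead Cfsg.Agent.Lib.Helper6
open scoped commutatorElement

section helpers
variable {G : Type*} [Group G]

theorem commutatorElement_mul_left' (v c b : G) : ⁅v * c, b⁆ = (v * ⁅c, b⁆ * v⁻¹) * ⁅v, b⁆ := by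
  simp only [commutatorElement_def]; group

variable [Finite G]

/-- dual of Thompson's `A × B` lemma -/
theorem dual_PQ (p : ℕ) [Fact p.Prime] (P A B : Subgroup G) (hP : IsPGroup p P)
    (hA : (Nat.card A).Coprime p) (hB : IsPGroup p B)
    (hAB : B ≤ Subgroup.centralizer (A : Set G))
    (hAP : A ≤ Subgroup.normalizer (P : Set G)) (hBP : B ≤ Subgroup.normalizer (P : Set G))
    (h : ⁅P, A⁆ ≤ ⁅P, B⁆) : ⁅P, A⁆ = ⊥ := by
  by_contra hV
  set V := ⁅P, A⁆ with hVdef
  have hVP : V ≤ P := commutator_le_left_of_le_normalizer P A hAP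
  have hPV : P ≤ Subgroup.normalizer (V : Set G) := le_normalizer_commutator_left P A
  have hAV : A ≤ Subgroup.normalizer (V : Set G) := le_normalizer_commutator_right P A hAP
  have hBA : B ≤ Subgroup.normalizer (A : Set G) :=
    hAB.trans (Subgroup.centralizer_le_normalizer _)
  have hBV : B ≤ Subgroup.normalizer (V : Set G) :=
    (le_inf hBP hBA).trans (normalizer_inf_le_normalizer_commutator P A)
  set Γ := P ⊔ B with hΓ
  have hΓp : IsPGroup p Γ := IsPGroup.to_sup_of_normal_left' hP hB hBP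
  have hΓV : Γ ≤ Subgroup.normalizer (V : Set G) := sup_le hPV hBV
  have hVp : IsPGroup p V := hP.to_le hVP
  set W := ⁅V, Γ⁆ with hW
  have hWne : W ≠ V := commutator_ne_of_pgroups p V Γ hVp hΓp hΓV hV
  have hWV : W ≤ V := commutator_le_left_of_le_normalizer V Γ hΓV
  have hΓW : Γ ≤ Subgroup.normalizer (W : Set G) :=
    (le_inf hΓV Subgroup.le_normalizer).trans (normalizer_inf_le_normalizer_commutator V Γ)
  have hAB' : A ≤ Subgroup.normalizer (B : Set G) := by
    refine le_trans ?_ (Subgroup.centralizer_le_normalizer _)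
    exact Subgroup.le_centralizer_iff.mp hAB
  have hAΓ : A ≤ Subgroup.normalizer (Γ : Set G) := by
    intro a ha
    rw [Cfsg.Agent.Lib.Helper7.mem_normalizer_iff_cj, Cfsg.Agent.Lib.Helper7.cj_sup,
      Cfsg.Agent.Lib.Helper7.mem_normalizer_iff_cj.mp (hAP ha),
      Cfsg.Agent.Lib.Helper7.mem_normalizer_iff_cj.mp (hAB' ha)]
  have hAW : A ≤ Subgroup.normalizer (W : Set G) :=
    (le_inf hAV hAΓ).trans (normalizer_inf_le_normalizer_commutator V Γ)
  set C := P ⊓ Subgroup.centralizer (A : Set G) with hC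
  have hcop : (Nat.card A).Coprime (Nat.card P) := by
    obtain ⟨k, hk⟩ := IsPGroup.iff_card.mp hP
    rw [hk]; exact Nat.Coprime.pow_right k hA
  have hPsolv : Group.IsSolvable P := IsNilpotent.to_isSolvable (h := hP.isNilpotent)
  have hdecomp : V ⊔ C = P := coprime_commutator_sup_centralizer A P hAP hcop (Or.inr hPsolv)
  have hstable : ⁅V, A⁆ = V := coprime_commutator_stable A P hAP hcop (Or.inr hPsolv)
  have hBC : B ≤ Subgroup.normalizer (C : Set G) := by
    refine le_trans ?_ (normalizer_inf_le' P (Subgroup.centralizer (A : Set G)))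
    exact le_inf hBP (hBA.trans (normalizer_le_normalizer_centralizer' A))
  have hCW : C ≤ Subgroup.normalizer (W : Set G) := (inf_le_left.trans le_sup_left).trans hΓW
  -- `[P, B] ≤ W C`
  have h1 : ⁅P, B⁆ ≤ W ⊔ C := by
    rw [Subgroup.commutator_le]
    intro x hx b hb
    rw [← hdecomp] at hx
    have hVn : V ≤ Subgroup.normalizer (C : Set G) → True := fun _ => trivial
    obtain ⟨v, hv, c, hc, rfl⟩ : ∃ v ∈ V, ∃ c ∈ C, v * c = x := by
      have : C ≤ Subgroup.normalizer (V : Set G) := inf_le_left.trans hPV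
      rw [← SetLike.mem_coe, Subgroup.coe_mul_of_right_le_normalizer_left V C this] at hx
      obtain ⟨v, hv, c, hc, h⟩ := hx
      exact ⟨v, hv, c, hc, h⟩
    rw [commutatorElement_mul_left']
    have hcb : ⁅c, b⁆ ∈ C := by
      rw [commutatorElement_def]
      have h2 : b * c⁻¹ * b⁻¹ ∈ C := by
        have := (Subgroup.mem_normalizer_iff.mp (hBC hb) c⁻¹).mp (C.inv_mem hc)
        exact this
      have : c * b * c⁻¹ * b⁻¹ = c * (b * c⁻¹ * b⁻¹) := by group
      rw [this]; exact C.mul_mem hc h2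
    have hvb : ⁅v, b⁆ ∈ W :=
      Subgroup.commutator_mem_commutator hv (Subgroup.mem_sup_right hb)
    have hvcb : v * ⁅c, b⁆ * v⁻¹ ∈ W ⊔ C := by
      have h3 : ⁅v, ⁅c, b⁆⁆ ∈ W :=
        Subgroup.commutator_mem_commutator hv (Subgroup.mem_sup_left hcb.1)
      have : v * ⁅c, b⁆ * v⁻¹ = ⁅v, ⁅c, b⁆⁆ * ⁅c, b⁆ := by
        rw [commutatorElement_def v]; group
      rw [this]
      exact Subgroup.mul_mem _ (Subgroup.mem_sup_left h3) (Subgroup.mem_sup_right hcb)
    exact Subgroup.mul_mem _ hvcb (Subgroup.mem_sup_left hvb)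
  -- `[W C, A] ≤ W`
  have h2 : ⁅W ⊔ C, A⁆ ≤ W := by
    rw [Subgroup.commutator_le]
    intro x hx a ha
    rw [← SetLike.mem_coe, Subgroup.coe_mul_of_right_le_normalizer_left W C hCW] at hx
    obtain ⟨w, hw, c, hc, rfl⟩ := hx
    rw [commutatorElement_mul_left']
    have hca : ⁅c, a⁆ = 1 := by
      rw [commutatorElement_eq_one_iff_commute]
      exact (Subgroup.mem_centralizer_iff.mp hc.2 a ha).symm
    rw [hca, mul_one, mul_inv_cancel, one_mul, commutatorElement_def]
    have h3 : a * w⁻¹ * a⁻¹ ∈ W := (Subgroup.mem_normalizer_iff.mp (hAW ha) w⁻¹).mp (W.inv_mem hw)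
    have : w * a * w⁻¹ * a⁻¹ = w * (a * w⁻¹ * a⁻¹) := by group
    rw [this]; exact W.mul_mem hw h3
  have h3 : V ≤ W := by
    calc V = ⁅V, A⁆ := hstable.symm
      _ ≤ ⁅W ⊔ C, A⁆ := Subgroup.commutator_mono (h.trans h1) le_rfl
      _ ≤ W := h2
  exact hWne (le_antisymm hWV h3)


omit [Finite G] in
/-- the subgroup of elements normalizing `E` and `N` and acting trivially on `E / N` -/
def actKer (E N : Subgroup G) : Subgroup G where
  carrier := {x | x ∈ Subgroup.normalizer (E : Set G) ⊓ Subgroup.normalizer (N : Set G) ∧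
    ∀ e ∈ E, x * e * x⁻¹ * e⁻¹ ∈ N}
  one_mem' := ⟨Subgroup.one_mem _, fun e _ => by simp⟩
  mul_mem' := by
    rintro x y ⟨hx, hx'⟩ ⟨hy, hy'⟩
    refine ⟨Subgroup.mul_mem _ hx hy, fun e he => ?_⟩
    have h1 : y * e * y⁻¹ * e⁻¹ ∈ N := hy' e he
    have h2 : x * (y * e * y⁻¹ * e⁻¹) * x⁻¹ ∈ N :=
      (Subgroup.mem_normalizer_iff.mp hx.2 _).mp h1
    have h3 : x * e * x⁻¹ * e⁻¹ ∈ N := hx' e he
    have : x * y * e * (x * y)⁻¹ * e⁻¹ =
        x * (y * e * y⁻¹ * e⁻¹) * x⁻¹ * (x * e * x⁻¹ * e⁻¹) := by group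
    rw [this]; exact N.mul_mem h2 h3
  inv_mem' := by
    rintro x ⟨hx, hx'⟩
    refine ⟨Subgroup.inv_mem _ hx, fun e he => ?_⟩
    have h1 : x * e * x⁻¹ * e⁻¹ ∈ N := hx' e he
    have h2 : x⁻¹ * (x * e * x⁻¹ * e⁻¹)⁻¹ * x⁻¹⁻¹ ∈ N :=
      (Subgroup.mem_normalizer_iff.mp (Subgroup.inv_mem _ hx.2) _).mp (N.inv_mem h1)
    have : x⁻¹ * e * x⁻¹⁻¹ * e⁻¹ = x⁻¹ * (x * e * x⁻¹ * e⁻¹)⁻¹ * x⁻¹⁻¹ := by group
    rw [this]; exact h2

omit [Finite G] in
theorem le_actKer {E N X : Subgroup G} (hXE : X ≤ Subgroup.normalizer (E : Set G))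
    (hXN : X ≤ Subgroup.normalizer (N : Set G)) (h : ⁅X, E⁆ ≤ N) : X ≤ actKer E N := by
  intro x hx
  refine ⟨⟨hXE hx, hXN hx⟩, fun e he => ?_⟩
  exact h (Subgroup.commutator_mem_commutator hx he)

omit [Finite G] in
theorem commutator_le_of_le_actKer {E N X : Subgroup G} (h : X ≤ actKer E N) : ⁅X, E⁆ ≤ N := by
  rw [Subgroup.commutator_le]
  intro x hx e he
  exact (h hx).2 e he

omit [Finite G] in
theorem commutator_le_actKer {E N X Y : Subgroup G} (hX : X ≤ actKer E N)
    (hYE : Y ≤ Subgroup.normalizer (E : Set G)) (hYN : Y ≤ Subgroup.normalizer (N : Set G)) :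
    ⁅Y, X⁆ ≤ actKer E N := by
  rw [Subgroup.commutator_le]
  intro y hy x hx
  have hxK := hX hx
  have hconj : y * x * y⁻¹ ∈ actKer E N := by
    refine ⟨Subgroup.mul_mem _ (Subgroup.mul_mem _ ⟨hYE hy, hYN hy⟩ hxK.1)
      (Subgroup.inv_mem _ ⟨hYE hy, hYN hy⟩), fun e he => ?_⟩
    have he' : y⁻¹ * e * y⁻¹⁻¹ ∈ E :=
      (Subgroup.mem_normalizer_iff.mp (Subgroup.inv_mem _ (hYE hy)) e).mp he
    have h1 := hxK.2 _ he'
    have h2 := (Subgroup.mem_normalizer_iff.mp (hYN hy) _).mp h1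
    have : y * x * y⁻¹ * e * (y * x * y⁻¹)⁻¹ * e⁻¹ =
        y * (x * (y⁻¹ * e * y⁻¹⁻¹) * x⁻¹ * (y⁻¹ * e * y⁻¹⁻¹)⁻¹) * y⁻¹ := by group
    rw [this]; exact h2
  have : ⁅y, x⁆ = (y * x * y⁻¹) * x⁻¹ := by rw [commutatorElement_def]
  rw [this]
  exact Subgroup.mul_mem _ hconj (Subgroup.inv_mem _ hxK)


/-- the per-element step -/
theorem step_u {p : ℕ} [Fact p.Prime] (E : Subgroup G) [hEn : E.Normal] (hE : IsPGroup p ↥E)
    (U : Subgroup G) (hUc : IsMulCommutative U) (hUp : IsPGroup p U)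
    (R : Subgroup G) (hR : (Nat.card R).Coprime p) (hRU : U ≤ Subgroup.normalizer (R : Set G))
    (u : G) (hu : u ∈ U)
    (hcond : E ⊓ Subgroup.centralizer (U : Set G) = E ⊓ Subgroup.centralizer ({u} : Set G) ∨
      ⁅E, U⁆ = ⁅E, Subgroup.zpowers u⁆) :
    ⁅R ⊓ Subgroup.centralizer ({u} : Set G), U⁆ ≤ Subgroup.centralizer (E : Set G) := by
  set D := R ⊓ Subgroup.centralizer ({u} : Set G) with hD
  have hNE : ∀ X : Subgroup G, X ≤ Subgroup.normalizer (E : Set G) := fun X => by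
    rw [Subgroup.normalizer_eq_top_iff.mpr hEn]; exact le_top
  have hUu : U ≤ Subgroup.centralizer ({u} : Set G) := by
    intro v hv
    rw [Subgroup.mem_centralizer_singleton_iff]
    have := hUc.is_comm.comm (⟨v, hv⟩ : U) ⟨u, hu⟩
    exact congrArg Subtype.val this
  have hUD : U ≤ Subgroup.normalizer (D : Set G) := by
    refine le_trans ?_ (normalizer_inf_le' R _)
    exact le_inf hRU (hUu.trans Subgroup.le_normalizer)
  set A := ⁅D, U⁆ with hA
  have hAD : A ≤ D := commutator_le_left_of_le_normalizer D U hUD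
  have hAcop : (Nat.card A).Coprime p :=
    Nat.Coprime.coprime_dvd_left (Subgroup.card_dvd_of_le (hAD.trans inf_le_left)) hR
  set B := Subgroup.zpowers u with hB
  have hBU : B ≤ U := Subgroup.zpowers_le.mpr hu
  have hBp : IsPGroup p B := hUp.to_le hBU
  have hBA : B ≤ Subgroup.centralizer (A : Set G) := by
    rw [hB, Subgroup.zpowers_le, Subgroup.mem_centralizer_iff]
    intro a ha
    have := Subgroup.mem_centralizer_singleton_iff.mp (hAD ha).2
    exact this
  have hDu : D ≤ Subgroup.normalizer ((Subgroup.centralizer ({u} : Set G) : Subgroup G) : Set G) :=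
    inf_le_right.trans Subgroup.le_normalizer
  rcases hcond with hc | hc
  · -- Thompson `A × B`
    refine thompson_PQ p B A E hBp hAcop hE hBA (hNE B) (hNE A) ?_
    have h1 : E ⊓ Subgroup.centralizer (B : Set G) ≤ E ⊓ Subgroup.centralizer (U : Set G) := by
      rw [hc]
      refine inf_le_inf_left E (Subgroup.centralizer_le ?_)
      intro x hx
      rw [Set.mem_singleton_iff] at hx
      rw [hx]; exact Subgroup.mem_zpowers u
    refine h1.trans ?_
    set E₀ := E ⊓ Subgroup.centralizer (U : Set G) with hE₀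
    rw [Subgroup.le_centralizer_iff]
    have hUE₀ : U ≤ Subgroup.centralizer (E₀ : Set G) :=
      Subgroup.le_centralizer_iff.mp inf_le_right
    have hDE₀ : D ≤ Subgroup.normalizer (E₀ : Set G) := by
      rw [hc]
      refine le_trans ?_ (normalizer_inf_le' E _)
      exact le_inf (hNE D) hDu
    have hDC : D ≤ Subgroup.normalizer ((Subgroup.centralizer (E₀ : Set G) : Subgroup G) : Set G) :=
      hDE₀.trans (normalizer_le_normalizer_centralizer' E₀)
    calc A = ⁅U, D⁆ := Subgroup.commutator_comm D U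
      _ ≤ ⁅Subgroup.centralizer (E₀ : Set G), D⁆ := Subgroup.commutator_mono hUE₀ le_rfl
      _ ≤ Subgroup.centralizer (E₀ : Set G) := commutator_le_left_of_le_normalizer _ D hDC
  · -- the dual
    set E₁ := ⁅E, U⁆ with hE₁
    have hUE₁ : U ≤ Subgroup.normalizer (E₁ : Set G) := le_normalizer_commutator_right E U (hNE U)
    have hDB : D ≤ Subgroup.normalizer (B : Set G) := by
      refine le_trans ?_ (Subgroup.centralizer_le_normalizer _)
      intro d hd
      rw [Subgroup.mem_centralizer_iff]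
      intro b hb
      obtain ⟨k, rfl⟩ := Subgroup.mem_zpowers_iff.mp hb
      have := Subgroup.mem_centralizer_singleton_iff.mp hd.2
      exact ((Commute.zpow_right this k).eq).symm
    have hDE₁ : D ≤ Subgroup.normalizer (E₁ : Set G) := by
      rw [hc]
      exact (le_inf (hNE D) hDB).trans (normalizer_inf_le_normalizer_commutator E B)
    have hUK : U ≤ actKer E E₁ := le_actKer (hNE U) hUE₁ (by rw [Subgroup.commutator_comm])
    have hAK : A ≤ actKer E E₁ := commutator_le_actKer hUK (hNE D) hDE₁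
    have h1 : ⁅E, A⁆ ≤ ⁅E, B⁆ := by
      rw [Subgroup.commutator_comm, ← hc]
      exact commutator_le_of_le_actKer hAK
    have h2 := dual_PQ p E A B hE hAcop hBp hBA (hNE A) (hNE B) h1
    rw [Subgroup.commutator_eq_bot_iff_le_centralizer] at h2
    exact Subgroup.le_centralizer_iff.mp h2

end helpers



/-- Let p be a prime, E a normal p-subgroup of the finite group G, and U a non-cyclic elementary abelian p-subgroup of G such that either C_E(U) = C_E(u) for every nontrivial u ∈ U, or [E, U] = [E, ⟨u⟩] for every nontrivial u ∈ U. If R is a subgroup of order prime to p normalized by U, then [R, U] centralizes E. -/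
theorem result {G : Type*} [Group G] [Finite G] {p : ℕ} [Fact p.Prime] (E : Subgroup G) [E.Normal] (hE : IsPGroup p ↥E) (U : Subgroup G) (hU : Cfsg.IsElementaryAbelian p U) (hnc : ¬ IsCyclic ↥U) (hcond : (∀ u ∈ U, u ≠ 1 → E ⊓ Subgroup.centralizer (U : Set G) = E ⊓ Subgroup.centralizer ({u} : Set G)) ∨ (∀ u ∈ U, u ≠ 1 → ⁅E, U⁆ = ⁅E, Subgroup.zpowers u⁆)) (R : Subgroup G) (hR : ¬ p ∣ Nat.card ↥R) (hRU : U ≤ Subgroup.normalizer (R : Set G)) : ⁅R, U⁆ ≤ Subgroup.centralizer (E : Set G) := by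
  haveI hUc : IsMulCommutative U := hU.1
  have hUp : IsPGroup p U := by
    rintro ⟨u, hu⟩
    exact ⟨1, Subtype.ext (by simpa using hU.2 u hu)⟩
  have hp : p.Prime := Fact.out
  have hRcop : (Nat.card R).Coprime p := ((Nat.Prime.coprime_iff_not_dvd hp).mpr hR).symm
  have hcopUR : (Nat.card U).Coprime (Nat.card R) := by
    obtain ⟨k, hk⟩ := IsPGroup.iff_card.mp hUp
    rw [hk]; exact (Nat.Coprime.pow_right k hRcop).symm
  have hgen := generated_by_centralizers U R hnc hRU hcopUR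
  set CE := Subgroup.centralizer (E : Set G) with hCE
  haveI hCEn : CE.Normal := Subgroup.normal_centralizer
  set X := (Subgroup.centralizer ((U.map (QuotientGroup.mk' CE) : Subgroup (G ⧸ CE)) : Set (G ⧸ CE))).comap
    (QuotientGroup.mk' CE) with hX
  have hiff : ∀ Y : Subgroup G, ⁅Y, U⁆ ≤ CE ↔ Y ≤ X := by
    intro Y
    constructor
    · intro h y hy
      rw [hX, Subgroup.mem_comap, Subgroup.mem_centralizer_iff]
      rintro _ ⟨v, hv, rfl⟩
      have h1 : ⁅y, v⁆ ∈ CE := h (Subgroup.commutator_mem_commutator hy hv)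
      have h2 : (QuotientGroup.mk' CE) ⁅y, v⁆ = 1 := (QuotientGroup.eq_one_iff _).mpr h1
      rw [commutatorElement_def, map_mul, map_mul, map_mul, map_inv, map_inv] at h2
      have h3 := mul_inv_eq_one.mp h2
      have h4 := mul_inv_eq_iff_eq_mul.mp h3
      exact h4.symm
    · intro h
      rw [Subgroup.commutator_le]
      intro y hy v hv
      have h1 := h hy
      rw [hX, Subgroup.mem_comap, Subgroup.mem_centralizer_iff] at h1
      have h2 := h1 _ ⟨v, hv, rfl⟩
      rw [← QuotientGroup.eq_one_iff, ← QuotientGroup.mk'_apply, commutatorElement_def, map_mul,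
        map_mul, map_mul, map_inv, map_inv, ← h2]
      group
  rw [hiff, ← hgen]
  refine iSup₂_le ?_
  rintro u ⟨huU, hu1⟩
  rw [← hiff]
  apply step_u E hE U hUc hUp R hRcop hRU u huU
  rcases hcond with h | h
  · exact Or.inl (h u huU hu1)
  · exact Or.inr (h u huU hu1)


end Cfsg.Agent.S2909
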