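import Mathlib
import Cfsg.Agent.S2840
import Cfsg.Agent.S2843
import Cfsg.Agent.S2909
import Cfsg.Agent.Lib.Helper6.WeakCl2
import Cfsg.Agent.Lib.Helper6.PRes
import Cfsg.Agent.Lib.Helper6.PCore
import Cfsg.Agent.Lib.Helper6.Subn
import Cfsg.Agent.Lib.Helper7.Wielandt1
import Cfsg.Agent.Lib.Lead.CoprimeAction3
import Cfsg.Agent.S2905
import Cfsg.Agent.Lib.Helper3.Components12
import Cfsg.Agent.Lib.Helper6.Kieler
import Cfsg.Agent.Lib.Helper6.PReduced4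
import Cfsg.Statements.S2859

set_option autoImplicit false
open Cfsg

namespace Cfsg.Agent.S2859

open Cfsg.Agent.Lib.Helper6 Cfsg.Agent.Lib.Helper7
open scoped commutatorElement

section helpers
variable {G : Type*} [Group G]

theorem three_subgroups_mod {N A B C : Subgroup G} [N.Normal] (h1 : ⁅⁅B, C⁆, A⁆ ≤ N)
    (h2 : ⁅⁅C, A⁆, B⁆ ≤ N) : ⁅⁅A, B⁆, C⁆ ≤ N := by
  have e : ∀ X Y Z : Subgroup G, ⁅⁅X, Y⁆, Z⁆ ≤ N ↔
      ⁅⁅X.map (QuotientGroup.mk' N), Y.map (QuotientGroup.mk' N)⁆, Z.map (QuotientGroup.mk' N)⁆ = ⊥ := by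
    intro X Y Z
    rw [← Subgroup.map_commutator, ← Subgroup.map_commutator, Subgroup.map_eq_bot_iff,
      QuotientGroup.ker_mk']
  rw [e] at h1 h2 ⊢
  exact Subgroup.commutator_commutator_eq_bot_of_rotate h1 h2

theorem commutator_subgroupOf {K A B : Subgroup G} (hA : A ≤ K) (hB : B ≤ K) :
    ⁅A.subgroupOf K, B.subgroupOf K⁆ = ⁅A, B⁆.subgroupOf K := by
  apply Subgroup.map_injective K.subtype_injective
  rw [Subgroup.map_commutator, Subgroup.map_subgroupOf_eq_of_le hA, Subgroup.map_subgroupOf_eq_of_le hB,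
    Subgroup.map_subgroupOf_eq_of_le ((Subgroup.commutator_mono hA hB).trans (Subgroup.commutator_le_self K))]


theorem three_subgroups_rel {K N A B C : Subgroup G} (hNK : N ≤ K)
    (hKN : K ≤ Subgroup.normalizer (N : Set G)) (hA : A ≤ K) (hB : B ≤ K) (hC : C ≤ K)
    (h1 : ⁅⁅B, C⁆, A⁆ ≤ N) (h2 : ⁅⁅C, A⁆, B⁆ ≤ N) : ⁅⁅A, B⁆, C⁆ ≤ N := by
  haveI : (N.subgroupOf K).Normal := (Subgroup.normal_subgroupOf_iff_le_normalizer hNK).mpr hKN
  have hc : ∀ {X Y : Subgroup G}, X ≤ K → Y ≤ K → ⁅X, Y⁆ ≤ K := fun hX hY =>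
    (Subgroup.commutator_mono hX hY).trans (Subgroup.commutator_le_self K)
  have e : ∀ {X Y Z : Subgroup G}, X ≤ K → Y ≤ K → Z ≤ K → ⁅⁅X, Y⁆, Z⁆ ≤ N →
      ⁅⁅X.subgroupOf K, Y.subgroupOf K⁆, Z.subgroupOf K⁆ ≤ N.subgroupOf K := by
    intro X Y Z hX hY hZ h
    rw [commutator_subgroupOf hX hY, commutator_subgroupOf (hc hX hY) hZ]
    exact Subgroup.comap_mono h
  have h3 := three_subgroups_mod (e hB hC hA h1) (e hC hA hB h2)
  rw [commutator_subgroupOf hA hB, commutator_subgroupOf (hc hA hB) hC] at h3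
  intro x hx
  have hxK : x ∈ K := hc (hc hA hB) hC hx
  have := h3 (show (⟨x, hxK⟩ : K) ∈ ⁅⁅A, B⁆, C⁆.subgroupOf K from Subgroup.mem_subgroupOf.mpr hx)
  exact Subgroup.mem_subgroupOf.mp this

theorem mem_of_coprime_of_mem_sup' {p : ℕ} {A R : Subgroup G} (hR : IsPGroup p R)
    (hRA : R ≤ Subgroup.normalizer (A : Set G)) {g : G} (hg : (orderOf g).Coprime p)
    (h : g ∈ A ⊔ R) : g ∈ A := by
  set X := A ⊔ R with hX
  haveI : (A.subgroupOf X).Normal :=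
    (Subgroup.normal_subgroupOf_iff_le_normalizer le_sup_left).mpr (sup_le Subgroup.le_normalizer hRA)
  have h1 : (⟨g, h⟩ : X) ∈ A.subgroupOf X ⊔ R.subgroupOf X := by
    rw [← Subgroup.subgroupOf_sup le_sup_left le_sup_right]
    exact Subgroup.mem_subgroupOf.mpr h
  have h2 : (orderOf (⟨g, h⟩ : X)).Coprime p := by rw [Subgroup.orderOf_mk]; exact hg
  have := mem_of_coprime_of_mem_sup (A.subgroupOf X) hR.comap_subtype h2 h1
  exact Subgroup.mem_subgroupOf.mp this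

theorem pResSub_le_of_le_sup {p : ℕ} {X A R : Subgroup G} (hR : IsPGroup p R)
    (hRA : R ≤ Subgroup.normalizer (A : Set G)) (h : X ≤ A ⊔ R) : pResSub p X ≤ A := by
  rw [pResSub_le_iff]
  intro g hgX hg
  exact mem_of_coprime_of_mem_sup' hR hRA hg (h hgX)

theorem le_pCoreOf' {p : ℕ} {A H : Subgroup G} (hAH : A ≤ H)
    (hHA : H ≤ Subgroup.normalizer (A : Set G)) (hA : IsPGroup p A) : A ≤ pCoreOf p H := by
  haveI : (A.subgroupOf H).Normal := (Subgroup.normal_subgroupOf_iff_le_normalizer hAH).mpr hHA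
  have h1 : A.subgroupOf H ≤ pCore p H := le_pCore inferInstance hA.comap_subtype
  intro a ha
  exact ⟨⟨a, hAH ha⟩, h1 (Subgroup.mem_subgroupOf.mpr ha), rfl⟩

theorem normalizer_le_normalizer_pCoreOf (p : ℕ) (H : Subgroup G) :
    Subgroup.normalizer (H : Set G) ≤ Subgroup.normalizer ((pCoreOf p H : Subgroup G) : Set G) := by
  intro g hg
  apply mem_normalizer_of_map_conj_eq_self
  rw [pCoreOf_map_conj, map_conj_eq_self_of_mem_normalizer hg]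

theorem normalizer_le_normalizer_pResSub (p : ℕ) (H : Subgroup G) :
    Subgroup.normalizer (H : Set G) ≤ Subgroup.normalizer ((pResSub p H : Subgroup G) : Set G) := by
  intro g hg
  apply mem_normalizer_of_map_conj_eq_self
  rw [pResSub_map_conj, map_conj_eq_self_of_mem_normalizer hg]

theorem iSup_cj_le {X Y Q : Subgroup G} (hQY : Q ≤ Y) (hXY : X ≤ Subgroup.normalizer (Y : Set G)) :
    ⨆ x : X, cj (x : G) Q ≤ Y := by
  apply iSup_le
  intro x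
  have := cj_mono (x : G) hQY
  rwa [mem_normalizer_iff_cj.mp (hXY x.2)] at this


variable [Finite G] {p : ℕ} [hp : Fact p.Prime] {Q : Subgroup G}

theorem wc_eq_iSup (hQp : IsPGroup p ↥Q) (hQ1 : Q ≠ ⊥) (hwc : Cfsg.IsWeaklyClosedSubgroup p Q)
    {X : Subgroup G} (hQX : Q ≤ X) : Cfsg.weakClosure Q X = ⨆ x : X, cj (x : G) Q :=
  (Cfsg.Agent.S2840.result Q hQp hQ1 hwc X hQX _ rfl).1

omit [Finite G] hp in
theorem le_wc {X : Subgroup G} (hQX : Q ≤ X) : Q ≤ Cfsg.weakClosure Q X := by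
  have := Cfsg.Agent.S2843.le_weakClosure (Q := Q) (L := X) (g := 1) (by rw [map_conj_one]; exact hQX)
  rwa [map_conj_one] at this

/-- all `X`-conjugates of `Q` lie in a subgroup `Y ≥ Q` normalized by `X` -/
theorem wc_le_of_le_normalizer (hQp : IsPGroup p ↥Q) (hQ1 : Q ≠ ⊥)
    (hwc : Cfsg.IsWeaklyClosedSubgroup p Q) {X Y : Subgroup G} (hQX : Q ≤ X) (hQY : Q ≤ Y)
    (hXY : X ≤ Subgroup.normalizer (Y : Set G)) : Cfsg.weakClosure Q X ≤ Y := by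
  rw [wc_eq_iSup hQp hQ1 hwc hQX]
  exact iSup_cj_le hQY hXY

omit [Finite G] hp in
theorem wc_idem {X : Subgroup G} :
    Cfsg.weakClosure Q (Cfsg.weakClosure Q X) = Cfsg.weakClosure Q X := by
  apply le_antisymm (Cfsg.Agent.S2843.weakClosure_le_self _ _)
  apply Cfsg.Agent.S2843.weakClosure_le
  intro g hg
  exact Cfsg.Agent.S2843.le_weakClosure (Cfsg.Agent.S2843.le_weakClosure hg)

omit [Finite G] hp in
theorem le_normalizer_wc {X : Subgroup G} :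
    X ≤ Subgroup.normalizer ((Cfsg.weakClosure Q X : Subgroup G) : Set G) := by
  intro x hx
  rw [mem_normalizer_iff_cj]
  have key : ∀ y ∈ X, cj y (Cfsg.weakClosure Q X) ≤ Cfsg.weakClosure Q X := by
    intro y hy
    unfold Cfsg.weakClosure
    unfold Cfsg.Agent.Lib.Helper7.cj
    rw [Subgroup.map_iSup]
    apply iSup_le
    rintro ⟨g, hg⟩
    have h1 : cj y (cj g Q) = cj (y * g) Q := (cj_mul y g Q).symm
    have h2 : cj (y * g) Q ≤ X := by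
      rw [← h1]
      have := cj_mono y hg
      exact this.trans (cj_le_of_mem hy le_rfl)
    exact h1.le.trans (Cfsg.Agent.S2843.le_weakClosure h2)
  apply le_antisymm (key x hx)
  have := cj_mono x (key x⁻¹ (X.inv_mem hx))
  rwa [cj_cj_inv] at this

/-- `L = O^p(L) Q` for a weak closure `L` -/
theorem wc_le_res_sup (hQp : IsPGroup p ↥Q) (hQ1 : Q ≠ ⊥)
    (hwc : Cfsg.IsWeaklyClosedSubgroup p Q) {X : Subgroup G} (hQX : Q ≤ X) :
    Cfsg.weakClosure Q X ≤ pResSub p (Cfsg.weakClosure Q X) ⊔ Q := by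
  set L := Cfsg.weakClosure Q X with hL
  set K := pResSub p L with hK
  have hQL : Q ≤ L := le_wc hQX
  have hLK : L ≤ Subgroup.normalizer (K : Set G) :=
    Subgroup.le_normalizer.trans (normalizer_le_normalizer_pResSub p L)
  -- a Sylow subgroup of `L` containing `Q`
  obtain ⟨T, hT⟩ := (hQp.comap_subtype (H := Q) (K := L)).exists_le_sylow
  set T' := (T : Subgroup L).map L.subtype with hT'
  have hT'p : IsPGroup p T' := T.isPGroup'.map _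
  have hQT' : Q ≤ T' := by
    intro q hq
    exact ⟨⟨q, hQL hq⟩, hT (Subgroup.mem_subgroupOf.mpr hq), rfl⟩
  have hT'L : T' ≤ L := by rintro _ ⟨y, _, rfl⟩; exact y.2
  have hLKT : L ≤ K ⊔ T' := by
    have h1 := pResidual_sup_sylow T
    have h2 := congrArg (Subgroup.map L.subtype) h1
    rw [Subgroup.map_sup, pResSub_eq, ← MonoidHom.range_eq_map, Subgroup.range_subtype] at h2
    exact h2.ge
  have hT'Q : T' ≤ Subgroup.normalizer (Q : Set G) :=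
    Subgroup.le_normalizer.trans (IsWeaklyClosedSubgroup_normalizer_le hwc hT'p hQT')
  have hnorm : L ≤ Subgroup.normalizer ((K ⊔ Q : Subgroup G) : Set G) := by
    refine hLKT.trans (sup_le (le_sup_left.trans Subgroup.le_normalizer) ?_)
    exact (le_inf (hT'L.trans hLK) hT'Q).trans
      (Cfsg.Agent.S2905.normalizer_inf_le_normalizer_sup'' K Q)
  have := wc_le_of_le_normalizer hQp hQ1 hwc hQL le_sup_right hnorm
  rwa [wc_idem] at this


omit hp in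
/-- `A ⊔ B` normalizes `⁅A, B⁆ ⊔ B` -/
theorem sup_le_normalizer_commutator_sup (A B : Subgroup G) :
    A ⊔ B ≤ Subgroup.normalizer ((⁅A, B⁆ ⊔ B : Subgroup G) : Set G) := by
  have hA : A ≤ Subgroup.normalizer ((⁅A, B⁆ : Subgroup G) : Set G) :=
    Cfsg.Agent.Lib.Helper3.le_normalizer_commutator_left A B
  have hB : B ≤ Subgroup.normalizer ((⁅A, B⁆ : Subgroup G) : Set G) := by
    rw [Subgroup.commutator_comm]
    exact Cfsg.Agent.Lib.Helper3.le_normalizer_commutator_left B A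
  apply sup_le
  · intro a ha
    rw [mem_normalizer_iff_cj]
    apply cj_eq_of_le
    rw [cj_sup, mem_normalizer_iff_cj.mp (hA ha)]
    apply sup_le le_sup_left
    rintro _ ⟨b, hb, rfl⟩
    have h1 : ⁅a, b⁆ ∈ ⁅A, B⁆ := Subgroup.commutator_mem_commutator ha hb
    have h2 : (MulAut.conj a).toMonoidHom b = ⁅a, b⁆ * b := by
      simp only [MulEquiv.toMonoidHom_eq_coe, MonoidHom.coe_coe, MulAut.conj_apply,
        commutatorElement_def]
      group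
    rw [h2]
    exact Subgroup.mul_mem_sup h1 hb
  · exact (le_inf hB Subgroup.le_normalizer).trans
      (Cfsg.Agent.S2905.normalizer_inf_le_normalizer_sup'' _ _)

/-- `O^p(L) = [O^p(L), Q]` for a weak closure `L` -/
theorem res_eq_commutator (hQp : IsPGroup p ↥Q) (hQ1 : Q ≠ ⊥)
    (hwc : Cfsg.IsWeaklyClosedSubgroup p Q) {X : Subgroup G} (hQX : Q ≤ X) :
    ⁅pResSub p (Cfsg.weakClosure Q X), Q⁆ = pResSub p (Cfsg.weakClosure Q X) := by
  set L := Cfsg.weakClosure Q X with hL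
  set K := pResSub p L with hK
  have hQL : Q ≤ L := le_wc hQX
  have hLK : L ≤ Subgroup.normalizer (K : Set G) :=
    Subgroup.le_normalizer.trans (normalizer_le_normalizer_pResSub p L)
  have hle : ⁅K, Q⁆ ≤ K := Subgroup.le_normalizer_iff_commutator_le_left.mp (hQL.trans hLK)
  apply le_antisymm hle
  have hLKQ := wc_le_res_sup hQp hQ1 hwc hQX
  have h1 : L ≤ ⁅K, Q⁆ ⊔ Q := by
    have := wc_le_of_le_normalizer hQp hQ1 hwc hQL (le_sup_right : Q ≤ ⁅K, Q⁆ ⊔ Q)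
      (hLKQ.trans (sup_le_normalizer_commutator_sup K Q))
    rwa [wc_idem] at this
  have hQN : Q ≤ Subgroup.normalizer ((⁅K, Q⁆ : Subgroup G) : Set G) := by
    rw [Subgroup.commutator_comm]
    exact Cfsg.Agent.Lib.Helper3.le_normalizer_commutator_left Q K
  exact pResSub_le_of_le_sup hQp hQN h1


omit [Finite G] hp in
theorem exists_mul_of_mem_sup'' {A B : Subgroup G} (hB : B ≤ Subgroup.normalizer (A : Set G)) {x : G}
    (hx : x ∈ A ⊔ B) : ∃ a ∈ A, ∃ b ∈ B, x = a * b := by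
  rw [← SetLike.mem_coe, Subgroup.coe_mul_of_right_le_normalizer_left A B hB, Set.mem_mul] at hx
  obtain ⟨a, ha, b, hb, rfl⟩ := hx
  exact ⟨a, ha, b, hb, rfl⟩

/-- the common facts on `D = [H₁, H₂]` -/
theorem facts_D (hQp : IsPGroup p ↥Q) (hQ1 : Q ≠ ⊥) (hwc : Cfsg.IsWeaklyClosedSubgroup p Q)
    (Hc : Subgroup G) (hHc : Hc = Cfsg.weakClosure Q ⊤) (H₁ H₂ : Subgroup G)
    (hn₁ : H₁ ≤ Hc ∧ Hc ≤ Subgroup.normalizer ((H₁ : Subgroup G) : Set G))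
    (hn₂ : H₂ ≤ Hc ∧ Hc ≤ Subgroup.normalizer ((H₂ : Subgroup G) : Set G))
    (hcomm : ⁅H₁, H₂⁆ ≤ Subgroup.normalizer ((Q : Subgroup G) : Set G)) :
    ⁅⁅H₁, H₂⁆, Hc⁆ ≤ pCoreOf p ⁅H₁, H₂⁆ ∧ ⁅⁅H₁, H₁⁆, H₂⁆ ≤ pCoreOf p ⁅H₁, H₂⁆ := by
  set D := ⁅H₁, H₂⁆ with hD
  set R₀ := pCoreOf p D with hR₀
  have hQHc : Q ≤ Hc := by rw [hHc]; exact le_wc le_top
  have hHcD : Hc ≤ Subgroup.normalizer (D : Set G) :=
    (le_inf hn₁.2 hn₂.2).trans (Cfsg.Agent.Lib.Lead.normalizer_inf_le_normalizer_commutator H₁ H₂)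
  have hDH₁ : D ≤ H₁ := Subgroup.le_normalizer_iff_commutator_le_left.mp (hn₂.1.trans hn₁.2)
  have hR₀D : R₀ ≤ D := pCoreOf_le D
  have hHcR₀ : Hc ≤ Subgroup.normalizer (R₀ : Set G) :=
    hHcD.trans (normalizer_le_normalizer_pCoreOf p D)
  have hgen : Hc = ⨆ x : Hc, cj (x : G) Q := by
    have h1 := wc_eq_iSup hQp hQ1 hwc hQHc
    have h2 : Cfsg.weakClosure Q Hc = Hc := by rw [hHc, wc_idem]
    rw [h2] at h1
    exact h1
  have hK : Hc ≤ Cfsg.Agent.S2909.actKer D R₀ := by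
    rw [hgen]
    apply iSup_le
    intro h
    have hh := h.2
    have hcjHc : cj (h : G) Q ≤ Hc := cj_le_of_mem h.2 hQHc
    apply Cfsg.Agent.S2909.le_actKer (hcjHc.trans hHcD) (hcjHc.trans hHcR₀)
    have hDN : D ≤ Subgroup.normalizer ((cj (h : G) Q : Subgroup G) : Set G) := by
      rw [normalizer_cj]
      have := cj_mono (h : G) hcomm
      rwa [mem_normalizer_iff_cj.mp (hHcD h.2)] at this
    have h1 : ⁅cj (h : G) Q, D⁆ ≤ cj (h : G) Q ⊓ D :=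
      le_inf (Subgroup.le_normalizer_iff_commutator_le_left.mp hDN)
        (Subgroup.le_normalizer_iff_commutator_le_right.mp (hcjHc.trans hHcD))
    refine h1.trans (le_pCoreOf' inf_le_right ?_ ((hQp.map _).to_le inf_le_left))
    exact (le_inf hDN Subgroup.le_normalizer).trans (normalizer_inf_le' _ _)
  have hDHc : ⁅D, Hc⁆ ≤ R₀ := by
    rw [Subgroup.commutator_comm]
    exact Cfsg.Agent.S2909.commutator_le_of_le_actKer hK
  refine ⟨hDHc, ?_⟩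
  have hR₀Hc : R₀ ≤ Hc := hR₀D.trans (hDH₁.trans hn₁.1)
  apply three_subgroups_rel hR₀Hc hHcR₀ hn₁.1 hn₁.1 hn₂.1
  · exact (Subgroup.commutator_mono le_rfl hn₁.1).trans hDHc
  · rw [Subgroup.commutator_comm H₂ H₁]
    exact (Subgroup.commutator_mono le_rfl hn₁.1).trans hDHc


theorem half (hQp : IsPGroup p ↥Q) (hQ1 : Q ≠ ⊥) (hwc : Cfsg.IsWeaklyClosedSubgroup p Q)
    (Hc : Subgroup G) (hHc : Hc = Cfsg.weakClosure Q ⊤) (H₁ H₂ : Subgroup G)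
    (hn₁ : H₁ ≤ Hc ∧ Hc ≤ Subgroup.normalizer ((H₁ : Subgroup G) : Set G))
    (hn₂ : H₂ ≤ Hc ∧ Hc ≤ Subgroup.normalizer ((H₂ : Subgroup G) : Set G))
    (hprod : H₁ ⊔ H₂ = Hc)
    (hcomm : ⁅H₁, H₂⁆ ≤ Subgroup.normalizer ((Q : Subgroup G) : Set G)) :
    ⁅pResSub p (Cfsg.weakClosure Q (H₁ ⊔ Q)), Q⁆ = pResSub p (Cfsg.weakClosure Q (H₁ ⊔ Q)) ∧
    ⁅pResSub p (Cfsg.weakClosure Q (H₁ ⊔ Q)), H₁⁆ = pResSub p (Cfsg.weakClosure Q (H₁ ⊔ Q)) ∧
    pResSub p (Cfsg.weakClosure Q (H₁ ⊔ Q)) ≤ ⁅H₁, H₁⁆ ∧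
    Hc ≤ Subgroup.normalizer ((pResSub p (Cfsg.weakClosure Q (H₁ ⊔ Q)) : Subgroup G) : Set G) ∧
    ⁅pResSub p (Cfsg.weakClosure Q (H₁ ⊔ Q)), H₂⁆ ≤ pCoreOf p ⁅H₁, H₂⁆ ∧
    Cfsg.weakClosure Q (H₁ ⊔ Q) ≤ pResSub p (Cfsg.weakClosure Q (H₁ ⊔ Q)) ⊔ Q := by
  obtain ⟨hDHc, hC1⟩ := facts_D hQp hQ1 hwc Hc hHc H₁ H₂ hn₁ hn₂ hcomm
  set D := ⁅H₁, H₂⁆ with hD
  set R₀ := pCoreOf p D with hR₀
  set X₁ := H₁ ⊔ Q with hX₁
  set L₁ := Cfsg.weakClosure Q X₁ with hL₁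
  set K₁ := pResSub p L₁ with hK₁
  have hQX₁ : Q ≤ X₁ := le_sup_right
  have hQHc : Q ≤ Hc := by rw [hHc]; exact le_wc le_top
  have hHcD : Hc ≤ Subgroup.normalizer (D : Set G) :=
    (le_inf hn₁.2 hn₂.2).trans (Cfsg.Agent.Lib.Lead.normalizer_inf_le_normalizer_commutator H₁ H₂)
  have hDH₁ : D ≤ H₁ := Subgroup.le_normalizer_iff_commutator_le_left.mp (hn₂.1.trans hn₁.2)
  have hR₀D : R₀ ≤ D := pCoreOf_le D
  have hR₀p : IsPGroup p R₀ := pCoreOf_isPGroup p D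
  have hHcR₀ : Hc ≤ Subgroup.normalizer (R₀ : Set G) :=
    hHcD.trans (normalizer_le_normalizer_pCoreOf p D)
  have hR₀H₁ : R₀ ≤ H₁ := hR₀D.trans hDH₁
  have hR₀Hc : R₀ ≤ Hc := hR₀H₁.trans hn₁.1
  have hHcH₁' : Hc ≤ Subgroup.normalizer ((⁅H₁, H₁⁆ : Subgroup G) : Set G) :=
    (le_inf hn₁.2 hn₁.2).trans (Cfsg.Agent.Lib.Lead.normalizer_inf_le_normalizer_commutator H₁ H₁)
  have hX₁Hc : X₁ ≤ Hc := sup_le hn₁.1 hQHc
  have hL₁X₁ : L₁ ≤ X₁ := Cfsg.Agent.S2843.weakClosure_le_self _ _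
  have hK₁L₁ : K₁ ≤ L₁ := pResSub_le p L₁
  have hX₁K₁ : X₁ ≤ Subgroup.normalizer (K₁ : Set G) :=
    le_normalizer_wc.trans (normalizer_le_normalizer_pResSub p L₁)
  have hK₁res : pResSub p K₁ = K₁ := pResSub_pResSub p L₁
  -- (6), (1)
  have h6 := wc_le_res_sup hQp hQ1 hwc hQX₁
  have h1 := res_eq_commutator hQp hQ1 hwc hQX₁
  -- (D)
  have hQN : Q ≤ Subgroup.normalizer ((⁅H₁, Q⁆ : Subgroup G) : Set G) := by
    rw [Subgroup.commutator_comm]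
    exact Cfsg.Agent.Lib.Helper3.le_normalizer_commutator_left Q H₁
  have hK₁HQ : K₁ ≤ ⁅H₁, Q⁆ := by
    apply pResSub_le_of_le_sup hQp hQN
    exact wc_le_of_le_normalizer hQp hQ1 hwc hQX₁ le_sup_right
      (sup_le_normalizer_commutator_sup H₁ Q)
  have hHQH₁ : ⁅H₁, Q⁆ ≤ H₁ := Subgroup.le_normalizer_iff_commutator_le_left.mp (hQHc.trans hn₁.2)
  have hK₁H₁ : K₁ ≤ H₁ := hK₁HQ.trans hHQH₁
  -- decomposition of elements of `Q`
  have hdec : ∀ q ∈ Q, ∃ a ∈ H₁, ∃ b ∈ H₂, q = a * b := by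
    intro q hq
    have : q ∈ H₁ ⊔ H₂ := by rw [hprod]; exact hQHc hq
    exact exists_mul_of_mem_sup'' (hn₂.1.trans hn₁.2) this
  -- (E1)
  have hE1 : ⁅H₁, Q⁆ ≤ ⁅H₁, H₁⁆ ⊔ D := by
    rw [Subgroup.commutator_le]
    intro x hx q hq
    obtain ⟨a, ha, b, hb, rfl⟩ := hdec q hq
    have e : ⁅x, a * b⁆ = ⁅x, a⁆ * (a * ⁅x, b⁆ * a⁻¹) := by
      simp only [commutatorElement_def]; group
    rw [e]
    refine Subgroup.mul_mem_sup (Subgroup.commutator_mem_commutator hx ha) ?_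
    exact (Subgroup.mem_normalizer_iff.mp (hHcD (hn₁.1 ha)) _).mp
      (Subgroup.commutator_mem_commutator hx hb)
  -- (E2)
  have hE2 : ⁅⁅H₁, H₁⁆ ⊔ D, Q⁆ ≤ ⁅H₁, H₁⁆ ⊔ R₀ := by
    rw [Subgroup.commutator_le]
    intro y hy q hq
    obtain ⟨c, hc, d, hd, rfl⟩ := exists_mul_of_mem_sup''
      ((hDH₁.trans hn₁.1).trans hHcH₁') hy
    have hcHc : c ∈ Hc := hn₁.1 (Subgroup.commutator_le_self H₁ hc)
    have e : ⁅c * d, q⁆ = (c * ⁅d, q⁆ * c⁻¹) * ⁅c, q⁆ := by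
      simp only [commutatorElement_def]; group
    rw [e, sup_comm]
    refine Subgroup.mul_mem_sup ?_ ?_
    · exact (Subgroup.mem_normalizer_iff.mp (hHcR₀ hcHc) _).mp
        (hDHc (Subgroup.commutator_mem_commutator hd (hQHc hq)))
    · exact Subgroup.le_normalizer_iff_commutator_le_left.mp (hQHc.trans hHcH₁')
        (Subgroup.commutator_mem_commutator hc hq)
  -- (E3)
  have h3 : K₁ ≤ ⁅H₁, H₁⁆ := by
    rw [← hK₁res]
    apply pResSub_le_of_le_sup hR₀p (hR₀Hc.trans hHcH₁')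
    calc K₁ = ⁅K₁, Q⁆ := h1.symm
      _ ≤ ⁅⁅H₁, H₁⁆ ⊔ D, Q⁆ := Subgroup.commutator_mono (hK₁HQ.trans hE1) le_rfl
      _ ≤ _ := hE2
  -- (5)
  have h5 : ⁅K₁, H₂⁆ ≤ R₀ := (Subgroup.commutator_mono h3 le_rfl).trans hC1
  -- (3)
  have hH₂K₁ : H₂ ≤ Subgroup.normalizer (K₁ : Set G) := by
    intro h hh
    rw [mem_normalizer_iff_cj]
    apply cj_eq_of_le
    have e1 : cj h K₁ = pResSub p (cj h K₁) := by
      have := pResSub_map_conj p K₁ h
      rw [hK₁res] at this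
      exact this
    rw [e1]
    apply pResSub_le_of_le_sup hR₀p (hR₀H₁.trans (le_sup_left.trans hX₁K₁))
    rintro _ ⟨k, hk, rfl⟩
    have e2 : (MulAut.conj h).toMonoidHom k = k * ⁅k⁻¹, h⁆ := by
      simp only [MulEquiv.toMonoidHom_eq_coe, MonoidHom.coe_coe, MulAut.conj_apply,
        commutatorElement_def]
      group
    rw [e2]
    exact Subgroup.mul_mem_sup hk (h5 (Subgroup.commutator_mem_commutator (K₁.inv_mem hk) hh))
  have h3' : Hc ≤ Subgroup.normalizer (K₁ : Set G) := by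
    rw [← hprod]
    exact sup_le (le_sup_left.trans hX₁K₁) hH₂K₁
  -- (4)
  have h4le : ⁅K₁, H₁⁆ ≤ K₁ :=
    Subgroup.le_normalizer_iff_commutator_le_left.mp (le_sup_left.trans hX₁K₁)
  have h4 : ⁅K₁, H₁⁆ = K₁ := by
    apply le_antisymm h4le
    have hR₀N : R₀ ≤ Subgroup.normalizer ((⁅K₁, H₁⁆ : Subgroup G) : Set G) :=
      (le_inf (hR₀H₁.trans (le_sup_left.trans hX₁K₁)) (hR₀H₁.trans Subgroup.le_normalizer)).trans
        (Cfsg.Agent.Lib.Lead.normalizer_inf_le_normalizer_commutator K₁ H₁)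
    have hfin : pResSub p K₁ ≤ ⁅K₁, H₁⁆ := by
      apply pResSub_le_of_le_sup hR₀p hR₀N
      calc K₁ = ⁅K₁, Q⁆ := h1.symm
        _ ≤ _ := by
          rw [Subgroup.commutator_le]
          intro k hk q hq
          obtain ⟨a, ha, b, hb, rfl⟩ := hdec q hq
          have e : ⁅k, a * b⁆ = ⁅k, a⁆ * (a * ⁅k, b⁆ * a⁻¹) := by
            simp only [commutatorElement_def]; group
          rw [e]
          refine Subgroup.mul_mem_sup (Subgroup.commutator_mem_commutator hk ha) ?_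
          exact (Subgroup.mem_normalizer_iff.mp (hHcR₀ (hn₁.1 ha)) _).mp
            (h5 (Subgroup.commutator_mem_commutator hk hb))
    rwa [hK₁res] at hfin
  exact ⟨h1, h4, h3, h3', h5, h6⟩

end helpers



/-- Let Q be a nontrivial p-subgroup of the finite group H that is a weakly closed subgroup, H° the weak closure of Q in H (generated by the conjugates of Q) and H_∘ = O^p(H°). Suppose H₁, H₂ are normal subgroups of H° with H° = H₁H₂ and [H₁, H₂] ≤ N_H(Q), and put Kᵢ = O^p of the weak closure of Q in HᵢQ. Then for i = 1, 2: Kᵢ = [Kᵢ, Q] = [Kᵢ, Hᵢ] ≤ Hᵢ′ and Kᵢ is normal in H°; H_∘ = K₁K₂; and [K₁, K₂] ≤ O_p(H°). -/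
theorem result {G : Type*} [Group G] [Finite G] {p : ℕ} [Fact p.Prime] (Q : Subgroup G) (hQp : IsPGroup p ↥Q) (hQ1 : Q ≠ ⊥) (hwc : Cfsg.IsWeaklyClosedSubgroup p Q) (Hc : Subgroup G) (hHc : Hc = Cfsg.weakClosure Q ⊤) (H₁ H₂ : Subgroup G) (hn₁ : H₁ ≤ Hc ∧ Hc ≤ Subgroup.normalizer ((H₁ : Subgroup G) : Set G)) (hn₂ : H₂ ≤ Hc ∧ Hc ≤ Subgroup.normalizer ((H₂ : Subgroup G) : Set G)) (hprod : H₁ ⊔ H₂ = Hc) (hcomm : ⁅H₁, H₂⁆ ≤ Subgroup.normalizer ((Q : Subgroup G) : Set G)) (K₁ K₂ : Subgroup G) (hK₁ : K₁ = ((Cfsg.pResidual p ↥(Cfsg.weakClosure Q (H₁ ⊔ Q))).map ((Cfsg.weakClosure Q (H₁ ⊔ Q))).subtype)) (hK₂ : K₂ = ((Cfsg.pResidual p ↥(Cfsg.weakClosure Q (H₂ ⊔ Q))).map ((Cfsg.weakClosure Q (H₂ ⊔ Q))).subtype)) : (⁅K₁, Q⁆ = K₁ ∧ ⁅K₁, H₁⁆ = K₁ ∧ K₁ ≤ ⁅H₁, H₁⁆ ∧ Hc ≤ Subgroup.normalizer ((K₁ : Subgroup G) : Set G)) ∧ (⁅K₂, Q⁆ = K₂ ∧ ⁅K₂, H₂⁆ = K₂ ∧ K₂ ≤ ⁅H₂, H₂⁆ ∧ Hc ≤ Subgroup.normalizer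 ((K₂ : Subgroup G) : Set G)) ∧ K₁ ⊔ K₂ = ((Cfsg.pResidual p ↥Hc).map (Hc).subtype) ∧ ⁅K₁, K₂⁆ ≤ (Cfsg.pCoreOf p Hc) := by
  rw [pResSub_eq] at hK₁ hK₂ ⊢
  have hcomm' : ⁅H₂, H₁⁆ ≤ Subgroup.normalizer ((Q : Subgroup G) : Set G) := by
    rw [Subgroup.commutator_comm]; exact hcomm
  have hprod' : H₂ ⊔ H₁ = Hc := by rw [sup_comm]; exact hprod
  obtain ⟨a1, a2, a3, a4, a5, a6⟩ := half hQp hQ1 hwc Hc hHc H₁ H₂ hn₁ hn₂ hprod hcomm
  obtain ⟨b1, b2, b3, b4, b5, b6⟩ := half hQp hQ1 hwc Hc hHc H₂ H₁ hn₂ hn₁ hprod' hcomm'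
  rw [← hK₁] at a1 a2 a3 a4 a5 a6
  rw [← hK₂] at b1 b2 b3 b4 b5 b6
  refine ⟨⟨a1, a2, a3, a4⟩, ⟨b1, b2, b3, b4⟩, ?_, ?_⟩
  · have hQHc : Q ≤ Hc := by rw [hHc]; exact le_wc le_top
    have hL₁ : Cfsg.weakClosure Q (H₁ ⊔ Q) ≤ Hc :=
      (Cfsg.Agent.S2843.weakClosure_le_self _ _).trans (sup_le hn₁.1 hQHc)
    have hL₂ : Cfsg.weakClosure Q (H₂ ⊔ Q) ≤ Hc :=
      (Cfsg.Agent.S2843.weakClosure_le_self _ _).trans (sup_le hn₂.1 hQHc)
    apply le_antisymm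
    · apply sup_le
      · rw [hK₁]; exact pResSub_mono p hL₁
      · rw [hK₂]; exact pResSub_mono p hL₂
    · have hQN : Q ≤ Subgroup.normalizer ((K₁ ⊔ K₂ : Subgroup G) : Set G) :=
        (le_inf (hQHc.trans a4) (hQHc.trans b4)).trans
          (Cfsg.Agent.S2905.normalizer_inf_le_normalizer_sup'' K₁ K₂)
      apply pResSub_le_of_le_sup hQp hQN
      have hHcN : Hc ≤ Subgroup.normalizer ((K₁ ⊔ K₂ : Subgroup G) : Set G) :=
        (le_inf a4 b4).trans (Cfsg.Agent.S2905.normalizer_inf_le_normalizer_sup'' K₁ K₂)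
      have hstep : ∀ (H : Subgroup G) (K : Subgroup G), H ≤ Hc → K ≤ K₁ ⊔ K₂ →
          Cfsg.weakClosure Q (H ⊔ Q) ≤ K ⊔ Q →
          H ≤ Subgroup.normalizer (((K₁ ⊔ K₂) ⊔ Q : Subgroup G) : Set G) := by
        intro H K hH hK hL h hh
        rw [mem_normalizer_iff_cj]
        apply cj_eq_of_le
        rw [cj_sup, mem_normalizer_iff_cj.mp (hHcN (hH hh))]
        apply sup_le le_sup_left
        have h1 : cj h Q ≤ Cfsg.weakClosure Q (H ⊔ Q) := by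
          apply Cfsg.Agent.S2843.le_weakClosure
          exact cj_le_of_mem (Subgroup.mem_sup_left hh) le_sup_right
        exact h1.trans (hL.trans (sup_le_sup_right hK Q))
      have hnorm : Hc ≤ Subgroup.normalizer (((K₁ ⊔ K₂) ⊔ Q : Subgroup G) : Set G) := by
        rw [← hprod]
        exact sup_le (hstep H₁ K₁ hn₁.1 le_sup_left a6) (hstep H₂ K₂ hn₂.1 le_sup_right b6)
      have := wc_le_of_le_normalizer hQp hQ1 hwc hQHc (le_sup_right : Q ≤ (K₁ ⊔ K₂) ⊔ Q) hnorm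
      have h2 : Cfsg.weakClosure Q Hc = Hc := by rw [hHc, wc_idem]
      rwa [h2] at this
  · have hK₂H₂ : K₂ ≤ H₂ := b3.trans (Subgroup.commutator_le_self H₂)
    refine (Subgroup.commutator_mono le_rfl hK₂H₂).trans (a5.trans ?_)
    have hHcD : Hc ≤ Subgroup.normalizer ((⁅H₁, H₂⁆ : Subgroup G) : Set G) :=
      (le_inf hn₁.2 hn₂.2).trans (Cfsg.Agent.Lib.Lead.normalizer_inf_le_normalizer_commutator H₁ H₂)
    have hDH₁ : ⁅H₁, H₂⁆ ≤ H₁ := Subgroup.le_normalizer_iff_commutator_le_left.mp (hn₂.1.trans hn₁.2)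
    exact le_pCoreOf' ((pCoreOf_le _).trans (hDH₁.trans hn₁.1))
      (hHcD.trans (normalizer_le_normalizer_pCoreOf p _)) (pCoreOf_isPGroup p _)

end Cfsg.Agent.S2859
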