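import Mathlib
import Cfsg.Statements.S2941

set_option autoImplicit false
open Cfsg

namespace Cfsg.Agent.S2941

open scoped commutatorElement

section helpers
open scoped Pointwise

variable {G : Type*} [Group G]

/-- `⁅K, J⁆` is normalized by `J` -/
theorem commutator_normalized_right [Finite G] (K J : Subgroup G) :
    J ≤ Subgroup.normalizer ((⁅K, J⁆ : Subgroup G) : Set G) := by
  intro j hj
  apply Subgroup.mem_normalizer_fintype
  intro n hn
  have hle : ⁅K, J⁆ ≤ (⁅K, J⁆ : Subgroup G).comap (MulAut.conj j).toMonoidHom := by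
    rw [Subgroup.commutator_le]
    intro k hk j' hj'
    rw [Subgroup.mem_comap]
    show (MulAut.conj j) ⁅k, j'⁆ ∈ ⁅K, J⁆
    rw [MulAut.conj_apply]
    have h1 : j * ⁅k, j'⁆ * j⁻¹ = ⁅k, j⁆⁻¹ * ⁅k, j * j'⁆ := by
      simp only [commutatorElement_def]; group
    rw [h1]
    exact Subgroup.mul_mem _ (Subgroup.inv_mem _ (Subgroup.commutator_mem_commutator hk hj))
      (Subgroup.commutator_mem_commutator hk (Subgroup.mul_mem _ hj hj'))
  have := hle hn
  rw [Subgroup.mem_comap] at this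
  exact this

/-- an element of odd order of `J ⊔ K`, with `J` a `2`-group normalizing `K`, lies in `K` -/
theorem mem_of_odd_order {K J : Subgroup G} (hJ : IsPGroup 2 J)
    (hJK : J ≤ Subgroup.normalizer (K : Set G)) {g : G} (hg : g ∈ J ⊔ K) (hodd : Odd (orderOf g)) :
    g ∈ K := by
  have hset : ((J ⊔ K : Subgroup G) : Set G) = J * K :=
    Subgroup.coe_mul_of_left_le_normalizer_right J K hJK
  have hg' : g ∈ ((J ⊔ K : Subgroup G) : Set G) := hg
  rw [hset] at hg'
  obtain ⟨j, hj, k, hk, rfl⟩ := hg'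
  have hj : j ∈ J := hj
  have hk : k ∈ K := hk
  have hconj : ∀ x ∈ K, j⁻¹ * x * j ∈ K := by
    intro x hx
    have h1 := (Subgroup.mem_normalizer_iff.mp (hJK (J.inv_mem hj)) x).mp hx
    rwa [inv_inv] at h1
  have hpow : ∀ n : ℕ, (j ^ n)⁻¹ * (j * k) ^ n ∈ K := by
    intro n
    induction n with
    | zero => simp
    | succ n ih =>
      have h1 : (j ^ (n + 1))⁻¹ * (j * k) ^ (n + 1) = j⁻¹ * ((j ^ n)⁻¹ * (j * k) ^ n) * j * k := by
        rw [pow_succ, pow_succ]; group
      rw [h1]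
      exact K.mul_mem (hconj _ ih) hk
  have h1 := hpow (orderOf (j * k))
  rw [pow_orderOf_eq_one, mul_one] at h1
  have h2 : j ^ orderOf (j * k) ∈ K := by
    have := K.inv_mem h1
    rwa [inv_inv] at this
  obtain ⟨a, ha⟩ := hJ ⟨j, hj⟩
  have ha' : j ^ 2 ^ a = 1 := by
    have := congrArg Subtype.val ha
    simpa using this
  have hcop : Nat.Coprime (orderOf (j * k)) (orderOf j) := by
    have hdvd : orderOf j ∣ 2 ^ a := orderOf_dvd_of_pow_eq_one ha'
    apply Nat.Coprime.coprime_dvd_right hdvd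
    apply Nat.Coprime.pow_right
    exact Nat.coprime_two_right.mpr hodd
  obtain ⟨m, hm⟩ := exists_pow_eq_self_of_coprime hcop
  have hjK : j ∈ K := by
    rw [← hm]; exact K.pow_mem h2 m
  exact K.mul_mem hjK hk

end helpers



/-- Let G be a finite group of characteristic 2 type in which every 2-local subgroup is solvable and the centralizer of Ω₁(Z(S)) lies in N_G(S) for every Sylow 2-subgroup S, and let T be a nontrivial 2-subgroup and K a J(T)-component (J the Thompson subgroup generated by the elementary abelian 2-subgroups of largest order). If a subgroup Q is normalized by ⟨K, J(T)⟩ and normalizes J(T), then Q normalizes K. -/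
theorem result {G : Type*} [Group G] [Finite G] (hL : Cfsg.IsCharacteristicTwoType G) (hN : ∀ N : Subgroup G, Cfsg.IsTwoLocal N → Group.IsSolvable ↥N)
    (hZ : ∀ S : Sylow 2 G, Subgroup.centralizer (Cfsg.omegaCenterOf (S : Subgroup G) : Set G) ≤ Subgroup.normalizer ((S : Subgroup G) : Set G)) (T : Subgroup G) (hT : IsPGroup 2 ↥T) (hT1 : T ≠ ⊥) (K : Subgroup G) (hK : Cfsg.IsJComponent T K)
    (Q : Subgroup G) (hQ1 : K ⊔ Cfsg.thompsonSubgroupOf 2 T ≤ Subgroup.normalizer (Q : Set G)) (hQ2 : Q ≤ Subgroup.normalizer (Cfsg.thompsonSubgroupOf 2 T : Set G)) :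
    Q ≤ Subgroup.normalizer (K : Set G) := by
  obtain ⟨hK1, hK2, -⟩ := hK
  set J := Cfsg.thompsonSubgroupOf 2 T with hJdef
  have hJT : J ≤ T := by
    rw [hJdef]; unfold Cfsg.thompsonSubgroupOf
    exact Subgroup.map_subtype_le _
  have hJ2 : IsPGroup 2 J := hT.to_le hJT
  have hJK : J ≤ Subgroup.normalizer (K : Set G) := by
    have := commutator_normalized_right K J
    rwa [hK2] at this
  -- `Q` maps `K` into `J ⊔ K`
  have hstep : ∀ q ∈ Q, ∀ g ∈ K, q * g * q⁻¹ ∈ J ⊔ K := by
    intro q hq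
    have hle : ⁅K, J⁆ ≤ (J ⊔ K : Subgroup G).comap (MulAut.conj q).toMonoidHom := by
      rw [Subgroup.commutator_le]
      intro k hk j hj
      rw [Subgroup.mem_comap]
      show (MulAut.conj q) ⁅k, j⁆ ∈ J ⊔ K
      rw [MulAut.conj_apply]
      -- `q' = k⁻¹ q k ∈ Q`
      have hq' : k⁻¹ * q * k ∈ Q := by
        have hkn : k⁻¹ ∈ Subgroup.normalizer (Q : Set G) :=
          hQ1 (Subgroup.mem_sup_left (K.inv_mem hk))
        have := (Subgroup.mem_normalizer_iff.mp hkn q).mp hq
        rwa [inv_inv] at this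
      have hj1 : (k⁻¹ * q * k) * j * (k⁻¹ * q * k)⁻¹ ∈ J :=
        (Subgroup.mem_normalizer_iff.mp (hQ2 hq') j).mp hj
      have hj2 : q * j⁻¹ * q⁻¹ ∈ J :=
        (Subgroup.mem_normalizer_iff.mp (hQ2 hq) j⁻¹).mp (J.inv_mem hj)
      have h1 : q * ⁅k, j⁆ * q⁻¹ =
          k * ((k⁻¹ * q * k) * j * (k⁻¹ * q * k)⁻¹) * k⁻¹ * (q * j⁻¹ * q⁻¹) := by
        simp only [commutatorElement_def]; group
      rw [h1]
      have hkL : k ∈ J ⊔ K := Subgroup.mem_sup_right hk
      exact Subgroup.mul_mem _ (Subgroup.mul_mem _ (Subgroup.mul_mem _ hkL (Subgroup.mem_sup_left hj1))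
        (Subgroup.inv_mem _ hkL)) (Subgroup.mem_sup_left hj2)
    intro g hg
    rw [← hK2] at hg
    have := hle hg
    rw [Subgroup.mem_comap] at this
    exact this
  intro q hq
  apply Subgroup.mem_normalizer_fintype
  have hle : K ≤ K.comap (MulAut.conj q).toMonoidHom := by
    conv_lhs => rw [← hK1]
    rw [Subgroup.closure_le]
    rintro g ⟨hgK, hgodd⟩
    rw [SetLike.mem_coe, Subgroup.mem_comap]
    show (MulAut.conj q) g ∈ K
    rw [MulAut.conj_apply]
    apply mem_of_odd_order hJ2 hJK (hstep q hq g hgK)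
    have hsc : SemiconjBy q g (q * g * q⁻¹) := by
      rw [SemiconjBy]; group
    rw [← hsc.orderOf_eq]
    exact hgodd
  intro n hn
  have := hle hn
  rw [Subgroup.mem_comap] at this
  exact this


end Cfsg.Agent.S2941
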