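import Cfsg.Statements.S1696
import Cfsg.Agent.Lib.Helper6.Spor.Fi22Ord
import Cfsg.Agent.Lib.Helper6.Simp1
import Cfsg.Agent.Lib.Helper6.Simp2
import Cfsg.Agent.Lib.Helper6.TCD.Fi22aL.NC

set_option autoImplicit false
open Cfsg

namespace Cfsg.Agent.S1696

open Cfsg.Spor Cfsg.Agent.Lib.Helper6.TC Cfsg.Agent.Lib.Helper6.TCD Cfsg.Agent.Lib.Helper6.Simp
open Cfsg.Agent.Lib.Helper6.TCP.Fi22 Cfsg.Agent.Lib.Helper6.TCD.Fi22a Cfsg.Agent.Lib.Helper6.TCD.Fi22aL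

section helpers
set_option maxRecDepth 100000
set_option linter.unusedSimpArgs false

/-- an element of order 13 -/
def wx : List ℕ := [4, 7, 5, 3, 6, 2, 1, 8]
def wu : List ℕ := [2, 1]
def wv : List ℕ := [1, 3, 2, 5, 4, 7, 3, 7, 8, 5, 4, 2, 3, 7, 6, 5, 4, 3, 2, 0, 1]

/-- the word of a conjugate of a power of `x x^u` that is equal to a generator -/
noncomputable def wR : List ℕ :=
  invw Cfsg.Agent.Lib.Helper6.TCP.Fi22.INV wv ++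
    (List.replicate 7 (wx ++ invw Cfsg.Agent.Lib.Helper6.TCP.Fi22.INV wu ++ wx ++ wu)).flatten ++ wv

theorem hXP : ∀ q < 3510, wapp px (List.replicate 13 wx).flatten q = q := by
  intro q hq
  have e : (List.replicate 13 wx).flatten = [4, 7, 5, 3, 6, 2, 1, 8, 4, 7, 5, 3, 6, 2, 1, 8, 4, 7, 5, 3, 6, 2, 1, 8, 4, 7, 5, 3, 6, 2, 1, 8, 4, 7, 5, 3, 6, 2, 1, 8, 4, 7, 5, 3, 6, 2, 1, 8, 4, 7, 5, 3, 6, 2, 1, 8, 4, 7, 5, 3, 6, 2, 1, 8, 4, 7, 5, 3, 6, 2, 1, 8, 4, 7, 5, 3, 6, 2, 1, 8, 4, 7, 5, 3, 6, 2, 1, 8, 4, 7, 5, 3, 6, 2, 1, 8, 4, 7, 5, 3, 6, 2, 1, 8] := by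
    decide +kernel
  have e2 : wapp px [4, 7, 5, 3, 6, 2, 1, 8, 4, 7, 5, 3, 6, 2, 1, 8, 4, 7, 5, 3, 6, 2, 1, 8, 4, 7, 5, 3, 6, 2, 1, 8, 4, 7, 5, 3, 6, 2, 1, 8, 4, 7, 5, 3, 6, 2, 1, 8, 4, 7, 5, 3, 6, 2, 1, 8, 4, 7, 5, 3, 6, 2, 1, 8, 4, 7, 5, 3, 6, 2, 1, 8, 4, 7, 5, 3, 6, 2, 1, 8, 4, 7, 5, 3, 6, 2, 1, 8, 4, 7, 5, 3, 6, 2, 1, 8, 4, 7, 5, 3, 6, 2, 1, 8] q = XP q := by
    simp only [wapp_cons, wapp_nil, Cfsg.Agent.S1687.px_c0, Cfsg.Agent.S1687.px_c1, Cfsg.Agent.S1687.px_c2, Cfsg.Agent.S1687.px_c3, Cfsg.Agent.S1687.px_c4, Cfsg.Agent.S1687.px_c5, Cfsg.Agent.S1687.px_c6, Cfsg.Agent.S1687.px_c7, Cfsg.Agent.S1687.px_c8]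
    rfl
  rw [e, e2]
  by_cases g0 : q < 1923
  · exact chkFix_spec chkXP0 q (by omega) (by omega)
  exact chkFix_spec chkXP1 q (by omega) (by omega)

theorem hWR : ∀ q < 3510, wapp px wR q = wapp px [0] q := by
  intro q hq
  have e : wR = [1, 0, 2, 3, 4, 5, 6, 7, 3, 2, 4, 5, 8, 7, 3, 7, 4, 5, 2, 3, 1, 4, 7, 5, 3, 6, 2, 1, 8, 1, 2, 4, 7, 5, 3, 6, 2, 1, 8, 2, 1, 4, 7, 5, 3, 6, 2, 1, 8, 1, 2, 4, 7, 5, 3, 6, 2, 1, 8, 2, 1, 4, 7, 5, 3, 6, 2, 1, 8, 1, 2, 4, 7, 5, 3, 6, 2, 1, 8, 2, 1, 4, 7, 5, 3, 6, 2, 1, 8, 1, 2, 4, 7, 5, 3, 6, 2, 1, 8, 2, 1, 4, 7, 5, 3, 6, 2, 1, 8, 1, 2, 4, 7, 5, 3, 6, 2, 1, 8, 2, 1, 4, 7, 5, 3, 6, 2, 1, 8, 1, 2, 4, 7, 5, 3, 6, 2, 1, 8, 2, 1, 4, 7, 5, 3, 6, 2, 1, 8, 1, 2, 4, 7, 5, 3, 6, 2, 1, 8, 2, 1, 1, 3, 2, 5, 4, 7, 3, 7, 8, 5, 4, 2, 3, 7, 6, 5, 4, 3, 2, 0, 1] := by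
    decide +kernel
  have e2 : wapp px [1, 0, 2, 3, 4, 5, 6, 7, 3, 2, 4, 5, 8, 7, 3, 7, 4, 5, 2, 3, 1, 4, 7, 5, 3, 6, 2, 1, 8, 1, 2, 4, 7, 5, 3, 6, 2, 1, 8, 2, 1, 4, 7, 5, 3, 6, 2, 1, 8, 1, 2, 4, 7, 5, 3, 6, 2, 1, 8, 2, 1, 4, 7, 5, 3, 6, 2, 1, 8, 1, 2, 4, 7, 5, 3, 6, 2, 1, 8, 2, 1, 4, 7, 5, 3, 6, 2, 1, 8, 1, 2, 4, 7, 5, 3, 6, 2, 1, 8, 2, 1, 4, 7, 5, 3, 6, 2, 1, 8, 1, 2, 4, 7, 5, 3, 6, 2, 1, 8, 2, 1, 4, 7, 5, 3, 6, 2, 1, 8, 1, 2, 4, 7, 5, 3, 6, 2, 1, 8, 2, 1, 4, 7, 5, 3, 6, 2, 1, 8, 1, 2, 4, 7, 5, 3, 6, 2, 1, 8, 2, 1, 1, 3, 2, 5, 4, 7, 3, 7, 8, 5, 4, 2, 3, 7, 6, 5, 4, 3, 2, 0, 1] q = WR q := by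
    simp only [wapp_cons, wapp_nil, Cfsg.Agent.S1687.px_c0, Cfsg.Agent.S1687.px_c1, Cfsg.Agent.S1687.px_c2, Cfsg.Agent.S1687.px_c3, Cfsg.Agent.S1687.px_c4, Cfsg.Agent.S1687.px_c5, Cfsg.Agent.S1687.px_c6, Cfsg.Agent.S1687.px_c7, Cfsg.Agent.S1687.px_c8]
    rfl
  rw [e, e2]
  by_cases g0 : q < 1092
  · exact chkEqF_spec chkWR0 q (by omega) (by omega)
  by_cases g1 : q < 2184
  · exact chkEqF_spec chkWR1 q (by omega) (by omega)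
  by_cases g2 : q < 3276
  · exact chkEqF_spec chkWR2 q (by omega) (by omega)
  exact chkEqF_spec chkWR3 q (by omega) (by omega)

theorem hmove : wapp px wx 0 ≠ 0 := by decide +kernel

theorem hsqall (c : ℕ) : PresentedGroup.mk Rels (ceOf gc c) * PresentedGroup.mk Rels (ceOf gc c) = 1 :=
  gen_sq (gen c)

end helpers

/-- The presented Fischer group Fi22 is simple of the expected order (that is, it is a simple group of the order of the Fischer group Fi₂₂). -/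
theorem result : Cfsg.IsFi22 Cfsg.Spor.Fi22 := by
  obtain ⟨φ, hw, ⟨F, hF⟩, hinj, hcard, hfin⟩ := Cfsg.Agent.Lib.Helper6.Fi22Ord.rep
  refine ⟨?_, hcard⟩
  have hnt : Nontrivial Fi22 := by
    rw [← Finite.one_lt_card_iff_nontrivial, hcard]
    norm_num
  obtain ⟨hidx, q₁, q₂, h1, h2⟩ := Cfsg.Agent.S1687.result
  have hmax := coatom_of_rank3 _ hidx q₁ q₂ h1 h2 (by norm_num) (by norm_num) (by norm_num)
    (by norm_num) (by norm_num) (by norm_num)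
  have : Fact (Nat.Prime 13) := ⟨by norm_num⟩
  refine simple_of_max (subH Rels Cfsg.Agent.S1687.S) hmax (core_eq_bot hinj F hF) (p := 13)
    (by rw [hidx]; norm_num) (by rw [hcard]; norm_num)
    (x := PresentedGroup.mk Rels (wordElt gc wx))
    (orderOf_word hinj hw (by decide) hXP (q0 := 0) (by decide) hmove) ?_
  intro K hK hxK
  have ha : PresentedGroup.mk Rels (wordElt gc [0]) ∈ K := by
    rw [← mk_eq_of_wapp_eq (gc := gc) hinj hw (w := wR) (by decide +kernel) (by decide) hWR]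
    exact conj_word_mem hinvG hK 7 (by decide) (by decide) hxK
  have k0 : ∀ c ∈ [0], QuotientGroup.mk' K (PresentedGroup.mk Rels (ceOf gc c)) = 1 := by
    intro c hc
    rw [List.mem_singleton] at hc
    subst hc
    rw [QuotientGroup.mk'_apply, QuotientGroup.eq_one_iff]
    rw [wordElt_cons, wordElt_nil, mul_one] at ha
    exact ha
  have k1 := collapse_step (QuotientGroup.mk' K) _ hsqall k0
    (hbase [0, 1, 0, 1, 0, 1] (by decide +kernel)) (c := 1) (m := 1) (by decide +kernel) (by decide)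
  have k2 := collapse_step (QuotientGroup.mk' K) _ hsqall k1
    (hbase [1, 2, 1, 2, 1, 2] (by decide +kernel)) (c := 2) (m := 1) (by decide +kernel) (by decide)
  have k3 := collapse_step (QuotientGroup.mk' K) _ hsqall k2
    (hbase [2, 3, 2, 3, 2, 3] (by decide +kernel)) (c := 3) (m := 1) (by decide +kernel) (by decide)
  have k4 := collapse_step (QuotientGroup.mk' K) _ hsqall k3
    (hbase [3, 4, 3, 4, 3, 4] (by decide +kernel)) (c := 4) (m := 1) (by decide +kernel) (by decide)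
  have k5 := collapse_step (QuotientGroup.mk' K) _ hsqall k4
    (hbase [3, 7, 3, 7, 3, 7] (by decide +kernel)) (c := 7) (m := 1) (by decide +kernel) (by decide)
  have k6 := collapse_step (QuotientGroup.mk' K) _ hsqall k5
    (hbase [4, 5, 4, 5, 4, 5] (by decide +kernel)) (c := 5) (m := 1) (by decide +kernel) (by decide)
  have k7 := collapse_step (QuotientGroup.mk' K) _ hsqall k6
    (hbase [5, 6, 5, 6, 5, 6] (by decide +kernel)) (c := 6) (m := 1) (by decide +kernel) (by decide)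
  have k8 := collapse_step (QuotientGroup.mk' K) _ hsqall k7
    (hbase [7, 8, 7, 8, 7, 8] (by decide +kernel)) (c := 8) (m := 1) (by decide +kernel) (by decide)
  apply eq_top_of_columns hgen
  intro c hc
  apply k8
  interval_cases c <;> decide

end Cfsg.Agent.S1696
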