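import Cfsg.Statements.S1697
import Cfsg.Agent.Lib.Helper6.Spor.Fi23Ord
import Cfsg.Agent.Lib.Helper6.Simp1
import Cfsg.Agent.Lib.Helper6.Simp2
import Cfsg.Agent.Lib.Helper6.Simp3
import Cfsg.Agent.Lib.Helper6.TCD.Fi23aL.NC

set_option autoImplicit false
open Cfsg

namespace Cfsg.Agent.S1697

open Cfsg.Spor Cfsg.Agent.Lib.Helper6.TC Cfsg.Agent.Lib.Helper6.TCD Cfsg.Agent.Lib.Helper6.Simp
open Cfsg.Agent.Lib.Helper6.TCP.Fi23 Cfsg.Agent.Lib.Helper6.TCD.Fi23a Cfsg.Agent.Lib.Helper6.TCD.Fi23aL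

section helpers
set_option maxRecDepth 100000
set_option linter.unusedSimpArgs false

/-- an element of order 17 -/
def wx : List ℕ := [8, 7, 4, 6, 5, 0, 4, 2, 1, 5, 3, 8, 9]
def wu : List ℕ := [9, 4, 3]
def wv : List ℕ := [5, 4, 3, 8, 7, 6, 5, 4, 3, 2, 1]

/-- the word of a conjugate of a power of `x x^u` that is equal to a generator -/
noncomputable def wR : List ℕ :=
  invw Cfsg.Agent.Lib.Helper6.TCP.Fi23.INV wv ++
    (List.replicate 9 (wx ++ invw Cfsg.Agent.Lib.Helper6.TCP.Fi23.INV wu ++ wx ++ wu)).flatten ++ wv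

def wui : List ℕ := [3, 4, 9]
def wvi : List ℕ := [1, 2, 3, 4, 5, 6, 7, 8, 3, 4, 5]

theorem hQX : ∀ q < 31671, QX q = wapp px wx q := by
  intro q hq
  have e : wapp px wx q = XW q := by
    simp only [wx, wapp_cons, wapp_nil, Cfsg.Agent.S1689.px_c0, Cfsg.Agent.S1689.px_c1, Cfsg.Agent.S1689.px_c2, Cfsg.Agent.S1689.px_c3, Cfsg.Agent.S1689.px_c4, Cfsg.Agent.S1689.px_c5, Cfsg.Agent.S1689.px_c6, Cfsg.Agent.S1689.px_c7, Cfsg.Agent.S1689.px_c8, Cfsg.Agent.S1689.px_c9]
    rfl
  rw [e]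
  by_cases g0 : q < 17857
  · exact chkEqF_spec chkQX0 q (by omega) (by omega)
  exact chkEqF_spec chkQX1 q (by omega) (by omega)

theorem hXP : ∀ q < 31671, wapp px (List.replicate 17 wx).flatten q = q := by
  intro q hq
  rw [wapp_pow Cfsg.Agent.S1689.hP (by decide) hQX 17 q hq]
  have e : QX^[17] q = XP q := by
    unfold XP
    simp only [Function.iterate_succ_apply, Function.iterate_zero_apply]
  rw [e]
  by_cases g0 : q < 14705
  · exact chkFix_spec chkXP0 q (by omega) (by omega)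
  by_cases g1 : q < 29410
  · exact chkFix_spec chkXP1 q (by omega) (by omega)
  exact chkFix_spec chkXP2 q (by omega) (by omega)

theorem hQZ : ∀ q < 31671, QZ q = wapp px (wx ++ wui ++ wx ++ wu) q := by
  intro q hq
  rw [wapp_zform Cfsg.Agent.S1689.hP (by decide) (by decide) hQX q hq]
  have e : wapp px wu (QX (wapp px wui (QX q))) = ZW q := by
    simp only [wu, wui, wapp_cons, wapp_nil, Cfsg.Agent.S1689.px_c0, Cfsg.Agent.S1689.px_c1, Cfsg.Agent.S1689.px_c2, Cfsg.Agent.S1689.px_c3, Cfsg.Agent.S1689.px_c4, Cfsg.Agent.S1689.px_c5, Cfsg.Agent.S1689.px_c6, Cfsg.Agent.S1689.px_c7, Cfsg.Agent.S1689.px_c8, Cfsg.Agent.S1689.px_c9]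
    rfl
  rw [e]
  by_cases g0 : q < 27777
  · exact chkEqF_spec chkQZ0 q (by omega) (by omega)
  exact chkEqF_spec chkQZ1 q (by omega) (by omega)

theorem hWR : ∀ q < 31671, wapp px wR q = wapp px [0] q := by
  intro q hq
  have e0 : wR = wvi ++ (List.replicate 9 (wx ++ wui ++ wx ++ wu)).flatten ++ wv := by
    decide +kernel
  rw [e0, wapp_rform Cfsg.Agent.S1689.hP (by decide) (by decide) hQZ 9 q hq]
  have e : wapp px wv (QZ^[9] (wapp px wvi q)) = WR q := by
    simp only [wv, wvi, wapp_cons, wapp_nil, Cfsg.Agent.S1689.px_c0, Cfsg.Agent.S1689.px_c1, Cfsg.Agent.S1689.px_c2, Cfsg.Agent.S1689.px_c3, Cfsg.Agent.S1689.px_c4, Cfsg.Agent.S1689.px_c5, Cfsg.Agent.S1689.px_c6, Cfsg.Agent.S1689.px_c7, Cfsg.Agent.S1689.px_c8, Cfsg.Agent.S1689.px_c9, Function.iterate_succ_apply,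
      Function.iterate_zero_apply]
    rfl
  rw [e]
  have e2 : wapp px [0] q = P0 q := by
    simp only [wapp_cons, wapp_nil, Cfsg.Agent.S1689.px_c0]
  rw [e2]
  by_cases g0 : q < 7812
  · exact chkEqF_spec chkWR0 q (by omega) (by omega)
  by_cases g1 : q < 15624
  · exact chkEqF_spec chkWR1 q (by omega) (by omega)
  by_cases g2 : q < 23436
  · exact chkEqF_spec chkWR2 q (by omega) (by omega)
  by_cases g3 : q < 31248
  · exact chkEqF_spec chkWR3 q (by omega) (by omega)
  exact chkEqF_spec chkWR4 q (by omega) (by omega)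

theorem hmove : wapp px wx 0 ≠ 0 := by decide +kernel

theorem hsqall (c : ℕ) : PresentedGroup.mk Rels (ceOf gc c) * PresentedGroup.mk Rels (ceOf gc c) = 1 :=
  gen_sq (gen c)

end helpers

/-- The presented Fischer group Fi23 is simple of the expected order (that is, it is a simple group of the order of the Fischer group Fi₂₃). -/
theorem result : Cfsg.IsFi23 Cfsg.Spor.Fi23 := by
  obtain ⟨φ, hw, ⟨F, hF⟩, hinj, hcard, hfin⟩ := Cfsg.Agent.Lib.Helper6.Fi23Ord.rep
  refine ⟨?_, hcard⟩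
  have hnt : Nontrivial Fi23 := by
    rw [← Finite.one_lt_card_iff_nontrivial, hcard]
    norm_num
  obtain ⟨hidx, q₁, q₂, h1, h2⟩ := Cfsg.Agent.S1689.result
  have hmax := coatom_of_rank3 _ hidx q₁ q₂ h1 h2 (by norm_num) (by norm_num) (by norm_num)
    (by norm_num) (by norm_num) (by norm_num)
  have : Fact (Nat.Prime 17) := ⟨by norm_num⟩
  refine simple_of_max (subH Rels Cfsg.Agent.S1689.S) hmax (core_eq_bot hinj F hF) (p := 17)
    (by rw [hidx]; norm_num) (by rw [hcard]; norm_num)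
    (x := PresentedGroup.mk Rels (wordElt gc wx))
    (orderOf_word hinj hw (by decide) hXP (q0 := 0) (by decide) hmove) ?_
  intro K hK hxK
  have ha : PresentedGroup.mk Rels (wordElt gc [0]) ∈ K := by
    rw [← mk_eq_of_wapp_eq (gc := gc) hinj hw (w := wR) (by decide +kernel) (by decide) hWR]
    exact conj_word_mem hinvG hK 9 (by decide) (by decide) hxK
  have k0 : ∀ c ∈ [0], QuotientGroup.mk' K (PresentedGroup.mk Rels (ceOf gc c)) = 1 := by
    intro c hc
    rw [List.mem_singleton] at hc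
    subst hc
    rw [QuotientGroup.mk'_apply, QuotientGroup.eq_one_iff]
    rw [wordElt_cons, wordElt_nil, mul_one] at ha
    exact ha
  have k1 := collapse_step (QuotientGroup.mk' K) _ hsqall k0
    (hbase [0, 1, 0, 1, 0, 1] (by decide +kernel)) (c := 1) (m := 1) (by decide +kernel) (by decide)
  have k2 := collapse_step (QuotientGroup.mk' K) _ hsqall k1
    (hbase [1, 2, 1, 2, 1, 2] (by decide +kernel)) (c := 2) (m := 1) (by decide +kernel) (by decide)
  have k3 := collapse_step (QuotientGroup.mk' K) _ hsqall k2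
    (hbase [2, 3, 2, 3, 2, 3] (by decide +kernel)) (c := 3) (m := 1) (by decide +kernel) (by decide)
  have k4 := collapse_step (QuotientGroup.mk' K) _ hsqall k3
    (hbase [3, 4, 3, 4, 3, 4] (by decide +kernel)) (c := 4) (m := 1) (by decide +kernel) (by decide)
  have k5 := collapse_step (QuotientGroup.mk' K) _ hsqall k4
    (hbase [3, 8, 3, 8, 3, 8] (by decide +kernel)) (c := 8) (m := 1) (by decide +kernel) (by decide)
  have k6 := collapse_step (QuotientGroup.mk' K) _ hsqall k5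
    (hbase [4, 5, 4, 5, 4, 5] (by decide +kernel)) (c := 5) (m := 1) (by decide +kernel) (by decide)
  have k7 := collapse_step (QuotientGroup.mk' K) _ hsqall k6
    (hbase [5, 6, 5, 6, 5, 6] (by decide +kernel)) (c := 6) (m := 1) (by decide +kernel) (by decide)
  have k8 := collapse_step (QuotientGroup.mk' K) _ hsqall k7
    (hbase [6, 7, 6, 7, 6, 7] (by decide +kernel)) (c := 7) (m := 1) (by decide +kernel) (by decide)
  have k9 := collapse_step (QuotientGroup.mk' K) _ hsqall k8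
    (hbase [8, 9, 8, 9, 8, 9] (by decide +kernel)) (c := 9) (m := 1) (by decide +kernel) (by decide)
  apply eq_top_of_columns hgen
  intro c hc
  apply k9
  interval_cases c <;> decide

end Cfsg.Agent.S1697
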