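import Cfsg.Statements.S1688
import Cfsg.Agent.S1696
import Cfsg.Agent.S1697
import Cfsg.Agent.Lib.Helper6.DC1

set_option autoImplicit false
open Cfsg

namespace Cfsg.Agent.S1688

open Cfsg.Spor Cfsg.Agent.Lib.Helper6.TC Cfsg.Agent.Lib.Helper6.TCD Cfsg.Agent.Lib.Helper6.DC
open Cfsg.Agent.Lib.Helper6

section helpers
set_option maxRecDepth 100000

/-- the columns of the generators `a, …, i` of the presented group `Fi₂₃` -/
def cm (i : ℕ) : ℕ := [0, 1, 2, 3, 4, 5, 6, 8, 9].getD i 0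

/-- the group presented by the relators between `a, …, i` -/
abbrev W : Type := WG 9 Fi23U1.base

theorem hmap23 : ∀ b ∈ Fi23U1.base, b.map cm ∈ TCP.Fi23.base := by decide +kernel

theorem hmap22 : ∀ b ∈ Fi23U1.base, b.map (fun i => i) ∈ TCP.Fi22.base := by decide +kernel

theorem hrel23 : ∀ b ∈ Fi23U1.base,
    PresentedGroup.mk TCP.Fi23.Rels (wordElt TCP.Fi23.gc (b.map cm)) = 1 :=
  fun b hb => TCP.Fi23.hbase _ (hmap23 b hb)

theorem hrel22 : ∀ b ∈ Fi23U1.base,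
    PresentedGroup.mk TCP.Fi22.Rels (wordElt TCP.Fi22.gc (b.map (fun i => i))) = 1 :=
  fun b hb => TCP.Fi22.hbase _ (hmap22 b hb)

theorem hS' : ∀ i < 9, ceOf TCP.Fi23.gc (cm i) ∈ Fi23UB.S := by
  intro i hi
  interval_cases i <;> simp [Fi23UB.S, cm, ceOf, TCP.Fi23.gc, TCP.Fi23.gen]

theorem hrange : (wpHom (rels := TCP.Fi23.Rels) (gc := TCP.Fi23.gc) cm Fi23U1.hbl hrel23).range =
    subH TCP.Fi23.Rels Fi23UB.S :=
  wpHom_range cm Fi23U1.hbl hrel23 Fi23UB.hS hS'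

/-- the homomorphism onto the subgroup -/
noncomputable def f : W →* subH TCP.Fi23.Rels Fi23UB.S :=
  (wpHom (rels := TCP.Fi23.Rels) (gc := TCP.Fi23.gc) cm Fi23U1.hbl hrel23).codRestrict _ (by
    intro x
    rw [← hrange]
    exact ⟨x, rfl⟩)

theorem hf : Function.Surjective f := by
  rintro ⟨y, hy⟩
  rw [← hrange] at hy
  obtain ⟨x, rfl⟩ := hy
  exact ⟨x, rfl⟩

/-- the homomorphism onto the presented group `Fi₂₂` -/
noncomputable def g : W →* Fi22 :=
  wpHom (rels := TCP.Fi22.Rels) (gc := TCP.Fi22.gc) (fun i => i) Fi23U1.hbl hrel22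

theorem hg : Function.Surjective g := by
  rw [← MonoidHom.range_eq_top, eq_top_iff, ← PresentedGroup.closure_range_of, Subgroup.closure_le]
  rintro _ ⟨x, rfl⟩
  obtain ⟨c, hc, hgc⟩ := TCP.Fi22.hgen x
  refine ⟨PresentedGroup.mk _ (FreeGroup.of (Fin.ofNat 9 c)), ?_⟩
  unfold g
  rw [wpHom_of, Fin.val_ofNat, Nat.mod_eq_of_lt hc]
  unfold ceOf
  rw [hgc]
  rfl

theorem hchk : ∀ m < 2 ^ 9,
    (∀ b ∈ Fi23U1.base, par (fun c => m.testBit c) b = false) → m = 0 := by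
  decide +kernel

theorem card22 : Nat.card Fi22 = 64561751654400 := Cfsg.Agent.S1696.result.2

theorem cardH : Nat.card (subH TCP.Fi23.Rels Fi23UB.S) = 2 * Nat.card Fi22 := by
  have h1 := Subgroup.card_mul_index (subH TCP.Fi23.Rels Fi23UB.S)
  have hidx : (subH TCP.Fi23.Rels Fi23UB.S).index = 31671 := Cfsg.Agent.S1689.result.1
  have h23 : Nat.card Fi23 = 4089470473293004800 := Cfsg.Agent.S1697.result.2
  rw [hidx] at h1
  rw [card22]
  have h2 : Nat.card (subH TCP.Fi23.Rels Fi23UB.S) * 31671 = 129123503308800 * 31671 := by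
    rw [h1]
    exact h23
  exact Nat.eq_of_mul_eq_mul_right (by norm_num) h2

end helpers

/-- In the presented Fischer group Fi₂₃, the subgroup generated by the images of a, …, i is a non-split double cover of the presented Fischer group Fi₂₂. -/
theorem result : Cfsg.IsNonsplitDoubleCover (((Subgroup.closure ({Cfsg.Spor.Fi23.a, Cfsg.Spor.Fi23.b, Cfsg.Spor.Fi23.c, Cfsg.Spor.Fi23.d, Cfsg.Spor.Fi23.e, Cfsg.Spor.Fi23.f, Cfsg.Spor.Fi23.g, Cfsg.Spor.Fi23.h, Cfsg.Spor.Fi23.i} : Set (FreeGroup Cfsg.Spor.Fi23.Gen))).map (PresentedGroup.mk (Cfsg.Spor.coxRelators Cfsg.Spor.Fi23.edges ∪ {r | r ∈ Cfsg.Spor.Fi23.extra})))) Cfsg.Spor.Fi22 := by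
  show Cfsg.IsNonsplitDoubleCover (subH TCP.Fi23.Rels Fi23UB.S) Fi22
  haveI : Finite W := Fi23UB.u1.1
  haveI : Finite Fi22 := Nat.finite_of_card_ne_zero (by rw [card22]; norm_num)
  haveI : IsSimpleGroup Fi22 := Cfsg.Agent.S1696.result.1
  have hZK : Subgroup.center Fi22 = ⊥ := center_eq_bot_of_simple (by
    rw [card22]
    intro hp
    have := (Nat.Prime.eq_one_or_self_of_dvd hp 2 (by norm_num))
    omega)
  have hW : Nat.card W ≤ 2 * Nat.card Fi22 := by
    rw [card22]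
    exact Fi23UB.u1.2.trans (by norm_num)
  obtain ⟨hfi, hc2, hiso⟩ := center_of_homs f hf g hg hW cardH hZK
  refine ⟨hc2, hiso, ?_⟩
  intro L hL
  have h2 : L.index = 2 := index_two_of_complement hc2 hL
  have h3 : (L.comap f).index = 2 := by
    rw [Subgroup.index_comap_of_surjective L hf]
    exact h2
  exact no_index_two' Fi23U1.hbl hchk (L.comap f) h3

end Cfsg.Agent.S1688
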