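import Cfsg.Statements.S0975
import Mathlib
import Cfsg.Agent.Lib.Helper7.PTI12
-- import your own Cfsg.Agent.* helpers here

set_option autoImplicit false
open Cfsg

namespace Cfsg.Agent.S0975

/-- No finite simple group has order 3744 = 2^5 * 3^2 * 13. -/
theorem result {G : Type*} [Group G] [Finite G] [IsSimpleGroup G] : Nat.card G ≠ 3744 := by
  intro hcard
  haveI : Fintype G := Fintype.ofFinite G
  have hdiv : ∀ n, n ∣ 288 → n % 13 = 1 → n = 1 ∨ n = 144 := by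
    intro n hn hmod
    have hle : n ≤ 288 := Nat.le_of_dvd (by norm_num) hn
    obtain ⟨k, hk⟩ : ∃ k, n = 13 * k + 1 := ⟨n / 13, by omega⟩
    have hk6 : k ≤ 22 := by omega
    subst hk
    interval_cases k <;> omega
  obtain ⟨a₂, f, d₀, ha, hf1, hf, hfa, hd, hd0, -⟩ :=
    Cfsg.Agent.Lib.Helper7.PTI.simple_e2 (G := G) (p := 13) (g := 288) (n₀ := 144) (by norm_num)
      (by rw [hcard]) (by norm_num) (by norm_num) hdiv (by norm_num)
  have hfg : f ∣ 288 := Cfsg.Agent.Lib.Helper7.PTI.dvd_cofactor (by norm_num) ha hf hfa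
  have hle : f ≤ 288 := Nat.le_of_dvd (by norm_num) hfg
  have hd' : (d₀ : ℤ) = 1 + a₂ * (f : ℤ) ∨ (d₀ : ℤ) = -(1 + a₂ * (f : ℤ)) := by
    rw [hd0]; exact abs_choice _
  obtain ⟨c, hc⟩ := hfa
  rcases ha with rfl | rfl
  · obtain ⟨k, hk⟩ : ∃ k : ℕ, f = 13 * k + 1 := ⟨f / 13, by omega⟩
    have hk10 : k ≤ 22 := by omega
    have hd1 : d₀ = f + 1 := by omega
    subst hk hd1
    interval_cases k <;> omega
  · have hf0 : 0 < f := Nat.pos_of_dvd_of_pos hfg (by norm_num)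
    obtain ⟨k, hk⟩ : ∃ k : ℕ, f = 13 * k + 12 := ⟨(f + 1) / 13 - 1, by omega⟩
    have hk10 : k ≤ 22 := by omega
    have hd1 : d₀ = 13 * k + 11 := by omega
    subst hk hd1
    interval_cases k <;> omega

end Cfsg.Agent.S0975
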