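import Cfsg.Statements.S0980
import Cfsg.Agent.Lib.Helper6.OrdI2

set_option autoImplicit false
open Cfsg

namespace Cfsg.Agent.S0980

/-- No finite simple group has order 5760 = 2^7 * 3^2 * 5. -/
theorem result {G : Type*} [Group G] [Finite G] [IsSimpleGroup G] : Nat.card G ≠ 5760 := by
  by_cases hG : IsMulCommutative G
  · intro hcard
    letI : CommGroup G := { (inferInstance : Group G) with mul_comm := hG.is_comm.comm }
    have hp : (Nat.card G).Prime := IsSimpleGroup.prime_card (α := G)
    rw [hcard] at hp
    norm_num at hp
  · exact Cfsg.Agent.Lib.Helper6.OrdI.ne_5760 hG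

end Cfsg.Agent.S0980
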