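import Cfsg.Statements.S0514
import Cfsg.Agent.Lib.Helper1.DihedralNPC
import Cfsg.Agent.Lib.Helper1.Conj
import Cfsg.Agent.Lib.Lead.FrobNPC5

set_option autoImplicit false
open Cfsg

namespace Cfsg.Agent.S0514

open Cfsg.Agent.Lib.Helper1 Cfsg.Agent.Lib.Lead

/-- the rotations of a dihedral group -/
def rotHom (n : ℕ) : Multiplicative (ZMod n) →* DihedralGroup n where
  toFun i := DihedralGroup.r (Multiplicative.toAdd i)
  map_one' := DihedralGroup.r_zero
  map_mul' i j := by simp [DihedralGroup.r_mul_r]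

theorem mem_rot_iff (n : ℕ) (d : DihedralGroup n) :
    d ∈ (rotHom n).range ↔ ∃ i, d = DihedralGroup.r i := by
  constructor
  · rintro ⟨i, rfl⟩
    exact ⟨Multiplicative.toAdd i, rfl⟩
  · rintro ⟨i, rfl⟩
    exact ⟨Multiplicative.ofAdd i, rfl⟩

theorem isCyclic_rot (n : ℕ) : IsCyclic (rotHom n).range :=
  isCyclic_of_surjective (rotHom n).rangeRestrict (rotHom n).rangeRestrict_surjective

theorem not_rot (n : ℕ) (d : DihedralGroup n) (h : d ∉ (rotHom n).range) :
    ∃ i, d = DihedralGroup.sr i := by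
  cases d with
  | r i => exact absurd ((mem_rot_iff n _).mpr ⟨i, rfl⟩) h
  | sr i => exact ⟨i, rfl⟩

/-- In a finite group whose Sylow 2-subgroups are dihedral of order at least 4, the centralizer of any involution has a
normal subgroup of odd order whose index in the centralizer is a power of 2. -/
theorem result {X : Type*} [Group X] [Finite X]
    (S : Sylow 2 X) (n : ℕ) (hn : 2 ≤ n) (hS : Nonempty ((S : Subgroup X) ≃* DihedralGroup n)) (t : X)
    (ht : orderOf t = 2) :
    ∃ N : Subgroup (Subgroup.centralizer ({t} : Set X)), N.Normal ∧ Odd (Nat.card N) ∧ ∃ k : ℕ, N.index = 2 ^ k := by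
  classical
  haveI : Fact (Nat.Prime 2) := ⟨Nat.prime_two⟩
  obtain ⟨φ⟩ := hS
  set C := Subgroup.centralizer ({t} : Set X) with hC
  obtain ⟨T⟩ : Nonempty (Sylow 2 ↥C) := inferInstance
  have hTp : IsPGroup 2 ((T : Subgroup ↥C).map C.subtype) := T.isPGroup'.map _
  obtain ⟨g, hg⟩ := exists_cj_le_sylow_top S _ hTp
  have hmemS : ∀ x : ↥(T : Subgroup ↥C), g⁻¹ * ((x : ↥C) : X) * g ∈ (S : Subgroup X) := by
    intro x
    apply hg
    rw [mem_cj, inv_inv]
    have h1 : g * (g⁻¹ * ((x : ↥C) : X) * g) * g⁻¹ = ((x : ↥C) : X) := by group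
    rw [h1]
    exact ⟨(x : ↥C), x.2, rfl⟩
  let ι : ↥(T : Subgroup ↥C) →* ↥(S : Subgroup X) :=
    { toFun := fun x => ⟨g⁻¹ * ((x : ↥C) : X) * g, hmemS x⟩
      map_one' := Subtype.ext (by simp)
      map_mul' := fun x y => Subtype.ext (by
        show g⁻¹ * (((x * y : ↥(T : Subgroup ↥C)) : ↥C) : X) * g =
          (g⁻¹ * ((x : ↥C) : X) * g) * (g⁻¹ * ((y : ↥C) : X) * g)
        simp only [Subgroup.coe_mul]
        group) }
  have hιinj : Function.Injective ι := by
    intro x y hxy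
    have h1 : g⁻¹ * ((x : ↥C) : X) * g = g⁻¹ * ((y : ↥C) : X) * g := congrArg Subtype.val hxy
    have h2 : ((x : ↥C) : X) = ((y : ↥C) : X) := by
      have := congrArg (fun z => g * z * g⁻¹) h1
      simpa [mul_assoc] using this
    exact Subtype.ext (Subtype.ext h2)
  let ψ : ↥(T : Subgroup ↥C) →* DihedralGroup n := φ.toMonoidHom.comp ι
  have hψinj : Function.Injective ψ := φ.injective.comp hιinj
  set rot := (rotHom n).range with hrot
  set R : Subgroup ↥C := (rot.comap ψ).map (T : Subgroup ↥C).subtype with hR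
  have hRT : R ≤ (T : Subgroup ↥C) := by
    rintro _ ⟨x, -, rfl⟩
    exact x.2
  have hmemR : ∀ (x : ↥C) (hx : x ∈ (T : Subgroup ↥C)), x ∈ R ↔ ψ ⟨x, hx⟩ ∈ rot := by
    intro x hx
    constructor
    · rintro ⟨y, hy, hyx⟩
      have : y = ⟨x, hx⟩ := Subtype.ext hyx
      rw [← this]; exact hy
    · intro h
      exact ⟨⟨x, hx⟩, h, rfl⟩
  have hRc : IsCyclic R := by
    haveI := isCyclic_rot n
    haveI h1 : IsCyclic (rot.comap ψ) := by
      apply isCyclic_of_injective (ψ.subgroupComap rot)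
      intro a b hab
      apply Subtype.ext
      apply hψinj
      exact congrArg Subtype.val hab
    exact isCyclic_of_surjective
      (Subgroup.equivMapOfInjective _ _ (Subgroup.subtype_injective _)).toMonoidHom
      (Subgroup.equivMapOfInjective _ _ (Subgroup.subtype_injective _)).surjective
  have hprod : ∀ x ∈ (T : Subgroup ↥C), ∀ y ∈ (T : Subgroup ↥C), x ∉ R → y ∉ R → x * y ∈ R := by
    intro x hx y hy hxR hyR
    rw [hmemR x hx] at hxR
    rw [hmemR y hy] at hyR
    obtain ⟨i, hi⟩ := not_rot n _ hxR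
    obtain ⟨j, hj⟩ := not_rot n _ hyR
    rw [hmemR _ ((T : Subgroup ↥C).mul_mem hx hy)]
    have h1 : ψ ⟨x * y, (T : Subgroup ↥C).mul_mem hx hy⟩ = ψ ⟨x, hx⟩ * ψ ⟨y, hy⟩ := by
      rw [← map_mul]; rfl
    rw [h1, hi, hj, DihedralGroup.sr_mul_sr, mem_rot_iff]
    exact ⟨_, rfl⟩
  have hinv : ∀ x ∈ (T : Subgroup ↥C), x ∉ R → x * x = 1 := by
    intro x hx hxR
    rw [hmemR x hx] at hxR
    obtain ⟨i, hi⟩ := not_rot n _ hxR
    have h1 : ψ (⟨x, hx⟩ * ⟨x, hx⟩) = ψ 1 := by
      rw [map_mul, hi, DihedralGroup.sr_mul_sr, sub_self, DihedralGroup.r_zero, map_one]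
    have h2 := hψinj h1
    exact congrArg Subtype.val h2
  have htC : t ∈ C := by
    rw [hC, Subgroup.mem_centralizer_iff]
    intro h hh
    rw [Set.mem_singleton_iff] at hh
    rw [hh]
  have htc : (⟨t, htC⟩ : ↥C) ∈ Subgroup.center ↥C := by
    rw [Subgroup.mem_center_iff]
    rintro ⟨c, hc⟩
    apply Subtype.ext
    rw [hC, Subgroup.mem_centralizer_iff] at hc
    exact (hc t rfl).symm
  have hto : orderOf (⟨t, htC⟩ : ↥C) = 2 := by
    rw [← Subgroup.orderOf_coe]; exact ht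
  obtain ⟨P, N, hNn, hc⟩ :=
    hasNormalPComplement_of_dihedralLike_central T R hRT hRc hprod hinv ⟨t, htC⟩ htc hto
  refine ⟨N, hNn, ?_, index_eq_pow_of_isComplement' P N hc⟩
  have := card_coprime_of_isComplement' P N hc
  exact Nat.coprime_two_right.mp this

end Cfsg.Agent.S0514
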