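import Mathlib
import Cfsg.Statements.S2475
import Cfsg.Agent.Lib.Helper5.SL2Class
import Cfsg.Agent.Lib.Helper5.SL2Exists
import Cfsg.Agent.Lib.Helper5.SL2Torus

set_option autoImplicit false
open Cfsg

namespace Cfsg.Agent.S2475

open Cfsg.Agent.Lib.Helper5 Matrix

section
variable {F : Type*} [Field F]

theorem orderOf_mk_even (h2 : (2 : F) = 0) (g : SpecialLinearGroup (Fin 2) F) :
    orderOf (QuotientGroup.mk g : ProjectiveSpecialLinearGroup (Fin 2) F) = orderOf g :=
  orderOf_eq_orderOf_iff.2 (fun k => mk_pow_eq_one_iff_even h2 g k)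

theorem orderOf_mk_odd (h2 : (2 : F) ≠ 0) (g : SpecialLinearGroup (Fin 2) F)
    (hn : 2 ∣ orderOf g) :
    orderOf (QuotientGroup.mk g : ProjectiveSpecialLinearGroup (Fin 2) F) = orderOf g / 2 := by
  apply Nat.dvd_antisymm
  · apply orderOf_dvd_of_pow_eq_one
    rw [mk_pow_eq_one_iff_odd h2, Nat.mul_div_cancel' hn, pow_orderOf_eq_one]
  · have h := pow_orderOf_eq_one (QuotientGroup.mk g : ProjectiveSpecialLinearGroup (Fin 2) F)
    rw [mk_pow_eq_one_iff_odd h2] at h
    have h' := orderOf_dvd_of_pow_eq_one h
    obtain ⟨k, hk⟩ := hn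
    rw [hk] at h' ⊢
    rw [Nat.mul_div_cancel_left _ two_pos]
    exact Nat.dvd_of_mul_dvd_mul_left two_pos h'

/-- an element of order `N` gives elements of every order dividing `N` -/
theorem exists_orderOf_of_dvd {G : Type*} [Group G] (x : G) (N m : ℕ) (hN : orderOf x = N)
    (hN0 : N ≠ 0) (hm : m ∣ N) : ∃ y : G, orderOf y = m := by
  have hm0 : m ≠ 0 := by
    rintro rfl
    exact hN0 (zero_dvd_iff.1 hm)
  refine ⟨x ^ (N / m), ?_⟩
  have hdvd : N / m ∣ orderOf x := by
    rw [hN]
    exact Nat.div_dvd_of_dvd hm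
  have hne : N / m ≠ 0 := by
    intro h
    rw [Nat.div_eq_zero_iff] at h
    rcases h with h | h
    · exact hm0 h
    · exact absurd (Nat.le_of_dvd (Nat.pos_of_ne_zero hN0) hm) (not_le.2 h)
  rw [orderOf_pow_of_dvd hne hdvd, hN, Nat.div_div_self hm hN0]

end

/-- The set of element orders of PSL(2,q): let F be a finite field of characteristic p with q ≥ 4 elements and d = gcd(2, q − 1). The orders of elements of PSL(2,F) are exactly the divisors of p, of (q − 1)/d and of (q + 1)/d. -/
theorem result {F : Type*} [Field F] [Fintype F] (p : ℕ) [Fact p.Prime] [CharP F p] (h4 : 4 ≤ Fintype.card F) :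
    Set.range (orderOf : Matrix.ProjectiveSpecialLinearGroup (Fin 2) F → ℕ) =
      {m : ℕ | m ∣ p ∨ m ∣ (Fintype.card F - 1) / Nat.gcd 2 (Fintype.card F - 1) ∨ m ∣ (Fintype.card F + 1) / Nat.gcd 2 (Fintype.card F - 1)} := by
  classical
  have hp : p.Prime := Fact.out
  set q := Fintype.card F with hq
  set d := Nat.gcd 2 (q - 1) with hd
  -- the two facts depending on the parity
  have hkey : (∀ (g : SpecialLinearGroup (Fin 2) F) (n : ℕ), (n = q - 1 ∨ n = q + 1) → g ^ n = 1 →
        (QuotientGroup.mk g : ProjectiveSpecialLinearGroup (Fin 2) F) ^ (n / d) = 1) ∧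
      (∀ (g : SpecialLinearGroup (Fin 2) F) (n : ℕ), (n = q - 1 ∨ n = q + 1) → orderOf g = n →
        orderOf (QuotientGroup.mk g : ProjectiveSpecialLinearGroup (Fin 2) F) = n / d) := by
    by_cases h2 : (2 : F) = 0
    · have hchar : ringChar F = 2 := CharP.ringChar_of_prime_eq_zero Nat.prime_two (by exact_mod_cast h2)
      have hev : q % 2 = 0 := FiniteField.even_card_iff_char_two.1 hchar
      have hd1 : d = 1 := by
        rw [hd]
        have h1 : (q - 1) % 2 = 1 := by omega
        have h3 : Nat.gcd 2 (q - 1) ∣ 2 := Nat.gcd_dvd_left _ _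
        have h5 : Nat.gcd 2 (q - 1) ∣ q - 1 := Nat.gcd_dvd_right _ _
        rcases (Nat.dvd_prime Nat.prime_two).1 h3 with h | h
        · exact h
        · rw [h] at h5
          omega
      rw [hd1]
      constructor
      · intro g n _ hg
        rw [Nat.div_one, mk_pow_eq_one_iff_even h2]
        exact hg
      · intro g n _ hg
        rw [Nat.div_one, orderOf_mk_even h2, hg]
    · have hchar : ringChar F ≠ 2 := by
        intro h
        apply h2
        have := ringChar.Nat.cast_ringChar (R := F)
        rw [h] at this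
        exact_mod_cast this
      have hodd : q % 2 = 1 := FiniteField.odd_card_of_char_ne_two hchar
      have hd2 : d = 2 := by
        rw [hd]
        have : (q - 1) % 2 = 0 := by omega
        exact Nat.gcd_eq_left (Nat.dvd_of_mod_eq_zero this)
      rw [hd2]
      have heven : ∀ n : ℕ, (n = q - 1 ∨ n = q + 1) → 2 ∣ n := by
        rintro n (rfl | rfl) <;> omega
      constructor
      · intro g n hn hg
        rw [mk_pow_eq_one_iff_odd h2, Nat.mul_div_cancel' (heven n hn)]
        exact hg
      · intro g n hn hg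
        rw [orderOf_mk_odd h2 g (by rw [hg]; exact heven n hn), hg]
  obtain ⟨hfwd, hbwd⟩ := hkey
  have hdpos : 0 < d := Nat.gcd_pos_of_pos_left _ two_pos
  have hdle : d ≤ 2 := Nat.le_of_dvd two_pos (Nat.gcd_dvd_left _ _)
  ext m
  simp only [Set.mem_range, Set.mem_ofPred_eq]
  constructor
  · rintro ⟨gbar, rfl⟩
    obtain ⟨g, rfl⟩ := QuotientGroup.mk_surjective gbar
    by_cases hsc : ∃ c : F, (g : Matrix (Fin 2) (Fin 2) F) = c • (1 : Matrix (Fin 2) (Fin 2) F)
    · left
      rw [(mk_eq_one_iff g).2 hsc, orderOf_one]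
      exact one_dvd _
    · by_cases ht : (g : Matrix (Fin 2) (Fin 2) F).trace ^ 2 = 4
      · left
        exact orderOf_dvd_of_pow_eq_one (mk_pow_char_eq_one p g ht)
      · have hc := card_centralizer_generic g ht
        have hpow := pow_card_centralizer_eq_one g
        rcases rootCount_eq_zero_or_two _ ht with hr | hr
        · right; right
          rw [hr, add_zero] at hc
          rw [hc] at hpow
          exact orderOf_dvd_of_pow_eq_one (hfwd g _ (Or.inr rfl) hpow)
        · right; left
          rw [hr] at hc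
          have hc' : Nat.card (Subgroup.centralizer ({g} : Set (SpecialLinearGroup (Fin 2) F))) =
              q - 1 := by omega
          rw [hc'] at hpow
          exact orderOf_dvd_of_pow_eq_one (hfwd g _ (Or.inl rfl) hpow)
  · rintro (hm | hm | hm)
    · rcases (Nat.dvd_prime hp).1 hm with rfl | rfl
      · exact ⟨1, orderOf_one⟩
      · refine ⟨QuotientGroup.mk (companionSL (2 : F)), ?_⟩
        apply orderOf_eq_prime
        · apply mk_pow_char_eq_one
          rw [trace_companionSL]
          norm_num
        · intro h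
          exact companionSL_not_scalar (2 : F) ((mk_eq_one_iff _).1 h)
    · obtain ⟨g, hg⟩ := exists_orderOf_eq_card_sub_one (F := F)
      have ho := hbwd g _ (Or.inl rfl) hg
      apply exists_orderOf_of_dvd _ _ m ho _ hm
      have : d ≤ q - 1 := by omega
      exact (Nat.div_pos this hdpos).ne'
    · obtain ⟨g, hg⟩ := exists_orderOf_eq_card_add_one (F := F) p
      have ho := hbwd g _ (Or.inr rfl) hg
      apply exists_orderOf_of_dvd _ _ m ho _ hm
      have : d ≤ q + 1 := by omega
      exact (Nat.div_pos this hdpos).ne'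

end Cfsg.Agent.S2475
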