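import Mathlib
-- Template for statement S0945 (row 945; see /opt/grader/pristine/manifest.json for weights).
-- Copy to Cfsg/Agent/S0945.lean and replace the sorry. The statement below is byte-identical to the frozen
-- statement Cfsg.CfsgFrozen.S0945 (Cfsg/Statements/S0945.lean; the theorem Cfsg.homocyclic_sylow_two_normalizer_mod_centralizer);
-- the grader kernel-checks Cfsg.Agent.S0945.result against that frozen type. Keep the theorem IN THIS FILE
-- (a `result` declared elsewhere and merely imported here is not credited); helpers may live anywhere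
-- under Cfsg/Agent/.
import Cfsg.Statements.S0945
import Cfsg.Agent.Lib.Helper3.Homocyclic

set_option autoImplicit false
open Cfsg
open Cfsg.Agent.Lib.Helper3

namespace Cfsg.Agent.S0945

/-- Let P be a Sylow 2-subgroup of the finite group G isomorphic to Z/2^m × Z/2^m with m ≥ 1. Then (i) the index of C_G(P) in N_G(P) is 1 or 3, and (ii) if it is not 1, then for every z ≠ 1 in P, C_G(z) ∩ N_G(P) = C_G(P). -/
theorem result {G : Type*} [Group G] [Finite G] (P : Sylow 2 G) (m : ℕ) (hm : 1 ≤ m) (e : (P : Subgroup G) ≃* Multiplicative (ZMod (2 ^ m) × ZMod (2 ^ m))) : ((Subgroup.centralizer (P : Set G)).relIndex (Subgroup.normalizer (P : Set G)) = 1 ∨ (Subgroup.centralizer (P : Set G)).relIndex (Subgroup.normalizer (P : Set G)) = 3) ∧ ((Subgroup.centralizer (P : Set G)).relIndex (Subgroup.normalizer (P : Set G)) ≠ 1 → ∀ z ∈ (P : Subgroup G), z ≠ 1 → Subgroup.centralizer ({z} : Set G) ⊓ Subgroup.normalizer (P : Set G) = Subgroup.centralizer (P : Set G)) := by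
  classical
  have hNZ : NeZero (2 ^ m) := ⟨by positivity⟩
  set h : ZMod (2 ^ m) := ((2 ^ (m - 1) : ℕ) : ZMod (2 ^ m)) with hh
  have hh0 : h ≠ 0 := zmod_half_ne_zero m hm
  have hh2 : 2 * h = 0 := (zmod_two_mul_eq_zero m hm h).mpr (Or.inr rfl)
  -- the three involutions of the model
  let J : Finset (Multiplicative (ZMod (2 ^ m) × ZMod (2 ^ m))) :=
    {Multiplicative.ofAdd (h, 0), Multiplicative.ofAdd (0, h), Multiplicative.ofAdd (h, h)}
  have hJcard : J.card = 3 := by
    rw [Finset.card_eq_three]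
    refine ⟨_, _, _, ?_, ?_, ?_, rfl⟩
    · intro heq
      have := Multiplicative.ofAdd.injective heq
      exact hh0 (Prod.mk.inj this).1
    · intro heq
      have := Multiplicative.ofAdd.injective heq
      exact hh0 (Prod.mk.inj this).2.symm
    · intro heq
      have := Multiplicative.ofAdd.injective heq
      exact hh0 (Prod.mk.inj this).1.symm
  have hJmem : ∀ y : Multiplicative (ZMod (2 ^ m) × ZMod (2 ^ m)), y ∈ J ↔ y ≠ 1 ∧ y ^ 2 = 1 := by
    intro y
    obtain ⟨⟨a, b⟩, rfl⟩ := Multiplicative.ofAdd.surjective y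
    have hsq : (Multiplicative.ofAdd (a, b)) ^ 2 = 1 ↔ 2 * a = 0 ∧ 2 * b = 0 := by
      rw [← ofAdd_nsmul, ofAdd_eq_one, Prod.smul_mk, Prod.mk_eq_zero, nsmul_eq_mul, nsmul_eq_mul]
      simp
    have hne : Multiplicative.ofAdd (a, b) ≠ 1 ↔ ¬ (a = 0 ∧ b = 0) := by
      rw [Ne, ofAdd_eq_one, Prod.mk_eq_zero]
    rw [hsq, hne, zmod_two_mul_eq_zero m hm, zmod_two_mul_eq_zero m hm]
    simp only [J, Finset.mem_insert, Finset.mem_singleton, EmbeddingLike.apply_eq_iff_eq,
      Prod.mk.injEq]
    constructor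
    · rintro (⟨rfl, rfl⟩ | ⟨rfl, rfl⟩ | ⟨rfl, rfl⟩)
      · exact ⟨fun hc => hh0 hc.1, Or.inr rfl, Or.inl rfl⟩
      · exact ⟨fun hc => hh0 hc.2, Or.inl rfl, Or.inr rfl⟩
      · exact ⟨fun hc => hh0 hc.1, Or.inr rfl, Or.inr rfl⟩
    · rintro ⟨hne0, (rfl | rfl), (rfl | rfl)⟩
      · exact absurd ⟨rfl, rfl⟩ hne0
      · exact Or.inr (Or.inl ⟨rfl, rfl⟩)
      · exact Or.inl ⟨rfl, rfl⟩
      · exact Or.inr (Or.inr ⟨rfl, rfl⟩)
  -- transport to `G`
  let f : Multiplicative (ZMod (2 ^ m) × ZMod (2 ^ m)) → G := fun y => ((e.symm y : (P : Subgroup G)) : G)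
  have hf : Function.Injective f := fun a b hab => e.symm.injective (Subtype.ext hab)
  let I : Finset G := J.image f
  have hI3 : I.card = 3 := by rw [Finset.card_image_of_injective _ hf, hJcard]
  have hI : ∀ x, x ∈ I ↔ x ∈ (P : Subgroup G) ∧ x ≠ 1 ∧ x ^ 2 = 1 := by
    intro x
    simp only [I, Finset.mem_image]
    constructor
    · rintro ⟨y, hy, rfl⟩
      obtain ⟨h1, h2⟩ := (hJmem y).mp hy
      refine ⟨(e.symm y).2, ?_, ?_⟩
      · intro hc
        apply h1
        have : e.symm y = 1 := Subtype.ext hc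
        simpa using this
      · show ((e.symm y : (P : Subgroup G)) : G) ^ 2 = 1
        rw [← Subgroup.coe_pow, ← map_pow, h2, map_one, Subgroup.coe_one]
    · rintro ⟨hxP, hx1, hx2⟩
      refine ⟨e ⟨x, hxP⟩, (hJmem _).mpr ⟨?_, ?_⟩, ?_⟩
      · intro hc
        apply hx1
        have : (⟨x, hxP⟩ : (P : Subgroup G)) = 1 := by simpa using hc
        exact congrArg Subtype.val this
      · rw [← map_pow]
        have : (⟨x, hxP⟩ : (P : Subgroup G)) ^ 2 = 1 := Subtype.ext (by simpa using hx2)
        rw [this, map_one]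
      · show ((e.symm (e ⟨x, hxP⟩) : (P : Subgroup G)) : G) = x
        rw [MulEquiv.symm_apply_apply]
  -- group theory
  have hcomm : ∀ x ∈ (P : Subgroup G), ∀ y ∈ (P : Subgroup G), x * y = y * x := by
    intro x hx y hy
    have : (⟨x, hx⟩ : (P : Subgroup G)) * ⟨y, hy⟩ = ⟨y, hy⟩ * ⟨x, hx⟩ := by
      apply e.injective
      rw [map_mul, map_mul, mul_comm]
    exact congrArg Subtype.val this
  have hP2 : ∀ x ∈ (P : Subgroup G), ∃ k : ℕ, x ^ (2 ^ k) = 1 := by
    intro x hx
    obtain ⟨k, hk⟩ := P.2 ⟨x, hx⟩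
    exact ⟨k, by simpa using congrArg Subtype.val hk⟩
  set N := Subgroup.normalizer ((P : Subgroup G) : Set G) with hN
  set C := Subgroup.centralizer ((P : Subgroup G) : Set G) with hC
  have hCN : C ≤ N := Subgroup.centralizer_le_normalizer _
  have hPC : (P : Subgroup G) ≤ C := by
    intro x hx
    rw [hC, Subgroup.mem_centralizer_iff]
    intro y hy
    exact hcomm y hy x hx
  have hmemC : ∀ n : G, n ∈ C ↔ ∀ x ∈ (P : Subgroup G), n * x * n⁻¹ = x := by
    intro n
    rw [hC, Subgroup.mem_centralizer_iff]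
    constructor
    · intro h x hx
      rw [← h x hx, mul_inv_cancel_right]
    · intro h x hx
      have := h x hx
      rw [mul_inv_eq_iff_eq_mul] at this
      exact this.symm
  have hmemN : ∀ n ∈ N, ∀ x ∈ (P : Subgroup G), n * x * n⁻¹ ∈ (P : Subgroup G) := by
    intro n hn x hx
    exact (Subgroup.mem_normalizer_iff.mp hn x).mp hx
  set r := C.relIndex N with hr
  have hrodd : Odd r := by
    have h1 := Subgroup.relIndex_mul_relIndex (P : Subgroup G) C N hPC hCN
    have h2 : (P : Subgroup G).relIndex N ∣ (P : Subgroup G).index :=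
      Subgroup.relIndex_dvd_index_of_le Subgroup.le_normalizer
    have h3 : ¬ 2 ∣ (P : Subgroup G).index := P.not_dvd_index
    rw [← Nat.not_even_iff_odd, even_iff_two_dvd]
    intro h4
    apply h3
    exact (h4.trans (Dvd.intro_left _ h1)).trans h2
  have hnormal : (C.subgroupOf N).Normal := by
    apply Subgroup.normal_subgroupOf_of_le_normalizer
    intro n hn
    rw [Subgroup.mem_normalizer_iff]
    intro c
    have key : ∀ n ∈ N, ∀ c ∈ C, n * c * n⁻¹ ∈ C := by
      intro n hn c hc
      rw [hmemC] at hc ⊢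
      intro x hx
      have hx' : n⁻¹ * x * n ∈ (P : Subgroup G) := by
        have := hmemN n⁻¹ (N.inv_mem hn) x hx
        rwa [inv_inv] at this
      have := hc _ hx'
      calc n * c * n⁻¹ * x * (n * c * n⁻¹)⁻¹ = n * (c * (n⁻¹ * x * n) * c⁻¹) * n⁻¹ := by group
        _ = n * (n⁻¹ * x * n) * n⁻¹ := by rw [this]
        _ = x := by group
    constructor
    · exact key n hn c
    · intro h
      have := key n⁻¹ (N.inv_mem hn) _ h
      have e1 : n⁻¹ * (n * c * n⁻¹) * n⁻¹⁻¹ = c := by group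
      rwa [e1] at this
  have hpow : ∀ n ∈ N, n ^ r ∈ C := by
    intro n hn
    have h1 : ((⟨n, hn⟩ : ↥N) : ↥N ⧸ C.subgroupOf N) ^ Nat.card (↥N ⧸ C.subgroupOf N) = 1 :=
      pow_card_eq_one'
    rw [← QuotientGroup.mk_pow, QuotientGroup.eq_one_iff, Subgroup.mem_subgroupOf] at h1
    exact h1
  -- key lemma
  have hkey : ∀ n ∈ N, ∀ v ∈ I, n * v * n⁻¹ = v → n ∈ C := by
    intro n hn v hv hnv
    rw [hmemC]
    apply centralizes_of_three_involutions (P : Subgroup G) hcomm I hI hI3 hP2 n (hmemN n hn) r hrodd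
      _ v hv hnv
    exact (hmemC _).mp (hpow n hn)
  obtain ⟨v₀, hv₀⟩ : I.Nonempty := by
    rw [← Finset.card_pos, hI3]; norm_num
  have hnI : ∀ n ∈ N, ∀ w ∈ I, n * w * n⁻¹ ∈ I := by
    intro n hn w hw
    obtain ⟨h1, h2, h3⟩ := (hI w).mp hw
    refine (hI _).mpr ⟨hmemN n hn w h1, ?_, ?_⟩
    · intro hc
      apply h2
      have : w = n⁻¹ * (n * w * n⁻¹) * n := by group
      rw [this, hc]; group
    · rw [conj_pow, h3]; group
  constructor
  · -- the index is at most three
    have hle : r ≤ 3 := by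
      let φ : (↥N ⧸ C.subgroupOf N) → {x // x ∈ I} := fun q =>
        Quotient.liftOn' q (fun n => (⟨(n : G) * v₀ * (n : G)⁻¹, hnI n n.2 v₀ hv₀⟩ : {x // x ∈ I}))
          (by
            intro a b hab
            rw [QuotientGroup.leftRel_apply, Subgroup.mem_subgroupOf] at hab
            apply Subtype.ext
            have h1 := (hmemC _).mp hab v₀ ((hI v₀).mp hv₀).1
            simp only [Subgroup.coe_mul, Subgroup.coe_inv] at h1
            show (a : G) * v₀ * (a : G)⁻¹ = (b : G) * v₀ * (b : G)⁻¹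
            calc (a : G) * v₀ * (a : G)⁻¹
                = (a : G) * ((a : G)⁻¹ * (b : G) * v₀ * ((a : G)⁻¹ * (b : G))⁻¹) * (a : G)⁻¹ := by
                  rw [h1]
              _ = (b : G) * v₀ * (b : G)⁻¹ := by group)
      have hφ : Function.Injective φ := by
        intro q₁ q₂
        induction q₁ using QuotientGroup.induction_on with | _ a => ?_
        induction q₂ using QuotientGroup.induction_on with | _ b => ?_
        intro hab
        have hab' : (a : G) * v₀ * (a : G)⁻¹ = (b : G) * v₀ * (b : G)⁻¹ := congrArg Subtype.val hab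
        rw [QuotientGroup.eq, Subgroup.mem_subgroupOf]
        simp only [Subgroup.coe_mul, Subgroup.coe_inv]
        apply hkey _ (N.mul_mem (N.inv_mem a.2) b.2) v₀ hv₀
        calc (a : G)⁻¹ * (b : G) * v₀ * ((a : G)⁻¹ * (b : G))⁻¹
            = (a : G)⁻¹ * ((b : G) * v₀ * (b : G)⁻¹) * (a : G) := by group
          _ = (a : G)⁻¹ * ((a : G) * v₀ * (a : G)⁻¹) * (a : G) := by rw [hab']
          _ = v₀ := by group
      have h1 := Nat.card_le_card_of_injective φ hφ
      have h2 : Nat.card {x // x ∈ I} = 3 := by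
        rw [Nat.card_eq_fintype_card, Fintype.card_coe, hI3]
      rw [h2] at h1
      exact h1
    have hpos : 0 < r := by
      rw [hr]
      unfold Subgroup.relIndex Subgroup.index
      exact Nat.card_pos
    obtain ⟨k, hk⟩ := hrodd
    show r = 1 ∨ r = 3
    omega
  · intro _ z hz hz1
    apply le_antisymm
    · intro n hn'
      obtain ⟨hnz, hnN⟩ := Subgroup.mem_inf.mp hn'
      rw [Subgroup.mem_centralizer_singleton_iff] at hnz
      -- an involution among the powers of `z`
      obtain ⟨k, hk⟩ := hP2 z hz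
      have hex : ∃ k, z ^ (2 ^ k) = 1 := ⟨k, hk⟩
      set k₀ := Nat.find hex with hk₀
      have hk₀s : z ^ (2 ^ k₀) = 1 := Nat.find_spec hex
      have hk₀pos : k₀ ≠ 0 := by
        intro h0
        rw [h0, pow_zero, pow_one] at hk₀s
        exact hz1 hk₀s
      obtain ⟨j, hj⟩ := Nat.exists_eq_succ_of_ne_zero hk₀pos
      have hmin : z ^ (2 ^ j) ≠ 1 := Nat.find_min hex (by omega)
      have hvI : z ^ (2 ^ j) ∈ I := by
        refine (hI _).mpr ⟨Subgroup.pow_mem _ hz _, hmin, ?_⟩
        rw [← pow_mul, ← pow_succ]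
        rw [hj] at hk₀s
        exact hk₀s
      apply hkey n hnN _ hvI
      rw [← conj_pow]
      have : n * z * n⁻¹ = z := by rw [hnz, mul_inv_cancel_right]
      rw [this]
    · apply le_inf _ hCN
      exact Subgroup.centralizer_le (Set.singleton_subset_iff.mpr hz)

end Cfsg.Agent.S0945
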