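import Mathlib
import Cfsg.Statements.S0183
import Cfsg.Agent.Lib.Helper4.CNFinal
import Cfsg.Agent.Lib.Helper4.ThreeStep5
import Cfsg.Agent.Lib.Helper4.CNGroup2

set_option autoImplicit false
open Cfsg

namespace Cfsg.Agent.S0183

open Cfsg.Agent.Lib.Helper4 Cfsg.Agent.Lib.Helper4.CNMax Cfsg.Agent.Lib.Helper4.ThreeStep

universe u

theorem cn_solvable_aux (n : ℕ) : ∀ (G : Type u) [Group G] [Finite G], Nat.card G = n →
    Odd (Nat.card G) → Cfsg.IsCNGroup G → Group.IsSolvable G := by
  induction n using Nat.strong_induction_on with
  | _ n ih =>
    intro G _ _ hn hodd hCN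
    -- proper subgroups are solvable
    have hsub : ∀ K : Subgroup G, K ≠ ⊤ → Group.IsSolvable K := by
      intro K hK
      have hlt : Nat.card K < n := by
        rw [← hn]
        rcases Nat.lt_or_ge (Nat.card K) (Nat.card G) with h | h
        · exact h
        · exact absurd (Subgroup.eq_top_of_le_card K h) hK
      exact ih _ hlt K rfl (Odd.of_dvd_nat hodd (Subgroup.card_subgroup_dvd_card K))
        (isCN_subgroup hCN K)
    by_cases hsimple : IsSimpleGroup G
    · by_cases hcomm : IsMulCommutative G
      · let _ : CommGroup G := { ‹Group G› with mul_comm := hcomm.is_comm.comm }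
        infer_instance
      · exact (no_minSimple_CN (G := G) ⟨hodd, hsimple, hcomm, hsub⟩ hCN).elim
    · rcases subsingleton_or_nontrivial G with hs | hnt
      · infer_instance
      · -- a proper nontrivial normal subgroup
        have hex : ∃ N : Subgroup G, N.Normal ∧ N ≠ ⊥ ∧ N ≠ ⊤ := by
          by_contra hcon
          push Not at hcon
          apply hsimple
          refine { exists_pair_ne := hnt.exists_pair_ne, eq_bot_or_eq_top_of_normal := ?_ }
          intro N hN
          by_cases h0 : N = ⊥
          · exact Or.inl h0
          · exact Or.inr (hcon N hN h0)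
        obtain ⟨N, hNn, hN0, hN1⟩ := hex
        have := hNn
        have hNs : Group.IsSolvable N := hsub N hN1
        have hCNq : Cfsg.IsCNGroup (G ⧸ N) := isCN_quotient_solvable hCN N hNs
        have hcard : Nat.card (G ⧸ N) * Nat.card N = Nat.card G := by
          rw [← Subgroup.index_eq_card]; exact Subgroup.index_mul_card N
        have hlt : Nat.card (G ⧸ N) < n := by
          rw [← hn, ← hcard]
          have h1 : 1 < Nat.card N := by
            rcases Nat.lt_or_ge 1 (Nat.card N) with h1 | h1
            · exact h1
            · exfalso
              have : Nat.card N = 1 := le_antisymm h1 Nat.card_pos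
              exact hN0 (Subgroup.card_eq_one.mp this)
          have hpos : 0 < Nat.card (G ⧸ N) := Nat.card_pos
          nlinarith
        have hQs : Group.IsSolvable (G ⧸ N) :=
          ih _ hlt (G ⧸ N) rfl (Odd.of_dvd_nat hodd ⟨_, hcard.symm⟩) hCNq
        exact Group.isSolvable_of_ker_le_range N.subtype (QuotientGroup.mk' N)
          (by rw [QuotientGroup.ker_mk', Subgroup.range_subtype])

/-- The CN-Theorem for odd order: a finite group of odd order in which every non-identity element has a nilpotent centralizer (a CN-group) is solvable. -/
theorem result {G : Type*} [Group G] [Finite G] (hodd : Odd (Nat.card G)) (hCN : Cfsg.IsCNGroup G) : Group.IsSolvable G := by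
  exact cn_solvable_aux _ G rfl hodd hCN

end Cfsg.Agent.S0183
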