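import Mathlib
import Cfsg.Statements.S4065

set_option autoImplicit false
open Cfsg

namespace Cfsg.Agent.S4065

section mat
variable {F : Type*} [Field F]

/-- a matrix commuting with a non-scalar `2 × 2` matrix `X` is a linear combination of `1`, `X` -/
theorem exists_eq_of_comm (X A : Matrix (Fin 2) (Fin 2) F)
    (hX : X 0 1 ≠ 0 ∨ X 1 0 ≠ 0 ∨ X 0 0 ≠ X 1 1) (hA : A * X = X * A) :
    ∃ α l : F, A = α • (1 : Matrix (Fin 2) (Fin 2) F) + l • X := by
  have e00 := congrFun (congrFun hA 0) 0
  have e01 := congrFun (congrFun hA 0) 1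
  have e10 := congrFun (congrFun hA 1) 0
  have e11 := congrFun (congrFun hA 1) 1
  simp only [Matrix.mul_apply, Fin.sum_univ_two] at e00 e01 e10 e11
  rcases hX with hb | hc | had
  · refine ⟨A 1 1 - A 0 1 / X 0 1 * X 1 1, A 0 1 / X 0 1, ?_⟩
    ext i j
    fin_cases i <;> fin_cases j <;> simp <;> field_simp <;>
      (first | ring1 | linear_combination e00 | linear_combination -e00 | linear_combination e01 | linear_combination -e01 | linear_combination e10 | linear_combination -e10 | linear_combination e11 | linear_combination -e11)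
  · refine ⟨A 1 1 - A 1 0 / X 1 0 * X 1 1, A 1 0 / X 1 0, ?_⟩
    ext i j
    fin_cases i <;> fin_cases j <;> simp <;> field_simp <;>
      (first | ring1 | linear_combination e00 | linear_combination -e00 | linear_combination e01 | linear_combination -e01 | linear_combination e10 | linear_combination -e10 | linear_combination e11 | linear_combination -e11)
  · have had' : X 0 0 - X 1 1 ≠ 0 := sub_ne_zero.mpr had
    refine ⟨A 1 1 - (A 0 0 - A 1 1) / (X 0 0 - X 1 1) * X 1 1,
      (A 0 0 - A 1 1) / (X 0 0 - X 1 1), ?_⟩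
    ext i j
    fin_cases i <;> fin_cases j <;> simp <;> field_simp <;>
      (first | ring1 | linear_combination e00 | linear_combination -e00 | linear_combination e01 | linear_combination -e01 | linear_combination e10 | linear_combination -e10 | linear_combination e11 | linear_combination -e11)

/-- matrices commuting with a non-scalar `2 × 2` matrix commute with each other -/
theorem comm_of_comm_nonscalar (X A B : Matrix (Fin 2) (Fin 2) F)
    (hX : X 0 1 ≠ 0 ∨ X 1 0 ≠ 0 ∨ X 0 0 ≠ X 1 1) (hA : A * X = X * A) (hB : B * X = X * B) :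
    A * B = B * A := by
  obtain ⟨α, l, rfl⟩ := exists_eq_of_comm X A hX hA
  obtain ⟨β, m, rfl⟩ := exists_eq_of_comm X B hX hB
  have h1 : Commute (α • (1 : Matrix (Fin 2) (Fin 2) F)) (β • (1 : Matrix (Fin 2) (Fin 2) F)) :=
    ((Commute.one_left _).smul_left _).smul_right _
  have h2 : Commute (α • (1 : Matrix (Fin 2) (Fin 2) F)) (m • X) :=
    ((Commute.one_left _).smul_left _).smul_right _
  have h3 : Commute (l • X) (β • (1 : Matrix (Fin 2) (Fin 2) F)) :=
    ((Commute.one_right _).smul_left _).smul_right _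
  have h4 : Commute (l • X) (m • X) :=
    ((Commute.refl X).smul_left _).smul_right _
  exact ((h1.add_right h2).add_left (h3.add_right h4)).eq

end mat

section sl
variable {F : Type*} [Field F] [CharP F 2]

theorem center_eq_bot : Subgroup.center (Matrix.SpecialLinearGroup (Fin 2) F) = ⊥ := by
  rw [Subgroup.eq_bot_iff_forall]
  intro A hA
  obtain ⟨r, hr, hrA⟩ := Matrix.SpecialLinearGroup.mem_center_iff.mp hA
  rw [Fintype.card_fin] at hr
  have h1 : (r + 1) ^ 2 = 0 := by
    rw [CharTwo.add_sq, hr, one_pow, CharTwo.add_self_eq_zero]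
  have h2 : r + 1 = 0 := by
    exact pow_eq_zero_iff (two_ne_zero) |>.mp h1
  have h3 : r = 1 := by
    have := eq_neg_of_add_eq_zero_left h2
    rw [this, CharTwo.neg_eq]
  subst h3
  apply Subtype.ext
  rw [← hrA]
  simp

theorem nonscalar_of_ne_one (U : Matrix.SpecialLinearGroup (Fin 2) F) (hU : U ≠ 1) :
    U.1 0 1 ≠ 0 ∨ U.1 1 0 ≠ 0 ∨ U.1 0 0 ≠ U.1 1 1 := by
  by_contra hcon
  push Not at hcon
  obtain ⟨hb, hc, had⟩ := hcon
  apply hU
  have hdet := U.2
  rw [Matrix.det_fin_two, hb, hc, ← had, mul_zero, sub_zero] at hdet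
  have h1 : (U.1 0 0 + 1) ^ 2 = 0 := by
    rw [CharTwo.add_sq, pow_two, hdet, one_pow, CharTwo.add_self_eq_zero]
  have h2 : U.1 0 0 + 1 = 0 := pow_eq_zero_iff (two_ne_zero) |>.mp h1
  have h3 : U.1 0 0 = 1 := by
    have := eq_neg_of_add_eq_zero_left h2
    rw [this, CharTwo.neg_eq]
  apply Subtype.ext
  ext i j
  fin_cases i <;> fin_cases j
  · simpa using h3
  · simpa using hb
  · simpa using hc
  · simp only [Fin.mk_one, Fin.isValue]
    rw [← had, h3]
    simp

theorem sl_ca (U A B : Matrix.SpecialLinearGroup (Fin 2) F) (hU : U ≠ 1)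
    (hA : A * U = U * A) (hB : B * U = U * B) : A * B = B * A := by
  apply Subtype.ext
  have hA' : A.1 * U.1 = U.1 * A.1 := by
    have := congrArg Subtype.val hA
    simpa [Matrix.SpecialLinearGroup.coe_mul] using this
  have hB' : B.1 * U.1 = U.1 * B.1 := by
    have := congrArg Subtype.val hB
    simpa [Matrix.SpecialLinearGroup.coe_mul] using this
  have := comm_of_comm_nonscalar U.1 A.1 B.1 (nonscalar_of_ne_one U hU) hA' hB'
  simpa [Matrix.SpecialLinearGroup.coe_mul] using this

theorem psl_ca (u a b : Matrix.ProjectiveSpecialLinearGroup (Fin 2) F) (hu : u ≠ 1)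
    (ha : a * u = u * a) (hb : b * u = u * b) : a * b = b * a := by
  obtain ⟨U, rfl⟩ := QuotientGroup.mk_surjective u
  obtain ⟨A, rfl⟩ := QuotientGroup.mk_surjective a
  obtain ⟨B, rfl⟩ := QuotientGroup.mk_surjective b
  have hinj : ∀ X Y : Matrix.SpecialLinearGroup (Fin 2) F,
      (QuotientGroup.mk X : Matrix.ProjectiveSpecialLinearGroup (Fin 2) F) = QuotientGroup.mk Y →
        X = Y := by
    intro X Y h
    rw [QuotientGroup.eq, center_eq_bot, Subgroup.mem_bot] at h
    exact inv_mul_eq_one.mp h
  have hU : U ≠ 1 := by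
    rintro rfl
    exact hu rfl
  have hA : A * U = U * A := hinj _ _ (by
    rw [QuotientGroup.mk_mul, QuotientGroup.mk_mul]; exact ha)
  have hB : B * U = U * B := hinj _ _ (by
    rw [QuotientGroup.mk_mul, QuotientGroup.mk_mul]; exact hb)
  have := sl_ca U A B hU hA hB
  rw [← QuotientGroup.mk_mul, ← QuotientGroup.mk_mul, this]

end sl

theorem mem_cent {G : Type*} [Group G] (x w : G) :
    w ∈ Subgroup.centralizer ({x} : Set G) ↔ w * x = x * w := by
  rw [Subgroup.mem_centralizer_iff]
  constructor
  · intro h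
    exact (h x rfl).symm
  · intro h k hk
    rw [Set.mem_singleton_iff] at hk
    subst hk
    exact h.symm

/-- in a group where centralizers of nonidentity elements are abelian, centralizers are TI -/
theorem ti_of_ca {G : Type*} [Group G]
    (hCA : ∀ u a b : G, u ≠ 1 → a * u = u * a → b * u = u * b → a * b = b * a) (x : G) :
    Cfsg.IsTISubset (Subgroup.centralizer ({x} : Set G) : Set G) := by
  intro g hg y hy hy'
  by_contra hy1
  apply hg
  rw [Subgroup.mem_set_normalizer_iff]
  intro h
  simp only [SetLike.mem_coe] at hy hy' ⊢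
  by_cases hx : x = 1
  · subst hx
    rw [mem_cent, mem_cent]
    simp
  have key : ∀ z : G, z ≠ 1 → z ∈ Subgroup.centralizer ({x} : Set G) →
      ∀ w : G, w ∈ Subgroup.centralizer ({x} : Set G) ↔ w * z = z * w := by
    intro z hz1 hz w
    rw [mem_cent] at hz ⊢
    constructor
    · intro hw
      exact hCA x w z hx hw hz
    · intro hw
      exact hCA z w x hz1 hw hz.symm
  have hy1' : g * y * g⁻¹ ≠ 1 := by
    intro h1
    apply hy1
    have : g * y * g⁻¹ = g * 1 * g⁻¹ := by rw [h1]; group
    exact mul_left_cancel (mul_right_cancel this)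
  rw [key y hy1 hy h, key (g * y * g⁻¹) hy1' hy' (g * h * g⁻¹)]
  constructor
  · intro hh
    calc g * h * g⁻¹ * (g * y * g⁻¹) = g * (h * y) * g⁻¹ := by group
      _ = g * (y * h) * g⁻¹ := by rw [hh]
      _ = g * y * g⁻¹ * (g * h * g⁻¹) := by group
  · intro hh
    have : g * (h * y) * g⁻¹ = g * (y * h) * g⁻¹ := by
      calc g * (h * y) * g⁻¹ = g * h * g⁻¹ * (g * y * g⁻¹) := by group
        _ = g * y * g⁻¹ * (g * h * g⁻¹) := hh
        _ = g * (y * h) * g⁻¹ := by group
    exact mul_left_cancel (mul_right_cancel this)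

/-- Let F be a finite field with 2ⁿ elements, n ≥ 2. In PSL₂(F) the centralizer of every element meets each of its conjugates by elements outside its normalizer trivially. -/
theorem result (n : ℕ) (hn : 2 ≤ n)
    (x : Matrix.ProjectiveSpecialLinearGroup (Fin 2) (GaloisField 2 n)) :
    Cfsg.IsTISubset (Subgroup.centralizer ({x} : Set (Matrix.ProjectiveSpecialLinearGroup (Fin 2) (GaloisField 2 n))) :
      Set (Matrix.ProjectiveSpecialLinearGroup (Fin 2) (GaloisField 2 n))) := by
  exact ti_of_ca (fun u a b hu ha hb => psl_ca u a b hu ha hb) x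

end Cfsg.Agent.S4065
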