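import Mathlib
import Cfsg.Statements.S4039
import Cfsg.Agent.Lib.Helper7.NilpMax4
import Cfsg.Agent.Lib.Helper2.Basic

set_option autoImplicit false
open Cfsg

namespace Cfsg.Agent.S4039

open Cfsg.Agent.Lib.Helper7.NilpMax Cfsg.Agent.Lib.Helper2
open scoped commutatorElement

theorem class_two_comm {H : Type*} [Group H] [hH : Group.IsNilpotent H]
    (hcl : Group.nilpotencyClass H ≤ 2) (a b c : H) : ⁅a, b⁆ * c = c * ⁅a, b⁆ := by
  have h2 : Subgroup.lowerCentralSeries (⊤ : Subgroup H) 2 = ⊥ :=
    Subgroup.lowerCentralSeries_eq_bot_iff_nilpotencyClass_le.mpr hcl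
  have h1 : ⁅a, b⁆ ∈ Subgroup.lowerCentralSeries (⊤ : Subgroup H) 1 := by
    rw [Subgroup.lowerCentralSeries_succ, Subgroup.lowerCentralSeries_zero]
    exact Subgroup.commutator_mem_commutator (Subgroup.mem_top a) (Subgroup.mem_top b)
  have h3 : ⁅⁅a, b⁆, c⁆ ∈ Subgroup.lowerCentralSeries (⊤ : Subgroup H) 2 := by
    rw [Subgroup.lowerCentralSeries_succ]
    exact Subgroup.commutator_mem_commutator h1 (Subgroup.mem_top c)
  rw [h2, Subgroup.mem_bot] at h3
  exact commutatorElement_eq_one_iff_mul_comm.mp h3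

/-- A finite group possessing a maximal subgroup that is nilpotent of class at most 2 is solvable. -/
theorem result {G : Type*} [Group G] [Finite G]
    (M : Subgroup G) (hmax : IsCoatom M) (hnil : Group.IsNilpotent M) (hcl : Group.nilpotencyClass ↥M ≤ 2) :
    Group.IsSolvable G := by
  set N := M.normalCore with hN
  haveI hNn : N.Normal := Subgroup.normalCore_normal M
  have hNM : N ≤ M := Subgroup.normalCore_le M
  set π := QuotientGroup.mk' N with hπ
  have hsurj : Function.Surjective π := QuotientGroup.mk'_surjective N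
  have hM' : IsCoatom (M.map π) := isCoatom_map_mk N hmax hNM
  have hnil' : Group.IsNilpotent ↥(M.map π) := by
    haveI := hnil
    exact nilpotent_of_surjective (π.subgroupMap M) (π.subgroupMap_surjective M)
  have hcl' : ∀ a ∈ M.map π, ∀ b ∈ M.map π, ∀ c ∈ M.map π, ⁅a, b⁆ * c = c * ⁅a, b⁆ := by
    rintro _ ⟨a, ha, rfl⟩ _ ⟨b, hb, rfl⟩ _ ⟨c, hc, rfl⟩
    haveI := hnil
    have h1 := class_two_comm hcl (⟨a, ha⟩ : M) ⟨b, hb⟩ ⟨c, hc⟩
    have h2 : ⁅a, b⁆ * c = c * ⁅a, b⁆ := by
      have := congrArg Subtype.val h1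
      simpa [commutatorElement_def] using this
    rw [← map_commutatorElement, ← map_mul, ← map_mul, h2]
  have hcore' : ∀ C' : Subgroup (G ⧸ N), C'.Normal → C' ≤ M.map π → C' = ⊥ := by
    intro C' hC'n hC'M
    haveI := hC'n
    have h1 : C'.comap π ≤ M := by
      have : C'.comap π ≤ (M.map π).comap π := Subgroup.comap_mono hC'M
      rw [Subgroup.comap_map_eq, hπ, QuotientGroup.ker_mk', sup_of_le_left hNM] at this
      exact this
    have h2 : C'.comap π ≤ N := Subgroup.normal_le_normalCore.mpr h1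
    rw [eq_bot_iff]
    intro x hx
    obtain ⟨g, rfl⟩ := hsurj x
    have hg : g ∈ N := h2 hx
    rw [Subgroup.mem_bot]
    exact (QuotientGroup.eq_one_iff g).mpr hg
  haveI : Group.IsSolvable (G ⧸ N) :=
    solvable_of_class_two (M := M.map π) ⟨hM', hnil', hcore'⟩ hcl'
  haveI : Group.IsSolvable ↥N := by
    haveI := hnil
    haveI : Group.IsSolvable ↥M := inferInstance
    exact Group.isSolvable_of_isSolvable_injective (Subgroup.inclusion_injective hNM)
  exact Group.isSolvable_of_ker_le_range N.subtype π (by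
    rw [hπ, QuotientGroup.ker_mk', Subgroup.range_subtype])

end Cfsg.Agent.S4039
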