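import Cfsg.Statements.S0255
import Mathlib
import Cfsg.Agent.Lib.Helper2.PSL27d
import Cfsg.Agent.Lib.Helper2.PSLRingEquiv

set_option autoImplicit false
open Cfsg

namespace Cfsg.Agent.S0255

/-- PSL_2(7) is isomorphic to PSL_3(2). -/
theorem result {F K : Type*} [Field F] [Fintype F] [Field K] [Fintype K] (hF : Fintype.card F = 7) (hK : Fintype.card K = 2) : Nonempty (Matrix.ProjectiveSpecialLinearGroup (Fin 2) F ≃* Matrix.ProjectiveSpecialLinearGroup (Fin 3) K) := by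
  have hp7 : Nat.Prime 7 := by norm_num
  have hp2 : Nat.Prime 2 := by norm_num
  let e7 : ZMod 7 ≃+* F := ZMod.ringEquivOfPrime F hp7 hF
  let e2 : ZMod 2 ≃+* K := ZMod.ringEquivOfPrime K hp2 hK
  obtain ⟨f1⟩ := Cfsg.Agent.Lib.Helper2.PSLRingEquiv.pslEquiv (n := Fin 2) e7
  obtain ⟨f2⟩ := Cfsg.Agent.Lib.Helper2.PSLRingEquiv.pslEquiv (n := Fin 3) e2
  obtain ⟨f3⟩ := Cfsg.Agent.Lib.Helper2.PSL27.equiv_zmod
  exact ⟨f1.symm.trans (f3.trans f2)⟩

end Cfsg.Agent.S0255
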