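import Cfsg.Statements.S0666
import Mathlib
import Cfsg.Agent.Lib.Lead.FrobConj3
import Cfsg.Agent.Lib.Lead.Frobenius

set_option autoImplicit false
open Cfsg

namespace Cfsg.Agent.S0666

open Cfsg.Agent.Lib.Lead

section
variable {W : Type*} [CommGroup W]

/-- The norm argument with separate fixed-point hypotheses for the kernel and the complement. -/
theorem frob_norm_pow' {H : Type*} [Group H] [Finite H] (φ : H →* MulAut W)
    (D : Subgroup H) (hD : Cfsg.IsFrobeniusComplement D)
    (hfixK : ∀ w : W, (∀ x ∈ Cfsg.frobeniusKernel D, φ x w = w) → w = 1)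
    (hfixD : ∀ w : W, (∀ d ∈ D, φ d w = w) → w = 1) (w : W) : w ^ D.index = 1 := by
  classical
  have : Fintype H := Fintype.ofFinite H
  obtain ⟨N, hN⟩ := exists_frobData hD
  have hNmem : ∀ x : H, x ∈ N ↔ x ∈ Cfsg.frobeniusKernel D := by
    intro x
    rw [← hN.coe_eq]; rfl
  have PH : ∏ x : H, φ x w = 1 := by
    apply hfixK
    intro x _
    exact normProd_fixed φ x w
  have PN : ∏ x : N, φ (x : H) w = 1 := by
    apply hfixK
    intro x hx
    exact normProd_fixed (φ.comp N.subtype) ⟨x, (hNmem x).mpr hx⟩ w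
  have PD : ∀ (y : H) (v : W), ∏ d : D, φ (y * (d : H) * y⁻¹) v = 1 := by
    intro y v
    have h1 : ∏ d : D, φ (d : H) (φ y⁻¹ v) = 1 := by
      apply hfixD
      intro d hd
      exact normProd_fixed (φ.comp D.subtype) ⟨d, hd⟩ _
    have h2 : ∏ d : D, φ (y * (d : H) * y⁻¹) v = φ y (∏ d : D, φ (d : H) (φ y⁻¹ v)) := by
      rw [map_prod]
      refine Finset.prod_congr rfl ?_
      intro d _
      rw [map_mul, map_mul, MulAut.mul_apply, MulAut.mul_apply]
    rw [h2, h1, map_one]
  have PD' : ∀ (y : H), ∏ d : {d : D // d ≠ 1}, φ (y * ((d : D) : H) * y⁻¹) w = w⁻¹ := by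
    intro y
    have h1 := PD y w
    rw [← Finset.mul_prod_erase Finset.univ _ (Finset.mem_univ (1 : D))] at h1
    have h2 : ∏ d ∈ (Finset.univ : Finset D).erase 1, φ (y * (d : H) * y⁻¹) w
        = ∏ d : {d : D // d ≠ 1}, φ (y * ((d : D) : H) * y⁻¹) w :=
      Finset.prod_subtype _ (by intro x; simp) _
    rw [h2] at h1
    have h3 : φ (y * ((1 : D) : H) * y⁻¹) w = w := by
      rw [Subgroup.coe_one, mul_one, mul_inv_cancel, map_one, MulAut.one_apply]
    rw [h3] at h1
    exact eq_inv_of_mul_eq_one_right h1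
  have hsplit := Fintype.prod_subtype_mul_prod_subtype (fun x : H => x ∈ Cfsg.frobeniusKernel D)
    (fun x => φ x w)
  have hker : ∏ x : {x : H // x ∈ Cfsg.frobeniusKernel D}, φ (x : H) w = 1 := by
    rw [← PN]
    symm
    refine Fintype.prod_equiv (Equiv.subtypeEquivRight (fun x => ?_)) _ _ (fun x => rfl)
    rw [← hN.coe_eq]; rfl
  have hout : ∏ x : {x : H // x ∉ Cfsg.frobeniusKernel D}, φ (x : H) w = (w ^ D.index)⁻¹ := by
    have h1 : ∏ x : {x : H // x ∉ Cfsg.frobeniusKernel D}, φ (x : H) w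
        = ∏ qd : (H ⧸ D) × {d : D // d ≠ 1}, φ ((frobMap D qd : {x : H // x ∉ Cfsg.frobeniusKernel D}) : H) w := by
      symm
      exact Fintype.prod_equiv (Equiv.ofBijective _ (frobMap_bijective hD)) _ _ (fun x => rfl)
    rw [h1, Fintype.prod_prod_type]
    have h2 : ∀ q : H ⧸ D, ∏ d : {d : D // d ≠ 1},
        φ ((frobMap D (q, d) : {x : H // x ∉ Cfsg.frobeniusKernel D}) : H) w = w⁻¹ := by
      intro q
      exact PD' q.out
    rw [Finset.prod_congr rfl (fun q _ => h2 q), Finset.prod_const, Finset.card_univ, inv_pow,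
      Subgroup.index_eq_card, Nat.card_eq_fintype_card]
  rw [hker, hout, one_mul, PH] at hsplit
  exact inv_eq_one.mp hsplit

end

/-- A Frobenius group acting on a nontrivial abelian group of order prime to that of its kernel, with the kernel acting without nontrivial fixed points, has a complement with a nontrivial fixed point. -/
theorem result {G : Type*} [Group G] [Finite G] (V F : Subgroup G) (hVab : IsMulCommutative V) (hV1 : V ≠ ⊥) (hFV : F ≤ Subgroup.normalizer (V : Set G)) (H : Subgroup ↥F) (hH : Cfsg.IsFrobeniusComplement H) (hcop : (Nat.card V).Coprime (Nat.card (Cfsg.frobeniusKernel H))) (hCK : V ⊓ Subgroup.centralizer (Subtype.val '' Cfsg.frobeniusKernel H : Set G) = ⊥) : V ⊓ Subgroup.centralizer ((H.map F.subtype : Subgroup G) : Set G) ≠ ⊥ := by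
  classical
  intro hbot
  open scoped IsMulCommutative in
  have key : ∀ w : V, w ^ H.index = 1 := by
    intro w
    refine frob_norm_pow' (conjAutHom V F hFV) H hH ?_ ?_ w
    · intro v hv
      have hmem : (v : G) ∈ V ⊓ Subgroup.centralizer (Subtype.val '' Cfsg.frobeniusKernel H : Set G) := by
        refine Subgroup.mem_inf.mpr ⟨v.2, Subgroup.mem_centralizer_iff.mpr ?_⟩
        rintro _ ⟨x, hx, rfl⟩
        have h1 : ((x : F) : G) * v * ((x : F) : G)⁻¹ = v := congrArg Subtype.val (hv x hx)
        have := congrArg (· * ((x : F) : G)) h1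
        simpa using this
      rw [hCK, Subgroup.mem_bot] at hmem
      exact Subtype.ext hmem
    · intro v hv
      have hmem : (v : G) ∈ V ⊓ Subgroup.centralizer ((H.map F.subtype : Subgroup G) : Set G) := by
        refine Subgroup.mem_inf.mpr ⟨v.2, Subgroup.mem_centralizer_iff.mpr ?_⟩
        rintro _ ⟨x, hx, rfl⟩
        have h1 : ((x : F) : G) * v * ((x : F) : G)⁻¹ = v := congrArg Subtype.val (hv x hx)
        have := congrArg (· * ((x : F) : G)) h1
        simpa using this
      rw [hbot, Subgroup.mem_bot] at hmem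
      exact Subtype.ext hmem
  apply hV1
  rw [Subgroup.eq_bot_iff_forall]
  intro w hw
  have h1 := key ⟨w, hw⟩
  have h2 : orderOf (⟨w, hw⟩ : V) ∣ H.index := orderOf_dvd_of_pow_eq_one h1
  have h3 : orderOf (⟨w, hw⟩ : V) ∣ Nat.card V := orderOf_dvd_natCard _
  rw [← card_frobeniusKernel hH] at h2
  have h5 : orderOf (⟨w, hw⟩ : V) = 1 := Nat.eq_one_of_dvd_coprimes hcop h3 h2
  rw [orderOf_eq_one_iff] at h5
  exact congrArg Subtype.val h5

end Cfsg.Agent.S0666
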