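import Cfsg.Statements.S4283
import Cfsg.Agent.Lib.Lead.Frobenius2

set_option autoImplicit false

open Cfsg

namespace Cfsg.Agent.S4283

open Cfsg.Agent.Lib.Lead
open Pointwise

section

variable {G : Type*} [Group G]

/-- In a Frobenius group, the centralizer of a nontrivial element of a conjugate of the
complement lies in that conjugate. -/
theorem commute_mem_conj {H : Subgroup G} (hH : Cfsg.IsFrobeniusComplement H) {t x g : G}
    (hx1 : x ≠ 1) (hx : x ∈ MulAut.conj t • H) (hg : g * x = x * g) :
    g ∈ MulAut.conj t • H := by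
  have hb : x ∈ MulAut.conj (g * t) • H := by
    rw [mem_conj_smul_iff] at hx ⊢
    have e : (g * t)⁻¹ * x * (g * t) = t⁻¹ * (g⁻¹ * (x * g)) * t := by group
    rw [e, ← hg]
    have e2 : t⁻¹ * (g⁻¹ * (g * x)) * t = t⁻¹ * x * t := by group
    rw [e2]; exact hx
  have h := frob_mal hH hx1 hx hb
  rw [mem_conj_smul_iff]
  have e : t⁻¹ * g * t = t⁻¹ * (g * t) := by group
  rw [e]; exact h

/-- In a Frobenius group, the centralizer of a nontrivial kernel element lies in the kernel. -/
theorem commute_mem_kernel {H : Subgroup G} (hH : Cfsg.IsFrobeniusComplement H) {x g : G}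
    (hx1 : x ≠ 1) (hx : x ∈ Cfsg.frobeniusKernel H) (hg : g * x = x * g) :
    g ∈ Cfsg.frobeniusKernel H := by
  by_contra hgk
  obtain ⟨hg1, t, ht⟩ := not_mem_frobeniusKernel_iff.mp hgk
  have hxt : x ∈ MulAut.conj t • H := commute_mem_conj hH hg1 ht hg.symm
  rcases hx with hx | hx
  · exact hx1 hx
  · exact hx t hxt

theorem index_conj_smul [Finite G] (H : Subgroup G) (t : G) : (MulAut.conj t • H).index = H.index := by
  rw [Subgroup.pointwise_smul_def]
  exact Subgroup.index_map_equiv H (MulAut.conj t)

end

theorem result {G : Type*} [Group G] [Finite G] (K H : Subgroup G) (hZK : Subgroup.center G ≤ K) (hZH : Subgroup.center G ≤ H) (hK : IsMulCommutative K) (hH : IsMulCommutative H) (hFrob : Cfsg.IsFrobeniusComplement (H.map (QuotientGroup.mk' (Subgroup.center G)))) (hker : Cfsg.frobeniusKernel (H.map (QuotientGroup.mk' (Subgroup.center G))) = (K.map (QuotientGroup.mk' (Subgroup.center G)) : Set (G ⧸ Subgroup.center G))) : Set.range (fun x : G => (Subgroup.centralizer ({x} : Set G)).index) = ({1, K.index, H.index} : Set ℕ) ∧ K.index.Coprime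 H.index := by
  obtain ⟨Z, hZ⟩ : ∃ Z : Subgroup G, Z = Subgroup.center G := ⟨_, rfl⟩
  have hZn : Z.Normal := by rw [hZ]; infer_instance
  -- membership in the images
  have memH : ∀ x : G, (QuotientGroup.mk' (Subgroup.center G)) x ∈ H.map (QuotientGroup.mk' (Subgroup.center G)) ↔ x ∈ H := by
    intro x
    constructor
    · rintro ⟨h, hh, hhx⟩
      have : h⁻¹ * x ∈ Subgroup.center G := by
        rw [← QuotientGroup.eq]; exact hhx
      have h2 : h * (h⁻¹ * x) ∈ H := H.mul_mem hh (hZH this)
      simpa using h2
    · intro hx; exact ⟨x, hx, rfl⟩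
  have memK : ∀ x : G, (QuotientGroup.mk' (Subgroup.center G)) x ∈ K.map (QuotientGroup.mk' (Subgroup.center G)) ↔ x ∈ K := by
    intro x
    constructor
    · rintro ⟨h, hh, hhx⟩
      have : h⁻¹ * x ∈ Subgroup.center G := by
        rw [← QuotientGroup.eq]; exact hhx
      have h2 : h * (h⁻¹ * x) ∈ K := K.mul_mem hh (hZK this)
      simpa using h2
    · intro hx; exact ⟨x, hx, rfl⟩
  have memker : ∀ x : G, (QuotientGroup.mk' (Subgroup.center G)) x ∈ Cfsg.frobeniusKernel (H.map (QuotientGroup.mk' (Subgroup.center G))) ↔ x ∈ K := by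
    intro x
    rw [hker]
    exact memK x
  have mk_eq_one : ∀ x : G, (QuotientGroup.mk' (Subgroup.center G)) x = 1 ↔ x ∈ Subgroup.center G := by
    intro x
    exact QuotientGroup.eq_one_iff x
  have commK : ∀ a ∈ K, ∀ b ∈ K, a * b = b * a := by
    intro a ha b hb
    have := hK.is_comm.comm (⟨a, ha⟩ : K) ⟨b, hb⟩
    exact congrArg Subtype.val this
  have commH : ∀ a ∈ H, ∀ b ∈ H, a * b = b * a := by
    intro a ha b hb
    have := hH.is_comm.comm (⟨a, ha⟩ : H) ⟨b, hb⟩
    exact congrArg Subtype.val this
  -- case (a)
  have caseZ : ∀ x : G, x ∈ Subgroup.center G → (Subgroup.centralizer ({x} : Set G)).index = 1 := by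
    intro x hx
    have : Subgroup.centralizer ({x} : Set G) = ⊤ := by
      rw [eq_top_iff]
      intro g _
      rw [Subgroup.mem_centralizer_iff]
      intro y hy
      rw [Set.mem_singleton_iff] at hy
      subst hy
      exact (Subgroup.mem_center_iff.mp hx g).symm
    rw [this, Subgroup.index_top]
  -- case (b)
  have caseK : ∀ x : G, x ∉ Subgroup.center G → x ∈ K → (Subgroup.centralizer ({x} : Set G)).index = K.index := by
    intro x hxZ hxK
    have : Subgroup.centralizer ({x} : Set G) = K := by
      ext g
      rw [Subgroup.mem_centralizer_iff]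
      constructor
      · intro hg
        have hgx : x * g = g * x := hg x rfl
        rw [← memker]
        apply commute_mem_kernel hFrob (x := (QuotientGroup.mk' (Subgroup.center G)) x)
        · intro h; exact hxZ ((mk_eq_one x).mp h)
        · exact (memker x).mpr hxK
        · rw [← map_mul, ← map_mul, hgx]
      · intro hg y hy
        rw [Set.mem_singleton_iff] at hy
        subst hy
        exact commK y hxK g hg
    rw [this]
  -- case (c)
  have caseH : ∀ x : G, x ∉ K → (Subgroup.centralizer ({x} : Set G)).index = H.index := by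
    intro x hxK
    have hxk : (QuotientGroup.mk' (Subgroup.center G)) x ∉ Cfsg.frobeniusKernel (H.map (QuotientGroup.mk' (Subgroup.center G))) := by
      rw [memker]; exact hxK
    obtain ⟨hx1, tb, htb⟩ := not_mem_frobeniusKernel_iff.mp hxk
    obtain ⟨t, rfl⟩ := QuotientGroup.mk'_surjective (Subgroup.center G) tb
    have hxt : t⁻¹ * x * t ∈ H := by
      rw [← memH]
      have := mem_conj_smul_iff.mp htb
      simpa using this
    have : Subgroup.centralizer ({x} : Set G) = MulAut.conj t • H := by
      ext g
      rw [Subgroup.mem_centralizer_iff, mem_conj_smul_iff]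
      constructor
      · intro hg
        have hgx : x * g = g * x := hg x rfl
        rw [← memH]
        have h1 : (QuotientGroup.mk' (Subgroup.center G)) g ∈ MulAut.conj ((QuotientGroup.mk' (Subgroup.center G)) t) • (H.map (QuotientGroup.mk' (Subgroup.center G))) := by
          apply commute_mem_conj hFrob hx1 htb
          rw [← map_mul, ← map_mul, hgx]
        have := mem_conj_smul_iff.mp h1
        simpa using this
      · intro hg y hy
        rw [Set.mem_singleton_iff] at hy
        subst hy
        have h1 := commH _ hxt _ hg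
        have e1 : y * g = t * ((t⁻¹ * y * t) * (t⁻¹ * g * t)) * t⁻¹ := by group
        have e2 : g * y = t * ((t⁻¹ * g * t) * (t⁻¹ * y * t)) * t⁻¹ := by group
        rw [e1, e2, h1]
    rw [this, index_conj_smul]
  -- cardinalities
  have hsurj : Function.Surjective (QuotientGroup.mk' (Subgroup.center G)) := QuotientGroup.mk'_surjective _
  have hKi : (K.map (QuotientGroup.mk' (Subgroup.center G))).index = K.index := by
    apply Subgroup.index_map_eq _ hsurj
    rw [QuotientGroup.ker_mk']
    exact hZK
  have hHi : (H.map (QuotientGroup.mk' (Subgroup.center G))).index = H.index := by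
    apply Subgroup.index_map_eq _ hsurj
    rw [QuotientGroup.ker_mk']
    exact hZH
  have hcardK : Nat.card (K.map (QuotientGroup.mk' (Subgroup.center G))) = (H.map (QuotientGroup.mk' (Subgroup.center G))).index := by
    rw [← card_frobeniusKernel hFrob, hker]
    rfl
  have hmod := index_mod_card hFrob
  have hKiH : K.index = Nat.card (H.map (QuotientGroup.mk' (Subgroup.center G))) := by
    rw [← hKi]
    have h1 := Subgroup.index_mul_card (K.map (QuotientGroup.mk' (Subgroup.center G)))
    have h2 := Subgroup.index_mul_card (H.map (QuotientGroup.mk' (Subgroup.center G)))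
    rw [hcardK] at h1
    have hpos : 0 < (H.map (QuotientGroup.mk' (Subgroup.center G))).index := by
      have := Subgroup.index_ne_zero_of_finite (H := H.map (QuotientGroup.mk' (Subgroup.center G)))
      omega
    have : (K.map (QuotientGroup.mk' (Subgroup.center G))).index * (H.map (QuotientGroup.mk' (Subgroup.center G))).index =
        Nat.card (H.map (QuotientGroup.mk' (Subgroup.center G))) * (H.map (QuotientGroup.mk' (Subgroup.center G))).index := by
      rw [h1, mul_comm, h2]
    exact Nat.eq_of_mul_eq_mul_right hpos this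
  refine ⟨?_, ?_⟩
  · ext n
    simp only [Set.mem_range, Set.mem_insert_iff, Set.mem_singleton_iff]
    constructor
    · rintro ⟨x, rfl⟩
      by_cases hxK : x ∈ K
      · by_cases hxZ : x ∈ Subgroup.center G
        · left; exact caseZ x hxZ
        · right; left; exact caseK x hxZ hxK
      · right; right; exact caseH x hxK
    · rintro (rfl | rfl | rfl)
      · exact ⟨1, caseZ 1 (Subgroup.one_mem _)⟩
      · -- exists x ∈ K \ Z
        by_cases hKZ : K ≤ Subgroup.center G
        · exfalso
          have : K.map (QuotientGroup.mk' (Subgroup.center G)) = ⊥ := by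
            rw [eq_bot_iff]
            rintro _ ⟨k, hk, rfl⟩
            rw [Subgroup.mem_bot]
            exact (mk_eq_one k).mpr (hKZ hk)
          rw [this, Subgroup.card_bot] at hcardK
          exact hFrob.2.1 (Subgroup.index_eq_one.mp hcardK.symm)
        · obtain ⟨x, hxK, hxZ⟩ := SetLike.not_le_iff_exists.mp hKZ
          exact ⟨x, caseK x hxZ hxK⟩
      · -- exists x ∈ H \ Z
        have hHb := hFrob.1
        rw [Ne, Subgroup.eq_bot_iff_forall] at hHb
        push Not at hHb
        obtain ⟨xb, hxb, hxb1⟩ := hHb
        obtain ⟨x, hxH, rfl⟩ := hxb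
        refine ⟨x, caseH x ?_⟩
        intro hxK
        have h1 := (memker x).mpr hxK
        rcases h1 with h1 | h1
        · exact hxb1 h1
        · apply h1 1
          rw [mem_conj_smul_iff]
          simpa using (memH x).mpr hxH
  · rw [hKiH, ← hHi]
    have hc : Nat.card (H.map (QuotientGroup.mk' (Subgroup.center G))) ≠ 0 := Nat.card_pos.ne'
    rw [Nat.coprime_comm]
    -- index ≡ 1 mod card
    obtain ⟨m, hm⟩ : ∃ m, m = Nat.card (H.map (QuotientGroup.mk' (Subgroup.center G))) := ⟨_, rfl⟩
    obtain ⟨i, hi⟩ : ∃ i, i = (H.map (QuotientGroup.mk' (Subgroup.center G))).index := ⟨_, rfl⟩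
    rw [← hm, ← hi] at hmod ⊢
    rw [← hm] at hc
    have h1 : Nat.gcd m i = Nat.gcd (i % m) m := Nat.gcd_rec m i
    have h2 : Nat.gcd m 1 = Nat.gcd (1 % m) m := Nat.gcd_rec m 1
    unfold Nat.Coprime
    rw [Nat.gcd_comm, h1, hmod, ← h2, Nat.gcd_one_right]

end Cfsg.Agent.S4283
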