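import Cfsg.Statements.S5132
import Mathlib
import Cfsg.Agent.Lib.Helper9.FusionFactor

set_option autoImplicit false
open Cfsg Cfsg.FusionSystem Cfsg.Agent.Lib.Helper9

namespace Cfsg.Agent.S5132

variable {Ω : Type*} [Group Ω] {S : Subgroup Ω} {Ω' : Type*} [Group Ω']

/-- The candidate maps of the factor system with source `P'`. -/
def factorHom (F : Cfsg.FusionSystem S) (θ : S →* Ω') (P' : Subgroup Ω') : Set (P' →* Ω') :=
  {φ' | ∃ φ ∈ F.Hom (preimageAlong θ P'), InducedAlong θ φ φ'}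

section

variable [Finite S] (F : Cfsg.FusionSystem S) (S₀ : Subgroup Ω) (hS₀ : F.StronglyClosed S₀) (θ : S →* Ω')
  (hker : ∀ s : S, θ s = 1 ↔ (s : Ω) ∈ S₀) (hsurj : Function.Surjective θ)

include hS₀ hker hsurj

theorem injective_aux {P' : Subgroup Ω'} {φ' : P' →* Ω'} (h : φ' ∈ factorHom F θ P') :
    Function.Injective φ' := by
  obtain ⟨φ, hφ, hind⟩ := h
  rw [injective_iff_map_eq_one]
  rintro ⟨z', hz'⟩ hz
  obtain ⟨s, rfl⟩ := hsurj z'
  have hsP : (s : Ω) ∈ preimageAlong θ P' := (mem_preimageAlong_iff θ P' s).mpr ⟨s.2, hz'⟩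
  have hφS : φ ⟨s, hsP⟩ ∈ S := (F.le_of_mem hφ).2 _
  have h1 := inducedAlong_apply hind ⟨s, hsP⟩ s.2 hz' hφS
  rw [hz] at h1
  have h2 : φ ⟨s, hsP⟩ ∈ S₀ := (hker ⟨_, hφS⟩).mp h1.symm
  have h3 : (s : Ω) ∈ S₀ :=
    (fs_stronglyClosed_mem_iff F hS₀ hφ (ker_le_preimageAlong θ P' hS₀.1 hker) ⟨s, hsP⟩).mp h2
  apply Subtype.ext
  exact (hker s).mpr h3

theorem conj_mem_aux {P' : Subgroup Ω'} (g' : Ω') : conjHom P' g' ∈ factorHom F θ P' := by
  obtain ⟨g, rfl⟩ := hsurj g'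
  have hPS := preimageAlong_le θ P'
  refine ⟨conjHom (preimageAlong θ P') (g : Ω), F.conj_mem hPS g.2, hPS, ?_, ?_, ?_⟩
  · intro x
    exact S.mul_mem (S.mul_mem g.2 (hPS x.2)) (S.inv_mem g.2)
  · intro x
    exact apply_mem_of_mem_preimageAlong θ P' x
  · intro x
    show θ g * θ ⟨x, _⟩ * (θ g)⁻¹ = θ ⟨(g : Ω) * x * (g : Ω)⁻¹, _⟩
    rw [← map_inv, ← map_mul, ← map_mul]
    rfl

theorem comp_mem_aux {P' Q' : Subgroup Ω'} {φ' : P' →* Ω'} {ψ' : Q' →* Ω'} (hφ' : φ' ∈ factorHom F θ P')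
    (hψ' : ψ' ∈ factorHom F θ Q') (h : ∀ x : P', φ' x ∈ Q') :
    ψ'.comp (φ'.codRestrict Q' h) ∈ factorHom F θ P' := by
  obtain ⟨φ, hφ, hindφ⟩ := hφ'
  obtain ⟨ψ, hψ, hindψ⟩ := hψ'
  have hPS := preimageAlong_le θ P'
  have hφS : ∀ x : preimageAlong θ P', φ x ∈ S := (F.le_of_mem hφ).2
  have hφQ : ∀ x : preimageAlong θ P', φ x ∈ preimageAlong θ Q' := by
    intro x
    rw [mem_preimageAlong_iff]
    refine ⟨hφS x, ?_⟩
    rw [← inducedAlong_apply hindφ x (hPS x.2) (apply_mem_of_mem_preimageAlong θ P' x) (hφS x)]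
    exact h _
  refine ⟨ψ.comp (φ.codRestrict _ hφQ), F.comp_mem hφ hψ hφQ, hPS, fun x => (F.le_of_mem hψ).2 _,
    fun x => apply_mem_of_mem_preimageAlong θ P' x, ?_⟩
  intro x
  show ψ' ⟨φ' ⟨θ ⟨x, _⟩, _⟩, _⟩ = θ ⟨ψ ⟨φ x, _⟩, _⟩
  have e1 := inducedAlong_apply hindφ x (hPS x.2) (apply_mem_of_mem_preimageAlong θ P' x) (hφS x)
  have hx2 : θ ⟨φ x, hφS x⟩ ∈ Q' := ((mem_preimageAlong_iff θ Q' _).mp (hφQ x)).2
  have e2 := inducedAlong_apply hindψ ⟨φ x, hφQ x⟩ (hφS x) hx2 ((F.le_of_mem hψ).2 _)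
  rw [← e2]
  congr 1
  apply Subtype.ext
  exact e1

theorem inv_mem_aux {P' : Subgroup Ω'} {φ' : P' →* Ω'} (hφ' : φ' ∈ factorHom F θ P') :
    ∃ ψ' ∈ factorHom F θ φ'.range, ∀ x : P', ψ' ⟨φ' x, ⟨x, rfl⟩⟩ = (x : Ω') := by
  have hinj := injective_aux F S₀ hS₀ θ hker hsurj hφ'
  obtain ⟨φ, hφ, hindφ⟩ := hφ'
  obtain ⟨χ, hχ, hχφ⟩ := F.inv_mem hφ
  have hPS := preimageAlong_le θ P'
  have hφS : ∀ x : preimageAlong θ P', φ x ∈ S := (F.le_of_mem hφ).2
  have hS₀P : S₀ ≤ preimageAlong θ P' := ker_le_preimageAlong θ P' hS₀.1 hker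
  -- the preimage of the image of φ' is the image of φ
  have hR : preimageAlong θ φ'.range ≤ φ.range := by
    intro r hr
    obtain ⟨hrS, x', hx'⟩ := (mem_preimageAlong_iff θ φ'.range r).mp hr
    obtain ⟨s, hs⟩ := hsurj x'
    have hsP : (s : Ω) ∈ preimageAlong θ P' := (mem_preimageAlong_iff θ P' s).mpr ⟨s.2, by rw [hs]; exact x'.2⟩
    have e1 := inducedAlong_apply hindφ ⟨s, hsP⟩ s.2 (by rw [hs]; exact x'.2) (hφS _)
    have e2 : φ' x' = θ ⟨φ ⟨s, hsP⟩, hφS _⟩ := by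
      rw [← e1]
      congr 1
      apply Subtype.ext
      exact hs.symm
    -- (φ s)⁻¹ * r ∈ S₀
    have h3 : θ (⟨φ ⟨s, hsP⟩, hφS _⟩⁻¹ * ⟨r, hrS⟩) = 1 := by
      rw [map_mul, map_inv, ← e2, hx', inv_mul_cancel]
    have h4 : (φ ⟨s, hsP⟩)⁻¹ * r ∈ S₀ := (hker _).mp h3
    -- S₀ = φ(S₀)
    obtain ⟨t, ht⟩ : ∃ t : preimageAlong θ P', φ t = (φ ⟨s, hsP⟩)⁻¹ * r := by
      have hTfin : Finite S₀ :=
        Finite.of_injective (Subgroup.inclusion hS₀.1) (Subgroup.inclusion_injective hS₀.1)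
      let f : S₀ → S₀ := fun t => ⟨φ ⟨t, hS₀P t.2⟩, fs_stronglyClosed_mem F hS₀ hφ ⟨t, hS₀P t.2⟩ t.2⟩
      have hfinj : Function.Injective f := by
        intro a b hab
        have h1 : φ ⟨a, hS₀P a.2⟩ = φ ⟨b, hS₀P b.2⟩ := congrArg Subtype.val hab
        have h2 := F.injective_of_mem hφ h1
        exact Subtype.ext (congrArg (fun t : preimageAlong θ P' => (t : Ω)) h2)
      obtain ⟨t, ht⟩ := Finite.surjective_of_injective hfinj ⟨_, h4⟩
      exact ⟨⟨t, hS₀P t.2⟩, congrArg Subtype.val ht⟩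
    refine ⟨⟨s, hsP⟩ * t, ?_⟩
    rw [map_mul, ht]
    group
  have hχ' := fs_restrict_mem F hχ hR
  -- the inverse of φ' on its image
  let e : P' ≃* φ'.range := MulEquiv.ofBijective φ'.rangeRestrict
    ⟨MonoidHom.rangeRestrict_injective_iff.mpr hinj, φ'.rangeRestrict_surjective⟩
  have he : ∀ x : P', e.symm ⟨φ' x, ⟨x, rfl⟩⟩ = x := by
    intro x
    apply e.injective
    rw [MulEquiv.apply_symm_apply]
    rfl
  refine ⟨P'.subtype.comp e.symm.toMonoidHom, ⟨χ.comp (Subgroup.inclusion hR), hχ',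
    preimageAlong_le θ _, fun x => (F.le_of_mem hχ').2 x,
    fun x => apply_mem_of_mem_preimageAlong θ _ x, ?_⟩, fun x => by simp [he]⟩
  intro r
  obtain ⟨x, hx⟩ := hR r.2
  have hrS : (r : Ω) ∈ S := preimageAlong_le θ _ r.2
  have e1 := inducedAlong_apply hindφ x (hPS x.2) (apply_mem_of_mem_preimageAlong θ P' x) (hφS x)
  have h1 : (⟨θ ⟨r, hrS⟩, apply_mem_of_mem_preimageAlong θ _ r⟩ : φ'.range) =
      ⟨φ' ⟨θ ⟨x, hPS x.2⟩, apply_mem_of_mem_preimageAlong θ P' x⟩, ⟨_, rfl⟩⟩ := by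
    apply Subtype.ext
    show θ ⟨r, hrS⟩ = φ' ⟨θ ⟨x, hPS x.2⟩, apply_mem_of_mem_preimageAlong θ P' x⟩
    rw [e1]
    congr 1
    apply Subtype.ext
    exact hx.symm
  show ((e.symm ⟨θ ⟨r, hrS⟩, _⟩ : P') : Ω') = θ ⟨χ (Subgroup.inclusion hR r), _⟩
  rw [h1, he]
  have h2 : χ (Subgroup.inclusion hR r) = x := by
    rw [← hχφ x]
    congr 1
    apply Subtype.ext
    exact hx.symm
  show θ ⟨x, _⟩ = θ ⟨χ (Subgroup.inclusion hR r), _⟩
  congr 1
  apply Subtype.ext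
  exact h2.symm

end

/-- Let F be a fusion system over a finite p-group S and S₀ a subgroup strongly closed in F (so S₀ is normal in S; the normality of S₀ ∩ S in S is supplied as an instance hypothesis so that the quotient can be written). Then the factor system F/S₀ exists: there is a fusion system over S/S₀ whose maps with source a subgroup P' of S/S₀ are exactly the homomorphisms induced along the quotient map by the maps of F whose source is the full preimage of P' in S. -/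
theorem result {Ω : Type*} [Group Ω] {S : Subgroup Ω} [Finite S] (p : ℕ) [Fact p.Prime] (hS : IsPGroup p S) (F : Cfsg.FusionSystem S) (S₀ : Subgroup Ω) (hS₀ : F.StronglyClosed S₀) [(S₀.subgroupOf S).Normal] : ∃ E : Cfsg.FusionSystem (⊤ : Subgroup (S ⧸ S₀.subgroupOf S)), F.IsFactorSystem S₀ (QuotientGroup.mk' (S₀.subgroupOf S)) E := by
  have hker : ∀ s : S, (QuotientGroup.mk' (S₀.subgroupOf S)) s = 1 ↔ (s : Ω) ∈ S₀ := by
    intro s
    rw [QuotientGroup.mk'_apply, QuotientGroup.eq_one_iff, Subgroup.mem_subgroupOf]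
  have hsurj : Function.Surjective (QuotientGroup.mk' (S₀.subgroupOf S)) := QuotientGroup.mk'_surjective _
  refine ⟨{ Hom := fun P' => factorHom F (QuotientGroup.mk' (S₀.subgroupOf S)) P'
            le_of_mem := fun _ => ⟨le_top, fun _ => Subgroup.mem_top _⟩
            injective_of_mem := fun h => injective_aux F S₀ hS₀ _ hker hsurj h
            conj_mem := fun _ _ => conj_mem_aux F S₀ hS₀ _ hker hsurj _
            comp_mem := fun hφ hψ h => comp_mem_aux F S₀ hS₀ _ hker hsurj hφ hψ h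
            inv_mem := fun hφ => inv_mem_aux F S₀ hS₀ _ hker hsurj hφ }, hS₀.1, hker, ?_, ?_⟩
  · rw [MonoidHom.range_eq_top]
    exact hsurj
  · intro P' φ'
    exact ⟨fun h => ⟨le_top, h⟩, fun h => h.2⟩

end Cfsg.Agent.S5132
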