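import Mathlib
import Cfsg.Statements.S5134
import Cfsg.Agent.Lib.Helper9.FusionLift3
import Cfsg.Agent.Lib.Helper9.FusionFactor

set_option autoImplicit false
open Cfsg

namespace Cfsg.Agent.S5134

open Cfsg.Agent.Lib.Helper9 Cfsg.FusionSystem in
/-- Let F be a saturated fusion system over a finite p-group S, S₀ a subgroup strongly closed in F, and E the factor system of F modulo S₀ read through θ (a homomorphism on S with kernel S₀ and image the group of E). Then θ is a surjective morphism of fusion systems from F onto E: in particular every map of F, and not only the maps whose source contains S₀, induces along θ a map of E. -/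
theorem result {Ω : Type*} [Group Ω] {S : Subgroup Ω} [Finite S] (p : ℕ) [Fact p.Prime] (hS : IsPGroup p S) (F : Cfsg.FusionSystem S) (hF : F.IsSaturated p) (S₀ : Subgroup Ω) (hS₀ : F.StronglyClosed S₀) {Ω' : Type*} [Group Ω'] {S' : Subgroup Ω'} (θ : S →* Ω') (E : Cfsg.FusionSystem S') (hE : F.IsFactorSystem S₀ θ E) : F.IsSurjectiveMorphism E θ := by
  obtain ⟨hS₀S, hker, hrange, hhom⟩ := hE
  have hθS' : ∀ s : S, θ s ∈ S' := fun s => hrange ▸ ⟨s, rfl⟩
  refine ⟨⟨hθS', ?_⟩, hrange, fun P' hP' φ' hφ' => ((hhom P' φ').mp hφ').2⟩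
  intro P φ hφ
  have hPS : P ≤ S := (F.le_of_mem hφ).1
  have hφS : ∀ x : P, φ x ∈ S := (F.le_of_mem hφ).2
  obtain ⟨ψ, hψ, Hψ⟩ := fs_exists_lift p hS F hF S₀ hS₀ hφ
  -- the preimage of the image lies in `P ⊔ S₀`
  have hle : preimageAlong θ (imageAlong θ P) ≤ P ⊔ S₀ := by
    intro x hx
    rw [mem_preimageAlong_iff] at hx
    obtain ⟨hxS, y, hy, hyx⟩ := hx
    have hyP : (y : Ω) ∈ P := hy
    have h1 : θ (y⁻¹ * ⟨x, hxS⟩) = 1 := by rw [map_mul, map_inv, hyx, inv_mul_cancel]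
    have h2 : ((y⁻¹ * ⟨x, hxS⟩ : S) : Ω) ∈ S₀ := (hker _).mp h1
    have e : x = (y : Ω) * ((y⁻¹ * ⟨x, hxS⟩ : S) : Ω) := by
      show x = (y : Ω) * ((y : Ω)⁻¹ * x)
      rw [mul_inv_cancel_left]
    rw [e]
    exact Subgroup.mul_mem _ (Subgroup.mem_sup_left hyP) (Subgroup.mem_sup_right h2)
  have hφt := fs_restrict_mem F hψ hle
  have hφtS : ∀ x : preimageAlong θ (imageAlong θ P), (ψ.comp (Subgroup.inclusion hle)) x ∈ S :=
    (F.le_of_mem hφt).2
  -- the surjection onto the image and the map to lift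
  let π : preimageAlong θ (imageAlong θ P) →* imageAlong θ P :=
    { toFun := fun x => ⟨θ ⟨x, preimageAlong_le θ _ x.2⟩, apply_mem_of_mem_preimageAlong θ _ x⟩
      map_one' := by
        apply Subtype.ext
        exact map_one θ
      map_mul' := by
        intro a b
        apply Subtype.ext
        exact map_mul θ ⟨a, preimageAlong_le θ _ a.2⟩ ⟨b, preimageAlong_le θ _ b.2⟩ }
  have hπ : Function.Surjective π := by
    rintro ⟨_, y, hy, rfl⟩
    have hyP : (y : Ω) ∈ P := hy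
    have hmem : (y : Ω) ∈ preimageAlong θ (imageAlong θ P) := by
      rw [mem_preimageAlong_iff]
      exact ⟨y.2, y, hy, rfl⟩
    exact ⟨⟨y, hmem⟩, Subtype.ext rfl⟩
  let g : preimageAlong θ (imageAlong θ P) →* Ω' :=
    { toFun := fun x => θ ⟨(ψ.comp (Subgroup.inclusion hle)) x, hφtS x⟩
      map_one' := by
        have : (⟨(ψ.comp (Subgroup.inclusion hle)) 1, hφtS 1⟩ : S) = 1 := Subtype.ext (map_one _)
        rw [this, map_one]
      map_mul' := by
        intro a b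
        have : (⟨(ψ.comp (Subgroup.inclusion hle)) (a * b), hφtS (a * b)⟩ : S) =
            ⟨(ψ.comp (Subgroup.inclusion hle)) a, hφtS a⟩ * ⟨(ψ.comp (Subgroup.inclusion hle)) b, hφtS b⟩ :=
          Subtype.ext (map_mul _ a b)
        rw [this, map_mul] }
  have hkerle : π.ker ≤ g.ker := by
    intro x hx
    rw [MonoidHom.mem_ker] at hx ⊢
    have h1 : θ ⟨x, preimageAlong_le θ _ x.2⟩ = 1 := congrArg Subtype.val hx
    have h2 : (x : Ω) ∈ S₀ := (hker _).mp h1
    have h3 : (ψ.comp (Subgroup.inclusion hle)) x ∈ S₀ := fs_stronglyClosed_mem F hS₀ hφt x h2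
    exact (hker ⟨_, hφtS x⟩).mpr h3
  obtain ⟨φ', hφ'⟩ : ∃ φ' : imageAlong θ P →* Ω', ∀ x, φ' (π x) = g x :=
    ⟨π.liftOfRightInverse (Function.surjInv hπ) (Function.rightInverse_surjInv hπ) ⟨g, hkerle⟩,
      fun x => MonoidHom.liftOfRightInverse_comp_apply _ _ _ ⟨g, hkerle⟩ x⟩
  have hP'S' : imageAlong θ P ≤ S' := by
    rintro _ ⟨y, -, rfl⟩
    exact hθS' y
  refine ⟨φ', (hhom _ φ').mpr ⟨hP'S', ψ.comp (Subgroup.inclusion hle), hφt, ?_⟩, ?_⟩
  · exact ⟨preimageAlong_le θ _, hφtS, fun x => apply_mem_of_mem_preimageAlong θ _ x, fun x => hφ' x⟩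
  · have hP' : ∀ x : P, θ ⟨x, hPS x.2⟩ ∈ imageAlong θ P := fun x => ⟨⟨x, hPS x.2⟩, x.2, rfl⟩
    refine ⟨hPS, hφS, hP', fun x => ?_⟩
    have hmem : (x : Ω) ∈ preimageAlong θ (imageAlong θ P) := by
      rw [mem_preimageAlong_iff]
      exact ⟨hPS x.2, hP' x⟩
    have h1 := hφ' ⟨x, hmem⟩
    have h2 : π ⟨x, hmem⟩ = ⟨θ ⟨x, hPS x.2⟩, hP' x⟩ := Subtype.ext rfl
    rw [h2] at h1
    rw [h1]
    show θ ⟨ψ (Subgroup.inclusion hle ⟨x, hmem⟩), _⟩ = θ ⟨φ x, hφS x⟩
    have h3 : Subgroup.inclusion hle ⟨x, hmem⟩ = Subgroup.inclusion le_sup_left x := Subtype.ext rfl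
    have h4 := Hψ x
    have hψS : ψ (Subgroup.inclusion le_sup_left x) ∈ S := (F.le_of_mem hψ).2 _
    have h5 : θ ((⟨φ x, hφS x⟩ : S)⁻¹ * ⟨ψ (Subgroup.inclusion le_sup_left x), hψS⟩) = 1 :=
      (hker _).mpr h4
    rw [map_mul, map_inv, inv_mul_eq_one] at h5
    rw [h5]
    congr 1

end Cfsg.Agent.S5134
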