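import Mathlib
import Cfsg.Statements.S3559
import Cfsg.Agent.Lib.Helper7.SchurRing5

set_option autoImplicit false
open Cfsg

namespace Cfsg.Agent.S3559

open Cfsg.Agent.Lib.Helper7.SchurRing

/-- Let G act faithfully and transitively on a finite set whose number of points n ≥ 2 is not a prime power, and suppose G has a cyclic subgroup acting regularly (transitively with trivial point stabilizers). Then G is imprimitive or doubly transitive. -/
theorem result {G Ω : Type*} [Group G] [Finite G] [MulAction G Ω] [FaithfulSMul G Ω] [Finite Ω]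
    (htrans : MulAction.IsPretransitive G Ω) (hn : 2 ≤ Nat.card Ω) (hnp : ¬ IsPrimePow (Nat.card Ω))
    (C : Subgroup G) (hcyc : IsCyclic ↥C) (hC : MulAction.IsPretransitive ↥C Ω ∧ ∀ a : Ω, MulAction.stabilizer ↥C a = ⊥) :
    ¬ MulAction.IsPreprimitive G Ω ∨ MulAction.IsMultiplyPretransitive G Ω 2 := by
  by_cases hprim : MulAction.IsPreprimitive G Ω
  · right
    haveI : Nonempty Ω := by
      rw [← Finite.card_pos_iff]
      omega
    have hn1 : Nat.card Ω ≠ 1 := by omega
    have hp : (Nat.card Ω).minFac.Prime := Nat.minFac_prime hn1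
    haveI : Fact (Nat.card Ω).minFac.Prime := ⟨hp⟩
    have hpn : (Nat.card Ω).minFac ∣ Nat.card Ω := Nat.minFac_dvd _
    obtain ⟨ω₀⟩ := ‹Nonempty Ω›
    have hr := isReg_subtype C hC ω₀
    have hcard : Nat.card ↥C = Nat.card Ω := Nat.card_congr hr.equiv
    have hcomm : ∀ a b : ↥C, a * b = b * a := by
      intro a b
      letI : CommGroup ↥C := IsCyclic.commGroup
      exact mul_comm a b
    apply two_transitive_of_subgroup hprim C hcomm hC (Nat.card Ω).minFac
    · letI : CommGroup ↥C := IsCyclic.commGroup
      have := IsCyclic.card_powMonoidHom_ker (G := ↥C) (Nat.card Ω).minFac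
      rw [hcard, Nat.gcd_eq_right hpn] at this
      refine Eq.trans ?_ this
      apply Nat.card_congr
      apply Equiv.subtypeEquivRight
      intro c
      rw [MonoidHom.mem_ker, powMonoidHom_apply]
    · intro h
      apply hnp
      rw [h]
      exact hp.isPrimePow
  · left; exact hprim

end Cfsg.Agent.S3559
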