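import Mathlib
import Cfsg.Statements.S0662
import Cfsg.Agent.Lib.Lead.Frattini

set_option autoImplicit false
open Cfsg

namespace Cfsg.Agent.S0662

section
variable {G : Type*} [Group G]

theorem lcs_stable {i : ℕ}
    (h : (⊤ : Subgroup G).lowerCentralSeries (i + 1) = (⊤ : Subgroup G).lowerCentralSeries i)
    (k : ℕ) :
    (⊤ : Subgroup G).lowerCentralSeries (i + k) = (⊤ : Subgroup G).lowerCentralSeries i := by
  induction k with
  | zero => rfl
  | succ k ih =>
    rw [← add_assoc, Subgroup.lowerCentralSeries_succ, ih, ← Subgroup.lowerCentralSeries_succ, h]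

theorem lcs_lt [Group.IsNilpotent G] {i : ℕ}
    (h : (⊤ : Subgroup G).lowerCentralSeries i ≠ ⊥) :
    (⊤ : Subgroup G).lowerCentralSeries (i + 1) < (⊤ : Subgroup G).lowerCentralSeries i := by
  refine lt_of_le_of_ne (Subgroup.lowerCentralSeries_antitone _ (Nat.le_succ i)) ?_
  intro heq
  apply h
  rw [← lcs_stable heq (Group.nilpotencyClass G), eq_bot_iff]
  exact (Subgroup.lowerCentralSeries_antitone _ (Nat.le_add_left _ _)).trans
    (Subgroup.lowerCentralSeries_nilpotencyClass (G := G)).le

theorem card_step [Finite G] {p : ℕ} [Fact p.Prime] (hG : IsPGroup p G) {H K : Subgroup G}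
    (hlt : H < K) : p * Nat.card H ≤ Nat.card K := by
  obtain ⟨a, ha⟩ := IsPGroup.iff_card.mp (hG.to_subgroup H)
  obtain ⟨b, hb⟩ := IsPGroup.iff_card.mp (hG.to_subgroup K)
  have hdvd : Nat.card H ∣ Nat.card K := Subgroup.card_dvd_of_le hlt.le
  have hp := (Fact.out : p.Prime)
  have hne : a ≠ b := by
    intro hab'
    have : H = K := Subgroup.eq_of_le_of_card_ge hlt.le (by rw [ha, hb, hab'])
    exact hlt.ne this
  rw [ha, hb] at hdvd ⊢
  have hab : a ≤ b := (Nat.pow_dvd_pow_iff_le_right hp.one_lt).mp hdvd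
  have : a + 1 ≤ b := by omega
  calc p * p ^ a = p ^ (a + 1) := by ring
    _ ≤ p ^ b := Nat.pow_le_pow_right hp.pos this

theorem commutator_eq_bot_of_isCyclic_quotient [Finite G] {p : ℕ} [Fact p.Prime]
    (hG : IsPGroup p G) (hc : IsCyclic (G ⧸ commutator G)) : commutator G = ⊥ := by
  obtain ⟨y, hy⟩ := hc.exists_generator
  obtain ⟨x, rfl⟩ := QuotientGroup.mk_surjective y
  have hsup : Subgroup.zpowers x ⊔ commutator G = ⊤ := by
    rw [eq_top_iff]
    intro g _
    obtain ⟨k, hk⟩ := Subgroup.mem_zpowers_iff.mp (hy (g : G ⧸ commutator G))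
    have h1 : (x ^ k)⁻¹ * g ∈ commutator G := by
      rw [← QuotientGroup.eq_one_iff]
      simp only [QuotientGroup.mk_mul, QuotientGroup.mk_inv, QuotientGroup.mk_zpow]
      rw [hk]; simp
    have : g = x ^ k * ((x ^ k)⁻¹ * g) := by group
    rw [this]
    exact Subgroup.mul_mem_sup (Subgroup.zpow_mem_zpowers x k) h1
  have hsup' : Subgroup.zpowers x ⊔ frattini G = ⊤ := by
    rw [eq_top_iff, ← hsup]
    exact sup_le_sup_left (Cfsg.Agent.Lib.Lead.commutator_le_frattini_of_isPGroup hG) _
  have htop : Subgroup.zpowers x = ⊤ := frattini_nongenerating hsup'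
  rw [commutator_def, Subgroup.commutator_eq_bot_iff_le_centralizer]
  intro a _
  rw [Subgroup.mem_centralizer_iff]
  intro b _
  have ha : a ∈ Subgroup.zpowers x := htop ▸ Subgroup.mem_top a
  have hb : b ∈ Subgroup.zpowers x := htop ▸ Subgroup.mem_top b
  obtain ⟨m, rfl⟩ := Subgroup.mem_zpowers_iff.mp ha
  obtain ⟨l, rfl⟩ := Subgroup.mem_zpowers_iff.mp hb
  rw [← zpow_add, ← zpow_add, add_comm]

theorem card_commutator_le [Finite G] {p : ℕ} [Fact p.Prime] (hG : IsPGroup p G)
    (hne : commutator G ≠ ⊥) : p ^ 2 * Nat.card (commutator G) ≤ Nat.card G := by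
  have hp := (Fact.out : p.Prime)
  obtain ⟨k, hk⟩ := (IsPGroup.iff_card.mp (hG.to_quotient (commutator G)))
  have hmul := Subgroup.card_mul_index (commutator G)
  rw [Subgroup.index_eq_card, hk] at hmul
  have hk2 : 2 ≤ k := by
    by_contra hlt
    push Not at hlt
    apply hne
    apply commutator_eq_bot_of_isCyclic_quotient hG
    interval_cases k
    · have : Subsingleton (G ⧸ commutator G) :=
        (Nat.card_eq_one_iff_unique.mp (by simpa using hk)).1
      exact isCyclic_of_subsingleton
    · exact isCyclic_of_prime_card (p := p) (by simpa using hk)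
  calc p ^ 2 * Nat.card (commutator G) ≤ p ^ k * Nat.card (commutator G) :=
        Nat.mul_le_mul_right _ (Nat.pow_le_pow_right hp.pos hk2)
    _ = Nat.card G := by rw [← hmul, mul_comm]

theorem upper_bound [Finite G] {p : ℕ} [Fact p.Prime] (hG : IsPGroup p G) {r : ℕ}
    (hcard : Nat.card G = p ^ r) (i : ℕ) (hi : 1 ≤ i) :
    (⊤ : Subgroup G).lowerCentralSeries i = ⊥ ∨
      p ^ (i + 1) * Nat.card ((⊤ : Subgroup G).lowerCentralSeries i) ≤ p ^ r := by
  haveI : Group.IsNilpotent G := hG.isNilpotent
  induction i, hi using Nat.le_induction with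
  | base =>
    by_cases h : commutator G = ⊥
    · left; rw [Subgroup.top_lowerCentralSeries_one]; exact h
    · right; rw [Subgroup.top_lowerCentralSeries_one, ← hcard]; exact card_commutator_le hG h
  | succ i hi ih =>
    by_cases hb : (⊤ : Subgroup G).lowerCentralSeries i = ⊥
    · left; rw [eq_bot_iff, ← hb]; exact Subgroup.lowerCentralSeries_antitone _ (Nat.le_succ i)
    · right
      rcases ih with h | h
      · exact absurd h hb
      have := card_step hG (lcs_lt hb)
      calc p ^ (i + 1 + 1) * Nat.card ((⊤ : Subgroup G).lowerCentralSeries (i + 1))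
          = p ^ (i + 1) * (p * Nat.card ((⊤ : Subgroup G).lowerCentralSeries (i + 1))) := by ring
        _ ≤ p ^ (i + 1) * Nat.card ((⊤ : Subgroup G).lowerCentralSeries i) :=
            Nat.mul_le_mul_left _ this
        _ ≤ p ^ r := h

theorem lcs_eq_bot_of_card [Finite G] {p : ℕ} [Fact p.Prime] {r : ℕ}
    (hcard : Nat.card G = p ^ r) (hr : 2 ≤ r) :
    (⊤ : Subgroup G).lowerCentralSeries (r - 1) = ⊥ := by
  have hG : IsPGroup p G := IsPGroup.of_card hcard
  rcases upper_bound hG hcard (r - 1) (by omega) with h | h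
  · exact h
  · have : r - 1 + 1 = r := by omega
    rw [this] at h
    have hpos : 0 < p ^ r := pow_pos (Fact.out : p.Prime).pos r
    have h1 : Nat.card ((⊤ : Subgroup G).lowerCentralSeries (r - 1)) ≤ 1 :=
      Nat.le_of_mul_le_mul_left (by rw [mul_one]; exact h) hpos
    exact Subgroup.eq_bot_of_card_le _ h1

theorem card_lcs_maxclass [Finite G] {p : ℕ} [Fact p.Prime] (n : ℕ) (hG : Nat.card G = p ^ n)
    (hcl : Group.nilpotencyClass G = n - 1) (hn : 3 ≤ n) (i : ℕ) (hi1 : 1 ≤ i)
    (hi2 : i ≤ n - 1) :
    Nat.card ((⊤ : Subgroup G).lowerCentralSeries i) = p ^ (n - 1 - i) := by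
  have hp := (Fact.out : p.Prime)
  have hPG : IsPGroup p G := IsPGroup.of_card hG
  haveI : Group.IsNilpotent G := hPG.isNilpotent
  have hne : ∀ j, j ≤ n - 2 → (⊤ : Subgroup G).lowerCentralSeries j ≠ ⊥ := by
    intro j hj h
    rw [Subgroup.lowerCentralSeries_eq_bot_iff_nilpotencyClass_le] at h
    omega
  have hlow : ∀ j, j ≤ n - 1 →
      p ^ j ≤ Nat.card ((⊤ : Subgroup G).lowerCentralSeries (n - 1 - j)) := by
    intro j
    induction j with
    | zero => intro _; rw [pow_zero]; exact Nat.card_pos
    | succ j ih =>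
      intro hj
      have h1 := ih (by omega)
      have h2 := card_step hPG (lcs_lt (hne (n - 1 - (j + 1)) (by omega)))
      have h3 : n - 1 - (j + 1) + 1 = n - 1 - j := by omega
      rw [h3] at h2
      calc p ^ (j + 1) = p * p ^ j := by ring
        _ ≤ p * Nat.card ((⊤ : Subgroup G).lowerCentralSeries (n - 1 - j)) :=
            Nat.mul_le_mul_left _ h1
        _ ≤ _ := h2
  rcases upper_bound hPG hG i hi1 with h | h
  · have h0 : ¬ i ≤ n - 2 := fun hh => hne i hh h
    have hi : n - 1 - i = 0 := by omega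
    rw [h, hi]; simp
  · have hl := hlow (n - 1 - i) (by omega)
    have h3 : n - 1 - (n - 1 - i) = i := by omega
    rw [h3] at hl
    have h4 : p ^ n = p ^ (i + 1) * p ^ (n - 1 - i) := by rw [← pow_add]; congr 1; omega
    rw [h4] at h
    exact le_antisymm (Nat.le_of_mul_le_mul_left h (pow_pos hp.pos _)) hl

theorem partA [Finite G] {p : ℕ} [Fact p.Prime] (n : ℕ) (hG : Nat.card G = p ^ n)
    (hcl : Group.nilpotencyClass G = n - 1) (hn : 3 ≤ n) (N : Subgroup G) [N.Normal] (r : ℕ)
    (hr : 2 ≤ r) (hN : N.index = p ^ r) :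
    N = (⊤ : Subgroup G).lowerCentralSeries (r - 1) := by
  have hp := (Fact.out : p.Prime)
  have hrn : r ≤ n := by
    have : N.index ∣ Nat.card G := Subgroup.index_dvd_card N
    rw [hN, hG] at this
    exact (Nat.pow_dvd_pow_iff_le_right hp.one_lt).mp this
  have hQ : Nat.card (G ⧸ N) = p ^ r := by rw [← Subgroup.index_eq_card, hN]
  have hbot := lcs_eq_bot_of_card hQ hr
  have hle : (⊤ : Subgroup G).lowerCentralSeries (r - 1) ≤ N := by
    have h1 := Subgroup.map_lowerCentralSeries (⊤ : Subgroup G) (QuotientGroup.mk' N) (r - 1)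
    rw [← MonoidHom.range_eq_map, MonoidHom.range_eq_top.mpr (QuotientGroup.mk'_surjective N),
      hbot] at h1
    have h2 := (Subgroup.map_eq_bot_iff _).mp h1
    rwa [QuotientGroup.ker_mk'] at h2
  symm
  apply Subgroup.eq_of_le_of_card_ge hle
  have hc := card_lcs_maxclass n hG hcl hn (r - 1) (by omega) (by omega)
  rw [hc]
  have h2 := Subgroup.card_mul_index N
  rw [hN, hG] at h2
  have h3 : p ^ n = p ^ (n - r) * p ^ r := by rw [← pow_add]; congr 1; omega
  rw [h3] at h2
  have h4 := Nat.eq_of_mul_eq_mul_right (pow_pos hp.pos r) h2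
  rw [h4]
  have : n - 1 - (r - 1) = n - r := by omega
  rw [this]

end

theorem card_subtype_ne_one {A : Type*} [Group A] [Finite A] :
    Nat.card {a : A // a ≠ 1} + 1 = Nat.card A := by
  classical
  rw [← Finite.card_option]
  exact Nat.card_congr (Equiv.optionSubtypeNe (1 : A))

theorem card_subgroups_order_p {A : Type*} [Group A] [Finite A] {p : ℕ} [Fact p.Prime]
    (hA : Nat.card A = p ^ 2) (hnc : ¬ IsCyclic A) :
    Nat.card {H : Subgroup A // Nat.card H = p} = p + 1 := by
  classical
  have hp := (Fact.out : p.Prime)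
  have hord : ∀ a : A, a ≠ 1 → orderOf a = p := by
    intro a ha
    have hdvd : orderOf a ∣ p ^ 2 := hA ▸ orderOf_dvd_natCard a
    obtain ⟨k, hk, hkeq⟩ := (Nat.dvd_prime_pow hp).mp hdvd
    interval_cases k
    · simp at hkeq; exact absurd hkeq ha
    · simpa using hkeq
    · exfalso; apply hnc
      exact isCyclic_of_orderOf_eq_card a (by rw [hkeq, hA])
  let f : {a : A // a ≠ 1} → {H : Subgroup A // Nat.card H = p} :=
    fun a => ⟨Subgroup.zpowers a.1, by rw [Nat.card_zpowers, hord a.1 a.2]⟩
  have hfib : ∀ H : {H : Subgroup A // Nat.card H = p},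
      Nat.card {a : {a : A // a ≠ 1} // f a = H} = p - 1 := by
    intro H
    have e : {a : {a : A // a ≠ 1} // f a = H} ≃ {h : H.1 // h ≠ 1} :=
      { toFun := fun a => ⟨⟨a.1.1, by
            have h2 : Subgroup.zpowers a.1.1 = H.1 := congrArg Subtype.val a.2
            rw [← h2]; exact Subgroup.mem_zpowers _⟩, by
            intro h; apply a.1.2; simpa using congrArg Subtype.val h⟩
        invFun := fun h => ⟨⟨h.1.1, by
            intro hh; apply h.2; ext; simpa using hh⟩, by
            apply Subtype.ext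
            show Subgroup.zpowers (h.1.1) = H.1
            apply Subgroup.eq_of_le_of_card_ge
            · rw [Subgroup.zpowers_le]; exact h.1.2
            · rw [Nat.card_zpowers, hord _ (by intro hh; apply h.2; ext; simpa using hh), H.2]⟩
        left_inv := fun a => by ext; rfl
        right_inv := fun h => by ext; rfl }
    rw [Nat.card_congr e]
    have := card_subtype_ne_one (A := H.1)
    rw [H.2] at this
    omega
  have htot : Nat.card {a : A // a ≠ 1} =
      Nat.card {H : Subgroup A // Nat.card H = p} * (p - 1) := by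
    haveI : Fintype {H : Subgroup A // Nat.card H = p} := Fintype.ofFinite _
    rw [Nat.card_congr (Equiv.sigmaFiberEquiv f).symm, Nat.card_sigma]
    simp only [hfib, Finset.sum_const, Finset.card_univ, smul_eq_mul, Nat.card_eq_fintype_card]
  have h1 := card_subtype_ne_one (A := A)
  rw [hA, htot] at h1
  have h2 : p ^ 2 = (p + 1) * (p - 1) + 1 := by
    obtain ⟨q, rfl⟩ : ∃ q, p = q + 1 := ⟨p - 1, by have := hp.pos; omega⟩
    simp only [Nat.add_sub_cancel]; ring
  have h3 : Nat.card {H : Subgroup A // Nat.card H = p} * (p - 1) = (p + 1) * (p - 1) := by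
    omega
  exact Nat.eq_of_mul_eq_mul_right (by have := hp.one_lt; omega) h3

section
variable {G : Type*} [Group G]

theorem partB [Finite G] {p : ℕ} [Fact p.Prime] (n : ℕ) (hG : Nat.card G = p ^ n)
    (hcl : Group.nilpotencyClass G = n - 1) (hn : 3 ≤ n) :
    Nat.card {N : Subgroup G // N.Normal ∧ N.index = p} = p + 1 := by
  have hp := (Fact.out : p.Prime)
  have hPG : IsPGroup p G := IsPGroup.of_card hG
  haveI : Group.IsNilpotent G := hPG.isNilpotent
  have hcD : Nat.card (commutator G) = p ^ (n - 2) := by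
    have := card_lcs_maxclass n hG hcl hn 1 le_rfl (by omega)
    rw [Subgroup.top_lowerCentralSeries_one] at this
    rw [this]
    congr 1
  have hQ : Nat.card (G ⧸ commutator G) = p ^ 2 := by
    have h := Subgroup.card_mul_index (commutator G)
    rw [hcD, hG, Subgroup.index_eq_card] at h
    have h3 : p ^ n = p ^ (n - 2) * p ^ 2 := by rw [← pow_add]; congr 1; omega
    rw [h3] at h
    exact Nat.eq_of_mul_eq_mul_left (pow_pos hp.pos _) h
  have hnc : ¬ IsCyclic (G ⧸ commutator G) := by
    intro hc
    have hbot := commutator_eq_bot_of_isCyclic_quotient hPG hc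
    have h1 : (⊤ : Subgroup G).lowerCentralSeries 1 = ⊥ := by
      rw [Subgroup.top_lowerCentralSeries_one]; exact hbot
    rw [Subgroup.lowerCentralSeries_eq_bot_iff_nilpotencyClass_le] at h1
    omega
  have hcomm0 : ∀ a b : Abelianization G, a * b = b * a := mul_comm
  have hcomm : ∀ a b : G ⧸ commutator G, a * b = b * a := hcomm0
  have hDN : ∀ N : Subgroup G, N.Normal → N.index = p → commutator G ≤ N := by
    intro N hN hi
    haveI := hN
    apply Cfsg.Agent.Lib.Lead.commutator_le_of_quotient_comm
    have hc : IsCyclic (G ⧸ N) :=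
      isCyclic_of_prime_card (p := p) (by rw [← Subgroup.index_eq_card, hi])
    intro a b
    exact (IsCyclic.commutative (α := G ⧸ N)).is_comm.comm a b
  have hsurj := QuotientGroup.mk'_surjective (commutator G)
  have hcount := card_subgroups_order_p hQ hnc
  rw [← hcount]
  apply Nat.card_congr
  exact
    { toFun := fun N => ⟨N.1.map (QuotientGroup.mk' (commutator G)), by
        have hi : (N.1.map (QuotientGroup.mk' (commutator G))).index = p := by
          rw [Subgroup.index_map_eq _ hsurj
            (by rw [QuotientGroup.ker_mk']; exact hDN N.1 N.2.1 N.2.2)]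
          exact N.2.2
        have h := Subgroup.card_mul_index (N.1.map (QuotientGroup.mk' (commutator G)))
        rw [hi, hQ, pow_two] at h
        exact Nat.eq_of_mul_eq_mul_right hp.pos h⟩
      invFun := fun H => ⟨H.1.comap (QuotientGroup.mk' (commutator G)), by
        have hHn : H.1.Normal :=
          ⟨fun x hx g => by rw [hcomm g x, mul_inv_cancel_right]; exact hx⟩
        refine ⟨hHn.comap _, ?_⟩
        rw [Subgroup.index_comap_of_surjective _ hsurj]
        have h := Subgroup.card_mul_index H.1
        rw [H.2, hQ, pow_two] at h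
        exact Nat.eq_of_mul_eq_mul_left hp.pos h⟩
      left_inv := fun N => by
        apply Subtype.ext
        exact Subgroup.comap_map_eq_self
          (by rw [QuotientGroup.ker_mk']; exact hDN N.1 N.2.1 N.2.2)
      right_inv := fun H => by
        apply Subtype.ext
        exact Subgroup.map_comap_eq_self_of_surjective hsurj H.1 }

end

/-- In a p-group of maximal class of order at least p³ the normal subgroups of index at least p² are exactly the terms of the lower central series, and there are exactly p + 1 normal subgroups of index p. -/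
theorem result {G : Type*} [Group G] [Finite G] {p : ℕ} [Fact p.Prime] (n : ℕ) (hG : Nat.card G = p ^ n) (hcl : Group.nilpotencyClass G = n - 1) (hn : 3 ≤ n) : (∀ (N : Subgroup G) [N.Normal] (r : ℕ), 2 ≤ r → N.index = p ^ r → N = (⊤ : Subgroup G).lowerCentralSeries (r - 1)) ∧ Nat.card {N : Subgroup G // N.Normal ∧ N.index = p} = p + 1 := by
  refine ⟨?_, partB n hG hcl hn⟩
  intro N _ r hr hN
  exact partA n hG hcl hn N r hr hN

end Cfsg.Agent.S0662
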