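import Mathlib
import Cfsg.Statements.S3772
import Cfsg.Agent.Lib.Lead.Frattini
import Cfsg.Agent.Lib.Helper6.Frattini

set_option autoImplicit false
open Cfsg

namespace Cfsg.Agent.S3772

open Cfsg.Agent.Lib
open scoped commutatorElement

/-- the sum of a `±1`-valued multiplicative function over a finite group -/
theorem sum_sign_hom {H : Type*} [Group H] [Fintype H] (f : H → ℤ)
    (hmul : ∀ a b, f (a * b) = f a * f b) (hval : ∀ a, f a = 1 ∨ f a = -1) :
    ((∀ a, f a = 1) ∧ ∑ a, f a = Fintype.card H) ∨ ((∃ a, f a = -1) ∧ ∑ a, f a = 0) := by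
  by_cases h : ∀ a, f a = 1
  · left
    refine ⟨h, ?_⟩
    rw [Finset.sum_congr rfl (fun a _ => h a)]
    simp
  · right
    push Not at h
    obtain ⟨a₀, ha₀⟩ := h
    have ha₀' : f a₀ = -1 := (hval a₀).resolve_left ha₀
    refine ⟨⟨a₀, ha₀'⟩, ?_⟩
    have h1 : ∑ a, f a = ∑ a, f (a₀ * a) := (Equiv.sum_comp (Equiv.mulLeft a₀) f).symm
    have h2 : ∑ a, f (a₀ * a) = - ∑ a, f a := by
      rw [← Finset.sum_neg_distrib]
      refine Finset.sum_congr rfl fun a _ => ?_
      rw [hmul, ha₀']; ring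
    rw [h2] at h1
    omega

section
variable {G : Type*} [Group G]

open Classical in
/-- the sign of an element of a group of order two -/
noncomputable def sgn (t : G) : ℤ := if t = 1 then 1 else -1

theorem sgn_one : sgn (1 : G) = 1 := by simp [sgn]

theorem sgn_val (t : G) : sgn t = 1 ∨ sgn t = -1 := by
  unfold sgn; split_ifs <;> simp

theorem sgn_eq_one_iff (t : G) : sgn t = 1 ↔ t = 1 := by
  unfold sgn; split_ifs with h <;> simp [h]

theorem eq_of_ne_one {Φ : Subgroup G} (hΦ : Nat.card Φ = 2) {s t : G} (hs : s ∈ Φ) (ht : t ∈ Φ)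
    (hs1 : s ≠ 1) (ht1 : t ≠ 1) : s = t := by
  obtain ⟨y, -, hy⟩ := (Nat.card_eq_two_iff' (1 : Φ)).mp hΦ
  have h1 := hy ⟨s, hs⟩ (fun h => hs1 (by simpa using congrArg Subtype.val h))
  have h2 := hy ⟨t, ht⟩ (fun h => ht1 (by simpa using congrArg Subtype.val h))
  have := h1.trans h2.symm
  simpa using congrArg Subtype.val this

theorem mul_self_eq_one_of_mem {Φ : Subgroup G} (hΦ : Nat.card Φ = 2) {s : G} (hs : s ∈ Φ) :
    s * s = 1 := by
  haveI : Finite Φ := Nat.finite_of_card_ne_zero (by rw [hΦ]; norm_num)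
  have h : (⟨s, hs⟩ : Φ) ^ Nat.card Φ = 1 := pow_card_eq_one'
  rw [hΦ] at h
  have := congrArg Subtype.val h
  simpa [pow_two] using this

theorem sgn_mul {Φ : Subgroup G} (hΦ : Nat.card Φ = 2) {s t : G} (hs : s ∈ Φ) (ht : t ∈ Φ) :
    sgn (s * t) = sgn s * sgn t := by
  by_cases hs1 : s = 1
  · subst hs1; rw [one_mul, sgn_one, one_mul]
  by_cases ht1 : t = 1
  · subst ht1; rw [mul_one, sgn_one, mul_one]
  have := eq_of_ne_one hΦ hs ht hs1 ht1
  subst this
  rw [mul_self_eq_one_of_mem hΦ hs]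
  simp [sgn, hs1]

theorem central_of_card_two {Φ : Subgroup G} [hn : Φ.Normal] (hΦ : Nat.card Φ = 2) {t : G}
    (ht : t ∈ Φ) (g : G) : g * t = t * g := by
  by_cases ht1 : t = 1
  · subst ht1; simp
  have h1 : g * t * g⁻¹ ∈ Φ := hn.conj_mem t ht g
  have h2 : g * t * g⁻¹ ≠ 1 := by
    intro h; apply ht1
    have : t = g⁻¹ * (g * t * g⁻¹) * g := by group
    rw [this, h]; group
  have := eq_of_ne_one hΦ h1 ht h2 ht1
  calc g * t = (g * t * g⁻¹) * g := by group
    _ = t * g := by rw [this]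

end

/-- the main computation -/
theorem main {G : Type*} [Group G] [Finite G] (hG : IsPGroup 2 G)
    (hΦ : Nat.card (frattini G) = 2) (d : ℕ) (hd : (frattini G).index = 2 ^ d) :
    Nat.card {x : G // x ^ 2 = 1} = 2 ^ d ∨
    ∃ k a : ℕ, Nat.card (Subgroup.center G) = 2 ^ k ∧ 1 ≤ k ∧ k + 1 ≤ d ∧ 2 * a = d + 1 + k ∧
      (Nat.card {x : G // x ^ 2 = 1} = 2 ^ d + 2 ^ (a - 1) ∨
        Nat.card {x : G // x ^ 2 = 1} + 2 ^ (a - 1) = 2 ^ d) := by
  classical
  haveI : Fintype G := Fintype.ofFinite G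
  haveI : Fact (Nat.Prime 2) := ⟨Nat.prime_two⟩
  set Φ := frattini G with hΦdef
  haveI : Φ.Normal := inferInstance
  have hsq : ∀ x : G, x ^ 2 ∈ Φ := fun x => Lead.pow_mem_frattini_of_isPGroup hG x
  have hcomm : ∀ x y : G, ⁅x, y⁆ ∈ Φ := fun x y =>
    Lead.commutator_le_frattini_of_isPGroup hG (by
      rw [commutator_def]
      exact Subgroup.commutator_mem_commutator (Subgroup.mem_top x) (Subgroup.mem_top y))
  have hcen : ∀ t ∈ Φ, ∀ g : G, g * t = t * g := fun t ht g => central_of_card_two hΦ ht g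
  have hΦZ : Φ ≤ Subgroup.center G := by
    intro t ht
    rw [Subgroup.mem_center_iff]
    exact hcen t ht
  have hcardG : Nat.card G = 2 ^ (d + 1) := by
    rw [← Subgroup.card_mul_index Φ, hΦ, hd, pow_succ, mul_comm]
  let χ : G → ℤ := fun x => sgn (x ^ 2)
  let β : G → G → ℤ := fun y x => sgn ⁅y, x⁆
  have hkey : ∀ x y : G, (x * y) ^ 2 = ⁅y, x⁆ * (x ^ 2 * y ^ 2) := by
    intro x y
    have h1 := hcen ⁅y, x⁆ (hcomm y x) x
    calc (x * y) ^ 2 = x * ⁅y, x⁆ * (x * y ^ 2) := by
          simp only [commutatorElement_def, pow_two]; group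
      _ = ⁅y, x⁆ * x * (x * y ^ 2) := by rw [h1]
      _ = ⁅y, x⁆ * (x ^ 2 * y ^ 2) := by group
  have hχmul : ∀ x y, χ (x * y) = β y x * (χ x * χ y) := by
    intro x y
    show sgn ((x * y) ^ 2) = sgn ⁅y, x⁆ * (sgn (x ^ 2) * sgn (y ^ 2))
    rw [hkey, sgn_mul hΦ (hcomm y x) (mul_mem (hsq x) (hsq y)), sgn_mul hΦ (hsq x) (hsq y)]
  have hχsq : ∀ x, χ x * χ x = 1 := by
    intro x
    show sgn (x ^ 2) * sgn (x ^ 2) = 1
    rcases sgn_val (x ^ 2) with h | h <;> rw [h] <;> norm_num
  have hprod : ∀ x y, χ x * χ (x * y) = χ y * β y x := by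
    intro x y
    rw [hχmul]
    calc χ x * (β y x * (χ x * χ y)) = (χ x * χ x) * (χ y * β y x) := by ring
      _ = χ y * β y x := by rw [hχsq, one_mul]
  have hβmul : ∀ y x₁ x₂, β y (x₁ * x₂) = β y x₁ * β y x₂ := by
    intro y x₁ x₂
    show sgn ⁅y, x₁ * x₂⁆ = sgn ⁅y, x₁⁆ * sgn ⁅y, x₂⁆
    have h1 := hcen ⁅y, x₂⁆ (hcomm y x₂) x₁
    have h2 : ⁅y, x₁ * x₂⁆ = ⁅y, x₁⁆ * ⁅y, x₂⁆ := by
      calc ⁅y, x₁ * x₂⁆ = ⁅y, x₁⁆ * (x₁ * ⁅y, x₂⁆) * x₁⁻¹ := by
            simp only [commutatorElement_def]; group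
        _ = ⁅y, x₁⁆ * (⁅y, x₂⁆ * x₁) * x₁⁻¹ := by rw [h1]
        _ = ⁅y, x₁⁆ * ⁅y, x₂⁆ := by group
    rw [h2, sgn_mul hΦ (hcomm y x₁) (hcomm y x₂)]
  have hinner : ∀ y : G, ∑ x, β y x =
      if y ∈ Subgroup.center G then (Nat.card G : ℤ) else 0 := by
    intro y
    rcases sum_sign_hom (β y) (hβmul y) (fun x => sgn_val _) with ⟨h1, h2⟩ | ⟨⟨x₀, h1⟩, h2⟩
    · have : y ∈ Subgroup.center G := by
        rw [Subgroup.mem_center_iff]
        intro x
        have := (sgn_eq_one_iff _).mp (h1 x)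
        exact (commutatorElement_eq_one_iff_mul_comm.mp this).symm
      rw [if_pos this, h2, Nat.card_eq_fintype_card]
    · have : y ∉ Subgroup.center G := by
        intro hy
        have h3 : ⁅y, x₀⁆ = 1 :=
          commutatorElement_eq_one_iff_mul_comm.mpr ((Subgroup.mem_center_iff.mp hy x₀).symm)
        have h4 : β y x₀ = 1 := by
          show sgn ⁅y, x₀⁆ = 1
          rw [h3]; exact sgn_one
        rw [h1] at h4; norm_num at h4
      rw [if_neg this, h2]
  set S : ℤ := ∑ x, χ x with hS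
  set T : ℤ := ∑ y : {y : G // y ∈ Subgroup.center G}, χ y with hT
  have hS2 : S * S = (Nat.card G : ℤ) * T := by
    calc S * S = ∑ x, ∑ y, χ x * χ y := by rw [hS, Finset.sum_mul_sum]
      _ = ∑ x, ∑ y, χ x * χ (x * y) := by
          refine Finset.sum_congr rfl fun x _ => ?_
          exact (Equiv.sum_comp (Equiv.mulLeft x) (fun y => χ x * χ y)).symm
      _ = ∑ x, ∑ y, χ y * β y x := by simp only [hprod]
      _ = ∑ y, ∑ x, χ y * β y x := Finset.sum_comm
      _ = ∑ y, χ y * (if y ∈ Subgroup.center G then (Nat.card G : ℤ) else 0) := by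
          refine Finset.sum_congr rfl fun y _ => ?_
          rw [← Finset.mul_sum, hinner]
      _ = (Nat.card G : ℤ) * T := by
          have h1 : ∀ y : G, χ y * (if y ∈ Subgroup.center G then (Nat.card G : ℤ) else 0) =
              if y ∈ Subgroup.center G then (Nat.card G : ℤ) * χ y else 0 := by
            intro y; split_ifs <;> ring
          simp only [h1]
          rw [← Finset.sum_filter, hT, Finset.mul_sum]
          exact Finset.sum_subtype (Finset.univ.filter (· ∈ Subgroup.center G))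
            (p := (· ∈ Subgroup.center G)) (by simp) (fun y => (Nat.card G : ℤ) * χ y)
  -- `S` and the number of solutions of `x ^ 2 = 1`
  have hSj : S = 2 * (Nat.card {x : G // x ^ 2 = 1} : ℤ) - (Nat.card G : ℤ) := by
    have h1 : ∀ x : G, χ x = 2 * (if x ^ 2 = 1 then (1 : ℤ) else 0) - 1 := by
      intro x
      show sgn (x ^ 2) = _
      unfold sgn
      split_ifs <;> norm_num
    rw [hS]
    simp only [h1]
    rw [Finset.sum_sub_distrib, ← Finset.mul_sum, Finset.sum_boole, Nat.card_eq_fintype_card,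
      Fintype.card_subtype, Nat.card_eq_fintype_card]
    simp
  -- the center
  obtain ⟨k, hk⟩ := IsPGroup.iff_card.mp (hG.to_subgroup (Subgroup.center G))
  have hk1 : 1 ≤ k := by
    by_contra h
    have hk0 : k = 0 := by omega
    have h1 := Subgroup.card_dvd_of_le hΦZ
    rw [hΦ, hk, hk0, pow_zero] at h1
    omega
  have hχZ : ∀ a b : {y : G // y ∈ Subgroup.center G},
      χ ((a * b : {y : G // y ∈ Subgroup.center G}) : G) = χ a * χ b := by
    intro a b
    have h1 : β (b : G) (a : G) = 1 := by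
      show sgn ⁅(b : G), (a : G)⁆ = 1
      have : ⁅(b : G), (a : G)⁆ = 1 :=
        commutatorElement_eq_one_iff_mul_comm.mpr ((Subgroup.mem_center_iff.mp b.2 a).symm)
      rw [this]; exact sgn_one
    show χ ((a : G) * (b : G)) = _
    rw [hχmul, h1, one_mul]
  have hpow2 : (2 : ℤ) ^ (d + 1) = 2 * 2 ^ d := by rw [pow_succ]; ring
  rcases sum_sign_hom (H := {y : G // y ∈ Subgroup.center G}) (fun y => χ y) hχZ
      (fun y => sgn_val _) with ⟨h1, h2⟩ | ⟨-, h2⟩
  · right
    -- all central elements are involutions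
    have hZsq : ∀ y ∈ Subgroup.center G, y ^ 2 = 1 := fun y hy =>
      (sgn_eq_one_iff _).mp (h1 ⟨y, hy⟩)
    have hTcard : T = (2 : ℤ) ^ k := by
      rw [hT, h2, ← Nat.card_eq_fintype_card]
      have : Nat.card {y : G // y ∈ Subgroup.center G} = Nat.card (Subgroup.center G) := rfl
      rw [this, hk]; norm_cast
    have hkd : k + 1 ≤ d := by
      by_contra hcon
      -- then `G / Z(G)` is cyclic
      have hidx : (Subgroup.center G).index * 2 ^ k = 2 ^ (d + 1) := by
        rw [← hk, ← hcardG, mul_comm]; exact Subgroup.card_mul_index _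
      have hkle : k ≤ d + 1 := by
        have h3 : 2 ^ k ∣ 2 ^ (d + 1) := Dvd.intro_left _ hidx
        exact (Nat.pow_dvd_pow_iff_le_right (by norm_num)).mp h3
      have hidx' : (Subgroup.center G).index = 2 ^ (d + 1 - k) := by
        have h3 : 2 ^ (d + 1) = 2 ^ (d + 1 - k) * 2 ^ k := by
          rw [← pow_add]; congr 1; omega
        rw [h3] at hidx
        exact Nat.eq_of_mul_eq_mul_right (by positivity) hidx
      have hcyc : IsCyclic (G ⧸ Subgroup.center G) := by
        have hcq : Nat.card (G ⧸ Subgroup.center G) = 2 ^ (d + 1 - k) := by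
          rw [← Subgroup.index_eq_card]; exact hidx'
        have hcases : d + 1 - k = 0 ∨ d + 1 - k = 1 := by omega
        rcases hcases with h0 | h0
        · rw [h0, pow_zero] at hcq
          haveI : Subsingleton (G ⧸ Subgroup.center G) :=
            (Nat.card_eq_one_iff_unique.mp hcq).1
          exact isCyclic_of_subsingleton
        · rw [h0, pow_one] at hcq
          exact isCyclic_of_prime_card hcq
      have hab : ∀ a b : G, a * b = b * a :=
        commutative_of_cyclic_center_quotient (QuotientGroup.mk' (Subgroup.center G))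
          (by rw [QuotientGroup.ker_mk'])
      have hall : ∀ y : G, y ∈ Subgroup.center G := by
        intro y
        rw [Subgroup.mem_center_iff]
        intro g; exact hab g y
      have hle : frattini G ≤ ⊥ :=
        Helper6.frattini_le_of_elemAb (p := 2) ⊥
          (fun x y => by
            rw [Subgroup.mem_bot]
            exact commutatorElement_eq_one_iff_mul_comm.mpr (hab x y))
          (fun x => by
            rw [Subgroup.mem_bot]; exact hZsq x (hall x))
      have h9 : Nat.card (frattini G) = 1 := by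
        rw [le_bot_iff.mp hle, Subgroup.card_bot]
      exact absurd (hΦ.symm.trans h9) (by norm_num)
    -- arithmetic
    have hSS : S * S = (2 : ℤ) ^ (d + 1 + k) := by
      rw [hS2, hTcard, hcardG]; push_cast; rw [← pow_add]
    have hnat : S.natAbs * S.natAbs = 2 ^ (d + 1 + k) := by
      have h3 : ((S.natAbs * S.natAbs : ℕ) : ℤ) = ((2 ^ (d + 1 + k) : ℕ) : ℤ) := by
        rw [Nat.cast_mul, Int.natAbs_mul_self' S, hSS]; norm_cast
      exact_mod_cast h3
    obtain ⟨a, -, ha⟩ := (Nat.dvd_prime_pow Nat.prime_two).mp (Dvd.intro _ hnat)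
    have h2a : 2 * a = d + 1 + k := by
      rw [ha, ← pow_add] at hnat
      have := Nat.pow_right_injective (le_refl 2) hnat
      omega
    refine ⟨k, a, hk, hk1, hkd, h2a, ?_⟩
    have ha1 : 1 ≤ a := by omega
    have hpa : (2 : ℤ) ^ a = 2 * 2 ^ (a - 1) := by
      have : a = (a - 1) + 1 := by omega
      rw [this, pow_succ]
      simp; ring
    have hcardGz : (Nat.card G : ℤ) = 2 * 2 ^ d := by
      rw [hcardG]; push_cast; exact hpow2
    rcases Int.natAbs_eq S with h3 | h3
    · left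
      rw [ha] at h3
      push_cast at h3
      rw [hpa, hSj, hcardGz] at h3
      have h4 : (Nat.card {x : G // x ^ 2 = 1} : ℤ) = 2 ^ d + 2 ^ (a - 1) := by linarith
      exact_mod_cast h4
    · right
      rw [ha] at h3
      push_cast at h3
      rw [hpa, hSj, hcardGz] at h3
      have h4 : (Nat.card {x : G // x ^ 2 = 1} : ℤ) + 2 ^ (a - 1) = 2 ^ d := by linarith
      exact_mod_cast h4
  · left
    have hS0 : S = 0 := by
      have : S * S = 0 := by rw [hS2, hT, h2, mul_zero]
      exact mul_self_eq_zero.mp this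
    rw [hSj, hcardG] at hS0
    push_cast at hS0
    rw [hpow2] at hS0
    have h4 : (Nat.card {x : G // x ^ 2 = 1} : ℤ) = 2 ^ d := by linarith
    exact_mod_cast h4

/-- Let G be a finite 2-group whose Frattini subgroup Φ(G) has order 2, with |G : Φ(G)| = 2^d, and let j be the number of elements x of G with x² = 1. Then j = 2^d, or j = 2^d + 2^(d−r) or j = 2^d − 2^(d−r) for some positive integer r with 2r ≤ d. Moreover if d = 2r and j is 2^d + 2^r or 2^d − 2^r, then G is extraspecial. -/
theorem result {G : Type*} [Group G] [Finite G] (hG : IsPGroup 2 G) (hΦ : Nat.card (frattini G) = 2) (d : ℕ) (hd : (frattini G).index = 2 ^ d) : (Nat.card {x : G // x ^ 2 = 1} = 2 ^ d ∨ ∃ r : ℕ, 1 ≤ r ∧ 2 * r ≤ d ∧ (Nat.card {x : G // x ^ 2 = 1} = 2 ^ d + 2 ^ (d - r) ∨ Nat.card {x : G // x ^ 2 = 1} + 2 ^ (d - r) = 2 ^ d)) ∧ (∀ r : ℕ, d = 2 * r → (Nat.card {x : G // x ^ 2 = 1} = 2 ^ d + 2 ^ r ∨ Nat.card {x : G // x ^ 2 = 1} + 2 ^ r = 2 ^ d) → Cfsg.IsExtraspecial 2 G) := by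
  classical
  haveI : Fact (Nat.Prime 2) := ⟨Nat.prime_two⟩
  have hmain := main hG hΦ d hd
  refine ⟨?_, ?_⟩
  · rcases hmain with h | ⟨k, a, hk, hk1, hkd, h2a, hj⟩
    · exact Or.inl h
    · right
      refine ⟨d + 1 - a, by omega, by omega, ?_⟩
      have : d - (d + 1 - a) = a - 1 := by omega
      rw [this]
      exact hj
  · intro r hdr hj
    have hrpos : 0 < 2 ^ r := by positivity
    rcases hmain with h | ⟨k, a, hk, hk1, hkd, h2a, hj'⟩
    · exfalso
      rcases hj with h1 | h1 <;> omega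
    · have har : 2 ^ (a - 1) = 2 ^ r := by
        have hapos : 0 < 2 ^ (a - 1) := by positivity
        rcases hj with h1 | h1 <;> rcases hj' with h2 | h2 <;> omega
      have har' : a - 1 = r := Nat.pow_right_injective (le_refl 2) har
      have hk1' : k = 1 := by omega
      rw [hk1', pow_one] at hk
      have hcen : ∀ t ∈ frattini G, ∀ g : G, g * t = t * g := fun t ht g =>
        central_of_card_two hΦ ht g
      have hΦZ : frattini G ≤ Subgroup.center G := by
        intro t ht
        rw [Subgroup.mem_center_iff]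
        exact hcen t ht
      have hFZ : frattini G = Subgroup.center G :=
        Subgroup.eq_of_le_of_card_ge hΦZ (by rw [hΦ, hk])
      have hcardG : Nat.card G = 2 ^ (d + 1) := by
        rw [← Subgroup.card_mul_index (frattini G), hΦ, hd, pow_succ, mul_comm]
      have hCle : commutator G ≤ Subgroup.center G := by
        rw [← hFZ]; exact Lead.commutator_le_frattini_of_isPGroup hG
      have hCne : commutator G ≠ ⊥ := by
        intro h
        have h1 := (commutator_eq_bot_iff_center_eq_top (G := G)).mp h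
        have h2 : Nat.card (Subgroup.center G) = Nat.card G := by rw [h1, Subgroup.card_top]
        rw [hk, hcardG] at h2
        have h3 : (2 : ℕ) ^ 1 = 2 ^ (d + 1) := by rw [pow_one]; exact h2
        have := Nat.pow_right_injective (le_refl 2) h3
        omega
      have hCZ : commutator G = Subgroup.center G := by
        apply Subgroup.eq_of_le_of_card_ge hCle
        rw [hk]
        have h1 : Nat.card (commutator G) ≠ 1 := fun h => hCne (Subgroup.card_eq_one.mp h)
        have h2 : 0 < Nat.card (commutator G) := Nat.card_pos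
        omega
      exact ⟨⟨hG, hFZ, hCZ⟩, hk⟩

end Cfsg.Agent.S3772
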