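import Cfsg.Statements.S2530
import Mathlib

set_option autoImplicit false
open Cfsg

namespace Cfsg.Agent.S2530

section gens

/-- The Coxeter group of type `A_n`. -/
abbrev Wn (n : ℕ) : Type := (CoxeterMatrix.A n).Group

/-- Its Coxeter system. -/
noncomputable abbrev csn (n : ℕ) : CoxeterSystem (CoxeterMatrix.A n) (Wn n) :=
  (CoxeterMatrix.A n).toCoxeterSystem

/-- The generators indexed by natural numbers (trivial outside the range). -/
noncomputable def T (n : ℕ) (i : ℕ) : Wn n := if h : i < n then (csn n).simple ⟨i, h⟩ else 1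

theorem T_of_lt {n i : ℕ} (h : i < n) : T n i = (csn n).simple ⟨i, h⟩ := dif_pos h

theorem T_of_ge {n i : ℕ} (h : n ≤ i) : T n i = 1 := dif_neg (by omega)

theorem A_apply (n : ℕ) (i j : Fin n) :
    (CoxeterMatrix.A n) i j = if i = j then 1
      else (if (j : ℕ) + 1 = i ∨ (i : ℕ) + 1 = j then 3 else 2) := rfl

theorem T_sq (n i : ℕ) : T n i * T n i = 1 := by
  by_cases h : i < n
  · rw [T_of_lt h]
    exact (csn n).simple_mul_simple_self _
  · rw [T_of_ge (by omega), one_mul]

theorem T_inv (n i : ℕ) : (T n i)⁻¹ = T n i := by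
  rw [inv_eq_iff_mul_eq_one]
  exact T_sq n i

theorem T_comm (n i j : ℕ) (hij : i + 2 ≤ j) : T n i * T n j = T n j * T n i := by
  by_cases hj : j < n
  · have hi : i < n := by omega
    have h1 := (csn n).simple_mul_simple_pow ⟨i, hi⟩ ⟨j, hj⟩
    have h2 : (CoxeterMatrix.A n) ⟨i, hi⟩ ⟨j, hj⟩ = 2 := by
      rw [A_apply]
      have hne : (⟨i, hi⟩ : Fin n) ≠ ⟨j, hj⟩ := by
        intro h
        have := congrArg Fin.val h
        simp at this
        omega
      rw [if_neg hne, if_neg]
      simp only [not_or]
      constructor <;> omega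
    rw [h2, pow_two, ← T_of_lt hi, ← T_of_lt hj] at h1
    have h3 : T n i * T n j = (T n i * T n j)⁻¹ := eq_inv_of_mul_eq_one_left h1
    rw [mul_inv_rev, T_inv, T_inv] at h3
    exact h3
  · rw [T_of_ge (show n ≤ j by omega), mul_one, one_mul]

theorem T_braid (n i : ℕ) (hi : i + 1 < n) :
    T n i * T n (i + 1) * T n i = T n (i + 1) * T n i * T n (i + 1) := by
  have hi' : i < n := by omega
  have h1 := (csn n).simple_mul_simple_pow ⟨i, hi'⟩ ⟨i + 1, hi⟩
  have h2 : (CoxeterMatrix.A n) ⟨i, hi'⟩ ⟨i + 1, hi⟩ = 3 := by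
    rw [A_apply]
    have hne : (⟨i, hi'⟩ : Fin n) ≠ ⟨i + 1, hi⟩ := by
      intro h
      have := congrArg Fin.val h
      simp at this
    rw [if_neg hne, if_pos]
    right
    rfl
  rw [h2, ← T_of_lt hi', ← T_of_lt hi] at h1
  have h3 : T n i * T n (i + 1) * T n i * (T n (i + 1) * T n i * T n (i + 1)) = 1 := by
    rw [← h1, pow_succ, pow_two]
    group
  have h4 := eq_inv_of_mul_eq_one_left h3
  rw [mul_inv_rev, mul_inv_rev, T_inv, T_inv, ← mul_assoc] at h4
  exact h4

end gens

section embed

theorem liftable_castSucc (n : ℕ) :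
    (CoxeterMatrix.A n).IsLiftable (fun i : Fin n => (csn (n + 1)).simple i.castSucc) := by
  intro i i'
  have h1 := (csn (n + 1)).simple_mul_simple_pow i.castSucc i'.castSucc
  have h2 : (CoxeterMatrix.A (n + 1)) i.castSucc i'.castSucc = (CoxeterMatrix.A n) i i' := by
    rw [A_apply, A_apply]
    simp only [Fin.castSucc_inj, Fin.val_castSucc]
  rw [h2] at h1
  exact h1

/-- The natural map from the Coxeter group of type `A_n` to that of type `A_{n+1}`. -/
noncomputable def psi (n : ℕ) : Wn n →* Wn (n + 1) :=
  (csn n).lift ⟨_, liftable_castSucc n⟩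

theorem psi_T (n i : ℕ) (hi : i < n) : psi n (T n i) = T (n + 1) i := by
  rw [T_of_lt hi, T_of_lt (show i < n + 1 by omega)]
  unfold psi
  rw [CoxeterSystem.lift_apply_simple]
  rfl

end embed

section cosets

/-- Coset representatives: `c n j = T n * T (n - 1) * ⋯ * T (n - j + 1)`. -/
noncomputable def c (n : ℕ) : ℕ → Wn (n + 1)
  | 0 => 1
  | j + 1 => c n j * T (n + 1) (n - j)

theorem c_zero (n : ℕ) : c n 0 = 1 := rfl

theorem c_succ (n j : ℕ) : c n (j + 1) = c n j * T (n + 1) (n - j) := rfl

theorem c_comm (n : ℕ) : ∀ (j i : ℕ), i + j < n → T (n + 1) i * c n j = c n j * T (n + 1) i := by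
  intro j
  induction j with
  | zero =>
    intro i _
    rw [c_zero, mul_one, one_mul]
  | succ j ih =>
    intro i hi
    rw [c_succ, ← mul_assoc, ih i (by omega), mul_assoc, T_comm (n + 1) i (n - j) (by omega),
      mul_assoc]

theorem c_shift (n : ℕ) : ∀ (j i : ℕ), j ≤ n + 1 → n + 1 < i + j → i ≤ n →
    c n j * T (n + 1) i = T (n + 1) (i - 1) * c n j := by
  intro j
  induction j with
  | zero =>
    intro i _ h1 h2
    omega
  | succ j ih =>
    intro i h0 h1 h2
    by_cases h3 : i + j = n + 1
    · -- `i = n - j + 1`, `j ≥ 1`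
      obtain ⟨j', rfl⟩ : ∃ j', j = j' + 1 := ⟨j - 1, by omega⟩
      have e1 : i = n - (j' + 1) + 1 := by omega
      have e2 : n - j' = n - (j' + 1) + 1 := by omega
      have e3 : i - 1 = n - (j' + 1) := by omega
      rw [c_succ, c_succ, e3, e1, e2]
      set k := n - (j' + 1) with hk
      have hb := T_braid (n + 1) k (by omega)
      have hc := c_comm n j' k (by omega)
      calc c n j' * T (n + 1) (k + 1) * T (n + 1) k * T (n + 1) (k + 1)
          = c n j' * (T (n + 1) (k + 1) * T (n + 1) k * T (n + 1) (k + 1)) := by group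
        _ = c n j' * (T (n + 1) k * T (n + 1) (k + 1) * T (n + 1) k) := by rw [hb]
        _ = (c n j' * T (n + 1) k) * T (n + 1) (k + 1) * T (n + 1) k := by group
        _ = (T (n + 1) k * c n j') * T (n + 1) (k + 1) * T (n + 1) k := by rw [hc]
        _ = T (n + 1) k * (c n j' * T (n + 1) (k + 1) * T (n + 1) k) := by group
    · rw [c_succ, mul_assoc, T_comm (n + 1) (n - j) i (by omega), ← mul_assoc,
        ih i (by omega) (by omega) h2, mul_assoc]

theorem T_mem_range (n i : ℕ) (hi : i < n) : ∃ h : Wn n, psi n h = T (n + 1) i :=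
  ⟨T n i, psi_T n i hi⟩

theorem exists_rep (n : ℕ) (w : Wn (n + 1)) :
    ∃ (h : Wn n) (j : ℕ), j ≤ n + 1 ∧ w = psi n h * c n j := by
  refine (csn (n + 1)).simple_induction_right (p := fun w => ∃ (h : Wn n) (j : ℕ),
    j ≤ n + 1 ∧ w = psi n h * c n j) w ⟨1, 0, by omega, by rw [map_one, c_zero, mul_one]⟩ ?_
  rintro w i ⟨h, j, hj, rfl⟩
  have hsi : (csn (n + 1)).simple i = T (n + 1) i := by
    rw [T_of_lt i.2]
  rw [hsi]
  have hi := i.2
  rcases lt_trichotomy ((i : ℕ) + j) n with h1 | h1 | h1
  · refine ⟨h * T n i, j, hj, ?_⟩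
    rw [map_mul, psi_T n i (by omega), mul_assoc, mul_assoc, c_comm n j i h1]
  · refine ⟨h, j + 1, by omega, ?_⟩
    rw [c_succ, mul_assoc]
    congr 3
    omega
  · by_cases h2 : (i : ℕ) + j = n + 1
    · obtain ⟨j', rfl⟩ : ∃ j', j = j' + 1 := ⟨j - 1, by omega⟩
      refine ⟨h, j', by omega, ?_⟩
      have e1 : (i : ℕ) = n - j' := by omega
      rw [c_succ, e1, mul_assoc, mul_assoc, T_sq, mul_one]
    · refine ⟨h * T n (i - 1), j, hj, ?_⟩
      rw [map_mul, psi_T n (i - 1) (by omega), mul_assoc, mul_assoc,
        c_shift n j i hj (by omega) (by omega)]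

end cosets

section card

theorem subsingleton_W0 : Subsingleton (Wn 0) := by
  refine ⟨fun a b => ?_⟩
  have h : ∀ w : Wn 0, w = 1 := by
    intro w
    refine (csn 0).simple_induction_right (p := fun w => w = 1) w rfl ?_
    intro w i
    exact i.elim0
  rw [h a, h b]

theorem finite_card (n : ℕ) : Finite (Wn n) ∧ Nat.card (Wn n) ≤ (n + 1).factorial := by
  induction n with
  | zero =>
    have := subsingleton_W0
    refine ⟨inferInstance, ?_⟩
    rw [Nat.card_of_subsingleton (1 : Wn 0)]
    simp
  | succ n ih =>
    obtain ⟨hfin, hcard⟩ := ih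
    let f : Fin (n + 2) × Wn n → Wn (n + 1) := fun p => psi n p.2 * c n p.1
    have hf : Function.Surjective f := by
      intro w
      obtain ⟨h, j, hj, rfl⟩ := exists_rep n w
      exact ⟨(⟨j, by omega⟩, h), rfl⟩
    have hfin' : Finite (Wn (n + 1)) := Finite.of_surjective f hf
    refine ⟨hfin', ?_⟩
    calc Nat.card (Wn (n + 1)) ≤ Nat.card (Fin (n + 2) × Wn n) :=
          Nat.card_le_card_of_surjective f hf
      _ = (n + 2) * Nat.card (Wn n) := by
          rw [Nat.card_prod, Nat.card_eq_fintype_card, Fintype.card_fin]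
      _ ≤ (n + 2) * (n + 1).factorial := Nat.mul_le_mul_left _ hcard
      _ = (n + 1 + 1).factorial := by
          rw [Nat.factorial_succ (n + 1)]

end card

section perm

theorem liftable_swap (n : ℕ) :
    (CoxeterMatrix.A n).IsLiftable
      (fun i : Fin n => (Equiv.swap i.castSucc i.succ : Equiv.Perm (Fin (n + 1)))) := by
  intro i i'
  show (Equiv.swap i.castSucc i.succ * Equiv.swap i'.castSucc i'.succ :
    Equiv.Perm (Fin (n + 1))) ^ (CoxeterMatrix.A n) i i' = 1
  rw [A_apply]
  by_cases h1 : i = i'
  · subst h1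
    rw [if_pos rfl, pow_one, Equiv.swap_mul_self]
  · rw [if_neg h1]
    have hv : (i : ℕ) ≠ i' := fun h => h1 (Fin.ext h)
    by_cases h2 : (i' : ℕ) + 1 = i ∨ (i : ℕ) + 1 = i'
    · rw [if_pos h2]
      rcases h2 with h2 | h2
      · -- `i'.succ = i.castSucc`
        have e : i.castSucc = i'.succ := by
          apply Fin.ext
          simp [← h2]
        rw [e, Equiv.swap_comm i'.castSucc]
        have h3 : Equiv.Perm.IsThreeCycle
            (Equiv.swap i'.succ i.succ * Equiv.swap i'.succ i'.castSucc) := by
          apply Equiv.Perm.isThreeCycle_swap_mul_swap_same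
          · intro h
            have := congrArg Fin.val h
            simp at this
            omega
          · intro h
            have := congrArg Fin.val h
            simp at this
          · intro h
            have := congrArg Fin.val h
            simp at this
            omega
        rw [← h3.orderOf]
        exact pow_orderOf_eq_one _
      · have e : i'.castSucc = i.succ := by
          apply Fin.ext
          simp [← h2]
        rw [e, Equiv.swap_comm i.castSucc]
        have h3 : Equiv.Perm.IsThreeCycle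
            (Equiv.swap i.succ i.castSucc * Equiv.swap i.succ i'.succ) := by
          apply Equiv.Perm.isThreeCycle_swap_mul_swap_same
          · intro h
            have := congrArg Fin.val h
            simp at this
          · intro h
            have := congrArg Fin.val h
            simp at this
            omega
          · intro h
            have := congrArg Fin.val h
            simp at this
            omega
        rw [← h3.orderOf]
        exact pow_orderOf_eq_one _
    · rw [if_neg h2]
      rw [not_or] at h2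
      have hd : Equiv.Perm.Disjoint (Equiv.swap i.castSucc i.succ)
          (Equiv.swap i'.castSucc i'.succ) := by
        apply Equiv.Perm.disjoint_swap_swap
        simp only [List.nodup_cons, List.mem_cons, List.not_mem_nil, or_false, not_or,
          List.nodup_nil, and_true, not_false_eq_true, Fin.ext_iff, Fin.val_castSucc, Fin.val_succ]
        omega
      rw [hd.commute.mul_pow, pow_two, pow_two, Equiv.swap_mul_self, Equiv.swap_mul_self, one_mul]

/-- The natural map to the symmetric group. -/
noncomputable def phi (n : ℕ) : Wn n →* Equiv.Perm (Fin (n + 1)) :=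
  (csn n).lift ⟨_, liftable_swap n⟩

theorem phi_simple (n : ℕ) (i : Fin n) :
    phi n ((csn n).simple i) = Equiv.swap i.castSucc i.succ := by
  unfold phi
  rw [CoxeterSystem.lift_apply_simple]

theorem phi_surjective (n : ℕ) : Function.Surjective (phi n) := by
  rw [← MonoidHom.mrange_eq_top]
  apply top_unique
  rw [← Equiv.Perm.mclosure_swap_castSucc_succ n, Submonoid.closure_le]
  rintro _ ⟨i, rfl⟩
  exact ⟨(csn n).simple i, phi_simple n i⟩

theorem phi_bijective (n : ℕ) : Function.Bijective (phi n) := by
  obtain ⟨hfin, hcard⟩ := finite_card n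
  apply (phi_surjective n).bijective_of_nat_card_le
  rw [Nat.card_eq_fintype_card (α := Equiv.Perm (Fin (n + 1))), Fintype.card_perm,
    Fintype.card_fin]
  exact hcard

end perm


/-- The Coxeter presentation of the symmetric group: for every n, the symmetric group on n+1 letters is the Coxeter group of type A_n with the adjacent transpositions (i, i+1) as simple reflections; that is, it is presented by generators r_1, …, r_n subject to r_i² = 1, (r_i r_j)² = 1 for |i − j| > 1 and (r_i r_{i+1})³ = 1, with r_i mapping to (i, i+1). -/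
theorem result (n : ℕ) :
    ∃ cs : CoxeterSystem (CoxeterMatrix.A n) (Equiv.Perm (Fin (n + 1))), ∀ i : Fin n, cs.simple i = Equiv.swap i.castSucc i.succ := by
  refine ⟨(csn n).map (MulEquiv.ofBijective (phi n) (phi_bijective n)), fun i => ?_⟩
  rw [CoxeterSystem.map_simple]
  exact phi_simple n i

end Cfsg.Agent.S2530
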