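import Cfsg.Statements.S2929
import Cfsg.Agent.Lib.Helper3.Components12
import Cfsg.Agent.Lib.Helper5.NilAlt2
import Cfsg.Agent.Lib.Helper8.SmallSolvable

set_option autoImplicit false
open Cfsg

namespace Cfsg.Agent.S2929


open Equiv Equiv.Perm Subgroup

theorem isPGroup_closure_of_comm {G : Type*} [Group G] (p : ℕ) (S : Set G)
    (hcomm : ∀ x ∈ S, ∀ y ∈ S, Commute x y) (hp : ∀ x ∈ S, x ^ p = 1) :
    IsPGroup p (closure S) := by
  have h1 : closure S ≤ centralizer (S : Set G) := by
    rw [closure_le]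
    intro x hx
    rw [SetLike.mem_coe, mem_centralizer_iff]
    intro y hy
    exact (hcomm y hy x hx).eq
  have h2 : closure S ≤ centralizer (closure S : Set G) := by
    rw [closure_le]
    intro x hx
    rw [SetLike.mem_coe, mem_centralizer_iff]
    intro y hy
    have := h1 hy
    rw [mem_centralizer_iff] at this
    exact (this x hx).symm
  have h3 : ∀ x ∈ closure S, x ^ p = 1 := by
    intro x hx
    induction hx using closure_induction with
    | mem x hx => exact hp x hx
    | one => exact one_pow p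
    | mul x y hx hy ihx ihy =>
      have hc : Commute x y := by
        have := h2 hy
        rw [mem_centralizer_iff] at this
        exact this x hx
      rw [hc.mul_pow, ihx, ihy, one_mul]
    | inv x hx ih => rw [inv_pow, ih, inv_one]
  intro g
  refine ⟨1, ?_⟩
  rw [pow_one]
  apply Subtype.ext
  rw [Subgroup.coe_pow]
  exact h3 g.1 g.2

/-- the standard 3-cycle on the `i`-th triple -/
noncomputable def cyc (n : ℕ) (i : Fin (n / 3)) : Perm (Fin n) :=
  swap (⟨3 * i.val, by have := i.2; omega⟩ : Fin n) ⟨3 * i.val + 1, by have := i.2; omega⟩ *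
    swap (⟨3 * i.val + 1, by have := i.2; omega⟩ : Fin n) ⟨3 * i.val + 2, by have := i.2; omega⟩

theorem cyc_isThreeCycle (n : ℕ) (i : Fin (n / 3)) : (cyc n i).IsThreeCycle := by
  rw [← card_support_eq_three_iff, cyc, support_swap_mul_swap]
  · rw [Finset.card_insert_of_notMem, Finset.card_insert_of_notMem, Finset.card_singleton]
    · simp
    · simp
  · simp

theorem cyc_support (n : ℕ) (i : Fin (n / 3)) (x : Fin n) :
    x ∈ (cyc n i).support ↔ x.val / 3 = i.val := by
  rw [cyc, support_swap_mul_swap]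
  · simp only [Finset.mem_insert, Finset.mem_singleton, Fin.ext_iff]
    omega
  · simp

theorem cyc_commute (n : ℕ) (i j : Fin (n / 3)) : Commute (cyc n i) (cyc n j) := by
  by_cases hij : i = j
  · subst hij; exact Commute.refl _
  apply Equiv.Perm.Disjoint.commute
  intro x
  by_cases hx : x ∈ (cyc n i).support
  · right
    have : x ∉ (cyc n j).support := by
      rw [cyc_support] at hx ⊢
      intro h
      exact hij (Fin.ext (hx.symm.trans h))
    exact notMem_support.mp this
  · left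
    exact notMem_support.mp hx

theorem exists_three_cycles (n : ℕ) (H : Subgroup (Perm (Fin n)))
    (P : Sylow 3 (Perm (Fin n))) (hP : (P : Subgroup (Perm (Fin n))) ≤ H) :
    ∃ g : Perm (Fin n), ∀ x : Fin n, x.val < 3 * (n / 3) →
      ∃ t ∈ H, t.IsThreeCycle ∧ g x ∈ t.support := by
  haveI : Fact (Nat.Prime 3) := ⟨Nat.prime_three⟩
  have hQ : IsPGroup 3 (closure (Set.range (cyc n))) := by
    apply isPGroup_closure_of_comm
    · rintro x ⟨i, rfl⟩ y ⟨j, rfl⟩
      exact cyc_commute n i j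
    · rintro x ⟨i, rfl⟩
      have := (cyc_isThreeCycle n i).orderOf
      rw [← this]
      exact pow_orderOf_eq_one _
  obtain ⟨Q, hQ'⟩ := hQ.exists_le_sylow
  obtain ⟨g, hg⟩ := MulAction.exists_smul_eq (Perm (Fin n)) Q P
  refine ⟨g, ?_⟩
  intro x hx
  have hi : x.val / 3 < n / 3 := by omega
  refine ⟨g * cyc n ⟨x.val / 3, hi⟩ * g⁻¹, ?_, ?_, ?_⟩
  · apply hP
    rw [← hg]
    rw [Sylow.coe_subgroup_smul, Subgroup.mem_pointwise_smul_iff_inv_smul_mem]
    rw [MulAut.smul_def, MulAut.conj_inv_apply]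
    apply hQ'
    have : g⁻¹ * (g * cyc n ⟨x.val / 3, hi⟩ * g⁻¹) * g = cyc n ⟨x.val / 3, hi⟩ := by group
    rw [this]
    exact subset_closure ⟨_, rfl⟩
  · rw [IsThreeCycle, cycleType_conj]
    exact cyc_isThreeCycle n _
  · have h1 : x ∈ (cyc n ⟨x.val / 3, hi⟩).support := by
      rw [cyc_support]
    rw [mem_support] at h1 ⊢
    rw [Perm.mul_apply, Perm.mul_apply, (Perm.inv_eq_iff_eq.mpr rfl : g⁻¹ (g x) = x)]
    intro h
    exact h1 (g.injective h)



open Cfsg.Agent.Lib.Helper3
open scoped commutatorElement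

universe u

theorem hom_eq_one_of_perfect {A B : Type*} [Group A] [Group B] [Group.IsPerfect A]
    [Group.IsSolvable B] (f : A →* B) (a : A) : f a = 1 := by
  by_contra hne
  haveI : Group.IsPerfect f.range := Group.IsPerfect.range f
  haveI : Group.IsSolvable f.range := solvable_of_solvable_injective f.range.subtype_injective
  haveI : Nontrivial f.range := by
    refine ⟨⟨⟨f a, a, rfl⟩, 1, ?_⟩⟩
    intro h
    exact hne (congrArg Subtype.val h)
  exact Group.IsPerfect.not_isSolvable f.range inferInstance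

variable {Ω : Type u} [Fintype Ω] [DecidableEq Ω]

theorem not_mem_centralizer (H L : Subgroup (Perm Ω)) (hQ : Cfsg.IsQuasisimple L)
    (hC : H ⊓ centralizer (L : Set (Perm Ω)) ≤ L) (t : Perm Ω) (ht : t ∈ H)
    (h3 : t.IsThreeCycle) : t ∉ centralizer (L : Set (Perm Ω)) := by
  intro hc
  have htL : t ∈ L := hC ⟨ht, hc⟩
  haveI : Group.IsPerfect L := hQ.1
  have hp : ∀ (l : L) (a : Ω), (l • a) ∈ t.support ↔ a ∈ t.support := by
    intro l a
    have hcom : t * l.1 = l.1 * t := ((mem_centralizer_iff.mp hc) l.1 l.2).symm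
    have h1 : t (l.1 a) = l.1 (t a) := by
      have := congrArg (fun f : Perm Ω => f a) hcom
      simpa [Perm.mul_apply] using this
    rw [mem_support, mem_support]
    show t (l.1 a) ≠ l.1 a ↔ t a ≠ a
    rw [h1]
    exact not_congr l.1.injective.eq_iff
  let φ := Cfsg.Agent.Lib.Helper5.NilSym.resHom (G := L) (fun a => a ∈ t.support) hp
  haveI : Group.IsSolvable (Perm {a // a ∈ t.support}) := by
    apply Cfsg.Agent.Lib.Helper8.isSolvable_of_card_dvd_24
    rw [Nat.card_perm, Nat.card_eq_fintype_card, Fintype.card_coe, h3.card_support]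
    decide
  have h1 := hom_eq_one_of_perfect φ ⟨t, htL⟩
  have hne : t.support.Nonempty := by
    rw [← Finset.card_pos, h3.card_support]; norm_num
  obtain ⟨a, ha⟩ := hne
  have h2 := congrArg (fun f : Perm {a // a ∈ t.support} => ((f ⟨a, ha⟩ : {a // a ∈ t.support}) : Ω)) h1
  simp only [Perm.coe_one, id_eq] at h2
  rw [Cfsg.Agent.Lib.Helper5.NilSym.resHom_apply] at h2
  exact (mem_support.mp ha) h2

theorem le_closure_conj (H L : Subgroup (Perm Ω)) (hLH : L ≤ H)
    (hN : H ≤ normalizer (L : Set (Perm Ω))) (hQ : Cfsg.IsQuasisimple L)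
    (hC : H ⊓ centralizer (L : Set (Perm Ω)) ≤ L) (t : Perm Ω) (ht : t ∈ H)
    (h3 : t.IsThreeCycle) : L ≤ closure {d | ∃ l ∈ L, d = l * t * l⁻¹} := by
  have hnc := not_mem_centralizer H L hQ hC t ht h3
  have hTH : zpowers t ≤ H := by
    rw [zpowers_le]; exact ht
  have hML : ⁅L, zpowers t⁆ ≤ L := by
    rw [Subgroup.commutator_le]
    intro l hl s hs
    have hsN := hN (hTH hs)
    rw [mem_normalizer_iff] at hsN
    have h1 : s * l⁻¹ * s⁻¹ ∈ L := (hsN l⁻¹).mp (L.inv_mem hl)
    have : ⁅l, s⁆ = l * (s * l⁻¹ * s⁻¹) := by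
      rw [commutatorElement_def]; group
    rw [this]
    exact L.mul_mem hl h1
  have hn := le_normalizer_commutator_left L (zpowers t)
  rcases IsQuasisimple.eq_or_commutator_eq_bot hQ hML hn with h | h
  · refine h.ge.trans ?_
    rw [Subgroup.commutator_le]
    intro l hl s hs
    obtain ⟨k, rfl⟩ := mem_zpowers_iff.mp hs
    have : ⁅l, t ^ k⁆ = (l * t * l⁻¹) ^ k * ((1 : Perm Ω) * t * 1⁻¹) ^ (-k) := by
      rw [commutatorElement_def, conj_zpow]
      simp
    rw [this]
    apply Subgroup.mul_mem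
    · apply Subgroup.zpow_mem
      exact subset_closure ⟨l, hl, rfl⟩
    · apply Subgroup.zpow_mem
      exact subset_closure ⟨1, L.one_mem, rfl⟩
  · exfalso
    have h1 : ⁅⁅L, zpowers t⁆, L⁆ = ⊥ := by
      rw [Subgroup.commutator_comm]; exact h
    have h2 : ⁅⁅zpowers t, L⁆, L⁆ = ⊥ := by
      rw [Subgroup.commutator_comm (zpowers t) L]; exact h1
    have h4 := Subgroup.commutator_commutator_eq_bot_of_rotate h1 h2
    rw [IsQuasisimple.commutator_eq_self hQ, Subgroup.commutator_eq_bot_iff_le_centralizer,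
      Subgroup.le_centralizer_iff] at h4
    exact hnc (h4 (mem_zpowers t))



open scoped Pointwise

theorem inv_iff_of_fix (Δ : Set Ω) (m : Perm Ω) (hfix : ∀ x, x ∉ Δ → m x = x) (x : Ω) :
    m x ∈ Δ ↔ x ∈ Δ := by
  constructor
  · intro h
    by_contra hx
    rw [hfix x hx] at h
    exact hx h
  · intro h
    by_contra hx
    have h1 := hfix (m x) hx
    have h2 := m.injective h1
    rw [h2] at hx
    exact hx h

theorem exists_lift (Δ : Set Ω) [DecidablePred (· ∈ Δ)] (m : Perm Ω)
    (hfix : ∀ x, x ∉ Δ → m x = x) :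
    ∃ g : Perm {x // x ∈ Δ}, ofSubtype g = m ∧ ∀ x : {x // x ∈ Δ}, ((g x : {x // x ∈ Δ}) : Ω) = m x := by
  refine ⟨subtypePerm m (fun x => inv_iff_of_fix Δ m hfix x), ?_, ?_⟩
  · apply ofSubtype_subtypePerm
    intro x hx
    by_contra hn
    exact hx (hfix x hn)
  · intro x
    rfl

theorem comap_eq_alternatingGroup (Δ : Set Ω) [DecidablePred (· ∈ Δ)]
    (M : Subgroup (Perm Ω)) (D : Set (Perm Ω)) (hD : M = closure D)
    (h3D : ∀ d ∈ D, d.IsThreeCycle) (hDne : D.Nonempty)
    (hfix : ∀ m ∈ M, ∀ x, x ∉ Δ → m x = x)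
    (htrans : ∀ x ∈ Δ, ∀ y ∈ Δ, ∃ m ∈ M, m x = y) :
    M.comap (ofSubtype : Perm {x // x ∈ Δ} →* Perm Ω) = alternatingGroup {x // x ∈ Δ} := by
  have hDM : D ⊆ M := by rw [hD]; exact subset_closure
  apply le_antisymm
  · intro g hg
    rw [mem_comap] at hg
    have h1 : M ≤ alternatingGroup Ω := by
      rw [hD, closure_le]
      intro d hd
      exact (h3D d hd).mem_alternatingGroup
    have h2 := h1 hg
    rw [mem_alternatingGroup, sign_ofSubtype] at h2
    exact mem_alternatingGroup.mpr h2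
  · obtain ⟨d₀, hd₀⟩ := hDne
    obtain ⟨g₀, hg₀, -⟩ := exists_lift Δ d₀ (hfix d₀ (hDM hd₀))
    have hg₀3 : g₀.IsThreeCycle := by
      have := h3D d₀ hd₀
      rw [← hg₀, IsThreeCycle, cycleType_ofSubtype] at this
      exact this
    have hg₀M : g₀ ∈ M.comap (ofSubtype : Perm {x // x ∈ Δ} →* Perm Ω) := by
      rw [mem_comap, hg₀]; exact hDM hd₀
    refine alternatingGroup_le_of_isPreprimitive_of_isThreeCycle_mem ?_ hg₀3 hg₀M
    set G' := M.comap (ofSubtype : Perm {x // x ∈ Δ} →* Perm Ω) with hG'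
    haveI : MulAction.IsPretransitive G' {x // x ∈ Δ} := by
      constructor
      intro x y
      obtain ⟨m, hm, hxy⟩ := htrans x.1 x.2 y.1 y.2
      obtain ⟨g, hg, hgx⟩ := exists_lift Δ m (hfix m hm)
      refine ⟨⟨g, ?_⟩, ?_⟩
      · rw [hG', mem_comap, hg]; exact hm
      · apply Subtype.ext
        show ((g x : {x // x ∈ Δ}) : Ω) = y
        rw [hgx, hxy]
    refine ⟨?_⟩
    intro B hB
    by_cases hBs : B.Subsingleton
    · exact Or.inl hBs
    right
    rw [Set.not_subsingleton_iff] at hBs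
    obtain ⟨x, hx, y, hy, hxy⟩ := hBs
    -- every element of `M` lifts to an element of `G'` stabilizing `B`
    have key : M ≤ ((MulAction.stabilizer G' B).map G'.subtype).map
        (ofSubtype : Perm {x // x ∈ Δ} →* Perm Ω) := by
      rw [hD, closure_le]
      intro d hd
      obtain ⟨g, hg, hgx⟩ := exists_lift Δ d (hfix d (hDM hd))
      have hgG : g ∈ G' := by
        rw [hG', mem_comap, hg]; exact hDM hd
      refine ⟨g, ⟨⟨g, hgG⟩, ?_, rfl⟩, hg⟩
      rw [SetLike.mem_coe, MulAction.mem_stabilizer_iff]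
      rcases hB.smul_eq_or_disjoint ⟨g, hgG⟩ with h | h
      · exact h
      exfalso
      have hgx' : (⟨g, hgG⟩ : G') • x ∉ B := by
        intro hcon
        exact Set.disjoint_left.mp h (Set.smul_mem_smul_set hx) hcon
      have hgy' : (⟨g, hgG⟩ : G') • y ∉ B := by
        intro hcon
        exact Set.disjoint_left.mp h (Set.smul_mem_smul_set hy) hcon
      have e1 : ((⟨g, hgG⟩ : G') • x : {x // x ∈ Δ}) = g x := rfl
      have e2 : ((⟨g, hgG⟩ : G') • y : {x // x ∈ Δ}) = g y := rfl
      rw [e1] at hgx'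
      rw [e2] at hgy'
      have n1 : x.1 ≠ y.1 := fun h => hxy (Subtype.ext h)
      have n2 : d x.1 ≠ x.1 := by
        rw [← hgx]; intro h; apply hgx'; rw [Subtype.ext h]; exact hx
      have n3 : d x.1 ≠ y.1 := by
        rw [← hgx]; intro h; apply hgx'; rw [Subtype.ext h]; exact hy
      have n4 : d y.1 ≠ x.1 := by
        rw [← hgx]; intro h; apply hgy'; rw [Subtype.ext h]; exact hx
      have n5 : d y.1 ≠ y.1 := by
        rw [← hgx]; intro h; apply hgy'; rw [Subtype.ext h]; exact hy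
      have n6 : d x.1 ≠ d y.1 := fun h => n1 (d.injective h)
      have hsub : ({x.1, y.1, d x.1, d y.1} : Finset Ω) ⊆ d.support := by
        intro z hz
        simp only [Finset.mem_insert, Finset.mem_singleton] at hz
        rcases hz with rfl | rfl | rfl | rfl
        · exact mem_support.mpr n2
        · exact mem_support.mpr n5
        · exact apply_mem_support.mpr (mem_support.mpr n2)
        · exact apply_mem_support.mpr (mem_support.mpr n5)
      have hcard : ({x.1, y.1, d x.1, d y.1} : Finset Ω).card = 4 := by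
        rw [Finset.card_insert_of_notMem, Finset.card_insert_of_notMem,
          Finset.card_insert_of_notMem, Finset.card_singleton]
        · simp only [Finset.mem_singleton]; exact n6
        · simp only [Finset.mem_insert, Finset.mem_singleton, not_or]
          exact ⟨n3.symm, n5.symm⟩
        · simp only [Finset.mem_insert, Finset.mem_singleton, not_or]
          exact ⟨n1, n2.symm, n4.symm⟩
      have := Finset.card_le_card hsub
      rw [hcard, (h3D d hd).card_support] at this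
      omega
    rw [Set.eq_univ_iff_forall]
    intro w
    obtain ⟨m, hm, hmw⟩ := htrans x.1 x.2 w.1 w.2
    obtain ⟨g, ⟨g', hg', rfl⟩, hgm⟩ := key hm
    rw [SetLike.mem_coe, MulAction.mem_stabilizer_iff] at hg'
    have : g' • x = w := by
      apply Subtype.ext
      show ((g'.1 x : {x // x ∈ Δ}) : Ω) = w.1
      rw [← hmw, ← hgm]
      exact (ofSubtype_apply_coe _ _).symm
    rw [← this, ← hg']
    exact Set.smul_mem_smul_set hx


theorem inv_app' {α : Type*} (f : Perm α) (x : α) : f⁻¹ (f x) = x := Perm.inv_eq_iff_eq.mpr rfl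

theorem app_inv' {α : Type*} (f : Perm α) (x : α) : f (f⁻¹ x) = x := (Equiv.eq_symm_apply f).mp rfl

theorem core (H L : Subgroup (Perm Ω)) (hLH : L ≤ H)
    (hN : H ≤ normalizer (L : Set (Perm Ω))) (hQ : Cfsg.IsQuasisimple L)
    (hC : H ⊓ centralizer (L : Set (Perm Ω)) ≤ L) (t : Perm Ω) (ht : t ∈ H)
    (h3 : t.IsThreeCycle) :
    (∀ x ∈ t.support, ∃ l ∈ L, l x ≠ x) ∧
      Nonempty (↥L ≃* alternatingGroup (Fin (Nat.card {x // ∃ l ∈ L, l x ≠ x}))) := by
  set D : Set (Perm Ω) := {d | ∃ l ∈ L, d = l * t * l⁻¹} with hDdef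
  set MM := closure D with hMM
  have hLM : L ≤ MM := le_closure_conj H L hLH hN hQ hC t ht h3
  have hMH : MM ≤ H := by
    rw [hMM, closure_le]
    rintro d ⟨l, hl, rfl⟩
    exact H.mul_mem (H.mul_mem (hLH hl) ht) (H.inv_mem (hLH hl))
  have htD : t ∈ D := ⟨1, L.one_mem, by simp⟩
  have htM : t ∈ MM := subset_closure htD
  have h3D : ∀ d ∈ D, d.IsThreeCycle := by
    rintro d ⟨l, hl, rfl⟩
    rw [IsThreeCycle, cycleType_conj]; exact h3
  obtain ⟨a, ha⟩ : t.support.Nonempty := by
    rw [← Finset.card_pos, h3.card_support]; norm_num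
  set Δ : Set Ω := MulAction.orbit MM a with hΔ
  have hΔinv : ∀ m ∈ MM, ∀ x ∈ Δ, m x ∈ Δ := by
    intro m hm x hx
    exact MulAction.mem_orbit_of_mem_orbit (⟨m, hm⟩ : MM) hx
  have F0 : ∀ x ∈ t.support, x ∈ Δ := by
    intro x hx
    obtain ⟨i, hi⟩ := h3.isCycle.exists_zpow_eq (mem_support.mp ha) (mem_support.mp hx)
    rw [← hi]
    exact ⟨⟨t ^ i, MM.zpow_mem htM i⟩, rfl⟩
  have F1 : ∀ d ∈ D, ∀ x, x ∉ Δ → d x = x := by
    rintro d ⟨l, hl, rfl⟩ x hx
    by_contra hne
    apply hx
    have h1 : l⁻¹ x ∈ t.support := by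
      rw [mem_support]
      intro h
      apply hne
      rw [Perm.mul_apply, Perm.mul_apply, h]
      exact app_inv' l x
    have h2 := hΔinv l (hLM hl) _ (F0 _ h1)
    rwa [app_inv'] at h2
  have hfix : ∀ m ∈ MM, ∀ x, x ∉ Δ → m x = x := by
    intro m hm x hx
    induction hm using closure_induction with
    | mem d hd => exact F1 d hd x hx
    | one => rfl
    | mul m₁ m₂ _ _ ih₁ ih₂ => rw [Perm.mul_apply, ih₂, ih₁]
    | inv m _ ih => exact Perm.inv_eq_iff_eq.mpr ih.symm
  have htrans : ∀ x ∈ Δ, ∀ y ∈ Δ, ∃ m ∈ MM, m x = y := by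
    rintro x ⟨m₁, rfl⟩ y ⟨m₂, rfl⟩
    refine ⟨m₂.1 * m₁.1⁻¹, MM.mul_mem m₂.2 (MM.inv_mem m₁.2), ?_⟩
    show (m₂.1 * m₁.1⁻¹) (m₁.1 a) = m₂.1 a
    rw [Perm.mul_apply, inv_app']
  haveI : DecidablePred (· ∈ Δ) := Classical.decPred _
  have hJ := comap_eq_alternatingGroup Δ MM D hMM h3D ⟨t, htD⟩ hfix htrans
  set ι := (ofSubtype : Perm {x // x ∈ Δ} →* Perm Ω) with hι
  have hιinj : Function.Injective ι := ofSubtype_injective
  have hrange : ∀ m ∈ MM, ∃ g, ι g = m := fun m hm => by
    obtain ⟨g, hg, -⟩ := exists_lift Δ m (hfix m hm); exact ⟨g, hg⟩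
  set L'' := L.comap ι with hL''
  have hmap : L''.map ι = L := by
    apply le_antisymm
    · rw [map_le_iff_le_comap]
    · intro l hl
      obtain ⟨g, hg⟩ := hrange l (hLM hl)
      exact ⟨g, by rw [SetLike.mem_coe, hL'', mem_comap, hg]; exact hl, hg⟩
  let e : L'' ≃* L := (equivMapOfInjective L'' ι hιinj).trans (MulEquiv.subgroupCongr hmap)
  have hQ'' : Cfsg.IsQuasisimple L'' := isQuasisimple_of_mulEquiv e.symm hQ
  have h5 : 5 ≤ Nat.card {x // x ∈ Δ} := by
    by_contra hlt
    rw [not_le] at hlt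
    haveI : Group.IsSolvable (Perm {x // x ∈ Δ}) := by
      apply Cfsg.Agent.Lib.Helper8.isSolvable_of_card_dvd_24
      rw [Nat.card_perm]
      exact (Nat.factorial_dvd_factorial (Nat.lt_succ_iff.mp hlt))
    exact IsQuasisimple.not_isSolvable hQ'' (solvable_of_solvable_injective L''.subtype_injective)
  haveI := alternatingGroup.isSimpleGroup h5
  have hL''A : L'' ≤ alternatingGroup {x // x ∈ Δ} := by
    rw [← hJ]; exact comap_mono hLM
  have hnorm : alternatingGroup {x // x ∈ Δ} ≤ normalizer (L'' : Set (Perm {x // x ∈ Δ})) := by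
    rw [← hJ]
    intro g hg
    rw [mem_comap] at hg
    have hgN := hN (hMH hg)
    rw [mem_normalizer_iff] at hgN ⊢
    intro h
    rw [hL'', mem_comap, mem_comap, map_mul, map_mul, map_inv]
    exact hgN (ι h)
  haveI : (L''.subgroupOf (alternatingGroup {x // x ∈ Δ})).Normal :=
    (normal_subgroupOf_iff_le_normalizer hL''A).mpr hnorm
  have hL''eq : L'' = alternatingGroup {x // x ∈ Δ} := by
    rcases Subgroup.Normal.eq_bot_or_eq_top
      (inferInstance : (L''.subgroupOf (alternatingGroup {x // x ∈ Δ})).Normal) with h | h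
    · exfalso
      rw [subgroupOf_eq_bot] at h
      exact IsQuasisimple.ne_bot hQ'' (h.eq_bot_of_le hL''A)
    · rw [subgroupOf_eq_top] at h
      exact le_antisymm hL''A h
  let e' : L ≃* alternatingGroup {x // x ∈ Δ} := e.symm.trans (MulEquiv.subgroupCongr hL''eq)
  have hML : MM ≤ L := by
    intro m hm
    obtain ⟨g, hg⟩ := hrange m hm
    have : g ∈ L'' := by
      rw [hL''eq, ← hJ, mem_comap, hg]; exact hm
    rw [hL'', mem_comap, hg] at this
    exact this
  have hmoved : ∀ x, (∃ l ∈ L, l x ≠ x) ↔ x ∈ Δ := by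
    intro x
    constructor
    · rintro ⟨l, hl, hne⟩
      by_contra hx
      exact hne (hfix l (hLM hl) x hx)
    · intro hx
      haveI : Nontrivial {x // x ∈ Δ} := by
        apply Finite.one_lt_card_iff_nontrivial.mp
        omega
      obtain ⟨y, hy⟩ := exists_ne (⟨x, hx⟩ : {x // x ∈ Δ})
      obtain ⟨m, hm, hmx⟩ := htrans x hx y.1 y.2
      refine ⟨m, hML hm, ?_⟩
      rw [hmx]
      intro h
      exact hy (Subtype.ext h)
  have hcard : Nat.card {x // ∃ l ∈ L, l x ≠ x} = Nat.card {x // x ∈ Δ} :=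
    Nat.card_congr (Equiv.subtypeEquivRight hmoved)
  refine ⟨fun x hx => (hmoved x).mpr (F0 x hx), ⟨e'.trans (Equiv.altCongrHom ?_)⟩⟩
  exact Finite.equivFinOfCardEq hcard.symm


/-- Let n ≥ 5 and let H be a subgroup of the symmetric group of degree n whose generalized Fitting subgroup F*(H) is quasisimple. If H contains a Sylow 3-subgroup of the symmetric group, then F*(H) is isomorphic to an alternating group of degree m for some m ∈ {n − 2, n − 1, n}. -/
theorem result (n : ℕ) (hn : 5 ≤ n) (H : Subgroup (Equiv.Perm (Fin n))) (hF : Cfsg.IsQuasisimple ↥(Cfsg.generalizedFittingSubgroup ↥H)) (hS : ∃ P : Sylow 3 (Equiv.Perm (Fin n)), (P : Subgroup (Equiv.Perm (Fin n))) ≤ H) : ∃ m : ℕ, (m = n - 2 ∨ m = n - 1 ∨ m = n) ∧ Nonempty (↥(Cfsg.generalizedFittingSubgroup ↥H) ≃* ↥(alternatingGroup (Fin m))) := by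
  classical
  set L : Subgroup (Equiv.Perm (Fin n)) :=
    (Cfsg.generalizedFittingSubgroup ↥H).map H.subtype with hL
  have hLH : L ≤ H := Subgroup.map_subtype_le _
  have hN : H ≤ Subgroup.normalizer (L : Set (Equiv.Perm (Fin n))) := by
    have h1 := Subgroup.le_normalizer_map (H := Cfsg.generalizedFittingSubgroup ↥H) H.subtype
    rw [Subgroup.normalizer_eq_top, ← MonoidHom.range_eq_map, Subgroup.range_subtype] at h1
    exact h1
  have hQ : Cfsg.IsQuasisimple L :=
    isQuasisimple_map_of_injective H.subtype H.subtype_injective hF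
  have hC : H ⊓ Subgroup.centralizer (L : Set (Equiv.Perm (Fin n))) ≤ L := by
    rintro x ⟨hxH, hxC⟩
    have h1 : (⟨x, hxH⟩ : H) ∈ Subgroup.centralizer
        (Cfsg.generalizedFittingSubgroup ↥H : Set ↥H) := by
      rw [Subgroup.mem_centralizer_iff]
      intro y hy
      apply Subtype.ext
      have hyL : (y : Equiv.Perm (Fin n)) ∈ L := ⟨y, hy, rfl⟩
      exact (Subgroup.mem_centralizer_iff.mp hxC) y.1 hyL
    have h2 := centralizer_generalizedFittingSubgroup_le h1
    exact ⟨⟨x, hxH⟩, h2, rfl⟩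
  obtain ⟨P, hP⟩ := hS
  obtain ⟨g, hg⟩ := exists_three_cycles n H P hP
  have hk : 0 < 3 * (n / 3) := by omega
  obtain ⟨t₀, ht₀, h3t₀, -⟩ := hg ⟨0, by omega⟩ hk
  obtain ⟨-, ⟨e⟩⟩ := core H L hLH hN hQ hC t₀ ht₀ h3t₀
  refine ⟨Nat.card {x // ∃ l ∈ L, l x ≠ x}, ?_,
    ⟨(Subgroup.equivMapOfInjective _ H.subtype H.subtype_injective).trans e⟩⟩
  have hle : Nat.card {x // ∃ l ∈ L, l x ≠ x} ≤ n := by
    have := Nat.card_le_card_of_injective (Subtype.val : {x // ∃ l ∈ L, l x ≠ x} → Fin n)
      Subtype.val_injective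
    rwa [Nat.card_fin] at this
  have hge : 3 * (n / 3) ≤ Nat.card {x // ∃ l ∈ L, l x ≠ x} := by
    have hmem : ∀ i : Fin (3 * (n / 3)), ∃ l ∈ L, l (g ⟨i.val, by have := i.2; omega⟩) ≠
        g ⟨i.val, by have := i.2; omega⟩ := by
      intro i
      obtain ⟨t, ht, h3t, hx⟩ := hg ⟨i.val, by have := i.2; omega⟩ i.2
      exact (core H L hLH hN hQ hC t ht h3t).1 _ hx
    have := Nat.card_le_card_of_injective
      (fun i : Fin (3 * (n / 3)) => (⟨g ⟨i.val, by have := i.2; omega⟩, hmem i⟩ :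
        {x // ∃ l ∈ L, l x ≠ x})) (by
        intro i j hij
        have h1 := congrArg Subtype.val hij
        have h2 := g.injective h1
        exact Fin.ext (Fin.mk.inj h2))
    rwa [Nat.card_fin] at this
  omega

end Cfsg.Agent.S2929
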