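import Mathlib
import Cfsg.Statements.S4448
import Cfsg.Agent.Lib.Helper8.AB5

set_option autoImplicit false
open Cfsg

namespace Cfsg.Agent.S4448

open scoped ComplexConjugate
open Cfsg.Agent.Lib.Helper1 Cfsg.Agent.Lib.Helper4 Cfsg.Agent.Lib.Helper8

/-- Inside a finite group Γ let S normalise G and also normalise a normal subgroup N of G, with the order of S coprime to the index of N in G and G/N solvable. Then for every S-invariant irreducible character ϑ of N, the induced character ϑ^G has an S-invariant irreducible constituent. -/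
theorem result {Γ : Type*} [Group Γ] [Fintype Γ] (G S N : Subgroup Γ) [Fintype G] [Fintype N] (hnorm : ∀ s ∈ S, ∀ g ∈ G, s * g * s⁻¹ ∈ G) (hNG : N ≤ G) [hNn : (N.subgroupOf G).Normal] (hNS : ∀ s ∈ S, ∀ n ∈ N, s * n * s⁻¹ ∈ N) (hcop : (N.relIndex G).Coprime (Nat.card S)) (hsolv : Group.IsSolvable (G ⧸ N.subgroupOf G)) (θ : Cfsg.IrrCharacter N) (hinv : (∀ s ∈ S, ∀ g g' : N, (g' : Γ) = s * g * s⁻¹ → (θ : N → ℂ) g' = (θ : N → ℂ) g)) : ∃ χ : Cfsg.IrrCharacter G, Cfsg.classInner (fun n : N => (χ : G → ℂ) ⟨n, hNG n.2⟩) (θ : N → ℂ) ≠ 0 ∧ (∀ s ∈ S, ∀ g g' : G, (g' : Γ) = s * g * s⁻¹ → (χ : G → ℂ) g' = (χ : G → ℂ) g) := by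
  classical
  have hGN : ∀ g ∈ G, Normalizes g N := by
    intro g hg
    apply normalizes_of_forall (S := G) _ hg
    intro t ht n hn
    have h1 : (⟨n, hNG hn⟩ : G) ∈ N.subgroupOf G := Subgroup.mem_subgroupOf.2 hn
    have h2 := hNn.conj_mem ⟨n, hNG hn⟩ h1 ⟨t, ht⟩
    exact Subgroup.mem_subgroupOf.1 h2
  obtain ⟨n, hn⟩ := hsolv.solvable
  have hder : (derivedSeries ↥G n).map G.subtype ≤ N := by
    rw [Subgroup.map_le_iff_le_comap]
    intro x hx
    have h1 : (QuotientGroup.mk' (N.subgroupOf G)) x ∈ derivedSeries (↥G ⧸ N.subgroupOf G) n :=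
      map_derivedSeries_le_derivedSeries (QuotientGroup.mk' (N.subgroupOf G)) n ⟨x, hx, rfl⟩
    rw [hn, Subgroup.mem_bot] at h1
    exact Subgroup.mem_subgroupOf.1 ((QuotientGroup.eq_one_iff x).1 h1)
  exact exists_inv_over_solvable n G N hNG hGN
    (fun s hs => normalizes_of_forall hnorm hs) (fun s hs => normalizes_of_forall hNS hs)
    hcop hder θ hinv

end Cfsg.Agent.S4448
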