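import Mathlib
import Cfsg.Statements.S4444
import Cfsg.Agent.Lib.Helper8.GL17

set_option autoImplicit false
open Cfsg

namespace Cfsg.Agent.S4444

open scoped ComplexConjugate
open Cfsg.Agent.Lib.Helper1 Cfsg.Agent.Lib.Helper4 Cfsg.Agent.Lib.Helper8

/-- The Glauberman correspondence for a p-group of operators. Inside a finite group Γ let S normalise G with the orders of G and S coprime, S a p-group, and let C = G ⊓ C(S) be the fixed points. Call an irreducible character χ of G S-invariant when χ(s g s⁻¹) = χ(g) for s ∈ S, g ∈ G. Then: (i) for every S-invariant χ there is exactly one irreducible character β of C whose multiplicity [χ_C, β] in the restriction of χ is not divisible by p; (ii) that multiplicity is ≡ 1 or ≡ −1 (mod p); (iii) distinct S-invariant χ give distinct β; (iv) every irreducible character of C arises in this way. So χ ↦ β is a bijection from the S-invariant irreducible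 characters of G onto the irreducible characters of C. -/
theorem result {Γ : Type*} [Group Γ] [Fintype Γ] (G S : Subgroup Γ) [Fintype G] (hnorm : ∀ s ∈ S, ∀ g ∈ G, s * g * s⁻¹ ∈ G) (hcop : (Nat.card G).Coprime (Nat.card S)) (p : ℕ) (hp : p.Prime) (hS : IsPGroup p S) (C : Subgroup Γ) [Fintype C] (hC : C = G ⊓ Subgroup.centralizer (S : Set Γ)) (hCG : C ≤ G) : (∀ χ : Cfsg.IrrCharacter G, (∀ s ∈ S, ∀ g g' : G, (g' : Γ) = s * g * s⁻¹ → (χ : G → ℂ) g' = (χ : G → ℂ) g) → ∃! β : Cfsg.IrrCharacter C, ∃ m : ℕ, Cfsg.classInner (fun c : C => (χ : G → ℂ) ⟨c, hCG c.2⟩) (β : C → ℂ) = (m : ℂ) ∧ ¬ p ∣ m) ∧ (∀ χ : Cfsg.IrrCharacter G, (∀ s ∈ S, ∀ g g' : G, (g' : Γ) = s * g * s⁻¹ → (χ : G → ℂ) g' = (χ : G → ℂ) g) → ∀ β : Cfsg.IrrCharacter C, ∀ m : ℕ, Cfsg.classInner (fun c : C => (χ : G → ℂ) ⟨c, hCG c.2⟩) (β : C → ℂ) = (m : ℂ) → ¬ p ∣ m → ((m : ℤ) ≡ 1 [ZMOD p] ∨ (m : ℤ) ≡ -1 [ZMOD p])) ∧ (∀ χ χ' : Cfsg.IrrCharacter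 G, (∀ s ∈ S, ∀ g g' : G, (g' : Γ) = s * g * s⁻¹ → (χ : G → ℂ) g' = (χ : G → ℂ) g) → (∀ s ∈ S, ∀ g g' : G, (g' : Γ) = s * g * s⁻¹ → (χ' : G → ℂ) g' = (χ' : G → ℂ) g) → ∀ β : Cfsg.IrrCharacter C, ∀ m m' : ℕ, Cfsg.classInner (fun c : C => (χ : G → ℂ) ⟨c, hCG c.2⟩) (β : C → ℂ) = (m : ℂ) → ¬ p ∣ m → Cfsg.classInner (fun c : C => (χ' : G → ℂ) ⟨c, hCG c.2⟩) (β : C → ℂ) = (m' : ℂ) → ¬ p ∣ m' → χ = χ') ∧ (∀ β : Cfsg.IrrCharacter C, ∃ χ : Cfsg.IrrCharacter G, (∀ s ∈ S, ∀ g g' : G, (g' : Γ) = s * g * s⁻¹ → (χ : G → ℂ) g' = (χ : G → ℂ) g) ∧ ∃ m : ℕ, Cfsg.classInner (fun c : C => (χ : G → ℂ) ⟨c, hCG c.2⟩) (β : C → ℂ) = (m : ℂ) ∧ ¬ p ∣ m) := by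
  classical
  haveI : Fact p.Prime := ⟨hp⟩
  obtain ⟨n, hn⟩ := hS.exists_card_eq
  have hSH : ∀ x ∈ S, Normalizes x G := fun x hx => normalizes_of_forall hnorm hx
  have hGP : GlauProp p G C hCG (fun χ => InvS S G (χ : G → ℂ)) := by
    rcases Nat.eq_zero_or_pos n with h0 | h0
    · rw [h0, pow_zero, Subgroup.card_eq_one] at hn
      rw [hn, centralizer_bot_inf] at hC
      apply glauProp_trivial' hp _ _ C hC
      intro χ s hs
      rw [hn, Subgroup.mem_bot] at hs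
      rw [hs]
      exact InvElt.one G _
    · have hcop' : (Nat.card G).Coprime p := by
        rw [hn] at hcop
        exact (Nat.coprime_pow_right_iff h0 _ _).1 hcop
      exact glauProp_pgroup hp n G S hn hSH hcop' C hC hCG
  refine ⟨?_, ?_, ?_, ?_⟩
  · intro χ hχ
    obtain ⟨β, ε, hε, hc⟩ := hGP.corr χ hχ
    obtain ⟨m, hm, hpm⟩ := GlauProp.not_dvd_self hp hε hc
    refine ⟨β, ⟨m, hm, hpm⟩, ?_⟩
    rintro β' ⟨m', hm', hpm'⟩
    exact GlauProp.eq_of_not_dvd hc hm' hpm'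
  · intro χ hχ β m hm hpm
    obtain ⟨β₀, ε, hε, hc⟩ := hGP.corr χ hχ
    have e1 : β = β₀ := GlauProp.eq_of_not_dvd hc hm hpm
    obtain ⟨m', hm', hmc'⟩ := hc β
    rw [if_pos e1] at hmc'
    have : m' = m := by
      have : (m' : ℂ) = m := by rw [← hm', ← hm]
      exact_mod_cast this
    rw [this] at hmc'
    rcases hε with h1 | h1
    · left; rw [h1] at hmc'; exact hmc'
    · right; rw [h1] at hmc'; exact hmc'
  · intro χ χ' hχ hχ' β m m' hm hpm hm' hpm'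
    exact hGP.inj χ χ' hχ hχ' β m m' hm hpm hm' hpm'
  · intro β
    exact hGP.surj β

end Cfsg.Agent.S4444
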