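import Cfsg.Statements.S0854
import Mathlib
import Cfsg.Agent.Lib.Helper1.CliffordCorr

set_option autoImplicit false
open Cfsg

namespace Cfsg.Agent.S0854

/-- Let H be a normal subgroup of the finite group G, ϑ an irreducible character of H, and T the inertia group of ϑ (the elements g with ϑ(g n g⁻¹) = ϑ(n) for all n in H). If χ is an irreducible character of G whose restriction to H has nonzero inner product with ϑ, then χ is induced from some irreducible character ψ of T, and the restrictions of ψ and of χ to H have the same inner product with ϑ. -/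
theorem result {G : Type*} [Group G] [Fintype G] (H : Subgroup G) [hN : H.Normal] [Fintype H] (ϑ : H → ℂ) (hϑ : Cfsg.IsIrrCharacter H ϑ) (T : Subgroup G) [Fintype T] (hT : ∀ g : G, g ∈ T ↔ ∀ n : H, ϑ ⟨g * n * g⁻¹, hN.conj_mem (n : G) n.2 g⟩ = ϑ n) (hHT : H ≤ T) (χ : G → ℂ) (hχ : Cfsg.IsIrrCharacter G χ) (hcon : Cfsg.classInner (fun n : H => χ n) ϑ ≠ 0) : ∃ ψ : T → ℂ, Cfsg.IsIrrCharacter T ψ ∧ Cfsg.indFun T ψ = χ ∧ Cfsg.classInner (fun n : H => ψ ⟨(n : G), hHT n.2⟩) ϑ = Cfsg.classInner (fun n : H => χ n) ϑ := by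
  classical
  have hTeq : T = Cfsg.Agent.Lib.Helper1.inertia H ϑ := by
    ext g
    rw [hT, Cfsg.Agent.Lib.Helper1.mem_inertia]
    constructor
    · intro h; funext n; exact h n
    · intro h n; exact congrFun h n
  obtain ⟨ψ, hψ, hχψ, c, hc⟩ :=
    Cfsg.Agent.Lib.Helper1.clifford_correspondence H ϑ hϑ χ hχ hcon T hTeq hHT
  refine ⟨ψ, hψ, hχψ.symm, ?_⟩
  have hL : Cfsg.classInner (fun n : H => ψ ⟨(n : G), hHT n.2⟩) ϑ = c := by
    have h1 : (fun n : H => ψ ⟨(n : G), hHT n.2⟩) = c • ϑ := funext hc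
    rw [h1, Cfsg.Agent.Lib.Helper4.classInner_smul_left,
      Cfsg.Agent.Lib.Helper4.classInner_irr_self hϑ, mul_one]
  have hT0 : (Nat.card T : ℂ) ≠ 0 := Nat.cast_ne_zero.2 Nat.card_pos.ne'
  have hval : (fun n : H => χ n) =
      ((Nat.card T : ℂ)⁻¹ * c) • ∑ x : G, Cfsg.Agent.S0193.conjFun H ϑ x⁻¹ := by
    funext n
    have hsum : ∀ x : G, Cfsg.extendByZero T ψ (x⁻¹ * (n : G) * x)
        = c * Cfsg.Agent.S0193.conjFun H ϑ x⁻¹ n := by
      intro x
      have hmem : x⁻¹ * (n : G) * x ∈ H := by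
        have := hN.conj_mem (n : G) n.2 x⁻¹
        rwa [inv_inv] at this
      rw [Cfsg.Agent.Lib.Helper1.extendByZero_of_mem T ψ (hHT hmem)]
      have := hc ⟨x⁻¹ * (n : G) * x, hmem⟩
      rw [this]
      congr 1
      unfold Cfsg.Agent.S0193.conjFun
      congr 1
      apply Subtype.ext
      simp
    rw [hχψ, Cfsg.Agent.Lib.Helper1.indFun_apply, Finset.sum_congr rfl (fun x _ => hsum x)]
    simp only [Pi.smul_apply, Finset.sum_apply, smul_eq_mul]
    try simp only [← Finset.mul_sum]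
    ring
  rw [hL, hval, Cfsg.Agent.Lib.Helper4.classInner_smul_left,
    Cfsg.Agent.Lib.Helper4.classInner_sum_left]
  have hterm : ∀ x : G, Cfsg.classInner (Cfsg.Agent.S0193.conjFun H ϑ x⁻¹) ϑ
      = if x ∈ T then 1 else 0 := by
    intro x
    rw [Cfsg.Agent.Lib.Helper4.classInner_irr (Cfsg.Agent.S0193.conjFun_irr H ϑ hϑ x⁻¹) hϑ]
    have : Cfsg.Agent.S0193.conjFun H ϑ x⁻¹ = ϑ ↔ x ∈ T := by
      rw [← Cfsg.Agent.Lib.Helper1.mem_inertia, ← hTeq]
      exact ⟨fun h => by simpa using T.inv_mem h, fun h => T.inv_mem h⟩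
    simp only [this]
  rw [Finset.sum_congr rfl fun x _ => hterm x, Finset.sum_boole]
  have hcardT : ((Finset.univ.filter (fun x : G => x ∈ T)).card : ℂ) = (Nat.card T : ℂ) := by
    congr 1
    rw [← Fintype.card_subtype, Nat.card_eq_fintype_card]
  rw [hcardT]
  field_simp

end Cfsg.Agent.S0854
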