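import Cfsg.Statements.S0900
import Mathlib
import Cfsg.Agent.Lib.Helper1.CliffordCorr
import Cfsg.Agent.Lib.Helper4.Gallagher

set_option autoImplicit false
open Cfsg

namespace Cfsg.Agent.S0900


open Cfsg.Agent.Lib.Helper1 Cfsg.Agent.Lib.Helper4 in
open scoped ComplexConjugate in
open Classical in
/-- splitting the norm of `χ` into the part on `N` and the part off `N` -/
theorem norm_split {G : Type*} [Group G] [Fintype G] (N : Subgroup G) [Fintype N] (χ : G → ℂ)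
    (hχ : Cfsg.IsIrrCharacter G χ) :
    (Nat.card G : ℂ) = (Nat.card N : ℂ) * Cfsg.classInner (fun n : N => χ n) (fun n : N => χ n)
      + ((∑ g : G, if g ∈ N then 0 else Complex.normSq (χ g) : ℝ) : ℂ) := by
  classical
  have hG0 : (Nat.card G : ℂ) ≠ 0 := Nat.cast_ne_zero.2 Nat.card_pos.ne'
  have hN0 : (Nat.card N : ℂ) ≠ 0 := Nat.cast_ne_zero.2 Nat.card_pos.ne'
  have h1 := classInner_irr_self hχ
  rw [classInner_def] at h1
  have h2 : ∑ g : G, χ g * conj (χ g) = (Nat.card G : ℂ) := by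
    have h := congrArg (fun z => (Nat.card G : ℂ) * z) h1
    have h' : (Nat.card G : ℂ) * ((Nat.card G : ℂ)⁻¹ * ∑ g : G, χ g * conj (χ g))
        = (Nat.card G : ℂ) * 1 := h
    rwa [← mul_assoc, mul_inv_cancel₀ hG0, one_mul, mul_one] at h'
  have h3 : ∀ g : G, χ g * conj (χ g) = (if g ∈ N then χ g * conj (χ g) else 0)
      + (((if g ∈ N then 0 else Complex.normSq (χ g) : ℝ)) : ℂ) := by
    intro g
    by_cases hg : g ∈ N
    · simp [hg]
    · simp [hg, Complex.mul_conj]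
  rw [← h2, Finset.sum_congr rfl (fun g _ => h3 g), Finset.sum_add_distrib, Complex.ofReal_sum]
  congr 1
  rw [classInner_def, ← mul_assoc, mul_inv_cancel₀ hN0, one_mul, ← Finset.sum_filter]
  exact Finset.sum_subtype (Finset.univ.filter (fun g : G => g ∈ N)) (by simp)
    (fun g : G => χ g * conj (χ g))

open Classical in
/-- vanishing of the off-`N` part -/
theorem off_zero_iff {G : Type*} [Group G] [Fintype G] (N : Subgroup G) (χ : G → ℂ) :
    (((∑ g : G, if g ∈ N then 0 else Complex.normSq (χ g) : ℝ) : ℂ) = 0) ↔ ∀ g : G, g ∉ N → χ g = 0 := by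
  classical
  rw [Complex.ofReal_eq_zero, Finset.sum_eq_zero_iff_of_nonneg]
  · constructor
    · intro h g hg
      have := h g (Finset.mem_univ g)
      rw [if_neg hg] at this
      exact Complex.normSq_eq_zero.mp this
    · intro h g _
      by_cases hg : g ∈ N
      · rw [if_pos hg]
      · rw [if_neg hg, h g hg, map_zero]
  · intro g _
    split_ifs
    · exact le_rfl
    · exact Complex.normSq_nonneg _

/-- Let N be a normal subgroup of the finite group G, χ an irreducible character of G and ϑ an irreducible character of N having nonzero inner product with the restriction of χ. Consider: (a) the restriction of χ to N is e • ϑ for a natural number e with e ^ 2 equal to the index of N; (b) χ vanishes outside N and ϑ is invariant under conjugation by G; (c) ϑ is invariant and every irreducible character of G having nonzero inner product with the function induced from ϑ equals χ. Then (a) ↔ (b) and (a) ↔ (c). -/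
theorem result {G : Type*} [Group G] [Fintype G] (N : Subgroup G) [hN : N.Normal] [Fintype N] (χ : G → ℂ) (hχ : Cfsg.IsIrrCharacter G χ) (ϑ : N → ℂ) (hϑ : Cfsg.IsIrrCharacter N ϑ) (hcon : Cfsg.classInner (fun n : N => χ n) ϑ ≠ 0) : ((∃ e : ℕ, (fun n : N => χ n) = (e : ℂ) • ϑ ∧ e ^ 2 = N.index) ↔ ((∀ g : G, g ∉ N → χ g = 0) ∧ ∀ (g : G) (n : N), ϑ ⟨g * n * g⁻¹, hN.conj_mem (n : G) n.2 g⟩ = ϑ n)) ∧ ((∃ e : ℕ, (fun n : N => χ n) = (e : ℂ) • ϑ ∧ e ^ 2 = N.index) ↔ (∀ (g : G) (n : N), ϑ ⟨g * n * g⁻¹, hN.conj_mem (n : G) n.2 g⟩ = ϑ n ∧ ∀ ψ : G → ℂ, Cfsg.IsIrrCharacter G ψ → Cfsg.classInner (Cfsg.indFun N ϑ) ψ ≠ 0 → ψ = χ)) := by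
  classical
  haveI : Fintype (Cfsg.IrrCharacter G) := Fintype.ofFinite _
  have hG0 : (Nat.card G : ℂ) ≠ 0 := Nat.cast_ne_zero.2 Nat.card_pos.ne'
  have hN0 : (Nat.card N : ℂ) ≠ 0 := Nat.cast_ne_zero.2 Nat.card_pos.ne'
  have hχc : Cfsg.IsCharacter G χ := Cfsg.Agent.Lib.Helper4.isCharacter_of_irr hχ
  have hχcf : Cfsg.IsClassFunction G χ := Cfsg.Agent.Lib.Helper1.isClassFunction_irr hχ
  obtain ⟨e, he⟩ := Cfsg.Agent.Lib.Helper1.classInner_char_irr_nat
    (Cfsg.Agent.S0148.isCharacter_restrict N hχc) hϑ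
  have he0 : (e : ℂ) ≠ 0 := by rw [← he]; exact hcon
  have hidx : (Nat.card N : ℂ) * (N.index : ℂ) = (Nat.card G : ℂ) := by
    exact_mod_cast N.card_mul_index
  -- B: a multiple of ϑ forces the multiplicity and invariance
  have hB : ∀ z : ℂ, (fun n : N => χ n) = z • ϑ → z = e ∧
      ∀ (g : G) (n : N), ϑ ⟨g * n * g⁻¹, hN.conj_mem (n : G) n.2 g⟩ = ϑ n := by
    intro z hz
    have hze : z = e := by
      rw [← he, hz, Cfsg.Agent.Lib.Helper4.classInner_smul_left,
        Cfsg.Agent.Lib.Helper4.classInner_irr_self hϑ, mul_one]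
    refine ⟨hze, ?_⟩
    intro g n
    have h1 := congrFun hz ⟨g * n * g⁻¹, hN.conj_mem (n : G) n.2 g⟩
    have h2 := congrFun hz n
    simp only [Pi.smul_apply, smul_eq_mul] at h1 h2
    have h3 : χ (g * (n : G) * g⁻¹) = χ n := hχcf n g
    rw [h3, h2] at h1
    rw [hze] at h1
    exact (mul_left_cancel₀ he0 h1).symm
  -- C: invariance gives a multiple
  have hC : (∀ (g : G) (n : N), ϑ ⟨g * n * g⁻¹, hN.conj_mem (n : G) n.2 g⟩ = ϑ n) →
      (fun n : N => χ n) = (e : ℂ) • ϑ := by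
    intro hinv
    funext n
    rw [Cfsg.Agent.Lib.Helper4.restrict_of_invariant N ϑ hϑ hinv χ hχ hcon n, he]
    rfl
  -- D: the norm of the restriction
  have hD : (fun n : N => χ n) = (e : ℂ) • ϑ →
      Cfsg.classInner (fun n : N => χ n) (fun n : N => χ n) = (e : ℂ) ^ 2 := by
    intro h
    rw [h, Cfsg.Agent.Lib.Helper4.classInner_smul_left, Cfsg.Agent.Lib.Helper4.classInner_smul_right,
      Cfsg.Agent.Lib.Helper4.classInner_irr_self hϑ, Complex.conj_natCast]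
    ring
  have hsplit := norm_split N χ hχ
  -- first equivalence
  have hP12 : (∃ e : ℕ, (fun n : N => χ n) = (e : ℂ) • ϑ ∧ e ^ 2 = N.index) ↔
      ((∀ g : G, g ∉ N → χ g = 0) ∧
        ∀ (g : G) (n : N), ϑ ⟨g * n * g⁻¹, hN.conj_mem (n : G) n.2 g⟩ = ϑ n) := by
    constructor
    · rintro ⟨e', hres, hsq⟩
      obtain ⟨hee, hinv⟩ := hB _ hres
      have hee' : e' = e := by exact_mod_cast hee
      subst hee'
      refine ⟨?_, hinv⟩
      rw [← off_zero_iff]
      rw [hD hres] at hsplit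
      have h1 : (Nat.card N : ℂ) * (e' : ℂ) ^ 2 = (Nat.card G : ℂ) := by
        rw [← hidx]; congr 1; exact_mod_cast hsq
      rw [h1] at hsplit
      have := hsplit
      linear_combination -this
    · rintro ⟨hvan, hinv⟩
      have hres := hC hinv
      refine ⟨e, hres, ?_⟩
      rw [hD hres, (off_zero_iff N χ).mpr hvan, add_zero, ← hidx] at hsplit
      have h1 : (N.index : ℂ) = (e : ℂ) ^ 2 := mul_left_cancel₀ hN0 hsplit
      exact_mod_cast h1.symm
  refine ⟨hP12, ?_⟩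
  -- second equivalence: multiplicities in the induced character
  have hIndc : Cfsg.IsCharacter G (Cfsg.indFun N ϑ) :=
    Cfsg.Agent.S0148.result N ϑ (Cfsg.Agent.Lib.Helper4.isCharacter_of_irr hϑ)
  have hIndcf : Cfsg.IsClassFunction G (Cfsg.indFun N ϑ) :=
    Cfsg.Agent.Lib.Helper1.indFun_isClassFunction N ϑ
  have hm : ∀ ψ : Cfsg.IrrCharacter G, ∃ m : ℕ, Cfsg.classInner (Cfsg.indFun N ϑ) (ψ : G → ℂ) = m :=
    fun ψ => Cfsg.Agent.Lib.Helper1.classInner_char_irr_nat hIndc ψ.2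
  choose m hmdef using hm
  have hmχ : m ⟨χ, hχ⟩ = e := by
    have h1 := hmdef ⟨χ, hχ⟩
    simp only at h1
    rw [Cfsg.Agent.S0146.result N ϑ χ hχcf, ← Cfsg.Agent.Lib.Helper4.classInner_conj_symm, he,
      Complex.conj_natCast] at h1
    exact_mod_cast h1.symm
  have hpars : (∀ (g : G) (n : N), ϑ ⟨g * n * g⁻¹, hN.conj_mem (n : G) n.2 g⟩ = ϑ n) →
      ∑ ψ : Cfsg.IrrCharacter G, (m ψ) ^ 2 = N.index := by
    intro hinv
    have h1 := Cfsg.Agent.S0193.result N ϑ hϑ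
    have h2 : Nat.card {g : G // ∀ h : N, ϑ ⟨g * h * g⁻¹, hN.conj_mem h h.2 g⟩ = ϑ h} = Nat.card G := by
      apply Nat.card_congr
      exact Equiv.subtypeUnivEquiv (fun g => hinv g)
    rw [h2, ← hidx] at h1
    have h3 : Cfsg.classInner (Cfsg.indFun N ϑ) (Cfsg.indFun N ϑ) = (N.index : ℂ) :=
      mul_left_cancel₀ hN0 h1
    rw [Cfsg.Agent.Lib.Helper1.classInner_eq_sum_mult _ _ hIndcf] at h3
    have h4 : ∀ ψ : Cfsg.IrrCharacter G,
        Cfsg.classInner (Cfsg.indFun N ϑ) (ψ : G → ℂ) * Cfsg.classInner (ψ : G → ℂ) (Cfsg.indFun N ϑ)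
        = ((m ψ ^ 2 : ℕ) : ℂ) := by
      intro ψ
      rw [← Cfsg.Agent.Lib.Helper4.classInner_conj_symm (Cfsg.indFun N ϑ) (ψ : G → ℂ), hmdef ψ,
        Complex.conj_natCast]
      push_cast
      ring
    rw [Finset.sum_congr rfl (fun ψ _ => h4 ψ)] at h3
    exact_mod_cast h3
  have hconstit : ∀ ψ : Cfsg.IrrCharacter G, m ψ ≠ 0 ↔ Cfsg.classInner (Cfsg.indFun N ϑ) (ψ : G → ℂ) ≠ 0 := by
    intro ψ
    rw [hmdef ψ]
    exact_mod_cast Iff.rfl
  constructor
  · rintro ⟨e', hres, hsq⟩ g n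
    obtain ⟨hee, hinv⟩ := hB _ hres
    have hee' : e' = e := by exact_mod_cast hee
    subst hee'
    refine ⟨hinv g n, ?_⟩
    intro ψ hψ hne
    by_contra hψχ
    have hsum := hpars hinv
    have hne' : (⟨ψ, hψ⟩ : Cfsg.IrrCharacter G) ≠ ⟨χ, hχ⟩ := by
      intro h; exact hψχ (congrArg Subtype.val h)
    have hmψ : m ⟨ψ, hψ⟩ ≠ 0 := (hconstit ⟨ψ, hψ⟩).mpr hne
    have h1 : (m ⟨χ, hχ⟩) ^ 2 + (m ⟨ψ, hψ⟩) ^ 2 ≤ ∑ φ : Cfsg.IrrCharacter G, (m φ) ^ 2 := by
      have := Finset.sum_le_sum_of_subset (f := fun φ : Cfsg.IrrCharacter G => (m φ) ^ 2)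
        (Finset.subset_univ ({⟨χ, hχ⟩, ⟨ψ, hψ⟩} : Finset (Cfsg.IrrCharacter G)))
      rwa [Finset.sum_pair hne'.symm] at this
    rw [hsum, hmχ, ← hsq] at h1
    have : 0 < (m ⟨ψ, hψ⟩) ^ 2 := by positivity
    omega
  · intro h
    have hinv : ∀ (g : G) (n : N), ϑ ⟨g * n * g⁻¹, hN.conj_mem (n : G) n.2 g⟩ = ϑ n :=
      fun g n => (h g n).1
    have huniq := (h 1 1).2
    have hres := hC hinv
    refine ⟨e, hres, ?_⟩
    have hsum := hpars hinv
    rw [← hsum, ← hmχ]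
    symm
    apply Finset.sum_eq_single_of_mem _ (Finset.mem_univ _)
    intro φ _ hφ
    by_contra hne
    have hmφ : m φ ≠ 0 := by
      intro h0; apply hne; rw [h0]; rfl
    have := huniq φ.1 φ.2 ((hconstit φ).mp hmφ)
    exact hφ (Subtype.ext this)

end Cfsg.Agent.S0900
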