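import Cfsg.Statements.S0888
import Mathlib
import Mathlib
import Cfsg.Agent.Lib.Helper2.ProjExt
import Cfsg.Agent.Lib.Helper8.Deflation
import Cfsg.Agent.S0153

set_option autoImplicit false
open Cfsg

namespace Cfsg.Agent.S0888

/-- Let N be a normal subgroup of the finite group G and ϑ an irreducible character of N invariant under conjugation by G. Suppose that for every prime p there are a subgroup P containing N, of index prime to p and with the index of N in P a power of p, and an irreducible character of P restricting to ϑ. Then ϑ is the restriction of an irreducible character of G. -/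
theorem result {G : Type*} [Group G] [Finite G] (N : Subgroup G) [hN : N.Normal] (ϑ : N → ℂ) (hϑ : Cfsg.IsIrrCharacter N ϑ) (hinv : ∀ (g : G) (n : N), ϑ ⟨g * n * g⁻¹, hN.conj_mem (n : G) n.2 g⟩ = ϑ n) (hsyl : ∀ p : ℕ, p.Prime → ∃ (P : Subgroup G) (hNP : N ≤ P) (η : P → ℂ), Nat.Coprime P.index p ∧ (∃ k : ℕ, N.relIndex P = p ^ k) ∧ Cfsg.IsIrrCharacter P η ∧ ∀ n : N, η ⟨(n : G), hNP n.2⟩ = ϑ n) : ∃ χ : G → ℂ, Cfsg.IsIrrCharacter G χ ∧ ∀ n : N, χ n = ϑ n := by
  classical
  obtain ⟨n, ρ, hρ, rfl⟩ := hϑ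
  haveI := hρ
  have hinv' : ∀ (g : G) (x : N), ρ.character (MulAut.conjNormal g x) = ρ.character x := by
    intro g x
    have h1 := hinv g x
    have h2 : (MulAut.conjNormal g x : N) = ⟨g * x * g⁻¹, hN.conj_mem (x : G) x.2 g⟩ := by
      apply Subtype.ext
      rw [MulAut.conjNormal_apply]
    rw [h2]
    exact h1
  have hsyl' : ∀ p : ℕ, p.Prime → ∃ (P : Subgroup G) (hNP : N ≤ P)
      (Y : P →* (Module.End ℂ (Fin n → ℂ))ˣ), Nat.Coprime P.index p ∧
      ∀ x : N, Y ⟨x, hNP x.2⟩ = ρ.toHomUnits x := by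
    intro p hp
    obtain ⟨P, hNP, η, hcop, -, ⟨m, τ, hτ, rfl⟩, hηN⟩ := hsyl p hp
    let τN : Representation ℂ N (Fin m → ℂ) := τ.comp (Subgroup.inclusion hNP)
    have hchar : τN.character = ρ.character := by
      funext x
      exact hηN x
    obtain ⟨ε⟩ := Cfsg.Agent.S0153.result τN ρ hchar
    let e : (Fin m → ℂ) ≃ₗ[ℂ] (Fin n → ℂ) := ε.toLinearEquiv
    have h1 : ∀ x : N, e.toLinearMap ∘ₗ τN x = ρ x ∘ₗ e.toLinearMap :=
      fun x => ε.toIntertwiningMap.isIntertwining' x
    refine ⟨P, hNP, (Units.map (e.conjRingEquiv : Module.End ℂ (Fin m → ℂ) →* Module.End ℂ (Fin n → ℂ))).comp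
      τ.toHomUnits, hcop, fun x => ?_⟩
    apply Units.ext
    show e.conjRingEquiv (τ ⟨x, hNP x.2⟩) = ρ x
    apply LinearMap.ext
    intro w
    have h2 := LinearMap.congr_fun (h1 x) (e.symm w)
    simp only [LinearMap.comp_apply, LinearEquiv.coe_coe, LinearEquiv.apply_symm_apply] at h2
    rw [← h2]
    simp
    rfl
  obtain ⟨σ, hσ⟩ := Cfsg.Agent.Lib.Helper2.ProjExt.exists_extension_of_sylow (N := N) (ρ := ρ)
    hinv' hsyl'
  refine ⟨σ.character, ⟨n, σ, ?_, rfl⟩, fun x => ?_⟩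
  · apply Cfsg.Agent.Lib.Helper8.isIrreducible_of_comp σ N.subtype
    have h3 : (σ.comp N.subtype : Representation ℂ N (Fin n → ℂ)) = ρ := by
      apply MonoidHom.ext
      intro x
      exact hσ x
    rw [h3]
    exact hρ
  · unfold Representation.character
    rw [hσ x]

end Cfsg.Agent.S0888
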