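import Mathlib
import Cfsg.Statements.S0160
import Cfsg.Agent.Lib.Helper1.CharFound8

set_option autoImplicit false
open Cfsg

namespace Cfsg.Agent.S0160

open Cfsg.Agent.Lib.Helper1 Cfsg.Agent.Lib.Helper4
open scoped ComplexConjugate

/-- A finite group has as many real-valued irreducible complex characters as conjugacy classes closed under taking inverses. -/
theorem result {G : Type*} [Group G] [Finite G] : Nat.card {χ : Cfsg.IrrCharacter G // ∀ g : G, ((χ : G → ℂ) g).im = 0} = Nat.card {C : ConjClasses G // ∀ g : G, ConjClasses.mk g = C → IsConj g g⁻¹} := by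
  classical
  have : Fintype G := Fintype.ofFinite G
  have : Fintype (Cfsg.IrrCharacter G) := Fintype.ofFinite _
  have : Fintype (ConjClasses G) := Fintype.ofFinite _
  have key := brauer_perm_generic (G := G) (fun g => g⁻¹)
    (fun χ hχ => isIrrCharacter_inv_comp hχ)
  have key' : (Finset.univ.filter (fun χ : Cfsg.IrrCharacter G =>
        (fun g => (χ : G → ℂ) g⁻¹) = (χ : G → ℂ))).card
      = (Finset.univ.filter (fun c : ConjClasses G =>
        IsConj (Quotient.out c)⁻¹ (Quotient.out c))).card := by
    exact_mod_cast key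
  rw [Nat.subtype_card (Finset.univ.filter (fun χ : Cfsg.IrrCharacter G =>
        (fun g => (χ : G → ℂ) g⁻¹) = (χ : G → ℂ))), key']
  · symm
    apply Nat.subtype_card
    intro c
    simp only [Finset.mem_filter, Finset.mem_univ, true_and]
    have h1 : ConjClasses.mk (Quotient.out c) = c := Quotient.out_eq c
    constructor
    · intro h g hg
      rw [← h1, ConjClasses.mk_eq_mk_iff_isConj] at hg
      -- g ~ out c ~ (out c)⁻¹ ~ g⁻¹
      obtain ⟨x, hx⟩ := isConj_iff.1 hg
      have h2 : IsConj (Quotient.out c)⁻¹ g⁻¹ := by
        rw [isConj_iff]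
        refine ⟨x⁻¹, ?_⟩
        rw [← hx]
        group
      exact hg.trans (h.symm.trans h2)
    · intro h
      exact (h _ h1).symm
  · intro χ
    simp only [Finset.mem_filter, Finset.mem_univ, true_and]
    constructor
    · intro h g
      have h2 : (χ : G → ℂ) g⁻¹ = (χ : G → ℂ) g := congrFun h g
      rw [isCharacter_inv (isCharacter_of_irr χ.2) g] at h2
      exact Complex.conj_eq_iff_im.1 h2
    · intro h
      funext g
      rw [isCharacter_inv (isCharacter_of_irr χ.2) g]
      exact Complex.conj_eq_iff_im.2 (h g)

end Cfsg.Agent.S0160
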