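import Mathlib
import Cfsg.Statements.S1180
import Cfsg.Agent.Lib.Helper3.Isolated

set_option autoImplicit false
open Cfsg
open Cfsg.Agent.Lib.Helper3

namespace Cfsg.Agent.S1180

theorem result {G : Type*} [Group G] [Finite G] (z : G) (hz : Cfsg.IsIsolatedInvolution z) (H : Subgroup G) (hzH : z ∈ H) (g : G) (hg : g * z * g⁻¹ ∈ H) : ∃ h ∈ H, h * z * h⁻¹ = g * z * g⁻¹ := by
  obtain ⟨h, hh, h1, _, _⟩ := IsIsolatedInvolution.exists_conj hz g
  refine ⟨h, ?_, h1⟩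
  have : Subgroup.zpowers (z * (g * z * g⁻¹)) ≤ H :=
    Subgroup.zpowers_le.mpr (H.mul_mem hzH hg)
  exact this hh

end Cfsg.Agent.S1180
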