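import Cfsg.Statements.S4702
import Mathlib
import Cfsg.Agent.Lib.Helper2.Sharp3d
import Cfsg.Agent.Lib.Helper1.PGL2

set_option autoImplicit false
open Cfsg

namespace Cfsg.Agent.S4702

open Matrix in
/-- In characteristic two over a finite field, `SL₂ → PGL₂` is an isomorphism. -/
theorem sl2_equiv_pgl2 {F : Type} [Field F] [Fintype F] (hF : ringChar F = 2) :
    Nonempty (Matrix.SpecialLinearGroup (Fin 2) F ≃* Matrix.ProjGenLinGroup (Fin 2) F) := by
  haveI : CharP F 2 := by
    have := ringChar.charP F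
    rwa [hF] at this
  have hsq : ∀ r : Fˣ, ∃ k : Fˣ, k ^ 2 = r := by
    intro r
    obtain ⟨k, hk⟩ := FiniteField.isSquare_of_char_two hF (r : F)
    have hk0 : k ≠ 0 := by
      rintro rfl
      simp at hk
    exact ⟨Units.mk0 k hk0, Units.ext (by simp [pow_two, hk])⟩
  have hsurj := Cfsg.Agent.Lib.Helper1.toPGL_surjective_of_squares hsq
  have hinj : Function.Injective
      (Matrix.SpecialLinearGroup.toPGL : Matrix.SpecialLinearGroup (Fin 2) F →* Matrix.ProjGenLinGroup (Fin 2) F) := by
    rw [← MonoidHom.ker_eq_bot_iff, Matrix.SpecialLinearGroup.toPGL_ker, Subgroup.eq_bot_iff_forall]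
    intro A hA
    rw [Matrix.SpecialLinearGroup.mem_center_iff] at hA
    obtain ⟨r, hr, hrA⟩ := hA
    have hr1 : r = 1 := by
      have h2 : r ^ 2 = 1 := by simpa using hr
      have h3 : (r - 1) ^ 2 = 0 := by
        have : (r - 1) ^ 2 = r ^ 2 - 2 * r + 1 := by ring
        rw [this, h2]
        have h20 : (2 : F) = 0 := CharTwo.two_eq_zero
        rw [h20]; ring_nf
        exact h20
      have := pow_eq_zero_iff (two_ne_zero) |>.1 h3
      exact sub_eq_zero.1 this
    apply Subtype.ext
    rw [← hrA, hr1]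
    simp
  exact ⟨MulEquiv.ofBijective _ ⟨hinj, hsurj⟩⟩

/-- Let G be a triply transitive permutation group on a finite set of odd size m ≥ 3 in which only the identity fixes three or more points. Then m = 2^a + 1 for some a ≥ 1 and G is isomorphic to SL(2, 2^a). -/
theorem result {α : Type*} [Fintype α] [DecidableEq α] (hm : 3 ≤ Fintype.card α) (hodd : Odd (Fintype.card α)) (G : Subgroup (Equiv.Perm α)) (h3 : MulAction.IsMultiplyPretransitive G α 3) (hfix : ∀ g : G, 3 ≤ Nat.card (MulAction.fixedBy α g) → g = 1) : ∃ a : ℕ, 1 ≤ a ∧ Fintype.card α = 2 ^ a + 1 ∧ ∃ (F : Type) (_ : Field F) (_ : Fintype F), Fintype.card F = 2 ^ a ∧ Nonempty (G ≃* Matrix.SpecialLinearGroup (Fin 2) F) := by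
  classical
  have hsharp : ∀ x : Fin 3 ↪ α, MulAction.stabilizer G x = ⊥ := by
    intro x
    rw [Subgroup.eq_bot_iff_forall]
    intro g hg
    apply hfix g
    rw [MulAction.mem_stabilizer_iff] at hg
    have hgx : ∀ i, g • x i = x i := fun i => by
      have := congrArg (fun y : Fin 3 ↪ α => y i) hg
      rw [← Function.Embedding.smul_apply]
      exact this
    rw [Nat.card_eq_fintype_card]
    let f : Fin 3 → ↥(MulAction.fixedBy α g) := fun i => ⟨x i, hgx i⟩
    have hf : Function.Injective f := by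
      intro i j hij
      have : x i = x j := congrArg Subtype.val hij
      exact x.injective this
    simpa using Fintype.card_le_of_injective f hf
  obtain ⟨t, ht⟩ := hodd
  have hn : 2 ≤ 2 * t := by omega
  have hodd' : Odd (2 * t + 1) := ⟨t, rfl⟩
  obtain ⟨F, instF, instFt, hFcard, ⟨e⟩⟩ :=
    Cfsg.Agent.Lib.Helper2.Sharp3.sharp3_odd_degree h3 hsharp hn hodd' ht
  haveI : CharP F (ringChar F) := ringChar.charP F
  obtain ⟨k, hp, hk⟩ := FiniteField.card F (ringChar F)
  have h2 : ringChar F = 2 := by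
    have hdvd : 2 ∣ ringChar F ^ (k : ℕ) := by
      rw [← hk, hFcard]
      exact dvd_mul_right 2 t
    have := Nat.Prime.dvd_of_dvd_pow Nat.prime_two hdvd
    exact ((Nat.prime_dvd_prime_iff_eq Nat.prime_two hp).1 this).symm
  obtain ⟨e2⟩ := sl2_equiv_pgl2 (F := F) h2
  refine ⟨(k : ℕ), k.pos, ?_, F, instF, instFt, ?_, ⟨e.trans e2.symm⟩⟩
  · rw [ht, ← hFcard, hk, h2]
  · rw [hk, h2]

end Cfsg.Agent.S4702
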