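import Mathlib
import Cfsg.Statements.S0937
import Cfsg.Agent.Lib.Helper8.InducedBlau

set_option autoImplicit false
open Cfsg

namespace Cfsg.Agent.S0937

open scoped ComplexConjugate
open Cfsg.Agent.Lib.Helper1 Cfsg.Agent.Lib.Helper4 Cfsg.Agent.Lib.Helper8

/-- Let H be a subgroup of the finite group G and fix a maximal ideal M of the algebraic integers containing the prime p. If the block b of H induces the block B of G and χ ∈ B has height zero, then there is ξ ∈ b of height zero whose multiplicity in the restriction of χ to H is a natural number not divisible by p. -/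
theorem result {G : Type*} [Group G] [Fintype G] (p : ℕ) [Fact p.Prime] (M : Ideal Cfsg.AlgInt) (hM : Cfsg.IsPModular p M) (H : Subgroup G) [Fintype H] (b : Set (Cfsg.IrrCharacter H)) (B : Set (Cfsg.IrrCharacter G)) (hind : Cfsg.IsInducedBlock M H b B) (χ : Cfsg.IrrCharacter G) (hχ : χ ∈ B) (h0 : Cfsg.blockHeight p B (χ : G → ℂ) = 0) : ∃ ξ ∈ b, Cfsg.blockHeight p b (ξ : H → ℂ) = 0 ∧ ∃ n : ℕ, Cfsg.classInner (fun h : H => (χ : G → ℂ) h) (ξ : H → ℂ) = (n : ℂ) ∧ ¬ p ∣ n := by
  classical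
  have : Fintype (IrrCharacter H) := Fintype.ofFinite _
  have hMp := isPModular_isPrime hM
  have hpp : p.Prime := Fact.out
  obtain ⟨ψ₁, hψ₁⟩ := isPBlock_nonempty hMp hind.1
  obtain ⟨ψ, hψ, hψ0⟩ := exists_height_zero (p := p) (B := b) ⟨ψ₁, hψ₁⟩
  have hχc := isCharacter_of_irr χ.2
  have hresc : IsCharacter H (fun h : H => (χ : G → ℂ) h) :=
    Cfsg.Agent.S0148.isCharacter_restrict H hχc
  have hunit := not_memLocalIdeal_tildeRatio_restrict hM H hind hψ hχ h0
  have hm : ∀ ξ : IrrCharacter H, ∃ m : ℕ,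
      classInner (fun h : H => (χ : G → ℂ) h) (ξ : H → ℂ) = (m : ℂ) :=
    fun ξ => classInner_char_nat hresc (isCharacter_of_irr ξ.2)
  choose m hm using hm
  by_contra hcon
  push Not at hcon
  apply hunit
  rw [classInner_tilde_eq_sum (isClassFunction_of_isCharacter hresc), Finset.sum_div]
  apply memLocalIdeal_sum hMp
  intro ξ _
  rw [hm ξ, mul_div_assoc]
  have hmS : MemLocalRing M ((m ξ : ℕ) : ℂ) := memLocalRing_natCast hMp.ne_top _
  have htS : MemLocalRing M (classInner (tilde p (ξ : H → ℂ)) (ψ : H → ℂ) / (ψ : H → ℂ) 1) :=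
    memLocalRing_tildeRatio hM (isCharacter_of_irr ξ.2) ψ.2
  by_cases hξb : ξ ∈ b
  · by_cases hξ0 : blockHeight p b (ξ : H → ℂ) = 0
    · have h1 := hcon ξ hξb hξ0 (m ξ) (hm ξ)
      exact memLocalIdeal_mul_right hMp ((memLocalIdeal_natCast_iff hM _).2 h1) htS
    · apply memLocalIdeal_mul_left hMp hmS
      by_contra hu
      apply hξ0
      have h2 := factorization_le_of_tildeUnit hM ξ.2 ψ.2 hu
      rw [blockHeight_eq_zero_iff ⟨ψ, hψ⟩]
      intro ξ' hξ'
      exact h2.trans ((blockHeight_eq_zero_iff ⟨ψ, hψ⟩ _).1 hψ0 ξ' hξ')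
  · have h1 : ¬ SameBlock M (ξ : H → ℂ) (ψ : H → ℂ) := by
      intro h
      apply hξb
      rw [eq_blockOf_of_mem hMp hind.1 hψ]
      exact sameBlock_symm h
    rw [classInner_tilde_eq_zero (p := p) hM h1, zero_div, mul_zero]
    exact memLocalIdeal_zero hMp.ne_top

end Cfsg.Agent.S0937
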