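import Mathlib
import Cfsg.Statements.S4680
import Cfsg.Agent.Lib.Helper8.PairCentric

set_option autoImplicit false
open Cfsg

namespace Cfsg.Agent.S4680

open scoped ComplexConjugate
open Cfsg.Agent.Lib.Helper1 Cfsg.Agent.Lib.Helper4 Cfsg.Agent.Lib.Helper8

/-- Fix a prime p and a maximal ideal M of the algebraic integers containing p, a p-block B of the finite group G with maximal Brauer pair (P, e), its fusion system F on P, and a Brauer pair (Q, f) ≤ (P, e). Then Q is centric in F if and only if Z(Q) is a defect group of f as a block of C_G(Q). -/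
theorem result {G : Type*} [Group G] [Fintype G] (p : ℕ) [Fact p.Prime] (M : Ideal Cfsg.AlgInt) (hM : Cfsg.IsPModular p M) (B : Set (Cfsg.IrrCharacter G)) (P : Subgroup G) (e : Set (Cfsg.IrrCharacter (Subgroup.centralizer (P : Set G)))) (hmax : Cfsg.IsMaximalBrauerPair p M B P e) (F : Cfsg.FusionSystem P) (hF : Cfsg.IsBlockFusionSystemOn p M B P e F) (Q : Subgroup G) (f : Set (Cfsg.IrrCharacter (Subgroup.centralizer (Q : Set G)))) (hQP : Q ≤ P) (hf : Cfsg.IsPBlock M f) (hle : Cfsg.SubpairLE p M Q f P e) : F.IsCentric Q ↔ Cfsg.IsDefectGroup p M f ((Q ⊓ Subgroup.centralizer (Q : Set G)).subgroupOf (Subgroup.centralizer (Q : Set G))) := by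
  classical
  have hMp := isPModular_isPrime hM
  have hPe : IsBrauerPair p M P e := hmax.1.1
  constructor
  · intro hcen
    obtain ⟨_, x, hlex, hDx⟩ := centralizer_defectGroup_of_subpairLE hM hmax hQP hf hle
    have hconj := isConj_of_subpairLE hF hle hlex
    have h1 := hcen.2 _ hconj
    have hQxP : Q.map (MulAut.conj x).toMonoidHom ≤ P := subpairLE_le hlex
    have heq : (P ⊓ Subgroup.centralizer ((Q.map (MulAut.conj x).toMonoidHom : Subgroup G) : Set G) : Subgroup G) =
        (Q.map (MulAut.conj x).toMonoidHom) ⊓ Subgroup.centralizer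
          ((Q.map (MulAut.conj x).toMonoidHom : Subgroup G) : Set G) := by
      apply le_antisymm
      · exact le_inf h1 inf_le_right
      · exact le_inf (inf_le_left.trans hQxP) inf_le_right
    rw [heq, ← map_centConj_center, conjBlock_eq_image] at hDx
    have h2 := isDefectGroup_image_irrMap (centConj Q x).symm hDx
    rw [irrMap_image_image_symm, Subgroup.map_map] at h2
    have h3 : (centConj Q x).symm.toMonoidHom.comp (centConj Q x).toMonoidHom = MonoidHom.id _ := by
      ext c
      exact congrArg Subtype.val ((centConj Q x).symm_apply_apply c)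
    rw [h3, Subgroup.map_id] at h2
    exact h2
  · intro hdef
    refine ⟨hQP, ?_⟩
    intro Q' hQ'
    obtain ⟨g, rfl, hleg⟩ := exists_of_isConj hM hF hle hQ'
    have hQgP : Q.map (MulAut.conj g).toMonoidHom ≤ P := subpairLE_le hleg
    have hfg : IsPBlock M (conjBlock Q g f) := (isBrauerPair_conj g ⟨hPe.1.to_le hQP, hf⟩).2
    obtain ⟨D', hD', hD'le⟩ := exists_defectGroup_ge_centralizer hM hPe hQgP hfg hleg
    have hc1 := card_defectGroup_conjBlock hM hf g hdef hD'
    have hc2 : Nat.card (((Q ⊓ Subgroup.centralizer (Q : Set G)).subgroupOf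
        (Subgroup.centralizer (Q : Set G))).map (centConj Q g).toMonoidHom) = _ :=
      Subgroup.card_map_of_injective (centConj Q g).injective
    rw [map_centConj_center] at hc2
    have hAB : ((Q.map (MulAut.conj g).toMonoidHom) ⊓ Subgroup.centralizer
        ((Q.map (MulAut.conj g).toMonoidHom : Subgroup G) : Set G)).subgroupOf
        (Subgroup.centralizer ((Q.map (MulAut.conj g).toMonoidHom : Subgroup G) : Set G)) ≤
        (P ⊓ Subgroup.centralizer
        ((Q.map (MulAut.conj g).toMonoidHom : Subgroup G) : Set G)).subgroupOf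
        (Subgroup.centralizer ((Q.map (MulAut.conj g).toMonoidHom : Subgroup G) : Set G)) := by
      intro y hy
      rw [Subgroup.mem_subgroupOf] at hy ⊢
      exact ⟨hQgP hy.1, hy.2⟩
    have hBD := Subgroup.card_le_of_le hD'le
    have heq := Subgroup.eq_of_le_of_card_ge hAB (by omega)
    intro y hy
    have hy' : (⟨y, hy.2⟩ : Subgroup.centralizer
        ((Q.map (MulAut.conj g).toMonoidHom : Subgroup G) : Set G)) ∈ (P ⊓ Subgroup.centralizer
        ((Q.map (MulAut.conj g).toMonoidHom : Subgroup G) : Set G)).subgroupOf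
        (Subgroup.centralizer ((Q.map (MulAut.conj g).toMonoidHom : Subgroup G) : Set G)) := by
      rw [Subgroup.mem_subgroupOf]
      exact hy
    rw [← heq, Subgroup.mem_subgroupOf] at hy'
    exact hy'.1

end Cfsg.Agent.S4680
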