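import Cfsg.Statements.S4776
import Mathlib
import Cfsg.Agent.Lib.Helper8.RDG12

set_option autoImplicit false
open Cfsg

namespace Cfsg.Agent.S4776

/-- Let N be a normal subgroup of the finite group G that is not perfect and is contained in the derived subgroup of G. Consider the common-divisor graph on the relative degree set cd(G|N) (the degrees of the irreducible complex characters of G whose kernel does not contain N; two distinct degrees adjacent when they have a common divisor greater than one). Then this graph has at most two connected components; and if a, b ∈ cd(G|N) lie in different components, then one of a, b is coprime to the index m of the derived subgroup of N in N while the other is divisible by every prime divisor of m. -/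
theorem result {G : Type*} [Group G] [Finite G] (N : Subgroup G) [N.Normal] (hN : ⁅N, N⁆ < N) (hNG : N ≤ commutator G) : Nat.card (Cfsg.commonDivisorGraph.induce (Cfsg.relCharDegrees N)).ConnectedComponent ≤ 2 ∧ ∀ (a b : ℕ) (ha : a ∈ Cfsg.relCharDegrees N) (hb : b ∈ Cfsg.relCharDegrees N), ¬ (Cfsg.commonDivisorGraph.induce (Cfsg.relCharDegrees N)).Reachable ⟨a, ha⟩ ⟨b, hb⟩ → (Nat.Coprime a (⁅N, N⁆.relIndex N) ∧ ∀ r : ℕ, r.Prime → r ∣ ⁅N, N⁆.relIndex N → r ∣ b) ∨ (Nat.Coprime b (⁅N, N⁆.relIndex N) ∧ ∀ r : ℕ, r.Prime → r ∣ ⁅N, N⁆.relIndex N → r ∣ a) := by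
  classical
  haveI : Fintype N := Fintype.ofFinite N
  set Γ := Cfsg.commonDivisorGraph.induce (Cfsg.relCharDegrees N) with hΓ
  set m := ⁅N, N⁆.relIndex N with hm
  have hm1 : m ≠ 1 := by
    intro h
    have h1 : N ≤ ⁅N, N⁆ := Subgroup.relIndex_eq_one.1 h
    exact (not_le_of_gt hN) h1
  have hmidx : m = (commutator N).index := Cfsg.Agent.Lib.Helper8.RDG.relIndex_commutator_eq N
  -- for each prime divisor of m: a hub
  have hub : ∀ r : ℕ, r.Prime → r ∣ m →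
      ∃ (b₀ : ℕ) (hb₀ : b₀ ∈ Cfsg.relCharDegrees N),
      (∀ (a : ℕ) (ha : a ∈ Cfsg.relCharDegrees N), ¬ r ∣ a → Γ.Reachable ⟨a, ha⟩ ⟨b₀, hb₀⟩) ∧
      (¬ r ∣ b₀ → ∃ (ψ₀ : G → ℂ) (μ₀ : N →* ℂˣ), Cfsg.IsIrrCharacter G ψ₀ ∧ μ₀ ^ r = 1 ∧ μ₀ ≠ 1 ∧
        Cfsg.classInner (fun n : N => ψ₀ n) (Cfsg.Agent.Lib.Helper8.RDG.lin N μ₀) ≠ 0 ∧
        ψ₀ 1 = b₀) := by
    intro r hr hrm
    haveI := Fact.mk hr
    rw [hmidx] at hrm
    exact Cfsg.Agent.Lib.Helper8.RDG.exists_hub N hNG r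
      (Cfsg.Agent.Lib.Helper8.RDG.exists_hom_of_prime_dvd_index r hrm)
  have clique : ∀ (r : ℕ), r.Prime → ∀ (u v : ↥(Cfsg.relCharDegrees N)), r ∣ (u : ℕ) → r ∣ (v : ℕ) →
      Γ.Reachable u v := by
    intro r hr u v hu hv
    obtain ⟨-, -, -, -, hv0⟩ := Cfsg.Agent.Lib.Helper8.RDG.exists_of_mem_rel N v.2
    exact Cfsg.Agent.Lib.Helper8.RDG.reach_of_gcd N u v
      (Cfsg.Agent.Lib.Helper8.RDG.one_lt_gcd_of_dvd hr.one_lt hu hv hv0)
  refine ⟨?_, ?_⟩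
  · obtain ⟨p, hp, hpm⟩ := Nat.exists_prime_and_dvd hm1
    obtain ⟨b₀, hb₀, hreach, -⟩ := hub p hp hpm
    by_cases hex : ∃ v₀ : ↥(Cfsg.relCharDegrees N), p ∣ (v₀ : ℕ)
    · obtain ⟨v₀, hv₀⟩ := hex
      apply Cfsg.Agent.Lib.Helper8.DG.card_cc_le_two Γ ⟨b₀, hb₀⟩ v₀
      intro v
      by_cases hpv : p ∣ (v : ℕ)
      · right; exact clique p hp v v₀ hpv hv₀
      · left; exact hreach v.1 v.2 hpv
    · push Not at hex
      apply Cfsg.Agent.Lib.Helper8.DG.card_cc_le_two Γ ⟨b₀, hb₀⟩ ⟨b₀, hb₀⟩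
      intro v
      left
      exact hreach v.1 v.2 (hex v)
  · intro a b ha hb hnr
    -- every prime divisor of m divides exactly one of a, b
    have hone : ∀ r : ℕ, r.Prime → r ∣ m → (r ∣ a ∧ ¬ r ∣ b) ∨ (¬ r ∣ a ∧ r ∣ b) := by
      intro r hr hrm
      by_cases hra : r ∣ a
      · by_cases hrb : r ∣ b
        · exact absurd (clique r hr ⟨a, ha⟩ ⟨b, hb⟩ hra hrb) hnr
        · exact Or.inl ⟨hra, hrb⟩
      · by_cases hrb : r ∣ b
        · exact Or.inr ⟨hra, hrb⟩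
        · obtain ⟨b₀, hb₀, hreach, -⟩ := hub r hr hrm
          exact absurd ((hreach a ha hra).trans (hreach b hb hrb).symm) hnr
    -- two different primes cannot behave differently
    have htwo : ∀ p q : ℕ, p.Prime → q.Prime → p ∣ m → q ∣ m → p ∣ a → ¬ p ∣ b → ¬ q ∣ a → q ∣ b →
        False := by
      intro p q hp hq hpm hqm hpa hpb hqa hqb
      haveI := Fact.mk hp
      haveI := Fact.mk hq
      have hpq : p ≠ q := fun h => hqa (h ▸ hpa)
      obtain ⟨b₀, hb₀, hreach₀, hψ₀⟩ := hub p hp hpm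
      obtain ⟨b₁, hb₁, hreach₁, hψ₁⟩ := hub q hq hqm
      have hbb₀ : Γ.Reachable ⟨b, hb⟩ ⟨b₀, hb₀⟩ := hreach₀ b hb hpb
      have hab₁ : Γ.Reachable ⟨a, ha⟩ ⟨b₁, hb₁⟩ := hreach₁ a ha hqa
      have hpb₀ : ¬ p ∣ b₀ := by
        intro h
        exact hnr ((clique p hp ⟨a, ha⟩ ⟨b₀, hb₀⟩ hpa h).trans hbb₀.symm)
      have hqb₁ : ¬ q ∣ b₁ := by
        intro h
        exact hnr (hab₁.trans (clique q hq ⟨b₁, hb₁⟩ ⟨b, hb⟩ h hqb))
      obtain ⟨ψ₀, μ₀, hψ₀irr, hμ₀p, hμ₀1, hover₀, hψ₀1⟩ := hψ₀ hpb₀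
      obtain ⟨ψ₁, ν₀, hψ₁irr, hν₀q, hν₀1, hover₁, hψ₁1⟩ := hψ₁ hqb₁
      obtain ⟨ξ, hξ, hrelξ, c, hc, h1, h2⟩ := Cfsg.Agent.Lib.Helper8.RDG.connect_two_primes N hNG p q
        hpq hψ₀irr hψ₁irr μ₀ ν₀ hμ₀p hμ₀1 hν₀q hν₀1 hover₀ hover₁ b₀ b₁ hψ₀1 hψ₁1 hpb₀ hqb₁
      have hcmem := Cfsg.Agent.Lib.Helper8.RDG.mem_rel N hξ hrelξ c hc
      have h01 : Γ.Reachable ⟨b₀, hb₀⟩ ⟨b₁, hb₁⟩ :=
        (Cfsg.Agent.Lib.Helper8.RDG.reach_of_gcd N ⟨b₀, hb₀⟩ ⟨c, hcmem⟩ h1).trans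
          (Cfsg.Agent.Lib.Helper8.RDG.reach_of_gcd N ⟨c, hcmem⟩ ⟨b₁, hb₁⟩ h2)
      exact hnr (hab₁.trans (h01.symm.trans hbb₀.symm))
    by_cases hA : ∀ r : ℕ, r.Prime → r ∣ m → r ∣ a
    · right
      refine ⟨?_, hA⟩
      apply Nat.Coprime.symm
      apply Nat.coprime_of_dvd
      intro k hk hkm hkb
      rcases hone k hk hkm with h | h
      · exact h.2 hkb
      · exact h.1 (hA k hk hkm)
    · push Not at hA
      obtain ⟨q, hq, hqm, hqa⟩ := hA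
      have hqb : q ∣ b := by
        rcases hone q hq hqm with h | h
        · exact absurd h.1 hqa
        · exact h.2
      have hall : ∀ r : ℕ, r.Prime → r ∣ m → ¬ r ∣ a ∧ r ∣ b := by
        intro r hr hrm
        rcases hone r hr hrm with h | h
        · exact (htwo r q hr hq hrm hqm h.1 h.2 hqa hqb).elim
        · exact h
      left
      refine ⟨?_, fun r hr hrm => (hall r hr hrm).2⟩
      apply Nat.Coprime.symm
      apply Nat.coprime_of_dvd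
      intro k hk hkm hka
      exact (hall k hk hkm).1 hka

end Cfsg.Agent.S4776
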