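import Mathlib
import Cfsg.Statements.S1500
import Cfsg.Agent.Lib.Helper4.Dade4
-- import your own Cfsg.Agent.* helpers here

set_option autoImplicit false
open Cfsg

namespace Cfsg.Agent.S1500

/-- Under the Dade hypothesis for (A, L, H), let α be a class function of L vanishing outside A. Then (i) for every class function β of L vanishing outside A, the inner product over G of the Dade images of α and β equals the inner product of α and β over L; and (ii) for every class function χ of G and every function ψ on L whose value at each a ∈ A is the average of χ over the coset a·H(a), the inner product over G of the Dade image of α with χ equals the inner product over L of α with ψ. -/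
theorem result {G : Type*} [Group G] [Fintype G] (A : Set G) (L : Subgroup G) [Fintype L] (H : G → Subgroup G) (hD : Cfsg.DadeHypothesis A L H) (α : L → ℂ) (hα : Cfsg.IsClassFunction L α) (hαA : ∀ x : L, (x : G) ∉ A → α x = 0) : (∀ β : L → ℂ, Cfsg.IsClassFunction L β → (∀ x : L, (x : G) ∉ A → β x = 0) → Cfsg.classInner (Cfsg.dadeIsometry A L H α) (Cfsg.dadeIsometry A L H β) = Cfsg.classInner α β) ∧ (∀ (χ : G → ℂ) (ψ : L → ℂ), Cfsg.IsClassFunction G χ → (∀ a : L, (a : G) ∈ A → ψ a = (Nat.card (H a) : ℂ)⁻¹ * ∑ᶠ u ∈ (H a : Set G), χ (a * u)) → Cfsg.classInner (Cfsg.dadeIsometry A L H α) χ = Cfsg.classInner α ψ) := by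
  classical
  have hii : ∀ (χ : G → ℂ) (ψ : L → ℂ), Cfsg.IsClassFunction G χ → (∀ a : L, (a : G) ∈ A → ψ a = (Nat.card (H a) : ℂ)⁻¹ * ∑ᶠ u ∈ (H a : Set G), χ (a * u)) → Cfsg.classInner (Cfsg.dadeIsometry A L H α) χ = Cfsg.classInner α ψ :=
    fun χ ψ hχ hψ => Cfsg.Agent.Lib.Helper4.dade_inner hD α hα hαA χ ψ hχ hψ
  refine ⟨fun β hβ hβA => ?_, hii⟩
  apply hii _ β (Cfsg.Agent.Lib.Helper4.dade_isClassFunction hD β hβ)
  intro a ha
  have hset : ((H (a : G) : Subgroup G) : Set G)
      = ↑((Finset.univ : Finset G).filter (fun u => u ∈ H (a : G))) := by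
    ext u
    simp
  rw [hset, finsum_mem_coe_finset]
  have h3 : ∀ u ∈ (Finset.univ : Finset G).filter (fun u => u ∈ H (a : G)),
      Cfsg.dadeIsometry A L H β ((a : G) * u) = β a := by
    intro u hu
    exact Cfsg.Agent.Lib.Helper4.dade_apply hD β hβ ((a : G) * u) a ha u 1
      (Finset.mem_filter.1 hu).2 (by group)
  rw [Finset.sum_congr rfl h3, Finset.sum_const, nsmul_eq_mul]
  have hcard : ((Finset.univ : Finset G).filter (fun u => u ∈ H (a : G))).card
      = Nat.card (H (a : G)) := by
    rw [Nat.card_eq_fintype_card, Fintype.card_subtype]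
  rw [hcard]
  have hH0 : (Nat.card (H (a : G)) : ℂ) ≠ 0 := Nat.cast_ne_zero.2 Nat.card_pos.ne'
  field_simp

end Cfsg.Agent.S1500
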