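import Cfsg.Statements.S1501
import Mathlib
import Cfsg.Agent.S0164
import Cfsg.Agent.Lib.Helper4.Dade8

set_option autoImplicit false
open Cfsg

namespace Cfsg.Agent.S1501

open Cfsg.Agent.Lib.Helper4 Cfsg.Agent.Lib.Helper2.PiSection Cfsg.Agent.Lib.Helper2.BrauerInd

/-- Under the Dade hypothesis for (A, L, H): if α is a generalized character of L vanishing outside A, then its image under the Dade map is a generalized character of G. -/
theorem result {G : Type*} [Group G] [Fintype G] (A : Set G) (L : Subgroup G) [Fintype L] (H : G → Subgroup G) (hD : Cfsg.DadeHypothesis A L H) (α : L → ℂ) (hα : Cfsg.IsGeneralizedCharacter L α) (hαA : ∀ x : L, (x : G) ∉ A → α x = 0) : Cfsg.IsGeneralizedCharacter G (Cfsg.dadeIsometry A L H α) := by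
  classical
  obtain ⟨m, n, k, S⟩ := exists_dadeSplit hD
  have hαc : Cfsg.IsClassFunction L α := isGenChar_isClassFunction hα
  have hβc := dade_isClassFunction hD α hαc
  apply Cfsg.Agent.S0164.result _ hβc
  intro E p hp hEl
  haveI : Fact p.Prime := ⟨hp⟩
  have hnil : Group.IsNilpotent E := isNilpotent_of_isElementary hEl
  have hEG : Nat.card E ∣ m * n := S.card ▸ Subgroup.card_subgroup_dvd_card E
  have hordE : ∀ e : E, orderOf e ∣ m * n := fun e => (orderOf_dvd_natCard e).trans hEG
  have hsyl : ∀ (q : ℕ) (_ : Fact q.Prime) (P : Sylow q E),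
      (∀ x ∈ (P : Subgroup E), x ^ k = 1) ∨ (∀ x ∈ (P : Subgroup E), x ^ k = x) := by
    intro q hq P
    obtain ⟨j, hj⟩ := P.2.exists_card_eq
    have hPd : q ^ j ∣ m * n := by
      rw [← hj]
      exact (Subgroup.card_subgroup_dvd_card (P : Subgroup E)).trans hEG
    by_cases hqm : q ∣ m
    · left
      intro x hx
      have h1 : (q ^ j).Coprime n :=
        Nat.Coprime.pow_left j (Nat.Coprime.coprime_dvd_left hqm S.cop)
      have h2 : q ^ j ∣ m := h1.dvd_of_dvd_mul_right hPd
      apply pow_eq_one_of_dvd S.k0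
      exact ((Subgroup.orderOf_dvd_natCard _ hx).trans (hj ▸ dvd_rfl)).trans h2
    · right
      intro x hx
      have h1 : (q ^ j).Coprime m :=
        Nat.Coprime.pow_left j ((Nat.Prime.coprime_iff_not_dvd hq.out).2 hqm)
      have h2 : q ^ j ∣ n := h1.dvd_of_dvd_mul_left hPd
      apply pow_eq_self_of_dvd S.k1
      exact ((Subgroup.orderOf_dvd_natCard _ hx).trans (hj ▸ dvd_rfl)).trans h2
  let powHom : E →* E :=
    { toFun := fun x => x ^ k
      map_one' := one_pow k
      map_mul' := mul_pow_of_sylow hnil k hsyl }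
  let φ : E →* powHom.range := powHom.rangeRestrict
  let ι : powHom.range →* G := E.subtype.comp powHom.range.subtype
  haveI : Fintype powHom.range := Fintype.ofFinite _
  have hBn : ∀ b : powHom.range, b ^ n = 1 := by
    intro b
    obtain ⟨e, he⟩ := powHom.rangeRestrict_surjective b
    rw [← he]
    apply Subtype.ext
    show ((powHom e) ^ n : E) = 1
    show (e ^ k) ^ n = 1
    rw [← pow_mul]
    apply orderOf_dvd_iff_pow_eq_one.1
    exact (hordE e).trans (Nat.mul_dvd_mul_right ((Nat.modEq_zero_iff_dvd).1 S.k0) n)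
  have hcop : (Nat.card powHom.range).Coprime m := by
    apply Nat.coprime_of_dvd
    intro q hq hqc hqm
    haveI : Fact q.Prime := ⟨hq⟩
    obtain ⟨b, hb⟩ := exists_prime_orderOf_dvd_card' q hqc
    have h1 : q ∣ n := by
      rw [← hb]
      exact orderOf_dvd_of_pow_eq_one (hBn b)
    have h2 := Nat.dvd_gcd hqm h1
    rw [S.cop] at h2
    exact hq.ne_one (Nat.dvd_one.1 h2)
  have hM2 : ∀ b ∈ A, m.Coprime (Nat.card ↥(L ⊓ Subgroup.centralizer ({b} : Set G))) :=
    fun b hb => Nat.Coprime.coprime_dvd_right (S.hn b hb) S.cop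
  have hK := dade_isGenChar_comp hD S.hm hM2 α hα hαA ι hcop
  have h3 := isGenChar_comp_hom' hK φ
  convert h3 using 1
  funext e
  have h4 : ι (φ e) = (e : G) ^ k := rfl
  rw [h4, S.dade_pow hD α hαc]

end Cfsg.Agent.S1501
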