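import Mathlib
import Cfsg.Statements.S4664
import Cfsg.Agent.Lib.Helper8.BlockDefect
import Cfsg.Agent.Lib.Helper1.RepEigen

set_option autoImplicit false

open Cfsg

namespace Cfsg.Agent.S4664

open scoped ComplexConjugate
open Cfsg.Agent.Lib.Helper1 Cfsg.Agent.Lib.Helper4 Cfsg.Agent.Lib.Helper8

/-- A character value at an element whose order divides `m` lies in the `m`-th cyclotomic field. -/
theorem char_mem_adjoin {G : Type*} [Group G] [Finite G] {χ : G → ℂ} (hχ : Cfsg.IsCharacter G χ)
    (g : G) (m : ℕ) (hm : m ≠ 0) (hg : orderOf g ∣ m) :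
    χ g ∈ IntermediateField.adjoin ℚ
      ({Complex.exp (2 * Real.pi * Complex.I / (m : ℂ))} : Set ℂ) := by
  obtain ⟨n, ρ, rfl⟩ := hχ
  rw [character_eq_sum_roots]
  apply multiset_sum_mem
  intro μ hμ
  have h1 := charpoly_roots_pow ρ g μ hμ
  have h2 : μ ^ m = 1 := by
    obtain ⟨k, rfl⟩ := hg
    rw [pow_mul, h1, one_pow]
  have hprim := Complex.isPrimitiveRoot_exp m hm
  have : NeZero m := ⟨hm⟩
  obtain ⟨i, _, rfl⟩ := hprim.eq_pow_of_pow_eq_one h2
  apply pow_mem
  exact IntermediateField.subset_adjoin _ _ (Set.mem_singleton _)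

theorem result {G : Type*} [Group G] [Fintype G] (p : ℕ) [Fact p.Prime] (M : Ideal Cfsg.AlgInt) (hM : Cfsg.IsPModular p M) (B : Set (Cfsg.IrrCharacter G)) (hB : Cfsg.IsPBlock M B) (g : G) : Cfsg.blockCoeff B g ∈ IntermediateField.adjoin ℚ ({Complex.exp (2 * Real.pi * Complex.I / ((Nat.card G / p ^ (Nat.card G).factorization p : ℕ) : ℂ))} : Set ℂ) := by
  classical
  have hp : p.Prime := Fact.out
  by_cases hg : p ∣ orderOf g
  · rw [blockCoeff_eq_zero_of_dvd_orderOf hM hB hg]
    exact zero_mem _
  · set m := Nat.card G / p ^ (Nat.card G).factorization p with hmdef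
    have hm0 : m ≠ 0 := by
      have := Nat.ordCompl_pos p (Nat.card_pos (α := G)).ne'
      omega
    have hgm : orderOf g ∣ m := by
      have h1 : orderOf g ∣ Nat.card G := orderOf_dvd_natCard g
      have h2 : Nat.card G = p ^ (Nat.card G).factorization p * m :=
        (Nat.ordProj_mul_ordCompl_eq_self (Nat.card G) p).symm
      rw [h2] at h1
      have hcop : Nat.Coprime (orderOf g) (p ^ (Nat.card G).factorization p) :=
        Nat.Coprime.pow_right _ ((Nat.Prime.coprime_iff_not_dvd hp).2 hg).symm
      exact hcop.dvd_of_dvd_mul_left h1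
    have : Fintype (Cfsg.IrrCharacter G) := Fintype.ofFinite _
    rw [blockCoeff_eq_sum]
    apply mul_mem
    · apply inv_mem
      exact natCast_mem _ _
    · apply sum_mem
      intro ψ _
      apply mul_mem
      · apply mul_mem
        · split_ifs
          · exact one_mem _
          · exact zero_mem _
        · obtain ⟨k, hk⟩ := isCharacter_apply_one (isCharacter_of_irr ψ.2)
          rw [hk]
          exact natCast_mem _ _
      · rw [← isCharacter_inv (isCharacter_of_irr ψ.2)]
        apply char_mem_adjoin (isCharacter_of_irr ψ.2) g⁻¹ m hm0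
        rwa [orderOf_inv]

end Cfsg.Agent.S4664
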