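import Mathlib
import Cfsg.Statements.S5061
import Cfsg.Agent.Lib.Helper8.BS8

set_option autoImplicit false
open Cfsg

namespace Cfsg.Agent.S5061

open Cfsg.Agent.Lib.Helper8

/-- Let M be a finite-dimensional vector space over a field k, G ≤ GL(M), and 𝒲 a set of subgroups of G, invariant under conjugation by G, such that any two members of 𝒲 generate a subgroup acting unipotently on M (for some n all products of n endomorphisms g − 1 from it vanish). Then the subgroup generated by all members of 𝒲 acts unipotently on M and is normal in G. -/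
theorem result {k : Type*} [Field k] {M : Type*} [AddCommGroup M] [Module k M] [FiniteDimensional k M]
    {G : Subgroup (LinearMap.GeneralLinearGroup k M)} {W : Set (Subgroup (LinearMap.GeneralLinearGroup k M))} (hWG : ∀ A ∈ W, A ≤ G)
    (hWW : ∀ A ∈ W, ∀ B ∈ W, Cfsg.IsUnipotentOn (A ⊔ B)) (hWconj : ∀ A ∈ W, ∀ g ∈ G, Cfsg.conjBy A g ∈ W) :
    Cfsg.IsUnipotentOn (⨆ A ∈ W, A) ∧ ∀ g ∈ G, Cfsg.conjBy (⨆ A ∈ W, A) g = ⨆ A ∈ W, A := by
  constructor
  · rw [isUnipotentOn_iff_unip]
    have hle : (⨆ A ∈ W, A) ≤ G := iSup₂_le hWG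
    exact unip_iSup_aux k _ M _ _ W rfl
      (fun A hA B hB => (isUnipotentOn_iff_unip _).mp (hWW A hA B hB))
      (fun A hA g hg => hWconj A hA g (hle hg))
  · intro g hg
    rw [conjBy_iSup₂]
    apply le_antisymm
    · apply iSup₂_le
      intro A hA
      exact le_iSup₂_of_le _ (hWconj A hA g hg) le_rfl
    · apply iSup₂_le
      intro A hA
      have h1 := hWconj A hA g⁻¹ (G.inv_mem hg)
      have h2 : Cfsg.conjBy (Cfsg.conjBy A g⁻¹) g = A := by
        rw [conjBy_conjBy, mul_inv_cancel, conjBy_one]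
      calc A = Cfsg.conjBy (Cfsg.conjBy A g⁻¹) g := h2.symm
        _ ≤ ⨆ B ∈ W, Cfsg.conjBy B g := le_iSup₂_of_le (Cfsg.conjBy A g⁻¹) h1 le_rfl

end Cfsg.Agent.S5061
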