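import Mathlib
import Cfsg.Statements.S4742
import Cfsg.Agent.Lib.Helper8.RC2
import Cfsg.Agent.Lib.Helper8.TildeBlock

set_option autoImplicit false
open Cfsg

namespace Cfsg.Agent.S4742

open scoped ComplexConjugate
open Cfsg.Agent.Lib.Helper1 Cfsg.Agent.Lib.Helper4 Cfsg.Agent.Lib.Helper8

/-- Let p ≠ q be primes dividing the order of the finite group G, and suppose the centralizer of every non-identity p-element of G has order prime to q. Then either G has an irreducible character of p-defect zero, or for every non-identity q-element z of G there are conjugates g, h of z such that g h⁻¹ is a non-identity p-element. -/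
theorem result {G : Type*} [Group G] [Finite G] (p q : ℕ) [Fact p.Prime] [Fact q.Prime] (hppq : p ≠ q) (hpG : p ∣ Nat.card G) (hqG : q ∣ Nat.card G) (hC : ∀ g : G, g ≠ 1 → (∃ k : ℕ, orderOf g = p ^ k) → ¬ q ∣ Nat.card ↥(Subgroup.centralizer ({g} : Set G))) : (∃ χ : Cfsg.IrrCharacter G, (Cfsg.charDegree (χ : G → ℂ)).factorization p = (Nat.card G).factorization p) ∨ ∀ z : G, z ≠ 1 → (∃ k : ℕ, orderOf z = q ^ k) → ∃ g h : G, IsConj z g ∧ IsConj z h ∧ g * h⁻¹ ≠ 1 ∧ ∃ k : ℕ, orderOf (g * h⁻¹) = p ^ k := by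
  classical
  haveI : Fintype G := Fintype.ofFinite G
  obtain ⟨M, hM⟩ := exists_isPModular p
  by_contra hcon
  push Not at hcon
  obtain ⟨hno, z, hz1, ⟨kz, hkz⟩, hz⟩ := hcon
  have hq : q.Prime := Fact.out
  have hp : p.Prime := Fact.out
  -- the centralizer of z is a p'-group
  have hCz : ¬ p ∣ Nat.card (Subgroup.centralizer ({z} : Set G)) := by
    intro hdvd
    obtain ⟨u, hu⟩ := exists_prime_orderOf_dvd_card' p hdvd
    have hu1 : (u : G) ≠ 1 := by
      intro h
      have : u = 1 := Subtype.ext h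
      rw [this, orderOf_one] at hu
      exact hp.one_lt.ne hu
    have huo : orderOf (u : G) = p ^ 1 := by
      rw [Subgroup.orderOf_coe, hu, pow_one]
    have h1 := hC (u : G) hu1 ⟨1, huo⟩
    apply h1
    have hzmem : z ∈ Subgroup.centralizer ({(u : G)} : Set G) := by
      rw [Subgroup.mem_centralizer_singleton_iff]
      have := u.2
      rw [Subgroup.mem_centralizer_singleton_iff] at this
      exact this.symm
    have h2 : orderOf (⟨z, hzmem⟩ : Subgroup.centralizer ({(u : G)} : Set G)) ∣
        Nat.card (Subgroup.centralizer ({(u : G)} : Set G)) := orderOf_dvd_natCard _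
    rw [Subgroup.orderOf_mk, hkz] at h2
    have hk0 : kz ≠ 0 := by
      rintro rfl
      rw [pow_zero, orderOf_eq_one_iff] at hkz
      exact hz1 hkz
    exact (dvd_pow_self q hk0).trans h2
  obtain ⟨χ, hχ⟩ := exists_irr_defect_zero_of_separated hM z hCz (by
    intro g h hg hh ⟨n, hn⟩
    by_contra hne
    have hord : orderOf (g * h⁻¹) = orderOf (g⁻¹ * h) := by
      have h1 := MulEquiv.orderOf_eq (MulAut.conj g) (g⁻¹ * h)
      rw [MulAut.conj_apply] at h1
      have h2 : g * (g⁻¹ * h) * g⁻¹ = (g * h⁻¹)⁻¹ := by group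
      rw [h2, orderOf_inv] at h1
      exact h1
    have hne' : g * h⁻¹ ≠ 1 := fun h1 => hne (mul_inv_eq_one.mp h1)
    exact hz g h hg hh hne' n (hord.trans hn))
  exact hno χ hχ

end Cfsg.Agent.S4742
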