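import Cfsg.Statements.S5025
import Cfsg.Agent.Lib.Helper8.RootSet

set_option autoImplicit false

open Cfsg

namespace Cfsg.Agent.S5025

open Cfsg.Agent.Lib.Helper8

theorem result {G : Type*} [Group G] {S : Set (Subgroup G)} (hS : Cfsg.IsRootSubgroupSet S)
    {A B : Subgroup G} (hA : A ∈ S) (hB : B ∈ Cfsg.rankOnePartners S A) {z : G}
    (hz : z ∈ Subgroup.centralizer ((A ⊔ B : Subgroup G) : Set G)) (hz1 : z ≠ 1) :
    ∀ a ∈ A, a ≠ 1 → z * a ∉ Cfsg.rootElements S := by
  intro a ha ha1 hmem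
  obtain ⟨hza1, C, hC, hzaC⟩ := hmem
  obtain ⟨hBS, hAB⟩ := hB
  rw [Subgroup.mem_centralizer_iff] at hz
  have hzA : ∀ x ∈ A, x * z = z * x := fun x hx => hz x (Subgroup.mem_sup_left hx)
  have hzB : ∀ x ∈ B, x * z = z * x := fun x hx => hz x (Subgroup.mem_sup_right hx)
  have hzcB : z ∈ Subgroup.centralizer (B : Set G) := by
    rw [Subgroup.mem_centralizer_iff]; exact hzB
  have hzNB : z ∈ Subgroup.normalizer (B : Set G) := Subgroup.centralizer_le_normalizer _ hzcB
  have hbot := rankOnePair_inf_normalizer hAB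
  rcases hS.pair C hC B hBS with h1 | h2 | h3
  · rw [Subgroup.commutator_eq_bot_iff_le_centralizer] at h1
    have h4 := h1 hzaC
    rw [Subgroup.mem_centralizer_iff] at h4
    have hacB : a ∈ Subgroup.centralizer (B : Set G) := by
      rw [Subgroup.mem_centralizer_iff]
      intro b hb
      have h5 := h4 b hb
      have h6 := hzB b hb
      -- b * (z * a) = z * a * b and b * z = z * b
      have : z * (b * a) = z * (a * b) := by
        rw [← mul_assoc, ← h6, mul_assoc, h5, mul_assoc]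
      exact mul_left_cancel this
    have : a ∈ A ⊓ Subgroup.normalizer (B : Set G) :=
      Subgroup.mem_inf.mpr ⟨ha, Subgroup.centralizer_le_normalizer _ hacB⟩
    rw [hbot, Subgroup.mem_bot] at this
    exact ha1 this
  · obtain ⟨b', hb', -, hEq'⟩ := h2.cond_left (z * a) hzaC hza1
    obtain ⟨b, hb, -, hEq⟩ := hAB.cond_left a ha ha1
    have h4 : Cfsg.conjBy B (z * a)⁻¹ = Cfsg.conjBy B a⁻¹ := by
      rw [mul_inv_rev, ← conjBy_conjBy]
      congr 1
      exact conjBy_eq_self_iff.mpr (Subgroup.inv_mem _ hzNB)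
    rw [h4, ← hEq] at hEq'
    have hCA : C = Cfsg.conjBy A (b' * b⁻¹) := by
      rw [← conjBy_conjBy, ← hEq', conjBy_conjBy]; simp
    rcases rankOnePair_conj_left hAB (B.mul_mem hb' (B.inv_mem hb)) with h5 | ⟨a₁, ha₁, -, h5⟩
    · rw [h5] at hCA
      rw [hCA] at hzaC
      have hzA' : z ∈ A := by
        have := A.mul_mem hzaC (A.inv_mem ha)
        simpa using this
      have : z ∈ A ⊓ Subgroup.normalizer (B : Set G) := Subgroup.mem_inf.mpr ⟨hzA', hzNB⟩
      rw [hbot, Subgroup.mem_bot] at this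
      exact hz1 this
    · rw [h5] at hCA
      rw [hCA, mem_conjBy] at hzaC
      have h6 : a₁⁻¹ * (z * a) * a₁ = z * (a₁⁻¹ * a * a₁) := by
        have := hzA a₁⁻¹ (A.inv_mem ha₁)
        rw [← mul_assoc, this]; group
      rw [h6] at hzaC
      have h7 : a₁⁻¹ * a * a₁ ∈ Subgroup.normalizer (B : Set G) := by
        have h8 : a₁⁻¹ * a * a₁ = z⁻¹ * (z * (a₁⁻¹ * a * a₁)) := by group
        rw [h8]
        exact Subgroup.mul_mem _ (Subgroup.inv_mem _ hzNB) (Subgroup.le_normalizer hzaC)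
      have : a₁⁻¹ * a * a₁ ∈ A ⊓ Subgroup.normalizer (B : Set G) :=
        Subgroup.mem_inf.mpr ⟨A.mul_mem (A.mul_mem (A.inv_mem ha₁) ha) ha₁, h7⟩
      rw [hbot, Subgroup.mem_bot] at this
      apply ha1
      have h9 : a = a₁ * (a₁⁻¹ * a * a₁) * a₁⁻¹ := by group
      rw [h9, this]; group
  · have key := commutatorCase_conj_centralizes (hS.commutative B hBS) h3 hzaC
    refine rankOnePair_conj_not_centralize hAB ha ha1 ?_
    intro c₁ hc₁ c₃ hc₃
    have h4 := key c₁ hc₁ c₃ hc₃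
    have h5 : (z * a)⁻¹ * c₁ * (z * a) = a⁻¹ * c₁ * a := by
      have := hzB c₁ hc₁
      have h6 : (z * a)⁻¹ * c₁ * (z * a) = a⁻¹ * (z⁻¹ * (c₁ * z)) * a := by group
      rw [h6, this]; group
    rw [h5] at h4
    exact h4

end Cfsg.Agent.S5025
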