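import Mathlib
import Cfsg.Statements.S5031
import Cfsg.Agent.Lib.Helper8.RT4

set_option autoImplicit false
open Cfsg

namespace Cfsg.Agent.S5031

open scoped ComplexConjugate
open Cfsg.Agent.Lib.Helper8

/-- Let S be a set of abstract root subgroups of G and let A, B ∈ S lie in different connected components of the graph of rank one pairs on S, each component having more than one member. Then B is not a line partner of A. -/
theorem result {G : Type*} [Group G] {S : Set (Subgroup G)} (hS : Cfsg.IsRootSubgroupSet S)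
    {A B : Subgroup G} (hA : A ∈ S) (hB : B ∈ S)
    (hne : Cfsg.componentOf (Cfsg.FAdj S) S A ≠ Cfsg.componentOf (Cfsg.FAdj S) S B)
    (hA2 : ∃ A' ∈ Cfsg.componentOf (Cfsg.FAdj S) S A, A' ≠ A) (hB2 : ∃ B' ∈ Cfsg.componentOf (Cfsg.FAdj S) S B, B' ≠ B) :
    B ∉ Cfsg.linePartners S A := by
  intro hline
  obtain ⟨⟨-, hBA, hcomm⟩, hpart⟩ := hline
  obtain ⟨D, hD, hAD⟩ := exists_rankOnePartner_of_component hA2
  obtain ⟨D', hD', hBD'⟩ := exists_rankOnePartner_of_component hB2
  have hAB : ∀ a ∈ A, ∀ b ∈ B, a * b = b * a := by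
    intro a ha b hb
    rw [Subgroup.commutator_eq_bot_iff_le_centralizer] at hcomm
    have := hcomm ha
    rw [Subgroup.mem_centralizer_iff] at this
    exact (this b hb).symm
  have hnBD : ¬ Cfsg.IsRankOnePair B D := by
    intro hr
    apply hne
    apply componentOf_eq_of_reach
    exact (reach_of_rankOnePair hA hD hAD).trans
      (reach_of_rankOnePair hD hB (Cfsg.RankOnePair_symm hr))
  have hnAD' : ¬ Cfsg.IsRankOnePair A D' := by
    intro hr
    apply hne
    apply (componentOf_eq_of_reach _).symm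
    exact (reach_of_rankOnePair hB hD' hBD').trans
      (reach_of_rankOnePair hD' hA (Cfsg.RankOnePair_symm hr))
  obtain ⟨a, ha, ha1⟩ := rankOnePair_exists_left hAD
  obtain ⟨b, hb, hb1⟩ := rankOnePair_exists_left hBD'
  have hinf : A ⊓ B = ⊥ := rootSet_inf_eq_bot hS hD hAD hB (Ne.symm hBA)
  have he1 : a * b ≠ 1 := by
    intro h1
    have : a ∈ A ⊓ B := by
      refine Subgroup.mem_inf.mpr ⟨ha, ?_⟩
      have : a = b⁻¹ := eq_inv_of_mul_eq_one_left h1
      rw [this]; exact B.inv_mem hb
    rw [hinf, Subgroup.mem_bot] at this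
    exact ha1 this
  have hemem : a * b ∈ A ⊔ B :=
    Subgroup.mul_mem _ (Subgroup.mem_sup_left ha) (Subgroup.mem_sup_right hb)
  obtain ⟨E, ⟨hE, -⟩, heE⟩ := hpart.2.1 (a * b) hemem he1
  have hED := rankOnePair_of_mul_mem hS hB hD hE hAD hAB hnBD ha ha1 hb heE
  have heE' : b * a ∈ E := by rw [← hAB a ha b hb]; exact heE
  have hED' := rankOnePair_of_mul_mem hS hA hD' hE hBD'
    (fun b hb a ha => (hAB a ha b hb).symm) hnAD' hb hb1 ha heE'
  apply hne
  have h1 : Cfsg.componentOf (Cfsg.FAdj S) S A = Cfsg.componentOf (Cfsg.FAdj S) S E :=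
    componentOf_eq_of_reach ((reach_of_rankOnePair hA hD hAD).trans
      (reach_of_rankOnePair hD hE (Cfsg.RankOnePair_symm hED)))
  have h2 : Cfsg.componentOf (Cfsg.FAdj S) S B = Cfsg.componentOf (Cfsg.FAdj S) S E :=
    componentOf_eq_of_reach ((reach_of_rankOnePair hB hD' hBD').trans
      (reach_of_rankOnePair hD' hE (Cfsg.RankOnePair_symm hED')))
  rw [h1, h2]

end Cfsg.Agent.S5031
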