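import Mathlib
import Cfsg.Statements.S5032
import Cfsg.Agent.Lib.Helper8.RT5

set_option autoImplicit false
open Cfsg

namespace Cfsg.Agent.S5032

open Cfsg.Agent.Lib.Helper8

/-- Let S be a set of abstract root subgroups of G with more than one member. Then the graph of rank one pairs on S is connected if and only if S is a single conjugacy class of G and some member of S has a rank one partner in S. -/
theorem result {G : Type*} [Group G] {S : Set (Subgroup G)} (hS : Cfsg.IsRootSubgroupSet S) (h2 : ∃ A ∈ S, ∃ B ∈ S, A ≠ B) :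
    Cfsg.IsConnectedFamily (Cfsg.FAdj S) S ↔
      (Cfsg.IsConjClassOfSubgroups S ∧ ∃ A ∈ S, ¬ Cfsg.IsIsolatedIn (Cfsg.FAdj S) S A) := by
  constructor
  · intro hconn
    obtain ⟨A, hA, B, hB, hAB⟩ := h2
    refine ⟨⟨⟨A, hA⟩, fun X hX Y hY => reach_exists_conj (hconn X hX Y hY)⟩, A, hA, ?_⟩
    rintro ⟨-, hiso⟩
    rcases Relation.ReflTransGen.cases_head (hconn A hA B hB) with h1 | ⟨D, hD, -⟩
    · exact hAB h1
    · exact (hiso D).1 hD
  · rintro ⟨⟨-, hconj⟩, A₀, hA₀, hiso⟩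
    obtain ⟨D₀, hD₀, hAD₀⟩ := exists_rankOnePartner_of_not_isolated hiso hA₀
    have hall : ∀ A ∈ S, ∃ D ∈ S, Cfsg.IsRankOnePair A D := by
      intro A hA
      obtain ⟨g, rfl⟩ := hconj A₀ hA₀ A hA
      exact ⟨Cfsg.conjBy D₀ g, hS.conj_mem D₀ hD₀ g, isRankOnePair_conjBy hAD₀ g⟩
    intro A hA B hB
    obtain ⟨g, rfl⟩ := hconj A hA B hB
    exact reach_conjBy hS hall g A hA

end Cfsg.Agent.S5032
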