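import Mathlib
-- Template for statement S0957 (row 957; see /opt/grader/pristine/manifest.json for weights).
-- Copy to Cfsg/Agent/S0957.lean and replace the sorry. The statement below is byte-identical to the frozen
-- statement Cfsg.CfsgFrozen.S0957 (Cfsg/Statements/S0957.lean; the theorem Cfsg.sylow_coset_pair_count_divisibility);
-- the grader kernel-checks Cfsg.Agent.S0957.result against that frozen type. Keep the theorem IN THIS FILE
-- (a `result` declared elsewhere and merely imported here is not credited); helpers may live anywhere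
-- under Cfsg/Agent/.
import Cfsg.Statements.S0957
import Cfsg.Agent.Lib.Helper3.OrbitDvd

set_option autoImplicit false
open Cfsg
open Cfsg.Agent.Lib.Helper3 Cfsg.Agent.Lib.Lead

namespace Cfsg.Agent.S0957

/-- Let P be a Sylow p-subgroup of the finite group G, let g, h ∈ G and let p ^ d be the order of a Sylow p-subgroup of the centralizer of g. Then the number of pairs (y, z) with y conjugate to g, z conjugate to h and z * y⁻¹ ∈ P is divisible by the order of P divided by p ^ d. -/
theorem result {G : Type*} [Group G] [Finite G] (p : ℕ) [Fact p.Prime] (P : Sylow p G) (g h : G) (S : Sylow p (Subgroup.centralizer ({g} : Set G))) : Nat.card P / Nat.card S ∣ Nat.card {yz : G × G // IsConj g yz.1 ∧ IsConj h yz.2 ∧ yz.2 * yz.1⁻¹ ∈ (P : Subgroup G)} := by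
  classical
  have hp : p.Prime := Fact.out
  -- the action of `P` on the set of pairs
  let act : MulAction ↥(P : Subgroup G)
      {yz : G × G // IsConj g yz.1 ∧ IsConj h yz.2 ∧ yz.2 * yz.1⁻¹ ∈ (P : Subgroup G)} :=
    { smul := fun u ω => ⟨((u : G) * ω.1.1 * (u : G)⁻¹, (u : G) * ω.1.2 * (u : G)⁻¹), by
        obtain ⟨h1, h2, h3⟩ := ω.2
        refine ⟨h1.trans (isConj_iff.mpr ⟨u, rfl⟩), h2.trans (isConj_iff.mpr ⟨u, rfl⟩), ?_⟩
        have : (u : G) * ω.1.2 * (u : G)⁻¹ * ((u : G) * ω.1.1 * (u : G)⁻¹)⁻¹ =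
            (u : G) * (ω.1.2 * ω.1.1⁻¹) * (u : G)⁻¹ := by group
        rw [this]
        exact Subgroup.mul_mem _ (Subgroup.mul_mem _ u.2 h3) (Subgroup.inv_mem _ u.2)⟩
      one_smul := fun ω => by
        apply Subtype.ext
        apply Prod.ext
        · show ((1 : ↥(P : Subgroup G)) : G) * ω.1.1 * ((1 : ↥(P : Subgroup G)) : G)⁻¹ = ω.1.1
          simp
        · show ((1 : ↥(P : Subgroup G)) : G) * ω.1.2 * ((1 : ↥(P : Subgroup G)) : G)⁻¹ = ω.1.2
          simp
      mul_smul := fun u v ω => by
        apply Subtype.ext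
        apply Prod.ext
        · show ((u * v : ↥(P : Subgroup G)) : G) * ω.1.1 * ((u * v : ↥(P : Subgroup G)) : G)⁻¹ =
            (u : G) * ((v : G) * ω.1.1 * (v : G)⁻¹) * (u : G)⁻¹
          rw [Subgroup.coe_mul]; group
        · show ((u * v : ↥(P : Subgroup G)) : G) * ω.1.2 * ((u * v : ↥(P : Subgroup G)) : G)⁻¹ =
            (u : G) * ((v : G) * ω.1.2 * (v : G)⁻¹) * (u : G)⁻¹
          rw [Subgroup.coe_mul]; group }
  have hsmul1 : ∀ (u : ↥(P : Subgroup G))
      (ω : {yz : G × G // IsConj g yz.1 ∧ IsConj h yz.2 ∧ yz.2 * yz.1⁻¹ ∈ (P : Subgroup G)}),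
      (u • ω).1.1 = (u : G) * ω.1.1 * (u : G)⁻¹ := fun u ω => rfl
  apply dvd_card_of_forall_dvd_orbit (α := ↥(P : Subgroup G))
  intro ω
  -- the stabilizer embeds in the centralizer of the first component
  set T := (MulAction.stabilizer ↥(P : Subgroup G) ω).map (P : Subgroup G).subtype with hT
  have hTle : T ≤ Subgroup.centralizer ({ω.1.1} : Set G) := by
    rintro _ ⟨u, hu, rfl⟩
    rw [Subgroup.mem_centralizer_singleton_iff]
    have h1 : u • ω = ω := hu
    have h2 := congrArg (fun ω => ω.1.1) h1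
    simp only [hsmul1] at h2
    show (u : G) * ω.1.1 = ω.1.1 * (u : G)
    calc (u : G) * ω.1.1 = ((u : G) * ω.1.1 * (u : G)⁻¹) * (u : G) := by group
      _ = ω.1.1 * (u : G) := by rw [h2]
  have hTcard : Nat.card ↥T = Nat.card ↥(MulAction.stabilizer ↥(P : Subgroup G) ω) := by
    rw [hT, Subgroup.card_map_of_injective (Subgroup.subtype_injective _)]
  have hTp : IsPGroup p ↥T := (P.2.to_subgroup _).map _
  obtain ⟨j, hj⟩ := IsPGroup.iff_card.mp hTp
  obtain ⟨x, hx⟩ := isConj_iff.mp ω.2.1
  have hcentcard : Nat.card ↥(Subgroup.centralizer ({ω.1.1} : Set G)) =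
      Nat.card ↥(Subgroup.centralizer ({g} : Set G)) := by
    rw [← hx, ← centralizer_singleton_map_conj, card_map_conj']
  have hjd : j ≤ (Nat.card ↥(Subgroup.centralizer ({g} : Set G))).factorization p := by
    have h1 := Subgroup.card_dvd_of_le hTle
    rw [hj, hcentcard] at h1
    exact (hp.pow_dvd_iff_le_factorization Nat.card_pos.ne').mp h1
  have hScard : Nat.card ↥(S : Subgroup ↥(Subgroup.centralizer ({g} : Set G))) =
      p ^ (Nat.card ↥(Subgroup.centralizer ({g} : Set G))).factorization p := S.card_eq_multiplicity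
  have hPcard : Nat.card ↥(P : Subgroup G) = p ^ (Nat.card G).factorization p := P.card_eq_multiplicity
  have hdn : (Nat.card ↥(Subgroup.centralizer ({g} : Set G))).factorization p ≤
      (Nat.card G).factorization p := by
    have h1 : p ^ (Nat.card ↥(Subgroup.centralizer ({g} : Set G))).factorization p ∣ Nat.card G :=
      (Nat.ordProj_dvd _ p).trans (Subgroup.card_subgroup_dvd_card _)
    exact (hp.pow_dvd_iff_le_factorization Nat.card_pos.ne').mp h1
  rw [← hTcard, hj]
  show Nat.card ↥(P : Subgroup G) / Nat.card ↥(S : Subgroup ↥(Subgroup.centralizer ({g} : Set G))) ∣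
    Nat.card ↥(P : Subgroup G) / p ^ j
  rw [hPcard, hScard, Nat.pow_div hdn hp.pos, Nat.pow_div (hjd.trans hdn) hp.pos]
  exact pow_dvd_pow p (by omega)

end Cfsg.Agent.S0957
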