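import Mathlib
import Cfsg.Statements.S0934
import Cfsg.Agent.Lib.Helper8.InducedOmega2

set_option autoImplicit false
open Cfsg

namespace Cfsg.Agent.S0934

open scoped ComplexConjugate
open Cfsg.Agent.Lib.Helper1 Cfsg.Agent.Lib.Helper4 Cfsg.Agent.Lib.Helper8

/-- Let H be a subgroup of the finite group G and fix a maximal ideal M of the algebraic integers containing the prime p. If the block b of H induces the block B of G and ξ ∈ b, then there is χ ∈ B whose restriction to H has nonzero inner product with ξ. -/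
theorem result {G : Type*} [Group G] [Fintype G] (p : ℕ) [Fact p.Prime] (M : Ideal Cfsg.AlgInt) (hM : Cfsg.IsPModular p M) (H : Subgroup G) [Fintype H] (b : Set (Cfsg.IrrCharacter H)) (B : Set (Cfsg.IrrCharacter G)) (hind : Cfsg.IsInducedBlock M H b B) (ξ : Cfsg.IrrCharacter H) (hξ : ξ ∈ b) : ∃ χ ∈ B, Cfsg.classInner (fun h : H => (χ : G → ℂ) h) (ξ : H → ℂ) ≠ 0 := by
  classical
  have : Fintype (IrrCharacter G) := Fintype.ofFinite _
  obtain ⟨n, hn, h1, -⟩ := blockPart_indFun_valuation hM H hind hξ hind.2.1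
  obtain ⟨h2, -⟩ := h1 rfl
  by_contra hcon
  push Not at hcon
  apply h2
  have h3 : blockPart B (indFun H (ξ : H → ℂ)) 1 = 0 := by
    rw [blockPart_eq_sum]
    apply Finset.sum_eq_zero
    intro χ _
    by_cases hχ : χ ∈ B
    · have h4 := hcon χ hχ
      rw [Cfsg.Agent.S0146.result H _ _ (isClassFunction_irr χ.2)]
      have h5 := classInner_eq_zero_symm h4
      rw [h5, zero_mul, mul_zero]
    · rw [if_neg hχ, zero_mul]
  rw [h3] at hn
  exact_mod_cast hn.symm

end Cfsg.Agent.S0934
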