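import Mathlib
import Cfsg.Statements.S4400
import Cfsg.Agent.Lib.Helper7.SecRank1

set_option autoImplicit false
open Cfsg
open scoped Pointwise

namespace Cfsg.Agent.S4400

open Cfsg.Agent.Lib.Helper7.SecRank

section aux

variable {S : Type*} [Group S] [Finite S]

theorem eq_of_card_two {K : Subgroup S} (hK : Nat.card K = 2) {a b : S} (ha : a ∈ K) (hb : b ∈ K)
    (ha1 : a ≠ 1) (hb1 : b ≠ 1) : a = b := by
  classical
  by_contra hne
  have h3 : 3 ≤ Nat.card K := by
    have hinj : Function.Injective (fun i : Fin 3 =>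
        (![⟨1, Subgroup.one_mem _⟩, ⟨a, ha⟩, ⟨b, hb⟩] i : K)) := by
      intro i j hij
      fin_cases i <;> fin_cases j <;> simp_all [Subtype.ext_iff]
    have := Nat.card_le_card_of_injective _ hinj
    simpa using this
  omega

theorem card_zen (P : Subgroup S) : Nat.card (zen P) = Nat.card (Subgroup.center ↥P) :=
  (Nat.card_congr (Subgroup.equivMapOfInjective _ P.subtype P.subtype_injective).toEquiv).symm

/-- a nontrivial normal subgroup of `S` inside `P` contains the centre of `P` when that has order 2 -/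
theorem zen_le_of_normal (P : Subgroup S) (hP : IsPGroup 2 ↥P)
    (hZP : Nat.card ↥(Subgroup.center ↥P) = 2) (D : Subgroup S) [D.Normal] (hDP : D ≤ P)
    (hD : D ≠ ⊥) : zen P ≤ D := by
  haveI : Fact (Nat.Prime 2) := ⟨Nat.prime_two⟩
  haveI : Group.IsNilpotent ↥P := hP.isNilpotent
  have hD' : D.subgroupOf P ≠ ⊥ := by
    intro h
    apply hD
    rw [eq_bot_iff]
    intro x hx
    have : (⟨x, hDP hx⟩ : ↥P) ∈ D.subgroupOf P := Subgroup.mem_subgroupOf.mpr hx
    rw [h, Subgroup.mem_bot] at this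
    rw [Subgroup.mem_bot]
    exact congrArg Subtype.val this
  have h1 := Cfsg.Agent.Lib.Lead.inf_center_ne_bot (D.subgroupOf P) hD'
  obtain ⟨⟨w, hwD, hwz⟩, hw1⟩ := (Subgroup.ne_bot_iff_exists_ne_one).mp h1
  have hw1' : w ≠ 1 := fun h => hw1 (Subtype.ext h)
  rintro _ ⟨z, hz, rfl⟩
  by_cases hz1 : z = 1
  · rw [hz1]; exact Subgroup.one_mem _
  have : w = z := eq_of_card_two hZP hwz hz hw1' hz1
  rw [← this]
  exact Subgroup.mem_subgroupOf.mp hwD

/-- the centre of a normal subgroup, when of order 2, is central in `S` -/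
theorem zen_central (Q : Subgroup S) [hQn : Q.Normal]
    (hZQ : Nat.card ↥(Subgroup.center ↥Q) = 2) {z : S} (hz : z ∈ zen Q) (g : S) :
    g * z * g⁻¹ = z := by
  by_cases hz1 : z = 1
  · rw [hz1]; group
  have hconj : g * z * g⁻¹ ∈ zen Q := by
    rw [mem_zen] at hz ⊢
    refine ⟨hQn.conj_mem z hz.1 g, fun a ha => ?_⟩
    have h1 : g⁻¹ * a * g ∈ Q := hQn.conj_mem' a ha g
    have h2 := hz.2 _ h1
    calc a * (g * z * g⁻¹) = g * ((g⁻¹ * a * g) * z) * g⁻¹ := by group
      _ = g * (z * (g⁻¹ * a * g)) * g⁻¹ := by rw [h2]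
      _ = g * z * g⁻¹ * a := by group
  have hc1 : g * z * g⁻¹ ≠ 1 := by
    intro h
    apply hz1
    have : z = g⁻¹ * (g * z * g⁻¹) * g := by group
    rw [this, h]; group
  have hcard : Nat.card (zen Q) = 2 := by rw [card_zen, hZQ]
  exact eq_of_card_two hcard hconj hz hc1 hz1

end aux

theorem result {S : Type*} [Group S] [Finite S] (h2 : IsPGroup 2 S) (hr : Cfsg.SectionalPRankLE 2 4 S)
    (P Q : Subgroup S) [P.Normal] [Q.Normal] (hP : ¬ IsMulCommutative ↥P) (hQ : ¬ IsMulCommutative ↥Q)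
    (hZP : Nat.card ↥(Subgroup.center ↥P) = 2) (hZQ : Nat.card ↥(Subgroup.center ↥Q) = 2)
    (hne : (Subgroup.center ↥P).map P.subtype ≠ (Subgroup.center ↥Q).map Q.subtype) :
    ⁅P, Q⁆ = ⊥ ∧ P ⊓ Q = ⊥ ∧ Subgroup.centralizer ((P ⊔ Q : Subgroup S) : Set S) ≤ P ⊔ Q := by
  classical
  haveI : Fact (Nat.Prime 2) := ⟨Nat.prime_two⟩
  have hP2 : IsPGroup 2 ↥P := h2.to_subgroup P
  have hQ2 : IsPGroup 2 ↥Q := h2.to_subgroup Q
  -- Step 1
  have hPQ : P ⊓ Q = ⊥ := by
    by_contra hD
    have h1 : zen P ≤ P ⊓ Q := zen_le_of_normal P hP2 hZP (P ⊓ Q) inf_le_left hD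
    have h2' : zen Q ≤ P ⊓ Q := zen_le_of_normal Q hQ2 hZQ (P ⊓ Q) inf_le_right hD
    have h3 : zen Q ≤ zen P := by
      intro z hz
      rw [mem_zen]
      refine ⟨(h2' hz).1, fun a _ => ?_⟩
      have := zen_central Q hZQ hz a
      calc a * z = (a * z * a⁻¹) * a := by group
        _ = z * a := by rw [this]
    have h4 : zen Q = zen P := by
      apply Subgroup.eq_of_le_of_card_ge h3
      rw [card_zen, card_zen, hZP, hZQ]
    exact hne h4.symm
  have hcomm0 : ⁅P, Q⁆ = ⊥ := by
    have := Subgroup.commutator_le_inf P Q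
    rw [hPQ] at this
    exact le_bot_iff.mp this
  have hcomm : ∀ a ∈ P, ∀ b ∈ Q, a * b = b * a := by
    intro a ha b hb
    have h1 := (Subgroup.commutator_eq_bot_iff_le_centralizer).mp hcomm0 ha
    exact (Subgroup.mem_centralizer_iff.mp h1 b hb).symm
  refine ⟨hcomm0, hPQ, ?_⟩
  -- Step 3
  by_contra hC
  obtain ⟨c, hcC, hcPQ⟩ := SetLike.not_le_iff_exists.mp hC
  -- choose x
  have hex : ∃ k : ℕ, c ^ 2 ^ k ∈ P ⊔ Q := by
    obtain ⟨k, hk⟩ := h2 c
    exact ⟨k, by rw [hk]; exact Subgroup.one_mem _⟩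
  have hk0 : Nat.find hex ≠ 0 := by
    intro h0
    have := Nat.find_spec hex
    rw [h0, pow_zero, pow_one] at this
    exact hcPQ this
  obtain ⟨k, hk⟩ := Nat.exists_eq_succ_of_ne_zero hk0
  set x := c ^ 2 ^ k with hx
  have hxPQ : x ∉ P ⊔ Q := by
    have := Nat.find_min hex (m := k) (by omega)
    exact this
  have hx2 : x ^ 2 ∈ P ⊔ Q := by
    have := Nat.find_spec hex
    rw [hk, Nat.succ_eq_add_one, pow_succ, pow_mul] at this
    exact this
  have hxC : x ∈ Subgroup.centralizer ((P ⊔ Q : Subgroup S) : Set S) := Subgroup.pow_mem _ hcC _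
  have hxP : ∀ a ∈ P, a * x = x * a := fun a ha =>
    Subgroup.mem_centralizer_iff.mp hxC a (Subgroup.mem_sup_left ha)
  have hxQ : ∀ b ∈ Q, b * x = x * b := fun b hb =>
    Subgroup.mem_centralizer_iff.mp hxC b (Subgroup.mem_sup_right hb)
  -- description of P ⊔ Q
  have hsupPQ : ∀ y ∈ P ⊔ Q, ∃ a ∈ P, ∃ b ∈ Q, y = a * b := by
    intro y hy
    rw [← SetLike.mem_coe, Subgroup.mul_normal] at hy
    obtain ⟨a, ha, b, hb, rfl⟩ := hy
    exact ⟨a, ha, b, hb, rfl⟩
  -- N
  set N : Subgroup S := phi P ⊔ phi Q with hN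
  have hNPQ : N ≤ P ⊔ Q := sup_le ((phi_le P).trans le_sup_left) ((phi_le Q).trans le_sup_right)
  -- x^2 ∈ N
  have hx2N : x ^ 2 ∈ N := by
    obtain ⟨a, ha, b, hb, hab⟩ := hsupPQ _ hx2
    have hx2c : ∀ y ∈ P ⊔ Q, y * x ^ 2 = x ^ 2 * y := fun y hy =>
      Subgroup.mem_centralizer_iff.mp (Subgroup.pow_mem _ hxC 2) y hy
    have haz : a ∈ zen P := by
      rw [mem_zen]
      refine ⟨ha, fun a' ha' => ?_⟩
      have h1 := hx2c a' (Subgroup.mem_sup_left ha')
      rw [hab] at h1
      -- a' * (a*b) = (a*b) * a' and b commutes with a'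
      have h3 : a' * b = b * a' := hcomm a' ha' b hb
      have h4 : a' * a * b = a * a' * b := by
        calc a' * a * b = a' * (a * b) := by group
          _ = a * b * a' := h1
          _ = a * (b * a') := by group
          _ = a * (a' * b) := by rw [h3]
          _ = a * a' * b := by group
      exact mul_right_cancel h4
    have hbz : b ∈ zen Q := by
      rw [mem_zen]
      refine ⟨hb, fun b' hb' => ?_⟩
      have h1 := hx2c b' (Subgroup.mem_sup_right hb')
      rw [hab] at h1
      have h3 : a * b' = b' * a := hcomm a ha b' hb'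
      have h4 : a * (b' * b) = a * (b * b') := by
        calc a * (b' * b) = (a * b') * b := by group
          _ = (b' * a) * b := by rw [h3]
          _ = b' * (a * b) := by group
          _ = a * b * b' := h1
          _ = a * (b * b') := by group
      exact mul_left_cancel h4
    rw [hab]
    exact Subgroup.mul_mem_sup (zen_le_phi P hP2 hP hZP haz) (zen_le_phi Q hQ2 hQ hZQ hbz)
  -- H
  set H : Subgroup S := (P ⊔ Q) ⊔ Subgroup.zpowers x with hH
  have hPQH : P ⊔ Q ≤ H := le_sup_left
  have hNH : N ≤ H := hNPQ.trans hPQH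
  have hxH : x ∈ H := Subgroup.mem_sup_right (Subgroup.mem_zpowers x)
  haveI hNn : N.Normal := inferInstance
  -- squares of H lie in N
  have hsq : ∀ h ∈ H, h ^ 2 ∈ N := by
    intro h hh
    rw [← SetLike.mem_coe, hH, Subgroup.normal_mul] at hh
    obtain ⟨y, hy, w, hw, rfl⟩ := hh
    obtain ⟨a, ha, b, hb, rfl⟩ := hsupPQ y hy
    obtain ⟨i, rfl⟩ := Subgroup.mem_zpowers_iff.mp hw
    have hxi_a : a * x ^ i = x ^ i * a := by
      have : Commute a x := hxP a ha
      exact (this.zpow_right i).eq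
    have hxi_b : b * x ^ i = x ^ i * b := by
      have : Commute b x := hxQ b hb
      exact (this.zpow_right i).eq
    have hab : a * b = b * a := hcomm a ha b hb
    have e : (a * b * x ^ i) ^ 2 = a ^ 2 * b ^ 2 * (x ^ 2) ^ i := by
      have c1 : Commute a b := hab
      have c2 : Commute (a * b) (x ^ i) := by
        have ca : Commute a (x ^ i) := hxi_a
        have cb : Commute b (x ^ i) := hxi_b
        exact ca.mul_left cb
      rw [c2.mul_pow, c1.mul_pow, ← zpow_natCast (x ^ i), ← zpow_mul, mul_comm, zpow_mul,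
        zpow_natCast]
    rw [e]
    refine N.mul_mem (N.mul_mem ?_ ?_) (N.zpow_mem hx2N i)
    · exact Subgroup.mem_sup_left (sq_mem_phi P hP2 ha)
    · exact Subgroup.mem_sup_right (sq_mem_phi Q hQ2 hb)
  -- the index of N in H
  have hidx : 32 ≤ N.relIndex H := by
    have e1 : N.relIndex (P ⊔ Q) * (P ⊔ Q).relIndex H = N.relIndex H :=
      Subgroup.relIndex_mul_relIndex N (P ⊔ Q) H hNPQ hPQH
    have hNP : N ≤ N ⊔ P := le_sup_left
    have hNPle : N ⊔ P ≤ P ⊔ Q := sup_le hNPQ le_sup_left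
    have e2 : N.relIndex (N ⊔ P) * (N ⊔ P).relIndex (P ⊔ Q) = N.relIndex (P ⊔ Q) :=
      Subgroup.relIndex_mul_relIndex N (N ⊔ P) (P ⊔ Q) hNP hNPle
    -- first factor
    have f1 : 4 ≤ N.relIndex (N ⊔ P) := by
      rw [Subgroup.relIndex_sup_left, ← Subgroup.inf_relIndex_right]
      have : N ⊓ P = phi P := by
        apply le_antisymm
        · intro y hy
          rw [Subgroup.mem_inf] at hy
          obtain ⟨hyN, hyP⟩ := hy
          rw [hN, ← SetLike.mem_coe, Subgroup.mul_normal] at hyN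
          obtain ⟨f, hf, g, hg, rfl⟩ := hyN
          have hgP : g ∈ P := by
            have : g = f⁻¹ * (f * g) := by group
            rw [this]
            exact P.mul_mem (P.inv_mem (phi_le P hf)) hyP
          have hg1 : g ∈ P ⊓ Q := ⟨hgP, phi_le Q hg⟩
          rw [hPQ, Subgroup.mem_bot] at hg1
          rw [hg1]
          show f * 1 ∈ _
          rw [mul_one]
          exact hf
        · exact le_inf le_sup_left (phi_le P)
      rw [this]
      exact four_le_relIndex_phi P hP2 hP
    -- second factor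
    have f2 : 4 ≤ (N ⊔ P).relIndex (P ⊔ Q) := by
      have hsup : P ⊔ Q = (N ⊔ P) ⊔ Q := by
        apply le_antisymm
        · exact sup_le (le_sup_right.trans le_sup_left) le_sup_right
        · exact sup_le hNPle le_sup_right
      rw [hsup, Subgroup.relIndex_sup_left, ← Subgroup.inf_relIndex_right]
      have : (N ⊔ P) ⊓ Q = phi Q := by
        apply le_antisymm
        · intro y hy
          rw [Subgroup.mem_inf] at hy
          obtain ⟨hyN, hyQ⟩ := hy
          have hNP' : N ⊔ P = phi Q ⊔ P := by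
            apply le_antisymm
            · exact sup_le (sup_le ((phi_le P).trans le_sup_right) le_sup_left) le_sup_right
            · exact sup_le (le_sup_right.trans le_sup_left) le_sup_right
          rw [hNP', ← SetLike.mem_coe, Subgroup.mul_normal] at hyN
          obtain ⟨f, hf, g, hg, rfl⟩ := hyN
          have hgQ : g ∈ Q := by
            have : g = f⁻¹ * (f * g) := by group
            rw [this]
            exact Q.mul_mem (Q.inv_mem (phi_le Q hf)) hyQ
          have hg1 : g ∈ P ⊓ Q := ⟨hg, hgQ⟩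
          rw [hPQ, Subgroup.mem_bot] at hg1
          rw [hg1]
          show f * 1 ∈ _
          rw [mul_one]
          exact hf
        · exact le_inf ((le_sup_right : phi Q ≤ N).trans le_sup_left) (phi_le Q)
      rw [this]
      exact four_le_relIndex_phi Q hQ2 hQ
    -- third factor
    have f3 : 2 ≤ (P ⊔ Q).relIndex H := by
      have h0 : (P ⊔ Q).relIndex H ≠ 0 := by
        show ((P ⊔ Q).subgroupOf H).index ≠ 0
        exact Subgroup.index_ne_zero_of_finite
      have h1 : (P ⊔ Q).relIndex H ≠ 1 := by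
        intro h
        rw [Subgroup.relIndex_eq_one] at h
        exact hxPQ (h hxH)
      omega
    calc 32 = 4 * 4 * 2 := by norm_num
      _ ≤ N.relIndex (N ⊔ P) * (N ⊔ P).relIndex (P ⊔ Q) * (P ⊔ Q).relIndex H :=
        Nat.mul_le_mul (Nat.mul_le_mul f1 f2) f3
      _ = N.relIndex H := by rw [e2, e1]
  -- contradiction with the sectional rank
  haveI : (N.subgroupOf H).Normal := Subgroup.normal_subgroupOf
  have hrank := hr H (N.subgroupOf H) ⊤ ?_ ?_
  · rw [Subgroup.card_top] at hrank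
    have : Nat.card (↥H ⧸ N.subgroupOf H) = N.relIndex H := (Subgroup.index_eq_card _).symm
    rw [this] at hrank
    omega
  · -- commutative
    have hexp : ∀ u : ↥H ⧸ N.subgroupOf H, u * u = 1 := by
      intro u
      obtain ⟨h, rfl⟩ := QuotientGroup.mk_surjective u
      rw [← QuotientGroup.mk_mul, QuotientGroup.eq_one_iff, Subgroup.mem_subgroupOf]
      have := hsq h h.2
      rw [pow_two] at this
      exact this
    refine ⟨⟨fun u v => ?_⟩⟩
    apply Subtype.ext
    have hu := hexp u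
    have hv := hexp v
    have huv := hexp ((u : ↥H ⧸ N.subgroupOf H) * v)
    show (u : ↥H ⧸ N.subgroupOf H) * v = v * u
    calc (u : ↥H ⧸ N.subgroupOf H) * v = u * (u * v * (u * v)) * v := by rw [huv, mul_one]
      _ = (u * u) * v * u * (v * v) := by group
      _ = v * u := by rw [hu, hv, one_mul, mul_one]
  · intro u _
    obtain ⟨h, rfl⟩ := QuotientGroup.mk_surjective u
    rw [← QuotientGroup.mk_pow, QuotientGroup.eq_one_iff, Subgroup.mem_subgroupOf]
    exact hsq h h.2

end Cfsg.Agent.S4400
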