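import Cfsg.Statements.S0894
import Mathlib
import Cfsg.Agent.S0138
import Cfsg.Agent.S0145
import Cfsg.Agent.S0134
import Cfsg.Agent.Lib.Helper1.CharCenter
import Cfsg.Agent.Lib.Helper4.Characters
import Cfsg.Agent.Lib.Helper8.LinearCount

set_option autoImplicit false
open Cfsg

namespace Cfsg.Agent.S0894

open scoped ComplexConjugate in
theorem central_norm {G : Type*} [Group G] [Finite G] {χ : G → ℂ} (hχ : Cfsg.IsIrrCharacter G χ)
    {z : G} (hz : z ∈ Subgroup.center G) : χ z * conj (χ z) = χ 1 ^ 2 := by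
  obtain ⟨m, ρ, hρ, rfl⟩ := hχ
  haveI := hρ
  have h1 := (Cfsg.Agent.S0138.result ρ z).2 ⟨_, Cfsg.Agent.Lib.Helper1.central_eq_char ρ hz⟩
  rw [Complex.mul_conj, Complex.normSq_eq_norm_sq, h1, Representation.char_one]
  push_cast; ring

theorem vanish {G : Type*} [Group G] [Finite G] (x : G)
    (hx : Nat.card (Subgroup.centralizer ({x} : Set G)) ≤ (commutator G).index)
    (χ : Cfsg.IrrCharacter G) (hχ : (χ : G → ℂ) 1 ≠ 1) : (χ : G → ℂ) x = 0 := by
  classical
  haveI : Fintype G := Fintype.ofFinite G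
  haveI : Fintype (Cfsg.IrrCharacter G) := Fintype.ofFinite _
  have hcol := (Cfsg.Agent.S0145.result x x).1 (IsConj.refl x)
  rw [finsum_eq_sum_of_fintype] at hcol
  have hcolR : ∑ ψ : Cfsg.IrrCharacter G, Complex.normSq ((ψ : G → ℂ) x)
      = (Nat.card (Subgroup.centralizer ({x} : Set G)) : ℝ) := by
    apply Complex.ofReal_injective
    rw [Complex.ofReal_sum]
    simp only [← Complex.mul_conj]
    rw [hcol]; simp
  have hsplit := Finset.sum_filter_add_sum_filter_not Finset.univ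
    (fun ψ : Cfsg.IrrCharacter G => (ψ : G → ℂ) 1 = 1) (fun ψ => Complex.normSq ((ψ : G → ℂ) x))
  have hlin : ∑ ψ ∈ Finset.univ.filter (fun ψ : Cfsg.IrrCharacter G => (ψ : G → ℂ) 1 = 1),
      Complex.normSq ((ψ : G → ℂ) x) = ((commutator G).index : ℝ) := by
    rw [Finset.sum_congr rfl (g := fun _ => (1:ℝ))]
    · rw [Finset.sum_const, nsmul_eq_mul, mul_one, ← Cfsg.Agent.Lib.Helper8.card_linear_irr,
        Nat.card_eq_fintype_card, Fintype.card_subtype]
    · intro ψ hψ
      rw [Finset.mem_filter] at hψ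
      have := Cfsg.Agent.Lib.Helper8.linear_irr_mul_conj ψ.2 hψ.2 x
      rw [Complex.mul_conj] at this
      exact_mod_cast this
  have hnon : ∑ ψ ∈ Finset.univ.filter (fun ψ : Cfsg.IrrCharacter G => ¬ (ψ : G → ℂ) 1 = 1),
      Complex.normSq ((ψ : G → ℂ) x) ≤ 0 := by
    have : (Nat.card (Subgroup.centralizer ({x} : Set G)) : ℝ) ≤ ((commutator G).index : ℝ) := by
      exact_mod_cast hx
    linarith
  have hzero := (Finset.sum_eq_zero_iff_of_nonneg (fun ψ _ => Complex.normSq_nonneg _)).1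
    (le_antisymm hnon (Finset.sum_nonneg (fun ψ _ => Complex.normSq_nonneg _))) χ (by simp [hχ])
  exact Complex.normSq_eq_zero.1 hzero

/-- Let P be an extraspecial p-group of order p ^ (2 * n + 1). Then every irreducible character of P has degree 1 or p ^ n, and exactly p - 1 of them have degree p ^ n. -/
theorem result {P : Type*} [Group P] [Finite P] (p n : ℕ) [Fact p.Prime] (hP : Cfsg.IsExtraspecial p P) (hcard : Nat.card P = p ^ (2 * n + 1)) : (∀ χ : Cfsg.IrrCharacter P, (χ : P → ℂ) 1 = 1 ∨ (χ : P → ℂ) 1 = (p : ℂ) ^ n) ∧ Nat.card {χ : Cfsg.IrrCharacter P // (χ : P → ℂ) 1 = (p : ℂ) ^ n} = p - 1 := by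
  classical
  haveI : Fintype P := Fintype.ofFinite P
  haveI : Fintype (Cfsg.IrrCharacter P) := Fintype.ofFinite _
  obtain ⟨⟨hpg, hfr, hcomm⟩, hZ⟩ := hP
  have hp := (Fact.out : p.Prime)
  have hidx : (commutator P).index = p ^ (2 * n) := by
    have := Subgroup.card_mul_index (commutator P)
    rw [hcomm, hZ, hcard, pow_succ, mul_comm] at this
    rw [hcomm]
    exact Nat.eq_of_mul_eq_mul_right hp.pos this
  have hn : n ≠ 0 := by
    rintro rfl
    have h1 : Subgroup.center P = ⊤ := by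
      apply Subgroup.eq_top_of_card_eq
      rw [hZ, hcard]; simp
    have h2 : commutator P = ⊥ := (commutator_eq_bot_iff_center_eq_top P).2 h1
    rw [hcomm] at h2
    rw [h2, Subgroup.card_bot] at hZ
    exact hp.one_lt.ne hZ
  have hdeg : ∀ χ : Cfsg.IrrCharacter P, (χ : P → ℂ) 1 ≠ 1 → (χ : P → ℂ) 1 = (p : ℂ) ^ n := by
    intro χ hχ
    have hvan : ∀ x : P, x ∉ Subgroup.center P → (χ : P → ℂ) x = 0 := by
      intro x hx
      apply vanish x _ χ hχ
      rw [hidx]
      have hne : Subgroup.centralizer ({x} : Set P) ≠ ⊤ := by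
        intro h
        apply hx
        rw [Subgroup.mem_center_iff]
        intro g
        have hg : g ∈ Subgroup.centralizer ({x} : Set P) := h ▸ Subgroup.mem_top g
        exact Subgroup.mem_centralizer_iff.1 hg x rfl |>.symm
      obtain ⟨k, hk⟩ := (hpg.to_subgroup (Subgroup.centralizer ({x} : Set P))).exists_card_eq
      have hdvd : Nat.card (Subgroup.centralizer ({x} : Set P)) ∣ p ^ (2 * n + 1) :=
        hcard ▸ Subgroup.card_subgroup_dvd_card _
      rw [hk]
      apply Nat.pow_le_pow_right hp.pos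
      rw [hk] at hdvd
      have hle := (Nat.pow_dvd_pow_iff_le_right hp.one_lt).1 hdvd
      rcases hle.lt_or_eq with h | h
      · omega
      · exfalso; apply hne
        apply Subgroup.eq_top_of_card_eq
        rw [hk, hcard, h]
    have hnorm := Cfsg.Agent.Lib.Helper4.classInner_irr_self χ.2
    rw [Cfsg.Agent.Lib.Helper4.classInner_def] at hnorm
    have hsum : ∑ g : P, (χ : P → ℂ) g * (starRingEnd ℂ) ((χ : P → ℂ) g)
        = (p : ℂ) * (χ : P → ℂ) 1 ^ 2 := by
      rw [← Finset.sum_subset (Finset.subset_univ (Finset.univ.filter (· ∈ Subgroup.center P)))]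
      · rw [Finset.sum_congr rfl (g := fun _ => (χ : P → ℂ) 1 ^ 2)]
        · rw [Finset.sum_const, nsmul_eq_mul, ← hZ, Nat.card_eq_fintype_card, Fintype.card_subtype]
        · intro z hz; exact central_norm χ.2 (Finset.mem_filter.1 hz).2
      · intro g _ hg
        rw [hvan g (by simpa using hg)]; simp
    rw [hsum, hcard] at hnorm
    obtain ⟨d, hd0, hd⟩ := Cfsg.Agent.Lib.Helper4.irr_apply_one_pos χ.2
    rw [hd] at hnorm ⊢
    have hpc : (p : ℂ) ≠ 0 := Nat.cast_ne_zero.2 hp.ne_zero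
    have h3 : (d : ℂ) ^ 2 = ((p ^ n : ℕ) : ℂ) ^ 2 := by
      push_cast at hnorm ⊢
      field_simp at hnorm
      rw [← pow_mul, mul_comm n 2]
      have : (p : ℂ) * (d : ℂ) ^ 2 = (p : ℂ) * (p : ℂ) ^ (2 * n) := by
        rw [hnorm]; ring
      exact mul_left_cancel₀ hpc this
    have h4 : d ^ 2 = (p ^ n) ^ 2 := by exact_mod_cast h3
    have h5 : d = p ^ n := Nat.pow_left_injective (by norm_num : 2 ≠ 0) h4
    rw [h5]; push_cast; rfl
  have hpn : ((p : ℂ) ^ n) ≠ 1 := by
    have : p ^ n ≠ 1 := by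
      intro h
      rcases Nat.pow_eq_one.1 h with h | h
      · exact hp.one_lt.ne' h
      · exact hn h
    exact_mod_cast this
  refine ⟨fun χ => ?_, ?_⟩
  · by_cases h : (χ : P → ℂ) 1 = 1
    · exact Or.inl h
    · exact Or.inr (hdeg χ h)
  · have hss := Cfsg.Agent.S0134.sum_sq_degrees (G := P)
    rw [← Finset.sum_filter_add_sum_filter_not Finset.univ
      (fun ψ : Cfsg.IrrCharacter P => (ψ : P → ℂ) 1 = 1)] at hss
    have hlin : ∑ ψ ∈ Finset.univ.filter (fun ψ : Cfsg.IrrCharacter P => (ψ : P → ℂ) 1 = 1),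
        (ψ : P → ℂ) 1 ^ 2 = ((p ^ (2 * n) : ℕ) : ℂ) := by
      rw [Finset.sum_congr rfl (g := fun _ => (1:ℂ))]
      · rw [Finset.sum_const, nsmul_eq_mul, mul_one, ← hidx,
          ← Cfsg.Agent.Lib.Helper8.card_linear_irr,
          Nat.card_eq_fintype_card, Fintype.card_subtype]
      · intro ψ hψ
        rw [(Finset.mem_filter.1 hψ).2]; simp
    have hnon : ∑ ψ ∈ Finset.univ.filter (fun ψ : Cfsg.IrrCharacter P => ¬ (ψ : P → ℂ) 1 = 1),
        (ψ : P → ℂ) 1 ^ 2 = ((Finset.univ.filter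
          (fun ψ : Cfsg.IrrCharacter P => ¬ (ψ : P → ℂ) 1 = 1)).card : ℂ) * ((p ^ (2 * n) : ℕ) : ℂ) := by
      rw [Finset.sum_congr rfl (g := fun _ => ((p ^ (2 * n) : ℕ) : ℂ))]
      · rw [Finset.sum_const, nsmul_eq_mul]
      · intro ψ hψ
        rw [hdeg ψ (Finset.mem_filter.1 hψ).2]; push_cast; ring
    rw [hlin, hnon, hcard] at hss
    have hk : p ^ (2 * n) + (Finset.univ.filter
          (fun ψ : Cfsg.IrrCharacter P => ¬ (ψ : P → ℂ) 1 = 1)).card * p ^ (2 * n)
          = p ^ (2 * n + 1) := by exact_mod_cast hss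
    have hk2 : (1 + (Finset.univ.filter
          (fun ψ : Cfsg.IrrCharacter P => ¬ (ψ : P → ℂ) 1 = 1)).card) * p ^ (2 * n)
          = p * p ^ (2 * n) := by
      rw [add_mul, one_mul, hk, pow_succ, mul_comm]
    have hk3 := Nat.eq_of_mul_eq_mul_right (pow_pos hp.pos _) hk2
    have hset : Finset.univ.filter (fun ψ : Cfsg.IrrCharacter P => (ψ : P → ℂ) 1 = (p : ℂ) ^ n)
        = Finset.univ.filter (fun ψ : Cfsg.IrrCharacter P => ¬ (ψ : P → ℂ) 1 = 1) := by
      ext ψ
      simp only [Finset.mem_filter, Finset.mem_univ, true_and]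
      constructor
      · intro h h'
        exact hpn (h ▸ h')
      · exact hdeg ψ
    rw [Nat.card_eq_fintype_card, Fintype.card_subtype, hset]
    omega

end Cfsg.Agent.S0894
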