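import Mathlib
import Cfsg.Statements.S5084
import Cfsg.Agent.Lib.Helper9.FusionSat3
import Cfsg.Agent.Lib.Helper9.FusionSup

set_option autoImplicit false
open Cfsg
open Cfsg.FusionSystem
open Cfsg.Agent.Lib.Helper9

namespace Cfsg.Agent.S5084

variable {Ω : Type*} [Group Ω] {S : Subgroup Ω}

/-- A map onto a receptive subgroup extends over any subgroup of `C_S(P)`. -/
theorem fs_extend_sup (F : FusionSystem S) {V P Q : Subgroup Ω} (hV : F.IsReceptive V) {θ : P →* Ω}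
    (hθ : θ ∈ F.Hom P) (hθr : θ.range = V) (hQ : Q ≤ centralizerIn S P) :
    ∃ ψ ∈ F.Hom (P ⊔ Q), ∀ x : P, ψ (Subgroup.inclusion le_sup_left x) = θ x := by
  obtain ⟨χ, hχ, hQN, hCN, hχP, -⟩ := fs_receptive_extend F hV hθ hθr
  have hle : P ⊔ Q ≤ extender S P θ := sup_le hQN (hQ.trans hCN)
  exact ⟨χ.comp (Subgroup.inclusion hle), fs_restrict_mem F hχ hle, fun x => hχP x⟩

/-- A map of the system sends an element to one of its conjugates in the system. -/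
theorem fs_isConjElt_apply (F : FusionSystem S) {P : Subgroup Ω} {ψ : P →* Ω} (hψ : ψ ∈ F.Hom P) (x : P) :
    F.IsConjElt (x : Ω) (ψ x) := by
  have hle : Subgroup.zpowers (x : Ω) ≤ P := by
    rw [Subgroup.zpowers_le]; exact x.2
  refine ⟨ψ.comp (Subgroup.inclusion hle), fs_restrict_mem F hψ hle, ?_⟩
  simp only [MonoidHom.coe_comp, Function.comp_apply]
  congr 1

theorem result {Ω : Type*} [Group Ω] {S : Subgroup Ω} [Finite S] (p : ℕ) [Fact p.Prime] (hS : IsPGroup p S) (F : Cfsg.FusionSystem S) (hF : F.IsSaturated p) (Q : Subgroup Ω) : F.IsCentral Q ↔ (Q ≤ S ∧ ∀ x ∈ Q, ∀ y : Ω, F.IsConjElt x y → y = x) := by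
  constructor
  · rintro ⟨hQS, hext⟩
    refine ⟨hQS, ?_⟩
    rintro x hx y ⟨φ, hφ, hφx⟩
    obtain ⟨ψ, -, hψP, hψQ⟩ := hext _ φ hφ
    have h1 := hψP ⟨x, Subgroup.mem_zpowers x⟩
    have h2 := hψQ ⟨x, hx⟩
    have h3 : (Subgroup.inclusion le_sup_left (⟨x, Subgroup.mem_zpowers x⟩ : Subgroup.zpowers x) :
        ↥(Subgroup.zpowers x ⊔ Q)) = Subgroup.inclusion le_sup_right (⟨x, hx⟩ : Q) := Subtype.ext rfl
    rw [← hφx, ← h1, h3, h2]
  · rintro ⟨hQS, hsing⟩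
    refine ⟨hQS, ?_⟩
    -- Q is central in S
    have hQZ : ∀ P : Subgroup Ω, P ≤ S → Q ≤ centralizerIn S P := by
      intro P hPS x hx
      refine ⟨hQS hx, Subgroup.mem_centralizer_iff.mpr fun s hs => ?_⟩
      have hzS : Subgroup.zpowers x ≤ S := by
        rw [Subgroup.zpowers_le]; exact hQS hx
      have hc : conjHom (Subgroup.zpowers x) s ∈ F.Hom (Subgroup.zpowers x) := F.conj_mem hzS (hPS hs)
      have h1 : s * x * s⁻¹ = x := hsing x hx _ ⟨_, hc, rfl⟩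
      exact mul_inv_eq_iff_eq_mul.mp h1
    -- maps of the system fix Q pointwise
    have hfixQ : ∀ {P : Subgroup Ω} {ψ : P →* Ω}, ψ ∈ F.Hom P → ∀ x : P, (x : Ω) ∈ Q → ψ x = x := by
      intro P ψ hψ x hx
      exact hsing x hx _ (fs_isConjElt_apply F hψ x)
    intro P φ hφ
    have hPS : P ≤ S := (F.le_of_mem hφ).1
    have hRS : φ.range ≤ S := fs_range_le F hφ
    obtain ⟨V, ⟨χ, hχ, hχr⟩, hVc⟩ := fs_exists_fullyCentralized F hRS
    have hVr : F.IsReceptive V := fs_extension_axiom p hS F hF hVc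
    -- θ = χ ∘ φ
    have hcod : ∀ x : P, φ x ∈ φ.range := fun x => ⟨x, rfl⟩
    obtain ⟨θ, hθdef⟩ : ∃ θ : P →* Ω, θ = χ.comp (φ.codRestrict φ.range hcod) := ⟨_, rfl⟩
    have hθ : θ ∈ F.Hom P := by rw [hθdef]; exact F.comp_mem hφ hχ hcod
    have hθapp : ∀ x : P, θ x = χ ⟨φ x, hcod x⟩ := fun x => by rw [hθdef]; rfl
    have hθr : θ.range = V := by
      rw [← hχr]
      ext y
      constructor
      · rintro ⟨x, rfl⟩
        rw [hθapp]; exact ⟨_, rfl⟩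
      · rintro ⟨⟨_, x, rfl⟩, rfl⟩
        exact ⟨x, hθapp x⟩
    obtain ⟨ψ₁, hψ₁, hψ₁P⟩ := fs_extend_sup F hVr hθ hθr (hQZ P hPS)
    obtain ⟨ψ₂, hψ₂, hψ₂R⟩ := fs_extend_sup F hVr hχ hχr (hQZ φ.range hRS)
    -- ψ₁ takes values in the image of ψ₂
    have hval : ∀ z : ↥(P ⊔ Q), ψ₁ z ∈ ψ₂.range := by
      apply sup_forall_mem
      · intro x
        rw [hψ₁P, hθapp, ← hψ₂R]
        exact ⟨_, rfl⟩
      · intro x
        rw [hfixQ hψ₁ _ x.2]
        refine ⟨Subgroup.inclusion le_sup_right x, ?_⟩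
        rw [hfixQ hψ₂ _ x.2]
        rfl
    obtain ⟨ψi, hψi, hψiψ⟩ := F.inv_mem hψ₂
    refine ⟨ψi.comp (ψ₁.codRestrict ψ₂.range hval), F.comp_mem hψ₁ hψi hval, ?_, ?_⟩
    · intro x
      show ψi (ψ₁.codRestrict ψ₂.range hval (Subgroup.inclusion le_sup_left x)) = φ x
      have h1 : ψ₁ (Subgroup.inclusion le_sup_left x) =
          ψ₂ (Subgroup.inclusion le_sup_left (⟨φ x, hcod x⟩ : φ.range)) := by
        rw [hψ₁P, hθapp, hψ₂R]
      have h2 : ψ₁.codRestrict ψ₂.range hval (Subgroup.inclusion le_sup_left x) =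
          ⟨ψ₂ (Subgroup.inclusion le_sup_left (⟨φ x, hcod x⟩ : φ.range)), ⟨_, rfl⟩⟩ := Subtype.ext h1
      rw [h2, hψiψ]
      rfl
    · intro x
      show ψi (ψ₁.codRestrict ψ₂.range hval (Subgroup.inclusion le_sup_right x)) = x
      have h1 : ψ₁ (Subgroup.inclusion le_sup_right x) =
          ψ₂ (Subgroup.inclusion le_sup_right x) := by
        rw [hfixQ hψ₁ _ x.2, hfixQ hψ₂ _ x.2]
        rfl
      have h2 : ψ₁.codRestrict ψ₂.range hval (Subgroup.inclusion le_sup_right x) =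
          ⟨ψ₂ (Subgroup.inclusion le_sup_right x), ⟨_, rfl⟩⟩ := Subtype.ext h1
      rw [h2, hψiψ]
      rfl

end Cfsg.Agent.S5084
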