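import Cfsg.Statements.S5097
import Mathlib
import Cfsg.Agent.Lib.Helper9.FusionSup

set_option autoImplicit false
open Cfsg Cfsg.FusionSystem Cfsg.Agent.Lib.Helper9

namespace Cfsg.Agent.S5097

variable {Ω : Type*} [Group Ω] {S : Subgroup Ω}

theorem conj_mem_aux (F : Cfsg.FusionSystem S) (Q : Subgroup Ω) (hQ : Q ≤ S) {P : Subgroup Ω} {g : Ω}
    (hP : P ≤ centralizerIn S Q) (hg : g ∈ centralizerIn S Q) : conjHom P g ∈ F.centralizerHom Q P := by
  have hPS : P ≤ S := hP.trans inf_le_left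
  refine ⟨F.conj_mem hPS hg.1, hP, ?_, conjHom (P ⊔ Q) g, F.conj_mem (sup_le hPS hQ) hg.1, fun x => rfl, ?_⟩
  · intro x
    show g * (x : Ω) * g⁻¹ ∈ centralizerIn S Q
    exact (centralizerIn S Q).mul_mem ((centralizerIn S Q).mul_mem hg (hP x.2)) ((centralizerIn S Q).inv_mem hg)
  · intro x
    show g * (x : Ω) * g⁻¹ = x
    have := (Subgroup.mem_centralizer_iff.mp hg.2) x x.2
    rw [← this]; group

theorem map_eq_of_fix {P Q : Subgroup Ω} (φ' : ↥(P ⊔ Q) →* Ω)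
    (hφ'Q : ∀ x : Q, φ' (Subgroup.inclusion le_sup_right x) = x) :
    (Q.subgroupOf (P ⊔ Q)).map φ' = Q := by
  ext y
  constructor
  · rintro ⟨x, hx, rfl⟩
    have hxQ : (x : Ω) ∈ Q := hx
    have := hφ'Q ⟨x, hxQ⟩
    have h2 : Subgroup.inclusion (le_sup_right : Q ≤ P ⊔ Q) ⟨x, hxQ⟩ = x := Subtype.ext rfl
    rw [h2] at this
    rw [this]
    exact hxQ
  · intro hy
    exact ⟨Subgroup.inclusion le_sup_right ⟨y, hy⟩, by simpa [Subgroup.mem_subgroupOf] using hy, hφ'Q ⟨y, hy⟩⟩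

theorem comp_mem_aux (F : Cfsg.FusionSystem S) (Q : Subgroup Ω) {P R : Subgroup Ω} {φ : P →* Ω} {ψ : R →* Ω}
    (hφ : φ ∈ F.centralizerHom Q P) (hψ : ψ ∈ F.centralizerHom Q R) (h : ∀ x : P, φ x ∈ R) :
    ψ.comp (φ.codRestrict R h) ∈ F.centralizerHom Q P := by
  obtain ⟨hφ, hPN, hφN, φ', hφ', hφ'φ, hφ'Q⟩ := hφ
  obtain ⟨hψ, hRN, hψN, ψ', hψ', hψ'ψ, hψ'Q⟩ := hψ
  have h' : ∀ x : ↥(P ⊔ Q), φ' x ∈ R ⊔ Q := by
    apply sup_forall_mem
    · intro x
      rw [hφ'φ]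
      exact (le_sup_left : R ≤ R ⊔ Q) (h x)
    · intro q
      rw [hφ'Q]
      exact (le_sup_right : Q ≤ R ⊔ Q) q.2
  refine ⟨F.comp_mem hφ hψ h, hPN, fun x => hψN _, ψ'.comp (φ'.codRestrict (R ⊔ Q) h'),
    F.comp_mem hφ' hψ' h', ?_, ?_⟩
  · intro x
    show ψ' ⟨φ' (Subgroup.inclusion le_sup_left x), _⟩ = ψ ⟨φ x, h x⟩
    rw [← hψ'ψ]
    congr 1
    apply Subtype.ext
    exact hφ'φ x
  · intro q
    show ψ' ⟨φ' (Subgroup.inclusion le_sup_right q), _⟩ = q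
    rw [← hψ'Q q]
    congr 1
    apply Subtype.ext
    exact hφ'Q q

theorem inv_mem_aux (F : Cfsg.FusionSystem S) (Q : Subgroup Ω) {P : Subgroup Ω} {φ : P →* Ω}
    (hφ : φ ∈ F.centralizerHom Q P) :
    ∃ ψ ∈ F.centralizerHom Q φ.range, ∀ x : P, ψ ⟨φ x, ⟨x, rfl⟩⟩ = (x : Ω) := by
  obtain ⟨hφ, hPN, hφN, φ', hφ', hφ'φ, hφ'Q⟩ := hφ
  obtain ⟨χ, hχ, hχφ'⟩ := F.inv_mem hφ'
  have hrange : φ.range ⊔ Q ≤ φ'.range := by
    rw [sup_range_eq φ', sup_map_left_eq_range φ' φ hφ'φ, map_eq_of_fix φ' hφ'Q]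
  have hχ' : χ.comp (Subgroup.inclusion hrange) ∈ F.Hom (φ.range ⊔ Q) := fs_restrict_mem F hχ hrange
  have hψ : (χ.comp (Subgroup.inclusion hrange)).comp (Subgroup.inclusion le_sup_left) ∈ F.Hom φ.range :=
    fs_restrict_mem F hχ' le_sup_left
  have hval : ∀ x : P, (χ.comp (Subgroup.inclusion hrange)).comp (Subgroup.inclusion le_sup_left)
      ⟨φ x, ⟨x, rfl⟩⟩ = (x : Ω) := by
    intro x
    have h0 := hχφ' (Subgroup.inclusion le_sup_left x)
    have h1 : ((Subgroup.inclusion (le_sup_left : P ≤ P ⊔ Q) x : ↥(P ⊔ Q)) : Ω) = x := rfl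
    rw [h1] at h0
    rw [← h0]
    show χ _ = χ _
    congr 1
    apply Subtype.ext
    exact (hφ'φ x).symm
  refine ⟨_, ⟨hψ, ?_, ?_, χ.comp (Subgroup.inclusion hrange), hχ', fun x => rfl, ?_⟩, hval⟩
  · rintro _ ⟨x, rfl⟩
    exact hφN x
  · rintro ⟨_, x, rfl⟩
    rw [hval x]
    exact hPN x.2
  · intro q
    have h0 := hχφ' (Subgroup.inclusion le_sup_right q)
    have h1 : ((Subgroup.inclusion (le_sup_right : Q ≤ P ⊔ Q) q : ↥(P ⊔ Q)) : Ω) = q := rfl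
    rw [h1] at h0
    rw [← h0]
    show χ _ = χ _
    congr 1
    apply Subtype.ext
    exact (hφ'Q q).symm

/-- For any fusion system over a subgroup S and any Q ≤ S, the maps of the centralizer system C_F(Q) — those maps between subgroups of C_S(Q) that extend to the subgroup generated with Q fixing Q elementwise — form a fusion system over C_S(Q). -/
theorem result {Ω : Type*} [Group Ω] {S : Subgroup Ω} (F : Cfsg.FusionSystem S) (Q : Subgroup Ω) (hQ : Q ≤ S) : ∃ E : Cfsg.FusionSystem (Cfsg.FusionSystem.centralizerIn S Q), F.IsCentralizerSystem Q E := by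
  refine ⟨{ Hom := fun P => F.centralizerHom Q P
            le_of_mem := ?_
            injective_of_mem := ?_
            conj_mem := ?_
            comp_mem := ?_
            inv_mem := ?_ }, fun P => rfl⟩
  · rintro P φ ⟨-, hPN, hφN, -⟩
    exact ⟨hPN, hφN⟩
  · rintro P φ ⟨hφ, -⟩
    exact F.injective_of_mem hφ
  · intro P g hP hg
    exact conj_mem_aux F Q hQ hP hg
  · intro P R φ ψ hφ hψ h
    exact comp_mem_aux F Q hφ hψ h
  · intro P φ hφ
    exact inv_mem_aux F Q hφ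

end Cfsg.Agent.S5097
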