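import Cfsg.Statements.S5144
import Mathlib
import Cfsg.Agent.Lib.Helper9.FusionFinite
import Cfsg.Agent.Lib.Helper9.FusionSup

set_option autoImplicit false
open Cfsg Cfsg.FusionSystem Cfsg.Agent.Lib.Helper9

namespace Cfsg.Agent.S5144

variable {Ω : Type*} [Group Ω] {S : Subgroup Ω}

theorem isCentral_bot (F : Cfsg.FusionSystem S) : F.IsCentral ⊥ := by
  refine ⟨bot_le, ?_⟩
  intro P φ hφ
  have hle : P ⊔ ⊥ ≤ P := by simp
  refine ⟨φ.comp (Subgroup.inclusion hle), fs_restrict_mem F hφ hle, ?_, ?_⟩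
  · intro x
    show φ _ = φ x
    congr 1
  · intro x
    have hx : x = 1 := by
      apply Subtype.ext
      exact Subgroup.mem_bot.mp x.2
    rw [hx, map_one, map_one]
    rfl

theorem isCentral_sup (F : Cfsg.FusionSystem S) {Q₁ Q₂ : Subgroup Ω} (h₁ : F.IsCentral Q₁) (h₂ : F.IsCentral Q₂) :
    F.IsCentral (Q₁ ⊔ Q₂) := by
  refine ⟨sup_le h₁.1 h₂.1, ?_⟩
  intro P φ hφ
  obtain ⟨ψ₁, hψ₁, hψ₁φ, hψ₁Q⟩ := h₁.2 P φ hφ
  obtain ⟨ψ₂, hψ₂, hψ₂ψ₁, hψ₂Q⟩ := h₂.2 (P ⊔ Q₁) ψ₁ hψ₁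
  have hle : P ⊔ (Q₁ ⊔ Q₂) ≤ (P ⊔ Q₁) ⊔ Q₂ := le_of_eq (sup_assoc P Q₁ Q₂).symm
  refine ⟨ψ₂.comp (Subgroup.inclusion hle), fs_restrict_mem F hψ₂ hle, ?_, ?_⟩
  · intro x
    rw [← hψ₁φ x, ← hψ₂ψ₁]
    rfl
  · have key : (ψ₂.comp (Subgroup.inclusion hle)).comp
        (Subgroup.inclusion (le_sup_right : Q₁ ⊔ Q₂ ≤ P ⊔ (Q₁ ⊔ Q₂))) = (Q₁ ⊔ Q₂).subtype := by
      apply sup_hom_ext
      · intro q
        have := hψ₁Q q
        rw [← hψ₂ψ₁] at this
        exact this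
      · intro q
        exact hψ₂Q q
    intro x
    have := congrArg (fun f => f x) key
    exact this

/-- For a fusion system over a finite subgroup S, the centre of the system (the join of all subgroups central in it) is itself central in the system, hence its largest central subgroup. -/
theorem result {Ω : Type*} [Group Ω] {S : Subgroup Ω} [Finite S] (F : Cfsg.FusionSystem S) : F.IsCentral F.center := by
  have := sSup_mem_of_finite_le S {Q : Subgroup Ω | F.IsCentral Q} (fun Q hQ => hQ.1) (isCentral_bot F)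
    (fun Q₁ h₁ Q₂ h₂ => isCentral_sup F h₁ h₂)
  exact this

end Cfsg.Agent.S5144
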