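import Mathlib
import Cfsg.Statements.S0218

set_option autoImplicit false
open Cfsg

namespace Cfsg.Agent.S0218

open QuaternionGroup in
theorem aux (m : ℕ) [NeZero m] (x : QuaternionGroup m) : orderOf x = 2 ↔ x = a (m : ZMod (2 * m)) := by
  have hm : m ≠ 0 := NeZero.ne m
  have h2m : (2 * m : ℕ) ≠ 0 := by omega
  haveI : NeZero (2 * m) := ⟨h2m⟩
  constructor
  · intro h
    cases x with
    | a i =>
      rw [orderOf_eq_prime_iff] at h
      obtain ⟨h1, h2⟩ := h
      rw [pow_two, a_mul_a, one_def] at h1
      have h1' : i + i = 0 := by injection h1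
      have hi0 : i ≠ 0 := by
        intro hi; apply h2; rw [hi, a_zero]
      congr 1
      have hv : (i.val + i.val) % (2 * m) = 0 := by
        have := congrArg ZMod.val h1'
        rwa [ZMod.val_add, ZMod.val_zero] at this
      have hlt : i.val < 2 * m := ZMod.val_lt i
      have hpos : i.val ≠ 0 := by
        intro h0; exact hi0 ((ZMod.val_eq_zero i).mp h0)
      have hval : i.val = m := by
        have hd : 2 * m ∣ i.val + i.val := Nat.dvd_of_mod_eq_zero hv
        obtain ⟨c, hc⟩ := hd
        have hc1 : c = 1 := by
          rcases c with _ | _ | c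
          · omega
          · rfl
          · nlinarith
        subst hc1
        omega
      have := ZMod.natCast_zmod_val i
      rw [hval] at this
      exact this.symm
    | xa i =>
      rw [orderOf_xa] at h
      omega
  · rintro rfl
    rw [orderOf_eq_prime_iff]
    constructor
    · rw [pow_two, a_mul_a, one_def]
      congr 1
      rw [← Nat.cast_add, ← two_mul]
      exact ZMod.natCast_self (2 * m)
    · rw [one_def]
      intro h
      have h' : ((m : ℕ) : ZMod (2 * m)) = 0 := by injection h
      rw [ZMod.natCast_eq_zero_iff] at h'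
      have := Nat.le_of_dvd (Nat.pos_of_ne_zero hm) h'
      omega

/-- The generalized quaternion group of order 2^(n+3) contains exactly one element of order 2. -/
theorem result (n : ℕ) : Nat.card {x : QuaternionGroup (2 ^ (n + 1)) // orderOf x = 2} = 1 := by
  haveI : NeZero (2 ^ (n + 1)) := ⟨by positivity⟩
  rw [Nat.card_eq_one_iff_unique]
  constructor
  · constructor
    rintro ⟨x, hx⟩ ⟨y, hy⟩
    rw [aux] at hx hy
    ext1
    simp [hx, hy]
  · exact ⟨⟨_, (aux _ _).mpr rfl⟩⟩

end Cfsg.Agent.S0218
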