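import Mathlib
import Cfsg.Agent.Lib.Helper6.QuatAut
import Cfsg.Agent.Lib.Helper6.PPrimeCore
import Cfsg.Agent.Lib.Helper6.PCore
import Cfsg.Agent.Lib.Lead.Core
import Cfsg.Agent.Lib.Helper3.Components11
import Cfsg.Agent.Lib.Helper4.SolvBalance
import Cfsg.Agent.Lib.Helper4.NPC
import Cfsg.Statements.S3294

set_option autoImplicit false
open Cfsg Cfsg.Agent.Lib.Helper6

namespace Cfsg.Agent.S3294

theorem centralizer_pCore_le_of_solvable {X : Type*} [Group X] [Finite X]
    (hsol : Group.IsSolvable X) (hO : Cfsg.pPrimeCore 2 X = ⊥) :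
    Subgroup.centralizer (Cfsg.pCore 2 X : Set X) ≤ Cfsg.pCore 2 X := by
  haveI : Fact (Nat.Prime 2) := ⟨Nat.prime_two⟩
  haveI := hsol
  have hF : Cfsg.fittingSubgroup X = Cfsg.pCore 2 X := by
    rw [Cfsg.Agent.Lib.Lead.fittingSubgroup_eq_iSup_pCore]
    apply le_antisymm
    · apply iSup_le
      intro q
      by_cases hq : (q : ℕ) = 2
      · rw [hq]
      · haveI : Fact (q : ℕ).Prime := ⟨q.2⟩
        have h1 : (Nat.card (Cfsg.pCore (q : ℕ) X)).Coprime 2 := by
          obtain ⟨k, hk⟩ := IsPGroup.iff_card.mp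
            (Cfsg.Agent.Lib.Lead.pCore_isPGroup (G := X) (q : ℕ))
          rw [hk]
          exact Nat.Coprime.pow_left _ ((Nat.coprime_primes q.2 Nat.prime_two).mpr hq)
        have h2 := le_pPrimeCore (Cfsg.pCore_normal (q : ℕ) X) h1
        rw [hO] at h2
        exact h2.trans bot_le
    · exact le_iSup (fun q : Nat.Primes => Cfsg.pCore (q : ℕ) X) ⟨2, Nat.prime_two⟩
  rw [← hF]
  have := Cfsg.Agent.Lib.Helper3.le_fitting_inf_centralizer_of_isSolvable
    (Subgroup.centralizer (Cfsg.fittingSubgroup X : Set X)) le_rfl Subgroup.le_normalizer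
    inferInstance
  exact this.trans inf_le_left


/-- A finite solvable group whose Sylow 2-subgroups are generalized quaternion of order at least 32 has a normal 2-complement. -/
theorem result {G : Type*} [Group G] [Finite G] (hsol : Group.IsSolvable G) (T : Sylow 2 G) (n : ℕ) (hn : 3 ≤ n) (hT : Nonempty ((T : Subgroup G) ≃* QuaternionGroup (2 ^ n))) : Cfsg.HasNormalPComplement 2 G := by
  classical
  haveI : Fact (Nat.Prime 2) := ⟨Nat.prime_two⟩
  haveI := hsol
  obtain ⟨e⟩ := hT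
  set N := Cfsg.pPrimeCore 2 G with hN
  have hNcop : (Nat.card N).Coprime 2 := pPrimeCore_coprime 2
  set π := QuotientGroup.mk' N with hπ
  have hπs : Function.Surjective π := QuotientGroup.mk'_surjective N
  have hXsol : Group.IsSolvable (G ⧸ N) := inferInstance
  have hXO : Cfsg.pPrimeCore 2 (G ⧸ N) = ⊥ := Cfsg.Agent.Lib.Helper4.pPrimeCore_quotient_self 2
  have hcent := centralizer_pCore_le_of_solvable hXsol hXO
  set Tb : Sylow 2 (G ⧸ N) := T.mapSurjective hπs with hTb
  have hTbcoe : (Tb : Subgroup (G ⧸ N)) = (T : Subgroup G).map π := Sylow.coe_mapSurjective _ _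
  have hinj : Function.Injective (π.subgroupMap (T : Subgroup G)) := by
    rw [injective_iff_map_eq_one]
    rintro ⟨x, hx⟩ h1
    have h2 : π x = 1 := congrArg Subtype.val h1
    have h3 : x ∈ N := (QuotientGroup.eq_one_iff x).mp h2
    have h4 : x ∈ (T : Subgroup G) ⊓ N := ⟨hx, h3⟩
    rw [isPGroup_inf_coprime_eq_bot hNcop T.isPGroup'] at h4
    exact Subtype.ext (Subgroup.mem_bot.mp h4)
  let f : (T : Subgroup G) ≃* ((T : Subgroup G).map π) :=
    MulEquiv.ofBijective _ ⟨hinj, π.subgroupMap_surjective _⟩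
  let e' : ((T : Subgroup G).map π) ≃* QuaternionGroup (2 ^ n) := f.symm.trans e
  set Q := Cfsg.pCore 2 (G ⧸ N) with hQ
  have hQT : Q ≤ (T : Subgroup G).map π := by rw [← hTbcoe]; exact pCore_le_sylow Tb
  set Q' : Subgroup (QuaternionGroup (2 ^ n)) :=
    (Q.subgroupOf ((T : Subgroup G).map π)).map e'.toMonoidHom with hQ'
  have hQ'n : Q'.Normal :=
    Subgroup.Normal.map (inferInstance : (Q.subgroupOf ((T : Subgroup G).map π)).Normal) _
      e'.surjective
  have hAutQ' : IsPGroup 2 (MulAut Q') :=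
    isPGroup_mulAut_of_normalized_quaternion n hn Q' (by
      rw [Subgroup.normalizer_eq_top]; trivial)
  let eQ : Q ≃* Q' := (Subgroup.subgroupOfEquivOfLe hQT).symm.trans
    ((Q.subgroupOf ((T : Subgroup G).map π)).equivMapOfInjective e'.toMonoidHom e'.injective)
  have hAutQ : IsPGroup 2 (MulAut Q) := hAutQ'.of_equiv (MulAut.congr eQ).symm
  have htwo_odd : ∀ k m : ℕ, Odd m → 2 ^ k ∣ m → k = 0 := by
    intro k m hm hd
    by_contra hk
    have h2 : 2 ∣ m := (dvd_pow_self 2 hk).trans hd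
    exact (Nat.not_even_iff_odd.mpr hm) (even_iff_two_dvd.mpr h2)
  have hodd : ∀ y : G ⧸ N, Odd (orderOf y) → y = 1 := by
    intro y hy
    let φ : (G ⧸ N) →* MulAut Q := MulAut.conjNormal
    have h1 : orderOf (φ y) ∣ orderOf y := orderOf_map_dvd φ y
    obtain ⟨k, hk⟩ := IsPGroup.iff_orderOf.mp hAutQ (φ y)
    have h2 : φ y = 1 := by
      rw [hk] at h1
      have := htwo_odd k _ hy h1
      rw [this, pow_zero, orderOf_eq_one_iff] at hk
      exact hk
    have h3 : y ∈ Subgroup.centralizer (Q : Set (G ⧸ N)) := by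
      rw [Subgroup.mem_centralizer_iff]
      intro q hq
      have h5 : ((φ y ⟨q, hq⟩ : Q) : G ⧸ N) = y * q * y⁻¹ := MulAut.conjNormal_apply y ⟨q, hq⟩
      rw [h2] at h5
      have h6 : q = y * q * y⁻¹ := h5
      calc q * y = (y * q * y⁻¹) * y := by rw [← h6]
        _ = y * q := by group
    have h4 : y ∈ Q := hcent h3
    obtain ⟨j, hj⟩ := IsPGroup.iff_orderOf.mp (pCore_isPGroup (G := G ⧸ N) 2) ⟨y, h4⟩
    rw [Subgroup.orderOf_mk] at hj
    have h7 : j = 0 := htwo_odd j _ hy (by rw [hj])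
    rw [h7, pow_zero, orderOf_eq_one_iff] at hj
    exact hj
  have hX2 : IsPGroup 2 (G ⧸ N) := by
    intro g
    obtain ⟨k, m, hm, hkm⟩ := Nat.exists_eq_two_pow_mul_odd (orderOf_pos g).ne'
    refine ⟨k, ?_⟩
    apply hodd
    rw [orderOf_pow_of_dvd (by positivity) (by rw [hkm]; exact dvd_mul_right _ _), hkm,
      Nat.mul_div_cancel_left _ (by positivity)]
    exact hm
  obtain ⟨k, hk⟩ := IsPGroup.iff_card.mp hX2
  exact Cfsg.Agent.Lib.Helper4.hasNormalPComplement_of_normal_coprime N inferInstance hNcop k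
    (by rw [Subgroup.index_eq_card]; exact hk)

end Cfsg.Agent.S3294
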