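import Mathlib
import Cfsg.Statements.S5913

set_option autoImplicit false
open Cfsg

namespace Cfsg.Agent.S5913

theorem center_eq_bot_of_simple {S : Type*} [Group S] [IsSimpleGroup S] (hS : ¬ IsMulCommutative S) :
    Subgroup.center S = ⊥ := by
  rcases (Subgroup.Normal.eq_bot_or_eq_top (H := Subgroup.center S) inferInstance) with h | h
  · exact h
  · exfalso
    apply hS
    refine ⟨⟨fun a b => ?_⟩⟩
    have : a ∈ Subgroup.center S := by rw [h]; trivial
    exact (Subgroup.mem_center_iff.mp this b).symm

theorem mulSingle_mem {S : Type*} [Group S] [IsSimpleGroup S] (hS : ¬ IsMulCommutative S) (n : ℕ)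
    (N : Subgroup (Fin n → S)) [hN : N.Normal] (i : Fin n) (x : Fin n → S) (hx : x ∈ N) (hxi : x i ≠ 1)
    (s : S) : Pi.mulSingle i s ∈ N := by
  classical
  let A : Subgroup S := N.comap (MonoidHom.mulSingle (fun _ : Fin n => S) i)
  have hAn : A.Normal := hN.comap _
  have hmemA : ∀ t, t ∈ A ↔ Pi.mulSingle i t ∈ N := fun t => Iff.rfl
  rcases (Subgroup.Normal.eq_bot_or_eq_top hAn) with h | h
  · exfalso
    -- find s not commuting with x i
    have hnc : x i ∉ Subgroup.center S := by
      rw [center_eq_bot_of_simple hS, Subgroup.mem_bot]; exact hxi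
    rw [Subgroup.mem_center_iff] at hnc
    push_neg at hnc
    obtain ⟨t, ht⟩ := hnc
    have hc : x * Pi.mulSingle i t * x⁻¹ * (Pi.mulSingle i t)⁻¹ ∈ N := by
      have h1 : Pi.mulSingle i t * x⁻¹ * (Pi.mulSingle i t)⁻¹ ∈ N :=
        hN.conj_mem _ (N.inv_mem hx) _
      have := N.mul_mem hx h1
      simpa [mul_assoc] using this
    have heq : x * Pi.mulSingle i t * x⁻¹ * (Pi.mulSingle i t)⁻¹
        = Pi.mulSingle i (x i * t * (x i)⁻¹ * t⁻¹) := by
      ext j
      by_cases hj : j = i
      · subst hj; simp
      · simp [Pi.mulSingle_eq_of_ne hj]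
    rw [heq] at hc
    have : x i * t * (x i)⁻¹ * t⁻¹ ∈ A := hc
    rw [h, Subgroup.mem_bot] at this
    apply ht
    have h2 : x i * t * (x i)⁻¹ = t := by
      rw [mul_inv_eq_one] at this; exact this
    rw [mul_inv_eq_iff_eq_mul] at h2
    exact h2.symm
  · have : s ∈ A := by rw [h]; trivial
    exact this

/-- Let S be a non-abelian simple group and n a natural number. Every normal subgroup N of the direct power S^n (the group of functions Fin n → S) is the product of a subfamily of the factors: there is a set T of coordinates such that N consists exactly of the elements that are trivial at every coordinate outside T. -/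
theorem result {S : Type*} [Group S] [IsSimpleGroup S] (hS : ¬ IsMulCommutative S) (n : ℕ)
    (N : Subgroup (Fin n → S)) [N.Normal] :
    ∃ T : Finset (Fin n), ∀ x : Fin n → S, x ∈ N ↔ ∀ i, i ∉ T → x i = 1 := by
  classical
  refine ⟨Finset.univ.filter (fun i => ∃ x ∈ N, x i ≠ 1), fun x => ⟨?_, ?_⟩⟩
  · intro hx i hi
    by_contra hne
    apply hi
    simp only [Finset.mem_filter, Finset.mem_univ, true_and]
    exact ⟨x, hx, hne⟩
  · intro hx
    rw [← Finset.noncommProd_mulSingle x]
    apply Subgroup.noncommProd_mem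
    intro i _
    by_cases hi : i ∈ Finset.univ.filter (fun i => ∃ x ∈ N, x i ≠ 1)
    · simp only [Finset.mem_filter, Finset.mem_univ, true_and] at hi
      obtain ⟨y, hy, hyi⟩ := hi
      exact mulSingle_mem hS n N i y hy hyi (x i)
    · rw [hx i hi, Pi.mulSingle_one]
      exact N.one_mem

end Cfsg.Agent.S5913
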