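import Mathlib
import Cfsg.Statements.S5256
import Cfsg.Agent.Lib.Helper9.FusionMorph3
import Cfsg.Agent.Lib.Helper6.PRes
import Cfsg.Agent.S5134
import Cfsg.Agent.Lib.Helper9.FusionFocal

set_option autoImplicit false
open Cfsg

namespace Cfsg.Agent.S5256

open Cfsg.Agent.Lib.Helper9 Cfsg.Agent.Lib.Helper6 Cfsg.FusionSystem in
/-- Let F be a saturated fusion system over a finite p-group S, T a subgroup of S strongly closed in F, and E a factor system F/T realised along a homomorphism θ of S with kernel T. Then the hyperfocal subgroup of E is the image under θ of the hyperfocal subgroup of F (hyp(F/T) = T·hyp(F)/T). -/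
theorem result {Ω : Type*} [Group Ω] {S : Subgroup Ω} [Finite S] (p : ℕ) [Fact p.Prime] (hS : IsPGroup p S) (F : Cfsg.FusionSystem S) (hF : F.IsSaturated p) (T : Subgroup Ω) (hT : F.StronglyClosed T) {Ω' : Type*} [Group Ω'] {S' : Subgroup Ω'} (θ : ↥S →* Ω') (E : Cfsg.FusionSystem S') (hE : F.IsFactorSystem T θ E) : E.hyperfocalSubgroup p = ((F.hyperfocalSubgroup p).subgroupOf S).map θ := by
  have hθ : F.IsSurjectiveMorphism E θ := Cfsg.Agent.S5134.result p hS F hF T hT θ E hE
  have hrange := hθ.2.1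
  haveI : Finite S' := by
    rw [← hrange]
    exact Finite.of_surjective (fun s : S => (⟨θ s, ⟨s, rfl⟩⟩ : θ.range))
      (by rintro ⟨_, s, rfl⟩; exact ⟨s, rfl⟩)
  apply le_antisymm
  · unfold FusionSystem.hyperfocalSubgroup
    rw [Subgroup.closure_le]
    rintro _ ⟨P', a', x', hP'S', ha', rfl⟩
    obtain ⟨P, hPfull, hP'eq⟩ : ∃ P, IsFull θ P ∧ P' = imageAlong θ P :=
      ⟨preimageAlong θ P', isFull_preimageAlong θ P',
        le_antisymm (le_imageAlong_preimageAlong θ (by rw [hrange]; exact hP'S'))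
          (imageAlong_preimageAlong_le θ P')⟩
    subst hP'eq
    haveI : Finite (F.autGroup P) := by
      haveI : Finite P := fs_finite_of_le hPfull.1
      infer_instance
    have hsurj := inducedAut_surjective F E θ hθ hPfull
    have hmap := pResidual_map_of_surjective (p := p) _ hsurj
    rw [← hmap] at ha'
    obtain ⟨a, ha, rfl⟩ := ha'
    obtain ⟨_, s, hs, rfl⟩ := x'
    have hspec := inducedAut_spec F E θ hθ.1 hPfull.1 a ⟨s, hs⟩
    rw [SetLike.mem_coe]
    refine ⟨⟨(s : Ω)⁻¹ * (((a : MulAut P) ⟨s, hs⟩ : P) : Ω),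
      S.mul_mem (S.inv_mem s.2) (hPfull.1 ((a : MulAut P) ⟨s, hs⟩).2)⟩, ?_, ?_⟩
    · rw [SetLike.mem_coe, Subgroup.mem_subgroupOf]
      apply Subgroup.subset_closure
      exact ⟨P, a, ⟨s, hs⟩, hPfull.1, ha, rfl⟩
    · have e : (⟨(s : Ω)⁻¹ * (((a : MulAut P) ⟨s, hs⟩ : P) : Ω),
          S.mul_mem (S.inv_mem s.2) (hPfull.1 ((a : MulAut P) ⟨s, hs⟩).2)⟩ : S) =
          s⁻¹ * ⟨(((a : MulAut P) ⟨s, hs⟩ : P) : Ω), hPfull.1 ((a : MulAut P) ⟨s, hs⟩).2⟩ := rfl
      rw [e, map_mul, map_inv, ← hspec]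
  · rw [Subgroup.map_le_iff_le_comap]
    intro s hs
    rw [Subgroup.mem_subgroupOf] at hs
    rw [Subgroup.mem_comap]
    -- induction over the closure
    have key : ∀ y ∈ F.hyperfocalSubgroup p, ∀ hy : y ∈ S, θ ⟨y, hy⟩ ∈ E.hyperfocalSubgroup p := by
      intro y hy
      unfold FusionSystem.hyperfocalSubgroup at hy
      induction hy using Subgroup.closure_induction with
      | mem y hy =>
        obtain ⟨P, a, x, hPS, ha, rfl⟩ := hy
        intro hyS
        have hΦa : inducedAut F E θ hθ.1 hPS a ∈ pResidual p _ :=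
          pResidual_map_le p (inducedAut F E θ hθ.1 hPS) ⟨a, ha, rfl⟩
        have hspec := inducedAut_spec F E θ hθ.1 hPS a x
        have e : (⟨(x : Ω)⁻¹ * (((a : MulAut P) x : P) : Ω), hyS⟩ : S) =
            (⟨x, hPS x.2⟩ : S)⁻¹ * ⟨(((a : MulAut P) x : P) : Ω), hPS ((a : MulAut P) x).2⟩ := rfl
        rw [e, map_mul, map_inv, ← hspec]
        apply Subgroup.subset_closure
        exact ⟨imageAlong θ P, inducedAut F E θ hθ.1 hPS a,
          ⟨θ ⟨x, hPS x.2⟩, apply_mem_imageAlong θ (hPS x.2) x.2⟩,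
          imageAlong_le_of_range θ hrange P, hΦa, rfl⟩
      | one =>
        intro h1
        have : (⟨1, h1⟩ : S) = 1 := rfl
        rw [this, map_one]
        exact Subgroup.one_mem _
      | mul a b ha hb iha ihb =>
        intro hab
        have haS : a ∈ S := hyperfocalSubgroup_le F p ha
        have hbS : b ∈ S := hyperfocalSubgroup_le F p hb
        have : (⟨a * b, hab⟩ : S) = ⟨a, haS⟩ * ⟨b, hbS⟩ := rfl
        rw [this, map_mul]
        exact Subgroup.mul_mem _ (iha haS) (ihb hbS)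
      | inv a ha iha =>
        intro hinv
        have haS : a ∈ S := hyperfocalSubgroup_le F p ha
        have : (⟨a⁻¹, hinv⟩ : S) = (⟨a, haS⟩ : S)⁻¹ := rfl
        rw [this, map_inv]
        exact Subgroup.inv_mem _ (iha haS)
    exact key s hs s.2

end Cfsg.Agent.S5256
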