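import Mathlib
import Cfsg.Statements.S5119
import Cfsg.Agent.Lib.Helper9.FusionInvariant4

set_option autoImplicit false
open Cfsg

namespace Cfsg.Agent.S5119

open Cfsg.Agent.Lib.Helper9 Cfsg.FusionSystem

variable {Ω : Type*} [Group Ω] {S T : Subgroup Ω}

/-- invariant subsystems are strongly invariant -/
theorem strongInv_of_invariant (F : FusionSystem S) (E : FusionSystem T) (h : E.IsInvariantIn F) :
    StrongInv F E := by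
  obtain ⟨-, -, hinv, hfrat⟩ := h
  intro P Q hPQ hQT φ hφ hφQ ψ hψ
  obtain ⟨α, hα, ψ₀, hψ₀, Hψ₀⟩ := hfrat Q hQT ψ hψ
  have hψ₀T : ∀ x : Q, ψ₀ x ∈ T := (E.le_of_mem hψ₀).2
  have hψ₀P := fs_restrict_mem E hψ₀ hPQ
  obtain ⟨ι, hι, Hι⟩ := E.inv_mem hψ₀P
  have hιP : ∀ y : (ψ₀.comp (Subgroup.inclusion hPQ)).range, ι y ∈ P := by
    rintro ⟨_, x, rfl⟩
    rw [Hι]
    exact x.2
  have h1 := E.comp_mem hι hφ hιP
  have h1Q : ∀ y : (ψ₀.comp (Subgroup.inclusion hPQ)).range,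
      (φ.comp (ι.codRestrict P hιP)) y ∈ Q := fun y => hφQ _
  have hχ₁ := E.comp_mem h1 hψ₀ h1Q
  have hrT : (ψ₀.comp (Subgroup.inclusion hPQ)).range ≤ T := by
    rintro _ ⟨x, rfl⟩
    exact hψ₀T _
  obtain ⟨χ₂, hχ₂, Hχ₂⟩ := hinv _ hrT _ hχ₁ α hα
  have hle : (P.subgroupOf Q).map ψ ≤
      ((ψ₀.comp (Subgroup.inclusion hPQ)).range.subgroupOf T).map (T.subtype.comp α.toMonoidHom) := by
    rintro _ ⟨x, hx, rfl⟩
    have hxP : (x : Ω) ∈ P := hx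
    refine ⟨⟨ψ₀ x, hψ₀T x⟩, ⟨⟨x, hxP⟩, rfl⟩, ?_⟩
    exact (Hψ₀ x (hψ₀T x)).symm
  refine ⟨χ₂.comp (Subgroup.inclusion hle), fs_restrict_mem E hχ₂ hle, fun x hx => ?_⟩
  have hmem : ((α ⟨ψ₀ (Subgroup.inclusion hPQ x), hψ₀T _⟩ : T) : Ω) ∈
      ((ψ₀.comp (Subgroup.inclusion hPQ)).range.subgroupOf T).map (T.subtype.comp α.toMonoidHom) :=
    mem_map_aut hrT ⟨ψ₀ (Subgroup.inclusion hPQ x), ⟨x, rfl⟩⟩
  have hχ₁val : (ψ₀.comp ((φ.comp (ι.codRestrict P hιP)).codRestrict Q h1Q))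
      ⟨(ψ₀.comp (Subgroup.inclusion hPQ)) x, ⟨x, rfl⟩⟩ = ψ₀ ⟨φ x, hφQ x⟩ := by
    show ψ₀ ⟨φ (ι.codRestrict P hιP ⟨(ψ₀.comp (Subgroup.inclusion hPQ)) x, ⟨x, rfl⟩⟩), _⟩ = _
    congr 2
    congr 1
    exact Subtype.ext (Hι x)
  have hχ₁T : (ψ₀.comp ((φ.comp (ι.codRestrict P hιP)).codRestrict Q h1Q))
      ⟨(ψ₀.comp (Subgroup.inclusion hPQ)) x, ⟨x, rfl⟩⟩ ∈ T := by
    rw [hχ₁val]
    exact hψ₀T _
  have h3 := Hχ₂ ⟨(ψ₀.comp (Subgroup.inclusion hPQ)) x, ⟨x, rfl⟩⟩ hχ₁T hmem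
  have e1 : Subgroup.inclusion hle ⟨ψ (Subgroup.inclusion hPQ x), hx⟩ =
      ⟨(α ⟨ψ₀ (Subgroup.inclusion hPQ x), hψ₀T _⟩ : T), hmem⟩ :=
    Subtype.ext (Hψ₀ _ (hψ₀T _))
  show χ₂ (Subgroup.inclusion hle ⟨ψ (Subgroup.inclusion hPQ x), hx⟩) = _
  rw [e1]
  refine h3.trans ?_
  rw [Hψ₀ ⟨φ x, hφQ x⟩ (hψ₀T _)]
  congr 2
  exact Subtype.ext hχ₁val

/-- Let F be a saturated fusion system over a finite p-group S and E a subsystem of F over a subgroup T that is strongly closed in F. Then E is invariant in F (invariance under Aut_F(T) plus the Frattini condition) if and only if the strong invariance condition holds: for P ≤ Q ≤ T, every map φ of E from P into Q and every map ψ of F with source Q, the transported map ψ φ ψ⁻¹ on ψ(P) is a map of E. -/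
theorem result {Ω : Type*} [Group Ω] {S : Subgroup Ω} [Finite S] (p : ℕ) [Fact p.Prime] (hS : IsPGroup p S) (F : Cfsg.FusionSystem S) (hF : F.IsSaturated p) {T : Subgroup Ω} (E : Cfsg.FusionSystem T) (hE : E.IsSubsystemOf F) (hT : F.StronglyClosed T) : E.IsInvariantIn F ↔ ∀ (P Q : Subgroup Ω) (hPQ : P ≤ Q) (_ : Q ≤ T) (φ : P →* Ω) (_ : φ ∈ E.Hom P) (hφQ : ∀ x : P, φ x ∈ Q) (ψ : Q →* Ω) (_ : ψ ∈ F.Hom Q), ∃ χ ∈ E.Hom ((P.subgroupOf Q).map ψ), ∀ (x : P) (hx : ψ (Subgroup.inclusion hPQ x) ∈ (P.subgroupOf Q).map ψ), χ ⟨ψ (Subgroup.inclusion hPQ x), hx⟩ = ψ ⟨φ x, hφQ x⟩ := by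
  constructor
  · intro h
    exact strongInv_of_invariant F E h
  · intro hstrong
    have hstrong' : StrongInv F E := hstrong
    refine ⟨hE, hT, autInv_of_strongInv F E hT hstrong', ?_⟩
    intro P hPT φ hφ
    exact frattini_of_strongInv p hS F hF E hT hstrong' hPT hφ

end Cfsg.Agent.S5119
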