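import Cfsg.Statements.S5153
import Mathlib
import Cfsg.Agent.Lib.Helper9.FusionNormMap
import Cfsg.Agent.Lib.Helper9.FusionSat2
import Cfsg.Agent.Lib.Helper9.FusionSat3
import Cfsg.Agent.Lib.Helper9.FusionStrongly

set_option autoImplicit false
open Cfsg

namespace Cfsg.Agent.S5153

open Cfsg.FusionSystem Cfsg.Agent.Lib.Helper9

variable {Ω : Type*} [Group Ω]

theorem base {S : Subgroup Ω} [Finite S] (p : ℕ) [Fact p.Prime] (hS : IsPGroup p S) (F : Cfsg.FusionSystem S)
    (hF : F.IsSaturated p) {T : Subgroup Ω} (E : Cfsg.FusionSystem T) (hEF : E.IsSubsystemOf F)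
    (hT : F.StronglyClosed T) (P : Subgroup Ω) (hPT : P ≤ T) (hP : F.IsFullyNormalized P) :
    E.IsFullyNormalized P := by
  refine ⟨hPT, fun Q hQ => ?_⟩
  have hTS : T ≤ S := hT.1
  have hPQ : F.IsConj P Q := by
    obtain ⟨φ, hφ, hr⟩ := hQ
    exact ⟨φ, hEF _ hφ, hr⟩
  obtain ⟨hPc, hPa⟩ := fs_sylow_axiom p hS F hF hP
  have hPr := fs_extension_axiom p hS F hF hPc
  obtain ⟨φ, hφ, hφN, -⟩ := fs_exists_normalizer_map p hS F P Q hPa hPr (fs_isConj_symm F hPQ)
  have hle : normalizerIn T Q ≤ normalizerIn S Q := fun x hx => ⟨hTS hx.1, hx.2⟩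
  have hres : φ.comp (Subgroup.inclusion hle) ∈ F.Hom (normalizerIn T Q) := fs_restrict_mem F hφ hle
  have hmem : ∀ x : normalizerIn T Q, φ (Subgroup.inclusion hle x) ∈ normalizerIn T P := by
    intro x
    refine ⟨hT.2 (normalizerIn T Q) inf_le_left _ hres x, (hφN _).2⟩
  haveI : Finite (normalizerIn T P) := fs_finite_of_le ((inf_le_left : normalizerIn T P ≤ T).trans hTS)
  apply Nat.card_le_card_of_injective (fun x : normalizerIn T Q =>
    (⟨φ (Subgroup.inclusion hle x), hmem x⟩ : normalizerIn T P))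
  intro a b hab
  have h1 : φ (Subgroup.inclusion hle a) = φ (Subgroup.inclusion hle b) := congrArg Subtype.val hab
  have h2 := F.injective_of_mem hφ h1
  exact Subtype.ext (congrArg (fun z : normalizerIn S Q => (z : Ω)) h2)

theorem le_of_subnormal {T S : Subgroup Ω} {E : Cfsg.FusionSystem T} {F : Cfsg.FusionSystem S} {p : ℕ}
    (hE : E.IsSubnormalIn F p) : T ≤ S := by
  induction hE with
  | refl F p => exact le_rfl
  | step _ hD ih => exact ih.trans hD.1.2.2.2.1.1

theorem main {T S : Subgroup Ω} {E : Cfsg.FusionSystem T} {F : Cfsg.FusionSystem S} {p : ℕ}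
    (hE : E.IsSubnormalIn F p) : ∀ [Finite S] [Fact p.Prime], IsPGroup p S → F.IsSaturated p →
      ∀ P : Subgroup Ω, P ≤ T → F.IsFullyNormalized P → E.IsFullyNormalized P := by
  induction hE with
  | refl F p =>
    intro _ _ _ _ P _ hP
    exact hP
  | step hED hDF ih =>
    intro _ _ hS hF P hPT hP
    have hUS := hDF.1.2.2.2.1.1
    haveI := fs_finite_of_le hUS
    have hTU := le_of_subnormal hED
    have h1 := base _ hS _ hF _ hDF.1.2.2.1 hDF.1.2.2.2.1 P (hPT.trans hTU) hP
    exact ih (hS.to_le hUS) hDF.1.1 P hPT h1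

/-- Let F be a saturated fusion system over a finite p-group S and E a subnormal subsystem of F over T. Then every subgroup of T that is fully normalized in F is fully normalized in E. -/
theorem result {Ω : Type*} [Group Ω] {S : Subgroup Ω} [Finite S] (p : ℕ) [Fact p.Prime] (hS : IsPGroup p S) (F : Cfsg.FusionSystem S) (hF : F.IsSaturated p) {T : Subgroup Ω} (E : Cfsg.FusionSystem T) (hE : E.IsSubnormalIn F p) (P : Subgroup Ω) (hPT : P ≤ T) (hP : F.IsFullyNormalized P) : E.IsFullyNormalized P := by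
  exact main hE hS hF P hPT hP

end Cfsg.Agent.S5153
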