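import Mathlib
import Cfsg.Statements.S5434
import Cfsg.Agent.Lib.Helper9.LargeExtra
import Cfsg.Agent.Lib.Helper9.LargeExtra5
import Cfsg.Agent.Lib.Lead.CoprimeAction2

set_option autoImplicit false
open Cfsg
open scoped commutatorElement

namespace Cfsg.Agent.S5434

open Cfsg.Agent.Lib.Helper9.LargeExtra

/-- Let Q be a large extraspecial 2-subgroup of the finite group G (extraspecial; centralizer equal to its centre; normal in the centralizer of its centre; normalizing no non-trivial subgroup of odd order), and A a non-trivial subgroup of odd order of the normalizer of Q. Then Q is the central product of the centralizer of A in Q and the commutator subgroup [Q, A] (they generate Q and commute elementwise), [Q, A] is extraspecial, and the centralizer of A in Q is either the centre of Q or extraspecial. -/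
theorem result {G : Type*} [Group G] [Finite G] (Q : Subgroup G) (hQ : Cfsg.IsLargeExtraspecial Q) (A : Subgroup G) (hA : A ≤ Subgroup.normalizer (Q : Set G)) (hAodd : Odd (Nat.card ↥A)) (hA1 : A ≠ ⊥) : (Q ⊓ Subgroup.centralizer (A : Set G)) ⊔ ⁅Q, A⁆ = Q ∧ (∀ x ∈ Q ⊓ Subgroup.centralizer (A : Set G), ∀ y ∈ ⁅Q, A⁆, x * y = y * x) ∧ Cfsg.IsExtraspecial 2 ↥⁅Q, A⁆ ∧ (Q ⊓ Subgroup.centralizer (A : Set G) = ((Subgroup.center ↥Q).map Q.subtype) ∨ Cfsg.IsExtraspecial 2 ↥(Q ⊓ Subgroup.centralizer (A : Set G))) := by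
  classical
  obtain ⟨hL1, hL2, hL3, _⟩ := hQ
  obtain ⟨z, hcore, hZmem⟩ := core_of_hyps Q hL1 hL2 hL3
  have hsq := sq_cases Q hL1 hZmem
  haveI : Fact (Nat.Prime 2) := ⟨Nat.prime_two⟩
  obtain ⟨n, hn⟩ := IsPGroup.iff_card.mp hL1.1.1
  have hcop : (Nat.card A).Coprime (Nat.card Q) := by
    rw [hn]
    exact (Nat.Coprime.pow_left n (Nat.coprime_two_left.mpr hAodd)).symm
  haveI : Group.IsNilpotent ↥Q := hL1.1.1.isNilpotent
  have hsolv : Group.IsSolvable ↥Q := inferInstance
  have hsup := Cfsg.Agent.Lib.Lead.coprime_commutator_sup_centralizer A Q hA hcop (Or.inr hsolv)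
  have hstab := Cfsg.Agent.Lib.Lead.coprime_commutator_stable A Q hA hcop (Or.inr hsolv)
  set C : Subgroup G := Q ⊓ Subgroup.centralizer (A : Set G) with hC
  set D : Subgroup G := ⁅Q, A⁆ with hD
  have hDQ : D ≤ Q := Cfsg.Agent.Lib.Lead.commutator_le_left_of_le_normalizer Q A hA
  have hCQ : C ≤ Q := inf_le_left
  -- A centralizes z
  have hAz : ∀ a ∈ A, a * z = z * a := by
    intro a ha
    have haN := hA ha
    have h1 : a * z * a⁻¹ ∈ Q := ((Subgroup.mem_normalizer_iff.mp haN) z).mp hcore.z_mem
    have h2 : ∀ q ∈ Q, (a * z * a⁻¹) * q = q * (a * z * a⁻¹) := by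
      intro q hq
      have hainv : a⁻¹ ∈ Subgroup.normalizer (Q : Set G) := Subgroup.inv_mem _ haN
      have h3 : a⁻¹ * q * a⁻¹⁻¹ ∈ Q := ((Subgroup.mem_normalizer_iff.mp hainv) q).mp hq
      rw [inv_inv] at h3
      have h4 := hcore.z_comm _ h3
      calc (a * z * a⁻¹) * q = a * (z * (a⁻¹ * q * a)) * a⁻¹ := by group
        _ = a * ((a⁻¹ * q * a) * z) * a⁻¹ := by rw [h4]
        _ = q * (a * z * a⁻¹) := by group
    rcases hcore.cent _ h2 with h3 | h3
    · exfalso; apply hcore.z_ne
      calc z = a⁻¹ * (a * z * a⁻¹) * a := by group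
        _ = 1 := by rw [h3]; group
    · calc a * z = (a * z * a⁻¹) * a := by group
        _ = z * a := by rw [h3]
  have hzCA : z ∈ Subgroup.centralizer (A : Set G) := by
    rw [Subgroup.mem_centralizer_iff]
    intro a ha
    exact hAz a ha
  have hZle : ∀ x, (x = 1 ∨ x = z) → x ∈ Subgroup.centralizer (A : Set G) := by
    rintro x (h1 | h1)
    · rw [h1]; exact Subgroup.one_mem _
    · rw [h1]; exact hzCA
  -- three subgroups
  have hAC : ⁅A, C⁆ = ⊥ := by
    rw [Subgroup.commutator_eq_bot_iff_le_centralizer]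
    intro a ha
    rw [Subgroup.mem_centralizer_iff]
    intro c hc
    have := (Subgroup.mem_centralizer_iff.mp hc.2) a ha
    exact this.symm
  have hCQA : ⁅⁅C, Q⁆, A⁆ = ⊥ := by
    rw [Subgroup.commutator_eq_bot_iff_le_centralizer, Subgroup.commutator_le]
    intro c hc q hq
    apply hZle
    rw [commutatorElement_def]
    exact hcore.comm_mem c (hCQ hc) q hq
  have h3 : ⁅⁅Q, A⁆, C⁆ = ⊥ := by
    apply Subgroup.commutator_commutator_eq_bot_of_rotate
    · rw [hAC, Subgroup.commutator_bot_left]
    · exact hCQA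
  have hDC : D ≤ Subgroup.centralizer (C : Set G) := by
    rw [← Subgroup.commutator_eq_bot_iff_le_centralizer]; exact h3
  have hcomm : ∀ x ∈ C, ∀ y ∈ D, x * y = y * x := by
    intro x hx y hy
    exact (Subgroup.mem_centralizer_iff.mp (hDC hy)) x hx
  -- anything commuting with C and D commutes with Q
  have hall : ∀ x : G, (∀ c ∈ C, x * c = c * x) → (∀ d ∈ D, x * d = d * x) → ∀ q ∈ Q, x * q = q * x := by
    intro x hxC hxD q hq
    have hle : D ⊔ C ≤ Subgroup.centralizer ({x} : Set G) := by
      apply sup_le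
      · intro d hd
        rw [Subgroup.mem_centralizer_iff]
        intro y hy
        rw [Set.mem_singleton_iff] at hy
        rw [hy]; exact hxD d hd
      · intro c hc
        rw [Subgroup.mem_centralizer_iff]
        intro y hy
        rw [Set.mem_singleton_iff] at hy
        rw [hy]; exact hxC c hc
    rw [hsup] at hle
    have := (Subgroup.mem_centralizer_iff.mp (hle hq)) x rfl
    exact this
  have hcenD : ∀ x ∈ D, (∀ y ∈ D, x * y = y * x) → x = 1 ∨ x = z := by
    intro x hx hxD
    apply hcore.cent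
    apply hall x _ hxD
    intro c hc
    exact (hcomm c hc x hx).symm
  have hcenC : ∀ x ∈ C, (∀ y ∈ C, x * y = y * x) → x = 1 ∨ x = z := by
    intro x hx hxC
    apply hcore.cent
    apply hall x hxC
    intro d hd
    exact hcomm x hx d hd
  -- D is nonabelian
  have hnaD : ∃ x ∈ D, ∃ y ∈ D, x * y ≠ y * x := by
    by_contra hcon
    push Not at hcon
    have hDZ : D ≤ Subgroup.centralizer (A : Set G) := by
      intro x hx
      exact hZle x (hcenD x hx (hcon x hx))
    have hDbot : D = ⊥ := by
      rw [← hstab, Subgroup.commutator_eq_bot_iff_le_centralizer]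
      exact hDZ
    have hQA : Q ≤ Subgroup.centralizer (A : Set G) := by
      rw [← Subgroup.commutator_eq_bot_iff_le_centralizer]; exact hDbot
    apply hA1
    rw [eq_bot_iff]
    intro a ha
    rw [Subgroup.mem_bot]
    have h1 : ∀ q ∈ Q, a * q = q * a := by
      intro q hq
      exact (Subgroup.mem_centralizer_iff.mp (hQA hq)) a ha
    rcases hcore.cent a h1 with h2 | h2
    · exact h2
    · exfalso
      rw [h2] at ha
      have hord : orderOf z = 2 := orderOf_eq_prime (by rw [pow_two]; exact hcore.z_sq) hcore.z_ne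
      have hdvd : orderOf (⟨z, ha⟩ : ↥A) ∣ Nat.card A := orderOf_dvd_natCard _
      rw [Subgroup.orderOf_mk, hord] at hdvd
      exact (Nat.not_even_iff_odd.mpr hAodd) (even_iff_two_dvd.mpr hdvd)
  refine ⟨?_, hcomm, isExtraspecial_sub hcore hsq D hDQ hcenD hnaD, ?_⟩
  · rw [sup_comm]; exact hsup
  · by_cases hab : ∀ x ∈ C, ∀ y ∈ C, x * y = y * x
    · left
      ext x
      rw [hZmem]
      constructor
      · intro hx
        exact hcenC x hx (hab x hx)
      · rintro (h1 | h1)
        · rw [h1]; exact Subgroup.one_mem _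
        · rw [h1]; exact ⟨hcore.z_mem, hzCA⟩
    · right
      push Not at hab
      obtain ⟨x, hx, y, hy, hxy⟩ := hab
      exact isExtraspecial_sub hcore hsq C hCQ hcenC ⟨x, hx, y, hy, hxy⟩

end Cfsg.Agent.S5434
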