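import Mathlib
import Cfsg.Prelude.Def_Sporadic_a
import Cfsg.Agent.Lib.Helper6.M24Syl4
import Cfsg.Statements.S2882

set_option autoImplicit false
open Cfsg

namespace Cfsg.Agent.S2882

open Cfsg.Agent.Lib.Helper6.M24Syl
open Cfsg.Agent.Lib.Helper9.M24 (exists_fixed_of_prime_pow)
open scoped commutatorElement

section helpers

open Cfsg.Agent.Lib.Helper6.M24Syl
open Cfsg.Agent.Lib.Helper9.M24 (exists_fixed_of_prime_pow)

/-- if no nontrivial element of odd prime order normalizes a Sylow `2`-subgroup, it is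
self-normalizing -/
theorem normalizer_eq_of_odd {G : Type*} [Group G] [Finite G] (S : Sylow 2 G)
    (hodd : ∀ u ∈ Subgroup.normalizer ((S : Subgroup G) : Set G), ∀ r : ℕ, r.Prime → r ≠ 2 →
      u ^ r = 1 → u = 1) :
    Subgroup.normalizer ((S : Subgroup G) : Set G) = (S : Subgroup G) := by
  apply le_antisymm _ Subgroup.le_normalizer
  intro g hg
  have hn : orderOf g ≠ 0 := (orderOf_pos g).ne'
  obtain ⟨a, m, hm, hnam⟩ := Nat.exists_eq_two_pow_mul_odd hn
  set u := g ^ 2 ^ a with hu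
  have huN : u ∈ Subgroup.normalizer ((S : Subgroup G) : Set G) := Subgroup.pow_mem _ hg _
  have hum : u ^ m = 1 := by
    rw [hu, ← pow_mul, ← hnam, pow_orderOf_eq_one]
  have hu1 : u = 1 := by
    by_contra hne
    have h1 : orderOf u ∣ m := orderOf_dvd_of_pow_eq_one hum
    have h2 : orderOf u ≠ 1 := fun h => hne (orderOf_eq_one_iff.mp h)
    set r := (orderOf u).minFac with hr
    have hrp : r.Prime := Nat.minFac_prime h2
    have hrd : r ∣ orderOf u := Nat.minFac_dvd _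
    have hr2 : r ≠ 2 := by
      intro h
      have : 2 ∣ m := h ▸ hrd.trans h1
      exact (Nat.not_even_iff_odd.mpr hm) (even_iff_two_dvd.mpr this)
    have h3 := hodd (u ^ (orderOf u / r)) (Subgroup.pow_mem _ huN _) r hrp hr2
      (by rw [← pow_mul, Nat.div_mul_cancel hrd, pow_orderOf_eq_one])
    have h4 : u ^ (orderOf u / r) ≠ 1 := by
      apply pow_ne_one_of_lt_orderOf
      · exact (Nat.div_pos (Nat.le_of_dvd (orderOf_pos u) hrd) hrp.pos).ne'
      · exact Nat.div_lt_self (orderOf_pos u) hrp.one_lt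
    exact h4 h3
  -- now `g` is a `2`-element normalizing `S`
  have hz : IsPGroup 2 (Subgroup.zpowers g) := by
    rintro ⟨x, hx⟩
    obtain ⟨k, rfl⟩ := Subgroup.mem_zpowers_iff.mp hx
    refine ⟨a, Subtype.ext ?_⟩
    rw [Subgroup.coe_pow, Subgroup.coe_one]
    show (g ^ k) ^ 2 ^ a = 1
    rw [← zpow_natCast, ← zpow_mul, mul_comm, zpow_mul, zpow_natCast, ← hu, hu1, one_zpow]
  have hle : Subgroup.zpowers g ≤ Subgroup.normalizer ((S : Subgroup G) : Set G) := by
    rw [Subgroup.zpowers_le]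
    exact hg
  have h5 := S.is_maximal' (hz.to_sup_of_normal_right' S.isPGroup' hle) le_sup_right
  rw [← h5]
  exact (le_sup_left : Subgroup.zpowers g ≤ _) (Subgroup.mem_zpowers g)

theorem odd_normalizer_trivial (γ : Equiv.Perm GolayPt) (hγ : γ ∈ M24)
    (hN : γ ∈ Subgroup.normalizer ((C gen 0 10 : Subgroup (Equiv.Perm GolayPt)) : Set (Equiv.Perm GolayPt)))
    (r : ℕ) (hr : r.Prime) (hr2 : r ≠ 2) (hpow : γ ^ r = 1) : γ = 1 := by
  haveI : Fact r.Prime := ⟨hr⟩
  have hpow' : γ ^ r ^ 1 = 1 := by rwa [pow_one]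
  have h0 : ∀ x, lab0 (γ x) = lab0 x := by
    intro x
    have h1 : sz0 (γ x) = sz0 x := card_fiber_eq hN lab0 rel_S0 x
    rcases sz0_spec x with ⟨h2, h3⟩ | ⟨h2, h3⟩ <;> rcases sz0_spec (γ x) with ⟨h4, h5⟩ | ⟨h4, h5⟩ <;> omega
  have c4 : (Finset.univ.filter (fun y : GolayPt => lab0 y = 4)).card = 2 ^ 4 := by decide +kernel
  obtain ⟨x, hx, hxf⟩ := exists_fixed_of_prime_pow γ r 1 hpow'
    (Finset.univ.filter (fun y : GolayPt => lab0 y = 4))
    (by intro x; simp only [Finset.mem_filter, Finset.mem_univ, true_and]; rw [h0])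
    (by
      rw [c4]
      intro h
      exact hr2 ((Nat.prime_dvd_prime_iff_eq hr Nat.prime_two).mp (hr.dvd_of_dvd_pow h)))
  have hx4 : lab0 x = lab0 (some 4) := by
    have : lab0 (some 4) = 4 := by decide +kernel
    rw [this]
    simpa using hx
  obtain ⟨s, hs, hsx⟩ := (rel_S0 x (some 4)).mpr hx4
  have hsN := Subgroup.le_normalizer hs
  have hsM := C_le_M24 0 10 hs
  have h1 := aux (s * γ * s⁻¹) (M24.mul_mem (M24.mul_mem hsM hγ) (M24.inv_mem hsM))
    (Subgroup.mul_mem _ (Subgroup.mul_mem _ hsN hN) (Subgroup.inv_mem _ hsN)) r hr hr2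
    (by rw [conj_pow, hpow, mul_one, mul_inv_cancel])
    (by rw [Equiv.Perm.mul_apply, Equiv.Perm.mul_apply, ← hsx, show s⁻¹ (s x) = x from by simp, hxf])
  have h2 : γ = s⁻¹ * (s * γ * s⁻¹) * s := by group
  rw [h2, h1]
  group

theorem normalizer_coe {G : Type*} [Group G] {M Q : Subgroup G} (hQ : Q ≤ M) (u : M)
    (hu : u ∈ Subgroup.normalizer ((Q.subgroupOf M : Subgroup M) : Set M)) :
    (u : G) ∈ Subgroup.normalizer ((Q : Subgroup G) : Set G) := by
  rw [Subgroup.mem_normalizer_iff]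
  intro s
  by_cases hs : s ∈ M
  · have := Subgroup.mem_normalizer_iff.mp hu ⟨s, hs⟩
    simpa [Subgroup.mem_subgroupOf] using this
  · constructor
    · intro h
      exact absurd (hQ h) hs
    · intro h
      exfalso
      apply hs
      have h1 := hQ h
      have h2 : s = (u : G)⁻¹ * ((u : G) * s * (u : G)⁻¹) * (u : G) := by group
      rw [h2]
      exact M.mul_mem (M.mul_mem (M.inv_mem u.2) h1) u.2

theorem main (S : Sylow 2 ↥Cfsg.M24) : Subgroup.normalizer ((S : Subgroup ↥Cfsg.M24) : Set ↥Cfsg.M24) = (S : Subgroup ↥Cfsg.M24) := by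
  haveI : Fact (Nat.Prime 2) := ⟨Nat.prime_two⟩
  have hcard : Nat.card ((C gen 0 10).subgroupOf M24) = 2 ^ (Nat.card M24).factorization 2 := by
    rw [factorization_M24, Nat.card_congr (Subgroup.subgroupOfEquivOfLe (C_le_M24 0 10)).toEquiv, card_S0]
    norm_num
  obtain ⟨P₀, hP₀⟩ : ∃ P₀ : Sylow 2 M24, (P₀ : Subgroup M24) = (C gen 0 10).subgroupOf M24 :=
    ⟨Sylow.ofCard _ hcard, rfl⟩
  obtain ⟨h, rfl⟩ := MulAction.exists_smul_eq M24 P₀ S
  apply normalizer_eq_of_odd
  intro u hu r hr hr2 hur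
  have h1 : (h⁻¹ * u * h) • P₀ = P₀ := by
    have := Sylow.smul_eq_iff_mem_normalizer.mpr hu
    rw [mul_smul, mul_smul, this, inv_smul_smul]
  have h2 : h⁻¹ * u * h ∈ Subgroup.normalizer (((C gen 0 10).subgroupOf M24 : Subgroup M24) : Set M24) := by
    rw [← hP₀]
    exact Sylow.smul_eq_iff_mem_normalizer.mp h1
  have h3 := normalizer_coe (C_le_M24 0 10) _ h2
  have h4 : (h⁻¹ * u * h) ^ r = 1 := by
    have e : h⁻¹ * u * h = h⁻¹ * u * (h⁻¹)⁻¹ := by rw [inv_inv]
    rw [e, conj_pow, hur, mul_one, mul_inv_cancel]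
  have h5 : ((h⁻¹ * u * h : M24) : Equiv.Perm GolayPt) ^ r = 1 := by
    rw [← Subgroup.coe_pow, h4, Subgroup.coe_one]
  have h6 := odd_normalizer_trivial _ (h⁻¹ * u * h : M24).2 h3 r hr hr2 h5
  have h7 : h⁻¹ * u * h = 1 := Subtype.ext h6
  have h8 : u = h * (h⁻¹ * u * h) * h⁻¹ := by group
  rw [h8, h7]
  group

end helpers




/-- In the Mathieu group of degree 24 (realised as the automorphism group of the extended binary Golay code) every Sylow 2-subgroup is self-normalizing. -/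
theorem result (S : Sylow 2 ↥Cfsg.M24) : Subgroup.normalizer ((S : Subgroup ↥Cfsg.M24) : Set ↥Cfsg.M24) = (S : Subgroup ↥Cfsg.M24) := by
  exact main S


end Cfsg.Agent.S2882
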