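import Mathlib
import Cfsg.Statements.S5081
import Cfsg.Agent.Lib.Helper9.FusionAG4
import Cfsg.Agent.Lib.Helper9.FusionNormal2

set_option autoImplicit false
open Cfsg

namespace Cfsg.Agent.S5081

open Cfsg.FusionSystem Cfsg.Agent.Lib.Helper9

variable {Ω : Type*} [Group Ω] {S : Subgroup Ω}

/-- For centric `R < S`, the Sylow subgroup `Aut_S(R)` of `Aut_F(R)` is strictly bigger than `Inn(R)`. -/
theorem sylow_ne_inn [Finite S] (p : ℕ) [Fact p.Prime] (hS : IsPGroup p S) (F : FusionSystem S)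
    {R : Subgroup Ω} (hRlt : R < S) (hCle : centralizerIn S R ≤ R)
    (T₀ : Subgroup (F.autGroup R)) (hT₀ : T₀ = (autInducedBy S R).subgroupOf (F.autGroup R)) :
    T₀ ≠ (Inn R).subgroupOf (F.autGroup R) := by
  have hRS : R ≤ S := hRlt.le
  intro heq
  obtain ⟨g₀, hg₀N, hg₀R⟩ := SetLike.exists_of_lt (fs_lt_normalizerIn p hS hRlt)
  obtain ⟨c, hc'⟩ : ∃ c : MulAut R, c = R.normalizerMonoidHom ⟨g₀, hg₀N.2⟩ := ⟨_, rfl⟩
  have hcg : ∀ x : R, ((c x : R) : Ω) = g₀ * x * g₀⁻¹ := by
    intro x; rw [hc']; rfl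
  have hcS : c ∈ autInducedBy S R := by
    rw [mem_autInducedBy_iff]
    exact ⟨g₀, hg₀N.1, hcg⟩
  have hcF : c ∈ F.autGroup R := autInducedBy_le_autGroup F hRS hcS
  have hcT : (⟨c, hcF⟩ : F.autGroup R) ∈ T₀ := by
    rw [hT₀, Subgroup.mem_subgroupOf]; exact hcS
  rw [heq, Subgroup.mem_subgroupOf] at hcT
  exact hg₀R (mem_of_induces_inner hCle hcT hg₀N.1 hRS hcg)

/-- Let F be a saturated fusion system over a finite p-group S, P a proper subgroup of S that is fully normalized, and H the subgroup of Aut_F(P) generated by the automorphisms that extend to maps of the system defined on strictly larger subgroups of S. Then either P is not essential and H is all of Aut_F(P), or P is essential and the image of H in Out_F(P) = Aut_F(P)/Inn(P) is strongly p-embedded there. -/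
theorem result {Ω : Type*} [Group Ω] {S : Subgroup Ω} [Finite S] (p : ℕ) [Fact p.Prime] (hS : IsPGroup p S) (F : Cfsg.FusionSystem S) (hF : F.IsSaturated p) (P : Subgroup Ω) (hPS : P < S) (hPn : F.IsFullyNormalized P) (H : Subgroup (MulAut P)) (hH : H = Subgroup.closure {α : MulAut P | ∃ (Q : Subgroup Ω) (hPQ : P < Q) (φ : Q →* Ω), φ ∈ F.Hom Q ∧ ∀ x : P, φ (Subgroup.inclusion hPQ.le x) = α x}) : (¬ F.IsEssential p P ∧ H = F.autGroup P) ∨ (F.IsEssential p P ∧ ∃ _ : ((Cfsg.Inn P).subgroupOf (F.autGroup P)).Normal, Cfsg.IsStronglyPEmbedded p ((H.subgroupOf (F.autGroup P)).map (QuotientGroup.mk' ((Cfsg.Inn P).subgroupOf (F.autGroup P))))) := by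
  have hPS' : P ≤ S := hPS.le
  haveI : Finite P := fs_finite_of_le hPS'
  obtain ⟨hPc, hPa⟩ := fs_sylow_axiom p hS F hF hPn
  have hPr := fs_extension_axiom p hS F hF hPc
  obtain ⟨-, T₀, hT₀⟩ := hPa
  have hHA : H ≤ F.autGroup P := by
    rw [hH, Subgroup.closure_le]
    rintro α ⟨Q, hPQ, φ, hφ, Hφ⟩
    show α ∈ F.autGroup P
    rw [mem_autGroup_iff F hPS']
    have h1 := fs_restrict_mem F hφ hPQ.le
    have heq : φ.comp (Subgroup.inclusion hPQ.le) = P.subtype.comp α.toMonoidHom := by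
      ext x; exact Hφ x
    rwa [heq] at h1
  have hext : ∀ α ∈ F.autGroup P,
      (∃ g, g ∈ extender S P (P.subtype.comp α.toMonoidHom) ∧ g ∉ P) → α ∈ H := by
    rintro α hα ⟨g, hg, hgP⟩
    rw [hH]
    apply Subgroup.subset_closure
    exact fs_exists_ext_of_extender_gt F hPr hα hg hgP
  have hInnH : Inn P ≤ H := by
    rintro _ ⟨x, rfl⟩
    rw [hH]
    apply Subgroup.subset_closure
    refine ⟨S, hPS, conjHom S x, F.conj_mem le_rfl (hPS' x.2), fun y => ?_⟩
    simp [conjHom, MulAut.conj_apply]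
  have hnormalizes : ∀ Q' : Subgroup (F.autGroup P), (Inn P).subgroupOf (F.autGroup P) < Q' →
      Q' ≤ T₀ → Subgroup.normalizer (Q' : Set (F.autGroup P)) ≤ H.subgroupOf (F.autGroup P) := by
    intro Q' hlt hle α hα
    rw [Subgroup.mem_subgroupOf]
    rw [hT₀] at hle
    exact hext α α.2 (fs_exists_extender_of_normalizes F Q' hlt hle α hα)
  have hInnS : Inn P ≤ autInducedBy S P := inn_le_autInducedBy hPS'
  have hIT : (Inn P).subgroupOf (F.autGroup P) ≤ T₀ := by
    rw [hT₀]; exact Subgroup.comap_mono hInnS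
  have hIH : (Inn P).subgroupOf (F.autGroup P) ≤ H.subgroupOf (F.autGroup P) :=
    Subgroup.comap_mono hInnH
  by_cases hess : F.IsEssential p P
  · right
    refine ⟨hess, inferInstance, ?_⟩
    obtain ⟨hc, -, hInorm, E', hE'⟩ := hess
    have hCle : centralizerIn S P ≤ P := hc.2 P (fs_isConj_refl F hPS')
    have hΓ := kGeneratedCore_le_map_mk p ((Inn P).subgroupOf (F.autGroup P)) T₀ hIT
      (H.subgroupOf (F.autGroup P)) hnormalizes
    have hΓne := exists_ne_top_ge_kGeneratedCore hE'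
      (T₀.mapSurjective (QuotientGroup.mk'_surjective ((Inn P).subgroupOf (F.autGroup P))))
    refine ⟨hE'.1, ?_, _, hΓ⟩
    intro htop
    apply hΓne
    rw [eq_top_iff, ← htop, Subgroup.map_le_iff_le_comap]
    -- every element of `H` maps into the `1`-generated core
    have hHK : H ≤ ((kGeneratedCore p 1 ((T₀.mapSurjective (QuotientGroup.mk'_surjective
        ((Inn P).subgroupOf (F.autGroup P))) : Sylow p _) : Subgroup _)).comap
        (QuotientGroup.mk' ((Inn P).subgroupOf (F.autGroup P)))).map (F.autGroup P).subtype := by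
      rw [hH, Subgroup.closure_le]
      rintro α ⟨Q, hPQ, φ, hφ, Hφ⟩
      have hαA : α ∈ F.autGroup P := by
        apply hHA
        rw [hH]
        exact Subgroup.subset_closure ⟨Q, hPQ, φ, hφ, Hφ⟩
      refine ⟨⟨α, hαA⟩, ?_, rfl⟩
      show QuotientGroup.mk' ((Inn P).subgroupOf (F.autGroup P)) ⟨α, hαA⟩ ∈ kGeneratedCore p 1 _
      have hQS : Q ≤ S := (F.le_of_mem hφ).1
      haveI : Finite Q := fs_finite_of_le hQS
      have hNQS : normalizerIn Q P ≤ S := inf_le_left.trans hQS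
      have hNQQ : normalizerIn Q P ≤ Q := inf_le_left
      have hU₀T : (autInducedBy (normalizerIn Q P) P).subgroupOf (F.autGroup P) ≤ T₀ := by
        rw [hT₀]
        exact Subgroup.comap_mono (autInducedBy_mono hNQS P)
      refine mem_kGeneratedCore_of_conj_le _ _
        (((autInducedBy (normalizerIn Q P) P).subgroupOf (F.autGroup P)).map
          (QuotientGroup.mk' ((Inn P).subgroupOf (F.autGroup P)))) ?_ ?_ _ ?_ rfl
      · rw [Sylow.coe_mapSurjective]
        exact Subgroup.map_mono hU₀T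
      · intro hbot
        obtain ⟨g₀, hg₀N, hg₀P⟩ := SetLike.exists_of_lt (fs_lt_normalizerIn (S := Q) p (hS.to_le hQS) hPQ)
        obtain ⟨c, hc'⟩ : ∃ c : MulAut P, c = P.normalizerMonoidHom ⟨g₀, hg₀N.2⟩ := ⟨_, rfl⟩
        have hcg : ∀ x : P, ((c x : P) : Ω) = g₀ * x * g₀⁻¹ := by
          intro x; rw [hc']; rfl
        have hcN : c ∈ autInducedBy (normalizerIn Q P) P := by
          rw [mem_autInducedBy_iff]
          exact ⟨g₀, hg₀N, hcg⟩
        have hcF : c ∈ F.autGroup P :=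
          autInducedBy_le_autGroup F hPS' (autInducedBy_mono hNQS P hcN)
        have h1 : QuotientGroup.mk' ((Inn P).subgroupOf (F.autGroup P)) ⟨c, hcF⟩ ∈
            ((autInducedBy (normalizerIn Q P) P).subgroupOf (F.autGroup P)).map
              (QuotientGroup.mk' ((Inn P).subgroupOf (F.autGroup P))) :=
          ⟨⟨c, hcF⟩, hcN, rfl⟩
        rw [hbot, Subgroup.mem_bot] at h1
        have h2 : (⟨c, hcF⟩ : F.autGroup P) ∈ (Inn P).subgroupOf (F.autGroup P) :=
          (QuotientGroup.eq_one_iff _).mp h1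
        rw [Subgroup.mem_subgroupOf] at h2
        exact hg₀P (mem_of_induces_inner hCle h2 (hNQS hg₀N) hPS' hcg)
      · rintro _ ⟨_, ⟨u, hu, rfl⟩, rfl⟩
        rw [Sylow.coe_mapSurjective]
        have hu' : (u : MulAut P) ∈ autInducedBy (normalizerIn Q P) P := hu
        rw [mem_autInducedBy_iff] at hu'
        obtain ⟨g, hgN, Hg⟩ := hu'
        have hgQ : g ∈ Q := hNQQ hgN
        refine ⟨(⟨α, hαA⟩ : F.autGroup P) * u * (⟨α, hαA⟩ : F.autGroup P)⁻¹, ?_, ?_⟩
        · show (⟨α, hαA⟩ : F.autGroup P) * u * (⟨α, hαA⟩ : F.autGroup P)⁻¹ ∈ (T₀ : Subgroup _)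
          rw [hT₀, Subgroup.mem_subgroupOf, mem_autInducedBy_iff]
          refine ⟨φ ⟨g, hgQ⟩, (F.le_of_mem hφ).2 _, fun y => ?_⟩
          have h1 : (((⟨α, hαA⟩ : F.autGroup P) * u * (⟨α, hαA⟩ : F.autGroup P)⁻¹ : F.autGroup P) :
              MulAut P) y = α ((u : MulAut P) (α⁻¹ y)) := by
            simp only [Subgroup.coe_mul, Subgroup.coe_inv, MulAut.mul_apply]
          rw [h1, ← Hφ]
          have h3 : Subgroup.inclusion hPQ.le ((u : MulAut P) (α⁻¹ y))
              = ⟨g, hgQ⟩ * Subgroup.inclusion hPQ.le (α⁻¹ y) * ⟨g, hgQ⟩⁻¹ := by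
            apply Subtype.ext
            show (((u : MulAut P) (α⁻¹ y) : P) : Ω) = g * ((α⁻¹ y : P) : Ω) * g⁻¹
            exact Hg _
          rw [h3, map_mul, map_mul, map_inv, Hφ, MulAut.apply_inv_self]
        · simp only [map_mul, map_inv, MulEquiv.coe_toMonoidHom, MulAut.conj_apply]
    intro h hh
    rw [Subgroup.mem_subgroupOf] at hh
    obtain ⟨a, ha, hah⟩ := hHK hh
    have : a = h := Subtype.ext hah
    rw [← this]
    exact ha
  · left
    refine ⟨hess, le_antisymm hHA ?_⟩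
    by_cases hc : F.IsCentric P
    · have hCle : centralizerIn S P ≤ P := hc.2 P (fs_isConj_refl F hPS')
      haveI hInorm : ((Inn P).subgroupOf (F.autGroup P)).Normal := inferInstance
      have hnse : ∀ E' : Subgroup (F.autGroup P ⧸ (Inn P).subgroupOf (F.autGroup P)),
          ¬ IsStronglyPEmbedded p E' :=
        fun E' h => hess ⟨hc, hPn, hInorm, E', h⟩
      have hTne := sylow_ne_inn p hS F hPS hCle (T₀ : Subgroup (F.autGroup P)) hT₀
      have key := eq_top_of_no_stronglyPEmbedded p _ T₀ hIT hTne hnse _ hIH hnormalizes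
      exact Subgroup.subgroupOf_eq_top.mp key
    · have hnle : ¬ centralizerIn S P ≤ P :=
        fun hle => hc (fs_centric_of_fullyCentralized_of_le F hPc hle)
      obtain ⟨g, hgC, hgP⟩ := SetLike.not_le_iff_exists.mp hnle
      intro α hα
      exact hext α hα ⟨g, fs_centralizerIn_le_extender P _ hgC, hgP⟩

end Cfsg.Agent.S5081
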