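import Mathlib
import Cfsg.Statements.S5092
import Cfsg.Agent.Lib.Helper9.FusionFocal

set_option autoImplicit false
open Cfsg

namespace Cfsg.Agent.S5092

open Cfsg.FusionSystem Cfsg.Agent.Lib.Helper9
open scoped commutatorElement

/-- For a saturated fusion system over a finite p-group S, the focal subgroup is the product of the hyperfocal subgroup and the derived subgroup of S. -/
theorem result {Ω : Type*} [Group Ω] {S : Subgroup Ω} [Finite S] (p : ℕ) [Fact p.Prime] (hS : IsPGroup p S) (F : Cfsg.FusionSystem S) (hF : F.IsSaturated p) : F.focalSubgroup = F.hyperfocalSubgroup p ⊔ ⁅(S : Subgroup Ω), (S : Subgroup Ω)⁆ := by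
  apply le_antisymm
  · have hK : ⁅S, S⁆ ≤ F.hyperfocalSubgroup p ⊔ ⁅S, S⁆ := le_sup_right
    have hle : ∀ (P : Subgroup Ω) (φ : P →* Ω), φ ∈ F.Hom P →
        φ ∈ (focalSystem F (F.hyperfocalSubgroup p ⊔ ⁅S, S⁆) hK).Hom P := by
      intro P φ hφ
      refine fs_le_of_autGroup_le p hS F (focalSystem F _ hK) hF ?_ _ P φ hφ rfl
      intro R hRn _ α hα
      have hRS : R ≤ S := hRn.1
      rw [mem_autGroup_iff _ hRS]
      have hα' := hα
      rw [mem_autGroup_iff F hRS] at hα'
      refine ⟨hα', fun x => ?_⟩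
      obtain ⟨β, hβ, s, hs, γ, Hγ, hαβγ⟩ := fs_aut_decomp p hS F hF hRn ⟨α, hα⟩
      have hαeq : α = (β : MulAut R) * (γ : MulAut R) := by
        have := congrArg Subtype.val hαβγ
        simpa using this
      show (x : Ω)⁻¹ * ((α x : R) : Ω) ∈ F.hyperfocalSubgroup p ⊔ ⁅S, S⁆
      rw [hαeq, MulAut.mul_apply]
      have h1 : (x : Ω)⁻¹ * (((β : MulAut R) ((γ : MulAut R) x) : R) : Ω)
          = ((x : Ω)⁻¹ * (((γ : MulAut R) x : R) : Ω)) *
            ((((γ : MulAut R) x : R) : Ω)⁻¹ * (((β : MulAut R) ((γ : MulAut R) x) : R) : Ω)) := by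
        group
      rw [h1]
      apply Subgroup.mul_mem
      · apply hK
        rw [Hγ]
        have h2 : (x : Ω)⁻¹ * (s * x * s⁻¹) = ⁅(x : Ω)⁻¹, s⁆ := by
          rw [commutatorElement_def, inv_inv]; group
        rw [h2]
        exact Subgroup.commutator_mem_commutator (S.inv_mem (hRS x.2)) hs
      · apply (le_sup_left : F.hyperfocalSubgroup p ≤ _)
        apply Subgroup.subset_closure
        exact ⟨R, β, (γ : MulAut R) x, hRS, hβ, rfl⟩
    unfold FusionSystem.focalSubgroup
    rw [Subgroup.closure_le]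
    rintro _ ⟨P, φ, x, hφ, rfl⟩
    exact (hle P φ hφ).2 x
  · apply sup_le
    · unfold FusionSystem.hyperfocalSubgroup
      rw [Subgroup.closure_le]
      rintro _ ⟨P, α, x, hPS, -, rfl⟩
      apply Subgroup.subset_closure
      have hα := α.2
      rw [mem_autGroup_iff F hPS] at hα
      exact ⟨P, _, x, hα, rfl⟩
    · rw [Subgroup.commutator_le]
      intro a ha b hb
      apply Subgroup.subset_closure
      refine ⟨S, conjHom S b, ⟨a⁻¹, S.inv_mem ha⟩, F.conj_mem le_rfl hb, ?_⟩
      rw [commutatorElement_def]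
      show a * b * a⁻¹ * b⁻¹ = (a⁻¹)⁻¹ * (b * a⁻¹ * b⁻¹)
      group

end Cfsg.Agent.S5092
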