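import Cfsg.Statements.S0803
import Mathlib
import Cfsg.Agent.Lib.Helper2.SL2S4b
import Cfsg.Agent.Lib.Helper2.SL2S4c

set_option autoImplicit false
open Cfsg

namespace Cfsg.Agent.S0803

open Cfsg.Agent.Lib.Helper2 in
theorem sq_mod_sixteen {q : ℕ} (hq : q % 8 = 1 ∨ q % 8 = 7) : q ^ 2 % 16 = 1 := by
  have h16 : q % 16 = 1 ∨ q % 16 = 7 ∨ q % 16 = 9 ∨ q % 16 = 15 := by omega
  rw [Nat.pow_mod]
  rcases h16 with e | e | e | e <;> rw [e]

theorem mod_eight_of_sq {q : ℕ} (h : q ^ 2 % 16 = 1) : q % 8 = 1 ∨ q % 8 = 7 := by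
  rw [Nat.pow_mod] at h
  have hlt : q % 16 < 16 := Nat.mod_lt _ (by norm_num)
  have h8 : q % 8 = (q % 16) % 8 := by omega
  rw [h8]
  generalize q % 16 = r at h hlt
  interval_cases r <;> simp_all

/-- PSL_2(q) has a subgroup isomorphic to S_4 iff q² ≡ 1 (mod 16). -/
theorem result {F : Type*} [Field F] [Fintype F] {q : ℕ} (hF : Fintype.card F = q) : (∃ H : Subgroup (Matrix.ProjectiveSpecialLinearGroup (Fin 2) F), Nonempty (H ≃* Equiv.Perm (Fin 4))) ↔ q ^ 2 % 16 = 1 := by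
  classical
  subst hF
  constructor
  · rintro ⟨H, ⟨e⟩⟩
    rcases Nat.even_or_odd (Fintype.card F) with hev | hodd
    · exfalso
      have h2 := Cfsg.Agent.Lib.Helper2.SL2S4.two_eq_zero_of_even_card hev
      obtain ⟨c, hc4, hc2⟩ : ∃ c : Equiv.Perm (Fin 4), c ^ 4 = 1 ∧ c ^ 2 ≠ 1 :=
        ⟨finRotate 4, by decide, by decide⟩
      have hg4 : ((e.symm c : H) : Matrix.ProjectiveSpecialLinearGroup (Fin 2) F) ^ 4 = 1 := by
        rw [← Subgroup.coe_pow, ← map_pow, hc4, map_one]; rfl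
      have h3 := Cfsg.Agent.Lib.Helper2.SL2S4.psl_sq_eq_one_of_pow_four h2 _ hg4
      apply hc2
      have h4 : (e.symm c) ^ 2 = 1 := Subtype.ext (by rw [Subgroup.coe_pow]; exact h3)
      rw [← map_pow] at h4
      exact e.symm.injective (h4.trans (map_one _).symm)
    · have hcard := Cfsg.Agent.Lib.Helper2.SL2Klein.two_mul_card_PSL2 hodd
      have h24 : Nat.card H = 24 := by
        rw [Nat.card_congr e.toEquiv, Nat.card_eq_fintype_card, Fintype.card_perm, Fintype.card_fin]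
        rfl
      have h8 : 8 ∣ Nat.card (Matrix.ProjectiveSpecialLinearGroup (Fin 2) F) := by
        have h1 := Subgroup.card_subgroup_dvd_card H
        rw [h24] at h1
        exact (Dvd.intro 3 rfl).trans h1
      apply sq_mod_sixteen
      by_contra hcon
      have h35 : Fintype.card F % 8 = 3 ∨ Fintype.card F % 8 = 5 := by
        rw [Nat.odd_iff] at hodd; omega
      exact Cfsg.Agent.Lib.Helper2.SL2Klein.not_eight_dvd hcard h35 h8
  · intro h
    exact Cfsg.Agent.Lib.Helper2.SL2S4.exists_S4 (mod_eight_of_sq h)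

end Cfsg.Agent.S0803
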