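import Cfsg.Statements.S0811
import Mathlib
import Cfsg.Agent.Lib.Helper2.DSubD5

set_option autoImplicit false
open Cfsg

namespace Cfsg.Agent.S0811

open Cfsg.Agent.Lib.Helper2.DSub

open Matrix in
/-- the Klein four-subgroup of `PSL₂(3)` -/
theorem klein_three {F : Type*} [Field F] [Fintype F] (hq : Fintype.card F = 3) :
    ∃ N : Subgroup (ProjectiveSpecialLinearGroup (Fin 2) F),
      Nonempty (N ≃* DihedralGroup 2) := by
  haveI := finite_psl (F := F)
  obtain ⟨p, hchar⟩ := CharP.exists F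
  haveI : Fact p.Prime := ⟨CharP.char_is_prime F p⟩
  obtain ⟨n0, hp, hn0⟩ := FiniteField.card F p
  have hp3 : p = 3 := by
    have h1 : p ∣ 3 := by rw [← hq, hn0]; exact dvd_pow_self p n0.ne_zero
    exact (Nat.prime_dvd_prime_iff_eq hp Nat.prime_three).mp h1
  subst hp3
  have hG := card_psl_two (F := F)
  rw [hq] at hG
  have hG' : Nat.card (ProjectiveSpecialLinearGroup (Fin 2) F) = 12 := by
    have : Nat.gcd 2 (3 - 1) = 2 := by norm_num
    rw [this] at hG
    omega
  obtain ⟨K, hK⟩ := Sylow.exists_subgroup_card_pow_prime (G := ProjectiveSpecialLinearGroup (Fin 2) F)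
    2 (n := 2) (by rw [hG']; norm_num)
  have hK4 : Nat.card K = 4 := by rw [hK]; norm_num
  have hsq : ∀ k : K, k ^ 2 = 1 := by
    intro k
    have h4 : k ^ 4 = 1 := by
      rw [← hK4]; exact pow_card_eq_one'
    have h := psl_pow_eq_one 3 (k : ProjectiveSpecialLinearGroup (Fin 2) F)
    rw [hq] at h
    have e1 : (3 + 1) / Nat.gcd 2 (3 - 1) = 2 := by norm_num
    have e2 : (3 - 1) / Nat.gcd 2 (3 - 1) = 1 := by norm_num
    rw [e1, e2] at h
    rcases h with h | h | h
    · have h' : k ^ 3 = 1 := Subtype.ext h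
      have : k = 1 := by
        calc k = k ^ 4 * (k ^ 3)⁻¹ := by group
          _ = 1 := by rw [h4, h', inv_one, mul_one]
      rw [this, one_pow]
    · exact Subtype.ext h
    · have h' : k ^ 1 = 1 := Subtype.ext h
      rw [pow_one] at h'
      rw [h', one_pow]
  haveI : IsKleinFour K := by
    refine ⟨hK4, ?_⟩
    have h1 : Monoid.exponent K ∣ 2 := Monoid.exponent_dvd_of_forall_pow_eq_one hsq
    rcases (Nat.dvd_prime Nat.prime_two).mp h1 with h | h
    · exfalso
      rw [Monoid.exp_eq_one_iff] at h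
      have := Nat.card_eq_one_iff_unique.mpr ⟨h, ⟨1⟩⟩
      omega
    · exact h
  exact ⟨K, IsKleinFour.nonempty_mulEquiv⟩

/-- For q ∉ {2, 7, 9}, PSL_2(q) has a maximal subgroup isomorphic to the dihedral group of order 2(q + 1)/d, d = gcd(2, q − 1). -/
theorem result {F : Type*} [Field F] [Fintype F] {q : ℕ} (hF : Fintype.card F = q) (hq : q ∉ ({2, 7, 9} : Finset ℕ)) : ∃ H : Subgroup (Matrix.ProjectiveSpecialLinearGroup (Fin 2) F), IsCoatom H ∧ Nonempty (H ≃* DihedralGroup ((q + 1) / Nat.gcd 2 (q - 1))) := by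
  subst hF
  obtain ⟨p, hchar⟩ := CharP.exists F
  haveI : Fact p.Prime := ⟨CharP.char_is_prime F p⟩
  have hq2 : 2 ≤ Fintype.card F := Fintype.one_lt_card
  have hq' := hq
  simp only [Finset.mem_insert, Finset.mem_singleton, not_or] at hq'
  obtain ⟨h2, h7, h9⟩ := hq'
  have hex : ∃ N : Subgroup (Matrix.ProjectiveSpecialLinearGroup (Fin 2) F),
      Nonempty (N ≃* DihedralGroup ((Fintype.card F + 1) / Nat.gcd 2 (Fintype.card F - 1))) := by
    by_cases h3 : Fintype.card F = 3
    · obtain ⟨N, hN⟩ := klein_three h3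
      refine ⟨N, ?_⟩
      have e1 : (Fintype.card F + 1) / Nat.gcd 2 (Fintype.card F - 1) = 2 := by
        rw [h3]; norm_num
      rw [e1]
      exact hN
    · apply exists_dihedral_add p
      obtain ⟨hpar, hnd, -⟩ := setup_psl (F := F) (by omega)
      rcases hpar with ⟨h1, hd⟩ | ⟨h1, hd⟩ <;> rw [hd] at hnd ⊢ <;> omega
  obtain ⟨N, ⟨eN⟩⟩ := hex
  exact ⟨N, dihedral_add_isCoatom p hq N eN, ⟨eN⟩⟩

end Cfsg.Agent.S0811
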