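import Cfsg.Statements.S0812
import Mathlib
import Cfsg.Agent.Lib.Helper2.DSubD6

set_option autoImplicit false
open Cfsg

namespace Cfsg.Agent.S0812

open Cfsg.Agent.Lib.Helper2.DSub

/-- For q ∉ {2, 3, 5, 7, 9, 11}, PSL_2(q) has a maximal subgroup isomorphic to the dihedral group of order 2(q − 1)/d, d = gcd(2, q − 1). -/
theorem result {F : Type*} [Field F] [Fintype F] {q : ℕ} (hF : Fintype.card F = q) (hq : q ∉ ({2, 3, 5, 7, 9, 11} : Finset ℕ)) : ∃ H : Subgroup (Matrix.ProjectiveSpecialLinearGroup (Fin 2) F), IsCoatom H ∧ Nonempty (H ≃* DihedralGroup ((q - 1) / Nat.gcd 2 (q - 1))) := by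
  subst hF
  obtain ⟨p, hchar⟩ := CharP.exists F
  haveI : Fact p.Prime := ⟨CharP.char_is_prime F p⟩
  have hq2 : 2 ≤ Fintype.card F := Fintype.one_lt_card
  have hq' := hq
  simp only [Finset.mem_insert, Finset.mem_singleton, not_or] at hq'
  obtain ⟨h2, h3, h5, h7, h9, h11⟩ := hq'
  have hex : ∃ N : Subgroup (Matrix.ProjectiveSpecialLinearGroup (Fin 2) F),
      Nonempty (N ≃* DihedralGroup ((Fintype.card F - 1) / Nat.gcd 2 (Fintype.card F - 1))) := by
    apply exists_dihedral_sub p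
    obtain ⟨hpar, -, hnd⟩ := setup_psl (F := F) (by omega)
    rcases hpar with ⟨h1, hd⟩ | ⟨h1, hd⟩ <;> rw [hd] at hnd ⊢ <;> omega
  obtain ⟨N, ⟨eN⟩⟩ := hex
  exact ⟨N, dihedral_sub_isCoatom p hq N eN, ⟨eN⟩⟩

end Cfsg.Agent.S0812
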