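import Cfsg.Statements.S5892
import Cfsg.Agent.Lib.Helper9.POD5
import Cfsg.Agent.Lib.Helper9.PO10
import Cfsg.Agent.Lib.Helper9.PO11
import Cfsg.Agent.Lib.Helper2.DSubP9

set_option autoImplicit false
open Cfsg

namespace Cfsg.Agent.S5892

open Cfsg.Agent.Lib.Helper9.PO Cfsg.Agent.Lib.Helper2.DSub in
/-- Let F be a finite field of odd order q ≥ 5 and characteristic p, and let M be a maximal subgroup of PSL₂(F). Then one of the following holds: |M| = q(q − 1)/2 (the stabiliser of a point of the projective line); q ≥ 13 and M is dihedral of order q − 1; q ∉ {7, 9} and M is dihedral of order q + 1; q = q₀² and M ≅ PGL₂(F₀) with |F₀| = q₀; q = q₀^r for an odd prime r and M ≅ PSL₂(F₀) with |F₀| = q₀; q ≡ ±1 (mod 10) with q = p or q = p², p ≡ ±3 (mod 10), and M ≅ A₅; q = p ≡ ±3 (mod 8), q ≢ ±1 (mod 10), and M ≅ A₄; or q = p ≡ ±1 (mod 8) and M ≅ S₄. -/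
theorem result {F : Type*} [Field F] [Fintype F] (p : ℕ)
    [Fact p.Prime] [CharP F p] (hodd : Odd (Fintype.card F)) (h5 : 5 ≤ Fintype.card F)
    (M : Subgroup (Matrix.ProjectiveSpecialLinearGroup (Fin 2) F)) (hM : IsCoatom M) :
    2 * Nat.card M = Fintype.card F * (Fintype.card F - 1) ∨
    (13 ≤ Fintype.card F ∧ (∃ k : ℕ, 2 * k = Fintype.card F - 1 ∧ Nonempty (M ≃* DihedralGroup k))) ∨
    (Fintype.card F ≠ 7 ∧ Fintype.card F ≠ 9 ∧ (∃ k : ℕ, 2 * k = Fintype.card F + 1 ∧ Nonempty (M ≃* DihedralGroup k))) ∨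
    (∃ (F₀ : Type) (_ : Field F₀) (_ : Fintype F₀), Fintype.card F = Fintype.card F₀ ^ 2 ∧
        Nonempty (M ≃* Matrix.ProjGenLinGroup (Fin 2) F₀)) ∨
    (∃ (F₀ : Type) (_ : Field F₀) (_ : Fintype F₀) (r : ℕ), r.Prime ∧ Odd r ∧ Fintype.card F = Fintype.card F₀ ^ r ∧
        Nonempty (M ≃* Matrix.ProjectiveSpecialLinearGroup (Fin 2) F₀)) ∨
    ((Fintype.card F % 10 = 1 ∨ Fintype.card F % 10 = 9) ∧
        (Fintype.card F = p ∨ (Fintype.card F = p ^ 2 ∧ (p % 10 = 3 ∨ p % 10 = 7))) ∧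
        Nonempty (M ≃* alternatingGroup (Fin 5))) ∨
    (Fintype.card F = p ∧ (p % 8 = 3 ∨ p % 8 = 5) ∧ ¬ (p % 10 = 1 ∨ p % 10 = 9) ∧
        Nonempty (M ≃* alternatingGroup (Fin 4))) ∨
    (Fintype.card F = p ∧ (p % 8 = 1 ∨ p % 8 = 7) ∧ Nonempty (M ≃* Equiv.Perm (Fin 4))) := by
  classical
  rcases dickson_psl_concrete p M with ⟨k, hk, h⟩ | ⟨P, hle⟩ | ⟨⟨e⟩⟩ | ⟨⟨e⟩⟩ | ⟨⟨e⟩⟩ |
    ⟨K, i1, i2, m, hKm, h⟩
  · rcases dihedral_case_odd hodd h5 M hM k hk h with h | h
    · right; left; exact h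
    · right; right; left; exact h
  · left
    exact borel_case_odd p hodd M hM P hle
  · by_cases hp3 : p = 3
    · obtain ⟨Q, hQ, hN⟩ := A4_sfd
      rcases sfd_case p hodd M hM e Q 3 1 1 (by rw [hp3]; norm_num) le_rfl (Or.inr rfl) le_rfl
        (by rw [Cfsg.Agent.Lib.Helper9.PO.card_A4]) hQ (by rw [hN]) with h | h
      · right; right; right; left; exact h
      · right; right; right; right; left; exact h
    · have hq := A4_case_field p hodd hp3 M hM e
      have h8 := A4_mod8 hodd h5 M hM e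
      have h10 := A4_mod10 hodd h5 M hM e
      rw [hq] at h8 h10
      right; right; right; right; right; right; left
      exact ⟨hq, h8, h10, ⟨e⟩⟩
  · by_cases hp3 : p = 3
    · obtain ⟨Q, hQ, hN⟩ := S4_sfd
      rcases sfd_case p hodd M hM e Q 3 2 1 (by rw [hp3]; norm_num) le_rfl (Or.inl rfl) le_rfl
        (by rw [Cfsg.Agent.Lib.Helper9.PO.card_S4]) hQ (by rw [hN]) with h | h
      · right; right; right; left; exact h
      · right; right; right; right; left; exact h
    · have hq := S4_case_field p hodd hp3 M hM e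
      have h8 := S4_mod8 hodd M e
      rw [hq] at h8
      right; right; right; right; right; right; right
      exact ⟨hq, h8, ⟨e⟩⟩
  · by_cases hp5 : p = 5
    · obtain ⟨Q, hQ, hN⟩ := A5_sfd
      rcases sfd_case p hodd M hM e Q 5 2 1 (by rw [hp5]; norm_num) le_rfl (Or.inr rfl)
        (by norm_num) (by rw [Cfsg.Agent.Lib.Helper2.DSub.card_A5]) hQ (by rw [hN]) with h | h
      · right; right; right; left; exact h
      · right; right; right; right; left; exact h
    · obtain ⟨h1, h2⟩ := A5_case p hodd hp5 M hM e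
      right; right; right; right; right; left
      exact ⟨h1, h2, ⟨e⟩⟩
  · rcases subfield_case p hodd M hM m hKm h with h | h
    · right; right; right; left; exact h
    · right; right; right; right; left; exact h

end Cfsg.Agent.S5892
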