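import Mathlib
import Cfsg.Statements.S5103
import Cfsg.Agent.Lib.Helper9.Realize1
import Cfsg.Agent.Lib.Helper9.PCore

set_option autoImplicit false
open Cfsg
open Cfsg.FusionSystem Cfsg.Agent.Lib.Helper9

namespace Cfsg.Agent.S5103

/-- A fusion system over a finite p-group that has a model (a finite group realizing it on a Sylow p-subgroup with self-centralizing largest normal p-subgroup) is constrained. -/
theorem result {Ω : Type*} [Group Ω] {S : Subgroup Ω} [Finite S] (p : ℕ) [Fact p.Prime] (hS : IsPGroup p S) (F : Cfsg.FusionSystem S) {G : Type*} [Group G] (ι : S →* G) (hG : F.IsModel p G ι) : F.IsConstrained p := by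
  obtain ⟨hfin, hι, ⟨T, hT⟩, hcent⟩ := hG
  haveI := hfin
  have hinj := hι.1
  have hOn : (pCore p G).Normal := pCore_normal' p
  have hOT : pCore p G ≤ ι.range := hT ▸ pCore_le_sylow T
  have hQS : preimageAlong ι (pCore p G) ≤ S := preimageAlong_le ι _
  have hQmem : ∀ y : preimageAlong ι (pCore p G), ι ⟨y, hQS y.2⟩ ∈ pCore p G :=
    fun y => apply_mem_of_mem_preimageAlong ι _ y
  have hQsurj : ∀ w ∈ pCore p G, ∃ y : preimageAlong ι (pCore p G), ι ⟨y, hQS y.2⟩ = w := by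
    intro w hw
    obtain ⟨s, rfl⟩ := hOT hw
    exact ⟨⟨s, (mem_preimageAlong_iff ι _ s).mpr ⟨s.2, hw⟩⟩, rfl⟩
  have hQof : ∀ (y : Ω) (hy : y ∈ S), ι ⟨y, hy⟩ ∈ pCore p G → y ∈ preimageAlong ι (pCore p G) :=
    fun y hy h => (mem_preimageAlong_iff ι _ y).mpr ⟨hy, h⟩
  -- every map of F with source Q has image Q
  have hrange : ∀ φ ∈ F.Hom (preimageAlong ι (pCore p G)), φ.range = preimageAlong ι (pCore p G) := by
    intro φ hφ
    have hφS : ∀ x, φ x ∈ S := (F.le_of_mem hφ).2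
    obtain ⟨g, Hg⟩ := (hι.2 _ hQS φ hφS).mp hφ
    apply le_antisymm
    · rintro _ ⟨x, rfl⟩
      apply hQof _ (hφS x)
      rw [Hg]
      exact hOn.conj_mem _ (hQmem x) g
    · intro z hz
      obtain ⟨y, hy⟩ := hQsurj (g⁻¹ * ι ⟨z, hQS hz⟩ * g⁻¹⁻¹) (hOn.conj_mem _ (hQmem ⟨z, hz⟩) g⁻¹)
      refine ⟨y, ?_⟩
      have e1 : ι ⟨φ y, hφS y⟩ = ι ⟨z, hQS hz⟩ := by
        rw [Hg, hy]; group
      exact congrArg (fun z : S => (z : Ω)) (hinj e1)
  refine ⟨isSaturated_of_realized F ι hι T hT, preimageAlong ι (pCore p G), ⟨hQS, ?_⟩, hQS, ?_⟩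
  · -- normal
    intro P φ hφ
    have hPS : P ≤ S := (F.le_of_mem hφ).1
    have hφS : ∀ x, φ x ∈ S := (F.le_of_mem hφ).2
    obtain ⟨g, Hg⟩ := (hι.2 P hPS φ hφS).mp hφ
    have hPQS : P ⊔ preimageAlong ι (pCore p G) ≤ S := sup_le hPS hQS
    have hW : P ⊔ preimageAlong ι (pCore p G) ≤
        preimageAlong ι ((ι.range).comap (MulAut.conj g).toMonoidHom) := by
      apply sup_le
      · intro x hx
        rw [mem_preimageAlong_iff]
        refine ⟨hPS hx, ?_⟩
        show g * ι ⟨x, _⟩ * g⁻¹ ∈ ι.range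
        rw [← Hg ⟨x, hx⟩]
        exact ⟨_, rfl⟩
      · intro y hy
        rw [mem_preimageAlong_iff]
        refine ⟨hQS hy, ?_⟩
        show g * ι ⟨y, _⟩ * g⁻¹ ∈ ι.range
        exact hOT (hOn.conj_mem _ (hQmem ⟨y, hy⟩) g)
    have hval : ∀ x : (P ⊔ preimageAlong ι (pCore p G) : Subgroup Ω), g * ι ⟨x, hPQS x.2⟩ * g⁻¹ ∈ ι.range :=
      fun x => ((mem_preimageAlong_iff ι _ _).mp (hW x.2)).2
    refine ⟨liftConj ι hinj hPQS g hval, liftConj_mem_hom hι hPQS g hval, ?_, ?_⟩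
    · intro x
      have e1 := ι_liftConj ι hinj hPQS g hval (Subgroup.inclusion le_sup_left x)
        (liftConj_mem ι hinj hPQS g hval _)
      have e2 : ι ⟨liftConj ι hinj hPQS g hval (Subgroup.inclusion le_sup_left x),
          liftConj_mem ι hinj hPQS g hval _⟩ = ι ⟨φ x, hφS x⟩ := by
        rw [e1, Hg]
        rfl
      exact congrArg (fun z : S => (z : Ω)) (hinj e2)
    · apply le_antisymm
      · rintro _ ⟨y, hy, rfl⟩
        rw [SetLike.mem_coe, Subgroup.mem_subgroupOf] at hy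
        apply hQof _ (liftConj_mem ι hinj hPQS g hval y)
        rw [ι_liftConj ι hinj hPQS g hval y _]
        exact hOn.conj_mem _ (hQmem ⟨y, hy⟩) g
      · intro z hz
        obtain ⟨y, hy⟩ := hQsurj (g⁻¹ * ι ⟨z, hQS hz⟩ * g⁻¹⁻¹) (hOn.conj_mem _ (hQmem ⟨z, hz⟩) g⁻¹)
        refine ⟨⟨y, Subgroup.mem_sup_right y.2⟩, ?_, ?_⟩
        · rw [SetLike.mem_coe, Subgroup.mem_subgroupOf]
          exact y.2
        · have e1 := ι_liftConj ι hinj hPQS g hval ⟨y, Subgroup.mem_sup_right y.2⟩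
            (liftConj_mem ι hinj hPQS g hval _)
          have e2 : ι ⟨liftConj ι hinj hPQS g hval ⟨y, Subgroup.mem_sup_right y.2⟩,
              liftConj_mem ι hinj hPQS g hval _⟩ = ι ⟨z, hQS hz⟩ := by
            rw [e1]
            show g * ι ⟨y, _⟩ * g⁻¹ = _
            rw [hy]; group
          exact congrArg (fun z : S => (z : Ω)) (hinj e2)
  · -- centric
    rintro Q' ⟨φ, hφ, rfl⟩
    rw [hrange φ hφ]
    rintro c ⟨hcS, hcC⟩
    apply hQof c hcS
    apply hcent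
    rw [Subgroup.mem_centralizer_iff]
    intro w hw
    obtain ⟨y, rfl⟩ := hQsurj w hw
    have h1 := (Subgroup.mem_centralizer_iff.mp hcC) y y.2
    rw [← map_mul, ← map_mul]
    congr 1
    exact Subtype.ext h1

end Cfsg.Agent.S5103
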