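import Mathlib
import Cfsg.Statements.S0251
import Cfsg.Agent.Lib.Helper1.SLCard

set_option autoImplicit false
open Cfsg

namespace Cfsg.Agent.S0251

open scoped LinearAlgebra.Projectivization
open Cfsg.Agent.Lib.Helper1

/-- PSL_2(3) is isomorphic to A_4. -/
theorem result {F : Type*} [Field F] [Fintype F] (hF : Fintype.card F = 3) : Nonempty (Matrix.ProjectiveSpecialLinearGroup (Fin 2) F ≃* alternatingGroup (Fin 4)) := by
  have hcard : Nat.card (Matrix.ProjectiveSpecialLinearGroup (Fin 2) F) = 12 := by
    have := card_PSL_field (F := F) 2 (by norm_num)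
    rw [hF, Fin.prod_univ_two] at this
    norm_num at this
    omega
  have hP : Nat.card (ℙ F (Fin 2 → F)) = 4 := by
    rw [Projectivization.card_of_finrank_two F (Fin 2 → F) (by simp), Nat.card_eq_fintype_card, hF]
  have hfinP : Finite (ℙ F (Fin 2 → F)) := Nat.finite_of_card_ne_zero (by omega)
  have e2 : ℙ F (Fin 2 → F) ≃ Fin 4 := Finite.equivFinOfCardEq hP
  let f : Matrix.ProjectiveSpecialLinearGroup (Fin 2) F →* Equiv.Perm (Fin 4) :=
    e2.permCongrHom.toMonoidHom.comp Projectivization.PSLAction.toPermHom
  have hinj : Function.Injective f := by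
    intro a b hab
    apply Matrix.ProjectiveSpecialLinearGroup.toPermHom_injective
    exact e2.permCongrHom.injective hab
  have hrange : Nat.card f.range = 12 := by
    rw [← hcard]
    exact (Nat.card_congr (MonoidHom.ofInjective hinj).toEquiv).symm
  have hidx : f.range.index = 2 := by
    have h1 := f.range.card_mul_index
    rw [hrange, Nat.card_perm, Nat.card_eq_fintype_card, Fintype.card_fin] at h1
    have : (4 : ℕ).factorial = 24 := rfl
    omega
  have heq : f.range = alternatingGroup (Fin 4) :=
    Equiv.Perm.eq_alternatingGroup_of_index_eq_two hidx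
  exact ⟨(MonoidHom.ofInjective hinj).trans (MulEquiv.subgroupCongr heq)⟩

end Cfsg.Agent.S0251
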