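import Mathlib
import Cfsg.Statements.S5895

set_option autoImplicit false
open Cfsg

namespace Cfsg.Agent.S5895

open MulAction SemidirectProduct Projectivization
open scoped LinearAlgebra.Projectivization

section
variable (p d : ℕ) [Fact p.Prime]

abbrev VV := Fin d → ZMod p
abbrev LL := (VV p d) ≃ₗ[ZMod p] (VV p d)

noncomputable def phi : LL p d →* MulAut (Multiplicative (VV p d)) where
  toFun e := AddEquiv.toMultiplicative e.toAddEquiv
  map_one' := by ext; rfl
  map_mul' a b := by ext; rfl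

abbrev GG := Multiplicative (VV p d) ⋊[phi p d] LL p d

theorem phi_apply (e : LL p d) (v : VV p d) :
    phi p d e (Multiplicative.ofAdd v) = Multiplicative.ofAdd (e v) := rfl

instance : Finite (LL p d) :=
  Finite.of_injective (fun e : LL p d => (e : VV p d → VV p d)) DFunLike.coe_injective

instance : Finite (GG p d) := Finite.of_equiv _ (equivProd (φ := phi p d)).symm

theorem exists_linEquiv (v w : VV p d) (hv : v ≠ 0) (hw : w ≠ 0) : ∃ e : LL p d, e v = w := by
  have h2 : IsMultiplyPretransitive (LL p d) (ℙ (ZMod p) (VV p d)) 2 :=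
    Projectivization.linearEquiv_is_two_pretransitive (ZMod p) (VV p d)
  have : IsPretransitive (LL p d) (ℙ (ZMod p) (VV p d)) := isPretransitive_of_is_two_pretransitive
  obtain ⟨g, hg⟩ := exists_smul_eq (LL p d) (Projectivization.mk (ZMod p) v hv)
    (Projectivization.mk (ZMod p) w hw)
  rw [smul_mk, mk_eq_mk_iff] at hg
  obtain ⟨a, ha⟩ := hg
  refine ⟨g.trans (LinearEquiv.smulOfUnit a⁻¹), ?_⟩
  have h1 : g v = a • w := ha.symm
  rw [LinearEquiv.trans_apply, h1]
  change a⁻¹ • (a • w) = w
  rw [smul_smul]; simp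

/-- The complement `M`. -/
noncomputable def MM : Subgroup (GG p d) := (inr : LL p d →* GG p d).range

theorem mem_MM (g : GG p d) : g ∈ MM p d ↔ g.left = 1 := by
  constructor
  · rintro ⟨e, rfl⟩; rfl
  · intro h; exact ⟨g.right, by ext <;> simp [h]⟩

theorem MM_isCoatom (hd : 1 ≤ d) : IsCoatom (MM p d) := by
  constructor
  · intro h
    have h1 : (inl (Multiplicative.ofAdd (Pi.single (⟨0, hd⟩ : Fin d) (1 : ZMod p))) : GG p d) ∈ MM p d := by
      rw [h]; trivial
    rw [mem_MM, left_inl] at h1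
    have h2 : (Pi.single (⟨0, hd⟩ : Fin d) (1 : ZMod p) : VV p d) = 0 := h1
    have := congrFun h2 ⟨0, hd⟩
    simp at this
  · intro X hX
    obtain ⟨hle, hne⟩ := lt_iff_le_not_ge.mp hX
    obtain ⟨g, hgX, hgM⟩ := Set.not_subset.mp hne
    rw [SetLike.mem_coe, mem_MM] at hgM
    have h1 : (inl g.left : GG p d) ∈ X := by
      have : (inl g.left : GG p d) = g * (inr g.right)⁻¹ := by
        rw [eq_mul_inv_iff_mul_eq]; exact inl_left_mul_inr_right g
      rw [this]
      exact X.mul_mem hgX (X.inv_mem (hle ⟨g.right, rfl⟩))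
    have hv : (Multiplicative.toAdd g.left : VV p d) ≠ 0 := fun h => hgM h
    have h2 : ∀ w : Multiplicative (VV p d), (inl w : GG p d) ∈ X := by
      intro w
      by_cases hw : Multiplicative.toAdd w = 0
      · have : w = 1 := hw
        rw [this, map_one]; exact X.one_mem
      · obtain ⟨e, he⟩ := exists_linEquiv p d _ _ hv hw
        have h3 : w = phi p d e g.left := by
          change w = Multiplicative.ofAdd (e (Multiplicative.toAdd g.left))
          rw [he]; rfl
        rw [h3, inl_aut]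
        exact X.mul_mem (X.mul_mem (hle ⟨e, rfl⟩) h1) (hle ⟨e⁻¹, rfl⟩)
    rw [eq_top_iff]
    intro g _
    rw [← inl_left_mul_inr_right g]
    exact X.mul_mem (h2 _) (hle ⟨g.right, rfl⟩)

theorem MM_index : (MM p d).index = p ^ d := by
  have h1 := (MM p d).index_mul_card
  have h2 : Nat.card (MM p d) = Nat.card (LL p d) :=
    Nat.card_congr (MonoidHom.ofInjective (inr_injective (φ := phi p d))).toEquiv.symm
  have h3 : Nat.card (GG p d) = Nat.card (Multiplicative (VV p d)) * Nat.card (LL p d) :=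
    SemidirectProduct.card
  have h4 : Nat.card (Multiplicative (VV p d)) = p ^ d := by
    change Nat.card (Fin d → ZMod p) = p ^ d
    rw [Nat.card_eq_fintype_card, Fintype.card_fun, ZMod.card, Fintype.card_fin]
  rw [h2, h3, h4] at h1
  have hpos : 0 < Nat.card (LL p d) := Nat.card_pos
  exact Nat.eq_of_mul_eq_mul_right hpos h1


theorem coatom_map_subgroupOf_range {A B : Type*} [Group A] [Group B] (f : A →* B)
    (hf : Function.Injective f) (S : Subgroup A) (hS : IsCoatom S) :
    IsCoatom ((S.map f).subgroupOf f.range) := by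
  let e : A ≃* f.range := MonoidHom.ofInjective hf
  have h1 : (S.map f).subgroupOf f.range = e.mapSubgroup S := by
    ext ⟨x, hx⟩
    rw [Subgroup.mem_subgroupOf]
    constructor
    · rintro ⟨a, ha, rfl⟩
      exact ⟨a, ha, rfl⟩
    · rintro ⟨a, ha, h⟩
      exact ⟨a, ha, congrArg Subtype.val h⟩
  rw [h1]
  exact (OrderIso.isCoatom_iff e.mapSubgroup S).mpr hS

theorem coatom_comap {A B : Type*} [Group A] [Group B] (f : A →* B)
    (hf : Function.Surjective f) (S : Subgroup B) (hS : IsCoatom S) :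
    IsCoatom (S.comap f) := by
  constructor
  · intro h
    apply hS.1
    rw [eq_top_iff]
    intro b _
    obtain ⟨a, rfl⟩ := hf b
    have : a ∈ S.comap f := by rw [h]; trivial
    exact this
  · intro X hX
    have hker : f.ker ≤ X := le_trans (Subgroup.comap_mono bot_le) hX.le
    have h1 : S < X.map f := by
      refine lt_of_le_of_ne ?_ ?_
      · intro b hb
        obtain ⟨a, rfl⟩ := hf b
        exact ⟨a, hX.le hb, rfl⟩
      · intro h
        apply hX.not_ge
        rw [h]
        exact Subgroup.le_comap_map f X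
    have h2 := hS.2 _ h1
    rw [eq_top_iff]
    intro a _
    have : f a ∈ X.map f := by rw [h2]; trivial
    obtain ⟨a', ha', h⟩ := this
    have h3 : a'⁻¹ * a ∈ f.ker := by
      rw [MonoidHom.mem_ker, map_mul, map_inv, h]; simp
    have := X.mul_mem ha' (hker h3)
    simpa using this

/-- The basis vector. -/
def e0 (hd : 1 ≤ d) : VV p d := Pi.single (⟨0, hd⟩ : Fin d) (1 : ZMod p)

theorem e0_ne (hd : 1 ≤ d) : e0 p d hd ≠ 0 := by
  intro h
  have := congrFun h ⟨0, hd⟩
  simp [e0] at this

/-- The line. -/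
def xx (hd : 1 ≤ d) : ℙ (ZMod p) (VV p d) := Projectivization.mk (ZMod p) (e0 p d hd) (e0_ne p d hd)

/-- Stabilizer of the line in `L`. -/
def SS (hd : 1 ≤ d) : Subgroup (LL p d) := stabilizer (LL p d) (xx p d hd)

theorem mem_SS (hd : 1 ≤ d) (e : LL p d) : e ∈ SS p d hd ↔ ∃ a : (ZMod p)ˣ, a • e0 p d hd = e (e0 p d hd) := by
  rw [SS, mem_stabilizer_iff, xx, smul_mk, mk_eq_mk_iff]
  rfl


/-- Second basis vector. -/
def e1 (hd : 2 ≤ d) : VV p d := Pi.single (⟨1, hd⟩ : Fin d) (1 : ZMod p)

theorem e1_not_mem (hd : 2 ≤ d) (c : ZMod p) : e1 p d hd ≠ c • e0 p d (by omega) := by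
  intro h
  have := congrFun h ⟨1, hd⟩
  simp [e0, e1] at this

theorem SS_isCoatom (hd : 2 ≤ d) : IsCoatom (SS p d (by omega)) := by
  have h2 : IsMultiplyPretransitive (LL p d) (ℙ (ZMod p) (VV p d)) 2 :=
    Projectivization.linearEquiv_is_two_pretransitive (ZMod p) (VV p d)
  have : IsPreprimitive (LL p d) (ℙ (ZMod p) (VV p d)) := isPreprimitive_of_is_two_pretransitive h2
  have hne : e1 p d hd ≠ 0 := by
    intro h
    apply e1_not_mem p d hd 0
    rw [h, zero_smul]
  have : Nontrivial (ℙ (ZMod p) (VV p d)) := by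
    refine ⟨⟨xx p d (by omega), Projectivization.mk (ZMod p) (e1 p d hd) hne, ?_⟩⟩
    intro h
    rw [xx, mk_eq_mk_iff] at h
    obtain ⟨a, ha⟩ := h
    have := congrFun ha ⟨0, by omega⟩
    simp [e0, e1] at this
  exact IsPreprimitive.isCoatom_stabilizer_of_isPreprimitive (G := LL p d) (xx p d (by omega))

/-- `H`. -/
noncomputable def HH (hd : 1 ≤ d) : Subgroup (GG p d) := (SS p d hd).map inr

/-- `K`. -/
noncomputable def KK (hd : 1 ≤ d) : Subgroup (GG p d) := (SS p d hd).comap rightHom

/-- The intermediate subgroup. -/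
noncomputable def YY (hd : 1 ≤ d) : Subgroup (GG p d) where
  carrier := {g | g.right ∈ SS p d hd ∧ ∃ c : ZMod p, Multiplicative.toAdd g.left = c • e0 p d hd}
  one_mem' := ⟨(SS p d hd).one_mem, 0, by simp⟩
  mul_mem' := by
    rintro a b ⟨ha, ca, hca⟩ ⟨hb, cb, hcb⟩
    refine ⟨(SS p d hd).mul_mem ha hb, ?_⟩
    obtain ⟨u, hu⟩ := (mem_SS p d hd _).mp ha
    refine ⟨ca + cb * u, ?_⟩
    rw [mul_left]
    change Multiplicative.toAdd a.left + a.right (Multiplicative.toAdd b.left) = _
    rw [hca, hcb, map_smul, ← hu, add_smul, mul_smul]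
    rfl
  inv_mem' := by
    rintro a ⟨ha, ca, hca⟩
    refine ⟨(SS p d hd).inv_mem ha, ?_⟩
    obtain ⟨u, hu⟩ := (mem_SS p d hd _).mp ((SS p d hd).inv_mem ha)
    refine ⟨- ca * u, ?_⟩
    rw [inv_left]
    change a.right⁻¹ (-(Multiplicative.toAdd a.left)) = _
    rw [hca, map_neg, map_smul, ← hu, neg_mul, neg_smul, mul_smul]
    rfl

end

/-- For every prime p and every d ≥ 2 there is a finite group G with a maximal subgroup M of index p^d and a maximal subgroup H of M that is not second maximal in G: some maximal subgroup K of G contains H without H being maximal in K. (One may take G the affine group V ⋊ GL(V) of V = 𝔽_p^d, M = GL(V), H the stabiliser in M of a line W of V, and K = V ⋊ H, with H < W ⋊ H < K.) So the prime-index hypothesis in the second-maximality criterion cannot be relaxed to prime-power index. -/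
theorem result (p d : ℕ) (hp : p.Prime)
    (hd : 2 ≤ d) :
    ∃ (G : Type) (_ : Group G) (_ : Finite G) (M H K : Subgroup G), IsCoatom M ∧ M.index = p ^ d ∧ H ≤ M ∧
      IsCoatom (H.subgroupOf M) ∧ IsCoatom K ∧ H ≤ K ∧ ¬ IsCoatom (H.subgroupOf K) := by
  have : Fact p.Prime := ⟨hp⟩
  have hd1 : 1 ≤ d := by omega
  refine ⟨GG p d, inferInstance, inferInstance, MM p d, HH p d hd1, KK p d hd1, MM_isCoatom p d hd1,
    MM_index p d, ?_, ?_, ?_, ?_, ?_⟩
  · rintro _ ⟨e, _, rfl⟩
    exact ⟨e, rfl⟩
  · exact coatom_map_subgroupOf_range inr inr_injective _ (SS_isCoatom p d hd)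
  · exact coatom_comap rightHom rightHom_surjective _ (SS_isCoatom p d hd)
  · rintro _ ⟨e, he, rfl⟩
    change rightHom (inr e) ∈ SS p d hd1
    rw [rightHom_inr]; exact he
  · intro hco
    have hHY : HH p d hd1 ≤ YY p d hd1 := by
      rintro _ ⟨e, he, rfl⟩
      refine ⟨he, 0, ?_⟩
      rw [left_inr]; simp
    have hYK : YY p d hd1 ≤ KK p d hd1 := fun g hg => hg.1
    have hK0 : (inl (Multiplicative.ofAdd (e0 p d hd1)) : GG p d) ∈ KK p d hd1 := by
      change rightHom (inl _) ∈ SS p d hd1
      rw [rightHom_inl]; exact Subgroup.one_mem _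
    have hK1 : (inl (Multiplicative.ofAdd (e1 p d hd)) : GG p d) ∈ KK p d hd1 := by
      change rightHom (inl _) ∈ SS p d hd1
      rw [rightHom_inl]; exact Subgroup.one_mem _
    have h1 : (HH p d hd1).subgroupOf (KK p d hd1) < (YY p d hd1).subgroupOf (KK p d hd1) := by
      refine lt_of_le_of_ne (fun x hx => hHY hx) ?_
      intro h
      have h2 : (⟨_, hK0⟩ : KK p d hd1) ∈ (YY p d hd1).subgroupOf (KK p d hd1) := by
        rw [Subgroup.mem_subgroupOf]
        exact ⟨Subgroup.one_mem _, 1, by rw [left_inl, one_smul]; rfl⟩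
      rw [← h, Subgroup.mem_subgroupOf] at h2
      obtain ⟨e, _, he⟩ := h2
      have h3 := congrArg SemidirectProduct.left he
      rw [left_inr] at h3
      change (1 : Multiplicative (VV p d)) = Multiplicative.ofAdd (e0 p d hd1) at h3
      exact e0_ne p d hd1 (Multiplicative.ofAdd.injective h3).symm
    have h2 := hco.2 _ h1
    have h3 : (⟨_, hK1⟩ : KK p d hd1) ∈ (YY p d hd1).subgroupOf (KK p d hd1) := by
      rw [h2]; trivial
    rw [Subgroup.mem_subgroupOf] at h3
    obtain ⟨_, c, hc⟩ := h3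
    exact e1_not_mem p d hd c hc

end Cfsg.Agent.S5895
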