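import Mathlib
import Cfsg.Statements.S5349
import Cfsg.Agent.Lib.Helper9.PCore
import Cfsg.Agent.Lib.Helper9.ThreeTransp

set_option autoImplicit false
open Cfsg

namespace Cfsg.Agent.S5349

open Cfsg.Agent.Lib.Helper9 Cfsg.Agent.Lib.Helper9.ThreeTransp

/-- Let D be a conjugacy class of 3-transpositions generating the finite group G, with at least two members, and d a member of D. Then the set of members of D commuting with exactly the same members of D as d coincides with the set of members of D lying in the coset of d modulo the largest normal 2-subgroup of G, and also with the orbit of d under conjugation by that normal 2-subgroup. -/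
theorem result {G : Type*} [Group G] [Finite G] {D : Set G} (hD : Cfsg.IsThreeTranspositionClass D) (hD2 : ∃ a ∈ D, ∃ b ∈ D, a ≠ b) {d : G} (hd : d ∈ D) : {v : G | v ∈ D ∧ ∀ e ∈ D, Commute v e ↔ Commute d e} = {v : G | v ∈ D ∧ d⁻¹ * v ∈ Cfsg.pCore 2 G} ∧ {v : G | v ∈ D ∧ ∀ e ∈ D, Commute v e ↔ Commute d e} = {v : G | ∃ g ∈ Cfsg.pCore 2 G, v = g * d * g⁻¹} := by
  classical
  obtain ⟨hset, ⟨d0, hd0, hDconj⟩, hgen⟩ := hD
  haveI : Fact (Nat.Prime 2) := ⟨Nat.prime_two⟩
  have hmemD : ∀ x, x ∈ D ↔ IsConj d0 x := by
    intro x; rw [hDconj]; exact Iff.rfl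
  have hconj : ∀ g : G, ∀ e ∈ D, g * e * g⁻¹ ∈ D := by
    intro g e he
    rw [hmemD] at he ⊢
    exact he.trans (isConj_iff.mpr ⟨g, rfl⟩)
  haveI hO2n : (pCore 2 G).Normal := pCore_normal' 2
  have hO2p : IsPGroup 2 (pCore 2 G) := pCore_isPGroup' 2
  have hsq : ∀ e ∈ D, e * e = 1 := fun e he => sq_one hset he
  have hinv : ∀ e ∈ D, e⁻¹ = e := fun e he => inv_eq_of_mul_eq_one_right (hsq e he)
  -- L1
  have L1 : ∀ a ∈ D, ∀ b ∈ D, a⁻¹ * b ∈ pCore 2 G → ∀ e ∈ D, Commute a e → Commute b e := by
    intro a ha b hb hab e he hae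
    by_contra hnc
    have h3 : (b * e) ^ 3 = 1 := by
      rcases hset.2 b hb e he with h | h
      · exact absurd ((commute_iff_sq (hsq b hb) (hsq e he)).mpr h) hnc
      · exact h
    have hπ : (QuotientGroup.mk' (pCore 2 G)) a = (QuotientGroup.mk' (pCore 2 G)) b := by
      rw [QuotientGroup.mk'_apply, QuotientGroup.mk'_apply, QuotientGroup.eq]
      exact hab
    have h2 : (b * e) ^ 2 ∈ pCore 2 G := by
      rw [← QuotientGroup.eq_one_iff, ← QuotientGroup.mk'_apply, map_pow, map_mul, ← hπ,
        ← map_mul, ← map_pow, (commute_iff_sq (hsq a ha) (hsq e he)).mp hae, map_one]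
    have hbe : b * e ∈ pCore 2 G := by
      have e1 : b * e = ((b * e) ^ 2)⁻¹ := by
        have : (b * e) ^ 2 * (b * e) = 1 := by rw [← pow_succ]; exact h3
        exact eq_inv_of_mul_eq_one_right this
      rw [e1]
      exact Subgroup.inv_mem _ h2
    obtain ⟨k, hk⟩ := hO2p ⟨b * e, hbe⟩
    have hk' : (b * e) ^ 2 ^ k = 1 := by
      have := congrArg Subtype.val hk
      simpa using this
    have h1 : orderOf (b * e) ∣ Nat.gcd 3 (2 ^ k) :=
      Nat.dvd_gcd (orderOf_dvd_of_pow_eq_one h3) (orderOf_dvd_of_pow_eq_one hk')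
    have h4 : Nat.gcd 3 (2 ^ k) = 1 := by
      apply Nat.Coprime.pow_right
      norm_num
    rw [h4] at h1
    have h5 : b * e = 1 := orderOf_eq_one_iff.mp (Nat.dvd_one.mp h1)
    apply hnc
    have : b = e⁻¹ := eq_inv_of_mul_eq_one_left h5
    rw [this]
    exact (Commute.refl e).inv_left
  have hsymm : ∀ a b : G, a⁻¹ * b ∈ pCore 2 G → b⁻¹ * a ∈ pCore 2 G := by
    intro a b h
    have : b⁻¹ * a = (a⁻¹ * b)⁻¹ := by group
    rw [this]; exact Subgroup.inv_mem _ h
  -- the three sets
  have hAB : ∀ v, (∃ g ∈ pCore 2 G, v = g * d * g⁻¹) → v ∈ D ∧ d⁻¹ * v ∈ pCore 2 G := by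
    rintro v ⟨g, hg, rfl⟩
    refine ⟨hconj g d hd, ?_⟩
    have : d⁻¹ * (g * d * g⁻¹) = (d⁻¹ * g * d⁻¹⁻¹) * g⁻¹ := by group
    rw [this]
    exact Subgroup.mul_mem _ (hO2n.conj_mem g hg d⁻¹) (Subgroup.inv_mem _ hg)
  have hBV : ∀ v, (v ∈ D ∧ d⁻¹ * v ∈ pCore 2 G) →
      (v ∈ D ∧ ∀ e ∈ D, Commute v e ↔ Commute d e) := by
    rintro v ⟨hv, hdv⟩
    refine ⟨hv, fun e he => ⟨?_, ?_⟩⟩
    · exact L1 v hv d hd (hsymm d v hdv) e he
    · exact L1 d hd v hv hdv e he
  have hVA : ∀ v, (v ∈ D ∧ ∀ e ∈ D, Commute v e ↔ Commute d e) →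
      ∃ g ∈ pCore 2 G, v = g * d * g⁻¹ := by
    rintro v ⟨hv, hV⟩
    by_cases hvd : v = d
    · exact ⟨1, Subgroup.one_mem _, by rw [hvd]; group⟩
    have hdv : Commute d v := ((hV d hd).mpr (Commute.refl d)).symm
    have hdd := hsq d hd
    have hvv := hsq v hv
    obtain ⟨t, ht⟩ : ∃ t, t = d * v := ⟨_, rfl⟩
    have htt : t * t = 1 := by
      rw [ht]
      calc d * v * (d * v) = d * (v * d) * v := by group
        _ = d * (d * v) * v := by rw [hdv.eq]
        _ = (d * d) * (v * v) := by group
        _ = 1 := by rw [hdd, hvv, one_mul]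
    -- t lies in O_2(G)
    have htO : t ∈ pCore 2 G := by
      apply mem_pCore_two_of_conj htt
      intro g
      obtain ⟨d', hd'⟩ : ∃ d', d' = g * d * g⁻¹ := ⟨_, rfl⟩
      obtain ⟨v', hv'⟩ : ∃ v', v' = g * v * g⁻¹ := ⟨_, rfl⟩
      have hd'D : d' ∈ D := by rw [hd']; exact hconj g d hd
      have hv'D : v' ∈ D := by rw [hv']; exact hconj g v hv
      have ht' : g * t * g⁻¹ = d' * v' := by rw [ht, hd', hv']; group
      have hd'd' := hsq d' hd'D
      have hv'v' := hsq v' hv'D
      -- V_{d'}
      have hV' : ∀ e ∈ D, Commute v' e ↔ Commute d' e := by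
        intro e he
        have h1 := hV (g⁻¹ * e * g) (by have := hconj g⁻¹ e he; rwa [inv_inv] at this)
        have e1 : ∀ x : G, Commute (g * x * g⁻¹) e ↔ Commute x (g⁻¹ * e * g) := by
          intro x
          constructor
          · intro h
            show x * (g⁻¹ * e * g) = (g⁻¹ * e * g) * x
            calc x * (g⁻¹ * e * g) = g⁻¹ * ((g * x * g⁻¹) * e) * g := by group
              _ = g⁻¹ * (e * (g * x * g⁻¹)) * g := by rw [h.eq]
              _ = (g⁻¹ * e * g) * x := by group
          · intro h
            show (g * x * g⁻¹) * e = e * (g * x * g⁻¹)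
            calc (g * x * g⁻¹) * e = g * (x * (g⁻¹ * e * g)) * g⁻¹ := by group
              _ = g * ((g⁻¹ * e * g) * x) * g⁻¹ := by rw [h.eq]
              _ = e * (g * x * g⁻¹) := by group
        rw [hv', hd', e1, e1]
        exact h1
      have hd'v' : Commute d' v' := ((hV' d' hd'D).mpr (Commute.refl d')).symm
      rw [ht']
      by_cases hcase : Commute d d'
      · -- all four commute
        have h1 : Commute v d' := (hV d' hd'D).mpr hcase
        have h2 : Commute v' d := (hV' d hd).mpr hcase.symm
        have h3 : Commute v' v := (hV' v hv).mpr h1.symm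
        have hc : Commute t (d' * v') := by
          rw [ht]
          exact (hcase.mul_right h2.symm).mul_left (h1.mul_right h3.symm)
        have : (t * (d' * v')) ^ 2 = 1 := by
          rw [hc.mul_pow, pow_two, pow_two, htt, one_mul]
          calc d' * v' * (d' * v') = d' * (v' * d') * v' := by group
            _ = d' * (d' * v') * v' := by rw [hd'v'.eq]
            _ = (d' * d') * (v' * v') := by group
            _ = 1 := by rw [hd'd', hv'v', one_mul]
        calc (t * (d' * v')) ^ 4 = ((t * (d' * v')) ^ 2) ^ 2 := by rw [← pow_mul]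
          _ = 1 := by rw [this, one_pow]
      · -- the S_4 configurations
        have hn1 : ¬ Commute v d' := fun h => hcase ((hV d' hd'D).mp h)
        have hn2 : ¬ Commute d v' := fun h => hcase ((hV' d hd).mp h.symm).symm
        have hn3 : ¬ Commute v v' := fun h => hn2 ((hV v' hv'D).mp h)
        have b1 : d * d' * d = d' * d * d' := by
          rcases commute_or_braid hset hd hd'D with h | h
          · exact absurd h hcase
          · exact h
        have b2 : v * d' * v = d' * v * d' := by
          rcases commute_or_braid hset hv hd'D with h | h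
          · exact absurd h hn1
          · exact h
        have b3 : d * v' * d = v' * d * v' := by
          rcases commute_or_braid hset hd hv'D with h | h
          · exact absurd h hn2
          · exact h
        have b4 : v * v' * v = v' * v * v' := by
          rcases commute_or_braid hset hv hv'D with h | h
          · exact absurd h hn3
          · exact h
        have w1 := word1 hdv.eq b1 b2
        have w2 := word1 hdv.eq b3 b4
        rw [← ht] at w1 w2
        obtain ⟨v2, hv2⟩ : ∃ v2, v2 = t * d' * t := ⟨_, rfl⟩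
        obtain ⟨d2, hd2⟩ : ∃ d2, d2 = t * v' * t := ⟨_, rfl⟩
        rw [← hv2] at w1
        rw [← hd2] at w2
        have hti : t⁻¹ = t := inv_eq_of_mul_eq_one_right htt
        have hv2D : v2 ∈ D := by
          have := hconj t d' hd'D
          rw [hti] at this
          rw [hv2]; exact this
        have hd2D : d2 ∈ D := by
          have := hconj t v' hv'D
          rw [hti] at this
          rw [hd2]; exact this
        have c1 : Commute d' v2 := w1
        have c2 : Commute v' d2 := w2
        have c3 : Commute v' v2 := (hV' v2 hv2D).mpr c1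
        have c4 : Commute d' d2 := (hV' d2 hd2D).mp c2
        have c5 : Commute (d' * v') (v2 * d2) :=
          (c1.mul_right c4).mul_left (c3.mul_right c2)
        have e1 : t * (d' * v') * t = v2 * d2 := by
          rw [hv2, hd2]
          calc t * (d' * v') * t = t * d' * (t * t) * v' * t := by rw [htt]; group
            _ = t * d' * t * (t * v' * t) := by group
        have hv2v2 := hsq v2 hv2D
        have hd2d2 := hsq d2 hd2D
        have c6 : Commute v2 d2 := by
          show v2 * d2 = d2 * v2
          rw [hv2, hd2]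
          calc t * d' * t * (t * v' * t) = t * d' * (t * t) * v' * t := by group
            _ = t * (d' * v') * t := by rw [htt]; group
            _ = t * (v' * d') * t := by rw [hd'v'.eq]
            _ = t * v' * (t * t) * d' * t := by rw [htt]; group
            _ = t * v' * t * (t * d' * t) := by group
        have e2 : (t * (d' * v')) ^ 2 = (v2 * d2) * (d' * v') := by
          rw [pow_two, ← e1]; group
        have e3 : ((v2 * d2) * (d' * v')) ^ 2 = 1 := by
          rw [c5.symm.mul_pow, pow_two, pow_two]
          have h1 : v2 * d2 * (v2 * d2) = 1 := by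
            calc v2 * d2 * (v2 * d2) = v2 * (d2 * v2) * d2 := by group
              _ = v2 * (v2 * d2) * d2 := by rw [c6.eq]
              _ = (v2 * v2) * (d2 * d2) := by group
              _ = 1 := by rw [hv2v2, hd2d2, one_mul]
          have h2 : d' * v' * (d' * v') = 1 := by
            calc d' * v' * (d' * v') = d' * (v' * d') * v' := by group
              _ = d' * (d' * v') * v' := by rw [hd'v'.eq]
              _ = (d' * d') * (v' * v') := by group
              _ = 1 := by rw [hd'd', hv'v', one_mul]
          rw [h1, h2, one_mul]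
        calc (t * (d' * v')) ^ 4 = ((t * (d' * v')) ^ 2) ^ 2 := by rw [← pow_mul]
          _ = 1 := by rw [e2, e3]
    -- an element of D not commuting with d
    obtain ⟨e, heD, hde⟩ : ∃ e ∈ D, ¬ Commute d e := by
      by_contra hcon
      push Not at hcon
      have hle : Subgroup.closure D ≤ Subgroup.centralizer ({d} : Set G) := by
        rw [Subgroup.closure_le]
        intro e he
        rw [SetLike.mem_coe, Subgroup.mem_centralizer_iff]
        intro y hy
        rw [Set.mem_singleton_iff] at hy
        rw [hy]; exact (hcon e he).eq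
      rw [hgen] at hle
      have hcen : ∀ g : G, g * d * g⁻¹ = d := by
        intro g
        have := (Subgroup.mem_centralizer_iff.mp (hle (Subgroup.mem_top g))) d rfl
        calc g * d * g⁻¹ = (d * g) * g⁻¹ := by rw [this]
          _ = d := by group
      apply hvd
      -- v is a conjugate of d
      have hd' := hd
      rw [hmemD] at hv hd'
      obtain ⟨c, hc⟩ := isConj_iff.mp (hd'.symm.trans hv)
      rw [← hc]; exact hcen c
    have hve : ¬ Commute v e := fun h => hde ((hV e heD).mp h)
    have b1 : d * e * d = e * d * e := by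
      rcases commute_or_braid hset hd heD with h | h
      · exact absurd h hde
      · exact h
    have b2 : v * e * v = e * v * e := by
      rcases commute_or_braid hset hv heD with h | h
      · exact absurd h hve
      · exact h
    have hee := hsq e heD
    have w := word2 hdd hvv hee hdv.eq b1 b2
    refine ⟨e * (d * v) * e, ?_, w.symm⟩
    have hei : e⁻¹ = e := inv_eq_of_mul_eq_one_right hee
    have := hO2n.conj_mem t htO e
    rw [hei, ht] at this
    exact this
  constructor
  · ext v
    simp only [Set.mem_setOf_eq]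
    exact ⟨fun h => hAB v (hVA v h), hBV v⟩
  · ext v
    simp only [Set.mem_setOf_eq]
    exact ⟨hVA v, fun h => hBV v (hAB v h)⟩

end Cfsg.Agent.S5349
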