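import Mathlib
-- Template for statement S2400 (row 2400; see /opt/grader/pristine/manifest.json for weights).
-- Copy to Cfsg/Agent/S2400.lean and replace the sorry. The statement below is byte-identical to the frozen
-- statement Cfsg.CfsgFrozen.S2400 (Cfsg/Statements/S2400.lean; the theorem Cfsg.lie4_steinberg_group_schur_multiplier_trivial);
-- the grader kernel-checks Cfsg.Agent.S2400.result against that frozen type. Keep the theorem IN THIS FILE
-- (a `result` declared elsewhere and merely imported here is not credited); helpers may live anywhere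
-- under Cfsg/Agent/.
import Cfsg.Statements.S2400
import Cfsg.Agent.S2398
import Cfsg.Agent.S2395
import Cfsg.Agent.Lib.Helper3.StS4
import Cfsg.Agent.Lib.Helper3.StB16
import Cfsg.Agent.Lib.Helper3.StU12
import Cfsg.Agent.Lib.Helper3.StV13
import Cfsg.Agent.Lib.Helper3.StV21
import Cfsg.Agent.Lib.Helper3.ChevData.E6Slstein
import Cfsg.Agent.Lib.Helper3.ChevData.E7Slstein
import Cfsg.Agent.Lib.Helper3.ChevData.B2Vhyp
import Cfsg.Agent.Lib.Helper3.ChevData.D4Vhyp

set_option autoImplicit false
open Cfsg
open Cfsg.Agent.Lib.Helper3.StU Cfsg.Agent.Lib.Helper3.StB Cfsg.Agent.Lib.Helper3.StV Cfsg.Agent.Lib.Helper3.ChevM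
  Cfsg.Agent.Lib.Helper3.StS

namespace Cfsg.Agent.S2400

/-- Over a finite field `K`, the group presented by Steinberg's relators (R1)–(R3) (the universal Chevalley group) of type E₆ or E₇, or of type B₂ or D₄ with `K` of more than two elements, has trivial Schur multiplier: every finite stem extension of it is an isomorphism (Schur multiplier described through stem extensions as in the definitions). Types G₂, F₄ and E₈ are not covered here. -/
theorem result {K : Type*} [Field K] [Fintype K] (e : Cfsg.Lie.ChevalleyDatum × ℕ)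
    (he : e ∈ [(Cfsg.Lie.chevE6, 0), (Cfsg.Lie.chevE7, 0), (Cfsg.Lie.chevB2, 2), (Cfsg.Lie.chevD4, 2)]) (hK : Fintype.card K ≠ e.2) :
    Cfsg.HasCyclicSchurMultiplier (e.1.SteinbergGroup K) 1 := by
  simp only [List.mem_cons, List.not_mem_nil, or_false] at he
  have hcard2 : 2 ≤ Fintype.card K := Fintype.one_lt_card
  rcases he with rfl | rfl | rfl | rfl
  · obtain ⟨e', -⟩ := cover_equiv_steinberg (F := K) commE6 stHypE6 (by decide +kernel)
    exact steinbergGroup_multiplier_one relE6 commE6 stHypE6 e'
      (fun σ hs hc => (cover_lift_unique_sl (F := K) slHypE6 σ hs hc e'.toMonoidHom).exists)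
  · obtain ⟨e', -⟩ := cover_equiv_steinberg (F := K) commE7 stHypE7 (by decide +kernel)
    exact steinbergGroup_multiplier_one relE7 commE7 stHypE7 e'
      (fun σ hs hc => (cover_lift_unique_sl (F := K) slHypE7 σ hs hc e'.toMonoidHom).exists)
  · have hK3 : 3 ≤ Fintype.card K := by
      have : Fintype.card K ≠ 2 := hK
      omega
    have hex : ∃ x : K, x ≠ 0 ∧ x ≠ 1 := by
      classical
      have hlt : ({0, 1} : Finset K).card < (Finset.univ : Finset K).card := by
        rw [Finset.card_univ]
        calc ({0, 1} : Finset K).card ≤ 2 := Finset.card_le_two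
          _ < Fintype.card K := by omega
      obtain ⟨v, -, hv⟩ := Finset.exists_mem_notMem_of_card_lt_card hlt
      simp only [Finset.mem_insert, Finset.mem_singleton, not_or] at hv
      exact ⟨v, hv.1, hv.2⟩
    have hperf : commutator (Cfsg.Lie.chevB2.SteinbergCover K) = ⊤ :=
      Cfsg.Agent.S2395.result Cfsg.Lie.chevB2 (by simp) (fun _ => hex)
    obtain ⟨e', -⟩ := cover_equiv_steinberg (F := K) commB2 stHypB2 (by decide +kernel)
    refine steinbergGroup_multiplier_one relB2 commB2 stHypB2 e' ?_
    intro Γ _ σ hs hc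
    by_cases h5 : 5 ≤ Fintype.card K
    · have hK5 : ∃ s : Finset K, 4 < s.card := ⟨Finset.univ, by rw [Finset.card_univ]; omega⟩
      exact (Cfsg.Agent.S2398.result (K := K) hK5 Cfsg.Lie.chevB2 (by simp) σ hs hc e'.toMonoidHom).exists
    · have h34 : Fintype.card K = 3 ∨ Fintype.card K = 4 := by omega
      rcases h34 with h3 | h4
      · exact (existsUnique_lift hperf (fun _ _ ψ' hs' hc' =>
          cover_split_B2_three (elems_of_card_three h3) (three_eq_zero_of_card h3) hperf ψ' hs' hc')
          σ hs hc e'.toMonoidHom).exists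
      · obtain ⟨P, hP⟩ := exists_primEl_of_card_four h4
        exact (existsUnique_lift hperf (fun _ _ ψ' hs' hc' =>
          cover_split_sep commB2 sepHypCB2 P hP (two_eq_zero_of_card h4) hperf ψ' hs' hc')
          σ hs hc e'.toMonoidHom).exists
  · have hK3 : 3 ≤ Fintype.card K := by
      have : Fintype.card K ≠ 2 := hK
      omega
    have hKD : Cfsg.Lie.chevD4 ∈ [Cfsg.Lie.chevB2, Cfsg.Lie.chevG2] → ∃ x : K, x ≠ 0 ∧ x ≠ 1 := by
      intro h
      exfalso
      simp only [List.mem_cons, List.not_mem_nil, or_false] at h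
      rcases h with h | h <;>
      · have := congrArg Cfsg.Lie.ChevalleyDatum.rank h
        revert this
        decide
    have hperf : commutator (Cfsg.Lie.chevD4.SteinbergCover K) = ⊤ :=
      Cfsg.Agent.S2395.result Cfsg.Lie.chevD4 (by simp) hKD
    obtain ⟨e', -⟩ := cover_equiv_steinberg (F := K) commD4 stHypD4 (by decide +kernel)
    refine steinbergGroup_multiplier_one relD4 commD4 stHypD4 e' ?_
    intro Γ _ σ hs hc
    by_cases h5 : 5 ≤ Fintype.card K
    · have hK5 : ∃ s : Finset K, 4 < s.card := ⟨Finset.univ, by rw [Finset.card_univ]; omega⟩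
      exact (Cfsg.Agent.S2398.result (K := K) hK5 Cfsg.Lie.chevD4 (by simp) σ hs hc e'.toMonoidHom).exists
    · have h34 : Fintype.card K = 3 ∨ Fintype.card K = 4 := by omega
      rcases h34 with h3 | h4
      · exact (existsUnique_lift hperf (fun _ _ ψ' hs' hc' =>
          cover_split_orth commD4 orthHypD4 (elems_of_card_three h3) (three_eq_zero_of_card h3) hperf ψ' hs' hc')
          σ hs hc e'.toMonoidHom).exists
      · obtain ⟨P, hP⟩ := exists_primEl_of_card_four h4
        exact (existsUnique_lift hperf (fun _ _ ψ' hs' hc' =>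
          cover_split_sep commD4 sepHypCD4 P hP (two_eq_zero_of_card h4) hperf ψ' hs' hc')
          σ hs hc e'.toMonoidHom).exists

end Cfsg.Agent.S2400
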