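import Mathlib
import Cfsg.Statements.S0444
import Cfsg.Agent.Lib.Helper1.ThreeTransp
import Cfsg.Agent.Lib.Helper1.DihedralIso

set_option autoImplicit false
set_option linter.style.haveILetI false
open Cfsg
open Cfsg.Agent.Lib.Helper1

namespace Cfsg.Agent.S0444

/-- The map from the dihedral group of order 6 to the symmetric group on three letters. -/
def dihToPerm : DihedralGroup 3 → Equiv.Perm (Fin 3)
  | DihedralGroup.r i => (finRotate 3) ^ i.val
  | DihedralGroup.sr i => Equiv.swap 0 1 * (finRotate 3) ^ i.val

theorem dihToPerm_mul : ∀ a b : DihedralGroup 3, dihToPerm (a * b) = dihToPerm a * dihToPerm b := by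
  decide

theorem dihToPerm_bij : Function.Bijective dihToPerm := by
  decide

/-- The dihedral group of order 6 is the symmetric group on three letters. -/
noncomputable def dihEquivPerm : DihedralGroup 3 ≃* Equiv.Perm (Fin 3) :=
  MulEquiv.ofBijective (MonoidHom.mk' dihToPerm dihToPerm_mul) dihToPerm_bij

/-- Two members of a set of 3-transpositions which do not commute generate a subgroup isomorphic to the symmetric group on three letters. -/
theorem result {G : Type*} [Group G] {E : Set G} (hE : Cfsg.IsThreeTranspositionSet E) {d e : G} (hd : d ∈ E) (he : e ∈ E) (h : ¬ Commute d e) : Nonempty (Subgroup.closure ({d, e} : Set G) ≃* Equiv.Perm (Fin 3)) := by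
  have hd2 := mul_self_of_orderOf_two (hE.1 d hd)
  have he2 := mul_self_of_orderOf_two (hE.1 e he)
  have h3 : (d * e) ^ 3 = 1 := by
    rcases hE.2 d hd e he with h2 | h3
    · exact absurd (commute_of_sq_eq_one hd2 he2 h2) h
    · exact h3
  have hne : d * e ≠ 1 := by
    intro h1
    apply h
    have : d = e := by
      have := eq_inv_of_mul_eq_one_left h1
      rwa [inv_eq_self_of_mul_self he2] at this
    rw [this]
  have hord : orderOf (d * e) = 3 := by
    haveI : Fact (Nat.Prime 3) := ⟨Nat.prime_three⟩
    exact orderOf_eq_prime h3 hne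
  obtain ⟨φ⟩ := DihedralIso.closure_equiv_dihedral d e (hE.1 d hd) (hE.1 e he) (by rw [hord]; norm_num)
  rw [hord] at φ
  exact ⟨φ.trans dihEquivPerm⟩

end Cfsg.Agent.S0444
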