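import Cfsg.Statements.S0827
import Mathlib
import Cfsg.Agent.Lib.Helper2.U32f

set_option autoImplicit false
open Cfsg

namespace Cfsg.Agent.S0827

/-- U_3(2) ≅ 3².Q_8: PSU_3(2) (form over the field with 4 elements) has a normal subgroup N which is elementary abelian of order 9 such that the quotient by N is isomorphic to the quaternion group of order 8. -/
theorem result {F : Type*} [Field F] [Fintype F] (hF : Fintype.card F = 4) : ∃ (N : Subgroup (Cfsg.PSU 3 F 2)) (_ : N.Normal), Nat.card N = 9 ∧ (∀ x ∈ N, x ^ 3 = 1) ∧ Nonempty (Cfsg.PSU 3 F 2 ⧸ N ≃* QuaternionGroup 2) := by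
  classical
  open Cfsg.Agent.Lib.Helper2 Cfsg.Agent.Lib.Helper2.U32 Cfsg.Agent.Lib.Helper2.UT
    Cfsg.Agent.Lib.Helper2.SU3Inv in
  obtain ⟨σ, d⟩ := exists_four hF 3
  have hy := hyp4_std d
  have hρ := isSU_gen (F := F) 3 2
  haveI : Finite ↥(Cfsg.SU 3 F 2) := inferInstance
  have hS := card_SU32 hF
  have hΓ : Nat.card (↥(Cfsg.SU 3 F 2) ⧸ Subgroup.center ↥(Cfsg.SU 3 F 2)) = 72 :=
    (Cfsg.Agent.S0282.result hF).1
  obtain ⟨N, hN, hN9, hN3⟩ := exists_normal_nine hy.hσ hy.h hy.hnd hy.hdim hρ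
    (central_scalar_lin d.hF) hΓ (card_pts32 hF d)
  refine ⟨N, hN, hN9, hN3, ?_⟩
  have hQ : Nat.card (Cfsg.PSU 3 F 2 ⧸ N) = 8 := by
    have h1 := Subgroup.card_eq_card_quotient_mul_card_subgroup N
    rw [hN9] at h1
    have h2 : Nat.card (Cfsg.PSU 3 F 2) = 72 := hΓ
    have h3 : Nat.card (Cfsg.PSU 3 F 2 ⧸ N) * 9 = 72 := by rw [← h1, h2]
    omega
  haveI : Finite (Cfsg.PSU 3 F 2 ⧸ N) := Nat.finite_of_card_ne_zero (by rw [hQ]; norm_num)
  exact quot_quaternion hy hρ hS hQ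
    ((QuotientGroup.mk' N).comp (QuotientGroup.mk' (Subgroup.center ↥(Cfsg.SU 3 F 2))))
    (by
      rw [MonoidHom.coe_comp]
      exact Function.Surjective.comp (QuotientGroup.mk'_surjective N)
        (QuotientGroup.mk'_surjective _))

end Cfsg.Agent.S0827
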