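import Cfsg.Statements.S4218
import Mathlib
import Cfsg.Agent.Lib.Lead.FrattFaith
import Cfsg.Agent.Lib.Helper7.PSolvable

set_option autoImplicit false
open Cfsg

namespace Cfsg.Agent.S4218

/-- Let `G` be a finite `p`-solvable group, `N₀ = O_{p'}(G)`, `P₁ = O_{p',p}(G)`, and let `F ≤ P₁` be the preimage of the Frattini subgroup of `P₁/N₀`. Then an element `g` of `G` induces the identity on `P₁/F` by conjugation (that is, `g x g⁻¹ x⁻¹ ∈ F` for all `x ∈ P₁`) if and only if `g ∈ P₁`: the group `G/P₁` acts faithfully on `P₁/F`. -/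
theorem result {G : Type*} [Group G] [Finite G] {p : ℕ} [Fact p.Prime] (hG : Cfsg.IsPSolvable p G) (g : G) : (∀ x ∈ Cfsg.pPrimePCore p G, g * x * g⁻¹ * x⁻¹ ∈ ((frattini (↥(Cfsg.pPrimePCore p G) ⧸ (Cfsg.pPrimeCore p G).subgroupOf (Cfsg.pPrimePCore p G))).comap (QuotientGroup.mk' ((Cfsg.pPrimeCore p G).subgroupOf (Cfsg.pPrimePCore p G)))).map (Cfsg.pPrimePCore p G).subtype) ↔ g ∈ Cfsg.pPrimePCore p G := by
  classical
  set N₀ := Cfsg.pPrimeCore p G with hN₀
  set P₁ := Cfsg.pPrimePCore p G with hP₁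
  set π := QuotientGroup.mk' N₀ with hπ
  set R := Cfsg.pCore p (G ⧸ N₀) with hR
  haveI hRn : R.Normal := Cfsg.Agent.Lib.Lead.pCore_normal p
  have hRp : IsPGroup p R := Cfsg.Agent.Lib.Lead.pCore_isPGroup p
  have hP₁def : P₁ = R.comap π := rfl
  haveI hP₁n : P₁.Normal := by rw [hP₁def]; infer_instance
  have hQ : Cfsg.IsPSolvable p (G ⧸ N₀) := Cfsg.Agent.Lib.Helper7.isPSolvable_quotient hG N₀
  have hO : Cfsg.pPrimeCore p (G ⧸ N₀) = ⊥ := Cfsg.Agent.Lib.Helper4.pPrimeCore_quotient_self p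
  -- the map P₁ → R
  let φ : ↥P₁ →* ↥R := (π.comp P₁.subtype).codRestrict R (fun y =>
    Subgroup.mem_comap.mp (show (y : G) ∈ R.comap π from y.2))
  have hφval : ∀ y : ↥P₁, ((φ y : ↥R) : G ⧸ N₀) = π (y : G) := fun y => rfl
  have hφsurj : Function.Surjective φ := by
    rintro ⟨r, hr⟩
    obtain ⟨g, rfl⟩ := QuotientGroup.mk'_surjective N₀ r
    exact ⟨⟨g, by rw [hP₁def, Subgroup.mem_comap]; exact hr⟩, Subtype.ext rfl⟩
  have hker : φ.ker = N₀.subgroupOf P₁ := by
    ext y
    rw [MonoidHom.mem_ker, Subgroup.mem_subgroupOf]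
    constructor
    · intro h
      have h1 : π (y : G) = 1 := by
        have := congrArg Subtype.val h
        simpa [hφval] using this
      exact (QuotientGroup.eq_one_iff (y : G)).mp h1
    · intro h
      apply Subtype.ext
      rw [hφval]
      exact (QuotientGroup.eq_one_iff (y : G)).mpr h
  let e : (↥P₁ ⧸ N₀.subgroupOf P₁) ≃* ↥R :=
    (QuotientGroup.quotientMulEquivOfEq hker.symm).trans
      (QuotientGroup.quotientKerEquivOfSurjective φ hφsurj)
  have he : ∀ y : ↥P₁, e (QuotientGroup.mk' (N₀.subgroupOf P₁) y) = φ y := fun y => rfl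
  have hfr : (frattini (↥P₁ ⧸ N₀.subgroupOf P₁)).map e.toMonoidHom = frattini ↥R :=
    Cfsg.Agent.Lib.Helper9.frattini_map_mulEquiv e
  set Φ := (frattini ↥R).map R.subtype with hΦ
  set F := ((frattini (↥P₁ ⧸ N₀.subgroupOf P₁)).comap
      (QuotientGroup.mk' (N₀.subgroupOf P₁))).map P₁.subtype with hF
  -- plumbing
  have key : ∀ y : G, y ∈ P₁ → (y ∈ F ↔ π y ∈ Φ) := by
    intro y hy
    constructor
    · intro hyF
      obtain ⟨y', hy', rfl⟩ := Subgroup.mem_map.mp hyF
      rw [Subgroup.mem_comap] at hy'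
      have h1 : e (QuotientGroup.mk' (N₀.subgroupOf P₁) y') ∈ frattini ↥R := by
        rw [← hfr]
        exact Subgroup.mem_map_of_mem _ hy'
      rw [he] at h1
      rw [hΦ]
      exact Subgroup.mem_map.mpr ⟨φ y', h1, rfl⟩
    · intro hyΦ
      rw [hΦ] at hyΦ
      obtain ⟨r, hr, hry⟩ := Subgroup.mem_map.mp hyΦ
      rw [hF]
      refine Subgroup.mem_map.mpr ⟨⟨y, hy⟩, ?_, rfl⟩
      rw [Subgroup.mem_comap]
      have h1 : φ ⟨y, hy⟩ = r := by
        apply Subtype.ext
        rw [hφval]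
        exact hry.symm
      have h2 : e (QuotientGroup.mk' (N₀.subgroupOf P₁) ⟨y, hy⟩) ∈ frattini ↥R := by
        rw [he, h1]; exact hr
      rw [← hfr] at h2
      obtain ⟨z, hz, hze⟩ := Subgroup.mem_map.mp h2
      have : z = QuotientGroup.mk' (N₀.subgroupOf P₁) ⟨y, hy⟩ := e.injective hze
      rw [← this]
      exact hz
  constructor
  · intro h
    have h1 : π g ∈ R := by
      apply Cfsg.Agent.Lib.Lead.FrattFaith.mem_pCore_of_trivial_on_frattini_quotient hQ hO
      intro r hr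
      obtain ⟨x, rfl⟩ := QuotientGroup.mk'_surjective N₀ r
      have hx : x ∈ P₁ := by rw [hP₁def, Subgroup.mem_comap]; exact hr
      have h2 := h x hx
      have h3 : g * x * g⁻¹ * x⁻¹ ∈ P₁ := by
        have := hP₁n.conj_mem x hx g
        exact Subgroup.mul_mem _ this (Subgroup.inv_mem _ hx)
      have h4 := (key _ h3).mp h2
      have h4' : π g * π x * (π g)⁻¹ * (π x)⁻¹ ∈ Φ := by simpa using h4
      exact h4'
    rw [hP₁def, Subgroup.mem_comap]
    exact h1
  · intro hg x hx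
    have h3 : g * x * g⁻¹ * x⁻¹ ∈ P₁ := by
      have := hP₁n.conj_mem x hx g
      exact Subgroup.mul_mem _ this (Subgroup.inv_mem _ hx)
    apply (key _ h3).mpr
    have hgR : π g ∈ R := by
      have := hg
      rw [hP₁def, Subgroup.mem_comap] at this
      exact this
    have hxR : π x ∈ R := by
      have := hx
      rw [hP₁def, Subgroup.mem_comap] at this
      exact this
    have hnil : Group.IsNilpotent ↥R := hRp.isNilpotent
    have hcomm := Cfsg.Agent.Lib.Helper4.FStarQuot.commutator_le_frattini_map_subtype R hnil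
    have h5 : π g * π x * (π g)⁻¹ * (π x)⁻¹ ∈ ⁅R, R⁆ := by
      have := Subgroup.commutator_mem_commutator hgR hxR
      rwa [commutatorElement_def] at this
    have h6 := hcomm h5
    have h7 : π (g * x * g⁻¹ * x⁻¹) = π g * π x * (π g)⁻¹ * (π x)⁻¹ := by
      simp only [map_mul, map_inv]
    rw [h7]
    exact h6

end Cfsg.Agent.S4218
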