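import Mathlib
import Cfsg.Agent.Lib.Helper6.SylowGraph
import Cfsg.Statements.S3056

set_option autoImplicit false
open Cfsg Cfsg.Agent.Lib.Helper6
open scoped commutatorElement

namespace Cfsg.Agent.S3056

/-- Let G be a finite group and p a prime. Join two Sylow p-subgroups when they are distinct and meet nontrivially. This graph on the Sylow p-subgroups is disconnected (the Sylow p-subgroups are not chain-connected through nontrivial intersections) if and only if G has a strongly p-embedded subgroup in the classical sense: a proper subgroup H of order divisible by p such that H ∩ gHg⁻¹ has order prime to p for every g outside H. -/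
theorem result {G : Type*} [Group G] [Finite G]
    (p : ℕ) [Fact p.Prime] :
    ¬ Cfsg.IsSylowChainConnected p G ↔
      ∃ H : Subgroup G, H ≠ ⊤ ∧ p ∣ Nat.card H ∧
        ∀ g : G, g ∉ H → ¬ p ∣ Nat.card ↥(H ⊓ H.map (MulAut.conj g).toMonoidHom) := by
  rw [isSylowChainConnected_iff]
  constructor
  · intro hnc
    push Not at hnc
    obtain ⟨S, T, hST⟩ := hnc
    set H := componentStabilizer S with hH
    have hpG : p ∣ Nat.card G := by
      by_contra hnd
      apply hST
      have hS : (S : Subgroup G) = ⊥ := by
        have := S.card_eq_multiplicity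
        rw [Nat.factorization_eq_zero_of_not_dvd hnd, pow_zero] at this
        exact Subgroup.card_eq_one.mp this
      have hT : (T : Subgroup G) = ⊥ := by
        have := T.card_eq_multiplicity
        rw [Nat.factorization_eq_zero_of_not_dvd hnd, pow_zero] at this
        exact Subgroup.card_eq_one.mp this
      have : S = T := Sylow.ext (hS.trans hT.symm)
      rw [this]; exact Relation.ReflTransGen.refl
    have hSne := sylow_ne_bot hpG S
    have hSH : (S : Subgroup G) ≤ H := by
      intro s hs
      rw [hH, mem_componentStabilizer]
      have : s • S = S := Sylow.smul_eq_iff_mem_normalizer.mpr (Subgroup.le_normalizer hs)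
      rw [this]; exact Relation.ReflTransGen.refl
    have hSN : SENorm p H := by
      intro A hAH hA hAne n hn
      obtain ⟨c, hcH, R, _, hRp, hSR, hcR⟩ := exists_common_pGroup H (S : Subgroup G) A hSH hAH
        S.isPGroup' hA
      have hRS : R = S := S.is_maximal' hRp hSR
      rw [hRS, map_conj_le_iff, ← sylow_smul_eq_map_conj] at hcR
      have hc' : SylConn S (c⁻¹ • S) := (mem_componentStabilizer S c⁻¹).mp (H.inv_mem hcH)
      have hnA : A ≤ ((n • (c⁻¹ • S) : Sylow p G) : Subgroup G) := by
        rw [sylow_smul_eq_map_conj (c⁻¹ • S) n]
        have h1 := map_conj_eq_self_of_mem_normalizer hn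
        rw [← h1]
        exact Subgroup.map_mono hcR
      have hconn : SylConn S (n • (c⁻¹ • S)) := by
        by_cases he : (c⁻¹ • S : Sylow p G) = n • (c⁻¹ • S)
        · rw [← he]; exact hc'
        · refine Relation.ReflTransGen.tail hc' ⟨he, ?_⟩
          intro hb
          apply hAne
          rw [eq_bot_iff, ← hb]
          exact le_inf hcR hnA
      rw [smul_smul] at hconn
      have h2 : n * c⁻¹ ∈ H := (mem_componentStabilizer S _).mpr hconn
      have : n = (n * c⁻¹) * c := by group
      rw [this]
      exact H.mul_mem h2 hcH
    refine ⟨H, ?_, ?_, hSN.seconj⟩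
    · intro htop
      obtain ⟨g, hg⟩ := MulAction.exists_smul_eq G S T
      have : g ∈ H := by rw [htop]; trivial
      rw [hH, mem_componentStabilizer, hg] at this
      exact hST this
    · exact (dvd_card_of_isPGroup_ne_bot S.isPGroup' hSne).trans (Subgroup.card_dvd_of_le hSH)
  · rintro ⟨H, hH, hpH, hse⟩ hconn
    have hSN : SENorm p H := SEConj.senorm hse
    obtain ⟨P, hPH⟩ := hSN.exists_sylow_le hpH
    have hpG : p ∣ Nat.card G := hpH.trans (Subgroup.card_subgroup_dvd_card H)
    have hPne := sylow_ne_bot hpG P
    have hall : ∀ T : Sylow p G, SylConn P T → (T : Subgroup G) ≤ H := by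
      intro T hT
      induction hT with
      | refl => exact hPH
      | @tail b c _ hbc ih =>
        apply hSN.le_of_inf_ne_bot c.isPGroup'
        intro hb
        apply hbc.2
        rw [eq_bot_iff, ← hb]
        exact le_inf inf_le_right (inf_le_left.trans ih)
    apply hH
    rw [eq_top_iff]
    intro g _
    have h1 := hall (g • P) (hconn P (g • P))
    rw [sylow_smul_eq_map_conj] at h1
    exact hSN.mem_of_map_conj_le' hPH P.isPGroup' hPne h1

end Cfsg.Agent.S3056
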