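import Mathlib
import Cfsg.Agent.Lib.Helper6.StrEmb2
import Cfsg.Agent.Lib.Helper6.PPrimeCore
import Cfsg.Agent.Lib.Helper6.ElemAb
import Cfsg.Agent.Lib.Helper6.Conj2
import Cfsg.Agent.Lib.Helper3.Gen2
import Cfsg.Agent.Lib.Lead.CoprimeTools
import Cfsg.Agent.S3056
import Cfsg.Statements.S3058

set_option autoImplicit false
open Cfsg Cfsg.Agent.Lib.Helper6
open scoped commutatorElement

namespace Cfsg.Agent.S3058

/-- Let p be a prime and G a finite group whose Sylow p-subgroups are not chain-connected through nontrivial intersections (so G has a strongly p-embedded subgroup). If N and M are normal subgroups of G whose orders are both divisible by p, then the order of N ∩ M is divisible by p. Consequently, among the normal subgroups of G whose order is divisible by p there is a smallest one (the intersection of all of them). -/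
theorem result {G : Type*} [Group G] [Finite G]
    (p : ℕ) [Fact p.Prime] (hG : ¬ Cfsg.IsSylowChainConnected p G)
    (N M : Subgroup G) [N.Normal] [M.Normal] (hN : p ∣ Nat.card N) (hM : p ∣ Nat.card M) :
    p ∣ Nat.card ↥(N ⊓ M) := by
  have hp : p.Prime := Fact.out
  obtain ⟨H, hHtop, hpH, hconj⟩ := (Cfsg.Agent.S3056.result p).mp hG
  have hSE : SENorm p H := SEConj.senorm hconj
  obtain ⟨P, hPH⟩ := hSE.exists_sylow_le hpH
  by_contra hK
  set K : Subgroup G := N ⊓ M with hKdef
  have hKc : (Nat.card K).Coprime p := by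
    rw [Nat.coprime_comm, Nat.Prime.coprime_iff_not_dvd hp]; exact hK
  have hPK : (P : Subgroup G) ⊓ K = ⊥ := isPGroup_inf_coprime_eq_bot hKc P.isPGroup'
  have key : ∀ L : Subgroup G, L.Normal → p ∣ Nat.card L →
      ∃ a ∈ (P : Subgroup G) ⊓ L, orderOf a = p := by
    intro L hL hpL
    obtain ⟨x, hx⟩ := exists_prime_orderOf_dvd_card' p hpL
    have hxo : orderOf (x : G) = p := by rwa [Subgroup.orderOf_coe]
    have hA : IsPGroup p (Subgroup.zpowers (x : G)) :=
      isPGroup_zpowers_of_orderOf ⟨1, by rw [hxo, pow_one]⟩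
    obtain ⟨g, hg⟩ := exists_map_conj_le_sylow P hA
    refine ⟨g * x * g⁻¹, ⟨hg ⟨x, Subgroup.mem_zpowers _, by simp [MulAut.conj_apply]⟩,
      hL.conj_mem x x.2 g⟩, ?_⟩
    have := orderOf_injective (MulAut.conj g).toMonoidHom (MulAut.conj g).injective (x : G)
    simp only [MulEquiv.coe_toMonoidHom, MulAut.conj_apply] at this
    rw [this, hxo]
  obtain ⟨a, ha, hao⟩ := key N inferInstance hN
  obtain ⟨b, hb, hbo⟩ := key M inferInstance hM
  have hN' : N.Normal := inferInstance
  have hM' : M.Normal := inferInstance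
  have ha1 : a ≠ 1 := by
    intro h; rw [h, orderOf_one] at hao; exact hp.one_lt.ne hao
  have hb1 : b ≠ 1 := by
    intro h; rw [h, orderOf_one] at hbo; exact hp.one_lt.ne hbo
  -- a and b commute
  have hab : a * b = b * a := by
    have h1 : ⁅a, b⁆ ∈ (P : Subgroup G) ⊓ K := by
      refine ⟨?_, ?_, ?_⟩
      · exact Subgroup.commutator_mem_commutator ha.1 hb.1 |> fun h =>
          (Subgroup.commutator_le_self (P : Subgroup G)) h
      · rw [commutatorElement_def]
        have : a * b * a⁻¹ * b⁻¹ = a * (b * a⁻¹ * b⁻¹) := by group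
        rw [this]
        exact N.mul_mem ha.2 (hN'.conj_mem _ (N.inv_mem ha.2) b)
      · rw [commutatorElement_def]
        exact M.mul_mem (hM'.conj_mem _ hb.2 a) (M.inv_mem hb.2)
    rw [hPK, Subgroup.mem_bot] at h1
    exact commutatorElement_eq_one_iff_mul_comm.mp h1
  -- E = <a> ⊔ <b>
  set E : Subgroup G := Subgroup.zpowers a ⊔ Subgroup.zpowers b with hE
  have hzab : Subgroup.zpowers a ⊓ Subgroup.zpowers b = ⊥ := by
    rw [eq_bot_iff, ← hPK]
    apply le_inf
    · exact inf_le_left.trans (Subgroup.zpowers_le.mpr ha.1)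
    · exact le_inf (inf_le_left.trans (Subgroup.zpowers_le.mpr ha.2))
        (inf_le_right.trans (Subgroup.zpowers_le.mpr hb.2))
  have hnorm : Subgroup.zpowers a ≤ Subgroup.normalizer ((Subgroup.zpowers b : Subgroup G) : Set G) := by
    refine le_trans ?_ (Subgroup.centralizer_le_normalizer _)
    rw [Subgroup.zpowers_le, Subgroup.mem_centralizer_iff]
    intro y hy
    obtain ⟨n, rfl⟩ := Subgroup.mem_zpowers_iff.mp hy
    have hc : Commute a b := hab
    exact ((hc.zpow_right n).eq).symm
  have hEcard : Nat.card E = p ^ 2 := by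
    rw [hE, Cfsg.Agent.Lib.Lead.card_sup_of_disjoint _ _ hnorm hzab, Nat.card_zpowers,
      Nat.card_zpowers, hao, hbo, pow_two]
  have hEel : IsElementaryAbelian p E := by
    have : E = Subgroup.closure ({a, b} : Set G) := by
      rw [hE, Subgroup.zpowers_eq_closure, Subgroup.zpowers_eq_closure, ← Subgroup.closure_union]
      rfl
    rw [this]
    apply isElementaryAbelian_closure
    · intro x hx y hy
      rcases hx with rfl | rfl <;> rcases hy with rfl | rfl
      · rfl
      · exact hab
      · exact hab.symm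
      · rfl
    · intro x hx
      rcases hx with rfl | rfl
      · rw [← hao]; exact pow_orderOf_eq_one _
      · rw [← hbo]; exact pow_orderOf_eq_one _
  have hEH : E ≤ H := sup_le (Subgroup.zpowers_le.mpr (hPH ha.1)) (Subgroup.zpowers_le.mpr (hPH hb.1))
  -- K ≤ H by generation
  have hKH : K ≤ H := by
    have hKn : K.Normal := inferInstance
    have hEK : E ≤ Subgroup.normalizer ((K : Subgroup G) : Set G) := by
      rw [Subgroup.normalizer_eq_top_iff.mpr hKn]; exact le_top
    have hgen := Cfsg.Agent.Lib.Helper3.Gen.le_fixJoin hEel hEcard _ K le_rfl hK hEK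
    refine hgen.trans ?_
    unfold Cfsg.Agent.Lib.Helper3.Gen.fixJoin
    apply iSup_le
    rintro ⟨d, hdE, hd1⟩
    refine inf_le_right.trans ?_
    have hdp : d ^ p = 1 := (isElementaryAbelian_iff_forall.mp hEel).2 d hdE
    have hdo : orderOf d = p := by
      have h1 : orderOf d ∣ p := orderOf_dvd_of_pow_eq_one hdp
      rcases (Nat.dvd_prime hp).mp h1 with h | h
      · exact absurd (orderOf_eq_one_iff.mp h) hd1
      · exact h
    have hA : IsPGroup p (Subgroup.zpowers d) :=
      isPGroup_zpowers_of_orderOf ⟨1, by rw [hdo, pow_one]⟩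
    have hne : Subgroup.zpowers d ≠ ⊥ := by
      rw [Ne, Subgroup.zpowers_eq_bot]; exact hd1
    refine le_trans ?_ (hSE _ (Subgroup.zpowers_le.mpr (hEH hdE)) hA hne)
    intro c hc
    rw [Subgroup.mem_centralizer_singleton_iff] at hc
    apply mem_normalizer_of_forall_conj_mem
    intro s hs
    obtain ⟨n, rfl⟩ := Subgroup.mem_zpowers_iff.mp hs
    have hcomm : Commute c d := hc
    have : c * d ^ n * c⁻¹ = d ^ n := by
      have := (hcomm.zpow_right n).eq
      rw [this]; group
    rw [this]; exact hs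
  -- N ≤ H
  have hNH : N ≤ H := by
    intro g hg
    have hBp : IsPGroup p (Subgroup.zpowers b) :=
      isPGroup_zpowers_of_orderOf ⟨1, by rw [hbo, pow_one]⟩
    have hBne : Subgroup.zpowers b ≠ ⊥ := by
      rw [Ne, Subgroup.zpowers_eq_bot]; exact hb1
    apply hSE.mem_of_map_conj_le' (Subgroup.zpowers_le.mpr (hPH hb.1)) hBp hBne
    rw [Subgroup.zpowers_eq_closure, MonoidHom.map_closure, Subgroup.closure_le]
    rintro _ ⟨x, hx, rfl⟩
    rw [Set.mem_singleton_iff] at hx
    rw [hx]
    simp only [MulEquiv.coe_toMonoidHom, MulAut.conj_apply]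
    have e : g * b * g⁻¹ = ⁅g, b⁆ * b := by rw [commutatorElement_def]; group
    rw [e]
    apply H.mul_mem _ (hPH hb.1)
    apply hKH
    refine ⟨?_, ?_⟩
    · rw [commutatorElement_def]
      have : g * b * g⁻¹ * b⁻¹ = g * (b * g⁻¹ * b⁻¹) := by group
      rw [this]
      exact N.mul_mem hg (hN'.conj_mem _ (N.inv_mem hg) b)
    · rw [commutatorElement_def]
      exact M.mul_mem (hM'.conj_mem _ hb.2 g) (M.inv_mem hb.2)
  -- contradiction: a ∈ N ≤ H, N normal p-divisible
  apply hHtop
  rw [eq_top_iff]
  intro g _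
  have hAp : IsPGroup p (Subgroup.zpowers a) :=
    isPGroup_zpowers_of_orderOf ⟨1, by rw [hao, pow_one]⟩
  have hAne : Subgroup.zpowers a ≠ ⊥ := by
    rw [Ne, Subgroup.zpowers_eq_bot]; exact ha1
  apply hSE.mem_of_map_conj_le' (Subgroup.zpowers_le.mpr (hPH ha.1)) hAp hAne
  refine le_trans ?_ hNH
  exact (Subgroup.map_mono (Subgroup.zpowers_le.mpr ha.2)).trans (map_conj_eq_self_of_normal N g).le

end Cfsg.Agent.S3058
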