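import Cfsg.Statements.S3779
import Cfsg.Agent.S0033
import Cfsg.Agent.Lib.Helper7.HkkDefs
import Cfsg.Agent.Lib.Helper7.HkkK
import Cfsg.Agent.Lib.Helper7.HkkGlue
import Cfsg.Agent.Lib.Helper5.HkkP2
import Cfsg.Agent.Lib.Helper5.HkkP3
import Cfsg.Agent.Lib.Helper2.HkkP4
import Cfsg.Agent.Lib.Helper9.HkkP8

set_option autoImplicit false
open Cfsg

namespace Cfsg.Agent.S3779

open Cfsg.Agent.Lib.Helper7.Hkk in
/-- Let G be a finite group with an automorphism of prime order p fixing only the identity. Then G is nilpotent; if p = 2 then G is abelian, if p = 3 then G has class at most 2, and in general the class of G is at most ξ = 1 + (p−1) + (p−1)² + ⋯ + (p−1)^(n−1) with n = 2^(p−1) − 1 (the Higman–Kreknin–Kostrikin bound). -/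
theorem result {G : Type*} [Group G] [Finite G] {p : ℕ} (hp : p.Prime) (α : MulAut G) (hα : orderOf α = p) (hfpf : ∀ g : G, α g = g → g = 1) : (p = 2 → (⊤ : Subgroup G).lowerCentralSeries 1 = ⊥) ∧ (p = 3 → (⊤ : Subgroup G).lowerCentralSeries 2 = ⊥) ∧ (⊤ : Subgroup G).lowerCentralSeries (Finset.sum (Finset.range (2 ^ (p - 1) - 1)) (fun i => (p - 1) ^ i)) = ⊥ := by
  have : Fact p.Prime := ⟨hp⟩
  have hnil : Group.IsNilpotent G := Cfsg.Agent.S0033.result α hfpf p hp hα
  have hαp : α ^ p = 1 := hα ▸ pow_orderOf_eq_one α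
  obtain ⟨L, instL, φ, hφlie, hφp, hφfix, hexp, hgen⟩ := exists_assocLie α p hαp hfpf
  have hcop := Glue.card_coprime_of_fpf hp α hα hfpf
  obtain ⟨L', instL', ι, hinj, hιlie, ⟨gr⟩⟩ :=
    exists_grading φ hφlie hφp hφfix (Nat.card G) hexp hcop
  have key : ∀ N, lcs (⊤ : AddSubgroup L') N = ⊥ → (⊤ : Subgroup G).lowerCentralSeries N = ⊥ :=
    fun N h => Glue.lcs_eq_bot_of_le_succ hnil N
      (hgen N (Glue.lcs_eq_bot_of_injective ι hinj hιlie N h))
  have h3 : (⊤ : Subgroup G).lowerCentralSeries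
      (Finset.sum (Finset.range (2 ^ (p - 1) - 1)) (fun i => (p - 1) ^ i)) = ⊥ :=
    key _ (higman gr _ (kreknin gr))
  refine ⟨?_, ?_, h3⟩
  · intro h2
    subst h2
    simpa using h3
  · intro h3'
    exact key 2 (class_three h3' gr)

end Cfsg.Agent.S3779
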