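import Mathlib
import Cfsg.Statements.S5093
import Cfsg.Agent.Lib.Helper9.Hyperfocal3
import Cfsg.Agent.Lib.Helper9.FusionFocal
import Cfsg.Agent.S5076
import Cfsg.Agent.S5092

set_option autoImplicit false
open Cfsg

namespace Cfsg.Agent.S5093

open Cfsg.Agent.Lib.Helper9 Cfsg.Agent.Lib.Helper6 Cfsg.FusionSystem in
/-- Hyperfocal subgroup Theorem: for a finite group G with Sylow p-subgroup S, the hyperfocal subgroup of the fusion system of G on S equals S ∩ O^p(G), where O^p(G) is the subgroup generated by the elements of order prime to p. -/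
theorem result {G : Type*} [Group G] [Finite G] (p : ℕ) [Fact p.Prime] (S : Sylow p G) : (Cfsg.groupFusionSystem (S : Subgroup G)).hyperfocalSubgroup p = (S : Subgroup G) ⊓ Cfsg.pResidual p G := by
  apply le_antisymm
  · exact le_inf (hyperfocalSubgroup_le _ p) (hyperfocal_le_pResidual p _)
  · haveI : (pResidual p G).Normal := inferInstance
    obtain ⟨T, hT⟩ := exists_sylow_map_eq_inf S (pResidual p G)
    have hsat : (groupFusionSystem (T : Subgroup ↥(pResidual p G))).IsSaturated p :=
      Cfsg.Agent.S5076.result p T
    have h92 := Cfsg.Agent.S5092.result p T.isPGroup' _ hsat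
    have h1 : (T : Subgroup ↥(pResidual p G)) ≤ commutator ↥(pResidual p G) :=
      isPGroup_le_commutator_of_pResidual_eq_top (pResidual_pResidual_eq_top (G := G) p) (T : Subgroup ↥(pResidual p G)) T.isPGroup'
    have h2 : (T : Subgroup ↥(pResidual p G)) ≤ (T : Subgroup ↥(pResidual p G)).focalSubgroup := by
      rw [← Subgroup.commutator_inf_eq_focalSubgroup]
      exact le_inf h1 le_rfl
    have h3 := focalSubgroup_le_fs_focal (T : Subgroup ↥(pResidual p G))
    have h4 := h2.trans h3
    rw [h92] at h4
    have h5 := le_of_le_sup_commutator (p := p) (T : Subgroup ↥(pResidual p G)) _ T.isPGroup'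
      (hyperfocalSubgroup_le _ p) (hyperfocalSubgroup_normalized _ p) h4
    rw [← hT]
    refine (Subgroup.map_mono h5).trans ?_
    apply hyperfocal_map_le
    rw [hT]
    exact inf_le_left

end Cfsg.Agent.S5093
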