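import Mathlib
import Cfsg.Agent.Lib.Helper6.Isolated
import Cfsg.Statements.S2969

set_option autoImplicit false
open Cfsg Cfsg.Agent.Lib.Helper6
open scoped commutatorElement

namespace Cfsg.Agent.S2969

/-- Let G be a finite group, p a prime and x ∈ G an element of p-power order which is isolated in G. If R is a p-subgroup of G containing x, then N_G(R) ≤ C_G(x); in particular x lies in the centre of R. Moreover, if x lies in a normal subgroup N of a subgroup H of G, then H = N·C_H(x). -/
theorem result {G : Type*} [Group G] [Finite G] {p : ℕ} [Fact p.Prime] (x : G) (hx : ∃ k : ℕ, orderOf x = p ^ k) (hiso : Cfsg.IsIsolated x) : (∀ R : Subgroup G, IsPGroup p ↥R → x ∈ R → Subgroup.normalizer (R : Set G) ≤ Subgroup.centralizer ({x} : Set G)) ∧ (∀ H N : Subgroup G, N ≤ H → H ≤ Subgroup.normalizer (N : Set G) → x ∈ N → N ⊔ (H ⊓ Subgroup.centralizer ({x} : Set G)) = H) := by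
  constructor
  · intro R hR hxR g hg
    have h1 : g * x * g⁻¹ ∈ R := (Subgroup.mem_normalizer_iff.mp hg x).mp hxR
    have h2 := isolated_conj_pow_eq R hR x hxR hx hiso g 1 (by simpa using h1)
    rw [pow_one] at h2
    rw [Subgroup.mem_centralizer_singleton_iff]
    calc g * x = (g * x * g⁻¹) * g := by group
      _ = x * g := by rw [h2]
  · intro H N hNH hHN hxN
    apply le_antisymm
    · exact sup_le hNH inf_le_left
    · intro h hh
      have hz : h * x * h⁻¹ ∈ N := (Subgroup.mem_normalizer_iff.mp (hHN hh) x).mp hxN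
      have hzord : ∃ k : ℕ, orderOf (h * x * h⁻¹) = p ^ k := by
        obtain ⟨j, hj⟩ := hx
        refine ⟨j, ?_⟩
        rw [← hj]
        have : h * x * h⁻¹ = MulAut.conj h x := by simp [MulAut.conj_apply]
        rw [this, MulEquiv.orderOf_eq]
      obtain ⟨c, hcN, R, _, hRp, hAR, hBR⟩ := exists_common_pGroup N (Subgroup.zpowers x)
        (Subgroup.zpowers (h * x * h⁻¹))
        (by rw [Subgroup.zpowers_le]; exact hxN) (by rw [Subgroup.zpowers_le]; exact hz)
        (isPGroup_zpowers_of_orderOf hx) (isPGroup_zpowers_of_orderOf hzord)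
      have hxR : x ∈ R := hAR (Subgroup.mem_zpowers x)
      have hczR : c * (h * x * h⁻¹) * c⁻¹ ∈ R :=
        hBR ⟨_, Subgroup.mem_zpowers _, by simp [MulAut.conj_apply]⟩
      have h2 : c * (h * x * h⁻¹) * c⁻¹ = (c * h) * x ^ 1 * (c * h)⁻¹ := by rw [pow_one]; group
      rw [h2] at hczR
      have h3 := isolated_conj_pow_eq R hRp x hxR hx hiso (c * h) 1 hczR
      rw [pow_one] at h3
      have hch : c * h ∈ H ⊓ Subgroup.centralizer ({x} : Set G) := by
        refine Subgroup.mem_inf.mpr ⟨H.mul_mem (hNH hcN) hh, ?_⟩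
        rw [Subgroup.mem_centralizer_singleton_iff]
        calc c * h * x = ((c * h) * x * (c * h)⁻¹) * (c * h) := by group
          _ = x * (c * h) := by rw [h3]
      have : h = c⁻¹ * (c * h) := by group
      rw [this]
      exact Subgroup.mul_mem _ (Subgroup.mem_sup_left (N.inv_mem hcN)) (Subgroup.mem_sup_right hch)

end Cfsg.Agent.S2969
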