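import Mathlib
import Cfsg.Agent.Lib.Helper6.Isolated
import Cfsg.Agent.Lib.Helper6.CyclicSylow
import Cfsg.Statements.S2970

set_option autoImplicit false
open Cfsg Cfsg.Agent.Lib.Helper6
open scoped commutatorElement

namespace Cfsg.Agent.S2970

/-- Let G be a finite group, p a prime and x ∈ G an element of p-power order which is isolated in G. Then the image of x in any quotient G ⧸ N is isolated in G ⧸ N; and if x ≠ 1 and the Sylow p-subgroups of G are cyclic, then G has a normal p-complement. -/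
theorem result {G : Type*} [Group G] [Finite G] {p : ℕ} [Fact p.Prime] (x : G) (hx : ∃ k : ℕ, orderOf x = p ^ k) (hiso : Cfsg.IsIsolated x) : (∀ (N : Subgroup G) [N.Normal], Cfsg.IsIsolated (QuotientGroup.mk x : G ⧸ N)) ∧ (x ≠ 1 → (∀ P : Sylow p G, IsCyclic ↥(P : Subgroup G)) → Cfsg.HasNormalPComplement p G) := by
  constructor
  · intro N _ gbar hcomm
    obtain ⟨g, rfl⟩ := QuotientGroup.mk_surjective gbar
    set xb : G ⧸ N := QuotientGroup.mk x with hxb
    set z := g * x * g⁻¹ with hz
    have hzb : (QuotientGroup.mk g : G ⧸ N) * xb * (QuotientGroup.mk g : G ⧸ N)⁻¹ = QuotientGroup.mk z := by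
      simp [hz, hxb]
    rw [hzb] at hcomm ⊢
    set K : Subgroup G := (Subgroup.centralizer ({xb} : Set (G ⧸ N))).comap (QuotientGroup.mk' N) with hK
    have hxK : x ∈ K := by
      rw [hK, Subgroup.mem_comap, Subgroup.mem_centralizer_singleton_iff]
      rfl
    have hzK : z ∈ K := by
      rw [hK, Subgroup.mem_comap, Subgroup.mem_centralizer_singleton_iff]
      exact hcomm.symm
    have hzord : ∃ k : ℕ, orderOf z = p ^ k := by
      obtain ⟨j, hj⟩ := hx
      refine ⟨j, ?_⟩
      rw [← hj]
      have : z = MulAut.conj g x := by simp [MulAut.conj_apply, hz]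
      rw [this, MulEquiv.orderOf_eq]
    obtain ⟨c, hcK, R, _, hRp, hAR, hBR⟩ := exists_common_pGroup K (Subgroup.zpowers x)
      (Subgroup.zpowers z)
      (by rw [Subgroup.zpowers_le]; exact hxK) (by rw [Subgroup.zpowers_le]; exact hzK)
      (isPGroup_zpowers_of_orderOf hx) (isPGroup_zpowers_of_orderOf hzord)
    have hxR : x ∈ R := hAR (Subgroup.mem_zpowers x)
    have hczR : c * z * c⁻¹ ∈ R :=
      hBR ⟨_, Subgroup.mem_zpowers _, by simp [MulAut.conj_apply]⟩
    have h2 : c * z * c⁻¹ = (c * g) * x ^ 1 * (c * g)⁻¹ := by rw [pow_one, hz]; group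
    rw [h2] at hczR
    have h3 := isolated_conj_pow_eq R hRp x hxR hx hiso (c * g) 1 hczR
    rw [← h2, pow_one] at h3
    -- z = c⁻¹ x c
    have h4 : z = c⁻¹ * x * c := by rw [← h3]; group
    have hcb : (QuotientGroup.mk c : G ⧸ N) * xb = xb * (QuotientGroup.mk c : G ⧸ N) := by
      rw [hK, Subgroup.mem_comap, Subgroup.mem_centralizer_singleton_iff] at hcK
      exact hcK
    rw [h4]
    have : (QuotientGroup.mk (c⁻¹ * x * c) : G ⧸ N) = (QuotientGroup.mk c : G ⧸ N)⁻¹ * xb * (QuotientGroup.mk c : G ⧸ N) := by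
      simp [hxb]
    rw [this, mul_assoc, ← hcb, ← mul_assoc, inv_mul_cancel, one_mul]
  · intro hx1 hcyc
    obtain ⟨P, hP⟩ := IsPGroup.exists_le_sylow (isPGroup_zpowers_of_orderOf hx)
    have hxP : x ∈ (P : Subgroup G) := hP (Subgroup.mem_zpowers x)
    have hN : ∀ g ∈ Subgroup.normalizer ((P : Subgroup G) : Set G), g * x = x * g := by
      intro g hg
      have h1 : g * x * g⁻¹ ∈ (P : Subgroup G) := (Subgroup.mem_normalizer_iff.mp hg x).mp hxP
      have h2 := isolated_conj_pow_eq (P : Subgroup G) P.isPGroup' x hxP hx hiso g 1 (by simpa using h1)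
      rw [pow_one] at h2
      calc g * x = (g * x * g⁻¹) * g := by group
        _ = x * g := by rw [h2]
    have hNC := normalizer_le_centralizer_of_cyclic_of_fixed P (hcyc P) x hxP hx1 hN
    exact ⟨P, (MonoidHom.transferSylow P hNC).ker, inferInstance,
      MonoidHom.ker_transferSylow_isComplement' P hNC⟩

end Cfsg.Agent.S2970
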