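import Mathlib
import Cfsg.Agent.S2859
import Cfsg.Agent.S2845
import Cfsg.Agent.S2909
import Cfsg.Agent.Lib.Helper7.FrattiniAct
import Cfsg.Agent.Lib.Helper7.Wielandt5
import Cfsg.Agent.Lib.Helper6.SubnCl
import Cfsg.Agent.Lib.Lead.CoprimeAction3
import Cfsg.Agent.Lib.Helper6.Kieler
import Cfsg.Agent.Lib.Helper6.YL2
import Cfsg.Agent.Lib.Lead.Frattini
import Cfsg.Statements.S2864

set_option autoImplicit false
open Cfsg

namespace Cfsg.Agent.S2864

open Cfsg.Agent.Lib.Helper6 Cfsg.Agent.Lib.Helper7 Cfsg.Agent.Lib.Lead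
open scoped commutatorElement

section helpers

variable {G : Type*} [Group G] [Finite G] {p : ℕ} [Fact p.Prime]

/-- if `O^p(D) ≤ X ⊴ D`, then every subgroup between `X` and `D` is subnormal in `D` -/
theorem subnIn_of_pResSub_le {X H D : Subgroup G} (hXD : X ≤ D)
    (hDX : D ≤ Subgroup.normalizer (X : Set G)) (hres : pResSub p D ≤ X) (hXH : X ≤ H)
    (hHD : H ≤ D) : SubnIn H D := by
  rw [subnIn_iff]
  refine ⟨hHD, ?_⟩
  haveI hn : (X.subgroupOf D).Normal := (Subgroup.normal_subgroupOf_iff_le_normalizer hXD).mpr hDX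
  have h1 : pResidual p ↥D ≤ X.subgroupOf D := by
    intro x hx
    rw [Subgroup.mem_subgroupOf]
    apply hres
    rw [← pResSub_eq]
    exact ⟨x, hx, rfl⟩
  have h2 : IsPGroup p (↥D ⧸ X.subgroupOf D) := (pResidual_le_iff _).mp h1
  have h3 : ((H.subgroupOf D).map (QuotientGroup.mk' (X.subgroupOf D))).IsSubnormal :=
    isSubnormal_of_isPGroup h2 _
  have h4 := h3.comap (QuotientGroup.mk' (X.subgroupOf D))
  rw [Subgroup.comap_map_eq, QuotientGroup.ker_mk'] at h4
  have h5 : H.subgroupOf D ⊔ X.subgroupOf D = H.subgroupOf D := by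
    apply sup_eq_left.mpr
    exact Subgroup.comap_mono hXH
  rwa [h5] at h4

omit [Finite G] [Fact p.Prime] in
/-- a subnormal `p`-subgroup of `L` lies in `O_p(L)` -/
theorem le_pCoreOf_of_subnIn {P L : Subgroup G} (h : SubnIn P L) (hP : IsPGroup p P) :
    P ≤ pCoreOf p L := by
  rw [subnIn_iff] at h
  have h1 : P.subgroupOf L ≤ pCore p ↥L :=
    le_pCore_of_isSubnormal_of_isPGroup h.2 hP.comap_subtype
  intro x hx
  exact ⟨⟨x, h.1 hx⟩, h1 (Subgroup.mem_subgroupOf.mpr hx), rfl⟩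

/-- the normalizer of a nontrivial `p`-subgroup, if parabolic, lies in `𝓛_G` -/
theorem normalizer_mem_charPSubgroups (S : Sylow p G) (Q : Subgroup G) (hQp : IsPGroup p ↥Q)
    (hQ1 : Q ≠ ⊥) (hQ : Cfsg.IsLarge Q) (I : Subgroup G) (hI1 : I ≠ ⊥) (hIp : IsPGroup p ↥I)
    (hS : (S : Subgroup G) ≤ Subgroup.normalizer (I : Set G)) :
    Subgroup.normalizer (I : Set G) ∈ charPSubgroups p G := by
  set N := Subgroup.normalizer (I : Set G) with hN
  have hpar : IsParabolic p N := ⟨S, hS⟩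
  have hIc : I ≤ pCoreOf p N := Cfsg.Agent.S2859.le_pCoreOf' Subgroup.le_normalizer le_rfl hIp
  have hne : pCore p ↥N ≠ ⊥ := by
    intro h
    apply hI1
    rw [eq_bot_iff]
    intro x hx
    obtain ⟨y, hy, rfl⟩ := hIc hx
    rw [h] at hy
    have hy' : y = 1 := hy
    rw [hy']; simp
  exact ⟨hne, (Cfsg.Agent.S2845.result Q hQp hQ1 hQ).2.1 N hpar hne⟩

omit [Fact p.Prime] in
theorem exists_max_charP_ge {N : Subgroup G} (hN : N ∈ charPSubgroups p G) :
    ∃ X ∈ maxCharPSubgroups p G, N ≤ X := by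
  let 𝒮 : Set (Subgroup G) := {Y | N ≤ Y ∧ Y ∈ charPSubgroups p G}
  have hne : 𝒮.Nonempty := ⟨N, le_rfl, hN⟩
  obtain ⟨X, ⟨h1, h2⟩, hmax⟩ := WellFounded.has_min (wellFounded_gt (α := Subgroup G)) 𝒮 hne
  refine ⟨X, ⟨h2, ?_⟩, h1⟩
  intro Y hY hXY
  have hY' : Y ∈ 𝒮 := ⟨h1.trans hXY, hY⟩
  have := hmax Y hY'
  exact ((eq_or_lt_of_le hXY).resolve_right this).symm

theorem normalizer_le_dagger (S : Sylow p G) (Q : Subgroup G) (hQp : IsPGroup p ↥Q)
    (hQ1 : Q ≠ ⊥) (hQ : Cfsg.IsLarge Q) (M : Subgroup G) (hSM : (S : Subgroup G) ≤ M)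
    (hM : Cfsg.IsInFrakM p M) (I : Subgroup G) (hI1 : I ≠ ⊥) (hIp : IsPGroup p ↥I)
    (hMI : M ≤ Subgroup.normalizer ((I : Subgroup G) : Set G)) :
    Subgroup.normalizer (I : Set G) ≤
      M ⊔ Subgroup.centralizer (((Cfsg.largestPReducedOf p M) : Subgroup G) : Set G) := by
  have h1 := normalizer_mem_charPSubgroups S Q hQp hQ1 hQ I hI1 hIp (hSM.trans hMI)
  obtain ⟨X, hX, hNX⟩ := exists_max_charP_ge h1
  have := hM.2.2.1 X hX (hMI.trans hNX)
  rw [← this]; exact hNX

end helpers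



/-- Standing hypotheses: G a finite group, S a Sylow p-subgroup, Q a nontrivial large p-subgroup of G contained in S, M a subgroup containing S with the basic property (M ∈ 𝔐_G(S)); Y_M the largest p-reduced normal subgroup of M and M† = M·C_G(Y_M). Let I be a nontrivial normal p-subgroup of M and Y ≤ O_p(M†); let L be a subgroup of G containing Y and A a normal p-subgroup of L with I ≤ A ≤ M. If [Y, A] ≤ [I, A], then Y ≤ O_p(L). -/
theorem result {G : Type*} [Group G] [Finite G] {p : ℕ} [Fact p.Prime] (S : Sylow p G) (Q : Subgroup G) (hQp : IsPGroup p ↥Q) (hQ1 : Q ≠ ⊥) (hQS : Q ≤ (S : Subgroup G)) (hQ : Cfsg.IsLarge Q) (M : Subgroup G) (hSM : (S : Subgroup G) ≤ M) (hM : Cfsg.IsInFrakM p M) (I : Subgroup G) (hI1 : I ≠ ⊥) (hIp : IsPGroup p ↥I) (hIM : I ≤ M ∧ M ≤ Subgroup.normalizer ((I : Subgroup G) : Set G)) (Y : Subgroup G) (hY : Y ≤ (Cfsg.pCoreOf p (M ⊔ Subgroup.centralizer (((Cfsg.largestPReducedOf p M) : Subgroup G) : Set G)))) (L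 : Subgroup G) (hYL : Y ≤ L) (A : Subgroup G) (hAp : IsPGroup p ↥A) (hAL : A ≤ L ∧ L ≤ Subgroup.normalizer ((A : Subgroup G) : Set G)) (hIA : I ≤ A) (hAM : A ≤ M) (hc : ⁅Y, A⁆ ≤ ⁅I, A⁆) : Y ≤ (Cfsg.pCoreOf p L) := by
  set Md := M ⊔ Subgroup.centralizer (((Cfsg.largestPReducedOf p M) : Subgroup G) : Set G) with hMd
  have hNI : Subgroup.normalizer (I : Set G) ≤ Md :=
    normalizer_le_dagger S Q hQp hQ1 hQ M hSM hM I hI1 hIp hIM.2
  set X := L ⊓ Subgroup.centralizer (A : Set G) with hX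
  have hXMd : X ≤ Md := by
    refine le_trans ?_ hNI
    refine inf_le_right.trans ?_
    exact (Subgroup.centralizer_le hIA).trans (Subgroup.centralizer_le_normalizer _)
  set A' := ⁅A, A⁆ with hA'
  have hNA' : Subgroup.normalizer (A : Set G) ≤ Subgroup.normalizer (A' : Set G) :=
    (le_inf le_rfl le_rfl).trans (normalizer_inf_le_normalizer_commutator A A)
  have hLA' : L ≤ Subgroup.normalizer (A' : Set G) := hAL.2.trans hNA'
  set K := Cfsg.Agent.S2909.actKer A A' with hK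
  set D := L ⊓ K with hD
  have hLD : L ≤ Subgroup.normalizer (D : Set G) := by
    rw [Subgroup.le_normalizer_iff_commutator_le_right]
    refine le_inf ?_ ?_
    · exact (Subgroup.commutator_mono le_rfl inf_le_left).trans (by
        rw [Subgroup.commutator_le]; intro a ha b hb
        exact L.mul_mem (L.mul_mem (L.mul_mem ha hb) (L.inv_mem ha)) (L.inv_mem hb))
    · exact Cfsg.Agent.S2909.commutator_le_actKer (inf_le_right : D ≤ K) hAL.2 hLA'
  have hYD : Y ≤ D := by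
    refine le_inf hYL ?_
    refine Cfsg.Agent.S2909.le_actKer (hYL.trans hAL.2) (hYL.trans hLA') ?_
    exact hc.trans (Subgroup.commutator_mono hIA le_rfl)
  have hXD : X ≤ D := by
    refine le_inf inf_le_left ?_
    refine Cfsg.Agent.S2909.le_actKer (inf_le_left.trans hAL.2) (inf_le_left.trans hLA') ?_
    have : ⁅X, A⁆ = ⊥ := by
      rw [Subgroup.commutator_eq_bot_iff_le_centralizer]
      exact inf_le_right
    rw [this]; exact bot_le
  have hA'Φ : A' ≤ (frattini A).map A.subtype := by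
    rw [hA', ← Subgroup.map_subtype_commutator]
    exact Subgroup.map_mono (commutator_le_frattini_of_isPGroup hAp)
  have hres : pResSub p D ≤ X := by
    rw [pResSub_le_iff]
    intro g hg hcop
    refine ⟨hg.1, ?_⟩
    apply mem_centralizer_of_mem_trivOnFrattini A hAp g ?_ hcop
    rw [mem_trivOnFrattini]
    refine ⟨hAL.2 hg.1, ?_⟩
    intro k hk
    exact hA'Φ (hg.2.2 k hk)
  have hLX : L ≤ Subgroup.normalizer (X : Set G) := by
    refine le_trans (le_inf Subgroup.le_normalizer ?_) (normalizer_inf_le' L _)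
    exact hAL.2.trans (Cfsg.Agent.Lib.Helper6.normalizer_le_normalizer_centralizer A)
  have hDL : D ≤ L := inf_le_left
  have h1 : SubnIn (X ⊔ Y) D :=
    subnIn_of_pResSub_le (p := p) hXD (hDL.trans hLX) hres le_sup_left (sup_le hXD hYD)
  have h2 : SubnIn D L := SubnIn.of_normal hDL hLD
  set P := pCoreOf p Md with hP
  have hMdP : Md ≤ Subgroup.normalizer (P : Set G) :=
    Subgroup.le_normalizer.trans (Cfsg.Agent.S2859.normalizer_le_normalizer_pCoreOf p Md)
  have hYMd : Y ≤ Md := hY.trans (pCoreOf_le Md)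
  have h3 : SubnIn (P ⊓ (X ⊔ Y)) (X ⊔ Y) := by
    refine SubnIn.of_normal inf_le_right ?_
    refine le_trans (le_inf ?_ Subgroup.le_normalizer) (normalizer_inf_le' P _)
    exact (sup_le hXMd hYMd).trans hMdP
  have h4 : IsPGroup p ↥(P ⊓ (X ⊔ Y)) := (pCoreOf_isPGroup p Md).to_le inf_le_left
  have h5 := le_pCoreOf_of_subnIn ((h3.trans h1).trans h2) h4
  exact (le_inf hY le_sup_right).trans h5

end Cfsg.Agent.S2864
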