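import Cfsg.Statements.S0695
import Mathlib
import Cfsg.Agent.Lib.Lead.PermReg

set_option autoImplicit false
open Cfsg
open Cfsg.Agent.Lib.Lead

namespace Cfsg.Agent.S0695

/-- A regular normal subgroup of a doubly primitive group of finite degree at least 2 is an elementary abelian 2-group (and the degree is a power of 2), unless the degree is 3. -/
theorem result {G : Type*} [Group G] {X : Type*} [Fintype X] [MulAction G X] (hX : 2 ≤ Fintype.card X) (h2 : MulAction.IsMultiplyPreprimitive G X 2) (N : Subgroup G) [N.Normal] (htrans : MulAction.IsPretransitive N X) (hreg : ∀ x : X, MulAction.stabilizer N x = ⊥) : Fintype.card X = 3 ∨ (IsMulCommutative N ∧ (∀ n ∈ N, n ^ 2 = 1) ∧ ∃ m : ℕ, Fintype.card X = 2 ^ m) := by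
  classical
  have hne : Nonempty X := by
    rw [← Fintype.card_pos_iff]; omega
  obtain ⟨a⟩ := hne
  have hp : MulAction.IsPreprimitive (fixingSubgroup G ({a} : Set X)) (SubMulAction.ofFixingSubgroup G ({a} : Set X)) :=
    h2.isPreprimitive_ofFixingSubgroup (by simp; rfl)
  by_cases hall : ∀ n ∈ N, n ^ 2 = 1
  · right
    refine ⟨⟨⟨fun x y => ?_⟩⟩, hall, ?_⟩
    · have hx := hall x x.2
      have hy := hall y y.2
      have hxy := hall (x * y) (N.mul_mem x.2 y.2)
      apply Subtype.ext
      change (x : G) * y = y * x
      have e1 : (x : G)⁻¹ = x := inv_eq_of_mul_eq_one_left (by rw [← pow_two]; exact hx)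
      have e2 : (y : G)⁻¹ = y := inv_eq_of_mul_eq_one_left (by rw [← pow_two]; exact hy)
      have e3 : ((x : G) * y)⁻¹ = x * y := inv_eq_of_mul_eq_one_left (by rw [← pow_two]; exact hxy)
      rw [← e3, mul_inv_rev, e1, e2]
    · have hbij : Function.Bijective (fun n : N => (n : G) • a) := by
        constructor
        · intro n m hnm
          exact Subtype.ext (PermReg.smul_inj_of_reg N hreg a n.2 m.2 hnm)
        · intro y
          obtain ⟨n, hn⟩ := htrans.exists_smul_eq a y
          exact ⟨n, hn⟩
      haveI : Finite N := Finite.of_injective _ hbij.1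
      have hcard : Nat.card N = Fintype.card X := by
        rw [← Nat.card_eq_fintype_card]
        exact Nat.card_eq_of_bijective _ hbij
      haveI : Fact (Nat.Prime 2) := ⟨Nat.prime_two⟩
      have hpg : IsPGroup 2 N := by
        intro g
        refine ⟨1, ?_⟩
        apply Subtype.ext
        have := hall g g.2
        simpa using this
      obtain ⟨m, hm⟩ := hpg.exists_card_eq
      exact ⟨m, by rw [← hcard, hm]⟩
  · left
    push Not at hall
    obtain ⟨x, hxN, hx2⟩ := hall
    have hx1 : x ≠ 1 := by rintro rfl; simp at hx2
    have hxi1 : x⁻¹ ≠ 1 := by simpa using hx1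
    have hxiN : x⁻¹ ∈ N := N.inv_mem hxN
    have hu : x • a ∉ ({a} : Set X) := by
      intro h
      rw [Set.mem_singleton_iff] at h
      exact hx1 (PermReg.smul_inj_of_reg N hreg a hxN N.one_mem (by rw [h, one_smul]))
    have hv : x⁻¹ • a ∉ ({a} : Set X) := by
      intro h
      rw [Set.mem_singleton_iff] at h
      exact hxi1 (PermReg.smul_inj_of_reg N hreg a hxiN N.one_mem (by rw [h, one_smul]))
    have key := PermReg.pair_block ({a} : Set X) hp hu hv (by
      intro g hg hcase
      have hga : g • a = a := by
        have := (mem_fixingSubgroup_iff G).mp hg a (Set.mem_singleton a)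
        exact this
      have hyN : g * x * g⁻¹ ∈ N := ‹N.Normal›.conj_mem x hxN g
      have hyiN : (g * x * g⁻¹)⁻¹ ∈ N := N.inv_mem hyN
      have e1 : g • (x • a) = (g * x * g⁻¹) • a := PermReg.stab_smul_conj a g hga x
      have e2 : g • (x⁻¹ • a) = (g * x * g⁻¹)⁻¹ • a := by
        rw [PermReg.stab_smul_conj a g hga x⁻¹]
        congr 1
        group
      rw [e1, e2] at hcase ⊢
      have hy : g * x * g⁻¹ = x ∨ g * x * g⁻¹ = x⁻¹ := by
        rcases hcase with h | h | h | h
        · exact Or.inl (PermReg.smul_inj_of_reg N hreg a hyN hxN h)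
        · exact Or.inr (PermReg.smul_inj_of_reg N hreg a hyN hxiN h)
        · have := PermReg.smul_inj_of_reg N hreg a hyiN hxN h
          right
          exact (inv_eq_iff_eq_inv.mp this)
        · have := PermReg.smul_inj_of_reg N hreg a hyiN hxiN h
          left
          exact inv_injective this
      rcases hy with h | h
      · left
        rw [h]
        exact ⟨rfl, rfl⟩
      · right
        rw [h, inv_inv]
        exact ⟨rfl, rfl⟩)
    rcases key with h | h
    · exfalso
      apply hx2
      have := PermReg.smul_inj_of_reg N hreg a hxN hxiN h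
      rw [pow_two]
      nth_rewrite 1 [this]
      exact inv_mul_cancel x
    · have huv : x • a ≠ x⁻¹ • a := by
        intro h'
        apply hx2
        have := PermReg.smul_inj_of_reg N hreg a hxN hxiN h'
        rw [pow_two]
        nth_rewrite 1 [this]
        exact inv_mul_cancel x
      have h1 := Set.ncard_add_ncard_compl ({a} : Set X)
      rw [h, Set.ncard_singleton, Set.ncard_pair huv, Nat.card_eq_fintype_card] at h1
      omega

end Cfsg.Agent.S0695
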