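import Cfsg.Statements.S0740
import Mathlib
import Cfsg.Agent.Lib.Lead.NormMT7

set_option autoImplicit false
open Cfsg
open Cfsg.Agent.Lib.Lead

namespace Cfsg.Agent.S0740

/-- In a finite Zassenhaus group any two points `a ≠ b` are swapped by an involution; every such involution has exactly one fixed point when the degree is odd and 0 or 2 fixed points when the degree is even; and if the two-point stabiliser has even order, some such involution has exactly 2 fixed points. -/
theorem result {G Ω : Type*} [Group G] [Finite G] [MulAction G Ω] [Fintype Ω] (hZ : Cfsg.IsZassenhausGroup G Ω) {a b : Ω} (hab : a ≠ b) : (∃ s : G, orderOf s = 2 ∧ s • a = b ∧ s • b = a) ∧ (∀ s : G, orderOf s = 2 → s • a = b → s • b = a → (Odd (Fintype.card Ω) → Nat.card (MulAction.fixedBy Ω s) = 1) ∧ (Even (Fintype.card Ω) → Nat.card (MulAction.fixedBy Ω s) = 0 ∨ Nat.card (MulAction.fixedBy Ω s) = 2)) ∧ (Even (Fintype.card Ω) → Even (Nat.card ↥(MulAction.stabilizer G a ⊓ MulAction.stabilizer G b)) → ∃ s : G, orderOf s = 2 ∧ s • a = b ∧ s • b = a ∧ Nat.card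 (MulAction.fixedBy Ω s) = 2) := by
  classical
  obtain ⟨hfaith, h2, h3fix, -, -⟩ := hZ
  haveI := hfaith
  haveI : Fact (Nat.Prime 2) := ⟨Nat.prime_two⟩
  -- Lemma F
  have hF : ∀ s : G, orderOf s = 2 → Nat.card (MulAction.fixedBy Ω s) ≤ 2 ∧
      Fintype.card Ω ≡ Nat.card (MulAction.fixedBy Ω s) [MOD 2] := by
    intro s hs
    constructor
    · by_contra hcon
      push Not at hcon
      rw [Nat.card_coe_set_eq, Set.two_lt_ncard_iff (Set.toFinite _)] at hcon
      obtain ⟨x, y, z, hx, hy, hz, hxy, hxz, hyz⟩ := hcon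
      have := h3fix s x y z hxy hyz hxz hx hy hz
      rw [this, orderOf_one] at hs
      omega
    · have hp : IsPGroup 2 (Subgroup.zpowers s) :=
        IsPGroup.of_card (n := 1) (by rw [Nat.card_zpowers, hs, pow_one])
      have h1 := hp.card_modEq_card_fixedPoints Ω
      have heq : MulAction.fixedPoints (Subgroup.zpowers s) Ω = MulAction.fixedBy Ω s := by
        ext x
        constructor
        · intro hx
          exact hx ⟨s, Subgroup.mem_zpowers s⟩
        · intro hx t
          have hs' : s ∈ MulAction.stabilizer G x := hx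
          have : Subgroup.zpowers s ≤ MulAction.stabilizer G x := by
            rw [Subgroup.zpowers_le]; exact hs'
          exact this t.2
      rw [heq, Nat.card_eq_fintype_card] at h1
      exact h1
  have part3 : Even (Fintype.card Ω) →
      Even (Nat.card ↥(MulAction.stabilizer G a ⊓ MulAction.stabilizer G b)) →
      ∃ s : G, orderOf s = 2 ∧ s • a = b ∧ s • b = a ∧ Nat.card (MulAction.fixedBy Ω s) = 2 := by
    intro hev hK
    obtain ⟨z, hz⟩ := exists_prime_orderOf_dvd_card' 2 (even_iff_two_dvd.mp hK)
    have hzo : orderOf (z : G) = 2 := by rw [Subgroup.orderOf_coe]; exact hz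
    have hzab := z.2
    rw [Subgroup.mem_inf, MulAction.mem_stabilizer_iff, MulAction.mem_stabilizer_iff] at hzab
    obtain ⟨c, hc⟩ : ∃ c : Ω, (z : G) • c ≠ c := by
      by_contra hcon
      push Not at hcon
      have : (z : G) = 1 := FaithfulSMul.eq_of_smul_eq_smul (α := Ω) (fun x => by rw [hcon x, one_smul])
      rw [this, orderOf_one] at hzo
      omega
    have hzd : (z : G) • ((z : G) • c) = c := by
      rw [← mul_smul, ← pow_two, ← hzo, pow_orderOf_eq_one, one_smul]
    obtain ⟨x, hxc, hxd⟩ := NormMT.two_trans_elem h2 hc.symm hab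
    have hxia : x⁻¹ • a = c := by rw [inv_smul_eq_iff, hxc]
    have hxib : x⁻¹ • b = (z : G) • c := by rw [inv_smul_eq_iff, hxd]
    have hord : orderOf (x * (z : G) * x⁻¹) = 2 := by
      have := (MulAut.conj x).toMonoidHom.toMulEquiv
      have h1 : orderOf ((MulAut.conj x) (z : G)) = orderOf (z : G) := MulEquiv.orderOf_eq _ _
      rw [MulAut.conj_apply] at h1
      rw [h1, hzo]
    refine ⟨x * (z : G) * x⁻¹, hord, ?_, ?_, ?_⟩
    · rw [mul_smul, mul_smul, hxia, hxd]
    · rw [mul_smul, mul_smul, hxib, hzd, hxc]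
    · obtain ⟨hle, hmod⟩ := hF _ hord
      have hne : 0 < Nat.card (MulAction.fixedBy Ω (x * (z : G) * x⁻¹)) := by
        rw [Nat.card_pos_iff]
        refine ⟨⟨⟨x • a, ?_⟩⟩, inferInstance⟩
        rw [MulAction.mem_fixedBy, mul_smul, mul_smul, inv_smul_smul, hzab.1]
      have h0 : Fintype.card Ω % 2 = 0 := Nat.even_iff.mp hev
      have := hmod
      unfold Nat.ModEq at this
      omega
  refine ⟨?_, ?_, part3⟩
  · by_cases hK : Even (Nat.card ↥(MulAction.stabilizer G a ⊓ MulAction.stabilizer G b))
    · have hev : Even (Fintype.card Ω) := by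
        by_contra hodd
        rw [Nat.not_even_iff_odd] at hodd
        obtain ⟨z, hz⟩ := exists_prime_orderOf_dvd_card' 2 (even_iff_two_dvd.mp hK)
        have hzo : orderOf (z : G) = 2 := by rw [Subgroup.orderOf_coe]; exact hz
        have hzab := z.2
        rw [Subgroup.mem_inf, MulAction.mem_stabilizer_iff, MulAction.mem_stabilizer_iff] at hzab
        obtain ⟨hle, hmod⟩ := hF _ hzo
        have h2le : 2 ≤ Nat.card (MulAction.fixedBy Ω (z : G)) := by
          rw [Nat.card_coe_set_eq]
          have hsub : ({a, b} : Set Ω) ⊆ MulAction.fixedBy Ω (z : G) := by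
            intro y hy
            simp only [Set.mem_insert_iff, Set.mem_singleton_iff] at hy
            rcases hy with rfl | rfl
            · exact hzab.1
            · exact hzab.2
          have := Set.ncard_le_ncard hsub (Set.toFinite _)
          rwa [Set.ncard_pair hab] at this
        have h1 : Fintype.card Ω % 2 = 1 := Nat.odd_iff.mp hodd
        unfold Nat.ModEq at hmod
        omega
      obtain ⟨s, h1, h2', h3, -⟩ := part3 hev hK
      exact ⟨s, h1, h2', h3⟩
    · rw [Nat.not_even_iff_odd] at hK
      obtain ⟨g, hga, hgb⟩ := NormMT.two_trans_elem h2 hab hab.symm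
      have hg2 : g ^ 2 ∈ MulAction.stabilizer G a ⊓ MulAction.stabilizer G b := by
        rw [Subgroup.mem_inf, MulAction.mem_stabilizer_iff, MulAction.mem_stabilizer_iff, pow_two,
          mul_smul, mul_smul, hga, hgb, hga]
        exact ⟨rfl, rfl⟩
      have hmodd : Odd (orderOf (g ^ 2)) := by
        have h1 : orderOf (⟨g ^ 2, hg2⟩ : ↥(MulAction.stabilizer G a ⊓ MulAction.stabilizer G b)) ∣
            Nat.card ↥(MulAction.stabilizer G a ⊓ MulAction.stabilizer G b) := orderOf_dvd_natCard _
        rw [← Subgroup.orderOf_coe] at h1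
        exact Odd.of_dvd_nat hK h1
      obtain ⟨j, hj⟩ := hmodd
      have hpow : ∀ i : ℕ, (g ^ 2) ^ i • a = a ∧ (g ^ 2) ^ i • b = b := by
        intro i
        have := Subgroup.pow_mem _ hg2 i
        rw [Subgroup.mem_inf, MulAction.mem_stabilizer_iff, MulAction.mem_stabilizer_iff] at this
        exact this
      have hs : g ^ (orderOf (g ^ 2)) = (g ^ 2) ^ j * g := by
        rw [hj, ← pow_mul, pow_succ]
      refine ⟨g ^ (orderOf (g ^ 2)), ?_, ?_, ?_⟩
      · apply orderOf_eq_prime
        · rw [← pow_mul, mul_comm, pow_mul, pow_orderOf_eq_one]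
        · intro h1
          have : g ^ (orderOf (g ^ 2)) • a = b := by
            rw [hs, mul_smul, hga, (hpow j).2]
          rw [h1, one_smul] at this
          exact hab this
      · rw [hs, mul_smul, hga, (hpow j).2]
      · rw [hs, mul_smul, hgb, (hpow j).1]
  · intro s hs _ _
    obtain ⟨hle, hmod⟩ := hF s hs
    unfold Nat.ModEq at hmod
    constructor
    · intro hodd
      have h1 : Fintype.card Ω % 2 = 1 := Nat.odd_iff.mp hodd
      omega
    · intro hev
      have h0 : Fintype.card Ω % 2 = 0 := Nat.even_iff.mp hev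
      omega

end Cfsg.Agent.S0740
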