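import Cfsg.Statements.S0007

set_option autoImplicit false
open Pointwise
open Cfsg

namespace Cfsg.Agent.S0007

theorem index_inf_of_coprime {G : Type*} [Group G] [Finite G] (H K : Subgroup G)
    (h : H.index.Coprime K.index) : (H ⊓ K).index = H.index * K.index := by
  apply Nat.le_antisymm (Subgroup.index_inf_le)
  apply Nat.le_of_dvd
  · exact Nat.pos_of_ne_zero Subgroup.FiniteIndex.index_ne_zero
  · exact Nat.Coprime.mul_dvd_of_dvd_of_dvd h (Subgroup.index_dvd_of_le inf_le_left)
      (Subgroup.index_dvd_of_le inf_le_right)

/-- Subgroups of coprime index: the intersection has index equal to the product of the indices, and every element is a product of an element of the first subgroup and an element of the second. -/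
theorem result {G : Type*} [Group G] [Finite G] (H K : Subgroup G)
    (h : H.index.Coprime K.index) :
    (H ⊓ K).index = H.index * K.index ∧ ∀ g : G, ∃ x ∈ H, ∃ y ∈ K, g = x * y := by
  refine ⟨index_inf_of_coprime H K h, ?_⟩
  have h1 : (H ⊓ K).index = H.index * K.index := index_inf_of_coprime H K h
  -- K.relIndex H = K.index
  have h2 : K.relIndex H = K.index := by
    have h3 : (H ⊓ K).relIndex H * H.index = (H ⊓ K).index := Subgroup.relIndex_mul_index inf_le_left
    rw [h1, inf_comm, Subgroup.inf_relIndex_right, mul_comm] at h3
    exact Nat.eq_of_mul_eq_mul_left (Nat.pos_of_ne_zero Subgroup.FiniteIndex.index_ne_zero) h3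
  -- the map H → G ⧸ K is surjective
  have hinj : Function.Injective (fun x : H ⧸ K.subgroupOf H => Quotient.map' (s₁ := QuotientGroup.leftRel (K.subgroupOf H)) (s₂ := QuotientGroup.leftRel K) (fun h : H => (h : G)) (by
      intro a b hab
      rw [QuotientGroup.leftRel_apply] at hab ⊢
      exact hab) x) := by
    intro a b
    refine Quotient.inductionOn₂' a b ?_
    intro a b hab
    simp only [Quotient.map'_mk''] at hab
    rw [Quotient.eq''] at hab ⊢
    rw [QuotientGroup.leftRel_apply] at hab ⊢
    exact hab
  have hcard : Nat.card (H ⧸ K.subgroupOf H) = Nat.card (G ⧸ K) := h2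
  have hbij := (Nat.bijective_iff_injective_and_card _).mpr ⟨hinj, hcard⟩
  intro g
  obtain ⟨q, hq⟩ := hbij.2 (QuotientGroup.mk g : G ⧸ K)
  revert hq
  refine Quotient.inductionOn' q ?_
  intro x hx
  simp only [Quotient.map'_mk''] at hx
  have := Quotient.exact' hx
  rw [QuotientGroup.leftRel_apply] at this
  exact ⟨x, x.2, _, this, (mul_inv_cancel_left _ _).symm⟩

end Cfsg.Agent.S0007
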