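import Mathlib
import Cfsg.Statements.S0011

set_option autoImplicit false
open Cfsg

namespace Cfsg.Agent.S0011

/-- Frattini argument for a Sylow subgroup contained in a normal subgroup. -/
theorem frattini_arg {G : Type*} [Group G] [Finite G] {p : ℕ} [Fact p.Prime] (P : Sylow p G)
    (K : Subgroup G) [K.Normal] (hPK : (P : Subgroup G) ≤ K) :
    Subgroup.normalizer ((P : Subgroup G) : Set G) ⊔ K = ⊤ := by
  have h := Sylow.normalizer_sup_eq_top (P.subtype hPK)
  rwa [Sylow.coe_subtype, Subgroup.map_subgroupOf_eq_of_le hPK] at h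

/-- If the Frattini quotient of a finite group is nilpotent then the group is nilpotent. -/
theorem result {G : Type*} [Group G] [Finite G]
    (h : Group.IsNilpotent (G ⧸ frattini G)) : Group.IsNilpotent G := by
  apply ((Group.isNilpotent_of_finite_tfae (G := G)).out 0 3).mpr
  intro p hp P
  have hf : Function.Surjective (QuotientGroup.mk' (frattini G)) := QuotientGroup.mk'_surjective _
  have h0 : ∀ (q : ℕ), Fact (Nat.Prime q) → ∀ (Q : Sylow q (G ⧸ frattini G)),
      (Q : Subgroup (G ⧸ frattini G)).Normal :=
    ((Group.isNilpotent_of_finite_tfae (G := G ⧸ frattini G)).out 0 3).mp h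
  have h1 := h0 p hp (P.mapSurjective hf)
  rw [Sylow.coe_mapSurjective] at h1
  have h3 : ((P : Subgroup G) ⊔ frattini G).Normal := by
    have := h1.comap (QuotientGroup.mk' (frattini G))
    rwa [Subgroup.comap_map_eq, QuotientGroup.ker_mk'] at this
  have h4 := frattini_arg P ((P : Subgroup G) ⊔ frattini G) le_sup_left
  have h5 : Subgroup.normalizer ((P : Subgroup G) : Set G) ⊔ frattini G = ⊤ := by
    rw [← h4, ← sup_assoc]
    congr 1
    exact (sup_eq_left.mpr Subgroup.le_normalizer).symm
  have h6 := frattini_nongenerating h5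
  exact Subgroup.normalizer_eq_top_iff.mp h6

end Cfsg.Agent.S0011
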