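import Cfsg.Statements.S0018
import Mathlib
import Cfsg.Agent.S0017
import Cfsg.Agent.Lib.Helper6.PPrimeCore
import Cfsg.Agent.Lib.Lead.ThompsonPQ

set_option autoImplicit false
open Cfsg

namespace Cfsg.Agent.S0018

/-- A finite solvable group whose Sylow p-subgroups are abelian has p-length one: a Sylow p-subgroup together with the largest normal subgroup of order prime to p generates a normal subgroup. -/
theorem result {G : Type*} [Group G] [Finite G] [Group.IsSolvable G]
    (p : ℕ) [Fact p.Prime] (P : Sylow p G) (hP : IsMulCommutative P) :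
    ((P : Subgroup G) ⊔ Cfsg.pPrimeCore p G).Normal := by
  classical
  set N := Cfsg.pPrimeCore p G with hN
  have hNn : N.Normal := (Cfsg.Agent.Lib.Helper6.pPrimeCore_mem_set p).1
  have hNc : (Nat.card N).Coprime p := (Cfsg.Agent.Lib.Helper6.pPrimeCore_mem_set p).2
  have hp : p.Prime := Fact.out
  -- O_{p'}(G/N) = 1
  have h1 : Cfsg.pPrimeCore p (G ⧸ N) = ⊥ := by
    rw [eq_bot_iff]
    apply sSup_le
    rintro X ⟨hXn, hXc⟩
    have hX1 : (X.comap (QuotientGroup.mk' N)).Normal := Subgroup.Normal.comap hXn _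
    have hX2 : (Nat.card (X.comap (QuotientGroup.mk' N))).Coprime p := by
      rw [Cfsg.Agent.Lib.Lead.card_comap_mk]
      exact Nat.Coprime.mul_left hXc hNc
    have hX3 : X.comap (QuotientGroup.mk' N) ≤ N := Cfsg.Agent.Lib.Helper6.le_pPrimeCore hX1 hX2
    have hX4 := Subgroup.map_mono (f := QuotientGroup.mk' N) hX3
    rw [Subgroup.map_comap_eq_self_of_surjective (QuotientGroup.mk'_surjective N)] at hX4
    have hNmap : N.map (QuotientGroup.mk' N) = ⊥ := by
      rw [Subgroup.map_eq_bot_iff, QuotientGroup.ker_mk']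
    rwa [hNmap] at hX4
  have h2 := Cfsg.Agent.S0017.result (G := G ⧸ N) p h1
  -- the image of P
  set Pbar := (P : Subgroup G).map (QuotientGroup.mk' N) with hPbar
  have hPN : (P : Subgroup G) ⊓ N = ⊥ := by
    apply (Subgroup.disjoint_of_coprime_natCard _).eq_bot
    rw [P.card_eq_multiplicity]
    exact Nat.Coprime.pow_left _ ((Nat.coprime_comm).mp hNc)
  have hPbarcard : Nat.card Pbar = p ^ (Nat.card (G ⧸ N)).factorization p := by
    rw [hPbar, Cfsg.Agent.Lib.Lead.card_map_mk_of_inf_eq_bot N _ hPN, P.card_eq_multiplicity]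
    congr 1
    rw [← Cfsg.Agent.Lib.Lead.card_quotient_mul N,
      Nat.factorization_mul Nat.card_pos.ne' Nat.card_pos.ne']
    have : (Nat.card N).factorization p = 0 := by
      apply Nat.factorization_eq_zero_of_not_dvd
      intro hdvd
      have := Nat.dvd_gcd hdvd (dvd_refl p)
      rw [hNc] at this
      exact hp.one_lt.ne' (Nat.dvd_one.mp this)
    simp [this]
  have h3 : Cfsg.pCore p (G ⧸ N) ≤ Pbar := by
    have hn : (Cfsg.pCore p (G ⧸ N)).Normal := Cfsg.Agent.Lib.Lead.pCore_normal p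
    have := Cfsg.Agent.Lib.Lead.normal_pgroup_le_sylow p (Cfsg.pCore p (G ⧸ N))
      (Cfsg.Agent.Lib.Lead.pCore_isPGroup p) (Sylow.ofCard Pbar hPbarcard)
    exact this
  have hPbarcomm : IsMulCommutative Pbar := inferInstance
  have h4 : Pbar ≤ Subgroup.centralizer (Pbar : Set (G ⧸ N)) := by
    intro x hx
    rw [Subgroup.mem_centralizer_iff]
    intro y hy
    have := hPbarcomm.is_comm.comm ⟨y, hy⟩ ⟨x, hx⟩
    exact congrArg Subtype.val this
  have h5 : Pbar ≤ Cfsg.pCore p (G ⧸ N) :=
    (h4.trans (Subgroup.centralizer_le h3)).trans h2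
  have h6 : Pbar = Cfsg.pCore p (G ⧸ N) := le_antisymm h5 h3
  have h7 : Pbar.Normal := by rw [h6]; exact Cfsg.Agent.Lib.Lead.pCore_normal p
  have h8 : (P : Subgroup G) ⊔ N = Pbar.comap (QuotientGroup.mk' N) := by
    rw [hPbar, Cfsg.Agent.Lib.Lead.comap_map_mk]
  rw [h8]
  exact Subgroup.Normal.comap h7 _

end Cfsg.Agent.S0018
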