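import Cfsg.Statements.S0036
import Cfsg.Agent.Lib.Lead.Frobenius3

set_option autoImplicit false
open Pointwise
open Cfsg
open Cfsg.Agent.Lib.Lead

namespace Cfsg.Agent.S0036

section
variable {G : Type*} [Group G] (H : Subgroup G) (t : G)

/-- the conjugate of `t` attached to a coset -/
noncomputable def tau (q : G ⧸ H) : G := q.out * t * q.out⁻¹

theorem tau_mem (ht : t ∈ H) (q : G ⧸ H) : tau H t q ∈ MulAut.conj q.out • H := by
  rw [mem_conj_smul_iff]
  have : q.out⁻¹ * tau H t q * q.out = t := by unfold tau; group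
  rw [this]; exact ht

theorem tau_ne_one (ht1 : t ≠ 1) (q : G ⧸ H) : tau H t q ≠ 1 := by
  intro h
  apply ht1
  have : t = q.out⁻¹ * tau H t q * q.out := by unfold tau; group
  rw [this, h]; group

theorem tau_sq (ht2 : t * t = 1) (q : G ⧸ H) : tau H t q * tau H t q = 1 := by
  unfold tau
  calc q.out * t * q.out⁻¹ * (q.out * t * q.out⁻¹) = q.out * (t * t) * q.out⁻¹ := by group
    _ = 1 := by rw [ht2]; group

theorem coset_eq_of_mem (hH : Cfsg.IsFrobeniusComplement H) (ht : t ∈ H) (ht1 : t ≠ 1)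
    (q : G ⧸ H) (g : G) (h : tau H t q ∈ MulAut.conj g • H) : (g : G ⧸ H) = q := by
  rw [← QuotientGroup.out_eq' q, eq_comm, QuotientGroup.eq]
  exact frob_mal hH (tau_ne_one H t ht1 q) (tau_mem H t ht q) h

theorem tau_mul_mem (hH : Cfsg.IsFrobeniusComplement H) (ht : t ∈ H) (ht1 : t ≠ 1)
    (ht2 : t * t = 1) (q q' : G ⧸ H) : tau H t q * tau H t q' ∈ Cfsg.frobeniusKernel H := by
  by_cases hq : q = q'
  · left; rw [hq]; exact tau_sq H t ht2 q'
  · by_contra hnk
    obtain ⟨hne, g, hg⟩ := not_mem_frobeniusKernel_iff.mp hnk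
    set a := tau H t q with ha
    set b := tau H t q' with hb
    have haa : a * a = 1 := tau_sq H t ht2 q
    have hbb : b * b = 1 := tau_sq H t ht2 q'
    have hainv : a⁻¹ = a := inv_eq_of_mul_eq_one_left haa
    have hbinv : b⁻¹ = b := inv_eq_of_mul_eq_one_left hbb
    -- (a b)⁻¹ = b a
    have hinvne : b * a ≠ 1 := by
      intro h
      apply hne
      have : a * b = (b * a)⁻¹ := by rw [mul_inv_rev, hainv, hbinv]
      rw [this, h, inv_one]
    have hinvg : b * a ∈ MulAut.conj g • H := by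
      have : b * a = (a * b)⁻¹ := by rw [mul_inv_rev, hainv, hbinv]
      rw [this]; exact Subgroup.inv_mem _ hg
    -- a (a b) a⁻¹ = b a
    have h1 : b * a ∈ MulAut.conj (a * g) • H := by
      rw [mem_conj_smul_iff]
      have e : (a * g)⁻¹ * (b * a) * (a * g) = g⁻¹ * (a⁻¹ * b * (a * a)) * g := by group
      rw [e, haa, mul_one, hainv]
      exact mem_conj_smul_iff.mp hg
    have h2 : b * a ∈ MulAut.conj (b * g) • H := by
      rw [mem_conj_smul_iff]
      have e : (b * g)⁻¹ * (b * a) * (b * g) = g⁻¹ * ((b⁻¹ * b) * a * b) * g := by group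
      rw [e, inv_mul_cancel, one_mul]
      exact mem_conj_smul_iff.mp hg
    have h3 : g⁻¹ * (a * g) ∈ H := frob_mal hH hinvne hinvg h1
    have h4 : g⁻¹ * (b * g) ∈ H := frob_mal hH hinvne hinvg h2
    have h5 : a ∈ MulAut.conj g • H := by
      rw [mem_conj_smul_iff, mul_assoc]; exact h3
    have h6 : b ∈ MulAut.conj g • H := by
      rw [mem_conj_smul_iff, mul_assoc]; exact h4
    have e1 := coset_eq_of_mem H t hH ht ht1 q g h5
    have e2 := coset_eq_of_mem H t hH ht ht1 q' g h6
    exact hq (e1.symm.trans e2)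

/-- for a fixed coset `q`, every kernel element is `tau q * tau q'` for some `q'` -/
theorem exists_tau_mul [Finite G] (hH : Cfsg.IsFrobeniusComplement H) (ht : t ∈ H) (ht1 : t ≠ 1)
    (ht2 : t * t = 1) (q : G ⧸ H) (x : G) (hx : x ∈ Cfsg.frobeniusKernel H) :
    ∃ q' : G ⧸ H, x = tau H t q * tau H t q' := by
  let f : G ⧸ H → Cfsg.frobeniusKernel H := fun q' =>
    ⟨tau H t q * tau H t q', tau_mul_mem H t hH ht ht1 ht2 q q'⟩
  have hinj : Function.Injective f := by
    intro q₁ q₂ h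
    have h1 : tau H t q * tau H t q₁ = tau H t q * tau H t q₂ := congrArg Subtype.val h
    have h2 : tau H t q₁ = tau H t q₂ := mul_left_cancel h1
    have h3 := tau_mem H t ht q₂
    rw [← h2] at h3
    have := coset_eq_of_mem H t hH ht ht1 q₁ q₂.out h3
    rw [QuotientGroup.out_eq'] at this
    exact this.symm
  have hcard : Nat.card (G ⧸ H) = Nat.card (Cfsg.frobeniusKernel H) := by
    rw [card_frobeniusKernel hH, Subgroup.index_eq_card]
  have hbij := (Nat.bijective_iff_injective_and_card f).mpr ⟨hinj, hcard⟩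
  obtain ⟨q', hq'⟩ := hbij.2 ⟨x, hx⟩
  exact ⟨q', (congrArg Subtype.val hq').symm⟩

end

/-- When a Frobenius complement contains an involution, an elementary argument shows the Frobenius kernel is closed under multiplication (hence a subgroup). -/
theorem result {G : Type*} [Group G] [Finite G] (H : Subgroup G) (hH : Cfsg.IsFrobeniusComplement H)
    (t : G) (ht : t ∈ H) (ht1 : t ≠ 1) (ht2 : t * t = 1) :
    ∀ x ∈ Cfsg.frobeniusKernel H, ∀ y ∈ Cfsg.frobeniusKernel H, x * y ∈ Cfsg.frobeniusKernel H := by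
  intro x hx y hy
  obtain ⟨q₁, rfl⟩ := exists_tau_mul H t hH ht ht1 ht2 ((1 : G) : G ⧸ H) x hx
  obtain ⟨q₂, rfl⟩ := exists_tau_mul H t hH ht ht1 ht2 q₁ y hy
  have e : tau H t ((1 : G) : G ⧸ H) * tau H t q₁ * (tau H t q₁ * tau H t q₂) =
      tau H t ((1 : G) : G ⧸ H) * tau H t q₂ := by
    rw [mul_assoc, ← mul_assoc (tau H t q₁), tau_sq H t ht2 q₁, one_mul]
  rw [e]
  exact tau_mul_mem H t hH ht ht1 ht2 _ _

end Cfsg.Agent.S0036
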