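import Cfsg.Statements.S0048
import Mathlib
import Cfsg.Agent.S0043

set_option autoImplicit false
open Pointwise
open Cfsg

namespace Cfsg.Agent.S0048

theorem isCoatom_map_mk {G : Type*} [Group G] (N M : Subgroup G) [N.Normal] (hNM : N ≤ M)
    (hM : IsCoatom M) : IsCoatom (M.map (QuotientGroup.mk' N)) := by
  have hsurj := QuotientGroup.mk'_surjective N
  have hcm : (M.map (QuotientGroup.mk' N)).comap (QuotientGroup.mk' N) = M := by
    rw [Subgroup.comap_map_eq, QuotientGroup.ker_mk', sup_eq_left.mpr hNM]
  constructor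
  · intro h
    apply hM.1
    rw [← hcm, h, Subgroup.comap_top]
  · intro K hK
    have h1 : M ≤ K.comap (QuotientGroup.mk' N) := by
      rw [← hcm]; exact Subgroup.comap_mono hK.le
    have h2 : K.comap (QuotientGroup.mk' N) ≠ M := by
      intro h
      have := Subgroup.map_comap_eq_self_of_surjective hsurj K
      rw [h] at this
      exact hK.ne this
    have h3 := hM.2 _ (lt_of_le_of_ne h1 (Ne.symm h2))
    rw [← Subgroup.map_comap_eq_self_of_surjective hsurj K, h3, ← MonoidHom.range_eq_map,
      MonoidHom.range_eq_top]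
    exact hsurj

theorem index_dvd_card_of_sup_eq_top {G : Type*} [Group G] [Finite G] (M N : Subgroup G) [N.Normal]
    (h : M ⊔ N = ⊤) : M.index ∣ Nat.card N := by
  have h1 : N.relIndex M = N.index := by
    rw [← Subgroup.relIndex_sup_right, h, Subgroup.relIndex_top_right]
  obtain ⟨c, hc⟩ := Subgroup.relIndex_dvd_card N M
  have h2 : Nat.card N * N.index = Nat.card G := Subgroup.card_mul_index N
  have h3 : Nat.card M * M.index = Nat.card G := Subgroup.card_mul_index M
  rw [hc, h1, ← h2] at h3
  have h4 : N.index ≠ 0 := Subgroup.FiniteIndex.index_ne_zero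
  refine ⟨c, ?_⟩
  have h5 : N.index * (c * M.index) = N.index * Nat.card N := by
    rw [← mul_assoc, h3, mul_comm]
  have := Nat.eq_of_mul_eq_mul_left (Nat.pos_of_ne_zero h4) h5
  rw [← this, mul_comm]

theorem aux (n : ℕ) : ∀ {G : Type*} [Group G] [Finite G] [Group.IsSolvable G],
    Nat.card G = n → ∀ M : Subgroup G, IsCoatom M → IsPrimePow M.index := by
  induction n using Nat.strong_induction_on with
  | _ n ih =>
    intro G _ _ _ hn M hM
    -- a minimal normal subgroup
    have hfin : {K : Subgroup G | K.Normal ∧ K ≠ ⊥}.Finite := Set.toFinite _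
    have hne : {K : Subgroup G | K.Normal ∧ K ≠ ⊥}.Nonempty := by
      refine ⟨⊤, inferInstance, ?_⟩
      intro h
      exact hM.1 (by rw [eq_top_iff, h]; exact bot_le)
    obtain ⟨N, ⟨hNn, hN0⟩, hNmin⟩ := hfin.exists_minimal hne
    have := hNn
    have hmin : ∀ K : Subgroup G, K.Normal → K ≤ N → K = ⊥ ∨ K = N := by
      intro K hK hKN
      by_cases hK0 : K = ⊥
      · exact Or.inl hK0
      · exact Or.inr (le_antisymm hKN (hNmin ⟨hK, hK0⟩ hKN))
    obtain ⟨hcomm, p, hp, hpN⟩ := Cfsg.Agent.S0043.result N hN0 hmin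
    by_cases hNM : N ≤ M
    · -- pass to the quotient
      have hc := isCoatom_map_mk N M hNM hM
      have hidx : (M.map (QuotientGroup.mk' N)).index = M.index :=
        Subgroup.index_map_eq M (QuotientGroup.mk'_surjective N) (by rw [QuotientGroup.ker_mk']; exact hNM)
      rw [← hidx]
      have hcard : Nat.card (G ⧸ N) < n := by
        have h1 := Subgroup.card_eq_card_quotient_mul_card_subgroup N
        have h2 : 1 < Nat.card N := by
          rw [Subgroup.one_lt_card_iff_ne_bot]; exact hN0
        have h3 : 0 < Nat.card (G ⧸ N) := Nat.card_pos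
        rw [← hn, h1]
        nlinarith
      exact ih _ hcard rfl _ hc
    · have hsup : M ⊔ N = ⊤ := hM.2 _ (lt_of_le_of_ne le_sup_left (fun h => hNM (h ▸ le_sup_right)))
      have hdvd := index_dvd_card_of_sup_eq_top M N hsup
      have : Fact p.Prime := ⟨hp⟩
      have hpg : IsPGroup p N := by
        intro x
        refine ⟨1, ?_⟩
        apply Subtype.ext
        simpa using hpN x x.2
      obtain ⟨k, hk⟩ := (IsPGroup.iff_card).mp hpg
      rw [hk] at hdvd
      obtain ⟨j, _, hj⟩ := (Nat.dvd_prime_pow hp).mp hdvd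
      rw [isPrimePow_nat_iff]
      refine ⟨p, j, hp, ?_, hj.symm⟩
      rcases Nat.eq_zero_or_pos j with h0 | h0
      · exfalso
        rw [h0, pow_zero] at hj
        exact hM.1 (Subgroup.index_eq_one.mp hj)
      · exact h0

/-- In a finite solvable group every maximal subgroup has index a prime power. -/
theorem result {G : Type*} [Group G] [Finite G] [Group.IsSolvable G]
    (M : Subgroup G) (hM : IsCoatom M) : IsPrimePow M.index :=
  aux (Nat.card G) rfl M hM

end Cfsg.Agent.S0048
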