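import Cfsg.Statements.S0049
import Mathlib

set_option autoImplicit false
open Pointwise
open Cfsg

namespace Cfsg.Agent.S0049

/-- A prime divisor of the order of a finite group also divides the index of the Frattini subgroup. -/
theorem result {G : Type*} [Group G] [Finite G] (p : ℕ) (hp : p.Prime) (hdvd : p ∣ Nat.card G) :
    p ∣ (frattini G).index := by
  by_contra hnd
  have : Fact p.Prime := ⟨hp⟩
  obtain ⟨Q⟩ : Nonempty (Sylow p (frattini G)) := inferInstance
  have hnil : Group.IsNilpotent (frattini G) := frattini_nilpotent
  have hQn' : ∀ (q : ℕ), Fact (Nat.Prime q) → ∀ (R : Sylow q (frattini G)),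
      (R : Subgroup (frattini G)).Normal :=
    ((Group.isNilpotent_of_finite_tfae (G := frattini G)).out 0 3).mp hnil
  have hQn : (Q : Subgroup (frattini G)).Normal := hQn' p this Q
  have hQc : (Q : Subgroup (frattini G)).Characteristic := Sylow.characteristic_of_normal Q hQn
  have hPn : ((Q : Subgroup (frattini G)).map (frattini G).subtype).Normal :=
    ConjAct.normal_of_characteristic_of_normal
  have hPidx : ¬ p ∣ ((Q : Subgroup (frattini G)).map (frattini G).subtype).index := by
    rw [Subgroup.index_map_subtype]
    intro h
    rcases (Nat.Prime.dvd_mul hp).mp h with h1 | h1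
    · exact Q.not_dvd_index h1
    · exact hnd h1
  have hPp : IsPGroup p ((Q : Subgroup (frattini G)).map (frattini G).subtype) :=
    Q.isPGroup'.map _
  obtain ⟨k, hk⟩ := (IsPGroup.iff_card).mp hPp
  have hcop : (Nat.card ((Q : Subgroup (frattini G)).map (frattini G).subtype)).Coprime
      ((Q : Subgroup (frattini G)).map (frattini G).subtype).index := by
    rw [hk]
    exact Nat.Coprime.pow_left k ((Nat.Prime.coprime_iff_not_dvd hp).mpr hPidx)
  obtain ⟨H, hH⟩ := Subgroup.exists_right_complement'_of_coprime hcop
  have hPle : (Q : Subgroup (frattini G)).map (frattini G).subtype ≤ frattini G :=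
    Subgroup.map_subtype_le _
  have hsup : H ⊔ frattini G = ⊤ := by
    rw [eq_top_iff, ← hH.sup_eq_top, sup_comm]
    exact sup_le_sup_left hPle H
  have hHtop : H = ⊤ := frattini_nongenerating hsup
  rw [hHtop, Subgroup.isComplement'_top_right] at hH
  rw [hH, Subgroup.index_bot] at hPidx
  exact hPidx hdvd

end Cfsg.Agent.S0049
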