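import Cfsg.Statements.S0052
import Mathlib
import Cfsg.Agent.Lib.Lead.Gaschutz4

set_option autoImplicit false
open Pointwise
open Cfsg

namespace Cfsg.Agent.S0052

/-- Gaschütz's Theorem, conjugacy: for an abelian normal subgroup K ≤ U with the order of K coprime to the index of U, two complements of K in G having the same intersection with U are conjugate. -/
theorem result {G : Type*} [Group G] [Finite G] (K U : Subgroup G) [K.Normal] [IsMulCommutative K]
    (hKU : K ≤ U) (hcop : (Nat.card K).Coprime U.index)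
    (H₀ H₁ : Subgroup G) (h₀ : Subgroup.IsComplement' K H₀) (h₁ : Subgroup.IsComplement' K H₁) (hU : H₀ ⊓ U = H₁ ⊓ U) :
    ∃ g : G, MulAut.conj g • H₀ = H₁ := by
  classical
  obtain ⟨m, _, hm⟩ := Cfsg.Agent.Lib.Lead.Gaschutz.gaschutz_conj U hKU hcop h₀.symm h₁.symm hU
  refine ⟨m, ?_⟩
  ext x
  rw [Cfsg.Agent.Lib.Lead.mem_conj_smul_iff']
  constructor
  · intro hx
    have h1 := hm (m⁻¹ * x * m)
    rw [Cfsg.Agent.Lib.Lead.Gaschutz.proj_of_mem_right h₀.symm _ hx] at h1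
    have h2 : Cfsg.Agent.Lib.Lead.Gaschutz.proj h₁.symm (m⁻¹ * x * m) = x := by
      generalize Cfsg.Agent.Lib.Lead.Gaschutz.proj h₁.symm (m⁻¹ * x * m) = y at h1 ⊢
      have h3 : m * (m⁻¹ * x * m) * m⁻¹ = m * (m⁻¹ * y * m) * m⁻¹ := by rw [← h1]
      have h4 : m * (m⁻¹ * x * m) * m⁻¹ = x := by group
      have h5 : m * (m⁻¹ * y * m) * m⁻¹ = y := by group
      rw [h4, h5] at h3
      exact h3.symm
    rw [← h2]
    exact Cfsg.Agent.Lib.Lead.Gaschutz.proj_mem h₁.symm _
  · intro hx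
    have h1 := hm x
    rw [Cfsg.Agent.Lib.Lead.Gaschutz.proj_of_mem_right h₁.symm _ hx] at h1
    rw [← h1]
    exact Cfsg.Agent.Lib.Lead.Gaschutz.proj_mem h₀.symm _

end Cfsg.Agent.S0052
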