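import Cfsg.Statements.S0053
import Mathlib
import Cfsg.Agent.Lib.Lead.Frattini

set_option autoImplicit false
open Pointwise
open Cfsg

namespace Cfsg.Agent.S0053

/-- An abelian minimal normal subgroup N of a finite group is complemented exactly when N is not inside the Frattini subgroup. -/
theorem result {G : Type*} [Group G] [Finite G]
    (N : Subgroup G) [N.Normal] [IsMulCommutative N] (hN : N ≠ ⊥)
    (hmin : ∀ M : Subgroup G, M.Normal → M ≤ N → M = ⊥ ∨ M = N) :
    (∃ H : Subgroup G, Subgroup.IsComplement' N H) ↔ ¬ N ≤ frattini G := by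
  constructor
  · rintro ⟨H, hH⟩ hle
    have hsup : H ⊔ frattini G = ⊤ := by
      rw [eq_top_iff, ← hH.sup_eq_top, sup_comm]
      exact sup_le_sup_left hle H
    have hHtop : H = ⊤ := frattini_nongenerating hsup
    rw [hHtop, Subgroup.isComplement'_top_right] at hH
    exact hN hH
  · intro hle
    rw [Cfsg.Agent.Lib.Lead.le_frattini_iff] at hle
    push Not at hle
    obtain ⟨M, hM, hNM⟩ := hle
    have hsup : N ⊔ M = ⊤ := hM.2 _ (lt_of_le_of_ne le_sup_right (fun h => hNM (h ▸ le_sup_left)))
    have hnorm : (N ⊓ M).Normal := by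
      constructor
      intro x hx g
      have hg : g ∈ N ⊔ M := hsup ▸ Subgroup.mem_top g
      rw [Subgroup.mem_sup_of_normal_left] at hg
      obtain ⟨n, hn, m, hm, rfl⟩ := hg
      have h1 : m * x * m⁻¹ ∈ N ⊓ M :=
        ⟨Subgroup.Normal.conj_mem inferInstance x hx.1 m,
          M.mul_mem (M.mul_mem hm hx.2) (M.inv_mem hm)⟩
      have h2 : n * (m * x * m⁻¹) = (m * x * m⁻¹) * n := by
        have := (inferInstance : IsMulCommutative N).is_comm.comm ⟨n, hn⟩ ⟨_, h1.1⟩
        exact congrArg Subtype.val this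
      have h3 : n * m * x * (n * m)⁻¹ = m * x * m⁻¹ := by
        calc n * m * x * (n * m)⁻¹ = n * (m * x * m⁻¹) * n⁻¹ := by group
          _ = m * x * m⁻¹ := by rw [h2, mul_inv_cancel_right]
      rw [h3]; exact h1
    have hbot : N ⊓ M = ⊥ := by
      rcases hmin _ hnorm inf_le_left with h | h
      · exact h
      · exact absurd (inf_eq_left.mp h) hNM
    refine ⟨M, Subgroup.isComplement'_of_disjoint_and_mul_eq_univ (disjoint_iff.mpr hbot) ?_⟩
    rw [← Subgroup.normal_mul, hsup, Subgroup.coe_top]

end Cfsg.Agent.S0053
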