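import Cfsg.Statements.S0054
import Mathlib

set_option autoImplicit false
open Pointwise
open Cfsg

namespace Cfsg.Agent.S0054

/-- A regular normal subgroup of a finite 2-transitive group is elementary abelian: it is commutative and all its elements have order dividing one prime. -/
theorem result {G : Type*} [Group G] [Finite G]
    {X : Type*} [Nonempty X] [MulAction G X] (h2 : MulAction.IsMultiplyPretransitive G X 2)
    (N : Subgroup G) [N.Normal] (htrans : MulAction.IsPretransitive N X) (hreg : ∀ x : X, MulAction.stabilizer N x = ⊥) :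
    IsMulCommutative N ∧ ∃ p : ℕ, p.Prime ∧ ∀ n ∈ N, n ^ p = 1 := by
  obtain ⟨x₀⟩ : Nonempty X := inferInstance
  have hfree : ∀ a ∈ N, a • x₀ = x₀ → a = 1 := by
    intro a ha hax
    have : (⟨a, ha⟩ : N) ∈ MulAction.stabilizer N x₀ := by
      rw [MulAction.mem_stabilizer_iff]; exact hax
    rw [hreg x₀, Subgroup.mem_bot] at this
    exact congrArg Subtype.val this
  have h2' : ∀ {a b c d : X} (_ : a ≠ b) (_ : c ≠ d), ∃ g : G, g • a = c ∧ g • b = d :=
    (MulAction.is_two_pretransitive_iff (G := G) (α := X)).mp h2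
  -- all nonidentity elements of N are conjugate in G
  have hconj : ∀ a ∈ N, ∀ b ∈ N, a ≠ 1 → b ≠ 1 → ∃ g : G, g * a * g⁻¹ = b := by
    intro a ha b hb ha1 hb1
    have hax : x₀ ≠ a • x₀ := fun h => ha1 (hfree a ha h.symm)
    have hbx : x₀ ≠ b • x₀ := fun h => hb1 (hfree b hb h.symm)
    obtain ⟨g, hg0, hg1⟩ := h2' hax hbx
    refine ⟨g, ?_⟩
    have h3 : (b⁻¹ * (g * a * g⁻¹)) • x₀ = x₀ := by
      have hg0' : g⁻¹ • x₀ = x₀ := by rw [inv_smul_eq_iff, hg0]
      rw [mul_smul, mul_smul, mul_smul, hg0', hg1, inv_smul_smul]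
    have h4 : b⁻¹ * (g * a * g⁻¹) ∈ N :=
      N.mul_mem (N.inv_mem hb) (Subgroup.Normal.conj_mem inferInstance a ha g)
    have h5 := hfree _ h4 h3
    exact (inv_mul_eq_one.mp h5).symm
  by_cases hN : N = ⊥
  · subst hN
    refine ⟨⟨⟨?_⟩⟩, 2, Nat.prime_two, ?_⟩
    · intro a b
      have ha : a = 1 := Subtype.ext (Subgroup.mem_bot.mp a.2)
      have hb : b = 1 := Subtype.ext (Subgroup.mem_bot.mp b.2)
      rw [ha, hb]
    · intro n hn
      rw [Subgroup.mem_bot.mp hn, one_pow]
  · have hcard : Nat.card N ≠ 1 := fun h => hN (Subgroup.card_eq_one.mp h)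
    obtain ⟨p, hp, hpd⟩ := Nat.exists_prime_and_dvd hcard
    have : Fact p.Prime := ⟨hp⟩
    obtain ⟨a, ha⟩ := exists_prime_orderOf_dvd_card' p hpd
    have ha1 : (a : G) ≠ 1 := by
      intro h
      have : a = 1 := Subtype.ext h
      rw [this, orderOf_one] at ha
      exact hp.one_lt.ne ha
    have hap : (a : G) ^ p = 1 := by
      have : a ^ p = 1 := by rw [← ha]; exact pow_orderOf_eq_one a
      exact_mod_cast congrArg Subtype.val this
    have hexp : ∀ n ∈ N, n ^ p = 1 := by
      intro n hn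
      by_cases hn1 : n = 1
      · rw [hn1, one_pow]
      · obtain ⟨g, rfl⟩ := hconj a a.2 n hn ha1 hn1
        rw [conj_pow, hap, mul_one, mul_inv_cancel]
    refine ⟨?_, p, hp, hexp⟩
    have hpg : IsPGroup p N := by
      intro x
      exact ⟨1, Subtype.ext (by simpa using hexp x x.2)⟩
    have : Nontrivial N := (Subgroup.nontrivial_iff_ne_bot N).mpr hN
    obtain ⟨⟨z, hz⟩, hz1⟩ := (Subgroup.ne_bot_iff_exists_ne_one).mp
      ((Subgroup.nontrivial_iff_ne_bot _).mp hpg.center_nontrivial)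
    have hz1' : (z : G) ≠ 1 := fun h => hz1 (Subtype.ext (Subtype.ext h))
    have hzc : ∀ m ∈ N, (z : G) * m = m * z := by
      intro m hm
      have := (Subgroup.mem_center_iff.mp hz) ⟨m, hm⟩
      exact (congrArg Subtype.val this).symm
    refine ⟨⟨?_⟩⟩
    rintro ⟨n, hn⟩ ⟨m, hm⟩
    apply Subtype.ext
    show n * m = m * n
    by_cases hn1 : n = 1
    · rw [hn1, one_mul, mul_one]
    · obtain ⟨g, rfl⟩ := hconj z z.2 n hn hz1' hn1
      have hm' : g⁻¹ * m * g ∈ N := by
        have := Subgroup.Normal.conj_mem (inferInstance : N.Normal) m hm g⁻¹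
        simpa using this
      have h6 := hzc _ hm'
      calc g * ↑z * g⁻¹ * m = g * (↑z * (g⁻¹ * m * g)) * g⁻¹ := by group
        _ = g * ((g⁻¹ * m * g) * ↑z) * g⁻¹ := by rw [h6]
        _ = m * (g * ↑z * g⁻¹) := by group

end Cfsg.Agent.S0054
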