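import Mathlib
import Cfsg.Statements.S0063

set_option autoImplicit false
open Cfsg

namespace Cfsg.Agent.S0063

theorem class_le_one_of_comm {G : Type*} [Group G] (h : IsMulCommutative G) :
    Group.nilpotencyClass G ≤ 1 := by
  have : Group.IsNilpotent G := by
    rw [Group.isNilpotent_iff]
    exact ⟨1, Subgroup.upperCentralSeries_one_eq_top_iff.mpr h⟩
  exact Group.IsNilpotent.nilpotencyClass_le_one_iff.mpr h

theorem aux (p : ℕ) [Fact p.Prime] (m : ℕ) : ∀ {G : Type*} [Group G] [Finite G],
    Nat.card G = p ^ m → Group.nilpotencyClass G ≤ max (m - 1) 1 := by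
  induction m using Nat.strong_induction_on with
  | _ m ih =>
    intro G _ _ hG
    have hp : p.Prime := Fact.out
    by_cases hm : m ≤ 2
    · -- abelian
      have hcomm : IsMulCommutative G := by
        interval_cases m
        · have : Subsingleton G := by
            rw [← Finite.card_le_one_iff_subsingleton]; simp [hG]
          exact ⟨⟨fun a b => Subsingleton.elim _ _⟩⟩
        · have : IsCyclic G := isCyclic_of_prime_card (p := p) (by simpa using hG)
          exact IsCyclic.commutative
        · exact IsPGroup.isMulCommutative_of_card_eq_prime_sq hG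
      exact (class_le_one_of_comm hcomm).trans (le_max_right _ _)
    · rw [not_le] at hm
      have hpG : IsPGroup p G := IsPGroup.of_card hG
      have : Group.IsNilpotent G := hpG.isNilpotent
      have : Nontrivial G := by
        rw [← Finite.one_lt_card_iff_nontrivial, hG]
        exact Nat.one_lt_pow (by omega) hp.one_lt
      rw [Group.nilpotencyClass_eq_quotient_center_plus_one]
      obtain ⟨k, hk0, hk⟩ := IsPGroup.card_center_eq_prime_pow hG (by omega)
      have h1 : Nat.card (Subgroup.center G) * Nat.card (G ⧸ Subgroup.center G) = Nat.card G := by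
        rw [← Subgroup.index_eq_card, Subgroup.card_mul_index]
      have hkm : k ≤ m := by
        have : p ^ k ∣ p ^ m := by rw [← hk, ← hG]; exact Subgroup.card_subgroup_dvd_card _
        exact (Nat.pow_dvd_pow_iff_le_right hp.one_lt).mp this
      have h2 : Nat.card (G ⧸ Subgroup.center G) = p ^ (m - k) := by
        rw [hk, hG] at h1
        have h3 : p ^ m = p ^ k * p ^ (m - k) := by rw [← pow_add]; congr 1; omega
        rw [h3] at h1
        exact Nat.eq_of_mul_eq_mul_left (pow_pos hp.pos k) h1
      have h4 := ih (m - k) (by omega) h2
      have h5 : max (m - k - 1) 1 + 1 ≤ max (m - 1) 1 := by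
        rcases le_total (m - k - 1) 1 with h | h
        · rw [max_eq_right h]; exact le_max_of_le_left (by omega)
        · rw [max_eq_left h]; exact le_max_of_le_left (by omega)
      omega

/-- A finite group of prime-power order p ^ m with m > 1 is nilpotent of class at most m - 1. -/
theorem result {G : Type*} [Group G] [Finite G] (p m : ℕ) [Fact p.Prime]
    (hG : Nat.card G = p ^ m) (hm : 1 < m) : Group.nilpotencyClass G ≤ m - 1 := by
  have := aux p m hG
  rwa [max_eq_left (by omega)] at this

end Cfsg.Agent.S0063
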