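import Mathlib
import Cfsg.Statements.S0065

set_option autoImplicit false
open Cfsg

namespace Cfsg.Agent.S0065

theorem aux {G : Type*} [Group G] (N : Subgroup G) [N.Normal] (n : ℕ) :
    N ⊓ Subgroup.upperCentralSeries G n ≠ ⊥ → N ⊓ Subgroup.center G ≠ ⊥ := by
  induction n with
  | zero => intro h; simp [Subgroup.upperCentralSeries_zero] at h
  | succ n ih =>
    intro h
    by_cases h0 : N ⊓ Subgroup.upperCentralSeries G n = ⊥
    · obtain ⟨⟨x, hx⟩, hx1⟩ := (Subgroup.ne_bot_iff_exists_ne_one).mp h
      have hxN : x ∈ N := hx.1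
      have hxZ : x ∈ Subgroup.upperCentralSeries G (n + 1) := hx.2
      have hx1' : x ≠ 1 := fun h => hx1 (Subtype.ext h)
      rw [Subgroup.mem_upperCentralSeries_succ_iff] at hxZ
      have hc : x ∈ Subgroup.center G := by
        rw [Subgroup.mem_center_iff]
        intro y
        have h1 : x * y * x⁻¹ * y⁻¹ ∈ N ⊓ Subgroup.upperCentralSeries G n := by
          refine ⟨?_, hxZ y⟩
          have : y * x⁻¹ * y⁻¹ ∈ N := Subgroup.Normal.conj_mem inferInstance _ (N.inv_mem hxN) y
          have h2 := N.mul_mem hxN this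
          simpa [mul_assoc] using h2
        rw [h0, Subgroup.mem_bot] at h1
        have : x * y = y * x := by
          have h3 : x * y * x⁻¹ * y⁻¹ * (y * x) = 1 * (y * x) := by rw [h1]
          simpa [mul_assoc] using h3
        exact this.symm
      intro hbot
      have : x ∈ N ⊓ Subgroup.center G := ⟨hxN, hc⟩
      rw [hbot, Subgroup.mem_bot] at this
      exact hx1' this
    · exact ih h0

/-- A nontrivial normal subgroup of a nilpotent group intersects the centre nontrivially. -/
theorem result {G : Type*} [Group G] [Finite G] [Group.IsNilpotent G]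
    (N : Subgroup G) [N.Normal] (hN : N ≠ ⊥) : N ⊓ Subgroup.center G ≠ ⊥ := by
  obtain ⟨n, hn⟩ := (Group.isNilpotent_iff (G := G)).mp inferInstance
  apply aux N n
  rw [hn, inf_top_eq]
  exact hN

end Cfsg.Agent.S0065
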