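import Mathlib
import Cfsg.Statements.S0066
import Cfsg.Agent.Lib.Helper7.Wielandt6

set_option autoImplicit false
open Cfsg

namespace Cfsg.Agent.S0066

open Cfsg.Agent.Lib.Helper7
open scoped Pointwise

lemma smul_eq_cj {G : Type*} [Group G] (g : G) (A : Subgroup G) : MulAut.conj g • A = cj g A := rfl

/-- Wielandt's subnormality criterion: a subgroup that is subnormal in its join with each of its conjugates is subnormal in the whole finite group. -/
theorem result {G : Type*} [Group G] [Finite G] (A : Subgroup G)
    (h : ∀ g : G, (A.subgroupOf (A ⊔ MulAut.conj g • A)).IsSubnormal) : A.IsSubnormal := by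
  apply wielandt_criterion
  intro x
  have := h x
  rw [smul_eq_cj] at this
  exact subnIn_of_isSubnormal_subgroupOf le_sup_left this

end Cfsg.Agent.S0066
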