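import Mathlib
import Cfsg.Statements.S0067
import Cfsg.Agent.Lib.Helper7.Wielandt6

set_option autoImplicit false
open Cfsg

namespace Cfsg.Agent.S0067

open Cfsg.Agent.Lib.Helper7
open scoped Pointwise

lemma smul_eq_cj {G : Type*} [Group G] (g : G) (A : Subgroup G) : MulAut.conj g • A = cj g A := rfl

/-- If the join of a subgroup A with each of its conjugates is nilpotent, then A is subnormal in the finite group and contained in the Fitting subgroup. -/
theorem result {G : Type*} [Group G] [Finite G] (A : Subgroup G)
    (h : ∀ g : G, Group.IsNilpotent (A ⊔ MulAut.conj g • A : Subgroup G)) : A.IsSubnormal ∧ A ≤ Cfsg.fittingSubgroup G := by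
  apply baer
  intro g
  have := h g
  rwa [smul_eq_cj] at this

end Cfsg.Agent.S0067
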