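import Cfsg.Statements.S0068
import Cfsg.Agent.Lib.Lead.Frobenius3

set_option autoImplicit false
open Pointwise
open Cfsg

namespace Cfsg.Agent.S0068

open Cfsg.Agent.Lib.Lead in
/-- an involution of a fixed-point-free complement inverts the kernel, which is abelian -/
theorem invol_inverts {G : Type*} [Group G] [Finite G] (K : Subgroup G) [K.Normal]
    (s : G) (hs2 : s * s = 1) (hfix : K ⊓ Subgroup.centralizer {s} = ⊥) :
    (∀ k ∈ K, s * k * s⁻¹ = k⁻¹) ∧ IsMulCommutative K := by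
  have hsn : s ∈ Subgroup.normalizer (K : Set G) := by
    rw [Subgroup.normalizer_eq_top]; exact Subgroup.mem_top s
  have hfpf : MonoidHom.FixedPointFree (conjHom K s hsn) := by
    intro k hk
    have h1 : s * (k : G) * s⁻¹ = k := congrArg Subtype.val hk
    have h2 : (k : G) ∈ K ⊓ Subgroup.centralizer {s} := by
      refine Subgroup.mem_inf.mpr ⟨k.2, ?_⟩
      rw [mem_centralizer_singleton_iff]
      calc s * (k : G) = (s * k * s⁻¹) * s := by group
        _ = k * s := by rw [h1]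
    rw [hfix, Subgroup.mem_bot] at h2
    exact Subtype.ext h2
  have hsinv : s⁻¹ = s := inv_eq_of_mul_eq_one_left hs2
  have hinv : Function.Involutive (conjHom K s hsn) := by
    intro k
    apply Subtype.ext
    simp only [conjHom_coe]
    calc s * (s * (k : G) * s⁻¹) * s⁻¹ = (s * s) * k * (s⁻¹ * s⁻¹) := by group
      _ = k := by rw [hsinv, hs2, one_mul, mul_one]
  constructor
  · intro k hk
    have := congrFun (hfpf.coe_eq_inv_of_involutive hinv) ⟨k, hk⟩
    exact congrArg Subtype.val this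
  · exact ⟨⟨fun a b => (hfpf.commute_all_of_involutive hinv a b).eq⟩⟩

/-- Frobenius complements of even order: if H complements a nontrivial normal subgroup K, each nonidentity element of H has trivial centraliser in K, and H has even order, then H contains a unique involution s, K is abelian, and s inverts every element of K. -/
theorem result {G : Type*} [Group G] [Finite G] (K H : Subgroup G) [K.Normal]
    (hc : Subgroup.IsComplement' K H) (hK : K ≠ ⊥) (hfpf : ∀ h ∈ H, h ≠ 1 → K ⊓ Subgroup.centralizer {h} = ⊥)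
    (heven : 2 ∣ Nat.card H) :
    (∃ s ∈ H, orderOf s = 2 ∧ (∀ t ∈ H, orderOf t = 2 → t = s) ∧ ∀ k ∈ K, s * k * s⁻¹ = k⁻¹) ∧ IsMulCommutative K := by
  haveI : Fact (Nat.Prime 2) := ⟨Nat.prime_two⟩
  obtain ⟨s, hs⟩ := exists_prime_orderOf_dvd_card' 2 heven
  have hs' : orderOf (s : G) = 2 := by rw [Subgroup.orderOf_coe]; exact hs
  have key : ∀ t ∈ H, orderOf t = 2 → (∀ k ∈ K, t * k * t⁻¹ = k⁻¹) ∧ IsMulCommutative K := by
    intro t ht hto
    have ht1 : t ≠ 1 := by
      intro h; rw [h, orderOf_one] at hto; omega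
    have ht2 : t * t = 1 := by
      rw [← pow_two, ← hto]; exact pow_orderOf_eq_one t
    exact invol_inverts K t ht2 (hfpf t ht ht1)
  obtain ⟨hsinv, hcomm⟩ := key s s.2 hs'
  refine ⟨⟨s, s.2, hs', ?_, hsinv⟩, hcomm⟩
  intro t ht hto
  obtain ⟨htinv, _⟩ := key t ht hto
  by_contra hne
  have hst : (s : G)⁻¹ * t ∈ H := H.mul_mem (H.inv_mem s.2) ht
  have hst1 : (s : G)⁻¹ * t ≠ 1 := by
    intro h
    apply hne
    have := inv_mul_eq_one.mp h
    exact this.symm
  have h1 := hfpf _ hst hst1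
  apply hK
  rw [eq_bot_iff, ← h1]
  intro k hk
  refine Subgroup.mem_inf.mpr ⟨hk, ?_⟩
  rw [Cfsg.Agent.Lib.Lead.mem_centralizer_singleton_iff]
  have e1 := htinv k hk
  have e2 := hsinv k⁻¹ (K.inv_mem hk)
  rw [inv_inv] at e2
  -- s⁻¹ t k t⁻¹ s = s⁻¹ k⁻¹ s ; and s k⁻¹ s⁻¹ = k → s⁻¹ k s = k⁻¹ ...
  have e3 : (s : G)⁻¹ * k⁻¹ * s = k := by
    have := hsinv k hk
    calc (s : G)⁻¹ * k⁻¹ * s = (s : G)⁻¹ * (s * k * (s : G)⁻¹) * s := by rw [this]
      _ = k := by group
  calc (s : G)⁻¹ * t * k = (s : G)⁻¹ * (t * k * t⁻¹) * t := by group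
    _ = (s : G)⁻¹ * k⁻¹ * t := by rw [e1]
    _ = ((s : G)⁻¹ * k⁻¹ * s) * ((s : G)⁻¹ * t) := by group
    _ = k * ((s : G)⁻¹ * t) := by rw [e3]

end Cfsg.Agent.S0068
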