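import Cfsg.Statements.S0072
import Cfsg.Agent.Lib.Lead.FrobNPC5

set_option autoImplicit false
open Cfsg

namespace Cfsg.Agent.S0072

/-- A finite group has a normal p-complement if and only if every p-local subgroup (normalizer of a nontrivial p-subgroup) has one. -/
theorem result {G : Type*} [Group G] [Finite G] (p : ℕ) [Fact p.Prime] : Cfsg.HasNormalPComplement p G ↔ ∀ Q : Subgroup G, IsPGroup p Q → Q ≠ ⊥ → Cfsg.HasNormalPComplement p (Subgroup.normalizer (Q : Set G)) := by
  constructor
  · intro h Q _ _
    exact Cfsg.Agent.Lib.Lead.hasNormalPComplement_subgroup h _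
  · intro hyp
    rw [Cfsg.Agent.Lib.Lead.hasNormalPComplement_iff_plocalCentral]
    intro D hD g hg hcop
    by_cases hD1 : D = ⊥
    · rw [hD1, Subgroup.mem_centralizer_iff]
      intro d hd
      have : d = 1 := hd
      rw [this, one_mul, mul_one]
    · have h1 := Cfsg.Agent.Lib.Lead.hasNormalPComplement_iff_plocalCentral.mp (hyp D hD hD1)
      set L := Subgroup.normalizer (D : Set G) with hL
      have hDL : D ≤ L := Subgroup.le_normalizer
      have hDp : IsPGroup p (D.subgroupOf L) := hD.comap_subtype
      have hgn : (⟨g, hg⟩ : L) ∈ Subgroup.normalizer ((D.subgroupOf L : Subgroup L) : Set L) := by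
        have : (D.subgroupOf L).Normal := Subgroup.normal_in_normalizer
        rw [Subgroup.normalizer_eq_top_iff.mpr this]
        trivial
      have hord : orderOf (⟨g, hg⟩ : L) = orderOf g := (Subgroup.orderOf_coe (⟨g, hg⟩ : L)).symm
      have h2 := h1 (D.subgroupOf L) hDp ⟨g, hg⟩ hgn (by rw [hord]; exact hcop)
      rw [Subgroup.mem_centralizer_iff] at h2 ⊢
      intro d hd
      have h3 := h2 ⟨d, hDL hd⟩ (Subgroup.mem_subgroupOf.mpr hd)
      exact congrArg Subtype.val h3

end Cfsg.Agent.S0072
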