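import Cfsg.Statements.S0073
import Mathlib
import Cfsg.Agent.Lib.Lead.AbelianSylowP

set_option autoImplicit false
open Cfsg

namespace Cfsg.Agent.S0073

/-- For a finite non-abelian simple group, either the cube of the least prime divisor of the order divides the order, or 12 does. -/
theorem result {G : Type*} [Group G] [Finite G] [IsSimpleGroup G] (hG : ∃ x y : G, x * y ≠ y * x) : (Nat.card G).minFac ^ 3 ∣ Nat.card G ∨ 12 ∣ Nat.card G := by
  classical
  obtain ⟨x, y, hxy⟩ := hG
  set n := Nat.card G with hn
  have hn1 : n ≠ 1 := by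
    intro h1
    have : Subsingleton G := (Nat.card_eq_one_iff_unique.mp h1).1
    exact hxy (Subsingleton.elim _ _)
  have hn0 : n ≠ 0 := Nat.card_pos.ne'
  have hp : n.minFac.Prime := Nat.minFac_prime hn1
  set p := n.minFac with hpdef
  haveI : Fact p.Prime := ⟨hp⟩
  by_contra hcon
  push_neg at hcon
  obtain ⟨hc3, hc12⟩ := hcon
  obtain ⟨P⟩ : Nonempty (Sylow p G) := inferInstance
  have hPcard : Nat.card P = p ^ (n.factorization p) := P.card_eq_multiplicity
  set k := n.factorization p with hk
  have hk1 : 1 ≤ k := by
    have : 0 < k := hp.factorization_pos_of_dvd hn0 (Nat.minFac_dvd n)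
    exact this
  have hk2 : k ≤ 2 := by
    by_contra h3
    push_neg at h3
    apply hc3
    have : p ^ k ∣ n := Nat.ordProj_dvd n p
    exact (pow_dvd_pow p h3).trans this
  have hpk : p ^ k ∣ n := Nat.ordProj_dvd n p
  have hTc : IsMulCommutative P := by
    have hk12 : k = 1 ∨ k = 2 := by omega
    rcases hk12 with h1 | h2
    · rw [h1, pow_one] at hPcard
      haveI : IsCyclic P := isCyclic_of_prime_card hPcard
      exact IsCyclic.isMulCommutative
    · rw [h2] at hPcard
      exact IsPGroup.isMulCommutative_of_card_eq_prime_sq hPcard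
  have hnpc : Cfsg.HasNormalPComplement p G := by
    apply Cfsg.Agent.Lib.Lead.hasNormalPComplement_gen P hTc k hPcard
    intro q hq hqn hqp i hi1 hik hdvd
    have hpq : p ≤ q := Nat.minFac_le_of_dvd hq.two_le hqn
    have hpq' : p < q := lt_of_le_of_ne hpq (Ne.symm hqp)
    have hp2 : 2 ≤ p := hp.two_le
    have hi12 : i = 1 ∨ i = 2 := by omega
    have hq1 : ¬ q ∣ p - 1 := by
      intro h
      have := Nat.le_of_dvd (by omega) h
      omega
    rcases hi12 with rfl | rfl
    · rw [pow_one] at hdvd
      exact hq1 hdvd
    · have hfac : p ^ 2 - 1 = (p - 1) * (p + 1) := by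
        obtain ⟨m, hm⟩ : ∃ m, p = m + 1 := ⟨p - 1, by omega⟩
        rw [hm]
        simp only [Nat.add_sub_cancel]
        have : (m + 1) ^ 2 = m * (m + 1 + 1) + 1 := by ring
        omega
      rw [hfac] at hdvd
      rcases (Nat.Prime.dvd_mul hq).mp hdvd with h | h
      · exact hq1 h
      · have hle := Nat.le_of_dvd (by omega) h
        have hqeq : q = p + 1 := by omega
        have hk2' : k = 2 := by omega
        -- p = 2, q = 3
        have hpeven : p = 2 := by
          rcases hp.eq_two_or_odd with h2 | hodd
          · exact h2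
          · exfalso
            have hqeven : q % 2 = 0 := by omega
            have : q = 2 := (Nat.Prime.even_iff hq).mp (Nat.even_iff.mpr hqeven)
            omega
        apply hc12
        have h4 : 4 ∣ n := by
          have := hpk
          rw [hk2', hpeven] at this
          simpa using this
        have h3 : 3 ∣ n := by
          have : q = 3 := by omega
          rw [← this]; exact hqn
        exact Nat.Coprime.mul_dvd_of_dvd_of_dvd (by norm_num) h4 h3
  obtain ⟨P', N, hN, hcompl⟩ := hnpc
  have hP'card : Nat.card P' = p ^ k := P'.card_eq_multiplicity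
  rcases hN.eq_bot_or_eq_top with hbot | htop
  · -- P' = ⊤
    have hP'top : (P' : Subgroup G) = ⊤ := by
      have h1 := hcompl.card_mul_card
      rw [hbot, Subgroup.card_bot, one_mul] at h1
      exact (Subgroup.card_eq_iff_eq_top _).mp h1
    have hcomm : IsMulCommutative P' := by
      have hk12 : k = 1 ∨ k = 2 := by omega
      rcases hk12 with h1 | h2
      · rw [h1, pow_one] at hP'card
        haveI : IsCyclic P' := isCyclic_of_prime_card hP'card
        exact IsCyclic.isMulCommutative
      · rw [h2] at hP'card
        exact IsPGroup.isMulCommutative_of_card_eq_prime_sq hP'card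
    have hx : x ∈ (P' : Subgroup G) := by rw [hP'top]; trivial
    have hy : y ∈ (P' : Subgroup G) := by rw [hP'top]; trivial
    have := hcomm.is_comm.comm ⟨x, hx⟩ ⟨y, hy⟩
    exact hxy (congrArg Subtype.val this)
  · have h1 := hcompl.card_mul_card
    rw [htop, Subgroup.card_top] at h1
    have : Nat.card (P' : Subgroup G) = 1 := by
      have hpos : 0 < Nat.card G := Nat.card_pos
      exact Nat.eq_of_mul_eq_mul_left hpos (by rw [h1, mul_one])
    rw [hP'card] at this
    have h2 : 2 ≤ p := hp.two_le
    have : 2 ^ 1 ≤ p ^ k := (Nat.pow_le_pow_left h2 1).trans (Nat.pow_le_pow_right (by omega) hk1)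
    omega

end Cfsg.Agent.S0073
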