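import Cfsg.Statements.S0076
import Mathlib

set_option autoImplicit false
open Pointwise
open Cfsg

namespace Cfsg.Agent.S0076

theorem mem_normalizer_iff_image_eq {G : Type*} [Group G] (Y : Set G) (c : G) :
    c ∈ Subgroup.normalizer Y ↔ (fun y => c * y * c⁻¹) '' Y = Y :=
  Subgroup.mem_normalizer_iff_conj_image_eq

theorem image_comp {G : Type*} [Group G] (X : Set G) (a b : G) :
    (fun y => (a * b) * y * (a * b)⁻¹) '' X = (fun y => a * y * a⁻¹) '' ((fun y => b * y * b⁻¹) '' X) := by
  rw [Set.image_image]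
  congr 1
  funext y
  group

/-- Two P-invariant subsets of a Sylow p-subgroup P that are conjugate in G are conjugate under the normalizer of P. -/
theorem result {G : Type*} [Group G] [Finite G] {p : ℕ} [Fact p.Prime] (P : Sylow p G) (X Y : Set G) (hXP : X ⊆ P) (hYP : Y ⊆ P) (hX : ∀ x ∈ P, (fun y => x * y * x⁻¹) '' X = X) (hY : ∀ x ∈ P, (fun y => x * y * x⁻¹) '' Y = Y) (g : G) (hg : (fun y => g * y * g⁻¹) '' X = Y) : ∃ n ∈ Subgroup.normalizer (P : Set G), (fun y => n * y * n⁻¹) '' X = Y := by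
  have h1 : (P : Subgroup G) ≤ Subgroup.normalizer Y := fun x hx =>
    (mem_normalizer_iff_image_eq Y x).mpr (hY x hx)
  have hg' : (fun y => g⁻¹ * y * g⁻¹⁻¹) '' Y = X := by
    rw [← hg, ← image_comp, inv_mul_cancel]
    simp
  have h2 : ((g • P : Sylow p G) : Subgroup G) ≤ Subgroup.normalizer Y := by
    intro w hw
    rw [Sylow.coe_subgroup_smul, Subgroup.mem_pointwise_smul_iff_inv_smul_mem] at hw
    simp only [MulAut.smul_def, map_inv, MulAut.inv_apply, MulAut.conj_symm_apply] at hw
    rw [mem_normalizer_iff_image_eq]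
    have hz := hX _ hw
    have e : w = g * (g⁻¹ * w * g) * g⁻¹ := by group
    rw [e, image_comp, image_comp, hg', hz, hg]
  obtain ⟨h, hh⟩ :=
    MulAction.exists_smul_eq (Subgroup.normalizer Y) ((g • P).subtype h2) (P.subtype h1)
  simp_rw [Sylow.smul_subtype, Subgroup.smul_def, smul_smul] at hh
  refine ⟨h * g, Sylow.smul_eq_iff_mem_normalizer.mp (Sylow.subtype_injective hh), ?_⟩
  have h3 := (mem_normalizer_iff_image_eq Y h).mp h.2
  rw [image_comp, hg, h3]

end Cfsg.Agent.S0076
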