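import Cfsg.Statements.S0079
import Cfsg.Agent.Lib.Lead.NilpHallCompl

set_option autoImplicit false
open Cfsg

namespace Cfsg.Agent.S0079

/-- A nilpotent Hall subgroup has a normal complement exactly when elements of it that are conjugate in the whole group are already conjugate inside it. -/
theorem result {G : Type*} [Group G] [Finite G] (H : Subgroup G) (hH : Group.IsNilpotent H) (hHall : Nat.Coprime (Nat.card H) H.index) : (∃ N : Subgroup G, N.Normal ∧ N.IsComplement' H) ↔ ∀ x ∈ H, ∀ y ∈ H, (∃ g : G, g * x * g⁻¹ = y) → ∃ h ∈ H, h * x * h⁻¹ = y := by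
  constructor
  · rintro ⟨N, hN, hc⟩ x hx y hy ⟨g, hg⟩
    have hsup : N ⊔ H = ⊤ := hc.sup_eq_top
    have hdisj : N ⊓ H = ⊥ := disjoint_iff.mp hc.disjoint
    have hgm : g ∈ N ⊔ H := by rw [hsup]; trivial
    obtain ⟨n, hn, h, hh, hnh⟩ := Subgroup.mem_sup_of_normal_left.mp hgm
    refine ⟨h, hh, ?_⟩
    set z := h * x * h⁻¹ with hz
    have hzH : z ∈ H := H.mul_mem (H.mul_mem hh hx) (H.inv_mem hh)
    have hy' : y = n * z * n⁻¹ := by rw [← hg, ← hnh, hz]; group
    have h1 : y * z⁻¹ ∈ N := by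
      have : y * z⁻¹ = n * (z * n⁻¹ * z⁻¹) := by rw [hy']; group
      rw [this]
      exact N.mul_mem hn (hN.conj_mem _ (N.inv_mem hn) z)
    have h2 : y * z⁻¹ ∈ N ⊓ H := Subgroup.mem_inf.mpr ⟨h1, H.mul_mem hy (H.inv_mem hzH)⟩
    rw [hdisj, Subgroup.mem_bot] at h2
    exact (mul_inv_eq_one.mp h2).symm
  · intro hyp
    exact Cfsg.Agent.Lib.Lead.nilpotent_hall_normal_complement H hH hHall hyp

end Cfsg.Agent.S0079
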