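import Cfsg.Statements.S0084
import Cfsg.Agent.Lib.Lead.AbelianSylow2

set_option autoImplicit false
open Pointwise
open Cfsg

namespace Cfsg.Agent.S0084

/-- A group whose Sylow 2-subgroups are Klein four-groups and whose order is prime to 3 has a normal 2-complement. -/
theorem result {G : Type*} [Group G] [Finite G] (T : Sylow 2 G) (hT : IsKleinFour T) (h3 : ¬ 3 ∣ Nat.card G) : Cfsg.HasNormalPComplement 2 G := by
  have hcomm : IsMulCommutative T :=
    ⟨⟨mul_comm_of_exponent_two (G := T) hT.exponent_two⟩⟩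
  apply Cfsg.Agent.Lib.Lead.hasNormalPComplement_two T hcomm 2 (by rw [hT.card_four]; norm_num)
  intro q hq hqd hq2 i hi1 hi2 hdvd
  interval_cases i
  · norm_num at hdvd
    exact hq.one_lt.ne' hdvd
  · norm_num at hdvd
    have : q = 3 := (Nat.prime_dvd_prime_iff_eq hq Nat.prime_three).mp hdvd
    exact h3 (this ▸ hqd)

end Cfsg.Agent.S0084
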