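import Cfsg.Statements.S0085
import Cfsg.Agent.Lib.Lead.AbelianSylow2

set_option autoImplicit false
open Pointwise
open Cfsg

namespace Cfsg.Agent.S0085

/-- A group whose Sylow 2-subgroups are elementary abelian of order 8 and whose order is prime to 3 and to 7 has a normal 2-complement. -/
theorem result {G : Type*} [Group G] [Finite G] (T : Sylow 2 G) (h8 : Nat.card T = 8) (he : ∀ x : T, x * x = 1) (h3 : ¬ 3 ∣ Nat.card G) (h7 : ¬ 7 ∣ Nat.card G) : Cfsg.HasNormalPComplement 2 G := by
  have hcomm : IsMulCommutative T := by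
    refine ⟨⟨fun a b => ?_⟩⟩
    have h1 := he (a * b)
    have h2 : a * b = b⁻¹ * a⁻¹ := by
      have : (a * b)⁻¹ = a * b := inv_eq_of_mul_eq_one_left h1
      rw [← this, mul_inv_rev]
    have ha : a⁻¹ = a := inv_eq_of_mul_eq_one_left (he a)
    have hb : b⁻¹ = b := inv_eq_of_mul_eq_one_left (he b)
    rw [h2, ha, hb]
  apply Cfsg.Agent.Lib.Lead.hasNormalPComplement_two T hcomm 3 (by rw [h8]; norm_num)
  intro q hq hqd hq2 i hi1 hi2 hdvd
  interval_cases i
  · norm_num at hdvd
    exact hq.one_lt.ne' hdvd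
  · norm_num at hdvd
    have : q = 3 := (Nat.prime_dvd_prime_iff_eq hq Nat.prime_three).mp hdvd
    exact h3 (this ▸ hqd)
  · norm_num at hdvd
    have : q = 7 := (Nat.prime_dvd_prime_iff_eq hq (by norm_num)).mp hdvd
    exact h7 (this ▸ hqd)

end Cfsg.Agent.S0085
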