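import Cfsg.Statements.S0086
import Mathlib

set_option autoImplicit false
open Pointwise
open Cfsg

namespace Cfsg.Agent.S0086

/-- A normal complement to a Sylow p-subgroup is exactly the set of elements of order prime to p. -/
theorem result {G : Type*} [Group G] [Finite G] {p : ℕ} [Fact p.Prime] (P : Sylow p G) (N : Subgroup G) [N.Normal] (hN : N.IsComplement' (P : Subgroup G)) (x : G) : x ∈ N ↔ Nat.Coprime (orderOf x) p := by
  have hp : p.Prime := Fact.out
  have hcard : Nat.card N * Nat.card (P : Subgroup G) = Nat.card G := hN.card_mul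
  have hidx : Nat.card (P : Subgroup G) * (P : Subgroup G).index = Nat.card G :=
    Subgroup.card_mul_index _
  have hNidx : Nat.card N = (P : Subgroup G).index := by
    have h0 : 0 < Nat.card (P : Subgroup G) := Nat.card_pos
    have : Nat.card (P : Subgroup G) * Nat.card N = Nat.card (P : Subgroup G) * (P : Subgroup G).index := by
      rw [hidx, mul_comm, hcard]
    exact Nat.eq_of_mul_eq_mul_left h0 this
  have hNcop : (Nat.card N).Coprime p := by
    rw [hNidx, Nat.coprime_comm]
    exact (Nat.Prime.coprime_iff_not_dvd hp).mpr P.not_dvd_index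
  constructor
  · intro hx
    exact Nat.Coprime.coprime_dvd_left (Subgroup.orderOf_dvd_natCard N hx) hNcop
  · intro hx
    -- order of image in G ⧸ N divides orderOf x and |G/N| = |P| = p^k
    rw [← QuotientGroup.eq_one_iff]
    have h1 : orderOf (x : G ⧸ N) ∣ orderOf x := orderOf_dvd_of_pow_eq_one (by
      rw [← QuotientGroup.mk_pow, pow_orderOf_eq_one]; rfl)
    have h2 : orderOf (x : G ⧸ N) ∣ Nat.card (G ⧸ N) := orderOf_dvd_natCard _
    have h3 : Nat.card (G ⧸ N) = Nat.card (P : Subgroup G) := by
      rw [← Subgroup.index_eq_card]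
      have h0 : 0 < Nat.card N := Nat.card_pos
      have : Nat.card N * N.index = Nat.card N * Nat.card (P : Subgroup G) := by
        rw [Subgroup.card_mul_index, hcard]
      exact Nat.eq_of_mul_eq_mul_left h0 this
    obtain ⟨k, hk⟩ := (IsPGroup.iff_card).mp P.isPGroup'
    rw [h3, hk] at h2
    have h4 : (orderOf (x : G ⧸ N)).Coprime (p ^ k) :=
      Nat.Coprime.pow_right k (Nat.Coprime.coprime_dvd_left h1 hx)
    have h5 : orderOf (x : G ⧸ N) = 1 := Nat.Coprime.eq_one_of_dvd h4 h2
    exact orderOf_eq_one_iff.mp h5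

end Cfsg.Agent.S0086
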