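import Cfsg.Statements.S0089
import Cfsg.Agent.Lib.Lead.Hall

set_option autoImplicit false
open Pointwise
open Cfsg

namespace Cfsg.Agent.S0089

/-- When all Sylow subgroups are abelian, the derived subgroup meets the centre trivially. -/
theorem result {G : Type*} [Group G] [Finite G] (h : ∀ p : ℕ, p.Prime → ∀ P : Sylow p G, IsMulCommutative P) : commutator G ⊓ Subgroup.center G = ⊥ := by
  rw [eq_bot_iff]
  rintro x ⟨hxG, hxc⟩
  rw [Subgroup.mem_bot]
  by_contra hx1
  have hord : orderOf x ≠ 1 := fun h => hx1 (orderOf_eq_one_iff.mp h)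
  obtain ⟨p, hp, hpd⟩ := Nat.exists_prime_and_dvd hord
  haveI : Fact p.Prime := ⟨hp⟩
  have hpos : orderOf x ≠ 0 := (orderOf_pos x).ne'
  set y := x ^ (orderOf x / p) with hy
  have hyo : orderOf y = p := orderOf_pow_orderOf_div hpos hpd
  have hyG : y ∈ commutator G := Subgroup.pow_mem _ hxG _
  have hyc : y ∈ Subgroup.center G := Subgroup.pow_mem _ hxc _
  obtain ⟨P⟩ : Nonempty (Sylow p G) := inferInstance
  have hn : (Subgroup.zpowers y).Normal := Cfsg.Agent.Lib.Lead.zpowers_normal_of_mem_center hyc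
  have hpg : IsPGroup p (Subgroup.zpowers y) := by
    apply IsPGroup.of_card (n := 1)
    rw [Nat.card_zpowers, hyo, pow_one]
  have hyP : y ∈ (P : Subgroup G) := hpg.le_sylow_of_normal P (Subgroup.mem_zpowers y)
  have h1 := Cfsg.Agent.Lib.Lead.hall_inf_commutator_inf_center (P : Subgroup G) (h p hp P)
    P.card_coprime_index
  have h2 : y ∈ (P : Subgroup G) ⊓ commutator G ⊓ Subgroup.center G := ⟨⟨hyP, hyG⟩, hyc⟩
  rw [h1, Subgroup.mem_bot] at h2
  rw [h2, orderOf_one] at hyo
  exact hp.one_lt.ne hyo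

end Cfsg.Agent.S0089
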