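import Cfsg.Statements.S0090
import Cfsg.Agent.Lib.Lead.Hall

set_option autoImplicit false
open Pointwise
open Cfsg
open Cfsg.Agent.Lib.Lead
open scoped commutatorElement

namespace Cfsg.Agent.S0090

/-- An abelian normal Hall subgroup A splits as the internal direct product of G' ∩ A and Z(G) ∩ A, and [A, G] = G' ∩ A. -/
theorem result {G : Type*} [Group G] [Finite G] (A : Subgroup G) [A.Normal] (hc : IsMulCommutative A) (hHall : Nat.Coprime (Nat.card A) A.index) : ⁅A, (⊤ : Subgroup G)⁆ = commutator G ⊓ A ∧ (commutator G ⊓ A) ⊓ (Subgroup.center G ⊓ A) = ⊥ ∧ (commutator G ⊓ A) ⊔ (Subgroup.center G ⊓ A) = A := by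
  obtain ⟨K, hK⟩ := Subgroup.exists_right_complement'_of_coprime hHall
  have hKA : K ≤ Subgroup.normalizer (A : Set G) := by
    rw [Subgroup.normalizer_eq_top]; exact le_top
  have hcardK : Nat.card K = A.index := by
    have h1 : Nat.card A * Nat.card K = Nat.card G := hK.card_mul
    have h2 : Nat.card A * A.index = Nat.card G := Subgroup.card_mul_index A
    exact Nat.eq_of_mul_eq_mul_left Nat.card_pos (h1.trans h2.symm)
  have hcop : (Nat.card K).Coprime (Nat.card A) := by rw [hcardK]; exact hHall.symm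
  obtain ⟨hd1, hd2⟩ := coprime_abelian_decomp K A hKA hcop
  have hsup : A ⊔ K = ⊤ := hK.sup_eq_top
  have hcomm : ∀ a ∈ A, ∀ b ∈ A, a * b = b * a := fun a ha b hb =>
    congrArg Subtype.val (hc.is_comm.comm ⟨a, ha⟩ ⟨b, hb⟩)
  -- (i) fixed points = centre ∩ A
  have hi : A ⊓ Subgroup.centralizer (K : Set G) = Subgroup.center G ⊓ A := by
    ext a
    rw [Subgroup.mem_inf, Subgroup.mem_inf]
    constructor
    · rintro ⟨haA, haK⟩
      refine ⟨?_, haA⟩
      rw [Subgroup.mem_center_iff]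
      intro g
      have hg : g ∈ A ⊔ K := hsup ▸ Subgroup.mem_top g
      rw [Subgroup.mem_sup_of_normal_left] at hg
      obtain ⟨a', ha', k, hk, rfl⟩ := hg
      have h1 : k * a = a * k := (Subgroup.mem_centralizer_iff.mp haK) k hk
      rw [mul_assoc, h1, ← mul_assoc, hcomm a' ha' a haA, mul_assoc]
    · rintro ⟨hac, haA⟩
      refine ⟨haA, ?_⟩
      rw [Subgroup.mem_centralizer_iff]
      intro k _
      exact (Subgroup.mem_center_iff.mp hac) k
  -- (ii) [A,K] = [A,⊤]
  have hii : ⁅A, K⁆ = ⁅A, (⊤ : Subgroup G)⁆ := by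
    apply le_antisymm (Subgroup.commutator_mono le_rfl le_top)
    rw [Subgroup.commutator_le]
    intro a ha g _
    have hg : g ∈ A ⊔ K := hsup ▸ Subgroup.mem_top g
    rw [Subgroup.mem_sup_of_normal_left] at hg
    obtain ⟨a', ha', k, hk, rfl⟩ := hg
    have hak : ⁅a, k⁆ ∈ A := commutator_le_of_le_normalizer K A hKA
      (Subgroup.commutator_mem_commutator ha hk)
    have e : ⁅a, a' * k⁆ = ⁅a, k⁆ := by
      have e1 : ⁅a, a' * k⁆ = (a * a') * k * a⁻¹ * k⁻¹ * a'⁻¹ := by
        rw [commutatorElement_def]; group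
      have e2 : (a * a') * k * a⁻¹ * k⁻¹ * a'⁻¹ = a' * ⁅a, k⁆ * a'⁻¹ := by
        rw [hcomm a ha a' ha', commutatorElement_def]; group
      rw [e1, e2, hcomm a' ha' _ hak, mul_inv_cancel_right]
    rw [e]
    exact Subgroup.commutator_mem_commutator ha hk
  have hAKle : ⁅A, K⁆ ≤ commutator G ⊓ A := by
    apply le_inf
    · rw [commutator_def]; exact Subgroup.commutator_mono le_top le_top
    · exact commutator_le_of_le_normalizer K A hKA
  -- (iii) G' ∩ A = [A,K]
  have hiii : commutator G ⊓ A = ⁅A, K⁆ := by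
    apply le_antisymm _ hAKle
    intro x hx0
    obtain ⟨hxG, hxA⟩ := Subgroup.mem_inf.mp hx0
    have hx : x ∈ (A ⊓ Subgroup.centralizer (K : Set G)) ⊔ ⁅A, K⁆ := by rw [hd2]; exact hxA
    have hnorm : (⁅A, K⁆).Normal := by
      rw [hii]; exact Subgroup.commutator_normal A ⊤
    rw [Subgroup.mem_sup_of_normal_right] at hx
    obtain ⟨c, hcm, d, hd, rfl⟩ := hx
    have hcz : c ∈ Subgroup.center G ⊓ A := hi ▸ hcm
    rw [Subgroup.mem_inf] at hcz
    have hdG : d ∈ commutator G := (Subgroup.mem_inf.mp (hAKle hd)).1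
    have hcG : c ∈ commutator G := by
      have := Subgroup.mul_mem _ hxG (Subgroup.inv_mem _ hdG)
      rwa [mul_inv_cancel_right] at this
    have h0 := hall_inf_commutator_inf_center A hc hHall
    have hc1 : c ∈ A ⊓ commutator G ⊓ Subgroup.center G :=
      Subgroup.mem_inf.mpr ⟨Subgroup.mem_inf.mpr ⟨hcz.2, hcG⟩, hcz.1⟩
    rw [h0, Subgroup.mem_bot] at hc1
    rw [hc1, one_mul]; exact hd
  refine ⟨by rw [← hii, hiii], ?_, ?_⟩
  · rw [hiii, ← hi, inf_comm]; exact hd1
  · rw [hiii, ← hi, sup_comm]; exact hd2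

end Cfsg.Agent.S0090
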