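import Cfsg.Statements.S0091
import Cfsg.Agent.Lib.Lead.Focal

set_option autoImplicit false
open Pointwise
open Cfsg

namespace Cfsg.Agent.S0091

/-- If a nontrivial Sylow p-subgroup controls its own fusion then it is not contained in the derived subgroup. -/
theorem result {G : Type*} [Group G] [Finite G] {p : ℕ} [Fact p.Prime] (P : Sylow p G) (hp : p ∣ Nat.card G) (h : ∀ x ∈ P, ∀ y ∈ P, (∃ g : G, g * x * g⁻¹ = y) → ∃ z ∈ P, z * x * z⁻¹ = y) : ¬ (P : Subgroup G) ≤ commutator G := by
  intro hle
  have h1 := Cfsg.Agent.Lib.Lead.commutator_inf_sylow_eq_of_control P (P : Subgroup G) le_rfl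
    (fun x hx g hg => h x hx _ hg ⟨g, rfl⟩)
  have h2 : (P : Subgroup G) ≤ ⁅(P : Subgroup G), (P : Subgroup G)⁆ := by
    have h0 : (P : Subgroup G) ≤ commutator G ⊓ (P : Subgroup G) := le_inf hle le_rfl
    rw [h1] at h0
    exact h0.trans inf_le_left
  -- but P is a nontrivial nilpotent group
  have hnt : Nontrivial (P : Subgroup G) := by
    rw [← Finite.one_lt_card_iff_nontrivial, Sylow.card_eq_multiplicity]
    apply Nat.one_lt_pow _ (Fact.out : p.Prime).one_lt
    have := (Nat.Prime.factorization_pos_of_dvd (Fact.out : p.Prime) Nat.card_pos.ne' hp)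
    omega
  have hnil : Group.IsNilpotent (P : Subgroup G) := P.isPGroup'.isNilpotent
  have h3 : commutator (P : Subgroup G) < ⊤ :=
    Group.IsSolvable.commutator_lt_top_of_nontrivial (P : Subgroup G)
  have h4 := (Subgroup.map_lt_map_iff_of_injective (f := (P : Subgroup G).subtype)
    (P : Subgroup G).subtype_injective).mpr h3
  rw [Subgroup.map_subtype_commutator, ← MonoidHom.range_eq_map, Subgroup.range_subtype] at h4
  exact (not_le_of_gt h4) h2

end Cfsg.Agent.S0091
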