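import Cfsg.Statements.S0099
import Cfsg.Agent.Lib.Lead.Extra7

set_option autoImplicit false
open Cfsg
open Cfsg.Agent.Lib.Lead

namespace Cfsg.Agent.S0099

/-- Among three extraspecial 2-groups of equal order, some two are isomorphic. -/
theorem result {E₁ : Type*} {E₂ : Type*} {E₃ : Type*} [Group E₁] [Group E₂] [Group E₃] [Finite E₁] [Finite E₂] [Finite E₃] (h₁ : Cfsg.IsExtraspecial 2 E₁) (h₂ : Cfsg.IsExtraspecial 2 E₂) (h₃ : Cfsg.IsExtraspecial 2 E₃) (h12 : Nat.card E₁ = Nat.card E₂) (h23 : Nat.card E₂ = Nat.card E₃) : Nonempty (E₁ ≃* E₂) ∨ Nonempty (E₂ ≃* E₃) ∨ Nonempty (E₁ ≃* E₃) := by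
  obtain ⟨n₁, -, hc₁, hi₁⟩ := Extra.main_types h₁
  obtain ⟨n₂, -, hc₂, hi₂⟩ := Extra.main_types h₂
  obtain ⟨n₃, -, hc₃, hi₃⟩ := Extra.main_types h₃
  have e12 : n₁ = n₂ := by
    have : (2 : ℕ) ^ (2 * n₁ + 1) = 2 ^ (2 * n₂ + 1) := by rw [← hc₁, ← hc₂, h12]
    have := Nat.pow_right_injective (le_refl 2) this
    omega
  have e23 : n₂ = n₃ := by
    have : (2 : ℕ) ^ (2 * n₂ + 1) = 2 ^ (2 * n₃ + 1) := by rw [← hc₂, ← hc₃, h23]
    have := Nat.pow_right_injective (le_refl 2) this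
    omega
  subst e12
  subst e23
  by_cases c12 : Extra.inv2 E₁ = Extra.inv2 E₂
  · exact Or.inl (Extra.main_iso h₁ h₂ h12 c12)
  by_cases c23 : Extra.inv2 E₂ = Extra.inv2 E₃
  · exact Or.inr (Or.inl (Extra.main_iso h₂ h₃ h23 c23))
  right; right
  apply Extra.main_iso h₁ h₃ (h12.trans h23)
  rcases hi₁ with a | a <;> rcases hi₂ with b | b <;> rcases hi₃ with c | c <;>
    first
    | (exfalso; apply c12; rw [a, b]; done)
    | (exfalso; apply c23; rw [b, c]; done)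
    | (rw [a, c])

end Cfsg.Agent.S0099
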