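import Cfsg.Statements.S0101
import Mathlib
import Cfsg.Agent.Lib.Lead.Frattini2

set_option autoImplicit false
open Cfsg

namespace Cfsg.Agent.S0101

/-- In a perfect central extension, the kernel meets each Sylow p-subgroup P inside the Frattini subgroup of P. -/
theorem result {H : Type*} {G : Type*} [Group H] [Group G] [Finite H] (σ : H →* G) (hσ : Function.Surjective σ) (hc : σ.ker ≤ Subgroup.center H) (hH : commutator H = ⊤) {p : ℕ} [Fact p.Prime] (P : Sylow p H) : σ.ker ⊓ (P : Subgroup H) ≤ (frattini P).map (P : Subgroup H).subtype := by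
  classical
  intro z hz
  obtain ⟨hzker, hzP⟩ := Subgroup.mem_inf.mp hz
  have hzc : z ∈ Subgroup.center H := hc hzker
  -- the transfer into the abelianization of P
  let ϕ : (P : Subgroup H) →* Abelianization (P : Subgroup H) := Abelianization.of
  have key : ∀ (k : ℕ) (g₀ : H), g₀⁻¹ * z ^ k * g₀ ∈ (P : Subgroup H) → g₀⁻¹ * z ^ k * g₀ = z ^ k := by
    intro k g₀ _
    have hzk : z ^ k ∈ Subgroup.center H := Subgroup.pow_mem _ hzc k
    have := Subgroup.mem_center_iff.mp hzk g₀
    rw [mul_assoc, ← this, inv_mul_cancel_left]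
  have h1 := MonoidHom.transfer_eq_pow ϕ z key
  -- the transfer is trivial since H is perfect
  have h2 : MonoidHom.transfer ϕ z = 1 := by
    have hle : commutator H ≤ (MonoidHom.transfer ϕ).ker :=
      Abelianization.commutator_subset_ker _
    have : z ∈ commutator H := by rw [hH]; trivial
    exact hle this
  rw [h2] at h1
  have h3 : (⟨z ^ (P : Subgroup H).index, MonoidHom.transfer_eq_pow_aux z key⟩ : (P : Subgroup H)) ∈
      commutator (P : Subgroup H) := by
    rw [← Abelianization.ker_of, MonoidHom.mem_ker]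
    exact h1.symm
  have h4 := Cfsg.Agent.Lib.Lead.commutator_le_frattini_of_isPGroup P.isPGroup' h3
  -- recover z from z ^ index
  have hcop : ((P : Subgroup H).index).Coprime (orderOf z) := by
    have h5 : orderOf z ∣ Nat.card (P : Subgroup H) := Subgroup.orderOf_dvd_natCard _ hzP
    exact (Nat.Coprime.coprime_dvd_left h5 P.card_coprime_index).symm
  obtain ⟨m, hm⟩ := exists_pow_eq_self_of_coprime hcop
  refine ⟨⟨z, hzP⟩, ?_, rfl⟩
  have h6 := Subgroup.pow_mem _ h4 m
  have h7 : (⟨z ^ (P : Subgroup H).index, MonoidHom.transfer_eq_pow_aux z key⟩ : (P : Subgroup H)) ^ m =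
      ⟨z, hzP⟩ := by
    apply Subtype.ext
    simpa using hm
  rwa [h7] at h6

end Cfsg.Agent.S0101
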