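import Cfsg.Statements.S0104
import Cfsg.Agent.Lib.Lead.Fusion

set_option autoImplicit false
open Pointwise
open Cfsg
open Cfsg.Agent.Lib.Lead

namespace Cfsg.Agent.S0104

/-- A subgroup Z of a Sylow p-subgroup P that is normalized by N_G(P) is weakly closed in P exactly when it is normal in every Sylow p-subgroup containing it. -/
theorem result {G : Type*} [Group G] [Finite G] {p : ℕ} [Fact p.Prime] (P : Sylow p G) (Z : Subgroup G) (hZP : Z ≤ (P : Subgroup G)) (hZN : Subgroup.normalizer (P : Set G) ≤ Subgroup.normalizer (Z : Set G)) : Cfsg.IsWeaklyClosed Z P ↔ ∀ R : Sylow p G, Z ≤ (R : Subgroup G) → (R : Subgroup G) ≤ Subgroup.normalizer (Z : Set G) := by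
  constructor
  · intro hW R hZR
    obtain ⟨g, hg⟩ := MulAction.exists_smul_eq G P R
    have hRP : ∀ w : G, w ∈ (R : Subgroup G) → g⁻¹ * w * g ∈ (P : Subgroup G) := by
      intro w hw
      rw [← hg, Sylow.coe_subgroup_smul, mem_conj_smul_iff] at hw
      exact hw
    have n1 : g⁻¹ ∈ Subgroup.normalizer (Z : Set G) := by
      apply mem_normalizer_of_weaklyClosed hW
      intro z hz
      rw [inv_inv]
      exact hRP z (hZR hz)
    intro r hr
    have h1 : g⁻¹ * r * g ∈ Subgroup.normalizer (Z : Set G) :=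
      hZN (Subgroup.le_normalizer (hRP r hr))
    have h2 := Subgroup.mul_mem _ (Subgroup.mul_mem _ (Subgroup.inv_mem _ n1) h1) n1
    have e : g⁻¹⁻¹ * (g⁻¹ * r * g) * g⁻¹ = r := by group
    rwa [e] at h2
  · intro h
    refine ⟨hZP, ?_⟩
    intro g hg
    rw [map_conj_le_iff] at hg
    have h1 : (P : Subgroup G) ≤ Subgroup.normalizer (Z : Set G) := h P hZP
    have hZR : Z ≤ ((g⁻¹ • P : Sylow p G) : Subgroup G) := by
      intro z hz
      rw [Sylow.coe_subgroup_smul, mem_conj_smul_iff, inv_inv]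
      exact hg z hz
    have h2 : ((g⁻¹ • P : Sylow p G) : Subgroup G) ≤ Subgroup.normalizer (Z : Set G) := h _ hZR
    obtain ⟨c, hc⟩ :=
      MulAction.exists_smul_eq (Subgroup.normalizer (Z : Set G)) ((g⁻¹ • P).subtype h2) (P.subtype h1)
    simp_rw [Sylow.smul_subtype, Subgroup.smul_def, smul_smul] at hc
    have h3 : (c : G) * g⁻¹ ∈ Subgroup.normalizer (P : Set G) :=
      Sylow.smul_eq_iff_mem_normalizer.mp (Sylow.subtype_injective hc)
    have h4 : (c : G) * g⁻¹ ∈ Subgroup.normalizer (Z : Set G) := hZN h3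
    have h5 : g ∈ Subgroup.normalizer (Z : Set G) := by
      have := Subgroup.mul_mem _ (Subgroup.inv_mem _ h4) c.2
      have e : ((c : G) * g⁻¹)⁻¹ * c = g := by group
      rwa [e] at this
    exact Subgroup.mem_normalizer_iff_map_conj_eq.mp h5

end Cfsg.Agent.S0104
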