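import Cfsg.Statements.S0105
import Cfsg.Agent.Lib.Lead.AbelianSylowB

set_option autoImplicit false
open Pointwise
open Cfsg
open Cfsg.Agent.Lib.Lead

namespace Cfsg.Agent.S0105

/-- With an abelian Sylow p-subgroup P, some quotient of G is isomorphic to the part of P central in N_G(P). -/
theorem result {G : Type*} [Group G] [Finite G] {p : ℕ} [Fact p.Prime] (P : Sylow p G) (hP : IsMulCommutative P) : ∃ (N : Subgroup G) (hN : N.Normal), Nonempty (G ⧸ N ≃* ((P : Subgroup G) ⊓ Subgroup.centralizer (Subgroup.normalizer (P : Set G) : Set G) : Subgroup G)) := by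
  classical
  haveI hPc : IsMulCommutative (P : Subgroup G) := hP
  have hp : p.Prime := Fact.out
  obtain ⟨A, hAR, hAp, hsup, _⟩ := exists_complement_in_normalizer P
  letI : Fintype A := Fintype.ofFinite A
  have hcardA : Fintype.card A = Nat.card A := (Nat.card_eq_fintype_card).symm
  -- the homomorphism G → G
  let φ : G →* G := (P : Subgroup G).subtype.comp ((avg A (P : Subgroup G) hAR).comp (transferAb P))
  have hφ : ∀ g, φ g ∈ ((P : Subgroup G) ⊓
      Subgroup.centralizer (Subgroup.normalizer ((P : Subgroup G) : Set G) : Set G) : Subgroup G) := by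
    intro g
    have h1 : φ g ∈ (P : Subgroup G) := (avg A (P : Subgroup G) hAR (transferAb P g)).2
    have h2 : φ g ∈ Subgroup.centralizer (A : Set G) :=
      avg_mem_centralizer A (P : Subgroup G) hAR (transferAb P g)
    exact Subgroup.mem_inf.mpr ⟨h1, mem_centralizer_normalizer_of_fixed P A hsup _ h1 h2⟩
  let f := φ.codRestrict _ hφ
  have hval : ∀ z : G, z ∈ (P : Subgroup G) →
      z ∈ Subgroup.centralizer (Subgroup.normalizer ((P : Subgroup G) : Set G) : Set G) →
      φ z = z ^ ((P : Subgroup G).index * Fintype.card A) := by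
    intro z hzP hzc
    have h1 := transferAb_eq_pow P z hzP hzc
    have hzA : ((transferAb P z : (P : Subgroup G)) : G) ∈ Subgroup.centralizer (A : Set G) := by
      rw [h1]
      apply Subgroup.pow_mem
      exact Subgroup.centralizer_le (by exact_mod_cast hAR) hzc
    have h2 := avg_of_fixed A (P : Subgroup G) hAR (transferAb P z) hzA
    show ((avg A (P : Subgroup G) hAR (transferAb P z) : (P : Subgroup G)) : G) = _
    rw [h2, Subgroup.coe_pow, h1, pow_mul]
  have hsurj : Function.Surjective f := by
    intro w
    obtain ⟨k, hk⟩ := (IsPGroup.iff_card).mp (P.isPGroup'.to_le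
      (inf_le_left : (P : Subgroup G) ⊓
        Subgroup.centralizer (Subgroup.normalizer ((P : Subgroup G) : Set G) : Set G) ≤ _))
    have hcop : (Nat.card ((P : Subgroup G) ⊓
        Subgroup.centralizer (Subgroup.normalizer ((P : Subgroup G) : Set G) : Set G) : Subgroup G)).Coprime
        ((P : Subgroup G).index * Fintype.card A) := by
      rw [hk]
      apply Nat.Coprime.pow_left
      apply Nat.Coprime.mul_right
      · exact (Nat.Prime.coprime_iff_not_dvd hp).mpr P.not_dvd_index
      · rw [hcardA]; exact hAp.symm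
    obtain ⟨z, hz⟩ := (powCoprime hcop).surjective w
    rw [powCoprime_apply] at hz
    refine ⟨(z : G), ?_⟩
    apply Subtype.ext
    show φ (z : G) = w
    obtain ⟨hzP, hzc⟩ := Subgroup.mem_inf.mp z.2
    rw [hval z hzP hzc, ← hz]
    rfl
  exact ⟨f.ker, MonoidHom.normal_ker f, ⟨QuotientGroup.quotientKerEquivOfSurjective f hsurj⟩⟩

end Cfsg.Agent.S0105
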