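import Cfsg.Statements.S0599
import Mathlib
import Cfsg.Agent.Lib.Helper2.Replacement
import Cfsg.Agent.Lib.Lead.CoprimeAction2

set_option autoImplicit false
open Cfsg

namespace Cfsg.Agent.S0599

open Cfsg.Agent.Lib.Helper2.Replacement
open scoped commutatorElement Pointwise

/-- The Timmesfeld replacement Theorem: replacing a best offender A by C_A([U, A]) gives a best offender with fixed points [U, A]C_V(A), still nontrivial on V if A was. -/
theorem result {G : Type*} [Group G] [Finite G] {p : ℕ} [Fact p.Prime] (V A : Subgroup G) (hV : Cfsg.IsElementaryAbelian p V) (hAV : A ≤ Subgroup.normalizer (V : Set G)) (hA : Cfsg.IsBestOffenderOn p V A) (U : Subgroup G) (hU : U ≤ V) : Cfsg.IsBestOffenderOn p V (A ⊓ Subgroup.centralizer ((⁅U, A⁆ : Subgroup G) : Set G)) ∧ V ⊓ Subgroup.centralizer ((A ⊓ Subgroup.centralizer ((⁅U, A⁆ : Subgroup G) : Set G) : Subgroup G) : Set G) = ⁅U, A⁆ ⊔ (V ⊓ Subgroup.centralizer (A : Set G)) ∧ (⁅V, A⁆ ≠ ⊥ → ⁅V, A ⊓ Subgroup.centralizer ((⁅U, A⁆ :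 Subgroup G) : Set G)⁆ ≠ ⊥) := by
  haveI := hV.1
  have hVc : ∀ x ∈ V, ∀ y ∈ V, x * y = y * x := fun x hx y hy =>
    Subgroup.mul_comm_of_mem_isMulCommutative V hx hy
  obtain ⟨hbest, hab, hpow⟩ := hA
  obtain ⟨h1, h2⟩ := core V A hVc hAV hab hbest U hU
  refine ⟨⟨?_, ?_, ?_⟩, h2, ?_⟩
  · intro B hB
    have := hbest B (hB.trans inf_le_left)
    unfold ff at h1
    rw [h1]
    exact this
  · exact (Subgroup.commutator_mono inf_le_left inf_le_left).trans hab
  · intro a ha
    exact hpow a ha.1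
  · intro hne hbot
    have hVB := Subgroup.commutator_eq_bot_iff_le_centralizer.mp hbot
    have hV2 : V = ⁅U, A⁆ ⊔ (V ⊓ Subgroup.centralizer (A : Set G)) := by
      rw [← h2]; exact (inf_eq_left.mpr hVB).symm
    have hWV : ⁅V, A⁆ ≤ V := by
      rw [Subgroup.commutator_le]
      intro v hv a ha
      exact comm_mem V A hAV ha hv
    have hAW : A ≤ Subgroup.normalizer ((⁅V, A⁆ : Subgroup G) : Set G) :=
      Cfsg.Agent.Lib.Lead.le_normalizer_commutator_right V A hAV
    have hWp : IsPGroup p ↥(⁅V, A⁆ : Subgroup G) := by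
      intro w
      refine ⟨1, ?_⟩
      rw [pow_one]
      apply Subtype.ext
      rw [Subgroup.coe_pow, Subgroup.coe_one]
      exact hV.2 _ (hWV w.2)
    have hWW : ⁅⁅V, A⁆, A⁆ = ⁅V, A⁆ := by
      apply le_antisymm (Subgroup.commutator_mono hWV le_rfl)
      rw [Subgroup.commutator_le]
      intro v hv a ha
      -- decompose v
      have hnorm : (V ⊓ Subgroup.centralizer (A : Set G)) ≤
          Subgroup.normalizer ((⁅U, A⁆ : Subgroup G) : Set G) := by
        intro c hc
        apply Cfsg.Agent.Lib.Helper2.mem_normalizer_of_commute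
        intro y hy
        have hyV : y ∈ V := (Subgroup.commutator_mono hU le_rfl).trans hWV hy
        exact hVc c hc.1 y hyV
      have hv' : v ∈ ((⁅U, A⁆ ⊔ (V ⊓ Subgroup.centralizer (A : Set G)) : Subgroup G) : Set G) := by
        rw [← hV2]; exact hv
      rw [Subgroup.coe_mul_of_right_le_normalizer_left _ _ hnorm] at hv'
      obtain ⟨w, hw, c, hc, rfl⟩ := hv'
      have hwW : w ∈ ⁅V, A⁆ := Subgroup.commutator_mono hU le_rfl hw
      have hca : a * c = c * a := Subgroup.mem_centralizer_iff.mp hc.2 a ha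
      have h3 : ⁅w * c, a⁆ = ⁅w, a⁆ := by
        rw [commutatorElement_def, commutatorElement_def]
        have : w * c * a * (w * c)⁻¹ * a⁻¹ = w * (c * a) * c⁻¹ * w⁻¹ * a⁻¹ := by group
        rw [this, ← hca]
        group
      rw [h3]
      exact Subgroup.commutator_mem_commutator hwW ha
    exact commutator_ne_self_of_pAction p V A ⁅V, A⁆ hAV hpow hWV hWp hAW hne hWW

end Cfsg.Agent.S0599
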