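import Cfsg.Statements.S0607
import Mathlib
import Cfsg.Agent.Lib.Helper2.Replacement
import Cfsg.Agent.Lib.Helper2.EA
import Cfsg.Agent.Lib.Lead.CoprimeAction2
import Cfsg.Agent.S0599

set_option autoImplicit false
open Cfsg

namespace Cfsg.Agent.S0607

open Cfsg.Agent.Lib.Helper2.Replacement Cfsg.Agent.Lib.Helper2
open scoped commutatorElement Pointwise

/-- The replacement Theorem for the Thompson subgroup: from A of maximal order among elementary abelian p-subgroups one obtains A₀ = [V, A] C_A([V, A]) of the same kind, quadratic on V and nontrivial on V when A is. -/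
theorem result {G : Type*} [Group G] [Finite G] {p : ℕ} [Fact p.Prime] (V : Subgroup G) [V.Normal] (hV : Cfsg.IsElementaryAbelian p V) (A : Subgroup G) (hA : A ∈ Cfsg.maxElementaryAbelianSubgroups p G) : (⁅V, A⁆ ⊔ (A ⊓ Subgroup.centralizer ((⁅V, A⁆ : Subgroup G) : Set G))) ∈ Cfsg.maxElementaryAbelianSubgroups p G ∧ ⁅⁅V, ⁅V, A⁆ ⊔ (A ⊓ Subgroup.centralizer ((⁅V, A⁆ : Subgroup G) : Set G))⁆, ⁅V, A⁆ ⊔ (A ⊓ Subgroup.centralizer ((⁅V, A⁆ : Subgroup G) : Set G))⁆ = ⊥ ∧ (⁅V, A⁆ ≠ ⊥ → ⁅V, ⁅V, A⁆ ⊔ (A ⊓ Subgroup.centralizer ((⁅V, A⁆ : Subgroup G) : Set G))⁆ ≠ ⊥) := by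
  haveI := hV.1
  have hVc : ∀ x ∈ V, ∀ y ∈ V, x * y = y * x := fun x hx y hy =>
    Subgroup.mul_comm_of_mem_isMulCommutative V hx hy
  obtain ⟨hAea, hAmax⟩ := hA
  have hAc : ∀ a ∈ A, ∀ b ∈ A, a * b = b * a := ((isEA_iff p A).mp hAea).1
  have hAV : A ≤ Subgroup.normalizer (V : Set G) := by
    rw [Subgroup.normalizer_eq_top_iff.mpr inferInstance]; exact le_top
  have hAA : ⁅A, A⁆ = ⊥ := by
    rw [Subgroup.commutator_eq_bot_iff_le_centralizer]
    intro a ha
    rw [Subgroup.mem_centralizer_iff]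
    intro h hh
    exact hAc h hh a ha
  have hab : ⁅A, A⁆ ≤ Subgroup.centralizer (V : Set G) := by rw [hAA]; exact bot_le
  have hpow : ∀ a ∈ A, a ^ p ∈ Subgroup.centralizer (V : Set G) := by
    intro a ha
    rw [hAea.2 a ha]
    exact Subgroup.one_mem _
  -- C_V(A) = V ∩ A
  have hCA : V ⊓ Subgroup.centralizer (A : Set G) ≤ A := by
    have hE : IsElementaryAbelian p (A ⊔ (V ⊓ Subgroup.centralizer (A : Set G))) := by
      apply isEA_sup A _ hAea (isEA_of_le hV inf_le_left)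
      intro a ha c hc
      exact Subgroup.mem_centralizer_iff.mp hc.2 a ha
    have h1 := hAmax _ hE
    have h2 : A = A ⊔ (V ⊓ Subgroup.centralizer (A : Set G)) :=
      Subgroup.eq_of_le_of_card_ge le_sup_left h1
    exact le_sup_right.trans h2.ge
  have hVA : V ⊓ A ≤ V ⊓ Subgroup.centralizer (A : Set G) := by
    intro x hx
    refine Subgroup.mem_inf.mpr ⟨hx.1, ?_⟩
    rw [Subgroup.mem_centralizer_iff]
    intro h hh
    exact hAc h hh x hx.2
  -- A is a best offender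
  have hweak : ∀ B : Subgroup G, B ≤ A → ff V B ≤ ff V A := by
    intro B hBA
    unfold ff
    have hE : IsElementaryAbelian p (B ⊔ (V ⊓ Subgroup.centralizer (B : Set G))) := by
      apply isEA_sup B _ (isEA_of_le hAea hBA) (isEA_of_le hV inf_le_left)
      intro b hb c hc
      exact Subgroup.mem_centralizer_iff.mp hc.2 b hb
    have h1 := hAmax _ hE
    have h2 := card_sup_mul_card_inf B (V ⊓ Subgroup.centralizer (B : Set G)) (by
      intro b hb
      apply mem_normalizer_of_commute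
      intro c hc
      exact Subgroup.mem_centralizer_iff.mp hc.2 b hb)
    have h3 : B ⊓ (V ⊓ Subgroup.centralizer (B : Set G)) ≤ V ⊓ Subgroup.centralizer (A : Set G) := by
      intro x hx
      exact hVA ⟨hx.2.1, hBA hx.1⟩
    have h4 := Subgroup.card_le_of_le h3
    rw [← h2]
    exact Nat.mul_le_mul h1 h4
  obtain ⟨h1, h2⟩ := core V A hVc hAV hab hweak V le_rfl
  have hXV : ⁅V, A⁆ ≤ V := by
    rw [Subgroup.commutator_le]
    intro v hv a ha
    exact comm_mem V A hAV ha hv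
  have hXX : ⁅V, A⁆ ≤ Subgroup.centralizer ((⁅V, A⁆ : Subgroup G) : Set G) := by
    intro x hx
    rw [Subgroup.mem_centralizer_iff]
    intro y hy
    exact hVc y (hXV hy) x (hXV hx)
  have hCB : V ⊓ Subgroup.centralizer (A : Set G) ≤
      A ⊓ Subgroup.centralizer ((⁅V, A⁆ : Subgroup G) : Set G) := by
    intro c hc
    refine Subgroup.mem_inf.mpr ⟨hCA hc, ?_⟩
    rw [Subgroup.mem_centralizer_iff]
    intro y hy
    exact hVc y (hXV hy) c hc.1
  have hA₀ : ⁅V, A⁆ ⊔ (A ⊓ Subgroup.centralizer ((⁅V, A⁆ : Subgroup G) : Set G)) =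
      (A ⊓ Subgroup.centralizer ((⁅V, A⁆ : Subgroup G) : Set G)) ⊔
        (V ⊓ Subgroup.centralizer
          ((A ⊓ Subgroup.centralizer ((⁅V, A⁆ : Subgroup G) : Set G) : Subgroup G) : Set G)) := by
    rw [h2]
    apply le_antisymm
    · exact sup_le (le_sup_left.trans le_sup_right) le_sup_left
    · exact sup_le le_sup_right (sup_le le_sup_left (hCB.trans le_sup_right))
  have hEA₀ : IsElementaryAbelian p
      (⁅V, A⁆ ⊔ (A ⊓ Subgroup.centralizer ((⁅V, A⁆ : Subgroup G) : Set G))) := by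
    rw [hA₀]
    apply isEA_sup _ _ (isEA_of_le hAea inf_le_left) (isEA_of_le hV inf_le_left)
    intro b hb c hc
    exact Subgroup.mem_centralizer_iff.mp hc.2 b hb
  have hcard : Nat.card ↥(⁅V, A⁆ ⊔ (A ⊓ Subgroup.centralizer ((⁅V, A⁆ : Subgroup G) : Set G))) =
      Nat.card A := by
    rw [hA₀]
    have h3 := card_sup_mul_card_inf (A ⊓ Subgroup.centralizer ((⁅V, A⁆ : Subgroup G) : Set G))
      (V ⊓ Subgroup.centralizer
          ((A ⊓ Subgroup.centralizer ((⁅V, A⁆ : Subgroup G) : Set G) : Subgroup G) : Set G)) (by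
      intro b hb
      apply mem_normalizer_of_commute
      intro c hc
      exact Subgroup.mem_centralizer_iff.mp hc.2 b hb)
    have h4 : (A ⊓ Subgroup.centralizer ((⁅V, A⁆ : Subgroup G) : Set G)) ⊓
        (V ⊓ Subgroup.centralizer
          ((A ⊓ Subgroup.centralizer ((⁅V, A⁆ : Subgroup G) : Set G) : Subgroup G) : Set G)) =
        V ⊓ Subgroup.centralizer (A : Set G) := by
      apply le_antisymm
      · intro x hx
        exact hVA ⟨hx.2.1, hx.1.1⟩
      · refine le_inf hCB (inf_le_inf_left V (Subgroup.centralizer_le ?_))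
        exact_mod_cast (inf_le_left : A ⊓ Subgroup.centralizer ((⁅V, A⁆ : Subgroup G) : Set G) ≤ A)
    unfold ff at h1
    rw [h4, h1] at h3
    exact Nat.eq_of_mul_eq_mul_right Nat.card_pos h3
  refine ⟨⟨hEA₀, fun E hE => (hAmax E hE).trans hcard.ge⟩, ?_, ?_⟩
  · rw [Subgroup.commutator_eq_bot_iff_le_centralizer]
    have hA₀c : ⁅V, A⁆ ≤ Subgroup.centralizer
        ((⁅V, A⁆ ⊔ (A ⊓ Subgroup.centralizer ((⁅V, A⁆ : Subgroup G) : Set G)) : Subgroup G) : Set G) := by
      rw [Subgroup.le_centralizer_iff]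
      exact sup_le hXX inf_le_right
    refine le_trans ?_ hA₀c
    rw [Subgroup.commutator_le]
    intro v hv x hx
    have hnorm : (A ⊓ Subgroup.centralizer ((⁅V, A⁆ : Subgroup G) : Set G)) ≤
        Subgroup.normalizer ((⁅V, A⁆ : Subgroup G) : Set G) :=
      inf_le_left.trans (Cfsg.Agent.Lib.Lead.le_normalizer_commutator_right V A hAV)
    have hx' : x ∈ ((⁅V, A⁆ ⊔ (A ⊓ Subgroup.centralizer ((⁅V, A⁆ : Subgroup G) : Set G)) :
        Subgroup G) : Set G) := hx
    rw [Subgroup.coe_mul_of_right_le_normalizer_left _ _ hnorm] at hx'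
    obtain ⟨w, hw, b, hb, rfl⟩ := hx'
    have hvw : v * w = w * v := hVc v hv w (hXV hw)
    have hwc : w * ⁅v, b⁆ = ⁅v, b⁆ * w := hVc w (hXV hw) _ (comm_mem V A hAV hb.1 hv)
    have h3 : ⁅v, w * b⁆ = ⁅v, b⁆ := by
      have e1 : ⁅v, w * b⁆ = (v * w) * (b * v⁻¹ * b⁻¹) * w⁻¹ := by
        rw [commutatorElement_def]; group
      have e2 : w * v * (b * v⁻¹ * b⁻¹) * w⁻¹ = w * ⁅v, b⁆ * w⁻¹ := by
        rw [commutatorElement_def]; group
      rw [e1, hvw, e2, hwc, mul_inv_cancel_right]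
    rw [h3]
    exact Subgroup.commutator_mem_commutator hv hb.1
  · intro hne hbot
    have hbo : Cfsg.IsBestOffenderOn p V A := ⟨hweak, hab, hpow⟩
    have := (Cfsg.Agent.S0599.result V A hV hAV hbo V le_rfl).2.2 hne
    apply this
    rw [eq_bot_iff, ← hbot]
    exact Subgroup.commutator_mono le_rfl le_sup_right

end Cfsg.Agent.S0607
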