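import Cfsg.Statements.S0109
import Mathlib
import Cfsg.Agent.Lib.Lead.SolvPSolv2
import Cfsg.Agent.Lib.Lead.OddStable
import Cfsg.Agent.Lib.Helper2.ThompsonOf
import Cfsg.Agent.S0607

set_option autoImplicit false
open Cfsg

namespace Cfsg.Agent.S0109

/-- The Thompson factorization Theorem for solvable groups states that, with p odd (and abelian Sylow 2-subgroups when p = 3) and no nontrivial normal subgroup of order prime to p, every element of G is a product of an element normalizing J(P) and an element centralizing the elements of order dividing p in the centre of P. -/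
theorem result {G : Type*} [Group G] [Finite G] {p : ℕ} [Fact p.Prime] (hp : p ≠ 2) (hs : Group.IsSolvable G) (h3 : p = 3 → ∀ T : Sylow 2 G, IsMulCommutative T) (hF : ∀ N : Subgroup G, N.Normal → Nat.Coprime (Nat.card N) p → N = ⊥) (P : Sylow p G) (g : G) : ∃ a ∈ Subgroup.normalizer (Cfsg.thompsonSubgroupOf p (P : Subgroup G) : Set G), ∃ c ∈ Subgroup.centralizer {x : G | x ∈ (P : Subgroup G) ∧ (∀ y ∈ (P : Subgroup G), x * y = y * x) ∧ x ^ p = 1}, g = a * c := by
  haveI := hs
  have hO : Cfsg.pPrimeCore p G = ⊥ :=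
    hF _ (Cfsg.Agent.Lib.Helper6.pPrimeCore_mem_set p).1 (Cfsg.Agent.Lib.Helper6.pPrimeCore_coprime p)
  have hc := Cfsg.Agent.Lib.Lead.OddStable.centralizer_pCore_le_of_solvable (p := p) hO
  have hst : Cfsg.IsNormalizerPStable p G :=
    Cfsg.Agent.Lib.Lead.SolvPSolv.isNormalizerPStable_of_isSolvable hp h3
  set V := Cfsg.Agent.Lib.Helper2.OmegaZ.VV p G with hVdef
  haveI hVn : V.Normal := Cfsg.Agent.Lib.Helper2.OmegaZ.VV_normal
  have hVea : Cfsg.IsElementaryAbelian p V :=
    Cfsg.Agent.Lib.Helper2.OmegaZ.isEA_of_le_omegaZ _ (Cfsg.Agent.Lib.Helper2.OmegaZ.VV_le_omegaZ hc)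
  have hVp : IsPGroup p V := by
    intro v
    refine ⟨1, ?_⟩
    apply Subtype.ext
    rw [pow_one, Subgroup.coe_pow, Subgroup.coe_one]
    exact hVea.2 v v.2
  have hstV : Cfsg.IsPStableOn p V :=
    Cfsg.Agent.Lib.Lead.OddStable.isPStableOn_of_normalizerPStable hst V hVp
  have hLL : Cfsg.Agent.Lib.Lead.ZJ.stabPre p V = Subgroup.centralizer (V : Set G) := by
    obtain ⟨k, hk⟩ := Cfsg.Agent.Lib.Lead.ZJ.relIndex_centralizer_stabPre (p := p) V
    exact Cfsg.Agent.Lib.Helper2.OmegaZ.eq_centralizer_of_relIndex_pow _ inferInstance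
      (Cfsg.Agent.Lib.Lead.ZJ.centralizer_le_stabPre p V) hk
  have hJ : Cfsg.thompsonSubgroup p G ≤ Subgroup.centralizer (V : Set G) := by
    unfold Cfsg.thompsonSubgroup
    apply sSup_le
    intro A hA
    by_contra hAV
    have hne : ⁅V, A⁆ ≠ ⊥ := by
      intro h
      apply hAV
      rw [Subgroup.commutator_comm, Subgroup.commutator_eq_bot_iff_le_centralizer] at h
      exact h
    obtain ⟨-, hquad, hnt⟩ := Cfsg.Agent.S0607.result V hVea A hA
    apply hnt hne
    set A₀ := ⁅V, A⁆ ⊔ (A ⊓ Subgroup.centralizer ((⁅V, A⁆ : Subgroup G) : Set G)) with hA₀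
    have hle : A₀ ≤ Subgroup.centralizer (V : Set G) := by
      intro a ha
      rw [← hLL]
      have hz : Subgroup.zpowers a ≤ A₀ := Subgroup.zpowers_le.mpr ha
      unfold Cfsg.Agent.Lib.Lead.ZJ.stabPre
      rw [Subgroup.mem_comap]
      apply hstV a
      rw [eq_bot_iff, ← hquad]
      exact Subgroup.commutator_mono (Subgroup.commutator_mono le_rfl hz) hz
    rw [Subgroup.commutator_comm, Subgroup.commutator_eq_bot_iff_le_centralizer]
    exact hle
  have hfac := Cfsg.Agent.Lib.Helper2.ThompsonOf.factorizable_of_le_centralizer hJ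
  obtain ⟨x, hx, c, hc', n, hn, hg⟩ := hfac P g⁻¹
  rw [hO, Subgroup.mem_bot] at hx
  rw [hx, one_mul] at hg
  refine ⟨n⁻¹, Subgroup.inv_mem _ hn, c⁻¹, ?_, ?_⟩
  · apply Subgroup.inv_mem
    refine Subgroup.centralizer_le ?_ hc'
    intro y hy
    apply Subgroup.subset_closure
    refine ⟨Subgroup.mem_inf.mpr ⟨hy.1, ?_⟩, hy.2.2⟩
    rw [Subgroup.mem_centralizer_iff]
    intro z hz
    exact (hy.2.1 z hz).symm
  · have : g = (g⁻¹)⁻¹ := (inv_inv g).symm
    rw [this, hg, mul_inv_rev]

end Cfsg.Agent.S0109
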