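import Cfsg.Statements.S0115
import Cfsg.Agent.Lib.Lead.MaxClass7

set_option autoImplicit false
open Cfsg

namespace Cfsg.Agent.S0115

/-- A 2-group of order 2^n, n ≥ 3, is of maximal class exactly when its commutator quotient is a Klein four-group. -/
theorem result {X : Type*} [Group X] [Finite X] (n : ℕ) (hn : 3 ≤ n) (hX : Nat.card X = 2 ^ n) : Group.nilpotencyClass X = n - 1 ↔ IsKleinFour (X ⧸ commutator X) := by
  haveI : Fact (Nat.Prime 2) := ⟨Nat.prime_two⟩
  constructor
  · intro hc
    have h1 := Cfsg.Agent.Lib.Lead.card_abelianization_of_maximal_class (p := 2) n X hn hX hc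
    apply Cfsg.Agent.Lib.Lead.isKleinFour_of_card_four_of_not_isCyclic
    · rw [← Subgroup.index_eq_card, h1]; norm_num
    · intro hcyc
      have hXp : IsPGroup 2 X := IsPGroup.of_card hX
      have hXc := Cfsg.Agent.Lib.Lead.isCyclic_of_isCyclic_abelianization hXp hcyc
      haveI : Group.IsNilpotent X := hXp.isNilpotent
      have := Group.IsNilpotent.nilpotencyClass_le_one_iff.mpr (inferInstance : IsMulCommutative X)
      omega
  · intro hK
    apply Cfsg.Agent.Lib.Lead.nilpotencyClass_of_index_commutator n hn hX
    rw [Subgroup.index_eq_card]; exact hK.card_four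

end Cfsg.Agent.S0115
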