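import Cfsg.Statements.S0118
import Mathlib
import Cfsg.Agent.Lib.Helper8.ZE5
import Cfsg.Agent.Lib.Lead.Qd5

set_option autoImplicit false
open Cfsg

namespace Cfsg.Agent.S0118

/-- Glauberman's ZJ-Theorem, in the case of groups with no section isomorphic to SL(2,p), p odd: conjugation of subsets of a Sylow p-subgroup P inside P is always induced from the normalizer of Z(J(P)). -/
theorem result {G : Type*} [Group G] [Finite G] {p : ℕ} [Fact p.Prime] (hp : p ≠ 2) (hfree : ¬ ∃ (H K : Subgroup G) (hK : (K.subgroupOf H).Normal), Nonempty ((H ⧸ K.subgroupOf H) ≃* Matrix.SpecialLinearGroup (Fin 2) (ZMod p))) (P : Sylow p G) (A : Set G) (hA : A ⊆ (P : Set G)) (g : G) (hAg : (fun a => g⁻¹ * a * g) '' A ⊆ (P : Set G)) : ∃ n ∈ Subgroup.normalizer (Cfsg.centerThompsonOf p (P : Subgroup G) : Set G), ∀ a ∈ A, n⁻¹ * a * n = g⁻¹ * a * g := by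
  have hqf : Cfsg.Agent.Lib.Lead.SCF.QF p G := by
    intro hs
    apply hfree
    have h1 : Cfsg.Agent.Lib.Helper9.IsSectionOf (Matrix.SpecialLinearGroup (Fin 2) (ZMod p))
        ↥(Cfsg.qd p) :=
      ⟨⊤, (Cfsg.Agent.Lib.Lead.QdLib.beta p).comp (⊤ : Subgroup ↥(Cfsg.qd p)).subtype, fun A => by
        obtain ⟨x, hx⟩ := Cfsg.Agent.Lib.Lead.QdLib.beta_surjective p A
        exact ⟨⟨x, Subgroup.mem_top x⟩, hx⟩⟩
    obtain ⟨H, f, hf⟩ := h1.trans hs
    have hker : (f.ker.map H.subtype).subgroupOf H = f.ker := by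
      ext x
      rw [Subgroup.mem_subgroupOf]
      constructor
      · rintro ⟨y, hy, hyx⟩
        have : y = x := Subtype.ext hyx
        rwa [← this]
      · intro hx
        exact ⟨x, hx, rfl⟩
    have hN : ((f.ker.map H.subtype).subgroupOf H).Normal := by
      rw [hker]; infer_instance
    refine ⟨H, f.ker.map H.subtype, hN, ⟨?_⟩⟩
    exact (QuotientGroup.quotientMulEquivOfEq hker).trans
      (QuotientGroup.quotientKerEquivOfSurjective f hf)
  rw [Cfsg.Agent.Lib.Helper8.ZE.centerThompsonOf_eq]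
  obtain ⟨x, hx, hact⟩ := Cfsg.Agent.Lib.Helper8.ZE.ctl_zc_of_qf hp p (dvd_refl p) hqf P A g⁻¹ hA
    (by
      rintro _ ⟨a, ha, rfl⟩
      have := hAg ⟨a, ha, rfl⟩
      simpa using this)
  refine ⟨x⁻¹, Subgroup.inv_mem _ hx, ?_⟩
  intro a ha
  have := hact a ha
  simpa using this

end Cfsg.Agent.S0118
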