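import Cfsg.Statements.S0131
import Cfsg.Agent.Lib.Lead.Focal2

set_option autoImplicit false
open Pointwise
open Cfsg

namespace Cfsg.Agent.S0131

/-- P/P' has a normal complement in G exactly when the focal subgroup G' ∩ P is as small as possible, namely P'. -/
theorem result {G : Type*} [Group G] [Finite G] {p : ℕ} [Fact p.Prime] (P : Sylow p G) : (∃ N : Subgroup G, N.Normal ∧ N ⊓ (P : Subgroup G) = ⁅(P : Subgroup G), (P : Subgroup G)⁆ ∧ N ⊔ (P : Subgroup G) = ⊤) ↔ commutator G ⊓ (P : Subgroup G) = ⁅(P : Subgroup G), (P : Subgroup G)⁆ := by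
  constructor
  · rintro ⟨N, hN, hinf, hsup⟩
    haveI := hN
    apply le_antisymm
    · rw [← hinf]
      apply inf_le_inf_right
      exact Cfsg.Agent.Lib.Lead.commutator_le_of_sup_eq_top N _ hsup (hinf ▸ inf_le_left)
    · apply le_inf
      · rw [commutator_def]; exact Subgroup.commutator_mono le_top le_top
      · rw [Subgroup.commutator_le]
        intro a ha b hb
        exact Subgroup.mul_mem _ (Subgroup.mul_mem _ (Subgroup.mul_mem _ ha hb) (Subgroup.inv_mem _ ha))
          (Subgroup.inv_mem _ hb)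
  · intro h
    obtain ⟨_, N, hN, hinf, hsup⟩ := Cfsg.Agent.Lib.Lead.exists_normal_of_coprime (P : Subgroup G)
      (Cfsg.Agent.Lib.Lead.sylow_focal_coprime P)
    exact ⟨N, hN, hinf.trans h, hsup⟩

end Cfsg.Agent.S0131
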