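import Mathlib
import Cfsg.Statements.S0151
import Cfsg.Agent.Lib.Helper4.Characters

set_option autoImplicit false
open Cfsg

namespace Cfsg.Agent.S0151

open Cfsg.Agent.Lib.Helper4

/-- The irreducible complex characters of a finite group are linearly independent over ℂ as functions on the group. -/
theorem result {G : Type*} [Group G] [Finite G] : LinearIndependent ℂ (fun χ : Cfsg.IrrCharacter G => (χ : G → ℂ)) := by
  classical
  have : Fintype G := Fintype.ofFinite G
  rw [linearIndependent_iff']
  intro s c hsum ψ hψ
  have h := congrArg (fun f => Cfsg.classInner f (ψ : G → ℂ)) hsum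
  simp only [classInner_sum_left, classInner_smul_left, classInner_zero_left] at h
  rw [Finset.sum_eq_single ψ] at h
  · rw [classInner_irr_self ψ.2, mul_one] at h
    exact h
  · intro χ _ hne
    rw [classInner_irr_ne χ.2 ψ.2 (fun h => hne (Subtype.ext h)), mul_zero]
  · intro h'
    exact absurd hψ h'

end Cfsg.Agent.S0151
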