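import Mathlib
import Cfsg.Statements.S0154
import Cfsg.Agent.Lib.Helper1.LinearChar

set_option autoImplicit false
open Cfsg

namespace Cfsg.Agent.S0154

open Cfsg.Agent.Lib.Helper1

/-- A finite group has exactly as many irreducible complex characters of degree 1 as the index of its commutator subgroup. -/
theorem result {G : Type*} [Group G] [Finite G] : Nat.card {χ : Cfsg.IrrCharacter G // (χ : G → ℂ) 1 = 1} = (commutator G).index := by
  classical
  -- the map from homomorphisms to linear characters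
  let F : (G →* ℂˣ) → {χ : Cfsg.IrrCharacter G // (χ : G → ℂ) 1 = 1} := fun φ =>
    ⟨⟨fun g => (φ g : ℂ), isIrrCharacter_of_hom φ⟩, by simp⟩
  have hF : Function.Bijective F := by
    constructor
    · intro φ ψ h
      have h1 : (fun g => ((φ g : ℂˣ) : ℂ)) = fun g => ((ψ g : ℂˣ) : ℂ) :=
        congrArg (fun x : {χ : Cfsg.IrrCharacter G // (χ : G → ℂ) 1 = 1} => ((x : Cfsg.IrrCharacter G) : G → ℂ)) h
      ext g
      exact congrFun h1 g
    · rintro ⟨⟨χ, hχ⟩, h1⟩
      obtain ⟨φ, rfl⟩ := exists_hom_of_isIrrCharacter hχ h1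
      exact ⟨φ, rfl⟩
  rw [← Nat.card_eq_of_bijective F hF]
  rw [Nat.card_congr (Abelianization.lift (G := G) (A := ℂˣ))]
  have hne : NeZero ((Monoid.exponent (Abelianization G) : ℕ) : ℂ) :=
    ⟨Nat.cast_ne_zero.2 (Monoid.exponent_ne_zero_of_finite)⟩
  rw [CommGroup.card_monoidHom_of_hasEnoughRootsOfUnity (Abelianization G) ℂ]
  rfl

end Cfsg.Agent.S0154
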