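import Mathlib
import Cfsg.Statements.S0162
import Cfsg.Agent.Lib.Helper1.CharFound8
import Cfsg.Agent.S0134
import Cfsg.Agent.S0135
import Cfsg.Agent.S0161

set_option autoImplicit false
open Cfsg

namespace Cfsg.Agent.S0162

open Cfsg.Agent.Lib.Helper1 Cfsg.Agent.Lib.Helper4
open scoped ComplexConjugate

/-- A sum over a finset stable under a fixed-point-free involution of a function invariant under
the involution is twice a sum over a half-system. -/
theorem sum_involution_eq_two_mul {X : Type*} [Fintype X] [DecidableEq X] (ι : X → X)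
    (hι : ∀ x, ι (ι x) = x) (s : Finset X) (hs : ∀ x ∈ s, ι x ∈ s) (hfix : ∀ x ∈ s, ι x ≠ x)
    (f : X → ℕ) (hf : ∀ x, f (ι x) = f x) :
    ∃ T : Finset X, T ⊆ s ∧ ∑ x ∈ s, f x = 2 * ∑ x ∈ T, f x := by
  classical
  let e : X ≃ Fin (Fintype.card X) := Fintype.equivFin X
  let _ : LinearOrder X := LinearOrder.lift' e e.injective
  refine ⟨s.filter (fun x => x < ι x), Finset.filter_subset _ _, ?_⟩
  have hsplit : s = s.filter (fun x => x < ι x) ∪ s.filter (fun x => ι x < x) := by
    ext x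
    simp only [Finset.mem_filter, Finset.mem_union]
    constructor
    · intro hx
      rcases lt_or_gt_of_ne (hfix x hx).symm with h | h
      · exact Or.inl ⟨hx, h⟩
      · exact Or.inr ⟨hx, h⟩
    · rintro (h | h) <;> exact h.1
  have hdisj : Disjoint (s.filter (fun x => x < ι x)) (s.filter (fun x => ι x < x)) := by
    rw [Finset.disjoint_filter]
    intro x _ h1 h2
    exact lt_asymm h1 h2
  conv_lhs => rw [hsplit]
  rw [Finset.sum_union hdisj, two_mul]
  congr 1
  apply Finset.sum_bij (fun x _ => ι x)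
  · intro x hx
    simp only [Finset.mem_filter] at hx ⊢
    exact ⟨hs x hx.1, by rw [hι]; exact hx.2⟩
  · intro a _ b _ h
    have := congrArg ι h
    rwa [hι, hι] at this
  · intro b hb
    simp only [Finset.mem_filter] at hb
    refine ⟨ι b, ?_, hι b⟩
    simp only [Finset.mem_filter]
    exact ⟨hs b hb.1, by rw [hι]; exact hb.2⟩
  · intro x _
    exact (hf x).symm

/-- If a finite group has odd order, its order is congruent to its number of conjugacy classes modulo 16. -/
theorem result {G : Type*} [Group G] [Finite G] (hodd : Odd (Nat.card G)) : Nat.card G ≡ Nat.card (ConjClasses G) [MOD 16] := by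
  classical
  have : Fintype G := Fintype.ofFinite G
  have : Fintype (Cfsg.IrrCharacter G) := Fintype.ofFinite _
  rw [← card_irr_eq_card_conjClasses]
  -- degrees
  have hdeg : ∀ χ : Cfsg.IrrCharacter G, ∃ d : ℕ, (χ : G → ℂ) 1 = d ∧ d ∣ Nat.card G := by
    intro χ
    obtain ⟨n, ρ, hirr, hρ⟩ := χ.2
    refine ⟨n, ?_, ?_⟩
    · rw [← hρ, Representation.char_one]; simp
    · have := Cfsg.Agent.S0135.result ρ
      simpa using this
  choose d hd hdvd using hdeg
  have hdodd : ∀ χ, d χ % 2 = 1 := by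
    intro χ
    rcases hodd with ⟨k, hk⟩
    obtain ⟨m, hm⟩ := hdvd χ
    rw [hk] at hm
    rcases Nat.even_or_odd (d χ) with ⟨j, hj⟩ | ⟨j, hj⟩
    · exfalso
      rw [hj] at hm
      have : (2 * k + 1) % 2 = 1 := by omega
      rw [hm] at this
      have h2 : (j + j) * m = 2 * (j * m) := by ring
      rw [h2] at this
      omega
    · omega
  have hsq : ∀ χ, 8 ∣ d χ ^ 2 - 1 := by
    intro χ
    have h := hdodd χ
    have h8 : d χ % 8 = 1 ∨ d χ % 8 = 3 ∨ d χ % 8 = 5 ∨ d χ % 8 = 7 := by omega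
    have h2 : d χ ^ 2 % 8 = 1 := by
      rw [sq, Nat.mul_mod]
      rcases h8 with h | h | h | h <;> rw [h]
    have h3 : 1 ≤ d χ ^ 2 := Nat.one_le_iff_ne_zero.2 (by
      intro h0
      rw [h0] at h2
      norm_num at h2)
    omega
  -- the conjugation involution
  let ι : Cfsg.IrrCharacter G → Cfsg.IrrCharacter G :=
    fun χ => ⟨fun g => conj ((χ : G → ℂ) g), isIrrCharacter_conj χ.2⟩
  have hι : ∀ χ, ι (ι χ) = χ := by
    intro χ
    apply Subtype.ext
    funext g
    simp [ι]
  let triv : Cfsg.IrrCharacter G := ⟨fun _ => 1, Cfsg.Agent.S0161.isIrrCharacter_one⟩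
  let s : Finset (Cfsg.IrrCharacter G) := Finset.univ.filter (fun χ => χ ≠ triv)
  have hιtriv : ι triv = triv := by
    apply Subtype.ext
    funext g
    simp [ι, triv]
  have hs : ∀ χ ∈ s, ι χ ∈ s := by
    intro χ hχ
    simp only [s, Finset.mem_filter, Finset.mem_univ, true_and] at hχ ⊢
    intro h
    apply hχ
    rw [← hι χ, h, hιtriv]
  have hfix : ∀ χ ∈ s, ι χ ≠ χ := by
    intro χ hχ h
    simp only [s, Finset.mem_filter, Finset.mem_univ, true_and] at hχ
    apply hχ
    apply Subtype.ext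
    apply Cfsg.Agent.S0161.result hodd χ
    intro g
    have h2 := congrFun (congrArg Subtype.val h) g
    exact Complex.conj_eq_iff_im.1 h2
  have hf : ∀ χ, (fun χ => d χ ^ 2 - 1) (ι χ) = (fun χ => d χ ^ 2 - 1) χ := by
    intro χ
    have h1 : ((d (ι χ) : ℕ) : ℂ) = d χ := by
      rw [← hd (ι χ), ← hd χ]
      show conj ((χ : G → ℂ) 1) = (χ : G → ℂ) 1
      rw [hd χ, Complex.conj_natCast]
    have h2 : d (ι χ) = d χ := by exact_mod_cast h1
    simp only [h2]
  obtain ⟨T, _, hT⟩ := sum_involution_eq_two_mul ι hι s hs hfix (fun χ => d χ ^ 2 - 1) hf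
  have h16 : 16 ∣ ∑ χ ∈ s, (d χ ^ 2 - 1) := by
    rw [hT]
    have : 8 ∣ ∑ χ ∈ T, (d χ ^ 2 - 1) := Finset.dvd_sum fun χ _ => hsq χ
    obtain ⟨m, hm⟩ := this
    exact ⟨m, by rw [hm]; ring⟩
  -- the degree formula in ℕ
  have hsum : ∑ χ : Cfsg.IrrCharacter G, d χ ^ 2 = Nat.card G := by
    have h := Cfsg.Agent.S0134.sum_sq_degrees (G := G)
    have h2 : ((∑ χ : Cfsg.IrrCharacter G, d χ ^ 2 : ℕ) : ℂ) = (Nat.card G : ℂ) := by
      rw [← h]
      push_cast
      refine Finset.sum_congr rfl fun χ _ => ?_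
      rw [hd χ]
    exact_mod_cast h2
  have hdtriv : d triv = 1 := by
    have : ((d triv : ℕ) : ℂ) = 1 := by rw [← hd triv]
    exact_mod_cast this
  have hsplit : ∀ F : Cfsg.IrrCharacter G → ℕ, ∑ χ : Cfsg.IrrCharacter G, F χ = F triv + ∑ χ ∈ s, F χ := by
    intro F
    rw [← Finset.sum_filter_add_sum_filter_not Finset.univ (fun χ => χ = triv)]
    congr 1
    rw [Finset.sum_filter, Finset.sum_ite_eq' Finset.univ triv, if_pos (Finset.mem_univ _)]
  have h1 : Nat.card G = 1 + ∑ χ ∈ s, d χ ^ 2 := by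
    rw [← hsum, hsplit (fun χ => d χ ^ 2), hdtriv]
    norm_num
  have h2 : Nat.card (Cfsg.IrrCharacter G) = 1 + s.card := by
    rw [Nat.card_eq_fintype_card, ← Finset.card_univ, Finset.card_eq_sum_ones, hsplit (fun _ => 1),
      Finset.card_eq_sum_ones]
  have h3 : ∑ χ ∈ s, d χ ^ 2 = ∑ χ ∈ s, (d χ ^ 2 - 1) + s.card := by
    rw [Finset.card_eq_sum_ones, ← Finset.sum_add_distrib]
    refine Finset.sum_congr rfl fun χ _ => ?_
    have : 1 ≤ d χ ^ 2 := by
      have := hdodd χ
      have h0 : d χ ≠ 0 := by omega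
      exact Nat.one_le_iff_ne_zero.2 (pow_ne_zero 2 h0)
    omega
  rw [h1, h2, h3]
  obtain ⟨m, hm⟩ := h16
  rw [hm]
  unfold Nat.ModEq
  omega

end Cfsg.Agent.S0162
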