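import Cfsg.Statements.S0166
import Mathlib
import Cfsg.Agent.Lib.Helper7.BSF4
import Cfsg.Agent.S0153
-- import your own Cfsg.Agent.* helpers here

set_option autoImplicit false
open Cfsg

namespace Cfsg.Agent.S0166

/-- Brauer's splitting field Theorem: a complex representation of a finite group of exponent m is equivalent to a representation by matrices with entries in ℚ adjoined exp(2πi/m). -/
theorem result {G : Type*} [Group G] [Finite G] (n : ℕ) (ρ : Representation ℂ G (Fin n → ℂ)) : ∃ σ : Representation ℂ G (Fin n → ℂ), Nonempty (ρ.Equiv σ) ∧ ∀ g : G, ∀ i j : Fin n, LinearMap.toMatrix' (σ g) i j ∈ Algebra.adjoin ℚ ({Complex.exp (2 * Real.pi * Complex.I / (Monoid.exponent G : ℂ))} : Set ℂ) := by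
  classical
  haveI : Fintype G := Fintype.ofFinite G
  have hm0 : Monoid.exponent G ≠ 0 := Monoid.exponent_ne_zero_of_finite
  set ζ : ℂ := Complex.exp (2 * Real.pi * Complex.I / (Monoid.exponent G : ℂ)) with hζ
  have hprim : IsPrimitiveRoot ζ (Monoid.exponent G) := Complex.isPrimitiveRoot_exp _ hm0
  let F : IntermediateField ℚ ℂ := IntermediateField.adjoin ℚ {ζ}
  have hint : IsIntegral ℚ ζ := (hprim.isIntegral (Nat.pos_of_ne_zero hm0)).tower_top
  have hF : F.toSubalgebra = Algebra.adjoin ℚ {ζ} :=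
    IntermediateField.adjoin_simple_toSubalgebra_of_isAlgebraic hint.isAlgebraic
  let ι : F →+* ℂ := algebraMap F ℂ
  have hK : ∀ (E : Subgroup G) (lam : E →* ℂˣ) (e : E), ∃ k : F, ι k = ((lam e : ℂˣ) : ℂ) := by
    intro E lam e
    have h1 : ((lam e : ℂˣ) : ℂ) ^ (Monoid.exponent G) = 1 := by
      rw [← Units.val_pow_eq_pow_val, ← map_pow]
      have : e ^ (Monoid.exponent G) = 1 := by
        apply Subtype.ext
        rw [Subgroup.coe_pow, Monoid.pow_exponent_eq_one, Subgroup.coe_one]
      rw [this, map_one, Units.val_one]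
    obtain ⟨k, -, hk⟩ := hprim.eq_pow_of_pow_eq_one h1
    refine ⟨⟨ζ ^ k, pow_mem (IntermediateField.mem_adjoin_simple_self ℚ ζ) k⟩, ?_⟩
    exact hk
  obtain ⟨d, M, hM⟩ := Cfsg.Agent.Lib.Helper7.BSF.realizable ι ⟨n, ρ, rfl⟩ hK
  have hd : d = n := by
    have h1 := hM 1
    rw [map_one, Matrix.trace_one, Fintype.card_fin, map_natCast, Representation.char_one,
      Module.finrank_fin_fun] at h1
    exact_mod_cast h1
  subst hd
  refine ⟨Cfsg.Agent.Lib.Helper7.BSF.repC ι M, ?_, ?_⟩
  · apply Cfsg.Agent.S0153.result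
    funext g
    rw [Cfsg.Agent.Lib.Helper7.BSF.repC_character, hM]
  · intro g i j
    rw [Cfsg.Agent.Lib.Helper7.BSF.toMatrix'_repC, Matrix.map_apply, ← hF]
    exact (M g i j).2

end Cfsg.Agent.S0166
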