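import Mathlib
import Cfsg.Statements.S0167
import Cfsg.Agent.Lib.Helper1.CharFound8
import Cfsg.Agent.Lib.Helper1.CharInt
import Cfsg.Agent.S0155
import Cfsg.Agent.S0156

set_option autoImplicit false
open Cfsg

namespace Cfsg.Agent.S0167

open Cfsg.Agent.Lib.Helper1 Cfsg.Agent.Lib.Helper4
open scoped ComplexConjugate

section
variable {G : Type*} [Group G] [Fintype G] {V : Type*} [AddCommGroup V] [Module ℂ V]
  [FiniteDimensional ℂ V]

/-- Class sums act as scalars: the sum of the conjugates of `a` acts as `|G| χ(a) / χ(1)`. -/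
theorem sum_conj_rep (ρ : Representation ℂ G V) [ρ.IsIrreducible] (a : G) :
    ∑ b : G, ρ (b * a * b⁻¹) =
      ((Nat.card G : ℂ) * ρ.character a / (Module.finrank ℂ V : ℂ)) • LinearMap.id := by
  classical
  let f : G → ℂ := fun x => ∑ b : G, if b * a * b⁻¹ = x then 1 else 0
  have hf : Cfsg.IsClassFunction G f := by
    intro x h
    simp only [f]
    rw [← Equiv.sum_comp (Equiv.mulLeft h)]
    refine Finset.sum_congr rfl fun b _ => ?_
    have : (h * b) * a * (h * b)⁻¹ = h * x * h⁻¹ ↔ b * a * b⁻¹ = x := by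
      constructor
      · intro e
        have : h * (b * a * b⁻¹) * h⁻¹ = h * x * h⁻¹ := by rw [← e]; group
        exact mul_left_cancel (mul_right_cancel this)
      · intro e
        rw [← e]; group
    simp only [Equiv.coe_mulLeft, this]
  have h1 : opSum ρ f = ∑ b : G, ρ (b * a * b⁻¹) := by
    unfold opSum
    simp only [f, Finset.sum_smul]
    rw [Finset.sum_comm]
    refine Finset.sum_congr rfl fun b _ => ?_
    simp [ite_smul]
  have h2 : ∑ x, f x * ρ.character x = (Nat.card G : ℂ) * ρ.character a := by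
    simp only [f, Finset.sum_mul]
    rw [Finset.sum_comm]
    have : ∀ b : G, ∑ x : G, (if b * a * b⁻¹ = x then (1 : ℂ) else 0) * ρ.character x
        = ρ.character a := by
      intro b
      simp [ite_mul, Representation.char_conj]
    rw [Finset.sum_congr rfl fun b _ => this b]
    simp [Nat.card_eq_fintype_card]
  rw [← h1, opSum_eq_smul_id ρ f hf, h2]

/-- The operator of the conjugate character acts as `|G| / χ(1)`. -/
theorem sum_char_inv_rep (ρ : Representation ℂ G V) [ρ.IsIrreducible] :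
    ∑ a : G, ρ.character a⁻¹ • ρ a =
      ((Nat.card G : ℂ) / (Module.finrank ℂ V : ℂ)) • LinearMap.id := by
  have hirr := isIrrCharacter_character ρ
  have hf : Cfsg.IsClassFunction G (fun a => ρ.character a⁻¹) := by
    intro x h
    change ρ.character (h * x * h⁻¹)⁻¹ = ρ.character x⁻¹
    have : (h * x * h⁻¹)⁻¹ = h * x⁻¹ * h⁻¹ := by group
    rw [this, Representation.char_conj]
  have h1 := opSum_eq_smul_id ρ _ hf
  have hG0 : (Nat.card G : ℂ) ≠ 0 := Nat.cast_ne_zero.2 Nat.card_pos.ne'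
  have h2 : ∑ a, ρ.character a⁻¹ * ρ.character a = (Nat.card G : ℂ) := by
    have := classInner_irr_self hirr
    rw [classInner_def] at this
    have h3 : ∑ a, ρ.character a * conj (ρ.character a) = (Nat.card G : ℂ) := by
      field_simp at this
      exact this
    rw [← h3]
    refine Finset.sum_congr rfl fun a _ => ?_
    rw [isCharacter_inv (isCharacter_of_irr hirr), mul_comm]
  rw [h2] at h1
  rw [← h1]
  rfl

/-- The double sum over commutators. -/
theorem sum_comm_char (ρ : Representation ℂ G V) [ρ.IsIrreducible] (g : G) :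
    ∑ a : G, ∑ b : G, ρ.character (a * b * a⁻¹ * b⁻¹ * g⁻¹) =
      ((Nat.card G : ℂ) / (Module.finrank ℂ V : ℂ)) ^ 2 * ρ.character g⁻¹ := by
  have hinner : ∀ a : G, ∑ b : G, ρ.character (a * b * a⁻¹ * b⁻¹ * g⁻¹) =
      ((Nat.card G : ℂ) * ρ.character a⁻¹ / (Module.finrank ℂ V : ℂ)) * ρ.character (a * g⁻¹) := by
    intro a
    have h1 : ∀ b : G, ρ.character (a * b * a⁻¹ * b⁻¹ * g⁻¹)
        = LinearMap.trace ℂ V (ρ a * ρ (b * a⁻¹ * b⁻¹) * ρ g⁻¹) := by
      intro b
      unfold Representation.character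
      rw [← map_mul, ← map_mul]
      congr 2
      group
    rw [Finset.sum_congr rfl fun b _ => h1 b, ← map_sum, ← Finset.sum_mul, ← Finset.mul_sum,
      sum_conj_rep ρ a⁻¹]
    have h2 : ρ a * (((Nat.card G : ℂ) * ρ.character a⁻¹ / (Module.finrank ℂ V : ℂ)) •
        (LinearMap.id : V →ₗ[ℂ] V)) * ρ g⁻¹
        = ((Nat.card G : ℂ) * ρ.character a⁻¹ / (Module.finrank ℂ V : ℂ)) • ρ (a * g⁻¹) := by
      rw [map_mul]
      ext v
      simp
    rw [h2, map_smul, smul_eq_mul]
    rfl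
  rw [Finset.sum_congr rfl fun a _ => hinner a]
  have h3 : ∀ a : G, ρ.character a⁻¹ * ρ.character (a * g⁻¹)
      = LinearMap.trace ℂ V ((ρ.character a⁻¹ • ρ a) * ρ g⁻¹) := by
    intro a
    rw [smul_mul_assoc, map_smul, smul_eq_mul, ← map_mul]
    rfl
  have h4 : ∑ a : G, ρ.character a⁻¹ * ρ.character (a * g⁻¹)
      = ((Nat.card G : ℂ) / (Module.finrank ℂ V : ℂ)) * ρ.character g⁻¹ := by
    rw [Finset.sum_congr rfl fun a _ => h3 a, ← map_sum, ← Finset.sum_mul, sum_char_inv_rep,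
      smul_mul_assoc, map_smul, smul_eq_mul]
    congr 1
  calc ∑ a : G, ((Nat.card G : ℂ) * ρ.character a⁻¹ / (Module.finrank ℂ V : ℂ)) * ρ.character (a * g⁻¹)
      = ((Nat.card G : ℂ) / (Module.finrank ℂ V : ℂ)) * ∑ a : G, ρ.character a⁻¹ * ρ.character (a * g⁻¹) := by
        rw [Finset.mul_sum]
        refine Finset.sum_congr rfl fun a _ => ?_
        ring
    _ = _ := by rw [h4]; ring

theorem sum_comm_irr {χ : G → ℂ} (hχ : Cfsg.IsIrrCharacter G χ) (g : G) :
    ∑ a : G, ∑ b : G, χ (a * b * a⁻¹ * b⁻¹ * g⁻¹) = ((Nat.card G : ℂ) / χ 1) ^ 2 * χ g⁻¹ := by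
  obtain ⟨n, ρ, hirr, rfl⟩ := hχ
  have := sum_comm_char ρ g
  rw [this, Representation.char_one]

end

/-- An element g of a finite group is a commutator if and only if the sum over the irreducible characters χ of χ g / χ 1 is nonzero. -/
theorem result {G : Type*} [Group G] [Finite G] (g : G) : (∃ a b : G, g = a * b * a⁻¹ * b⁻¹) ↔ ∑ᶠ χ : Cfsg.IrrCharacter G, (χ : G → ℂ) g / (χ : G → ℂ) 1 ≠ 0 := by
  classical
  have : Fintype G := Fintype.ofFinite G
  have : Fintype (Cfsg.IrrCharacter G) := Fintype.ofFinite _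
  rw [finsum_eq_sum_of_fintype]
  have hG0 : (Nat.card G : ℂ) ≠ 0 := Nat.cast_ne_zero.2 Nat.card_pos.ne'
  -- the delta function
  have hdelta : ∀ x : G, (if x = 1 then (Nat.card G : ℂ) else 0)
      = ∑ χ : Cfsg.IrrCharacter G, (χ : G → ℂ) 1 * (χ : G → ℂ) x := by
    intro x
    rw [← Cfsg.Agent.S0155.result x, Cfsg.Agent.S0156.result, finsum_eq_sum_of_fintype,
      Finset.sum_apply]
    rfl
  have hcount : ∑ a : G, ∑ b : G, (if a * b * a⁻¹ * b⁻¹ * g⁻¹ = 1 then (Nat.card G : ℂ) else 0)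
      = (Nat.card G : ℂ) ^ 2 * ∑ χ : Cfsg.IrrCharacter G, (χ : G → ℂ) g⁻¹ / (χ : G → ℂ) 1 := by
    simp only [hdelta]
    have h1 : ∀ a : G, ∑ b : G, ∑ χ : Cfsg.IrrCharacter G,
        (χ : G → ℂ) 1 * (χ : G → ℂ) (a * b * a⁻¹ * b⁻¹ * g⁻¹)
        = ∑ χ : Cfsg.IrrCharacter G, (χ : G → ℂ) 1 * ∑ b : G, (χ : G → ℂ) (a * b * a⁻¹ * b⁻¹ * g⁻¹) := by
      intro a
      rw [Finset.sum_comm]
      refine Finset.sum_congr rfl fun χ _ => ?_
      rw [Finset.mul_sum]
    rw [Finset.sum_congr rfl fun a _ => h1 a, Finset.sum_comm, Finset.mul_sum]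
    refine Finset.sum_congr rfl fun χ _ => ?_
    rw [← Finset.mul_sum, sum_comm_irr χ.2]
    have := irr_apply_one_ne_zero χ.2
    field_simp
  have hconj : ∑ χ : Cfsg.IrrCharacter G, (χ : G → ℂ) g⁻¹ / (χ : G → ℂ) 1
      = conj (∑ χ : Cfsg.IrrCharacter G, (χ : G → ℂ) g / (χ : G → ℂ) 1) := by
    rw [map_sum]
    refine Finset.sum_congr rfl fun χ _ => ?_
    rw [map_div₀, Cfsg.Agent.S0156.irr_apply_one_conj χ.2, isCharacter_inv (isCharacter_of_irr χ.2)]
  constructor
  · rintro ⟨a, b, hab⟩ h0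
    rw [h0, map_zero] at hconj
    rw [hconj, mul_zero] at hcount
    have hnonneg : ∀ a' ∈ (Finset.univ : Finset G), ∀ b' ∈ (Finset.univ : Finset G),
        (0 : ℝ) ≤ (if a' * b' * a'⁻¹ * b'⁻¹ * g⁻¹ = 1 then (Nat.card G : ℝ) else 0) := by
      intro a' _ b' _
      split_ifs
      · positivity
      · exact le_rfl
    have hreal : ∑ a : G, ∑ b : G, (if a * b * a⁻¹ * b⁻¹ * g⁻¹ = 1 then (Nat.card G : ℝ) else 0) = 0 := by
      have h2 : ((∑ a : G, ∑ b : G, (if a * b * a⁻¹ * b⁻¹ * g⁻¹ = 1 then (Nat.card G : ℝ) else 0) : ℝ) : ℂ) = 0 := by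
        rw [← hcount]
        push_cast
        refine Finset.sum_congr rfl fun a' _ => Finset.sum_congr rfl fun b' _ => ?_
        split_ifs <;> simp
      exact_mod_cast h2
    rw [Finset.sum_eq_zero_iff_of_nonneg (fun a' ha' => Finset.sum_nonneg (hnonneg a' ha'))] at hreal
    have h3 := hreal a (Finset.mem_univ _)
    rw [Finset.sum_eq_zero_iff_of_nonneg (hnonneg a (Finset.mem_univ _))] at h3
    have h4 := h3 b (Finset.mem_univ _)
    rw [if_pos (by rw [hab]; group)] at h4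
    have : (Nat.card G : ℝ) ≠ 0 := Nat.cast_ne_zero.2 Nat.card_pos.ne'
    exact this h4
  · intro hne
    by_contra hno
    push Not at hno
    have hz : ∑ a : G, ∑ b : G, (if a * b * a⁻¹ * b⁻¹ * g⁻¹ = 1 then (Nat.card G : ℂ) else 0) = 0 := by
      apply Finset.sum_eq_zero
      intro a _
      apply Finset.sum_eq_zero
      intro b _
      rw [if_neg]
      intro h
      apply hno a b
      have : a * b * a⁻¹ * b⁻¹ = (a * b * a⁻¹ * b⁻¹ * g⁻¹) * g := by group
      rw [this, h, one_mul]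
    rw [hz, hconj] at hcount
    have h5 : conj (∑ χ : Cfsg.IrrCharacter G, (χ : G → ℂ) g / (χ : G → ℂ) 1) = 0 := by
      rcases mul_eq_zero.1 hcount.symm with h | h
      · exact absurd (pow_eq_zero_iff (two_ne_zero)|>.1 h) hG0
      · exact h
    apply hne
    have := congrArg conj h5
    simpa using this

end Cfsg.Agent.S0167
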