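import Mathlib
import Cfsg.Statements.S0173
import Cfsg.Agent.Lib.Helper1.CharFound8

set_option autoImplicit false
open Cfsg

namespace Cfsg.Agent.S0173

open Cfsg.Agent.Lib.Helper1 Cfsg.Agent.Lib.Helper4

/-- Brauer's permutation lemma for a single automorphism: the number of conjugacy classes mapped to themselves equals the number of irreducible complex characters χ with χ ∘ α = χ. -/
theorem result {G : Type*} [Group G] [Finite G] (α : G ≃* G) : Nat.card {C : ConjClasses G // ConjClasses.map α.toMonoidHom C = C} = Nat.card {χ : Cfsg.IrrCharacter G // (χ : G → ℂ) ∘ α = (χ : G → ℂ)} := by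
  classical
  have : Fintype G := Fintype.ofFinite G
  have : Fintype (Cfsg.IrrCharacter G) := Fintype.ofFinite _
  have : Fintype (ConjClasses G) := Fintype.ofFinite _
  have key := brauer_perm_generic (G := G) (fun g => α g)
    (fun χ hχ => isIrrCharacter_comp_mulEquiv hχ α)
  have key' : (Finset.univ.filter (fun χ : Cfsg.IrrCharacter G =>
        (fun g => (χ : G → ℂ) (α g)) = (χ : G → ℂ))).card
      = (Finset.univ.filter (fun c : ConjClasses G =>
        IsConj (α (Quotient.out c)) (Quotient.out c))).card := by
    exact_mod_cast key
  rw [Nat.subtype_card (Finset.univ.filter (fun c : ConjClasses G =>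
        IsConj (α (Quotient.out c)) (Quotient.out c))), ← key']
  · symm
    apply Nat.subtype_card
    intro χ
    simp only [Finset.mem_filter, Finset.mem_univ, true_and]
    rfl
  · intro c
    simp only [Finset.mem_filter, Finset.mem_univ, true_and]
    have h1 : ConjClasses.mk (Quotient.out c) = c := Quotient.out_eq c
    have h2 : ConjClasses.map α.toMonoidHom c = ConjClasses.mk (α (Quotient.out c)) := by
      conv_lhs => rw [← h1]
      rfl
    rw [h2]
    constructor
    · intro h
      rw [ConjClasses.mk_eq_mk_iff_isConj.2 h, h1]
    · intro h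
      have h3 : ConjClasses.mk (α (Quotient.out c)) = ConjClasses.mk (Quotient.out c) := by
        rw [h, h1]
      exact ConjClasses.mk_eq_mk_iff_isConj.1 h3

end Cfsg.Agent.S0173
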