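import Mathlib
import Cfsg.Statements.S0171
import Cfsg.Agent.Lib.Helper1.CharFound8
import Cfsg.Agent.Lib.Helper1.ConjCount
import Cfsg.Agent.S0148
import Cfsg.Agent.S0161
import Cfsg.Agent.S0173
import Cfsg.Agent.S0193

set_option autoImplicit false
open Cfsg

namespace Cfsg.Agent.S0171

open Cfsg.Agent.Lib.Helper1 Cfsg.Agent.Lib.Helper4

/-- A fixed-point-free automorphism of prime order on a finite group fixes no non-trivial
conjugacy class (version inside an ambient group, the automorphism being conjugation). -/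
theorem eq_one_of_conj_class_fixed {G : Type*} [Group G] [Finite G] (K : Subgroup G) [hN : K.Normal]
    (h : G) (p : ℕ) [hp : Fact p.Prime] (hord : h ^ p = 1)
    (hfpf : ∀ k ∈ K, h * k = k * h → k = 1)
    (x : G) (hx : x ∈ K) (k : G) (hk : k ∈ K) (hconj : h * x * h⁻¹ = k * x * k⁻¹) : x = 1 := by
  classical
  have : Fintype K := Fintype.ofFinite K
  by_contra hx1
  -- the action on K
  let f : Function.End K := fun y => ⟨h * y * h⁻¹, hN.conj_mem y y.2 h⟩
  have hfiter : ∀ (j : ℕ) (y : K), ((f ^ j) y : G) = h ^ j * y * (h ^ j)⁻¹ := by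
    intro j
    induction j with
    | zero => intro y; change (y : G) = _; simp
    | succ n ih =>
      intro y
      rw [pow_succ]
      change ((f ^ n) (f y) : G) = _
      rw [ih]
      change h ^ n * (h * y * h⁻¹) * (h ^ n)⁻¹ = _
      rw [pow_succ]
      group
  have hf : f ^ p ^ 1 = 1 := by
    funext y
    apply Subtype.ext
    rw [pow_one, hfiter, hord]
    change 1 * (y : G) * 1⁻¹ = y
    simp
  have hfix : ∀ y : K, f y = y → y = 1 := by
    intro y hy
    have h1 : h * (y : G) * h⁻¹ = y := congrArg Subtype.val hy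
    have h2 : h * (y : G) = y * h := by
      nth_rewrite 2 [← h1]; group
    exact Subtype.ext (hfpf y y.2 h2)
  have hK1 : Fintype.card K ≡ 1 [MOD p] := by
    have := Equiv.Perm.card_fixedPoints_modEq (f := f) (p := p) (n := 1) hf
    have hcard : Fintype.card (Function.fixedPoints f) = 1 := by
      rw [Fintype.card_eq_one_iff]
      refine ⟨⟨1, ?_⟩, ?_⟩
      · apply Subtype.ext
        change h * ((1 : K) : G) * h⁻¹ = ((1 : K) : G)
        simp
      · intro y
        exact Subtype.ext (hfix y.1 y.2)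
    rwa [hcard] at this
  -- the action on the class of x
  let x' : K := ⟨x, hx⟩
  have hCmem : ∀ y : K, IsConj x' y → IsConj x' (f y) := by
    intro y hy
    obtain ⟨c, hc⟩ := isConj_iff.1 hy
    rw [isConj_iff]
    refine ⟨f c * ⟨k, hk⟩, ?_⟩
    apply Subtype.ext
    change (h * c * h⁻¹ * k) * x * (h * c * h⁻¹ * k)⁻¹ = h * y * h⁻¹
    have hc' : (c : G) * x * (c : G)⁻¹ = y := congrArg Subtype.val hc
    rw [← hc']
    calc (h * c * h⁻¹ * k) * x * (h * c * h⁻¹ * k)⁻¹
        = h * c * h⁻¹ * (k * x * k⁻¹) * h * (c : G)⁻¹ * h⁻¹ := by group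
      _ = h * (c * x * (c : G)⁻¹) * h⁻¹ := by rw [← hconj]; group
  let C := {y : K // IsConj x' y}
  let fC : Function.End C := fun y => ⟨f y.1, hCmem y.1 y.2⟩
  have hfCiter : ∀ (j : ℕ) (y : C), ((fC ^ j) y : K) = (f ^ j) y.1 := by
    intro j
    induction j with
    | zero => intro y; rfl
    | succ n ih =>
      intro y
      rw [pow_succ, pow_succ]
      change ((fC ^ n) (fC y) : K) = (f ^ n) (f y.1)
      rw [ih]
  have hfC : fC ^ p ^ 1 = 1 := by
    funext y
    apply Subtype.ext
    rw [hfCiter, hf]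
    rfl
  have hC0 : Fintype.card C ≡ 0 [MOD p] := by
    have := Equiv.Perm.card_fixedPoints_modEq (f := fC) (p := p) (n := 1) hfC
    have hcard : Fintype.card (Function.fixedPoints fC) = 0 := by
      rw [Fintype.card_eq_zero_iff]
      refine ⟨fun y => ?_⟩
      have h1 : f y.1.1 = y.1.1 := congrArg Subtype.val y.2
      have h2 := hfix _ h1
      have h3 : IsConj x' 1 := h2 ▸ y.1.2
      rw [isConj_comm, isConj_one_right] at h3
      exact hx1 (congrArg Subtype.val h3)
    rwa [hcard] at this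
  have hdvd : Fintype.card C ∣ Fintype.card K := by
    have := card_isConj_mul_card_centralizer x'
    rw [Nat.card_eq_fintype_card, Nat.card_eq_fintype_card, Nat.card_eq_fintype_card] at this
    exact Dvd.intro _ this
  have hp1 : p ∣ Fintype.card K := (Nat.modEq_zero_iff_dvd.1 hC0).trans hdvd
  have := (Nat.modEq_zero_iff_dvd.2 hp1).symm.trans hK1
  have h3 : p ∣ 1 := (Nat.modEq_zero_iff_dvd.1 this.symm)
  exact hp.out.one_lt.ne' (Nat.dvd_one.1 h3)

/-- If conjugation by `h` fixes the class of `x` in the normal subgroup `K`, so does conjugation by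
every power of `h`. -/
theorem conj_pow_class {G : Type*} [Group G] (K : Subgroup G) [hN : K.Normal] (h x : G)
    (c : G) (hc : c ∈ K) (hconj : h * x * h⁻¹ = c * x * c⁻¹) (j : ℕ) :
    ∃ k ∈ K, h ^ j * x * (h ^ j)⁻¹ = k * x * k⁻¹ := by
  induction j with
  | zero => exact ⟨1, K.one_mem, by simp⟩
  | succ n ih =>
    obtain ⟨k, hk, hk'⟩ := ih
    refine ⟨h * k * h⁻¹ * c, K.mul_mem (hN.conj_mem k hk h) hc, ?_⟩
    calc h ^ (n + 1) * x * (h ^ (n + 1))⁻¹ = h * (h ^ n * x * (h ^ n)⁻¹) * h⁻¹ := by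
          rw [pow_succ']; group
      _ = h * k * h⁻¹ * (h * x * h⁻¹) * h * k⁻¹ * h⁻¹ := by rw [hk']; group
      _ = h * k * h⁻¹ * c * x * (h * k * h⁻¹ * c)⁻¹ := by rw [hconj]; group

/-- In a Frobenius-like situation, a non-identity element `h` with trivial centralizer in `K`
(together with all its non-identity powers) moves every non-principal irreducible character. -/
theorem not_conj_fixed {G : Type*} [Group G] [Finite G] (K : Subgroup G) [hN : K.Normal]
    (h : G) (h1 : h ≠ 1)
    (hfpf : ∀ j : ℕ, h ^ j ≠ 1 → ∀ k ∈ K, h ^ j * k = k * h ^ j → k = 1)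
    (τ : K → ℂ) (hτ : Cfsg.IsIrrCharacter K τ) (hτ1 : τ ≠ fun _ => 1)
    (hfix : ∀ k : K, τ ⟨h * k * h⁻¹, hN.conj_mem k k.2 h⟩ = τ k) : False := by
  classical
  set n := orderOf h with hn
  have hn0 : 0 < n := orderOf_pos h
  have hn1 : n ≠ 1 := by
    rw [hn, Ne, orderOf_eq_one_iff]; exact h1
  set p := n.minFac with hp
  have hpp : p.Prime := Nat.minFac_prime hn1
  have : Fact p.Prime := ⟨hpp⟩
  have hpn : p ∣ n := Nat.minFac_dvd n
  set m := n / p with hm
  have hmp : m * p = n := Nat.div_mul_cancel hpn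
  have hm0 : 0 < m := Nat.div_pos (Nat.le_of_dvd hn0 hpn) hpp.pos
  have hmn : m < n := Nat.div_lt_self hn0 hpp.one_lt
  have hh' : h ^ m ≠ 1 := pow_ne_one_of_lt_orderOf hm0.ne' hmn
  have hh'p : (h ^ m) ^ p = 1 := by
    rw [← pow_mul, hmp, hn, pow_orderOf_eq_one]
  let α : K ≃* K := MulAut.conjNormal h
  have hα : ∀ k : K, ((α k : K) : G) = h * k * h⁻¹ := fun k => MulAut.conjNormal_apply h k
  have hcount := Cfsg.Agent.S0173.result α
  have hsub : Subsingleton {C : ConjClasses K // ConjClasses.map α.toMonoidHom C = C} := by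
    have key : ∀ C : ConjClasses K, ConjClasses.map α.toMonoidHom C = C → C = ConjClasses.mk 1 := by
      intro C hC
      obtain ⟨x, rfl⟩ := ConjClasses.mk_surjective C
      have h2 : IsConj (α x) x := by
        rw [← ConjClasses.mk_eq_mk_iff_isConj]
        exact hC
      obtain ⟨c, hc⟩ := isConj_iff.1 h2
      have hc' : (c : G) * (h * x * h⁻¹) * (c : G)⁻¹ = x := by
        have := congrArg Subtype.val hc
        simpa [hα] using this
      have hconj : h * (x : G) * h⁻¹ = (c : G)⁻¹ * x * ((c : G)⁻¹)⁻¹ := by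
        nth_rewrite 2 [← hc']; group
      obtain ⟨k, hk, hk'⟩ := conj_pow_class K h x _ (K.inv_mem c.2) hconj m
      have hx1 := eq_one_of_conj_class_fixed K (h ^ m) p hh'p (hfpf m hh') x x.2 k hk hk'
      have : x = 1 := Subtype.ext hx1
      rw [this]
    refine ⟨fun a b => ?_⟩
    apply Subtype.ext
    rw [key a.1 a.2, key b.1 b.2]
  have hle : Nat.card {χ : Cfsg.IrrCharacter K // (χ : K → ℂ) ∘ α = (χ : K → ℂ)} ≤ 1 := by
    rw [← hcount]
    exact Finite.card_le_one_iff_subsingleton.2 hsub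
  have hsub2 := Finite.card_le_one_iff_subsingleton.1 hle
  let e1 : {χ : Cfsg.IrrCharacter K // (χ : K → ℂ) ∘ α = (χ : K → ℂ)} :=
    ⟨⟨τ, hτ⟩, by
      funext k
      change τ (α k) = τ k
      rw [← hfix k]
      congr 1⟩
  let e2 : {χ : Cfsg.IrrCharacter K // (χ : K → ℂ) ∘ α = (χ : K → ℂ)} :=
    ⟨⟨fun _ => 1, Cfsg.Agent.S0161.isIrrCharacter_one⟩, rfl⟩
  have := hsub2.elim e1 e2
  have h3 : ((e1.1 : Cfsg.IrrCharacter K) : K → ℂ) = ((e2.1 : Cfsg.IrrCharacter K) : K → ℂ) := by rw [this]
  exact hτ1 h3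

/-- Let G = K H with K normal, K ⊓ H trivial, and no non-identity element of H commuting with a non-identity element of K (a Frobenius group with kernel K and complement H). Then every non-principal irreducible character of K induces to an irreducible character of G. -/
theorem result {G : Type*} [Group G] [Fintype G] (K H : Subgroup G) [K.Normal] (hKH : K ⊓ H = ⊥) (hKH' : K ⊔ H = ⊤) (hfpf : ∀ h ∈ H, h ≠ 1 → ∀ k ∈ K, h * k = k * h → k = 1) (τ : K → ℂ) (hτ : Cfsg.IsIrrCharacter K τ) (hτ1 : τ ≠ fun _ => 1) : Cfsg.IsIrrCharacter G (Cfsg.indFun K τ) := by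
  classical
  have hN : K.Normal := inferInstance
  apply isIrrCharacter_of_norm_one (Cfsg.Agent.S0148.result K τ (isCharacter_of_irr hτ))
  have hcf : Cfsg.IsClassFunction K τ := isClassFunction_of_isCharacter (isCharacter_of_irr hτ)
  have hmain := Cfsg.Agent.S0193.result K τ hτ
  have hset : ∀ g : G, (∀ k : K, τ ⟨g * k * g⁻¹, hN.conj_mem k k.2 g⟩ = τ k) ↔ g ∈ K := by
    intro g
    constructor
    · intro hg
      by_contra hgK
      have hgtop : g ∈ K ⊔ H := by rw [hKH']; trivial
      rw [← SetLike.mem_coe, Subgroup.normal_mul, Set.mem_mul] at hgtop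
      obtain ⟨k, hk, h, hh, rfl⟩ := hgtop
      have hh1 : h ≠ 1 := by
        rintro rfl
        exact hgK (by simpa using hk)
      refine not_conj_fixed K h hh1 ?_ τ hτ hτ1 ?_
      · intro j hj k' hk' hcomm
        exact hfpf (h ^ j) (H.pow_mem hh j) hj k' hk' hcomm
      · intro k'
        rw [← hg k']
        have := hcf ⟨h * k' * h⁻¹, hN.conj_mem k' k'.2 h⟩ ⟨k, hk⟩
        rw [← this]
        congr 1
        apply Subtype.ext
        change k * (h * k' * h⁻¹) * k⁻¹ = k * h * k' * (k * h)⁻¹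
        group
    · intro hg k
      exact hcf k ⟨g, hg⟩
  have hcard : Nat.card {g : G // ∀ k : K, τ ⟨g * k * g⁻¹, hN.conj_mem k k.2 g⟩ = τ k} = Nat.card K := by
    apply Nat.card_congr
    exact Equiv.subtypeEquivRight hset
  rw [hcard] at hmain
  have hK0 : (Nat.card K : ℂ) ≠ 0 := Nat.cast_ne_zero.2 Nat.card_pos.ne'
  exact mul_left_cancel₀ hK0 (by rw [hmain, mul_one])
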