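import Cfsg.Statements.S0172
import Mathlib

set_option autoImplicit false
open Cfsg

namespace Cfsg.Agent.S0172

open scoped Classical

section general

variable {M : Type*} [Group M]

/-- centralizer size. -/
noncomputable def cc (g : M) : ℕ := Nat.card {x : M // Commute g x}

theorem comm_eq_sum [Fintype M] : Nat.card (ConjClasses M) * Nat.card M = ∑ g : M, cc g := by
  rw [← card_comm_eq_card_conjClasses_mul_card]
  rw [Nat.card_congr (Equiv.subtypeProdEquivSigmaSubtype (fun g x : M => Commute g x))]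
  rw [Nat.card_sigma]
  rfl

theorem cc_one : cc (1 : M) = Nat.card M :=
  Nat.card_congr (Equiv.subtypeUnivEquiv (fun x => Commute.one_left x))

theorem sum_split [Fintype M] [Fintype {g : M // g ≠ 1}] (c : M → ℕ) :
    ∑ g : M, c g = c 1 + ∑ g : {g : M // g ≠ 1}, c g := by
  rw [← Finset.add_sum_erase Finset.univ c (Finset.mem_univ (1 : M))]
  congr 1
  exact Finset.sum_subtype (Finset.univ.erase (1 : M)) (p := fun g => g ≠ 1) (by simp) c

end general

/-- Class number of a Frobenius group: if G = K H with K normal, K ⊓ H trivial and no non-identity element of H commuting with a non-identity element of K, then |H| * k(G) + 1 = |H| * k(H) + k(K), where k denotes the number of conjugacy classes. -/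
theorem result {G : Type*} [Group G] [Finite G] (K H : Subgroup G) [K.Normal] (hKH : K ⊓ H = ⊥) (hKH' : K ⊔ H = ⊤) (hfpf : ∀ h ∈ H, h ≠ 1 → ∀ k ∈ K, h * k = k * h → k = 1) : Nat.card H * Nat.card (ConjClasses G) + 1 = Nat.card H * Nat.card (ConjClasses H) + Nat.card (ConjClasses K) := by
  have : Fintype G := Fintype.ofFinite G
  have hcompl : K.IsComplement' H := by
    apply Subgroup.isComplement'_of_disjoint_and_mul_eq_univ (disjoint_iff.mpr hKH)
    rw [← Subgroup.normal_mul, hKH', Subgroup.coe_top]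
  have hcard : Nat.card K * Nat.card H = Nat.card G := hcompl.card_mul_card
  have hKpos : 0 < Nat.card K := Nat.card_pos
  have hHpos : 0 < Nat.card H := Nat.card_pos
  -- the parametrisation of the elements outside `K`
  have hout : ∀ (k : K) (h : {h : H // h ≠ 1}), (k : G) * (h.1 : G) * (k : G)⁻¹ ∉ K := by
    intro k h hmem
    apply h.2
    have h1 : (h.1 : G) ∈ K := by
      have := K.mul_mem (K.mul_mem (K.inv_mem k.2) hmem) k.2
      simpa [mul_assoc] using this
    have h2 : (h.1 : G) ∈ K ⊓ H := ⟨h1, h.1.2⟩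
    rw [hKH, Subgroup.mem_bot] at h2
    exact Subtype.ext h2
  let φ : K × {h : H // h ≠ 1} → {g : G // g ∉ K} := fun p =>
    ⟨(p.1 : G) * (p.2.1 : G) * (p.1 : G)⁻¹, hout p.1 p.2⟩
  have hφinj : Function.Injective φ := by
    rintro ⟨k, h⟩ ⟨k', h'⟩ heq
    have heq' : (k : G) * (h.1 : G) * (k : G)⁻¹ = (k' : G) * (h'.1 : G) * (k' : G)⁻¹ :=
      congrArg Subtype.val heq
    set u : G := (k' : G)⁻¹ * (k : G) with hu
    have huK : u ∈ K := K.mul_mem (K.inv_mem k'.2) k.2
    have h1 : u * (h.1 : G) * u⁻¹ = (h'.1 : G) := by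
      have : u * (h.1 : G) * u⁻¹ = (k' : G)⁻¹ * ((k : G) * (h.1 : G) * (k : G)⁻¹) * (k' : G) := by
        rw [hu]; group
      rw [this, heq']; group
    have h2 : (h'.1 : G) * (h.1 : G)⁻¹ ∈ K := by
      rw [← h1]
      have : u * (h.1 : G) * u⁻¹ * (h.1 : G)⁻¹ = u * ((h.1 : G) * u⁻¹ * (h.1 : G)⁻¹) := by group
      rw [this]
      exact K.mul_mem huK (Subgroup.Normal.conj_mem inferInstance _ (K.inv_mem huK) _)
    have h3 : (h'.1 : G) * (h.1 : G)⁻¹ ∈ K ⊓ H := ⟨h2, H.mul_mem h'.1.2 (H.inv_mem h.1.2)⟩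
    rw [hKH, Subgroup.mem_bot] at h3
    have h4 : (h'.1 : G) = (h.1 : G) := mul_inv_eq_one.mp h3
    rw [h4] at h1
    have h5 : (h.1 : G) * u = u * (h.1 : G) := by
      have : u * (h.1 : G) = (u * (h.1 : G) * u⁻¹) * u := by group
      rw [this, h1]
    have h6 := hfpf (h.1 : G) h.1.2 (fun hh => h.2 (Subtype.ext hh)) u huK h5
    have h7 : (k : G) = (k' : G) := by
      have : (k : G) = (k' : G) * u := by rw [hu]; group
      rw [this, h6, mul_one]
    have e1 : k = k' := Subtype.ext h7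
    have e2 : h = h' := Subtype.ext (Subtype.ext h4.symm)
    rw [e1, e2]
  have hφbij : Function.Bijective φ := by
    rw [Fintype.bijective_iff_injective_and_card]
    refine ⟨hφinj, ?_⟩
    have c1 : Nat.card {h : H // h ≠ 1} + 1 = Nat.card H := by
      have e : Nat.card ({h : H // h = 1} ⊕ {h : H // h ≠ 1}) = Nat.card H :=
        Nat.card_congr (Equiv.sumCompl (fun h : H => h = 1))
      rw [Nat.card_sum] at e
      have : Nat.card {h : H // h = 1} = 1 := by
        rw [Nat.card_eq_fintype_card, Fintype.card_subtype_eq]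
      rw [this] at e
      omega
    have c2 : Nat.card {g : G // g ∉ K} + Nat.card K = Nat.card G := by
      have e := Nat.card_congr (Equiv.sumCompl (fun g : G => g ∈ K))
      rw [Nat.card_sum] at e
      rw [← e, add_comm]
    rw [← Nat.card_eq_fintype_card, ← Nat.card_eq_fintype_card, Nat.card_prod]
    have : Nat.card K * (Nat.card {h : H // h ≠ 1} + 1) = Nat.card {g : G // g ∉ K} + Nat.card K := by
      rw [c1, c2, hcard]
    rw [Nat.mul_add, mul_one] at this
    omega
  -- centralizers of nonidentity elements of `H` lie in `H`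
  have hcentH : ∀ h : {h : H // h ≠ 1}, ∀ x : G, Commute (h.1 : G) x → x ∈ H := by
    intro h x hx
    have hxtop : x ∈ K ⊔ H := hKH' ▸ Subgroup.mem_top x
    rw [Subgroup.mem_sup_of_normal_left] at hxtop
    obtain ⟨k, hk, h', hh', rfl⟩ := hxtop
    -- (k h') h (k h')⁻¹ = h
    have h1 : k * (h' * (h.1 : G) * h'⁻¹) * k⁻¹ = (h.1 : G) := by
      have : k * (h' * (h.1 : G) * h'⁻¹) * k⁻¹ = (k * h') * (h.1 : G) * (k * h')⁻¹ := by group
      rw [this, ← hx.eq]; group
    set h2 : G := h' * (h.1 : G) * h'⁻¹ with hh2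
    have hh2H : h2 ∈ H := H.mul_mem (H.mul_mem hh' h.1.2) (H.inv_mem hh')
    have h3 : (h.1 : G) * h2⁻¹ ∈ K := by
      rw [← h1]
      have : k * h2 * k⁻¹ * h2⁻¹ = k * (h2 * k⁻¹ * h2⁻¹) := by group
      rw [this]
      exact K.mul_mem hk (Subgroup.Normal.conj_mem inferInstance _ (K.inv_mem hk) _)
    have h4 : (h.1 : G) * h2⁻¹ ∈ K ⊓ H := ⟨h3, H.mul_mem h.1.2 (H.inv_mem hh2H)⟩
    rw [hKH, Subgroup.mem_bot] at h4
    have h5 : (h.1 : G) = h2 := mul_inv_eq_one.mp h4
    rw [← h5] at h1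
    have h6 : (h.1 : G) * k = k * (h.1 : G) := by
      have : k * (h.1 : G) = (k * (h.1 : G) * k⁻¹) * k := by group
      rw [this, h1]
    have h7 := hfpf (h.1 : G) h.1.2 (fun hh => h.2 (Subtype.ext hh)) k hk h6
    rw [h7, one_mul]; exact hh'
  -- centralizers of nonidentity elements of `K` lie in `K`
  have hcentK : ∀ g : {g : K // g ≠ 1}, ∀ x : G, Commute (g.1 : G) x → x ∈ K := by
    intro g x hx
    by_contra hxK
    obtain ⟨⟨k, h⟩, hkh⟩ := hφbij.2 ⟨x, hxK⟩
    have hx' : (k : G) * (h.1 : G) * (k : G)⁻¹ = x := congrArg Subtype.val hkh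
    set g' : G := (k : G)⁻¹ * (g.1 : G) * (k : G) with hg'
    have hg'K : g' ∈ K := K.mul_mem (K.mul_mem (K.inv_mem k.2) g.1.2) k.2
    have hcomm : (h.1 : G) * g' = g' * (h.1 : G) := by
      have e1 : (h.1 : G) = (k : G)⁻¹ * x * (k : G) := by rw [← hx']; group
      rw [e1, hg']
      have : (k : G)⁻¹ * x * (k : G) * ((k : G)⁻¹ * (g.1 : G) * (k : G))
          = (k : G)⁻¹ * (x * (g.1 : G)) * (k : G) := by group
      rw [this, ← hx.eq]; group
    have := hfpf (h.1 : G) h.1.2 (fun hh => h.2 (Subtype.ext hh)) g' hg'K hcomm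
    apply g.2
    apply Subtype.ext
    have e : (g.1 : G) = (k : G) * g' * (k : G)⁻¹ := by rw [hg']; group
    rw [e, this]; simp
  -- centralizer sizes
  have hccK : ∀ g : {g : K // g ≠ 1}, cc ((g.1 : K) : G) = cc (g.1 : K) := by
    intro g
    unfold cc
    apply Nat.card_congr
    refine ⟨fun x => ⟨⟨x.1, hcentK g x.1 x.2⟩, ?_⟩, fun y => ⟨(y.1 : G), ?_⟩, ?_, ?_⟩
    · apply Subtype.ext; exact x.2.eq
    · have := congrArg Subtype.val y.2.eq; exact this
    · intro x; rfl
    · intro y; rfl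
  have hccH : ∀ h : {h : H // h ≠ 1}, cc ((h.1 : H) : G) = cc (h.1 : H) := by
    intro h
    unfold cc
    apply Nat.card_congr
    refine ⟨fun x => ⟨⟨x.1, hcentH h x.1 x.2⟩, ?_⟩, fun y => ⟨(y.1 : G), ?_⟩, ?_, ?_⟩
    · apply Subtype.ext; exact x.2.eq
    · have := congrArg Subtype.val y.2.eq; exact this
    · intro x; rfl
    · intro y; rfl
  have hccconj : ∀ (k g : G), cc (k * g * k⁻¹) = cc g := by
    intro k g
    unfold cc
    apply Nat.card_congr
    refine ⟨fun x => ⟨k⁻¹ * x.1 * k, ?_⟩, fun y => ⟨k * y.1 * k⁻¹, ?_⟩, ?_, ?_⟩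
    · have h1 := x.2.eq
      change g * (k⁻¹ * x.1 * k) = (k⁻¹ * x.1 * k) * g
      have e1 : g * (k⁻¹ * x.1 * k) = k⁻¹ * ((k * g * k⁻¹) * x.1) * k := by group
      rw [e1, h1]; group
    · have h1 := y.2.eq
      change (k * g * k⁻¹) * (k * y.1 * k⁻¹) = (k * y.1 * k⁻¹) * (k * g * k⁻¹)
      have e1 : (k * g * k⁻¹) * (k * y.1 * k⁻¹) = k * (g * y.1) * k⁻¹ := by group
      rw [e1, h1]; group
    · intro x; apply Subtype.ext; simp [mul_assoc]
    · intro y; apply Subtype.ext; simp [mul_assoc]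
  -- the count
  have hG := comm_eq_sum (M := G)
  have hK := comm_eq_sum (M := K)
  have hH := comm_eq_sum (M := H)
  rw [sum_split, cc_one] at hK hH
  rw [← Fintype.sum_subtype_add_sum_subtype (fun g : G => g ∈ K) cc] at hG
  have hG1 : ∑ g : {g : G // g ∈ K}, cc (g : G) =
      Nat.card G + ∑ g : {g : K // g ≠ 1}, cc (g.1 : K) := by
    have := sum_split (M := K) (fun g => cc (g : G))
    rw [Subgroup.coe_one, cc_one] at this
    rw [this]
    congr 1
    exact Finset.sum_congr (by ext; simp) (fun g _ => hccK g)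
  have hG2 : ∑ g : {g : G // ¬ g ∈ K}, cc (g : G) =
      Nat.card K * ∑ h : {h : H // h ≠ 1}, cc (h.1 : H) := by
    rw [← (Equiv.ofBijective φ hφbij).sum_comp, Fintype.sum_prod_type]
    have : ∀ (k : K) (h : {h : H // h ≠ 1}),
        cc ((Equiv.ofBijective φ hφbij (k, h) : {g : G // ¬ g ∈ K}) : G) = cc (h.1 : H) := by
      intro k h
      change cc ((k : G) * (h.1 : G) * (k : G)⁻¹) = _
      rw [hccconj, hccH]
    simp only [this]
    rw [Finset.sum_const, smul_eq_mul, Finset.card_univ, Nat.card_eq_fintype_card]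
  rw [hG1, hG2] at hG
  set SK := ∑ g : {g : K // g ≠ 1}, cc (g.1 : K)
  set SH := ∑ h : {h : H // h ≠ 1}, cc (h.1 : H)
  apply Nat.eq_of_mul_eq_mul_left hKpos
  rw [← hcard] at hG
  nlinarith [hG, hK, hH]

end Cfsg.Agent.S0172
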