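import Mathlib
import Cfsg.Statements.S0180
import Cfsg.Agent.Lib.Helper1.CycloChar
import Cfsg.Agent.S0136

set_option autoImplicit false
open Cfsg

namespace Cfsg.Agent.S0180

open Cfsg.Agent.Lib.Helper1 Cfsg.Agent.Lib.Helper4

/-- Every irreducible complex character of a finite group takes only rational values if and only if g is conjugate to g ^ m for every element g and every m coprime to the group order. -/
theorem result {G : Type*} [Group G] [Finite G] : (∀ χ : Cfsg.IrrCharacter G, ∀ g : G, ∃ q : ℚ, (χ : G → ℂ) g = (q : ℂ)) ↔ ∀ m : ℕ, m.Coprime (Nat.card G) → ∀ g : G, IsConj g (g ^ m) := by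
  classical
  set N := Nat.card G with hN
  have hN0 : NeZero N := ⟨Nat.card_pos.ne'⟩
  let K := CyclotomicField N ℚ
  have hcyc : IsCyclotomicExtension {N} ℚ K :=
    CyclotomicField.instIsCyclotomicExtensionSingletonNatSetOfCharZero N ℚ
  let ι : K →+* ℂ := ((IsAlgClosed.lift : K →ₐ[ℚ] ℂ) : K →+* ℂ)
  have hfd : FiniteDimensional ℚ K := IsCyclotomicExtension.finiteDimensional {N} ℚ K
  have hgal : IsGalois ℚ K := IsCyclotomicExtension.isGalois {N} ℚ K
  have hgN : ∀ g : G, g ^ N = 1 := fun g => pow_card_eq_one'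
  constructor
  · intro hrat m hm g
    rw [Cfsg.Agent.S0136.result]
    intro χ
    obtain ⟨x, _, hx⟩ := exists_cyclo_of_character N ι (isCharacter_of_irr χ.2) g (hgN g)
    obtain ⟨σ, hσ⟩ := exists_aut_pow (K := K) N m hm
    have h1 : ι x = (χ : G → ℂ) g := by
      have := hx 1 1 (fun z _ => by simp)
      simpa using this
    have h2 := hx σ m hσ
    obtain ⟨q, hq⟩ := hrat χ g
    have h3 : x = (q : K) := by
      apply ι.injective
      rw [h1, hq, map_ratCast]
    rw [← h2, h3, map_ratCast, map_ratCast, hq]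
  · intro hconj χ g
    obtain ⟨x, _, hx⟩ := exists_cyclo_of_character N ι (isCharacter_of_irr χ.2) g (hgN g)
    have h1 : ι x = (χ : G → ℂ) g := by
      have := hx 1 1 (fun z _ => by simp)
      simpa using this
    have hcf := isClassFunction_irr χ.2
    have hfix : ∀ σ : K ≃ₐ[ℚ] K, σ x = x := by
      intro σ
      obtain ⟨k, hk, hσ⟩ := aut_pow N σ
      apply ι.injective
      rw [hx σ k hσ, h1]
      obtain ⟨c, hc⟩ := isConj_iff.1 (hconj k hk g)
      rw [← hc, hcf]
    have hbot := (IsGalois.mem_bot_iff_fixed (F := ℚ) (E := K) x).2 hfix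
    rw [IntermediateField.mem_bot] at hbot
    obtain ⟨q, hq⟩ := hbot
    refine ⟨q, ?_⟩
    rw [← h1, ← hq]
    simp

end Cfsg.Agent.S0180
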