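import Mathlib
import Cfsg.Statements.S0181
import Cfsg.Agent.Lib.Helper1.CharFound8
import Cfsg.Agent.S0139

set_option autoImplicit false
open Cfsg

namespace Cfsg.Agent.S0181

open Cfsg.Agent.Lib.Helper1 Cfsg.Agent.Lib.Helper4
open scoped ComplexConjugate

/-- Second orthogonality at a single element, in real form. -/
theorem sum_normSq_eq {G : Type*} [Group G] [Fintype G] [Fintype (Cfsg.IrrCharacter G)] (g : G) :
    ∑ χ : Cfsg.IrrCharacter G, Complex.normSq ((χ : G → ℂ) g)
      = (Nat.card (Subgroup.centralizer ({g} : Set G)) : ℝ) := by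
  have h := column_orthogonality g g
  have h1 : classIndicator g g = 1 := by
    unfold classIndicator
    rw [if_pos (IsConj.refl g)]
  rw [h1, mul_one] at h
  have h2 : ((∑ χ : Cfsg.IrrCharacter G, Complex.normSq ((χ : G → ℂ) g) : ℝ) : ℂ)
      = ((Nat.card (Subgroup.centralizer ({g} : Set G)) : ℝ) : ℂ) := by
    push_cast
    rw [← h]
    refine Finset.sum_congr rfl fun χ _ => ?_
    rw [Complex.mul_conj]
  exact_mod_cast h2

/-- Let H be a normal subgroup of a finite group G and ρ an irreducible complex representation whose kernel does not contain H. If g commutes with no non-identity element of H, then the character of ρ vanishes at g. -/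
theorem result {G : Type*} [Group G] [Finite G] {V : Type*} [AddCommGroup V] [Module ℂ V] [FiniteDimensional ℂ V] (ρ : Representation ℂ G V) [ρ.IsIrreducible] (H : Subgroup G) [H.Normal] (hker : ∃ h ∈ H, ρ h ≠ LinearMap.id) (g : G) (hg : ∀ h ∈ H, h * g = g * h → h = 1) : ρ.character g = 0 := by
  classical
  have : Fintype G := Fintype.ofFinite G
  have : Fintype (G ⧸ H) := Fintype.ofFinite _
  have : Fintype (Cfsg.IrrCharacter G) := Fintype.ofFinite _
  have : Fintype (Cfsg.IrrCharacter (G ⧸ H)) := Fintype.ofFinite _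
  let π : G →* G ⧸ H := QuotientGroup.mk' H
  have hπ : Function.Surjective π := QuotientGroup.mk'_surjective H
  -- inflation
  let ι : Cfsg.IrrCharacter (G ⧸ H) → Cfsg.IrrCharacter G := fun ψ =>
    ⟨fun x => (ψ : G ⧸ H → ℂ) (π x), by
      obtain ⟨n, σ, hirr, hσ⟩ := ψ.2
      refine ⟨n, σ.comp π, isIrreducible_comp_surjective σ hirr π hπ, ?_⟩
      funext x
      rw [← hσ]
      rfl⟩
  have hι : Function.Injective ι := by
    intro ψ₁ ψ₂ h
    apply Subtype.ext
    funext q
    obtain ⟨x, rfl⟩ := hπ q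
    exact congrFun (congrArg Subtype.val h) x
  let χ₀ : Cfsg.IrrCharacter G := ⟨ρ.character, isIrrCharacter_character ρ⟩
  have hχ₀ : χ₀ ∉ Finset.univ.image ι := by
    intro hmem
    rw [Finset.mem_image] at hmem
    obtain ⟨ψ, _, hψ⟩ := hmem
    obtain ⟨h, hh, hne⟩ := hker
    apply hne
    rw [← Cfsg.Agent.S0139.result ρ h, ← Representation.char_one ρ]
    have h1 : ∀ x : G, ρ.character x = (ψ : G ⧸ H → ℂ) (π x) := by
      intro x
      exact (congrFun (congrArg Subtype.val hψ) x).symm
    rw [h1 h, h1 1]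
    have h2 : π h = π 1 := by
      rw [map_one]
      exact (QuotientGroup.eq_one_iff h).2 hh
    rw [h2]
  -- centralizer comparison
  have hcent : Nat.card (Subgroup.centralizer ({g} : Set G))
      ≤ Nat.card (Subgroup.centralizer ({π g} : Set (G ⧸ H))) := by
    apply Nat.card_le_card_of_injective
      (fun x : Subgroup.centralizer ({g} : Set G) =>
        (⟨π x, by
          rw [Subgroup.mem_centralizer_singleton_iff]
          have := Subgroup.mem_centralizer_singleton_iff.1 x.2
          rw [← map_mul, ← map_mul, this]⟩ : Subgroup.centralizer ({π g} : Set (G ⧸ H))))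
    intro x y hxy
    have h1 : π x = π y := congrArg Subtype.val hxy
    have h2 : (x : G)⁻¹ * y ∈ H := by
      rw [← QuotientGroup.eq_one_iff, ← QuotientGroup.mk'_apply, map_mul, map_inv]
      change (π x)⁻¹ * π y = 1
      rw [h1, inv_mul_cancel]
    have hx := Subgroup.mem_centralizer_singleton_iff.1 x.2
    have hy := Subgroup.mem_centralizer_singleton_iff.1 y.2
    have h3 : ((x : G)⁻¹ * y) * g = g * ((x : G)⁻¹ * y) := by
      have hx' : (x : G)⁻¹ * g = g * (x : G)⁻¹ := by
        calc (x : G)⁻¹ * g = (x : G)⁻¹ * (g * x) * (x : G)⁻¹ := by group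
          _ = g * (x : G)⁻¹ := by rw [← hx]; group
      calc ((x : G)⁻¹ * y) * g = (x : G)⁻¹ * (y * g) := by group
        _ = (x : G)⁻¹ * (g * y) := by rw [hy]
        _ = ((x : G)⁻¹ * g) * y := by group
        _ = g * ((x : G)⁻¹ * y) := by rw [hx']; group
    have h4 := hg _ h2 h3
    apply Subtype.ext
    exact inv_mul_eq_one.1 h4
  -- the inequality
  set w : Cfsg.IrrCharacter G → ℝ := fun χ => Complex.normSq ((χ : G → ℂ) g) with hw
  have hsumG := sum_normSq_eq g
  have hsumQ := sum_normSq_eq (π g)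
  have hle : ∑ χ ∈ insert χ₀ (Finset.univ.image ι), w χ ≤ ∑ χ : Cfsg.IrrCharacter G, w χ :=
    Finset.sum_le_sum_of_subset_of_nonneg (Finset.subset_univ _)
      (fun χ _ _ => Complex.normSq_nonneg _)
  rw [Finset.sum_insert hχ₀, Finset.sum_image (fun a _ b _ h => hι h)] at hle
  have h5 : ∑ ψ : Cfsg.IrrCharacter (G ⧸ H), w (ι ψ)
      = (Nat.card (Subgroup.centralizer ({π g} : Set (G ⧸ H))) : ℝ) := by
    rw [← hsumQ]
  rw [h5, hsumG] at hle
  have h6 : (Nat.card (Subgroup.centralizer ({g} : Set G)) : ℝ)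
      ≤ (Nat.card (Subgroup.centralizer ({π g} : Set (G ⧸ H))) : ℝ) := by exact_mod_cast hcent
  have h7 : w χ₀ ≤ 0 := by linarith
  have h8 : w χ₀ = 0 := le_antisymm h7 (Complex.normSq_nonneg _)
  exact Complex.normSq_eq_zero.1 h8

end Cfsg.Agent.S0181
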