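import Mathlib
import Cfsg.Statements.S0184
import Cfsg.Agent.Lib.Helper1.CharFound8
import Cfsg.Agent.Lib.Helper1.CharCenter
import Cfsg.Agent.Lib.Helper1.LinearChar
import Cfsg.Agent.Lib.Lead.Nilpotent
import Cfsg.Agent.S0134
import Cfsg.Agent.S0155
import Cfsg.Agent.S0156

set_option autoImplicit false
open Cfsg

namespace Cfsg.Agent.S0184

open Cfsg.Agent.Lib.Helper1 Cfsg.Agent.Lib.Helper4

/-- In a finite cyclic group, every element killed by `p` lies in the subgroup generated by an
element of order `p`. -/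
theorem mem_zpowers_of_orderOf_eq_prime {C : Type*} [Group C] [Finite C] [IsCyclic C] (p : ℕ)
    [hp : Fact p.Prime] (a z : C) (ha : orderOf a = p) (hz : z ^ p = 1) :
    z ∈ Subgroup.zpowers a := by
  classical
  have : Fintype C := Fintype.ofFinite C
  have h1 := IsCyclic.card_pow_eq_one_le (α := C) hp.out.pos
  have h2 : ((Subgroup.zpowers a : Set C).toFinset).card = p := by
    rw [Set.toFinset_card, ← ha, ← Nat.card_eq_fintype_card]
    exact Nat.card_zpowers a
  have hsub : (Subgroup.zpowers a : Set C).toFinset ⊆ Finset.univ.filter (fun x : C => x ^ p = 1) := by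
    intro x hx
    rw [Set.mem_toFinset] at hx
    rw [Finset.mem_filter]
    refine ⟨Finset.mem_univ _, ?_⟩
    obtain ⟨k, rfl⟩ := Subgroup.mem_zpowers_iff.1 hx
    rw [← zpow_natCast, ← zpow_mul, mul_comm, zpow_mul, zpow_natCast, ← ha, pow_orderOf_eq_one,
      one_zpow]
  have heq := Finset.eq_of_subset_of_card_le hsub (by rw [h2]; exact h1)
  have hzmem : z ∈ Finset.univ.filter (fun x : C => x ^ p = 1) := by
    rw [Finset.mem_filter]; exact ⟨Finset.mem_univ _, hz⟩
  rw [← heq, Set.mem_toFinset] at hzmem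
  exact hzmem

/-- Some irreducible representation does not kill a given non-identity element. -/
theorem exists_irr_ne_id {G : Type*} [Group G] [Finite G] (z : G) (hz : z ≠ 1) :
    ∃ (n : ℕ) (ρ : Representation ℂ G (Fin n → ℂ)), ρ.IsIrreducible ∧ ρ z ≠ LinearMap.id := by
  classical
  have : Fintype G := Fintype.ofFinite G
  have : Fintype (Cfsg.IrrCharacter G) := Fintype.ofFinite _
  by_contra hcon
  push Not at hcon
  have h := congrFun (Cfsg.Agent.S0156.result (G := G)) z
  rw [finsum_eq_sum_of_fintype, Cfsg.Agent.S0155.result, if_neg hz, Finset.sum_apply] at h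
  have h2 : ∀ χ : Cfsg.IrrCharacter G, (χ : G → ℂ) z = (χ : G → ℂ) 1 := by
    intro χ
    obtain ⟨n, ρ, hirr, hρ⟩ := χ.2
    rw [← hρ]
    unfold Representation.character
    rw [hcon n ρ hirr, map_one]
    rfl
  have h3 := Cfsg.Agent.S0134.sum_sq_degrees (G := G)
  have h4 : ∑ χ : Cfsg.IrrCharacter G, (χ : G → ℂ) 1 ^ 2 = 0 := by
    rw [h]
    refine Finset.sum_congr rfl fun χ _ => ?_
    simp only [Pi.smul_apply, smul_eq_mul, h2 χ]
    ring
  rw [h4] at h3
  have hG0 : (Nat.card G : ℂ) ≠ 0 := Nat.cast_ne_zero.2 Nat.card_pos.ne'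
  exact hG0 h3.symm

/-- A finite p-group admits a faithful irreducible complex representation if and only if its centre is cyclic. -/
theorem result {G : Type*} [Group G] [Finite G] (p : ℕ) [Fact p.Prime] (hG : IsPGroup p G) : (∃ (n : ℕ) (ρ : Representation ℂ G (Fin n → ℂ)), ρ.IsIrreducible ∧ Function.Injective ρ) ↔ IsCyclic (Subgroup.center G) := by
  classical
  constructor
  · rintro ⟨n, ρ, hirr, hinj⟩
    exact isCyclic_center_of_faithful ρ hinj
  · intro hcyc
    rcases subsingleton_or_nontrivial G with hsub | hnt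
    · refine ⟨1, 1, irreducible_of_finrank_eq_one _ (by simp), ?_⟩
      intro a b _
      exact Subsingleton.elim a b
    · have hnil : Group.IsNilpotent G := hG.isNilpotent
      have hZnt : Nontrivial (Subgroup.center G) := hG.center_nontrivial
      have hZp : IsPGroup p (Subgroup.center G) := hG.to_subgroup _
      obtain ⟨k, hk0, hk⟩ := hZp.nontrivial_iff_card.1 hZnt
      have hpdvd : p ∣ Nat.card (Subgroup.center G) := by
        rw [hk]; exact dvd_pow_self p hk0.ne'
      obtain ⟨z₀, hz₀⟩ := exists_prime_orderOf_dvd_card' p hpdvd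
      have hz₀1 : (z₀ : G) ≠ 1 := by
        intro h
        have : z₀ = 1 := Subtype.ext h
        rw [this, orderOf_one] at hz₀
        exact (Fact.out : p.Prime).one_lt.ne hz₀
      -- every nontrivial normal subgroup contains z₀
      have hkey : ∀ K : Subgroup G, K.Normal → K ≠ ⊥ → (z₀ : G) ∈ K := by
        intro K hK hKne
        have h1 := Cfsg.Agent.Lib.Lead.inf_center_ne_bot K hKne
        set A := K ⊓ Subgroup.center G with hA
        have hAnt : Nontrivial A := (Subgroup.nontrivial_iff_ne_bot A).2 h1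
        have hAp : IsPGroup p A := hG.to_subgroup _
        obtain ⟨j, hj0, hj⟩ := hAp.nontrivial_iff_card.1 hAnt
        have hpdvdA : p ∣ Nat.card A := by
          rw [hj]; exact dvd_pow_self p hj0.ne'
        obtain ⟨a, ha⟩ := exists_prime_orderOf_dvd_card' p hpdvdA
        let a' : Subgroup.center G := ⟨(a : G), a.2.2⟩
        have ha' : orderOf a' = p := by
          rw [← ha, ← Subgroup.orderOf_coe a', ← Subgroup.orderOf_coe a]
        have hz₀p : z₀ ^ p = 1 := by rw [← hz₀, pow_orderOf_eq_one]
        have hmem := mem_zpowers_of_orderOf_eq_prime p a' z₀ ha' hz₀p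
        obtain ⟨i, hi⟩ := Subgroup.mem_zpowers_iff.1 hmem
        have : (z₀ : G) = (a : G) ^ i := by
          rw [← hi]
          simp [a']
        rw [this]
        exact K.zpow_mem a.2.1 i
      obtain ⟨n, ρ, hirr, hρ⟩ := exists_irr_ne_id (z₀ : G) hz₀1
      refine ⟨n, ρ, hirr, ?_⟩
      have hker : (MonoidHom.ker ρ) = ⊥ := by
        by_contra hne
        have := hkey _ (MonoidHom.normal_ker ρ) hne
        rw [MonoidHom.mem_ker] at this
        exact hρ this
      intro x y hxy
      have h1 : x⁻¹ * y ∈ MonoidHom.ker ρ := by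
        rw [MonoidHom.mem_ker, map_mul, ← hxy, ← map_mul, inv_mul_cancel, map_one]
      rw [hker, Subgroup.mem_bot] at h1
      exact inv_mul_eq_one.1 h1

end Cfsg.Agent.S0184
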