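import Mathlib
import Cfsg.Statements.S0186
import Cfsg.Agent.Lib.Helper1.CharFound8
import Cfsg.Agent.Lib.Helper1.LinearChar
import Cfsg.Agent.S0133
import Cfsg.Agent.S0134
import Cfsg.Agent.S0135
import Cfsg.Agent.S0139
import Cfsg.Agent.S0143
import Cfsg.Agent.S0185
import Cfsg.Agent.S0148
import Cfsg.Agent.S0155
import Cfsg.Agent.S0156
import Cfsg.Agent.S0161

set_option autoImplicit false
open Cfsg

namespace Cfsg.Agent.S0186

open Cfsg.Agent.Lib.Helper1 Cfsg.Agent.Lib.Helper4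
open scoped ComplexConjugate

/-- The arithmetic heart of the argument. -/
theorem arith_core {X Y : Type*} [Fintype X] [Fintype Y] [DecidableEq X] (p a n P : ℕ)
    (hp : p.Prime) (x₁ : X) (d : X → ℕ) (e : Y → ℕ) (m : X → Y → ℕ)
    (hP : P = p ^ a) (ha : 2 ≤ a) (hPn : P ≤ n)
    (hd1 : d x₁ = 1) (he0 : ∀ y, 0 < e y)
    (R1 : ∀ x, d x = ∑ y, m x y * e y)
    (R2 : ∀ y, P * ∑ x, d x * m x y = n * e y)
    (R3 : ∑ x, d x ^ 2 = n) (R3' : ∑ y, e y ^ 2 = P)
    (R4 : ∀ y, e y = 1 ∨ p ∣ e y)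
    (R5 : ∀ x, x ≠ x₁ → ∃ y, 1 ≤ m x y ∧ e y ≠ 1)
    (hey : ∃ y, e y = 1) : p ^ 2 * Fintype.card X ≤ n := by
  classical
  have hp0 : 0 < p := hp.pos
  have hP0 : 0 < P := by rw [hP]; exact pow_pos hp0 a
  set Lin := Finset.univ.filter (fun y : Y => e y = 1) with hLin
  set L := Lin.card with hL
  -- (i) p² divides L
  have hsplitY : ∀ f : Y → ℕ, ∑ y, f y = ∑ y ∈ Lin, f y + ∑ y ∈ Finset.univ.filter (fun y : Y => ¬ e y = 1), f y :=
    fun f => (Finset.sum_filter_add_sum_filter_not Finset.univ (fun y : Y => e y = 1) f).symm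
  have hL2 : p ^ 2 ∣ L := by
    have h1 := hsplitY (fun y => e y ^ 2)
    rw [R3'] at h1
    have h2 : ∑ y ∈ Lin, e y ^ 2 = L := by
      rw [Finset.sum_congr rfl (fun y hy => by rw [(Finset.mem_filter.1 hy).2, one_pow]),
        Finset.sum_const, smul_eq_mul, mul_one]
    have h3 : p ^ 2 ∣ ∑ y ∈ Finset.univ.filter (fun y : Y => ¬ e y = 1), e y ^ 2 := by
      apply Finset.dvd_sum
      intro y hy
      have := (R4 y).resolve_left (Finset.mem_filter.1 hy).2
      exact pow_dvd_pow_of_dvd this 2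
    have h4 : p ^ 2 ∣ P := by rw [hP]; exact pow_dvd_pow p ha
    rw [h2] at h1
    exact (Nat.dvd_add_left h3).1 (h1 ▸ h4)
  have hL1 : 0 < L := by
    obtain ⟨y, hy⟩ := hey
    exact Finset.card_pos.2 ⟨y, Finset.mem_filter.2 ⟨Finset.mem_univ _, hy⟩⟩
  have hLp : p ^ 2 ≤ L := Nat.le_of_dvd hL1 hL2
  -- (ii)
  let ℓ : X → ℕ := fun x => ∑ y ∈ Lin, m x y
  have hdℓ : ∀ x, d x = ℓ x + ∑ y ∈ Finset.univ.filter (fun y : Y => ¬ e y = 1), m x y * e y := by
    intro x
    rw [R1 x, hsplitY]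
    congr 1
    exact Finset.sum_congr rfl (fun y hy => by rw [(Finset.mem_filter.1 hy).2, mul_one])
  have hdp : ∀ x, x ≠ x₁ → ℓ x + p ≤ d x := by
    intro x hx
    obtain ⟨y, hmy, hey1⟩ := R5 x hx
    rw [hdℓ x]
    apply Nat.add_le_add_left
    have hymem : y ∈ Finset.univ.filter (fun y : Y => ¬ e y = 1) :=
      Finset.mem_filter.2 ⟨Finset.mem_univ _, hey1⟩
    have hpy : p ≤ e y := Nat.le_of_dvd (he0 y) ((R4 y).resolve_left hey1)
    calc p ≤ m x y * e y := by nlinarith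
      _ ≤ _ := Finset.single_le_sum (f := fun y => m x y * e y) (fun _ _ => Nat.zero_le _) hymem
  have hℓ1 : ℓ x₁ ≤ 1 := by
    have := hdℓ x₁
    rw [hd1] at this
    omega
  -- (iii)
  have hsum3 : P * ∑ x, d x * ℓ x = n * L := by
    have h1 : ∑ y ∈ Lin, P * ∑ x, d x * m x y = ∑ y ∈ Lin, n * e y :=
      Finset.sum_congr rfl fun y _ => R2 y
    rw [← Finset.mul_sum, ← Finset.mul_sum, Finset.sum_comm] at h1
    have h2 : ∑ y ∈ Lin, e y = L := by
      rw [Finset.sum_congr rfl (fun y hy => (Finset.mem_filter.1 hy).2), Finset.sum_const,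
        smul_eq_mul, mul_one]
    rw [h2] at h1
    rw [← h1]
    congr 1
    refine Finset.sum_congr rfl fun x _ => ?_
    rw [Finset.mul_sum]
  -- (iv) in integers
  have hk : (Fintype.card X : ℤ) = 1 + ((Finset.univ.erase x₁).card : ℤ) := by
    rw [Finset.card_erase_of_mem (Finset.mem_univ _), Finset.card_univ]
    have : 0 < Fintype.card X := Fintype.card_pos_iff.2 ⟨x₁⟩
    omega
  have hR3 : (n : ℤ) = 1 + ∑ x ∈ Finset.univ.erase x₁, (d x : ℤ) ^ 2 := by
    rw [← R3, ← Finset.add_sum_erase Finset.univ _ (Finset.mem_univ x₁), hd1]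
    push_cast
    ring
  have hsum4 : (∑ x, (d x : ℤ) * (ℓ x : ℤ)) ≤ (n : ℤ) - (p : ℤ) ^ 2 * ((Finset.univ.erase x₁).card : ℤ) := by
    rw [← Finset.add_sum_erase Finset.univ _ (Finset.mem_univ x₁), hd1, hR3]
    have h1 : ∀ x ∈ Finset.univ.erase x₁, (d x : ℤ) * (ℓ x : ℤ) ≤ (d x : ℤ) ^ 2 - (p : ℤ) ^ 2 := by
      intro x hx
      have h2 := hdp x (Finset.ne_of_mem_erase hx)
      have h3 : (ℓ x : ℤ) + (p : ℤ) ≤ (d x : ℤ) := by exact_mod_cast h2
      have h4 : (0 : ℤ) ≤ ℓ x := Int.natCast_nonneg _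
      have h5 : (0 : ℤ) < p := by exact_mod_cast hp0
      nlinarith
    have h2 := Finset.sum_le_sum h1
    rw [Finset.sum_sub_distrib, Finset.sum_const, nsmul_eq_mul] at h2
    have h3 : ((1 : ℕ) : ℤ) * (ℓ x₁ : ℤ) ≤ 1 := by
      have : (ℓ x₁ : ℤ) ≤ 1 := by exact_mod_cast hℓ1
      simpa using this
    linarith
  -- (v)
  have h5 : (P : ℤ) * ∑ x, (d x : ℤ) * (ℓ x : ℤ) = (n : ℤ) * (L : ℤ) := by exact_mod_cast hsum3
  have h6 : (n : ℤ) * (L : ℤ) ≥ (P : ℤ) * (p : ℤ) ^ 2 := by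
    have h7 : (p : ℤ) ^ 2 ≤ (L : ℤ) := by exact_mod_cast hLp
    have h8 : (P : ℤ) ≤ (n : ℤ) := by exact_mod_cast hPn
    have h9 : (0 : ℤ) ≤ (p : ℤ) ^ 2 := by positivity
    have h10 : (0 : ℤ) ≤ (n : ℤ) := Int.natCast_nonneg _
    nlinarith
  have hP0' : (0 : ℤ) < P := by exact_mod_cast hP0
  have h7 : (p : ℤ) ^ 2 ≤ ∑ x, (d x : ℤ) * (ℓ x : ℤ) := by
    have : (P : ℤ) * (p : ℤ) ^ 2 ≤ (P : ℤ) * ∑ x, (d x : ℤ) * (ℓ x : ℤ) := by rw [h5]; exact h6
    exact le_of_mul_le_mul_left this hP0'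
  have h8 : (p : ℤ) ^ 2 * (Fintype.card X : ℤ) ≤ (n : ℤ) := by
    rw [hk]
    linarith
  exact_mod_cast h8

/-- Let G be a finite simple group of order n and p a prime dividing n. If G has more than n / p^2 conjugacy classes, then every Sylow p-subgroup of G is abelian. -/
theorem result {G : Type*} [Group G] [Finite G] [IsSimpleGroup G] (p : ℕ) [Fact p.Prime] (hp : p ∣ Nat.card G) (hmany : Nat.card G < p ^ 2 * Nat.card (ConjClasses G)) (P : Sylow p G) (a b : G) (ha : a ∈ P) (hb : b ∈ P) : a * b = b * a := by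
  classical
  by_contra hab
  have hpp : p.Prime := Fact.out
  have : Fintype G := Fintype.ofFinite G
  have : Fintype (P : Subgroup G) := Fintype.ofFinite _
  have : Fintype (Cfsg.IrrCharacter G) := Fintype.ofFinite _
  have : Fintype (Cfsg.IrrCharacter (P : Subgroup G)) := Fintype.ofFinite _
  have hnc : ¬ ∀ x y : G, x * y = y * x := fun h => hab (h a b)
  -- the order of P
  obtain ⟨k, hk⟩ := IsPGroup.iff_card.1 P.isPGroup'
  have hk2 : 2 ≤ k := by
    by_contra hlt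
    push Not at hlt
    apply hab
    have hcomm : ∀ x y : (P : Subgroup G), x * y = y * x := by
      interval_cases k
      · intro x y
        have : Subsingleton (P : Subgroup G) := by
          rw [← Finite.card_le_one_iff_subsingleton, hk]; simp
        exact congrArg (· * y) (Subsingleton.elim x y) |>.trans (congrArg (y * ·) (Subsingleton.elim y x))
      · have hcyc : IsCyclic (P : Subgroup G) := isCyclic_of_prime_card (by simpa using hk)
        intro x y
        obtain ⟨c, hc⟩ := hcyc.exists_generator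
        obtain ⟨i, rfl⟩ := Subgroup.mem_zpowers_iff.1 (hc x)
        obtain ⟨j, rfl⟩ := Subgroup.mem_zpowers_iff.1 (hc y)
        rw [← zpow_add, ← zpow_add, add_comm]
    exact congrArg Subtype.val (hcomm ⟨a, ha⟩ ⟨b, hb⟩)
  -- degrees and multiplicities
  have hd : ∀ χ : Cfsg.IrrCharacter G, ∃ n : ℕ, 0 < n ∧ (χ : G → ℂ) 1 = n := fun χ => irr_apply_one_pos χ.2
  choose d hd0 hd using hd
  have he : ∀ θ : Cfsg.IrrCharacter (P : Subgroup G), ∃ n : ℕ, 0 < n ∧ (θ : ↥(P : Subgroup G) → ℂ) 1 = n :=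
    fun θ => irr_apply_one_pos θ.2
  choose e he0 he using he
  have hres : ∀ χ : Cfsg.IrrCharacter G, Cfsg.IsCharacter (P : Subgroup G) (fun x : (P : Subgroup G) => (χ : G → ℂ) x) :=
    fun χ => Cfsg.Agent.S0148.isCharacter_restrict (P : Subgroup G) (isCharacter_of_irr χ.2)
  have hm : ∀ (χ : Cfsg.IrrCharacter G) (θ : Cfsg.IrrCharacter (P : Subgroup G)), ∃ m : ℕ,
      Cfsg.classInner (fun x : (P : Subgroup G) => (χ : G → ℂ) x) θ = m :=
    fun χ θ => classInner_char_irr_nat (hres χ) θ.2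
  choose m hm using hm
  let x₁ : Cfsg.IrrCharacter G := ⟨fun _ => 1, Cfsg.Agent.S0161.isIrrCharacter_one⟩
  have hexp : ∀ χ : Cfsg.IrrCharacter G, (fun x : (P : Subgroup G) => (χ : G → ℂ) x)
      = ∑ θ : Cfsg.IrrCharacter (P : Subgroup G), (m χ θ : ℂ) • (θ : ↥(P : Subgroup G) → ℂ) := by
    intro χ
    have := class_function_expansion _ (isClassFunction_of_isCharacter (hres χ))
    rw [this]
    refine Finset.sum_congr rfl fun θ _ => ?_
    rw [hm]
  have hG0 : (Nat.card G : ℂ) ≠ 0 := Nat.cast_ne_zero.2 Nat.card_pos.ne'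
  have hP0 : (Nat.card (P : Subgroup G) : ℂ) ≠ 0 := Nat.cast_ne_zero.2 Nat.card_pos.ne'
  have key := arith_core (X := Cfsg.IrrCharacter G) (Y := Cfsg.IrrCharacter (P : Subgroup G))
    p k (Nat.card G) (Nat.card (P : Subgroup G)) hpp x₁ d e m hk hk2
    (Nat.le_of_dvd Nat.card_pos (Subgroup.card_subgroup_dvd_card _)) ?_ he0 ?_ ?_ ?_ ?_ ?_ ?_ ?_
  · have h1 := Cfsg.Agent.S0133.result (G := G)
    rw [Nat.card_eq_fintype_card (α := Cfsg.IrrCharacter G)] at h1
    rw [h1] at key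
    omega
  · -- hd1
    have := hd x₁
    have h1 : ((1 : ℕ) : ℂ) = (d x₁ : ℂ) := by rw [← this]; simp [x₁]
    exact_mod_cast h1.symm
  · -- R1
    intro χ
    have h1 := congrFun (hexp χ) 1
    rw [Finset.sum_apply] at h1
    simp only [Pi.smul_apply, smul_eq_mul, he, OneMemClass.coe_one, hd] at h1
    exact_mod_cast h1
  · -- R2
    intro θ
    have hreg := Cfsg.Agent.S0156.result (G := G)
    rw [finsum_eq_sum_of_fintype] at hreg
    have h1 : Cfsg.classInner (fun x : (P : Subgroup G) => (Representation.leftRegular ℂ G).character x) θ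
        = (Nat.card (P : Subgroup G) : ℂ)⁻¹ * ((Nat.card G : ℂ) * (e θ : ℂ)) := by
      rw [classInner_def, Finset.sum_eq_single (1 : (P : Subgroup G))]
      · rw [Cfsg.Agent.S0155.result, if_pos (by simp), he, Complex.conj_natCast]
      · intro x _ hx
        rw [Cfsg.Agent.S0155.result, if_neg (by
          intro h; exact hx (Subtype.ext h)), zero_mul]
      · intro h; exact absurd (Finset.mem_univ _) h
    have h2 : Cfsg.classInner (fun x : (P : Subgroup G) => (Representation.leftRegular ℂ G).character x) θ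
        = ∑ χ : Cfsg.IrrCharacter G, (d χ : ℂ) * (m χ θ : ℂ) := by
      have h3 : (fun x : (P : Subgroup G) => (Representation.leftRegular ℂ G).character x)
          = ∑ χ : Cfsg.IrrCharacter G, (d χ : ℂ) • (fun x : (P : Subgroup G) => (χ : G → ℂ) x) := by
        funext x
        rw [hreg, Finset.sum_apply, Finset.sum_apply]
        refine Finset.sum_congr rfl fun χ _ => ?_
        simp only [Pi.smul_apply, hd]
      rw [h3, classInner_sum_left]
      refine Finset.sum_congr rfl fun χ _ => ?_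
      rw [classInner_smul_left, hm]
    rw [h1] at h2
    have h4 : (Nat.card (P : Subgroup G) : ℂ) * ∑ χ : Cfsg.IrrCharacter G, (d χ : ℂ) * (m χ θ : ℂ)
        = (Nat.card G : ℂ) * (e θ : ℂ) := by
      rw [← h2]; field_simp
    exact_mod_cast h4
  · -- R3
    have h1 := Cfsg.Agent.S0134.sum_sq_degrees (G := G)
    simp only [hd] at h1
    exact_mod_cast h1
  · -- R3'
    have h1 := Cfsg.Agent.S0134.sum_sq_degrees (G := (P : Subgroup G))
    simp only [he] at h1
    exact_mod_cast h1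
  · -- R4
    intro θ
    obtain ⟨dd, hdd, hdvd⟩ := Cfsg.Agent.S0185.irr_degree_dvd θ.2
    have h1 : dd = e θ := by
      have : (dd : ℂ) = (e θ : ℂ) := by rw [← hdd, he]
      exact_mod_cast this
    rw [h1, hk] at hdvd
    obtain ⟨j, _, hj⟩ := (Nat.dvd_prime_pow hpp).1 hdvd
    rcases Nat.eq_zero_or_pos j with h0 | h0
    · left; rw [hj, h0, pow_zero]
    · right; rw [hj]; exact dvd_pow_self p h0.ne'
  · -- R5
    intro χ hχ
    by_contra hcon
    push Not at hcon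
    obtain ⟨n, ρ, hirr, hρ⟩ := χ.2
    -- χ([a,b]) = χ(1)
    set c : G := a * b * a⁻¹ * b⁻¹ with hc
    have hcP : c ∈ (P : Subgroup G) :=
      Subgroup.mul_mem _ (Subgroup.mul_mem _ (Subgroup.mul_mem _ ha hb) (Subgroup.inv_mem _ ha))
        (Subgroup.inv_mem _ hb)
    have hval : ∀ θ : Cfsg.IrrCharacter (P : Subgroup G), m χ θ ≠ 0 →
        (θ : ↥(P : Subgroup G) → ℂ) ⟨c, hcP⟩ = (θ : ↥(P : Subgroup G) → ℂ) 1 := by
      intro θ hθ
      have h1 : e θ = 1 := hcon θ (Nat.one_le_iff_ne_zero.2 hθ)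
      have h2 : (θ : ↥(P : Subgroup G) → ℂ) 1 = 1 := by rw [he, h1]; simp
      obtain ⟨φ, hφ⟩ := exists_hom_of_isIrrCharacter θ.2 h2
      rw [hφ]
      have h3 : (⟨c, hcP⟩ : (P : Subgroup G)) = ⟨a, ha⟩ * ⟨b, hb⟩ * ⟨a, ha⟩⁻¹ * ⟨b, hb⟩⁻¹ := rfl
      simp only [h3, map_mul, map_inv, map_one]
      have : φ ⟨a, ha⟩ * φ ⟨b, hb⟩ * (φ ⟨a, ha⟩)⁻¹ * (φ ⟨b, hb⟩)⁻¹ = 1 := by
        rw [mul_comm (φ ⟨a, ha⟩) (φ ⟨b, hb⟩)]; group
      rw [this]
    have hχc : (χ : G → ℂ) c = (χ : G → ℂ) 1 := by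
      have h1 := congrFun (hexp χ) ⟨c, hcP⟩
      have h2 := congrFun (hexp χ) 1
      rw [Finset.sum_apply] at h1 h2
      simp only [OneMemClass.coe_one] at h2
      rw [h1, h2]
      refine Finset.sum_congr rfl fun θ _ => ?_
      simp only [Pi.smul_apply, smul_eq_mul]
      by_cases h0 : m χ θ = 0
      · rw [h0]; simp
      · rw [hval θ h0]
    rw [← hρ, Representation.char_one] at hχc
    have h5 := (Cfsg.Agent.S0139.result ρ c).1 hχc
    have hc1 : c ≠ 1 := by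
      intro h
      apply hab
      have : a * b = c * (b * a) := by rw [hc]; group
      rw [this, h, one_mul]
    refine Cfsg.Agent.S0143.not_scalar hnc n ρ hirr ?_ c hc1 1 (by rw [h5, one_smul])
    intro h
    apply hχ
    apply Subtype.ext
    rw [← hρ, h]
  · -- hey
    refine ⟨⟨fun _ => 1, Cfsg.Agent.S0161.isIrrCharacter_one⟩, ?_⟩
    have h1 := he ⟨fun _ => 1, Cfsg.Agent.S0161.isIrrCharacter_one⟩
    have h2 : ((1 : ℕ) : ℂ) = (e ⟨fun _ => 1, Cfsg.Agent.S0161.isIrrCharacter_one⟩ : ℂ) := by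
      rw [← h1]; simp
    exact_mod_cast h2.symm

end Cfsg.Agent.S0186
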