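import Mathlib
import Cfsg.Statements.S0191
import Cfsg.Agent.Lib.Helper1.CycloChar
import Cfsg.Agent.Lib.Helper1.CharInt

set_option autoImplicit false
open Cfsg

namespace Cfsg.Agent.S0191

open Cfsg.Agent.Lib.Helper1 Cfsg.Agent.Lib.Helper4
open scoped ComplexConjugate

/-- Positive reals with product at least one have sum at least their number. -/
theorem card_le_sum_of_one_le_prod {ι : Type*} (s : Finset ι) (a : ι → ℝ) (ha : ∀ i ∈ s, 0 < a i)
    (hprod : 1 ≤ ∏ i ∈ s, a i) : (s.card : ℝ) ≤ ∑ i ∈ s, a i := by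
  have h1 : ∑ i ∈ s, Real.log (a i) ≤ ∑ i ∈ s, (a i - 1) :=
    Finset.sum_le_sum fun i hi => Real.log_le_sub_one_of_pos (ha i hi)
  rw [← Real.log_prod (fun i hi => (ha i hi).ne')] at h1
  have h2 : 0 ≤ Real.log (∏ i ∈ s, a i) := Real.log_nonneg hprod
  rw [Finset.sum_sub_distrib, Finset.sum_const, nsmul_eq_mul, mul_one] at h1
  linarith

/-- An irreducible complex representation of a finite group of degree greater than 1 has a character that vanishes somewhere. -/
theorem result {G : Type*} [Group G] [Finite G] {V : Type*} [AddCommGroup V] [Module ℂ V] [FiniteDimensional ℂ V] (ρ : Representation ℂ G V) [ρ.IsIrreducible] (hdeg : 1 < Module.finrank ℂ V) : ∃ g : G, ρ.character g = 0 := by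
  classical
  by_contra hcon
  push Not at hcon
  have : Fintype G := Fintype.ofFinite G
  set χ := ρ.character with hχdef
  have hχ : Cfsg.IsCharacter G χ := isCharacter_character ρ
  have hirr : Cfsg.IsIrrCharacter G χ := isIrrCharacter_character ρ
  set N := Nat.card G with hN
  have hN0 : NeZero N := ⟨Nat.card_pos.ne'⟩
  let K := CyclotomicField N ℚ
  have hcyc : IsCyclotomicExtension {N} ℚ K :=
    CyclotomicField.instIsCyclotomicExtensionSingletonNatSetOfCharZero N ℚ
  let ι : K →+* ℂ := ((IsAlgClosed.lift : K →ₐ[ℚ] ℂ) : K →+* ℂ)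
  have hfd : FiniteDimensional ℚ K := IsCyclotomicExtension.finiteDimensional {N} ℚ K
  have hgN : ∀ g : G, g ^ N = 1 := fun g => pow_card_eq_one'
  -- exponents of the automorphisms
  have hk : ∀ σ : K ≃ₐ[ℚ] K, ∃ k : ℕ, k.Coprime N ∧ ∀ z : K, z ^ N = 1 → σ z = z ^ k :=
    fun σ => aut_pow N σ
  choose k hkcop hkpow using hk
  -- cyclotomic integers representing the character values
  have hx : ∀ g : G, ∃ x : K, IsIntegral ℤ x ∧ ∀ (σ : K ≃ₐ[ℚ] K) (j : ℕ),
      (∀ z : K, z ^ N = 1 → σ z = z ^ j) → ι (σ x) = χ (g ^ j) :=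
    fun g => exists_cyclo_of_character N ι hχ g (hgN g)
  choose x hxint hx using hx
  have hx1 : ∀ g : G, ι (x g) = χ g := by
    intro g
    have := hx g 1 1 (fun z _ => by simp)
    simpa using this
  -- (1) the inner sums are at least |Gal|
  have hinner : ∀ g : G, (Fintype.card (K ≃ₐ[ℚ] K) : ℝ)
      ≤ ∑ σ : K ≃ₐ[ℚ] K, Complex.normSq (χ (g ^ k σ)) := by
    intro g
    have hxg0 : x g ≠ 0 := by
      intro h0
      have := hx1 g
      rw [h0, map_zero] at this
      exact hcon g this.symm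
    have hprod := one_le_prod_norm N ι (x g) (hxint g) hxg0
    have h1 : ∀ σ : K ≃ₐ[ℚ] K, ‖ι (σ (x g))‖ ^ 2 = Complex.normSq (χ (g ^ k σ)) := by
      intro σ
      rw [hx g σ (k σ) (hkpow σ), Complex.sq_norm]
    have := card_le_sum_of_one_le_prod Finset.univ
      (fun σ : K ≃ₐ[ℚ] K => Complex.normSq (χ (g ^ k σ)))
      (fun σ _ => Complex.normSq_pos.2 (hcon _)) (by
        simp only [← h1]
        rw [Finset.prod_pow]
        exact one_le_pow₀ hprod)
    simpa using this
  -- (2) the term at the identity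
  have hd : χ 1 = (Module.finrank ℂ V : ℂ) := Representation.char_one ρ
  have hone : ∑ σ : K ≃ₐ[ℚ] K, Complex.normSq (χ ((1 : G) ^ k σ))
      = (Fintype.card (K ≃ₐ[ℚ] K) : ℝ) * (Module.finrank ℂ V : ℝ) ^ 2 := by
    simp only [one_pow, hd, Complex.normSq_natCast]
    rw [Finset.sum_const, Finset.card_univ, nsmul_eq_mul]
    ring
  -- (3) the outer sums
  have hnorm : ∑ g : G, Complex.normSq (χ g) = (N : ℝ) := by
    have h1 := classInner_irr_self hirr
    rw [classInner_def] at h1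
    have hG0 : (Nat.card G : ℂ) ≠ 0 := Nat.cast_ne_zero.2 Nat.card_pos.ne'
    have h2 : ∑ g : G, χ g * conj (χ g) = (N : ℂ) := by
      field_simp at h1
      exact h1
    have h3 : ((∑ g : G, Complex.normSq (χ g) : ℝ) : ℂ) = ((N : ℝ) : ℂ) := by
      push_cast
      rw [← h2]
      refine Finset.sum_congr rfl fun g _ => ?_
      rw [Complex.mul_conj]
    exact_mod_cast h3
  have houter : ∀ σ : K ≃ₐ[ℚ] K, ∑ g : G, Complex.normSq (χ (g ^ k σ)) = (N : ℝ) := by
    intro σ
    rw [← hnorm]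
    exact Equiv.sum_comp (powCoprime (hkcop σ).symm) (fun g => Complex.normSq (χ g))
  -- combine
  have htotal : ∑ g : G, ∑ σ : K ≃ₐ[ℚ] K, Complex.normSq (χ (g ^ k σ))
      = (Fintype.card (K ≃ₐ[ℚ] K) : ℝ) * (N : ℝ) := by
    rw [Finset.sum_comm, Finset.sum_congr rfl fun σ _ => houter σ, Finset.sum_const,
      Finset.card_univ, nsmul_eq_mul]
  rw [← Finset.add_sum_erase Finset.univ _ (Finset.mem_univ (1 : G)), hone] at htotal
  have hrest : ((Finset.univ.erase (1 : G)).card : ℝ) * (Fintype.card (K ≃ₐ[ℚ] K) : ℝ)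
      ≤ ∑ g ∈ Finset.univ.erase (1 : G), ∑ σ : K ≃ₐ[ℚ] K, Complex.normSq (χ (g ^ k σ)) := by
    rw [← nsmul_eq_mul, ← Finset.sum_const]
    exact Finset.sum_le_sum fun g _ => hinner g
  have hcard : ((Finset.univ.erase (1 : G)).card : ℝ) = (N : ℝ) - 1 := by
    rw [Finset.card_erase_of_mem (Finset.mem_univ _), Finset.card_univ, ← Nat.card_eq_fintype_card,
      Nat.cast_sub Nat.card_pos]
    simp [hN]
  rw [hcard] at hrest
  have hgalpos : (0 : ℝ) < (Fintype.card (K ≃ₐ[ℚ] K) : ℝ) := by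
    exact_mod_cast Fintype.card_pos
  have hd2 : (2 : ℝ) ≤ (Module.finrank ℂ V : ℝ) := by exact_mod_cast hdeg
  have hd4 : (1 : ℝ) < (Module.finrank ℂ V : ℝ) ^ 2 := by nlinarith
  nlinarith

end Cfsg.Agent.S0191
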