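import Mathlib
import Cfsg.Statements.S0192
import Cfsg.Agent.Lib.Helper1.RepBasic

set_option autoImplicit false
open Cfsg

namespace Cfsg.Agent.S0192

open Cfsg.Agent.Lib.Helper1

/-- Brauer's generation criterion. Let G be a finite simple group, H₁ and H₂ subgroups, and χ a non-principal irreducible character. If the multiplicity of the principal character in χ restricted to H₁ ⊓ H₂ is less than the sum of the corresponding multiplicities for H₁ and H₂, then H₁ and H₂ do not generate G. -/
theorem result {G : Type*} [Group G] [Fintype G] [IsSimpleGroup G] (H₁ H₂ : Subgroup G) [Fintype H₁] [Fintype H₂] [Fintype ↥(H₁ ⊓ H₂)] (χ : G → ℂ) (hχ : Cfsg.IsIrrCharacter G χ) (hχ1 : χ ≠ fun _ => 1) (hlt : (Cfsg.classInner (fun x : ↥(H₁ ⊓ H₂) => χ x) (fun _ => 1)).re < (Cfsg.classInner (fun x : H₁ => χ x) (fun _ => 1)).re + (Cfsg.classInner (fun x : H₂ => χ x) (fun _ => 1)).re) : H₁ ⊔ H₂ ≠ ⊤ := by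
  classical
  obtain ⟨n, ρ, hirr, rfl⟩ := hχ
  intro htop
  rw [classInner_restrict_one ρ (H₁ ⊓ H₂), classInner_restrict_one ρ H₁,
    classInner_restrict_one ρ H₂] at hlt
  simp only [Complex.natCast_re] at hlt
  set W₁ := Representation.invariants (ρ.comp H₁.subtype) with hW₁
  set W₂ := Representation.invariants (ρ.comp H₂.subtype) with hW₂
  set W₁₂ := Representation.invariants (ρ.comp (H₁ ⊓ H₂).subtype) with hW₁₂
  have hlt' : Module.finrank ℂ W₁₂ < Module.finrank ℂ W₁ + Module.finrank ℂ W₂ := by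
    exact_mod_cast hlt
  have hle1 : W₁ ≤ W₁₂ := by
    intro v hv
    rw [hW₁₂, Representation.mem_invariants]
    intro g
    exact (Representation.mem_invariants _ v).1 hv ⟨g, g.2.1⟩
  have hle2 : W₂ ≤ W₁₂ := by
    intro v hv
    rw [hW₁₂, Representation.mem_invariants]
    intro g
    exact (Representation.mem_invariants _ v).1 hv ⟨g, g.2.2⟩
  have hsup : Module.finrank ℂ ↥(W₁ ⊔ W₂) ≤ Module.finrank ℂ W₁₂ :=
    Submodule.finrank_mono (sup_le hle1 hle2)
  have hdim := Submodule.finrank_sup_add_finrank_inf_eq W₁ W₂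
  have hpos : 0 < Module.finrank ℂ ↥(W₁ ⊓ W₂) := by omega
  obtain ⟨⟨v, hvmem⟩, hv0⟩ := Module.finrank_pos_iff_exists_ne_zero.1 hpos
  have hv0' : v ≠ 0 := fun h => hv0 (Subtype.ext h)
  have hfix : ∀ g : G, ρ g v = v := by
    intro g
    have hg : g ∈ H₁ ⊔ H₂ := htop ▸ Subgroup.mem_top g
    let S : Subgroup G :=
      { carrier := {g | ρ g v = v}
        one_mem' := by simp
        mul_mem' := by
          intro a b ha hb
          simp only [Set.mem_setOf_eq] at ha hb ⊢
          rw [map_mul, Module.End.mul_apply, hb, ha]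
        inv_mem' := by
          intro a ha
          simp only [Set.mem_setOf_eq] at ha ⊢
          have : ρ a⁻¹ (ρ a v) = v := by
            rw [← Module.End.mul_apply, ← map_mul, inv_mul_cancel, map_one, Module.End.one_apply]
          rw [ha] at this
          exact this }
    have h1 : H₁ ≤ S := fun a ha => (Representation.mem_invariants _ v).1 hvmem.1 ⟨a, ha⟩
    have h2 : H₂ ≤ S := fun a ha => (Representation.mem_invariants _ v).1 hvmem.2 ⟨a, ha⟩
    exact (sup_le h1 h2) hg
  exact hχ1 (irr_fixed_vector_character ρ v hv0' hfix)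

end Cfsg.Agent.S0192
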