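import Mathlib
import Cfsg.Statements.S0196

set_option autoImplicit false
set_option linter.style.haveILetI false
set_option warn.classDefReducibility false
open Cfsg

namespace Cfsg.Agent.S0196

section
variable {G : Type*} [Group G] (A : Subgroup G)

/-- The non-identity elements of `A`. -/
abbrev X : Type _ := {a : G // a ∈ A ∧ a ≠ 1}

theorem conj_ne_one {g a : G} (ha : a ≠ 1) : g * a * g⁻¹ ≠ 1 := by
  intro h
  apply ha
  have := congrArg (fun z => g⁻¹ * z * g) h
  simpa [mul_assoc] using this

/-- Conjugation action of the normalizer on the non-identity elements. -/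
def act : MulAction (Subgroup.normalizer (A : Set G)) (X A) where
  smul n x := ⟨n.1 * x.1 * n.1⁻¹, (Subgroup.mem_set_normalizer_iff.mp n.2 x.1).mp x.2.1,
    conj_ne_one x.2.2⟩
  one_smul x := by
    apply Subtype.ext
    show (1 : G) * x.1 * (1 : G)⁻¹ = x.1
    simp
  mul_smul m n x := by
    apply Subtype.ext
    show (m.1 * n.1) * x.1 * (m.1 * n.1)⁻¹ = m.1 * (n.1 * x.1 * n.1⁻¹) * m.1⁻¹
    group

theorem card_X [Finite G] : Nat.card (X A) + 1 = Nat.card A := by
  classical
  rw [← Finite.card_option]
  let f : Option (X A) → A := fun o =>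
    match o with
    | none => 1
    | some x => ⟨x.1, x.2.1⟩
  apply Nat.card_eq_of_bijective f
  constructor
  · rintro (_ | ⟨a, ha, ha1⟩) (_ | ⟨b, hb, hb1⟩) h
    · rfl
    · exfalso
      apply hb1
      have := congrArg Subtype.val h
      simpa [f] using this.symm
    · exfalso
      apply ha1
      have := congrArg Subtype.val h
      simpa [f] using this
    · have := congrArg Subtype.val h
      simp only [f] at this
      subst this
      rfl
  · rintro ⟨a, ha⟩
    by_cases h : a = 1
    · exact ⟨none, by simp only [f]; ext; exact h.symm⟩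
    · exact ⟨some ⟨a, ha, h⟩, rfl⟩

end

/-- Let A be a subgroup of a finite group G that equals the centralizer of each of its non-identity elements, and let N be its normalizer. Then the index of A in N divides |A| − 1 (N/A permutes the non-identity elements of A in orbits of full length). -/
theorem result {G : Type*} [Group G] [Finite G] (A : Subgroup G) (hA : ∀ x ∈ A, x ≠ 1 → Subgroup.centralizer ({x} : Set G) = A) : (A.subgroupOf (Subgroup.normalizer (A : Set G))).index ∣ Nat.card A - 1 := by
  classical
  letI := act A
  have hX := card_X A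
  have hX' : Nat.card A - 1 = Nat.card (X A) := by omega
  rw [hX']
  haveI : Fintype (Subgroup.normalizer (A : Set G)) := Fintype.ofFinite _
  haveI : Fintype (X A) := Fintype.ofFinite _
  haveI : Fintype (Quotient (MulAction.orbitRel (Subgroup.normalizer (A : Set G)) (X A))) :=
    Fintype.ofFinite _
  have hstab : ∀ x : X A, MulAction.stabilizer (Subgroup.normalizer (A : Set G)) x =
      A.subgroupOf (Subgroup.normalizer (A : Set G)) := by
    intro x
    ext n
    rw [MulAction.mem_stabilizer_iff, Subgroup.mem_subgroupOf]
    have hC := hA x.1 x.2.1 x.2.2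
    have hmem : n.1 ∈ A ↔ n.1 * x.1 = x.1 * n.1 := by
      rw [← Subgroup.mem_centralizer_singleton_iff, hC]
    rw [hmem]
    constructor
    · intro h
      have h1 : n.1 * x.1 * n.1⁻¹ = x.1 := congrArg Subtype.val h
      calc n.1 * x.1 = (n.1 * x.1 * n.1⁻¹) * n.1 := by group
        _ = x.1 * n.1 := by rw [h1]
    · intro h
      apply Subtype.ext
      show n.1 * x.1 * n.1⁻¹ = x.1
      rw [h, mul_inv_cancel_right]
  have hsum := MulAction.card_eq_sum_card_group_div_card_stabilizer
    (Subgroup.normalizer (A : Set G)) (X A)
  rw [Nat.card_eq_fintype_card, hsum]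
  apply Finset.dvd_sum
  intro ω _
  rw [← Nat.card_eq_fintype_card, ← Nat.card_eq_fintype_card, hstab,
    ← Subgroup.index_mul_card (A.subgroupOf (Subgroup.normalizer (A : Set G)))]
  rw [Nat.mul_div_cancel _ Nat.card_pos]

end Cfsg.Agent.S0196
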