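import Mathlib
import Cfsg.Statements.S0206
import Cfsg.Agent.Lib.Helper1.InvPair

set_option autoImplicit false
set_option linter.unusedSectionVars false
open Cfsg
open Cfsg.Agent.Lib.Helper1

namespace Cfsg.Agent.S0206

section
variable {G : Type*} [Group G] [Finite G] (c : G)

/-- `i ↦ c ^ i` on `ZMod (orderOf c)`. -/
noncomputable def e (i : ZMod (orderOf c)) : G := c ^ i.val

theorem neZero_orderOf : NeZero (orderOf c) := ⟨(orderOf_pos c).ne'⟩

theorem e_add (i j : ZMod (orderOf c)) : e c (i + j) = e c i * e c j := by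
  have := neZero_orderOf c
  unfold e
  rw [ZMod.val_add, pow_mod_orderOf, pow_add]

theorem e_zero : e c 0 = 1 := by
  unfold e
  rw [ZMod.val_zero, pow_zero]

theorem e_neg (i : ZMod (orderOf c)) : e c (-i) = (e c i)⁻¹ := by
  apply eq_inv_of_mul_eq_one_left
  rw [← e_add, neg_add_cancel, e_zero]

theorem e_sub (i j : ZMod (orderOf c)) : e c (j - i) = e c j * (e c i)⁻¹ := by
  rw [sub_eq_add_neg, e_add, e_neg]

theorem e_comm (i j : ZMod (orderOf c)) : Commute (e c i) (e c j) := by
  unfold e
  exact (Commute.refl c).pow_pow _ _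

theorem e_one : e c 1 = c := by
  unfold e
  rw [ZMod.val_one_eq_one_mod, pow_mod_orderOf, pow_one]

theorem e_mem_zpowers (i : ZMod (orderOf c)) : e c i ∈ Subgroup.zpowers c :=
  Subgroup.pow_mem _ (Subgroup.mem_zpowers c) _

theorem e_eq_one (i : ZMod (orderOf c)) (h : e c i = 1) : i = 0 := by
  have := neZero_orderOf c
  unfold e at h
  by_contra hi
  have hv : i.val ≠ 0 := fun h0 => hi ((ZMod.val_eq_zero i).mp h0)
  exact pow_ne_one_of_lt_orderOf hv (ZMod.val_lt i) h

end

section
variable {G : Type*} [Group G] [Finite G] {x y : G}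

theorem x_mul_e (hx : x * x = 1) (hy : y * y = 1) (i : ZMod (orderOf (x * y))) :
    x * e (x * y) i = (e (x * y) i)⁻¹ * x := by
  have := invpair_x_mul_zpow hx hy (i.val : ℤ)
  rw [zpow_neg, zpow_natCast] at this
  exact this

theorem e_mul_x (hx : x * x = 1) (hy : y * y = 1) (i : ZMod (orderOf (x * y))) :
    e (x * y) i * x = x * (e (x * y) i)⁻¹ := by
  have := x_mul_e hx hy (-i)
  rw [e_neg, inv_inv] at this
  exact this.symm

/-- The homomorphism from the dihedral group. -/
noncomputable def phiFun (x y : G) : DihedralGroup (orderOf (x * y)) → G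
  | DihedralGroup.r i => e (x * y) i
  | DihedralGroup.sr i => x * e (x * y) i

noncomputable def phi (hx : x * x = 1) (hy : y * y = 1) : DihedralGroup (orderOf (x * y)) →* G :=
  MonoidHom.mk' (phiFun x y) (by
    intro a b
    cases a with
    | r i =>
      cases b with
      | r j =>
        simp only [DihedralGroup.r_mul_r, phiFun]
        exact e_add _ i j
      | sr j =>
        simp only [DihedralGroup.r_mul_sr, phiFun]
        rw [e_sub, ← mul_assoc (e (x * y) i), e_mul_x hx hy, mul_assoc,
          (e_comm _ j i).inv_right.eq]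
    | sr i =>
      cases b with
      | r j =>
        simp only [DihedralGroup.sr_mul_r, phiFun]
        rw [e_add, mul_assoc]
      | sr j =>
        simp only [DihedralGroup.sr_mul_sr, phiFun]
        rw [e_sub, x_mul_e hx hy, mul_assoc, ← mul_assoc x, hx, one_mul,
          (e_comm _ j i).inv_right.eq])

theorem phi_r (hx : x * x = 1) (hy : y * y = 1) (i : ZMod (orderOf (x * y))) :
    phi hx hy (DihedralGroup.r i) = e (x * y) i := rfl

theorem phi_sr (hx : x * x = 1) (hy : y * y = 1) (i : ZMod (orderOf (x * y))) :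
    phi hx hy (DihedralGroup.sr i) = x * e (x * y) i := rfl

end

/-- Two distinct involutions x, y of a finite group generate a subgroup isomorphic to the dihedral group of order 2·|xy|. -/
theorem result {G : Type*} [Group G] [Finite G] (x y : G) (hx : orderOf x = 2) (hy : orderOf y = 2) (hxy : x ≠ y) : Nonempty (↥(Subgroup.closure ({x, y} : Set G)) ≃* DihedralGroup (orderOf (x * y))) := by
  have hx2 := mul_self_of_orderOf_two hx
  have hy2 := mul_self_of_orderOf_two hy
  have hinj : Function.Injective (phi hx2 hy2) := by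
    rw [injective_iff_map_eq_one]
    intro a ha
    cases a with
    | r i =>
      rw [phi_r] at ha
      rw [e_eq_one _ i ha, DihedralGroup.r_zero]
    | sr i =>
      exfalso
      rw [phi_sr] at ha
      have h1 : x = (e (x * y) i)⁻¹ := eq_inv_of_mul_eq_one_left ha
      apply invpair_x_notMem_zpowers hx hy
      have h2 : (e (x * y) i)⁻¹ ∈ Subgroup.zpowers (x * y) :=
        Subgroup.inv_mem _ (e_mem_zpowers _ i)
      rwa [← h1] at h2
  have hrange : Subgroup.closure ({x, y} : Set G) = (phi hx2 hy2).range := by
    apply le_antisymm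
    · rw [Subgroup.closure_le]
      rintro z (rfl | hz)
      · refine ⟨DihedralGroup.sr 0, ?_⟩
        rw [phi_sr, e_zero, mul_one]
      · rw [Set.mem_singleton_iff] at hz
        subst hz
        refine ⟨DihedralGroup.sr 1, ?_⟩
        rw [phi_sr, e_one, ← mul_assoc, hx2, one_mul]
    · rintro _ ⟨a, rfl⟩
      have hxm : x ∈ Subgroup.closure ({x, y} : Set G) := Subgroup.subset_closure (by simp)
      have hym : y ∈ Subgroup.closure ({x, y} : Set G) := Subgroup.subset_closure (by simp)
      have hem : ∀ i, e (x * y) i ∈ Subgroup.closure ({x, y} : Set G) := fun i =>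
        Subgroup.pow_mem _ (Subgroup.mul_mem _ hxm hym) _
      cases a with
      | r i => rw [phi_r]; exact hem i
      | sr i => rw [phi_sr]; exact Subgroup.mul_mem _ hxm (hem i)
  exact ⟨(MulEquiv.subgroupCongr hrange).trans (MonoidHom.ofInjective hinj).symm⟩

end Cfsg.Agent.S0206
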