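import Mathlib
import Cfsg.Statements.S0210
import Cfsg.Agent.Lib.Helper1.InvPair

set_option autoImplicit false
open Cfsg
open Cfsg.Agent.Lib.Helper1

namespace Cfsg.Agent.S0210

/-- If x, y are involutions whose product has even order, no element of the subgroup generated by x and y conjugates x to y. -/
theorem result {G : Type*} [Group G] [Finite G] (x y : G) (hx : orderOf x = 2) (hy : orderOf y = 2) (heven : Even (orderOf (x * y))) (d : G) (hd : d ∈ Subgroup.closure ({x, y} : Set G)) : d * x * d⁻¹ ≠ y := by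
  have hx2 := mul_self_of_orderOf_two hx
  have hy2 := mul_self_of_orderOf_two hy
  obtain ⟨k, hk⟩ := invpair_conj_x hx2 hy2 d hd
  rw [hk]
  intro h
  -- (xy)^(2k) * x = y = (xy)^(-1) * x, so (xy)^(2k+1) = 1
  have h1 : (x * y) ^ (2 * k) = (x * y) ^ (-1 : ℤ) := by
    have h2 := invpair_y_eq (x := x) hy2
    have h5 : (x * y) ^ (2 * k) * x = (x * y) ^ (-1 : ℤ) * x := h.trans h2
    exact mul_right_cancel h5
  have h3 : (x * y) ^ (2 * k + 1) = 1 := by
    rw [zpow_add, h1, zpow_neg, zpow_one, inv_mul_cancel]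
  have h4 := orderOf_dvd_iff_zpow_eq_one.mpr h3
  obtain ⟨m, hm⟩ := heven
  rw [hm] at h4
  have : (2 : ℤ) ∣ 2 * k + 1 := by
    refine dvd_trans ?_ h4
    refine ⟨m, ?_⟩
    push_cast; ring
  omega

end Cfsg.Agent.S0210
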