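import Mathlib
import Cfsg.Statements.S0211
import Cfsg.Agent.Lib.Helper1.InvPair

set_option autoImplicit false
open Cfsg
open Cfsg.Agent.Lib.Helper1

namespace Cfsg.Agent.S0211

/-- Let x, y be involutions with xy of even order n and z = (xy)^(n/2). Then xz is conjugate to x by an element of the subgroup generated by x, y if and only if 4 divides n. -/
theorem result {G : Type*} [Group G] [Finite G] (x y : G) (hx : orderOf x = 2) (hy : orderOf y = 2) (heven : Even (orderOf (x * y))) : (∃ d ∈ Subgroup.closure ({x, y} : Set G), d * x * d⁻¹ = x * (x * y) ^ (orderOf (x * y) / 2)) ↔ 4 ∣ orderOf (x * y) := by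
  have hx2 := mul_self_of_orderOf_two hx
  have hy2 := mul_self_of_orderOf_two hy
  obtain ⟨m, hm⟩ := heven
  have hpos : 0 < orderOf (x * y) := orderOf_pos _
  have hm2 : orderOf (x * y) / 2 = m := by omega
  rw [hm2]
  obtain ⟨-, hzx, -⟩ := invpair_half_pow hx2 hy2 m hm (by omega)
  rw [← hzx.eq]
  constructor
  · rintro ⟨d, hd, hdx⟩
    obtain ⟨k, hk⟩ := invpair_conj_x hx2 hy2 d hd
    rw [hk] at hdx
    have h1 : (x * y) ^ (2 * k) = (x * y) ^ (m : ℤ) := by
      rw [zpow_natCast]; exact mul_right_cancel hdx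
    have h2 : (x * y) ^ (2 * k - m) = 1 := by
      rw [zpow_sub, h1, mul_inv_cancel]
    have h3 := orderOf_dvd_iff_zpow_eq_one.mpr h2
    rw [hm] at h3
    have h4 : (2 : ℤ) ∣ 2 * k - m := by
      refine dvd_trans ?_ h3
      exact ⟨m, by push_cast; ring⟩
    have h5 : (2 : ℤ) ∣ m := by omega
    have h6 : 2 ∣ m := by exact_mod_cast h5
    rw [hm]
    omega
  · intro h4
    rw [hm] at h4
    have h2 : 2 ∣ m := by omega
    obtain ⟨j, hj⟩ := h2
    refine ⟨(x * y) ^ (j : ℤ), ?_, ?_⟩
    · exact Subgroup.zpow_mem _ (Subgroup.mul_mem _ (Subgroup.subset_closure (by simp))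
        (Subgroup.subset_closure (by simp))) _
    · rw [invpair_zpow_conj_x hx2 hy2]
      congr 1
      rw [hj]
      rw [← zpow_natCast]
      push_cast
      rfl

end Cfsg.Agent.S0211
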