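import Mathlib
import Cfsg.Statements.S0233
import Cfsg.Agent.Lib.Helper1.BrauerFowler

set_option autoImplicit false
open Cfsg
open Cfsg.Agent.Lib.Helper1

namespace Cfsg.Agent.S0233

theorem invol_notMem_center {G : Type*} [Group G] [Finite G]
    (hZ : Odd (Nat.card (Subgroup.center G))) (x : G) (hx : orderOf x = 2) :
    x ∉ Subgroup.center G := by
  intro hmem
  have h1 : orderOf (⟨x, hmem⟩ : Subgroup.center G) = 2 := by
    rw [← hx]; exact (Subgroup.orderOf_mk x hmem)
  have h2 : 2 ∣ Nat.card (Subgroup.center G) := by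
    rw [← h1]; exact orderOf_dvd_natCard _
  rcases hZ with ⟨k, hk⟩
  omega

/-- General form: if no subgroup has index 2 and the centre has odd order then a proper
subgroup of minimal index satisfies the Brauer–Fowler inequality. -/
theorem exists_min_index {G : Type*} [Group G] [Finite G] (hnt : Nontrivial G)
    (hZ : Odd (Nat.card (Subgroup.center G))) (h2 : ∀ H : Subgroup G, H.index ≠ 2) :
    ∃ H : Subgroup G, H ≠ ⊤ ∧ (∀ K : Subgroup G, K ≠ ⊤ → H.index ≤ K.index) ∧
      2 * H.index * (Nat.card {t : G // orderOf t = 2}) ^ 2 + 2 * H.index *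
        (Nat.card {t : G // orderOf t = 2}) + Nat.card G ≤
        Nat.card G * (Nat.card {t : G // orderOf t = 2}) + Nat.card G ^ 2 := by
  classical
  have : Fintype G := Fintype.ofFinite G
  let S : Set ℕ := {n | ∃ H : Subgroup G, H ≠ ⊤ ∧ H.index = n}
  have hS : S.Nonempty := ⟨(⊥ : Subgroup G).index, ⊥, bot_ne_top, rfl⟩
  obtain ⟨H, hH, hHr⟩ := Nat.sInf_mem hS
  have hmin : ∀ K : Subgroup G, K ≠ ⊤ → H.index ≤ K.index := by
    intro K hK
    rw [hHr]
    exact Nat.sInf_le ⟨K, hK, rfl⟩
  refine ⟨H, hH, hmin, ?_⟩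
  have := brauer_fowler_core (G := G) H.index hmin h2 (invol_notMem_center hZ)
  rw [card_invols, ← Nat.card_eq_fintype_card] at this
  exact this

/-- Let G be a finite group of even order with exactly n involutions whose centre has odd order, and put a = |G|/n. Then G has a proper subgroup H with |G : H| = 2 or |G : H| < a(a+1)/2; over ℕ the latter reads 2·|G:H|·n² < |G|·(|G| + n). -/
theorem result {G : Type*} [Group G] [Finite G] (heven : Even (Nat.card G)) (hZ : Odd (Nat.card (Subgroup.center G))) : ∃ H : Subgroup G, H ≠ ⊤ ∧ (H.index = 2 ∨ 2 * H.index * (Nat.card {t : G // orderOf t = 2}) ^ 2 < Nat.card G * (Nat.card G + Nat.card {t : G // orderOf t = 2})) := by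
  classical
  by_cases h2 : ∃ H : Subgroup G, H.index = 2
  · obtain ⟨H, hH⟩ := h2
    refine ⟨H, ?_, Or.inl hH⟩
    intro h; rw [h, Subgroup.index_top] at hH; omega
  · push Not at h2
    have hnt : Nontrivial G := by
      rw [← Finite.one_lt_card_iff_nontrivial]
      rcases heven with ⟨k, hk⟩
      have : 0 < Nat.card G := Nat.card_pos
      omega
    obtain ⟨H, hH, -, hineq⟩ := exists_min_index hnt hZ h2
    refine ⟨H, hH, Or.inr ?_⟩
    have : 0 < Nat.card G := Nat.card_pos
    nlinarith

end Cfsg.Agent.S0233
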