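import Mathlib
import Cfsg.Statements.S0212
import Cfsg.Agent.Lib.Helper1.BrauerFowler
import Cfsg.Agent.Lib.Helper1.SimpleIndex
import Cfsg.Agent.Lib.Helper1.ConjCount
import Cfsg.Agent.S0233

set_option autoImplicit false
open Cfsg
open Cfsg.Agent.Lib.Helper1

namespace Cfsg.Agent.S0212

/-- the class of an involution consists of involutions -/
theorem card_class_le_card_invols {G : Type*} [Group G] [Finite G] (t : G) (ht : orderOf t = 2) :
    Nat.card {v : G // IsConj t v} ≤ Nat.card {v : G // orderOf v = 2} := by
  apply Nat.card_le_card_of_injective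
    (fun v : {v : G // IsConj t v} => (⟨v.1, by
      obtain ⟨g, hg⟩ := isConj_iff.mp v.2
      rw [← hg, ← ht]
      exact orderOf_injective (MulAut.conj g).toMonoidHom (MulAut.conj g).injective t⟩ :
        {v : G // orderOf v = 2}))
  intro a b hab
  apply Subtype.ext
  have := congrArg Subtype.val hab
  exact this

/-- The Brauer–Fowler bound: if G is a finite simple group and t an involution of G whose centralizer has order n, then |G| ≤ (2n^2)!. -/
theorem result {G : Type*} [Group G] [Finite G] [IsSimpleGroup G] (t : G) (ht : orderOf t = 2) : Nat.card G ≤ Nat.factorial (2 * (Nat.card (Subgroup.centralizer ({t} : Set G))) ^ 2) := by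
  classical
  set n := Nat.card (Subgroup.centralizer ({t} : Set G)) with hn
  have hnpos : 0 < n := Nat.card_pos
  have hgpos : 0 < Nat.card G := Nat.card_pos
  by_cases h2 : ∃ H : Subgroup G, H.index = 2
  · obtain ⟨H, hH⟩ := h2
    have hne : H ≠ ⊤ := by
      intro h; rw [h, Subgroup.index_top] at hH; omega
    have := card_dvd_factorial_index_of_simple H hne
    rw [hH] at this
    have h3 : Nat.card G ≤ 2 := Nat.le_of_dvd (by norm_num) this
    have h4 : 2 ≤ 2 * n ^ 2 := by nlinarith
    exact le_trans h3 (le_trans h4 (Nat.self_le_factorial _))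
  · push Not at h2
    rcases (inferInstance : (Subgroup.center G).Normal).eq_bot_or_eq_top with hc | hc
    · have hZ : Odd (Nat.card (Subgroup.center G)) := by
        rw [hc, Subgroup.card_bot]; exact odd_one
      have hnt : Nontrivial G := IsSimpleGroup.toNontrivial
      obtain ⟨H, hH, -, hineq⟩ := Cfsg.Agent.S0233.exists_min_index hnt hZ h2
      set m := Nat.card {t : G // orderOf t = 2} with hm
      set g := Nat.card G with hg
      set r := H.index with hr
      have hcls := card_isConj_mul_card_centralizer t
      rw [← hn, ← hg] at hcls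
      have hle := card_class_le_card_invols t ht
      rw [← hm] at hle
      have hmn : g ≤ m * n := by
        rw [← hcls]; exact Nat.mul_le_mul_right _ hle
      have hmpos : 0 < m := by
        by_contra h0
        have : m = 0 := by omega
        rw [this] at hmn; omega
      -- 2 r m² < g(g+m) ≤ m² n (n+1)
      have h1 : 2 * r * m ^ 2 < g * (g + m) := by nlinarith
      have h3 : g * (g + m) ≤ m * n * (m * n + m) :=
        Nat.mul_le_mul hmn (Nat.add_le_add_right hmn m)
      have h4 : 2 * r * m ^ 2 < m ^ 2 * (n * (n + 1)) := by
        calc 2 * r * m ^ 2 < g * (g + m) := h1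
          _ ≤ m * n * (m * n + m) := h3
          _ = m ^ 2 * (n * (n + 1)) := by ring
      have h5 : 2 * r < n * (n + 1) := by
        by_contra hcon
        push Not at hcon
        have : m ^ 2 * (n * (n + 1)) ≤ m ^ 2 * (2 * r) := Nat.mul_le_mul_left _ hcon
        nlinarith
      have h6 : r ≤ 2 * n ^ 2 := by nlinarith
      have h7 := card_dvd_factorial_index_of_simple H hH
      exact le_trans (Nat.le_of_dvd (Nat.factorial_pos _) h7) (Nat.factorial_le h6)
    · -- abelian case: the centralizer is everything
      have htop : Subgroup.centralizer ({t} : Set G) = ⊤ := by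
        rw [Subgroup.centralizer_eq_top_iff_subset, hc]
        exact Set.subset_univ _
      have hng : n = Nat.card G := by
        rw [hn, htop, Subgroup.card_top]
      rw [← hng]
      have h8 : n ≤ 2 * n ^ 2 := by nlinarith
      exact le_trans h8 (Nat.self_le_factorial _)

end Cfsg.Agent.S0212
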