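import Mathlib
import Cfsg.Statements.S0213
import Cfsg.Agent.Lib.Helper1.InvPair
import Cfsg.Agent.Lib.Helper1.ConjCount
import Cfsg.Agent.S0208

set_option autoImplicit false
open Cfsg
open Cfsg.Agent.Lib.Helper1

namespace Cfsg.Agent.S0213

section
variable {G : Type*} [Group G]

/-- A cyclic group `⟨d⟩` with `orderOf d = m + m` has `d ^ m` as its unique involution. -/
theorem unique_invol_zpowers {d w : G} (m : ℕ) (hm : orderOf d = m + m)
    (hw : w ∈ Subgroup.zpowers d) (hw2 : orderOf w = 2) : w = d ^ m := by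
  obtain ⟨k, rfl⟩ := Subgroup.mem_zpowers_iff.mp hw
  have hww := mul_self_of_orderOf_two hw2
  have hw1 := ne_one_of_orderOf_two hw2
  rw [← zpow_add] at hww
  have hdvd : ((orderOf d : ℕ) : ℤ) ∣ k + k := orderOf_dvd_iff_zpow_eq_one.mpr hww
  rw [hm] at hdvd
  obtain ⟨l, hl⟩ := hdvd
  have hk : k = m * l := by push_cast at hl; linarith
  have hdm : (d ^ m) * (d ^ m) = 1 := by rw [← pow_add, ← hm, pow_orderOf_eq_one]
  rcases Int.even_or_odd l with ⟨j, hj⟩ | ⟨j, hj⟩
  · exfalso; apply hw1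
    rw [hk, hj, zpow_mul, zpow_natCast, ← two_mul, zpow_mul, zpow_two, hdm, one_zpow]
  · rw [hk, hj, zpow_mul, zpow_natCast, zpow_add, zpow_mul, zpow_two, hdm, one_zpow, one_mul,
      zpow_one]

theorem mem_zpowers_conj_iff (a d z : G) :
    a * z * a⁻¹ ∈ Subgroup.zpowers (a * d * a⁻¹) ↔ z ∈ Subgroup.zpowers d := by
  constructor
  · intro h
    obtain ⟨k, hk⟩ := Subgroup.mem_zpowers_iff.mp h
    rw [conj_zpow] at hk
    refine Subgroup.mem_zpowers_iff.mpr ⟨k, ?_⟩
    calc d ^ k = a⁻¹ * (a * d ^ k * a⁻¹) * a := by group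
      _ = a⁻¹ * (a * z * a⁻¹) * a := by rw [hk]
      _ = z := by group
  · intro h
    obtain ⟨k, hk⟩ := Subgroup.mem_zpowers_iff.mp h
    refine Subgroup.mem_zpowers_iff.mpr ⟨k, ?_⟩
    rw [conj_zpow, hk]

theorem isConj_conj_iff (x a u : G) : IsConj x (a * u * a⁻¹) ↔ IsConj x u := by
  constructor
  · intro h
    exact h.trans (isConj_iff.mpr ⟨a⁻¹, by group⟩)
  · intro h
    exact h.trans (isConj_iff.mpr ⟨a, rfl⟩)

end

/-- Thompson Order Formula, two-class case: if every involution of the finite group G is conjugate to exactly one of the non-conjugate involutions x₁, x₂, and nᵢ is the number of pairs (u, v) with u conjugate to x₁, v conjugate to x₂ and xᵢ in the cyclic group generated by uv, then |G| = |C(x₂)| n₁ + |C(x₁)| n₂. -/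
theorem result {G : Type*} [Group G] [Finite G] (x₁ x₂ : G) (h₁ : orderOf x₁ = 2) (h₂ : orderOf x₂ = 2) (hnc : ¬ IsConj x₁ x₂) (hall : ∀ t : G, orderOf t = 2 → IsConj x₁ t ∨ IsConj x₂ t) : Nat.card G = Nat.card (Subgroup.centralizer ({x₂} : Set G)) * Nat.card {p : G × G // IsConj x₁ p.1 ∧ IsConj x₂ p.2 ∧ x₁ ∈ Subgroup.zpowers (p.1 * p.2)} + Nat.card (Subgroup.centralizer ({x₁} : Set G)) * Nat.card {p : G × G // IsConj x₁ p.1 ∧ IsConj x₂ p.2 ∧ x₂ ∈ Subgroup.zpowers (p.1 * p.2)} := by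
  classical
  have : Fintype G := Fintype.ofFinite G
  set K₁ : Finset G := Finset.univ.filter (fun u => IsConj x₁ u) with hK₁
  set K₂ : Finset G := Finset.univ.filter (fun u => IsConj x₂ u) with hK₂
  have hmem₁ : ∀ u, u ∈ K₁ ↔ IsConj x₁ u := fun u => by simp [hK₁]
  have hmem₂ : ∀ u, u ∈ K₂ ↔ IsConj x₂ u := fun u => by simp [hK₂]
  have hord : ∀ (x u : G), IsConj x u → orderOf u = orderOf x := by
    intro x u h
    obtain ⟨g, hg⟩ := isConj_iff.mp h
    rw [← hg]
    exact orderOf_injective (MulAut.conj g).toMonoidHom (MulAut.conj g).injective x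
  have hdisj : Disjoint K₁ K₂ := by
    rw [Finset.disjoint_left]
    intro u hu1 hu2
    rw [hmem₁] at hu1; rw [hmem₂] at hu2
    exact hnc (hu1.trans hu2.symm)
  -- N z
  let N : G → ℕ := fun z =>
    ((K₁ ×ˢ K₂).filter (fun p => z ∈ Subgroup.zpowers (p.1 * p.2))).card
  have hNconj : ∀ a z : G, N (a * z * a⁻¹) = N z := by
    intro a z
    apply Finset.card_nbij' (fun p => (a⁻¹ * p.1 * a, a⁻¹ * p.2 * a))
      (fun p => (a * p.1 * a⁻¹, a * p.2 * a⁻¹))
    · intro p hp
      simp only [Finset.coe_filter, Finset.mem_product, Set.mem_ofPred_eq, hmem₁, hmem₂] at hp ⊢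
      refine ⟨⟨?_, ?_⟩, ?_⟩
      · have := (isConj_conj_iff x₁ a⁻¹ p.1).mpr hp.1.1
        rwa [inv_inv] at this
      · have := (isConj_conj_iff x₂ a⁻¹ p.2).mpr hp.1.2
        rwa [inv_inv] at this
      · have h := hp.2
        have e : p.1 * p.2 = a * (a⁻¹ * p.1 * a * (a⁻¹ * p.2 * a)) * a⁻¹ := by group
        rw [e, mem_zpowers_conj_iff] at h
        exact h
    · intro p hp
      simp only [Finset.coe_filter, Finset.mem_product, Set.mem_ofPred_eq, hmem₁, hmem₂] at hp ⊢
      refine ⟨⟨(isConj_conj_iff x₁ a p.1).mpr hp.1.1, (isConj_conj_iff x₂ a p.2).mpr hp.1.2⟩, ?_⟩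
      have e : a * p.1 * a⁻¹ * (a * p.2 * a⁻¹) = a * (p.1 * p.2) * a⁻¹ := by group
      rw [e, mem_zpowers_conj_iff]
      exact hp.2
    · intro p _; ext <;> simp <;> group
    · intro p _; ext <;> simp <;> group
  -- sums over classes
  have hsum₁ : ∑ z ∈ K₁, N z = K₁.card * N x₁ := by
    rw [Finset.sum_const_nat]
    intro z hz
    rw [hmem₁] at hz
    obtain ⟨a, ha⟩ := isConj_iff.mp hz
    rw [← ha, hNconj]
  have hsum₂ : ∑ z ∈ K₂, N z = K₂.card * N x₂ := by
    rw [Finset.sum_const_nat]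
    intro z hz
    rw [hmem₂] at hz
    obtain ⟨a, ha⟩ := isConj_iff.mp hz
    rw [← ha, hNconj]
  -- double count
  have hdouble : ∑ z ∈ K₁ ∪ K₂, N z = K₁.card * K₂.card := by
    simp only [N, Finset.card_filter]
    rw [Finset.sum_comm]
    have hone : ∀ p ∈ K₁ ×ˢ K₂,
        (∑ z ∈ K₁ ∪ K₂, if z ∈ Subgroup.zpowers (p.1 * p.2) then 1 else 0) = 1 := by
      intro p hp
      rw [Finset.mem_product, hmem₁, hmem₂] at hp
      have hu : orderOf p.1 = 2 := (hord _ _ hp.1).trans h₁
      have hv : orderOf p.2 = 2 := (hord _ _ hp.2).trans h₂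
      have hu2 := mul_self_of_orderOf_two hu
      have hv2 := mul_self_of_orderOf_two hv
      -- order of product is even
      have heven : Even (orderOf (p.1 * p.2)) := by
        rw [← Nat.not_odd_iff_even]
        intro hodd
        obtain ⟨d, -, hd⟩ := Cfsg.Agent.S0208.result p.1 p.2 hu hv hodd
        apply hnc
        exact hp.1.trans ((isConj_iff.mpr ⟨d, hd⟩).trans hp.2.symm)
      obtain ⟨m, hm⟩ := heven
      have hmpos : 0 < m := by
        have := orderOf_pos (p.1 * p.2)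
        omega
      obtain ⟨hz2, -, -⟩ := invpair_half_pow hu2 hv2 m hm hmpos
      rw [← Finset.card_filter]
      rw [Finset.card_eq_one]
      refine ⟨(p.1 * p.2) ^ m, ?_⟩
      ext z
      simp only [Finset.mem_filter, Finset.mem_union, hmem₁, hmem₂, Finset.mem_singleton]
      constructor
      · rintro ⟨hz, hzmem⟩
        have hzord : orderOf z = 2 := by
          rcases hz with hz | hz
          · exact (hord _ _ hz).trans h₁
          · exact (hord _ _ hz).trans h₂
        exact unique_invol_zpowers m hm hzmem hzord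
      · rintro rfl
        exact ⟨hall _ hz2, Subgroup.pow_mem _ (Subgroup.mem_zpowers _) m⟩
    rw [Finset.sum_congr rfl hone, Finset.sum_const, smul_eq_mul, mul_one, Finset.card_product]
  rw [Finset.sum_union hdisj, hsum₁, hsum₂] at hdouble
  -- class sizes
  have hc₁ := card_isConj_mul_card_centralizer x₁
  have hc₂ := card_isConj_mul_card_centralizer x₂
  have hk₁ : Nat.card {v : G // IsConj x₁ v} = K₁.card := by
    rw [Nat.card_eq_fintype_card, Fintype.card_subtype]
  have hk₂ : Nat.card {v : G // IsConj x₂ v} = K₂.card := by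
    rw [Nat.card_eq_fintype_card, Fintype.card_subtype]
  rw [hk₁] at hc₁
  rw [hk₂] at hc₂
  have hn₁ : Nat.card {p : G × G // IsConj x₁ p.1 ∧ IsConj x₂ p.2 ∧
      x₁ ∈ Subgroup.zpowers (p.1 * p.2)} = N x₁ := by
    rw [Nat.card_eq_fintype_card, Fintype.card_subtype]
    apply congrArg Finset.card
    ext p
    simp only [Finset.mem_filter, Finset.mem_univ, true_and, Finset.mem_product, hmem₁, hmem₂,
      and_assoc]
  have hn₂ : Nat.card {p : G × G // IsConj x₁ p.1 ∧ IsConj x₂ p.2 ∧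
      x₂ ∈ Subgroup.zpowers (p.1 * p.2)} = N x₂ := by
    rw [Nat.card_eq_fintype_card, Fintype.card_subtype]
    apply congrArg Finset.card
    ext p
    simp only [Finset.mem_filter, Finset.mem_univ, true_and, Finset.mem_product, hmem₁, hmem₂,
      and_assoc]
  rw [hn₁, hn₂]
  set c₁ := Nat.card (Subgroup.centralizer ({x₁} : Set G))
  set c₂ := Nat.card (Subgroup.centralizer ({x₂} : Set G))
  set g := Nat.card G
  have hgpos : 0 < g := Nat.card_pos
  -- g * (c₂ n₁ + c₁ n₂) = g * g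
  have key : g * (c₂ * N x₁ + c₁ * N x₂) = g * g := by
    calc g * (c₂ * N x₁ + c₁ * N x₂)
        = (K₁.card * c₁) * (c₂ * N x₁) + (K₂.card * c₂) * (c₁ * N x₂) := by rw [hc₁, hc₂]; ring
      _ = (K₁.card * N x₁ + K₂.card * N x₂) * (c₁ * c₂) := by ring
      _ = (K₁.card * K₂.card) * (c₁ * c₂) := by rw [hdouble]
      _ = (K₁.card * c₁) * (K₂.card * c₂) := by ring
      _ = g * g := by rw [hc₁, hc₂]
  exact (Nat.eq_of_mul_eq_mul_left hgpos key).symm

end Cfsg.Agent.S0213
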