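import Mathlib
import Cfsg.Statements.S0214
import Cfsg.Agent.Lib.Helper1.StrEmb

set_option autoImplicit false
open Cfsg
open Cfsg.Agent.Lib.Helper1

namespace Cfsg.Agent.S0214

section
variable {G : Type*} [Group G]

/-- the conjugate subgroup `a Y a⁻¹` -/
def cj (a : G) (Y : Subgroup G) : Subgroup G := Y.map (MulAut.conj a).toMonoidHom

theorem mem_cj (a : G) (Y : Subgroup G) (x : G) : x ∈ cj a Y ↔ a⁻¹ * x * a ∈ Y :=
  mem_map_conj_iff Y a x

theorem conj_mem_cj (a : G) (Y : Subgroup G) {y : G} (hy : y ∈ Y) : a * y * a⁻¹ ∈ cj a Y := by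
  rw [mem_cj]
  have : a⁻¹ * (a * y * a⁻¹) * a = y := by group
  rw [this]; exact hy

theorem cj_cj (a b : G) (Y : Subgroup G) : cj a (cj b Y) = cj (a * b) Y := by
  ext x
  simp only [mem_cj]
  have : b⁻¹ * (a⁻¹ * x * a) * b = (a * b)⁻¹ * x * (a * b) := by group
  rw [this]

theorem cj_one (Y : Subgroup G) : cj 1 Y = Y := by
  ext x; simp [mem_cj]

theorem cj_mono (a : G) {Y Z : Subgroup G} (h : Y ≤ Z) : cj a Y ≤ cj a Z :=
  Subgroup.map_mono h

theorem card_cj (a : G) (Y : Subgroup G) : Nat.card (cj a Y) = Nat.card Y :=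
  Subgroup.card_map_of_injective (MulAut.conj a).injective

theorem isPGroup_cj {p : ℕ} (a : G) {Y : Subgroup G} (h : IsPGroup p Y) : IsPGroup p (cj a Y) :=
  h.map _

theorem cj_ne_bot (a : G) {Y : Subgroup G} (h : Y ≠ ⊥) : cj a Y ≠ ⊥ := by
  intro hb
  apply h
  rw [eq_bot_iff] at hb ⊢
  intro y hy
  have := hb (conj_mem_cj a Y hy)
  rw [Subgroup.mem_bot] at this ⊢
  calc y = a⁻¹ * (a * y * a⁻¹) * a := by group
    _ = 1 := by rw [this]; group

theorem cj_le_of_mem {a : G} {H Y : Subgroup G} (ha : a ∈ H) (h : Y ≤ H) : cj a Y ≤ H := by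
  intro x hx
  rw [mem_cj] at hx
  have h1 := h hx
  have : x = a * (a⁻¹ * x * a) * a⁻¹ := by group
  rw [this]
  exact H.mul_mem (H.mul_mem ha h1) (H.inv_mem ha)

theorem conj_mem_normalizer_cj (a : G) {Y : Subgroup G} {n : G}
    (hn : n ∈ Subgroup.normalizer (Y : Set G)) :
    a * n * a⁻¹ ∈ Subgroup.normalizer ((cj a Y : Subgroup G) : Set G) := by
  rw [Subgroup.mem_normalizer_iff] at hn ⊢
  intro x
  rw [mem_cj, mem_cj, hn]
  have : a⁻¹ * (a * n * a⁻¹ * x * (a * n * a⁻¹)⁻¹) * a = n * (a⁻¹ * x * a) * n⁻¹ := by group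
  rw [this]

theorem mem_normalizer_of_cj_eq {a : G} {Y : Subgroup G} (h : cj a Y = Y) :
    a ∈ Subgroup.normalizer (Y : Set G) := by
  rw [Subgroup.mem_normalizer_iff]
  intro x
  constructor
  · intro hx
    rw [← h]; exact conj_mem_cj a Y hx
  · intro hx
    rw [← h, mem_cj] at hx
    have : a⁻¹ * (a * x * a⁻¹) * a = x := by group
    rwa [this] at hx

variable [Finite G]

theorem card_lt_of_le_of_mem {Y Z : Subgroup G} (h : Y ≤ Z) {s : G} (hs : s ∈ Z) (hsY : s ∉ Y) :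
    Nat.card Y < Nat.card Z := by
  by_contra hcon
  push Not at hcon
  have := Subgroup.eq_of_le_of_card_ge h hcon
  rw [this] at hsY
  exact hsY hs

open scoped Pointwise in
/-- Sylow conjugacy inside `H`. -/
theorem exists_cj_le_sylow (H : Subgroup G) (P : Sylow 2 ↥H) (Y : Subgroup G)
    (hY : IsPGroup 2 Y) (hYH : Y ≤ H) :
    ∃ h ∈ H, cj h⁻¹ Y ≤ (P : Subgroup ↥H).map H.subtype := by
  have hY' : IsPGroup 2 (Y.subgroupOf H) := hY.comap_subtype
  obtain ⟨Q, hQ⟩ := hY'.exists_le_sylow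
  obtain ⟨h, hh⟩ := MulAction.exists_smul_eq ↥H P Q
  refine ⟨h.1, h.2, ?_⟩
  intro x hx
  rw [mem_cj, inv_inv] at hx
  have hxH : x ∈ H := by
    have h1 := hYH hx
    have : x = h.1⁻¹ * (h.1 * x * h.1⁻¹) * h.1 := by group
    rw [this]
    exact H.mul_mem (H.mul_mem (H.inv_mem h.2) h1) h.2
  have h2 : (⟨h.1 * x * h.1⁻¹, hYH hx⟩ : ↥H) ∈ Y.subgroupOf H := by
    rw [Subgroup.mem_subgroupOf]; exact hx
  have h3 := hQ h2
  rw [← hh, Sylow.smul_def] at h3
  have h4 : (⟨h.1 * x * h.1⁻¹, hYH hx⟩ : ↥H) ∈ MulAut.conj h • (P : Subgroup ↥H) := h3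
  rw [Subgroup.mem_pointwise_smul_iff_inv_smul_mem] at h4
  refine ⟨⟨x, hxH⟩, ?_, rfl⟩
  have h5 : (MulAut.conj h)⁻¹ • (⟨h.1 * x * h.1⁻¹, hYH hx⟩ : ↥H) = ⟨x, hxH⟩ := by
    rw [MulAut.smul_def, MulAut.conj_inv_apply]
    apply Subtype.ext
    simp only [Subgroup.coe_mul, Subgroup.coe_inv]
    group
  rw [h5] at h4
  exact h4

/-- normalizers grow in `p`-groups -/
theorem exists_normalizing_of_lt {p : ℕ} [Fact p.Prime] (S Y : Subgroup G) (hS : IsPGroup p S)
    (hYS : Y ≤ S) (hne : Y ≠ S) :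
    ∃ s ∈ S, s ∉ Y ∧ s ∈ Subgroup.normalizer (Y : Set G) := by
  have hnil : Group.IsNilpotent ↥S := hS.isNilpotent
  have hnc := Group.normalizerCondition_of_isNilpotent (G := ↥S)
  have hlt : Y.subgroupOf S < ⊤ := by
    rw [lt_top_iff_ne_top]
    intro h
    rw [Subgroup.subgroupOf_eq_top] at h
    exact hne (le_antisymm hYS h)
  have h1 := hnc _ hlt
  obtain ⟨s, hs, hsY⟩ := SetLike.exists_of_lt h1
  refine ⟨s.1, s.2, ?_, ?_⟩
  · intro h; exact hsY (Subgroup.mem_subgroupOf.mpr h)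
  · rw [Subgroup.mem_normalizer_iff] at hs ⊢
    intro y
    constructor
    · intro hy
      have := (hs ⟨y, hYS hy⟩).mp (Subgroup.mem_subgroupOf.mpr hy)
      exact Subgroup.mem_subgroupOf.mp this
    · intro hy
      have hyS : y ∈ S := by
        have h2 := hYS hy
        have : y = s.1⁻¹ * (s.1 * y * s.1⁻¹) * s.1 := by group
        rw [this]
        exact S.mul_mem (S.mul_mem (S.inv_mem s.2) h2) s.2
      have := (hs ⟨y, hyS⟩).mpr (Subgroup.mem_subgroupOf.mpr hy)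
      exact Subgroup.mem_subgroupOf.mp this

/-- Claim A: normalizers of nontrivial 2-subgroups of `H` lie in `H`. -/
theorem normalizer_le_of_NC (H : Subgroup G) (P : Sylow 2 ↥H)
    (NC : ∀ X' : Subgroup G, X' ≤ (P : Subgroup ↥H).map H.subtype → X' ≠ ⊥ →
      Subgroup.normalizer (X' : Set G) ≤ H)
    (Y : Subgroup G) (hY : IsPGroup 2 Y) (hY1 : Y ≠ ⊥) (hYH : Y ≤ H) :
    Subgroup.normalizer (Y : Set G) ≤ H := by
  obtain ⟨h, hh, hle⟩ := exists_cj_le_sylow H P Y hY hYH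
  have h1 := NC _ hle (cj_ne_bot _ hY1)
  intro n hn
  have h2 := h1 (conj_mem_normalizer_cj h⁻¹ hn)
  rw [inv_inv] at h2
  have : n = h * (h⁻¹ * n * h) * h⁻¹ := by group
  rw [this]
  exact H.mul_mem (H.mul_mem hh h2) (H.inv_mem hh)

/-- Claim B. -/
theorem mem_of_cj_le (H : Subgroup G) (P : Sylow 2 ↥H)
    (NC : ∀ X' : Subgroup G, X' ≤ (P : Subgroup ↥H).map H.subtype → X' ≠ ⊥ →
      Subgroup.normalizer (X' : Set G) ≤ H)
    (hP1 : (P : Subgroup ↥H) ≠ ⊥) (g : G) :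
    ∀ n : ℕ, ∀ Y : Subgroup G, Nat.card G - Nat.card Y = n → IsPGroup 2 Y → Y ≠ ⊥ → Y ≤ H →
      cj g⁻¹ Y ≤ H → g ∈ H := by
  have : Fact (Nat.Prime 2) := ⟨Nat.prime_two⟩
  set P' := (P : Subgroup ↥H).map H.subtype with hP'
  have hP'H : P' ≤ H := by
    rintro _ ⟨x, -, rfl⟩; exact x.2
  have hP'2 : IsPGroup 2 P' := P.2.map _
  have hP'1 : P' ≠ ⊥ := by
    intro h
    apply hP1
    rw [eq_bot_iff]
    intro x hx
    have : (x : G) ∈ P' := ⟨x, hx, rfl⟩
    rw [h, Subgroup.mem_bot] at this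
    rw [Subgroup.mem_bot]
    exact Subtype.ext this
  intro n
  induction n using Nat.strong_induction_on with
  | _ n ih =>
    intro Y hn hY hY1 hYH hgY
    obtain ⟨h, hh, hle⟩ := exists_cj_le_sylow H P Y hY hYH
    set S := cj h P' with hS
    have hYS : Y ≤ S := by
      have := cj_mono h hle
      rwa [cj_cj, mul_inv_cancel, cj_one] at this
    have hSH : S ≤ H := cj_le_of_mem hh hP'H
    have hS2 : IsPGroup 2 S := isPGroup_cj h hP'2
    by_cases hYeq : Y = S
    · -- base case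
      set Z := cj g⁻¹ Y with hZ
      have hZ2 : IsPGroup 2 Z := isPGroup_cj _ hY
      obtain ⟨h', hh', hle'⟩ := exists_cj_le_sylow H P Z hZ2 hgY
      have hcard : Nat.card P' ≤ Nat.card (cj h'⁻¹ Z) := by
        rw [card_cj, hZ, card_cj, hYeq, hS, card_cj]
      have heq := Subgroup.eq_of_le_of_card_ge hle' hcard
      rw [hZ, hYeq, hS, cj_cj, cj_cj] at heq
      have ha := mem_normalizer_of_cj_eq heq
      have haH := NC P' le_rfl hP'1 ha
      -- g⁻¹ = h' * a * h⁻¹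
      have : g⁻¹ = h' * (h'⁻¹ * g⁻¹ * h) * h⁻¹ := by group
      have hg' : g⁻¹ ∈ H := by
        rw [this]
        exact H.mul_mem (H.mul_mem hh' haH) (H.inv_mem hh)
      exact (H.inv_mem_iff).mp hg'
    · -- inductive step
      obtain ⟨s, hsS, hsY, hsN⟩ := exists_normalizing_of_lt S Y hS2 hYS hYeq
      set Y₁ := S ⊓ Subgroup.normalizer (Y : Set G) with hY₁
      have hYY₁ : Y ≤ Y₁ := le_inf hYS Subgroup.le_normalizer
      have hsY₁ : s ∈ Y₁ := ⟨hsS, hsN⟩
      have hlt := card_lt_of_le_of_mem hYY₁ hsY₁ hsY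
      have hY₁2 : IsPGroup 2 Y₁ := hS2.to_le inf_le_left
      have hY₁1 : Y₁ ≠ ⊥ := by
        intro hb
        apply hY1
        rw [eq_bot_iff, ← hb]; exact hYY₁
      have hY₁H : Y₁ ≤ H := le_trans inf_le_left hSH
      have hA := normalizer_le_of_NC H P NC (cj g⁻¹ Y) (isPGroup_cj _ hY) (cj_ne_bot _ hY1) hgY
      have hgY₁ : cj g⁻¹ Y₁ ≤ H := by
        intro x hx
        rw [mem_cj] at hx
        have h1 := conj_mem_normalizer_cj g⁻¹ hx.2
        have h2 : g⁻¹ * (g⁻¹⁻¹ * x * g⁻¹) * g⁻¹⁻¹ = x := by group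
        rw [h2] at h1
        exact hA h1
      have hle1 : Nat.card Y₁ ≤ Nat.card G := Subgroup.card_le_card_group Y₁
      exact ih (Nat.card G - Nat.card Y₁) (by omega) Y₁ rfl hY₁2 hY₁1 hY₁H hgY₁

end

/-- Let H be a proper subgroup of the finite group G and P a nontrivial Sylow 2-subgroup of H. Then H is strongly embedded in G if and only if N_G(X) ≤ H for every nontrivial subgroup X of P. -/
theorem result {G : Type*} [Group G] [Finite G] (H : Subgroup G) (hH : H ≠ ⊤) (P : Sylow 2 ↥H) (hP : (P : Subgroup ↥H) ≠ ⊥) : Cfsg.IsStronglyEmbedded H ↔ (∀ X : Subgroup ↥H, X ≤ (P : Subgroup ↥H) → X ≠ ⊥ → Subgroup.normalizer ((X.map H.subtype : Subgroup G) : Set G) ≤ H) := by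
  classical
  have : Fact (Nat.Prime 2) := ⟨Nat.prime_two⟩
  rw [stronglyEmbedded_iff]
  constructor
  · rintro ⟨-, -, hse⟩ X hXP hX1 g hg
    have hX2 : IsPGroup 2 X := P.2.to_le hXP
    obtain ⟨k, hk⟩ := IsPGroup.iff_card.mp hX2
    have hk0 : k ≠ 0 := by
      rintro rfl
      rw [pow_zero, Subgroup.card_eq_one] at hk
      exact hX1 hk
    have hdvd : 2 ∣ Nat.card X := by
      rw [hk]; exact dvd_pow_self 2 hk0
    obtain ⟨x, hx⟩ := exists_prime_orderOf_dvd_card' (G := X) 2 hdvd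
    apply hse
    refine ⟨((x : ↥H) : G), (x : ↥H).2, ?_, ?_⟩
    · rw [Subgroup.orderOf_coe, Subgroup.orderOf_coe, hx]
    · have hmem : ((x : ↥H) : G) ∈ X.map H.subtype := ⟨x.1, x.2, rfl⟩
      rw [Subgroup.mem_normalizer_iff] at hg
      have h1 := (hg (g⁻¹ * ((x : ↥H) : G) * g)).mpr (by
        have : g * (g⁻¹ * ((x : ↥H) : G) * g) * g⁻¹ = ((x : ↥H) : G) := by group
        rw [this]; exact hmem)
      obtain ⟨y, -, hy⟩ := h1
      rw [← hy]; exact y.2
  · intro NC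
    set P' := (P : Subgroup ↥H).map H.subtype with hP'
    have hP'H : P' ≤ H := by
      rintro _ ⟨x, -, rfl⟩; exact x.2
    have NC' : ∀ X' : Subgroup G, X' ≤ P' → X' ≠ ⊥ → Subgroup.normalizer (X' : Set G) ≤ H := by
      intro X' hX' hX'1
      have hmap : (X'.subgroupOf H).map H.subtype = X' := by
        rw [Subgroup.subgroupOf_map_subtype, inf_eq_left]
        exact le_trans hX' hP'H
      have h1 := NC (X'.subgroupOf H) (by
        intro x hx
        have := hX' (Subgroup.mem_subgroupOf.mp hx)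
        obtain ⟨p, hp, hpx⟩ := this
        have : p = x := Subtype.ext hpx
        rw [← this]; exact hp) (by
        intro hb
        apply hX'1
        rw [← hmap, hb, Subgroup.map_bot])
      rw [hmap] at h1
      exact h1
    refine ⟨hH, ?_, ?_⟩
    · -- even order
      obtain ⟨k, hk⟩ := IsPGroup.iff_card.mp P.2
      have hk0 : k ≠ 0 := by
        rintro rfl
        rw [pow_zero, Subgroup.card_eq_one] at hk
        exact hP hk
      have hdvd : 2 ∣ Nat.card (P : Subgroup ↥H) := by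
        rw [hk]; exact dvd_pow_self 2 hk0
      exact even_iff_two_dvd.mpr (dvd_trans hdvd (Subgroup.card_subgroup_dvd_card _))
    · rintro g ⟨t, htH, ht2, htg⟩
      have hY2 : IsPGroup 2 (Subgroup.zpowers t) := by
        rw [IsPGroup.iff_card]
        exact ⟨1, by rw [Nat.card_zpowers, ht2, pow_one]⟩
      have hY1 : Subgroup.zpowers t ≠ ⊥ := by
        intro h
        rw [Subgroup.zpowers_eq_bot] at h
        rw [h, orderOf_one] at ht2; omega
      have hYH : Subgroup.zpowers t ≤ H := Subgroup.zpowers_le.mpr htH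
      have hgY : cj g⁻¹ (Subgroup.zpowers t) ≤ H := by
        intro x hx
        rw [mem_cj, inv_inv] at hx
        obtain ⟨k, hk⟩ := Subgroup.mem_zpowers_iff.mp hx
        have : x = (g⁻¹ * t * g) ^ k := by
          have h1 : g⁻¹ * t * g = g⁻¹ * t * g⁻¹⁻¹ := by rw [inv_inv]
          rw [h1, conj_zpow, hk]; group
        rw [this]
        exact H.zpow_mem htg k
      exact mem_of_cj_le H P NC' hP g _ _ rfl hY2 hY1 hYH hgY

end Cfsg.Agent.S0214
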