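import Mathlib
import Cfsg.Statements.S0216
import Cfsg.Agent.Lib.Helper1.Isolated

set_option autoImplicit false
open Cfsg
open Cfsg.Agent.Lib.Helper1

namespace Cfsg.Agent.S0216

/-- For an involution u in a Sylow 2-subgroup P of a finite group G, the following are equivalent: no G-conjugate of u other than u lies in P; every commutator of u with an element of G has odd order. -/
theorem result {G : Type*} [Group G] [Finite G] (P : Sylow 2 G) (u : G) (hu : orderOf u = 2) (huP : u ∈ P) : (∀ g : G, g * u * g⁻¹ ∈ P → g * u * g⁻¹ = u) ↔ (∀ g : G, Odd (orderOf (u * g * u⁻¹ * g⁻¹))) := by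
  have hu2 := mul_self_of_orderOf_two hu
  have hui := inv_eq_self_of_mul_self hu2
  constructor
  · intro hiso g
    set v := g * u * g⁻¹ with hv
    have hvo : orderOf v = 2 := by
      have := MulEquiv.orderOf_eq (MulAut.conj g) u
      rw [MulAut.conj_apply] at this
      rw [hv, this]; exact hu
    have hv2 := mul_self_of_orderOf_two hvo
    have hcomm : u * g * u⁻¹ * g⁻¹ = u * v := by rw [hv, hui]; group
    rw [hcomm]
    by_contra hodd
    rw [Nat.not_odd_iff_even] at hodd
    obtain ⟨m, hm⟩ := hodd
    have hpos : 0 < orderOf (u * v) := orderOf_pos _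
    obtain ⟨hc, hne, he, ho⟩ := invpair_half_conj hu2 hv2 m hm (by omega)
    rcases Nat.even_or_odd m with hme | hmo
    · obtain ⟨d, -, hd⟩ := he hme
      rw [← hd] at hc hne
      exact hne (isolated_commute P hu hiso d hc)
    · obtain ⟨d, -, hd⟩ := ho hmo
      have hd' : (d * g) * u * (d * g)⁻¹ = (u * v) ^ m * u := by
        rw [← hd, hv]; group
      rw [← hd'] at hc hne
      exact hne (isolated_commute P hu hiso (d * g) hc)
  · intro hodd g hg
    have h1 := hodd g
    have hcomm : u * g * u⁻¹ * g⁻¹ = u * (g * u * g⁻¹)⁻¹ := by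
      rw [mul_inv_rev, mul_inv_rev, inv_inv]; simp only [mul_assoc]
    rw [hcomm] at h1
    have hmem : u * (g * u * g⁻¹)⁻¹ ∈ (P : Subgroup G) :=
      Subgroup.mul_mem _ huP (Subgroup.inv_mem _ hg)
    obtain ⟨k, hk⟩ := (IsPGroup.iff_orderOf.mp P.isPGroup') ⟨_, hmem⟩
    rw [Subgroup.orderOf_mk] at hk
    rw [hk] at h1
    have hk0 : k = 0 := by
      rcases k with _ | k
      · rfl
      · exfalso; rw [pow_succ] at h1; exact absurd h1 (by simp)
    rw [hk0, pow_zero, orderOf_eq_one_iff] at hk
    have := eq_of_mul_inv_eq_one hk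
    exact this.symm

end Cfsg.Agent.S0216
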