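import Cfsg.Statements.S0221
import Cfsg.Agent.Lib.Helper1.ElemEight
import Cfsg.Agent.Lib.Helper1.Conj
import Cfsg.Agent.Lib.Lead.ThompsonTransfer

set_option autoImplicit false
open Cfsg

namespace Cfsg.Agent.S0221

open Cfsg.Agent.Lib.Helper1 Cfsg.Agent.Lib.Lead

/-- Let G be a finite group with no subgroup of index 2 whose 2-rank is at least 3 (it contains an elementary abelian subgroup of order 8). Then the centralizer of every involution of G also contains an elementary abelian subgroup of order 8. -/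
theorem result {G : Type*} [Group G] [Finite G] (hno : ∀ H : Subgroup G, H.index ≠ 2) (hrank : ∃ E : Subgroup G, Nat.card E = 8 ∧ ∀ e ∈ E, e ^ 2 = 1) (x : G) (hx : orderOf x = 2) : ∃ E : Subgroup G, E ≤ Subgroup.centralizer ({x} : Set G) ∧ Nat.card E = 8 ∧ ∀ e ∈ E, e ^ 2 = 1 := by
  classical
  haveI : Fact (Nat.Prime 2) := ⟨Nat.prime_two⟩
  obtain ⟨E, hE8, hEe⟩ := hrank
  have hx2 : x ^ 2 = 1 := by rw [← hx]; exact pow_orderOf_eq_one x
  have hxp : IsPGroup 2 (Subgroup.zpowers x) := by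
    apply IsPGroup.of_card (n := 1)
    rw [Nat.card_zpowers, hx, pow_one]
  obtain ⟨P, hP⟩ := hxp.exists_le_sylow
  have hxP : x ∈ (P : Subgroup G) := hP (Subgroup.mem_zpowers x)
  have hEp : IsPGroup 2 E := IsPGroup.of_card (n := 3) (by rw [hE8]; norm_num)
  obtain ⟨h, hh⟩ := exists_cj_le_sylow_top P E hEp
  set E₁ := cj h⁻¹ E with hE₁
  have hE₁8 : Nat.card E₁ = 8 := by rw [hE₁, card_cj, hE8]
  have hE₁e : ∀ e ∈ E₁, e ^ 2 = 1 := by
    intro e he
    rw [hE₁, mem_cj] at he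
    have h1 := hEe _ he
    have h2 : (h⁻¹⁻¹ * e * h⁻¹) ^ 2 = h⁻¹⁻¹ * e ^ 2 * h⁻¹ := by
      rw [pow_two, pow_two]; group
    rw [h2] at h1
    have h3 : e ^ 2 = h⁻¹ * (h⁻¹⁻¹ * e ^ 2 * h⁻¹) * h := by group
    rw [h3, h1]; group
  have hS : IsPGroup 2 ↥(P : Subgroup G) := P.isPGroup'
  set E' : Subgroup ↥(P : Subgroup G) := E₁.subgroupOf (P : Subgroup G) with hE'
  have hE'8 : Nat.card E' = 8 := by
    rw [← hE₁8]
    exact Nat.card_congr (Subgroup.subgroupOfEquivOfLe hh).toEquiv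
  have hE'e : ∀ e ∈ E', e ^ 2 = 1 := by
    intro e he
    apply Subtype.ext
    have := hE₁e (e : G) (Subgroup.mem_subgroupOf.mp he)
    simpa using this
  obtain ⟨V, hVn, hV4, hVe⟩ := exists_normal_four_of_rank_three hS E' hE'e (by omega)
  haveI := hVn
  set C := Subgroup.centralizer (V : Set ↥(P : Subgroup G)) with hC
  set Q := C.map (P : Subgroup G).subtype with hQ
  have hidx : C.index = 1 ∨ C.index = 2 := by
    have h1 := card_le_card_centralizer_mul_of_sq hS V (by rw [hV4]; norm_num)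
    have h2 := C.card_mul_index
    rw [← h2] at h1
    have h3 : 0 < Nat.card C := Nat.card_pos
    have h4 : C.index ≤ 2 := Nat.le_of_mul_le_mul_left h1 h3
    have h5 : C.index ≠ 0 := Subgroup.index_ne_zero_of_finite
    omega
  have hex : ∃ g : G, g * x * g⁻¹ ∈ Q := by
    rcases hidx with h1 | h2
    · refine ⟨1, ?_⟩
      rw [Subgroup.index_eq_one] at h1
      refine ⟨⟨x, hxP⟩, ?_, ?_⟩
      · rw [h1]; exact Subgroup.mem_top _
      · simp
    · by_contra hno'
      push Not at hno'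
      have hrel : Q.relIndex (P : Subgroup G) = 2 := by
        rw [hQ]
        show ((C.map (P : Subgroup G).subtype).subgroupOf (P : Subgroup G)).index = 2
        rw [Subgroup.subgroupOf,
          Subgroup.comap_map_eq_self_of_injective (Subgroup.subtype_injective _)]
        exact h2
      obtain ⟨M, -, hM, -⟩ := thompson_transfer P Q hrel x hx hno'
      exact hno M hM
  obtain ⟨g, hg⟩ := hex
  obtain ⟨y', hy'C, hy'⟩ := hg
  have hy'2 : y' ^ 2 = 1 := by
    apply Subtype.ext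
    have h1 : ((y' ^ 2 : ↥(P : Subgroup G)) : G) = (g * x * g⁻¹) ^ 2 := by
      rw [← hy']; simp
    rw [h1, conj_pow, hx2]
    simp
  obtain ⟨F, hF8, hFe, hFc⟩ := exists_eight_centralizing hS V hV4 hVe E' hE'8 hE'e y' hy'C hy'2
  refine ⟨cj g⁻¹ (F.map (P : Subgroup G).subtype), ?_, ?_, ?_⟩
  · intro e he
    rw [mem_cj] at he
    obtain ⟨f, hf, hfe⟩ := he
    rw [Subgroup.mem_centralizer_iff]
    intro z hz
    rw [Set.mem_singleton_iff] at hz
    subst hz
    have h1 := (Subgroup.mem_centralizer_iff.mp (hFc hf)) y' rfl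
    have h2 := congrArg (Subgroup.subtype (P : Subgroup G)) h1
    rw [map_mul, map_mul, hy', hfe] at h2
    have h3 : z * e = g⁻¹ * (g * z * g⁻¹ * (g⁻¹⁻¹ * e * g⁻¹)) * g := by group
    rw [h3, h2]; group
  · rw [card_cj, Subgroup.card_map_of_injective (Subgroup.subtype_injective _), hF8]
  · intro e he
    rw [mem_cj] at he
    obtain ⟨f, hf, hfe⟩ := he
    have h1 := hFe f hf
    have h2 := congrArg (Subgroup.subtype (P : Subgroup G)) h1
    rw [map_pow, hfe, map_one] at h2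
    have h3 : (g⁻¹⁻¹ * e * g⁻¹) ^ 2 = g⁻¹⁻¹ * e ^ 2 * g⁻¹ := by
      rw [pow_two, pow_two]; group
    rw [h3] at h2
    have h4 : e ^ 2 = g⁻¹ * (g⁻¹⁻¹ * e ^ 2 * g⁻¹) * g := by group
    rw [h4, h2]; group

end Cfsg.Agent.S0221
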