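import Mathlib
import Cfsg.Statements.S0223
import Cfsg.Agent.Lib.Helper1.StrEmb

set_option autoImplicit false
open Cfsg
open Cfsg.Agent.Lib.Helper1

namespace Cfsg.Agent.S0223

/-- Let H be a proper subgroup of even order of the finite group G. Then H is strongly embedded if and only if (i) C_G(t) ≤ H for every involution t of H and (ii) H controls fusion of its involutions: involutions of H conjugate in G are conjugate in H. -/
theorem result {G : Type*} [Group G] [Finite G] (H : Subgroup G) (hH : H ≠ ⊤) (heven : Even (Nat.card H)) : Cfsg.IsStronglyEmbedded H ↔ ((∀ t ∈ H, orderOf t = 2 → Subgroup.centralizer ({t} : Set G) ≤ H) ∧ (∀ t ∈ H, ∀ s ∈ H, orderOf t = 2 → orderOf s = 2 → IsConj t s → ∃ h ∈ H, h * t * h⁻¹ = s)) := by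
  rw [stronglyEmbedded_iff]
  constructor
  · rintro ⟨-, -, h⟩
    constructor
    · intro t ht hto c hc
      apply h
      refine ⟨t, ht, hto, ?_⟩
      have hc' := Subgroup.mem_centralizer_singleton_iff.mp hc
      have : c⁻¹ * t * c = t := by
        rw [mul_assoc, ← hc', inv_mul_cancel_left]
      rw [this]; exact ht
    · intro t ht s hs hto hso hconj
      obtain ⟨g, hg⟩ := isConj_iff.mp hconj
      refine ⟨g, ?_, hg⟩
      apply h
      refine ⟨s, hs, hso, ?_⟩
      rw [← hg]
      have : g⁻¹ * (g * t * g⁻¹) * g = t := by group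
      rw [this]; exact ht
  · rintro ⟨h1, h2⟩
    refine ⟨hH, heven, ?_⟩
    rintro g ⟨t, ht, hto, htg⟩
    -- s = g⁻¹ t g ∈ H is an involution conjugate to t
    have hso : orderOf (g⁻¹ * t * g) = 2 := by
      have := MulEquiv.orderOf_eq (MulAut.conj g⁻¹) t
      rw [MulAut.conj_apply, inv_inv] at this
      rw [this]; exact hto
    have hconj : IsConj t (g⁻¹ * t * g) := by
      rw [isConj_iff]; exact ⟨g⁻¹, by rw [inv_inv]⟩
    obtain ⟨h, hh, hht⟩ := h2 t ht _ htg hto hso hconj
    -- g * h centralizes t
    have hc : g * h ∈ Subgroup.centralizer ({t} : Set G) := by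
      rw [Subgroup.mem_centralizer_singleton_iff]
      calc g * h * t = g * (h * t * h⁻¹) * h := by group
        _ = g * (g⁻¹ * t * g) * h := by rw [hht]
        _ = t * (g * h) := by group
    have := h1 t ht hto hc
    have := H.mul_mem this (H.inv_mem hh)
    simpa using this

end Cfsg.Agent.S0223
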