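import Mathlib
import Cfsg.Statements.S0224
import Cfsg.Agent.Lib.Helper1.StrEmb

set_option autoImplicit false
open Cfsg
open Cfsg.Agent.Lib.Helper1

namespace Cfsg.Agent.S0224

theorem smul_coset_eq_iff {G : Type*} [Group G] (H : Subgroup G) (t g : G) :
    t • (g : G ⧸ H) = (g : G ⧸ H) ↔ g⁻¹ * t * g ∈ H := by
  rw [MulAction.Quotient.smul_coe, eq_comm, QuotientGroup.eq, smul_eq_mul, mul_assoc]

/-- Let H be a proper subgroup of even order of the finite group G. Then H is strongly embedded if and only if each involution of H fixes exactly one point (namely the coset H) in the action of G on the cosets of H. -/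
theorem result {G : Type*} [Group G] [Finite G] (H : Subgroup G) (hH : H ≠ ⊤) (heven : Even (Nat.card H)) : Cfsg.IsStronglyEmbedded H ↔ ∀ t ∈ H, orderOf t = 2 → Nat.card {c : G ⧸ H // t • c = c} = 1 := by
  rw [stronglyEmbedded_iff]
  constructor
  · rintro ⟨-, -, h⟩ t ht hto
    rw [Nat.card_eq_one_iff_unique]
    constructor
    · constructor
      rintro ⟨c, hc⟩ ⟨d, hd⟩
      apply Subtype.ext
      simp only
      induction c using QuotientGroup.induction_on with
      | H a =>
        induction d using QuotientGroup.induction_on with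
        | H b =>
          rw [smul_coset_eq_iff] at hc hd
          have ha := h a ⟨t, ht, hto, hc⟩
          have hb := h b ⟨t, ht, hto, hd⟩
          rw [QuotientGroup.eq]
          exact H.mul_mem (H.inv_mem ha) hb
    · refine ⟨⟨((1 : G) : G ⧸ H), ?_⟩⟩
      rw [smul_coset_eq_iff]
      simpa using ht
  · intro h
    refine ⟨hH, heven, ?_⟩
    rintro g ⟨t, ht, hto, htg⟩
    have h1 := h t ht hto
    rw [Nat.card_eq_one_iff_unique] at h1
    obtain ⟨hsub, -⟩ := h1
    have e1 : t • ((1 : G) : G ⧸ H) = ((1 : G) : G ⧸ H) := by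
      rw [smul_coset_eq_iff]; simpa using ht
    have e2 : t • ((g : G) : G ⧸ H) = ((g : G) : G ⧸ H) := by
      rw [smul_coset_eq_iff]; exact htg
    have := hsub.elim ⟨_, e1⟩ ⟨_, e2⟩
    have := congrArg Subtype.val this
    simp only at this
    rw [QuotientGroup.eq] at this
    simpa using this

end Cfsg.Agent.S0224
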