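import Mathlib
import Cfsg.Statements.S0226

set_option autoImplicit false
open Cfsg

namespace Cfsg.Agent.S0226

/-- A finite group of even order has an odd number of involutions. -/
theorem result {G : Type*} [Group G] [Finite G] (heven : Even (Nat.card G)) : Odd (Nat.card {t : G // orderOf t = 2}) := by
  classical
  have := Fintype.ofFinite G
  let f : Function.End G := fun g => g⁻¹
  have hf : f ^ 2 ^ 1 = 1 := by
    rw [pow_one, pow_two]
    funext g
    show f (f g) = g
    simp [f]
  have h := Equiv.Perm.card_fixedPoints_modEq (p := 2) (n := 1) hf
  have h1 : Fintype.card (Function.fixedPoints f) = Nat.card {t : G // orderOf t = 2} + 1 := by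
    rw [Nat.card_eq_fintype_card, Fintype.card_subtype, Fintype.card_subtype]
    have : (Finset.univ.filter fun x : G => x ∈ Function.fixedPoints f) =
        insert 1 (Finset.univ.filter fun x : G => orderOf x = 2) := by
      ext x
      simp only [Finset.mem_filter, Finset.mem_univ, true_and, Finset.mem_insert,
        Function.mem_fixedPoints, Function.IsFixedPt, f]
      rw [orderOf_eq_prime_iff (p := 2), inv_eq_iff_eq_inv, eq_inv_iff_mul_eq_one, pow_two]
      by_cases hx : x = 1
      · simp [hx]
      · simp [hx]
    rw [this, Finset.card_insert_of_notMem]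
    simp
  rw [h1, ← Nat.card_eq_fintype_card] at h
  have h2 : (Nat.card {t : G // orderOf t = 2} + 1) % 2 = 0 := by
    rw [← h, ← Nat.even_iff]; exact heven
  rw [Nat.odd_iff]
  omega

end Cfsg.Agent.S0226
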