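import Mathlib
import Cfsg.Statements.S0229
import Cfsg.Agent.Lib.Helper1.Isolated

set_option autoImplicit false
open Cfsg
open Cfsg.Agent.Lib.Helper1

namespace Cfsg.Agent.S0229

/-- Let t be an involution of a Sylow 2-subgroup S of a finite group G, conjugate in G to no other element of S, and let s be an involution of G not conjugate to t. Then the order of st is twice an odd number. -/
theorem result {G : Type*} [Group G] [Finite G] (S : Sylow 2 G) (t : G) (ht : orderOf t = 2) (htS : t ∈ S) (hiso : ∀ g : G, g * t * g⁻¹ ∈ S → g * t * g⁻¹ = t) (s : G) (hs : orderOf s = 2) (hns : ¬ IsConj s t) : orderOf (s * t) % 4 = 2 := by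
  have ht2 := mul_self_of_orderOf_two ht
  have hs2 := mul_self_of_orderOf_two hs
  have horder : orderOf (s * t) = orderOf (t * s) := by
    have h : SemiconjBy t (s * t) (t * s) := by
      show t * (s * t) = t * s * t
      rw [mul_assoc]
    exact h.orderOf_eq
  rw [horder]
  rcases Nat.even_or_odd (orderOf (t * s)) with heven | hodd
  · obtain ⟨m, hm⟩ := heven
    have hpos : 0 < orderOf (t * s) := orderOf_pos _
    obtain ⟨hc, hne, he, -⟩ := invpair_half_conj ht2 hs2 m hm (by omega)
    rcases Nat.even_or_odd m with hme | hmo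
    · exfalso
      obtain ⟨d, -, hd⟩ := he hme
      rw [← hd] at hc hne
      exact hne (isolated_commute S ht hiso d hc)
    · obtain ⟨k, hk⟩ := hmo
      omega
  · exfalso
    -- t and s are conjugate
    obtain ⟨m, hm⟩ := hodd
    apply hns
    rw [isConj_comm, isConj_iff]
    refine ⟨(t * s) ^ (m : ℤ), ?_⟩
    rw [invpair_zpow_conj_x ht2 hs2]
    have h1 : (t * s) ^ (2 * (m : ℤ) + 1) = 1 := by
      have : (2 * (m : ℤ) + 1) = ((orderOf (t * s) : ℕ) : ℤ) := by rw [hm]; push_cast; ring
      rw [this, zpow_natCast, pow_orderOf_eq_one]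
    have h2 : (t * s) ^ (2 * (m : ℤ)) = (t * s)⁻¹ := by
      rw [zpow_add, zpow_one] at h1
      exact eq_inv_of_mul_eq_one_left h1
    rw [h2, mul_inv_rev, inv_mul_cancel_right, inv_eq_self_of_mul_self hs2]

end Cfsg.Agent.S0229
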