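import Mathlib
import Cfsg.Statements.S0230
import Cfsg.Agent.Lib.Helper1.InvPair
import Cfsg.Agent.Lib.Helper1.ConjCount

set_option autoImplicit false
set_option linter.style.haveILetI false
open Cfsg
open Cfsg.Agent.Lib.Helper1

namespace Cfsg.Agent.S0230

/-- Let G be a finite group with two non-conjugate involutions, and let t be an involution whose centralizer has maximal order among centralizers of involutions. Then |G| < |C_G(t)|^3. -/
theorem result {G : Type*} [Group G] [Finite G] (s t : G) (hs : orderOf s = 2) (ht : orderOf t = 2) (hnc : ¬ IsConj s t) (hmax : ∀ u : G, orderOf u = 2 → Nat.card (Subgroup.centralizer ({u} : Set G)) ≤ Nat.card (Subgroup.centralizer ({t} : Set G))) : Nat.card G < Nat.card (Subgroup.centralizer ({t} : Set G)) ^ 3 := by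
  classical
  haveI := Fintype.ofFinite G
  have hs2 := mul_self_of_orderOf_two hs
  set m := Nat.card (Subgroup.centralizer ({t} : Set G)) with hm
  -- cardinality of a centralizer as a finset
  have hcardC : ∀ z : G, (Finset.univ.filter (fun v : G => v ∈ Subgroup.centralizer ({z} : Set G))).card
      = Nat.card (Subgroup.centralizer ({z} : Set G)) := by
    intro z
    rw [Nat.card_eq_fintype_card, Fintype.card_subtype]
  let Cz : G → Finset G := fun z =>
    (Finset.univ.filter (fun v : G => v ∈ Subgroup.centralizer ({z} : Set G))).erase 1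
  have hCz : ∀ z : G, (Cz z).card = Nat.card (Subgroup.centralizer ({z} : Set G)) - 1 := by
    intro z
    simp only [Cz]
    rw [Finset.card_erase_of_mem, hcardC]
    simp only [Finset.mem_filter, Finset.mem_univ, true_and]
    exact Subgroup.one_mem _
  let Af : Finset G := Finset.univ.filter (fun v : G => IsConj t v)
  let Bf : Finset G := Finset.univ.filter (fun z : G => orderOf z = 2 ∧ Commute z s)
  have hAcard : Af.card = Nat.card {v : G // IsConj t v} := by
    rw [Nat.card_eq_fintype_card, Fintype.card_subtype]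
  -- Bf ⊆ Cz s
  have hB : Bf ⊆ Cz s := by
    intro z hz
    simp only [Bf, Finset.mem_filter, Finset.mem_univ, true_and] at hz
    simp only [Cz, Finset.mem_erase, Finset.mem_filter, Finset.mem_univ, true_and]
    exact ⟨ne_one_of_orderOf_two hz.1, Subgroup.mem_centralizer_singleton_iff.mpr hz.2.eq⟩
  have hBcard : Bf.card ≤ m - 1 := by
    calc Bf.card ≤ (Cz s).card := Finset.card_le_card hB
      _ = Nat.card (Subgroup.centralizer ({s} : Set G)) - 1 := hCz s
      _ ≤ m - 1 := Nat.sub_le_sub_right (hmax s hs) 1
  -- Af ⊆ ⋃ z ∈ Bf, Cz z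
  have hA : Af ⊆ Bf.biUnion Cz := by
    intro v hv
    simp only [Af, Finset.mem_filter, Finset.mem_univ, true_and] at hv
    have hvo : orderOf v = 2 := by
      obtain ⟨g, hg⟩ := isConj_iff.mp hv
      have := MulEquiv.orderOf_eq (MulAut.conj g) t
      rw [MulAut.conj_apply, hg] at this
      rw [this]; exact ht
    have hv2 := mul_self_of_orderOf_two hvo
    -- s * v has even order
    have heven : Even (orderOf (s * v)) := by
      by_contra hodd
      rw [Nat.not_even_iff_odd] at hodd
      obtain ⟨k, hk⟩ := hodd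
      apply hnc
      -- s conjugate to v
      have hsv : IsConj s v := by
        rw [isConj_iff]
        refine ⟨(s * v) ^ (k : ℤ), ?_⟩
        rw [invpair_zpow_conj_x hs2 hv2]
        have h1 : (s * v) ^ (2 * (k : ℤ) + 1) = 1 := by
          have : (2 * (k : ℤ) + 1) = ((orderOf (s * v) : ℕ) : ℤ) := by rw [hk]; push_cast; ring
          rw [this, zpow_natCast, pow_orderOf_eq_one]
        have h2 : (s * v) ^ (2 * (k : ℤ)) = (s * v)⁻¹ := by
          rw [zpow_add, zpow_one] at h1
          exact eq_inv_of_mul_eq_one_left h1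
        rw [h2, mul_inv_rev, inv_mul_cancel_right, inv_eq_self_of_mul_self hv2]
      exact hsv.trans hv.symm
    obtain ⟨k, hk⟩ := heven
    have hpos : 0 < orderOf (s * v) := orderOf_pos _
    obtain ⟨hzo, hzs, hzv⟩ := invpair_half_pow hs2 hv2 k hk (by omega)
    rw [Finset.mem_biUnion]
    refine ⟨(s * v) ^ k, ?_, ?_⟩
    · simp only [Bf, Finset.mem_filter, Finset.mem_univ, true_and]
      exact ⟨hzo, hzs⟩
    · simp only [Cz, Finset.mem_erase, Finset.mem_filter, Finset.mem_univ, true_and]
      exact ⟨ne_one_of_orderOf_two hvo, Subgroup.mem_centralizer_singleton_iff.mpr hzv.symm.eq⟩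
  have hAle : Af.card ≤ (m - 1) * (m - 1) := by
    calc Af.card ≤ (Bf.biUnion Cz).card := Finset.card_le_card hA
      _ ≤ ∑ z ∈ Bf, (Cz z).card := Finset.card_biUnion_le
      _ ≤ ∑ _z ∈ Bf, (m - 1) := by
          apply Finset.sum_le_sum
          intro z hz
          simp only [Bf, Finset.mem_filter, Finset.mem_univ, true_and] at hz
          rw [hCz z]
          exact Nat.sub_le_sub_right (hmax z hz.1) 1
      _ = Bf.card * (m - 1) := by rw [Finset.sum_const, smul_eq_mul]
      _ ≤ (m - 1) * (m - 1) := Nat.mul_le_mul_right _ hBcard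
  have hclass := card_isConj_mul_card_centralizer t
  rw [← hAcard, ← hm] at hclass
  have hmpos : 0 < m := Nat.card_pos
  rw [← hclass]
  have h1 : Af.card * m ≤ (m - 1) * (m - 1) * m := Nat.mul_le_mul_right _ hAle
  have h2 : ∀ n : ℕ, 0 < n → (n - 1) * (n - 1) * n < n ^ 3 := by
    intro n hn
    obtain ⟨j, rfl⟩ : ∃ j, n = j + 1 := ⟨n - 1, by omega⟩
    simp only [Nat.add_sub_cancel]
    nlinarith
  have h2' := h2 m hmpos
  omega

end Cfsg.Agent.S0230
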