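import Mathlib
import Cfsg.Statements.S0231
import Cfsg.Agent.Lib.Helper1.Isolated

set_option autoImplicit false
set_option linter.style.haveILetI false
open Cfsg
open Cfsg.Agent.Lib.Helper1
open scoped Pointwise

namespace Cfsg.Agent.S0231

section
variable {G : Type*} [Group G] [Finite G]

theorem mem_conj_smul (g x : G) (H : Subgroup G) :
    x ∈ MulAut.conj g • H ↔ g⁻¹ * x * g ∈ H := by
  rw [Subgroup.mem_pointwise_smul_iff_inv_smul_mem, MulAut.smul_def, ← map_inv,
    MulAut.conj_apply, inv_inv]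

/-- The trivial-intersection property for every pair of Sylow 2-subgroups. -/
theorem ti_all (T : Sylow 2 G)
    (hTI : ∀ g : G, MulAut.conj g • (T : Subgroup G) ≠ T → MulAut.conj g • (T : Subgroup G) ⊓ T = ⊥)
    (P Q : Sylow 2 G) (hPQ : P ≠ Q) : (P : Subgroup G) ⊓ Q = ⊥ := by
  haveI : Fact (Nat.Prime 2) := ⟨Nat.prime_two⟩
  obtain ⟨a, rfl⟩ := MulAction.exists_smul_eq G T P
  obtain ⟨b, rfl⟩ := MulAction.exists_smul_eq G T Q
  rw [eq_bot_iff]
  intro x hx
  rw [Subgroup.mem_inf] at hx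
  obtain ⟨hxa, hxb⟩ := hx
  have hxa' : x ∈ MulAut.conj a • (T : Subgroup G) := hxa
  have hxb' : x ∈ MulAut.conj b • (T : Subgroup G) := hxb
  rw [mem_conj_smul] at hxa' hxb'
  have hne : MulAut.conj (b⁻¹ * a) • (T : Subgroup G) ≠ T := by
    intro h
    apply hPQ
    have h1 : (b⁻¹ * a) • T = T := by
      apply Sylow.ext
      rw [Sylow.coe_subgroup_smul]
      exact h
    calc a • T = b • ((b⁻¹ * a) • T) := by rw [← mul_smul, mul_inv_cancel_left]
      _ = b • T := by rw [h1]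
  have h2 := hTI _ hne
  have h3 : b⁻¹ * x * b ∈ MulAut.conj (b⁻¹ * a) • (T : Subgroup G) ⊓ T := by
    rw [Subgroup.mem_inf]
    refine ⟨?_, hxb'⟩
    rw [mem_conj_smul]
    have : (b⁻¹ * a)⁻¹ * (b⁻¹ * x * b) * (b⁻¹ * a) = a⁻¹ * x * a := by group
    rw [this]; exact hxa'
  rw [h2, Subgroup.mem_bot] at h3
  rw [Subgroup.mem_bot]
  have := congrArg (fun z => b * z * b⁻¹) h3
  simpa [mul_assoc] using this

/-- Two commuting involutions lie in a common Sylow 2-subgroup. -/
theorem common_sylow {u w : G} (hu : orderOf u = 2) (hw : orderOf w = 2) (hc : Commute u w) :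
    ∃ P : Sylow 2 G, u ∈ P ∧ w ∈ P := by
  haveI : Fact (Nat.Prime 2) := ⟨Nat.prime_two⟩
  obtain ⟨Q, hQ⟩ := (isPGroup_sup_zpowers hu hw hc).exists_le_sylow
  exact ⟨Q, hQ (Subgroup.mem_sup_left (Subgroup.mem_zpowers u)),
    hQ (Subgroup.mem_sup_right (Subgroup.mem_zpowers w))⟩

/-- Two non-conjugate involutions lie in a common Sylow 2-subgroup. -/
theorem common_of_not_conj (T : Sylow 2 G)
    (hTI : ∀ g : G, MulAut.conj g • (T : Subgroup G) ≠ T → MulAut.conj g • (T : Subgroup G) ⊓ T = ⊥)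
    {s t : G} (hs : orderOf s = 2) (ht : orderOf t = 2) (hn : ¬ IsConj s t) :
    ∃ P : Sylow 2 G, s ∈ P ∧ t ∈ P := by
  have hs2 := mul_self_of_orderOf_two hs
  have ht2 := mul_self_of_orderOf_two ht
  have heven : Even (orderOf (s * t)) := by
    by_contra hodd
    rw [Nat.not_even_iff_odd] at hodd
    obtain ⟨k, hk⟩ := hodd
    apply hn
    rw [isConj_iff]
    refine ⟨(s * t) ^ (k : ℤ), ?_⟩
    rw [invpair_zpow_conj_x hs2 ht2]
    have h1 : (s * t) ^ (2 * (k : ℤ) + 1) = 1 := by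
      have : (2 * (k : ℤ) + 1) = ((orderOf (s * t) : ℕ) : ℤ) := by rw [hk]; push_cast; ring
      rw [this, zpow_natCast, pow_orderOf_eq_one]
    have h2 : (s * t) ^ (2 * (k : ℤ)) = (s * t)⁻¹ := by
      rw [zpow_add, zpow_one] at h1
      exact eq_inv_of_mul_eq_one_left h1
    rw [h2, mul_inv_rev, inv_mul_cancel_right, inv_eq_self_of_mul_self ht2]
  obtain ⟨k, hk⟩ := heven
  have hpos : 0 < orderOf (s * t) := orderOf_pos _
  obtain ⟨hzo, hzs, hzt⟩ := invpair_half_pow hs2 ht2 k hk (by omega)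
  obtain ⟨P, hsP, hzP⟩ := common_sylow hs hzo hzs.symm
  obtain ⟨Q, htQ, hzQ⟩ := common_sylow ht hzo hzt.symm
  have hPQ : P = Q := by
    by_contra hne
    have := ti_all T hTI P Q hne
    have hz : (s * t) ^ k ∈ (P : Subgroup G) ⊓ Q := ⟨hzP, hzQ⟩
    rw [this, Subgroup.mem_bot] at hz
    exact ne_one_of_orderOf_two hzo hz
  exact ⟨P, hsP, hPQ ▸ htQ⟩

end

/-- Let T be a Sylow 2-subgroup of the finite group G which is not normal and which intersects every other Sylow 2-subgroup trivially. Then G has a single conjugacy class of involutions. -/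
theorem result {G : Type*} [Group G] [Finite G] (T : Sylow 2 G) (hnn : ¬ (T : Subgroup G).Normal) (hTI : ∀ g : G, MulAut.conj g • (T : Subgroup G) ≠ T → MulAut.conj g • (T : Subgroup G) ⊓ T = ⊥) (s t : G) (hs : orderOf s = 2) (ht : orderOf t = 2) : IsConj s t := by
  haveI : Fact (Nat.Prime 2) := ⟨Nat.prime_two⟩
  by_contra hn
  obtain ⟨P, hsP, htP⟩ := common_of_not_conj T hTI hs ht hn
  -- another Sylow subgroup
  have hnsub : ¬ Subsingleton (Sylow 2 G) := by
    intro h
    exact hnn (Sylow.normal_of_subsingleton T)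
  rw [not_subsingleton_iff_nontrivial] at hnsub
  obtain ⟨P', hP'⟩ := exists_ne P
  obtain ⟨g, hg⟩ := MulAction.exists_smul_eq G P P'
  -- s' = g s g⁻¹ ∈ P'
  have hs'o : orderOf (g * s * g⁻¹) = 2 := by
    have := MulEquiv.orderOf_eq (MulAut.conj g) s
    rw [MulAut.conj_apply] at this
    rw [this]; exact hs
  have hs'P' : g * s * g⁻¹ ∈ P' := by
    rw [← hg]
    show g * s * g⁻¹ ∈ ((g • P : Sylow 2 G) : Subgroup G)
    rw [Sylow.coe_subgroup_smul, mem_conj_smul]
    have : g⁻¹ * (g * s * g⁻¹) * g = s := by group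
    rw [this]; exact hsP
  have hn' : ¬ IsConj (g * s * g⁻¹) t := by
    intro h
    apply hn
    have : IsConj s (g * s * g⁻¹) := isConj_iff.mpr ⟨g, rfl⟩
    exact this.trans h
  obtain ⟨R, hs'R, htR⟩ := common_of_not_conj T hTI hs'o ht hn'
  have hRP : R = P := by
    by_contra hne
    have := ti_all T hTI R P hne
    have hz : t ∈ (R : Subgroup G) ⊓ P := ⟨htR, htP⟩
    rw [this, Subgroup.mem_bot] at hz
    exact ne_one_of_orderOf_two ht hz
  have hRP' : R = P' := by
    by_contra hne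
    have := ti_all T hTI R P' hne
    have hz : g * s * g⁻¹ ∈ (R : Subgroup G) ⊓ P' := ⟨hs'R, hs'P'⟩
    rw [this, Subgroup.mem_bot] at hz
    exact ne_one_of_orderOf_two hs'o hz
  exact hP' (hRP'.symm.trans hRP)

end Cfsg.Agent.S0231
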