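import Mathlib
import Cfsg.Statements.S0232
import Cfsg.Agent.Lib.Helper1.BrauerFowler
import Cfsg.Agent.Lib.Helper1.ConjCount
import Cfsg.Agent.S0233
import Cfsg.Agent.S0212

set_option autoImplicit false
open Cfsg
open Cfsg.Agent.Lib.Helper1

namespace Cfsg.Agent.S0232

universe u

/-- A group of order `2 * odd` with a central involution has a subgroup of index 2. -/
theorem exists_index_two_of_central_invol {G : Type*} [Group G] [Finite G] (z : G)
    (hz : orderOf z = 2) (hzc : z ∈ Subgroup.center G) (k : ℕ) (hk : Odd k)
    (hcard : Nat.card G = 2 * k) : ∃ K : Subgroup G, K.index = 2 := by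
  classical
  have : Fact (Nat.Prime 2) := ⟨Nat.prime_two⟩
  have hN : Nat.card (Subgroup.zpowers z) = 2 := by rw [Nat.card_zpowers, hz]
  have hk0 : k ≠ 0 := by rintro rfl; simp at hk
  have hfac : (Nat.card G).factorization 2 = 1 := by
    rw [hcard, Nat.factorization_mul (by norm_num) hk0]
    have h2 : ¬ 2 ∣ k := by
      rcases hk with ⟨j, hj⟩; omega
    simp [Nat.Prime.factorization_self Nat.prime_two, Nat.factorization_eq_zero_of_not_dvd h2]
  let P : Sylow 2 G := Sylow.ofCard (Subgroup.zpowers z) (by rw [hN, hfac, pow_one])
  have hPcoe : (P : Subgroup G) = Subgroup.zpowers z := rfl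
  have hPC : Subgroup.normalizer ((P : Subgroup G) : Set G) ≤ Subgroup.centralizer (P : Set G) := by
    have : Subgroup.centralizer ((P : Subgroup G) : Set G) = ⊤ := by
      rw [Subgroup.centralizer_eq_top_iff_subset, hPcoe]
      intro x hx
      exact (Subgroup.zpowers_le.mpr hzc) hx
    intro x _
    have hx : x ∈ Subgroup.centralizer ((P : Subgroup G) : Set G) := by rw [this]; trivial
    exact hx
  have hcompl := MonoidHom.ker_transferSylow_isComplement' P hPC
  refine ⟨(MonoidHom.transferSylow P hPC).ker, ?_⟩
  rw [hcompl.symm.index_eq_card, hPcoe, hN]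

theorem le_of_pow_three_le {a b : ℕ} (h : a ^ 3 ≤ b ^ 3) : a ≤ b := by
  by_contra hcon
  push Not at hcon
  have := Nat.pow_lt_pow_left hcon (show 3 ≠ 0 by norm_num)
  omega

theorem main : ∀ n : ℕ, ∀ (G : Type u) [Group G] [Finite G], Nat.card G = n → Even n → 2 < n →
    ∃ H : Subgroup G, H ≠ ⊤ ∧ n < (Nat.card H) ^ 3 := by
  intro n
  induction n using Nat.strong_induction_on with
  | _ n ih =>
    intro G _ _ hcard heven hgt
    classical
    have : Fact (Nat.Prime 2) := ⟨Nat.prime_two⟩
    have hn4 : 4 ≤ n := by
      rcases heven with ⟨k, hk⟩; omega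
    by_cases h2 : ∃ H : Subgroup G, H.index = 2
    · obtain ⟨H, hH⟩ := h2
      refine ⟨H, ?_, ?_⟩
      · intro h; rw [h, Subgroup.index_top] at hH; omega
      · have := H.card_mul_index
        rw [hH, hcard] at this
        set h := Nat.card H
        have h2' : 2 ≤ h := by omega
        rw [← this]
        nlinarith [Nat.pow_le_pow_left h2' 2]
    · push Not at h2
      have hnt : Nontrivial G := by
        rw [← Finite.one_lt_card_iff_nontrivial]; omega
      by_cases hZ : Odd (Nat.card (Subgroup.center G))
      · obtain ⟨H, hH, -, hineq⟩ := Cfsg.Agent.S0233.exists_min_index hnt hZ h2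
        obtain ⟨t, ht⟩ := exists_prime_orderOf_dvd_card' (G := G) 2
          (by rw [hcard]; exact even_iff_two_dvd.mp heven)
        set K := Subgroup.centralizer ({t} : Set G) with hK
        have hKtop : K ≠ ⊤ := by
          intro h
          rw [hK, Subgroup.centralizer_eq_top_iff_subset] at h
          exact Cfsg.Agent.S0233.invol_notMem_center hZ t ht (h (Set.mem_singleton t))
        by_cases hc1 : n < Nat.card K ^ 3
        · exact ⟨K, hKtop, hc1⟩
        by_cases hc2 : n < Nat.card H ^ 3
        · exact ⟨H, hH, hc2⟩
        exfalso
        push Not at hc1 hc2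
        set m := Nat.card {t : G // orderOf t = 2} with hm
        set c := Nat.card K with hc
        set h := Nat.card H with hh
        set r := H.index with hr
        rw [hcard] at hineq
        have hrh : h * r = n := by rw [← hcard]; exact H.card_mul_index
        have hcls := card_isConj_mul_card_centralizer t
        rw [← hK, ← hc, hcard] at hcls
        have hle := Cfsg.Agent.S0212.card_class_le_card_invols t ht
        rw [← hm] at hle
        have hmc : n ≤ m * c := by
          rw [← hcls]; exact Nat.mul_le_mul_right _ hle
        have hnpos : 0 < n := by omega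
        have hhpos : 0 < h := Nat.card_pos
        -- m³ ≥ n²
        have h3 : n ^ 3 ≤ m ^ 3 * n := by
          calc n ^ 3 ≤ (m * c) ^ 3 := Nat.pow_le_pow_left hmc 3
            _ = m ^ 3 * c ^ 3 := by ring
            _ ≤ m ^ 3 * n := Nat.mul_le_mul_left _ hc1
        have h4 : n ^ 2 ≤ m ^ 3 := by
          have : n ^ 2 * n ≤ m ^ 3 * n := by
            calc n ^ 2 * n = n ^ 3 := by ring
              _ ≤ m ^ 3 * n := h3
          exact Nat.le_of_mul_le_mul_right this hnpos
        -- h ≤ m
        have h5 : h ≤ m := by
          apply le_of_pow_three_le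
          calc h ^ 3 ≤ n := hc2
            _ ≤ n ^ 2 := by nlinarith
            _ ≤ m ^ 3 := h4
        -- h n ≤ m²
        have h6 : h * n ≤ m ^ 2 := by
          apply le_of_pow_three_le
          calc (h * n) ^ 3 = h ^ 3 * n ^ 3 := by ring
            _ ≤ n * n ^ 3 := Nat.mul_le_mul_right _ hc2
            _ = n ^ 2 * n ^ 2 := by ring
            _ ≤ m ^ 3 * m ^ 3 := Nat.mul_le_mul h4 h4
            _ = (m ^ 2) ^ 3 := by ring
        -- 2 r m² < n (n + m), multiply by h
        have h7 : 2 * r * m ^ 2 < n * (n + m) := by nlinarith
        have h8 : h * (2 * r * m ^ 2) < h * (n * (n + m)) := Nat.mul_lt_mul_of_pos_left h7 hhpos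
        have h9 : h * (2 * r * m ^ 2) = n * (2 * m ^ 2) := by
          rw [← hrh]; ring
        have h10 : h * (n * (n + m)) = n * (h * n + h * m) := by ring
        rw [h9, h10] at h8
        have h11 : 2 * m ^ 2 < h * n + h * m := Nat.lt_of_mul_lt_mul_left h8
        have h12 : h * m ≤ m ^ 2 := by
          calc h * m ≤ m * m := Nat.mul_le_mul_right _ h5
            _ = m ^ 2 := by ring
        omega
      · -- even centre: central involution
        have hZe : Even (Nat.card (Subgroup.center G)) := Nat.not_odd_iff_even.mp hZ
        obtain ⟨z', hz'⟩ := exists_prime_orderOf_dvd_card' (G := Subgroup.center G) 2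
          (even_iff_two_dvd.mp hZe)
        set z : G := (z' : G) with hzdef
        have hzc : z ∈ Subgroup.center G := z'.2
        have hz : orderOf z = 2 := by
          rw [← hz']; exact Subgroup.orderOf_coe z'
        set N := Subgroup.zpowers z with hN
        have hNcard : Nat.card N = 2 := by rw [Nat.card_zpowers, hz]
        have hNnormal : N.Normal := by
          refine ⟨fun x hx g => ?_⟩
          obtain ⟨k, rfl⟩ := Subgroup.mem_zpowers_iff.mp hx
          have : g * z ^ k * g⁻¹ = z ^ k := by
            have hc : z ^ k ∈ Subgroup.center G := Subgroup.zpow_mem _ hzc k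
            rw [Subgroup.mem_center_iff] at hc
            rw [hc g, mul_inv_cancel_right]
          rw [this]; exact Subgroup.zpow_mem _ (Subgroup.mem_zpowers z) k
        have hQcard : Nat.card (G ⧸ N) * 2 = n := by
          rw [← hcard, ← hNcard]
          exact (Subgroup.card_eq_card_quotient_mul_card_subgroup N).symm
        set q := Nat.card (G ⧸ N) with hq
        by_cases hqodd : Odd q
        · exfalso
          obtain ⟨K, hK⟩ := exists_index_two_of_central_invol z hz hzc q hqodd
            (by rw [hcard, ← hQcard]; ring)
          exact h2 K hK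
        · have hqeven : Even q := Nat.not_odd_iff_even.mp hqodd
          by_cases hq2 : q ≤ 2
          · -- n = 4, N has index 2
            exfalso
            have : q = 2 := by
              rcases hqeven with ⟨j, hj⟩; omega
            apply h2 N
            rw [Subgroup.index_eq_card, ← hq, this]
          · push Not at hq2
            obtain ⟨Hbar, hHbar, hlt⟩ := ih q (by omega) (G ⧸ N) rfl hqeven hq2
            refine ⟨Hbar.comap (QuotientGroup.mk' N), ?_, ?_⟩
            · intro h
              apply hHbar
              apply Subgroup.comap_injective (QuotientGroup.mk'_surjective N)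
              rw [h, Subgroup.comap_top]
            · have hidx := Subgroup.index_comap_of_surjective Hbar (QuotientGroup.mk'_surjective N)
              have h1 := (Hbar.comap (QuotientGroup.mk' N)).card_mul_index
              have h3 := Hbar.card_mul_index
              rw [hidx, hcard] at h1
              rw [← hq] at h3
              set a := Nat.card (Hbar.comap (QuotientGroup.mk' N))
              set b := Nat.card Hbar
              set i := Hbar.index
              have hipos : 0 < i := Nat.pos_of_ne_zero Subgroup.index_ne_zero_of_finite
              have hab : a = 2 * b := by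
                have : a * i = (2 * b) * i := by
                  rw [h1, ← hQcard, ← h3]; ring
                exact Nat.eq_of_mul_eq_mul_right hipos this
              rw [hab, ← hQcard]
              have : (2 * b) ^ 3 = 8 * b ^ 3 := by ring
              rw [this]
              omega

/-- A finite group G of even order greater than 2 has a proper subgroup H with |G| < |H|^3. -/
theorem result {G : Type*} [Group G] [Finite G] (heven : Even (Nat.card G)) (hgt : 2 < Nat.card G) : ∃ H : Subgroup G, H ≠ ⊤ ∧ Nat.card G < (Nat.card H) ^ 3 :=
  main (Nat.card G) G rfl heven hgt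

end Cfsg.Agent.S0232
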