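import Mathlib
import Cfsg.Statements.S0234
import Cfsg.Agent.Lib.Helper1.BrauerFowler
import Cfsg.Agent.Lib.Helper1.SimpleIndex
import Cfsg.Agent.S0233
import Cfsg.Agent.S0493
import Cfsg.Agent.S0494

set_option autoImplicit false
open Cfsg
open Cfsg.Agent.Lib.Helper1

namespace Cfsg.Agent.S0234

set_option maxRecDepth 100000 in
theorem card_invols_alt5 :
    Fintype.card {t : alternatingGroup (Fin 5) // t ^ 2 = 1 ∧ t ≠ 1} = 15 := by
  decide

theorem card_invols_congr {G H : Type*} [Group G] [Group H] (e : G ≃* H) :
    Nat.card {t : G // orderOf t = 2} = Nat.card {t : H // orderOf t = 2} := by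
  apply Nat.card_congr
  refine e.toEquiv.subtypeEquiv ?_
  intro t
  show orderOf t = 2 ↔ orderOf (e t) = 2
  rw [MulEquiv.orderOf_eq]

theorem card_invols_alt5' :
    Nat.card {t : alternatingGroup (Fin 5) // orderOf t = 2} = 15 := by
  rw [← card_invols_alt5, ← Nat.card_eq_fintype_card]
  apply Nat.card_congr
  refine Equiv.subtypeEquivRight ?_
  intro t
  rw [orderOf_eq_prime_iff]

/-- In a simple group of order greater than 2, no involution is central. -/
theorem invol_notMem_center {G : Type*} [Group G] [Finite G] [IsSimpleGroup G]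
    (hgt : 2 < Nat.card G) (z : G) (hz : orderOf z = 2) : z ∉ Subgroup.center G := by
  intro hzc
  have hNnormal : (Subgroup.zpowers z).Normal := by
    refine ⟨fun x hx g => ?_⟩
    obtain ⟨k, rfl⟩ := Subgroup.mem_zpowers_iff.mp hx
    have : g * z ^ k * g⁻¹ = z ^ k := by
      have hc : z ^ k ∈ Subgroup.center G := Subgroup.zpow_mem _ hzc k
      rw [Subgroup.mem_center_iff] at hc
      rw [hc g, mul_inv_cancel_right]
    rw [this]; exact Subgroup.zpow_mem _ (Subgroup.mem_zpowers z) k
  have hNcard : Nat.card (Subgroup.zpowers z) = 2 := by rw [Nat.card_zpowers, hz]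
  rcases hNnormal.eq_bot_or_eq_top with h | h
  · rw [h, Subgroup.card_bot] at hNcard; omega
  · rw [h, Subgroup.card_top] at hNcard; omega

/-- In a finite simple group G of even order greater than 2, the number n of involutions satisfies 3n < |G|. -/
theorem result {G : Type*} [Group G] [Finite G] [IsSimpleGroup G] (heven : Even (Nat.card G)) (hgt : 2 < Nat.card G) : 3 * Nat.card {t : G // orderOf t = 2} < Nat.card G := by
  classical
  have : Fact (Nat.Prime 2) := ⟨Nat.prime_two⟩
  have hnt : Nontrivial G := IsSimpleGroup.toNontrivial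
  obtain ⟨t, ht⟩ := exists_prime_orderOf_dvd_card' (G := G) 2 (even_iff_two_dvd.mp heven)
  have htc := invol_notMem_center hgt t ht
  have hZ : Odd (Nat.card (Subgroup.center G)) := by
    rcases (inferInstance : (Subgroup.center G).Normal).eq_bot_or_eq_top with hc | hc
    · rw [hc, Subgroup.card_bot]; exact odd_one
    · exfalso; apply htc; rw [hc]; trivial
  have h2 : ∀ H : Subgroup G, H.index ≠ 2 := by
    intro H hH
    have hne : H ≠ ⊤ := by
      intro h; rw [h, Subgroup.index_top] at hH; omega
    have := card_dvd_factorial_index_of_simple H hne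
    rw [hH] at this
    have h3 : Nat.card G ≤ 2 := Nat.le_of_dvd (by norm_num) this
    omega
  obtain ⟨H, hH, -, hineq⟩ := Cfsg.Agent.S0233.exists_min_index hnt hZ h2
  by_contra hcon
  push Not at hcon
  set m := Nat.card {t : G // orderOf t = 2} with hm
  set g := Nat.card G with hg
  set r := H.index with hr
  have hmpos : 0 < m := by
    by_contra h0
    have : m = 0 := by omega
    rw [this] at hcon; omega
  have hr5 : r ≤ 5 := by
    by_contra h6
    push Not at h6
    have h1 : 12 * m ^ 2 ≤ 2 * r * m ^ 2 := by
      have : 12 ≤ 2 * r := by omega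
      exact Nat.mul_le_mul_right _ this
    have h3 : g * m + g ^ 2 ≤ 12 * m ^ 2 := by nlinarith
    have h4 : 0 < 2 * r * m := by positivity
    omega
  have hdvd := two_mul_card_dvd_factorial_index_of_simple hgt H hH
  rw [← hg, ← hr] at hdvd
  have h120 : 2 * g ∣ 120 := by
    have : r.factorial ∣ (5 : ℕ).factorial := Nat.factorial_dvd_factorial hr5
    have h5 : (5 : ℕ).factorial = 120 := by decide
    rw [h5] at this
    exact dvd_trans hdvd this
  have hg60 : g ≤ 60 := by
    have := Nat.le_of_dvd (by norm_num) h120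
    omega
  have hncyc : ¬ IsCyclic G := by
    intro hcyc
    have hcomm : ∀ a b : G, a * b = b * a := fun a b => by
      obtain ⟨x, hx⟩ := hcyc.exists_generator
      obtain ⟨i, rfl⟩ := Subgroup.mem_zpowers_iff.mp (hx a)
      obtain ⟨j, rfl⟩ := Subgroup.mem_zpowers_iff.mp (hx b)
      rw [← zpow_add, ← zpow_add, add_comm]
    apply htc
    rw [Subgroup.mem_center_iff]
    intro x; exact hcomm x t
  have h60 : g = 60 := Cfsg.Agent.S0493.result hncyc (by omega)
  obtain ⟨e⟩ := Cfsg.Agent.S0494.result h60
  have hm15 : m = 15 := by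
    rw [hm, card_invols_congr e, card_invols_alt5']
  omega

end Cfsg.Agent.S0234
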