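import Mathlib
import Cfsg.Statements.S0235
import Cfsg.Agent.Lib.Helper1.InvPair

set_option autoImplicit false
open Cfsg
open Cfsg.Agent.Lib.Helper1

namespace Cfsg.Agent.S0235

/-- If x² ≠ 1, the ordered pairs (u, v) of involutions with uv = x correspond bijectively to the involutions t with t x t⁻¹ = x⁻¹ (via (u, v) ↦ u), so the two counts agree. -/
theorem result {G : Type*} [Group G] [Finite G] (x : G) (hx : x ^ 2 ≠ 1) : Nat.card {p : G × G // orderOf p.1 = 2 ∧ orderOf p.2 = 2 ∧ p.1 * p.2 = x} = Nat.card {t : G // orderOf t = 2 ∧ t * x * t⁻¹ = x⁻¹} := by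
  apply Nat.card_congr
  refine
    { toFun := fun p => ⟨p.1.1, p.2.1, ?_⟩
      invFun := fun t => ⟨(t.1, t.1 * x), t.2.1, ?_, ?_⟩
      left_inv := ?_
      right_inv := fun t => by ext; rfl }
  · obtain ⟨⟨u, v⟩, hu, hv, huv⟩ := p
    simp only at hu hv huv ⊢
    have hu2 := mul_self_of_orderOf_two hu
    have hv2 := mul_self_of_orderOf_two hv
    rw [← huv, mul_inv_rev, inv_eq_self_of_mul_self hu2, inv_eq_self_of_mul_self hv2,
      ← mul_assoc u, hu2, one_mul]
  · obtain ⟨t, ht, htx⟩ := t
    simp only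
    have ht2 := mul_self_of_orderOf_two ht
    apply orderOf_two_of_mul_self
    · have : t * x * t = x⁻¹ := by rwa [inv_eq_self_of_mul_self ht2] at htx
      rw [← mul_assoc, this, inv_mul_cancel]
    · intro h
      apply hx
      have hxt : x = t := by
        have := eq_inv_of_mul_eq_one_right h
        rwa [inv_eq_self_of_mul_self ht2] at this
      rw [hxt, pow_two, ht2]
  · obtain ⟨t, ht, htx⟩ := t
    simp only
    have ht2 := mul_self_of_orderOf_two ht
    rw [← mul_assoc, ht2, one_mul]
  · rintro ⟨⟨u, v⟩, hu, hv, huv⟩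
    simp only at hu hv huv ⊢
    have hu2 := mul_self_of_orderOf_two hu
    ext
    · rfl
    · simp only
      rw [← huv, ← mul_assoc, hu2, one_mul]

end Cfsg.Agent.S0235
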