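import Mathlib
import Cfsg.Statements.S0236
import Cfsg.Agent.Lib.Helper1.InvPair

set_option autoImplicit false
open Cfsg
open Cfsg.Agent.Lib.Helper1

namespace Cfsg.Agent.S0236

theorem comm_aux {G : Type*} [Group G] {x u v : G} (hx2 : x * x = 1) (hu2 : u * u = 1)
    (hv2 : v * v = 1) (huv : u * v = x) : Commute u x := by
  have h1 : u * x = v := by rw [← huv, ← mul_assoc, hu2, one_mul]
  have h2 : x = v * u := by
    rw [← inv_eq_self_of_mul_self hx2, ← huv, mul_inv_rev, inv_eq_self_of_mul_self hu2,
      inv_eq_self_of_mul_self hv2]
  have h3 : x * u = v := by rw [h2, mul_assoc, hu2, mul_one]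
  exact h1.trans h3.symm

/-- If x is an involution, the number of ordered pairs (u, v) of involutions with uv = x, plus one, equals the number of involutions in the centralizer of x. -/
theorem result {G : Type*} [Group G] [Finite G] (x : G) (hx : orderOf x = 2) : Nat.card {p : G × G // orderOf p.1 = 2 ∧ orderOf p.2 = 2 ∧ p.1 * p.2 = x} + 1 = Nat.card {t : G // orderOf t = 2 ∧ Commute t x} := by
  have hx2 := mul_self_of_orderOf_two hx
  rw [← Finite.card_option]
  let f : Option {p : G × G // orderOf p.1 = 2 ∧ orderOf p.2 = 2 ∧ p.1 * p.2 = x} →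
      {t : G // orderOf t = 2 ∧ Commute t x} := fun o =>
    match o with
    | none => ⟨x, hx, Commute.refl x⟩
    | some p => ⟨p.1.1, p.2.1, comm_aux hx2 (mul_self_of_orderOf_two p.2.1)
        (mul_self_of_orderOf_two p.2.2.1) p.2.2.2⟩
  apply Nat.card_eq_of_bijective f
  constructor
  · rintro (_ | ⟨⟨u, v⟩, hu, hv, huv⟩) (_ | ⟨⟨u', v'⟩, hu', hv', huv'⟩) h
    · rfl
    · exfalso
      simp only [f, Subtype.mk.injEq] at h
      simp only at hu' hv' huv'
      subst h
      have : v' = 1 := by
        have := congrArg (fun z => x⁻¹ * z) huv'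
        simpa using this
      exact ne_one_of_orderOf_two hv' this
    · exfalso
      simp only [f, Subtype.mk.injEq] at h
      simp only at hu hv huv
      subst h
      have : v = 1 := by
        have := congrArg (fun z => u⁻¹ * z) huv
        simpa using this
      exact ne_one_of_orderOf_two hv this
    · simp only [f, Subtype.mk.injEq] at h
      simp only at hu hv huv hu' hv' huv'
      subst h
      have : v = v' := by
        have := huv.trans huv'.symm
        exact mul_left_cancel this
      subst this
      rfl
  · rintro ⟨t, ht, htx⟩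
    have ht2 := mul_self_of_orderOf_two ht
    by_cases h : t = x
    · exact ⟨none, by simp only [f]; ext; exact h.symm⟩
    · refine ⟨some ⟨(t, t * x), ht, ?_, ?_⟩, rfl⟩
      · apply orderOf_two_of_mul_self
        · rw [mul_assoc, ← mul_assoc x, ← htx.eq, mul_assoc, hx2, mul_one, ht2]
        · intro h1
          apply h
          have := eq_inv_of_mul_eq_one_left h1
          rwa [inv_eq_self_of_mul_self hx2] at this
      · simp only
        rw [← mul_assoc, ht2, one_mul]

end Cfsg.Agent.S0236
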