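import Mathlib
import Cfsg.Statements.S0238
import Cfsg.Agent.Lib.Helper1.InvPair
import Cfsg.Agent.S0236
import Cfsg.Agent.S0237

set_option autoImplicit false
open Cfsg
open Cfsg.Agent.Lib.Helper1

namespace Cfsg.Agent.S0238

theorem conj_aux {G : Type*} [Group G] {x u v : G} (hu : orderOf u = 2) (hv : orderOf v = 2)
    (huv : u * v = x) : u * x * u⁻¹ = x⁻¹ := by
  have hu2 := mul_self_of_orderOf_two hu
  have hv2 := mul_self_of_orderOf_two hv
  rw [← huv, mul_inv_rev, inv_eq_self_of_mul_self hu2, inv_eq_self_of_mul_self hv2,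
    ← mul_assoc u, hu2, one_mul]

/-- For every x in a finite group G, the number c of ordered pairs (u, v) of involutions with uv = x is at most |C_G(x)|; c = 0 when x is not conjugate to x⁻¹; and c + 2 ≤ |C_G(x)| when x is an involution. -/
theorem result {G : Type*} [Group G] [Finite G] (x : G) : Nat.card {p : G × G // orderOf p.1 = 2 ∧ orderOf p.2 = 2 ∧ p.1 * p.2 = x} ≤ Nat.card (Subgroup.centralizer ({x} : Set G)) ∧ (¬ IsConj x x⁻¹ → Nat.card {p : G × G // orderOf p.1 = 2 ∧ orderOf p.2 = 2 ∧ p.1 * p.2 = x} = 0) ∧ (orderOf x = 2 → Nat.card {p : G × G // orderOf p.1 = 2 ∧ orderOf p.2 = 2 ∧ p.1 * p.2 = x} + 2 ≤ Nat.card (Subgroup.centralizer ({x} : Set G))) := by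
  have hempty : ¬ IsConj x x⁻¹ →
      IsEmpty {p : G × G // orderOf p.1 = 2 ∧ orderOf p.2 = 2 ∧ p.1 * p.2 = x} := by
    intro hn
    constructor
    rintro ⟨⟨u, v⟩, hu, hv, huv⟩
    exact hn (isConj_iff.mpr ⟨u, conj_aux hu hv huv⟩)
  refine ⟨?_, ?_, ?_⟩
  · by_cases hreal : IsConj x x⁻¹
    · rw [← Cfsg.Agent.S0237.result x hreal]
      let f : {p : G × G // orderOf p.1 = 2 ∧ orderOf p.2 = 2 ∧ p.1 * p.2 = x} →
          {g : G // g * x * g⁻¹ = x⁻¹} := fun p => ⟨p.1.1, conj_aux p.2.1 p.2.2.1 p.2.2.2⟩
      apply Nat.card_le_card_of_injective f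
      rintro ⟨⟨u, v⟩, hu, hv, huv⟩ ⟨⟨u', v'⟩, hu', hv', huv'⟩ h
      simp only [f, Subtype.mk.injEq] at h
      simp only at huv huv'
      subst h
      have : v = v' := mul_left_cancel (huv.trans huv'.symm)
      subst this
      rfl
    · haveI := hempty hreal
      rw [Nat.card_of_isEmpty]
      exact Nat.zero_le _
  · intro hn
    haveI := hempty hn
    exact Nat.card_of_isEmpty
  · intro hx
    have h1 := Cfsg.Agent.S0236.result x hx
    have h2 : Nat.card {t : G // orderOf t = 2 ∧ Commute t x} + 1 ≤
        Nat.card (Subgroup.centralizer ({x} : Set G)) := by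
      rw [← Finite.card_option]
      let f : Option {t : G // orderOf t = 2 ∧ Commute t x} →
          Subgroup.centralizer ({x} : Set G) := fun o =>
        match o with
        | none => 1
        | some t => ⟨t.1, Subgroup.mem_centralizer_singleton_iff.mpr t.2.2.eq⟩
      apply Nat.card_le_card_of_injective f
      rintro (_ | ⟨t, ht, htx⟩) (_ | ⟨t', ht', htx'⟩) h
      · rfl
      · exfalso
        simp only [f] at h
        have : t' = 1 := by
          have := congrArg Subtype.val h
          simpa using this.symm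
        exact ne_one_of_orderOf_two ht' this
      · exfalso
        simp only [f] at h
        have : t = 1 := by
          have := congrArg Subtype.val h
          simpa using this
        exact ne_one_of_orderOf_two ht this
      · simp only [f, Subtype.mk.injEq] at h
        subst h
        rfl
    omega

end Cfsg.Agent.S0238
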