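import Mathlib
import Cfsg.Statements.S0239

set_option autoImplicit false
open Cfsg

namespace Cfsg.Agent.S0239

/-- If some nontrivial element x of a finite group G is conjugate to x⁻¹, then |G| is even. -/
theorem result {G : Type*} [Group G] [Finite G] (x : G) (hx : x ≠ 1) (hreal : IsConj x x⁻¹) : Even (Nat.card G) := by
  by_contra hodd
  rw [Nat.not_even_iff_odd] at hodd
  obtain ⟨g, hg⟩ := isConj_iff.mp hreal
  -- g * x * g⁻¹ = x⁻¹
  have hgo : Odd (orderOf g) := Odd.of_dvd_nat hodd (orderOf_dvd_natCard g)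
  have hxo : Odd (orderOf x) := Odd.of_dvd_nat hodd (orderOf_dvd_natCard x)
  -- g^2 commutes with x
  have h2 : Commute (g ^ 2) x := by
    have h1 : g * x⁻¹ * g⁻¹ = x := by
      have := congrArg (fun y => y⁻¹) hg
      simp only [mul_inv_rev, inv_inv] at this
      rw [mul_assoc]; exact this
    have : g ^ 2 * x * (g ^ 2)⁻¹ = x := by
      calc g ^ 2 * x * (g ^ 2)⁻¹ = g * (g * x * g⁻¹) * g⁻¹ := by
            rw [pow_two, mul_inv_rev]; simp only [mul_assoc]
        _ = g * x⁻¹ * g⁻¹ := by rw [hg]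
        _ = x := h1
    show g ^ 2 * x = x * g ^ 2
    calc g ^ 2 * x = (g ^ 2 * x * (g ^ 2)⁻¹) * g ^ 2 := by group
      _ = x * g ^ 2 := by rw [this]
  obtain ⟨k, hk⟩ := hgo
  have hgk : g = (g ^ 2) ^ (k + 1) := by
    have : 2 * (k + 1) = orderOf g + 1 := by omega
    rw [← pow_mul, this, pow_add, pow_orderOf_eq_one, one_mul, pow_one]
  have hgx : Commute g x := by
    rw [hgk]; exact h2.pow_left _
  have : x = x⁻¹ := by
    rw [← hg, hgx.eq]; group
  have hx2 : x ^ 2 = 1 := by
    rw [pow_two]; nth_rewrite 1 [this]; exact inv_mul_cancel x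
  have hd : orderOf x ∣ 2 := orderOf_dvd_of_pow_eq_one hx2
  have : orderOf x = 1 := by
    rcases (Nat.dvd_prime Nat.prime_two).mp hd with h | h
    · exact h
    · rw [h] at hxo; exact absurd hxo (by decide)
  exact hx (orderOf_eq_one_iff.mp this)

end Cfsg.Agent.S0239
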