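import Mathlib
import Cfsg.Statements.S0240
import Cfsg.Agent.Lib.Helper1.InvPair

set_option autoImplicit false
open Cfsg
open Cfsg.Agent.Lib.Helper1

namespace Cfsg.Agent.S0240

/-- Let G be a finite group with n involutions and H a subgroup with |H|·(n+1) > |G|. Then some nontrivial h ∈ H is strongly real in G: an involution t of G satisfies t h t⁻¹ = h⁻¹. -/
theorem result {G : Type*} [Group G] [Finite G] (H : Subgroup G) (hH : Nat.card G < Nat.card H * (Nat.card {t : G // orderOf t = 2} + 1)) : ∃ h : G, h ∈ H ∧ h ≠ 1 ∧ ∃ t : G, orderOf t = 2 ∧ t * h * t⁻¹ = h⁻¹ := by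
  let f : Option {t : G // orderOf t = 2} → G ⧸ H := fun o =>
    match o with
    | none => ((1 : G) : G ⧸ H)
    | some t => ((t.1 : G) : G ⧸ H)
  have hninj : ¬ Function.Injective f := by
    intro hinj
    have h1 := Nat.card_le_card_of_injective f hinj
    rw [Finite.card_option] at h1
    have h2 := Subgroup.card_eq_card_quotient_mul_card_subgroup H
    rw [h2] at hH
    have : Nat.card H * (Nat.card {t : G // orderOf t = 2} + 1) ≤ Nat.card (G ⧸ H) * Nat.card H := by
      rw [mul_comm]
      exact Nat.mul_le_mul_right _ h1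
    omega
  unfold Function.Injective at hninj
  push_neg at hninj
  obtain ⟨a, b, hab, hne⟩ := hninj
  rcases a with _ | ⟨s, hs⟩ <;> rcases b with _ | ⟨t, ht⟩
  · exact absurd rfl hne
  · -- 1 and t in same coset: t ∈ H
    simp only [f] at hab
    have htH : t ∈ H := by
      have := QuotientGroup.eq.mp hab
      simpa using this
    have ht2 := mul_self_of_orderOf_two ht
    refine ⟨t, htH, ne_one_of_orderOf_two ht, t, ht, ?_⟩
    rw [ht2, one_mul]
  · simp only [f] at hab
    have hsH : s ∈ H := by
      have := QuotientGroup.eq.mp hab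
      simpa using this
    have hs2 := mul_self_of_orderOf_two hs
    refine ⟨s, hsH, ne_one_of_orderOf_two hs, s, hs, ?_⟩
    rw [hs2, one_mul]
  · simp only [f] at hab
    have hst : s⁻¹ * t ∈ H := QuotientGroup.eq.mp hab
    have hs2 := mul_self_of_orderOf_two hs
    have ht2 := mul_self_of_orderOf_two ht
    rw [inv_eq_self_of_mul_self hs2] at hst
    refine ⟨s * t, hst, ?_, s, hs, ?_⟩
    · intro h1
      apply hne
      have : s = t := by
        have := eq_inv_of_mul_eq_one_left h1
        rwa [inv_eq_self_of_mul_self ht2] at this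
      subst this
      rfl
    · rw [mul_inv_rev, inv_eq_self_of_mul_self hs2, inv_eq_self_of_mul_self ht2, ← mul_assoc s,
        hs2, one_mul]

end Cfsg.Agent.S0240
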