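import Mathlib
import Cfsg.Statements.S0241
import Cfsg.Agent.Lib.Helper1.InvPair

set_option autoImplicit false
open Cfsg
open Cfsg.Agent.Lib.Helper1

namespace Cfsg.Agent.S0241

theorem conj_pow_aux {G : Type*} [Group G] {x g : G} (hg : g * x * g⁻¹ = x⁻¹) (k : ℕ) :
    g ^ k * x * (g ^ k)⁻¹ = x ^ ((-1 : ℤ) ^ k) := by
  induction k with
  | zero => simp
  | succ k ih =>
    have h1 : g ^ (k + 1) * x * (g ^ (k + 1))⁻¹ = g * (g ^ k * x * (g ^ k)⁻¹) * g⁻¹ := by
      rw [pow_succ']; group
    rw [h1, ih]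
    have h2 : g * x ^ ((-1 : ℤ) ^ k) * g⁻¹ = (g * x * g⁻¹) ^ ((-1 : ℤ) ^ k) := by
      rw [conj_zpow]
    rw [h2, hg, inv_zpow, ← zpow_neg, pow_succ]
    congr 1
    ring

/-- If x ≠ 1 is conjugate to x⁻¹ in a finite group G and |C_G(x)| is odd, then some involution t satisfies t x t⁻¹ = x⁻¹. -/
theorem result {G : Type*} [Group G] [Finite G] (x : G) (hx : x ≠ 1) (hreal : IsConj x x⁻¹) (hodd : Odd (Nat.card (Subgroup.centralizer ({x} : Set G)))) : ∃ t : G, orderOf t = 2 ∧ t * x * t⁻¹ = x⁻¹ := by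
  obtain ⟨g, hg⟩ := isConj_iff.mp hreal
  have hpos : orderOf g ≠ 0 := (orderOf_pos g).ne'
  obtain ⟨a, m, hm, hn⟩ := Nat.exists_eq_two_pow_mul_odd hpos
  -- x ≠ x⁻¹
  have hxx : x ≠ x⁻¹ := by
    intro h
    have hx2 : x * x = 1 := by nth_rewrite 1 [h]; exact inv_mul_cancel x
    have hxm : x ∈ Subgroup.centralizer ({x} : Set G) :=
      Subgroup.mem_centralizer_singleton_iff.mpr rfl
    have ho : orderOf (⟨x, hxm⟩ : Subgroup.centralizer ({x} : Set G)) = 2 := by
      apply orderOf_two_of_mul_self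
      · ext; exact hx2
      · intro h1; exact hx (congrArg Subtype.val h1)
    have := orderOf_dvd_natCard (⟨x, hxm⟩ : Subgroup.centralizer ({x} : Set G))
    rw [ho] at this
    have := Odd.of_dvd_nat hodd this
    exact absurd this (by decide)
  refine ⟨g ^ m, ?_, ?_⟩
  swap
  · rw [conj_pow_aux hg, hm.neg_one_pow, zpow_neg, zpow_one]
  · have hconj : g ^ m * x * (g ^ m)⁻¹ = x⁻¹ := by
      rw [conj_pow_aux hg, hm.neg_one_pow, zpow_neg, zpow_one]
    apply orderOf_two_of_mul_self
    · -- (g^m)^2 centralizes x and has 2-power order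
      have hc : g ^ m * g ^ m ∈ Subgroup.centralizer ({x} : Set G) := by
        rw [Subgroup.mem_centralizer_singleton_iff]
        have h1 : g ^ m * x = x⁻¹ * g ^ m := by
          rw [← hconj, inv_mul_cancel_right]
        have h2 : g ^ m * x⁻¹ = x * g ^ m := by
          have := congrArg (fun z => z⁻¹) hconj
          simp only [mul_inv_rev, inv_inv] at this
          rw [← mul_assoc] at this
          nth_rewrite 2 [← this]
          rw [inv_mul_cancel_right]
        rw [mul_assoc, h1, ← mul_assoc, h2, mul_assoc]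
      have hpow : (⟨g ^ m * g ^ m, hc⟩ : Subgroup.centralizer ({x} : Set G)) ^ (2 ^ a) = 1 := by
        ext
        simp only [SubmonoidClass.mk_pow, OneMemClass.coe_one]
        rw [← pow_add, ← two_mul, ← pow_mul]
        have : 2 * m * 2 ^ a = orderOf g * 2 := by rw [hn]; ring
        rw [this, pow_mul, pow_orderOf_eq_one, one_pow]
      have hd1 := orderOf_dvd_of_pow_eq_one hpow
      have hd2 := orderOf_dvd_natCard (⟨g ^ m * g ^ m, hc⟩ : Subgroup.centralizer ({x} : Set G))
      have hodd' := Odd.of_dvd_nat hodd hd2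
      have : orderOf (⟨g ^ m * g ^ m, hc⟩ : Subgroup.centralizer ({x} : Set G)) = 1 := by
        obtain ⟨j, -, hj⟩ := (Nat.dvd_prime_pow Nat.prime_two).mp hd1
        rw [hj] at hodd' ⊢
        rcases j with _ | j
        · rfl
        · exfalso
          rw [pow_succ] at hodd'
          exact absurd hodd' (by simp)
      have := orderOf_eq_one_iff.mp this
      exact congrArg Subtype.val this
    · intro h1
      rw [h1] at hconj
      apply hxx
      simpa using hconj

end Cfsg.Agent.S0241
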