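import Cfsg.Statements.S0247
import Cfsg.Agent.S0245
import Cfsg.Agent.Lib.Helper1.Sp42

set_option autoImplicit false
open Cfsg

namespace Cfsg.Agent.S0247

open Cfsg.Agent.Lib.Helper1.Sp42 Matrix

/-- base change of symplectic matrices along a ring homomorphism -/
def mapHom {R S : Type*} [CommRing R] [CommRing S] (f : R →+* S) :
    symplecticGroup (Fin 2) R →* symplecticGroup (Fin 2) S where
  toFun A := ⟨A.1.map f, SymplecticGroup.map_mem A.2 f⟩
  map_one' := Subtype.ext (by simp)
  map_mul' A B := Subtype.ext (by simp [Matrix.map_mul])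

theorem mapHom_injective {R S : Type*} [CommRing R] [CommRing S] (f : R →+* S)
    (hf : Function.Injective f) : Function.Injective (mapHom f) := by
  intro A B h
  apply Subtype.ext
  have := congrArg Subtype.val h
  exact Matrix.map_injective hf this

/-- Sp_4(2) is isomorphic to the symmetric group S_6. -/
theorem result {F : Type*} [Field F] [Fintype F] (hF : Fintype.card F = 2) : Nonempty (Matrix.symplecticGroup (Fin 2) F ≃* Equiv.Perm (Fin 6)) := by
  haveI : Fact (Nat.Prime 2) := ⟨Nat.prime_two⟩
  let e : ZMod 2 ≃+* F := ZMod.ringEquivOfPrime F Nat.prime_two hF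
  let ψ : Equiv.Perm (Fin 6) →* symplecticGroup (Fin 2) F :=
    (mapHom (e : ZMod 2 →+* F)).comp hom
  have hinj : Function.Injective ψ :=
    (mapHom_injective _ e.injective).comp hom_injective
  have hcard : Nat.card (symplecticGroup (Fin 2) F) = 720 := by
    rw [Cfsg.Agent.S0245.result hF 2]
    decide
  have hcard' : Nat.card (Equiv.Perm (Fin 6)) = 720 := by
    rw [Nat.card_eq_fintype_card, Fintype.card_perm, Fintype.card_fin]; rfl
  haveI : Finite (symplecticGroup (Fin 2) F) := Nat.finite_of_card_ne_zero (by rw [hcard]; norm_num)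
  have hbij : Function.Bijective ψ :=
    (Nat.bijective_iff_injective_and_card ψ).mpr ⟨hinj, by rw [hcard, hcard']⟩
  exact ⟨(MulEquiv.ofBijective ψ hbij).symm⟩

end Cfsg.Agent.S0247
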