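import Mathlib
import Cfsg.Statements.S0250
import Cfsg.Agent.Lib.Helper1.SLCard

set_option autoImplicit false
open Cfsg

namespace Cfsg.Agent.S0250

open scoped LinearAlgebra.Projectivization
open Cfsg.Agent.Lib.Helper1

/-- SL_2(2) is isomorphic to S_3. -/
theorem result {F : Type*} [Field F] [Fintype F] (hF : Fintype.card F = 2) : Nonempty (Matrix.SpecialLinearGroup (Fin 2) F ≃* Equiv.Perm (Fin 3)) := by
  classical
  have hP : Nat.card (ℙ F (Fin 2 → F)) = 3 := by
    rw [Projectivization.card_of_finrank_two F (Fin 2 → F) (by simp), Nat.card_eq_fintype_card, hF]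
  have hfinP : Finite (ℙ F (Fin 2 → F)) := Nat.finite_of_card_ne_zero (by omega)
  let f := MulAction.toPermHom (Matrix.SpecialLinearGroup (Fin 2) F) (ℙ F (Fin 2 → F))
  have hker : f.ker = Subgroup.center (Matrix.SpecialLinearGroup (Fin 2) F) :=
    Projectivization.SL_mulAction_ker
  have hcen : Nat.card (Subgroup.center (Matrix.SpecialLinearGroup (Fin 2) F)) = 1 := by
    rw [card_center_SL_field 2 (by norm_num), hF]
    rfl
  have hinj : Function.Injective f := by
    rw [← MonoidHom.ker_eq_bot_iff, hker]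
    exact Subgroup.card_eq_one.1 hcen
  have hcard : Nat.card (Matrix.SpecialLinearGroup (Fin 2) F) = 6 := by
    have := card_SL_field (F := F) 2 (by norm_num)
    rw [hF, Fin.prod_univ_two] at this
    norm_num at this
    rw [Nat.card_eq_fintype_card]
    exact this
  have hcard' : Nat.card (Equiv.Perm (ℙ F (Fin 2 → F))) = 6 := by
    rw [Nat.card_perm, hP]
    rfl
  have hbij : Function.Bijective f :=
    hinj.bijective_of_nat_card_le (by rw [hcard, hcard'])
  have e1 : Matrix.SpecialLinearGroup (Fin 2) F ≃* Equiv.Perm (ℙ F (Fin 2 → F)) :=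
    MulEquiv.ofBijective f hbij
  have e2 : ℙ F (Fin 2 → F) ≃ Fin 3 := by
    have := Finite.equivFinOfCardEq hP
    exact this
  exact ⟨e1.trans e2.permCongrHom⟩

end Cfsg.Agent.S0250
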