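import Mathlib
import Cfsg.Statements.S0257
import Cfsg.Agent.S0251
import Cfsg.Agent.Lib.Helper1.SL2Quat
import Cfsg.Agent.Lib.Helper1.SLCard

set_option autoImplicit false
open Cfsg

namespace Cfsg.Agent.S0257

open Cfsg.Agent.Lib.Helper1

/-- SL_2(3) has a normal subgroup of index 3 isomorphic to the quaternion group of order 8, and its centre has order 2. -/
theorem result {F : Type*} [Field F] [Fintype F] (hF : Fintype.card F = 3) : (∃ Q : Subgroup (Matrix.SpecialLinearGroup (Fin 2) F), Q.Normal ∧ Q.index = 3 ∧ Nonempty (Q ≃* QuaternionGroup 2)) ∧ Nat.card (Subgroup.center (Matrix.SpecialLinearGroup (Fin 2) F)) = 2 := by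
  have hcen : Nat.card (Subgroup.center (Matrix.SpecialLinearGroup (Fin 2) F)) = 2 := by
    rw [card_center_SL_field 2 (by norm_num), hF]
    rfl
  have hcard : Nat.card (Matrix.SpecialLinearGroup (Fin 2) F) = 24 := by
    have := card_SL_field (F := F) 2 (by norm_num)
    rw [hF, Fin.prod_univ_two] at this
    norm_num at this
    omega
  refine ⟨?_, hcen⟩
  have : Fact (Nat.Prime 2) := ⟨Nat.prime_two⟩
  obtain ⟨e⟩ := Cfsg.Agent.S0251.result hF
  have h4 : Nat.card (Fin 4) = 4 := by simp
  have hVn : (alternatingGroup.kleinFour (Fin 4)).Normal := alternatingGroup.normal_kleinFour h4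
  have hVc : Nat.card (alternatingGroup.kleinFour (Fin 4)) = 4 :=
    alternatingGroup.kleinFour_card_of_card_eq_four h4
  let φ : Matrix.SpecialLinearGroup (Fin 2) F →* alternatingGroup (Fin 4) :=
    e.toMonoidHom.comp (QuotientGroup.mk' (Subgroup.center (Matrix.SpecialLinearGroup (Fin 2) F)))
  have hφ : Function.Surjective φ := e.surjective.comp (QuotientGroup.mk'_surjective _)
  let Q := (alternatingGroup.kleinFour (Fin 4)).comap φ
  have hQn : Q.Normal := hVn.comap φ
  have hA4 : Nat.card (alternatingGroup (Fin 4)) = 12 := by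
    have := two_mul_card_alternatingGroup (α := Fin 4)
    rw [Nat.card_eq_fintype_card]
    rw [Fintype.card_perm, Fintype.card_fin] at this
    have h24 : (4 : ℕ).factorial = 24 := rfl
    omega
  have hQi : Q.index = 3 := by
    rw [Subgroup.index_comap_of_surjective _ hφ]
    have := (alternatingGroup.kleinFour (Fin 4)).card_mul_index
    rw [hVc, hA4] at this
    omega
  have hQc : Nat.card Q = 8 := by
    have := Q.card_mul_index
    rw [hQi, hcard] at this
    omega
  refine ⟨Q, hQn, hQi, ?_⟩
  have hfac : (Nat.card (Matrix.SpecialLinearGroup (Fin 2) F)).factorization 2 = 3 := by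
    rw [hcard, Nat.factorization_def _ Nat.prime_two]
    have : (24 : ℕ) = 2 ^ 3 * 3 := by norm_num
    rw [this, padicValNat.mul (by norm_num) (by norm_num), padicValNat.prime_pow]
    simp [padicValNat.eq_zero_of_not_dvd (show ¬ 2 ∣ 3 by norm_num)]
  let P : Sylow 2 (Matrix.SpecialLinearGroup (Fin 2) F) := Sylow.ofCard Q (by rw [hQc, hfac]; norm_num)
  have hPQ : (P : Subgroup (Matrix.SpecialLinearGroup (Fin 2) F)) = Q := Sylow.coe_ofCard _ _
  obtain ⟨k, hk, ⟨e'⟩⟩ := sylow_two_SL2_quaternion (F := F) (by rw [hF]; decide) P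
  have hk1 : k = 1 := by
    have h1 := Nat.card_congr e'.toEquiv
    rw [hPQ, hQc, Nat.card_eq_fintype_card, QuaternionGroup.card] at h1
    have h2 : 2 ^ k = 2 ^ 1 := by omega
    exact Nat.pow_right_injective le_rfl h2
  subst hk1
  rw [hPQ] at e'
  exact ⟨e'⟩

end Cfsg.Agent.S0257
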