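import Mathlib
import Cfsg.Statements.S0264
import Cfsg.Agent.Lib.Helper1.SLn
import Cfsg.Agent.Lib.Helper1.SLCard

set_option autoImplicit false
open Cfsg

namespace Cfsg.Agent.S0264

open Matrix
open scoped commutatorElement
open Cfsg.Agent.Lib.Helper1

variable {F : Type*} [Field F]

/-- the diagonal matrix `diag(a,1)` in `GL_2`. -/
noncomputable def dA (a : F) (ha : a ≠ 0) : GL (Fin 2) F :=
  ⟨!![a, 0; 0, 1], !![a⁻¹, 0; 0, 1], by simp [Matrix.one_fin_two, ha], by simp [Matrix.one_fin_two, ha]⟩

/-- the diagonal matrix `diag(1,a)` in `GL_2`. -/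
noncomputable def dB (a : F) (ha : a ≠ 0) : GL (Fin 2) F :=
  ⟨!![1, 0; 0, a], !![1, 0; 0, a⁻¹], by simp [Matrix.one_fin_two, ha], by simp [Matrix.one_fin_two, ha]⟩

lemma transvection01 (b : F) :
    ((SpecialLinearGroup.toGL (SpecialLinearGroup.transvection (zero_ne_one : (0 : Fin 2) ≠ 1) b) :
      GL (Fin 2) F) : Matrix (Fin 2) (Fin 2) F) = !![1, b; 0, 1] := by
  ext i j
  fin_cases i <;> fin_cases j <;> simp [SpecialLinearGroup.transvection_coe]

lemma transvection10 (b : F) :
    ((SpecialLinearGroup.toGL (SpecialLinearGroup.transvection (one_ne_zero : (1 : Fin 2) ≠ 0) b) :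
      GL (Fin 2) F) : Matrix (Fin 2) (Fin 2) F) = !![1, 0; b, 1] := by
  ext i j
  fin_cases i <;> fin_cases j <;> simp [SpecialLinearGroup.transvection_coe]

lemma comm_dA (a : F) (ha : a ≠ 0) (b : F) :
    ⁅dA a ha, (SpecialLinearGroup.toGL (SpecialLinearGroup.transvection
        (zero_ne_one : (0 : Fin 2) ≠ 1) b) : GL (Fin 2) F)⁆ =
      SpecialLinearGroup.toGL (SpecialLinearGroup.transvection
        (zero_ne_one : (0 : Fin 2) ≠ 1) ((a - 1) * b)) := by
  rw [commutatorElement_def, ← map_inv, SpecialLinearGroup.transvection_inv]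
  apply Units.ext
  have h1 : ((dA a ha : GL (Fin 2) F) : Matrix (Fin 2) (Fin 2) F) = !![a, 0; 0, 1] := rfl
  have h2 : (((dA a ha)⁻¹ : GL (Fin 2) F) : Matrix (Fin 2) (Fin 2) F) = !![a⁻¹, 0; 0, 1] := rfl
  rw [Units.val_mul, Units.val_mul, Units.val_mul, h1, h2, transvection01, transvection01,
    transvection01]
  simp only [Matrix.mul_fin_two]
  ext i j
  fin_cases i <;> fin_cases j <;> simp [ha] <;> ring

lemma comm_dB (a : F) (ha : a ≠ 0) (b : F) :
    ⁅dB a ha, (SpecialLinearGroup.toGL (SpecialLinearGroup.transvection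
        (one_ne_zero : (1 : Fin 2) ≠ 0) b) : GL (Fin 2) F)⁆ =
      SpecialLinearGroup.toGL (SpecialLinearGroup.transvection
        (one_ne_zero : (1 : Fin 2) ≠ 0) ((a - 1) * b)) := by
  rw [commutatorElement_def, ← map_inv, SpecialLinearGroup.transvection_inv]
  apply Units.ext
  have h1 : ((dB a ha : GL (Fin 2) F) : Matrix (Fin 2) (Fin 2) F) = !![1, 0; 0, a] := rfl
  have h2 : (((dB a ha)⁻¹ : GL (Fin 2) F) : Matrix (Fin 2) (Fin 2) F) = !![1, 0; 0, a⁻¹] := rfl
  rw [Units.val_mul, Units.val_mul, Units.val_mul, h1, h2, transvection10, transvection10,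
    transvection10]
  simp only [Matrix.mul_fin_two]
  ext i j
  fin_cases i <;> fin_cases j <;> simp [ha] <;> ring

/-- In `GL_2(F)` with `|F| > 2`, the image of `SL_2` lies in the derived subgroup. -/
lemma range_le_commutator_two (h : ∃ a : F, a ≠ 0 ∧ a ≠ 1) :
    (SpecialLinearGroup.toGL : SpecialLinearGroup (Fin 2) F →* GL (Fin 2) F).range ≤
      commutator (GL (Fin 2) F) := by
  obtain ⟨a, ha0, ha1⟩ := h
  have ha1' : a - 1 ≠ 0 := sub_ne_zero.2 ha1
  rw [MonoidHom.range_eq_map, Subgroup.map_le_iff_le_comap]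
  rw [show ((commutator (GL (Fin 2) F)).comap (SpecialLinearGroup.toGL :
      SpecialLinearGroup (Fin 2) F →* GL (Fin 2) F)) = ⊤ from ?_]
  apply eq_top_of_transvection_mem
  intro i j hij c
  rw [Subgroup.mem_comap]
  fin_cases i
  · obtain rfl : j = 1 := by fin_cases j <;> tauto
    have := comm_dA a ha0 (c / (a - 1))
    rw [mul_div_cancel₀ _ ha1'] at this
    rw [← this]
    exact Subgroup.commutator_mem_commutator (Subgroup.mem_top _) (Subgroup.mem_top _)
  · obtain rfl : j = 0 := by fin_cases j <;> tauto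
    have := comm_dB a ha0 (c / (a - 1))
    rw [mul_div_cancel₀ _ ha1'] at this
    rw [← this]
    exact Subgroup.commutator_mem_commutator (Subgroup.mem_top _) (Subgroup.mem_top _)

/-- GL_n(F)' = SL_n(F) (as the kernel of det), for every field F and every n, except n = 2 over the field of two elements. -/
theorem result {F : Type*} [Field F] (n : ℕ) (h : n = 2 → ∃ a : F, a ≠ 0 ∧ a ≠ 1) : commutator (Matrix.GeneralLinearGroup (Fin n) F) = (Matrix.GeneralLinearGroup.det : Matrix.GeneralLinearGroup (Fin n) F →* Fˣ).ker := by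
  apply le_antisymm
  · exact Abelianization.commutator_subset_ker _
  · rw [← range_toGL_eq_ker_det]
    rcases Nat.lt_or_ge n 2 with hn | hn
    · -- n = 0 or 1 : SL_n is trivial
      have hsub : Subsingleton (SpecialLinearGroup (Fin n) F) := by
        interval_cases n
        · infer_instance
        · constructor
          intro A B
          ext i j
          have hi : i = 0 := Subsingleton.elim _ _
          have hj : j = 0 := Subsingleton.elim _ _
          subst hi hj
          have hA := A.2
          have hB := B.2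
          rw [Matrix.det_fin_one] at hA hB
          rw [hA, hB]
      rintro x ⟨y, rfl⟩
      rw [Subsingleton.elim y 1, map_one]
      exact Subgroup.one_mem _
    · rcases Nat.eq_or_lt_of_le hn with h2 | h3
      · subst h2
        exact range_le_commutator_two (h rfl)
      · have hperf := commutator_SL_eq_top (F := F) n h3
        rw [MonoidHom.range_eq_map, ← hperf]
        rw [commutator_def, commutator_def, Subgroup.map_commutator]
        exact Subgroup.commutator_mono le_top le_top

end Cfsg.Agent.S0264
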