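import Mathlib
import Cfsg.Statements.S0268

set_option autoImplicit false
open Cfsg

namespace Cfsg.Agent.S0268

theorem two_ne_zero_of_odd_card {F : Type*} [Field F] [Fintype F] (hF : Odd (Fintype.card F)) :
    (2 : F) ≠ 0 := by
  have hchar : ringChar F ≠ 2 := by
    intro h
    have := FiniteField.even_card_of_char_two h
    rcases hF with ⟨k, hk⟩
    omega
  exact Ring.two_ne_zero hchar

/-- For q odd, -1 is the unique involution of SL_2(q). -/
theorem result {F : Type*} [Field F] [Fintype F] (hF : Odd (Fintype.card F)) (g : Matrix.SpecialLinearGroup (Fin 2) F) (h1 : g ≠ 1) (h2 : g * g = 1) : (g : Matrix (Fin 2) (Fin 2) F) = -1 := by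
  have h2ne := two_ne_zero_of_odd_card hF
  have hdet : (g : Matrix (Fin 2) (Fin 2) F).det = 1 := g.2
  rw [Matrix.det_fin_two] at hdet
  have hsq : (g : Matrix (Fin 2) (Fin 2) F) * (g : Matrix (Fin 2) (Fin 2) F) = 1 := by
    have := congrArg (fun x : Matrix.SpecialLinearGroup (Fin 2) F => (x : Matrix (Fin 2) (Fin 2) F)) h2
    simpa using this
  set a := (g : Matrix (Fin 2) (Fin 2) F) 0 0 with ha
  set b := (g : Matrix (Fin 2) (Fin 2) F) 0 1 with hb
  set c := (g : Matrix (Fin 2) (Fin 2) F) 1 0 with hc
  set d := (g : Matrix (Fin 2) (Fin 2) F) 1 1 with hd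
  have e00 : a * a + b * c = 1 := by
    have := congrFun (congrFun hsq 0) 0
    simpa [Matrix.mul_apply, Fin.sum_univ_two] using this
  have e01 : a * b + b * d = 0 := by
    have := congrFun (congrFun hsq 0) 1
    simpa [Matrix.mul_apply, Fin.sum_univ_two] using this
  have e10 : c * a + d * c = 0 := by
    have := congrFun (congrFun hsq 1) 0
    simpa [Matrix.mul_apply, Fin.sum_univ_two] using this
  have e11 : c * b + d * d = 1 := by
    have := congrFun (congrFun hsq 1) 1
    simpa [Matrix.mul_apply, Fin.sum_univ_two] using this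
  have hat : a * (a + d) = 2 := by linear_combination e00 + hdet
  have hdt : d * (a + d) = 2 := by linear_combination e11 + hdet
  have ht : a + d ≠ 0 := by
    intro h
    rw [h, mul_zero] at hat
    exact h2ne hat.symm
  have hb0 : b = 0 := by
    have : b * (a + d) = 0 := by linear_combination e01
    exact (mul_eq_zero.1 this).resolve_right ht
  have hc0 : c = 0 := by
    have : c * (a + d) = 0 := by linear_combination e10
    exact (mul_eq_zero.1 this).resolve_right ht
  have had : a = d := by
    have : (a - d) * (a + d) = 0 := by linear_combination hat - hdt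
    exact sub_eq_zero.1 ((mul_eq_zero.1 this).resolve_right ht)
  have ha2 : (a - 1) * (a + 1) = 0 := by
    rw [hb0] at e00
    linear_combination e00
  have ha1 : a = -1 := by
    rcases mul_eq_zero.1 ha2 with h | h
    · exfalso
      apply h1
      apply Subtype.ext
      ext i j
      have ha' : a = 1 := sub_eq_zero.1 h
      fin_cases i <;> fin_cases j <;> simp
      · exact ha'
      · exact hb0
      · exact hc0
      · rw [← hd, ← had]; exact ha'
    · exact eq_neg_of_add_eq_zero_left h
  ext i j
  fin_cases i <;> fin_cases j <;> simp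
  · exact ha1
  · exact hb0
  · exact hc0
  · rw [← hd, ← had]; exact ha1

end Cfsg.Agent.S0268
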