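import Mathlib
import Cfsg.Statements.S0276
import Cfsg.Agent.Lib.Helper1.SL2Quat
import Cfsg.Agent.Lib.Helper1.SLCard

set_option autoImplicit false
open Cfsg

namespace Cfsg.Agent.S0276

open Cfsg.Agent.Lib.Helper1 Matrix

theorem factorization_two_pow_mul_odd (k t : ℕ) (ht : ¬ 2 ∣ t) :
    (2 ^ k * t).factorization 2 = k := by
  have ht0 : t ≠ 0 := by rintro rfl; exact ht (dvd_zero 2)
  have : Fact (Nat.Prime 2) := ⟨Nat.prime_two⟩
  rw [Nat.factorization_def _ Nat.prime_two, padicValNat.mul (by positivity) ht0,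
    padicValNat.prime_pow, padicValNat.eq_zero_of_not_dvd ht, add_zero]

variable {F : Type*} [Field F] [Fintype F]

/-- `q (q^2-1) = 8 t` with `t` odd, when `q ≡ ±3 mod 8`. -/
theorem arith (q : ℕ) (hq : q % 8 = 3 ∨ q % 8 = 5) :
    ∃ t : ℕ, ¬ 2 ∣ t ∧ q * (q ^ 2 - 1) = 2 ^ 3 * t := by
  rcases hq with h | h
  · obtain ⟨m, rfl⟩ : ∃ m, q = 8 * m + 3 := ⟨q / 8, by omega⟩
    refine ⟨(8 * m + 3) * (4 * m + 1) * (2 * m + 1), ?_, ?_⟩
    · rw [Nat.Prime.dvd_mul Nat.prime_two, Nat.Prime.dvd_mul Nat.prime_two]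
      omega
    · have : (8 * m + 3) ^ 2 - 1 = (8 * m + 2) * (8 * m + 4) := by
        have : (8 * m + 3) ^ 2 = (8 * m + 2) * (8 * m + 4) + 1 := by ring
        omega
      rw [this]; ring
  · obtain ⟨m, rfl⟩ : ∃ m, q = 8 * m + 5 := ⟨q / 8, by omega⟩
    refine ⟨(8 * m + 5) * (2 * m + 1) * (4 * m + 3), ?_, ?_⟩
    · rw [Nat.Prime.dvd_mul Nat.prime_two, Nat.Prime.dvd_mul Nat.prime_two]
      omega
    · have : (8 * m + 5) ^ 2 - 1 = (8 * m + 4) * (8 * m + 6) := by
        have : (8 * m + 5) ^ 2 = (8 * m + 4) * (8 * m + 6) + 1 := by ring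
        omega
      rw [this]; ring

theorem card_SL2 : Nat.card (SpecialLinearGroup (Fin 2) F) =
    Fintype.card F * (Fintype.card F ^ 2 - 1) := by
  have h := card_SL_field (F := F) 2 (by norm_num)
  rw [Fin.prod_univ_two] at h
  simp only [Fin.val_zero, Fin.val_one, pow_zero, pow_one] at h
  have hq : 1 < Fintype.card F := Fintype.one_lt_card
  have h1 : Fintype.card F ^ 2 - Fintype.card F = Fintype.card F * (Fintype.card F - 1) := by
    rw [Nat.mul_sub, mul_one, pow_two]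
  rw [h1] at h
  have h2 : (Fintype.card F - 1) * Nat.card (SpecialLinearGroup (Fin 2) F) =
      (Fintype.card F - 1) * (Fintype.card F * (Fintype.card F ^ 2 - 1)) := by
    rw [h]; ring
  exact Nat.eq_of_mul_eq_mul_left (by omega) h2


theorem odd_card_of_mod (hq : Fintype.card F % 8 = 3 ∨ Fintype.card F % 8 = 5) :
    Odd (Fintype.card F) := by
  rw [Nat.odd_iff]; omega

/-- `2`-elements of `SL_2(q)`, `q ≡ ±3 mod 8`, have order dividing `4`. -/
theorem pow_four_eq_one (hq : Fintype.card F % 8 = 3 ∨ Fintype.card F % 8 = 5)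
    (g : SpecialLinearGroup (Fin 2) F) (n : ℕ) (hg : g ^ 2 ^ n = 1) : g ^ 4 = 1 := by
  have : Fact (Nat.Prime 2) := ⟨Nat.prime_two⟩
  have hP : IsPGroup 2 (Subgroup.zpowers g) := by
    rintro ⟨z, hz⟩
    refine ⟨n, Subtype.ext ?_⟩
    obtain ⟨k, rfl⟩ := Subgroup.mem_zpowers_iff.1 hz
    change (g ^ k) ^ (2 ^ n) = 1
    rw [← zpow_natCast, ← _root_.zpow_mul, mul_comm, _root_.zpow_mul, zpow_natCast, hg,
      _root_.one_zpow]
  obtain ⟨S, hS⟩ := hP.exists_le_sylow
  obtain ⟨t, ht, harith⟩ := arith (Fintype.card F) hq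
  have hScard : Nat.card S = 8 := by
    rw [Sylow.card_eq_multiplicity, card_SL2, harith, factorization_two_pow_mul_odd 3 t ht]
    norm_num
  obtain ⟨k, hk, ⟨e⟩⟩ := sylow_two_SL2_quaternion (odd_card_of_mod hq) S
  have hk1 : k = 1 := by
    have h1 := Nat.card_congr e.toEquiv
    rw [hScard, Nat.card_eq_fintype_card, QuaternionGroup.card] at h1
    have h2 : 2 ^ k = 2 ^ 1 := by omega
    exact Nat.pow_right_injective le_rfl h2
  subst hk1
  have hexp : Monoid.exponent (QuaternionGroup (2 ^ 1)) = 4 := by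
    rw [QuaternionGroup.exponent]; rfl
  have hs : (⟨g, hS (Subgroup.mem_zpowers g)⟩ : (S : Subgroup _)) ^ 4 = 1 := by
    apply e.injective
    rw [map_pow, map_one, ← hexp]
    exact Monoid.pow_exponent_eq_one _
  exact congrArg Subtype.val hs

theorem neg_one_mem_center :
    (-1 : SpecialLinearGroup (Fin 2) F) ∈ Subgroup.center (SpecialLinearGroup (Fin 2) F) := by
  rw [Subgroup.mem_center_iff]
  intro g
  rw [mul_neg, mul_one, neg_mul, one_mul]

/-- For q = 3 or 5 mod 8 the Sylow 2-subgroups of PSL_2(q) are elementary abelian of order 4. -/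
theorem result {F : Type*} [Field F] [Fintype F] {q : ℕ} (hF : Fintype.card F = q) (hq : q % 8 = 3 ∨ q % 8 = 5) (P : Sylow 2 (Matrix.ProjectiveSpecialLinearGroup (Fin 2) F)) : IsKleinFour (P : Subgroup (Matrix.ProjectiveSpecialLinearGroup (Fin 2) F)) := by
  subst hF
  have : Fact (Nat.Prime 2) := ⟨Nat.prime_two⟩
  have hodd := odd_card_of_mod hq
  have h2 : (2 : F) ≠ 0 := two_ne_zero_of_odd_card hodd
  obtain ⟨t, ht, harith⟩ := arith (Fintype.card F) hq
  have hcen : Nat.card (Subgroup.center (SpecialLinearGroup (Fin 2) F)) = 2 := by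
    rw [card_center_SL_field 2 (by norm_num)]
    have : 2 ∣ Fintype.card F - 1 := by
      rcases hodd with ⟨k, hk⟩
      exact ⟨k, by omega⟩
    exact Nat.gcd_eq_left this
  have hPSL : Nat.card (Matrix.ProjectiveSpecialLinearGroup (Fin 2) F) = 2 ^ 2 * t := by
    have h1 := (Subgroup.center (SpecialLinearGroup (Fin 2) F)).card_mul_index
    rw [hcen, card_SL2, harith] at h1
    have h3 : (Subgroup.center (SpecialLinearGroup (Fin 2) F)).index =
        Nat.card (Matrix.ProjectiveSpecialLinearGroup (Fin 2) F) := rfl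
    rw [h3] at h1
    omega
  have hPcard : Nat.card (P : Subgroup (Matrix.ProjectiveSpecialLinearGroup (Fin 2) F)) = 4 := by
    rw [Sylow.card_eq_multiplicity, hPSL, factorization_two_pow_mul_odd 2 t ht]
    norm_num
  have hnt : Nontrivial (P : Subgroup (Matrix.ProjectiveSpecialLinearGroup (Fin 2) F)) := by
    have hfin : Finite (P : Subgroup (Matrix.ProjectiveSpecialLinearGroup (Fin 2) F)) :=
      Nat.finite_of_card_ne_zero (by omega)
    rw [← Finite.one_lt_card_iff_nontrivial, hPcard]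
    norm_num
  refine ⟨hPcard, ?_⟩
  rw [Monoid.exponent_eq_prime_iff Nat.prime_two]
  rintro ⟨x, hx⟩ hne
  apply orderOf_eq_prime
  swap
  · exact hne
  apply Subtype.ext
  change x ^ 2 = 1
  obtain ⟨g, rfl⟩ := QuotientGroup.mk_surjective x
  -- the element has order dividing 4 in PSL
  have hx4 : (⟨(g : Matrix.ProjectiveSpecialLinearGroup (Fin 2) F), hx⟩ :
      (P : Subgroup (Matrix.ProjectiveSpecialLinearGroup (Fin 2) F))) ^ 4 = 1 := by
    have h0 : (⟨(g : Matrix.ProjectiveSpecialLinearGroup (Fin 2) F), hx⟩ :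
      (P : Subgroup (Matrix.ProjectiveSpecialLinearGroup (Fin 2) F))) ^
        Nat.card (P : Subgroup (Matrix.ProjectiveSpecialLinearGroup (Fin 2) F)) = 1 :=
      pow_card_eq_one'
    rwa [hPcard] at h0
  have hx4' : ((g ^ 4 : SpecialLinearGroup (Fin 2) F) :
      Matrix.ProjectiveSpecialLinearGroup (Fin 2) F) = 1 := by
    have := congrArg Subtype.val hx4
    simpa using this
  have hg4 : g ^ 4 ∈ Subgroup.center (SpecialLinearGroup (Fin 2) F) :=
    (QuotientGroup.eq_one_iff _).1 hx4'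
  have hg8 : g ^ 2 ^ 3 = 1 := by
    have h1 : (⟨g ^ 4, hg4⟩ : Subgroup.center (SpecialLinearGroup (Fin 2) F)) ^ 2 = 1 := by
      have h0 : (⟨g ^ 4, hg4⟩ : Subgroup.center (SpecialLinearGroup (Fin 2) F)) ^
        Nat.card (Subgroup.center (SpecialLinearGroup (Fin 2) F)) = 1 := pow_card_eq_one'
      rwa [hcen] at h0
    have h3 := congrArg Subtype.val h1
    simp only [Subgroup.coe_pow, Subgroup.coe_one] at h3
    rw [← h3, ← pow_mul]
    norm_num
  have hg4' : g ^ 4 = 1 := pow_four_eq_one hq g 3 hg8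
  have hsq : (g ^ 2) * (g ^ 2) = 1 := by rw [← pow_add]; exact hg4'
  rcases sl2_mul_self_eq_one h2 _ hsq with h | h
  · rw [← QuotientGroup.mk_pow, h]; rfl
  · rw [← QuotientGroup.mk_pow, h]
    exact (QuotientGroup.eq_one_iff _).2 neg_one_mem_center

end Cfsg.Agent.S0276
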