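import Cfsg.Statements.S0295
import Mathlib
import Cfsg.Agent.Lib.Helper2.LongRoot18
import Cfsg.Agent.Lib.Helper2.QuadStd
import Cfsg.Agent.Lib.Helper2.OrthCard1

set_option autoImplicit false
open Cfsg

namespace Cfsg.Agent.S0295

/-- PΩ_{2m+1}(q) is simple for q odd and m at least 3. -/
theorem result {F : Type*} [Field F] [Fintype F] (hodd : Odd (Fintype.card F)) (m : ℕ) (hm : 3 ≤ m) : IsSimpleGroup (Cfsg.POmega F (Cfsg.quadFormOdd m F)) := by
  have h2 : (2 : F) ≠ 0 := by
    intro h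
    have hch : ringChar F = 2 :=
      CharP.ringChar_of_prime_eq_zero Nat.prime_two (by exact_mod_cast h)
    have := FiniteField.even_card_of_char_two hch
    rw [Nat.odd_iff] at hodd
    omega
  have hcoe := Cfsg.Agent.Lib.Helper2.OrthCard.QOd_coe (F := F) m
  rw [← hcoe]
  have hcard : Fintype.card (Unit ⊕ (Fin m ⊕ Fin m)) = 2 * m + 1 := by
    rw [Fintype.card_sum, Fintype.card_sum, Fintype.card_fin, Fintype.card_unit]; omega
  exact Cfsg.Agent.Lib.Helper2.LongRoot.simple_POmega
    (Cfsg.Agent.Lib.Helper2.OrthCard.QOd_nondeg h2 m) (by rw [hcard]; omega)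

end Cfsg.Agent.S0295
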