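import Cfsg.Statements.S0296
import Mathlib
import Cfsg.Agent.Lib.Helper2.LongRoot18
import Cfsg.Agent.Lib.Helper2.QuadStd
import Cfsg.Agent.Lib.Helper2.OrthCard1

set_option autoImplicit false
open Cfsg

namespace Cfsg.Agent.S0296

/-- PΩ^+_{2m}(q) is simple for m at least 4. -/
theorem result {F : Type*} [Field F] [Fintype F] (m : ℕ) (hm : 4 ≤ m) : IsSimpleGroup (Cfsg.POmega F (Cfsg.quadFormPlus m F)) := by
  have hcoe := Cfsg.Agent.Lib.Helper2.QuadStd.QP_coe (F := F) m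
  rw [← hcoe]
  have hcard : Fintype.card (Fin m ⊕ Fin m) = 2 * m := by
    rw [Fintype.card_sum, Fintype.card_fin]; ring
  exact Cfsg.Agent.Lib.Helper2.LongRoot.simple_POmega
    (Cfsg.Agent.Lib.Helper2.QuadStd.QP_nondeg m) (by rw [hcard]; omega)

end Cfsg.Agent.S0296
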