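import Cfsg.Statements.S0304
import Mathlib
import Cfsg.Agent.Lib.Helper2.OddSp3

set_option autoImplicit false
open Cfsg

namespace Cfsg.Agent.S0304

/-- In characteristic 2, O_{2m+1}(q) is isomorphic to Sp_{2m}(q). -/
theorem result {F : Type*} [Field F] [Fintype F] [CharP F 2] (m : ℕ) : Nonempty (Cfsg.isometryGroup F (Cfsg.quadFormOdd m F) ≃* Matrix.symplecticGroup (Fin m) F) := by
  have h2 : (2 : F) = 0 := CharTwo.two_eq_zero
  have hsq : ∀ a : F, IsSquare a := fun a =>
    FiniteField.isSquare_of_char_two (ringChar.eq F 2) a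
  exact ⟨Cfsg.Agent.Lib.Helper2.OddSp.equivSp h2 hsq⟩

end Cfsg.Agent.S0304
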