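import Cfsg.Statements.S0305
import Cfsg.Agent.Lib.Helper1.DihedralIso

set_option autoImplicit false
open Cfsg

namespace Cfsg.Agent.S0305

variable {F : Type*} [Field F]

/-- a general two by two matrix on the index type `Fin 1 ⊕ Fin 1`. -/
def mk2 (a b c d : F) : Matrix (Fin 1 ⊕ Fin 1) (Fin 1 ⊕ Fin 1) F :=
  Matrix.of fun i j => Sum.elim (fun _ => Sum.elim (fun _ => a) (fun _ => b) j)
    (fun _ => Sum.elim (fun _ => c) (fun _ => d) j) i

theorem mk2_mul (a b c d a' b' c' d' : F) :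
    mk2 a b c d * mk2 a' b' c' d' =
      mk2 (a * a' + b * c') (a * b' + b * d') (c * a' + d * c') (c * b' + d * d') := by
  ext i j
  rcases i with i | i <;> rcases j with j | j <;>
    simp [mk2, Matrix.mul_apply, Fintype.sum_sum_type]

theorem mk2_one : mk2 (1 : F) 0 0 1 = 1 := by
  ext i j
  rcases i with i | i <;> rcases j with j | j <;>
    simp [mk2, Matrix.one_apply, Subsingleton.elim i j]

omit [Field F] in
theorem eq_mk2 (M : Matrix (Fin 1 ⊕ Fin 1) (Fin 1 ⊕ Fin 1) F) :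
    M = mk2 (M (.inl 0) (.inl 0)) (M (.inl 0) (.inr 0)) (M (.inr 0) (.inl 0)) (M (.inr 0) (.inr 0)) := by
  ext i j
  rcases i with i | i <;> rcases j with j | j <;>
    simp [mk2, Subsingleton.elim i 0, Subsingleton.elim j 0]

theorem mk2_mulVec (a b c d : F) (v : Fin 1 ⊕ Fin 1 → F) :
    Matrix.mulVec (mk2 a b c d) v = Sum.elim (fun _ => a * v (.inl 0) + b * v (.inr 0))
      (fun _ => c * v (.inl 0) + d * v (.inr 0)) := by
  funext i
  rcases i with i | i <;>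
    simp [mk2, Matrix.mulVec, dotProduct, Fintype.sum_sum_type]

theorem quad_mk2 (a b c d : F) (v : Fin 1 ⊕ Fin 1 → F) :
    Cfsg.quadFormPlus 1 F (Matrix.mulVec (mk2 a b c d) v) =
      (a * v (.inl 0) + b * v (.inr 0)) * (c * v (.inl 0) + d * v (.inr 0)) := by
  rw [mk2_mulVec]
  simp [Cfsg.quadFormPlus]

/-- the diagonal element `diag(a⁻¹, a)`. -/
def dg (a : Fˣ) : Matrix.GeneralLinearGroup (Fin 1 ⊕ Fin 1) F where
  val := mk2 (↑a⁻¹) 0 0 ↑a
  inv := mk2 ↑a 0 0 ↑a⁻¹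
  val_inv := by rw [mk2_mul]; simp [mk2_one]
  inv_val := by rw [mk2_mul]; simp [mk2_one]

/-- the antidiagonal element. -/
def ad (a : Fˣ) : Matrix.GeneralLinearGroup (Fin 1 ⊕ Fin 1) F where
  val := mk2 0 ↑a ↑a⁻¹ 0
  inv := mk2 0 ↑a ↑a⁻¹ 0
  val_inv := by rw [mk2_mul]; simp [mk2_one]
  inv_val := by rw [mk2_mul]; simp [mk2_one]

theorem dg_mem (a : Fˣ) : dg a ∈ Cfsg.isometryGroup F (Cfsg.quadFormPlus 1 F) := by
  intro u _
  change Cfsg.quadFormPlus 1 F (Matrix.mulVec (mk2 (↑a⁻¹) 0 0 ↑a) u) = Cfsg.quadFormPlus 1 F u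
  rw [quad_mk2]
  simp only [Cfsg.quadFormPlus, Finset.univ_unique, Fin.default_eq_zero, Finset.sum_singleton]
  have : (↑a⁻¹ : F) * ↑a = 1 := by simp
  linear_combination (u (.inl 0) * u (.inr 0)) * this

theorem ad_mem (a : Fˣ) : ad a ∈ Cfsg.isometryGroup F (Cfsg.quadFormPlus 1 F) := by
  intro u _
  change Cfsg.quadFormPlus 1 F (Matrix.mulVec (mk2 0 ↑a (↑a⁻¹) 0) u) = Cfsg.quadFormPlus 1 F u
  rw [quad_mk2]
  simp only [Cfsg.quadFormPlus, Finset.univ_unique, Fin.default_eq_zero, Finset.sum_singleton]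
  have : (↑a⁻¹ : F) * ↑a = 1 := by simp
  linear_combination (u (.inl 0) * u (.inr 0)) * this

theorem ad_mul_ad (a b : Fˣ) : ad a * ad b = dg (a⁻¹ * b) := by
  apply Units.ext
  change mk2 (0 : F) (a : F) ((a⁻¹ : Fˣ) : F) 0 * mk2 0 (b : F) ((b⁻¹ : Fˣ) : F) 0 =
    mk2 (((a⁻¹ * b)⁻¹ : Fˣ) : F) 0 0 ((a⁻¹ * b : Fˣ) : F)
  rw [mk2_mul]
  simp [mul_comm]

theorem dg_mul_dg (a b : Fˣ) : dg a * dg b = dg (a * b) := by
  apply Units.ext
  change mk2 ((a⁻¹ : Fˣ) : F) 0 0 (a : F) * mk2 ((b⁻¹ : Fˣ) : F) 0 0 (b : F) =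
    mk2 (((a * b)⁻¹ : Fˣ) : F) 0 0 ((a * b : Fˣ) : F)
  rw [mk2_mul]
  simp [mul_comm]

theorem dg_one : dg (1 : Fˣ) = 1 := by
  apply Units.ext
  change mk2 (((1 : Fˣ)⁻¹ : Fˣ) : F) 0 0 ((1 : Fˣ) : F) = 1
  simp [mk2_one]

/-- the diagonal torus as a hom. -/
def dgHom : Fˣ →* Matrix.GeneralLinearGroup (Fin 1 ⊕ Fin 1) F where
  toFun := dg
  map_one' := dg_one
  map_mul' a b := (dg_mul_dg a b).symm

theorem dgHom_injective : Function.Injective (dgHom (F := F)) := by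
  intro a b h
  have h1 : (dg a : Matrix (Fin 1 ⊕ Fin 1) (Fin 1 ⊕ Fin 1) F) (.inr 0) (.inr 0)
      = (dg b : Matrix (Fin 1 ⊕ Fin 1) (Fin 1 ⊕ Fin 1) F) (.inr 0) (.inr 0) := by
    change dg a = dg b at h
    rw [h]
  apply Units.ext
  simpa [dg, mk2] using h1

/-- shape of an isometry. -/
theorem shape (g : Matrix.GeneralLinearGroup (Fin 1 ⊕ Fin 1) F)
    (hg : g ∈ Cfsg.isometryGroup F (Cfsg.quadFormPlus 1 F)) :
    (∃ a : Fˣ, g = dg a) ∨ (∃ a : Fˣ, g = ad a) := by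
  set M : Matrix (Fin 1 ⊕ Fin 1) (Fin 1 ⊕ Fin 1) F := ↑g with hM
  have hM2 := eq_mk2 M
  set a := M (.inl 0) (.inl 0)
  set b := M (.inl 0) (.inr 0)
  set c := M (.inr 0) (.inl 0)
  set d := M (.inr 0) (.inr 0)
  have key : ∀ u : Fin 1 ⊕ Fin 1 → F,
      (a * u (.inl 0) + b * u (.inr 0)) * (c * u (.inl 0) + d * u (.inr 0)) =
        u (.inl 0) * u (.inr 0) := by
    intro u
    have h := hg u u
    change Cfsg.quadFormPlus 1 F (Matrix.mulVec M u) = Cfsg.quadFormPlus 1 F u at h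
    rw [hM2, quad_mk2] at h
    rw [h]
    simp [Cfsg.quadFormPlus]
  have h10 := key (Sum.elim (fun _ => 1) (fun _ => 0))
  have h01 := key (Sum.elim (fun _ => 0) (fun _ => 1))
  have h11 := key (Sum.elim (fun _ => 1) (fun _ => 1))
  simp only [Sum.elim_inl, Sum.elim_inr, mul_one, mul_zero, add_zero, zero_add] at h10 h01 h11
  have hadbc : a * d + b * c = 1 := by linear_combination h11 - h10 - h01
  rcases mul_eq_zero.mp h10 with ha | hc
  · right
    have hbc : b * c = 1 := by rw [ha] at hadbc; simpa using hadbc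
    have hb : b ≠ 0 := fun h => by rw [h] at hbc; simp at hbc
    have hd : d = 0 := by
      rcases mul_eq_zero.mp h01 with h | h
      · exact absurd h hb
      · exact h
    refine ⟨Units.mk0 b hb, ?_⟩
    apply Units.ext
    change M = mk2 0 ↑(Units.mk0 b hb) ↑(Units.mk0 b hb)⁻¹ 0
    rw [hM2, ha, hd]
    congr 1
    rw [Units.val_inv_eq_inv_val, Units.val_mk0]
    exact eq_inv_of_mul_eq_one_right hbc
  · left
    have had : a * d = 1 := by rw [hc] at hadbc; simpa using hadbc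
    have hd : d ≠ 0 := fun h => by rw [h] at had; simp at had
    have hb : b = 0 := by
      rcases mul_eq_zero.mp h01 with h | h
      · exact h
      · exact absurd h hd
    refine ⟨Units.mk0 d hd, ?_⟩
    apply Units.ext
    change M = mk2 ↑(Units.mk0 d hd)⁻¹ 0 0 ↑(Units.mk0 d hd)
    rw [hM2, hb, hc]
    congr 1
    rw [Units.val_inv_eq_inv_val, Units.val_mk0]
    exact eq_inv_of_mul_eq_one_left had

theorem ad_ne_one (a : Fˣ) : ad a ≠ 1 := by
  intro h
  have h1 : (ad a : Matrix (Fin 1 ⊕ Fin 1) (Fin 1 ⊕ Fin 1) F) (.inl 0) (.inl 0)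
      = (1 : Matrix (Fin 1 ⊕ Fin 1) (Fin 1 ⊕ Fin 1) F) (.inl 0) (.inl 0) := by
    rw [h]; rfl
  simp [ad, mk2] at h1

theorem ad_sq (a : Fˣ) : ad a * ad a = 1 := by
  rw [ad_mul_ad, inv_mul_cancel, dg_one]

/-- GO^+_2(q) is dihedral of order 2(q-1). -/
theorem result {F : Type*} [Field F] [Fintype F] {q : ℕ} (hF : Fintype.card F = q) : Nonempty (Cfsg.isometryGroup F (Cfsg.quadFormPlus 1 F) ≃* DihedralGroup (q - 1)) := by
  classical
  have hq2 : 2 ≤ q := by rw [← hF]; exact Fintype.one_lt_card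
  obtain ⟨ζ, hζ⟩ := IsCyclic.exists_generator (α := Fˣ)
  have hord : orderOf ζ = q - 1 := by
    rw [orderOf_eq_card_of_forall_mem_zpowers hζ, Nat.card_eq_fintype_card, Fintype.card_units, hF]
  let x : Cfsg.isometryGroup F (Cfsg.quadFormPlus 1 F) := ⟨ad 1, ad_mem 1⟩
  let y : Cfsg.isometryGroup F (Cfsg.quadFormPlus 1 F) := ⟨ad ζ, ad_mem ζ⟩
  have hxy : x * y = ⟨dg ζ, dg_mem ζ⟩ := Subtype.ext (by simpa using ad_mul_ad 1 ζ)
  have hoxy : orderOf (x * y) = q - 1 := by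
    rw [hxy, ← Subgroup.orderOf_coe]
    change orderOf (dgHom ζ) = _
    rw [orderOf_injective dgHom dgHom_injective, hord]
  have hx : orderOf x = 2 := by
    apply orderOf_eq_prime
    · rw [sq]; exact Subtype.ext (ad_sq 1)
    · intro h; exact ad_ne_one 1 (congrArg Subtype.val h)
  have hy : orderOf y = 2 := by
    apply orderOf_eq_prime
    · rw [sq]; exact Subtype.ext (ad_sq ζ)
    · intro h; exact ad_ne_one ζ (congrArg Subtype.val h)
  have hne : orderOf (x * y) ≠ 0 := by rw [hoxy]; omega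
  have he := Cfsg.Agent.Lib.Helper1.DihedralIso.closure_equiv_dihedral x y hx hy hne
  rw [hoxy] at he
  obtain ⟨e⟩ := he
  have hcard : Nat.card (Cfsg.isometryGroup F (Cfsg.quadFormPlus 1 F)) ≤ 2 * (q - 1) := by
    let h : Fˣ × Bool → Cfsg.isometryGroup F (Cfsg.quadFormPlus 1 F) := fun p =>
      if p.2 then ⟨ad p.1, ad_mem p.1⟩ else ⟨dg p.1, dg_mem p.1⟩
    have hsurj : Function.Surjective h := by
      rintro ⟨g, hg⟩
      rcases shape g hg with ⟨a, rfl⟩ | ⟨a, rfl⟩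
      · exact ⟨(a, false), by simp [h]⟩
      · exact ⟨(a, true), by simp [h]⟩
    have := Nat.card_le_card_of_surjective h hsurj
    rw [Nat.card_prod, Nat.card_eq_fintype_card (α := Fˣ), Nat.card_eq_fintype_card (α := Bool),
      Fintype.card_units, Fintype.card_bool, hF] at this
    omega
  have htop : Subgroup.closure ({x, y} : Set (Cfsg.isometryGroup F (Cfsg.quadFormPlus 1 F))) = ⊤ := by
    apply Subgroup.eq_top_of_le_card
    rw [Nat.card_congr e.toEquiv, DihedralGroup.nat_card]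
    exact hcard
  exact ⟨(Subgroup.topEquiv.symm.trans (MulEquiv.subgroupCongr htop.symm)).trans e⟩

end Cfsg.Agent.S0305
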