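import Mathlib
import Cfsg.Statements.S0307

set_option autoImplicit false
open Cfsg

namespace Cfsg.Agent.S0307

open Matrix

/-- PSL_n(q) is normal in PGL_n(q) with cyclic quotient of order gcd(n, q-1): the image of the natural map PSL_n → PGL_n is the kernel of a surjective homomorphism onto the cyclic group of that order. -/
theorem result {F : Type*} [Field F] [Fintype F] {q : ℕ} (hF : Fintype.card F = q) (n : ℕ) (hn : 1 ≤ n) : ∃ g : Matrix.ProjGenLinGroup (Fin n) F →* Multiplicative (ZMod (Nat.gcd n (q - 1))), Function.Surjective g ∧ g.ker = (Matrix.ProjectiveSpecialLinearGroup.toPGL : Matrix.ProjectiveSpecialLinearGroup (Fin n) F →* Matrix.ProjGenLinGroup (Fin n) F).range := by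
  subst hF
  have : Nonempty (Fin n) := ⟨⟨0, hn⟩⟩
  -- the subgroup of n-th powers
  set N : Subgroup Fˣ := (powMonoidHom n : Fˣ →* Fˣ).range with hN
  have hQcyc : IsCyclic (Fˣ ⧸ N) := inferInstance
  have hcard : Nat.card (Fˣ ⧸ N) = Nat.gcd n (Fintype.card F - 1) := by
    have h1 : Nat.card (Fˣ ⧸ N) = N.index := rfl
    rw [h1, hN, IsCyclic.index_powMonoidHom_range, Nat.card_units, Nat.card_eq_fintype_card,
      Nat.gcd_comm]
  obtain ⟨e⟩ : Nonempty (Multiplicative (ZMod (Nat.gcd n (Fintype.card F - 1))) ≃* (Fˣ ⧸ N)) := by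
    rw [← hcard]
    exact ⟨zmodCyclicMulEquiv hQcyc⟩
  let φ : Fˣ →* Multiplicative (ZMod (Nat.gcd n (Fintype.card F - 1))) :=
    e.symm.toMonoidHom.comp (QuotientGroup.mk' N)
  have hφsurj : Function.Surjective φ := e.symm.surjective.comp (QuotientGroup.mk'_surjective N)
  have hφker : ∀ x : Fˣ, φ x = 1 ↔ ∃ u : Fˣ, u ^ n = x := by
    intro x
    change e.symm (QuotientGroup.mk' N x) = 1 ↔ _
    rw [EmbeddingLike.map_eq_one_iff, QuotientGroup.mk'_apply, QuotientGroup.eq_one_iff, hN,
      MonoidHom.mem_range]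
    rfl
  -- the homomorphism on GL
  let ψ : GL (Fin n) F →* Multiplicative (ZMod (Nat.gcd n (Fintype.card F - 1))) :=
    φ.comp GeneralLinearGroup.det
  have hψ : Subgroup.center (GL (Fin n) F) ≤ ψ.ker := by
    rw [GeneralLinearGroup.center_eq_range_scalar]
    rintro _ ⟨u, rfl⟩
    rw [MonoidHom.mem_ker]
    change φ (GeneralLinearGroup.det (GeneralLinearGroup.scalar (Fin n) u)) = 1
    rw [GeneralLinearGroup.det_scalar, Fintype.card_fin, hφker]
    exact ⟨u, rfl⟩
  let g : Matrix.ProjGenLinGroup (Fin n) F →* Multiplicative (ZMod (Nat.gcd n (Fintype.card F - 1))) :=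
    QuotientGroup.lift (Subgroup.center (GL (Fin n) F)) ψ hψ
  have hg : ∀ A : GL (Fin n) F, g (ProjGenLinGroup.mk A) = φ (GeneralLinearGroup.det A) := fun A => rfl
  refine ⟨g, ?_, ?_⟩
  · intro y
    obtain ⟨r, hr⟩ := hφsurj y
    obtain ⟨A, hA⟩ := GeneralLinearGroup.det_surjective (n := Fin n) r
    exact ⟨ProjGenLinGroup.mk A, by rw [hg, hA, hr]⟩
  · ext x
    rw [MonoidHom.mem_ker, MonoidHom.mem_range]
    constructor
    · intro hx
      induction x using Matrix.ProjGenLinGroup.induction_on with | mk A =>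
      rw [hg, hφker] at hx
      obtain ⟨u, hu⟩ := hx
      -- A * scalar u⁻¹ has determinant one
      set A' : GL (Fin n) F := A * GeneralLinearGroup.scalar (Fin n) u⁻¹ with hA'
      have hdet : GeneralLinearGroup.det A' = 1 := by
        rw [hA', map_mul, GeneralLinearGroup.det_scalar, Fintype.card_fin, ← hu, inv_pow,
          mul_inv_cancel]
      have hdet' : (A' : Matrix (Fin n) (Fin n) F).det = 1 := by
        have := congrArg Units.val hdet
        simpa using this
      obtain ⟨s, hs⟩ : ∃ s : SpecialLinearGroup (Fin n) F, SpecialLinearGroup.toGL s = A' :=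
        ⟨⟨(A' : Matrix (Fin n) (Fin n) F), hdet'⟩, Units.ext rfl⟩
      refine ⟨QuotientGroup.mk s, ?_⟩
      rw [ProjectiveSpecialLinearGroup.toPGL_mk, hs]
      symm
      rw [ProjGenLinGroup.mk_eq_mk_iff]
      exact ⟨u⁻¹, rfl⟩
    · rintro ⟨y, rfl⟩
      obtain ⟨s, rfl⟩ := QuotientGroup.mk_surjective y
      rw [ProjectiveSpecialLinearGroup.toPGL_mk, hg, hφker]
      refine ⟨1, ?_⟩
      rw [one_pow]
      exact (SpecialLinearGroup.coeToGL_det s).symm

end Cfsg.Agent.S0307
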