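import Mathlib
import Cfsg.Statements.S0313
import Cfsg.Agent.Lib.Helper1.BNPar

set_option autoImplicit false
open Cfsg

namespace Cfsg.Agent.S0313

open Cfsg.Agent.Lib.Helper1

/-- Two standard parabolic subgroups of a group with a (B,N)-pair which are conjugate in `G` coincide. -/
theorem result {G : Type*} [Group G] (P : Cfsg.BNPair G) {J K : Set G}
    (hJ : J ⊆ P.S) (hK : K ⊆ P.S) (g : G)
    (h : (P.parabolic J).map (MulAut.conj g).toMonoidHom = P.parabolic K) :
    P.parabolic J = P.parabolic K := by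
  have hmem : ∀ x : G, x ∈ P.parabolic K ↔ ∃ y ∈ P.parabolic J, g * y * g⁻¹ = x := by
    intro x
    rw [← h, Subgroup.mem_map]
    rfl
  have hgK : g ∈ P.parabolic K := by
    apply mem_of_conj_mem P (P.parabolic K) (B_le_parabolic P K) g
    intro b hb
    exact (hmem _).2 ⟨b, B_le_parabolic P J hb, rfl⟩
  have hgJ : g ∈ P.parabolic J := by
    obtain ⟨y, hy, hyg⟩ := (hmem g).1 hgK
    have : y = g := by
      have h1 : y = g⁻¹ * (g * y * g⁻¹) * g := by group
      rw [h1, hyg]; group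
    rwa [this] at hy
  ext x
  constructor
  · intro hx
    have h1 : x = g * (g⁻¹ * x * g) * g⁻¹ := by group
    rw [h1]
    exact (hmem _).2 ⟨g⁻¹ * x * g,
      Subgroup.mul_mem _ (Subgroup.mul_mem _ (Subgroup.inv_mem _ hgJ) hx) hgJ, rfl⟩
  · intro hx
    obtain ⟨y, hy, rfl⟩ := (hmem x).1 hx
    exact Subgroup.mul_mem _ (Subgroup.mul_mem _ hgJ hy) (Subgroup.inv_mem _ hgJ)

end Cfsg.Agent.S0313
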