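import Mathlib
import Cfsg.Statements.S0316
import Cfsg.Agent.Lib.Helper1.BNPar

set_option autoImplicit false
open Cfsg

namespace Cfsg.Agent.S0316

open Cfsg.Agent.Lib.Helper1

/-- The map `J ↦ P_J` is a lattice isomorphism from the power set of the set of distinguished generators onto the
subgroups containing `B`. -/
theorem result {G : Type*} [Group G] (P : Cfsg.BNPair G) :
    ∃ e : Set P.S ≃o {M : Subgroup G // P.B ≤ M},
      ∀ J : Set P.S, ((e J : {M : Subgroup G // P.B ≤ M}) : Subgroup G) = P.parabolic (Subtype.val '' J) := by
  have hsub : ∀ J : Set P.S, Subtype.val '' J ⊆ P.S := by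
    rintro J _ ⟨s, _, rfl⟩
    exact s.2
  let e : Set P.S ≃ {M : Subgroup G // P.B ≤ M} :=
    { toFun := fun J => ⟨P.parabolic (Subtype.val '' J), B_le_parabolic P _⟩
      invFun := fun M => {s : P.S | (s : G) ∈ M.1}
      left_inv := by
        intro J
        ext s
        constructor
        · intro hs
          have := mem_of_mem_parabolic P (hsub J) s.2 hs
          obtain ⟨s', hs', h⟩ := this
          have : s' = s := Subtype.ext h
          rwa [← this]
        · intro hs
          have hcl : Subgroup.closure (Subtype.val '' J) ≤ P.parabolic (Subtype.val '' J) :=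
            le_sup_right
          exact hcl (Subgroup.subset_closure ⟨s, hs, rfl⟩)
      right_inv := by
        intro M
        apply Subtype.ext
        have h1 : Subtype.val '' {s : P.S | (s : G) ∈ M.1} = {s | s ∈ P.S ∧ s ∈ M.1} := by
          ext x
          constructor
          · rintro ⟨s, hs, rfl⟩
            exact ⟨s.2, hs⟩
          · rintro ⟨hx, hxM⟩
            exact ⟨⟨x, hx⟩, hxM, rfl⟩
        change P.parabolic (Subtype.val '' {s : P.S | (s : G) ∈ M.1}) = M.1
        rw [h1]
        exact (eq_parabolic_of_le P M.1 M.2).symm }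
  refine ⟨⟨e, ?_⟩, fun J => rfl⟩
  intro J K
  change P.parabolic (Subtype.val '' J) ≤ P.parabolic (Subtype.val '' K) ↔ J ≤ K
  rw [parabolic_le_iff P (hsub J) (hsub K)]
  exact Set.image_subset_image_iff Subtype.val_injective

end Cfsg.Agent.S0316
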