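import Mathlib
-- Template for statement S0320 (row 320; see /opt/grader/pristine/manifest.json for weights).
-- Copy to Cfsg/Agent/S0320.lean and replace the sorry. The statement below is byte-identical to the frozen
-- statement Cfsg.CfsgFrozen.S0320 (Cfsg/Statements/S0320.lean; the theorem Cfsg.bn_pair_weyl_group_coxeter);
-- the grader kernel-checks Cfsg.Agent.S0320.result against that frozen type. Keep the theorem IN THIS FILE
-- (a `result` declared elsewhere and merely imported here is not credited); helpers may live anywhere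
-- under Cfsg/Agent/.
import Cfsg.Statements.S0320
import Cfsg.Agent.Lib.Helper3.CoxBN1

set_option autoImplicit false
open Cfsg
open Cfsg.Agent.Lib.Helper1 Cfsg.Agent.Lib.Helper3.StCh Cfsg.Agent.Lib.Helper3.Cox Cfsg.Agent.Lib.Helper3.CoxBN

namespace Cfsg.Agent.S0320

/-- The Weyl group `W = N / (B ⊓ N)` of a (B,N)-pair, with its distinguished involutions, is a Coxeter system. -/
theorem result {G : Type*} [Group G] (P : Cfsg.BNPair G)
    [hN : ((P.B ⊓ P.N).subgroupOf P.N).Normal] :
    ∃ (M : CoxeterMatrix P.S) (cs : CoxeterSystem M (P.N ⧸ (P.B ⊓ P.N).subgroupOf P.N)),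
      ∀ s : P.S, cs.simple s = QuotientGroup.mk (⟨(s : G), P.subset s.2⟩ : P.N) := by
  classical
  have E := exW_of_tits (bnData P)
  let s : P.S → bnW P := fun s => bnπ P ⟨(s : G), P.subset s.2⟩
  have E' : ExW (Set.range s) := E
  have X := exSys_of_exW E'
  have hgen : Subgroup.closure (Set.range s) = ⊤ := E'.gen
  have hinv : ∀ a, s a * s a = 1 := X.inv
  have hinv' : ∀ a, (s a)⁻¹ = s a := fun a => inv_eq_of_mul_eq_one_left (hinv a)
  let M : CoxeterMatrix P.S :=
    { M := fun a b => orderOf (s a * s b)
      isSymm := by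
        apply Matrix.IsSymm.ext
        intro a b
        show orderOf (s b * s a) = orderOf (s a * s b)
        rw [← orderOf_inv (s a * s b), mul_inv_rev, hinv', hinv']
      diagonal := by
        intro a
        show orderOf (s a * s a) = 1
        rw [hinv a, orderOf_one]
      off_diagonal := by
        intro a b hab h
        have h' : orderOf (s a * s b) = 1 := h
        rw [orderOf_eq_one_iff] at h'
        have h2 : s a = s b := by
          rw [← hinv' b]
          exact eq_inv_of_mul_eq_one_left h'
        have h3 : ((a : G))⁻¹ * (b : G) ∈ P.B := (bnπ_eq_iff P).1 h2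
        exact hab (Subtype.ext (P.inj a a.2 b b.2 h3)) }
  have hM : ∀ a b, (s a * s b) ^ M a b = 1 := fun a b => pow_orderOf_eq_one _
  have hM' : ∀ a b (r : ℕ), (s a * s b) ^ r = 1 → M a b ∣ r :=
    fun a b r h => orderOf_dvd_of_pow_eq_one h
  refine ⟨M, ⟨Cfsg.Agent.Lib.Helper3.Cox.coxEquiv X hgen M hM hM'⟩, ?_⟩
  intro a
  show (Cfsg.Agent.Lib.Helper3.Cox.coxEquiv X hgen M hM hM').symm (M.simple a) = s a
  rw [MulEquiv.symm_apply_eq]
  exact (Cfsg.Agent.Lib.Helper3.Cox.coxEquiv_apply X hgen M hM hM' a).symm

end Cfsg.Agent.S0320
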