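import Mathlib
import Cfsg.Statements.S0323

set_option autoImplicit false
open scoped Pointwise
open Cfsg

namespace Cfsg.Agent.S0323

open DoubleCoset

theorem mem_stab_pair {G Ω : Type*} [Group G] [MulAction G Ω] {x y : Ω} {g : G} :
    g ∈ MulAction.stabilizer G ({x, y} : Set Ω) ↔
      (g • x = x ∧ g • y = y) ∨ (g • x = y ∧ g • y = x) := by
  rw [MulAction.mem_stabilizer_iff, Set.smul_set_insert, Set.smul_set_singleton,
    Set.pair_eq_pair_iff]

/-- A doubly transitive action on a set with at least three points yields a (B,N)-pair of rank one: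
`B` is the stabiliser of a point `x`, `N` the setwise stabiliser of a pair `{x, y}`. -/
theorem result {G Ω : Type*} [Group G] [MulAction G Ω]
    (h2 : MulAction.IsMultiplyPretransitive G Ω 2) {x y z : Ω} (hxy : x ≠ y) (hyz : y ≠ z) (hxz : x ≠ z) :
    ∃ P : Cfsg.BNPair G, P.B = MulAction.stabilizer G x ∧
      P.N = MulAction.stabilizer G ({x, y} : Set Ω) ∧ P.rank = 1 := by
  have h2' : ∀ {a b c d : Ω}, a ≠ b → c ≠ d → ∃ g : G, g • a = c ∧ g • b = d :=
    MulAction.is_two_pretransitive_iff.1 h2
  obtain ⟨s, hsx, hsy⟩ := h2' hxy (Ne.symm hxy)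
  set B := MulAction.stabilizer G x with hB
  set N := MulAction.stabilizer G ({x, y} : Set Ω) with hN
  have hBmem : ∀ g : G, g ∈ B ↔ g • x = x := fun g => MulAction.mem_stabilizer_iff
  have hsN : s ∈ N := mem_stab_pair.2 (Or.inr ⟨hsx, hsy⟩)
  have hsinvy : s⁻¹ • y = x := by rw [inv_smul_eq_iff, hsx]
  have hsinvx : s⁻¹ • x = y := by rw [inv_smul_eq_iff, hsy]
  -- G = B ∪ B s B
  have hG : ∀ g : G, g ∈ B ∨ ∃ b ∈ B, ∃ b' ∈ B, g = b * s * b' := by
    intro g
    by_cases hg : g • x = x
    · exact Or.inl ((hBmem g).2 hg)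
    · right
      obtain ⟨b, hbx, hby⟩ := h2' hxy (Ne.symm hg)
      refine ⟨b, (hBmem b).2 hbx, (b * s)⁻¹ * g, ?_, by group⟩
      rw [hBmem, mul_smul, inv_smul_eq_iff, mul_smul, hsx, hby]
  have hNcases : ∀ n ∈ N, n ∈ B ∨ s⁻¹ * n ∈ B := by
    intro n hn
    rcases mem_stab_pair.1 hn with h | h
    · exact Or.inl ((hBmem n).2 h.1)
    · right
      rw [hBmem, mul_smul, h.1, hsinvy]
  refine ⟨{ B := B
            N := N
            S := {s}
            sup_eq_top := ?_
            conj_mem := ?_
            subset := ?_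
            sq_mem := ?_
            inj := ?_
            closure_sup := ?_
            mul_mem_union := ?_
            conj_ne := ?_ }, rfl, rfl, ?_⟩
  · -- sup_eq_top
    rw [eq_top_iff]
    intro g _
    have hBle : B ≤ B ⊔ N := le_sup_left
    have hNle : N ≤ B ⊔ N := le_sup_right
    rcases hG g with h | ⟨b, hb, b', hb', rfl⟩
    · exact hBle h
    · exact Subgroup.mul_mem _ (Subgroup.mul_mem _ (hBle hb) (hNle hsN)) (hBle hb')
  · -- conj_mem
    rintro n hn t ⟨htB, htN⟩
    have htx : t • x = x := (hBmem t).1 htB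
    have hty : t • y = y := by
      rcases mem_stab_pair.1 htN with h | h
      · exact h.2
      · exact absurd (htx.symm.trans h.1) hxy
    rw [hBmem, mul_smul, mul_smul]
    have hninv : n⁻¹ ∈ N := N.inv_mem hn
    rcases mem_stab_pair.1 hninv with h | h
    · rw [h.1, htx]; exact (inv_smul_eq_iff.1 h.1).symm
    · rw [h.1, hty]; exact (inv_smul_eq_iff.1 h.1).symm
  · -- subset
    intro a ha
    rw [Set.mem_singleton_iff] at ha
    rw [ha]; exact hsN
  · -- sq_mem
    intro a ha
    rw [Set.mem_singleton_iff] at ha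
    rw [ha, hBmem, mul_smul, hsx, hsy]
  · -- inj
    intro a ha a' ha' _
    rw [Set.mem_singleton_iff] at ha ha'
    rw [ha, ha']
  · -- closure_sup
    apply le_antisymm
    · apply sup_le
      · rw [Subgroup.closure_le, Set.singleton_subset_iff]; exact hsN
      · exact inf_le_right
    · intro n hn
      have hcl : Subgroup.closure {s} ≤ Subgroup.closure {s} ⊔ (B ⊓ N) := le_sup_left
      have hT : B ⊓ N ≤ Subgroup.closure {s} ⊔ (B ⊓ N) := le_sup_right
      rcases hNcases n hn with h | h
      · exact hT ⟨h, hn⟩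
      · have : n = s * (s⁻¹ * n) := by group
        rw [this]
        exact Subgroup.mul_mem _ (hcl (Subgroup.subset_closure rfl))
          (hT ⟨h, N.mul_mem (N.inv_mem hsN) hn⟩)
  · -- mul_mem_union
    intro a ha n hn b hb
    rw [Set.mem_singleton_iff] at ha
    subst ha
    rcases hNcases n hn with hnB | hnB
    · rcases hG (a * b * n) with h | ⟨c, hc, c', hc', h⟩
      · right
        exact mem_doubleCoset.2 ⟨a * b * n * n⁻¹, B.mul_mem h (B.inv_mem hnB), 1, B.one_mem, by group⟩
      · left
        refine mem_doubleCoset.2 ⟨c, hc, n⁻¹ * c', B.mul_mem (B.inv_mem hnB) hc', ?_⟩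
        rw [h]; group
    · have hsnB : a * n ∈ B := by
        have h1 : a • y = x := hsy
        have h3 : n • x = y := by
          have := (hBmem _).1 hnB
          rw [mul_smul, inv_smul_eq_iff, hsx] at this
          exact this
        rw [hBmem, mul_smul, h3, h1]
      rcases hG (a * b * n) with h | ⟨c, hc, c', hc', h⟩
      · left
        exact mem_doubleCoset.2 ⟨a * b * n * (a * n)⁻¹, B.mul_mem h (B.inv_mem hsnB), 1, B.one_mem,
          by group⟩
      · right
        refine mem_doubleCoset.2 ⟨c, hc, (a⁻¹ * n)⁻¹ * c', B.mul_mem (B.inv_mem hnB) hc', ?_⟩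
        rw [h]; group
  · -- conj_ne
    intro a ha
    rw [Set.mem_singleton_iff] at ha
    subst ha
    intro heq
    obtain ⟨b, hbx, hby⟩ := h2' hxy hxz
    have hb : b ∈ B := (hBmem b).2 hbx
    have h1 : a * b * a ∈ (B : Set G) := by
      rw [← heq]; exact ⟨b, hb, rfl⟩
    rw [SetLike.mem_coe, hBmem, mul_smul, mul_smul, hsx, hby] at h1
    have h3 : z = y := by
      have := congrArg (a⁻¹ • ·) h1
      simp only [inv_smul_smul] at this
      rw [this, hsinvx]
    exact hyz h3.symm
  · -- rank
    unfold Cfsg.BNPair.rank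
    simp

end Cfsg.Agent.S0323
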