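import Mathlib
-- Template for statement S0324 (row 324; see /opt/grader/pristine/manifest.json for weights).
-- Copy to Cfsg/Agent/S0324.lean and replace the sorry. The statement below is byte-identical to the frozen
-- statement Cfsg.CfsgFrozen.S0324 (Cfsg/Statements/S0324.lean; the theorem Cfsg.suzuki_card);
-- the grader kernel-checks Cfsg.Agent.S0324.result against that frozen type. Keep the theorem IN THIS FILE
-- (a `result` declared elsewhere and merely imported here is not credited); helpers may live anywhere
-- under Cfsg/Agent/.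
import Cfsg.Statements.S0324
import Cfsg.Agent.Lib.Helper3.Sz7

set_option autoImplicit false
open Cfsg
open Cfsg.Agent.Lib.Helper3.Sz

namespace Cfsg.Agent.S0324

/-- The Suzuki group over a field with `q = 2^(2m+1)` elements, `m ≥ 1`, has order `q² (q² + 1) (q - 1)`. -/
theorem result {F : Type*} [Field F] [Fintype F] {m : ℕ} (hm : 1 ≤ m)
    (hF : Fintype.card F = 2 ^ (2 * m + 1)) :
    Nat.card (Cfsg.Sz F m) = (2 ^ (2 * m + 1)) ^ 2 * ((2 ^ (2 * m + 1)) ^ 2 + 1) * (2 ^ (2 * m + 1) - 1) := by
  have := charP_two_of_card hF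
  have hq : Nat.card F = 2 ^ (2 * m + 1) := by rw [Nat.card_eq_fintype_card, hF]
  have h := card_Gam (titsOfCard hF) (titsOfCard_isPow hm hF)
  unfold Gam at h
  rw [← ovoid_eq_suzukiOvoid hF, hq] at h
  rw [h]
  ring

end Cfsg.Agent.S0324
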