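import Mathlib
-- Template for statement S0329 (row 329; see /opt/grader/pristine/manifest.json for weights).
-- Copy to Cfsg/Agent/S0329.lean and replace the sorry. The statement below is byte-identical to the frozen
-- statement Cfsg.CfsgFrozen.S0329 (Cfsg/Statements/S0329.lean; the theorem Cfsg.suzuki_point_stabilizer_card);
-- the grader kernel-checks Cfsg.Agent.S0329.result against that frozen type. Keep the theorem IN THIS FILE
-- (a `result` declared elsewhere and merely imported here is not credited); helpers may live anywhere
-- under Cfsg/Agent/.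
import Cfsg.Statements.S0329
import Cfsg.Agent.Lib.Helper3.Sz8

set_option autoImplicit false
open Cfsg
open Cfsg.Agent.Lib.Helper3.Sz

namespace Cfsg.Agent.S0329

/-- The stabiliser in the Suzuki group of the ovoid point spanned by `(1,0,0,0)` has order `q² (q - 1)`. -/
theorem result {F : Type*} [Field F] [Fintype F] {m : ℕ} (hm : 1 ≤ m)
    (hF : Fintype.card F = 2 ^ (2 * m + 1)) :
    Nat.card (MulAction.stabilizer (Cfsg.Sz F m) (Cfsg.suzukiPointInfinity F)) =
      (2 ^ (2 * m + 1)) ^ 2 * (2 ^ (2 * m + 1) - 1) := by
  have := charP_two_of_card hF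
  have hq : Nat.card F = 2 ^ (2 * m + 1) := by rw [Nat.card_eq_fintype_card, hF]
  have h := card_stabilizer_inf (titsOfCard hF) (titsOfCard_isPow hm hF) _ (ovoid_eq_suzukiOvoid hF)
  rw [hq] at h
  exact h

end Cfsg.Agent.S0329
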