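import Mathlib
-- Template for statement S0330 (row 330; see /opt/grader/pristine/manifest.json for weights).
-- Copy to Cfsg/Agent/S0330.lean and replace the sorry. The statement below is byte-identical to the frozen
-- statement Cfsg.CfsgFrozen.S0330 (Cfsg/Statements/S0330.lean; the theorem Cfsg.suzuki_sylow_two_structure);
-- the grader kernel-checks Cfsg.Agent.S0330.result against that frozen type. Keep the theorem IN THIS FILE
-- (a `result` declared elsewhere and merely imported here is not credited); helpers may live anywhere
-- under Cfsg/Agent/.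
import Cfsg.Statements.S0330
import Cfsg.Agent.Lib.Helper3.Sz15

set_option autoImplicit false
open Cfsg
open Cfsg.Agent.Lib.Helper3.Sz

namespace Cfsg.Agent.S0330

/-- A Sylow 2-subgroup `P` of the Suzuki group (field with `q = 2^(2m+1)` elements, `m ≥ 1`) has order `q²` and
exponent `4`; its centre coincides with its commutator subgroup and has order `q`. -/
theorem result {F : Type*} [Field F] [Fintype F] {m : ℕ} (hm : 1 ≤ m)
    (hF : Fintype.card F = 2 ^ (2 * m + 1)) (P : Sylow 2 (Cfsg.Sz F m)) :
    Nat.card P = (2 ^ (2 * m + 1)) ^ 2 ∧ Monoid.exponent P = 4 ∧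
      Subgroup.center P = commutator P ∧ Nat.card (Subgroup.center P) = 2 ^ (2 * m + 1) := by
  have := charP_two_of_card hF
  have hq : Nat.card F = 2 ^ (2 * m + 1) := by rw [Nat.card_eq_fintype_card, hF]
  have h := sylStruct_of_eq (titsOfCard hF) (titsOfCard_isPow hm hF) _ (ovoid_eq_suzukiOvoid hF) P
  rw [hq] at h
  exact ⟨h.card, h.exp, h.center_eq, h.card_center⟩

end Cfsg.Agent.S0330
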