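import Mathlib
-- Template for statement S0332 (row 332; see /opt/grader/pristine/manifest.json for weights).
-- Copy to Cfsg/Agent/S0332.lean and replace the sorry. The statement below is byte-identical to the frozen
-- statement Cfsg.CfsgFrozen.S0332 (Cfsg/Statements/S0332.lean; the theorem Cfsg.suzuki_is_cn_group);
-- the grader kernel-checks Cfsg.Agent.S0332.result against that frozen type. Keep the theorem IN THIS FILE
-- (a `result` declared elsewhere and merely imported here is not credited); helpers may live anywhere
-- under Cfsg/Agent/.
import Cfsg.Statements.S0332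
import Cfsg.Agent.Lib.Helper3.Sz30

set_option autoImplicit false
open Cfsg
open Cfsg.Agent.Lib.Helper3.Sz

namespace Cfsg.Agent.S0332

/-- The Suzuki group is a CN-group: every non-identity element has nilpotent centraliser. -/
theorem result {F : Type*} [Field F] [Fintype F] {m : ℕ} (hm : 1 ≤ m)
    (hF : Fintype.card F = 2 ^ (2 * m + 1)) : Cfsg.IsCNGroup (Cfsg.Sz F m) := by
  have := charP_two_of_card hF
  exact isCNGroup_of_eq (titsOfCard hF) (titsOfCard_isPow hm hF) _ (ovoid_eq_suzukiOvoid hF)

end Cfsg.Agent.S0332
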