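import Cfsg.Statements.S0345
import Mathlib
import Cfsg.Agent.Lib.Helper2.S3T16
import Cfsg.Agent.Lib.Helper2.S3T17
import Cfsg.Agent.Lib.Helper2.ZP14
import Cfsg.Agent.Lib.Helper2.FZ33
import Cfsg.Agent.Lib.Lead.Zass5
import Cfsg.Agent.Lib.Lead.Zass4
import Cfsg.Agent.Lib.Lead.Zass7

set_option autoImplicit false
open Cfsg

namespace Cfsg.Agent.S0345

open MulAction Cfsg.Agent.Lib.Lead.Zass Cfsg.Agent.Lib.Helper2.FZ Cfsg.Agent.Lib.Helper2.S3T
  Cfsg.Agent.Lib.Helper2.ZP

/-- In a finite simple Zassenhaus group the stabiliser `H` of two points `a ≠ b` is cyclic, and some involution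
interchanging `a` and `b` inverts every element of `H`. -/
theorem result {G Ω : Type*} [Group G] [Finite G] [MulAction G Ω] [Finite Ω]
    (hZ : Cfsg.IsZassenhausGroup G Ω) [IsSimpleGroup G]
    {a b : Ω} (hab : a ≠ b) :
    IsCyclic ↥(MulAction.stabilizer G a ⊓ MulAction.stabilizer G b) ∧
      ∃ v : G, orderOf v = 2 ∧ v • a = b ∧ v • b = a ∧ ∀ h ∈ MulAction.stabilizer G a ⊓ MulAction.stabilizer G b, v * h * v⁻¹ = h⁻¹ := by
  classical
  haveI : Fintype Ω := Fintype.ofFinite Ω
  have Z := zdata_of hZ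
  rcases Nat.even_or_odd (Nat.card ↥(stabilizer G a ⊓ stabilizer G b : Subgroup G)) with
    heven | hodd
  swap
  · -- the odd case
    obtain ⟨hcyc, -, hswap⟩ := E_facts hZ hab hodd
    obtain ⟨s, hsa, hsb⟩ := Z.two hab (Ne.symm hab)
    exact ⟨hcyc, s, swap_invol hZ hab hodd hab hsa hsb, hsa, hsb, hswap s hsa hsb⟩
  -- the even case
  obtain ⟨h₀, hh₀1, hh₀a, hh₀b, c₀, hc₀a, hc₀b⟩ := exists_ne_one_H hZ hab
  obtain ⟨F, hFa, hFcard, hFfix⟩ := exists_H hZ hab
  have hFn : (F.subgroupOf (stabilizer G a)).Normal := by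
    constructor
    intro n hn g
    rw [Subgroup.mem_subgroupOf] at hn ⊢
    exact H_conj_mem hZ a F hFa hFcard hFfix (mem_stabilizer_iff.mp g.2) hn
  have hreg : ∀ y z : Ω, y ≠ a → z ≠ a → ∃! u : F, (u : G) • y = z := by
    intro y z hy hz
    obtain ⟨u, hu, huy⟩ := H_trans a F hFa hFcard hFfix hy hz
    refine ⟨⟨u, hu⟩, huy, ?_⟩
    intro v hv
    by_contra hne
    have h1 : ((u : G)⁻¹ * (v : G)) • y = y := by
      rw [mul_smul, hv, ← huy, inv_smul_smul]
    have h2 : (u : G)⁻¹ * (v : G) ≠ 1 := by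
      intro h3
      apply hne
      apply Subtype.ext
      have : (v : G) = u * (u⁻¹ * (v : G)) := by group
      rw [this, h3, mul_one]
    exact hy (hFfix _ (F.mul_mem (F.inv_mem hu) v.2) h2 y h1)
  have hb := even_bound hZ hab heven
  obtain ⟨hcomm, -⟩ := large_d hZ hab hb F hFa hFn hreg
  have hcomm' : ∀ u ∈ F, ∀ v ∈ F, u * v = v * u := by
    intro u hu v hv
    have := hcomm.is_comm.comm (⟨u, hu⟩ : F) ⟨v, hv⟩
    exact congrArg Subtype.val this
  -- an involution in the two-point stabilizer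
  haveI : Fact (Nat.Prime 2) := ⟨Nat.prime_two⟩
  obtain ⟨z', hz'⟩ := exists_prime_orderOf_dvd_card' (G := ↥(stabilizer G a ⊓ stabilizer G b : Subgroup G))
    2 (even_iff_two_dvd.mp heven)
  obtain ⟨z, hzdef⟩ : ∃ z : G, z = (z' : G) := ⟨_, rfl⟩
  have hz1 : z ≠ 1 := by
    rw [hzdef]
    intro h
    have : z' = 1 := Subtype.ext h
    rw [this, orderOf_one] at hz'
    omega
  have hzz : z * z = 1 := by
    have := pow_orderOf_eq_one z'
    rw [hz', sq] at this
    rw [hzdef]
    exact congrArg Subtype.val this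
  have hza : z • a = a := by rw [hzdef]; exact memHa z'.2
  have hzb : z • b = b := by rw [hzdef]; exact memHb z'.2
  have hzc : z • c₀ ≠ c₀ := by
    intro h
    exact hz1 (hZ.2.2.1 _ a b c₀ hab (Ne.symm hc₀b) (Ne.symm hc₀a) hza hzb h)
  have h4 : 4 ≤ Fintype.card Ω := by
    have h1 : ({a, b, c₀, z • c₀} : Finset Ω).card = 4 := by
      rw [Finset.card_insert_of_notMem, Finset.card_insert_of_notMem,
        Finset.card_insert_of_notMem, Finset.card_singleton]
      · rw [Finset.mem_singleton]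
        exact Ne.symm hzc
      · rw [Finset.mem_insert, Finset.mem_singleton]
        push Not
        refine ⟨Ne.symm hc₀b, ?_⟩
        intro h
        rw [← hzb] at h
        exact hc₀b (MulAction.injective _ h).symm
      · rw [Finset.mem_insert, Finset.mem_insert, Finset.mem_singleton]
        push Not
        refine ⟨hab, Ne.symm hc₀a, ?_⟩
        intro h
        rw [← hza] at h
        exact hc₀a (MulAction.injective _ h).symm
    rw [← h1]
    exact Finset.card_le_univ _
  obtain ⟨m, hm⟩ := two_stab_dvd Z hab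
  have hepos : 0 < Nat.card ↥(stabilizer G a ⊓ stabilizer G b : Subgroup G) := Nat.card_pos
  have hm0 : m ≠ 0 := by
    rintro rfl
    omega
  have hm2 : m ≤ 2 := by
    by_contra hcon
    push Not at hcon
    have : Nat.card ↥(stabilizer G a ⊓ stabilizer G b : Subgroup G) * 3
        ≤ Nat.card ↥(stabilizer G a ⊓ stabilizer G b : Subgroup G) * m :=
      Nat.mul_le_mul_left _ hcon
    omega
  have hm12 : m = 1 ∨ m = 2 := by omega
  rcases hm12 with rfl | rfl
  · exfalso
    obtain ⟨h3, hsharp⟩ := sharp3_of_card Z hab (by omega)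
    obtain ⟨F', t, T⟩ := exists_tdata_of_invol h3 hsharp h4 hab hza hzb hzz hz1
    exact T.not_simple
  · have he : 2 * Nat.card ↥(stabilizer G a ⊓ stabilizer G b : Subgroup G) + 1 = Nat.card F := by
      omega
    have P : PData G Ω a b F := ⟨hZ, hab, hFa, hFcard, hFfix, hcomm', he⟩
    obtain ⟨K, instK, instFK, ι, t, hcard, C, hinv, hta, htb, -⟩ := P.exists_normalized
    obtain ⟨htt, hti⟩ := hinv t hta htb
    refine ⟨isCyclic_of_coord Z.faith C, t, ?_, hta, htb, ?_⟩
    · apply orderOf_eq_prime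
      · rw [sq]; exact htt
      · intro h
        rw [h, one_smul] at hta
        exact hab hta
    · intro h hh
      exact hti h ((mem_H_iff a b h).mp hh).1 ((mem_H_iff a b h).mp hh).2

end Cfsg.Agent.S0345
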