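import Cfsg.Statements.S0346
import Mathlib
import Mathlib
import Cfsg.Agent.Lib.Helper2.FZ33
import Cfsg.Agent.Lib.Lead.Zass5
import Cfsg.Agent.Lib.Lead.Zass4

set_option autoImplicit false
open Cfsg

namespace Cfsg.Agent.S0346

open MulAction Cfsg.Agent.Lib.Lead.Zass Cfsg.Agent.Lib.Helper2.FZ

/-- The number of points of a finite simple Zassenhaus group is `p^k + 1` for some prime power `p^k` (the regular normal
subgroup of a point stabiliser is a `p`-group). -/
theorem result {G Ω : Type*} [Group G] [Finite G] [MulAction G Ω] [Fintype Ω]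
    (hZ : Cfsg.IsZassenhausGroup G Ω) [IsSimpleGroup G] :
    IsPrimePow (Fintype.card Ω - 1) := by
  classical
  have Z := zdata_of hZ
  obtain ⟨g₀, hg₀1, a, b, hab, -, -⟩ := hZ.2.2.2.1
  obtain ⟨h₀, hh₀1, hh₀a, hh₀b, c₀, hc₀a, hc₀b⟩ := exists_ne_one_H hZ hab
  have h3 : 3 ≤ Fintype.card Ω := by
    have h1 : ({a, b, c₀} : Finset Ω).card = 3 := by
      rw [Finset.card_insert_of_notMem, Finset.card_insert_of_notMem, Finset.card_singleton]
      · rw [Finset.mem_singleton]
        exact Ne.symm hc₀b
      · rw [Finset.mem_insert, Finset.mem_singleton]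
        push Not
        exact ⟨hab, Ne.symm hc₀a⟩
    rw [← h1]
    exact Finset.card_le_univ _
  obtain ⟨F, hFa, hFcard, hFfix⟩ := exists_H hZ hab
  -- the case of a large two-point stabilizer
  have hlarge : Fintype.card Ω - 2
      ≤ 2 * Nat.card ↥(stabilizer G a ⊓ stabilizer G b : Subgroup G) →
      IsPrimePow (Fintype.card Ω - 1) := by
    intro hb
    have hFn : (F.subgroupOf (stabilizer G a)).Normal := by
      constructor
      intro n hn g
      rw [Subgroup.mem_subgroupOf] at hn ⊢
      exact H_conj_mem hZ a F hFa hFcard hFfix (mem_stabilizer_iff.mp g.2) hn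
    have hreg : ∀ y z : Ω, y ≠ a → z ≠ a → ∃! u : F, (u : G) • y = z := by
      intro y z hy hz
      obtain ⟨u, hu, huy⟩ := H_trans a F hFa hFcard hFfix hy hz
      refine ⟨⟨u, hu⟩, huy, ?_⟩
      intro v hv
      by_contra hne
      have h1 : ((u : G)⁻¹ * (v : G)) • y = y := by
        rw [mul_smul, hv, ← huy, inv_smul_smul]
      have h2 : (u : G)⁻¹ * (v : G) ≠ 1 := by
        intro h3
        apply hne
        apply Subtype.ext
        have : (v : G) = u * (u⁻¹ * (v : G)) := by group
        rw [this, h3, mul_one]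
      exact hy (hFfix _ (F.mul_mem (F.inv_mem hu) v.2) h2 y h1)
    obtain ⟨-, p, f, hp, -, hcardΩ⟩ := large_d hZ hab hb F hFa hFn hreg
    rw [hcardΩ, Nat.add_sub_cancel]
    have hf : f ≠ 0 := by
      rintro rfl
      rw [pow_zero] at hcardΩ
      omega
    exact hp.isPrimePow.pow hf
  rcases Nat.even_or_odd (Nat.card ↥(stabilizer G a ⊓ stabilizer G b : Subgroup G)) with h | h
  · exact hlarge (even_bound hZ hab h)
  · have FD : FData G Ω a b F := ⟨hZ, hab, h, hFa, hFcard, hFfix⟩
    rcases FData.main_aux (Nat.card G) G F FD rfl with h1 | ⟨hp, -, -⟩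
    · apply hlarge
      omega
    · haveI : Fact (Nat.Prime 2) := ⟨Nat.prime_two⟩
      obtain ⟨k, hk⟩ := IsPGroup.iff_card.mp hp
      have hcard : Fintype.card Ω - 1 = 2 ^ k := by omega
      rw [hcard]
      have hk0 : k ≠ 0 := by
        rintro rfl
        rw [pow_zero] at hcard
        omega
      exact Nat.prime_two.isPrimePow.pow hk0

end Cfsg.Agent.S0346
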