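import Mathlib
import Cfsg.Statements.S0351

set_option autoImplicit false
open Cfsg

namespace Cfsg.Agent.S0351

/-- Derived design: removing a point p from the blocks through p of an S(t+1, k+1, v) yields an S(t, k, v-1) on the points other than p. -/
theorem result {α : Type*} [Fintype α] [DecidableEq α] {t k : ℕ} {B : Set (Finset α)} (hB : Cfsg.IsSteinerSystem (t + 1) (k + 1) B) (p : α) : Cfsg.IsSteinerSystem t k {b' : Finset {a : α // a ≠ p} | ∃ b ∈ B, p ∈ b ∧ b' = Finset.subtype (fun a => a ≠ p) b} := by
  classical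
  have hsub : ∀ (s : Finset {a : α // a ≠ p}) (c : Finset α),
      s ⊆ Finset.subtype (fun a => a ≠ p) c ↔ s.map (Function.Embedding.subtype _) ⊆ c := by
    intro s c
    constructor
    · intro h x hx
      rw [Finset.mem_map] at hx
      obtain ⟨y, hy, rfl⟩ := hx
      have := h hy
      rw [Finset.mem_subtype] at this
      exact this
    · intro h y hy
      rw [Finset.mem_subtype]
      exact h (Finset.mem_map_of_mem _ hy)
  constructor
  · rintro b' ⟨b, hb, hpb, rfl⟩
    rw [Finset.card_subtype]
    have : b.filter (fun a => a ≠ p) = b.erase p := by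
      ext x
      simp [Finset.mem_erase, and_comm]
    rw [this, Finset.card_erase_of_mem hpb, hB.1 b hb]
    rfl
  · intro s hs
    set s₀ : Finset α := insert p (s.map (Function.Embedding.subtype _)) with hs₀
    have hp_notin : p ∉ s.map (Function.Embedding.subtype (fun a => a ≠ p)) := by
      intro h
      rw [Finset.mem_map] at h
      obtain ⟨y, _, hy⟩ := h
      exact y.2 hy
    have hcard : s₀.card = t + 1 := by
      rw [hs₀, Finset.card_insert_of_notMem hp_notin, Finset.card_map, hs]
    obtain ⟨b, ⟨hbB, hsb⟩, huniq⟩ := hB.2 s₀ hcard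
    have hpb : p ∈ b := hsb (Finset.mem_insert_self p _)
    refine ⟨Finset.subtype (fun a => a ≠ p) b, ⟨⟨b, hbB, hpb, rfl⟩, ?_⟩, ?_⟩
    · rw [hsub]
      exact (Finset.subset_insert p _).trans hsb
    · rintro b'' ⟨⟨c, hcB, hpc, rfl⟩, hsc⟩
      rw [hsub] at hsc
      have : c = b := huniq c ⟨hcB, by
        rw [hs₀]
        exact Finset.insert_subset hpc hsc⟩
      rw [this]

end Cfsg.Agent.S0351
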