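import Mathlib
import Cfsg.Statements.S0357
import Cfsg.Agent.Lib.Helper1.Steiner

set_option autoImplicit false
open Cfsg

namespace Cfsg.Agent.S0357

open Cfsg.Agent.Lib.Helper1

/-- The intersection numbers of an S(5,6,12) with respect to a fixed block. -/
theorem interNums {α : Type*} [Fintype α] [DecidableEq α] (hα : Fintype.card α = 12) {B : Set (Finset α)} (hB : Cfsg.IsSteinerSystem 5 6 B) {b : Finset α} (hb : b ∈ B) :
    interNum B b 0 = 1 ∧ interNum B b 1 = 0 ∧ interNum B b 2 = 45 ∧ interNum B b 3 = 40 ∧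
    interNum B b 4 = 45 ∧ interNum B b 5 = 0 ∧ interNum B b 6 = 1 := by
  have e0 := steiner_interNum_eqn hB hb 0 (by norm_num)
  have e1 := steiner_interNum_eqn hB hb 1 (by norm_num)
  have e2 := steiner_interNum_eqn hB hb 2 (by norm_num)
  have e3 := steiner_interNum_eqn hB hb 3 (by norm_num)
  have e4 := steiner_interNum_eqn hB hb 4 (by norm_num)
  have n5 := interNum_eq_zero hB hb 5 (by norm_num) (by norm_num)
  have n6 := interNum_self hB hb (by norm_num)
  rw [hα] at e0 e1 e2 e3 e4
  simp only [Finset.sum_range_succ, Finset.sum_range_zero] at e0 e1 e2 e3 e4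
  norm_num [Nat.choose] at e0 e1 e2 e3 e4
  omega

/-- In a Steiner system S(5, 6, 12), the complement of every block is again a block. -/
theorem result {α : Type*} [Fintype α] [DecidableEq α] (hα : Fintype.card α = 12) {B : Set (Finset α)} (hB : Cfsg.IsSteinerSystem 5 6 B) {b : Finset α} (hb : b ∈ B) : bᶜ ∈ B := by
  obtain ⟨h0, _⟩ := interNums hα hB hb
  have hpos : 0 < interNum B b 0 := by rw [h0]; norm_num
  unfold interNum at hpos
  rw [Finset.card_pos] at hpos
  obtain ⟨c, hc⟩ := hpos
  rw [Finset.mem_filter, mem_blocks, Finset.card_eq_zero, ← Finset.disjoint_iff_inter_eq_empty] at hc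
  have hsub : c ⊆ bᶜ := by
    intro x hx
    rw [Finset.mem_compl]
    intro hxb
    exact (Finset.disjoint_left.1 hc.2) hxb hx
  have hcard : bᶜ.card ≤ c.card := by
    rw [Finset.card_compl, hα, hB.1 b hb, hB.1 c hc.1]
  have := Finset.eq_of_subset_of_card_le hsub hcard
  rw [← this]
  exact hc.1

end Cfsg.Agent.S0357
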