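import Mathlib
import Cfsg.Statements.S0371
import Cfsg.Agent.Lib.Helper1.Golay5

set_option autoImplicit false
open Cfsg
open Cfsg.Agent.Lib.Helper1

namespace Cfsg.Agent.S0371

/-- Multiplication by a nonzero square residue modulo 23, fixing the extra point, lies in the group of the length-24 code. -/
theorem result (u : (ZMod 23)ˣ) (hu : IsSquare u) : Equiv.optionCongr (Units.mulLeft u) ∈ Cfsg.M24 := by
  have : Fact (Nat.Prime 23) := ⟨by norm_num⟩
  obtain ⟨s, hs⟩ := hu
  apply mem_M24_of_preserves
  apply preserves_of_span _ _ rfl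
  rintro g (⟨t, rfl⟩ | rfl)
  · have : (fun p => qrWord t ((Equiv.optionCongr (Units.mulLeft u)).symm p)) =
        qrWord ((u : ZMod 23) * t) := by
      funext p
      cases p with
      | none => rfl
      | some x =>
        show qrWord t (some (((u⁻¹ : (ZMod 23)ˣ) : ZMod 23) * x)) = qrWord ((u : ZMod 23) * t) (some x)
        simp only [qrWord]
        congr 1
        apply propext
        have hus : (u : ZMod 23) = (s : ZMod 23) * (s : ZMod 23) := by rw [hs]; simp
        have hui : ((u⁻¹ : (ZMod 23)ˣ) : ZMod 23) * (u : ZMod 23) = 1 := by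
          rw [← Units.val_mul, inv_mul_cancel, Units.val_one]
        have hsi : ((s⁻¹ : (ZMod 23)ˣ) : ZMod 23) * (s : ZMod 23) = 1 := by
          rw [← Units.val_mul, inv_mul_cancel, Units.val_one]
        constructor
        · rintro ⟨r, hr⟩
          refine ⟨(s : ZMod 23) * r, ?_⟩
          have : x = (u : ZMod 23) * (((u⁻¹ : (ZMod 23)ˣ) : ZMod 23) * x) := by
            rw [← mul_assoc, mul_comm (u : ZMod 23), hui, one_mul]
          rw [this, hr, hus]; ring
        · rintro ⟨r, hr⟩
          refine ⟨((s⁻¹ : (ZMod 23)ˣ) : ZMod 23) * r, ?_⟩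
          have hinv : ((u⁻¹ : (ZMod 23)ˣ) : ZMod 23) =
              ((s⁻¹ : (ZMod 23)ˣ) : ZMod 23) * ((s⁻¹ : (ZMod 23)ˣ) : ZMod 23) := by
            rw [hs, mul_inv_rev, Units.val_mul]
          rw [hr, mul_add, ← mul_assoc _ (u : ZMod 23) t, hui, one_mul, hinv]; ring
    rw [this]
    exact Submodule.subset_span (Or.inl ⟨(u : ZMod 23) * t, rfl⟩)
  · exact Submodule.subset_span (Or.inr rfl)

end Cfsg.Agent.S0371
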