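import Mathlib
import Cfsg.Statements.S0386
import Cfsg.Agent.Lib.Helper9.GolayConcrete
import Cfsg.Agent.Lib.Helper9.GolayG6

set_option autoImplicit false
open Cfsg

namespace Cfsg.Agent.S0386

open Cfsg.Agent.Lib.Helper9 Cfsg.Agent.Lib.Helper9.GolayG Finset

theorem set_eq_filter {α : Type*} [Fintype α] [DecidableEq α] (B : Set (Finset α)) (d : Finset α)
    (j : ℕ) :
    {o : Finset α | o ∈ B ∧ (o ∩ d).card = j} =
      ↑((blocksFinset B).filter (fun o => (o ∩ d).card = j)) := by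
  ext o
  rw [Set.mem_setOf_eq, Finset.mem_coe, mem_filter, mem_blocksFinset]

/-- For a fixed dodecad, 132 octads meet it in 6 points, 132 in 2 points and 495 in 4 points. -/
theorem result (d : Finset Cfsg.GolayPt) (hd : d ∈ Cfsg.dodecads) : {o : Finset Cfsg.GolayPt | o ∈ Cfsg.octads ∧ (o ∩ d).card = 6}.ncard = 132 ∧ {o : Finset Cfsg.GolayPt | o ∈ Cfsg.octads ∧ (o ∩ d).card = 2}.ncard = 132 ∧ {o : Finset Cfsg.GolayPt | o ∈ Cfsg.octads ∧ (o ∩ d).card = 4}.ncard = 495 := by
  obtain ⟨⟨dw, hdw, rfl⟩, hcard⟩ := hd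
  have h12 : hammingNorm dw = 12 := by rw [hammingNorm_eq_card_support₂, hcard]
  have h := dodecad_octad_counts golayCode_isAbsGolay hdw h12
  rw [set_eq_filter, set_eq_filter, set_eq_filter, Set.ncard_coe_finset, Set.ncard_coe_finset,
    Set.ncard_coe_finset]
  exact h

end Cfsg.Agent.S0386
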