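import Cfsg.Statements.S0413
import Cfsg.Agent.Lib.Helper1.SteinAut2
import Cfsg.Agent.S0363
import Cfsg.Agent.S0376
import Cfsg.Agent.S0377
import Cfsg.Agent.S0366
import Cfsg.Agent.S0369
import Cfsg.Agent.S0409

set_option autoImplicit false
open Cfsg

namespace Cfsg.Agent.S0413

/-- Aut of an S(4, 7, 23) is simple of order 10200960 and 4-transitive. -/
theorem result {α : Type*} [Fintype α] [DecidableEq α] (hα : Fintype.card α = 23) {B : Set (Finset α)} (hB : Cfsg.IsSteinerSystem 4 7 B) : Cfsg.IsM23 (Cfsg.setSystemAut B) ∧ MulAction.IsMultiplyPretransitive (Cfsg.setSystemAut B) α 4 := by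
  open Cfsg.Agent.Lib.Helper1.Stein in
  have hcard : Fintype.card Cfsg.GolayPt = 24 := by
    simp [Cfsg.GolayPt]
  have hoct := Cfsg.Agent.S0363.result
  set p : Cfsg.GolayPt := none with hp
  have hD : Cfsg.IsSteinerSystem 4 7 (derivedSys Cfsg.octads p) := derived_steiner hoct p
  have hcγ : Fintype.card {a : Cfsg.GolayPt // a ≠ p} = 23 := card_subtype_ne' hcard p
  obtain ⟨e, he⟩ := Cfsg.Agent.S0409.result hcγ hα hD hB
  change mapSys e (derivedSys Cfsg.octads p) = B at he
  subst he
  have hM : Cfsg.M24 = Cfsg.setSystemAut Cfsg.octads := Cfsg.Agent.S0369.result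
  have hsimple : IsSimpleGroup (MulAction.stabilizer (Cfsg.setSystemAut Cfsg.octads) p) := by
    rw [← hM]; exact Cfsg.Agent.S0377.result p
  have hc : Nat.card (MulAction.stabilizer (Cfsg.setSystemAut Cfsg.octads) p) = 10200960 := by
    rw [← hM]; exact Cfsg.Agent.S0376.result p
  have htr : MulAction.IsMultiplyPretransitive (Cfsg.setSystemAut Cfsg.octads) Cfsg.GolayPt 5 := by
    rw [← hM]; exact Cfsg.Agent.S0366.result
  set ψ := (restrictEquiv hcard hoct p).trans (autCongr e (derivedSys Cfsg.octads p)) with hψ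
  refine ⟨⟨?_, ?_⟩, ?_⟩
  · exact ψ.symm.isSimpleGroup
  · rw [← Nat.card_congr ψ.toEquiv]
    exact hc
  · exact pretransitive_congr e _ 4 (derived_pretransitive Cfsg.octads p 4 htr)

end Cfsg.Agent.S0413
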