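import Cfsg.Statements.S1694
import Cfsg.Agent.Lib.Helper6.Spor.SuzOrd
import Cfsg.Agent.Lib.Helper6.Simp1
import Cfsg.Agent.Lib.Helper6.Simp2
import Cfsg.Agent.Lib.Helper6.TCD.SuzaL.NC

set_option autoImplicit false
open Cfsg

namespace Cfsg.Agent.S1694

open Cfsg.Spor Cfsg.Agent.Lib.Helper6.TC Cfsg.Agent.Lib.Helper6.TCD Cfsg.Agent.Lib.Helper6.Simp
open Cfsg.Agent.Lib.Helper6.TCP.Suz Cfsg.Agent.Lib.Helper6.TCD.Suza Cfsg.Agent.Lib.Helper6.TCD.SuzaL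

section helpers
set_option maxRecDepth 100000
set_option linter.unusedSimpArgs false

/-- an element of order 11 -/
def wx : List ℕ := [2, 3, 5, 6, 1, 4]
def wu : List ℕ := [4]
def wv : List ℕ := [3, 2, 3, 2, 1, 2, 0, 1, 6, 5, 2, 1]

/-- the word of a conjugate of a power of `x x^u` that is equal to the generator `a` -/
noncomputable def wR : List ℕ :=
  invw Cfsg.Agent.Lib.Helper6.TCP.Suz.INV wv ++
    (List.replicate 6 (wx ++ invw Cfsg.Agent.Lib.Helper6.TCP.Suz.INV wu ++ wx ++ wu)).flatten ++ wv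

theorem hXP : ∀ q < 1782, wapp px (List.replicate 11 wx).flatten q = q := by
  intro q hq
  have e : (List.replicate 11 wx).flatten = [2, 3, 5, 6, 1, 4, 2, 3, 5, 6, 1, 4, 2, 3, 5, 6, 1, 4, 2, 3, 5, 6, 1, 4, 2, 3, 5, 6, 1, 4, 2, 3, 5, 6, 1, 4, 2, 3, 5, 6, 1, 4, 2, 3, 5, 6, 1, 4, 2, 3, 5, 6, 1, 4, 2, 3, 5, 6, 1, 4, 2, 3, 5, 6, 1, 4] := by
    decide +kernel
  have e2 : wapp px [2, 3, 5, 6, 1, 4, 2, 3, 5, 6, 1, 4, 2, 3, 5, 6, 1, 4, 2, 3, 5, 6, 1, 4, 2, 3, 5, 6, 1, 4, 2, 3, 5, 6, 1, 4, 2, 3, 5, 6, 1, 4, 2, 3, 5, 6, 1, 4, 2, 3, 5, 6, 1, 4, 2, 3, 5, 6, 1, 4, 2, 3, 5, 6, 1, 4] q = XP q := by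
    simp only [wapp_cons, wapp_nil, Cfsg.Agent.S1680.px_c0, Cfsg.Agent.S1680.px_c1, Cfsg.Agent.S1680.px_c2, Cfsg.Agent.S1680.px_c3, Cfsg.Agent.S1680.px_c4, Cfsg.Agent.S1680.px_c5, Cfsg.Agent.S1680.px_c6]
    rfl
  rw [e, e2]
  exact chkFix_spec chkXP0 q (by omega) (by omega)

theorem hWR : ∀ q < 1782, wapp px wR q = wapp px [0] q := by
  intro q hq
  have e : wR = [1, 2, 5, 6, 1, 0, 2, 1, 2, 3, 2, 3, 2, 3, 5, 6, 1, 4, 4, 2, 3, 5, 6, 1, 4, 4, 2, 3, 5, 6, 1, 4, 4, 2, 3, 5, 6, 1, 4, 4, 2, 3, 5, 6, 1, 4, 4, 2, 3, 5, 6, 1, 4, 4, 2, 3, 5, 6, 1, 4, 4, 2, 3, 5, 6, 1, 4, 4, 2, 3, 5, 6, 1, 4, 4, 2, 3, 5, 6, 1, 4, 4, 2, 3, 5, 6, 1, 4, 4, 2, 3, 5, 6, 1, 4, 4, 3, 2, 3, 2, 1, 2, 0, 1, 6, 5, 2, 1] := by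
    decide +kernel
  have e2 : wapp px [1, 2, 5, 6, 1, 0, 2, 1, 2, 3, 2, 3, 2, 3, 5, 6, 1, 4, 4, 2, 3, 5, 6, 1, 4, 4, 2, 3, 5, 6, 1, 4, 4, 2, 3, 5, 6, 1, 4, 4, 2, 3, 5, 6, 1, 4, 4, 2, 3, 5, 6, 1, 4, 4, 2, 3, 5, 6, 1, 4, 4, 2, 3, 5, 6, 1, 4, 4, 2, 3, 5, 6, 1, 4, 4, 2, 3, 5, 6, 1, 4, 4, 2, 3, 5, 6, 1, 4, 4, 2, 3, 5, 6, 1, 4, 4, 3, 2, 3, 2, 1, 2, 0, 1, 6, 5, 2, 1] q = WR q := by
    simp only [wapp_cons, wapp_nil, Cfsg.Agent.S1680.px_c0, Cfsg.Agent.S1680.px_c1, Cfsg.Agent.S1680.px_c2, Cfsg.Agent.S1680.px_c3, Cfsg.Agent.S1680.px_c4, Cfsg.Agent.S1680.px_c5, Cfsg.Agent.S1680.px_c6]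
    rfl
  rw [e, e2]
  exact chkEqF_spec chkWR0 q (by omega) (by omega)

theorem hmove : wapp px wx 0 ≠ 0 := by decide +kernel

theorem hsqall (c : ℕ) : PresentedGroup.mk Rels (ceOf gc c) * PresentedGroup.mk Rels (ceOf gc c) = 1 :=
  gen_sq (gen c)

end helpers

/-- The presented sporadic Suzuki group is simple of the expected order. -/
theorem result : Cfsg.IsSuz Cfsg.Spor.Suz := by
  obtain ⟨φ, hw, ⟨F, hF⟩, hinj, hcard, hfin⟩ := Cfsg.Agent.Lib.Helper6.SuzOrd.suz_rep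
  refine ⟨?_, hcard⟩
  have hnt : Nontrivial Suz := by
    rw [← Finite.one_lt_card_iff_nontrivial, hcard]
    norm_num
  obtain ⟨hidx, q₁, q₂, h1, h2⟩ := Cfsg.Agent.S1680.result
  have hmax := coatom_of_rank3 _ hidx q₂ q₁ h2 h1 (by norm_num) (by norm_num) (by norm_num)
    (by norm_num) (by norm_num) (by norm_num)
  have : Fact (Nat.Prime 11) := ⟨by norm_num⟩
  refine simple_of_max (subH Rels Cfsg.Agent.Lib.Helper6.SuzUB.S) hmax (core_eq_bot hinj F hF) (p := 11)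
    (by rw [hidx]; norm_num) (by rw [hcard]; norm_num)
    (x := PresentedGroup.mk Rels (wordElt gc wx))
    (orderOf_word hinj hw (by decide) hXP (q0 := 0) (by decide) hmove) ?_
  intro K hK hxK
  have ha : PresentedGroup.mk Rels (wordElt gc [0]) ∈ K := by
    rw [← mk_eq_of_wapp_eq (gc := gc) hinj hw (w := wR) (by decide +kernel) (by decide) hWR]
    exact conj_word_mem hinvG hK 6 (by decide) (by decide) hxK
  have k0 : ∀ c ∈ [0], QuotientGroup.mk' K (PresentedGroup.mk Rels (ceOf gc c)) = 1 := by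
    intro c hc
    rw [List.mem_singleton] at hc
    subst hc
    rw [QuotientGroup.mk'_apply, QuotientGroup.eq_one_iff]
    rw [wordElt_cons, wordElt_nil, mul_one] at ha
    exact ha
  have k1 := collapse_step (QuotientGroup.mk' K) [0] hsqall k0
    (hbase [0, 1, 0, 1, 0, 1, 0, 1, 0, 1] (by decide +kernel)) (c := 1) (m := 1) (by decide) (by decide)
  have k2 := collapse_step (QuotientGroup.mk' K) _ hsqall k1
    (hbase [1, 2, 1, 2, 1, 2] (by decide +kernel)) (c := 2) (m := 1) (by decide) (by decide)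
  have k3 := collapse_step (QuotientGroup.mk' K) _ hsqall k2
    (hbase [1, 5, 1, 5, 1, 5] (by decide +kernel)) (c := 5) (m := 1) (by decide) (by decide)
  have k4 := collapse_step (QuotientGroup.mk' K) _ hsqall k3
    (hbase [1, 6, 1, 6, 1, 6] (by decide +kernel)) (c := 6) (m := 1) (by decide) (by decide)
  have k5 := collapse_step (QuotientGroup.mk' K) _ hsqall k4
    (hbase w4 (by decide +kernel)) (c := 4) (m := 1) (by decide +kernel) (by decide)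
  have k6 := collapse_step (QuotientGroup.mk' K) _ hsqall k5
    (hbase [3, 4, 3, 4, 3, 4] (by decide +kernel)) (c := 3) (m := 1) (by decide) (by decide)
  apply eq_top_of_columns hgen
  intro c hc
  apply k6
  interval_cases c <;> decide

end Cfsg.Agent.S1694
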