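import Cfsg.Statements.S0425
import Cfsg.Agent.Lib.Helper1.SteinAut5
import Cfsg.Agent.S0382
import Cfsg.Agent.S0383

set_option autoImplicit false
open Cfsg

namespace Cfsg.Agent.S0425

/-- Aut of an S(5, 6, 12) is simple of order 95040 and sharply 5-transitive on points. -/
theorem result {α : Type*} [Fintype α] [DecidableEq α] (hα : Fintype.card α = 12) {B : Set (Finset α)} (hB : Cfsg.IsSteinerSystem 5 6 B) : Cfsg.IsM12 (Cfsg.setSystemAut B) ∧ MulAction.IsMultiplyPretransitive (Cfsg.setSystemAut B) α 5 ∧ ∀ x : Fin 5 ↪ α, MulAction.stabilizer (Cfsg.setSystemAut B) x = ⊥ := by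
  open Cfsg.Agent.Lib.Helper1.Stein Cfsg.Agent.Lib.Helper1.M24 in
  open scoped Pointwise in
  obtain ⟨e1, he1⟩ := W12.unique hα hB
  change mapSys e1 B = sysOf 12 W12.K0 at he1
  have hS : Cfsg.IsSteinerSystem 5 6 (sysOf 12 W12.K0) := he1 ▸ steiner_map 5 6 e1 hB
  have hd := d₀fin_mem
  obtain ⟨e2, he2⟩ := W12.unique (card_dodecad_pts _ hd) (hexads_steiner _ hd)
  change mapSys e2 _ = sysOf 12 W12.K0 at he2
  have hM : Nat.card (MulAction.stabilizer Cfsg.M24 d₀fin) = Nat.descFactorial 12 5 := by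
    rw [Cfsg.Agent.S0382.result _ hd]; decide
  obtain ⟨⟨φ⟩, htr, hstab⟩ := sharp_assembly (n := 12) (t := 5) (by norm_num) (W12.rigid hS)
    e2 he2 (trans12 _ hd) hM (rho12 _) (rho12_injective _ hd) e1 he1
  refine ⟨⟨?_, ?_⟩, htr, hstab⟩
  · have := Cfsg.Agent.S0383.result _ hd
    exact φ.isSimpleGroup
  · rw [Nat.card_congr φ.toEquiv]
    exact Cfsg.Agent.S0382.result _ hd

end Cfsg.Agent.S0425
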