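import Cfsg.Statements.S0426
import Cfsg.Agent.Lib.Helper1.SteinAut6
import Cfsg.Agent.S0387
import Cfsg.Agent.S0388

set_option autoImplicit false
open Cfsg

namespace Cfsg.Agent.S0426

/-- Aut of an S(4, 5, 11) is simple of order 7920 and sharply 4-transitive on points. -/
theorem result {α : Type*} [Fintype α] [DecidableEq α] (hα : Fintype.card α = 11) {B : Set (Finset α)} (hB : Cfsg.IsSteinerSystem 4 5 B) : Cfsg.IsM11 (Cfsg.setSystemAut B) ∧ MulAction.IsMultiplyPretransitive (Cfsg.setSystemAut B) α 4 ∧ ∀ x : Fin 4 ↪ α, MulAction.stabilizer (Cfsg.setSystemAut B) x = ⊥ := by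
  open Cfsg.Agent.Lib.Helper1.Stein Cfsg.Agent.Lib.Helper1.M24 in
  open scoped Pointwise in
  obtain ⟨e1, he1⟩ := W11.unique hα hB
  change mapSys e1 B = sysOf 11 W11.K0 at he1
  have hS : Cfsg.IsSteinerSystem 4 5 (sysOf 11 W11.K0) := he1 ▸ steiner_map 4 5 e1 hB
  have hd := d₀fin_mem
  obtain ⟨q, hq⟩ : ∃ q, q ∈ d₀fin := by
    apply Finset.card_pos.1
    rw [hd.2]; norm_num
  have hD := derived_steiner (hexads_steiner _ hd) (⟨q, hq⟩ : {p : Cfsg.GolayPt // p ∈ d₀fin})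
  obtain ⟨e2, he2⟩ := W11.unique (card_subtype_ne' (card_dodecad_pts _ hd) _) hD
  change mapSys e2 _ = sysOf 11 W11.K0 at he2
  have hM : Nat.card (MulAction.stabilizer Cfsg.M24 d₀fin ⊓ MulAction.stabilizer Cfsg.M24 q :
      Subgroup Cfsg.M24) = Nat.descFactorial 11 4 := by
    rw [Cfsg.Agent.S0387.result _ hd q hq]; decide
  obtain ⟨⟨φ⟩, htr, hstab⟩ := sharp_assembly (n := 11) (t := 4) (by norm_num) (W11.rigid hS)
    e2 he2 (derived_pretransitive _ _ 4 (trans12 _ hd)) hM (rho11 _ q hq)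
    (rho11_injective _ q hq hd) e1 he1
  refine ⟨⟨?_, ?_⟩, htr, hstab⟩
  · have := Cfsg.Agent.S0388.result _ hd q hq
    exact φ.isSimpleGroup
  · rw [Nat.card_congr φ.toEquiv]
    exact Cfsg.Agent.S0387.result _ hd q hq

end Cfsg.Agent.S0426
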