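import Mathlib
import Cfsg.Statements.S0427
import Cfsg.Agent.Lib.Helper9.Steiner322b

set_option autoImplicit false
open Cfsg

namespace Cfsg.Agent.S0427

open Cfsg.Agent.Lib.Helper9 Finset

section
variable {α : Type*} [Fintype α] [DecidableEq α] {B : Set (Finset α)}

/-- Counting a set of blocks given as a set of the subtype. -/
theorem card_subtype_set (S : Set ↥B) [Fintype S] (P : Finset α → Prop) [DecidablePred P]
    (hP : ∀ d (hd : d ∈ B), (⟨d, hd⟩ : ↥B) ∈ S ↔ P d) :
    Fintype.card S = ((blocksFinset B).filter P).card := by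
  rw [← Nat.card_eq_fintype_card, Nat.card_coe_set_eq, ← Set.ncard_image_of_injective S Subtype.val_injective,
    ← Set.ncard_coe_finset]
  congr 1
  ext d
  rw [Set.mem_image, Finset.mem_coe, mem_filter, mem_blocksFinset]
  constructor
  · rintro ⟨⟨d', hd'⟩, hS, rfl⟩
    exact ⟨hd', (hP d' hd').1 hS⟩
  · rintro ⟨hd, hPd⟩
    exact ⟨⟨d, hd⟩, (hP d hd).2 hPd, rfl⟩

theorem card_blocks_type [Fintype B] : Fintype.card ↥B = (blocksFinset B).card := by
  rw [← Nat.card_eq_fintype_card, Nat.card_coe_set_eq, ← Set.ncard_coe_finset]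
  congr 1
  ext d
  rw [Finset.mem_coe, mem_blocksFinset]

theorem blockGraph_adj_iff (hB : Cfsg.IsSteinerSystem 3 6 B) (v w : ↥B) :
    (Cfsg.blockGraph B).Adj v w ↔ ((w : Finset α) ∩ (v : Finset α)).card = 0 := by
  unfold Cfsg.blockGraph
  rw [SimpleGraph.fromRel_adj, Finset.card_eq_zero, ← Finset.disjoint_iff_inter_eq_empty]
  constructor
  · rintro ⟨-, h | h⟩
    · exact h.symm
    · exact h
  · intro h
    refine ⟨?_, Or.inr h⟩
    rintro rfl
    have := hB.1 v.1 v.2
    rw [Finset.disjoint_self_iff_empty] at h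
    rw [h, Finset.card_empty] at this
    omega

end

/-- The block graph (adjacent = disjoint) of an S(3, 6, 22) is strongly regular with parameters (77, 16, 0, 4). -/
theorem result {α : Type*} [Fintype α] (hα : Fintype.card α = 22) {B : Set (Finset α)} (hB : Cfsg.IsSteinerSystem 3 6 B) [Fintype B] [DecidableRel (Cfsg.blockGraph B).Adj] : (Cfsg.blockGraph B).IsSRGWith 77 16 0 4 := by
  classical
  refine ⟨?_, ?_, ?_, ?_⟩
  · rw [card_blocks_type, s322_card_blocks hα hB]
  · intro v
    rw [← SimpleGraph.card_neighborSet_eq_degree,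
      card_subtype_set ((Cfsg.blockGraph B).neighborSet v) (fun d => (d ∩ (v : Finset α)).card = 0)]
    · exact (s322_inter_block hα hB v.2).1
    · intro d hd
      rw [SimpleGraph.mem_neighborSet, blockGraph_adj_iff hB]
  · intro v w hadj
    have hvw : ((w : Finset α) ∩ (v : Finset α)).card = 0 := (blockGraph_adj_iff hB v w).1 hadj
    have hne : (v : Finset α) ≠ (w : Finset α) := by
      intro h
      exact hadj.ne (Subtype.ext h)
    rw [card_subtype_set ((Cfsg.blockGraph B).commonNeighbors v w)
      (fun d => (d ∩ (v : Finset α)).card = 0 ∧ (d ∩ (w : Finset α)).card = 0)]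
    · rw [s322_disjoint_both hα hB v.2 w.2 hne, Finset.inter_comm, hvw]
    · intro d hd
      rw [SimpleGraph.mem_commonNeighbors, blockGraph_adj_iff hB, blockGraph_adj_iff hB]
  · intro v w hvw hnadj
    have hne : (v : Finset α) ≠ (w : Finset α) := by
      intro h
      exact hvw (Subtype.ext h)
    have h2 : ((w : Finset α) ∩ (v : Finset α)).card = 2 := by
      rcases s322_inter_values hα hB v.2 w.2 (Ne.symm hne) with h | h
      · exact absurd ((blockGraph_adj_iff hB v w).2 h) hnadj
      · exact h
    rw [card_subtype_set ((Cfsg.blockGraph B).commonNeighbors v w)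
      (fun d => (d ∩ (v : Finset α)).card = 0 ∧ (d ∩ (w : Finset α)).card = 0)]
    · rw [s322_disjoint_both hα hB v.2 w.2 hne, Finset.inter_comm, h2]
    · intro d hd
      rw [SimpleGraph.mem_commonNeighbors, blockGraph_adj_iff hB, blockGraph_adj_iff hB]

end Cfsg.Agent.S0427
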