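import Mathlib
import Cfsg.Statements.S0428
import Cfsg.Agent.Lib.Helper9.Steiner322b

set_option autoImplicit false
open Cfsg

namespace Cfsg.Agent.S0428

open Cfsg.Agent.Lib.Helper9 Finset

theorem ncard_eq_sum_ite {γ : Type*} [Fintype γ] (T : Set γ) [DecidablePred (· ∈ T)] :
    T.ncard = ∑ x : γ, if x ∈ T then 1 else 0 := by
  classical
  rw [Set.ncard_eq_toFinset_card', ← Set.filter_mem_univ_eq_toFinset, Finset.card_filter]

open Classical in
theorem ncard_option_sum {α β : Type*} [Fintype α] [Fintype β] (S : Set (Option (α ⊕ β))) :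
    S.ncard = (if none ∈ S then 1 else 0) + {a : α | some (Sum.inl a) ∈ S}.ncard +
      {b : β | some (Sum.inr b) ∈ S}.ncard := by
  classical
  rw [ncard_eq_sum_ite S, ncard_eq_sum_ite {a : α | some (Sum.inl a) ∈ S},
    ncard_eq_sum_ite {b : β | some (Sum.inr b) ∈ S}, Fintype.sum_option, Fintype.sum_sum_type]
  simp only [Set.mem_setOf_eq]
  omega

section
variable {α : Type*} {B : Set (Finset α)}

theorem adj_none_none : ¬ (pointBlockGraph B).Adj none none := fun h => h.ne rfl

theorem adj_none_inl (a : α) : (pointBlockGraph B).Adj none (some (Sum.inl a)) := by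
  simp [pointBlockGraph, pointBlockRel]

theorem adj_inl_none (a : α) : (pointBlockGraph B).Adj (some (Sum.inl a)) none := by
  simp [pointBlockGraph, pointBlockRel]

theorem adj_none_inr (b : B) : ¬ (pointBlockGraph B).Adj none (some (Sum.inr b)) := by
  simp [pointBlockGraph, pointBlockRel]

theorem adj_inr_none (b : B) : ¬ (pointBlockGraph B).Adj (some (Sum.inr b)) none := by
  simp [pointBlockGraph, pointBlockRel]

theorem adj_inl_inl (a a' : α) :
    ¬ (pointBlockGraph B).Adj (some (Sum.inl a)) (some (Sum.inl a')) := by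
  simp [pointBlockGraph, pointBlockRel]

theorem adj_inl_inr (a : α) (b : B) :
    (pointBlockGraph B).Adj (some (Sum.inl a)) (some (Sum.inr b)) ↔ a ∈ (b : Finset α) := by
  simp [pointBlockGraph, pointBlockRel]

theorem adj_inr_inl (a : α) (b : B) :
    (pointBlockGraph B).Adj (some (Sum.inr b)) (some (Sum.inl a)) ↔ a ∈ (b : Finset α) := by
  simp [pointBlockGraph, pointBlockRel]

theorem adj_inr_inr [DecidableEq α] (hB : Cfsg.IsSteinerSystem 3 6 B) (b c : B) :
    (pointBlockGraph B).Adj (some (Sum.inr b)) (some (Sum.inr c)) ↔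
      ((c : Finset α) ∩ (b : Finset α)).card = 0 := by
  unfold pointBlockGraph
  rw [SimpleGraph.fromRel_adj, Finset.card_eq_zero, ← Finset.disjoint_iff_inter_eq_empty]
  simp only [pointBlockRel]
  constructor
  · rintro ⟨-, h | h⟩
    · exact h.symm
    · exact h
  · intro h
    refine ⟨?_, Or.inr h⟩
    intro heq
    have hbc : b = c := Sum.inr_injective (Option.some_injective _ heq)
    subst hbc
    have := hB.1 b.1 b.2
    rw [Finset.disjoint_self_iff_empty] at h
    rw [h, Finset.card_empty] at this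
    omega

end

section
variable {α : Type*} [Fintype α] [DecidableEq α] {B : Set (Finset α)}

theorem ncard_blocks_set (S : Set ↥B) (P : Finset α → Prop) [DecidablePred P]
    (hP : ∀ d (hd : d ∈ B), (⟨d, hd⟩ : ↥B) ∈ S ↔ P d) :
    S.ncard = ((blocksFinset B).filter P).card := by
  rw [← Set.ncard_image_of_injective S Subtype.val_injective, ← Set.ncard_coe_finset]
  congr 1
  ext d
  rw [Set.mem_image, Finset.mem_coe, mem_filter, mem_blocksFinset]
  constructor
  · rintro ⟨⟨d', hd'⟩, hS, rfl⟩
    exact ⟨hd', (hP d' hd').1 hS⟩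
  · rintro ⟨hd, hPd⟩
    exact ⟨⟨d, hd⟩, (hP d hd).2 hPd, rfl⟩

theorem ncard_pts (S : Set α) (t : Finset α) (h : ∀ a, a ∈ S ↔ a ∈ t) : S.ncard = t.card := by
  have : S = ↑t := by
    ext a
    rw [h, Finset.mem_coe]
  rw [this, Set.ncard_coe_finset]

theorem ncard_parts_of_mem [Fintype B] (S : Set (Option (α ⊕ B))) (t : Finset α)
    (P : Finset α → Prop) [DecidablePred P] (h0 : none ∈ S)
    (h1 : ∀ a, some (Sum.inl a) ∈ S ↔ a ∈ t)
    (h2 : ∀ d (hd : d ∈ B), some (Sum.inr (⟨d, hd⟩ : ↥B)) ∈ S ↔ P d) :
    S.ncard = 1 + t.card + ((blocksFinset B).filter P).card := by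
  rw [ncard_option_sum S, if_pos h0, ncard_pts {a : α | some (Sum.inl a) ∈ S} t h1,
    ncard_blocks_set {b : ↥B | some (Sum.inr b) ∈ S} P h2]

theorem ncard_parts_of_not_mem [Fintype B] (S : Set (Option (α ⊕ B))) (t : Finset α)
    (P : Finset α → Prop) [DecidablePred P] (h0 : none ∉ S)
    (h1 : ∀ a, some (Sum.inl a) ∈ S ↔ a ∈ t)
    (h2 : ∀ d (hd : d ∈ B), some (Sum.inr (⟨d, hd⟩ : ↥B)) ∈ S ↔ P d) :
    S.ncard = t.card + ((blocksFinset B).filter P).card := by
  rw [ncard_option_sum S, if_neg h0, ncard_pts {a : α | some (Sum.inl a) ∈ S} t h1,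
    ncard_blocks_set {b : ↥B | some (Sum.inr b) ∈ S} P h2, zero_add]

theorem filter_false_card (s : Finset (Finset α)) : (s.filter (fun _ => False)).card = 0 := by
  simp

theorem card_blocks_type [Fintype B] : Fintype.card ↥B = (blocksFinset B).card := by
  rw [← Nat.card_eq_fintype_card, Nat.card_coe_set_eq, ← Set.ncard_coe_finset]
  congr 1
  ext d
  rw [Finset.mem_coe, mem_blocksFinset]

theorem deg_eq [Fintype B] (hα : Fintype.card α = 22) (hB : Cfsg.IsSteinerSystem 3 6 B)
    (v : Option (α ⊕ B)) : ((pointBlockGraph B).neighborSet v).ncard = 22 := by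
  rcases v with _ | a | b
  · rw [ncard_parts_of_not_mem _ Finset.univ (fun _ => False)]
    · rw [Finset.card_univ, hα, filter_false_card]
    · exact adj_none_none
    · intro a
      simp only [SimpleGraph.mem_neighborSet, Finset.mem_univ, iff_true]
      exact adj_none_inl a
    · intro d hd
      simp only [SimpleGraph.mem_neighborSet, iff_false]
      exact adj_none_inr _
  · rw [ncard_parts_of_mem _ ∅ (fun d => a ∈ d)]
    · rw [Finset.card_empty, s322_card_through_point hα hB a]
    · exact adj_inl_none a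
    · intro a'
      simp only [SimpleGraph.mem_neighborSet, Finset.notMem_empty, iff_false]
      exact adj_inl_inl a a'
    · intro d hd
      rw [SimpleGraph.mem_neighborSet, adj_inl_inr]
  · rw [ncard_parts_of_not_mem _ (b : Finset α) (fun d => (d ∩ (b : Finset α)).card = 0)]
    · rw [hB.1 b.1 b.2, (s322_inter_block hα hB b.2).1]
    · exact adj_inr_none b
    · intro a
      rw [SimpleGraph.mem_neighborSet, adj_inr_inl]
    · intro d hd
      rw [SimpleGraph.mem_neighborSet, adj_inr_inr hB]

theorem cn_none_inl [Fintype B] (a : α) :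
    ((pointBlockGraph B).commonNeighbors none (some (Sum.inl a))).ncard = 0 := by
  rw [ncard_parts_of_not_mem _ ∅ (fun _ => False)]
  · rw [Finset.card_empty, filter_false_card]
  · rw [SimpleGraph.mem_commonNeighbors]
    exact fun h => adj_none_none h.1
  · intro a'
    simp only [SimpleGraph.mem_commonNeighbors, Finset.notMem_empty, iff_false]
    exact fun h => adj_inl_inl a a' h.2
  · intro d hd
    simp only [SimpleGraph.mem_commonNeighbors, iff_false]
    exact fun h => adj_none_inr _ h.1

theorem cn_inl_inr_adj [Fintype B] (hB : Cfsg.IsSteinerSystem 3 6 B) (a : α) (b : B)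
    (hab : a ∈ (b : Finset α)) :
    ((pointBlockGraph B).commonNeighbors (some (Sum.inl a)) (some (Sum.inr b))).ncard = 0 := by
  rw [ncard_parts_of_not_mem _ ∅ (fun d => a ∈ d ∧ (d ∩ (b : Finset α)).card = 0)]
  · rw [Finset.card_empty, zero_add, Finset.card_eq_zero, Finset.eq_empty_iff_forall_notMem]
    intro d hd
    rw [mem_filter] at hd
    have : a ∈ d ∩ (b : Finset α) := Finset.mem_inter.2 ⟨hd.2.1, hab⟩
    rw [Finset.card_eq_zero.1 hd.2.2] at this
    exact Finset.notMem_empty _ this
  · rw [SimpleGraph.mem_commonNeighbors]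
    exact fun h => adj_inr_none b h.2
  · intro a'
    simp only [SimpleGraph.mem_commonNeighbors, Finset.notMem_empty, iff_false]
    exact fun h => adj_inl_inl a a' h.1
  · intro d hd
    rw [SimpleGraph.mem_commonNeighbors, adj_inl_inr, adj_inr_inr hB]

theorem cn_inr_inr [Fintype B] (hα : Fintype.card α = 22) (hB : Cfsg.IsSteinerSystem 3 6 B)
    (b c : B) (hne : b ≠ c) :
    ((pointBlockGraph B).commonNeighbors (some (Sum.inr b)) (some (Sum.inr c))).ncard =
      3 * ((b : Finset α) ∩ (c : Finset α)).card := by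
  have hne' : (b : Finset α) ≠ (c : Finset α) := fun h => hne (Subtype.ext h)
  rw [ncard_parts_of_not_mem _ ((b : Finset α) ∩ (c : Finset α))
    (fun d => (d ∩ (b : Finset α)).card = 0 ∧ (d ∩ (c : Finset α)).card = 0)]
  · rw [s322_disjoint_both hα hB b.2 c.2 hne']
    omega
  · rw [SimpleGraph.mem_commonNeighbors]
    exact fun h => adj_inr_none b h.1
  · intro a
    rw [SimpleGraph.mem_commonNeighbors, adj_inr_inl, adj_inr_inl, Finset.mem_inter]
  · intro d hd
    rw [SimpleGraph.mem_commonNeighbors, adj_inr_inr hB, adj_inr_inr hB]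

theorem cn_none_inr [Fintype B] (hB : Cfsg.IsSteinerSystem 3 6 B) (b : B) :
    ((pointBlockGraph B).commonNeighbors none (some (Sum.inr b))).ncard = 6 := by
  rw [ncard_parts_of_not_mem _ (b : Finset α) (fun _ => False)]
  · rw [hB.1 b.1 b.2, filter_false_card]
  · rw [SimpleGraph.mem_commonNeighbors]
    exact fun h => adj_none_none h.1
  · intro a
    rw [SimpleGraph.mem_commonNeighbors, adj_inr_inl]
    exact ⟨fun h => h.2, fun h => ⟨adj_none_inl a, h⟩⟩
  · intro d hd
    simp only [SimpleGraph.mem_commonNeighbors, iff_false]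
    exact fun h => adj_none_inr _ h.1

theorem cn_inl_inl [Fintype B] (hα : Fintype.card α = 22) (hB : Cfsg.IsSteinerSystem 3 6 B)
    (a a' : α) (hne : a ≠ a') :
    ((pointBlockGraph B).commonNeighbors (some (Sum.inl a)) (some (Sum.inl a'))).ncard = 6 := by
  rw [ncard_parts_of_mem _ ∅ (fun d => a ∈ d ∧ a' ∈ d)]
  · rw [Finset.card_empty, s322_card_through_pair hα hB hne]
  · rw [SimpleGraph.mem_commonNeighbors]
    exact ⟨adj_inl_none a, adj_inl_none a'⟩
  · intro x
    simp only [SimpleGraph.mem_commonNeighbors, Finset.notMem_empty, iff_false]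
    exact fun h => adj_inl_inl a x h.1
  · intro d hd
    rw [SimpleGraph.mem_commonNeighbors, adj_inl_inr, adj_inl_inr]

theorem cn_inl_inr_nadj [Fintype B] (hα : Fintype.card α = 22) (hB : Cfsg.IsSteinerSystem 3 6 B)
    (a : α) (b : B) (hab : a ∉ (b : Finset α)) :
    ((pointBlockGraph B).commonNeighbors (some (Sum.inl a)) (some (Sum.inr b))).ncard = 6 := by
  rw [ncard_parts_of_not_mem _ ∅ (fun d => a ∈ d ∧ (d ∩ (b : Finset α)).card = 0)]
  · rw [Finset.card_empty, zero_add, s322_point_disjoint hα hB b.2 hab]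
  · rw [SimpleGraph.mem_commonNeighbors]
    exact fun h => adj_inr_none b h.2
  · intro a'
    simp only [SimpleGraph.mem_commonNeighbors, Finset.notMem_empty, iff_false]
    exact fun h => adj_inl_inl a a' h.1
  · intro d hd
    rw [SimpleGraph.mem_commonNeighbors, adj_inl_inr, adj_inr_inr hB]

theorem cn_adj [Fintype B] (hα : Fintype.card α = 22) (hB : Cfsg.IsSteinerSystem 3 6 B)
    (v w : Option (α ⊕ B)) (h : (pointBlockGraph B).Adj v w) :
    ((pointBlockGraph B).commonNeighbors v w).ncard = 0 := by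
  rcases v with _ | a | b <;> rcases w with _ | a' | c
  · exact absurd h adj_none_none
  · exact cn_none_inl a'
  · exact absurd h (adj_none_inr c)
  · rw [SimpleGraph.commonNeighbors_symm]
    exact cn_none_inl a
  · exact absurd h (adj_inl_inl a a')
  · exact cn_inl_inr_adj hB a c ((adj_inl_inr a c).1 h)
  · exact absurd h (adj_inr_none b)
  · rw [SimpleGraph.commonNeighbors_symm]
    exact cn_inl_inr_adj hB a' b ((adj_inr_inl a' b).1 h)
  · have hne : b ≠ c := by
      rintro rfl
      exact h.ne rfl
    have h0 := (adj_inr_inr hB b c).1 h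
    rw [cn_inr_inr hα hB b c hne, Finset.inter_comm, h0]

theorem cn_nadj [Fintype B] (hα : Fintype.card α = 22) (hB : Cfsg.IsSteinerSystem 3 6 B)
    (v w : Option (α ⊕ B)) (hvw : v ≠ w) (h : ¬ (pointBlockGraph B).Adj v w) :
    ((pointBlockGraph B).commonNeighbors v w).ncard = 6 := by
  rcases v with _ | a | b <;> rcases w with _ | a' | c
  · exact absurd rfl hvw
  · exact absurd (adj_none_inl a') h
  · exact cn_none_inr hB c
  · exact absurd (adj_inl_none a) h
  · have hne : a ≠ a' := by
      rintro rfl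
      exact hvw rfl
    exact cn_inl_inl hα hB a a' hne
  · exact cn_inl_inr_nadj hα hB a c (fun hac => h ((adj_inl_inr a c).2 hac))
  · rw [SimpleGraph.commonNeighbors_symm]
    exact cn_none_inr hB b
  · rw [SimpleGraph.commonNeighbors_symm]
    exact cn_inl_inr_nadj hα hB a' b (fun hab => h ((adj_inr_inl a' b).2 hab))
  · have hne : b ≠ c := by
      rintro rfl
      exact hvw rfl
    have hne' : (c : Finset α) ≠ (b : Finset α) := fun h' => hne (Subtype.ext h'.symm)
    have h2 : ((c : Finset α) ∩ (b : Finset α)).card = 2 := by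
      rcases s322_inter_values hα hB b.2 c.2 hne' with h0 | h0
      · exact absurd ((adj_inr_inr hB b c).2 h0) h
      · exact h0
    rw [cn_inr_inr hα hB b c hne, Finset.inter_comm, h2]

end

/-- The point-block graph of an S(3, 6, 22) is strongly regular with parameters (100, 22, 0, 6). -/
theorem result {α : Type*} [Fintype α] (hα : Fintype.card α = 22) {B : Set (Finset α)} (hB : Cfsg.IsSteinerSystem 3 6 B) [Fintype B] [DecidableRel (Cfsg.pointBlockGraph B).Adj] : (Cfsg.pointBlockGraph B).IsSRGWith 100 22 0 6 := by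
  classical
  refine ⟨?_, ?_, ?_, ?_⟩
  · rw [Fintype.card_option, Fintype.card_sum, hα, card_blocks_type, s322_card_blocks hα hB]
  · intro v
    rw [← SimpleGraph.card_neighborSet_eq_degree, ← Nat.card_eq_fintype_card, Nat.card_coe_set_eq]
    exact deg_eq hα hB v
  · intro v w hadj
    rw [← Nat.card_eq_fintype_card, Nat.card_coe_set_eq]
    exact cn_adj hα hB v w hadj
  · intro v w hvw hnadj
    rw [← Nat.card_eq_fintype_card, Nat.card_coe_set_eq]
    exact cn_nadj hα hB v w hvw hnadj

end Cfsg.Agent.S0428
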