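import Cfsg.Statements.S0431
import Cfsg.Agent.Lib.Helper1.HSGraph7

set_option autoImplicit false
open Cfsg

namespace Cfsg.Agent.S0431

/-- Aut of the point-block graph of an S(3, 6, 22) contains a simple subgroup of order 44352000. -/
theorem result {α : Type*} [Fintype α] (hα : Fintype.card α = 22) {B : Set (Finset α)} (hB : Cfsg.IsSteinerSystem 3 6 B) : ∃ H : Subgroup (Cfsg.pointBlockGraph B ≃g Cfsg.pointBlockGraph B), Cfsg.IsHS H := by
  open Cfsg.Agent.Lib.Helper1.Stein Cfsg.Agent.Lib.Helper1.HSG in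
  classical
  obtain ⟨e, he⟩ := W22.unique hα hB
  change mapSys e B = S22 at he
  let ψ := isoOf B S22 e he
  have : Fintype (Vx B) := Fintype.ofFinite _
  have : Fintype (Vx S22) := Fintype.ofFinite _
  obtain ⟨φo, hφo⟩ := exists_odd
  obtain ⟨φe, hφe, hmove⟩ := exists_even_move
  have transport : ∀ φ : GA S22, sgn (pointBlockGraph B) ((ψ.trans φ).trans ψ.symm) =
      sgn (pointBlockGraph S22) φ := by
    intro φ
    rw [sgn_apply, sgn_apply]
    have h : (((ψ.trans φ).trans ψ.symm).toEquiv : Equiv.Perm (Vx B)) =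
        ψ.toEquiv.symm.permCongr (φ.toEquiv : Equiv.Perm (Vx S22)) := by
      ext v
      rfl
    rw [h, Equiv.Perm.sign_permCongr]
  refine ⟨(sgn (pointBlockGraph B)).ker, hs_of B hα hB ⟨_, (transport φo).trans hφo⟩
    ⟨_, (transport φe).trans hφe, e.symm 0, ?_⟩⟩
  show ψ.symm (φe (ψ none)) = _
  rw [show ψ none = none from rfl, hmove, RelIso.symm_apply_eq]
  show _ = some (Sum.inl (e (e.symm 0)))
  rw [Equiv.apply_symm_apply]

end Cfsg.Agent.S0431
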