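import Cfsg.Statements.S0434
import Cfsg.Agent.Lib.Helper6.OrdR7

set_option autoImplicit false
open Cfsg

namespace Cfsg.Agent.S0434

/-- Sylow 3-normalisers in a simple group of order 7920 have order 144 (so there are 55 Sylow 3-subgroups). -/
theorem result {G : Type*} [Group G] [Finite G] (hG : Cfsg.IsM11 G) (P : Sylow 3 G) : Nat.card (Subgroup.normalizer ((P : Subgroup G) : Set G)) = 144 := by
  classical
  obtain ⟨hsimp, hn⟩ := hG
  have : Fintype G := Fintype.ofFinite G
  have : Fintype (IrrCharacter G) := Fintype.ofFinite _
  have hnc : ¬ IsMulCommutative G := by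
    intro hc
    letI : CommGroup G := { (inferInstance : Group G) with mul_comm := hc.is_comm.comm }
    have hp : (Nat.card G).Prime := IsSimpleGroup.prime_card (α := G)
    rw [hn] at hp
    norm_num at hp
  exact Cfsg.Agent.Lib.Helper6.OrdR.card_normalizer_sylow3 hnc hn P

end Cfsg.Agent.S0434
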