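import Mathlib
import Cfsg.Statements.S0436
import Cfsg.Agent.Lib.Helper1.ThreeTransp

set_option autoImplicit false
open Cfsg
open Cfsg.Agent.Lib.Helper1

namespace Cfsg.Agent.S0436

/-- Word computation: if `e` commutes with `a * b` and satisfies braid relations with `a`, `b`. -/
theorem key {G : Type*} [Group G] {a b e : G} (ha2 : a * a = 1) (hb2 : b * b = 1) (he2 : e * e = 1)
    (h0 : e * (a * b) = (a * b) * e) (hea : e * a * e = a * e * a) (heb : e * b * e = b * e * b) :
    a = b := by
  have h1 : a * e * a * (b * e * b) = a * b := by
    rw [← hea, ← heb]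
    calc e * a * e * (e * b * e) = e * a * (e * e) * b * e := by group
      _ = e * (a * b) * e := by rw [he2]; group
      _ = a * b * e * e := by rw [h0]
      _ = a * b := by rw [mul_assoc, he2, mul_one]
  have h2 : e * a * b * e = 1 := by
    have h3 : a * (e * a * b * e * b) = a * b := by rw [← h1]; group
    have h4 : e * a * b * e * b = b := mul_left_cancel h3
    have h5 : e * a * b * e * b = 1 * b := by rw [h4, one_mul]
    exact mul_right_cancel h5
  have h3 : a * b = 1 := by
    calc a * b = (e * e) * a * b * (e * e) := by rw [he2, one_mul, mul_one]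
      _ = e * (e * a * b * e) * e := by group
      _ = 1 := by rw [h2, mul_one, he2]
  have := eq_inv_of_mul_eq_one_left h3
  rwa [inv_eq_self_of_mul_self hb2] at this

/-- For distinct commuting members a, b of a set of 3-transpositions E, a member e of E centralises the product a * b if and only if it centralises both a and b. -/
theorem result {G : Type*} [Group G] {E : Set G} (hE : Cfsg.IsThreeTranspositionSet E) {a b e : G} (ha : a ∈ E) (hb : b ∈ E) (he : e ∈ E) (hab : a ≠ b) (hcomm : Commute a b) : Commute e (a * b) ↔ (Commute e a ∧ Commute e b) := by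
  have ha2 := mul_self_of_orderOf_two (hE.1 a ha)
  have hb2 := mul_self_of_orderOf_two (hE.1 b hb)
  have he2 := mul_self_of_orderOf_two (hE.1 e he)
  constructor
  · intro h
    rcases three_transp_cases hE he ha with hca | hba
    · refine ⟨hca, ?_⟩
      have : b = a⁻¹ * (a * b) := by group
      rw [this]
      exact hca.inv_right.mul_right h
    · rcases three_transp_cases hE he hb with hcb | hbb
      · refine ⟨?_, hcb⟩
        have : a = (a * b) * b⁻¹ := by group
        rw [this]
        exact h.mul_right hcb.inv_right
      · exact absurd (key ha2 hb2 he2 h.eq hba hbb) hab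
  · rintro ⟨h1, h2⟩
    exact h1.mul_right h2

end Cfsg.Agent.S0436
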