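import Mathlib
import Cfsg.Statements.S0437
import Cfsg.Agent.Lib.Helper1.ThreeTransp
import Cfsg.Agent.S0436

set_option autoImplicit false
open Cfsg
open Cfsg.Agent.Lib.Helper1

namespace Cfsg.Agent.S0437

/-- Word computation: if `e` commutes with `a * b * c` and satisfies braid relations with the pairwise
commuting involutions `a`, `b`, `c`, then `e = a`. -/
theorem key3 {G : Type*} [Group G] {a b c e : G} (hb2 : b * b = 1) (hc2 : c * c = 1)
    (he2 : e * e = 1) (hab : a * b = b * a) (hbc : b * c = c * b)
    (hea : e * a * e = a * e * a) (heb : e * b * e = b * e * b) (hec : e * c * e = c * e * c)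
    (h0 : e * (a * b * c) = (a * b * c) * e) : e = a := by
  have h1 : a * e * a * (b * e * b) * (c * e * c) = a * b * c := by
    rw [← hea, ← heb, ← hec]
    calc e * a * e * (e * b * e) * (e * c * e) = e * a * (e * e) * b * (e * e) * c * e := by group
      _ = e * (a * b * c) * e := by rw [he2]; group
      _ = a * b * c * e * e := by rw [h0]
      _ = a * b * c := by rw [mul_assoc, he2, mul_one]
  have h2 : e * a * b * e * b * c * e = b := by
    have h' : a * ((e * a * b * e * b * c * e) * c) = a * (b * c) := by
      calc a * ((e * a * b * e * b * c * e) * c) = a * e * a * (b * e * b) * (c * e * c) := by group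
        _ = a * b * c := h1
        _ = a * (b * c) := by group
    exact mul_right_cancel (mul_left_cancel h')
  have h3 : e * a * b * e = b * e * c * b := by
    have h'' : e * a * b * e * (b * c * e) = b := by
      calc e * a * b * e * (b * c * e) = e * a * b * e * b * c * e := by group
        _ = b := h2
    have h' : e * a * b * e = b * (b * c * e)⁻¹ := eq_mul_inv_of_mul_eq h''
    rw [h', mul_inv_rev, mul_inv_rev, inv_eq_self_of_mul_self hb2, inv_eq_self_of_mul_self hc2,
      inv_eq_self_of_mul_self he2]
    group
  have h4 : e * a * b * e = a * (e * a * b * e) * b := by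
    calc e * a * b * e = e * a * (e * e) * b * e := by rw [he2, mul_one]
      _ = (e * a * e) * (e * b * e) := by group
      _ = (a * e * a) * (b * e * b) := by rw [hea, heb]
      _ = a * (e * a * b * e) * b := by group
  have h5 : e * c * b = a * e * c := by
    have h' : b * e * c * b = a * b * e * c := by
      have h'' : b * e * c * b = a * (b * e * c * b) * b := by rw [← h3]; exact h4
      calc b * e * c * b = a * (b * e * c * b) * b := h''
        _ = a * b * e * c * (b * b) := by group
        _ = a * b * e * c := by rw [hb2, mul_one]
    calc e * c * b = (b * b) * e * c * b := by rw [hb2, one_mul]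
      _ = b * (b * e * c * b) := by group
      _ = b * (a * b * e * c) := by rw [h']
      _ = (b * a) * b * e * c := by group
      _ = a * e * c := by rw [← hab, mul_assoc a b b, hb2, mul_one]
  have h6 : e * b = a * e := by
    have h' : e * b * c = a * e * c := by
      rw [mul_assoc, hbc, ← mul_assoc]; exact h5
    exact mul_right_cancel h'
  have h7 : b * e * b = a := by
    rw [← heb, h6, mul_assoc, he2, mul_one]
  calc e = (b * b) * e * (b * b) := by rw [hb2, one_mul, mul_one]
    _ = b * (b * e * b) * b := by group
    _ = b * a * b := by rw [h7]
    _ = a := by rw [← hab, mul_assoc, hb2, mul_one]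

/-- For three distinct, pairwise commuting members a, b, c of a set of 3-transpositions E, a member e of E centralises a * b * c if and only if it centralises each of a, b and c. -/
theorem result {G : Type*} [Group G] {E : Set G} (hE : Cfsg.IsThreeTranspositionSet E) {a b c e : G} (ha : a ∈ E) (hb : b ∈ E) (hc : c ∈ E) (he : e ∈ E) (hab : a ≠ b) (hac : a ≠ c) (hbc : b ≠ c) (h₁ : Commute a b) (h₂ : Commute a c) (h₃ : Commute b c) : Commute e (a * b * c) ↔ (Commute e a ∧ Commute e b ∧ Commute e c) := by
  have ha2 := mul_self_of_orderOf_two (hE.1 a ha)
  have hb2 := mul_self_of_orderOf_two (hE.1 b hb)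
  have hc2 := mul_self_of_orderOf_two (hE.1 c hc)
  have he2 := mul_self_of_orderOf_two (hE.1 e he)
  constructor
  · intro h
    rcases three_transp_cases hE he ha with hca | hba
    · -- e commutes with a, hence with b * c
      have hbc' : Commute e (b * c) := by
        have : b * c = a⁻¹ * (a * b * c) := by group
        rw [this]
        exact hca.inv_right.mul_right h
      have := (Cfsg.Agent.S0436.result hE hb hc he hbc h₃).mp hbc'
      exact ⟨hca, this.1, this.2⟩
    · rcases three_transp_cases hE he hb with hcb | hbb
      · -- e commutes with b, hence with a * c
        have hac' : Commute e (a * c) := by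
          have : a * c = b⁻¹ * (a * b * c) := by
            rw [h₁.eq]; group
          rw [this]
          exact hcb.inv_right.mul_right h
        have := (Cfsg.Agent.S0436.result hE ha hc he hac h₂).mp hac'
        exact ⟨this.1, hcb, this.2⟩
      · rcases three_transp_cases hE he hc with hcc | hbc''
        · have hab' : Commute e (a * b) := by
            have : a * b = (a * b * c) * c⁻¹ := by group
            rw [this]
            exact h.mul_right hcc.inv_right
          have := (Cfsg.Agent.S0436.result hE ha hb he hab h₁).mp hab'
          exact ⟨this.1, this.2, hcc⟩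
        · exfalso
          have hea := key3 hb2 hc2 he2 h₁.eq h₃.eq hba hbb hbc'' h.eq
          -- e = a, but then e commutes with a and the braid relation gives a = 1... contradiction
          rw [hea] at hbb
          -- a * b * a = b * a * b, with a b commuting: b = a
          have : a = b := by
            have h1 : a * b * a = b := by rw [h₁.eq, mul_assoc, ha2, mul_one]
            have h2 : b * a * b = a := by rw [← h₁.eq, mul_assoc, hb2, mul_one]
            rw [h1, h2] at hbb
            exact hbb.symm
          exact hab this
  · rintro ⟨h1, h2, h3⟩
    exact (h1.mul_right h2).mul_right h3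

end Cfsg.Agent.S0437
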