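import Mathlib
import Cfsg.Statements.S0439

set_option autoImplicit false
open Cfsg

namespace Cfsg.Agent.S0439

open Equiv Equiv.Perm

theorem swap_mul_swap_cases {α : Type*} [DecidableEq α] [Fintype α] {i j k l : α}
    (hij : i ≠ j) (hkl : k ≠ l) :
    (swap i j * swap k l) ^ 2 = 1 ∨ (swap i j * swap k l) ^ 3 = 1 := by
  have three : ∀ {a b c : α}, a ≠ b → a ≠ c → b ≠ c → (swap a b * swap a c) ^ 3 = 1 := by
    intro a b c ab ac bc
    have := (isThreeCycle_swap_mul_swap_same ab ac bc).orderOf
    rw [← this]; exact pow_orderOf_eq_one _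
  by_cases hik : i = k
  · subst hik
    by_cases hjl : j = l
    · subst hjl
      left; simp
    · right; exact three hij hkl hjl
  · by_cases hil : i = l
    · subst hil
      by_cases hjk : j = k
      · subst hjk
        left; rw [swap_comm j i]; simp
      · right
        rw [swap_comm k i]
        exact three hij (Ne.symm hkl) hjk
    · by_cases hjk : j = k
      · subst hjk
        right
        rw [swap_comm i j]
        exact three (Ne.symm hij) hkl hil
      · by_cases hjl : j = l
        · subst hjl
          right
          rw [swap_comm i j, swap_comm k j]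
          exact three (Ne.symm hij) (Ne.symm hkl) hik
        · left
          have hd : Disjoint (swap i j) (swap k l) := by
            apply disjoint_swap_swap
            simp only [List.nodup_cons, List.mem_cons, List.mem_singleton, not_or, List.not_mem_nil,
              not_false_eq_true, List.nodup_nil, and_true]
            exact ⟨⟨hij, hik, hil⟩, ⟨hjk, hjl⟩, hkl⟩
          rw [hd.commute.mul_pow, pow_two, pow_two, swap_mul_self, swap_mul_self, one_mul]

/-- In the symmetric group of degree n ≥ 2, the set of transpositions is a conjugacy class of 3-transpositions which generates the group. -/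
theorem result (n : ℕ) (hn : 2 ≤ n) : Cfsg.IsThreeTranspositionClass {σ : Equiv.Perm (Fin n) | σ.IsSwap} := by
  refine ⟨⟨?_, ?_⟩, ?_, ?_⟩
  · intro d hd
    exact IsSwap.orderOf hd
  · rintro d ⟨i, j, hij, rfl⟩ e ⟨k, l, hkl, rfl⟩
    exact swap_mul_swap_cases hij hkl
  · have h01 : (⟨0, by omega⟩ : Fin n) ≠ ⟨1, by omega⟩ := by
      intro h; simp [Fin.ext_iff] at h
    refine ⟨swap ⟨0, by omega⟩ ⟨1, by omega⟩, ⟨_, _, h01, rfl⟩, ?_⟩
    ext σ
    constructor
    · rintro ⟨k, l, hkl, rfl⟩
      exact isConj_swap h01 hkl
    · intro h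
      obtain ⟨g, hg⟩ := isConj_iff.mp h
      rw [← hg]
      refine ⟨g ⟨0, by omega⟩, g ⟨1, by omega⟩, fun h => h01 (g.injective h), ?_⟩
      rw [← swap_apply_apply]
  · exact closure_isSwap

end Cfsg.Agent.S0439
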