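import Cfsg.Statements.S0440
import Cfsg.Agent.Lib.Helper1.SpBasic

set_option autoImplicit false
open Cfsg

namespace Cfsg.Agent.S0440

open Cfsg.Agent.Lib.Helper1.SpBasic Cfsg.Agent.Lib.Helper2.Symp Matrix

variable {n : ℕ}

theorem sub_one_mulVec (g : Matrix.symplecticGroup (Fin n) (ZMod 2))
    (x : Fin n ⊕ Fin n → ZMod 2) :
    ((g : Matrix (Fin n ⊕ Fin n) (Fin n ⊕ Fin n) (ZMod 2)) - 1) *ᵥ x =
      (g : Matrix (Fin n ⊕ Fin n) (Fin n ⊕ Fin n) (ZMod 2)) *ᵥ x - x := by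
  rw [Matrix.sub_mulVec, Matrix.one_mulVec]

theorem exists_partner' (v : Fin n ⊕ Fin n → ZMod 2) (hv : v ≠ 0) :
    ∃ p, Cfsg.sympForm n (ZMod 2) p v = 1 := by
  obtain ⟨p, hp⟩ := Cfsg.Agent.S0271.exists_partner n v hv
  refine ⟨-p, ?_⟩
  rw [sympForm_swap, ← neg_one_smul (ZMod 2) p, sympForm_smul_right, hp]
  decide

theorem T_ne_one (v : Fin n ⊕ Fin n → ZMod 2) (hv : v ≠ 0) : T v (1 : ZMod 2) ≠ 1 := by
  intro h
  obtain ⟨p, hp⟩ := exists_partner' v hv
  have h2 := T_mulVec v (1 : ZMod 2) p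
  rw [h, coe_one_mulVec, hp, one_mul, one_smul] at h2
  exact hv (add_eq_left.mp h2.symm)

theorem T_sq (v : Fin n ⊕ Fin n → ZMod 2) : T v (1 : ZMod 2) * T v 1 = 1 := by
  rw [T_add]
  have : (1 : ZMod 2) + 1 = 0 := by decide
  rw [this, T_zero]

theorem T_mem (v : Fin n ⊕ Fin n → ZMod 2) (hv : v ≠ 0) :
    (((T v (1 : ZMod 2) : Matrix.symplecticGroup (Fin n) (ZMod 2)) :
      Matrix (Fin n ⊕ Fin n) (Fin n ⊕ Fin n) (ZMod 2)) - 1).rank = 1 := by
  unfold Matrix.rank
  have hrange : LinearMap.range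
      (((T v (1 : ZMod 2) : Matrix.symplecticGroup (Fin n) (ZMod 2)) :
        Matrix (Fin n ⊕ Fin n) (Fin n ⊕ Fin n) (ZMod 2)) - 1).mulVecLin =
      Submodule.span (ZMod 2) {v} := by
    apply le_antisymm
    · rintro _ ⟨x, rfl⟩
      rw [Matrix.mulVecLin_apply, sub_one_mulVec, T_mulVec, add_sub_cancel_left]
      exact Submodule.smul_mem _ _ (Submodule.mem_span_singleton_self v)
    · rw [Submodule.span_singleton_le_iff_mem]
      obtain ⟨p, hp⟩ := exists_partner' v hv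
      refine ⟨p, ?_⟩
      rw [Matrix.mulVecLin_apply, sub_one_mulVec, T_mulVec, add_sub_cancel_left, hp, one_mul,
        one_smul]
  rw [hrange]
  exact finrank_span_singleton hv

theorem eq_T_of_rank (g : Matrix.symplecticGroup (Fin n) (ZMod 2))
    (hg : ((g : Matrix (Fin n ⊕ Fin n) (Fin n ⊕ Fin n) (ZMod 2)) - 1).rank = 1) :
    ∃ v : Fin n ⊕ Fin n → ZMod 2, v ≠ 0 ∧ g = T v 1 := by
  unfold Matrix.rank at hg
  rw [finrank_eq_one_iff'] at hg
  obtain ⟨⟨a, haR⟩, ha0, hspan⟩ := hg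
  have ha : a ≠ 0 := fun h => ha0 (Subtype.ext h)
  have hφ : ∀ x, ∃ c : ZMod 2,
      (g : Matrix (Fin n ⊕ Fin n) (Fin n ⊕ Fin n) (ZMod 2)) *ᵥ x = x + c • a := by
    intro x
    obtain ⟨c, hc⟩ := hspan ⟨_, LinearMap.mem_range_self _ x⟩
    refine ⟨c, ?_⟩
    have := congrArg Subtype.val hc
    simp only [Submodule.coe_smul, Matrix.mulVecLin_apply] at this
    rw [sub_one_mulVec] at this
    rw [this]; abel
  choose φ hφ using hφ
  obtain ⟨x₀, hx₀⟩ := exists_partner' a ha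
  have key : ∀ y, φ y = φ x₀ * Cfsg.sympForm n (ZMod 2) y a := by
    intro y
    have h1 := form_mulVec g x₀ y
    rw [hφ x₀, hφ y, sympForm_add_left, sympForm_add_right, sympForm_add_right,
      sympForm_smul_left, sympForm_smul_left, sympForm_smul_right, sympForm_smul_right,
      sympForm_self, sympForm_swap a y, hx₀] at h1
    have h2 : φ y * 1 + φ x₀ * -Cfsg.sympForm n (ZMod 2) y a = 0 := by
      linear_combination h1
    have h3 : φ y = φ x₀ * Cfsg.sympForm n (ZMod 2) y a := by linear_combination h2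
    exact h3
  have hg' : g = T a (φ x₀) := by
    apply ext_mulVec
    intro y
    rw [hφ y, T_mulVec, key y]
  have hc : φ x₀ ≠ 0 := by
    intro h0
    rw [h0, T_zero] at hg'
    apply ha
    obtain ⟨x, hx⟩ := haR
    rw [← hx, Matrix.mulVecLin_apply, sub_one_mulVec, hg', coe_one_mulVec, sub_self]
  have hc1 : φ x₀ = 1 := by
    generalize φ x₀ = c at hc
    revert c; decide
  exact ⟨a, ha, by rw [hg', hc1]⟩

theorem T_inv' (v : Fin n ⊕ Fin n → ZMod 2) : (T v (1 : ZMod 2))⁻¹ = T v 1 :=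
  inv_eq_of_mul_eq_one_right (T_sq v)

theorem form_cases (u v : Fin n ⊕ Fin n → ZMod 2) :
    Cfsg.sympForm n (ZMod 2) u v = 0 ∨ Cfsg.sympForm n (ZMod 2) u v = 1 := by
  generalize Cfsg.sympForm n (ZMod 2) u v = s
  revert s; decide

/-- In the symplectic group in dimension 2n ≥ 2 over the field with two elements, the elements g for which g - 1 has rank one (the symplectic transvections) form a conjugacy class of 3-transpositions generating the group. -/
theorem result (n : ℕ) (hn : 1 ≤ n) : Cfsg.IsThreeTranspositionClass {g : Matrix.symplecticGroup (Fin n) (ZMod 2) | ((g : Matrix (Fin n ⊕ Fin n) (Fin n ⊕ Fin n) (ZMod 2)) - 1).rank = 1} := by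
  have hDiff : ∀ g : Matrix.symplecticGroup (Fin n) (ZMod 2),
      g ∈ {g : Matrix.symplecticGroup (Fin n) (ZMod 2) |
        ((g : Matrix (Fin n ⊕ Fin n) (Fin n ⊕ Fin n) (ZMod 2)) - 1).rank = 1} ↔
      ∃ v : Fin n ⊕ Fin n → ZMod 2, v ≠ 0 ∧ g = T v 1 := by
    intro g
    constructor
    · exact eq_T_of_rank g
    · rintro ⟨v, hv, rfl⟩
      exact T_mem v hv
  set v₀ : Fin n ⊕ Fin n → ZMod 2 := Pi.single (Sum.inl ⟨0, hn⟩) 1 with hv₀def
  have hv₀ : v₀ ≠ 0 := by
    intro h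
    have := congrFun h (Sum.inl ⟨0, hn⟩)
    simp [hv₀def] at this
  refine ⟨⟨?_, ?_⟩, ⟨T v₀ 1, (hDiff _).mpr ⟨v₀, hv₀, rfl⟩, ?_⟩, ?_⟩
  · intro d hd
    obtain ⟨v, hv, rfl⟩ := (hDiff d).mp hd
    exact orderOf_eq_prime (by rw [pow_two]; exact T_sq v) (T_ne_one v hv)
  · intro d hd e he
    obtain ⟨u, hu, rfl⟩ := (hDiff d).mp hd
    obtain ⟨v, hv, rfl⟩ := (hDiff e).mp he
    rcases form_cases u v with hs | hs
    · left
      have hvu : Cfsg.sympForm n (ZMod 2) v u = 0 := by rw [sympForm_swap, hs, neg_zero]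
      have hcomm : T u (1 : ZMod 2) * T v 1 = T v 1 * T u 1 := by
        apply ext_mulVec
        intro x
        rw [T_mul_T_mulVec u v hs, T_mul_T_mulVec v u hvu]
        abel
      rw [pow_two]
      calc T u (1 : ZMod 2) * T v 1 * (T u 1 * T v 1)
          = T u 1 * (T v 1 * T u 1) * T v 1 := by group
        _ = T u 1 * (T u 1 * T v 1) * T v 1 := by rw [hcomm]
        _ = (T u 1 * T u 1) * (T v 1 * T v 1) := by group
        _ = 1 := by rw [T_sq, T_sq, one_mul]
    · right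
      have hvu : Cfsg.sympForm n (ZMod 2) v u = 1 := by
        rw [sympForm_swap, hs]; decide
      have h1 : T u (1 : ZMod 2) * T v 1 * T u 1 = T (u + v) 1 := by
        have := conj_T (T u (1 : ZMod 2)) v 1
        rw [T_inv', T_mulVec, hvu, one_mul, one_smul, add_comm] at this
        exact this
      have h2 : T v (1 : ZMod 2) * T u 1 * T v 1 = T (u + v) 1 := by
        have := conj_T (T v (1 : ZMod 2)) u 1
        rw [T_inv', T_mulVec, hs, one_mul, one_smul] at this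
        exact this
      calc (T u (1 : ZMod 2) * T v 1) ^ 3
          = (T u 1 * T v 1 * T u 1) * (T v 1 * T u 1 * T v 1) := by
            rw [pow_succ, pow_two]; group
        _ = 1 := by rw [h1, h2, T_sq]
  · ext g
    rw [hDiff]
    change _ ↔ IsConj (T v₀ (1 : ZMod 2)) g
    rw [isConj_iff]
    constructor
    · rintro ⟨v, hv, rfl⟩
      obtain ⟨c, hc⟩ := Cfsg.Agent.S0271.result n v₀ v hv₀ hv
      exact ⟨c, by rw [conj_T, hc]⟩
    · rintro ⟨c, rfl⟩
      refine ⟨(c : Matrix (Fin n ⊕ Fin n) (Fin n ⊕ Fin n) (ZMod 2)) *ᵥ v₀, ?_, conj_T c v₀ 1⟩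
      intro h0
      have := inv_mulVec_mulVec c v₀
      rw [h0, Matrix.mulVec_zero] at this
      exact hv₀ this.symm
  · rw [eq_top_iff, ← transvGroup_eq_top]
    unfold transvGroup
    rw [Subgroup.closure_le]
    rintro A ⟨w, c, hA⟩
    have hAT : A = T w c := Subtype.ext hA
    rw [hAT]
    by_cases hw : w = 0
    · rw [hw, T_zero_left]; exact Subgroup.one_mem _
    have hc : c = 0 ∨ c = 1 := by
      clear hAT hA
      revert c; decide
    rcases hc with rfl | rfl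
    · rw [T_zero]; exact Subgroup.one_mem _
    · exact Subgroup.subset_closure ((hDiff _).mpr ⟨w, hw, rfl⟩)

end Cfsg.Agent.S0440
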