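import Cfsg.Statements.S0441
import Cfsg.Agent.Lib.Helper9.R3e

set_option autoImplicit false
open Cfsg

namespace Cfsg.Agent.S0441

/-- Fischer's rank-three property. Let a finite group be generated by a conjugacy class D of 3-transpositions, with non-abelian simple commutator subgroup. Then for a in D there are members of D other than a commuting with a and members not commuting with a, and the centraliser of a acts transitively on each of these two sets. -/
theorem result {G : Type*} [Group G] [Finite G] {D : Set G} (hD : Cfsg.IsThreeTranspositionClass D) (hsimple : IsSimpleGroup (commutator G)) (hnonab : ∃ x y : commutator G, x * y ≠ y * x) {a : G} (ha : a ∈ D) : (∃ b ∈ D, b ≠ a ∧ Commute a b) ∧ (∃ c ∈ D, ¬ Commute a c) ∧ (∀ b ∈ D, ∀ b' ∈ D, b ≠ a → b' ≠ a → Commute a b → Commute a b' → ∃ g : G, Commute g a ∧ g * b * g⁻¹ = b') ∧ (∀ c ∈ D, ∀ c' ∈ D, ¬ Commute a c → ¬ Commute a c' → ∃ g : G, Commute g a ∧ g * c * g⁻¹ = c') := by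
  have h := Cfsg.Agent.H9TT.TC.of_class hD
  obtain ⟨hprim, -⟩ := Cfsg.Agent.H9R3.primitive_of_simple_comm hD hsimple hnonab
  have hDp := Cfsg.Agent.H9R3.Dp_nonempty_of_simple_comm hD hsimple hnonab ha
  have hAp := Cfsg.Agent.H9R3.Ap_nonempty h hprim.2.1 ha
  refine ⟨?_, ?_, ?_, ?_⟩
  · obtain ⟨b, hb⟩ := hDp
    exact ⟨b, hb.1, hb.2.1, hb.2.2⟩
  · obtain ⟨c, hc⟩ := hAp
    exact ⟨c, hc.1, hc.2⟩
  · intro b hb b' hb' hba hba' hc hc'
    exact Cfsg.Agent.H9R3.Dp_transitive h hprim ha ⟨hb, hba, hc⟩ ⟨hb', hba', hc'⟩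
  · intro c hc c' hc' hn hn'
    have hK1 : ∀ y ∈ D, Commute a y → y ∈ Subgroup.centralizer ({a} : Set G) := by
      intro y _ hcy
      rw [Subgroup.mem_centralizer_singleton_iff]
      exact hcy.eq.symm
    obtain ⟨g, hg, hgc⟩ := Cfsg.Agent.H9R3.KC_all h hprim ha hDp _ hK1 c ⟨hc, hn⟩ c' ⟨hc', hn'⟩
    rw [Subgroup.mem_centralizer_singleton_iff] at hg
    exact ⟨g, hg, hgc⟩

end Cfsg.Agent.S0441
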