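import Mathlib
import Cfsg.Statements.S0442
import Cfsg.Agent.Lib.Helper1.InvPair

set_option autoImplicit false
open Cfsg
open Cfsg.Agent.Lib.Helper1

namespace Cfsg.Agent.S0442

theorem conj_sq {G : Type*} [Group G] {a : G} (g : G) (ha2 : a * a = 1) :
    (g * a * g⁻¹) * (g * a * g⁻¹) = 1 := by
  calc (g * a * g⁻¹) * (g * a * g⁻¹) = g * (a * a) * g⁻¹ := by group
    _ = 1 := by rw [ha2]; group

/-- A standard trick for producing elements of an involution centraliser: for an involution a and an element g, let b be the conjugate g⁻¹ * a * g. If a * b has odd order 2m + 1 then g * (a * b) ^ m commutes with a; if a * b has even order 2m then (a * b) ^ m and (a * (g * a * g⁻¹)) ^ m commute with a. -/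
theorem result {G : Type*} [Group G] (a g : G) (ha : orderOf a = 2) : (∀ m : ℕ, orderOf (a * (g⁻¹ * a * g)) = 2 * m + 1 → Commute (g * (a * (g⁻¹ * a * g)) ^ m) a) ∧ (∀ m : ℕ, orderOf (a * (g⁻¹ * a * g)) = 2 * m → Commute ((a * (g⁻¹ * a * g)) ^ m) a ∧ Commute ((a * (g * a * g⁻¹)) ^ m) a) := by
  have ha2 := mul_self_of_orderOf_two ha
  have hb2 : (g⁻¹ * a * g) * (g⁻¹ * a * g) = 1 := by
    have := conj_sq g⁻¹ ha2
    rwa [inv_inv] at this
  have hb2' : (g * a * g⁻¹) * (g * a * g⁻¹) = 1 := conj_sq g ha2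
  constructor
  · intro m hm
    set b := g⁻¹ * a * g with hb
    -- (ab)^m a (ab)^(-m) = (ab)^(2m) a = (ab)⁻¹ a = b
    have h1 : (a * b) ^ (m : ℤ) * a * ((a * b) ^ (m : ℤ))⁻¹ = b := by
      rw [invpair_zpow_conj_x ha2 hb2]
      have h2 : (a * b) ^ (2 * (m : ℤ) + 1) = 1 := by
        have : (2 * (m : ℤ) + 1) = ((orderOf (a * b) : ℕ) : ℤ) := by rw [hm]; push_cast; ring
        rw [this, zpow_natCast, pow_orderOf_eq_one]
      have h3 : (a * b) ^ (2 * (m : ℤ)) = (a * b)⁻¹ := by
        rw [zpow_add, zpow_one] at h2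
        exact eq_inv_of_mul_eq_one_left h2
      rw [h3, mul_inv_rev, inv_mul_cancel_right, inv_eq_self_of_mul_self hb2]
    rw [zpow_natCast] at h1
    -- g * c^m * a = g * b * c^m = a * g * c^m
    show g * (a * b) ^ m * a = a * (g * (a * b) ^ m)
    have h4 : (a * b) ^ m * a = b * (a * b) ^ m := by
      calc (a * b) ^ m * a = ((a * b) ^ m * a * ((a * b) ^ m)⁻¹) * (a * b) ^ m := by group
        _ = b * (a * b) ^ m := by rw [h1]
    rw [mul_assoc, h4, hb]
    group
  · intro m hm
    rcases Nat.eq_zero_or_pos m with rfl | hpos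
    · simp
    · constructor
      · exact (invpair_half_pow ha2 hb2 m (by rw [hm]; ring) hpos).2.1
      · -- order of a * (g a g⁻¹) is also 2m
        have hord : orderOf (a * (g * a * g⁻¹)) = orderOf (a * (g⁻¹ * a * g)) := by
          have h1 : a * (g * a * g⁻¹) = g * ((g⁻¹ * a * g) * a) * g⁻¹ := by group
          have h2 : (g⁻¹ * a * g) * a = (a * (g⁻¹ * a * g))⁻¹ := by
            rw [mul_inv_rev, inv_eq_self_of_mul_self ha2, inv_eq_self_of_mul_self hb2]
          rw [h1, h2]
          have := MulEquiv.orderOf_eq (MulAut.conj g) ((a * (g⁻¹ * a * g))⁻¹)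
          rw [MulAut.conj_apply] at this
          rw [this, orderOf_inv]
        exact (invpair_half_pow ha2 hb2' m (by rw [hord, hm]; ring) hpos).2.1

end Cfsg.Agent.S0442
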