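import Mathlib
import Cfsg.Statements.S0446
import Cfsg.Agent.Lib.Helper1.SylowCentral

set_option autoImplicit false
set_option linter.style.haveILetI false
open Cfsg
open Cfsg.Agent.Lib.Helper1

namespace Cfsg.Agent.S0446

/-- Every finite group of even order contains a 2-central involution, i.e. an element of order 2 in the centre of some Sylow 2-subgroup. -/
theorem result {G : Type*} [Group G] [Finite G] (h : Even (Nat.card G)) : ∃ t : G, Cfsg.IsTwoCentralInvolution t := by
  haveI : Fact (Nat.Prime 2) := ⟨Nat.prime_two⟩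
  obtain ⟨P⟩ : Nonempty (Sylow 2 G) := inferInstance
  have hPnt : Nontrivial (P : Subgroup G) := by
    have h2 : 2 ∣ Nat.card (P : Subgroup G) := P.dvd_card_of_dvd_card h.two_dvd
    rw [← Finite.one_lt_card_iff_nontrivial]
    have hpos : 0 < Nat.card (P : Subgroup G) := Nat.card_pos
    obtain ⟨k, hk⟩ := h2
    omega
  have hZnt : Nontrivial (Subgroup.center (P : Subgroup G)) := P.isPGroup'.center_nontrivial
  -- the centre of P is a nontrivial 2-group, so has even order
  have hZp : IsPGroup 2 (Subgroup.center (P : Subgroup G)) :=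
    P.isPGroup'.to_subgroup _
  obtain ⟨n, hn⟩ := IsPGroup.iff_card.mp hZp
  have hn0 : n ≠ 0 := by
    intro h0
    rw [h0, pow_zero] at hn
    have := Finite.one_lt_card_iff_nontrivial.mpr hZnt
    omega
  have h2 : 2 ∣ Nat.card (Subgroup.center (P : Subgroup G)) := by
    rw [hn]; exact dvd_pow_self 2 hn0
  obtain ⟨z, hz⟩ := exists_prime_orderOf_dvd_card' (G := Subgroup.center (P : Subgroup G)) 2 h2
  -- z : center P, of order 2
  refine ⟨((z : (P : Subgroup G)) : G), ?_, P, (z : (P : Subgroup G)).2, ?_⟩
  · rw [Subgroup.orderOf_coe, Subgroup.orderOf_coe]; exact hz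
  · intro x hx
    have hzc := z.2
    rw [Subgroup.mem_center_iff] at hzc
    have := hzc ⟨x, hx⟩
    exact congrArg Subtype.val this

end Cfsg.Agent.S0446
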