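import Cfsg.Statements.S0458
import Cfsg.Agent.Lib.Helper6.Spor.J3Simple
import Cfsg.Agent.Lib.Helper6.Simp7

set_option autoImplicit false
open Cfsg

namespace Cfsg.Agent.S0458

open Cfsg.Agent.Lib.Helper6 Cfsg.Agent.Lib.Helper6.TC Cfsg.Agent.Lib.Helper6.Simp

/-- Existence of the third Janko group as a transitive group of degree 6156 with point stabiliser of order 8160. -/
theorem result : ∃ H : Subgroup (Equiv.Perm (Fin 6156)), Cfsg.IsJ3 H ∧ MulAction.IsPretransitive H (Fin 6156) ∧ Nat.card (MulAction.stabilizer H (0 : Fin 6156)) = 8160 := by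
  obtain ⟨φ, _, ⟨F, hF⟩, _, hinj, hcard, hfin⟩ := J3Ord.rep
  have hR := range_simple φ hinj J3Simple.simple.1 J3Simple.simple.2
  have htr := range_pretransitive φ _ F hF
  exact ⟨φ.range, hR, htr,
    card_stabilizer_of_pretransitive φ.range htr hR.2 (by norm_num) (by norm_num) 0⟩

end Cfsg.Agent.S0458
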