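import Cfsg.Statements.S1699
import Cfsg.Agent.Lib.Helper6.Spor.ONOrd
import Cfsg.Agent.Lib.Helper6.Simp3
import Cfsg.Agent.Lib.Helper6.Simp4
import Cfsg.Agent.Lib.Helper6.TCD.ONX.All
import Cfsg.Agent.Lib.Helper6.TCD.ONC.Idx

set_option autoImplicit false
open Cfsg

namespace Cfsg.Agent.S1699

open Cfsg.Spor Cfsg.Agent.Lib.Helper6.TC Cfsg.Agent.Lib.Helper6.TCD Cfsg.Agent.Lib.Helper6.Simp
open Cfsg.Agent.Lib.Helper6.TCP.ON Cfsg.Agent.Lib.Helper6.TCD.ONa Cfsg.Agent.Lib.Helper6.TCD.ONX

section helpers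
set_option maxRecDepth 100000
set_option linter.unusedSimpArgs false

/-- an element of order 31 -/
def wx : List ℕ := [5, 0, 3, 4, 6]

theorem hQX : ∀ q < 122760, QX q = wapp px wx q := by
  intro q hq
  have e : wapp px wx q = XW q := by
    simp only [wx, wapp_cons, wapp_nil, Cfsg.Agent.S1692.px_c0, Cfsg.Agent.S1692.px_c1, Cfsg.Agent.S1692.px_c2, Cfsg.Agent.S1692.px_c3, Cfsg.Agent.S1692.px_c4, Cfsg.Agent.S1692.px_c5, Cfsg.Agent.S1692.px_c6, Cfsg.Agent.S1692.px_c7]
    rfl
  rw [e]
  by_cases g0 : q < 41666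
  · exact chkEqF_spec chkQX0 q (by omega) (by omega)
  by_cases g1 : q < 83332
  · exact chkEqF_spec chkQX1 q (by omega) (by omega)
  exact chkEqF_spec chkQX2 q (by omega) (by omega)

theorem hXP : ∀ q < 122760, wapp px (List.replicate 31 wx).flatten q = q := by
  intro q hq
  rw [wapp_pow Cfsg.Agent.S1692.hP (by decide) hQX 31 q hq]
  have e : QX^[31] q = XP q := by
    unfold XP
    simp only [Function.iterate_succ_apply, Function.iterate_zero_apply]
  rw [e]
  by_cases g0 : q < 8064
  · exact chkFix_spec chkXP0 q (by omega) (by omega)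
  by_cases g1 : q < 16128
  · exact chkFix_spec chkXP1 q (by omega) (by omega)
  by_cases g2 : q < 24192
  · exact chkFix_spec chkXP2 q (by omega) (by omega)
  by_cases g3 : q < 32256
  · exact chkFix_spec chkXP3 q (by omega) (by omega)
  by_cases g4 : q < 40320
  · exact chkFix_spec chkXP4 q (by omega) (by omega)
  by_cases g5 : q < 48384
  · exact chkFix_spec chkXP5 q (by omega) (by omega)
  by_cases g6 : q < 56448
  · exact chkFix_spec chkXP6 q (by omega) (by omega)
  by_cases g7 : q < 64512
  · exact chkFix_spec chkXP7 q (by omega) (by omega)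
  by_cases g8 : q < 72576
  · exact chkFix_spec chkXP8 q (by omega) (by omega)
  by_cases g9 : q < 80640
  · exact chkFix_spec chkXP9 q (by omega) (by omega)
  by_cases g10 : q < 88704
  · exact chkFix_spec chkXP10 q (by omega) (by omega)
  by_cases g11 : q < 96768
  · exact chkFix_spec chkXP11 q (by omega) (by omega)
  by_cases g12 : q < 104832
  · exact chkFix_spec chkXP12 q (by omega) (by omega)
  by_cases g13 : q < 112896
  · exact chkFix_spec chkXP13 q (by omega) (by omega)
  by_cases g14 : q < 120960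
  · exact chkFix_spec chkXP14 q (by omega) (by omega)
  exact chkFix_spec chkXP15 q (by omega) (by omega)

theorem hmove : wapp px wx 0 ≠ 0 := by decide +kernel

/-- the sizes of the four orbits -/
def sz : Fin 4 → ℕ := ![5586, 6384, 52136, 58653]

theorem hdvd : ∀ T : Finset (Fin 4), (1 + ∑ i ∈ T, sz i) ∣ 122760 → T = ∅ ∨ T = Finset.univ := by
  decide

theorem hpair : ∀ i j : Fin 4, i ≠ j → sz i ≠ sz j := by
  decide

/-- the presentation with the element `x` killed is trivial -/
theorem htriv : Finite (WG 8 ONC.base) ∧ Nat.card (WG 8 ONC.base) ≤ 1 :=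
  wp_bottom ONC.idx

theorem hCbase : ∀ b ∈ ONC.base, b ∈ Cfsg.Agent.Lib.Helper6.TCP.ON.base ∨ b = wx := by
  decide +kernel

end helpers

/-- The presented O'Nan group is simple of the expected order (that is, it is a simple group of the order of the O'Nan group). -/
theorem result : Cfsg.IsON Cfsg.Spor.ON := by
  obtain ⟨φ, hw, ⟨F, hF⟩, hinj, hcard, hfin⟩ := Cfsg.Agent.Lib.Helper6.ONOrd.rep
  refine ⟨?_, hcard⟩
  have hnt : Nontrivial ON := by
    rw [← Finite.one_lt_card_iff_nontrivial, hcard]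
    norm_num
  obtain ⟨hidx, q₁, q₂, q₃, q₄, h1, h2, h3, h4⟩ := Cfsg.Agent.S1692.orbits_thm
  have hsz : ∀ i, (MulAction.orbit (subH Rels Cfsg.Agent.S1692.S) (![q₁, q₂, q₃, q₄] i)).ncard = sz i := by
    intro i
    fin_cases i
    · exact h1
    · exact h2
    · exact h3
    · exact h4
  have hmax := coatom_of_orbits (subH Rels Cfsg.Agent.S1692.S) hidx ![q₁, q₂, q₃, q₄] sz hsz
    (by
      intro i j hij heq
      have hc : sz i = sz j := by rw [← hsz i, ← hsz j, heq]
      exact hpair i j hij hc)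
    (by decide) (by decide) hdvd
  have : Fact (Nat.Prime 31) := ⟨by norm_num⟩
  refine simple_of_max' (subH Rels Cfsg.Agent.S1692.S) hmax (core_eq_bot hinj F hF) (p := 31) (k := 1)
    (by rw [hidx]; norm_num) (by rw [hcard]; norm_num)
    (x := PresentedGroup.mk Rels (wordElt gc wx))
    (orderOf_word hinj hw (by decide) hXP (q0 := 0) (by decide) hmove) ?_
  intro K hK hxK
  refine eq_top_of_trivial_wp htriv hgen ONC.hbl ?_
  intro b hb
  rcases hCbase b hb with h | h
  · rw [hbase b h]
    exact K.one_mem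
  · rw [h]
    exact hxK

end Cfsg.Agent.S1699
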