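import Cfsg.Statements.S0460
import Cfsg.Agent.S1699
import Cfsg.Agent.Lib.Helper6.Spor.ONJ1
import Cfsg.Agent.Lib.Helper6.Spor.ONM11
import Cfsg.Agent.Lib.Helper6.Simp7

set_option autoImplicit false
open Cfsg

namespace Cfsg.Agent.S0460

open Cfsg.Spor Cfsg.Agent.Lib.Helper6 Cfsg.Agent.Lib.Helper6.TC Cfsg.Agent.Lib.Helper6.Simp

/-- The O'Nan group exists as a transitive permutation group of degree 122760: simple of order 460815505920, point stabiliser of order 3753792, and containing simple subgroups of orders 175560 and 7920. -/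
theorem result : ∃ H : Subgroup (Equiv.Perm (Fin 122760)), Cfsg.IsON H ∧ MulAction.IsPretransitive H (Fin 122760) ∧ Nat.card (MulAction.stabilizer H (0 : Fin 122760)) = 3753792 ∧ (∃ K : Subgroup H, Cfsg.IsJ1 K) ∧ (∃ K : Subgroup H, Cfsg.IsM11 K) := by
  obtain ⟨φ, _, ⟨F, hF⟩, hinj, hcard, hfin⟩ := ONOrd.rep
  have hON : Cfsg.IsON ON := Cfsg.Agent.S1699.result
  have hR := range_simple φ hinj hON.1 hcard
  have htr := range_pretransitive φ _ F hF
  refine ⟨φ.range, hR, htr, ?_, ?_, ?_⟩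
  · exact card_stabilizer_of_pretransitive φ.range htr hR.2 (by norm_num) (by norm_num) 0
  · obtain ⟨ψ, hψ⟩ := ONJ1.exists_hom
    exact exists_simple_subgroup φ hinj ψ hψ J1Simple.simple.1 J1Simple.simple.2
  · obtain ⟨ψ, hψ⟩ := ONM11.exists_hom
    exact exists_simple_subgroup φ hinj ψ hψ M11Simple.simple.1 M11Simple.simple.2

end Cfsg.Agent.S0460
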