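import Cfsg.Statements.S0462
import Cfsg.Agent.Lib.Helper6.Spor.HeS44
import Cfsg.Agent.S1695

set_option autoImplicit false
set_option maxRecDepth 100000
open Cfsg

namespace Cfsg.Agent.S0462

open Cfsg.Spor Cfsg.Agent.Lib.Helper6 Cfsg.Agent.Lib.Helper6.TC Cfsg.Agent.Lib.Helper6.Simp
open Cfsg.Agent.Lib.Helper1.Hexa

/-- The Held group exists as a transitive permutation group of degree 2058: simple of order 4030387200, with point stabiliser containing, with index 2, a copy of the 4-dimensional symplectic group over the field with four elements. -/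
theorem result : ∃ H : Subgroup (Equiv.Perm (Fin 2058)), Cfsg.IsHe H ∧ MulAction.IsPretransitive H (Fin 2058) ∧ ∃ (F : Type) (_ : Field F) (_ : Fintype F), Fintype.card F = 4 ∧ ∃ N : Subgroup (MulAction.stabilizer H (0 : Fin 2058)), N.index = 2 ∧ Nonempty (N ≃* Matrix.symplecticGroup (Fin 2) F) := by
  obtain ⟨φ, _, hK, htrans, hinj, _⟩ := HeOrd.rep2
  have hR : IsHe φ.range := range_simple φ hinj Cfsg.Agent.S1695.result.1 Cfsg.Agent.S1695.result.2
  have htr : MulAction.IsPretransitive φ.range (Fin 2058) := by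
    refine ⟨?_⟩
    intro p q
    obtain ⟨g1, hg1⟩ := htrans p
    obtain ⟨g2, hg2⟩ := htrans q
    refine ⟨⟨φ (g2 * g1⁻¹), _, rfl⟩, ?_⟩
    show φ (g2 * g1⁻¹) p = q
    have h3 : (φ g1)⁻¹ p = 0 := Equiv.Perm.inv_eq_iff_eq.mpr hg1.symm
    rw [map_mul, map_inv, Equiv.Perm.mul_apply, h3, hg2]
  obtain ⟨N, _, hidx, ⟨e⟩⟩ := HeS44.exists_N
  obtain ⟨N', hN', hne⟩ := exists_subgroup_of_equiv
    (stabEquiv φ hinj (subH TCP.He.Rels Cfsg.Agent.S1683.S) (0 : Fin 2058) hK) N hidx e
  exact ⟨φ.range, hR, htr, F4, inferInstance, inferInstance, F4.card, N', hN', hne⟩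

end Cfsg.Agent.S0462
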