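import Cfsg.Statements.S0471
import Cfsg.Agent.S1696
import Cfsg.Agent.Lib.Helper6.TT2
import Cfsg.Agent.Lib.Helper6.Spor.Fi22U62

set_option autoImplicit false
open Cfsg

namespace Cfsg.Agent.S0471

open Cfsg.Spor Cfsg.Agent.Lib.Helper6.TC Cfsg.Agent.Lib.Helper6.TCD Cfsg.Agent.Lib.Helper6.Simp
open Cfsg.Agent.Lib.Helper6.TCP.Fi22 Cfsg.Agent.Lib.Helper6.Fi22U62

section helpers
set_option maxRecDepth 100000

/-- a word conjugating the generator `a` to the generator `c` -/
def uc : List ℕ := [1, 2, 0, 1]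

/-- the reversed word -/
def ucr : List ℕ := [1, 0, 2, 1]

/-- the word of `a` times the conjugate -/
def Wc : List ℕ := [0] ++ uc ++ [0] ++ ucr

/-- the word of `a` times its conjugate by `b` -/
def Wb : List ℕ := [0, 1, 0, 1]

theorem hchkT : (∀ p < 3510, wapp Fi22a.px (uc ++ ucr) p = p) ∧
    (∀ p < 3510, wapp Fi22a.px ([1] ++ [1]) p = p) ∧
    (∀ p < 3510, wapp Fi22a.px (Wc ++ Wc) p = p) ∧
    (∀ p < 3510, wapp Fi22a.px (Wb ++ Wb ++ Wb) p = p) := by
  decide +kernel

theorem hmoveT : wapp Fi22a.px Wc 1 ≠ 1 ∧ wapp Fi22a.px (Wb ++ Wb) 0 ≠ 0 := by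
  decide +kernel

/-- the conjugating elements -/
noncomputable def t1 : Fi22 := PresentedGroup.mk Rels (wordElt gc uc)

noncomputable def t2 : Fi22 := PresentedGroup.mk Rels (wordElt gc [1])

theorem mk_eq_one (A : List ℕ) (hA : ∀ c ∈ A, c < 9) (h : ∀ p < 3510, wapp Fi22a.px A p = p) :
    PresentedGroup.mk Rels (wordElt gc A) = 1 := by
  have h1 := mk_eq_of_wapp A [] hA (by simp) (fun p hp => by rw [h p hp]; rfl)
  rw [h1, wordElt_nil, map_one]

theorem t1_inv : t1⁻¹ = PresentedGroup.mk Rels (wordElt gc ucr) := by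
  rw [inv_eq_iff_mul_eq_one]
  unfold t1
  rw [← map_mul, ← wordElt_append]
  exact mk_eq_one _ (by decide) hchkT.1

theorem t2_inv : t2⁻¹ = t2 := by
  rw [inv_eq_iff_mul_eq_one]
  unfold t2
  rw [← map_mul, ← wordElt_append]
  exact mk_eq_one _ (by decide) hchkT.2.1

theorem e1 : za * (t1 * za * t1⁻¹) = PresentedGroup.mk Rels (wordElt gc Wc) := by
  rw [t1_inv]
  unfold za t1 Wc
  rw [wordElt_append, wordElt_append, wordElt_append, map_mul, map_mul, map_mul]
  group

theorem e2 : za * (t2 * za * t2⁻¹) = PresentedGroup.mk Rels (wordElt gc Wb) := by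
  rw [t2_inv]
  unfold za t2
  rw [show Wb = [0] ++ [1] ++ [0] ++ [1] from rfl, wordElt_append, wordElt_append, wordElt_append,
    map_mul, map_mul, map_mul]
  group

theorem hc1 : (za * (t1 * za * t1⁻¹)) ^ 2 = 1 := by
  rw [e1, pow_two, ← map_mul, ← wordElt_append]
  exact mk_eq_one _ (by decide) hchkT.2.2.1

theorem h3 : (za * (t2 * za * t2⁻¹)) ^ 3 = 1 := by
  rw [e2, pow_succ, pow_two, ← map_mul, ← map_mul, ← wordElt_append, ← wordElt_append]
  exact mk_eq_one _ (by decide) hchkT.2.2.2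

theorem hc2 : (za * (t2 * za * t2⁻¹)) ^ 2 ≠ 1 := by
  rw [e2, pow_two, ← map_mul, ← wordElt_append]
  intro h
  have h1 : PresentedGroup.mk Rels (wordElt gc (Wb ++ Wb)) =
      PresentedGroup.mk Rels (wordElt gc []) := by
    rw [wordElt_nil, map_one]
    exact h
  exact hmoveT.2 (wapp_eq_of_mk (Wb ++ Wb) [] (by decide) (by decide) h1 0 (by norm_num))

theorem hHz : ∀ h ∈ H, h * za = za * h := by
  intro h hh
  exact (Subgroup.mem_centralizer_iff.mp (H_le hh) za (Set.mem_singleton _)).symm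

theorem ht1 : t1 ∉ H := by
  intro h
  have h1 := hHz t1 h
  have h2 : za * (t1 * za * t1⁻¹) = 1 := by
    rw [h1, mul_assoc, mul_inv_cancel, mul_one]
    exact za_mul_self
  rw [e1] at h2
  have h3 : PresentedGroup.mk Rels (wordElt gc Wc) = PresentedGroup.mk Rels (wordElt gc []) := by
    rw [wordElt_nil, map_one]
    exact h2
  exact hmoveT.1 (wapp_eq_of_mk Wc [] (by decide) (by decide) h3 1 (by norm_num))

end helpers

/-- The Fischer group of order 64561751654400 exists as a 3-transposition group: a simple group of that order generated by a conjugacy class of 3510 3-transpositions, the centraliser of each being a non-split double cover of PSU(6, 2). -/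
theorem result : ∃ (G : Type) (_ : Group G) (_ : Finite G), Cfsg.IsFi22 G ∧ ∃ D : Set G, Cfsg.IsThreeTranspositionClass D ∧ Nat.card D = 3510 ∧ ∀ d ∈ D, ∃ (F : Type) (_ : Field F) (_ : Fintype F), Fintype.card F = 4 ∧ Cfsg.IsNonsplitDoubleCover (Subgroup.centralizer ({d} : Set G)) (Cfsg.PSU 6 F 2) := by
  have h22 := Cfsg.Agent.S1696.result
  have hfin : Finite Fi22 := Nat.finite_of_card_ne_zero (by rw [h22.2]; norm_num)
  refine ⟨Fi22, inferInstance, hfin, h22, ?_⟩
  obtain ⟨hidx, q₁, q₂, h1, h2⟩ := Cfsg.Agent.S1687.result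
  have hmax := coatom_of_rank3 _ hidx q₁ q₂ h1 h2 (by norm_num) (by norm_num) (by norm_num)
    (by norm_num) (by norm_num) (by norm_num)
  have hnp : ¬ (Nat.card Fi22).Prime := by
    rw [h22.2]
    intro hp
    have := (Nat.Prime.eq_one_or_self_of_dvd hp 2 (by norm_num))
    omega
  obtain ⟨D, hD, hcard, hcen⟩ := Cfsg.Agent.Lib.Helper6.TT.realization h22.1 hnp
    H hmax za za_ne_one za_mul_self hHz hidx q₁ q₂ h1 h2 (by norm_num)
    (by norm_num) (by norm_num) (by norm_num) t1 t2 ht1 hc1 hc2 h3 nonsplit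
  exact ⟨D, hD, hcard, fun d hd => ⟨Cfsg.Agent.Lib.Helper1.Hexa.F4, inferInstance, inferInstance,
    by decide, hcen d hd⟩⟩

end Cfsg.Agent.S0471
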