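import Cfsg.Statements.S0472
import Cfsg.Agent.S1696
import Cfsg.Agent.S1697
import Cfsg.Agent.S1688
import Cfsg.Agent.Lib.Helper6.TT2
import Cfsg.Agent.Lib.Helper6.TCD.Fi23T.All

set_option autoImplicit false
open Cfsg

namespace Cfsg.Agent.S0472

open Cfsg.Spor Cfsg.Agent.Lib.Helper6.TC Cfsg.Agent.Lib.Helper6.TCD Cfsg.Agent.Lib.Helper6.Simp
open Cfsg.Agent.Lib.Helper6.TCP.Fi23 Cfsg.Agent.Lib.Helper6.TCD.Fi23a Cfsg.Agent.Lib.Helper6.TCD.Fi23T

section helpers
set_option maxRecDepth 100000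
set_option linter.unusedSimpArgs false

/-- a word taking the point of the central involution of the subgroup to the point of a generator -/
def wv : List ℕ := [7, 6, 5, 4, 3, 2, 1, 8, 3, 2, 4, 3, 5, 4, 6, 5, 7, 6, 8, 3, 2, 4, 3, 5, 4, 8, 3, 2]
def wvi : List ℕ := [2, 3, 8, 4, 5, 3, 4, 2, 3, 8, 6, 7, 5, 6, 4, 5, 3, 4, 2, 3, 8, 1, 2, 3, 4, 5, 6, 7]
/-- the word of the central involution of the subgroup -/
def wz : List ℕ := [7, 6, 5, 4, 3, 2, 1, 8, 3, 2, 4, 3, 5, 4, 6, 5, 7, 6, 8, 3, 2, 4, 3, 5, 4, 8, 3, 2, 1, 2, 3, 8, 4, 5, 3, 4, 2, 3, 8, 6, 7, 5, 6, 4, 5, 3, 4, 2, 3, 8, 1, 2, 3, 4, 5, 6, 7]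

theorem wz_eq : wz = wv ++ [1] ++ wvi := by decide

theorem wvi_eq : wvi = invw Cfsg.Agent.Lib.Helper6.TCP.Fi23.INV wv := by decide +kernel

theorem hwzl : ∀ c ∈ wz, c < 10 := by decide

theorem hwvl : ∀ c ∈ wv, c < 10 := by decide

theorem hQT : ∀ q < 31671, QT q = wapp px wz q := by
  intro q hq
  have e : wapp px wz q = TW q := by
    simp only [wz, wapp_cons, wapp_nil, Cfsg.Agent.S1689.px_c0, Cfsg.Agent.S1689.px_c1, Cfsg.Agent.S1689.px_c2, Cfsg.Agent.S1689.px_c3, Cfsg.Agent.S1689.px_c4, Cfsg.Agent.S1689.px_c5, Cfsg.Agent.S1689.px_c6, Cfsg.Agent.S1689.px_c7, Cfsg.Agent.S1689.px_c8, Cfsg.Agent.S1689.px_c9]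
    rfl
  rw [e]
  by_cases g0 : q < 4310
  · exact chkEqF_spec chkQT0 q (by omega) (by omega)
  by_cases g1 : q < 8620
  · exact chkEqF_spec chkQT1 q (by omega) (by omega)
  by_cases g2 : q < 12930
  · exact chkEqF_spec chkQT2 q (by omega) (by omega)
  by_cases g3 : q < 17240
  · exact chkEqF_spec chkQT3 q (by omega) (by omega)
  by_cases g4 : q < 21550
  · exact chkEqF_spec chkQT4 q (by omega) (by omega)
  by_cases g5 : q < 25860
  · exact chkEqF_spec chkQT5 q (by omega) (by omega)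
  by_cases g6 : q < 30170
  · exact chkEqF_spec chkQT6 q (by omega) (by omega)
  exact chkEqF_spec chkQT7 q (by omega) (by omega)

theorem hQT_lt : ∀ q < 31671, QT q < 31671 := by
  intro q hq
  rw [hQT q hq]
  exact wapp_lt Cfsg.Agent.S1689.hP wz hwzl q hq

theorem hcomm_0 : ∀ q < 31671, wapp px ([0] ++ wz) q = wapp px (wz ++ [0]) q := by
  intro q hq
  have h1 : wapp px [0] q < 31671 := wapp_lt Cfsg.Agent.S1689.hP [0] (by decide) q hq
  rw [wapp_append, wapp_append, ← hQT q hq, ← hQT _ h1]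
  have e1 : QT (wapp px [0] q) = CL0 q := by
    simp only [wapp_cons, wapp_nil, Cfsg.Agent.S1689.px_c0]
    rfl
  have e2 : wapp px [0] (QT q) = CR0 q := by
    simp only [wapp_cons, wapp_nil, Cfsg.Agent.S1689.px_c0]
    rfl
  rw [e1, e2]
  exact chkEqF_spec chkC0x0 q (by omega) (by omega)

theorem hcomm_1 : ∀ q < 31671, wapp px ([1] ++ wz) q = wapp px (wz ++ [1]) q := by
  intro q hq
  have h1 : wapp px [1] q < 31671 := wapp_lt Cfsg.Agent.S1689.hP [1] (by decide) q hq
  rw [wapp_append, wapp_append, ← hQT q hq, ← hQT _ h1]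
  have e1 : QT (wapp px [1] q) = CL1 q := by
    simp only [wapp_cons, wapp_nil, Cfsg.Agent.S1689.px_c1]
    rfl
  have e2 : wapp px [1] (QT q) = CR1 q := by
    simp only [wapp_cons, wapp_nil, Cfsg.Agent.S1689.px_c1]
    rfl
  rw [e1, e2]
  exact chkEqF_spec chkC1x0 q (by omega) (by omega)

theorem hcomm_2 : ∀ q < 31671, wapp px ([2] ++ wz) q = wapp px (wz ++ [2]) q := by
  intro q hq
  have h1 : wapp px [2] q < 31671 := wapp_lt Cfsg.Agent.S1689.hP [2] (by decide) q hq
  rw [wapp_append, wapp_append, ← hQT q hq, ← hQT _ h1]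
  have e1 : QT (wapp px [2] q) = CL2 q := by
    simp only [wapp_cons, wapp_nil, Cfsg.Agent.S1689.px_c2]
    rfl
  have e2 : wapp px [2] (QT q) = CR2 q := by
    simp only [wapp_cons, wapp_nil, Cfsg.Agent.S1689.px_c2]
    rfl
  rw [e1, e2]
  exact chkEqF_spec chkC2x0 q (by omega) (by omega)

theorem hcomm_3 : ∀ q < 31671, wapp px ([3] ++ wz) q = wapp px (wz ++ [3]) q := by
  intro q hq
  have h1 : wapp px [3] q < 31671 := wapp_lt Cfsg.Agent.S1689.hP [3] (by decide) q hq
  rw [wapp_append, wapp_append, ← hQT q hq, ← hQT _ h1]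
  have e1 : QT (wapp px [3] q) = CL3 q := by
    simp only [wapp_cons, wapp_nil, Cfsg.Agent.S1689.px_c3]
    rfl
  have e2 : wapp px [3] (QT q) = CR3 q := by
    simp only [wapp_cons, wapp_nil, Cfsg.Agent.S1689.px_c3]
    rfl
  rw [e1, e2]
  exact chkEqF_spec chkC3x0 q (by omega) (by omega)

theorem hcomm_4 : ∀ q < 31671, wapp px ([4] ++ wz) q = wapp px (wz ++ [4]) q := by
  intro q hq
  have h1 : wapp px [4] q < 31671 := wapp_lt Cfsg.Agent.S1689.hP [4] (by decide) q hq
  rw [wapp_append, wapp_append, ← hQT q hq, ← hQT _ h1]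
  have e1 : QT (wapp px [4] q) = CL4 q := by
    simp only [wapp_cons, wapp_nil, Cfsg.Agent.S1689.px_c4]
    rfl
  have e2 : wapp px [4] (QT q) = CR4 q := by
    simp only [wapp_cons, wapp_nil, Cfsg.Agent.S1689.px_c4]
    rfl
  rw [e1, e2]
  exact chkEqF_spec chkC4x0 q (by omega) (by omega)

theorem hcomm_5 : ∀ q < 31671, wapp px ([5] ++ wz) q = wapp px (wz ++ [5]) q := by
  intro q hq
  have h1 : wapp px [5] q < 31671 := wapp_lt Cfsg.Agent.S1689.hP [5] (by decide) q hq
  rw [wapp_append, wapp_append, ← hQT q hq, ← hQT _ h1]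
  have e1 : QT (wapp px [5] q) = CL5 q := by
    simp only [wapp_cons, wapp_nil, Cfsg.Agent.S1689.px_c5]
    rfl
  have e2 : wapp px [5] (QT q) = CR5 q := by
    simp only [wapp_cons, wapp_nil, Cfsg.Agent.S1689.px_c5]
    rfl
  rw [e1, e2]
  exact chkEqF_spec chkC5x0 q (by omega) (by omega)

theorem hcomm_6 : ∀ q < 31671, wapp px ([6] ++ wz) q = wapp px (wz ++ [6]) q := by
  intro q hq
  have h1 : wapp px [6] q < 31671 := wapp_lt Cfsg.Agent.S1689.hP [6] (by decide) q hq
  rw [wapp_append, wapp_append, ← hQT q hq, ← hQT _ h1]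
  have e1 : QT (wapp px [6] q) = CL6 q := by
    simp only [wapp_cons, wapp_nil, Cfsg.Agent.S1689.px_c6]
    rfl
  have e2 : wapp px [6] (QT q) = CR6 q := by
    simp only [wapp_cons, wapp_nil, Cfsg.Agent.S1689.px_c6]
    rfl
  rw [e1, e2]
  exact chkEqF_spec chkC6x0 q (by omega) (by omega)

theorem hcomm_8 : ∀ q < 31671, wapp px ([8] ++ wz) q = wapp px (wz ++ [8]) q := by
  intro q hq
  have h1 : wapp px [8] q < 31671 := wapp_lt Cfsg.Agent.S1689.hP [8] (by decide) q hq
  rw [wapp_append, wapp_append, ← hQT q hq, ← hQT _ h1]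
  have e1 : QT (wapp px [8] q) = CL8 q := by
    simp only [wapp_cons, wapp_nil, Cfsg.Agent.S1689.px_c8]
    rfl
  have e2 : wapp px [8] (QT q) = CR8 q := by
    simp only [wapp_cons, wapp_nil, Cfsg.Agent.S1689.px_c8]
    rfl
  rw [e1, e2]
  exact chkEqF_spec chkC8x0 q (by omega) (by omega)

theorem hcomm_9 : ∀ q < 31671, wapp px ([9] ++ wz) q = wapp px (wz ++ [9]) q := by
  intro q hq
  have h1 : wapp px [9] q < 31671 := wapp_lt Cfsg.Agent.S1689.hP [9] (by decide) q hq
  rw [wapp_append, wapp_append, ← hQT q hq, ← hQT _ h1]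
  have e1 : QT (wapp px [9] q) = CL9 q := by
    simp only [wapp_cons, wapp_nil, Cfsg.Agent.S1689.px_c9]
    rfl
  have e2 : wapp px [9] (QT q) = CR9 q := by
    simp only [wapp_cons, wapp_nil, Cfsg.Agent.S1689.px_c9]
    rfl
  rw [e1, e2]
  exact chkEqF_spec chkC9x0 q (by omega) (by omega)

theorem hZJ : ∀ q < 31671, ZJ q = wapp px (wz ++ [7]) q := by
  intro q hq
  rw [wapp_append, ← hQT q hq]
  simp only [wapp_cons, wapp_nil, Cfsg.Agent.S1689.px_c7]
  rfl

theorem hZJ3 : ∀ q < 31671, wapp px (List.replicate 3 (wz ++ [7])).flatten q = q := by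
  intro q hq
  rw [wapp_pow Cfsg.Agent.S1689.hP (by decide) hZJ 3 q hq]
  have e : ZJ^[3] q = ZJ3 q := by
    unfold ZJ3
    simp only [Function.iterate_succ_apply, Function.iterate_zero_apply]
  rw [e]
  exact chkFix_spec chkZJ0 q (by omega) (by omega)

theorem hsqall (c : ℕ) : PresentedGroup.mk Rels (ceOf gc c) * PresentedGroup.mk Rels (ceOf gc c) = 1 :=
  gen_sq (gen c)

/-- the central involution of the subgroup -/
noncomputable def z : Fi23 := PresentedGroup.mk Rels (wordElt gc wz)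

/-- the conjugating element -/
noncomputable def V : Fi23 := PresentedGroup.mk Rels (wordElt gc wv)

/-- the generator that is a conjugate of `z` -/
noncomputable def x : Fi23 := PresentedGroup.mk Rels (ceOf gc 1)

/-- the generator outside of the subgroup -/
noncomputable def j : Fi23 := PresentedGroup.mk Rels (ceOf gc 7)

theorem z_eq : z = V * x * V⁻¹ := by
  unfold z V x
  rw [wz_eq, wordElt_append, wordElt_append, map_mul, map_mul, wvi_eq,
    mk_wordElt_invw hinvG wv hwvl, wordElt_cons, wordElt_nil, mul_one]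

theorem x_sq : x * x = 1 := hsqall 1

theorem j_sq : j * j = 1 := hsqall 7

theorem z_sq : z * z = 1 := by
  rw [z_eq]
  calc V * x * V⁻¹ * (V * x * V⁻¹) = V * (x * x) * V⁻¹ := by group
    _ = 1 := by rw [x_sq]; group

/-- equal elements have equal actions -/
theorem wapp_eq_of_mk_eq {w w' : List ℕ} (hwl : ∀ c ∈ w, c < 10) (hwl' : ∀ c ∈ w', c < 10)
    (h : PresentedGroup.mk Rels (wordElt gc w) = PresentedGroup.mk Rels (wordElt gc w'))
    (q : ℕ) (hq : q < 31671) : wapp px w q = wapp px w' q := by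
  obtain ⟨φ, hw, _, _, _, _⟩ := Cfsg.Agent.Lib.Helper6.Fi23Ord.rep
  rw [← hw w hwl ⟨q, hq⟩, ← hw w' hwl' ⟨q, hq⟩, h]

theorem z_ne_one : z ≠ 1 := by
  intro h
  have h' : PresentedGroup.mk Rels (wordElt gc wz) = PresentedGroup.mk Rels (wordElt gc []) := by
    rw [wordElt_nil, map_one]
    exact h
  have := wapp_eq_of_mk_eq hwzl (by decide) h' 1 (by decide)
  rw [← hQT 1 (by decide)] at this
  revert this
  decide +kernel

theorem z_ne_x : z ≠ x := by
  intro h
  have h' : PresentedGroup.mk Rels (wordElt gc wz) = PresentedGroup.mk Rels (wordElt gc [1]) := by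
    rw [wordElt_cons, wordElt_nil, mul_one]
    exact h
  have := wapp_eq_of_mk_eq hwzl (by decide) h' 1 (by decide)
  rw [← hQT 1 (by decide)] at this
  revert this
  decide +kernel

theorem z_ne_j : z ≠ j := by
  intro h
  have h' : PresentedGroup.mk Rels (wordElt gc wz) = PresentedGroup.mk Rels (wordElt gc [7]) := by
    rw [wordElt_cons, wordElt_nil, mul_one]
    exact h
  have := wapp_eq_of_mk_eq hwzl (by decide) h' 0 (by decide)
  rw [← hQT 0 (by decide)] at this
  revert this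
  decide +kernel

theorem zj_cube : (z * j) ^ 3 = 1 := by
  obtain ⟨φ, hw, _, hinj, _, _⟩ := Cfsg.Agent.Lib.Helper6.Fi23Ord.rep
  have := mk_eq_one_of_fix (gc := gc) hinj hw (w := (List.replicate 3 (wz ++ [7])).flatten)
    (by decide) hZJ3
  rw [wordElt_flatten_replicate, map_pow, wordElt_append, map_mul, wordElt_cons, wordElt_nil,
    mul_one] at this
  exact this

theorem comm_gen : ∀ w ∈ Cfsg.Agent.S1689.subw,
    PresentedGroup.mk Rels (wordElt gc w) * z = z * PresentedGroup.mk Rels (wordElt gc w) := by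
  obtain ⟨φ, hw, _, hinj, _, _⟩ := Cfsg.Agent.Lib.Helper6.Fi23Ord.rep
  intro w hmem
  unfold z
  rw [← map_mul, ← map_mul, ← wordElt_append, ← wordElt_append]
  simp only [Cfsg.Agent.S1689.subw, List.mem_cons, List.mem_singleton, List.not_mem_nil,
    or_false] at hmem
  rcases hmem with rfl | rfl | rfl | rfl | rfl | rfl | rfl | rfl | rfl
  · exact mk_eq_of_wapp_eq (gc := gc) hinj hw (by decide) (by decide) hcomm_0
  · exact mk_eq_of_wapp_eq (gc := gc) hinj hw (by decide) (by decide) hcomm_1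
  · exact mk_eq_of_wapp_eq (gc := gc) hinj hw (by decide) (by decide) hcomm_2
  · exact mk_eq_of_wapp_eq (gc := gc) hinj hw (by decide) (by decide) hcomm_3
  · exact mk_eq_of_wapp_eq (gc := gc) hinj hw (by decide) (by decide) hcomm_4
  · exact mk_eq_of_wapp_eq (gc := gc) hinj hw (by decide) (by decide) hcomm_5
  · exact mk_eq_of_wapp_eq (gc := gc) hinj hw (by decide) (by decide) hcomm_6
  · exact mk_eq_of_wapp_eq (gc := gc) hinj hw (by decide) (by decide) hcomm_8
  · exact mk_eq_of_wapp_eq (gc := gc) hinj hw (by decide) (by decide) hcomm_9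

theorem hHz : ∀ h ∈ subH Rels Cfsg.Agent.S1689.S, h * z = z * h := by
  have hle : subH Rels Cfsg.Agent.S1689.S ≤ Subgroup.centralizer {z} := by
    rw [Subgroup.map_le_iff_le_comap, Subgroup.closure_le]
    intro s hs
    obtain ⟨w, hw, rfl⟩ := Cfsg.Agent.S1689.hsw s hs
    show PresentedGroup.mk Rels (wordElt gc w) ∈ Subgroup.centralizer {z}
    rw [Subgroup.mem_centralizer_iff]
    intro y hy
    rw [Set.mem_singleton_iff] at hy
    subst hy
    exact (comm_gen w hw).symm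
  intro h hh
  have := hle hh
  rw [Subgroup.mem_centralizer_iff] at this
  exact (this z rfl).symm

theorem x_mem : x ∈ subH Rels Cfsg.Agent.S1689.S := by
  refine ⟨wordElt gc [1], Subgroup.subset_closure ?_, ?_⟩
  · exact (Cfsg.Agent.S1689.hsw' [1] (by decide)).2
  · rw [wordElt_cons, wordElt_nil, mul_one]
    rfl

theorem conj1 : V⁻¹ * z * V⁻¹⁻¹ = x := by
  rw [z_eq]; group

theorem hc1 : (z * (V⁻¹ * z * V⁻¹⁻¹)) ^ 2 = 1 := by
  rw [conj1, pow_two]
  have h := hHz x x_mem
  calc z * x * (z * x) = z * (x * z) * x := by group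
    _ = z * (z * x) * x := by rw [h]
    _ = (z * z) * (x * x) := by group
    _ = 1 := by rw [z_sq, x_sq, one_mul]

theorem ht1 : V⁻¹ ∉ subH Rels Cfsg.Agent.S1689.S := by
  intro h
  have h1 := hHz _ h
  apply z_ne_x
  rw [← conj1, h1]
  group

theorem j_inv : j⁻¹ = j := by
  rw [inv_eq_iff_mul_eq_one]
  exact j_sq

theorem conj2 : z * (j * z * j⁻¹) = (z * j) ^ 2 := by
  rw [j_inv, pow_two]; group

theorem h3 : (z * (j * z * j⁻¹)) ^ 3 = 1 := by
  rw [conj2, ← pow_mul, mul_comm, pow_mul, zj_cube, one_pow]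

theorem hc2 : (z * (j * z * j⁻¹)) ^ 2 ≠ 1 := by
  rw [conj2, ← pow_mul]
  intro h
  have h4 : (z * j) ^ 4 = (z * j) ^ 3 * (z * j) := pow_succ (z * j) 3
  rw [show 2 * 2 = 4 from rfl, h4, zj_cube, one_mul] at h
  apply z_ne_j
  rw [← j_inv]
  exact eq_inv_of_mul_eq_one_left h

end helpers

/-- The Fischer group of order 4089470473293004800 exists as a 3-transposition group: a simple group of that order generated by a conjugacy class of 31671 3-transpositions, the centraliser of each being a non-split double cover of a simple group of order 64561751654400. -/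
theorem result : ∃ (G : Type) (_ : Group G) (_ : Finite G), Cfsg.IsFi23 G ∧ ∃ D : Set G, Cfsg.IsThreeTranspositionClass D ∧ Nat.card D = 31671 ∧ ∀ d ∈ D, ∃ (K : Type) (_ : Group K), Cfsg.IsFi22 K ∧ Cfsg.IsNonsplitDoubleCover (Subgroup.centralizer ({d} : Set G)) K := by
  have h23 := Cfsg.Agent.S1697.result
  have hfin : Finite Fi23 := Nat.finite_of_card_ne_zero (by rw [h23.2]; norm_num)
  refine ⟨Fi23, inferInstance, hfin, h23, ?_⟩
  obtain ⟨hidx, q₁, q₂, h1, h2⟩ := Cfsg.Agent.S1689.result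
  have hmax := coatom_of_rank3 _ hidx q₁ q₂ h1 h2 (by norm_num) (by norm_num) (by norm_num)
    (by norm_num) (by norm_num) (by norm_num)
  have hnp : ¬ (Nat.card Fi23).Prime := by
    rw [h23.2]
    intro hp
    have := (Nat.Prime.eq_one_or_self_of_dvd hp 2 (by norm_num))
    omega
  obtain ⟨D, hD, hcard, hcen⟩ := Cfsg.Agent.Lib.Helper6.TT.realization h23.1 hnp
    (subH Rels Cfsg.Agent.S1689.S) hmax z z_ne_one z_sq hHz hidx q₁ q₂ h1 h2 (by norm_num)
    (by norm_num) (by norm_num) (by norm_num) V⁻¹ j ht1 hc1 hc2 h3 Cfsg.Agent.S1688.result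
  exact ⟨D, hD, hcard, fun d hd => ⟨Fi22, inferInstance, Cfsg.Agent.S1696.result, hcen d hd⟩⟩

end Cfsg.Agent.S0472
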