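import Mathlib
import Cfsg.Statements.S0481
import Cfsg.Agent.Lib.Helper1.SylowCentral

set_option autoImplicit false
set_option linter.style.haveILetI false
open Cfsg
open Cfsg.Agent.Lib.Helper1
open scoped Pointwise

namespace Cfsg.Agent.S0481

/-- Large extraspecial subgroups: let z be an involution of a finite group G whose centraliser C contains a normal 2-subgroup Q with centre of order 2 and all squares central, such that every element of G centralising Q lies in Q. Then C contains a Sylow 2-subgroup of G, and any involution of G whose centraliser contains a Sylow 2-subgroup of G is conjugate to z. -/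
theorem result {G : Type*} [Group G] [Finite G] (z : G) (hz : orderOf z = 2) (Q : Subgroup G) (hQC : Q ≤ Subgroup.centralizer ({z} : Set G)) (hQn : ∀ g ∈ Subgroup.centralizer ({z} : Set G), ∀ q ∈ Q, g * q * g⁻¹ ∈ Q) (hQ2 : IsPGroup 2 Q) (hZ : Nat.card (Subgroup.center Q) = 2) (hsq : ∀ x : Q, x ^ 2 ∈ Subgroup.center Q) (hlarge : Subgroup.centralizer (Q : Set G) ≤ Q) : (∃ P : Sylow 2 G, (P : Subgroup G) ≤ Subgroup.centralizer ({z} : Set G)) ∧ ∀ u : G, orderOf u = 2 → (∃ P : Sylow 2 G, (P : Subgroup G) ≤ Subgroup.centralizer ({u} : Set G)) → IsConj z u := by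
  haveI : Fact (Nat.Prime 2) := ⟨Nat.prime_two⟩
  have hz1 := ne_one_of_orderOf_two hz
  -- z ∈ Q
  have hzQ : z ∈ Q := by
    apply hlarge
    rw [Subgroup.mem_centralizer_iff]
    intro q hq
    exact Subgroup.mem_centralizer_singleton_iff.mp (hQC hq)
  -- any element commuting with all of Q is 1 or z
  have hkey : ∀ x : G, (∀ q ∈ Q, q * x = x * q) → x ≠ 1 → x = z := by
    intro x hx hx1
    have hxQ : x ∈ Q := by
      apply hlarge
      rw [Subgroup.mem_centralizer_iff]
      exact hx
    have hxc : (⟨x, hxQ⟩ : Q) ∈ Subgroup.center Q := by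
      rw [Subgroup.mem_center_iff]
      intro q
      apply Subtype.ext
      exact hx q.1 q.2
    have hzc : (⟨z, hzQ⟩ : Q) ∈ Subgroup.center Q := by
      rw [Subgroup.mem_center_iff]
      intro q
      apply Subtype.ext
      exact Subgroup.mem_centralizer_singleton_iff.mp (hQC q.2)
    obtain ⟨y, -, hy⟩ := (Nat.card_eq_two_iff' (1 : Subgroup.center Q)).mp hZ
    have h1 : (⟨⟨x, hxQ⟩, hxc⟩ : Subgroup.center Q) = y := by
      apply hy
      intro h
      apply hx1
      have := congrArg (fun w : Subgroup.center Q => ((w : Q) : G)) h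
      simpa using this
    have h2 : (⟨⟨z, hzQ⟩, hzc⟩ : Subgroup.center Q) = y := by
      apply hy
      intro h
      apply hz1
      have := congrArg (fun w : Subgroup.center Q => ((w : Q) : G)) h
      simpa using this
    have := congrArg (fun w : Subgroup.center Q => ((w : Q) : G)) (h1.trans h2.symm)
    simpa using this
  -- a Sylow 2-subgroup containing Q
  obtain ⟨T, hT⟩ := hQ2.exists_le_sylow
  have hzT : z ∈ T := hT hzQ
  -- z is central in T
  have hzZT : ∀ y ∈ T, y * z = z * y := by
    haveI : Nontrivial (T : Subgroup G) := ⟨⟨⟨z, hzT⟩, 1, fun h => hz1 (congrArg Subtype.val h)⟩⟩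
    haveI : Nontrivial (Subgroup.center (T : Subgroup G)) := T.isPGroup'.center_nontrivial
    obtain ⟨c, hc⟩ := exists_ne (1 : Subgroup.center (T : Subgroup G))
    have hcc := c.2
    rw [Subgroup.mem_center_iff] at hcc
    have hcz : ((c : (T : Subgroup G)) : G) = z := by
      apply hkey
      · intro q hq
        exact congrArg Subtype.val (hcc ⟨q, hT hq⟩)
      · intro h
        apply hc
        apply Subtype.ext
        apply Subtype.ext
        simpa using h
    intro y hy
    rw [← hcz]
    exact congrArg Subtype.val (hcc ⟨y, hy⟩)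
  have hTC : (T : Subgroup G) ≤ Subgroup.centralizer ({z} : Set G) := by
    intro y hy
    rw [Subgroup.mem_centralizer_singleton_iff]
    exact hzZT y hy
  refine ⟨⟨T, hTC⟩, ?_⟩
  intro u hu ⟨P, hP⟩
  obtain ⟨g, hg⟩ := MulAction.exists_smul_eq G T P
  -- u' = g⁻¹ u g centralizes T
  set u' := g⁻¹ * u * g with hu'
  have hu'o : orderOf u' = 2 := by
    have := MulEquiv.orderOf_eq (MulAut.conj g⁻¹) u
    rw [MulAut.conj_apply, inv_inv] at this
    rw [hu', this]; exact hu
  have hmemP : ∀ y ∈ T, g * y * g⁻¹ ∈ P := by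
    intro y hy
    rw [← hg]
    show g * y * g⁻¹ ∈ ((g • T : Sylow 2 G) : Subgroup G)
    rw [Sylow.coe_subgroup_smul, Subgroup.mem_pointwise_smul_iff_inv_smul_mem, MulAut.smul_def,
      ← map_inv, MulAut.conj_apply, inv_inv]
    have : g⁻¹ * (g * y * g⁻¹) * g = y := by group
    rw [this]; exact hy
  have hTu' : (T : Subgroup G) ≤ Subgroup.centralizer ({u'} : Set G) := by
    intro y hy
    rw [Subgroup.mem_centralizer_singleton_iff]
    have h1 := Subgroup.mem_centralizer_singleton_iff.mp (hP (hmemP y hy))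
    -- g y g⁻¹ u = u g y g⁻¹
    calc y * u' = g⁻¹ * (g * y * g⁻¹ * u) * g := by rw [hu']; group
      _ = g⁻¹ * (u * (g * y * g⁻¹)) * g := by rw [h1]
      _ = u' * y := by rw [hu']; group
  have hu'T : u' ∈ T := mem_sylow_of_centralizes T hu'o hTu'
  have hu'z : u' = z := by
    apply hkey
    · intro q hq
      exact Subgroup.mem_centralizer_singleton_iff.mp (hTu' (hT hq))
    · exact ne_one_of_orderOf_two hu'o
  rw [isConj_iff]
  refine ⟨g, ?_⟩
  rw [← hu'z, hu']; group

end Cfsg.Agent.S0481
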