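import Mathlib
import Cfsg.Statements.S0499
import Cfsg.Agent.Lib.Lead.FrobNPC5

set_option autoImplicit false
open Cfsg

namespace Cfsg.Agent.S0499

open Cfsg.Agent.Lib.Lead

section conj
variable {G : Type*} [Group G]

/-- Conjugation action of the normaliser of `Q` on `Q`, by automorphisms. -/
def conjAut (Q : Subgroup G) : Subgroup.normalizer (Q : Set G) →* MulAut Q where
  toFun n :=
    { toFun := fun x => ⟨n.1 * x.1 * n.1⁻¹, (Subgroup.mem_normalizer_iff.1 n.2 x.1).1 x.2⟩
      invFun := fun x => ⟨n.1⁻¹ * x.1 * n.1, by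
        have h := (Subgroup.mem_normalizer_iff.1 (Subgroup.inv_mem _ n.2) x.1).1 x.2
        rwa [inv_inv] at h⟩
      left_inv := fun x => by
        apply Subtype.ext
        simp only
        group
      right_inv := fun x => by
        apply Subtype.ext
        simp only
        group
      map_mul' := fun x y => by
        apply Subtype.ext
        simp only [Subgroup.coe_mul]
        group }
  map_one' := by
    ext x
    simp
  map_mul' := fun a b => by
    ext x
    simp only [MulAut.mul_apply, MulEquiv.coe_mk, Equiv.coe_fn_mk, Subgroup.coe_mul]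
    group

@[simp]
theorem conjAut_apply (Q : Subgroup G) (n : Subgroup.normalizer (Q : Set G)) (x : Q) :
    ((conjAut Q n) x : G) = n.1 * x.1 * n.1⁻¹ := rfl

end conj

/-- arithmetic: the possible odd primes -/
theorem key_arith (j i r : ℕ) (hr : r.Prime) (hodd : r ≠ 2) (hj : j ≤ 3) (hi : i < j)
    (h : 2 ^ j ≡ 2 ^ i [MOD r]) : (r = 3 ∧ 2 ≤ j) ∨ (r = 7 ∧ j = 3) := by
  have hle : 2 ^ i ≤ 2 ^ j := Nat.pow_le_pow_right (by norm_num) hi.le
  have hdvd : r ∣ 2 ^ j - 2 ^ i := (Nat.modEq_iff_dvd' hle).1 h.symm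
  have hr2 := hr.two_le
  interval_cases j <;> interval_cases i
  all_goals
    have hle7 : r ≤ 7 := le_trans (Nat.le_of_dvd (by norm_num) hdvd) (by norm_num)
    interval_cases r <;> first | omega | (exfalso; revert hr; decide)


section main
variable {G : Type*} [Group G] [Finite G]

/-- The local analysis: an odd-order element normalising a `2`-group `Q` of order at most `8`
centralises it, unless `12` or `56` divides `|G|`. -/
theorem centralizes_of_small (h12 : ¬ 12 ∣ Nat.card G) (h56 : ¬ 56 ∣ Nat.card G)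
    (Q : Subgroup G) (hQ : IsPGroup 2 Q) (hQ8 : Nat.card Q ≤ 8)
    (g : G) (hg : g ∈ Subgroup.normalizer (Q : Set G)) (hodd : Nat.Coprime (orderOf g) 2) :
    g ∈ Subgroup.centralizer (Q : Set G) := by
  classical
  by_contra hnc
  set σ : MulAut Q := conjAut Q ⟨g, hg⟩ with hσ
  have hσ1 : σ ≠ 1 := by
    intro h1
    apply hnc
    rw [Subgroup.mem_centralizer_iff]
    intro x hx
    have h2 := congrArg (fun f : MulAut Q => ((f ⟨x, hx⟩ : Q) : G)) h1
    simp only [hσ, conjAut_apply, MulAut.one_apply] at h2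
    calc x * g = (g * x * g⁻¹) * g := by rw [h2]
      _ = g * x := by group
  have hσord : orderOf σ ∣ orderOf g := by
    have h1 : orderOf σ ∣ orderOf (⟨g, hg⟩ : Subgroup.normalizer (Q : Set G)) := orderOf_map_dvd _ _
    rwa [Subgroup.orderOf_mk] at h1
  have hσpos : 0 < orderOf σ := by
    apply Nat.pos_of_ne_zero
    intro h0
    rw [h0, zero_dvd_iff] at hσord
    exact (orderOf_pos g).ne' hσord
  have hσne1 : orderOf σ ≠ 1 := by
    rw [Ne, orderOf_eq_one_iff]; exact hσ1
  set r := (orderOf σ).minFac with hr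
  have hrp : r.Prime := Nat.minFac_prime hσne1
  have hrdvd : r ∣ orderOf σ := Nat.minFac_dvd _
  have hrg : r ∣ orderOf g := hrdvd.trans hσord
  have hr2 : r ≠ 2 := by
    intro h2
    rw [h2] at hrg
    have := Nat.Coprime.eq_one_of_dvd hodd.symm hrg
    omega
  have hrG : r ∣ Nat.card G := hrg.trans (orderOf_dvd_natCard g)
  set τ : MulAut Q := σ ^ (orderOf σ / r) with hτ
  have hτord : orderOf τ = r := orderOf_pow_orderOf_div hσpos.ne' hrdvd
  have : Fact r.Prime := ⟨hrp⟩
  -- the fixed subgroup
  let Fx : Subgroup Q :=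
    { carrier := {x | τ x = x}
      one_mem' := map_one τ
      mul_mem' := fun {a b} ha hb => by
        change τ (a * b) = a * b
        rw [map_mul, ha, hb]
      inv_mem' := fun {a} ha => by
        change τ a⁻¹ = a⁻¹
        rw [map_inv, ha] }
  have hFxne : Fx ≠ ⊤ := by
    intro htop
    have h1 : τ = 1 := by
      ext x
      have : x ∈ Fx := by rw [htop]; exact Subgroup.mem_top x
      have h2 : τ x = x := this
      rw [h2]; rfl
    rw [← orderOf_eq_one_iff, hτord] at h1
    exact hrp.one_lt.ne' h1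
  -- the p-group action
  have hT : IsPGroup r (Subgroup.zpowers τ) := by
    rw [IsPGroup.iff_card]
    exact ⟨1, by rw [Nat.card_zpowers, hτord, pow_one]⟩
  have hfinQ : Finite Q := inferInstance
  have hmod := hT.card_modEq_card_fixedPoints Q
  have hfix : Nat.card (MulAction.fixedPoints (Subgroup.zpowers τ) Q) = Nat.card Fx := by
    apply Nat.card_congr
    apply Equiv.setCongr
    ext x
    constructor
    · intro hx
      exact hx ⟨τ, Subgroup.mem_zpowers τ⟩
    · rintro hx ⟨t, ht⟩
      obtain ⟨k, rfl⟩ := Subgroup.mem_zpowers_iff.1 ht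
      change (τ ^ k) x = x
      have hx' : τ x = x := hx
      have : ∀ n : ℕ, (τ ^ n) x = x := by
        intro n
        induction n with
        | zero => rfl
        | succ n ih => rw [pow_succ, MulAut.mul_apply, hx', ih]
      rcases Int.eq_nat_or_neg k with ⟨n, rfl | rfl⟩
      · rw [zpow_natCast]; exact this n
      · rw [zpow_neg, zpow_natCast]
        have h3 := this n
        have h4 : (τ ^ n)⁻¹ ((τ ^ n) x) = x := MulAut.inv_apply_self _ _ x
        rw [h3] at h4
        exact h4
  rw [hfix] at hmod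
  -- cardinalities are powers of two
  obtain ⟨j, hj⟩ := (IsPGroup.iff_card).1 hQ
  have hFxP : IsPGroup 2 Fx := hQ.to_subgroup Fx
  obtain ⟨i, hi⟩ := (IsPGroup.iff_card).1 hFxP
  have hj3 : j ≤ 3 := by
    rw [hj] at hQ8
    by_contra hcon
    push Not at hcon
    have : 2 ^ 4 ≤ 2 ^ j := Nat.pow_le_pow_right (by norm_num) hcon
    omega
  have hij : i < j := by
    have hlt : Nat.card Fx < Nat.card Q := by
      have hdvd := Subgroup.card_subgroup_dvd_card Fx
      have hle := Nat.le_of_dvd Nat.card_pos hdvd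
      rcases Nat.lt_or_ge (Nat.card Fx) (Nat.card Q) with h | h
      · exact h
      · exfalso
        apply hFxne
        exact (Subgroup.card_eq_iff_eq_top Fx).1 (le_antisymm hle h)
    rw [hi, hj] at hlt
    exact (Nat.pow_lt_pow_iff_right (by norm_num)).1 hlt
  rw [hi, hj] at hmod
  have hQG : 2 ^ j ∣ Nat.card G := by rw [← hj]; exact Subgroup.card_subgroup_dvd_card Q
  rcases key_arith j i r hrp hr2 hj3 hij hmod with ⟨h3, hj2⟩ | ⟨h7, hj3'⟩
  · apply h12
    have h4 : 4 ∣ Nat.card G := (Nat.pow_dvd_pow 2 hj2).trans hQG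
    rw [h3] at hrG
    exact Nat.Coprime.mul_dvd_of_dvd_of_dvd (by norm_num : Nat.Coprime 4 3) h4 hrG
  · apply h56
    rw [hj3'] at hQG
    rw [h7] at hrG
    exact Nat.Coprime.mul_dvd_of_dvd_of_dvd (by norm_num : Nat.Coprime 8 7) hQG hrG

end main


/-- A non-abelian finite simple group of even order has order divisible by 12, 16 or 56. -/
theorem result {G : Type*} [Group G] [Finite G] [IsSimpleGroup G]
    (hG : ¬ IsMulCommutative G) (h2 : Even (Nat.card G)) :
    12 ∣ Nat.card G ∨ 16 ∣ Nat.card G ∨ 56 ∣ Nat.card G := by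
  by_contra hcon
  push Not at hcon
  obtain ⟨h12, h16, h56⟩ := hcon
  have : Fact (Nat.Prime 2) := ⟨Nat.prime_two⟩
  obtain ⟨P⟩ : Nonempty (Sylow 2 G) := inferInstance
  have hP8 : Nat.card (P : Subgroup G) ≤ 8 := by
    obtain ⟨k, hk⟩ := (IsPGroup.iff_card).1 P.isPGroup'
    rw [hk]
    by_contra hcon
    push Not at hcon
    have hk4 : 4 ≤ k := by
      by_contra h
      push Not at h
      have : 2 ^ k ≤ 2 ^ 3 := Nat.pow_le_pow_right (by norm_num) (by omega)
      omega
    apply h16
    have h1 : 2 ^ 4 ∣ 2 ^ k := Nat.pow_dvd_pow 2 hk4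
    have h3 : 2 ^ k ∣ Nat.card G := by rw [← hk]; exact Subgroup.card_subgroup_dvd_card _
    exact h1.trans h3
  have hpl : PLocalCentral 2 G := by
    apply plocalCentral_of_sylow P
    intro Q hQP g hg hcop
    refine centralizes_of_small h12 h56 Q (P.isPGroup'.to_le hQP) ?_ g hg hcop
    exact le_trans (Nat.le_of_dvd Nat.card_pos (Subgroup.card_dvd_of_le hQP)) hP8
  obtain ⟨K, hKn, hKc⟩ := exists_normal_complement_of_plocal hpl P
  have hcm := hKc.card_mul_card
  rcases hKn.eq_bot_or_eq_top with hb | ht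
  · -- `G` is a `2`-group
    rw [hb, Subgroup.card_bot, one_mul] at hcm
    have hPtop : (P : Subgroup G) = ⊤ := (Subgroup.card_eq_iff_eq_top _).1 hcm
    have hG2 : IsPGroup 2 G := by
      have h1 : IsPGroup 2 (⊤ : Subgroup G) := hPtop ▸ P.isPGroup'
      exact h1.of_equiv Subgroup.topEquiv
    have hnt : Nontrivial G := IsSimpleGroup.toNontrivial
    have hc := hG2.bot_lt_center
    have hcn : (Subgroup.center G).Normal := inferInstance
    rcases hcn.eq_bot_or_eq_top with h | h
    · rw [h] at hc; exact lt_irrefl _ hc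
    · exact hG (Subgroup.center_eq_top_iff.1 h)
  · rw [ht, Subgroup.card_top] at hcm
    have hpos : 0 < Nat.card G := Nat.card_pos
    have hP1 : Nat.card (P : Subgroup G) = 1 := by
      have : Nat.card G * Nat.card (P : Subgroup G) = Nat.card G * 1 := by rw [hcm, mul_one]
      exact Nat.eq_of_mul_eq_mul_left hpos this
    have hPb : (P : Subgroup G) = ⊥ := Subgroup.card_eq_one.1 hP1
    exact P.ne_bot_of_dvd_card (even_iff_two_dvd.1 h2) hPb

end Cfsg.Agent.S0499
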