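import Cfsg.Statements.S0502
import Cfsg.Agent.Lib.Helper1.ElemEight
import Cfsg.Agent.Lib.Lead.Nilpotent

set_option autoImplicit false
open Cfsg

namespace Cfsg.Agent.S0502

open Cfsg.Agent.Lib.Helper1 Cfsg.Agent.Lib.Lead

theorem isKleinFour_of {G : Type*} [Group G] (V : Subgroup G) (h4 : Nat.card V = 4)
    (he : ∀ v ∈ V, v ^ 2 = 1) : IsKleinFour V := by
  refine ⟨h4, ?_⟩
  have hdvd : Monoid.exponent V ∣ 2 :=
    Monoid.exponent_dvd_of_forall_pow_eq_one (fun g => Subtype.ext (by simpa using he g g.2))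
  have hne : Monoid.exponent V ≠ 1 := by
    intro h
    have h1 := Monoid.exp_eq_one_iff.mp h
    have h2 : Nat.card V = 1 := Nat.card_of_subsingleton 1
    omega
  rcases (Nat.dvd_prime Nat.prime_two).mp hdvd with h | h
  · exact absurd h hne
  · exact h

theorem sq_of_isKleinFour {G : Type*} [Group G] (V : Subgroup G) (hV : IsKleinFour V) :
    ∀ v ∈ V, v ^ 2 = 1 := by
  intro v hv
  have h1 := Monoid.pow_exponent_eq_one (⟨v, hv⟩ : V)
  rw [hV.exponent_two] at h1
  have := congrArg Subtype.val h1
  simpa using this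

theorem fourOf_le {G : Type*} [Group G] (a b : G) (ha : a * a = 1) (hb : b * b = 1)
    (hab : a * b = b * a) (H : Subgroup G) (haH : a ∈ H) (hbH : b ∈ H) :
    fourOf a b ha hb hab ≤ H := by
  intro g hg
  rcases hg with rfl | rfl | rfl | rfl
  · exact H.one_mem
  · exact haH
  · exact hbH
  · exact H.mul_mem haH hbH

theorem fourOf_commute {G : Type*} [Group G] (a b c d : G) (ha : a * a = 1) (hb : b * b = 1)
    (hab : a * b = b * a) (hc : c * c = 1) (hd : d * d = 1) (hcd : c * d = d * c)
    (hac : a * c = c * a) (had : a * d = d * a) (hbc : b * c = c * b) (hbd : b * d = d * b) :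
    ∀ x ∈ fourOf a b ha hb hab, ∀ y ∈ fourOf c d hc hd hcd, x * y = y * x := by
  have h1 : fourOf c d hc hd hcd ≤ Subgroup.centralizer ({a} : Set G) := by
    apply fourOf_le <;> rw [Subgroup.mem_centralizer_iff] <;> intro h hh <;>
      rw [Set.mem_singleton_iff] at hh <;> subst hh
    · exact hac
    · exact had
  have h2 : fourOf c d hc hd hcd ≤ Subgroup.centralizer ({b} : Set G) := by
    apply fourOf_le <;> rw [Subgroup.mem_centralizer_iff] <;> intro h hh <;>
      rw [Set.mem_singleton_iff] at hh <;> subst hh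
    · exact hbc
    · exact hbd
  have h3 : fourOf a b ha hb hab ≤ Subgroup.centralizer (fourOf c d hc hd hcd : Set G) := by
    apply fourOf_le <;> rw [Subgroup.mem_centralizer_iff] <;> intro h hh
    · exact ((Subgroup.mem_centralizer_iff.mp (h1 hh)) a rfl).symm
    · exact ((Subgroup.mem_centralizer_iff.mp (h2 hh)) b rfl).symm
  intro x hx y hy
  exact ((Subgroup.mem_centralizer_iff.mp (h3 hx)) y hy).symm

/-- an involution acting on a normal elementary abelian subgroup of order at least `8` fixes
an element outside any given subgroup `{1, u}` -/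
theorem exists_fixed {P : Type*} [Group P] [Finite P] (hP : IsPGroup 2 P)
    (E : Subgroup P) [hEn : E.Normal] (hE2 : ∀ e ∈ E, e ^ 2 = 1) (hE8 : 8 ≤ Nat.card E)
    (w : P) (hw : w * w = 1) (u : P) :
    ∃ e ∈ E, e * w = w * e ∧ e ≠ 1 ∧ e ≠ u := by
  classical
  haveI : Fact (Nat.Prime 2) := ⟨Nat.prime_two⟩
  have hcomm : ∀ a ∈ E, ∀ b ∈ E, a * b = b * a :=
    fun a ha b hb => commute_of_sq_eq_one E hE2 ha hb
  have hwinv : w⁻¹ = w := inv_eq_of_mul_eq_one_left hw
  have hinvE : ∀ e ∈ E, e⁻¹ = e := by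
    intro e he
    have := hE2 e he
    rw [pow_two] at this
    exact inv_eq_of_mul_eq_one_left this
  have hcj : ∀ e ∈ E, w * e * w⁻¹ ∈ E := fun e he => hEn.conj_mem e he w
  let φ : E →* E :=
    { toFun := fun e => ⟨e * (w * e * w⁻¹), E.mul_mem e.2 (hcj _ e.2)⟩
      map_one' := Subtype.ext (by simp)
      map_mul' := fun e f => Subtype.ext (by
        show (e * f : P) * (w * (e * f) * w⁻¹) = e * (w * e * w⁻¹) * (f * (w * f * w⁻¹))
        have h1 : w * (e * f : P) * w⁻¹ = (w * e * w⁻¹) * (w * f * w⁻¹) := by group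
        have h2 := hcomm f f.2 (w * e * w⁻¹) (hcj _ e.2)
        rw [h1]
        calc (e : P) * f * (w * e * w⁻¹ * (w * f * w⁻¹))
            = e * (f * (w * e * w⁻¹)) * (w * f * w⁻¹) := by group
          _ = e * ((w * e * w⁻¹) * f) * (w * f * w⁻¹) := by rw [h2]
          _ = e * (w * e * w⁻¹) * (f * (w * f * w⁻¹)) := by group) }
  have hφ : ∀ e : E, ((φ e : E) : P) = e * (w * e * w⁻¹) := fun e => rfl
  have hker : ∀ e : E, e ∈ φ.ker ↔ (e : P) * w = w * e := by
    intro e
    rw [MonoidHom.mem_ker, Subtype.ext_iff, hφ]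
    constructor
    · intro h
      have h1 : w * (e : P) * w⁻¹ = (e : P)⁻¹ := by
        have := eq_inv_of_mul_eq_one_right h
        exact this
      rw [hinvE _ e.2] at h1
      calc (e : P) * w = (w * e * w⁻¹) * w := by rw [h1]
        _ = w * e := by group
    · intro h
      have h1 : w * (e : P) * w⁻¹ = e := by rw [← h]; group
      rw [h1, ← pow_two]
      simpa using hE2 _ e.2
  have hrange : φ.range ≤ φ.ker := by
    rintro _ ⟨e, rfl⟩
    rw [hker, hφ]
    have h1 := hcomm e e.2 (w * e * w⁻¹) (hcj _ e.2)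
    have h2 : w * ((e : P) * (w * e * w⁻¹)) = (w * e * w⁻¹) * ((w * w) * e * (w * w)⁻¹) * w := by
      group
    rw [h2, hw, inv_one, mul_one, one_mul, ← h1]
  have hcard : Nat.card E = Nat.card φ.ker * Nat.card φ.range := by
    rw [← Subgroup.index_ker, Subgroup.card_mul_index]
  have hle : Nat.card φ.range ≤ Nat.card φ.ker := Subgroup.card_le_of_le hrange
  obtain ⟨j, hj⟩ := IsPGroup.iff_card.mp ((hP.to_subgroup E).to_subgroup φ.ker)
  have h4 : 4 ≤ Nat.card φ.ker := by
    rw [hj] at hle hcard ⊢
    have hj2 : 2 ≤ j := by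
      by_contra hlt
      push Not at hlt
      interval_cases j <;> nlinarith
    calc 4 = 2 ^ 2 := by norm_num
      _ ≤ 2 ^ j := Nat.pow_le_pow_right (by norm_num) hj2
  by_contra hall
  push Not at hall
  have hinj : Function.Injective (fun e : φ.ker => decide (((e : E) : P) = 1)) := by
    intro e f hef
    simp only [decide_eq_decide] at hef
    apply Subtype.ext
    apply Subtype.ext
    by_cases he : ((e : E) : P) = 1
    · rw [he, hef.mp he]
    · have hf : ¬ ((f : E) : P) = 1 := fun h => he (hef.mpr h)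
      rw [hall _ (e : E).2 ((hker _).mp e.2) he, hall _ (f : E).2 ((hker _).mp f.2) hf]
  have := Nat.card_le_card_of_injective _ hinj
  have h2 : Nat.card Bool = 2 := by rw [Nat.card_eq_fintype_card, Fintype.card_bool]
  omega

/-- If a finite 2-group has a normal elementary abelian subgroup of order at least 8, then any two of its Klein
four-subgroups are joined by a chain of Klein four-subgroups with consecutive members commuting elementwise. -/
theorem result {P : Type*} [Group P] [Finite P] (hP : IsPGroup 2 P)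
    (E : Subgroup P) [E.Normal] (hE : IsMulCommutative E) (hE2 : ∀ e ∈ E, e ^ 2 = 1) (hE8 : 8 ≤ Nat.card E) :
    Cfsg.IsFourConnected P := by
  classical
  haveI : Fact (Nat.Prime 2) := ⟨Nat.prime_two⟩
  haveI : Group.IsNilpotent P := hP.isNilpotent
  have hEne : E ≠ ⊥ := by
    rintro rfl
    rw [Subgroup.card_bot] at hE8
    omega
  obtain ⟨u, huE, huZ, hu1⟩ : ∃ u ∈ E, u ∈ Subgroup.center P ∧ u ≠ 1 := by
    have h1 := inf_center_ne_bot E hEne
    by_contra hall
    push Not at hall
    apply h1
    rw [eq_bot_iff]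
    rintro x ⟨hxE, hxZ⟩
    exact Subgroup.mem_bot.mpr (hall x hxE hxZ)
  have huu : u * u = 1 := by rw [← pow_two]; exact hE2 u huE
  have huc : ∀ g : P, u * g = g * u := fun g => (Subgroup.mem_center_iff.mp huZ g).symm
  have key : ∀ V : Subgroup P, IsKleinFour V → ∃ W : Subgroup P, W ≤ E ∧ IsKleinFour W ∧
      Relation.ReflTransGen
        (fun A B : Subgroup P => IsKleinFour A ∧ IsKleinFour B ∧ ∀ a ∈ A, ∀ b ∈ B, a * b = b * a)
        V W := by
    intro V hV
    have hVe := sq_of_isKleinFour V hV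
    have hV4 := hV.card_four
    by_cases huV : u ∈ V
    · obtain ⟨w, hwV, hw1, hwu⟩ : ∃ w ∈ V, w ≠ 1 ∧ w ≠ u := by
        by_contra hall
        push Not at hall
        have hle : V ≤ Subgroup.zpowers u := by
          intro v hv
          by_cases hv1 : v = 1
          · rw [hv1]; exact Subgroup.one_mem _
          · rw [hall v hv hv1]; exact Subgroup.mem_zpowers u
        have h1 := Subgroup.card_le_of_le hle
        rw [Nat.card_zpowers, hV4] at h1
        have h2 : orderOf u ≤ 2 := orderOf_le_of_pow_eq_one (by norm_num) (hE2 u huE)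
        omega
      have hww : w * w = 1 := by rw [← pow_two]; exact hVe w hwV
      obtain ⟨e, heE, hew, he1, heu⟩ := exists_fixed hP E hE2 hE8 w hww u
      have hee : e * e = 1 := by rw [← pow_two]; exact hE2 e heE
      have hVeq : fourOf u w huu hww (huc w) = V := by
        apply Subgroup.eq_of_le_of_card_ge (fourOf_le _ _ _ _ _ V huV hwV)
        rw [hV4, card_fourOf u w huu hww (huc w) hu1 hw1 (Ne.symm hwu)]
      have hW : IsKleinFour (fourOf u e huu hee (huc e)) :=
        isKleinFour_of _ (card_fourOf _ _ _ _ _ hu1 he1 (Ne.symm heu))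
          (sq_eq_one_of_mem_fourOf _ _ _ _ _)
      refine ⟨fourOf u e huu hee (huc e), fourOf_le _ _ _ _ _ E huE heE, hW, ?_⟩
      apply Relation.ReflTransGen.single
      refine ⟨hV, hW, ?_⟩
      rw [← hVeq]
      exact fourOf_commute u w u e huu hww (huc w) huu hee (huc e) rfl (huc e) (huc w).symm
        hew.symm
    · obtain ⟨v, hvV, hv1⟩ : ∃ v ∈ V, v ≠ 1 := by
        by_contra hall
        push Not at hall
        have : V = ⊥ := (Subgroup.eq_bot_iff_forall V).mpr hall
        rw [this, Subgroup.card_bot] at hV4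
        omega
      have hvv : v * v = 1 := by rw [← pow_two]; exact hVe v hvV
      have hvu : v ≠ u := fun h => huV (h ▸ hvV)
      obtain ⟨e, heE, hev, he1, heu⟩ := exists_fixed hP E hE2 hE8 v hvv u
      have hee : e * e = 1 := by rw [← pow_two]; exact hE2 e heE
      have hW₁ : IsKleinFour (fourOf u v huu hvv (huc v)) :=
        isKleinFour_of _ (card_fourOf _ _ _ _ _ hu1 hv1 (Ne.symm hvu))
          (sq_eq_one_of_mem_fourOf _ _ _ _ _)
      have hW₂ : IsKleinFour (fourOf u e huu hee (huc e)) :=
        isKleinFour_of _ (card_fourOf _ _ _ _ _ hu1 he1 (Ne.symm heu))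
          (sq_eq_one_of_mem_fourOf _ _ _ _ _)
      refine ⟨fourOf u e huu hee (huc e), fourOf_le _ _ _ _ _ E huE heE, hW₂, ?_⟩
      apply Relation.ReflTransGen.trans
        (Relation.ReflTransGen.single (b := fourOf u v huu hvv (huc v)) ?_)
        (Relation.ReflTransGen.single ?_)
      · refine ⟨hV, hW₁, ?_⟩
        have h3 : fourOf u v huu hvv (huc v) ≤ Subgroup.centralizer (V : Set P) := by
          apply fourOf_le <;> rw [Subgroup.mem_centralizer_iff] <;> intro h hh
          · exact (huc h).symm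
          · exact commute_of_sq_eq_one V hVe hh hvV
        intro a ha b hb
        exact (Subgroup.mem_centralizer_iff.mp (h3 hb)) a ha
      · exact ⟨hW₁, hW₂, fourOf_commute u v u e huu hvv (huc v) huu hee (huc e) rfl (huc e)
          (huc v).symm hev.symm⟩
  intro U V hU hV
  obtain ⟨WU, hWUE, hWU4, hRU⟩ := key U hU
  obtain ⟨WV, hWVE, hWV4, hRV⟩ := key V hV
  have hrev : ∀ A B : Subgroup P, Relation.ReflTransGen
      (fun A B : Subgroup P => IsKleinFour A ∧ IsKleinFour B ∧ ∀ a ∈ A, ∀ b ∈ B, a * b = b * a)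
      A B → Relation.ReflTransGen
      (fun A B : Subgroup P => IsKleinFour A ∧ IsKleinFour B ∧ ∀ a ∈ A, ∀ b ∈ B, a * b = b * a)
      B A := by
    intro A B h
    induction h with
    | refl => exact Relation.ReflTransGen.refl
    | tail _ hbc ih =>
      exact Relation.ReflTransGen.head
        ⟨hbc.2.1, hbc.1, fun b hb a ha => (hbc.2.2 a ha b hb).symm⟩ ih
  have hRV' := hrev _ _ hRV
  refine hRU.trans (Relation.ReflTransGen.head ?_ hRV')
  exact ⟨hWU4, hWV4, fun a ha b hb => commute_of_sq_eq_one E hE2 (hWUE ha) (hWVE hb)⟩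

end Cfsg.Agent.S0502
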