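import Mathlib
-- Template for statement S1292 (row 1292; see /opt/grader/pristine/manifest.json for weights).
-- Copy to Cfsg/Agent/S1292.lean and replace the sorry. The statement below is byte-identical to the frozen
-- statement Cfsg.CfsgFrozen.S1292 (Cfsg/Statements/S1292.lean; the theorem Cfsg.two_locals_char_two_of_involution_centralizers);
-- the grader kernel-checks Cfsg.Agent.S1292.result against that frozen type. Keep the theorem IN THIS FILE
-- (a `result` declared elsewhere and merely imported here is not credited); helpers may live anywhere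
-- under Cfsg/Agent/.
import Cfsg.Statements.S1292
import Cfsg.Agent.Lib.Helper3.CharP4

set_option autoImplicit false
open Cfsg
open Cfsg.Agent.Lib.Helper3 Cfsg.Agent.Lib.Lead

namespace Cfsg.Agent.S1292

/-- Let G be a finite group such that F*(C_G(t)) = O_2(C_G(t)) for every involution t. Then F*(N_G(T)) = O_2(N_G(T)) for every nontrivial 2-subgroup T of G. -/
theorem result {G : Type*} [Group G] [Finite G] (h : ∀ t : G, orderOf t = 2 → Cfsg.generalizedFittingSubgroup ↥(Subgroup.centralizer ({t} : Set G)) = Cfsg.pCore 2 ↥(Subgroup.centralizer ({t} : Set G))) (T : Subgroup G) (hT : IsPGroup 2 ↥T) (hT1 : T ≠ ⊥) : Cfsg.generalizedFittingSubgroup ↥(Subgroup.normalizer (T : Set G)) = Cfsg.pCore 2 ↥(Subgroup.normalizer (T : Set G)) := by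
  have : Fact (Nat.Prime 2) := ⟨Nat.prime_two⟩
  -- an involution in the centre of `T`
  have hTn : Nontrivial T := (Subgroup.nontrivial_iff_ne_bot T).mpr hT1
  have hZn : Nontrivial (Subgroup.center T) := hT.center_nontrivial
  have hZ2 : IsPGroup 2 (Subgroup.center T) := hT.to_subgroup _
  have hdvd : 2 ∣ Nat.card (Subgroup.center T) := by
    obtain ⟨k, hk⟩ := IsPGroup.iff_card.mp hZ2
    have hk0 : k ≠ 0 := by
      rintro rfl
      have : Nat.card (Subgroup.center T) = 1 := by simpa using hk
      have := (Nat.card_eq_one_iff_unique.mp this).1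
      exact not_subsingleton _ this
    rw [hk]
    exact dvd_pow_self 2 hk0
  obtain ⟨z, hz⟩ := exists_prime_orderOf_dvd_card' 2 hdvd
  set t : G := ((z : T) : G) with ht
  have ht2 : orderOf t = 2 := by
    rw [ht, Subgroup.orderOf_coe, Subgroup.orderOf_coe]; exact hz
  have htT : t ∈ T := (z : T).2
  have hTX : T ≤ Subgroup.centralizer ({t} : Set G) := by
    intro x hx
    rw [Subgroup.mem_centralizer_iff]
    intro y hy
    rw [Set.mem_singleton_iff] at hy
    subst hy
    have := Subgroup.mem_center_iff.mp z.2 ⟨x, hx⟩
    have := congrArg Subtype.val this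
    simpa [ht] using this.symm
  have hX : IsPGroup 2 (Cfsg.generalizedFittingSubgroup (Subgroup.centralizer ({t} : Set G))) := by
    rw [h t ht2]; exact pCore_isPGroup 2
  have hY := isPGroup_generalizedFittingSubgroup_subgroupOf_normalizer hTX hT hX
  apply generalizedFittingSubgroup_eq_pCore_of_centralizer_le _ _ hY
  intro n hn
  rw [Subgroup.mem_subgroupOf, Subgroup.mem_centralizer_iff]
  intro y hy
  rw [Set.mem_singleton_iff] at hy
  subst hy
  have htO : (⟨t, Subgroup.le_normalizer htT⟩ : Subgroup.normalizer (T : Set G)) ∈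
      Cfsg.pCore 2 (Subgroup.normalizer (T : Set G)) := by
    have h1 : (T.subgroupOf (Subgroup.normalizer (T : Set G))).Normal :=
      Subgroup.normal_subgroupOf_of_le_normalizer le_rfl
    exact le_pCore h1 hT.comap_subtype htT
  have := Subgroup.mem_centralizer_iff.mp hn _ htO
  exact congrArg Subtype.val this

end Cfsg.Agent.S1292
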