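import Cfsg.Statements.S0505
import Cfsg.Agent.S1292
import Cfsg.Agent.Lib.Helper3.PComp8
import Cfsg.Agent.Lib.Helper3.Components5
import Cfsg.Agent.Lib.Helper3.Components7

set_option autoImplicit false
open Cfsg

namespace Cfsg.Agent.S0505

open Cfsg.Agent.Lib.Helper3

/-- Let G be a finite group of even order in which the centralizer of every involution is solvable and has trivial
core (no nontrivial normal subgroup of odd order). Then G is of characteristic 2 type. -/
theorem result {G : Type*} [Group G] [Finite G]
    (h2 : Even (Nat.card G))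
    (hs : ∀ t : G, orderOf t = 2 → Group.IsSolvable (Subgroup.centralizer ({t} : Set G)))
    (hc : ∀ t : G, orderOf t = 2 → Cfsg.oddCore (Subgroup.centralizer ({t} : Set G)) = ⊥) :
    Cfsg.IsCharacteristicTwoType G := by
  haveI : Fact (Nat.Prime 2) := ⟨Nat.prime_two⟩
  refine ⟨h2, ?_⟩
  intro T hT hT1
  have h : ∀ t : G, orderOf t = 2 →
      Cfsg.generalizedFittingSubgroup ↥(Subgroup.centralizer ({t} : Set G)) =
        Cfsg.pCore 2 ↥(Subgroup.centralizer ({t} : Set G)) := by
    intro t ht
    haveI := hs t ht
    apply generalizedFittingSubgroup_eq_pCore_of_pPrimeCore_eq_bot (hc t ht)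
    apply layer_eq_bot_of_le_isSolvable (H := ⊤) _ le_top
    exact Group.isSolvable_of_isSolvable_injective (Subgroup.subtype_injective ⊤)
  have h3 := Cfsg.Agent.S1292.result h T hT hT1
  unfold Cfsg.IsOfCharacteristicTwo
  rw [← h3]
  exact centralizer_generalizedFittingSubgroup_le

end Cfsg.Agent.S0505
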