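import Cfsg.Statements.S0519
import Cfsg.Agent.Lib.Helper1.NoNormalFour3
import Cfsg.Agent.Lib.Helper1.ElemEight
import Cfsg.Agent.Lib.Helper1.DihedralIso
import Cfsg.Agent.Lib.Lead.CyclicMaxTwo
import Cfsg.Agent.Lib.Lead.NormalRankTwo

set_option autoImplicit false
open Cfsg

namespace Cfsg.Agent.S0519

open Cfsg.Agent.Lib.Helper1 Cfsg.Agent.Lib.Lead

/-- Let P be a finite p-group in which every abelian normal subgroup is cyclic, but which has a non-cyclic abelian
subgroup. Then p = 2 and P is generalized quaternion, dihedral of order at least 16, or quasi-dihedral. -/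
theorem result {P : Type*} [Group P] [Finite P] (p : ℕ) [Fact p.Prime]
    (hP : IsPGroup p P) (hn : ∀ A : Subgroup P, A.Normal → IsMulCommutative A → IsCyclic A)
    (hm : ∃ B : Subgroup P, IsMulCommutative B ∧ ¬ IsCyclic B) :
    p = 2 ∧ ((∃ n : ℕ, Nonempty (P ≃* QuaternionGroup n)) ∨ (∃ n : ℕ, 8 ≤ n ∧ Nonempty (P ≃* DihedralGroup n)) ∨
      Cfsg.IsQuasiDihedral P) := by
  classical
  obtain ⟨B, hBc, hBnc⟩ := hm
  have hPnc : ¬ IsCyclic P := fun h => hBnc inferInstance
  have hp2 : p = 2 := by
    by_contra hp2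
    obtain ⟨W, hWn, hWc, hWe, hW⟩ := exists_normal_elementary_sq hp2 hP hPnc
    have hcyc := hn W hWn hWc
    obtain ⟨g, hg⟩ := IsCyclic.exists_generator (α := W)
    have h1 : orderOf g = p ^ 2 := by rw [orderOf_eq_card_of_forall_mem_zpowers hg, hW]
    have h2 : g ^ p = 1 := Subtype.ext (by simpa using hWe g g.2)
    have h3 := orderOf_dvd_of_pow_eq_one h2
    rw [h1] at h3
    have hpp : p.Prime := Fact.out
    have h4 := Nat.le_of_dvd hpp.pos h3
    have h5 := hpp.one_lt
    nlinarith
  subst hp2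
  refine ⟨rfl, ?_⟩
  have hnoV : ∀ V : Subgroup P, V.Normal → Nat.card V = 4 → (∀ v ∈ V, v ^ 2 = 1) → False := by
    intro V hVn hV4 hVe
    have hVc : IsMulCommutative V :=
      ⟨⟨fun a b => Subtype.ext (commute_of_sq_eq_one V hVe a.2 b.2)⟩⟩
    have hcyc := hn V hVn hVc
    obtain ⟨g, hg⟩ := IsCyclic.exists_generator (α := V)
    have h1 : orderOf g = 4 := by rw [orderOf_eq_card_of_forall_mem_zpowers hg, hV4]
    have h2 : g ^ 2 = 1 := Subtype.ext (by simpa using hVe g g.2)
    have h3 := orderOf_dvd_of_pow_eq_one h2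
    rw [h1] at h3
    omega
  obtain ⟨A, hAn, hAcyc, hAi, hCA⟩ := exists_cyclic_index_le_two hP hnoV
  have hna : ∃ x y : P, x * y ≠ y * x := by
    by_contra hall
    push Not at hall
    have htop : IsMulCommutative (⊤ : Subgroup P) := ⟨⟨fun a b => Subtype.ext (hall a b)⟩⟩
    have hc := hn ⊤ inferInstance htop
    apply hPnc
    exact isCyclic_of_surjective (Subgroup.topEquiv : (⊤ : Subgroup P) ≃* P)
      Subgroup.topEquiv.surjective
  have hAi2 : A.index = 2 := by
    have h0 : A.index ≠ 0 := Subgroup.index_ne_zero_of_finite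
    have h1 : A.index ≠ 1 := by
      intro h
      rw [Subgroup.index_eq_one] at h
      apply hPnc
      subst h
      exact isCyclic_of_surjective (Subgroup.topEquiv : (⊤ : Subgroup P) ≃* P)
        Subgroup.topEquiv.surjective
    omega
  obtain ⟨n, hn'⟩ := IsPGroup.iff_card.mp hP
  have hn3 : 3 ≤ n := by
    by_contra hlt
    push Not at hlt
    obtain ⟨x, y, hxy⟩ := hna
    apply hxy
    interval_cases n
    · have : Subsingleton P := (Nat.card_eq_one_iff_unique.mp (by simpa using hn')).1
      exact Subsingleton.elim _ _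
    · have hc : IsCyclic P := isCyclic_of_prime_card (p := 2) (by simpa using hn')
      exact absurd hc hPnc
    · exact (IsPGroup.isMulCommutative_of_card_eq_prime_sq (p := 2) hn').is_comm.comm x y
  obtain ⟨a, b, hao, hbA, hcases⟩ :=
    exists_generators_of_cyclic_maximal_two n hn3 hn' A hAcyc hAi2 hna
  have hidx : (Subgroup.zpowers a).index = 2 := by
    have h1 := (Subgroup.zpowers a).card_mul_index
    rw [Nat.card_zpowers, hao, hn'] at h1
    have h2 : 2 ^ n = 2 ^ (n - 1) * 2 := by rw [← pow_succ]; congr 1; omega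
    rw [h2] at h1
    exact Nat.eq_of_mul_eq_mul_left (by positivity) h1
  have hb1 : b ≠ 1 := fun h => hbA (h ▸ Subgroup.one_mem _)
  set z := a ^ (2 ^ (n - 2)) with hz
  have hapow : a ^ (2 ^ (n - 1)) = 1 := by rw [← hao]; exact pow_orderOf_eq_one a
  have hzz : z * z = 1 := by
    rw [hz, ← pow_add, ← two_mul, ← pow_succ']
    have : n - 2 + 1 = n - 1 := by omega
    rw [this, hapow]
  have hzinv : z⁻¹ = z := inv_eq_of_mul_eq_one_left hzz
  have hz1 : z ≠ 1 := by
    intro h
    have h1 := orderOf_dvd_of_pow_eq_one h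
    rw [hao] at h1
    have h2 := Nat.le_of_dvd (by positivity) h1
    have h3 : 2 ^ (n - 2) < 2 ^ (n - 1) := Nat.pow_lt_pow_right (by norm_num) (by omega)
    omega
  have hza : z ∈ Subgroup.zpowers a := Subgroup.pow_mem _ (Subgroup.mem_zpowers a) _
  have hzb_ne : z ≠ b := fun h => hbA (h ▸ hza)
  have hexcl : b * b = 1 → z * b = b * z → a * b * a⁻¹ = z * b → False := by
    intro hbb hzb hab
    have hN := fourOf_normal_of_index_two a b z hidx hbA hbb hzz hza hzb hab
    exact hnoV _ hN (card_fourOf z b hzz hbb hzb hz1 hb1 hzb_ne)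
      (sq_eq_one_of_mem_fourOf z b hzz hbb hzb)
  have hcomm_of : b * z * b⁻¹ = z → z * b = b * z := by
    intro h
    calc z * b = (b * z * b⁻¹) * b := by rw [h]
      _ = b * z := by group
  rcases hcases with ⟨hb2, hba⟩ | ⟨hb2, hba⟩ | ⟨hn4, hb2, hba⟩ | ⟨hn4, hb2, hba⟩
  · -- dihedral
    right; left
    have hbb : b * b = 1 := by rw [← pow_two]; exact hb2
    have hn4 : 4 ≤ n := by
      by_contra hlt
      have hn3' : n = 3 := by omega
      subst hn3'
      apply hexcl hbb
      · apply hcomm_of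
        rw [hz, ← conj_pow, hba, inv_pow, ← hz, hzinv]
      · have h1 : a * b * a⁻¹ = a * (b * a * b⁻¹)⁻¹ * b := by group
        rw [h1, hba, inv_inv, hz]
        norm_num
        rw [pow_two]
    have hbo : orderOf b = 2 := orderOf_eq_prime hb2 hb1
    have hba1 : b * a ≠ 1 := by
      intro h
      apply hbA
      have : b = a⁻¹ := eq_inv_of_mul_eq_one_left h
      rw [this]
      exact Subgroup.inv_mem _ (Subgroup.mem_zpowers a)
    have hba2 : (b * a) ^ 2 = 1 := by
      have h1 : (b * a) ^ 2 = (b * a * b⁻¹) * (b * b) * a := by rw [pow_two]; group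
      rw [h1, hba, hbb]; group
    have hbao : orderOf (b * a) = 2 := orderOf_eq_prime hba2 hba1
    have hprod : b * (b * a) = a := by rw [← mul_assoc, hbb, one_mul]
    have hne : orderOf (b * (b * a)) ≠ 0 := by
      rw [hprod, hao]; positivity
    obtain ⟨φ⟩ := DihedralIso.closure_equiv_dihedral b (b * a) hbo hbao hne
    have htop : Subgroup.closure ({b, b * a} : Set P) = ⊤ := by
      apply eq_top_of_index_two_of_mem (Subgroup.zpowers a) _ hidx _ b
        (Subgroup.subset_closure (by simp)) hbA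
      rw [Subgroup.zpowers_le]
      have h1 : a = b⁻¹ * (b * a) := by group
      rw [h1]
      exact Subgroup.mul_mem _ (Subgroup.inv_mem _ (Subgroup.subset_closure (by simp)))
        (Subgroup.subset_closure (by simp))
    refine ⟨orderOf (b * (b * a)), ?_, ⟨?_⟩⟩
    · rw [hprod, hao]
      have : 2 ^ 3 ≤ 2 ^ (n - 1) := Nat.pow_le_pow_right (by norm_num) (by omega)
      omega
    · exact (Subgroup.topEquiv.symm.trans (MulEquiv.subgroupCongr htop.symm)).trans φ
  · -- quaternion
    left
    haveI : NeZero (2 ^ (n - 2)) := ⟨by positivity⟩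
    refine ⟨2 ^ (n - 2), ?_⟩
    apply quaternion_recognition (2 ^ (n - 2)) a b _ hb2 hba hbA
    · rw [hn']
      have : n = 2 + (n - 2) := by omega
      conv_lhs => rw [this, pow_add]
      norm_num
    · rw [hao, ← pow_succ']
      congr 1; omega
  · -- modular: impossible
    exfalso
    have hbb : b * b = 1 := by rw [← pow_two]; exact hb2
    apply hexcl hbb
    · apply hcomm_of
      rw [hz, ← conj_pow, hba, ← pow_mul, add_mul, one_mul, pow_add, ← hz]
      have h1 : 2 ^ (n - 2) * 2 ^ (n - 2) = 2 ^ (n - 1) * 2 ^ (n - 3) := by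
        rw [← pow_add, ← pow_add]; congr 1; omega
      rw [h1, pow_mul, hapow, one_pow, mul_one]
    · have h1 : a * b * a⁻¹ = a * (b * a * b⁻¹)⁻¹ * b := by group
      rw [h1, hba, add_comm, pow_succ, mul_inv_rev, mul_inv_cancel_left, ← hz, hzinv]
  · -- quasi-dihedral
    right; right
    refine ⟨n - 1, by omega, ?_, a, b, hao, orderOf_eq_prime hb2 hb1, ?_⟩
    · rw [hn']; congr 1; omega
    · rw [hba]
      have : n - 1 - 1 = n - 2 := by omega
      rw [this]

end Cfsg.Agent.S0519
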