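import Cfsg.Statements.S0520
import Cfsg.Agent.Lib.Helper1.Conj
import Cfsg.Agent.Lib.Helper1.NoNormalFour
import Cfsg.Agent.Lib.Helper1.ElemEight
import Cfsg.Agent.S0502

set_option autoImplicit false
open Cfsg

namespace Cfsg.Agent.S0520

open Cfsg.Agent.Lib.Helper1

variable {G : Type*} [Group G]

theorem kf_iff (U : Subgroup G) : IsKleinFour U ↔ Nat.card U = 4 ∧ ∀ u ∈ U, u ^ 2 = 1 :=
  ⟨fun h => ⟨h.card_four, Cfsg.Agent.S0502.sq_of_isKleinFour U h⟩,
    fun h => Cfsg.Agent.S0502.isKleinFour_of U h.1 h.2⟩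

theorem kf_cj (g : G) {U : Subgroup G} (h : IsKleinFour U) : IsKleinFour (cj g U) := by
  rw [kf_iff] at h ⊢
  refine ⟨by rw [card_cj]; exact h.1, ?_⟩
  intro x hx
  rw [mem_cj] at hx
  have h1 := h.2 _ hx
  have h2 : x ^ 2 = g * (g⁻¹ * x * g) ^ 2 * g⁻¹ := by
    rw [pow_two, pow_two]; group
  rw [h2, h1]; group

/-- adjacency of four-subgroups -/
def adj (A B : Subgroup G) : Prop :=
  IsKleinFour A ∧ IsKleinFour B ∧ ∀ a ∈ A, ∀ b ∈ B, a * b = b * a

theorem adj_symm {A B : Subgroup G} (h : adj A B) : adj B A :=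
  ⟨h.2.1, h.1, fun b hb a ha => (h.2.2 a ha b hb).symm⟩

theorem adj_cj (g : G) {A B : Subgroup G} (h : adj A B) : adj (cj g A) (cj g B) := by
  refine ⟨kf_cj g h.1, kf_cj g h.2.1, ?_⟩
  intro a ha b hb
  rw [mem_cj] at ha hb
  have h1 := h.2.2 _ ha _ hb
  have e1 : a * b = g * ((g⁻¹ * a * g) * (g⁻¹ * b * g)) * g⁻¹ := by group
  have e2 : b * a = g * ((g⁻¹ * b * g) * (g⁻¹ * a * g)) * g⁻¹ := by group
  rw [e1, e2, h1]

/-- connectedness relation -/
def conn (A B : Subgroup G) : Prop := Relation.ReflTransGen adj A B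

theorem conn_symm {A B : Subgroup G} (h : conn A B) : conn B A := by
  unfold conn at h ⊢
  induction h with
  | refl => exact Relation.ReflTransGen.refl
  | tail _ hbc ih => exact Relation.ReflTransGen.head (adj_symm hbc) ih

theorem conn_trans {A B C : Subgroup G} (h1 : conn A B) (h2 : conn B C) : conn A C :=
  Relation.ReflTransGen.trans h1 h2

theorem conn_cj (g : G) {A B : Subgroup G} (h : conn A B) : conn (cj g A) (cj g B) :=
  Relation.ReflTransGen.lift (cj g) (fun _ _ hab => adj_cj g hab) _ _ h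

theorem fourConnected_iff : Cfsg.IsFourConnected G ↔
    ∀ U V : Subgroup G, IsKleinFour U → IsKleinFour V → conn U V := Iff.rfl

/-- chains in a subgroup give chains in the group. -/
theorem conn_of_le (S : Subgroup G) (hS : Cfsg.IsFourConnected S) {U V : Subgroup G}
    (hUS : U ≤ S) (hVS : V ≤ S) (hU : IsKleinFour U) (hV : IsKleinFour V) : conn U V := by
  have kfsub : ∀ W : Subgroup G, W ≤ S → IsKleinFour W → IsKleinFour (W.subgroupOf S) := by
    intro W hWS hW
    rw [kf_iff] at hW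
    apply Cfsg.Agent.S0502.isKleinFour_of
    · rw [Nat.card_congr (Subgroup.subgroupOfEquivOfLe hWS).toEquiv]; exact hW.1
    · intro v hv
      rw [Subgroup.mem_subgroupOf] at hv
      apply Subtype.ext
      simpa using hW.2 _ hv
  have kfmap : ∀ A : Subgroup S, IsKleinFour A → IsKleinFour (A.map S.subtype) := by
    intro A hA
    have h1 := hA.card_four
    have h2 := Cfsg.Agent.S0502.sq_of_isKleinFour A hA
    rw [kf_iff]
    refine ⟨by rw [Subgroup.card_map_of_injective S.subtype_injective]; exact h1, ?_⟩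
    rintro _ ⟨a, ha, rfl⟩
    have := congrArg Subtype.val (h2 a ha)
    simpa using this
  have h := hS (U.subgroupOf S) (V.subgroupOf S) (kfsub U hUS hU) (kfsub V hVS hV)
  have h' : conn ((U.subgroupOf S).map S.subtype) ((V.subgroupOf S).map S.subtype) := by
    refine Relation.ReflTransGen.lift (fun A : Subgroup S => A.map S.subtype) ?_ _ _ h
    intro A B hAB
    refine ⟨kfmap A hAB.1, kfmap B hAB.2.1, ?_⟩
    rintro _ ⟨a, ha, rfl⟩ _ ⟨b, hb, rfl⟩
    have := congrArg Subtype.val (hAB.2.2 a ha b hb)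
    simpa using this
  rwa [Subgroup.map_subgroupOf_eq_of_le hUS, Subgroup.map_subgroupOf_eq_of_le hVS] at h'

theorem exists_four_of_card [Finite G] (A' : Subgroup G) (hA'2 : ∀ x ∈ A', x ^ 2 = 1)
    (hA'card : 2 < Nat.card A') : ∃ U : Subgroup G, U ≤ A' ∧ IsKleinFour U := by
  have hex1 : ∃ a ∈ A', a ≠ 1 := by
    by_contra hcon
    push Not at hcon
    have : A' = ⊥ := by
      rw [eq_bot_iff]; intro x hx; rw [Subgroup.mem_bot]; exact hcon x hx
    rw [this, Subgroup.card_bot] at hA'card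
    omega
  obtain ⟨a, haA, ha1⟩ := hex1
  have hex2 : ∃ b ∈ A', b ≠ 1 ∧ b ≠ a := by
    by_contra hcon
    push Not at hcon
    have hsub : (A' : Set G) ⊆ ({1, a} : Set G) := by
      intro x hx
      by_cases hx1 : x = 1
      · left; exact hx1
      · right; exact hcon x hx hx1
    have h1 : Nat.card A' ≤ Nat.card ({1, a} : Set G) :=
      Nat.card_mono (Set.toFinite _) hsub
    have h2 : Nat.card ({1, a} : Set G) ≤ 2 := by
      rw [Nat.card_coe_set_eq]
      exact (Set.ncard_insert_le 1 {a}).trans (by rw [Set.ncard_singleton])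
    omega
  obtain ⟨b, hbA, hb1, hba⟩ := hex2
  have haa : a * a = 1 := by rw [← pow_two]; exact hA'2 a haA
  have hbb : b * b = 1 := by rw [← pow_two]; exact hA'2 b hbA
  have hab : a * b = b * a := commute_of_sq_eq_one A' hA'2 haA hbA
  refine ⟨fourOf a b haa hbb hab, ?_, ?_⟩
  · exact Cfsg.Agent.S0502.fourOf_le a b haa hbb hab A' haA hbA
  · rw [kf_iff]
    exact ⟨card_fourOf a b haa hbb hab ha1 hb1 (fun h => hba h.symm),
      sq_eq_one_of_mem_fourOf a b haa hbb hab⟩

/-- rank at least two means containing a four-subgroup. -/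
theorem rank2_iff [Finite G] (Q : Subgroup G) :
    ¬ Cfsg.PRankLE 2 1 Q ↔ ∃ U : Subgroup G, U ≤ Q ∧ IsKleinFour U := by
  constructor
  · intro h
    unfold Cfsg.PRankLE at h
    push Not at h
    obtain ⟨A, hAc, hA2, hAcard⟩ := h
    set A' : Subgroup G := A.map Q.subtype with hA'
    have hA'Q : A' ≤ Q := by
      rintro _ ⟨a, _, rfl⟩
      exact a.2
    have hA'card : 2 < Nat.card A' := by
      rw [hA', Subgroup.card_map_of_injective Q.subtype_injective]
      simpa using hAcard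
    have hA'2 : ∀ x ∈ A', x ^ 2 = 1 := by
      rintro _ ⟨a, ha, rfl⟩
      have := congrArg Subtype.val (hA2 a ha)
      simpa using this
    obtain ⟨U, hUA, hU⟩ := exists_four_of_card A' hA'2 hA'card
    exact ⟨U, hUA.trans hA'Q, hU⟩
  · rintro ⟨U, hUQ, hU⟩ hrank
    rw [kf_iff] at hU
    have hc : IsMulCommutative (U.subgroupOf Q) := by
      refine ⟨⟨fun x y => ?_⟩⟩
      apply Subtype.ext
      apply Subtype.ext
      exact commute_of_sq_eq_one U hU.2 (Subgroup.mem_subgroupOf.mp x.2)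
        (Subgroup.mem_subgroupOf.mp y.2)
    have h2 : ∀ x ∈ U.subgroupOf Q, x ^ 2 = 1 := by
      intro x hx
      rw [Subgroup.mem_subgroupOf] at hx
      apply Subtype.ext
      simpa using hU.2 _ hx
    have := hrank (U.subgroupOf Q) hc h2
    rw [Nat.card_congr (Subgroup.subgroupOfEquivOfLe hUQ).toEquiv, hU.1] at this
    omega


/-- the two-generated core -/
def core2 (S : Subgroup G) : Subgroup G :=
  ⨆ Q : {Q : Subgroup G // Q ≤ S ∧ ¬ Cfsg.PRankLE 2 1 Q},
    Subgroup.normalizer ((Q : Subgroup G) : Set G)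

theorem normalizer_le_core2 [Finite G] (S Q U : Subgroup G) (hQS : Q ≤ S) (hUQ : U ≤ Q)
    (hU : IsKleinFour U) : Subgroup.normalizer (Q : Set G) ≤ core2 S :=
  le_iSup (fun Q : {Q : Subgroup G // Q ≤ S ∧ ¬ Cfsg.PRankLE 2 1 Q} =>
    Subgroup.normalizer ((Q : Subgroup G) : Set G)) ⟨Q, hQS, (rank2_iff Q).mpr ⟨U, hUQ, hU⟩⟩

theorem le_core2 [Finite G] (S U : Subgroup G) (hUS : U ≤ S) (hU : IsKleinFour U) :
    S ≤ core2 S :=
  Subgroup.le_normalizer.trans (normalizer_le_core2 S S U le_rfl hUS hU)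

theorem normalizer_le_core2' [Finite G] (S D U : Subgroup G) (γ : G) (hγ : γ ∈ core2 S)
    (hDS : D ≤ cj γ S) (hUD : U ≤ D) (hU : IsKleinFour U) :
    Subgroup.normalizer (D : Set G) ≤ core2 S := by
  intro n hn
  have hD0 : cj γ⁻¹ D ≤ S := by
    have := cj_mono γ⁻¹ hDS
    rwa [cj_cj, inv_mul_cancel, cj_one] at this
  have h1 := normalizer_le_core2 S (cj γ⁻¹ D) (cj γ⁻¹ U) hD0 (cj_mono _ hUD) (kf_cj _ hU)
  have h2 : γ⁻¹ * n * γ⁻¹⁻¹ ∈ Subgroup.normalizer ((cj γ⁻¹ D : Subgroup G) : Set G) :=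
    conj_mem_normalizer_cj γ⁻¹ hn
  have h3 := h1 h2
  have : n = γ * (γ⁻¹ * n * γ⁻¹⁻¹) * γ⁻¹ := by group
  rw [this]
  exact (core2 S).mul_mem ((core2 S).mul_mem hγ h3) ((core2 S).inv_mem hγ)

theorem exists_cj_of_le [Finite G] (S : Sylow 2 G) (Γ : Subgroup G)
    (hSΓ : (S : Subgroup G) ≤ Γ) (Y : Subgroup G) (hY : IsPGroup 2 Y) (hYΓ : Y ≤ Γ) :
    ∃ γ ∈ Γ, Y ≤ cj γ (S : Subgroup G) := by
  haveI : Fact (Nat.Prime 2) := ⟨Nat.prime_two⟩
  obtain ⟨h, hh, hle⟩ := exists_cj_le_sylow' Γ (S.subtype hSΓ) Y hY hYΓ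
  refine ⟨h, hh, ?_⟩
  have e : ((S.subtype hSΓ : Sylow 2 Γ) : Subgroup Γ).map Γ.subtype = S := by
    rw [Sylow.coe_subtype]
    exact Subgroup.map_subgroupOf_eq_of_le hSΓ
  rw [e] at hle
  have := cj_mono h hle
  rwa [cj_cj, mul_inv_cancel, cj_one] at this

theorem exists_normalizing [Finite G] (T D : Subgroup G) (hT : IsPGroup 2 T) (hDT : D ≤ T)
    (hne : ¬ T ≤ D) : ∃ t ∈ T, t ∉ D ∧ t ∈ Subgroup.normalizer (D : Set G) := by
  haveI : Fact (Nat.Prime 2) := ⟨Nat.prime_two⟩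
  haveI : Group.IsNilpotent T := hT.isNilpotent
  have hlt : D.subgroupOf T < ⊤ := by
    rw [lt_top_iff_ne_top]
    intro h
    exact hne (Subgroup.subgroupOf_eq_top.mp h)
  have h1 := Group.normalizerCondition_of_isNilpotent (G := T) (D.subgroupOf T) hlt
  obtain ⟨t', ht'n, ht'D⟩ := SetLike.exists_of_lt h1
  refine ⟨t'.1, t'.2, fun h => ht'D (Subgroup.mem_subgroupOf.mpr h), ?_⟩
  rw [Subgroup.mem_normalizer_iff] at ht'n ⊢
  intro x
  constructor
  · intro hx
    have := (ht'n ⟨x, hDT hx⟩).mp (Subgroup.mem_subgroupOf.mpr hx)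
    rw [Subgroup.mem_subgroupOf] at this
    simpa using this
  · intro hx
    have hxT : x ∈ T := by
      have h2 := hDT hx
      have : x = t'.1⁻¹ * (t'.1 * x * t'.1⁻¹) * t'.1 := by group
      rw [this]
      exact T.mul_mem (T.mul_mem (T.inv_mem t'.2) h2) t'.2
    have := (ht'n ⟨x, hxT⟩).mpr (by rw [Subgroup.mem_subgroupOf]; simpa using hx)
    rwa [Subgroup.mem_subgroupOf] at this

/-- a 2-subgroup meeting a core-conjugate of `S` in rank at least two lies in the core. -/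
theorem le_core2_of_inter [Finite G] (S : Sylow 2 G) (hSΓ : (S : Subgroup G) ≤ core2 (S : Subgroup G)) :
    ∀ (m : ℕ) (T : Subgroup G) (γ : G) (U : Subgroup G), IsPGroup 2 T →
      γ ∈ core2 (S : Subgroup G) → U ≤ T → U ≤ cj γ (S : Subgroup G) → IsKleinFour U →
      Nat.card G - Nat.card (T ⊓ cj γ (S : Subgroup G) : Subgroup G) ≤ m →
      T ≤ core2 (S : Subgroup G) := by
  intro m
  induction m with
  | zero =>
    intro T γ U hT hγ hUT hUS hU hm
    have h1 : Nat.card T ≤ Nat.card G := Subgroup.card_le_card_group T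
    have h2 : Nat.card T ≤ Nat.card (T ⊓ cj γ (S : Subgroup G) : Subgroup G) := by omega
    have h3 : T ⊓ cj γ (S : Subgroup G) = T := Subgroup.eq_of_le_of_card_ge inf_le_left h2
    have h4 : T ≤ cj γ (S : Subgroup G) := by rw [← h3]; exact inf_le_right
    exact h4.trans (cj_le_of_mem hγ hSΓ)
  | succ m ih =>
    intro T γ U hT hγ hUT hUS hU hm
    by_cases hTS : T ≤ cj γ (S : Subgroup G)
    · exact hTS.trans (cj_le_of_mem hγ hSΓ)
    set D : Subgroup G := T ⊓ cj γ (S : Subgroup G) with hD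
    have hDT : D ≤ T := inf_le_left
    have hne : ¬ T ≤ D := fun h => hTS (h.trans inf_le_right)
    obtain ⟨t, htT, htD, htn⟩ := exists_normalizing T D hT hDT hne
    have hUD : U ≤ D := le_inf hUT hUS
    have hN : Subgroup.normalizer (D : Set G) ≤ core2 (S : Subgroup G) :=
      normalizer_le_core2' (S : Subgroup G) D U γ hγ inf_le_right hUD hU
    set T₁ : Subgroup G := T ⊓ Subgroup.normalizer (D : Set G) with hT₁
    have hT₁p : IsPGroup 2 T₁ := hT.to_le inf_le_left
    obtain ⟨γ₁, hγ₁, hle⟩ := exists_cj_of_le S _ hSΓ T₁ hT₁p (inf_le_right.trans hN)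
    have hDT₁ : D ≤ T₁ := le_inf hDT Subgroup.le_normalizer
    have hlt : Nat.card D < Nat.card (T ⊓ cj γ₁ (S : Subgroup G) : Subgroup G) := by
      apply card_lt_of_le_of_mem (le_inf hDT (hDT₁.trans hle)) (s := t) _ htD
      exact ⟨htT, hle ⟨htT, htn⟩⟩
    have hcard : Nat.card (T ⊓ cj γ₁ (S : Subgroup G) : Subgroup G) ≤ Nat.card G :=
      Subgroup.card_le_card_group _
    apply ih T γ₁ U hT hγ₁ hUT ((hUD.trans hDT₁).trans hle) hU
    omega

theorem isPGroup_of_kf {U : Subgroup G} (hU : IsKleinFour U) : IsPGroup 2 U :=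
  IsPGroup.of_card (n := 2) (by rw [hU.card_four]; norm_num)

theorem le_normalizer_of_adj {A B : Subgroup G} (h : adj A B) :
    A ≤ Subgroup.normalizer (B : Set G) := by
  intro a ha
  rw [Subgroup.mem_normalizer_iff]
  intro x
  constructor
  · intro hx
    have := h.2.2 a ha x hx
    rw [this, mul_inv_cancel_right]; exact hx
  · intro hx
    have := h.2.2 a ha _ hx
    have e : a * x * a⁻¹ = x := by
      apply mul_left_cancel (a := a)
      rw [this]; group
    rw [← e]; exact hx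

/-- Let G be a finite group of 2-rank at least 2 and S a Sylow 2-subgroup whose commuting graph of Klein four-subgroups is
connected. Then the commuting graph of Klein four-subgroups of G is disconnected if and only if the 2-generated core — the
subgroup generated by the normalizers N_G(Q) of the subgroups Q of S that contain a Klein four-group — is a proper
subgroup of G. -/
theorem result {G : Type*} [Group G] [Finite G] (h2 : ¬ Cfsg.PRankLE 2 1 G)
    (S : Sylow 2 G) (hS : Cfsg.IsFourConnected (S : Subgroup G)) :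
    ¬ Cfsg.IsFourConnected G ↔
      (⨆ Q : {Q : Subgroup G // Q ≤ (S : Subgroup G) ∧ ¬ Cfsg.PRankLE 2 1 Q},
          Subgroup.normalizer ((Q : Subgroup G) : Set G)) ≠ ⊤ := by
  haveI : Fact (Nat.Prime 2) := ⟨Nat.prime_two⟩
  change ¬ Cfsg.IsFourConnected G ↔ ¬ (core2 (S : Subgroup G) = ⊤)
  -- a four-subgroup of `S`
  obtain ⟨U₁, hU₁⟩ : ∃ U : Subgroup G, IsKleinFour U := by
    unfold Cfsg.PRankLE at h2
    push Not at h2
    obtain ⟨A, _, hA2, hAcard⟩ := h2
    obtain ⟨U, _, hU⟩ := exists_four_of_card A hA2 (by simpa using hAcard)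
    exact ⟨U, hU⟩
  obtain ⟨U₀, hU₀, hU₀S⟩ : ∃ U₀ : Subgroup G, IsKleinFour U₀ ∧ U₀ ≤ (S : Subgroup G) := by
    obtain ⟨g₀, hg₀⟩ := exists_cj_le_sylow_top S U₁ (isPGroup_of_kf hU₁)
    exact ⟨cj g₀⁻¹ U₁, kf_cj _ hU₁, hg₀⟩
  have hSΓ : (S : Subgroup G) ≤ core2 (S : Subgroup G) := le_core2 _ U₀ hU₀S hU₀
  rw [not_iff_not]
  constructor
  · intro hconn
    rw [eq_top_iff]
    intro g _
    have hchain : conn U₀ (cj g U₀) := hconn U₀ (cj g U₀) hU₀ (kf_cj g hU₀)
    have hinv : ∀ B : Subgroup G, conn U₀ B → B ≤ core2 (S : Subgroup G) := by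
      intro B hB
      unfold conn at hB
      induction hB with
      | refl => exact hU₀S.trans hSΓ
      | @tail A B _ hbc ih =>
        obtain ⟨γ, hγ, hAγ⟩ := exists_cj_of_le S _ hSΓ A (isPGroup_of_kf hbc.1) ih
        have hT : IsPGroup 2 (A ⊔ B : Subgroup G) :=
          IsPGroup.to_sup_of_normal_right' (isPGroup_of_kf hbc.1) (isPGroup_of_kf hbc.2.1)
            (le_normalizer_of_adj hbc)
        exact le_sup_right.trans
          (le_core2_of_inter S hSΓ _ (A ⊔ B) γ A hT hγ le_sup_left hAγ hbc.1 le_rfl)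
    have h1 : cj g U₀ ≤ core2 (S : Subgroup G) := hinv _ hchain
    obtain ⟨γ, hγ, hle⟩ := exists_cj_of_le S _ hSΓ (cj g U₀) (isPGroup_of_kf (kf_cj g hU₀)) h1
    have h2' : U₀ ≤ cj (g⁻¹ * γ) (S : Subgroup G) := by
      have := cj_mono g⁻¹ hle
      rwa [cj_cj, cj_cj, inv_mul_cancel, cj_one] at this
    have hT : IsPGroup 2 (cj (g⁻¹ * γ) (S : Subgroup G)) := isPGroup_cj _ S.isPGroup'
    have h3 : cj (g⁻¹ * γ) (S : Subgroup G) ≤ core2 (S : Subgroup G) :=
      le_core2_of_inter S hSΓ _ _ 1 U₀ hT (Subgroup.one_mem _) h2'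
        (by rw [cj_one]; exact hU₀S) hU₀ le_rfl
    obtain ⟨γ₂, hγ₂, hle₂⟩ := exists_cj_of_le S _ hSΓ _ hT h3
    have heq : cj (g⁻¹ * γ) (S : Subgroup G) = cj γ₂ (S : Subgroup G) :=
      Subgroup.eq_of_le_of_card_ge hle₂ (by rw [card_cj, card_cj])
    have h4 : cj (γ₂⁻¹ * (g⁻¹ * γ)) (S : Subgroup G) = (S : Subgroup G) := by
      rw [← cj_cj, heq, cj_cj, inv_mul_cancel, cj_one]
    have h5 := mem_normalizer_of_cj_eq h4
    have h6 : γ₂⁻¹ * (g⁻¹ * γ) ∈ core2 (S : Subgroup G) :=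
      normalizer_le_core2 _ _ U₀ le_rfl hU₀S hU₀ h5
    have : g = γ * (γ₂⁻¹ * (g⁻¹ * γ))⁻¹ * γ₂⁻¹ := by group
    rw [this]
    exact Subgroup.mul_mem _ (Subgroup.mul_mem _ hγ (Subgroup.inv_mem _ h6))
      (Subgroup.inv_mem _ hγ₂)
  · intro htop
    have hP : ∀ g ∈ core2 (S : Subgroup G), conn U₀ (cj g U₀) := by
      intro g hg
      refine Subgroup.iSup_induction
        (fun Q : {Q : Subgroup G // Q ≤ (S : Subgroup G) ∧ ¬ Cfsg.PRankLE 2 1 Q} =>
          Subgroup.normalizer ((Q : Subgroup G) : Set G))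
        (C := fun g => conn U₀ (cj g U₀)) hg ?_ ?_ ?_
      · rintro ⟨Q, hQS, hQr⟩ x hx
        obtain ⟨U, hUQ, hU⟩ := (rank2_iff Q).mp hQr
        have hx' : x ∈ Subgroup.normalizer (Q : Set G) := hx
        have h1 : cj x U ≤ Q := by
          rw [← cj_eq_of_mem_normalizer hx']; exact cj_mono x hUQ
        have c1 : conn U₀ U := conn_of_le _ hS hU₀S (hUQ.trans hQS) hU₀ hU
        have c2 : conn U₀ (cj x U) := conn_of_le _ hS hU₀S (h1.trans hQS) hU₀ (kf_cj x hU)
        have c3 : conn (cj x U₀) (cj x U) := conn_cj x c1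
        exact conn_trans c2 (conn_symm c3)
      · rw [cj_one]; exact Relation.ReflTransGen.refl
      · intro x y hx hy
        rw [← cj_cj]; exact conn_trans hx (conn_cj x hy)
    intro U V hU hV
    have key : ∀ W : Subgroup G, IsKleinFour W → conn U₀ W := by
      intro W hW
      obtain ⟨g, hg⟩ := exists_cj_le_sylow_top S W (isPGroup_of_kf hW)
      have c1 : conn U₀ (cj g⁻¹ W) := conn_of_le _ hS hU₀S hg hU₀ (kf_cj _ hW)
      have c2 := conn_cj g c1
      rw [cj_cj, mul_inv_cancel, cj_one] at c2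
      exact conn_trans (hP g (htop ▸ Subgroup.mem_top g)) c2
    exact conn_trans (conn_symm (key U hU)) (key V hV)

end Cfsg.Agent.S0520
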