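import Cfsg.Statements.S1480
import Mathlib
import Cfsg.Agent.Lib.Helper4.TT4
-- import your own Cfsg.Agent.* helpers here

set_option autoImplicit false
open Cfsg

namespace Cfsg.Agent.S1480

/-- Let G be a finite group and p a prime such that the normalizer of every nontrivial p-subgroup of G is p-constrained; if p = 2 assume also that the Sylow 2-subgroups of G have nilpotency class at most 2. Let E be an abelian p-subgroup containing an elementary abelian subgroup of order p ^ 3 and containing every element of p-power order of C_G(E). Then for every prime q ≠ p, any two maximal E-invariant q-subgroups of G are conjugate by an element of O_{p'}(C_G(E)). -/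
theorem result {G : Type*} [Group G] [Finite G] (p : ℕ) [Fact p.Prime]
    (hloc : ∀ T : Subgroup G, IsPGroup p T → T ≠ ⊥ → Cfsg.IsPConstrained p ↥(Subgroup.normalizer (T : Set G)))
    (h2 : p = 2 → ∀ S : Sylow p G, Group.IsNilpotent (S : Subgroup G) ∧ Group.nilpotencyClass (S : Subgroup G) ≤ 2)
    (E : Subgroup G) (hEp : IsPGroup p E) (hEc : IsMulCommutative E) (hE3 : ¬ Cfsg.PRankLE p 2 E)
    (hEfull : ∀ x ∈ Subgroup.centralizer (E : Set G), IsPGroup p (Subgroup.zpowers x) → x ∈ E)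
    (q : ℕ) [Fact q.Prime] (hqp : q ≠ p) :
    ∀ Q₁ ∈ Cfsg.maxInvSubgroups ⊤ E {q}, ∀ Q₂ ∈ Cfsg.maxInvSubgroups ⊤ E {q},
        ∃ k ∈ Cfsg.piCoreOf (Cfsg.primesNotDvd p) (Subgroup.centralizer (E : Set G)), Q₂ = Q₁.map (MulAut.conj k).toMonoidHom := by
  classical
  intro Q₁ hQ₁ Q₂ hQ₂
  have hp : p.Prime := Fact.out
  unfold Cfsg.PRankLE at hE3
  push Not at hE3
  obtain ⟨A', hA'c, hA'e, hA'card⟩ := hE3
  set E₁ := A'.map E.subtype with hE₁def
  have hE₁E : E₁ ≤ E := Subgroup.map_subtype_le _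
  have hE₁ : Cfsg.IsElementaryAbelian p E₁ := by
    refine ⟨⟨⟨?_⟩⟩, ?_⟩
    · rintro ⟨_, ⟨a, ha, rfl⟩⟩ ⟨_, ⟨b, hb, rfl⟩⟩
      apply Subtype.ext
      have := hA'c.is_comm.comm ⟨a, ha⟩ ⟨b, hb⟩
      have h2 : a * b = b * a := congrArg Subtype.val this
      show E.subtype a * E.subtype b = E.subtype b * E.subtype a
      rw [← map_mul, ← map_mul, h2]
    · rintro _ ⟨a, ha, rfl⟩
      rw [← map_pow, hA'e a ha, map_one]
  have hE₁3 : p ^ 2 < Nat.card E₁ := by
    rw [hE₁def, Subgroup.card_map_of_injective E.subtype_injective]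
    exact hA'card
  have hE1 : E ≠ ⊥ := by
    intro h0
    have h1 : Nat.card E₁ ≤ Nat.card E := Subgroup.card_le_of_le hE₁E
    rw [h0, Subgroup.card_bot] at h1
    have : 1 ≤ p ^ 2 := Nat.one_le_pow _ _ hp.pos
    omega
  have hKA : Cfsg.Agent.Lib.Helper4.BG7.KA E =
      Cfsg.Agent.Lib.Helper4.BG76.cG p (Subgroup.centralizer (E : Set G)) :=
    Cfsg.Agent.Lib.Helper4.BG76.piCoreOf_cpi_eq hEp hE1 _
  have hfinal := Cfsg.Agent.Lib.Helper4.TT.piCoreOf_primesNotDvd_eq p (Subgroup.centralizer (E : Set G))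
  have hA := fun a haE ha1 =>
    Cfsg.Agent.Lib.Helper4.TT.exists_local_core p hloc h2 E hEp hEc hEfull a haE ha1
  have hB : ∀ c ∈ Subgroup.centralizer (E : Set G), ∀ n : ℕ, n.Coprime p → c ^ n = 1 →
      c ∈ Cfsg.Agent.Lib.Helper4.BG7.KA E := by
    intro c hc n hn hcn
    rw [hKA]
    exact Cfsg.Agent.Lib.Helper4.TT.mem_cG_centralizer p E hEp hEc hEfull c hc n hn hcn
  obtain ⟨k, hk, hQ⟩ := Cfsg.Agent.Lib.Helper4.TT.kconj_all p E hEp hEc E₁ hE₁E hE₁ hE₁3 hA hB hqp _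
    Q₁ hQ₁ Q₂ hQ₂ rfl
  refine ⟨k, ?_, hQ⟩
  rw [hfinal, ← hKA]; exact hk

end Cfsg.Agent.S1480
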