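import Cfsg.Statements.S0522
-- import your own Cfsg.Agent.* helpers here
import Mathlib
import Cfsg.Agent.S1480
import Cfsg.Agent.Lib.Helper4.TT5

set_option autoImplicit false
open Cfsg

namespace Cfsg.Agent.S0522

/-- Transitivity Theorem (odd-order setting). Let X be a finite group of odd order in which the normalizer of every
nontrivial p-subgroup is solvable, P a Sylow p-subgroup, and B an abelian subgroup of P, normalized by P, with
C_P(B) = B and containing an elementary abelian subgroup of order p^3. Then for every prime q ≠ p, any two q-subgroups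
that are maximal among the q-subgroups normalized by B are conjugate by an element of the centralizer of B. -/
theorem result {X : Type*} [Group X] [Finite X] (hX : Odd (Nat.card X)) (p : ℕ)
    [Fact p.Prime] (hloc : ∀ T : Subgroup X, IsPGroup p T → T ≠ ⊥ → Group.IsSolvable (Subgroup.normalizer (T : Set X)))
    (P : Sylow p X) (B : Subgroup X) (hBP : B ≤ (P : Subgroup X))
    (hBn : ∀ x ∈ (P : Subgroup X), ∀ b ∈ B, x * b * x⁻¹ ∈ B) (hBa : IsMulCommutative B)
    (hBc : (P : Subgroup X) ⊓ Subgroup.centralizer (B : Set X) = B)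
    (hB3 : ∃ E : Subgroup X, E ≤ B ∧ (∀ e ∈ E, e ^ p = 1) ∧ p ^ 3 ≤ Nat.card E)
    (q : ℕ) [Fact q.Prime] (hqp : q ≠ p) (Q₁ Q₂ : Subgroup X)
    (h₁ : IsPGroup q Q₁ ∧ B ≤ Subgroup.normalizer (Q₁ : Set X) ∧
      ∀ R : Subgroup X, IsPGroup q R → B ≤ Subgroup.normalizer (R : Set X) → Q₁ ≤ R → R = Q₁)
    (h₂ : IsPGroup q Q₂ ∧ B ≤ Subgroup.normalizer (Q₂ : Set X) ∧
      ∀ R : Subgroup X, IsPGroup q R → B ≤ Subgroup.normalizer (R : Set X) → Q₂ ≤ R → R = Q₂) :
    ∃ c ∈ Subgroup.centralizer (B : Set X), Q₂ = Q₁.map (MulAut.conj c).toMonoidHom := by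
  classical
  have hp : p.Prime := Fact.out
  obtain ⟨E, hEB, hEe, hE3⟩ := hB3
  have hBp : IsPGroup p B := P.isPGroup'.to_le hBP
  -- `p` is odd
  have hp2 : p ≠ 2 := by
    intro h2
    have hEp : IsPGroup p E := hBp.to_le hEB
    obtain ⟨k, hk⟩ := IsPGroup.iff_card.mp hEp
    have hk0 : k ≠ 0 := by
      intro h0
      rw [h0, pow_zero] at hk
      rw [hk] at hE3
      have : 2 ^ 3 ≤ p ^ 3 := Nat.pow_le_pow_left hp.two_le 3
      omega
    have h3 : p ∣ Nat.card X := by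
      have h4 : p ∣ Nat.card E := by rw [hk]; exact dvd_pow_self p hk0
      exact h4.trans (Subgroup.card_subgroup_dvd_card E)
    rw [h2] at h3
    exact (Nat.not_even_iff_odd.mpr hX) (even_iff_two_dvd.mpr h3)
  have hloc' : ∀ T : Subgroup X, IsPGroup p T → T ≠ ⊥ →
      Cfsg.IsPConstrained p ↥(Subgroup.normalizer (T : Set X)) := by
    intro T hT hT1
    haveI := hloc T hT hT1
    exact Cfsg.Agent.Lib.Helper4.TT.isPConstrained_of_isSolvable p
  have hrank : ¬ Cfsg.PRankLE p 2 ↥B := by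
    intro h
    have h1 := h (E.subgroupOf B) ⟨⟨fun a b => by
      apply Subtype.ext
      exact hBa.is_comm.comm a.1 b.1⟩⟩ (by
      intro a ha
      apply Subtype.ext
      rw [Subgroup.coe_pow, Subgroup.coe_one]
      exact hEe _ (Subgroup.mem_subgroupOf.mp ha))
    rw [Cfsg.Agent.Lib.Helper4.card_subgroupOf_of_le hEB] at h1
    have : p ^ 2 < p ^ 3 := Nat.pow_lt_pow_right hp.one_lt (by norm_num)
    omega
  have hfull : ∀ x ∈ Subgroup.centralizer (B : Set X), IsPGroup p (Subgroup.zpowers x) → x ∈ B :=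
    fun x hx hxp => Cfsg.Agent.Lib.Helper4.TT.mem_of_pelem_centralizer p P B hBn hBc x hx hxp
  have hmax : ∀ Q : Subgroup X, (IsPGroup q Q ∧ B ≤ Subgroup.normalizer (Q : Set X) ∧
      ∀ R : Subgroup X, IsPGroup q R → B ≤ Subgroup.normalizer (R : Set X) → Q ≤ R → R = Q) →
      Q ∈ Cfsg.maxInvSubgroups ⊤ B {q} := by
    rintro Q ⟨hQq, hQB, hQmax⟩
    refine ⟨⟨le_top, Cfsg.Agent.Lib.Helper4.BG7.isPiNum_singleton_of_isPGroup hQq, hQB⟩, ?_⟩
    intro R hR hQR
    exact hQmax R (Cfsg.Agent.Lib.Helper4.BG7.isPGroup_of_isPiNum_singleton hR.2.1) hR.2.2 hQR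
  obtain ⟨k, hk, hQ⟩ := Cfsg.Agent.S1480.result p hloc' (fun h => absurd h hp2) B hBp hBa hrank hfull q hqp
    Q₁ (hmax Q₁ h₁) Q₂ (hmax Q₂ h₂)
  exact ⟨k, Cfsg.Agent.Lib.Helper4.BG7.piCoreOf_le _ _ hk, hQ⟩

end Cfsg.Agent.S0522
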