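import Cfsg.Statements.S0527
import Mathlib
import Cfsg.Agent.Lib.Helper2.Supersolvable
import Cfsg.Agent.Lib.Helper2.Basic

set_option autoImplicit false
open Cfsg

namespace Cfsg.Agent.S0527

open Cfsg.Agent.Lib.Helper2

universe u

theorem main : ∀ (n : ℕ) (G : Type u) [Group G] [Finite G], Nat.card G = n →
    IsSupersolvable G → ∀ M : Subgroup G, IsCoatom M → M.index.Prime := by
  intro n
  induction n using Nat.strong_induction_on with
  | _ n ih =>
    intro G _ _ hn hG M hM
    haveI : Nontrivial G := by
      by_contra h
      rw [not_nontrivial_iff_subsingleton] at h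
      exact hM.1 (Subsingleton.elim _ _)
    obtain ⟨N, hNn, hNp⟩ := exists_normal_prime_of_isSupersolvable hG
    haveI := hNn
    set p := Nat.card N with hp
    have hQ : IsSupersolvable (G ⧸ N) :=
      isSupersolvable_of_surjective (QuotientGroup.mk' N) (QuotientGroup.mk'_surjective N) hG
    have hcard : Nat.card G = Nat.card (G ⧸ N) * p := card_eq_card_quotient_mul_card N
    have hpos : 0 < Nat.card (G ⧸ N) := Nat.card_pos
    have hlt : Nat.card (G ⧸ N) < n := by
      rw [← hn, hcard]
      have := hNp.one_lt
      nlinarith
    set π := QuotientGroup.mk' N with hπ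
    have hsurj : Function.Surjective π := QuotientGroup.mk'_surjective N
    by_cases hNM : N ≤ M
    · have hker : π.ker ≤ M := by rw [hπ, QuotientGroup.ker_mk']; exact hNM
      have hidx : (M.map π).index = M.index := Subgroup.index_map_eq M hsurj hker
      rw [← hidx]
      apply ih _ hlt (G ⧸ N) rfl hQ
      have hcm : (M.map π).comap π = M := by
        rw [Subgroup.comap_map_eq, sup_eq_left.mpr hker]
      constructor
      · intro h
        apply hM.1
        rw [← hcm, h, Subgroup.comap_top]
      · intro L hL
        have h1 : M < L.comap π := by
          rw [← hcm]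
          refine lt_of_le_of_ne (Subgroup.comap_mono hL.le) ?_
          intro h
          have := congrArg (Subgroup.map π) h
          rw [Subgroup.map_comap_eq_self_of_surjective hsurj,
            Subgroup.map_comap_eq_self_of_surjective hsurj] at this
          exact hL.ne this
        have h2 := hM.2 _ h1
        have := congrArg (Subgroup.map π) h2
        rwa [Subgroup.map_comap_eq_self_of_surjective hsurj, ← MonoidHom.range_eq_map,
          MonoidHom.range_eq_top.mpr hsurj] at this
    · have hsup : M ⊔ N = ⊤ := by
        apply hM.2
        refine lt_of_le_of_ne le_sup_left ?_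
        intro h
        apply hNM
        rw [h]; exact le_sup_right
      have hinf : M ⊓ N = ⊥ := by
        have h1 : (M ⊓ N).subgroupOf N = ⊥ ∨ (M ⊓ N).subgroupOf N = ⊤ :=
          haveI : Fact (Nat.card N).Prime := ⟨hNp⟩
          Subgroup.eq_bot_or_eq_top_of_prime_card _
        rcases h1 with h1 | h1
        · rw [Subgroup.subgroupOf_eq_bot] at h1
          rwa [disjoint_iff, inf_assoc, inf_idem] at h1
        · rw [Subgroup.subgroupOf_eq_top] at h1
          exact absurd (le_trans h1 inf_le_left) hNM
      have hMn : M ≤ Subgroup.normalizer (N : Set G) := by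
        rw [Subgroup.normalizer_eq_top]; exact le_top
      have hc := card_sup_mul_card_inf M N hMn
      rw [hsup, hinf, Subgroup.card_bot, mul_one, Subgroup.card_top] at hc
      have hi := Subgroup.card_mul_index M
      rw [hc] at hi
      have hMpos : 0 < Nat.card M := Nat.card_pos
      have : M.index = p := Nat.eq_of_mul_eq_mul_left hMpos hi
      rw [this]; exact hNp

/-- In a finite supersolvable group the index of any maximal subgroup is a prime number. -/
theorem result {G : Type*} [Group G] [Finite G] (hG : Cfsg.IsSupersolvable G) (M : Subgroup G) (hM : IsCoatom M) : M.index.Prime :=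
  main (Nat.card G) G rfl hG M hM

end Cfsg.Agent.S0527
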