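import Cfsg.Statements.S0529
import Mathlib
import Cfsg.Agent.Lib.Helper2.SupersolvableTower

set_option autoImplicit false
open Cfsg

namespace Cfsg.Agent.S0529

open Cfsg.Agent.Lib.Helper2

universe u

theorem main : ∀ (n : ℕ) (G : Type u) [Group G] [Finite G], Nat.card G = n →
    IsSupersolvable G →
    ∃ (k : ℕ) (H : Fin (k + 1) → Subgroup G), H 0 = ⊥ ∧ H (Fin.last k) = ⊤ ∧
      (∀ i, (H i).Normal) ∧
      (∀ i : Fin k, H i.castSucc ≤ H i.succ ∧ ((H i.castSucc).relIndex (H i.succ)).Prime) ∧
      ∀ i j : Fin k, i ≤ j →
        (H j.castSucc).relIndex (H j.succ) ≤ (H i.castSucc).relIndex (H i.succ) := by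
  intro n
  induction n using Nat.strong_induction_on with
  | _ n ih =>
    intro G _ _ hn hG
    by_cases htriv : Subsingleton G
    · refine ⟨0, fun _ => ⊥, rfl, Subsingleton.elim _ _, fun _ => Subgroup.normal_bot,
        fun i => i.elim0, fun i => i.elim0⟩
    · rw [not_subsingleton_iff_nontrivial] at htriv
      have h1 : 1 < Nat.card G := Finite.one_lt_card_iff_nontrivial.mpr htriv
      have hne : (Nat.card G).primeFactors.Nonempty := by
        rw [Nat.nonempty_primeFactors]; exact h1
      set p := (Nat.card G).primeFactors.max' hne with hp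
      have hpm : p ∈ (Nat.card G).primeFactors := Finset.max'_mem _ hne
      obtain ⟨hpp, hpd, -⟩ := Nat.mem_primeFactors.mp hpm
      have hmax : ∀ q : ℕ, q.Prime → q ∣ Nat.card G → q ≤ p := by
        intro q hq hqd
        exact Finset.le_max' _ q (Nat.mem_primeFactors.mpr ⟨hq, hqd, Nat.card_pos.ne'⟩)
      obtain ⟨N, hNn, hNc⟩ := exists_normal_card_largest_prime hG p hpp hpd hmax
      haveI := hNn
      have hQ : IsSupersolvable (G ⧸ N) :=
        isSupersolvable_of_surjective (QuotientGroup.mk' N) (QuotientGroup.mk'_surjective N) hG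
      have hcard : Nat.card G = Nat.card (G ⧸ N) * p := by
        rw [← hNc]; exact card_eq_card_quotient_mul_card N
      have hpos : 0 < Nat.card (G ⧸ N) := Nat.card_pos
      have hlt : Nat.card (G ⧸ N) < n := by
        rw [← hn, hcard]
        have := hpp.one_lt
        nlinarith
      obtain ⟨k, H', h0', hl', hn', hs', ho'⟩ := ih _ hlt (G ⧸ N) rfl hQ
      set π := QuotientGroup.mk' N with hπ
      have hsurj : Function.Surjective π := QuotientGroup.mk'_surjective N
      set H : Fin (k + 2) → Subgroup G := Fin.cons ⊥ (fun i => (H' i).comap π) with hH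
      have hH0 : H 0 = ⊥ := by rw [hH, Fin.cons_zero]
      have hHs : ∀ i : Fin (k + 1), H i.succ = (H' i).comap π := by
        intro i; rw [hH, Fin.cons_succ]
      have hr0 : (H (Fin.castSucc (0 : Fin (k + 1)))).relIndex (H (Fin.succ (0 : Fin (k + 1)))) = p := by
        rw [Fin.castSucc_zero, hH0, hHs, h0', MonoidHom.comap_bot, hπ, QuotientGroup.ker_mk',
          Subgroup.relIndex_bot_left, hNc]
      have hrs : ∀ j : Fin k, (H j.succ.castSucc).relIndex (H j.succ.succ) =
          (H' j.castSucc).relIndex (H' j.succ) := by
        intro j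
        rw [Fin.castSucc_succ, hHs, hHs, Subgroup.relIndex_comap,
          Subgroup.map_comap_eq_self_of_surjective hsurj]
      refine ⟨k + 1, H, hH0, ?_, ?_, ?_, ?_⟩
      · rw [← Fin.succ_last, hHs, hl', Subgroup.comap_top]
      · intro i
        refine Fin.cases ?_ (fun j => ?_) i
        · rw [hH0]; exact Subgroup.normal_bot
        · rw [hHs]; exact Subgroup.Normal.comap (hn' j) π
      · intro i
        refine Fin.cases ?_ (fun j => ?_) i
        · refine ⟨?_, ?_⟩
          · rw [Fin.castSucc_zero, hH0]; exact bot_le
          · rw [hr0]; exact hpp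
        · refine ⟨?_, ?_⟩
          · rw [Fin.castSucc_succ, hHs, hHs]
            exact Subgroup.comap_mono (hs' j).1
          · rw [hrs]; exact (hs' j).2
      · intro i j hij
        have hle : ∀ j' : Fin k, (H' j'.castSucc).relIndex (H' j'.succ) ≤ p := by
          intro j'
          apply hmax _ (hs' j').2
          rw [hcard]
          exact Dvd.dvd.mul_right
            ((Subgroup.relIndex_dvd_card _ _).trans (Subgroup.card_subgroup_dvd_card _)) p
        revert hij
        refine Fin.cases ?_ (fun i' => ?_) i
        · intro _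
          rw [hr0]
          refine Fin.cases ?_ (fun j' => ?_) j
          · rw [hr0]
          · rw [hrs]; exact hle j'
        · refine Fin.cases ?_ (fun j' => ?_) j
          · intro hij
            exact absurd hij (by simp [Fin.succ_ne_zero])
          · intro hij
            rw [hrs, hrs]
            exact ho' i' j' (Fin.succ_le_succ_iff.mp hij)

/-- A finite supersolvable group has a chain of normal subgroups, from the trivial subgroup to the whole group, in which every step has prime index and the primes occurring are non-increasing as one goes up the chain. -/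
theorem result {G : Type*} [Group G] [Finite G] (hG : Cfsg.IsSupersolvable G) : ∃ (n : ℕ) (H : Fin (n + 1) → Subgroup G), H 0 = ⊥ ∧ H (Fin.last n) = ⊤ ∧ (∀ i, (H i).Normal) ∧ (∀ i : Fin n, H i.castSucc ≤ H i.succ ∧ ((H i.castSucc).relIndex (H i.succ)).Prime) ∧ ∀ i j : Fin n, i ≤ j → (H j.castSucc).relIndex (H j.succ) ≤ (H i.castSucc).relIndex (H i.succ) :=
  main (Nat.card G) G rfl hG

end Cfsg.Agent.S0529
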