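import Cfsg.Statements.S0530
import Mathlib
import Cfsg.Agent.Lib.Helper2.Supersolvable
import Cfsg.Agent.Lib.Helper2.Basic

set_option autoImplicit false
open Cfsg

namespace Cfsg.Agent.S0530

open Cfsg.Agent.Lib.Helper2

universe u

/-- a nontrivial normal-in-`G` cyclic subgroup of order `p` inside `P` -/
lemma exists_u {G : Type*} [Group G] [Finite G] (p : ℕ) [hp : Fact p.Prime] (P : Subgroup G)
    (hidx : P.index = 2) (hP : IsPGroup p P) (hnt : Nontrivial P) :
    ∃ u ∈ P, orderOf u = p ∧ (Subgroup.zpowers u).Normal := by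
  haveI hPn : P.Normal := Subgroup.normal_of_index_eq_two hidx
  haveI := hP.center_nontrivial
  have hpc : p ∣ Nat.card (Subgroup.center P) := by
    obtain ⟨k, hk⟩ := (hP.to_subgroup (Subgroup.center P)).exists_card_eq
    have hk0 : k ≠ 0 := by
      rintro rfl
      rw [pow_zero] at hk
      have := Finite.one_lt_card_iff_nontrivial.mpr (inferInstance : Nontrivial (Subgroup.center P))
      omega
    rw [hk]; exact dvd_pow_self p hk0
  obtain ⟨z, hz⟩ := exists_prime_orderOf_dvd_card' p hpc
  set m : G := ((z : P) : G) with hm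
  have hmP : m ∈ P := (z : P).2
  have hom : orderOf m = p := by
    rw [hm, Subgroup.orderOf_coe, Subgroup.orderOf_coe, hz]
  have hmc : ∀ x ∈ P, x * m = m * x := by
    intro x hx
    have := (Subgroup.mem_center_iff.mp z.2) ⟨x, hx⟩
    exact congrArg Subtype.val this
  -- pick t outside P
  have hne : P ≠ ⊤ := by
    intro h
    rw [h, Subgroup.index_top] at hidx
    omega
  obtain ⟨t, -, ht⟩ := SetLike.exists_of_lt (lt_top_iff_ne_top.mpr hne)
  -- conjugates of central elements of P are central in P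
  have hconj : ∀ (v : G), v ∈ P → (∀ x ∈ P, x * v = v * x) →
      ∀ g : G, (g * v * g⁻¹ ∈ P ∧ ∀ x ∈ P, x * (g * v * g⁻¹) = (g * v * g⁻¹) * x) := by
    intro v hv hvc g
    refine ⟨hPn.conj_mem v hv g, ?_⟩
    intro x hx
    have hx' : g⁻¹ * x * g ∈ P := by
      have := hPn.conj_mem x hx g⁻¹
      simpa using this
    have := hvc _ hx'
    calc x * (g * v * g⁻¹) = g * ((g⁻¹ * x * g) * v) * g⁻¹ := by group
      _ = g * (v * (g⁻¹ * x * g)) * g⁻¹ := by rw [this]
      _ = (g * v * g⁻¹) * x := by group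
  -- key: an element u ∈ P central in P with t u t⁻¹ ∈ {u, u⁻¹}
  have hnormal : ∀ u : G, u ∈ P → (∀ x ∈ P, x * u = u * x) →
      (t * u * t⁻¹ = u ∨ t * u * t⁻¹ = u⁻¹) → (Subgroup.zpowers u).Normal := by
    intro u huP huc hut
    have hgu : ∀ g : G, g * u * g⁻¹ = u ∨ g * u * g⁻¹ = u⁻¹ := by
      intro g
      by_cases hg : g ∈ P
      · left
        rw [huc g hg, mul_inv_cancel_right]
      · have hx : t⁻¹ * g ∈ P := by
          rw [Subgroup.mul_mem_iff_of_index_two hidx]
          simp [ht, hg]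
        have e : g * u * g⁻¹ = t * ((t⁻¹ * g) * u * (t⁻¹ * g)⁻¹) * t⁻¹ := by group
        rw [e, huc _ hx, mul_inv_cancel_right]
        exact hut
    refine ⟨fun y hy g => ?_⟩
    obtain ⟨k, rfl⟩ := Subgroup.mem_zpowers_iff.mp hy
    have : g * u ^ k * g⁻¹ = (g * u * g⁻¹) ^ k := by rw [conj_zpow]
    rw [this]
    rcases hgu g with h | h
    · rw [h]; exact Subgroup.zpow_mem_zpowers u k
    · rw [h]; exact Subgroup.zpow_mem _ (Subgroup.inv_mem _ (Subgroup.mem_zpowers u)) k
  obtain ⟨m', hm'⟩ : ∃ m', m' = t * m * t⁻¹ := ⟨_, rfl⟩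
  obtain ⟨hm'P, hm'c⟩ := hconj m hmP hmc t
  rw [← hm'] at hm'P hm'c
  have hmm' : m * m' = m' * m := (hmc m' hm'P).symm
  have ht2 : t ^ 2 ∈ P := Subgroup.sq_mem_of_index_two hidx t
  have htm' : t * m' * t⁻¹ = m := by
    have : t * m' * t⁻¹ = (t ^ 2) * m * (t ^ 2)⁻¹ := by rw [hm', pow_two]; group
    rw [this, hmc _ ht2, mul_inv_cancel_right]
  by_cases hw : m * m' = 1
  · -- m' = m⁻¹
    have : m' = m⁻¹ := by
      rw [eq_inv_iff_mul_eq_one, ← hmm', hw]
    exact ⟨m, hmP, hom, hnormal m hmP hmc (Or.inr (by rw [← hm']; exact this))⟩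
  · obtain ⟨w, hwdef⟩ : ∃ w, w = m * m' := ⟨_, rfl⟩
    rw [← hwdef] at hw
    have hwP : w ∈ P := by rw [hwdef]; exact P.mul_mem hmP hm'P
    have hwc : ∀ x ∈ P, x * w = w * x := by
      intro x hx
      rw [hwdef, ← mul_assoc, hmc x hx, mul_assoc, hm'c x hx, mul_assoc]
    have htw : t * w * t⁻¹ = w := by
      have : t * w * t⁻¹ = (t * m * t⁻¹) * (t * m' * t⁻¹) := by rw [hwdef]; group
      rw [this, htm', ← hm', ← hmm', ← hwdef]
    have hwp : w ^ p = 1 := by
      have hc : Commute m m' := hmm'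
      rw [hwdef, hc.mul_pow]
      have h1 : m ^ p = 1 := by rw [← hom]; exact pow_orderOf_eq_one m
      have h2 : m' ^ p = 1 := by
        rw [hm', conj_pow, h1]; group
      rw [h1, h2, one_mul]
    have how : orderOf w = p := by
      have := orderOf_dvd_of_pow_eq_one hwp
      rcases (Nat.dvd_prime hp.1).mp this with h | h
      · exact absurd (orderOf_eq_one_iff.mp h) hw
      · exact h
    exact ⟨w, hwP, how, hnormal w hwP hwc (Or.inl htw)⟩

theorem main (p : ℕ) [hp : Fact p.Prime] : ∀ (n : ℕ) (G : Type u) [Group G] [Finite G]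
    (P : Subgroup G), P.index = 2 → Nat.card P = p ^ n → IsSupersolvable G := by
  intro n
  induction n with
  | zero =>
    intro G _ _ P hidx hcard
    have hci := Subgroup.card_mul_index P
    rw [hidx, hcard, pow_zero, one_mul] at hci
    haveI : Fact (Nat.Prime 2) := ⟨Nat.prime_two⟩
    have h2 : Nat.card G = 2 := hci.symm
    haveI := isCyclic_of_prime_card h2
    exact isSupersolvable_of_isCyclic
  | succ n ih =>
    intro G _ _ P hidx hcard
    have hP : IsPGroup p P := IsPGroup.of_card hcard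
    have hnt : Nontrivial P := by
      rw [← Finite.one_lt_card_iff_nontrivial, hcard]
      exact Nat.one_lt_pow (by omega) hp.1.one_lt
    obtain ⟨u, huP, hou, hun⟩ := exists_u p P hidx hP hnt
    haveI := hun
    apply isSupersolvable_of_quotient_zpowers u
    set N := Subgroup.zpowers u with hN
    have hNP : N ≤ P := by rw [hN, Subgroup.zpowers_le]; exact huP
    set π := QuotientGroup.mk' N with hπ
    have hker : π.ker ≤ P := by rw [hπ, QuotientGroup.ker_mk']; exact hNP
    have hidx' : (P.map π).index = 2 := by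
      rw [Subgroup.index_map_eq P (QuotientGroup.mk'_surjective N) hker, hidx]
    have hcm : (P.map π).comap π = P := by
      rw [Subgroup.comap_map_eq, sup_eq_left.mpr hker]
    have hc := card_comap_mk N (P.map π)
    have hNc : Nat.card N = p := by rw [hN, Nat.card_zpowers, hou]
    rw [← hπ, hcm, hcard, hNc, pow_succ] at hc
    have : Nat.card (P.map π) = p ^ n := (Nat.eq_of_mul_eq_mul_right hp.1.pos hc).symm
    exact ih (G ⧸ N) (P.map π) hidx' this

/-- A finite group whose order is twice a prime power is supersolvable. -/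
theorem result {G : Type*} [Group G] [Finite G] (p n : ℕ) (hp : p.Prime) (hG : Nat.card G = 2 * p ^ n) : Cfsg.IsSupersolvable G := by
  haveI : Fact p.Prime := ⟨hp⟩
  by_cases h2 : p = 2
  · subst h2
    have : Nat.card G = 2 ^ (n + 1) := by rw [hG, pow_succ, mul_comm]
    exact isSupersolvable_of_isPGroup 2 (IsPGroup.of_card this)
  · let P : Sylow p G := default
    have hcop : Nat.Coprime p 2 := by
      rw [Nat.coprime_primes hp Nat.prime_two]; exact h2
    have hfac : (Nat.card G).factorization p = n := by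
      rw [hG, Nat.factorization_mul (by norm_num) (pow_ne_zero _ hp.ne_zero)]
      simp [Nat.factorization_eq_zero_of_not_dvd (fun h => h2 ((Nat.prime_dvd_prime_iff_eq hp Nat.prime_two).mp h)), hp.factorization_self]
    have hPc : Nat.card P = p ^ n := by
      rw [Sylow.card_eq_multiplicity, hfac]
    have hidx : (P : Subgroup G).index = 2 := by
      have := Subgroup.card_mul_index (P : Subgroup G)
      rw [hPc, hG, mul_comm] at this
      exact Nat.eq_of_mul_eq_mul_right (pow_pos hp.pos n) this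
    exact main p n G P hidx hPc

end Cfsg.Agent.S0530
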