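import Cfsg.Statements.S0531
import Mathlib
import Cfsg.Agent.Lib.Helper2.Supersolvable
import Cfsg.Agent.Lib.Helper2.Basic

set_option autoImplicit false
open Cfsg

namespace Cfsg.Agent.S0531

open Cfsg.Agent.Lib.Helper2

universe u

theorem main : ∀ (n : ℕ) (G : Type u) [Group G] [Finite G], Nat.card G = n →
    IsSupersolvable G → ∀ d : ℕ, d ∣ n → ∃ H : Subgroup G, Nat.card H = d := by
  intro n
  induction n using Nat.strong_induction_on with
  | _ n ih =>
    intro G _ _ hn hG d hd
    by_cases htriv : Subsingleton G
    · have : Nat.card G = 1 := Nat.card_eq_one_iff_unique.mpr ⟨htriv, ⟨1⟩⟩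
      rw [← hn, this, Nat.dvd_one] at hd
      subst hd
      exact ⟨⊥, Subgroup.card_bot⟩
    · rw [not_subsingleton_iff_nontrivial] at htriv
      obtain ⟨N, hNn, hNp⟩ := exists_normal_prime_of_isSupersolvable hG
      haveI := hNn
      set p := Nat.card N with hp
      have hQ : IsSupersolvable (G ⧸ N) :=
        isSupersolvable_of_surjective (QuotientGroup.mk' N) (QuotientGroup.mk'_surjective N) hG
      have hcard : Nat.card G = Nat.card (G ⧸ N) * p := by
        rw [← Subgroup.index_eq_card, mul_comm, hp, Subgroup.card_mul_index]
      have hpos : 0 < Nat.card (G ⧸ N) := Nat.card_pos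
      have hlt : Nat.card (G ⧸ N) < n := by
        rw [← hn, hcard]
        have := hNp.one_lt
        nlinarith
      by_cases hpd : p ∣ d
      · obtain ⟨d', rfl⟩ := hpd
        have hd' : d' ∣ Nat.card (G ⧸ N) := by
          rw [← hn, hcard, mul_comm p d'] at hd
          exact Nat.dvd_of_mul_dvd_mul_right hNp.pos hd
        obtain ⟨H', hH'⟩ := ih _ hlt (G ⧸ N) rfl hQ d' hd'
        refine ⟨H'.comap (QuotientGroup.mk' N), ?_⟩
        rw [card_comap_mk, hH', mul_comm]
      · have hcop : Nat.Coprime d p := (Nat.Prime.coprime_iff_not_dvd hNp).mpr hpd |>.symm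
        have hd' : d ∣ Nat.card (G ⧸ N) := by
          rw [← hn, hcard] at hd
          exact hcop.dvd_of_dvd_mul_right hd
        obtain ⟨H', hH'⟩ := ih _ hlt (G ⧸ N) rfl hQ d hd'
        set K := H'.comap (QuotientGroup.mk' N) with hK
        have hKcard : Nat.card K = d * p := by rw [hK, card_comap_mk, hH']
        have hNK : N ≤ K := by
          intro x hx
          rw [hK, Subgroup.mem_comap, QuotientGroup.mk'_apply,
            (QuotientGroup.eq_one_iff x).mpr hx]
          exact H'.one_mem
        haveI : (N.subgroupOf K).Normal := Subgroup.normal_subgroupOf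
        have hN'card : Nat.card (N.subgroupOf K) = p := by
          rw [card_subgroupOf_of_le hNK]
        have hN'idx : (N.subgroupOf K).index = d := by
          have := Subgroup.card_mul_index (N.subgroupOf K)
          rw [hN'card, hKcard, mul_comm] at this
          exact Nat.eq_of_mul_eq_mul_right hNp.pos this
        have hc : Nat.Coprime (Nat.card (N.subgroupOf K)) (N.subgroupOf K).index := by
          rw [hN'card, hN'idx]; exact hcop.symm
        obtain ⟨C, hC⟩ := Subgroup.exists_left_complement'_of_coprime hc
        refine ⟨C.map K.subtype, ?_⟩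
        rw [Subgroup.card_map_of_injective K.subtype_injective, ← hC.index_eq_card, hN'idx]

/-- A finite supersolvable group has a subgroup of each order dividing its order. -/
theorem result {G : Type*} [Group G] [Finite G] (hG : Cfsg.IsSupersolvable G) : Cfsg.HasSubgroupOfEveryOrder G := by
  intro d hd
  exact main (Nat.card G) G rfl hG d hd

end Cfsg.Agent.S0531
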