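import Cfsg.Statements.S0533
import Mathlib
import Cfsg.Agent.Lib.Helper2.SupersolvableTower

set_option autoImplicit false
open Cfsg

namespace Cfsg.Agent.S0533

open Cfsg.Agent.Lib.Helper2

universe u

/-- hereditary converse of Lagrange, phrased inside `G` -/
def HC (G : Type*) [Group G] : Prop :=
  ∀ H : Subgroup G, ∀ d : ℕ, d ∣ Nat.card H → ∃ K : Subgroup G, K ≤ H ∧ Nat.card K = d

lemma hc_of_hyp {G : Type*} [Group G] (h : ∀ H : Subgroup G, Cfsg.HasSubgroupOfEveryOrder H) :
    HC G := by
  intro H d hd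
  obtain ⟨K, hK⟩ := h H d hd
  refine ⟨K.map H.subtype, ?_, ?_⟩
  · rintro x ⟨y, -, rfl⟩; exact y.2
  · rw [Subgroup.card_map_of_injective H.subtype_injective, hK]

lemma HC.subgroup {G : Type*} [Group G] (h : HC G) (M : Subgroup G) : HC M := by
  intro H' d hd
  have hc : Nat.card (H'.map M.subtype) = Nat.card H' :=
    Subgroup.card_map_of_injective M.subtype_injective
  obtain ⟨K, hKH, hKc⟩ := h (H'.map M.subtype) d (by rw [hc]; exact hd)
  have hHM : H'.map M.subtype ≤ M := by rintro x ⟨y, -, rfl⟩; exact y.2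
  refine ⟨K.subgroupOf M, ?_, ?_⟩
  · intro x hx
    rw [Subgroup.mem_subgroupOf] at hx
    obtain ⟨y, hy, hyx⟩ := hKH hx
    have : y = x := Subtype.ext hyx
    rwa [← this]
  · rw [card_subgroupOf_of_le (hKH.trans hHM), hKc]

lemma card_map_mk_of_le {G : Type*} [Group G] [Finite G] (N R : Subgroup G) [N.Normal]
    (h : N ≤ R) : Nat.card (R.map (QuotientGroup.mk' N)) * Nat.card N = Nat.card R := by
  have := card_comap_mk N (R.map (QuotientGroup.mk' N))
  rw [Subgroup.comap_map_eq, QuotientGroup.ker_mk', sup_eq_left.mpr h] at this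
  exact this.symm

lemma card_map_mk_of_inf_eq_bot {G : Type*} [Group G] [Finite G] (N R : Subgroup G) [N.Normal]
    (h : R ⊓ N = ⊥) : Nat.card (R.map (QuotientGroup.mk' N)) = Nat.card R := by
  have h1 := card_comap_mk N (R.map (QuotientGroup.mk' N))
  rw [Subgroup.comap_map_eq, QuotientGroup.ker_mk'] at h1
  have h2 := card_sup_mul_card_inf R N (by rw [Subgroup.normalizer_eq_top]; exact le_top)
  rw [h, Subgroup.card_bot, mul_one, h1] at h2
  exact Nat.eq_of_mul_eq_mul_right Nat.card_pos h2

lemma HC.quotient {G : Type*} [Group G] [Finite G] (h : HC G) (N : Subgroup G) [N.Normal]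
    (hN : (Nat.card N).Prime) : HC (G ⧸ N) := by
  intro H' d hd
  set π := QuotientGroup.mk' N with hπ
  have hsurj : Function.Surjective π := QuotientGroup.mk'_surjective N
  set K := H'.comap π with hK
  have hKc : Nat.card K = Nat.card H' * Nat.card N := card_comap_mk N H'
  have hdK : d * Nat.card N ∣ Nat.card K := by rw [hKc]; exact Nat.mul_dvd_mul_right hd _
  obtain ⟨R, hRK, hRc⟩ := h K _ hdK
  have hmapK : K.map π = H' := Subgroup.map_comap_eq_self_of_surjective hsurj H'
  by_cases hNR : N ≤ R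
  · refine ⟨R.map π, ?_, ?_⟩
    · rw [← hmapK]; exact Subgroup.map_mono hRK
    · have := card_map_mk_of_le N R hNR
      rw [hRc] at this
      exact Nat.eq_of_mul_eq_mul_right hN.pos this
  · have hinf : R ⊓ N = ⊥ := by
      have h1 : (R ⊓ N).subgroupOf N = ⊥ ∨ (R ⊓ N).subgroupOf N = ⊤ :=
        haveI : Fact (Nat.card N).Prime := ⟨hN⟩
        Subgroup.eq_bot_or_eq_top_of_prime_card _
      rcases h1 with h1 | h1
      · rw [Subgroup.subgroupOf_eq_bot] at h1
        rwa [disjoint_iff, inf_assoc, inf_idem] at h1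
      · rw [Subgroup.subgroupOf_eq_top] at h1
        exact absurd (le_trans h1 inf_le_left) hNR
    obtain ⟨R₁, hR₁R, hR₁c⟩ := h R d (by rw [hRc]; exact Dvd.intro _ rfl)
    have hinf₁ : R₁ ⊓ N = ⊥ := by
      rw [eq_bot_iff, ← hinf]; exact inf_le_inf_right N hR₁R
    refine ⟨R₁.map π, ?_, ?_⟩
    · rw [← hmapK]; exact Subgroup.map_mono (hR₁R.trans hRK)
    · rw [card_map_mk_of_inf_eq_bot N R₁ hinf₁, hR₁c]


/-- arithmetic core -/
lemma arith_core (q m z s e k : ℕ) (hq : q.Prime) (hqm : ¬ q ∣ m) (hz : z = q ^ k)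
    (h1 : s * e = q * m * z) (h2 : s ∣ z * m) (he1 : e ∣ q * m) (he2 : e ∣ z) (hs : 0 < s) :
    e = q ∧ s = z * m := by
  obtain ⟨s', hs'⟩ := h2
  have h3 : e = q * s' := by
    have : s * e = s * (q * s') := by
      rw [h1]
      calc q * m * z = q * (z * m) := by ring
        _ = q * (s * s') := by rw [hs']
        _ = s * (q * s') := by ring
    exact Nat.eq_of_mul_eq_mul_left hs this
  have hzpos : 0 < z := by rw [hz]; exact pow_pos hq.pos k
  have hmpos : 0 < m := Nat.pos_of_ne_zero (by rintro rfl; exact hqm (dvd_zero q))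
  have hs'pos : 0 < s' := by
    rcases Nat.eq_zero_or_pos s' with h | h
    · rw [h, mul_zero] at hs'
      have : 0 < z * m := Nat.mul_pos hzpos hmpos
      omega
    · exact h
  rw [hz] at he2
  obtain ⟨j, -, hj⟩ := (Nat.dvd_prime_pow hq).mp he2
  have hj1 : 1 ≤ j := by
    rcases Nat.eq_zero_or_pos j with h | h
    · rw [h, pow_zero] at hj
      rw [hj] at h3
      have := hq.one_lt
      have : q * s' ≥ q := Nat.le_mul_of_pos_right q hs'pos
      omega
    · exact h
  have hj2 : j ≤ 1 := by
    by_contra hcon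
    push_neg at hcon
    have : q ^ 2 ∣ q * m := (pow_dvd_pow q hcon).trans (hj ▸ he1)
    rw [pow_two] at this
    exact hqm (Nat.dvd_of_mul_dvd_mul_left hq.pos this)
  have hj' : j = 1 := le_antisymm hj2 hj1
  rw [hj', pow_one] at hj
  refine ⟨hj, ?_⟩
  rw [hj] at h1
  have : q * s = q * (z * m) := by rw [mul_comm q s, h1]; ring
  exact Nat.eq_of_mul_eq_mul_left hq.pos this


lemma core {G : Type*} [Group G] [Finite G] (h : HC G) (q : ℕ) [hq : Fact q.Prime]
    (Q : Subgroup G) [hQn : Q.Normal] (hQ : IsPGroup q Q) (hQnt : Nontrivial Q)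
    (hcop : (Nat.card Q).Coprime Q.index) :
    ∃ N : Subgroup G, N.Normal ∧ Nat.card N = q := by
  obtain ⟨C, hC⟩ := Subgroup.exists_right_complement'_of_coprime hcop
  set m := Nat.card C with hm
  have hidx : Q.index = m := hC.symm.index_eq_card
  -- q does not divide m
  obtain ⟨a, ha⟩ := hQ.exists_card_eq
  have ha0 : a ≠ 0 := by
    rintro rfl
    rw [pow_zero] at ha
    have := Finite.one_lt_card_iff_nontrivial.mpr hQnt
    omega
  have hqm : ¬ q ∣ m := by
    intro hdiv
    rw [ha, hidx] at hcop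
    have h1 : Nat.Coprime q m := Nat.Coprime.coprime_dvd_left (dvd_pow_self q ha0) hcop
    exact hq.1.one_lt.ne' (Nat.Coprime.eq_one_of_dvd h1 hdiv)
  -- the center of Q
  set Z : Subgroup G := (Subgroup.center Q).map Q.subtype with hZ
  haveI hZn : Z.Normal := ConjAct.normal_of_characteristic_of_normal
  have hZQ : Z ≤ Q := by rintro x ⟨y, -, rfl⟩; exact y.2
  have hZc : ∀ z ∈ Z, ∀ x ∈ Q, x * z = z * x := by
    rintro z ⟨y, hy, rfl⟩ x hx
    have := (Subgroup.mem_center_iff.mp hy) ⟨x, hx⟩
    exact congrArg Subtype.val this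
  have hZcard : Nat.card Z = Nat.card (Subgroup.center Q) :=
    Subgroup.card_map_of_injective Q.subtype_injective
  haveI := hQ.center_nontrivial
  obtain ⟨k, hk⟩ := (hQ.to_subgroup (Subgroup.center Q)).exists_card_eq
  have hk0 : k ≠ 0 := by
    rintro rfl
    rw [pow_zero] at hk
    have := Finite.one_lt_card_iff_nontrivial.mpr (inferInstance : Nontrivial (Subgroup.center Q))
    omega
  rw [← hZcard] at hk
  -- T = Z ⊔ C
  have hZC : C ⊓ Z = ⊥ := by
    have := hC.disjoint
    rw [disjoint_iff] at this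
    rw [eq_bot_iff, ← this, inf_comm]
    exact inf_le_inf_right C hZQ
  have hTcard : Nat.card (C ⊔ Z : Subgroup G) = Nat.card Z * m := by
    have := card_sup_mul_card_inf C Z (by rw [Subgroup.normalizer_eq_top]; exact le_top)
    rw [hZC, Subgroup.card_bot, mul_one] at this
    rw [this, mul_comm]
  have hqmT : q * m ∣ Nat.card (C ⊔ Z : Subgroup G) := by
    rw [hTcard, hk]
    exact Nat.mul_dvd_mul_right (dvd_pow_self q hk0) m
  obtain ⟨L, hLT, hLc⟩ := h (C ⊔ Z) _ hqmT
  set D := L ⊓ Z with hD
  have h1 := card_sup_mul_card_inf L Z (by rw [Subgroup.normalizer_eq_top]; exact le_top)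
  rw [hLc] at h1
  have h2 : Nat.card (L ⊔ Z : Subgroup G) ∣ Nat.card Z * m := by
    rw [← hTcard]
    exact Subgroup.card_dvd_of_le (sup_le hLT le_sup_right)
  have he1 : Nat.card D ∣ q * m := by
    rw [← hLc]; exact Subgroup.card_dvd_of_le inf_le_left
  have he2 : Nat.card D ∣ Nat.card Z := Subgroup.card_dvd_of_le inf_le_right
  obtain ⟨hDq, hsup⟩ := arith_core q m (Nat.card Z) (Nat.card (L ⊔ Z : Subgroup G)) (Nat.card D) k
    hq.1 hqm hk h1 h2 he1 he2 Nat.card_pos
  have hLZ : L ⊔ Z = C ⊔ Z := by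
    apply Subgroup.eq_of_le_of_card_ge (sup_le hLT le_sup_right)
    rw [hsup, hTcard]
  -- D is normal
  have hQD : Q ≤ Subgroup.normalizer (D : Set G) := by
    intro x hx
    apply mem_normalizer_of_commute
    intro d hd
    exact hZc d (Subgroup.mem_inf.mp hd).2 x hx
  have hZD : Z ≤ Subgroup.normalizer (D : Set G) := hZQ.trans hQD
  have hLD : L ≤ Subgroup.normalizer (D : Set G) := by
    refine le_trans ?_ Subgroup.inf_normalizer_le_normalizer_inf
    refine le_inf Subgroup.le_normalizer ?_
    rw [Subgroup.normalizer_eq_top]; exact le_top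
  have hCD : C ≤ Subgroup.normalizer (D : Set G) := by
    refine le_trans (le_sup_left : C ≤ C ⊔ Z) ?_
    rw [← hLZ]
    exact sup_le hLD hZD
  have htop : Subgroup.normalizer (D : Set G) = ⊤ := by
    rw [eq_top_iff, ← hC.sup_eq_top]
    exact sup_le hQD hCD
  exact ⟨D, Subgroup.normalizer_eq_top_iff.mp htop, hDq⟩


lemma exists_normal_prime {G : Type*} [Group G] [Finite G] (h : HC G)
    (hsub : ∀ M : Subgroup G, M ≠ ⊤ → IsSupersolvable M)
    (hnp : ¬ IsPGroup (Nat.card G).minFac G) (h1 : 1 < Nat.card G) :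
    ∃ N : Subgroup G, N.Normal ∧ (Nat.card N).Prime := by
  set p := (Nat.card G).minFac with hp
  have hpp : p.Prime := Nat.minFac_prime h1.ne'
  have hpd : p ∣ Nat.card G := Nat.minFac_dvd _
  -- a prime r ≠ p dividing |G|
  have hex : ∃ r : ℕ, r.Prime ∧ r ∣ Nat.card G ∧ r ≠ p := by
    by_contra hcon
    push_neg at hcon
    apply hnp
    have := Nat.eq_prime_pow_of_unique_prime_dvd (p := p) Nat.card_pos.ne'
      (fun {d} hd hdd => hcon d hd hdd)
    exact IsPGroup.of_card this
  obtain ⟨r, hr, hrd, hrp⟩ := hex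
  -- largest prime q
  have hne : (Nat.card G).primeFactors.Nonempty := by
    rw [Nat.nonempty_primeFactors]; exact h1
  set q := (Nat.card G).primeFactors.max' hne with hq
  have hqm : q ∈ (Nat.card G).primeFactors := Finset.max'_mem _ hne
  obtain ⟨hqp, hqd, -⟩ := Nat.mem_primeFactors.mp hqm
  have hmax : ∀ t : ℕ, t.Prime → t ∣ Nat.card G → t ≤ q := by
    intro t ht htd
    exact Finset.le_max' _ t (Nat.mem_primeFactors.mpr ⟨ht, htd, Nat.card_pos.ne'⟩)
  have hpq : p < q := by
    have h2 : p ≤ r := Nat.minFac_le_of_dvd hr.two_le hrd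
    have h3 : r ≤ q := hmax r hr hrd
    have : p < r := lt_of_le_of_ne h2 (Ne.symm hrp)
    omega
  haveI : Fact q.Prime := ⟨hqp⟩
  -- M of index p
  obtain ⟨m', hm'⟩ := hpd
  obtain ⟨M, -, hMc⟩ := h ⊤ m' (by rw [Subgroup.card_top, hm']; exact Dvd.intro_left p rfl)
  have hm'pos : 0 < m' := by
    rcases Nat.eq_zero_or_pos m' with h0 | h0
    · rw [h0, mul_zero] at hm'; omega
    · exact h0
  have hMidx : M.index = p := by
    have := Subgroup.card_mul_index M
    rw [hMc, hm', mul_comm] at this
    exact Nat.eq_of_mul_eq_mul_right hm'pos this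
  haveI hMn : M.Normal := Subgroup.normal_of_index_eq_minFac_card hMidx
  have hMtop : M ≠ ⊤ := by
    rintro rfl
    rw [Subgroup.index_top] at hMidx
    exact hpp.one_lt.ne hMidx
  have hMss : IsSupersolvable M := hsub M hMtop
  have hcop_pq : Nat.Coprime q p := (Nat.coprime_primes hqp hpp).mpr hpq.ne'
  have hmaxM : ∀ t : ℕ, t.Prime → t ∣ Nat.card M → t ≤ q := by
    intro t ht htd
    apply hmax t ht
    rw [hm', ← hMc]; exact Dvd.dvd.mul_left htd p
  obtain ⟨Q', hQ'n, hQ'c⟩ := exists_normal_sylow_largest_prime hMss q hqp hmaxM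
  let P : Sylow q M := Sylow.ofCard Q' hQ'c
  have hPQ : (P : Subgroup M) = Q' := Sylow.coe_ofCard Q' hQ'c
  haveI hchar : (Q' : Subgroup M).Characteristic := by
    rw [← hPQ]
    exact Sylow.characteristic_of_normal P (by rw [hPQ]; exact hQ'n)
  set Q : Subgroup G := Q'.map M.subtype with hQ
  haveI hQn : Q.Normal := ConjAct.normal_of_characteristic_of_normal
  have hQc : Nat.card Q = q ^ (Nat.card M).factorization q := by
    rw [hQ, Subgroup.card_map_of_injective M.subtype_injective, hQ'c]
  have hqM : q ∣ Nat.card M := by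
    rw [hm', ← hMc] at hqd
    exact hcop_pq.dvd_of_dvd_mul_left hqd
  have hfac : (Nat.card M).factorization q ≠ 0 := by
    have := (hqp.dvd_iff_one_le_factorization Nat.card_pos.ne').mp hqM
    omega
  have hQpg : IsPGroup q Q := IsPGroup.of_card hQc
  have hQnt : Nontrivial Q := by
    rw [← Finite.one_lt_card_iff_nontrivial, hQc]
    exact Nat.one_lt_pow hfac hqp.one_lt
  have hcop : (Nat.card Q).Coprime Q.index := by
    rw [hQc]
    apply Nat.Coprime.pow_left
    rw [Nat.Prime.coprime_iff_not_dvd hqp]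
    intro hdiv
    have h5 := Subgroup.card_mul_index Q
    rw [hQc, hm', ← hMc] at h5
    have h6 : q ^ ((Nat.card M).factorization q + 1) ∣ p * Nat.card M := by
      rw [← h5, pow_succ]
      exact Nat.mul_dvd_mul_left _ hdiv
    have h7 : q ^ ((Nat.card M).factorization q + 1) ∣ Nat.card M :=
      (Nat.Coprime.pow_left _ hcop_pq).dvd_of_dvd_mul_left h6
    exact Nat.pow_succ_factorization_not_dvd Nat.card_pos.ne' hqp h7
  obtain ⟨N, hNn, hNc⟩ := core h q Q hQpg hQnt hcop
  exact ⟨N, hNn, by rw [hNc]; exact hqp⟩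

theorem main : ∀ (n : ℕ) (G : Type u) [Group G] [Finite G], Nat.card G = n → HC G →
    IsSupersolvable G := by
  intro n
  induction n using Nat.strong_induction_on with
  | _ n ih =>
    intro G _ _ hn h
    by_cases htriv : Subsingleton G
    · exact isSupersolvable_of_subsingleton
    · rw [not_subsingleton_iff_nontrivial] at htriv
      have h1 : 1 < Nat.card G := Finite.one_lt_card_iff_nontrivial.mpr htriv
      by_cases hpg : IsPGroup (Nat.card G).minFac G
      · haveI : Fact (Nat.card G).minFac.Prime := ⟨Nat.minFac_prime h1.ne'⟩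
        exact isSupersolvable_of_isPGroup _ hpg
      · have hsub : ∀ M : Subgroup G, M ≠ ⊤ → IsSupersolvable M := by
          intro M hM
          have hlt : Nat.card M < n := by
            rw [← hn]
            have h2 := Subgroup.card_mul_index M
            have h3 : M.index ≠ 1 := fun h => hM (Subgroup.index_eq_one.mp h)
            have h4 : 0 < M.index := Nat.pos_of_ne_zero Subgroup.index_ne_zero_of_finite
            have h5 : 0 < Nat.card M := Nat.card_pos
            rw [← h2]
            have : 2 ≤ M.index := by omega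
            nlinarith
          exact ih _ hlt M rfl (h.subgroup M)
        obtain ⟨N, hNn, hNp⟩ := exists_normal_prime h hsub hpg h1
        haveI := hNn
        have hcard : Nat.card G = Nat.card (G ⧸ N) * Nat.card N :=
          card_eq_card_quotient_mul_card N
        have hpos : 0 < Nat.card (G ⧸ N) := Nat.card_pos
        have hlt : Nat.card (G ⧸ N) < n := by
          rw [← hn, hcard]
          have := hNp.one_lt
          nlinarith
        have hQ := ih _ hlt (G ⧸ N) rfl (h.quotient N hNp)
        refine isSupersolvable_of_extension (QuotientGroup.mk' N)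
          (QuotientGroup.mk'_surjective N) ?_ hQ
        rw [QuotientGroup.ker_mk']
        haveI : Fact (Nat.card N).Prime := ⟨hNp⟩
        haveI : IsCyclic N := isCyclic_of_prime_card rfl
        exact ssReach_of_cyclic_normal N

/-- If every subgroup of a finite group has subgroups of all orders dividing its order, then the group is supersolvable. -/
theorem result {G : Type*} [Group G] [Finite G] (h : ∀ H : Subgroup G, Cfsg.HasSubgroupOfEveryOrder H) : Cfsg.IsSupersolvable G :=
  main (Nat.card G) G rfl (hc_of_hyp h)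

end Cfsg.Agent.S0533
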