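import Cfsg.Statements.S0534
import Mathlib
import Cfsg.Agent.S0531
import Cfsg.Agent.Lib.Lead.HallThm4

set_option autoImplicit false
open Cfsg

namespace Cfsg.Agent.S0534


open Cfsg.Agent.Lib.Helper2 Cfsg.Agent.Lib.Lead

universe u

theorem isSupersolvable_of_comm_aux : ∀ (n : ℕ) (A : Type u) [CommGroup A] [Finite A],
    Nat.card A = n → Cfsg.IsSupersolvable A := by
  intro n
  induction n using Nat.strong_induction_on with
  | _ n ih =>
  intro A _ _ hn
  by_cases htriv : Subsingleton A
  · exact isSupersolvable_of_subsingleton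
  · rw [not_subsingleton_iff_nontrivial] at htriv
    obtain ⟨z, hz⟩ := exists_ne (1 : A)
    haveI : (Subgroup.zpowers z).Normal := inferInstance
    apply isSupersolvable_of_quotient_zpowers z
    apply ih _ _ (A ⧸ Subgroup.zpowers z) rfl
    rw [← hn, Subgroup.card_eq_card_quotient_mul_card_subgroup (Subgroup.zpowers z)]
    have h1 : 1 < Nat.card (Subgroup.zpowers z) := by
      have h0 : Nat.card (Subgroup.zpowers z) ≠ 1 := by
        rw [Ne, Subgroup.card_eq_one, Subgroup.zpowers_eq_bot]; exact hz
      have : 0 < Nat.card (Subgroup.zpowers z) := Nat.card_pos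
      omega
    have h0 : 0 < Nat.card (A ⧸ Subgroup.zpowers z) := Nat.card_pos
    nlinarith

theorem comm_hasSubgroupOfEveryOrder (A : Type u) [CommGroup A] [Finite A] (d : ℕ)
    (hd : d ∣ Nat.card A) : ∃ H : Subgroup A, Nat.card H = d :=
  Cfsg.Agent.S0531.result (isSupersolvable_of_comm_aux _ A rfl) d hd

theorem fact_prod_pow (n d : ℕ) (p : ℕ) :
    (∏ x ∈ n.primeFactors.filter (fun p => p ^ n.factorization p ∣ d), x ^ n.factorization x).factorization p
      = if p ∈ n.primeFactors.filter (fun p => p ^ n.factorization p ∣ d) then n.factorization p else 0 := by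
  rw [Nat.factorization_prod]
  · rw [Finsupp.finsetSum_apply]
    have : ∀ x ∈ n.primeFactors.filter (fun p => p ^ n.factorization p ∣ d),
        (x ^ n.factorization x).factorization p = if x = p then n.factorization p else 0 := by
      intro x hx
      have hxp : x.Prime := Nat.prime_of_mem_primeFactors (Finset.mem_filter.mp hx).1
      rw [hxp.factorization_pow, Finsupp.single_apply]
      split_ifs with h
      · rw [h]
      · rfl
    rw [Finset.sum_congr rfl this, Finset.sum_ite_eq']
  · intro x hx
    have hxp : x.Prime := Nat.prime_of_mem_primeFactors (Finset.mem_filter.mp hx).1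
    exact pow_ne_zero _ hxp.ne_zero

theorem arith (n m d : ℕ) (hn : n ≠ 0) (hm : m ≠ 0)
    (hexp : ∀ p : ℕ, p.Prime → p ∣ n → m.factorization p + 1 = n.factorization p)
    (hd : d ∣ n * m) :
    ∃ h : ℕ, h ∣ n ∧ h.Coprime (n / h) ∧ h ∣ d ∧ (d / h) ∣ m := by
  classical
  set π := n.primeFactors.filter (fun p => p ^ n.factorization p ∣ d) with hπ
  set h := ∏ x ∈ π, x ^ n.factorization x with hh
  have hd0 : d ≠ 0 := by
    rintro rfl
    rw [zero_dvd_iff] at hd
    exact mul_ne_zero hn hm hd
  have hfac : ∀ p, h.factorization p = if p ∈ π then n.factorization p else 0 := fact_prod_pow n d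
  have hh0 : h ≠ 0 := by
    rw [hh, Finset.prod_ne_zero_iff]
    intro x hx
    exact pow_ne_zero _ (Nat.prime_of_mem_primeFactors (Finset.mem_filter.mp hx).1).ne_zero
  have hhn : h ∣ n := by
    rw [← Nat.factorization_le_iff_dvd hh0 hn]
    intro p
    rw [hfac]
    split_ifs <;> simp
  have hhd : h ∣ d := by
    rw [← Nat.factorization_le_iff_dvd hh0 hd0]
    intro p
    rw [hfac]
    split_ifs with hp
    · have hpp : p.Prime := Nat.prime_of_mem_primeFactors (Finset.mem_filter.mp hp).1
      exact (hpp.pow_dvd_iff_le_factorization hd0).mp (Finset.mem_filter.mp hp).2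
    · exact Nat.zero_le _
  refine ⟨h, hhn, ?_, hhd, ?_⟩
  · apply Nat.coprime_of_dvd
    intro k hk hkh hknh
    have h1 : 0 < h.factorization k := hk.factorization_pos_of_dvd hh0 hkh
    rw [hfac] at h1
    have hkπ : k ∈ π := by
      by_contra hcon
      rw [if_neg hcon] at h1
      exact lt_irrefl _ h1
    have hnh0 : n / h ≠ 0 := by
      intro h0
      rw [h0] at hknh
      have := Nat.div_mul_cancel hhn
      rw [h0, zero_mul] at this
      exact hn this.symm
    have h2 : 0 < (n / h).factorization k := hk.factorization_pos_of_dvd hnh0 hknh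
    rw [Nat.factorization_div hhn, Finsupp.tsub_apply, hfac, if_pos hkπ, Nat.sub_self] at h2
    exact lt_irrefl _ h2
  · have hdh0 : d / h ≠ 0 := by
      intro h0
      have := Nat.div_mul_cancel hhd
      rw [h0, zero_mul] at this
      exact hd0 this.symm
    rw [← Nat.factorization_le_iff_dvd hdh0 hm]
    intro p
    rw [Nat.factorization_div hhd, Finsupp.tsub_apply, hfac]
    have hle : d.factorization p ≤ n.factorization p + m.factorization p := by
      have := (Nat.factorization_le_iff_dvd hd0 (mul_ne_zero hn hm)).mpr hd p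
      rwa [Nat.factorization_mul hn hm, Finsupp.add_apply] at this
    by_cases hpn : p.Prime ∧ p ∣ n
    · obtain ⟨hpp, hpd⟩ := hpn
      have he := hexp p hpp hpd
      split_ifs with hp
      · omega
      · have hpmem : p ∈ n.primeFactors := Nat.mem_primeFactors.mpr ⟨hpp, hpd, hn⟩
        have hnd : ¬ p ^ n.factorization p ∣ d := fun hcon => hp (Finset.mem_filter.mpr ⟨hpmem, hcon⟩)
        rw [hpp.pow_dvd_iff_le_factorization hd0] at hnd
        omega
    · have hn0 : n.factorization p = 0 := by
        by_cases hpp : p.Prime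
        · exact Nat.factorization_eq_zero_of_not_dvd (fun hcon => hpn ⟨hpp, hcon⟩)
        · exact Nat.factorization_eq_zero_of_not_prime n hpp
      split_ifs <;> omega

/-- Let G be a finite solvable group and A a finite abelian group such that every prime dividing the order of A divides the order of G and, for each prime p dividing the order of G, the exponent of p in the order of A is one less than its exponent in the order of G. Then G × A has a subgroup of every order dividing its order. -/
theorem result {G A : Type*} [Group G] [CommGroup A] [Finite G] [Finite A] [Group.IsSolvable G] (hA : ∀ p : ℕ, p.Prime → p ∣ Nat.card A → p ∣ Nat.card G) (hexp : ∀ p : ℕ, p.Prime → p ∣ Nat.card G → (Nat.card A).factorization p + 1 = (Nat.card G).factorization p) : Cfsg.HasSubgroupOfEveryOrder (G × A) := by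
  intro d hd
  rw [Nat.card_prod] at hd
  obtain ⟨h, hhn, hcop, hhd, hdm⟩ := arith (Nat.card G) (Nat.card A) d Nat.card_pos.ne'
    Nat.card_pos.ne' hexp hd
  obtain ⟨H₀, hH₀, -⟩ := (hallProp_of_solvable G h (Nat.card G / h)
    (Nat.mul_div_cancel' hhn).symm hcop).2 ⊥
    (by rw [Subgroup.card_bot]; exact Nat.coprime_one_left _)
  obtain ⟨A₀, hA₀⟩ := comm_hasSubgroupOfEveryOrder A (d / h) hdm
  refine ⟨H₀.prod A₀, ?_⟩
  rw [Nat.card_congr (Subgroup.prodEquiv H₀ A₀).toEquiv, Nat.card_prod, hH₀, hA₀,
    Nat.mul_div_cancel' hhd]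

end Cfsg.Agent.S0534
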