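import Cfsg.Statements.S0535
import Mathlib
import Cfsg.Agent.S0006
import Cfsg.Agent.Lib.Lead.SylowSystem

set_option autoImplicit false
open Cfsg

namespace Cfsg.Agent.S0535


theorem main_aux {G : Type*} [Group G] [Finite G] (h : ∀ H : Subgroup G, H ≠ ⊥ → ∀ p : ℕ, p.Prime → p ∣ Nat.card H → ∃ K : Subgroup H, K ≠ ⊤ ∧ ∃ k : ℕ, K.index = p ^ k) :
    ∀ (n : ℕ) (H : Subgroup G), Nat.card H = n → Group.IsSolvable H := by
  intro n
  induction n using Nat.strong_induction_on with
  | _ n ih =>
  intro H hcard
  by_cases hH : H = ⊥
  · subst hH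
    infer_instance
  · apply Cfsg.Agent.S0006.result
    intro p hp
    by_cases hpd : p ∣ Nat.card H
    · obtain ⟨K, hKtop, k, hKk⟩ := h H hH p hp hpd
      have hKH : Nat.card K * K.index = Nat.card H := K.card_mul_index
      have hidx : K.index ≠ 1 := by
        rw [Ne, Subgroup.index_eq_one]; exact hKtop
      have hk0 : k ≠ 0 := by
        rintro rfl
        rw [pow_zero] at hKk
        exact hidx hKk
      have hlt : Nat.card (K.map H.subtype) < n := by
        rw [Subgroup.card_map_of_injective H.subtype_injective, ← hcard, ← hKH]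
        have h1 : 0 < Nat.card K := Nat.card_pos
        have h2 : 2 ≤ K.index := by
          have h0 : K.index ≠ 0 := by rw [hKk]; exact pow_ne_zero _ hp.ne_zero
          omega
        nlinarith
      haveI : Group.IsSolvable (K.map H.subtype) := ih _ hlt _ rfl
      haveI : Group.IsSolvable K :=
        Group.isSolvable_of_isSolvable_injective (f := (K.equivMapOfInjective H.subtype H.subtype_injective).toMonoidHom) (K.equivMapOfInjective H.subtype H.subtype_injective).injective
      obtain ⟨Q, hQ⟩ := Cfsg.Agent.Lib.Lead.exists_hall_complement (G := K) p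
      refine ⟨Q.map K.subtype, ?_⟩
      rw [Subgroup.index_map_subtype, hQ, hKk, ← pow_add, ← hKH, hKk]
      congr 1
      rw [Nat.factorization_mul Nat.card_pos.ne' (pow_ne_zero _ hp.ne_zero), Finsupp.add_apply,
        hp.factorization_pow, Finsupp.single_eq_same]
    · refine ⟨⊤, ?_⟩
      rw [Subgroup.index_top, Nat.factorization_eq_zero_of_not_dvd hpd, pow_zero]

/-- Suppose that for every nontrivial subgroup H of a finite group and every prime p dividing the order of H there is a proper subgroup of H whose index in H is a power of p. Then the group is solvable. -/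
theorem result {G : Type*} [Group G] [Finite G] (h : ∀ H : Subgroup G, H ≠ ⊥ → ∀ p : ℕ, p.Prime → p ∣ Nat.card H → ∃ K : Subgroup H, K ≠ ⊤ ∧ ∃ k : ℕ, K.index = p ^ k) : Group.IsSolvable G := by
  haveI := main_aux h _ ⊤ rfl
  exact Group.isSolvable_of_isSolvable_injective (f := (Subgroup.topEquiv (G := G)).symm.toMonoidHom) (Subgroup.topEquiv (G := G)).symm.injective

end Cfsg.Agent.S0535
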