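import Cfsg.Statements.S0537
import Mathlib
import Cfsg.Agent.Lib.Helper2.Schmidt3

set_option autoImplicit false
open Cfsg

namespace Cfsg.Agent.S0537

/-- A finite non-abelian group in which every proper subgroup is abelian is either of prime-power order, or is generated by a cyclic Sylow p-subgroup and a normal Sylow q-subgroup that is elementary abelian, for distinct primes p and q. -/
theorem result {G : Type*} [Group G] [Finite G] (hna : ¬ IsMulCommutative G) (h : ∀ H : Subgroup G, H ≠ ⊤ → IsMulCommutative H) : (∃ p : ℕ, p.Prime ∧ IsPGroup p G) ∨ ∃ p q : ℕ, p.Prime ∧ q.Prime ∧ p ≠ q ∧ ∃ (P : Sylow p G) (Q : Sylow q G), IsCyclic P ∧ (Q : Subgroup G).Normal ∧ Cfsg.IsElementaryAbelian q (Q : Subgroup G) ∧ (P : Subgroup G) ⊔ Q = ⊤ := by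
  by_cases hnil : Group.IsNilpotent G
  · left
    by_contra hcon
    apply hna
    apply Cfsg.Agent.Lib.Helper2.Schmidt.isMulCommutative_of_nilpotent_of_sylow_comm
    intro r hr R
    apply h
    intro hR
    apply hcon
    refine ⟨r, hr.out, ?_⟩
    intro g
    obtain ⟨k, hk⟩ := R.isPGroup' ⟨g, by rw [hR]; trivial⟩
    exact ⟨k, congrArg Subtype.val hk⟩
  · right
    have hG : Cfsg.IsMinimalNonNilpotent G :=
      ⟨hnil, fun H hH => Cfsg.Agent.Lib.Helper2.Schmidt.isNilpotent_of_isMulCommutative (h H hH)⟩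
    obtain ⟨p, q, hp, hq, hpq, P, Q, h1, h2, h3, h4⟩ :=
      Cfsg.Agent.Lib.Helper2.Schmidt.schmidt_structure hG
    haveI : Fact p.Prime := ⟨hp⟩
    haveI : Fact q.Prime := ⟨hq⟩
    have h5 := Cfsg.Agent.Lib.Helper2.Schmidt.elementary_of_minimal_nonabelian h hpq P Q h2 h3 h4
    exact ⟨p, q, hp, hq, hpq, P, Q, h1, h2, h5.1, h3⟩

end Cfsg.Agent.S0537
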