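import Cfsg.Statements.S0540
import Mathlib
import Cfsg.Agent.Lib.Helper2.WielandtFamily

set_option autoImplicit false
open Pointwise
open Cfsg

namespace Cfsg.Agent.S0540

open Cfsg.Agent.Lib.Helper2 Cfsg.Agent.Lib.Helper7

/-- A family closed under conjugation by `L` has its join normalized by `L`. -/
theorem le_normalizer_sSup {G : Type*} [Group G] [Finite G] (L : Subgroup G)
    (S : Set (Subgroup G)) (hconj : ∀ U ∈ S, ∀ g ∈ L, cj g U ∈ S) :
    L ≤ Subgroup.normalizer ((sSup S : Subgroup G) : Set G) := by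
  intro g hg
  rw [mem_normalizer_iff_cj]
  apply cj_eq_of_le
  unfold cj
  rw [Subgroup.map_le_iff_le_comap]
  apply sSup_le
  intro U hU
  rw [← Subgroup.map_le_iff_le_comap]
  exact le_sSup (hconj U hU g hg)

/-- A uniqueness lemma of zipper type. Let A be a subgroup of a finite group G and U a nonempty family of subgroups. For V in U write S(V) for the set of conjugates of A that lie in V and are subnormal in V. Assume: A belongs to S(V) for every V in U; a member of some S(W) that lies in V belongs to S(V); and for all V, W in U the normalizer of the join of S(V) ∩ S(W) lies in some member of U. Then U has a greatest element. -/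
theorem result {G : Type*} [Group G] [Finite G] (A : Subgroup G) (U : Set (Subgroup G)) (hU : U.Nonempty) (S : Subgroup G → Set (Subgroup G)) (hS : ∀ V B : Subgroup G, B ∈ S V ↔ (∃ g : G, B = MulAut.conj g • A) ∧ B ≤ V ∧ (B.subgroupOf V).IsSubnormal) (h1 : ∀ V ∈ U, A ∈ S V) (h2 : ∀ V ∈ U, ∀ W ∈ U, ∀ B ∈ S W, B ≤ V → B ∈ S V) (h3 : ∀ V ∈ U, ∀ W ∈ U, ∃ X ∈ U, Subgroup.normalizer ((sSup (S V ∩ S W) : Subgroup G) : Set G) ≤ X) : ∃ M ∈ U, ∀ V ∈ U, V ≤ M := by
  classical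
  -- basic properties of the families `S V`
  have hsub : ∀ V B : Subgroup G, B ∈ S V → SubnIn B V := by
    intro V B hB
    rw [hS] at hB
    exact subnIn_iff.mpr ⟨hB.2.1, hB.2.2⟩
  have hconj : ∀ V B : Subgroup G, B ∈ S V → ∀ g ∈ V, cj g B ∈ S V := by
    intro V B hB g hg
    have hBV := hsub V B hB
    rw [hS] at hB ⊢
    obtain ⟨⟨g₀, hg₀⟩, -, -⟩ := hB
    have h1 : SubnIn (cj g B) V := by
      have := hBV.conj g
      rwa [cj_eq_self_of_mem hg] at this
    refine ⟨⟨g * g₀, ?_⟩, h1.le, (subnIn_iff.mp h1).2⟩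
    rw [hg₀, map_mul, mul_smul]
    rfl
  -- maximal elements
  set Mx : Subgroup G → Prop := fun M => M ∈ U ∧ ∀ W ∈ U, M ≤ W → W = M with hMx
  have hexmax : ∀ V ∈ U, ∃ M, Mx M ∧ V ≤ M := by
    intro V hV
    obtain ⟨M, hM⟩ := exists_maximal_of_wellFoundedGT (fun W => W ∈ U ∧ V ≤ W) ⟨V, hV, le_rfl⟩
    refine ⟨M, ⟨hM.prop.1, ?_⟩, hM.prop.2⟩
    intro W hW hMW
    exact le_antisymm (hM.le_of_ge ⟨hW, hM.prop.2.trans hMW⟩ hMW) hMW
  -- uniqueness of the maximal element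
  have huniq : ∀ M₁ M₂ : Subgroup G, Mx M₁ → Mx M₂ → M₁ = M₂ := by
    by_contra hcon
    push_neg at hcon
    set P : Set (Subgroup G × Subgroup G) := {q | Mx q.1 ∧ Mx q.2 ∧ q.1 ≠ q.2} with hP
    have hPne : P.Nonempty := by
      obtain ⟨M₁, M₂, h1', h2', h3'⟩ := hcon
      exact ⟨(M₁, M₂), h1', h2', h3'⟩
    obtain ⟨⟨M₁, M₂⟩, ⟨hM₁, hM₂, hne⟩, hmax'⟩ :=
      Set.exists_max_image P (fun q => (S q.1 ∩ S q.2).ncard) (Set.toFinite P) hPne
    have hmax : ∀ M M' : Subgroup G, Mx M → Mx M' → M ≠ M' →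
        (S M ∩ S M').ncard ≤ (S M₁ ∩ S M₂).ncard := fun M M' hM hM' hMM' =>
      hmax' (M, M') ⟨hM, hM', hMM'⟩
    simp only [] at hM₁ hM₂ hne
    set Sg := S M₁ ∩ S M₂ with hSg
    obtain ⟨X, hXU, hX⟩ := h3 M₁ hM₁.1 M₂ hM₂.1
    obtain ⟨M₃, hM₃, hXM₃⟩ := hexmax X hXU
    have hDle : ∀ B ∈ Sg, B ≤ M₃ := fun B hB =>
      (le_sSup hB).trans ((Subgroup.le_normalizer).trans (hX.trans hXM₃))
    have key : ∀ M : Subgroup G, Mx M → Sg ⊆ S M → M = M₃ := by
      intro M hM hSgM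
      by_contra hne3
      by_cases hEq : Sg = S M
      · have h4 : M ≤ Subgroup.normalizer ((sSup Sg : Subgroup G) : Set G) := by
          rw [hEq]
          exact le_normalizer_sSup M (S M) (fun B hB g hg => hconj M B hB g hg)
        exact hne3 (hM.2 M₃ hM₃.1 (h4.trans (hX.trans hXM₃))).symm
      · have hlt : Sg ⊂ S M := lt_of_le_of_ne hSgM hEq
        obtain ⟨B, hBM, hBSg, hBN⟩ := exists_normalizing_member M (S M) Sg
          (fun B hB => hsub M B hB) (fun B hB g hg => hconj M B hB g hg) hlt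
        have hBM₃ : B ∈ S M₃ := h2 M₃ hM₃.1 M hM.1 B hBM (hBN.trans (hX.trans hXM₃))
        have hss : Sg ⊂ S M ∩ S M₃ := by
          refine ⟨fun B' hB' => ⟨hSgM hB', ?_⟩, fun h => hBSg (h ⟨hBM, hBM₃⟩)⟩
          exact h2 M₃ hM₃.1 M₁ hM₁.1 B' hB'.1 (hDle B' hB')
        have h5 := Set.ncard_lt_ncard hss (Set.toFinite _)
        have h6 := hmax M M₃ hM hM₃ hne3
        omega
    have e1 := key M₁ hM₁ Set.inter_subset_left
    have e2 := key M₂ hM₂ Set.inter_subset_right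
    exact hne (e1.trans e2.symm)
  obtain ⟨V₀, hV₀⟩ := hU
  obtain ⟨M, hM, -⟩ := hexmax V₀ hV₀
  refine ⟨M, hM.1, ?_⟩
  intro V hV
  obtain ⟨M', hM', hVM'⟩ := hexmax V hV
  rw [huniq M M' hM hM']
  exact hVM'

end Cfsg.Agent.S0540
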