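import Cfsg.Statements.S0541
import Mathlib
import Cfsg.Agent.Lib.Helper2.Basic
import Cfsg.Agent.Lib.Lead.CoprimeSylow4

set_option autoImplicit false
open Pointwise
open Cfsg

namespace Cfsg.Agent.S0541

open Cfsg.Agent.Lib.Lead Cfsg.Agent.Lib.Helper2

section Aux

variable {G : Type*} [Group G]

/-- the subgroup generated by the conjugates of `Z` contained in `R` -/
def WW (Z R : Subgroup G) : Subgroup G :=
  ⨆ g ∈ {g : G | MulAut.conj g • Z ≤ R}, MulAut.conj g • Z

theorem WW_le (Z R : Subgroup G) : WW Z R ≤ R := iSup₂_le (fun _ hg => hg)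

theorem le_WW {Z R : Subgroup G} {g : G} (h : MulAut.conj g • Z ≤ R) :
    MulAut.conj g • Z ≤ WW Z R :=
  le_iSup₂ (f := fun (g : G) (_ : g ∈ {g : G | MulAut.conj g • Z ≤ R}) => MulAut.conj g • Z) g h

theorem WW_le_iff {Z R Q : Subgroup G} :
    WW Z R ≤ Q ↔ ∀ g : G, MulAut.conj g • Z ≤ R → MulAut.conj g • Z ≤ Q := iSup₂_le_iff

theorem WW_mono {Z R R' : Subgroup G} (h : R ≤ R') : WW Z R ≤ WW Z R' :=
  WW_le_iff.mpr (fun _ hg => le_WW (hg.trans h))

theorem smul_WW_le {Z R Q' : Subgroup G} (x : G)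
    (h : ∀ g : G, MulAut.conj g • Z ≤ MulAut.conj x • R → MulAut.conj g • Z ≤ Q') :
    MulAut.conj x • WW Z R ≤ Q' := by
  rw [Subgroup.pointwise_smul_subset_iff, WW_le_iff]
  intro g hg
  rw [← Subgroup.pointwise_smul_subset_iff, ← mul_smul, ← map_mul]
  apply h
  rw [map_mul, mul_smul]
  exact Subgroup.pointwise_smul_le_pointwise_smul_iff.mpr hg

theorem le_normalizer_of_conj_le [Finite G] (Y T : Subgroup G)
    (h : ∀ y ∈ Y, MulAut.conj y • T ≤ T) : Y ≤ Subgroup.normalizer (T : Set G) := by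
  intro y hy
  rw [mem_normalizer_iff_conj_smul]
  exact Subgroup.eq_of_le_of_card_ge (h y hy) (card_conj_smul y T).ge

end Aux

/-- Let Z and Y be subgroups of a finite group G and p a prime. Suppose that for every g in G the subgroup generated by the conjugates of g Z g⁻¹ under Y is a p-group. Then there is a Sylow p-subgroup P of G such that Y normalizes the subgroup generated by all conjugates of Z contained in P. -/
theorem result {G : Type*} [Group G] [Finite G] (p : ℕ) [Fact p.Prime] (Z Y : Subgroup G) (h : ∀ g : G, IsPGroup p ↥(⨆ y ∈ Y, MulAut.conj (y * g) • Z)) : ∃ P : Sylow p G, Y ≤ Subgroup.normalizer ((⨆ g ∈ {g : G | MulAut.conj g • Z ≤ (P : Subgroup G)}, MulAut.conj g • Z : Subgroup G) : Set G) := by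
  classical
  set Pr : Subgroup G → Prop := fun Q =>
    IsPGroup p Q ∧ Y ≤ Subgroup.normalizer (Q : Set G) ∧ WW Z Q = Q with hPr
  have hT : ∀ g : G, Pr (⨆ y ∈ Y, MulAut.conj (y * g) • Z) := by
    intro g
    refine ⟨h g, ?_, ?_⟩
    · apply le_normalizer_of_conj_le
      intro y' hy'
      rw [Subgroup.pointwise_smul_subset_iff]
      apply iSup₂_le
      intro y hy
      rw [← Subgroup.pointwise_smul_subset_iff, ← mul_smul, ← map_mul, ← mul_assoc]
      exact le_iSup₂ (f := fun (y : G) (_ : y ∈ Y) => MulAut.conj (y * g) • Z) (y' * y)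
        (Y.mul_mem hy' hy)
    · apply le_antisymm (WW_le _ _)
      apply iSup₂_le
      intro y hy
      exact le_WW (le_iSup₂ (f := fun (y : G) (_ : y ∈ Y) => MulAut.conj (y * g) • Z) y hy)
  obtain ⟨Q, hQ⟩ := exists_maximal_of_wellFoundedGT Pr ⟨_, hT 1⟩
  obtain ⟨hQp, hQY, hQW⟩ := hQ.prop
  obtain ⟨P, hQP⟩ := hQp.exists_le_sylow
  refine ⟨P, ?_⟩
  have hPp : IsPGroup p (P : Subgroup G) := P.isPGroup'
  have hWP : WW Z (P : Subgroup G) = Q := by
    apply le_antisymm _ (hQW ▸ WW_mono hQP)
    by_contra hnot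
    -- a conjugate of Z normalizing Q but outside Q
    obtain ⟨g, hgP, hgN, hgQ⟩ : ∃ g : G, MulAut.conj g • Z ≤ (P : Subgroup G) ∧
        MulAut.conj g • Z ≤ Subgroup.normalizer (Q : Set G) ∧ ¬ MulAut.conj g • Z ≤ Q := by
      by_cases hn : (P : Subgroup G) ≤ Subgroup.normalizer (Q : Set G)
      · rw [WW_le_iff] at hnot
        push_neg at hnot
        obtain ⟨g, hg1, hg2⟩ := hnot
        exact ⟨g, hg1, hg1.trans hn, hg2⟩
      · have hNP : (P : Subgroup G) ⊓ Subgroup.normalizer (Q : Set G) < (P : Subgroup G) := by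
          refine lt_of_le_of_ne inf_le_left ?_
          intro heq
          exact hn (heq ▸ inf_le_right)
        have hgrow := pgroup_normalizer_grows p (P : Subgroup G) _ hPp hNP
        obtain ⟨x, hx1, hx2⟩ := SetLike.exists_of_lt hgrow
        have hxQ : x ∉ Subgroup.normalizer (Q : Set G) := fun hxn => hx2 ⟨hx1.1, hxn⟩
        have hQxN : MulAut.conj x • Q ≤ (P : Subgroup G) ⊓ Subgroup.normalizer (Q : Set G) := by
          have h1 : MulAut.conj x • Q ≤
              MulAut.conj x • ((P : Subgroup G) ⊓ Subgroup.normalizer (Q : Set G)) :=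
            Subgroup.pointwise_smul_le_pointwise_smul_iff.mpr (le_inf hQP Subgroup.le_normalizer)
          rwa [(mem_normalizer_iff_conj_smul x _).mp hx1.2] at h1
        have hQx : ¬ MulAut.conj x • Q ≤ Q := by
          intro hle
          apply hxQ
          rw [mem_normalizer_iff_conj_smul]
          exact Subgroup.eq_of_le_of_card_ge hle (card_conj_smul x Q).ge
        have hex : ∃ g : G, MulAut.conj g • Z ≤ MulAut.conj x • Q ∧ ¬ MulAut.conj g • Z ≤ Q := by
          by_contra hcon
          push_neg at hcon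
          apply hQx
          have := smul_WW_le (Z := Z) (R := Q) (Q' := Q) x hcon
          rwa [hQW] at this
        obtain ⟨g, hg1, hg2⟩ := hex
        exact ⟨g, (hg1.trans hQxN).trans inf_le_left, (hg1.trans hQxN).trans inf_le_right, hg2⟩
    -- enlarge Q
    obtain ⟨hTp, hTY, hTW⟩ := hT g
    set T := ⨆ y ∈ Y, MulAut.conj (y * g) • Z with hTdef
    have hTN : T ≤ Subgroup.normalizer (Q : Set G) := by
      apply iSup₂_le
      intro y hy
      rw [map_mul, mul_smul]
      have h1 : MulAut.conj y • MulAut.conj g • Z ≤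
          MulAut.conj y • Subgroup.normalizer (Q : Set G) :=
        Subgroup.pointwise_smul_le_pointwise_smul_iff.mpr hgN
      rwa [conj_smul_normalizer, (mem_normalizer_iff_conj_smul y Q).mp (hQY hy)] at h1
    have hgT : MulAut.conj g • Z ≤ T := by
      have := le_iSup₂ (f := fun (y : G) (_ : y ∈ Y) => MulAut.conj (y * g) • Z) 1 Y.one_mem
      rw [one_mul] at this
      exact this
    have hPrQT : Pr (Q ⊔ T) := by
      refine ⟨IsPGroup.to_sup_of_normal_left' hQp hTp hTN, ?_, ?_⟩
      · exact (le_inf hQY hTY).trans (Subgroup.normalizer_inf_normalizer_le_normalizer_sup Q T)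
      · apply le_antisymm (WW_le _ _)
        apply sup_le
        · calc Q = WW Z Q := hQW.symm
            _ ≤ WW Z (Q ⊔ T) := WW_mono le_sup_left
        · calc T = WW Z T := hTW.symm
            _ ≤ WW Z (Q ⊔ T) := WW_mono le_sup_right
    have := hQ.le_of_ge hPrQT le_sup_left
    exact hgQ (hgT.trans (le_sup_right.trans this))
  change Y ≤ Subgroup.normalizer ((WW Z (P : Subgroup G) : Subgroup G) : Set G)
  rw [hWP]
  exact hQY

end Cfsg.Agent.S0541
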