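import Cfsg.Statements.S0542
import Mathlib

set_option autoImplicit false
open Cfsg

namespace Cfsg.Agent.S0542

theorem relIndex_sup_eq {G : Type*} [Group G] [Finite G] (P N : Subgroup G) [N.Normal] :
    P.relIndex (P ⊔ N) = P.relIndex N := by
  have h1 := Subgroup.relIndex_mul_relIndex ⊥ (P ⊓ N) P bot_le inf_le_left
  rw [Subgroup.relIndex_bot_left, Subgroup.relIndex_bot_left, Subgroup.inf_relIndex_left] at h1
  have h2 := Subgroup.relIndex_mul_relIndex ⊥ (P ⊓ N) N bot_le inf_le_right
  rw [Subgroup.relIndex_bot_left, Subgroup.relIndex_bot_left, Subgroup.inf_relIndex_right] at h2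
  have h3 := Subgroup.relIndex_mul_relIndex ⊥ P (P ⊔ N) bot_le le_sup_left
  rw [Subgroup.relIndex_bot_left, Subgroup.relIndex_bot_left] at h3
  have h4 := Subgroup.relIndex_mul_relIndex ⊥ N (P ⊔ N) bot_le le_sup_right
  rw [Subgroup.relIndex_bot_left, Subgroup.relIndex_bot_left] at h4
  have h5 := Subgroup.relIndex_sup_right P N
  have ha : 0 < Nat.card ↥(P ⊓ N) := Nat.card_pos
  have hr : 0 < N.relIndex P := by
    unfold Subgroup.relIndex
    exact Nat.pos_of_ne_zero Subgroup.FiniteIndex.index_ne_zero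
  rw [h5] at h4
  have h6 : Nat.card ↥(P ⊓ N) * N.relIndex P * P.relIndex (P ⊔ N) =
      Nat.card ↥(P ⊓ N) * N.relIndex P * P.relIndex N := by
    calc Nat.card ↥(P ⊓ N) * N.relIndex P * P.relIndex (P ⊔ N)
        = Nat.card ↥(P ⊔ N) := by rw [h1, h3]
      _ = Nat.card ↥(P ⊓ N) * P.relIndex N * N.relIndex P := by rw [h2, h4]
      _ = Nat.card ↥(P ⊓ N) * N.relIndex P * P.relIndex N := by ring
  exact Nat.eq_of_mul_eq_mul_left (Nat.mul_pos ha hr) h6

theorem relIndex_dvd_index_of_normal_right {G : Type*} [Group G] [Finite G] (P N : Subgroup G)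
    [N.Normal] : P.relIndex N ∣ P.index := by
  rw [← relIndex_sup_eq P N]
  exact Subgroup.relIndex_dvd_index_of_le le_sup_left

theorem relIndex_dvd_index_of_isSubnormal {G : Type*} [Group G] [Finite G] (P : Subgroup G)
    {H : Subgroup G} (hH : H.IsSubnormal) : P.relIndex H ∣ P.index := by
  induction hH with
  | top => rw [Subgroup.relIndex_top_right]
  | step H K hle hK hN ih =>
    refine dvd_trans ?_ ih
    haveI := hN
    have := relIndex_dvd_index_of_normal_right (P.subgroupOf K) (H.subgroupOf K)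
    rw [Subgroup.relIndex_subgroupOf hle] at this
    exact this

/-- A Sylow p-subgroup of a finite group meets every subnormal subgroup H in a Sylow p-subgroup of H. -/
theorem result {G : Type*} [Group G] [Finite G] (p : ℕ) [Fact p.Prime] (H : Subgroup G) (hH : H.IsSubnormal) (S : Sylow p G) : ∃ Q : Sylow p H, (Q : Subgroup H) = (S : Subgroup G).subgroupOf H := by
  have h1 : IsPGroup p ((S : Subgroup G).subgroupOf H) :=
    S.isPGroup'.comap_subtype
  have h2 : ¬ p ∣ ((S : Subgroup G).subgroupOf H).index := by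
    intro h
    exact S.not_dvd_index (h.trans (relIndex_dvd_index_of_isSubnormal (S : Subgroup G) hH))
  exact ⟨h1.toSylow h2, IsPGroup.toSylow_coe h1 h2⟩

end Cfsg.Agent.S0542
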