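import Cfsg.Statements.S0544
import Mathlib
import Cfsg.Agent.Lib.Helper2.ComplementSystem

set_option autoImplicit false
open Cfsg

namespace Cfsg.Agent.S0544

open Cfsg.Agent.Lib.Helper2

/-- In a finite solvable group the intersection of the normalizers of the members of a Hall complement system is a nilpotent subgroup. -/
theorem result {G : Type*} [Group G] [Finite G] [Group.IsSolvable G] (K : Nat.Primes → Subgroup G) (hK : Cfsg.IsComplementSystem K) : Group.IsNilpotent (Cfsg.systemNormalizer K) := by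
  set D := Cfsg.systemNormalizer K with hD
  have hDN : ∀ q : Nat.Primes, D ≤ Subgroup.normalizer ((K q : Subgroup G) : Set G) := by
    intro q
    rw [hD]; unfold Cfsg.systemNormalizer
    exact iInf_le _ q
  have hMn : ∀ q : Nat.Primes, ((K q).subgroupOf D).Normal := fun q =>
    Subgroup.normal_subgroupOf_of_le_normalizer (hDN q)
  have hMidx : ∀ q : Nat.Primes, ∃ k : ℕ, ((K q).subgroupOf D).index = (q : ℕ) ^ k := by
    intro q
    have h1 : (K q).relIndex (D ⊔ K q) = (K q).relIndex D :=
      relIndex_sup_right_of_le_normalizer D (K q) (hDN q)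
    have h2 : (K q).relIndex (D ⊔ K q) ∣ (K q).index :=
      Subgroup.relIndex_dvd_index_of_le le_sup_right
    rw [h1, hK q] at h2
    obtain ⟨m, -, hm⟩ := (Nat.dvd_prime_pow q.2).mp h2
    exact ⟨m, hm⟩
  have hq := (Group.isNilpotent_of_finite_tfae (G := D)).out 0 3
  rw [hq]
  intro p hp P
  -- the intersection of the normal q-complements, q ≠ p
  set T : Subgroup D := ⨅ (q : Nat.Primes) (_ : (q : ℕ) ≠ p), (K q).subgroupOf D with hT
  have hTn : T.Normal :=
    Subgroup.normal_iInf_normal fun q => Subgroup.normal_iInf_normal fun _ => hMn q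
  have hPT : (P : Subgroup D) ≤ T := by
    intro x hx
    rw [hT, Subgroup.mem_iInf]
    intro q
    rw [Subgroup.mem_iInf]
    intro hqp
    obtain ⟨k, hk⟩ := hMidx q
    haveI := hMn q
    have h1 : x ^ ((K q).subgroupOf D).index ∈ (K q).subgroupOf D := Subgroup.pow_index_mem _ x
    obtain ⟨j, hj⟩ := (IsPGroup.iff_orderOf.mp P.isPGroup') ⟨x, hx⟩
    rw [Subgroup.orderOf_mk] at hj
    have hcop : (((K q).subgroupOf D).index).Coprime (orderOf x) := by
      rw [hk, hj]
      apply Nat.Coprime.pow
      exact (Nat.coprime_primes q.2 hp.1).mpr hqp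
    obtain ⟨m, hm⟩ := exists_pow_eq_self_of_coprime hcop
    rw [← hm]
    exact Subgroup.pow_mem _ h1 m
  have hTp : IsPGroup p T := by
    rw [IsPGroup.iff_orderOf]
    rintro ⟨x, hx⟩
    rw [Subgroup.orderOf_mk]
    refine ⟨_, Nat.eq_prime_pow_of_unique_prime_dvd (orderOf_pos x).ne' ?_⟩
    intro r hr hrd
    by_contra hrp
    have hxq : x ∈ (K ⟨r, hr⟩).subgroupOf D := by
      rw [hT, Subgroup.mem_iInf] at hx
      have := hx ⟨r, hr⟩
      rw [Subgroup.mem_iInf] at this
      exact this hrp
    rw [Subgroup.mem_subgroupOf] at hxq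
    have h1 : orderOf (x : G) ∣ Nat.card (K ⟨r, hr⟩) := by
      have := orderOf_dvd_natCard (⟨(x : G), hxq⟩ : K ⟨r, hr⟩)
      rwa [Subgroup.orderOf_mk] at this
    rw [Subgroup.orderOf_coe] at h1
    exact IsComplementSystem.not_dvd_card hK ⟨r, hr⟩ (hrd.trans h1)
  have := P.is_maximal' hTp hPT
  rw [← this]
  exact hTn

end Cfsg.Agent.S0544
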