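import Cfsg.Statements.S0546
import Mathlib
import Cfsg.Agent.Lib.Helper2.ComplementSystem

set_option autoImplicit false
open Cfsg

namespace Cfsg.Agent.S0546

open Cfsg.Agent.Lib.Helper2
open scoped commutatorElement

/-- The normal closure of a system normalizer of a finite solvable group is the whole group. -/
theorem result {G : Type*} [Group G] [Finite G] [Group.IsSolvable G] (K : Nat.Primes → Subgroup G) (hK : Cfsg.IsComplementSystem K) : Subgroup.normalClosure ((Cfsg.systemNormalizer K : Subgroup G) : Set G) = ⊤ := by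
  set D := Cfsg.systemNormalizer K with hD
  set M := Subgroup.normalClosure ((D : Subgroup G) : Set G) with hM
  by_contra hMt
  haveI : Nontrivial (G ⧸ M) := (QuotientGroup.nontrivial_iff).mpr hMt
  have hC : commutator (G ⧸ M) < ⊤ := IsSolvable.commutator_lt_top_of_nontrivial (G ⧸ M)
  set M' := (commutator (G ⧸ M)).comap (QuotientGroup.mk' M) with hM'
  haveI : M'.Normal := Subgroup.Normal.comap inferInstance _
  have hMM' : M ≤ M' := le_comap_mk M _
  have hDM' : D ≤ M' := (Subgroup.le_normalClosure).trans hMM'
  have hM't : M' ≠ ⊤ := by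
    intro h
    apply hC.ne
    have := congrArg (Subgroup.map (QuotientGroup.mk' M)) h
    rwa [hM', Subgroup.map_comap_eq_self_of_surjective (QuotientGroup.mk'_surjective M),
      ← MonoidHom.range_eq_map, MonoidHom.range_eq_top.mpr (QuotientGroup.mk'_surjective M)] at this
  -- G/M' is abelian
  have hcomm : ∀ a b : G ⧸ M', a * b = b * a := by
    intro a b
    obtain ⟨x, rfl⟩ := QuotientGroup.mk'_surjective M' a
    obtain ⟨y, rfl⟩ := QuotientGroup.mk'_surjective M' b
    rw [← map_mul, ← map_mul, QuotientGroup.mk'_apply, QuotientGroup.mk'_apply, QuotientGroup.eq]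
    have h1 : ⁅QuotientGroup.mk' M y⁻¹, QuotientGroup.mk' M x⁻¹⁆ ∈ commutator (G ⧸ M) :=
      Subgroup.commutator_mem_commutator (Subgroup.mem_top _) (Subgroup.mem_top _)
    rw [← map_commutatorElement] at h1
    rw [hM', Subgroup.mem_comap]
    convert h1 using 2
    rw [commutatorElement_def]
    group
  have h1 := systemNormalizer_map_mk hK M'
  have h2 : (Cfsg.systemNormalizer K).map (QuotientGroup.mk' M') = ⊥ := by
    rw [← hD, eq_bot_iff]
    rintro _ ⟨d, hd, rfl⟩
    rw [Subgroup.mem_bot, QuotientGroup.mk'_apply, QuotientGroup.eq_one_iff]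
    exact hDM' hd
  have h3 : Cfsg.systemNormalizer (fun p => (K p).map (QuotientGroup.mk' M')) = ⊤ := by
    rw [eq_top_iff]
    intro g _
    unfold Cfsg.systemNormalizer
    rw [Subgroup.mem_iInf]
    intro p
    rw [Subgroup.mem_normalizer_iff]
    intro h
    rw [hcomm g h, mul_inv_cancel_right]
  rw [h2, h3] at h1
  haveI : Nontrivial (G ⧸ M') := (QuotientGroup.nontrivial_iff).mpr hM't
  exact top_ne_bot h1

end Cfsg.Agent.S0546
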