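import Cfsg.Statements.S0548
import Mathlib
import Cfsg.Agent.Lib.Helper2.Primitive

set_option autoImplicit false
open Cfsg

namespace Cfsg.Agent.S0548

open Cfsg.Agent.Lib.Helper2

/-- Let a finite solvable group G act faithfully and primitively on a set, let M be a minimal normal subgroup and H the stabilizer of a point. Then H is a complement to M, no non-identity element of H centralizes M, and the only subgroups of M normalized by H are the trivial subgroup and M. -/
theorem result {G : Type*} [Group G] [Finite G] [Group.IsSolvable G] {Ω : Type*} [MulAction G Ω] [FaithfulSMul G Ω] (hprim : MulAction.IsPreprimitive G Ω) (M : Subgroup G) [M.Normal] (hM : M ≠ ⊥) (hmin : ∀ K : Subgroup G, K.Normal → K ≤ M → K = ⊥ ∨ K = M) (ω : Ω) : Subgroup.IsComplement' M (MulAction.stabilizer G ω) ∧ MulAction.stabilizer G ω ⊓ Subgroup.centralizer (M : Set G) = ⊥ ∧ ∀ K : Subgroup G, K ≤ M → MulAction.stabilizer G ω ≤ Subgroup.normalizer (K : Set G) → K = ⊥ ∨ K = M := by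
  have ht := isPretransitive_of_normal_of_primitive hprim M hM
  have hc := isMulCommutative_of_minNormal_of_solvable M hM hmin
  have hstab := stabilizer_eq_bot_of_transitive_abelian M hc ht
  set H := MulAction.stabilizer G ω with hH
  -- every g is m * h
  have hfact : ∀ g : G, ∃ m ∈ M, ∃ h ∈ H, g = m * h := by
    intro g
    obtain ⟨m, hm⟩ := MulAction.exists_smul_eq M ω (g • ω)
    refine ⟨m, m.2, (m : G)⁻¹ * g, ?_, by group⟩
    rw [hH, MulAction.mem_stabilizer_iff, mul_smul, ← hm]
    change (m : G)⁻¹ • ((m : G) • ω) = ω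
    rw [inv_smul_smul]
  have hdisj : Disjoint M H := by
    rw [Subgroup.disjoint_def]
    intro x hxM hxH
    have : (⟨x, hxM⟩ : M) ∈ MulAction.stabilizer M ω := by
      rw [MulAction.mem_stabilizer_iff]
      exact (MulAction.mem_stabilizer_iff.mp hxH)
    rw [hstab ω, Subgroup.mem_bot] at this
    exact congrArg Subtype.val this
  refine ⟨?_, ?_, ?_⟩
  · apply Subgroup.isComplement'_of_disjoint_and_mul_eq_univ hdisj
    rw [Set.eq_univ_iff_forall]
    intro g
    obtain ⟨m, hm, h, hh, rfl⟩ := hfact g
    exact Set.mul_mem_mul hm hh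
  · rw [eq_bot_iff]
    intro h hh
    obtain ⟨hhH, hhC⟩ := Subgroup.mem_inf.mp hh
    rw [Subgroup.mem_bot]
    apply FaithfulSMul.eq_of_smul_eq_smul (α := Ω)
    intro α
    obtain ⟨m, rfl⟩ := MulAction.exists_smul_eq M ω α
    rw [Subgroup.mem_centralizer_iff] at hhC
    change h • ((m : G) • ω) = (1 : G) • ((m : G) • ω)
    rw [one_smul, ← mul_smul, ← hhC (m : G) m.2, mul_smul, MulAction.mem_stabilizer_iff.mp hhH]
  · intro K hKM hHK
    have hMK : M ≤ Subgroup.normalizer (K : Set G) := by
      intro m hm
      apply mem_normalizer_of_commute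
      intro k hk
      exact (isMulComm_iff M).mp hc m hm k (hKM hk)
    have hn : Subgroup.normalizer (K : Set G) = ⊤ := by
      rw [eq_top_iff]
      intro g _
      obtain ⟨m, hm, h, hh, rfl⟩ := hfact g
      exact Subgroup.mul_mem _ (hMK hm) (hHK hh)
    exact hmin K (Subgroup.normalizer_eq_top_iff.mp hn) hKM

end Cfsg.Agent.S0548
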