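import Cfsg.Statements.S0549
import Mathlib
import Cfsg.Agent.Lib.Helper2.Basic

set_option autoImplicit false
open Cfsg

namespace Cfsg.Agent.S0549

open Cfsg.Agent.Lib.Helper2

/-- a nontrivial normal subgroup together with a core-free maximal subgroup generates -/
lemma sup_eq_top {G : Type*} [Group G] (U : Subgroup G) (hU : IsCoatom U)
    (hcore : U.normalCore = ⊥) (K : Subgroup G) [K.Normal] (hK : K ≠ ⊥) : U ⊔ K = ⊤ := by
  apply hU.2
  refine lt_of_le_of_ne le_sup_left ?_
  intro h
  apply hK
  have : K ≤ U := by rw [h]; exact le_sup_right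
  rw [eq_bot_iff, ← hcore]
  exact Subgroup.normal_le_normalCore.mpr this

/-- Let U be a maximal subgroup of a finite group G whose normal core is trivial, and N a nontrivial normal subgroup with centralizer C. Then C ∩ U = 1, and either C = 1 or C is a minimal normal subgroup of G. -/
theorem result {G : Type*} [Group G] [Finite G] (U : Subgroup G) (hU : IsCoatom U) (hcore : U.normalCore = ⊥) (N : Subgroup G) [N.Normal] (hN : N ≠ ⊥) : Subgroup.centralizer (N : Set G) ⊓ U = ⊥ ∧ (Subgroup.centralizer (N : Set G) = ⊥ ∨ (Subgroup.centralizer (N : Set G) ≠ ⊥ ∧ ∀ K : Subgroup G, K.Normal → K ≤ Subgroup.centralizer (N : Set G) → K = ⊥ ∨ K = Subgroup.centralizer (N : Set G))) := by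
  set C := Subgroup.centralizer (N : Set G) with hC
  haveI : C.Normal := Subgroup.normal_centralizer
  have hUN : U ⊔ N = ⊤ := sup_eq_top U hU hcore N hN
  have h1 : C ⊓ U = ⊥ := by
    -- C ⊓ U is normal
    have hnorm : Subgroup.normalizer ((C ⊓ U : Subgroup G) : Set G) = ⊤ := by
      rw [eq_top_iff, ← hUN]
      apply sup_le
      · refine le_trans ?_ Subgroup.inf_normalizer_le_normalizer_inf
        refine le_inf ?_ Subgroup.le_normalizer
        rw [Subgroup.normalizer_eq_top]; exact le_top
      · intro n hn
        apply mem_normalizer_of_commute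
        intro x hx
        have := (Subgroup.mem_inf.mp hx).1
        rw [hC, Subgroup.mem_centralizer_iff] at this
        exact this n hn
    haveI : (C ⊓ U).Normal := Subgroup.normalizer_eq_top_iff.mp hnorm
    rw [eq_bot_iff, ← hcore]
    exact Subgroup.normal_le_normalCore.mpr inf_le_right
  refine ⟨h1, ?_⟩
  by_cases hCb : C = ⊥
  · exact Or.inl hCb
  · refine Or.inr ⟨hCb, ?_⟩
    intro K hKn hKC
    by_cases hKb : K = ⊥
    · exact Or.inl hKb
    · right
      haveI := hKn
      have hUK : U ⊔ K = ⊤ := sup_eq_top U hU hcore K hKb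
      apply le_antisymm hKC
      intro c hc
      have hc' : c ∈ ((U ⊔ K : Subgroup G) : Set G) := by rw [hUK]; trivial
      rw [Subgroup.mul_normal] at hc'
      obtain ⟨u, hu, k, hk, rfl⟩ := Set.mem_mul.mp hc'
      have hu' : u ∈ C ⊓ U := by
        refine Subgroup.mem_inf.mpr ⟨?_, hu⟩
        have : u = (u * k) * k⁻¹ := by group
        rw [this]
        exact C.mul_mem hc (C.inv_mem (hKC hk))
      rw [h1, Subgroup.mem_bot] at hu'
      rw [hu', one_mul]; exact hk

end Cfsg.Agent.S0549
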