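import Cfsg.Statements.S0550
import Mathlib
import Cfsg.Agent.Lib.Helper2.CoreFree

set_option autoImplicit false
open Cfsg
open scoped commutatorElement

namespace Cfsg.Agent.S0550

open Cfsg.Agent.Lib.Helper2

/-- one half of the statement, symmetric in `A` and `B` -/
lemma half {G : Type*} [Group G] [Finite G] (U : Subgroup G) (hU : IsCoatom U)
    (hcore : U.normalCore = ⊥) (A B : Subgroup G) [hAn : A.Normal] [hBn : B.Normal] (hA : A ≠ ⊥)
    (hB : B ≠ ⊥) (hAmin : ∀ K : Subgroup G, K.Normal → K ≤ A → K = ⊥ ∨ K = A)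
    (hBmin : ∀ K : Subgroup G, K.Normal → K ≤ B → K = ⊥ ∨ K = B) (hAB : A ≠ B) :
    A ⊓ B = ⊥ ∧ Subgroup.centralizer (B : Set G) = A ∧ A ⊓ U = ⊥ ∧
      Subgroup.IsComplement' A U ∧ ¬ IsMulCommutative A := by
  have hinf : A ⊓ B = ⊥ := by
    rcases hAmin (A ⊓ B) inferInstance inf_le_left with h | h
    · exact h
    · exfalso
      have hle : A ≤ B := by rw [← h]; exact inf_le_right
      rcases hBmin A hAn hle with h' | h'
      · exact hA h'
      · exact hAB h'
  have hcomm : ⁅A, B⁆ = ⊥ := by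
    rw [eq_bot_iff, ← hinf]; exact Subgroup.commutator_le_inf A B
  have hAC : A ≤ Subgroup.centralizer (B : Set G) :=
    Subgroup.commutator_eq_bot_iff_le_centralizer.mp hcomm
  have hCB : Subgroup.centralizer (B : Set G) = A :=
    (eq_centralizer_of_coreFree U hU hcore B hB A hA hAC).symm
  have hAU : A ⊓ U = ⊥ := by
    rw [← hCB]; exact centralizer_inf_eq_bot_of_coreFree U hU hcore B hB
  refine ⟨hinf, hCB, hAU, ?_, ?_⟩
  · apply Subgroup.isComplement'_of_disjoint_and_mul_eq_univ
    · rw [disjoint_iff]; exact hAU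
    · rw [← Subgroup.normal_mul, sup_comm, sup_eq_top_of_coreFree U hU hcore A hA]; rfl
  · intro hc
    -- A ≤ C(A); but C(A) = B by symmetry is not yet available, argue directly
    have hAA : A ≤ Subgroup.centralizer (A : Set G) := by
      intro a ha
      rw [Subgroup.mem_centralizer_iff]
      intro b hb
      exact (isMulComm_iff A).mp hc b hb a ha
    have hBC : B ≤ Subgroup.centralizer (A : Set G) := by
      rw [Subgroup.commutator_comm] at hcomm
      exact Subgroup.commutator_eq_bot_iff_le_centralizer.mp hcomm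
    have e1 := eq_centralizer_of_coreFree U hU hcore A hA A hA hAA
    have e2 := eq_centralizer_of_coreFree U hU hcore A hA B hB hBC
    exact hAB (e1.trans e2.symm)

lemma iso {G : Type*} [Group G] [Finite G] (U : Subgroup G) (hU : IsCoatom U)
    (hcore : U.normalCore = ⊥) (A B : Subgroup G) [hAn : A.Normal] [hBn : B.Normal]
    (hB : B ≠ ⊥) (hinf : A ⊓ B = ⊥) (hBU : B ⊓ U = ⊥) :
    Nonempty (A ≃* ↥((A ⊔ B) ⊓ U)) := by
  set X := A ⊔ B with hX
  set D := X ⊓ U with hD
  have hDB : D ⊓ B = ⊥ := by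
    rw [eq_bot_iff, ← hBU, inf_comm B U]
    exact le_inf (inf_le_left.trans inf_le_right) inf_le_right
  have hsup : D ⊔ B = X := by
    have := inf_sup_eq_of_coreFree U hU hcore B X hB le_sup_right
    rwa [inf_comm] at this
  have h3 : Nat.card A * Nat.card B = Nat.card X := by
    have := card_sup_mul_card_inf A B (by rw [Subgroup.normalizer_eq_top]; exact le_top)
    rw [hinf, Subgroup.card_bot, mul_one] at this
    exact this.symm
  have h4 : Nat.card D * Nat.card B = Nat.card X := by
    have := card_sup_mul_card_inf D B (by rw [Subgroup.normalizer_eq_top]; exact le_top)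
    rw [hDB, Subgroup.card_bot, mul_one, hsup] at this
    exact this.symm
  exact nonempty_mulEquiv_of_complements X A D B le_sup_left inf_le_left le_sup_right
    Subgroup.normal_subgroupOf hinf hDB h3 h4

/-- Let U be a maximal subgroup with trivial normal core in a finite group G, and A ≠ B two minimal normal subgroups. Then A is the centralizer of B and B that of A, U complements each of them, A and B are non-abelian, and A, B and (A ⊔ B) ∩ U are pairwise isomorphic. -/
theorem result {G : Type*} [Group G] [Finite G] (U : Subgroup G) (hU : IsCoatom U) (hcore : U.normalCore = ⊥) (A B : Subgroup G) [A.Normal] [B.Normal] (hA : A ≠ ⊥) (hB : B ≠ ⊥) (hAmin : ∀ K : Subgroup G, K.Normal → K ≤ A → K = ⊥ ∨ K = A) (hBmin : ∀ K : Subgroup G, K.Normal → K ≤ B → K = ⊥ ∨ K = B) (hAB : A ≠ B) : Subgroup.centralizer (B : Set G) = A ∧ Subgroup.centralizer (A : Set G) = B ∧ Subgroup.IsComplement' A U ∧ Subgroup.IsComplement' B U ∧ ¬ IsMulCommutative A ∧ Nonempty (A ≃* B) ∧ Nonempty (A ≃* ↥((A ⊔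 B) ⊓ U)) := by
  obtain ⟨hinf, hCB, hAU, hcA, hnA⟩ := half U hU hcore A B hA hB hAmin hBmin hAB
  obtain ⟨hinf', hCA, hBU, hcB, -⟩ := half U hU hcore B A hB hA hBmin hAmin (Ne.symm hAB)
  obtain ⟨e1⟩ := iso U hU hcore A B hB hinf hBU
  obtain ⟨e2⟩ := iso U hU hcore B A hA hinf' hAU
  refine ⟨hCB, hCA, hcA, hcB, hnA, ?_, ⟨e1⟩⟩
  have hXeq : (B ⊔ A) ⊓ U = (A ⊔ B) ⊓ U := by rw [sup_comm]
  exact ⟨e1.trans ((MulEquiv.subgroupCongr hXeq).symm.trans e2.symm)⟩

end Cfsg.Agent.S0550
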