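import Cfsg.Statements.S0551
import Mathlib
import Cfsg.Agent.Lib.Helper2.CoreFree

set_option autoImplicit false
open Cfsg
open scoped Pointwise commutatorElement

namespace Cfsg.Agent.S0551

open Cfsg.Agent.Lib.Helper2

/-- data about the intersection of a core-free maximal subgroup with `M` -/
lemma inter_facts {G : Type*} [Group G] [Finite G] (U : Subgroup G) (hU : IsCoatom U)
    (hUc : U.normalCore = ⊥) (N M : Subgroup G) [N.Normal] [M.Normal] (hNb : N ≠ ⊥)
    (hNc : IsMulCommutative N) (hNM : N ≤ M) (p q a b : ℕ) (hp : p.Prime) (hq : q.Prime)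
    (hqp : q ≠ p) (hb : 0 < b)
    (hNcard : Nat.card N = p ^ a) (hMcard : Nat.card M = q ^ b * p ^ a) :
    Nat.card (U ⊓ M : Subgroup G) = q ^ b ∧
      Subgroup.normalizer ((U ⊓ M : Subgroup G) : Set G) = U := by
  have hUN : U ⊔ N = ⊤ := sup_eq_top_of_coreFree U hU hUc N hNb
  have hUN' : U ⊓ N = ⊥ := inf_eq_bot_of_coreFree_abelian U hU hUc N hNc
  have hsup : (U ⊓ M) ⊔ N = M := by
    apply le_antisymm (sup_le inf_le_right hNM)
    intro x hx
    have hx' : x ∈ ((U ⊔ N : Subgroup G) : Set G) := by rw [hUN]; trivial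
    rw [Subgroup.mul_normal] at hx'
    obtain ⟨u, hu, n, hn, rfl⟩ := Set.mem_mul.mp hx'
    have huM : u ∈ M := by
      have : u = (u * n) * n⁻¹ := by group
      rw [this]; exact M.mul_mem hx (M.inv_mem (hNM hn))
    exact Subgroup.mul_mem _ (Subgroup.mem_sup_left (Subgroup.mem_inf.mpr ⟨hu, huM⟩))
      (Subgroup.mem_sup_right hn)
  have hinf : (U ⊓ M) ⊓ N = ⊥ := by
    rw [eq_bot_iff, ← hUN']
    exact inf_le_inf_right N inf_le_left
  have hcard : Nat.card (U ⊓ M : Subgroup G) = q ^ b := by
    have := card_sup_mul_card_inf (U ⊓ M) N (by rw [Subgroup.normalizer_eq_top]; exact le_top)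
    rw [hsup, hinf, Subgroup.card_bot, mul_one, hMcard, hNcard] at this
    exact (Nat.eq_of_mul_eq_mul_right (pow_pos hp.pos a) this).symm
  refine ⟨hcard, ?_⟩
  have hle : U ≤ Subgroup.normalizer ((U ⊓ M : Subgroup G) : Set G) := by
    refine le_trans ?_ Subgroup.inf_normalizer_le_normalizer_inf
    refine le_inf Subgroup.le_normalizer ?_
    rw [Subgroup.normalizer_eq_top]; exact le_top
  have hne : Subgroup.normalizer ((U ⊓ M : Subgroup G) : Set G) ≠ ⊤ := by
    intro h
    haveI : (U ⊓ M).Normal := Subgroup.normalizer_eq_top_iff.mp h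
    have : U ⊓ M ≤ U.normalCore := Subgroup.normal_le_normalCore.mpr inf_le_left
    rw [hUc, le_bot_iff] at this
    rw [this, Subgroup.card_bot] at hcard
    have := Nat.one_lt_pow hb.ne' hq.one_lt
    omega
  by_contra hcon
  exact hne (hU.2 _ (lt_of_le_of_ne hle (Ne.symm hcon)))

/-- In a finite solvable group all core-free maximal subgroups are conjugate. -/
theorem result {G : Type*} [Group G] [Finite G] [Group.IsSolvable G] (U V : Subgroup G) (hU : IsCoatom U) (hV : IsCoatom V) (hUc : U.normalCore = ⊥) (hVc : V.normalCore = ⊥) : ∃ g : G, MulAut.conj g • U = V := by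
  haveI : Nontrivial G := by
    by_contra h
    rw [not_nontrivial_iff_subsingleton] at h
    exact hU.1 (Subsingleton.elim _ _)
  obtain ⟨N, hNn, hNb, hNmin⟩ := exists_minNormal (G := G)
  haveI := hNn
  have hNc := isMulCommutative_of_minNormal_of_solvable N hNb hNmin
  obtain ⟨p, hp, -, a, ha, hNcard⟩ := exists_prime_pow_of_minNormal_abelian N hNb hNmin hNc
  have hCN : Subgroup.centralizer (N : Set G) = N :=
    centralizer_eq_of_coreFree_abelian U hU hUc N hNb hNc
  by_cases hNtop : N = ⊤
  · have h1 : U = ⊥ := by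
      have := inf_eq_bot_of_coreFree_abelian U hU hUc N hNc
      rwa [hNtop, inf_top_eq] at this
    have h2 : V = ⊥ := by
      have := inf_eq_bot_of_coreFree_abelian V hV hVc N hNc
      rwa [hNtop, inf_top_eq] at this
    refine ⟨1, ?_⟩
    rw [h1, h2, Subgroup.smul_bot]
  · haveI : Nontrivial (G ⧸ N) := QuotientGroup.nontrivial_iff.mpr hNtop
    obtain ⟨M', hM'n, hM'b, hM'min⟩ := exists_minNormal (G := G ⧸ N)
    haveI := hM'n
    have hM'c := isMulCommutative_of_minNormal_of_solvable M' hM'b hM'min
    obtain ⟨q, hq, -, b, hb, hM'card⟩ :=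
      exists_prime_pow_of_minNormal_abelian M' hM'b hM'min hM'c
    set π := QuotientGroup.mk' N with hπ
    have hsurj : Function.Surjective π := QuotientGroup.mk'_surjective N
    set M := M'.comap π with hM
    haveI hMn : M.Normal := Subgroup.Normal.comap hM'n π
    have hNM : N ≤ M := le_comap_mk N M'
    have hMcard : Nat.card M = q ^ b * p ^ a := by
      rw [hM, card_comap_mk, hM'card, hNcard]
    have hmapM : M.map π = M' := Subgroup.map_comap_eq_self_of_surjective hsurj M'
    haveI : Fact q.Prime := ⟨hq⟩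
    have hqp : q ≠ p := by
      rintro rfl
      have hMp : IsPGroup q M := IsPGroup.of_card (n := b + a) (by rw [hMcard, pow_add])
      haveI : Group.IsNilpotent M := hMp.isNilpotent
      rcases hNmin ⁅N, M⁆ inferInstance (Subgroup.commutator_le_left N M) with h | h
      · have hMC : M ≤ Subgroup.centralizer (N : Set G) := by
          rw [← Subgroup.commutator_eq_bot_iff_le_centralizer, Subgroup.commutator_comm]
          exact h
        rw [hCN] at hMC
        apply hM'b
        rw [← hmapM, le_antisymm hMC hNM, hπ, QuotientGroup.map_mk'_self]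
      · obtain ⟨n, hn⟩ := (Subgroup.isNilpotent_iff_lowerCentralSeries M).mp inferInstance
        have hall : ∀ k, N ≤ M.lowerCentralSeries k := by
          intro k
          induction k with
          | zero => exact hNM
          | succ k ih =>
            rw [Subgroup.lowerCentralSeries_succ, ← h]
            exact Subgroup.commutator_mono ih le_rfl
        apply hNb
        rw [eq_bot_iff, ← hn]
        exact hall n
    obtain ⟨hc₁, hn₁⟩ := inter_facts U hU hUc N M hNb hNc hNM p q a b hp hq hqp hb hNcard hMcard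
    obtain ⟨hc₂, hn₂⟩ := inter_facts V hV hVc N M hNb hNc hNM p q a b hp hq hqp hb hNcard hMcard
    -- Sylow subgroups of M
    have hsyl : ∀ X : Subgroup G, X ≤ M → Nat.card X = q ^ b →
        ∃ P : Sylow q M, (P : Subgroup M) = X.subgroupOf M := by
      intro X hXM hXc
      have hXc' : Nat.card (X.subgroupOf M) = q ^ b := by
        rw [card_subgroupOf_of_le hXM, hXc]
      have hpg : IsPGroup q (X.subgroupOf M) := IsPGroup.of_card hXc'
      have hidx : ¬ q ∣ (X.subgroupOf M).index := by
        have h1 := Subgroup.card_mul_index (X.subgroupOf M)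
        rw [hXc', hMcard] at h1
        have h2 : (X.subgroupOf M).index = p ^ a :=
          Nat.eq_of_mul_eq_mul_left (pow_pos hq.pos b) h1
        rw [h2]
        intro hd
        exact hqp ((Nat.prime_dvd_prime_iff_eq hq hp).mp (hq.dvd_of_dvd_pow hd))
      exact ⟨hpg.toSylow hidx, IsPGroup.toSylow_coe hpg hidx⟩
    obtain ⟨P₁, hP₁⟩ := hsyl (U ⊓ M) inf_le_right hc₁
    obtain ⟨P₂, hP₂⟩ := hsyl (V ⊓ M) inf_le_right hc₂
    obtain ⟨m, hm⟩ := MulAction.exists_smul_eq M P₁ P₂
    have hconj : MulAut.conj (m : G) • (U ⊓ M) = V ⊓ M := by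
      have h1 : MulAut.conj m • (P₁ : Subgroup M) = (P₂ : Subgroup M) := by
        rw [← Sylow.coe_subgroup_smul, hm]
      rw [hP₁, hP₂] at h1
      have h2 := congrArg (Subgroup.map M.subtype) h1
      rwa [map_subtype_conj_smul, Subgroup.map_subgroupOf_eq_of_le inf_le_right,
        Subgroup.map_subgroupOf_eq_of_le inf_le_right] at h2
    refine ⟨m, ?_⟩
    conv_lhs => rw [← hn₁]
    rw [conj_smul_normalizer, hconj, hn₂]

end Cfsg.Agent.S0551
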