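import Cfsg.Statements.S0552
import Mathlib
import Cfsg.Agent.Lib.Helper3.Components7

set_option autoImplicit false
open Cfsg

namespace Cfsg.Agent.S0552

open Cfsg.Agent.Lib.Helper3 Cfsg.Agent.Lib.Lead

lemma centralizer_fitting_le {G : Type*} [Group G] [Finite G] [Group.IsSolvable G] :
    Subgroup.centralizer (Cfsg.fittingSubgroup G : Set G) ≤ Cfsg.fittingSubgroup G := by
  have hlayer : Cfsg.layer G = ⊥ :=
    layer_eq_bot_of_le_isSolvable (H := ⊤) inferInstance le_top
  have hF : Cfsg.generalizedFittingSubgroup G = Cfsg.fittingSubgroup G := by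
    unfold Cfsg.generalizedFittingSubgroup
    rw [hlayer, bot_sup_eq]
  have := centralizer_generalizedFittingSubgroup_le (G := G)
  rwa [hF] at this

/-- Let σ be an automorphism of a finite solvable group G fixing every element of the Fitting subgroup. If σ is not the identity then the order of σ and the order of G have a common prime factor. -/
theorem result {G : Type*} [Group G] [Finite G] [Group.IsSolvable G] (σ : G ≃* G) (hσ : ∀ x ∈ Cfsg.fittingSubgroup G, σ x = x) (hne : σ ≠ MulEquiv.refl G) : ¬ (orderOf σ).Coprime (Nat.card G) := by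
  intro hcop
  apply hne
  haveI hFn : (Cfsg.fittingSubgroup G).Normal := fittingSubgroup_normal
  -- c x := x⁻¹ σ x ∈ C(F) ≤ F
  have hc : ∀ x : G, x⁻¹ * σ x ∈ Cfsg.fittingSubgroup G := by
    intro x
    apply centralizer_fitting_le
    rw [Subgroup.mem_centralizer_iff]
    intro f hf
    have h1 : σ (x * f * x⁻¹) = x * f * x⁻¹ := hσ _ (hFn.conj_mem f hf x)
    rw [map_mul, map_mul, map_inv, hσ f hf] at h1
    -- σ x * f * (σ x)⁻¹ = x * f * x⁻¹
    have h2 : f * (x⁻¹ * σ x) = x⁻¹ * (x * f * x⁻¹) * σ x := by group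
    rw [h2, ← h1]; group
  have hpow : ∀ (k : ℕ) (x : G), (σ ^ k) x = x * (x⁻¹ * σ x) ^ k := by
    intro k
    induction k with
    | zero => intro x; simp
    | succ k ih =>
      intro x
      rw [pow_succ', MulAut.mul_apply, ih, map_mul, map_pow, hσ _ (hc x), pow_succ',
        ← mul_assoc x, mul_inv_cancel_left]
  ext x
  have h1 := hpow (orderOf σ) x
  rw [pow_orderOf_eq_one, MulAut.one_apply] at h1
  have h2 : (x⁻¹ * σ x) ^ orderOf σ = 1 := by
    have : x * (x⁻¹ * σ x) ^ orderOf σ = x * 1 := by rw [mul_one]; exact h1.symm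
    exact mul_left_cancel this
  have h3 : orderOf (x⁻¹ * σ x) ∣ orderOf σ := orderOf_dvd_of_pow_eq_one h2
  have h4 : orderOf (x⁻¹ * σ x) ∣ Nat.card G := orderOf_dvd_natCard _
  have h5 : orderOf (x⁻¹ * σ x) = 1 := Nat.eq_one_of_dvd_coprimes hcop h3 h4
  rw [orderOf_eq_one_iff] at h5
  rw [MulEquiv.refl_apply]
  have : σ x = x * (x⁻¹ * σ x) := by group
  rw [this, h5, mul_one]

end Cfsg.Agent.S0552
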