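import Cfsg.Statements.S0553
import Mathlib
import Cfsg.Agent.Lib.Helper2.CoreFree

set_option autoImplicit false
open Cfsg

namespace Cfsg.Agent.S0553

open Cfsg.Agent.Lib.Helper2

universe u

lemma all_normal_of_normal {G : Type*} [Group G] [Finite G] {p : ℕ} [Fact p.Prime] (P : Sylow p G)
    (hP : (P : Subgroup G).Normal) : ∀ P' : Sylow p G, (P' : Subgroup G).Normal := by
  intro P'
  haveI := Sylow.unique_of_normal P hP
  rw [Subsingleton.elim P' P]; exact hP

lemma normal_sylow_of_card {G : Type*} [Group G] [Finite G] {p : ℕ} [Fact p.Prime]
    (N : Subgroup G) [hN : N.Normal]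
    (hcard : Nat.card N = p ^ (Nat.card G).factorization p) :
    ∀ P : Sylow p G, (P : Subgroup G).Normal :=
  all_normal_of_normal (Sylow.ofCard N hcard) (by rw [Sylow.coe_ofCard]; exact hN)

theorem main : ∀ (n : ℕ) (G : Type u) [Group G] [Finite G] [Group.IsSolvable G] [Nontrivial G],
    Nat.card G = n →
    (∀ M : Subgroup G, IsCoatom M → (Nat.card M).Coprime M.index) →
    ∃ p : ℕ, p.Prime ∧ p ∣ Nat.card G ∧ ∀ P : Sylow p G, (P : Subgroup G).Normal := by
  intro n
  induction n using Nat.strong_induction_on with
  | _ n ih =>
    intro G _ _ _ _ hn h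
    obtain ⟨N, hNn, hNb, hmin⟩ := exists_minNormal (G := G)
    haveI := hNn
    have hc := isMulCommutative_of_minNormal_of_solvable N hNb hmin
    obtain ⟨p, hp, hexp, d, hd, hcard⟩ := exists_prime_pow_of_minNormal_abelian N hNb hmin hc
    haveI : Fact p.Prime := ⟨hp⟩
    have hpG : p ∣ Nat.card G :=
      (dvd_pow_self p hd.ne').trans (hcard ▸ Subgroup.card_subgroup_dvd_card N)
    have hGN : Nat.card G = Nat.card (G ⧸ N) * Nat.card N := card_eq_card_quotient_mul_card N
    by_cases hNt : N = ⊤
    · refine ⟨p, hp, hpG, normal_sylow_of_card N ?_⟩
      have : Nat.card G = p ^ d := by rw [← hcard, hNt, Subgroup.card_top]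
      rw [hcard, this, hp.factorization_pow, Finsupp.single_eq_same]
    · haveI : Nontrivial (G ⧸ N) := (QuotientGroup.nontrivial_iff).mpr hNt
      have hlt : Nat.card (G ⧸ N) < n := by
        rw [← hn, hGN]
        have h1 : 1 < Nat.card N := by rw [hcard]; exact Nat.one_lt_pow hd.ne' hp.one_lt
        have h2 : 0 < Nat.card (G ⧸ N) := Nat.card_pos
        nlinarith
      obtain ⟨q, hq, hqd, hQ⟩ := ih _ hlt (G ⧸ N) rfl (by
        intro X hX
        have h1 := h _ (isCoatom_comap_mk N hX)
        rw [card_comap_mk, Subgroup.index_comap_of_surjective X (QuotientGroup.mk'_surjective N)]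
          at h1
        exact Nat.Coprime.coprime_mul_right h1)
      haveI : Fact q.Prime := ⟨hq⟩
      have hqG : q ∣ Nat.card G := hqd.trans (hGN ▸ Dvd.intro _ rfl)
      -- a Sylow q-subgroup of G
      obtain ⟨P⟩ : Nonempty (Sylow q G) := inferInstance
      set π := QuotientGroup.mk' N with hπ
      have hsurj : Function.Surjective π := QuotientGroup.mk'_surjective N
      have hPbar : ((P : Subgroup G).map π).Normal := by
        rw [← Sylow.coe_mapSurjective hsurj P]; exact hQ _
      by_cases hqp : q = p
      · subst hqp
        refine ⟨q, hp, hpG, ?_⟩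
        haveI : (((P : Subgroup G).map π).comap π).Normal := hPbar.comap π
        refine normal_sylow_of_card (((P : Subgroup G).map π).comap π) ?_
        rw [card_comap_mk, ← Sylow.coe_mapSurjective hsurj P, Sylow.card_eq_multiplicity, hcard,
          hGN, Nat.factorization_mul Nat.card_pos.ne' Nat.card_pos.ne', hcard,
          hp.factorization_pow, Finsupp.add_apply, Finsupp.single_eq_same, pow_add]
      · -- Frattini
        have hPQ : (P : Subgroup G) ≤ ((P : Subgroup G).map π).comap π := Subgroup.le_comap_map _ _
        haveI : (((P : Subgroup G).map π).comap π).Normal := hPbar.comap π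
        have hfr := Sylow.normalizer_sup_eq_top' P hPQ
        rw [Subgroup.comap_map_eq, hπ, QuotientGroup.ker_mk'] at hfr
        have hfr2 : Subgroup.normalizer ((P : Subgroup G) : Set G) ⊔ N = ⊤ := by
          rw [eq_top_iff, ← hfr]
          exact sup_le le_sup_left (sup_le (Subgroup.le_normalizer.trans le_sup_left) le_sup_right)
        by_cases hNP : Subgroup.normalizer ((P : Subgroup G) : Set G) = ⊤
        · exact ⟨q, hq, hqG, all_normal_of_normal P (Subgroup.normalizer_eq_top_iff.mp hNP)⟩
        · obtain ⟨M, hM, hNM⟩ := (eq_top_or_exists_le_coatom _).resolve_left hNP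
          have hMN : M ⊔ N = ⊤ := by
            rw [eq_top_iff, ← hfr2]; exact sup_le_sup_right hNM N
          -- M ⊓ N is normal
          have hinf : M ⊓ N = ⊥ := by
            have hnorm : (M ⊓ N).Normal := by
              rw [← Subgroup.normalizer_eq_top_iff, eq_top_iff, ← hMN]
              refine sup_le ?_ ?_
              · intro m hm
                rw [Subgroup.mem_normalizer_iff]
                intro x
                constructor
                · rintro ⟨h1, h2⟩
                  exact ⟨M.mul_mem (M.mul_mem hm h1) (M.inv_mem hm), hNn.conj_mem x h2 m⟩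
                · rintro ⟨h1, h2⟩
                  refine ⟨?_, ?_⟩
                  · have := M.mul_mem (M.mul_mem (M.inv_mem hm) h1) hm
                    simpa [mul_assoc] using this
                  · have := hNn.conj_mem _ h2 m⁻¹
                    simpa [mul_assoc] using this
              · intro x hx
                apply mem_normalizer_of_commute
                intro y hy
                exact (isMulComm_iff N).mp hc x hx y hy.2
            rcases hmin _ hnorm inf_le_right with h0 | h0
            · exact h0
            · exfalso
              apply hM.1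
              rw [eq_top_iff, ← hMN]
              exact sup_le le_rfl (h0 ▸ inf_le_left)
          have hprod := card_sup_mul_card_inf M N (by
            rw [Subgroup.normalizer_eq_top_iff.mpr hNn]; exact le_top)
          rw [hMN, hinf, Subgroup.card_top, Subgroup.card_bot, mul_one] at hprod
          have hidx : M.index = Nat.card N := by
            have := Subgroup.card_mul_index M
            rw [hprod] at this
            exact Nat.eq_of_mul_eq_mul_left Nat.card_pos this
          have hcop := h M hM
          rw [hidx, hcard] at hcop
          have hpM : ¬ p ∣ Nat.card M := by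
            intro hdv
            have := Nat.Coprime.eq_one_of_dvd ((Nat.coprime_pow_right_iff hd _ _).mp hcop).symm hdv
            exact hp.one_lt.ne' this
          refine ⟨p, hp, hpG, normal_sylow_of_card N ?_⟩
          rw [hprod, Nat.factorization_mul Nat.card_pos.ne' Nat.card_pos.ne', hcard,
            hp.factorization_pow, Finsupp.add_apply, Finsupp.single_eq_same,
            Nat.factorization_eq_zero_of_not_dvd hpM, zero_add]

/-- Let G be a nontrivial finite solvable group in which every maximal subgroup has order coprime to its index. Then for some prime p dividing the order of G the Sylow p-subgroups of G are normal. -/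
theorem result {G : Type*} [Group G] [Finite G] [Group.IsSolvable G] [Nontrivial G] (h : ∀ M : Subgroup G, IsCoatom M → (Nat.card M).Coprime M.index) : ∃ p : ℕ, p.Prime ∧ p ∣ Nat.card G ∧ ∀ P : Sylow p G, (P : Subgroup G).Normal := by
  exact main _ G rfl h

end Cfsg.Agent.S0553
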