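import Cfsg.Statements.S0554
import Mathlib
import Cfsg.Agent.Lib.Helper2.MinNormal
import Cfsg.Agent.Lib.Helper2.CoreFree
import Cfsg.Agent.Lib.Lead.ThompsonPQ

set_option autoImplicit false
open Cfsg

namespace Cfsg.Agent.S0554


open Cfsg.Agent.Lib.Helper2 in
theorem prod_ofFn_mul_mem {G : Type*} [Group G] (N : Subgroup G) [hN : N.Normal] :
    ∀ (t : ℕ) (s : Fin t → G) (j : Fin t) (n : G), n ∈ N →
      ∃ n' ∈ N, (List.ofFn s).prod * n = (List.ofFn (Function.update s j (s j * n'))).prod := by
  intro t
  induction t with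
  | zero => intro s j; exact j.elim0
  | succ t ih =>
    intro s j n hn
    rw [List.ofFn_succ, List.prod_cons]
    refine Fin.cases ?_ (fun k => ?_) j
    · refine ⟨(List.ofFn fun i => s i.succ).prod * n * ((List.ofFn fun i => s i.succ).prod)⁻¹,
        hN.conj_mem _ hn _, ?_⟩
      rw [List.ofFn_succ, List.prod_cons]
      have : (fun i : Fin t => Function.update s 0 (s 0 * ((List.ofFn fun i => s i.succ).prod * n * ((List.ofFn fun i => s i.succ).prod)⁻¹)) i.succ) = fun i => s i.succ := by
        funext i
        rw [Function.update_of_ne (Fin.succ_ne_zero i)]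
      rw [this, Function.update_self]
      group
    · obtain ⟨n', hn', h⟩ := ih (fun i => s i.succ) k n hn
      refine ⟨n', hn', ?_⟩
      rw [List.ofFn_succ, List.prod_cons, mul_assoc, h]
      have : (fun i : Fin t => Function.update s k.succ (s k.succ * n') i.succ) = Function.update (fun i => s i.succ) k (s k.succ * n') := by
        funext i
        by_cases hik : i = k
        · subst hik; simp
        · rw [Function.update_of_ne hik, Function.update_of_ne (fun h => hik (Fin.succ_injective _ h))]
      rw [this, Function.update_of_ne (Fin.succ_ne_zero k).symm]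

theorem main_aux.{u} : ∀ (n : ℕ) (G : Type u) [Group G] [Finite G] [Group.IsSolvable G], Nat.card G = n →
    ∀ (t : ℕ) (p : Fin t → ℕ) (hp : ∀ i, (p i).Prime)
    (hall : ∀ q : ℕ, q.Prime → q ∣ Nat.card G → ∃ i, p i = q) (S : (i : Fin t) → Sylow (p i) G),
    ∀ g : G, ∃ s : (i : Fin t) → G, (∀ i, s i ∈ (S i : Subgroup G)) ∧ g = (List.ofFn s).prod := by
  intro n
  induction n using Nat.strong_induction_on with
  | _ n ih =>
  intro G _ _ _ hcard t p hp hall S g
  rcases subsingleton_or_nontrivial G with hsub | hnt
  · refine ⟨fun _ => 1, fun i => one_mem _, ?_⟩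
    rw [List.prod_eq_one]
    · exact Subsingleton.elim _ _
    · intro x hx
      rw [List.mem_ofFn] at hx
      obtain ⟨i, rfl⟩ := hx
      rfl
  · obtain ⟨N, hNn, hNb, hNmin⟩ := Cfsg.Agent.Lib.Helper2.exists_minNormal (G := G)
    haveI := hNn
    have hc := Cfsg.Agent.Lib.Helper2.isMulCommutative_of_minNormal_of_solvable N hNb hNmin
    obtain ⟨q, hq, hexp, d, hd, hNcard⟩ :=
      Cfsg.Agent.Lib.Helper2.exists_prime_pow_of_minNormal_abelian N hNb hNmin hc
    have hqdvd : q ∣ Nat.card G := by
      refine dvd_trans ?_ (Subgroup.card_subgroup_dvd_card N)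
      rw [hNcard]
      exact dvd_pow_self q hd.ne'
    obtain ⟨j, hj⟩ := hall q hq hqdvd
    haveI : ∀ i, Fact (p i).Prime := fun i => ⟨hp i⟩
    have hNS : N ≤ (S j : Subgroup G) := by
      refine Cfsg.Agent.Lib.Lead.normal_pgroup_le_sylow (p j) N ?_ (S j)
      rw [hj]
      exact IsPGroup.of_card hNcard
    -- quotient
    have hlt : Nat.card (G ⧸ N) < n := by
      rw [← hcard, Subgroup.card_eq_card_quotient_mul_card_subgroup N]
      have h1 : 1 < Nat.card N := by
        rw [hNcard]; exact Nat.one_lt_pow hd.ne' hq.one_lt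
      have h0 : 0 < Nat.card (G ⧸ N) := Nat.card_pos
      nlinarith
    have hsurj : Function.Surjective (QuotientGroup.mk' N) := QuotientGroup.mk'_surjective N
    have hallQ : ∀ q : ℕ, q.Prime → q ∣ Nat.card (G ⧸ N) → ∃ i, p i = q := by
      intro r hr hrd
      refine hall r hr (dvd_trans hrd ?_)
      rw [Subgroup.card_eq_card_quotient_mul_card_subgroup N]
      exact dvd_mul_right _ _
    obtain ⟨sbar, hsbar, hg⟩ := ih _ hlt (G ⧸ N) rfl t p hp hallQ
      (fun i => (S i).mapSurjective hsurj) (QuotientGroup.mk' N g)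
    have hlift : ∀ i, ∃ x : G, x ∈ (S i : Subgroup G) ∧ QuotientGroup.mk' N x = sbar i := by
      intro i
      have := hsbar i
      rw [Sylow.coe_mapSurjective, Subgroup.mem_map] at this
      obtain ⟨x, hx, hxe⟩ := this
      exact ⟨x, hx, hxe⟩
    choose s hs hse using hlift
    have hprod : QuotientGroup.mk' N (List.ofFn s).prod = QuotientGroup.mk' N g := by
      rw [hg, map_list_prod, List.map_ofFn]
      congr 1
      congr 1
      funext i
      exact hse i
    have hmem : ((List.ofFn s).prod)⁻¹ * g ∈ N := by
      rw [← QuotientGroup.eq]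
      exact hprod
    obtain ⟨n', hn', hfin⟩ := prod_ofFn_mul_mem N t s j _ hmem
    refine ⟨Function.update s j (s j * n'), ?_, ?_⟩
    · intro i
      by_cases hij : i = j
      · subst hij
        rw [Function.update_self]
        exact mul_mem (hs i) (hNS hn')
      · rw [Function.update_of_ne hij]
        exact hs i
    · rw [← hfin]
      group

/-- Let G be a finite solvable group and let S assign to each of t distinct primes, including every prime divisor of the order of G, a Sylow subgroup of G. Then every element of G is a product s_0 s_1 ⋯ s_(t-1) with s_i in S i, the factors taken in the given order. -/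
theorem result {G : Type*} [Group G] [Finite G] [Group.IsSolvable G] (t : ℕ) (p : Fin t → ℕ) (hp : ∀ i, (p i).Prime) (hinj : Function.Injective p) (hall : ∀ q : ℕ, q.Prime → q ∣ Nat.card G → ∃ i, p i = q) (S : (i : Fin t) → Sylow (p i) G) : ∀ g : G, ∃ s : (i : Fin t) → G, (∀ i, s i ∈ (S i : Subgroup G)) ∧ g = (List.ofFn s).prod := by
  exact main_aux _ G rfl t p hp hall S

end Cfsg.Agent.S0554
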