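import Cfsg.Statements.S0555
import Mathlib
import Cfsg.Agent.Lib.Helper2.Cyclic

set_option autoImplicit false
open Cfsg
open scoped commutatorElement

namespace Cfsg.Agent.S0555

open Cfsg.Agent.Lib.Helper2

/-- Let i ≥ 1. If in the derived series of a group the quotient of the i-th term by the (i+1)-st and the quotient of the (i+1)-st by the (i+2)-nd are both cyclic, then the (i+1)-st and (i+2)-nd terms coincide. -/
theorem result {G : Type*} [Group G] (i : ℕ) (hi : 1 ≤ i) (h₁ : IsCyclic (↥(derivedSeries G i) ⧸ (derivedSeries G (i + 1)).subgroupOf (derivedSeries G i))) (h₂ : IsCyclic (↥(derivedSeries G (i + 1)) ⧸ (derivedSeries G (i + 2)).subgroupOf (derivedSeries G (i + 1)))) : derivedSeries G (i + 1) = derivedSeries G (i + 2) := by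
  set A := derivedSeries G i with hA
  set B := derivedSeries G (i + 1) with hB
  set C := derivedSeries G (i + 2) with hC
  haveI : C.Normal := derivedSeries_normal G _
  haveI : B.Normal := derivedSeries_normal G _
  have hBA : B ≤ A := derivedSeries_antitone G (by omega)
  have hCB : C ≤ B := derivedSeries_antitone G (by omega)
  have hA1 : A ≤ commutator G := by
    have : derivedSeries G 1 = commutator G := by
      rw [derivedSeries_succ, derivedSeries_zero, commutator_def]
    rw [← this]
    exact derivedSeries_antitone G hi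
  set π := QuotientGroup.mk' C with hπ
  haveI hcyc : IsCyclic (B.map π) := isCyclic_map_mk_of_isCyclic_quotient B C h₂
  haveI : (B.map π).Normal := Subgroup.Normal.map inferInstance π (QuotientGroup.mk'_surjective C)
  have hcent := comm_le_centralizer_of_cyclic_normal (B.map π)
  -- π x commutes with π y for x ∈ A, y ∈ B
  have hxy : ∀ x ∈ A, ∀ y ∈ B, π y * π x = π x * π y := by
    intro x hx y hy
    have hx' : π x ∈ commutator (G ⧸ C) := by
      have h1 : (commutator G).map π ≤ commutator (G ⧸ C) := by
        rw [commutator_def, commutator_def, Subgroup.map_commutator]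
        exact Subgroup.commutator_mono le_top le_top
      exact h1 (Subgroup.mem_map_of_mem π (hA1 hx))
    have := hcent hx'
    rw [Subgroup.mem_centralizer_iff] at this
    exact this (π y) (Subgroup.mem_map_of_mem π hy)
  -- generator of A / B
  obtain ⟨g, hg⟩ := h₁.exists_generator
  obtain ⟨a, rfl⟩ := QuotientGroup.mk_surjective g
  have hdecomp : ∀ x ∈ A, ∃ k : ℤ, ∃ y ∈ B, x = (a : G) ^ k * y := by
    intro x hx
    obtain ⟨k, hk⟩ := Subgroup.mem_zpowers_iff.mp (hg (QuotientGroup.mk ⟨x, hx⟩))
    rw [← QuotientGroup.mk_zpow, QuotientGroup.eq] at hk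
    refine ⟨k, ((a : G) ^ k)⁻¹ * x, ?_, by group⟩
    have := hk
    rw [Subgroup.mem_subgroupOf] at this
    rw [hB, derivedSeries_succ]
    simpa using this
  apply le_antisymm _ hCB
  rw [hB, derivedSeries_succ, Subgroup.commutator_le]
  intro x hx x' hx'
  rw [← QuotientGroup.eq_one_iff, ← QuotientGroup.mk'_apply, map_commutatorElement,
    commutatorElement_eq_one_iff_mul_comm]
  obtain ⟨k, y, hy, rfl⟩ := hdecomp x hx
  obtain ⟨l, y', hy', rfl⟩ := hdecomp x' hx'
  have hak : (a : G) ^ k ∈ A := A.zpow_mem a.2 k
  have hal : (a : G) ^ l ∈ A := A.zpow_mem a.2 l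
  have e1 : π y * π ((a : G) ^ l) = π ((a : G) ^ l) * π y := hxy _ hal y hy
  have e2 : π y' * π ((a : G) ^ k) = π ((a : G) ^ k) * π y' := hxy _ hak y' hy'
  have e3 : π y * π y' = π y' * π y := (hxy _ (hBA hy) y' hy').symm
  have e4 : π ((a : G) ^ k) * π ((a : G) ^ l) = π ((a : G) ^ l) * π ((a : G) ^ k) := by
    rw [← map_mul, ← map_mul, ← zpow_add, ← zpow_add, add_comm]
  change π ((a : G) ^ k * y) * π ((a : G) ^ l * y') = π ((a : G) ^ l * y') * π ((a : G) ^ k * y)
  simp only [map_mul]
  set u := π ((a : G) ^ k)
  set v := π ((a : G) ^ l)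
  calc u * π y * (v * π y') = u * (π y * v) * π y' := by group
    _ = u * (v * π y) * π y' := by rw [e1]
    _ = (u * v) * (π y * π y') := by group
    _ = (v * u) * (π y' * π y) := by rw [e4, e3]
    _ = v * (u * π y') * π y := by group
    _ = v * (π y' * u) * π y := by rw [e2]
    _ = v * π y' * (u * π y) := by group

end Cfsg.Agent.S0555
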