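import Cfsg.Statements.S0567
import Mathlib

set_option autoImplicit false
open Cfsg
open scoped commutatorElement

namespace Cfsg.Agent.S0567

variable {G : Type*} [Group G]

/-- iterated commutator with `H` -/
abbrev it (H : Subgroup G) (m : ℕ) : Subgroup G := (fun K : Subgroup G => ⁅K, H⁆)^[m] ⊤

lemma it_succ (H : Subgroup G) (m : ℕ) : it H (m + 1) = ⁅it H m, H⁆ := by
  unfold it
  rw [Function.iterate_succ_apply']

lemma it_mono {H K : Subgroup G} (h : H ≤ K) (m : ℕ) : it H m ≤ it K m := by
  induction m with
  | zero => exact le_rfl
  | succ n ih => rw [it_succ, it_succ]; exact Subgroup.commutator_mono ih h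

lemma H_le_norm_it (H : Subgroup G) (m : ℕ) : H ≤ Subgroup.normalizer (it H m : Set G) := by
  cases m with
  | zero =>
    have : (it H 0 : Subgroup G) = ⊤ := rfl
    rw [this]
    intro x _
    rw [Subgroup.mem_normalizer_iff]
    intro y; simp
  | succ n => rw [it_succ]; exact Subgroup.normalizer_commutator_ge_right _ _

lemma it_succ_le (H : Subgroup G) (m : ℕ) : it H (m + 1) ≤ it H m := by
  rw [it_succ]
  exact Subgroup.le_normalizer_iff_commutator_le_left.mp (H_le_norm_it H m)

lemma sub_sup (H : Subgroup G) (m : ℕ) : (H ⊔ it H m).IsSubnormal := by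
  induction m with
  | zero =>
    have : (it H 0 : Subgroup G) = ⊤ := rfl
    rw [this, sup_top_eq]
    exact Subgroup.IsSubnormal.top
  | succ n ih =>
    have hle : H ⊔ it H (n + 1) ≤ H ⊔ it H n := sup_le_sup_left (it_succ_le H n) H
    refine Subgroup.IsSubnormal.step _ _ hle ih ?_
    rw [Subgroup.normal_subgroupOf_iff_le_normalizer hle]
    apply sup_le
    · refine le_trans ?_ (Subgroup.normalizer_inf_normalizer_le_normalizer_sup H (it H (n + 1)))
      exact le_inf Subgroup.le_normalizer (H_le_norm_it H (n + 1))
    · rw [Subgroup.le_normalizer_iff]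
      intro k hk x hx
      have hb : it H n ≤ Subgroup.normalizer (it H (n + 1) : Set G) := by
        rw [it_succ]; exact Subgroup.normalizer_commutator_ge_left _ _
      rw [Subgroup.le_normalizer_iff] at hb
      have : H ⊔ it H (n + 1) ≤ (H ⊔ it H (n + 1)).comap (MulAut.conj k).toMonoidHom := by
        apply sup_le
        · intro h hh
          rw [Subgroup.mem_comap]
          change MulAut.conj k h ∈ _
          rw [conj_eq_commutatorElement_mul]
          refine Subgroup.mul_mem _ ?_ (Subgroup.mem_sup_left hh)
          apply Subgroup.mem_sup_right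
          rw [it_succ]
          exact Subgroup.commutator_mem_commutator hk hh
        · intro y hy
          rw [Subgroup.mem_comap]
          change MulAut.conj k y ∈ _
          rw [MulAut.conj_apply]
          exact Subgroup.mem_sup_right (hb k hk y hy)
      have := this hx
      rw [Subgroup.mem_comap] at this
      simpa [MulAut.conj_apply] using this

/-- A subgroup H of a group G is subnormal exactly when, for some m, the subgroup obtained from G by taking the commutator with H m times in succession is contained in H. -/
theorem result {G : Type*} [Group G] (H : Subgroup G) : H.IsSubnormal ↔ ∃ m : ℕ, (fun K : Subgroup G => ⁅K, H⁆)^[m] ⊤ ≤ H := by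
  constructor
  · intro h
    induction h with
    | top => exact ⟨0, le_rfl⟩
    | step H K hle hK hN ih =>
      obtain ⟨m, hm⟩ := ih
      refine ⟨m + 1, ?_⟩
      change it H (m + 1) ≤ H
      rw [it_succ]
      have h1 : it H m ≤ K := (it_mono hle m).trans hm
      refine (Subgroup.commutator_mono h1 le_rfl).trans ?_
      rw [← Subgroup.le_normalizer_iff_commutator_le_right]
      exact (Subgroup.normal_subgroupOf_iff_le_normalizer hle).mp hN
  · rintro ⟨m, hm⟩
    have := sub_sup H m
    rwa [sup_eq_left.mpr hm] at this

end Cfsg.Agent.S0567
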