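import Cfsg.Statements.S0568
import Mathlib
import Cfsg.Agent.Lib.Helper2.SystemNormalizer

set_option autoImplicit false
open Cfsg

namespace Cfsg.Agent.S0568

open Cfsg.Agent.Lib.Helper2
open scoped commutatorElement

/-- Let D be the system normalizer of a Hall complement system of a finite solvable group G, and let A < B be normal subgroups with no normal subgroup of G strictly between them (a chief factor). If G centralizes B modulo A then B ≤ A ⊔ D (D covers the factor); otherwise B ∩ D ≤ A (D avoids it). -/
theorem result {G : Type*} [Group G] [Finite G] [Group.IsSolvable G] (K : Nat.Primes → Subgroup G) (hK : Cfsg.IsComplementSystem K) (A B : Subgroup G) [A.Normal] [B.Normal] (hAB : A < B) (hchief : ∀ N : Subgroup G, N.Normal → A ≤ N → N ≤ B → N = A ∨ N = B) : (⁅B, (⊤ : Subgroup G)⁆ ≤ A → B ≤ A ⊔ Cfsg.systemNormalizer K) ∧ (¬ ⁅B, (⊤ : Subgroup G)⁆ ≤ A → B ⊓ Cfsg.systemNormalizer K ≤ A) := by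
  set D := Cfsg.systemNormalizer K with hD
  set π := QuotientGroup.mk' A with hπ
  have hsurj : Function.Surjective π := QuotientGroup.mk'_surjective A
  have hKbar := isComplementSystem_map_mk hK A
  have hDbar := systemNormalizer_map_mk hK A
  rw [← hπ, ← hD] at hDbar
  have hcommA : ∀ b g : G, π b * π g = π g * π b ↔ ⁅b, g⁆ ∈ A := by
    intro b g
    rw [← commutatorElement_eq_one_iff_mul_comm, ← map_commutatorElement, hπ,
      QuotientGroup.mk'_apply, QuotientGroup.eq_one_iff]
  constructor
  · intro h b hb
    have h1 : π b ∈ Cfsg.systemNormalizer (fun p => (K p).map π) := by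
      unfold Cfsg.systemNormalizer
      rw [Subgroup.mem_iInf]
      intro p
      rw [Subgroup.mem_normalizer_iff]
      intro y
      obtain ⟨g, rfl⟩ := hsurj y
      have : π b * π g = π g * π b :=
        (hcommA b g).mpr (h (Subgroup.commutator_mem_commutator hb (Subgroup.mem_top g)))
      rw [this, mul_inv_cancel_right]
    rw [hDbar] at h1
    have h2 : b ∈ (D.map π).comap π := h1
    rw [hπ, Cfsg.Agent.Lib.Lead.comap_map_mk, sup_comm] at h2
    exact h2
  · intro h x hx
    set V := B.map π with hV
    haveI hVn : V.Normal := Subgroup.Normal.map inferInstance π hsurj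
    have hVb : V ≠ ⊥ := by
      intro h0
      apply hAB.not_ge
      intro b hb
      have : π b ∈ V := Subgroup.mem_map_of_mem π hb
      rw [h0, Subgroup.mem_bot, hπ, QuotientGroup.mk'_apply, QuotientGroup.eq_one_iff] at this
      exact this
    have hcomapV : V.comap π = B := by
      rw [hV, hπ, Cfsg.Agent.Lib.Lead.comap_map_mk, sup_eq_left.mpr hAB.le]
    have hVmin : ∀ N : Subgroup (G ⧸ A), N.Normal → N ≤ V → N = ⊥ ∨ N = V := by
      intro N hNn hNV
      have h1 : (N.comap π).Normal := hNn.comap π
      have h2 : A ≤ N.comap π := le_comap_mk A N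
      have h3 : N.comap π ≤ B := hcomapV ▸ Subgroup.comap_mono hNV
      have h4 : N = (N.comap π).map π := (Subgroup.map_comap_eq_self_of_surjective hsurj N).symm
      rcases hchief _ h1 h2 h3 with h5 | h5
      · left
        rw [h4, h5, eq_bot_iff]
        rintro _ ⟨a, ha, rfl⟩
        rw [Subgroup.mem_bot, hπ, QuotientGroup.mk'_apply, QuotientGroup.eq_one_iff]
        exact ha
      · right
        rw [h4, h5]
    have hVnc : ¬ V ≤ Subgroup.center (G ⧸ A) := by
      intro hVc
      apply h
      rw [Subgroup.commutator_le]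
      intro b hb g _
      rw [← hcommA]
      have : π b ∈ Subgroup.center (G ⧸ A) := hVc (Subgroup.mem_map_of_mem π hb)
      exact ((Subgroup.mem_center_iff.mp this) (π g)).symm
    have hcore := inf_systemNormalizer_eq_bot_of_minNormal hKbar V hVb hVmin hVnc
    have h1 : π x ∈ V ⊓ Cfsg.systemNormalizer (fun p => (K p).map (QuotientGroup.mk' A)) := by
      refine Subgroup.mem_inf.mpr ⟨Subgroup.mem_map_of_mem π hx.1, ?_⟩
      rw [← hπ, hDbar]
      exact Subgroup.mem_map_of_mem π hx.2
    rw [hcore, Subgroup.mem_bot, hπ, QuotientGroup.mk'_apply, QuotientGroup.eq_one_iff] at h1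
    exact h1

end Cfsg.Agent.S0568
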