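import Cfsg.Statements.S0571
import Mathlib
import Mathlib
import Cfsg.Agent.Lib.Helper2.Supersolvable
import Cfsg.Agent.Lib.Helper2.CyclicSub

set_option autoImplicit false
open Cfsg

namespace Cfsg.Agent.S0571

open Cfsg.Agent.Lib.Helper2

universe u

/-- elements of a cyclic subgroup commute -/
lemma comm_of_cyclic {G : Type*} [Group G] (A : Subgroup G) [IsCyclic A] {x y : G}
    (hx : x ∈ A) (hy : y ∈ A) : x * y = y * x := by
  have := (IsCyclic.isMulCommutative (α := A)).is_comm.comm ⟨x, hx⟩ ⟨y, hy⟩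
  simpa using congrArg Subtype.val this

/-- key lemma: the larger cyclic factor contains a nontrivial normal subgroup -/
theorem exists_normal_le {G : Type*} [Group G] [Finite G] [Nontrivial G] (A B : Subgroup G)
    [IsCyclic A] [IsCyclic B]
    (hAB : ∀ g : G, ∃ a ∈ A, ∃ b ∈ B, g = a * b) (hcard : Nat.card B ≤ Nat.card A) :
    ∃ N : Subgroup G, N.Normal ∧ N ≠ ⊥ ∧ N ≤ A := by
  by_cases hI : A ⊓ B = ⊥
  swap
  · refine ⟨A ⊓ B, ⟨?_⟩, hI, inf_le_left⟩
    intro n hn g
    obtain ⟨a, ha, b, hb, rfl⟩ := hAB g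
    have h1 : b * n * b⁻¹ = n := by
      rw [comm_of_cyclic B hb hn.2, mul_inv_cancel_right]
    have h2 : a * n * a⁻¹ = n := by
      rw [comm_of_cyclic A ha hn.1, mul_inv_cancel_right]
    have : a * b * n * (a * b)⁻¹ = n := by
      rw [mul_inv_rev]
      calc a * b * n * (b⁻¹ * a⁻¹) = a * (b * n * b⁻¹) * a⁻¹ := by group
        _ = n := by rw [h1, h2]
    rw [this]; exact hn
  -- `|G| ≤ |A| |B|`
  have hG : Nat.card G ≤ Nat.card A * Nat.card B := by
    rw [← Nat.card_prod]
    apply Nat.card_le_card_of_surjective (fun x : A × B => (x.1 : G) * (x.2 : G))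
    intro g
    obtain ⟨a, ha, b, hb, rfl⟩ := hAB g
    exact ⟨(⟨a, ha⟩, ⟨b, hb⟩), rfl⟩
  obtain ⟨⟨b, hb⟩, hgen⟩ := IsCyclic.exists_generator (α := B)
  have hBz : ∀ x ∈ B, x ∈ Subgroup.zpowers b := by
    intro x hx
    obtain ⟨k, hk⟩ := Subgroup.mem_zpowers_iff.mp (hgen ⟨x, hx⟩)
    rw [Subgroup.mem_zpowers_iff]
    exact ⟨k, by simpa using congrArg Subtype.val hk⟩
  set D : Subgroup G := A ⊓ A.comap (MulAut.conj b⁻¹).toMonoidHom with hD
  have memD : ∀ x, x ∈ D ↔ x ∈ A ∧ b⁻¹ * x * b ∈ A := by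
    intro x
    rw [hD, Subgroup.mem_inf, Subgroup.mem_comap]
    simp
  have hDne : D ≠ ⊥ := by
    intro hbot
    have hinj : Function.Injective (fun x : A × A => (x.1 : G) * (b * (x.2 : G) * b⁻¹)) := by
      rintro ⟨⟨x, hx⟩, ⟨y, hy⟩⟩ ⟨⟨x', hx'⟩, ⟨y', hy'⟩⟩ h
      simp only at h
      have hd : x'⁻¹ * x ∈ D := by
        rw [memD]
        refine ⟨A.mul_mem (A.inv_mem hx') hx, ?_⟩
        have : x'⁻¹ * x = b * (y' * y⁻¹) * b⁻¹ := by
          have h' : x = x' * (b * y' * b⁻¹) * (b * y * b⁻¹)⁻¹ := by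
            rw [← h]; group
          rw [h']; group
        rw [this]
        have : b⁻¹ * (b * (y' * y⁻¹) * b⁻¹) * b = y' * y⁻¹ := by group
        rw [this]
        exact A.mul_mem hy' (A.inv_mem hy)
      rw [hbot, Subgroup.mem_bot] at hd
      have hxx : x = x' := by
        have := eq_of_inv_mul_eq_one hd
        exact this.symm
      subst hxx
      have hyy : y = y' := by
        have h2 := mul_left_cancel h
        have h3 : b * y = b * y' := mul_right_cancel h2
        exact mul_left_cancel h3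
      subst hyy
      rfl
    have hle : Nat.card A * Nat.card A ≤ Nat.card G := by
      rw [← Nat.card_prod]
      exact Nat.card_le_card_of_injective _ hinj
    have hApos : 0 < Nat.card A := Nat.card_pos
    have hAB' : Nat.card A = Nat.card B := by
      apply le_antisymm _ hcard
      have := hle.trans hG
      exact Nat.le_of_mul_le_mul_left this hApos
    have hGA : Nat.card (A × A) = Nat.card G := by
      rw [Nat.card_prod]
      apply le_antisymm hle
      rw [hAB'] at hG ⊢
      exact hG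
    have hbij : Function.Bijective (fun x : A × A => (x.1 : G) * (b * (x.2 : G) * b⁻¹)) :=
      (Nat.bijective_iff_injective_and_card _).mpr ⟨hinj, hGA⟩
    obtain ⟨⟨⟨x, hx⟩, ⟨y, hy⟩⟩, hxy⟩ := hbij.2 b⁻¹
    simp only at hxy
    have hbA : b ∈ A := by
      have : b = x⁻¹ * y⁻¹ := by
        have h1 : x * b * y = 1 := by
          have : x * (b * y * b⁻¹) * b = b⁻¹ * b := by rw [hxy]
          rw [inv_mul_cancel] at this
          rw [← this]; group
        have : b = x⁻¹ * (x * b * y) * y⁻¹ := by group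
        rw [this, h1, mul_one]
      rw [this]
      exact A.mul_mem (A.inv_mem hx) (A.inv_mem hy)
    have hb1 : b = 1 := by
      have : b ∈ A ⊓ B := ⟨hbA, hb⟩
      rwa [hI, Subgroup.mem_bot] at this
    have hB1 : Nat.card B = 1 := by
      rw [Nat.card_eq_one_iff_unique]
      refine ⟨⟨fun x y => ?_⟩, ⟨1⟩⟩
      have hx := hBz x x.2
      have hy := hBz y y.2
      rw [hb1, Subgroup.zpowers_one_eq_bot, Subgroup.mem_bot] at hx hy
      exact Subtype.ext (hx.trans hy.symm)
    rw [hAB', hB1] at hG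
    have : 1 < Nat.card G := Finite.one_lt_card
    omega
  refine ⟨D, ?_, hDne, inf_le_left⟩
  -- `b⁻¹` normalizes `D`
  have hDA : D ≤ A := inf_le_left
  have hmap : D.map (MulAut.conj b⁻¹).toMonoidHom = D := by
    apply CyclicSub.eq_of_card_eq_of_le A D _ hDA
    · rintro _ ⟨x, hx, rfl⟩
      have := ((memD x).mp hx).2
      simpa using this
    · exact Nat.card_congr
        (D.equivMapOfInjective _ (MulAut.conj b⁻¹).injective).toEquiv.symm
  have hbn : b⁻¹ ∈ Subgroup.normalizer (D : Set G) := by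
    rw [Subgroup.mem_normalizer_iff]
    intro x
    constructor
    · intro hx
      have : b⁻¹ * x * b⁻¹⁻¹ ∈ D.map (MulAut.conj b⁻¹).toMonoidHom := ⟨x, hx, by simp⟩
      rwa [hmap] at this
    · intro hx
      rw [← hmap] at hx
      obtain ⟨y, hy, hyx⟩ := hx
      have : y = x := by
        have h1 : b⁻¹ * y * b⁻¹⁻¹ = b⁻¹ * x * b⁻¹⁻¹ := by simpa using hyx
        exact mul_left_cancel (mul_right_cancel h1)
      rwa [← this]
  have hbn' : b ∈ Subgroup.normalizer (D : Set G) := by
    have := Subgroup.inv_mem _ hbn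
    rwa [inv_inv] at this
  have hBn : B ≤ Subgroup.normalizer (D : Set G) := by
    intro x hx
    have := hBz x hx
    exact (Subgroup.zpowers_le.mpr hbn') this
  have hAn : A ≤ Subgroup.normalizer (D : Set G) := by
    intro a ha
    rw [Subgroup.mem_normalizer_iff]
    intro x
    by_cases hxA : x ∈ A
    · have : a * x * a⁻¹ = x := by
        rw [comm_of_cyclic A ha hxA, mul_inv_cancel_right]
      rw [this]
    · constructor
      · intro hx; exact absurd (hDA hx) hxA
      · intro hx
        exfalso; apply hxA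
        have h1 := hDA hx
        have : x = a⁻¹ * (a * x * a⁻¹) * a := by group
        rw [this]
        exact A.mul_mem (A.mul_mem (A.inv_mem ha) h1) ha
  rw [← Subgroup.normalizer_eq_top_iff, eq_top_iff]
  intro g _
  obtain ⟨a, ha, b', hb', rfl⟩ := hAB g
  exact Subgroup.mul_mem _ (hAn ha) (hBn hb')

theorem main : ∀ (n : ℕ) (G : Type u) [Group G] [Finite G] (A B : Subgroup G) [IsCyclic A]
    [IsCyclic B], Nat.card G = n → (∀ g : G, ∃ a ∈ A, ∃ b ∈ B, g = a * b) →
    Cfsg.IsSupersolvable G := by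
  intro n
  induction n using Nat.strong_induction_on with
  | _ n ih =>
    intro G _ _ A B _ _ hn hAB
    by_cases htriv : Subsingleton G
    · exact isSupersolvable_of_subsingleton
    rw [not_subsingleton_iff_nontrivial] at htriv
    have hBA : ∀ g : G, ∃ b ∈ B, ∃ a ∈ A, g = b * a := by
      intro g
      obtain ⟨a, ha, b, hb, h⟩ := hAB g⁻¹
      refine ⟨b⁻¹, B.inv_mem hb, a⁻¹, A.inv_mem ha, ?_⟩
      rw [← mul_inv_rev, ← h, inv_inv]
    have key : ∃ N : Subgroup G, N.Normal ∧ N ≠ ⊥ ∧ IsCyclic N := by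
      rcases le_total (Nat.card B) (Nat.card A) with h | h
      · obtain ⟨N, h1, h2, h3⟩ := exists_normal_le A B hAB h
        exact ⟨N, h1, h2, Subgroup.isCyclic_of_le h3⟩
      · obtain ⟨N, h1, h2, h3⟩ := exists_normal_le B A hBA h
        exact ⟨N, h1, h2, Subgroup.isCyclic_of_le h3⟩
    obtain ⟨N, hNn, hNne, hNc⟩ := key
    have hcard := card_eq_card_quotient_mul_card N
    have hN1 : 1 < Nat.card N := by
      rw [Finite.one_lt_card_iff_nontrivial]
      exact (Subgroup.nontrivial_iff_ne_bot N).mpr hNne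
    have hpos : 0 < Nat.card (G ⧸ N) := Nat.card_pos
    have hlt : Nat.card (G ⧸ N) < n := by
      rw [← hn, hcard]; nlinarith
    haveI : IsCyclic (A.map (QuotientGroup.mk' N)) :=
      isCyclic_of_surjective ((QuotientGroup.mk' N).subgroupMap A)
        ((QuotientGroup.mk' N).subgroupMap_surjective A)
    haveI : IsCyclic (B.map (QuotientGroup.mk' N)) :=
      isCyclic_of_surjective ((QuotientGroup.mk' N).subgroupMap B)
        ((QuotientGroup.mk' N).subgroupMap_surjective B)
    have hq : Cfsg.IsSupersolvable (G ⧸ N) := by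
      apply ih _ hlt (G ⧸ N) (A.map (QuotientGroup.mk' N)) (B.map (QuotientGroup.mk' N)) rfl
      intro g
      obtain ⟨g, rfl⟩ := QuotientGroup.mk'_surjective N g
      obtain ⟨a, ha, b, hb, rfl⟩ := hAB g
      exact ⟨_, Subgroup.mem_map_of_mem _ ha, _, Subgroup.mem_map_of_mem _ hb, map_mul _ _ _⟩
    apply isSupersolvable_of_extension (QuotientGroup.mk' N) (QuotientGroup.mk'_surjective N) _ hq
    rw [QuotientGroup.ker_mk']
    exact ssReach_of_cyclic_normal N

/-- If a finite group G is the product AB of two cyclic subgroups (every element is a product ab), then G is supersolvable. -/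
theorem result {G : Type*} [Group G] [Finite G] (A B : Subgroup G) [IsCyclic A] [IsCyclic B] (hAB : ∀ g : G, ∃ a ∈ A, ∃ b ∈ B, g = a * b) : Cfsg.IsSupersolvable G := by
  exact main (Nat.card G) G A B rfl hAB

end Cfsg.Agent.S0571
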