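import Cfsg.Statements.S0575
import Mathlib

set_option autoImplicit false
open Cfsg

namespace Cfsg.Agent.S0575

/-- If H is a normal subgroup of a finite group G, then the Frattini subgroup of H, viewed in G, lies in the Frattini subgroup of G. -/
theorem result {G : Type*} [Group G] [Finite G] (H : Subgroup G) [H.Normal] : (frattini ↥H).map H.subtype ≤ frattini G := by
  set F := (frattini ↥H).map H.subtype with hF
  haveI hFn : F.Normal := ConjAct.normal_of_characteristic_of_normal
  have hFH : F ≤ H := Subgroup.map_subtype_le _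
  unfold frattini Order.radical
  apply le_iInf₂
  intro M hM
  by_contra hFM
  have hsup : M ⊔ F = ⊤ := by
    apply hM.2
    exact lt_of_le_of_ne le_sup_left (fun h => hFM (h ▸ le_sup_right))
  have hH : M.subgroupOf H ⊔ frattini ↥H = ⊤ := by
    rw [eq_top_iff]
    intro h _
    have hh : (h : G) ∈ M ⊔ F := by rw [hsup]; trivial
    rw [← SetLike.mem_coe, Subgroup.mul_normal] at hh
    obtain ⟨m, hm, f, hf, hmf⟩ := hh
    have hfH : f ∈ H := hFH hf
    have hmH : m ∈ H := by
      have : m = (h : G) * f⁻¹ := by rw [← hmf]; group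
      rw [this]
      exact H.mul_mem h.2 (H.inv_mem hfH)
    obtain ⟨f', hf', hff'⟩ := hf
    have : h = (⟨m, hmH⟩ : H) * f' := by
      apply Subtype.ext
      simp only [Subgroup.coe_mul]
      rw [← hmf]
      congr 1
      exact hff'.symm
    rw [this]
    exact Subgroup.mul_mem_sup (Subgroup.mem_subgroupOf.mpr hm) hf'
  have htop := frattini_nongenerating hH
  have hHM : H ≤ M := by
    intro x hx
    have : (⟨x, hx⟩ : H) ∈ M.subgroupOf H := by rw [htop]; trivial
    exact Subgroup.mem_subgroupOf.mp this
  exact hFM (hFH.trans hHM)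

end Cfsg.Agent.S0575
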