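import Cfsg.Statements.S0576
import Mathlib
import Cfsg.Agent.Lib.Helper2.FrattiniSocle

set_option autoImplicit false
open Cfsg

namespace Cfsg.Agent.S0576

/-- Let H be a normal subgroup of a finite group G with H contained in the Frattini subgroup of G. Then the group of inner automorphisms of H is contained in the Frattini subgroup of the automorphism group of H. -/
theorem result {G : Type*} [Group G] [Finite G] (H : Subgroup G) [H.Normal] (hH : H ≤ frattini G) : (MulAut.conj : ↥H →* MulAut ↥H).range ≤ frattini (MulAut ↥H) := by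
  rw [Cfsg.Agent.Lib.Lead.le_frattini_iff]
  intro M hM
  by_contra hle
  set I := (MulAut.conj : ↥H →* MulAut ↥H).range with hI
  haveI hIn : I.Normal := by
    constructor
    rintro _ ⟨h, rfl⟩ φ
    refine ⟨φ h, ?_⟩
    ext x
    simp [MulAut.conj_apply]
  have htop : I ⊔ M = ⊤ := by
    by_contra hne
    have h1 : M ≤ I ⊔ M := le_sup_right
    rcases eq_or_lt_of_le h1 with h2 | h2
    · apply hle
      rw [h2]; exact le_sup_left
    · exact hne (hM.2 _ h2)
  set G₁ := M.comap (MulAut.conjNormal : G →* MulAut H) with hG₁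
  have h1 : G₁ ⊔ frattini G = ⊤ := by
    rw [eq_top_iff]
    intro g _
    have hg : (MulAut.conjNormal g : MulAut H) ∈ I ⊔ M := by rw [htop]; trivial
    obtain ⟨i, hi, m, hm, he⟩ :=
      Cfsg.Agent.Lib.Helper2.FrattiniSocle.exists_mul_of_mem_normal_sup hg
    obtain ⟨h, rfl⟩ := hi
    have hdec : g = (h : G) * ((h : G)⁻¹ * g) := by group
    rw [hdec]
    refine mul_mem (Subgroup.mem_sup_right (hH h.2)) (Subgroup.mem_sup_left ?_)
    rw [hG₁, Subgroup.mem_comap, map_mul, map_inv, he, MulAut.conjNormal_val, inv_mul_cancel_left]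
    exact hm
  have h2 : G₁ = ⊤ := frattini_nongenerating h1
  apply hle
  rintro _ ⟨h, rfl⟩
  have h3 : (h : G) ∈ G₁ := by rw [h2]; trivial
  rw [hG₁, Subgroup.mem_comap, MulAut.conjNormal_val] at h3
  exact h3

end Cfsg.Agent.S0576
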