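import Cfsg.Statements.S0578
import Mathlib
import Cfsg.Agent.Lib.Helper2.Thompson

set_option autoImplicit false
open Cfsg

namespace Cfsg.Agent.S0578

open Cfsg.Agent.Lib.Helper2

/-- Under the hypothesis, every Sylow subgroup is abelian. -/
lemma sylow_comm {G : Type*} [Group G] [Finite G]
    (h : ∀ A : Subgroup G, IsMulCommutative A →
      Subgroup.normalizer (A : Set G) = Subgroup.centralizer (A : Set G))
    (p : ℕ) [Fact p.Prime] (P : Sylow p G) : IsMulCommutative (P : Subgroup G) := by
  -- maximal abelian subgroup of P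
  have hex : ∃ A : Subgroup G, A ≤ (P : Subgroup G) ∧ IsMulCommutative A :=
    ⟨⊥, bot_le, by
      rw [isMulComm_iff]; intro a ha b hb; rw [Subgroup.mem_bot] at ha hb; rw [ha, hb]⟩
  obtain ⟨A, hA⟩ := exists_maximal_of_wellFoundedGT
    (fun A : Subgroup G => A ≤ (P : Subgroup G) ∧ IsMulCommutative A) hex
  obtain ⟨hAP, hAc⟩ := hA.prop
  by_cases hAeq : A = (P : Subgroup G)
  · rw [← hAeq]; exact hAc
  · exfalso
    -- normalizer condition in P
    haveI : Group.IsNilpotent (P : Subgroup G) := P.2.isNilpotent
    have hnc : NormalizerCondition (P : Subgroup G) := normalizerCondition_of_isNilpotent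
    have hlt : A.subgroupOf (P : Subgroup G) < ⊤ := by
      rw [lt_top_iff_ne_top, Ne, Subgroup.subgroupOf_eq_top]
      intro hPA
      exact hAeq (le_antisymm hAP hPA)
    have h2 := hnc _ hlt
    obtain ⟨x, hxN, hxA⟩ := SetLike.exists_of_lt h2
    rw [← Subgroup.subgroupOf_normalizer_eq hAP, Subgroup.mem_subgroupOf] at hxN
    rw [Subgroup.mem_subgroupOf] at hxA
    rw [h A hAc, Subgroup.mem_centralizer_iff] at hxN
    -- A ⊔ ⟨x⟩ abelian
    have hAcomm := (isMulComm_iff A).mp hAc
    have hbig := isMulComm_sup_zpowers A hAcomm (x : G) (fun a ha => hxN a ha)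
    have hbig' : IsMulCommutative (A ⊔ Subgroup.zpowers (x : G) : Subgroup G) :=
      (isMulComm_iff _).mpr hbig
    have hle : A ⊔ Subgroup.zpowers (x : G) ≤ (P : Subgroup G) :=
      sup_le hAP (by rw [Subgroup.zpowers_le]; exact x.2)
    have := hA.le_of_ge ⟨hle, hbig'⟩ le_sup_left
    exact hxA (this (Subgroup.mem_sup_right (Subgroup.mem_zpowers _)))

/-- If in a finite group the normalizer of each abelian subgroup coincides with its centralizer, then the group is abelian. -/
theorem result {G : Type*} [Group G] [Finite G] (h : ∀ A : Subgroup G, IsMulCommutative A → Subgroup.normalizer (A : Set G) = Subgroup.centralizer (A : Set G)) : IsMulCommutative G := by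
  rw [← commutator_eq_bot_iff]
  rw [← Subgroup.card_eq_one]
  by_contra hne
  obtain ⟨p, hp, hpd⟩ := Nat.exists_prime_and_dvd hne
  haveI : Fact p.Prime := ⟨hp⟩
  let P : Sylow p G := default
  have hPc := sylow_comm h p P
  have hP : Subgroup.normalizer ((P : Subgroup G) : Set G) ≤ Subgroup.centralizer ((P : Subgroup G) : Set G) :=
    (h P hPc).le
  have hcompl := MonoidHom.ker_transferSylow_isComplement' P hP
  have hle : commutator G ≤ (MonoidHom.transferSylow P hP).ker := by
    rw [commutator_def, Subgroup.commutator_le]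
    intro a _ b _
    rw [MonoidHom.mem_ker, map_commutatorElement, commutatorElement_eq_one_iff_mul_comm]
    exact Subtype.ext (Subgroup.mul_comm_of_mem_isMulCommutative (P : Subgroup G) (Subtype.mem _) (Subtype.mem _))
  have h1 : Nat.card (commutator G) ∣ Nat.card (MonoidHom.transferSylow P hP).ker :=
    Subgroup.card_dvd_of_le hle
  have h2 : (P : Subgroup G).index = Nat.card (MonoidHom.transferSylow P hP).ker :=
    hcompl.index_eq_card
  rw [← h2] at h1
  exact P.not_dvd_index (hpd.trans h1)

end Cfsg.Agent.S0578
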