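import Cfsg.Statements.S0580
import Mathlib
import Cfsg.Agent.Lib.Helper2.Basic

set_option autoImplicit false
open Cfsg

namespace Cfsg.Agent.S0580

open Cfsg.Agent.Lib.Helper2

universe u

/-- the Sylow subgroup for the largest prime is normal -/
lemma sylow_normal {G : Type*} [Group G] [Finite G]
    (h : ∀ M : Subgroup G, IsCoatom M → M.index.Prime) (p : ℕ) [hp : Fact p.Prime]
    (hmax : ∀ q : ℕ, q.Prime → q ∣ Nat.card G → q ≤ p) (P : Sylow p G) :
    (P : Subgroup G).Normal := by
  rw [← Subgroup.normalizer_eq_top_iff]
  by_contra hN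
  obtain ⟨M, hM, hNM⟩ := (eq_top_or_exists_le_coatom _).resolve_left hN
  set N := Subgroup.normalizer ((P : Subgroup G) : Set G) with hNdef
  have hPM : (P : Subgroup G) ≤ M := Subgroup.le_normalizer.trans hNM
  have hq := h M hM
  set q := M.index with hqdef
  have ha : Nat.card (Sylow p G) = N.index := P.card_eq_index_normalizer
  have ha1 : Nat.card (Sylow p G) ≡ 1 [MOD p] := card_sylow_modEq_one p G
  let P' : Sylow p M := P.subtype hPM
  have hb : Nat.card (Sylow p M) = N.relIndex M := by
    rw [P'.card_eq_index_normalizer]
    change (Subgroup.normalizer (((P : Subgroup G).subgroupOf M : Subgroup M) : Set M)).index = _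
    rw [← Subgroup.subgroupOf_normalizer_eq hPM]
    rfl
  have hb1 : Nat.card (Sylow p M) ≡ 1 [MOD p] := card_sylow_modEq_one p M
  have hmul : N.relIndex M * M.index = N.index := Subgroup.relIndex_mul_index hNM
  rw [← ha, ← hb] at hmul
  have hq1 : q ≡ 1 [MOD p] := by
    have h1 : Nat.card (Sylow p M) * q ≡ 1 * q [MOD p] := Nat.ModEq.mul_right q hb1
    rw [hmul, one_mul] at h1
    exact h1.symm.trans ha1
  have hqd : q ∣ Nat.card G := Subgroup.index_dvd_card M
  have hqp : q ≤ p := hmax q hq hqd
  unfold Nat.ModEq at hq1
  rw [Nat.mod_eq_of_lt hp.1.one_lt] at hq1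
  rcases lt_or_eq_of_le hqp with hlt | heq
  · rw [Nat.mod_eq_of_lt hlt] at hq1
    exact hq.one_lt.ne' hq1
  · rw [heq, Nat.mod_self] at hq1
    omega

theorem main : ∀ (n : ℕ) (G : Type u) [Group G] [Finite G], Nat.card G = n →
    (∀ M : Subgroup G, IsCoatom M → M.index.Prime) → Group.IsSolvable G := by
  intro n
  induction n using Nat.strong_induction_on with
  | _ n ih =>
    intro G _ _ hn h
    by_cases htriv : Subsingleton G
    · infer_instance
    · rw [not_subsingleton_iff_nontrivial] at htriv
      have h1 : 1 < Nat.card G := Finite.one_lt_card_iff_nontrivial.mpr htriv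
      have hne : (Nat.card G).primeFactors.Nonempty := by
        rw [Nat.nonempty_primeFactors]; exact h1
      set p := (Nat.card G).primeFactors.max' hne with hp
      have hpm : p ∈ (Nat.card G).primeFactors := Finset.max'_mem _ hne
      obtain ⟨hpp, hpd, -⟩ := Nat.mem_primeFactors.mp hpm
      have hmax : ∀ q : ℕ, q.Prime → q ∣ Nat.card G → q ≤ p := by
        intro q hq hqd
        exact Finset.le_max' _ q (Nat.mem_primeFactors.mpr ⟨hq, hqd, Nat.card_pos.ne'⟩)
      haveI : Fact p.Prime := ⟨hpp⟩
      let P : Sylow p G := default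
      haveI hPn : (P : Subgroup G).Normal := sylow_normal h p hmax P
      have hPsolv : Group.IsSolvable (P : Subgroup G) := by
        haveI := P.2.isNilpotent
        infer_instance
      apply isSolvable_of_normal_of_quotient (P : Subgroup G) hPsolv
      have hcard := card_eq_card_quotient_mul_card (P : Subgroup G)
      have hPc : 1 < Nat.card (P : Subgroup G) := by
        have := P.card_eq_multiplicity
        rw [this]
        apply Nat.one_lt_pow _ hpp.one_lt
        have := (hpp.dvd_iff_one_le_factorization Nat.card_pos.ne').mp hpd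
        omega
      have hpos : 0 < Nat.card (G ⧸ (P : Subgroup G)) := Nat.card_pos
      have hlt : Nat.card (G ⧸ (P : Subgroup G)) < n := by
        rw [← hn, hcard]; nlinarith
      apply ih _ hlt _ rfl
      intro M' hM'
      have := h _ (isCoatom_comap_mk (P : Subgroup G) hM')
      rwa [Subgroup.index_comap_of_surjective M' (QuotientGroup.mk'_surjective _)] at this

/-- If every maximal subgroup of a finite group has prime index, then the group is solvable. -/
theorem result {G : Type*} [Group G] [Finite G] (h : ∀ M : Subgroup G, IsCoatom M → M.index.Prime) : Group.IsSolvable G :=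
  main (Nat.card G) G rfl h

end Cfsg.Agent.S0580
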