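import Cfsg.Statements.S0579
import Mathlib
import Mathlib
import Cfsg.Agent.S0580
import Cfsg.Agent.Lib.Helper2.Huppert5

set_option autoImplicit false
open Cfsg

namespace Cfsg.Agent.S0579

open Cfsg.Agent.Lib.Helper2 Cfsg.Agent.Lib.Helper2.Huppert

universe u

theorem main : ∀ (n : ℕ) (G : Type u) [Group G] [Finite G], Nat.card G = n →
    (∀ M : Subgroup G, IsCoatom M → M.index.Prime) → Cfsg.IsSupersolvable G := by
  intro n
  induction n using Nat.strong_induction_on with
  | _ n ih =>
    intro G _ _ hn h
    by_cases htriv : Subsingleton G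
    · exact isSupersolvable_of_subsingleton
    rw [not_subsingleton_iff_nontrivial] at htriv
    have h1 : 1 < Nat.card G := Finite.one_lt_card_iff_nontrivial.mpr htriv
    have hne : (Nat.card G).primeFactors.Nonempty := by
      rw [Nat.nonempty_primeFactors]; exact h1
    set p := (Nat.card G).primeFactors.max' hne with hp
    have hpm : p ∈ (Nat.card G).primeFactors := Finset.max'_mem _ hne
    obtain ⟨hpp, hpd, -⟩ := Nat.mem_primeFactors.mp hpm
    have hmax : ∀ q : ℕ, q.Prime → q ∣ Nat.card G → q ≤ p := by
      intro q hq hqd
      exact Finset.le_max' _ q (Nat.mem_primeFactors.mpr ⟨hq, hqd, Nat.card_pos.ne'⟩)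
    haveI : Fact p.Prime := ⟨hpp⟩
    let P : Sylow p G := default
    haveI hPn : (P : Subgroup G).Normal := Cfsg.Agent.S0580.sylow_normal h p hmax P
    have hPp : IsPGroup p (P : Subgroup G) := P.2
    have hPc : 1 < Nat.card (P : Subgroup G) := by
      have := P.card_eq_multiplicity
      rw [this]
      apply Nat.one_lt_pow _ hpp.one_lt
      have := (hpp.dvd_iff_one_le_factorization Nat.card_pos.ne').mp hpd
      omega
    have hPne : (P : Subgroup G) ≠ ⊥ := by
      intro hb
      rw [hb, Subgroup.card_bot] at hPc
      exact lt_irrefl _ hPc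
    -- proper quotients are supersolvable
    have hq : ∀ N : Subgroup G, ∀ _ : N.Normal, N ≠ ⊥ → Cfsg.IsSupersolvable (G ⧸ N) := by
      intro N hNn hNne
      have hcard := card_eq_card_quotient_mul_card N
      have hN1 : 1 < Nat.card N := by
        rw [Finite.one_lt_card_iff_nontrivial]
        exact (Subgroup.nontrivial_iff_ne_bot N).mpr hNne
      have hpos : 0 < Nat.card (G ⧸ N) := Nat.card_pos
      have hlt : Nat.card (G ⧸ N) < n := by
        rw [← hn, hcard]; nlinarith
      apply ih _ hlt _ rfl
      intro M' hM'
      have := h _ (isCoatom_comap_mk N hM')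
      rwa [Subgroup.index_comap_of_surjective M' (QuotientGroup.mk'_surjective _)] at this
    -- a normal subgroup of order `p`
    have key : ∃ N : Subgroup G, N.Normal ∧ Nat.card N = p := by
      by_cases hΦ : frattini (P : Subgroup G) = ⊥
      · exact exists_normal_prime_of_frattini_eq_bot h P hPne hΦ
      · set Φ : Subgroup G := (frattini (P : Subgroup G)).map (P : Subgroup G).subtype with hΦdef
        haveI hΦn : Φ.Normal := frattini_map_normal (P : Subgroup G)
        have hΦne : Φ ≠ ⊥ := by
          rw [hΦdef, Ne, Subgroup.map_eq_bot_iff_of_injective _ (Subgroup.subtype_injective _)]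
          exact hΦ
        obtain ⟨N, hNn, hNne, hNΦ, hmin⟩ := exists_minNormal_le Φ hΦn hΦne
        obtain ⟨H, hH⟩ := Subgroup.exists_right_complement'_of_coprime P.card_coprime_index
        have hcardG := hH.card_mul_card
        have hHcop : (Nat.card H).Coprime p := by
          have h1 := P.card_coprime_index
          have h2 : (P : Subgroup G).index = Nat.card H := by
            have := Subgroup.card_mul_index (P : Subgroup G)
            have hpos : 0 < Nat.card (P : Subgroup G) := Nat.card_pos
            rw [← hcardG] at this
            exact Nat.eq_of_mul_eq_mul_left hpos this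
          rw [h2] at h1
          obtain ⟨k, hk⟩ := IsPGroup.iff_card.mp hPp
          have hk0 : k ≠ 0 := by
            rintro rfl
            rw [hk, pow_zero] at hPc
            exact lt_irrefl _ hPc
          have hdvd : p ∣ Nat.card (P : Subgroup G) := by rw [hk]; exact dvd_pow_self p hk0
          exact (Nat.Coprime.coprime_dvd_left hdvd h1).symm
        have hPH : ∀ g : G, ∃ y ∈ (P : Subgroup G), ∃ x ∈ H, g = y * x := by
          intro g
          obtain ⟨⟨y, x⟩, rfl⟩ := hH.2 g
          exact ⟨y, y.2, x, x.2, rfl⟩
        refine ⟨N, hNn, ?_⟩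
        exact card_minNormal_of_frattini hpp (P : Subgroup G) hPp H hPH hHcop
          (hq Φ hΦn hΦne) N hNne hNΦ hmin
    obtain ⟨N, hNn, hNp⟩ := key
    have hNne : N ≠ ⊥ := by
      intro hb
      rw [hb, Subgroup.card_bot] at hNp
      exact hpp.one_lt.ne hNp
    haveI : IsCyclic N := isCyclic_of_prime_card hNp
    apply isSupersolvable_of_extension (QuotientGroup.mk' N) (QuotientGroup.mk'_surjective N) _
      (hq N hNn hNne)
    rw [QuotientGroup.ker_mk']
    exact ssReach_of_cyclic_normal N

/-- Huppert's supersolvability criterion: if every maximal subgroup of a finite group has prime index, then the group is supersolvable. -/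
theorem result {G : Type*} [Group G] [Finite G] (h : ∀ M : Subgroup G, IsCoatom M → M.index.Prime) : Cfsg.IsSupersolvable G := by
  exact main (Nat.card G) G rfl h

end Cfsg.Agent.S0579
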