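import Cfsg.Statements.S0584
import Mathlib
import Cfsg.Agent.Lib.Helper2.Basic

set_option autoImplicit false
open Cfsg

namespace Cfsg.Agent.S0584

open Cfsg.Agent.Lib.Helper2

/-- For each prime, `A` has a Sylow subgroup that is normal in `G`. -/
lemma exists_normal_sylow {G : Type*} [Group G] [Finite G] (A B : Subgroup G) [hAn : A.Normal]
    [hBn : B.Normal] (hBA : B ≤ A) (hB : B ≤ frattini G)
    (hnil : Group.IsNilpotent (A.map (QuotientGroup.mk' B))) (p : ℕ) [hp : Fact p.Prime] :
    ∃ Q : Subgroup G, Q ≤ A ∧ Q.Normal ∧ IsPGroup p Q ∧ ¬ p ∣ Q.relIndex A := by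
  set π := QuotientGroup.mk' B with hπ
  have hsurj : Function.Surjective π := QuotientGroup.mk'_surjective B
  have hker : π.ker = B := QuotientGroup.ker_mk' B
  set A' := A.map π with hA'
  haveI hA'n : A'.Normal := Subgroup.Normal.map hAn π hsurj
  let S : Sylow p A' := default
  have q := (Group.isNilpotent_of_finite_tfae (G := A')).out 0 3
  have hSn : (S : Subgroup A').Normal := (q.mp hnil) p hp S
  haveI hSc : (S : Subgroup A').Characteristic := Sylow.characteristic_of_normal S hSn
  set T := (S : Subgroup A').map A'.subtype with hT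
  haveI hTn : T.Normal := ConjAct.normal_of_characteristic_of_normal
  have hTA' : T ≤ A' := by rintro x ⟨y, -, rfl⟩; exact y.2
  set M := T.comap π with hM
  haveI hMn : M.Normal := Subgroup.Normal.comap hTn π
  have hBM : B ≤ M := le_comap_mk B T
  have hcomapA' : A'.comap π = A := by
    rw [hA', Subgroup.comap_map_eq, hker, sup_eq_left.mpr hBA]
  have hMA : M ≤ A := by rw [← hcomapA']; exact Subgroup.comap_mono hTA'
  have hmapM : M.map π = T := Subgroup.map_comap_eq_self_of_surjective hsurj T
  let Q : Sylow p M := default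
  set QG := (Q : Subgroup M).map M.subtype with hQG
  have hQGM : QG ≤ M := by rintro x ⟨y, -, rfl⟩; exact y.2
  have hQsub : QG.subgroupOf M = (Q : Subgroup M) :=
    Subgroup.comap_map_eq_self_of_injective M.subtype_injective _
  have hrelQM : QG.relIndex M = (Q : Subgroup M).index := by
    rw [Subgroup.relIndex, hQsub]
  have hnd1 : ¬ p ∣ QG.relIndex M := by rw [hrelQM]; exact Q.not_dvd_index
  -- M ≤ QG ⊔ B
  have h2 : M ≤ QG ⊔ B := by
    rw [← Subgroup.relIndex_eq_one]
    have hd1 : (QG ⊔ B).relIndex M ∣ QG.relIndex M := Subgroup.relIndex_dvd_of_le_left M le_sup_left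
    have hcm : ((QG ⊔ B).map π).comap π = QG ⊔ B := by
      rw [Subgroup.comap_map_eq, hker, sup_assoc, sup_idem]
    have hd2 : (QG ⊔ B).relIndex M ∣ Nat.card T := by
      rw [← hcm, hM, Subgroup.relIndex_comap, Subgroup.map_comap_eq_self_of_surjective hsurj]
      exact Subgroup.relIndex_dvd_card _ _
    have hTc : Nat.card T = Nat.card (S : Subgroup A') :=
      Subgroup.card_map_of_injective A'.subtype_injective
    obtain ⟨k, hk⟩ := S.2.exists_card_eq
    rw [hTc, hk] at hd2
    obtain ⟨j, -, hj⟩ := (Nat.dvd_prime_pow hp.1).mp hd2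
    rcases Nat.eq_zero_or_pos j with h0 | h0
    · rw [hj, h0, pow_zero]
    · exfalso
      apply hnd1
      refine dvd_trans ?_ hd1
      rw [hj]; exact dvd_pow_self p h0.ne'
  have h1 : Subgroup.normalizer (QG : Set G) ⊔ M = ⊤ := Sylow.normalizer_sup_eq_top Q
  have h3 : Subgroup.normalizer (QG : Set G) ⊔ frattini G = ⊤ := by
    rw [eq_top_iff, ← h1]
    apply sup_le le_sup_left
    refine h2.trans (sup_le ?_ (hB.trans le_sup_right))
    exact Subgroup.le_normalizer.trans le_sup_left
  have h4 : Subgroup.normalizer (QG : Set G) = ⊤ := frattini_nongenerating h3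
  refine ⟨QG, hQGM.trans hMA, Subgroup.normalizer_eq_top_iff.mp h4, Q.2.map M.subtype, ?_⟩
  rw [← Subgroup.relIndex_mul_relIndex QG M A hQGM hMA]
  have hnd2 : ¬ p ∣ M.relIndex A := by
    have : M.relIndex A = (S : Subgroup A').index := by
      rw [hM, Subgroup.relIndex_comap, ← hA', Subgroup.relIndex]
      congr 1
      exact Subgroup.comap_map_eq_self_of_injective A'.subtype_injective _
    rw [this]; exact S.not_dvd_index
  intro hdiv
  rcases (Nat.Prime.dvd_mul hp.1).mp hdiv with h | h
  · exact hnd1 h
  · exact hnd2 h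

/-- Let B ≤ A be normal subgroups of a finite group G with B contained in the Frattini subgroup of G. If A modulo B is nilpotent then A is nilpotent. -/
theorem result {G : Type*} [Group G] [Finite G] (A B : Subgroup G) [A.Normal] [B.Normal] (hBA : B ≤ A) (hB : B ≤ frattini G) (h : Group.IsNilpotent (↥A ⧸ B.subgroupOf A)) : Group.IsNilpotent A := by
  obtain ⟨f, hf⟩ := exists_surjective_quotient_to_map A B
  have hnil : Group.IsNilpotent (A.map (QuotientGroup.mk' B)) := Group.nilpotent_of_surjective f hf
  have q := (Group.isNilpotent_of_finite_tfae (G := A)).out 0 3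
  rw [q]
  intro p hp P
  obtain ⟨Q, hQA, hQn, hQp, hQi⟩ := exists_normal_sylow A B hBA hB hnil p
  have hQ'p : IsPGroup p (Q.subgroupOf A) :=
    hQp.comap_of_injective A.subtype A.subtype_injective
  let P' : Sylow p A := hQ'p.toSylow hQi
  have hP'n : (P' : Subgroup A).Normal := by
    have : (P' : Subgroup A) = Q.subgroupOf A := IsPGroup.toSylow_coe hQ'p hQi
    rw [this]
    exact Subgroup.normal_subgroupOf
  haveI := Sylow.unique_of_normal P' hP'n
  exact Sylow.normal_of_subsingleton P

end Cfsg.Agent.S0584
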