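import Cfsg.Statements.S0585
import Mathlib

set_option autoImplicit false
open Cfsg
open scoped Pointwise

namespace Cfsg.Agent.S0585

/-- If the Frattini subgroup of a finite group G is trivial, then every abelian normal subgroup of G has a complement in G. -/
theorem result {G : Type*} [Group G] [Finite G] (hΦ : frattini G = ⊥) (A : Subgroup G) [A.Normal] [IsMulCommutative A] : ∃ H : Subgroup G, Subgroup.IsComplement' A H := by
  obtain ⟨H, hH⟩ := exists_minimal_of_wellFoundedLT (fun H : Subgroup G => A ⊔ H = ⊤) ⟨⊤, sup_top_eq _⟩
  have hAH : A ⊔ H = ⊤ := hH.prop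
  refine ⟨H, ?_⟩
  set D := A ⊓ H with hD
  -- D is normal in G
  have hDn : D.Normal := by
    rw [← Subgroup.normalizer_eq_top_iff, eq_top_iff, ← hAH]
    apply sup_le
    · intro a ha
      rw [Subgroup.mem_normalizer_iff]
      intro d
      constructor
      · intro hd
        have hdA : d ∈ A := hd.1
        have : a * d * a⁻¹ = d := by
          have hc := Subgroup.mul_comm_of_mem_isMulCommutative A ha hdA
          rw [hc, mul_inv_cancel_right]
        rw [this]; exact hd
      · intro hd
        have hdA : a * d * a⁻¹ ∈ A := hd.1
        have h2 : d ∈ A := by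
          have := A.mul_mem (A.mul_mem (A.inv_mem ha) hdA) ha
          simpa [mul_assoc] using this
        have : a * d * a⁻¹ = d := by
          have hc := Subgroup.mul_comm_of_mem_isMulCommutative A ha h2
          rw [hc, mul_inv_cancel_right]
        rw [this] at hd; exact hd
    · intro h hh
      rw [Subgroup.mem_normalizer_iff]
      intro d
      constructor
      · intro hd
        exact ⟨Subgroup.Normal.conj_mem inferInstance d hd.1 h,
          H.mul_mem (H.mul_mem hh hd.2) (H.inv_mem hh)⟩
      · intro hd
        have h1 : d ∈ A := by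
          have := Subgroup.Normal.conj_mem (inferInstance : A.Normal) _ hd.1 h⁻¹
          simpa [mul_assoc] using this
        have h2 : d ∈ H := by
          have := H.mul_mem (H.mul_mem (H.inv_mem hh) hd.2) hh
          simpa [mul_assoc] using this
        exact ⟨h1, h2⟩
  have hDbot : D = ⊥ := by
    by_contra hne
    have hnotle : ¬ D ≤ frattini G := by
      rw [hΦ, le_bot_iff]; exact hne
    unfold frattini Order.radical at hnotle
    rw [le_iInf₂_iff] at hnotle
    push_neg at hnotle
    obtain ⟨M, hM, hDM⟩ := hnotle
    have hsup : M ⊔ D = ⊤ := by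
      apply hM.2
      exact lt_of_le_of_ne le_sup_left (fun h => hDM (h ▸ le_sup_right))
    have hHle : H ≤ (H ⊓ M) ⊔ D := by
      intro h hh
      have hh' : h ∈ M ⊔ D := by rw [hsup]; trivial
      rw [← SetLike.mem_coe, Subgroup.mul_normal] at hh'
      obtain ⟨m, hm, d, hd, hmd⟩ := hh'
      have hmH : m ∈ H := by
        have : m = h * d⁻¹ := by rw [← hmd]; group
        rw [this]
        exact H.mul_mem hh (H.inv_mem hd.2)
      rw [← hmd]
      exact Subgroup.mul_mem_sup ⟨hmH, hm⟩ hd
    have hnew : A ⊔ (H ⊓ M) = ⊤ := by
      rw [eq_top_iff, ← hAH]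
      apply sup_le le_sup_left
      apply hHle.trans
      apply sup_le le_sup_right
      exact (inf_le_left : D ≤ A).trans le_sup_left
    have hmin := hH.le_of_le hnew inf_le_left
    exact hDM ((inf_le_right : D ≤ H).trans (hmin.trans inf_le_right))
  apply Subgroup.isComplement'_of_disjoint_and_mul_eq_univ
  · rw [disjoint_iff]; exact hDbot
  · have := Subgroup.normal_mul A H
    rw [hAH] at this
    rw [← this]; rfl

end Cfsg.Agent.S0585
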