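import Cfsg.Statements.S0587
import Mathlib
import Cfsg.Agent.Lib.Helper2.CoreFree
import Cfsg.Agent.Lib.Helper2.PCore

set_option autoImplicit false
open Cfsg

namespace Cfsg.Agent.S0587

open Cfsg.Agent.Lib.Helper2

/-- Let G be a finite group whose largest normal p-subgroup L is nontrivial, and M a maximal subgroup of G with trivial normal core. Then L is elementary abelian, M is a complement to L, L is a minimal normal subgroup of G, the centralizer of L is L, and for every prime q such that the largest normal q-subgroup of M is nontrivial, the order of L is congruent to 1 modulo q and q ≠ p. -/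
theorem result {G : Type*} [Group G] [Finite G] (p : ℕ) [Fact p.Prime] (hL : Cfsg.pCore p G ≠ ⊥) (M : Subgroup G) (hM : IsCoatom M) (hcore : M.normalCore = ⊥) : Cfsg.IsElementaryAbelian p (Cfsg.pCore p G) ∧ Subgroup.IsComplement' (Cfsg.pCore p G) M ∧ (∀ K : Subgroup G, K.Normal → K ≤ Cfsg.pCore p G → K = ⊥ ∨ K = Cfsg.pCore p G) ∧ Subgroup.centralizer ((Cfsg.pCore p G : Subgroup G) : Set G) = Cfsg.pCore p G ∧ ∀ (q : ℕ) [Fact q.Prime], Cfsg.pCore q ↥M ≠ ⊥ → Nat.card (Cfsg.pCore p G) % q = 1 % q ∧ q ≠ p := by
  have hpp : p.Prime := Fact.out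
  set L := Cfsg.pCore p G with hLdef
  haveI hLn : L.Normal := Cfsg.pCore_normal p G
  have hLp : IsPGroup p L := pCore_isPGroup p
  -- the centre of L, inside G
  haveI hLnt : Nontrivial L := (Subgroup.nontrivial_iff_ne_bot L).mpr hL
  set Z : Subgroup G := (Subgroup.center L).map L.subtype with hZ
  haveI hZn : Z.Normal := ConjAct.normal_of_characteristic_of_normal
  have hZL : Z ≤ L := by rintro x ⟨y, -, rfl⟩; exact y.2
  have hZc : ∀ z ∈ Z, ∀ x ∈ L, x * z = z * x := by
    rintro z ⟨y, hy, rfl⟩ x hx
    have := (Subgroup.mem_center_iff.mp hy) ⟨x, hx⟩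
    exact congrArg Subtype.val this
  have hZb : Z ≠ ⊥ := by
    haveI := hLp.center_nontrivial
    intro h
    rw [hZ, Subgroup.map_eq_bot_iff_of_injective _ L.subtype_injective] at h
    exact (Subgroup.nontrivial_iff_ne_bot _).mp inferInstance h
  obtain ⟨N, hNZ, hNn, hNb, hNmin⟩ := exists_minNormal_le Z hZb
  haveI := hNn
  have hNc : IsMulCommutative N := by
    rw [isMulComm_iff]
    intro a ha b hb
    exact hZc b (hNZ hb) a (hZL (hNZ ha))
  have hCN : Subgroup.centralizer (N : Set G) = N :=
    centralizer_eq_of_coreFree_abelian M hM hcore N hNb hNc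
  have hLN : L = N := by
    apply le_antisymm _ (hNZ.trans hZL)
    rw [← hCN]
    intro x hx
    rw [Subgroup.mem_centralizer_iff]
    intro n hn
    exact (hZc n (hNZ hn) x hx).symm
  have hLc : IsMulCommutative L := by rw [hLN]; exact hNc
  have hLmin : ∀ K : Subgroup G, K.Normal → K ≤ L → K = ⊥ ∨ K = L := by
    rw [hLN]; exact hNmin
  have hCL : Subgroup.centralizer (L : Set G) = L := by rw [hLN]; exact hCN
  have hML : M ⊔ L = ⊤ := sup_eq_top_of_coreFree M hM hcore L hL
  have hML' : M ⊓ L = ⊥ := inf_eq_bot_of_coreFree_abelian M hM hcore L hLc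
  refine ⟨?_, ?_, hLmin, hCL, ?_⟩
  · -- elementary abelian
    obtain ⟨p', hp', hexp, d, hd, hcard⟩ := exists_prime_pow_of_minNormal_abelian L hL hLmin hLc
    obtain ⟨k, hk⟩ := hLp.exists_card_eq
    have hpeq : p' = p := by
      have h1 : p' ∣ p ^ k := by
        rw [← hk, hcard]; exact dvd_pow_self p' hd.ne'
      exact (Nat.prime_dvd_prime_iff_eq hp' hpp).mp (hp'.dvd_of_dvd_pow h1)
    rw [isEA_iff]
    refine ⟨(isMulComm_iff L).mp hLc, ?_⟩
    rw [← hpeq]; exact hexp
  · apply Subgroup.isComplement'_of_disjoint_and_mul_eq_univ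
    · rw [disjoint_iff, inf_comm]; exact hML'
    · rw [← Subgroup.normal_mul, sup_comm, hML]; rfl
  · intro q hq hR
    have hqq : q.Prime := Fact.out
    set R' := Cfsg.pCore q ↥M with hR'
    haveI hR'n : R'.Normal := Cfsg.pCore_normal q ↥M
    have hR'q : IsPGroup q R' := pCore_isPGroup q
    set R : Subgroup G := R'.map M.subtype with hRdef
    have hRM : R ≤ M := by rintro x ⟨y, -, rfl⟩; exact y.2
    have hRq : IsPGroup q R := hR'q.map M.subtype
    have hRb : R ≠ ⊥ := by
      intro h
      rw [hRdef, Subgroup.map_eq_bot_iff_of_injective _ M.subtype_injective] at h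
      exact hR h
    have hMR : M ≤ Subgroup.normalizer (R : Set G) := by
      intro m hm
      rw [Subgroup.mem_normalizer_iff]
      intro x
      constructor
      · rintro ⟨y, hy, rfl⟩
        exact ⟨⟨m, hm⟩ * y * ⟨m, hm⟩⁻¹, hR'n.conj_mem y hy ⟨m, hm⟩, by simp⟩
      · rintro ⟨y, hy, hyx⟩
        refine ⟨⟨m, hm⟩⁻¹ * y * ⟨m, hm⟩, ?_, ?_⟩
        · have := hR'n.conj_mem y hy ⟨m, hm⟩⁻¹
          simpa using this
        · simp only [Subgroup.coe_subtype, Subgroup.coe_mul, Subgroup.coe_inv] at hyx ⊢
          rw [hyx]; group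
    have hRL : R ⊓ L = ⊥ := by
      rw [eq_bot_iff, ← hML']; exact inf_le_inf_right L hRM
    have hqp : q ≠ p := by
      rintro rfl
      -- L ⊔ R is a normal q-subgroup
      have hXp : IsPGroup q (L ⊔ R : Subgroup G) := IsPGroup.to_sup_of_normal_left hLp hRq
      have hXn : (L ⊔ R : Subgroup G).Normal := by
        rw [← Subgroup.normalizer_eq_top_iff, eq_top_iff, ← hML]
        apply sup_le
        · refine le_trans ?_ (Subgroup.normalizer_inf_normalizer_le_normalizer_sup L R)
          refine le_inf ?_ hMR
          rw [Subgroup.normalizer_eq_top]; exact le_top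
        · exact le_sup_left.trans Subgroup.le_normalizer
      have : L ⊔ R ≤ L := le_pCore hXn hXp
      apply hRb
      rw [eq_bot_iff, ← hRL]
      exact le_inf le_rfl (le_sup_right.trans this)
    refine ⟨?_, hqp⟩
    -- fixed points
    set F := L ⊓ Subgroup.centralizer (R : Set G) with hF
    have hFn : F.Normal := by
      rw [← Subgroup.normalizer_eq_top_iff, eq_top_iff, ← hML]
      apply sup_le
      · refine le_trans ?_ Subgroup.inf_normalizer_le_normalizer_inf
        refine le_inf ?_ (hMR.trans (normalizer_le_normalizer_centralizer R))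
        rw [Subgroup.normalizer_eq_top]; exact le_top
      · intro l hl
        apply mem_normalizer_of_commute
        intro f hf
        exact (isMulComm_iff L).mp hLc l hl f (Subgroup.mem_inf.mp hf).1
    have hFb : F = ⊥ := by
      rcases hLmin F hFn inf_le_left with h | h
      · exact h
      · exfalso
        have hLC : L ≤ Subgroup.centralizer (R : Set G) := by
          rw [← h]; exact inf_le_right
        have hRC : R ≤ Subgroup.centralizer (L : Set G) := by
          intro r hr
          rw [Subgroup.mem_centralizer_iff]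
          intro l hl
          have := hLC hl
          rw [Subgroup.mem_centralizer_iff] at this
          exact (this r hr).symm
        rw [hCL] at hRC
        apply hRb
        rw [eq_bot_iff, ← hRL]
        exact le_inf le_rfl hRC
    exact card_modEq_one_of_conj_fixed_trivial q R L hRq hFb

end Cfsg.Agent.S0587
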