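import Cfsg.Statements.S0589
import Mathlib
import Cfsg.Agent.Lib.Lead.Frobenius2

set_option autoImplicit false
open Pointwise
open Cfsg

namespace Cfsg.Agent.S0589


open Cfsg.Agent.Lib.Lead

section
variable {G : Type*} [Group G]

theorem smul_mk_eq_iff (H : Subgroup G) (l g : G) :
    l • (QuotientGroup.mk g : G ⧸ H) = QuotientGroup.mk g ↔ l ∈ MulAut.conj g • H := by
  rw [mem_conj_smul_iff, MulAction.Quotient.smul_mk, eq_comm, QuotientGroup.eq, smul_eq_mul, mul_assoc]

theorem fix_unique {H : Subgroup G} (hH : Cfsg.IsFrobeniusComplement H) {l : G} (hl : l ≠ 1)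
    {q q' : G ⧸ H} (h1 : l • q = q) (h2 : l • q' = q') : q = q' := by
  obtain ⟨a, rfl⟩ := QuotientGroup.mk_surjective q
  obtain ⟨b, rfl⟩ := QuotientGroup.mk_surjective q'
  rw [smul_mk_eq_iff] at h1 h2
  rw [QuotientGroup.eq]
  exact frob_mal hH hl h1 h2

/-- the cosets with a nontrivial stabilizer in `L` -/
def badSet (H L : Subgroup G) : Set (G ⧸ H) := {q | ∃ l : L, l ≠ 1 ∧ l • q = q}

theorem smul_mem_badSet (H L : Subgroup G) (l : L) {q : G ⧸ H} (hq : q ∈ badSet H L) :
    l • q ∈ badSet H L := by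
  obtain ⟨l', hl', hfix⟩ := hq
  refine ⟨l * l' * l⁻¹, ?_, ?_⟩
  · intro h
    apply hl'
    have : l' = l⁻¹ * (l * l' * l⁻¹) * l := by group
    rw [this, h]; group
  · rw [mul_smul, mul_smul, inv_smul_smul, hfix]

/-- the `L`-action on the cosets with trivial stabilizer -/
def goodAct (H L : Subgroup G) : SubMulAction L (G ⧸ H) where
  carrier := (badSet H L)ᶜ
  smul_mem' := by
    intro l q hq hbad
    apply hq
    have := smul_mem_badSet H L l⁻¹ hbad
    rwa [inv_smul_smul] at this

theorem goodAct_free (H L : Subgroup G) (q : goodAct H L) : MulAction.stabilizer L q = ⊥ := by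
  rw [SubMulAction.stabilizer_of_subMul, eq_bot_iff]
  intro l hl
  rw [Subgroup.mem_bot]
  by_contra hne
  exact q.2 ⟨l, hne, MulAction.mem_stabilizer_iff.mp hl⟩

end

section
variable {G : Type*} [Group G] [Finite G]

theorem card_good_dvd (H L : Subgroup G) : Nat.card L ∣ Nat.card (goodAct H L) := by
  have e := MulAction.selfEquivOrbitsQuotientProd (G := L) (X := goodAct H L) (goodAct_free H L)
  have h1 := Nat.card_congr e
  rw [Nat.card_prod] at h1
  rw [h1]
  exact dvd_mul_left _ _

theorem card_bad_lt {H : Subgroup G} (hH : Cfsg.IsFrobeniusComplement H) (L : Subgroup G) :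
    Nat.card (badSet H L) < Nat.card L := by
  classical
  have hex : ∀ q : badSet H L, ∃ l : L, l ≠ 1 ∧ l • (q : G ⧸ H) = q := fun q => q.2
  choose f hf1 hf2 using hex
  have hinj : Function.Injective f := by
    intro q q' hqq
    apply Subtype.ext
    have h1 := hf2 q
    have h2 := hf2 q'
    rw [← hqq] at h2
    have hne : ((f q : L) : G) ≠ 1 := fun h => hf1 q (Subtype.ext h)
    exact fix_unique hH hne h1 h2
  haveI : Fintype (badSet H L) := Fintype.ofFinite _
  haveI : Fintype L := Fintype.ofFinite _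
  rw [Nat.card_eq_fintype_card, Nat.card_eq_fintype_card]
  apply Fintype.card_lt_of_injective_of_notMem f hinj (b := 1)
  rintro ⟨q, hq⟩
  exact hf1 q hq

theorem main589 (H : Subgroup G) (hH : Cfsg.IsFrobeniusComplement H) (L : Subgroup G) (hL : Nat.card L ∣ Nat.card H) : ∃ x : G, L ≤ MulAut.conj x • H := by
  classical
  by_cases hL1 : Nat.card L = 1
  · refine ⟨1, ?_⟩
    rw [Subgroup.card_eq_one] at hL1
    rw [hL1]; exact bot_le
  have hL2 : 2 ≤ Nat.card L := by
    have : 0 < Nat.card L := Nat.card_pos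
    omega
  have hmod : H.index ≡ 1 [MOD Nat.card L] := Nat.ModEq.of_dvd hL (index_mod_card hH)
  have hsplit : Nat.card (badSet H L) + Nat.card (goodAct H L) = H.index := by
    rw [Subgroup.index_eq_card]
    have := Set.ncard_add_ncard_compl (badSet H L)
    rw [← Nat.card_coe_set_eq, ← Nat.card_coe_set_eq] at this
    exact this
  have hgood := card_good_dvd H L
  have hlt := card_bad_lt hH L
  have hbad : Nat.card (badSet H L) = 1 := by
    have h1 : Nat.card (badSet H L) ≡ 1 [MOD Nat.card L] := by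
      have h2 : Nat.card (badSet H L) + Nat.card (goodAct H L) ≡ Nat.card (badSet H L) [MOD Nat.card L] := by
        obtain ⟨k, hk⟩ := hgood
        rw [hk]
        exact Nat.add_modulus_mul_modEq_iff.mpr rfl
      rw [hsplit] at h2
      exact h2.symm.trans hmod
    have h3 := h1
    unfold Nat.ModEq at h3
    rw [Nat.mod_eq_of_lt hlt, Nat.mod_eq_of_lt (by omega)] at h3
    exact h3
  rw [Nat.card_eq_one_iff_exists] at hbad
  obtain ⟨q0, hq0⟩ := hbad
  obtain ⟨x, hx⟩ := QuotientGroup.mk_surjective (q0 : G ⧸ H)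
  refine ⟨x, ?_⟩
  intro l hl
  rw [← smul_mk_eq_iff, hx]
  have h1 := smul_mem_badSet H L ⟨l, hl⟩ q0.2
  have h2 := hq0 ⟨_, h1⟩
  exact congrArg Subtype.val h2

end

/-- Let H be a Frobenius complement in a finite group G and L a subgroup of G whose order divides the order of H. Then L is contained in some conjugate of H. -/
theorem result {G : Type*} [Group G] [Finite G] (H : Subgroup G) (hH : Cfsg.IsFrobeniusComplement H) (L : Subgroup G) (hL : Nat.card L ∣ Nat.card H) : ∃ x : G, L ≤ MulAut.conj x • H := by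
  exact main589 H hH L hL

end Cfsg.Agent.S0589
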