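import Cfsg.Statements.S0590
import Mathlib

set_option autoImplicit false
open Cfsg
open scoped commutatorElement

namespace Cfsg.Agent.S0590

/-- Quadratic action on an elementary abelian p-group forces the acting group modulo the kernel of the action to be elementary abelian. -/
theorem result {G : Type*} [Group G] [Finite G] {p : ℕ} [Fact p.Prime] (V H : Subgroup G) (hV : Cfsg.IsElementaryAbelian p V) (hHV : H ≤ Subgroup.normalizer (V : Set G)) (hq : ⁅⁅V, H⁆, H⁆ = ⊥) : ⁅H, H⁆ ≤ Subgroup.centralizer (V : Set G) ∧ ∀ a ∈ H, a ^ p ∈ Subgroup.centralizer (V : Set G) := by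
  obtain ⟨hVc, hVp⟩ := hV
  have hVcomm : ∀ u ∈ V, ∀ w ∈ V, u * w = w * u := fun u hu w hw =>
    Subgroup.mul_comm_of_mem_isMulCommutative V hu hw
  -- conjugation by H preserves V
  have hconj : ∀ a ∈ H, ∀ v ∈ V, a * v * a⁻¹ ∈ V := by
    intro a ha v hv
    exact (Subgroup.mem_normalizer_iff.mp (hHV ha) v).mp hv
  -- d(v,a) = a v a⁻¹ v⁻¹ lies in ⁅V,H⁆ and in V
  have hd_mem : ∀ a ∈ H, ∀ v ∈ V, a * v * a⁻¹ * v⁻¹ ∈ ⁅V, H⁆ := by
    intro a ha v hv
    have h1 : ⁅v, a⁆ ∈ ⁅V, H⁆ := Subgroup.commutator_mem_commutator hv ha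
    have h2 : a * v * a⁻¹ * v⁻¹ = ⁅v, a⁆⁻¹ := by
      rw [commutatorElement_def]; group
    rw [h2]; exact Subgroup.inv_mem _ h1
  have hd_V : ∀ a ∈ H, ∀ v ∈ V, a * v * a⁻¹ * v⁻¹ ∈ V := by
    intro a ha v hv
    exact V.mul_mem (hconj a ha v hv) (V.inv_mem hv)
  -- elements of H commute with elements of ⁅V,H⁆
  have hcent : ∀ w ∈ ⁅V, H⁆, ∀ b ∈ H, b * w = w * b := by
    intro w hw b hb
    have h1 : ⁅w, b⁆ ∈ ⁅⁅V, H⁆, H⁆ := Subgroup.commutator_mem_commutator hw hb
    rw [hq, Subgroup.mem_bot, commutatorElement_def] at h1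
    have : w * b = b * w := by
      have h2 : w * b * w⁻¹ * b⁻¹ * (b * w) = b * w := by rw [h1, one_mul]
      rw [← h2]; group
    exact this.symm
  -- a v a⁻¹ = d v
  have hav : ∀ a v : G, a * v * a⁻¹ = (a * v * a⁻¹ * v⁻¹) * v := by
    intro a v; group
  constructor
  · rw [Subgroup.commutator_le]
    intro a ha b hb
    -- (ab) v (ab)⁻¹ = (ba) v (ba)⁻¹ for v ∈ V
    have key : ∀ v ∈ V, (a * b) * v * (a * b)⁻¹ = (b * a) * v * (b * a)⁻¹ := by
      intro v hv
      set da := a * v * a⁻¹ * v⁻¹ with hda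
      set db := b * v * b⁻¹ * v⁻¹ with hdb
      have h1 : (a * b) * v * (a * b)⁻¹ = db * da * v := by
        calc (a * b) * v * (a * b)⁻¹ = a * (b * v * b⁻¹) * a⁻¹ := by group
          _ = a * (db * v) * a⁻¹ := by rw [hav b v]
          _ = (a * db) * v * a⁻¹ := by group
          _ = (db * a) * v * a⁻¹ := by rw [hcent db (hd_mem b hb v hv) a ha]
          _ = db * (a * v * a⁻¹) := by group
          _ = db * (da * v) := by rw [hav a v]
          _ = db * da * v := by group
      have h2 : (b * a) * v * (b * a)⁻¹ = da * db * v := by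
        calc (b * a) * v * (b * a)⁻¹ = b * (a * v * a⁻¹) * b⁻¹ := by group
          _ = b * (da * v) * b⁻¹ := by rw [hav a v]
          _ = (b * da) * v * b⁻¹ := by group
          _ = (da * b) * v * b⁻¹ := by rw [hcent da (hd_mem a ha v hv) b hb]
          _ = da * (b * v * b⁻¹) := by group
          _ = da * (db * v) := by rw [hav b v]
          _ = da * db * v := by group
      rw [h1, h2, hVcomm db (hd_V b hb v hv) da (hd_V a ha v hv)]
    rw [Subgroup.mem_centralizer_iff]
    intro v hv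
    -- v' = (ba)⁻¹ v (ba)
    have hba : (b * a)⁻¹ ∈ H := H.inv_mem (H.mul_mem hb ha)
    have hv' : (b * a)⁻¹ * v * (b * a) ∈ V := by
      have := hconj _ hba v hv
      simpa using this
    have := key _ hv'
    have h3 : (b * a) * ((b * a)⁻¹ * v * (b * a)) * (b * a)⁻¹ = v := by group
    rw [h3] at this
    rw [commutatorElement_def]
    have h4 : a * b * a⁻¹ * b⁻¹ = (a * b) * (b * a)⁻¹ := by group
    rw [h4]
    calc v * (a * b * (b * a)⁻¹)
        = (a * b * ((b * a)⁻¹ * v * (b * a)) * (a * b)⁻¹) * (a * b * (b * a)⁻¹) := by rw [this]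
      _ = a * b * (b * a)⁻¹ * v := by group
  · intro a ha
    rw [Subgroup.mem_centralizer_iff]
    intro v hv
    set d := a * v * a⁻¹ * v⁻¹ with hd
    have hpow : ∀ n : ℕ, a ^ n * v * (a ^ n)⁻¹ = d ^ n * v := by
      intro n
      induction n with
      | zero => simp
      | succ n ih =>
        have hdn : d ^ n ∈ ⁅V, H⁆ := Subgroup.pow_mem _ (hd_mem a ha v hv) n
        calc a ^ (n + 1) * v * (a ^ (n + 1))⁻¹ = a * (a ^ n * v * (a ^ n)⁻¹) * a⁻¹ := by
              rw [pow_succ']; group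
          _ = a * (d ^ n * v) * a⁻¹ := by rw [ih]
          _ = (a * d ^ n) * v * a⁻¹ := by group
          _ = (d ^ n * a) * v * a⁻¹ := by rw [hcent _ hdn a ha]
          _ = d ^ n * (a * v * a⁻¹) := by group
          _ = d ^ n * (d * v) := by rw [hav a v]
          _ = d ^ (n + 1) * v := by rw [pow_succ]; group
    have h1 := hpow p
    rw [hVp d (hd_V a ha v hv), one_mul] at h1
    calc v * a ^ p = (a ^ p * v * (a ^ p)⁻¹) * a ^ p := by rw [h1]
      _ = a ^ p * v := by group

end Cfsg.Agent.S0590
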