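import Cfsg.Statements.S0591
import Mathlib

set_option autoImplicit false
open Cfsg
open scoped commutatorElement

namespace Cfsg.Agent.S0591

/-- For a quadratically acting element a on an elementary abelian p-group V, the fixed points C_V(a) have order at least the square root of the order of V. -/
theorem result {G : Type*} [Group G] [Finite G] {p : ℕ} [Fact p.Prime] (V : Subgroup G) (hV : Cfsg.IsElementaryAbelian p V) (a : G) (ha : a ∈ Subgroup.normalizer (V : Set G)) (hq : ⁅⁅V, Subgroup.zpowers a⁆, Subgroup.zpowers a⁆ = ⊥) : Nat.card V ≤ Nat.card ↥(V ⊓ Subgroup.centralizer (Subgroup.zpowers a : Set G)) ^ 2 := by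
  obtain ⟨hVc, hVp⟩ := hV
  have hVcomm : ∀ u ∈ V, ∀ w ∈ V, u * w = w * u := fun u hu w hw =>
    Subgroup.mul_comm_of_mem_isMulCommutative V hu hw
  have hconj : ∀ v ∈ V, a * v * a⁻¹ ∈ V := fun v hv =>
    (Subgroup.mem_normalizer_iff.mp ha v).mp hv
  have hcomV : ∀ v ∈ V, ⁅v, a⁆ ∈ V := by
    intro v hv
    rw [commutatorElement_def]
    have := V.mul_mem hv (hconj v⁻¹ (V.inv_mem hv))
    simpa [mul_assoc] using this
  set C := V ⊓ Subgroup.centralizer (Subgroup.zpowers a : Set G) with hC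
  -- membership in C
  have hmemC : ∀ x ∈ V, x * a = a * x → x ∈ C := by
    intro x hx hxa
    refine Subgroup.mem_inf.mpr ⟨hx, ?_⟩
    rw [Subgroup.mem_centralizer_iff]
    intro y hy
    obtain ⟨k, rfl⟩ := Subgroup.mem_zpowers_iff.mp hy
    have : Commute x a := hxa
    exact (this.zpow_right k).symm
  let φ : V →* V :=
    { toFun := fun v => ⟨⁅(v : G), a⁆, hcomV v v.2⟩
      map_one' := by
        apply Subtype.ext
        simp [commutatorElement_def]
      map_mul' := by
        intro v w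
        apply Subtype.ext
        simp only [Subgroup.coe_mul, commutatorElement_def]
        -- v w a w⁻¹ v⁻¹ a⁻¹ = (v a v⁻¹ a⁻¹)(w a w⁻¹ a⁻¹)
        have h1 : (a * (v : G)⁻¹ * a⁻¹) ∈ V := hconj _ (V.inv_mem v.2)
        have h2 : (w : G) * a * (w : G)⁻¹ * a⁻¹ ∈ V := by
          have := hcomV w w.2
          rwa [commutatorElement_def] at this
        have h3 := hVcomm _ h1 _ h2
        calc (v : G) * w * a * ((v : G) * w)⁻¹ * a⁻¹
            = v * ((w * a * (w : G)⁻¹ * a⁻¹) * (a * (v : G)⁻¹ * a⁻¹)) := by group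
          _ = v * ((a * (v : G)⁻¹ * a⁻¹) * (w * a * (w : G)⁻¹ * a⁻¹)) := by rw [h3]
          _ = v * a * (v : G)⁻¹ * a⁻¹ * (w * a * (w : G)⁻¹ * a⁻¹) := by group }
  have hφ : ∀ v : V, ((φ v : V) : G) = ⁅(v : G), a⁆ := fun v => rfl
  -- kernel maps into C
  have hker : φ.ker.map V.subtype ≤ C := by
    rintro _ ⟨v, hv, rfl⟩
    rw [SetLike.mem_coe, MonoidHom.mem_ker] at hv
    have h1 : ⁅(v : G), a⁆ = 1 := by rw [← hφ, hv]; rfl
    apply hmemC _ v.2
    rw [commutatorElement_def] at h1
    have : (v : G) * a * (v : G)⁻¹ * a⁻¹ * (a * v) = a * v := by rw [h1, one_mul]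
    rw [← this]; group
  -- range maps into C
  have hrange : φ.range.map V.subtype ≤ C := by
    rintro _ ⟨_, ⟨v, rfl⟩, rfl⟩
    apply hmemC _ (φ v).2
    show ((φ v : V) : G) * a = a * ((φ v : V) : G)
    rw [hφ]
    have h1 : ⁅(v : G), a⁆ ∈ ⁅V, Subgroup.zpowers a⁆ :=
      Subgroup.commutator_mem_commutator v.2 (Subgroup.mem_zpowers a)
    have h2 : ⁅⁅(v : G), a⁆, a⁆ ∈ ⁅⁅V, Subgroup.zpowers a⁆, Subgroup.zpowers a⁆ :=
      Subgroup.commutator_mem_commutator h1 (Subgroup.mem_zpowers a)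
    rw [hq, Subgroup.mem_bot] at h2
    set w := ⁅(v : G), a⁆ with hw
    rw [commutatorElement_def] at h2
    have : w * a * w⁻¹ * a⁻¹ * (a * w) = a * w := by rw [h2, one_mul]
    rw [← this]; group
  have hk : Nat.card φ.ker ≤ Nat.card C := by
    rw [← Subgroup.card_map_of_injective V.subtype_injective]
    exact Subgroup.card_le_of_le hker
  have hr : Nat.card φ.range ≤ Nat.card C := by
    rw [← Subgroup.card_map_of_injective V.subtype_injective]
    exact Subgroup.card_le_of_le hrange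
  have hcard : Nat.card V = Nat.card φ.ker * Nat.card φ.range := by
    rw [← Subgroup.index_ker, Subgroup.card_mul_index]
  rw [hcard, sq]
  exact Nat.mul_le_mul hk hr

end Cfsg.Agent.S0591
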