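import Cfsg.Statements.S0592
import Mathlib
import Cfsg.Agent.Lib.Helper2.QuadK3

set_option autoImplicit false
open Cfsg

namespace Cfsg.Agent.S0592

/-- Two quadratically acting generators of a linear group that is not a p-group, with the p'-part of the order of their product dividing q - 1, give a homomorphism onto a subgroup of SL(2, q) that is not a p-group. -/
theorem result {K : Type*} [Field K] [Fintype K] {p : ℕ} [Fact p.Prime] [CharP K p] {W : Type*} [AddCommGroup W] [Module K W] [FiniteDimensional K W] [Finite W] [Nontrivial W] (H : Subgroup (W ≃ₗ[K] W)) (a b : W ≃ₗ[K] W) (hH : H = Subgroup.closure {a, b}) (ha : ∀ w : W, a (a w - w) = a w - w) (hb : ∀ w : W, b (b w - w) = b w - w) (hnp : ¬ IsPGroup p H) (hk : ∃ e k : ℕ, orderOf (a * b) = p ^ e * k ∧ k ∣ Fintype.card K - 1) : ∃ φ : H →* Matrix.SpecialLinearGroup (Fin 2) K, ¬ IsPGroup p φ.range := by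
  classical
  have hpp : p.Prime := Fact.out
  have haH : a ∈ H := by rw [hH]; exact Subgroup.subset_closure (by simp)
  have hbH : b ∈ H := by rw [hH]; exact Subgroup.subset_closure (by simp)
  set ρ : ↥H →* Module.End K W :=
    { toFun := fun g => ((g : W ≃ₗ[K] W) : W →ₗ[K] W)
      map_one' := rfl
      map_mul' := fun _ _ => rfl } with hρ
  have hρa : ∀ (g : ↥H) (w : W), ρ g w = (g : W ≃ₗ[K] W) w := fun _ _ => rfl
  have hρinj : ∀ g : ↥H, ρ g = 1 → g = 1 := by
    intro g hg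
    apply Subtype.ext
    apply LinearEquiv.ext
    intro w
    have := congrArg (fun f => f w) hg
    simpa [hρa] using this
  set x : ↥H := ⟨a, haH⟩ with hx
  set y : ↥H := ⟨b, hbH⟩ with hy
  have hgen : Subgroup.closure ({x, y} : Set ↥H) = ⊤ := by
    apply Subgroup.map_injective H.subtype_injective
    rw [MonoidHom.map_closure, ← MonoidHom.range_eq_map, Subgroup.range_subtype, Set.image_pair]
    exact hH.symm
  have hquad : ∀ (t : ↥H), (∀ w : W, (t : W ≃ₗ[K] W) ((t : W ≃ₗ[K] W) w - w) = (t : W ≃ₗ[K] W) w - w) →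
      (ρ t - 1) * (ρ t - 1) = 0 := by
    intro t ht
    ext w
    simp only [Module.End.mul_apply, LinearMap.sub_apply, Module.End.one_apply,
      LinearMap.zero_apply, hρa]
    rw [ht w, sub_self]
  have hqx : (ρ x - 1) * (ρ x - 1) = 0 := hquad x ha
  have hqy : (ρ y - 1) * (ρ y - 1) = 0 := hquad y hb
  obtain ⟨e, k, hord, hkq⟩ := hk
  have hz : ρ ((x * y) ^ (p ^ e * (Fintype.card K - 1))) = 1 := by
    have h1 : (x * y) ^ (p ^ e * (Fintype.card K - 1)) = 1 := by
      apply Subtype.ext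
      rw [Subgroup.coe_pow, Subgroup.coe_one]
      show (a * b) ^ (p ^ e * (Fintype.card K - 1)) = 1
      rw [← orderOf_dvd_iff_pow_eq_one, hord]
      exact Nat.mul_dvd_mul_left _ hkq
    rw [h1, map_one]
  have hnp' : ¬ Cfsg.Agent.Lib.Helper2.QuadK.IsPRep p ρ := by
    intro h
    apply hnp
    intro g
    obtain ⟨j, hj⟩ := h g
    refine ⟨j, ?_⟩
    apply hρinj
    rw [map_pow, hj]
  have main := Cfsg.Agent.Lib.Helper2.QuadK.reduce_irreducible (p := p) (K := K) x y
    ((x * y) ^ (p ^ e * (Fintype.card K - 1)))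
    (∃ ι : ↥H →* Matrix.SpecialLinearGroup (Fin 2) K, ∃ g : ↥H, ∀ j : ℕ, ι g ^ p ^ j ≠ 1)
    (by
      intro M _ _ _ ρ' hx' hy' hz' hI' hnp''
      obtain ⟨ι, hι⟩ := Cfsg.Agent.Lib.Helper2.QuadK.exists_hom_of_irred (p := p) ρ' x y hgen hx' hy' e
        hz' hI' hnp''
      refine ⟨ι, ?_⟩
      unfold Cfsg.Agent.Lib.Helper2.QuadK.IsPRep at hnp''
      push Not at hnp''
      obtain ⟨g, hg⟩ := hnp''
      refine ⟨g, fun j hj => hg j ?_⟩
      rw [← map_pow] at hj ⊢
      exact (hι _).mp hj)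
    (Nat.card W) W ρ rfl hqx hqy hz hnp'
  obtain ⟨ι, g, hg⟩ := main
  refine ⟨ι, fun hP => ?_⟩
  obtain ⟨j, hj⟩ := hP ⟨ι g, ⟨g, rfl⟩⟩
  apply hg j
  have := congrArg Subtype.val hj
  simpa using this

end Cfsg.Agent.S0592
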