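import Cfsg.Statements.S0595
import Mathlib
import Cfsg.Agent.Lib.Helper2.ActionPStable
import Cfsg.Agent.Lib.Helper2.SL2PSolv

set_option autoImplicit false
open Cfsg

namespace Cfsg.Agent.S0595


open Cfsg.Agent.Lib.Lead in
/-- the common part: under the hypotheses, `H` has a section `SL₂(p)` -/
theorem hasSection {G : Type*} [Group G] [Finite G] {p : ℕ} [Fact p.Prime] (hp : p ≠ 2) (V H : Subgroup G) (hV : Cfsg.IsElementaryAbelian p V) (hHV : H ≤ Subgroup.normalizer (V : Set G)) (hf : H ⊓ Subgroup.centralizer (V : Set G) = ⊥) (a : G) (haH : a ∈ H) (hq : ⁅⁅V, Subgroup.zpowers a⁆, Subgroup.zpowers a⁆ = ⊥) (hna : a ∉ (Cfsg.pCore p H).map H.subtype) :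
    Quad.HasSL2Section p ↥H := by
  classical
  have hVp : IsPGroup p ↥V := by
    intro v
    refine ⟨1, ?_⟩
    apply Subtype.ext
    rw [pow_one, Subgroup.coe_pow, Subgroup.coe_one]
    exact hV.2 v v.2
  refine Quad.hasSL2Section_of_quadratic_pgroup hp V H hVp hHV a haH (Quad.quad_of_commutator V a hq) ?_
  intro N hNH hNn hNp hxN
  have hNpg : IsPGroup p ↥(N.subgroupOf H) := by
    rintro ⟨n, hn⟩
    rw [Subgroup.mem_subgroupOf] at hn
    obtain ⟨k, hk⟩ := hNp _ hn
    refine ⟨k, ?_⟩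
    apply Subtype.ext
    apply Subtype.ext
    have h1 : (n : G) ^ p ^ k ∈ H ⊓ Subgroup.centralizer (V : Set G) := by
      refine ⟨H.pow_mem n.2 _, ?_⟩
      intro v hv
      exact (hk v hv).symm
    rw [hf, Subgroup.mem_bot] at h1
    simpa using h1
  have hNnorm : (N.subgroupOf H).Normal := by
    constructor
    intro n hn g
    rw [Subgroup.mem_subgroupOf] at hn ⊢
    exact hNn g g.2 n hn
  have hle : N.subgroupOf H ≤ Cfsg.pCore p ↥H := le_sSup ⟨hNnorm, hNpg⟩
  have hx' : (⟨a, haH⟩ : ↥H) ∈ N.subgroupOf H := by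
    rw [Subgroup.mem_subgroupOf]; exact hxN
  exact hna ⟨⟨a, haH⟩, hle hx', rfl⟩

/-- For odd p, a faithful action on an elementary abelian p-group that is not p-stable forces non-abelian Sylow 2-subgroups. -/
theorem result {G : Type*} [Group G] [Finite G] {p : ℕ} [Fact p.Prime] (hp : p ≠ 2) (V H : Subgroup G) (hV : Cfsg.IsElementaryAbelian p V) (hHV : H ≤ Subgroup.normalizer (V : Set G)) (hf : H ⊓ Subgroup.centralizer (V : Set G) = ⊥) (a : G) (haH : a ∈ H) (hq : ⁅⁅V, Subgroup.zpowers a⁆, Subgroup.zpowers a⁆ = ⊥) (hna : a ∉ (Cfsg.pCore p H).map H.subtype) (T : Sylow 2 H) : ¬ IsMulCommutative T := by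
  intro hT
  have hs := hasSection hp V H hV hHV hf a haH hq hna
  exact Cfsg.Agent.Lib.Helper2.SL2Sections.not_hasSL2Section_of_abTwo hp
    (Cfsg.Agent.Lib.Helper2.SL2Sections.abTwo_of_one_sylow T hT) hs

end Cfsg.Agent.S0595
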