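import Cfsg.Statements.S0594
import Mathlib
import Cfsg.Agent.S0596
open scoped commutatorElement

set_option autoImplicit false
open Cfsg

namespace Cfsg.Agent.S0594


open Cfsg in
theorem isPSolvable_of_normal_coprime_index {X : Type*} [Group X] {p : ℕ} (N : Subgroup X) [hN : N.Normal]
    (h1 : (Nat.card N).Coprime p) (h2 : ∃ m : ℕ, N.index = p ^ m) : IsPSolvable p X := by
  refine ⟨2, ![⊥, N, ⊤], rfl, rfl, ?_, ?_, ?_⟩
  · intro i j hij
    fin_cases i <;> fin_cases j <;> simp at hij ⊢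
    all_goals first | exact le_rfl | exact absurd hij (by decide)
  · intro i
    fin_cases i
    · exact (inferInstance : (⊥ : Subgroup X).Normal)
    · exact hN
    · exact (inferInstance : (⊤ : Subgroup X).Normal)
  · intro i
    fin_cases i
    · right
      show ((⊥ : Subgroup X).relIndex N).Coprime p
      rw [Subgroup.relIndex_bot_left]
      exact h1
    · left
      show ∃ m : ℕ, N.relIndex ⊤ = p ^ m
      rw [Subgroup.relIndex_top_right]
      exact h2

/-- For odd p, two quadratic generators of a faithful group that is not a p-group, one of which acts nontrivially on a normal subgroup of order prime to p, force p = 3 and a section isomorphic to SL(2,3). -/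
theorem result {G : Type*} [Group G] [Finite G] {p : ℕ} [Fact p.Prime] (hp : p ≠ 2) (V H : Subgroup G) (hV : Cfsg.IsElementaryAbelian p V) (hHV : H ≤ Subgroup.normalizer (V : Set G)) (hf : H ⊓ Subgroup.centralizer (V : Set G) = ⊥) (a b : G) (hab : H = Subgroup.closure {a, b}) (ha : ⁅⁅V, Subgroup.zpowers a⁆, Subgroup.zpowers a⁆ = ⊥) (hb : ⁅⁅V, Subgroup.zpowers b⁆, Subgroup.zpowers b⁆ = ⊥) (hnp : ¬ IsPGroup p H) (Q : Subgroup G) (hQH : Q ≤ H) (hQn : H ≤ Subgroup.normalizer (Q : Set G)) (hQ : (Nat.card Q).Coprime p) (hQa : ⁅Q, Subgroup.zpowers a⁆ ≠ ⊥) : p = 3 ∧ ∃ (K L : Subgroup G) (hL : (L.subgroupOf K).Normal), K ≤ H ∧ Nonempty ((K ⧸ L.subgroupOf K) ≃* Matrix.SpecialLinearGroup (Fin 2) (ZMod 3)) := by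
  classical
  have hpp : p.Prime := Fact.out
  have haH : a ∈ H := by rw [hab]; exact Subgroup.subset_closure (by simp)
  -- (1) `a ^ p = 1`
  have hquad := Cfsg.Agent.Lib.Lead.Quad.quad_of_commutator V a ha
  have haN : a ∈ Subgroup.normalizer (V : Set G) := hHV haH
  have hconj : ∀ v ∈ V, a * v * a⁻¹ ∈ V := fun v hv => (Subgroup.mem_normalizer_iff.mp haN v).mp hv
  have hkey : ∀ (k : ℕ) (c v : G), a * (c ^ k * v) * a⁻¹ = (a * c * a⁻¹) ^ k * (a * v * a⁻¹) := by
    intro k c v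
    rw [conj_pow]; group
  have hpow : ∀ (k : ℕ) (v : G), v ∈ V → a ^ k * v * (a ^ k)⁻¹ = (a * v * a⁻¹ * v⁻¹) ^ k * v := by
    intro k
    induction k with
    | zero => intro v hv; simp
    | succ k ih =>
      intro v hv
      have hc := hquad v hv
      calc a ^ (k + 1) * v * (a ^ (k + 1))⁻¹ = a * (a ^ k * v * (a ^ k)⁻¹) * a⁻¹ := by
            rw [pow_succ']; group
        _ = a * ((a * v * a⁻¹ * v⁻¹) ^ k * v) * a⁻¹ := by rw [ih v hv]
        _ = (a * (a * v * a⁻¹ * v⁻¹) * a⁻¹) ^ k * (a * v * a⁻¹) := hkey k _ v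
        _ = (a * v * a⁻¹ * v⁻¹) ^ k * (a * v * a⁻¹) := by rw [hc]
        _ = (a * v * a⁻¹ * v⁻¹) ^ (k + 1) * v := by rw [pow_succ]; group
  have hap : a ^ p = 1 := by
    have h1 : a ^ p ∈ H ⊓ Subgroup.centralizer (V : Set G) := by
      refine ⟨H.pow_mem haH _, ?_⟩
      show a ^ p ∈ Subgroup.centralizer (V : Set G)
      rw [Subgroup.mem_centralizer_iff]
      intro v hv
      have h2 := hpow p v hv
      have h3 : (a * v * a⁻¹ * v⁻¹) ^ p = 1 :=
        hV.2 _ (V.mul_mem (hconj v hv) (V.inv_mem hv))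
      rw [h3, one_mul] at h2
      calc v * a ^ p = a ^ p * v * (a ^ p)⁻¹ * a ^ p := by rw [h2]
        _ = a ^ p * v := by group
    rw [hf, Subgroup.mem_bot] at h1
    exact h1
  -- the subgroup `H₀ = Q⟨a⟩`
  set H₀ : Subgroup G := Q ⊔ Subgroup.zpowers a with hH₀
  have hH₀H : H₀ ≤ H := sup_le hQH (by rw [Subgroup.zpowers_le]; exact haH)
  have haH₀ : a ∈ H₀ := (le_sup_right : Subgroup.zpowers a ≤ H₀) (Subgroup.mem_zpowers a)
  have hQH₀ : Q ≤ H₀ := le_sup_left
  -- (2) `H₀` is `p`-solvable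
  have hsep : Cfsg.IsPSolvable p ↥H₀ := by
    haveI hQ₀n : (Q.subgroupOf H₀).Normal := by
      constructor
      intro n hn g
      rw [Subgroup.mem_subgroupOf] at hn ⊢
      exact (Subgroup.mem_normalizer_iff.mp (hQn (hH₀H g.2)) n).mp hn
    apply isPSolvable_of_normal_coprime_index (Q.subgroupOf H₀)
    · rw [Nat.card_congr (Subgroup.subgroupOfEquivOfLe hQH₀).toEquiv]
      exact hQ
    · show ∃ m : ℕ, Q.relIndex H₀ = p ^ m
      haveI hQ'n : (Q.subgroupOf H).Normal := by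
        constructor
        intro n hn g
        rw [Subgroup.mem_subgroupOf] at hn ⊢
        exact (Subgroup.mem_normalizer_iff.mp (hQn g.2) n).mp hn
      have e1 : (Q.subgroupOf H).relIndex (Q.subgroupOf H ⊔ Subgroup.zpowers (⟨a, haH⟩ : ↥H)) =
          Q.relIndex H₀ := by
        rw [← Subgroup.relIndex_map_map_of_injective _ _ H.subtype_injective, Subgroup.map_sup,
          Subgroup.map_subgroupOf_eq_of_le hQH, MonoidHom.map_zpowers]
        rfl
      rw [← e1, Subgroup.relIndex_sup_left]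
      have h1 : (Q.subgroupOf H).relIndex (Subgroup.zpowers (⟨a, haH⟩ : ↥H)) ∣ p := by
        refine (Subgroup.relIndex_dvd_card _ _).trans ?_
        rw [Nat.card_zpowers]
        apply orderOf_dvd_of_pow_eq_one
        apply Subtype.ext
        rw [Subgroup.coe_pow, Subgroup.coe_one]
        exact hap
      rcases (Nat.dvd_prime hpp).mp h1 with h | h
      · exact ⟨0, by rw [h, pow_zero]⟩
      · exact ⟨1, by rw [h, pow_one]⟩
  -- (3) `a ∉ O_p(H₀)`
  have hna : a ∉ (Cfsg.pCore p ↥H₀).map H₀.subtype := by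
    intro haP
    apply hQa
    set P' : Subgroup G := (Cfsg.pCore p ↥H₀).map H₀.subtype with hP'
    have hP'p : IsPGroup p ↥P' :=
      (Sylow.sSup_of_normal _ (fun _ hH => hH.2) (fun _ hH => hH.1) :
        IsPGroup p ↥(Cfsg.pCore p ↥H₀)).map _
    have hP'n : ∀ h ∈ H₀, ∀ x ∈ P', h * x * h⁻¹ ∈ P' := by
      rintro h hh _ ⟨x, hx, rfl⟩
      exact ⟨⟨h, hh⟩ * x * ⟨h, hh⟩⁻¹, (inferInstance : (Cfsg.pCore p ↥H₀).Normal).conj_mem x hx _, rfl⟩
    have hdisj : Q ⊓ P' = ⊥ := by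
      apply Subgroup.inf_eq_bot_of_coprime
      obtain ⟨m, hm⟩ := hP'p.exists_card_eq
      rw [hm]
      exact Nat.Coprime.pow_right m hQ
    rw [← le_bot_iff, Subgroup.commutator_le]
    intro x hx z hz
    rw [← hdisj]
    have hzP : z ∈ P' := by
      have : Subgroup.zpowers a ≤ P' := by rw [Subgroup.zpowers_le]; exact haP
      exact this hz
    have hzH : z ∈ H := hH₀H ((le_sup_right : Subgroup.zpowers a ≤ H₀) hz)
    refine ⟨?_, ?_⟩
    · have h1 : z * x⁻¹ * z⁻¹ ∈ Q :=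
        (Subgroup.mem_normalizer_iff.mp (hQn hzH) x⁻¹).mp (Q.inv_mem hx)
      have h2 : ⁅x, z⁆ = x * (z * x⁻¹ * z⁻¹) := by
        rw [commutatorElement_def]; group
      rw [h2]
      exact Q.mul_mem hx h1
    · have h1 : x * z * x⁻¹ ∈ P' := hP'n x (hQH₀ hx) z hzP
      rw [commutatorElement_def]
      exact P'.mul_mem h1 (P'.inv_mem hzP)
  have hf₀ : H₀ ⊓ Subgroup.centralizer (V : Set G) = ⊥ := by
    rw [← le_bot_iff, ← hf]
    exact inf_le_inf_right _ hH₀H
  obtain ⟨hp3, K, L, hL, hK, e⟩ :=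
    Cfsg.Agent.S0596.result hp V H₀ hV (hH₀H.trans hHV) hf₀ hsep a haH₀ ha hna
  exact ⟨hp3, K, L, hL, hK.trans hH₀H, e⟩

end Cfsg.Agent.S0594
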