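import Cfsg.Statements.S0600
import Mathlib

set_option autoImplicit false
open Cfsg

namespace Cfsg.Agent.S0600

/-- A normal elementary abelian p-subgroup generated by the fixed points of the Sylow p-subgroups admits no nontrivial normal p-subgroup of G modulo its centralizer. -/
theorem result {G : Type*} [Group G] [Finite G] {p : ℕ} [Fact p.Prime] (V : Subgroup G) [V.Normal] (hV : Cfsg.IsElementaryAbelian p V) (hgen : V = ⨆ S : Sylow p G, V ⊓ Subgroup.centralizer ((S : Subgroup G) : Set G)) : Cfsg.pCore p (G ⧸ Subgroup.centralizer (V : Set G)) = ⊥ := by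
  set C := Subgroup.centralizer (V : Set G) with hC
  unfold pCore
  rw [sSup_eq_bot]
  rintro N ⟨hNn, hNp⟩
  haveI := hNn
  rw [eq_bot_iff]
  intro q hq
  rw [Subgroup.mem_bot]
  obtain ⟨x, rfl⟩ := QuotientGroup.mk'_surjective C q
  rw [QuotientGroup.mk'_apply, QuotientGroup.eq_one_iff]
  -- V ≤ centralizer {x}
  have hVx : V ≤ Subgroup.centralizer ({x} : Set G) := by
    refine hgen.le.trans (iSup_le fun S => ?_)
    intro w hw
    obtain ⟨hwV, hwS⟩ := Subgroup.mem_inf.mp hw
    have hNS : N ≤ (S.mapSurjective (QuotientGroup.mk'_surjective C) : Sylow p (G ⧸ C)) :=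
      hNp.le_sylow_of_normal _
    have h0 : (QuotientGroup.mk' C x) ∈ ((S.mapSurjective (QuotientGroup.mk'_surjective C) : Sylow p (G ⧸ C)) : Subgroup (G ⧸ C)) := hNS hq
    rw [Sylow.coe_mapSurjective] at h0
    obtain ⟨s, hs, hsx⟩ := h0
    have hc : s⁻¹ * x ∈ C := by
      rw [← QuotientGroup.eq]; exact hsx
    rw [Subgroup.mem_centralizer_iff]
    intro y hy
    rw [Set.mem_singleton_iff] at hy
    subst hy
    rw [Subgroup.mem_centralizer_iff] at hwS hc
    have h1 : s * w = w * s := hwS s hs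
    have h2 : w * (s⁻¹ * y) = (s⁻¹ * y) * w := hc w hwV
    calc y * w = s * ((s⁻¹ * y) * w) := by group
      _ = s * (w * (s⁻¹ * y)) := by rw [h2]
      _ = (s * w) * (s⁻¹ * y) := by group
      _ = (w * s) * (s⁻¹ * y) := by rw [h1]
      _ = w * y := by group
  rw [Subgroup.mem_centralizer_iff]
  intro v hv
  have := hVx hv
  rw [Subgroup.mem_centralizer_iff] at this
  exact (this x rfl).symm

end Cfsg.Agent.S0600
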