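import Cfsg.Statements.S0603
import Cfsg.Agent.Lib.Helper2.Thompson

set_option autoImplicit false
open Cfsg

namespace Cfsg.Agent.S0603

open Cfsg.Agent.Lib.Helper2

/-- The Thompson subgroup of any subgroup containing J(G) is J(G) itself. -/
theorem result {G : Type*} [Group G] [Finite G] {p : ℕ} [Fact p.Prime] (U : Subgroup G) (hU : Cfsg.thompsonSubgroup p G ≤ U) : Cfsg.thompsonSubgroupOf p U = Cfsg.thompsonSubgroup p G := by
  have hinj : Function.Injective U.subtype := U.subtype_injective
  have claim1 : ∀ A ∈ maxElementaryAbelianSubgroups p G,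
      A.subgroupOf U ∈ maxElementaryAbelianSubgroups p U := by
    intro A hA
    have hAU : A ≤ U := (le_thompson_of_mem hA).trans hU
    have hmap : (A.subgroupOf U).map U.subtype = A := Subgroup.map_subgroupOf_eq_of_le hAU
    refine ⟨?_, ?_⟩
    · rw [← isEA_map_of_injective U.subtype hinj, hmap]; exact hA.1
    · intro B hB
      have hB' : IsElementaryAbelian p (B.map U.subtype) :=
        (isEA_map_of_injective U.subtype hinj B).mpr hB
      have h1 := hA.2 _ hB'
      rw [Subgroup.card_map_of_injective hinj] at h1
      have h2 : Nat.card (A.subgroupOf U) = Nat.card A := by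
        rw [← Subgroup.card_map_of_injective hinj, hmap]
      rw [h2]; exact h1
  have claim2 : ∀ B ∈ maxElementaryAbelianSubgroups p U,
      B.map U.subtype ∈ maxElementaryAbelianSubgroups p G := by
    intro B hB
    refine ⟨(isEA_map_of_injective U.subtype hinj B).mpr hB.1, ?_⟩
    intro C hC
    obtain ⟨A, hA⟩ := maxEA_nonempty (G := G) p
    have hAU : A ≤ U := (le_thompson_of_mem hA).trans hU
    have hmap : (A.subgroupOf U).map U.subtype = A := Subgroup.map_subgroupOf_eq_of_le hAU
    have h2 : Nat.card (A.subgroupOf U) = Nat.card A := by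
      rw [← Subgroup.card_map_of_injective hinj, hmap]
    rw [Subgroup.card_map_of_injective hinj]
    calc Nat.card C ≤ Nat.card A := hA.2 C hC
      _ = Nat.card (A.subgroupOf U) := h2.symm
      _ ≤ Nat.card B := hB.2 _ (claim1 A hA).1
  unfold thompsonSubgroupOf
  apply le_antisymm
  · rw [Subgroup.map_le_iff_le_comap]
    apply sSup_le
    intro B hB
    rw [← Subgroup.map_le_iff_le_comap]
    exact le_sSup (claim2 B hB)
  · apply sSup_le
    intro A hA
    have hAU : A ≤ U := (le_thompson_of_mem hA).trans hU
    have hmap : (A.subgroupOf U).map U.subtype = A := Subgroup.map_subgroupOf_eq_of_le hAU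
    rw [← hmap]
    exact Subgroup.map_mono (le_sSup (claim1 A hA))

end Cfsg.Agent.S0603
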