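import Cfsg.Statements.S0611
import Mathlib
import Cfsg.Agent.Lib.Lead.KS93e

set_option autoImplicit false
open Cfsg

namespace Cfsg.Agent.S0611

/-- Minimal nontrivially-acting best offenders in such a faithful group have order p, commutator [V, B] of order p and fixed points of index p. -/
theorem result {G : Type*} [Group G] [Finite G] {p : ℕ} [Fact p.Prime] (V H : Subgroup G) (hV : Cfsg.IsElementaryAbelian p V) (hHV : H ≤ Subgroup.normalizer (V : Set G)) (hf : H ⊓ Subgroup.centralizer (V : Set G) = ⊥) (hS1 : Subgroup.centralizer (Cfsg.pPrimeCore p ↥H : Set ↥H) ≤ Cfsg.pPrimeCore p ↥H) (hS3 : H = ⨆ A : {A : Subgroup G // A ≤ H ∧ Cfsg.IsBestOffenderOn p V A}, (A : Subgroup G)) (hH1 : H ≠ ⊥) (A : Subgroup G) (hAH : A ≤ H) (hA : Cfsg.IsBestOffenderOn p V A) (hAV : ⁅V, A⁆ ≠ ⊥) (hmin : ∀ B : Subgroup G, B ≤ A → Cfsg.IsBestOffenderOn p V B → ⁅V, B⁆ ≠ ⊥ → B = A) : Nat.card A = p ∧ Nat.card ↥(⁅V, A⁆)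 = p ∧ ((V ⊓ Subgroup.centralizer (A : Set G))).relIndex V = p := by
  have S := Cfsg.Agent.Lib.Lead.KS93.setup_of_hyps V H hV hHV hf hS1
  have hA1 : A ≠ ⊥ := (Cfsg.Agent.Lib.Lead.KS93.commutator_V_ne_bot_iff S hAH).mp hAV
  have hmin' : ∀ B : Subgroup G, B ≤ A → Cfsg.IsBestOffenderOn p V B → B ≠ ⊥ → B = A :=
    fun B hBA hB hB1 => hmin B hBA hB
      ((Cfsg.Agent.Lib.Lead.KS93.commutator_V_ne_bot_iff S (hBA.trans hAH)).mpr hB1)
  obtain ⟨h1, h2, h3⟩ := Cfsg.Agent.Lib.Lead.KS93.minimal_data S hAH hA hA1 hmin'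
  refine ⟨h1, h2, ?_⟩
  have h4 := Subgroup.card_mul_index
    ((V ⊓ Subgroup.centralizer (A : Set G)).subgroupOf V)
  rw [Cfsg.Agent.Lib.Lead.card_subgroupOf_of_le inf_le_left] at h4
  have h5 : Nat.card ↥(V ⊓ Subgroup.centralizer (A : Set G)) *
      (V ⊓ Subgroup.centralizer (A : Set G)).relIndex V =
      Nat.card ↥(V ⊓ Subgroup.centralizer (A : Set G)) * p := by
    rw [mul_comm _ p, h3]; exact h4
  exact Nat.eq_of_mul_eq_mul_left Nat.card_pos h5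

end Cfsg.Agent.S0611
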