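import Cfsg.Statements.S0613
import Mathlib
import Cfsg.Agent.Lib.Lead.KS93m

set_option autoImplicit false
open Cfsg

namespace Cfsg.Agent.S0613

/-- A minimal nontrivially-acting best offender and a conjugate of it under a non-centralizing element of the p'-core generate SL(2, p) acting naturally on a plane, and p is 2 or 3. -/
theorem result {G : Type*} [Group G] [Finite G] {p : ℕ} [Fact p.Prime] (V H : Subgroup G) (hV : Cfsg.IsElementaryAbelian p V) (hHV : H ≤ Subgroup.normalizer (V : Set G)) (hf : H ⊓ Subgroup.centralizer (V : Set G) = ⊥) (hS1 : Subgroup.centralizer (Cfsg.pPrimeCore p ↥H : Set ↥H) ≤ Cfsg.pPrimeCore p ↥H) (hS3 : H = ⨆ A : {A : Subgroup G // A ≤ H ∧ Cfsg.IsBestOffenderOn p V A}, (A : Subgroup G)) (hH1 : H ≠ ⊥) (A : Subgroup G) (hAH : A ≤ H) (hA : Cfsg.IsBestOffenderOn p V A) (hAV : ⁅V, A⁆ ≠ ⊥) (hmin : ∀ B : Subgroup G, B ≤ A → Cfsg.IsBestOffenderOn p V B → ⁅V,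 B⁆ ≠ ⊥ → B = A) (x : G) (hx : x ∈ ((Cfsg.pPrimeCore p ↥H).map H.subtype)) (hxA : x ∉ Subgroup.centralizer (A : Set G)) : (p = 2 ∨ p = 3) ∧ Nat.card ↥(⁅V, A ⊔ A.map (MulAut.conj x).toMonoidHom⁆) = p ^ 2 ∧ (A ⊔ A.map (MulAut.conj x).toMonoidHom) ⊓ Subgroup.centralizer ((⁅V, A ⊔ A.map (MulAut.conj x).toMonoidHom⁆ : Subgroup G) : Set G) = ⊥ ∧ Nonempty (↥(A ⊔ A.map (MulAut.conj x).toMonoidHom) ≃* Matrix.SpecialLinearGroup (Fin 2) (ZMod p)) := by
  classical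
  have S := Cfsg.Agent.Lib.Lead.KS93.setup_of_hyps V H hV hHV hf hS1
  have hA1 : A ≠ ⊥ := (Cfsg.Agent.Lib.Lead.KS93.commutator_V_ne_bot_iff S hAH).mp hAV
  have hmin' : ∀ B : Subgroup G, B ≤ A → Cfsg.IsBestOffenderOn p V B → B ≠ ⊥ → B = A :=
    fun B hBA hB hB1 => hmin B hBA hB
      ((Cfsg.Agent.Lib.Lead.KS93.commutator_V_ne_bot_iff S (le_trans hBA hAH)).mpr hB1)
  obtain ⟨T, hcB, hEH, hEQ⟩ := Cfsg.Agent.Lib.Lead.KS93.conjPair S hAH hA hA1 hmin' hx hxA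
  obtain ⟨hcA, -, -⟩ := Cfsg.Agent.Lib.Lead.KS93.minimal_data S hAH hA hA1 hmin'
  have hfE : (A ⊔ A.map (MulAut.conj x).toMonoidHom) ⊓ Subgroup.centralizer (V : Set G) = ⊥ := by
    rw [eq_bot_iff, ← hf]
    exact inf_le_inf_right _ hEH
  have hiso := T.iso hV.2 hcA hcB hfE
  refine ⟨?_, T.card_commutator, ?_, hiso⟩
  · obtain ⟨e⟩ := hiso
    apply Cfsg.Agent.Lib.Lead.KS93.le_three_of_sl2 e
      (((Cfsg.pPrimeCore p ↥H).map H.subtype).subgroupOf (A ⊔ A.map (MulAut.conj x).toMonoidHom))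
    · intro g h
      rw [Subgroup.mem_subgroupOf]
      exact Cfsg.Agent.Lib.Lead.KS93.commutator_mem_of_mem_sup (le_trans hAH S.hQn)
        (Cfsg.Agent.Lib.Lead.KS93.bestOffender_elementary S hAH hA).1 (hEQ g.2) (hEQ h.2)
    · rw [← Subgroup.inf_subgroupOf_right,
        Cfsg.Agent.Lib.Lead.card_subgroupOf_of_le inf_le_right]
      exact Nat.Coprime.coprime_dvd_left (Subgroup.card_dvd_of_le inf_le_left) S.hQc
  · rw [eq_bot_iff, ← hfE]
    exact le_inf inf_le_left T.centralizer_le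

end Cfsg.Agent.S0613
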