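import Cfsg.Statements.S0614
import Mathlib
import Cfsg.Agent.Lib.Lead.KS93p

set_option autoImplicit false
open Cfsg

namespace Cfsg.Agent.S0614

/-- The commutator of the p'-core with a minimal nontrivially-acting best offender is a 3-group (when p = 2) or a non-abelian 2-group (when p = 3). -/
theorem result {G : Type*} [Group G] [Finite G] {p : ℕ} [Fact p.Prime] (V H : Subgroup G) (hV : Cfsg.IsElementaryAbelian p V) (hHV : H ≤ Subgroup.normalizer (V : Set G)) (hf : H ⊓ Subgroup.centralizer (V : Set G) = ⊥) (hS1 : Subgroup.centralizer (Cfsg.pPrimeCore p ↥H : Set ↥H) ≤ Cfsg.pPrimeCore p ↥H) (hS3 : H = ⨆ A : {A : Subgroup G // A ≤ H ∧ Cfsg.IsBestOffenderOn p V A}, (A : Subgroup G)) (hH1 : H ≠ ⊥) (A : Subgroup G) (hAH : A ≤ H) (hA : Cfsg.IsBestOffenderOn p V A) (hAV : ⁅V, A⁆ ≠ ⊥) (hmin : ∀ B : Subgroup G, B ≤ A → Cfsg.IsBestOffenderOn p V B → ⁅V, B⁆ ≠ ⊥ → B = A) : (p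 = 2 ∧ IsPGroup 3 ↥(⁅((Cfsg.pPrimeCore p ↥H).map H.subtype), A⁆)) ∨ (p = 3 ∧ IsPGroup 2 ↥(⁅((Cfsg.pPrimeCore p ↥H).map H.subtype), A⁆) ∧ ¬ IsMulCommutative ↥(⁅((Cfsg.pPrimeCore p ↥H).map H.subtype), A⁆)) := by
  classical
  have S := Cfsg.Agent.Lib.Lead.KS93.setup_of_hyps V H hV hHV hf hS1
  have hA1 : A ≠ ⊥ := (Cfsg.Agent.Lib.Lead.KS93.commutator_V_ne_bot_iff S hAH).mp hAV
  have hmin' : ∀ B : Subgroup G, B ≤ A → Cfsg.IsBestOffenderOn p V B → B ≠ ⊥ → B = A :=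
    fun B hBA hB hB1 => hmin B hBA hB
      ((Cfsg.Agent.Lib.Lead.KS93.commutator_V_ne_bot_iff S (le_trans hBA hAH)).mpr hB1)
  have hAp := Cfsg.Agent.Lib.Lead.KS93.isPGroup_of_bestOffender S hAH hA
  obtain ⟨x, hx, hxA⟩ := Cfsg.Agent.Lib.Lead.KS93.exists_noncentralizing S hAH hAp hA1
  obtain ⟨hcA, -, -⟩ := Cfsg.Agent.Lib.Lead.KS93.minimal_data S hAH hA hA1 hmin'
  obtain ⟨a, haA, ha1, hAz⟩ := Cfsg.Agent.Lib.Lead.KS93.exists_gen_of_card_prime hcA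
  obtain ⟨hp23, haE, hbE, θ, e, hθ, hea, heb⟩ :=
    Cfsg.Agent.Lib.Lead.KS93.pair_package S hAH hA hA1 hmin' hx hxA haA ha1
  have hdvd := Cfsg.Agent.Lib.Lead.KS93.card_commutator_dvd S hAH hA hA1 hmin'
  rcases hp23 with hp | hp
  · left
    subst hp
    refine ⟨rfl, ?_⟩
    have h3 : Nat.card ↥(⁅((Cfsg.pPrimeCore 2 ↥H).map H.subtype), A⁆) ∣ 3 ^ 1 := by
      simpa using hdvd
    obtain ⟨k, -, hk⟩ := (Nat.dvd_prime_pow Nat.prime_three).mp h3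
    haveI : Fact (Nat.Prime 3) := ⟨Nat.prime_three⟩
    exact IsPGroup.of_card hk
  · right
    subst hp
    refine ⟨rfl, ?_, ?_⟩
    · have h3 : Nat.card ↥(⁅((Cfsg.pPrimeCore 3 ↥H).map H.subtype), A⁆) ∣ 2 ^ 3 := by
        simpa using hdvd
      obtain ⟨k, -, hk⟩ := (Nat.dvd_prime_pow Nat.prime_two).mp h3
      haveI : Fact (Nat.Prime 2) := ⟨Nat.prime_two⟩
      exact IsPGroup.of_card hk
    · intro hc
      have hAQ : A ≤ Subgroup.normalizer (((Cfsg.pPrimeCore 3 ↥H).map H.subtype : Subgroup G) : Set G) :=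
        le_trans hAH S.hQn
      have hy : x * a * x⁻¹ * a⁻¹ ∈ ⁅((Cfsg.pPrimeCore 3 ↥H).map H.subtype), A⁆ := by
        have := Subgroup.commutator_mem_commutator hx haA
        rwa [commutatorElement_def] at this
      have hy2 : a * (x * a * x⁻¹ * a⁻¹) * a⁻¹ ∈ ⁅((Cfsg.pPrimeCore 3 ↥H).map H.subtype), A⁆ :=
        (Subgroup.mem_normalizer_iff.mp
          (Cfsg.Agent.Lib.Lead.le_normalizer_commutator_right _ A hAQ haA) _).mp hy
      have hcomm := hc.is_comm.comm (⟨_, hy⟩ : ↥(⁅((Cfsg.pPrimeCore 3 ↥H).map H.subtype), A⁆)) ⟨_, hy2⟩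
      have hcomm' : (x * a * x⁻¹ * a⁻¹) * (a * (x * a * x⁻¹ * a⁻¹) * a⁻¹) =
          (a * (x * a * x⁻¹ * a⁻¹) * a⁻¹) * (x * a * x⁻¹ * a⁻¹) := congrArg Subtype.val hcomm
      set a' : ↥(A ⊔ A.map (MulAut.conj x).toMonoidHom) := ⟨a, haE⟩ with ha'
      set b' : ↥(A ⊔ A.map (MulAut.conj x).toMonoidHom) := ⟨x * a * x⁻¹, hbE⟩ with hb'
      have hE : (b' * a'⁻¹) * (a' * (b' * a'⁻¹) * a'⁻¹) = (a' * (b' * a'⁻¹) * a'⁻¹) * (b' * a'⁻¹) := by
        apply Subtype.ext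
        simp only [Subgroup.coe_mul, Subgroup.coe_inv, ha', hb']
        exact hcomm'
      have h2 := congrArg e hE
      simp only [map_mul, map_inv, hea, heb] at h2
      exact Cfsg.Agent.Lib.Lead.KS93.not_commute_three θ hθ h2

end Cfsg.Agent.S0614
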