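import Cfsg.Statements.S0615
import Cfsg.Agent.Lib.Helper9.SP5
import Cfsg.Agent.Lib.Helper6.Subn

set_option autoImplicit false
open Cfsg

namespace Cfsg.Agent.S0615

open Cfsg.Agent.H9SP Cfsg.Agent.Lib.Helper7
open scoped commutatorElement

/-- a subgroup without nontrivial normal `p`-subgroups in the ambient `E` gives `NoP`. -/
theorem noP_of_pCore {G : Type*} [Group G] [Finite G] {p : ℕ} [Fact p.Prime]
    {E K : Subgroup G} (hK : SubnIn K E) (hOp : Cfsg.pCore p ↥E = ⊥) : NoP p K := by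
  intro Q hQK hQp hN
  have h1 : SubnIn Q E := (SubnIn.of_normal hQK hN).trans hK
  have h2 : (Q.subgroupOf E).IsSubnormal := (subnIn_iff.mp h1).2
  have h3 : IsPGroup p (Q.subgroupOf E) := hQp.comap_subtype
  have h4 := Cfsg.Agent.Lib.Helper6.le_pCore_of_isSubnormal_of_isPGroup h2 h3
  rw [hOp, le_bot_iff, Subgroup.subgroupOf_eq_bot] at h4
  have : Q ≤ Q ⊓ E := le_inf le_rfl h1.le
  rw [h4.eq_bot] at this
  exact le_bot_iff.mp this

/-- `[V, E₁ ⊔ E₂] = [V,E₁] ⊔ [V,E₂]` when `E₁ ⊔ E₂` normalizes the right-hand side. -/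
theorem comm_sup {G : Type*} [Group G] (V E₁ E₂ : Subgroup G)
    (h1 : E₁ ≤ Subgroup.normalizer ((⁅V, E₁⁆ ⊔ ⁅V, E₂⁆ : Subgroup G) : Set G))
    (h2 : E₂ ≤ Subgroup.normalizer ((⁅V, E₁⁆ ⊔ ⁅V, E₂⁆ : Subgroup G) : Set G)) :
    ⁅V, E₁ ⊔ E₂⁆ = ⁅V, E₁⁆ ⊔ ⁅V, E₂⁆ := by
  apply le_antisymm
  · rw [Subgroup.commutator_le]
    intro v hv e he
    rw [Subgroup.sup_eq_closure] at he
    revert v
    induction he using Subgroup.closure_induction with
    | mem e he =>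
      intro v hv
      rcases he with he | he
      · exact (le_sup_left : ⁅V, E₁⁆ ≤ _) (Subgroup.commutator_mem_commutator hv he)
      · exact (le_sup_right : ⁅V, E₂⁆ ≤ _) (Subgroup.commutator_mem_commutator hv he)
    | one =>
      intro v _
      rw [commutatorElement_one_right]
      exact Subgroup.one_mem _
    | mul a b ha hb iha ihb =>
      intro v hv
      have hsup : E₁ ⊔ E₂ ≤ Subgroup.normalizer ((⁅V, E₁⁆ ⊔ ⁅V, E₂⁆ : Subgroup G) : Set G) :=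
        sup_le h1 h2
      have haN : a ∈ Subgroup.normalizer ((⁅V, E₁⁆ ⊔ ⁅V, E₂⁆ : Subgroup G) : Set G) := by
        apply hsup
        rw [Subgroup.sup_eq_closure]
        exact ha
      have e : ⁅v, a * b⁆ = ⁅v, a⁆ * (a * ⁅v, b⁆ * a⁻¹) := by
        rw [commutatorElement_def, commutatorElement_def, commutatorElement_def]; group
      rw [e]
      exact Subgroup.mul_mem _ (iha v hv)
        ((Subgroup.mem_normalizer_iff.mp haN _).mp (ihb v hv))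
    | inv a ha iha =>
      intro v hv
      have hsup : E₁ ⊔ E₂ ≤ Subgroup.normalizer ((⁅V, E₁⁆ ⊔ ⁅V, E₂⁆ : Subgroup G) : Set G) :=
        sup_le h1 h2
      have haN : a⁻¹ ∈ Subgroup.normalizer ((⁅V, E₁⁆ ⊔ ⁅V, E₂⁆ : Subgroup G) : Set G) := by
        apply Subgroup.inv_mem
        apply hsup
        rw [Subgroup.sup_eq_closure]
        exact ha
      have e : ⁅v, a⁻¹⁆ = a⁻¹ * (⁅v, a⁆)⁻¹ * (a⁻¹)⁻¹ := by
        rw [commutatorElement_def, commutatorElement_def]; group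
      rw [e]
      exact (Subgroup.mem_normalizer_iff.mp haN _).mp (Subgroup.inv_mem _ (iha v hv))
  · exact sup_le (Subgroup.commutator_mono le_rfl le_sup_left)
      (Subgroup.commutator_mono le_rfl le_sup_right)

/-- Two subnormal subgroups acting irreducibly on their incomparable commutator modules, in a faithful group with trivial largest normal p-subgroup, generate their direct product, and the commutator module splits accordingly. -/
theorem result {G : Type*} [Group G] [Finite G] {p : ℕ} [Fact p.Prime] (V E E₁ E₂ : Subgroup G) (hV : Cfsg.IsElementaryAbelian p V) (hEV : E ≤ Subgroup.normalizer (V : Set G)) (hf : E ⊓ Subgroup.centralizer (V : Set G) = ⊥) (hgen : E = E₁ ⊔ E₂) (hs₁ : (E₁.subgroupOf E).IsSubnormal) (hs₂ : (E₂.subgroupOf E).IsSubnormal) (hOp : Cfsg.pCore p ↥E = ⊥) (hirr₁ : (∀ U : Subgroup G, U ≤ ⁅V, E₁⁆ → E₁ ≤ Subgroup.normalizer (U : Set G) → U = ⊥ ∨ U = ⁅V, E₁⁆))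 (hirr₂ : (∀ U : Subgroup G, U ≤ ⁅V, E₂⁆ → E₂ ≤ Subgroup.normalizer (U : Set G) → U = ⊥ ∨ U = ⁅V, E₂⁆)) (h12 : ¬ ⁅V, E₁⁆ ≤ ⁅V, E₂⁆) (h21 : ¬ ⁅V, E₂⁆ ≤ ⁅V, E₁⁆) (hc₁ : 2 < Nat.card E₁) (hc₂ : 2 < Nat.card E₂) : ⁅E₁, E₂⁆ = ⊥ ∧ E₁ ⊓ E₂ = ⊥ ∧ ⁅V, E₁⁆ ⊓ ⁅V, E₂⁆ = ⊥ ∧ ⁅V, E⁆ = ⁅V, E₁⁆ ⊔ ⁅V, E₂⁆ := by
  have hle₁ : E₁ ≤ E := by rw [hgen]; exact le_sup_left
  have hle₂ : E₂ ≤ E := by rw [hgen]; exact le_sup_right
  have hsn₁ : SubnIn E₁ E := subnIn_iff.mpr ⟨hle₁, hs₁⟩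
  have hsn₂ : SubnIn E₂ E := subnIn_iff.mpr ⟨hle₂, hs₂⟩
  have hyp : Hyp p V E E₁ E₂ :=
    { hEV := hEV
      hf := hf
      hgen := hgen
      hs₁ := hsn₁
      hs₂ := hsn₂
      hp₁ := noP_of_pCore hsn₁ hOp
      hp₂ := noP_of_pCore hsn₂ hOp
      hirr₁ := hirr₁
      hirr₂ := hirr₂
      h12 := h12
      h21 := h21
      hc₁ := hc₁
      hc₂ := hc₂ }
  obtain ⟨c1, c2, c3⟩ := main hV _ E E₁ E₂ rfl hyp
  refine ⟨c1, c2, c3, ?_⟩
  -- normalizers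
  have hn11 : E₁ ≤ Subgroup.normalizer ((⁅V, E₁⁆ : Subgroup G) : Set G) := hyp.normW₁
  have hn22 : E₂ ≤ Subgroup.normalizer ((⁅V, E₂⁆ : Subgroup G) : Set G) := hyp.symm.normW₁
  have hcen21 : E₂ ≤ Subgroup.centralizer ((E₁ : Subgroup G) : Set G) := by
    rw [Subgroup.commutator_comm] at c1
    exact Subgroup.commutator_eq_bot_iff_le_centralizer.mp c1
  have hcen12 : E₁ ≤ Subgroup.centralizer ((E₂ : Subgroup G) : Set G) :=
    Subgroup.commutator_eq_bot_iff_le_centralizer.mp c1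
  have hn21 : E₂ ≤ Subgroup.normalizer ((⁅V, E₁⁆ : Subgroup G) : Set G) :=
    norm_comm (hle₂.trans hEV) (hcen21.trans (Subgroup.centralizer_le_normalizer _))
  have hn12 : E₁ ≤ Subgroup.normalizer ((⁅V, E₂⁆ : Subgroup G) : Set G) :=
    norm_comm (hle₁.trans hEV) (hcen12.trans (Subgroup.centralizer_le_normalizer _))
  have norm_sup : ∀ K : Subgroup G, K ≤ Subgroup.normalizer ((⁅V, E₁⁆ : Subgroup G) : Set G) →
      K ≤ Subgroup.normalizer ((⁅V, E₂⁆ : Subgroup G) : Set G) →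
      K ≤ Subgroup.normalizer ((⁅V, E₁⁆ ⊔ ⁅V, E₂⁆ : Subgroup G) : Set G) := by
    intro K hK1 hK2 g hg
    have a1 := hK1 hg
    have a2 := hK2 hg
    rw [mem_normalizer_iff_cj] at a1 a2 ⊢
    rw [cj_sup, a1, a2]
  rw [hgen]
  exact comm_sup V E₁ E₂ (norm_sup E₁ hn11 hn12) (norm_sup E₂ hn21 hn22)

end Cfsg.Agent.S0615
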