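import Cfsg.Statements.S0617
import Mathlib
import Cfsg.Agent.Lib.Lead.KS93x

set_option autoImplicit false
open Cfsg

namespace Cfsg.Agent.S0617

/-- Structure Theorem for failure of factorization: a faithful group generated by best offenders, with self-centralizing p'-core, is a direct product of copies of SL(2, p) (p = 2 or 3), each acting on its own plane in V, which is the direct product of these planes and C_V(H). -/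
theorem result {G : Type*} [Group G] [Finite G] {p : ℕ} [Fact p.Prime] (V H : Subgroup G) (hV : Cfsg.IsElementaryAbelian p V) (hHV : H ≤ Subgroup.normalizer (V : Set G)) (hf : H ⊓ Subgroup.centralizer (V : Set G) = ⊥) (hS1 : Subgroup.centralizer (Cfsg.pPrimeCore p ↥H : Set ↥H) ≤ Cfsg.pPrimeCore p ↥H) (hS3 : H = ⨆ A : {A : Subgroup G // A ≤ H ∧ Cfsg.IsBestOffenderOn p V A}, (A : Subgroup G)) (hH1 : H ≠ ⊥) : (p = 2 ∨ p = 3) ∧ (∀ E : {E : Subgroup G // ∃ A : Subgroup G, A ≤ H ∧ Cfsg.IsBestOffenderOn p V A ∧ ⁅V, A⁆ ≠ ⊥ ∧ (∀ B : Subgroup G, B ≤ A → Cfsg.IsBestOffenderOn p V B → ⁅V, B⁆ ≠ ⊥ → B = A) ∧ E = ⁅((Cfsg.pPrimeCore p ↥H).map H.subtype), A⁆ ⊔ A}, H ≤ Subgroup.normalizer ((E : Subgroup G) : Set G) ∧ Nonempty (↥(E : Subgroup G) ≃* Matrix.SpecialLinearGroup (Fin 2) (ZMod p)) ∧ Nat.card ↥(⁅V, (E : Subgroup G)⁆)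 = p ^ 2) ∧ iSupIndep (fun E : {E : Subgroup G // ∃ A : Subgroup G, A ≤ H ∧ Cfsg.IsBestOffenderOn p V A ∧ ⁅V, A⁆ ≠ ⊥ ∧ (∀ B : Subgroup G, B ≤ A → Cfsg.IsBestOffenderOn p V B → ⁅V, B⁆ ≠ ⊥ → B = A) ∧ E = ⁅((Cfsg.pPrimeCore p ↥H).map H.subtype), A⁆ ⊔ A} => (E : Subgroup G)) ∧ (⨆ E : {E : Subgroup G // ∃ A : Subgroup G, A ≤ H ∧ Cfsg.IsBestOffenderOn p V A ∧ ⁅V, A⁆ ≠ ⊥ ∧ (∀ B : Subgroup G, B ≤ A → Cfsg.IsBestOffenderOn p V B → ⁅V, B⁆ ≠ ⊥ → B = A) ∧ E = ⁅((Cfsg.pPrimeCore p ↥H).map H.subtype), A⁆ ⊔ A}, (E : Subgroup G)) = H ∧ iSupIndep (fun o : Option {E : Subgroup G // ∃ A : Subgroup G, A ≤ H ∧ Cfsg.IsBestOffenderOn p V A ∧ ⁅V, A⁆ ≠ ⊥ ∧ (∀ B : Subgroup G, B ≤ A → Cfsg.IsBestOffenderOn p V B → ⁅V, B⁆ ≠ ⊥ → B = A) ∧ E = ⁅((Cfsg.pPrimeCore p ↥H).map H.subtype), A⁆ ⊔ A} => o.elim (V ⊓ Subgroup.centralizer (H : Set G))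 (fun E => ⁅V, (E : Subgroup G)⁆)) ∧ (V ⊓ Subgroup.centralizer (H : Set G)) ⊔ (⨆ E : {E : Subgroup G // ∃ A : Subgroup G, A ≤ H ∧ Cfsg.IsBestOffenderOn p V A ∧ ⁅V, A⁆ ≠ ⊥ ∧ (∀ B : Subgroup G, B ≤ A → Cfsg.IsBestOffenderOn p V B → ⁅V, B⁆ ≠ ⊥ → B = A) ∧ E = ⁅((Cfsg.pPrimeCore p ↥H).map H.subtype), A⁆ ⊔ A}, ⁅V, (E : Subgroup G)⁆) = V := by
  classical
  have S := Cfsg.Agent.Lib.Lead.KS93.setup_of_hyps V H hV hHV hf hS1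
  have hconv : ∀ A : Subgroup G, (A ≤ H ∧ Cfsg.IsBestOffenderOn p V A ∧ ⁅V, A⁆ ≠ ⊥ ∧
      (∀ B : Subgroup G, B ≤ A → Cfsg.IsBestOffenderOn p V B → ⁅V, B⁆ ≠ ⊥ → B = A)) ↔
      Cfsg.Agent.Lib.Lead.KS93.MinOff p V H A := by
    intro A
    constructor
    · rintro ⟨hAH, hA, hAV, hmin⟩
      exact ⟨hAH, hA, (Cfsg.Agent.Lib.Lead.KS93.commutator_V_ne_bot_iff S hAH).mp hAV,
        fun B hBA hB hB1 => hmin B hBA hB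
          ((Cfsg.Agent.Lib.Lead.KS93.commutator_V_ne_bot_iff S (le_trans hBA hAH)).mpr hB1)⟩
    · rintro ⟨hAH, hA, hA1, hmin⟩
      exact ⟨hAH, hA, (Cfsg.Agent.Lib.Lead.KS93.commutator_V_ne_bot_iff S hAH).mpr hA1,
        fun B hBA hB hB1 => hmin B hBA hB
          ((Cfsg.Agent.Lib.Lead.KS93.commutator_V_ne_bot_iff S (le_trans hBA hAH)).mp hB1)⟩
  have hE : ∀ i : {E : Subgroup G // ∃ A : Subgroup G, A ≤ H ∧ Cfsg.IsBestOffenderOn p V A ∧ ⁅V, A⁆ ≠ ⊥ ∧ (∀ B : Subgroup G, B ≤ A → Cfsg.IsBestOffenderOn p V B → ⁅V, B⁆ ≠ ⊥ → B = A) ∧ E = ⁅((Cfsg.pPrimeCore p ↥H).map H.subtype), A⁆ ⊔ A},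
      ∃ A : Subgroup G, Cfsg.Agent.Lib.Lead.KS93.MinOff p V H A ∧
        (i : Subgroup G) = ⁅((Cfsg.pPrimeCore p ↥H).map H.subtype), A⁆ ⊔ A := by
    rintro ⟨E, A, h1, h2, h3, h4, h5⟩
    exact ⟨A, (hconv A).mp ⟨h1, h2, h3, h4⟩, h5⟩
  have hinj : Function.Injective (fun i : {E : Subgroup G // ∃ A : Subgroup G, A ≤ H ∧ Cfsg.IsBestOffenderOn p V A ∧ ⁅V, A⁆ ≠ ⊥ ∧ (∀ B : Subgroup G, B ≤ A → Cfsg.IsBestOffenderOn p V B → ⁅V, B⁆ ≠ ⊥ → B = A) ∧ E = ⁅((Cfsg.pPrimeCore p ↥H).map H.subtype), A⁆ ⊔ A} => (i : Subgroup G)) :=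
    Subtype.val_injective
  have hall : ∀ A : Subgroup G, Cfsg.Agent.Lib.Lead.KS93.MinOff p V H A →
      ∃ i : {E : Subgroup G // ∃ A : Subgroup G, A ≤ H ∧ Cfsg.IsBestOffenderOn p V A ∧ ⁅V, A⁆ ≠ ⊥ ∧ (∀ B : Subgroup G, B ≤ A → Cfsg.IsBestOffenderOn p V B → ⁅V, B⁆ ≠ ⊥ → B = A) ∧ E = ⁅((Cfsg.pPrimeCore p ↥H).map H.subtype), A⁆ ⊔ A},
        (i : Subgroup G) = ⁅((Cfsg.pPrimeCore p ↥H).map H.subtype), A⁆ ⊔ A := by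
    intro A M
    obtain ⟨h1, h2, h3, h4⟩ := (hconv A).mpr M
    exact ⟨⟨_, A, h1, h2, h3, h4, rfl⟩, rfl⟩
  have hex : ∃ A : Subgroup G, Cfsg.Agent.Lib.Lead.KS93.MinOff p V H A := by
    by_contra h
    push_neg at h
    apply hH1
    rw [eq_bot_iff]
    exact Cfsg.Agent.Lib.Lead.KS93.le_of_minOff S hS3 (fun D MD => absurd MD (h D))
  refine ⟨?_, ?_, Cfsg.Agent.Lib.Lead.KS93.blocks_iSupIndep hS3 _ hE hinj S,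
    Cfsg.Agent.Lib.Lead.KS93.blocks_iSup hS3 _ hE hall S,
    Cfsg.Agent.Lib.Lead.KS93.blocks_option_iSupIndep hS3 _ hE hinj hall S, ?_⟩
  · obtain ⟨A, M⟩ := hex
    exact (M.iso S).1
  · intro E
    obtain ⟨A, M, hA⟩ := hE E
    rw [hA]
    exact ⟨M.H_le_normalizer_EA hS3 S, (M.iso S).2, M.card_W S⟩
  · apply le_antisymm
    · apply sup_le inf_le_left
      apply iSup_le
      intro E
      obtain ⟨A, M, hA⟩ := hE E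
      rw [hA]
      exact M.W_le S
    · rw [sup_comm]
      exact (Cfsg.Agent.Lib.Lead.KS93.blocks_decomp hS3 _ hE hinj hall S).2

end Cfsg.Agent.S0617
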