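import Cfsg.Statements.S0618
import Mathlib
import Cfsg.Agent.Lib.Lead.Holo4
import Cfsg.Agent.Lib.Helper2.ThompsonOf
import Cfsg.Agent.Lib.Helper4.HallHigman

set_option autoImplicit false
open Cfsg

namespace Cfsg.Agent.S0618

/-- A p-separable group with trivial p'-core in which the Thompson factorization fails has p = 2 or 3, and J(G) induces on the normal closure of Ω₁(Z(S)) a group containing a normal SL(2, p). -/
theorem result {G : Type*} [Group G] [Finite G] {p : ℕ} [Fact p.Prime] (hsep : Cfsg.IsPSolvable p G) (hO : Cfsg.pPrimeCore p G = ⊥) (hnf : ¬ Cfsg.IsThompsonFactorizable p G) : (p = 2 ∨ p = 3) ∧ ∃ E : Subgroup G, Subgroup.centralizer ((⨆ S : Sylow p G, Cfsg.omegaOne p ((S : Subgroup G) ⊓ Subgroup.centralizer ((S : Subgroup G) : Set G))) : Set G) ≤ E ∧ E ≤ Cfsg.thompsonSubgroup p G ⊔ Subgroup.centralizer ((⨆ S : Sylow p G, Cfsg.omegaOne p ((S : Subgroup G) ⊓ Subgroup.centralizer ((S : Subgroup G) : Set G))) : Set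 G) ∧ Cfsg.thompsonSubgroup p G ⊔ Subgroup.centralizer ((⨆ S : Sylow p G, Cfsg.omegaOne p ((S : Subgroup G) ⊓ Subgroup.centralizer ((S : Subgroup G) : Set G))) : Set G) ≤ Subgroup.normalizer (E : Set G) ∧ ∃ hn : ((Subgroup.centralizer ((⨆ S : Sylow p G, Cfsg.omegaOne p ((S : Subgroup G) ⊓ Subgroup.centralizer ((S : Subgroup G) : Set G))) : Set G)).subgroupOf E).Normal, Nonempty ((↥E ⧸ (Subgroup.centralizer ((⨆ S : Sylow p G, Cfsg.omegaOne p ((S : Subgroup G) ⊓ Subgroup.centralizer ((S : Subgroup G) : Set G))) : Set G)).subgroupOf E) ≃* Matrix.SpecialLinearGroup (Fin 2) (ZMod p)) := by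
  classical
  have hc := Cfsg.Agent.Lib.Helper4.centralizer_pCore_le_of_isPSolvable hsep hO
  haveI hVn : (Cfsg.Agent.Lib.Helper2.OmegaZ.VV p G).Normal := Cfsg.Agent.Lib.Helper2.OmegaZ.VV_normal
  have hVea : Cfsg.IsElementaryAbelian p (Cfsg.Agent.Lib.Helper2.OmegaZ.VV p G) :=
    Cfsg.Agent.Lib.Helper2.OmegaZ.isEA_of_le_omegaZ _ (Cfsg.Agent.Lib.Helper2.OmegaZ.VV_le_omegaZ hc)
  haveI hn : (Subgroup.centralizer ((Cfsg.Agent.Lib.Helper2.OmegaZ.VV p G : Subgroup G) : Set G)).Normal :=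
    Subgroup.normal_centralizer
  have hC := Cfsg.Agent.Lib.Lead.Holo.pCore_quotient_centralizer_VV (G := G) (p := p)
  have hJ : ¬ Cfsg.thompsonSubgroup p G ≤
      Subgroup.centralizer ((Cfsg.Agent.Lib.Helper2.OmegaZ.VV p G : Subgroup G) : Set G) :=
    fun h => hnf (Cfsg.Agent.Lib.Helper2.ThompsonOf.factorizable_of_le_centralizer h)
  have hCeq : Subgroup.centralizer ((⨆ S : Sylow p G, Cfsg.omegaOne p ((S : Subgroup G) ⊓ Subgroup.centralizer ((S : Subgroup G) : Set G))) : Set G) =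
      Subgroup.centralizer ((Cfsg.Agent.Lib.Helper2.OmegaZ.VV p G : Subgroup G) : Set G) := by
    show _ = Subgroup.centralizer ((((⨆ S : Sylow p G, Cfsg.omegaOne p ((S : Subgroup G) ⊓ Subgroup.centralizer ((S : Subgroup G) : Set G))) : Subgroup G)) : Set G)
    rw [Subgroup.iSup_eq_closure, Subgroup.centralizer_closure, Set.iSup_eq_iUnion]
  rw [hCeq]
  exact Cfsg.Agent.Lib.Lead.Holo.structure_of_not_le (Cfsg.Agent.Lib.Helper2.OmegaZ.VV p G) hVea hsep hC hJ

end Cfsg.Agent.S0618
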