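import Cfsg.Statements.S0631
import Mathlib
import Cfsg.Agent.Lib.Helper3.PComp8
import Cfsg.Agent.Lib.Helper3.CharP4
import Cfsg.Agent.Lib.Helper2.PCore

set_option autoImplicit false
open Cfsg

namespace Cfsg.Agent.S0631

/-- In a p-constrained group the normalizer and the centralizer of any p-subgroup are again p-constrained. -/
theorem result {G : Type*} [Group G] [Finite G] {p : ℕ} [Fact p.Prime] (hG : Cfsg.IsPConstrained p G) (P : Subgroup G) (hP : IsPGroup p P) : Cfsg.IsPConstrained p ↥(Subgroup.normalizer (P : Set G)) ∧ Cfsg.IsPConstrained p ↥(Subgroup.centralizer (P : Set G)) := by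
  classical
  have hL : Cfsg.pLayer p G = ⊥ := (Cfsg.Agent.Lib.Helper3.isPConstrained_iff).mp hG
  refine ⟨(Cfsg.Agent.Lib.Helper3.isPConstrained_iff).mpr
    (Cfsg.Agent.Lib.Helper3.pLayer_normalizer_eq_bot_and hL hP).1, ?_⟩
  rw [Cfsg.Agent.Lib.Helper3.isPConstrained_iff]
  have hF := Cfsg.Agent.Lib.Helper3.generalizedFittingSubgroup_quotient_eq_pCore_of_pLayer_eq_bot hL
  have hN := Cfsg.Agent.Lib.Helper3.generalizedFittingSubgroup_normalizer_eq_pCore_of_eq hF
    (P := P.map (QuotientGroup.mk' (Cfsg.pPrimeCore p G))) (hP.map _)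
  obtain ⟨Nb, hNb⟩ : ∃ Nb : Subgroup (G ⧸ Cfsg.pPrimeCore p G),
      Nb = Subgroup.normalizer ((P.map (QuotientGroup.mk' (Cfsg.pPrimeCore p G)) : Subgroup _) : Set _) := ⟨_, rfl⟩
  rw [← hNb] at hN
  have hNp : IsPGroup p (Cfsg.generalizedFittingSubgroup ↥Nb) := by
    rw [hN]; exact Cfsg.Agent.Lib.Lead.pCore_isPGroup p
  obtain ⟨C, hC⟩ : ∃ C : Subgroup G, C = Subgroup.centralizer (P : Set G) := ⟨_, rfl⟩
  rw [← hC]
  have hCN : C.map (QuotientGroup.mk' (Cfsg.pPrimeCore p G)) ≤ Nb := by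
    rw [hNb, hC]
    exact (Subgroup.map_mono (Subgroup.centralizer_le_normalizer _)).trans (Subgroup.le_normalizer_map _)
  have hNC : Nb ≤ Subgroup.normalizer
      ((C.map (QuotientGroup.mk' (Cfsg.pPrimeCore p G)) : Subgroup _) : Set _) := by
    rw [hNb, ← Cfsg.Agent.Lib.Helper3.normalizer_map_mk'_eq _
      (Cfsg.Agent.Lib.Helper6.pPrimeCore_coprime p) hP, hC]
    exact (Subgroup.map_mono (Cfsg.Agent.Lib.Helper2.normalizer_le_normalizer_centralizer P)).trans
      (Subgroup.le_normalizer_map _)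
  have hnorm : ((C.map (QuotientGroup.mk' (Cfsg.pPrimeCore p G))).subgroupOf Nb).Normal :=
    Subgroup.normal_subgroupOf_of_le_normalizer hNC
  have h1 := Cfsg.Agent.Lib.Helper3.isPGroup_generalizedFittingSubgroup_of_isSubnormal hnorm.isSubnormal hNp
  have h2 : IsPGroup p (Cfsg.generalizedFittingSubgroup ↥(C.map (QuotientGroup.mk' (Cfsg.pPrimeCore p G)))) :=
    Cfsg.Agent.Lib.Helper3.isPGroup_generalizedFittingSubgroup_of_mulEquiv
      (Subgroup.subgroupOfEquivOfLe hCN) h1
  have h3 := Cfsg.Agent.Lib.Helper3.generalizedFittingSubgroup_eq_pCore_of_isPGroup h2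
  have hb1 := Cfsg.Agent.Lib.Helper3.pPrimeCore_eq_bot_of_generalizedFittingSubgroup_eq_pCore h3
  have hb2 := Cfsg.Agent.Lib.Helper3.layer_eq_bot_of_generalizedFittingSubgroup_eq_pCore h3
  have hφ := (QuotientGroup.mk' (Cfsg.pPrimeCore p G)).subgroupMap_surjective C
  have hker : ((QuotientGroup.mk' (Cfsg.pPrimeCore p G)).subgroupMap C).ker =
      (Cfsg.pPrimeCore p G).subgroupOf C := by
    ext x
    rw [MonoidHom.mem_ker, Subgroup.mem_subgroupOf]
    constructor
    · intro h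
      have := congrArg Subtype.val h
      exact (QuotientGroup.eq_one_iff _).mp this
    · intro h
      apply Subtype.ext
      exact (QuotientGroup.eq_one_iff _).mpr h
  have hkc : (Nat.card ((QuotientGroup.mk' (Cfsg.pPrimeCore p G)).subgroupMap C).ker).Coprime p := by
    rw [hker, ← Subgroup.inf_subgroupOf_right,
      Nat.card_congr (Subgroup.subgroupOfEquivOfLe inf_le_right).toEquiv]
    exact Nat.Coprime.coprime_dvd_left (Subgroup.card_dvd_of_le inf_le_left)
      (Cfsg.Agent.Lib.Helper6.pPrimeCore_coprime p)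
  exact Cfsg.Agent.Lib.Helper3.pLayer_eq_bot_of_surjective _ hφ hkc hb1 hb2

end Cfsg.Agent.S0631
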