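import Cfsg.Statements.S0632
import Mathlib
import Cfsg.Agent.Lib.Lead.PStabQuot3

set_option autoImplicit false
open Cfsg

namespace Cfsg.Agent.S0632

/-- For a group with a nontrivial normal p-subgroup, p-stability passes to and from the quotient by the largest normal subgroup of order prime to p. -/
theorem result {G : Type*} [Group G] [Finite G] {p : ℕ} [Fact p.Prime] (hO : Cfsg.pCore p G ≠ ⊥) : Cfsg.IsPStable p G ↔ Cfsg.IsPStable p (G ⧸ Cfsg.pPrimeCore p G) := by
  classical
  set K := Cfsg.pPrimeCore p G with hKdef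
  set π := QuotientGroup.mk' K with hπ
  have hsurj : Function.Surjective π := QuotientGroup.mk'_surjective K
  have hKcop : (Nat.card K).Coprime p := Cfsg.Agent.Lib.Helper6.pPrimeCore_coprime p
  have hbot : Cfsg.pPrimeCore p (G ⧸ K) = ⊥ :=
    Cfsg.Agent.Lib.Lead.PStabQuot.pPrimeCore_quotient_eq_bot p
  have hkerK : ∀ k ∈ K, π k = 1 := by
    intro k hk
    rw [hπ, QuotientGroup.mk'_apply, QuotientGroup.eq_one_iff]; exact hk
  have hmapK : K.map π = ⊥ := by
    rw [eq_bot_iff]
    rintro _ ⟨k, hk, rfl⟩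
    rw [Subgroup.mem_bot]; exact hkerK k hk
  constructor
  · rintro ⟨hodd, -, h⟩
    refine ⟨hodd, ?_, ?_⟩
    · intro h0
      apply hO
      have h1 : (Cfsg.pCore p G).map π ≤ Cfsg.pCore p (G ⧸ K) :=
        Cfsg.Agent.Lib.Helper6.le_pCore
          (Subgroup.Normal.map inferInstance _ hsurj)
          ((Cfsg.Agent.Lib.Helper6.pCore_isPGroup p).map _)
      rw [h0, le_bot_iff] at h1
      have h2 : Cfsg.pCore p G ≤ K := by
        intro x hx
        have : π x ∈ (Cfsg.pCore p G).map π := ⟨x, hx, rfl⟩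
        rw [h1, Subgroup.mem_bot, hπ, QuotientGroup.mk'_apply, QuotientGroup.eq_one_iff] at this
        exact this
      have h3 := Cfsg.Agent.Lib.Helper6.isPGroup_inf_coprime_eq_bot hKcop
        (Cfsg.Agent.Lib.Helper6.pCore_isPGroup (G := G) p)
      rw [← h3]; exact (inf_eq_left.mpr h2).symm
    · intro A' P' hA' hP' hnorm hle hnormal hquad
      obtain ⟨A, P, S, hSp, hAS, hPS, hnorm', hAmap, hPmap⟩ :=
        Cfsg.Agent.Lib.Lead.PStabQuot.exists_lift K hKcop A' P' hA' hP' hnorm
      have hAp : IsPGroup p A := hSp.to_le hAS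
      have hPp : IsPGroup p P := hSp.to_le hPS
      have hP'n : P'.Normal := by
        rw [hbot, bot_sup_eq] at hnormal; exact hnormal
      have hPle : P ≤ Cfsg.pPrimePCore p G := by
        unfold Cfsg.pPrimePCore
        intro x hx
        apply Subgroup.mem_comap.mpr
        apply Cfsg.Agent.Lib.Lead.PStabQuot.pPrimePCore_le_pCore_of_pPrimeCore_eq_bot p hbot
        apply hle
        rw [← hPmap]; exact ⟨x, hx, rfl⟩
      have hKP : (K ⊔ P).Normal := by
        have h1 : K ⊔ P = (P.map π).comap π := by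
          rw [Subgroup.comap_map_eq, QuotientGroup.ker_mk', sup_comm]
        rw [h1, hPmap]
        exact Subgroup.Normal.comap hP'n _
      have hSK : S ⊓ K = ⊥ := Cfsg.Agent.Lib.Helper6.isPGroup_inf_coprime_eq_bot hKcop hSp
      have hquad' : ⁅⁅P, A⁆, A⁆ = ⊥ := by
        have h1 : ⁅⁅P, A⁆, A⁆ ≤ S := by
          have h2 : ⁅P, A⁆ ≤ S := by
            rw [Subgroup.commutator_le]
            intro x hx y hy
            rw [commutatorElement_def]
            exact S.mul_mem (S.mul_mem (S.mul_mem (hPS hx) (hAS hy)) (S.inv_mem (hPS hx)))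
              (S.inv_mem (hAS hy))
          rw [Subgroup.commutator_le]
          intro x hx y hy
          rw [commutatorElement_def]
          exact S.mul_mem (S.mul_mem (S.mul_mem (h2 hx) (hAS hy)) (S.inv_mem (h2 hx)))
            (S.inv_mem (hAS hy))
        have h3 : ⁅⁅P, A⁆, A⁆ ≤ K := by
          intro x hx
          have h4 : π x ∈ (⁅⁅P, A⁆, A⁆ : Subgroup G).map π := ⟨x, hx, rfl⟩
          rw [Subgroup.map_commutator, Subgroup.map_commutator, hAmap, hPmap, hquad,
            Subgroup.mem_bot, hπ, QuotientGroup.mk'_apply, QuotientGroup.eq_one_iff] at h4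
          exact h4
        rw [eq_bot_iff, ← hSK]; exact le_inf h1 h3
      have hAN : A ≤ Subgroup.normalizer (P : Set G) :=
        Cfsg.Agent.Lib.Lead.ExpSec.le_normalizer_of_conj_mem A P hnorm'
      have hc := (Cfsg.Agent.Lib.Lead.PStabQuot.autCond_iff p A P hAN).mp
        (h A P hAp hPp hnorm' hPle hKP hquad')
      have hc' := Cfsg.Agent.Lib.Lead.PStabQuot.autCond_quotient K A P hPp hKcop hKP hc
      rw [hAmap, hPmap] at hc'
      have hAN' : A' ≤ Subgroup.normalizer (P' : Set (G ⧸ K)) :=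
        Cfsg.Agent.Lib.Lead.ExpSec.le_normalizer_of_conj_mem A' P' hnorm
      exact (Cfsg.Agent.Lib.Lead.PStabQuot.autCond_iff p A' P' hAN').mpr hc'
  · rintro ⟨hodd, -, h⟩
    refine ⟨hodd, hO, ?_⟩
    intro A P hA hP hnorm hle hnormal hquad
    have hAN : A ≤ Subgroup.normalizer (P : Set G) :=
      Cfsg.Agent.Lib.Lead.ExpSec.le_normalizer_of_conj_mem A P hnorm
    have hPK : P ⊓ K = ⊥ := Cfsg.Agent.Lib.Helper6.isPGroup_inf_coprime_eq_bot hKcop hP
    have hnorm' : ∀ a ∈ A.map π, ∀ x ∈ P.map π, a * x * a⁻¹ ∈ P.map π := by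
      rintro _ ⟨a, ha, rfl⟩ _ ⟨x, hx, rfl⟩
      exact ⟨a * x * a⁻¹, hnorm a ha x hx, by simp⟩
    have hle' : P.map π ≤ Cfsg.pPrimePCore p (G ⧸ K) := by
      refine le_trans ?_ (Cfsg.Agent.Lib.Lead.PStabQuot.pCore_le_pPrimePCore p)
      rintro _ ⟨x, hx, rfl⟩
      have := hle hx
      unfold Cfsg.pPrimePCore at this
      exact Subgroup.mem_comap.mp this
    have hnormal' : (Cfsg.pPrimeCore p (G ⧸ K) ⊔ P.map π).Normal := by
      rw [hbot, bot_sup_eq]
      have h1 : P.map π = (K ⊔ P).map π := by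
        rw [Subgroup.map_sup, hmapK, bot_sup_eq]
      rw [h1]
      exact Subgroup.Normal.map hnormal _ hsurj
    have hquad' : ⁅⁅P.map π, A.map π⁆, A.map π⁆ = ⊥ := by
      rw [← Subgroup.map_commutator, ← Subgroup.map_commutator, hquad, Subgroup.map_bot]
    have hAN' : A.map π ≤ Subgroup.normalizer ((P.map π : Subgroup (G ⧸ K)) : Set (G ⧸ K)) :=
      Cfsg.Agent.Lib.Lead.ExpSec.le_normalizer_of_conj_mem _ _ hnorm'
    have hc := (Cfsg.Agent.Lib.Lead.PStabQuot.autCond_iff p _ _ hAN').mp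
      (h (A.map π) (P.map π) (hA.map _) (hP.map _) hnorm' hle' hnormal' hquad')
    have hc' := Cfsg.Agent.Lib.Lead.PStabQuot.autCond_of_quotient p K A P hPK hAN hc
    exact (Cfsg.Agent.Lib.Lead.PStabQuot.autCond_iff p A P hAN).mpr hc'

end Cfsg.Agent.S0632
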