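import Cfsg.Statements.S0633
import Mathlib
import Cfsg.Agent.Lib.Helper8.TB11

set_option autoImplicit false
open Cfsg

namespace Cfsg.Agent.S0633

/-- Theorem B of Hall and Higman on the minimal polynomial of a p-element of order p^n in a p-solvable linear group on a nonzero vector space in characteristic p with no nontrivial normal p-subgroup: its degree is p^n, except when some p^n₀ - 1 (n₀ ≤ n) is a power of a prime q for which the Sylow q-subgroups are non-abelian, in which case the degree is at least p^(n-n₀)(p^n₀ - 1). -/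
theorem result {F : Type*} [Field F] {p : ℕ} [Fact p.Prime] [CharP F p] {V : Type*} [AddCommGroup V] [Module F V] [FiniteDimensional F V] [Nontrivial V] (H : Subgroup (V ≃ₗ[F] V)) [Finite H] (hsol : Cfsg.IsPSolvable p H) (hOp : Cfsg.pCore p H = ⊥) (x : V ≃ₗ[F] V) (hx : x ∈ H) (n : ℕ) (hn : orderOf x = p ^ n) (r : ℕ) (hr : minpoly F (x : Module.End F V) = (Polynomial.X - 1) ^ r) : r = p ^ n ∨ ∃ n₀ q m : ℕ, 1 ≤ n₀ ∧ n₀ ≤ n ∧ q.Prime ∧ 1 ≤ m ∧ p ^ n₀ - 1 = q ^ m ∧ (∀ Q : Sylow q H, ¬ IsMulCommutative Q) ∧ p ^ (n - n₀) * (p ^ n₀ - 1) ≤ r := by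
  classical
  have hp : p.Prime := Fact.out
  -- the representation of `H`
  obtain ⟨ρ, hρdef⟩ : ∃ ρ : Representation F H V,
      ρ = (LinearEquiv.automorphismGroup.toLinearMapMonoidHom (R := F) (M := V)).comp H.subtype :=
    ⟨_, rfl⟩
  have hρapp : ∀ g : H, ρ g = ((g : V ≃ₗ[F] V) : Module.End F V) := by
    intro g; rw [hρdef]; rfl
  have hρinj : Function.Injective ρ := by
    intro a b hab
    rw [hρapp, hρapp] at hab
    exact Subtype.ext (LinearEquiv.toLinearMap_injective hab)
  have hxo : orderOf (⟨x, hx⟩ : H) = p ^ n := by rw [Subgroup.orderOf_mk]; exact hn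
  have hnil : ((x : Module.End F V) - 1) ^ r = 0 := by
    have h1 := minpoly.aeval F (x : Module.End F V)
    rw [hr] at h1
    simpa using h1
  have hrle : r ≤ p ^ n := by
    have hxpow : (x : Module.End F V) ^ p ^ n = 1 := by
      have h1 : x ^ p ^ n = 1 := by rw [← hn]; exact pow_orderOf_eq_one x
      have h2 := congrArg (LinearEquiv.automorphismGroup.toLinearMapMonoidHom (R := F) (M := V)) h1
      rw [map_pow, map_one] at h2
      exact h2
    have h3 : Polynomial.aeval (x : Module.End F V) ((Polynomial.X - 1 : Polynomial F) ^ p ^ n) = 0 := by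
      rw [sub_pow_char_pow, one_pow]
      simp [hxpow]
    have h4 := minpoly.dvd F (x : Module.End F V) h3
    rw [hr] at h4
    have hne : ((Polynomial.X - 1 : Polynomial F) ^ p ^ n) ≠ 0 := by
      apply pow_ne_zero
      have := Polynomial.X_sub_C_ne_zero (1 : F)
      simpa using this
    have h5 := Polynomial.natDegree_le_of_dvd h4 hne
    have h6 : ∀ k : ℕ, ((Polynomial.X - 1 : Polynomial F) ^ k).natDegree = k := by
      intro k
      have : (Polynomial.X - 1 : Polynomial F) = Polynomial.X - Polynomial.C 1 := by simp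
      rw [this, Polynomial.natDegree_pow, Polynomial.natDegree_X_sub_C, mul_one]
    rw [h6, h6] at h5
    exact h5
  have hnil' : (ρ ⟨x, hx⟩ - 1) ^ r = 0 := by rw [hρapp]; exact hnil
  rcases Cfsg.Agent.Lib.Helper8.TB.main_field p hsol hOp ρ hρinj ⟨x, hx⟩ n hxo r hnil' with h | h
  · left; omega
  · right; exact h

end Cfsg.Agent.S0633
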