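import Cfsg.Statements.S0636
import Mathlib
import Cfsg.Agent.Lib.Lead.NormalRankTwo
import Cfsg.Agent.Lib.Lead.Nilpotent
import Cfsg.Agent.Lib.Lead.GenCentralizers

set_option autoImplicit false
open Cfsg

namespace Cfsg.Agent.S0636

open Cfsg.Agent.Lib.Lead
open scoped IsMulCommutative

variable {R : Type*} [Group R] [Finite R] {p : ℕ} [hp : Fact p.Prime]

/-- relative version: over a normal subgroup `A` properly contained in the normal subgroup `S` of a
`p`-group there is a normal subgroup `B ≤ S` with `|B : A| = p` -/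
theorem exists_normal_relIndex_p_le (hR : IsPGroup p R) (A S : Subgroup R) [hAn : A.Normal]
    [hSn : S.Normal] (hAS : A ≤ S) (hA : A ≠ S) :
    ∃ B : Subgroup R, B.Normal ∧ A ≤ B ∧ B ≤ S ∧ A.relIndex B = p := by
  classical
  set π := QuotientGroup.mk' A with hπ
  have hπs : Function.Surjective π := QuotientGroup.mk'_surjective A
  have hker : π.ker = A := QuotientGroup.ker_mk' A
  have hQ : IsPGroup p (R ⧸ A) := hR.to_quotient A
  haveI : Group.IsNilpotent (R ⧸ A) := hQ.isNilpotent
  set N : Subgroup (R ⧸ A) := S.map π with hN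
  haveI hNn : N.Normal := hSn.map π hπs
  have hNne : N ≠ ⊥ := by
    intro h
    apply hA
    apply le_antisymm hAS
    intro s hs
    have : π s ∈ N := Subgroup.mem_map_of_mem π hs
    rw [h, Subgroup.mem_bot] at this
    rw [← hker]; exact this
  have h1 := inf_center_ne_bot N hNne
  have hpc : p ∣ Nat.card (N ⊓ Subgroup.center (R ⧸ A) : Subgroup (R ⧸ A)) := by
    obtain ⟨m, hm⟩ := IsPGroup.iff_card.mp (hQ.to_subgroup (N ⊓ Subgroup.center (R ⧸ A)))
    rcases m with _ | m
    · exfalso
      rw [pow_zero] at hm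
      exact h1 (Subgroup.card_eq_one.mp hm)
    · rw [hm, pow_succ]; exact dvd_mul_left p _
  obtain ⟨b, hb⟩ := exists_prime_orderOf_dvd_card' p hpc
  set Zb : Subgroup (R ⧸ A) := Subgroup.zpowers (b : R ⧸ A) with hZb
  have hZbc : Zb ≤ Subgroup.center (R ⧸ A) := (Subgroup.zpowers_le).mpr b.2.2
  have hZbN : Zb ≤ N := (Subgroup.zpowers_le).mpr b.2.1
  have hZbn : Zb.Normal := by
    refine ⟨fun y hy g => ?_⟩
    have := Subgroup.mem_center_iff.mp (hZbc hy) g
    rw [this, mul_inv_cancel_right]; exact hy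
  have hZbcard : Nat.card Zb = p := by
    rw [hZb, Nat.card_zpowers, Subgroup.orderOf_coe]; exact hb
  refine ⟨Zb.comap π, hZbn.comap π, ?_, ?_, ?_⟩
  · intro a ha
    rw [Subgroup.mem_comap]
    have h0 : π a = 1 := (QuotientGroup.eq_one_iff a).mpr ha
    rw [h0]
    exact Subgroup.one_mem _
  · intro x hx
    rw [Subgroup.mem_comap] at hx
    obtain ⟨s, hs, hsx⟩ := Subgroup.mem_map.mp (hZbN hx)
    have h2 : s⁻¹ * x ∈ A := by
      rw [← hker, MonoidHom.mem_ker, map_mul, map_inv, hsx, inv_mul_cancel]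
    have : x = s * (s⁻¹ * x) := by group
    rw [this]
    exact S.mul_mem hs (hAS h2)
  · have h1 := Subgroup.relIndex_ker (K := Zb.comap π) π
    rw [Subgroup.map_comap_eq_self_of_surjective hπs, hZbcard, hker] at h1
    exact h1

/-- existence of a maximal normal abelian subgroup inside `S` -/
theorem exists_max_normal_abelian_le (S : Subgroup R) :
    ∃ A : Subgroup R, A ≤ S ∧ A.Normal ∧ IsMulCommutative A ∧
      ∀ M : Subgroup R, M ≤ S → M.Normal → IsMulCommutative M → A ≤ M → M = A := by
  classical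
  let T := {N : Subgroup R // N ≤ S ∧ N.Normal ∧ IsMulCommutative N}
  have : Nonempty T := ⟨⟨⊥, bot_le, inferInstance, inferInstance⟩⟩
  obtain ⟨A, hA⟩ := Finite.exists_max (fun N : T => Nat.card N.1)
  refine ⟨A.1, A.2.1, A.2.2.1, A.2.2.2, ?_⟩
  intro M hMS hMn hMc hAM
  have := hA ⟨M, hMS, hMn, hMc⟩
  exact (Subgroup.eq_of_le_of_card_ge hAM this).symm

/-- For odd p, every non-cyclic normal subgroup of a p-group contains a normal elementary abelian subgroup of the whole group of order p². -/
theorem result {R : Type*} [Group R] [Finite R] {p : ℕ} [Fact p.Prime] (hp : p ≠ 2) (hR : IsPGroup p R) (S : Subgroup R) [S.Normal] (hS : ¬ IsCyclic S) : ∃ A : Subgroup R, A ≤ S ∧ A.Normal ∧ Cfsg.IsElementaryAbelian p A ∧ Nat.card A = p ^ 2 := by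
  classical
  haveI : Group.IsNilpotent R := hR.isNilpotent
  obtain ⟨A, hAS, hAn, hAc, hmax⟩ := exists_max_normal_abelian_le S
  by_cases hAcyc : IsCyclic A
  · -- cyclic case
    have hAne : A ≠ S := by
      rintro rfl
      exact hS hAcyc
    obtain ⟨B, hBn, hAB, hBS, hidx⟩ := exists_normal_relIndex_p_le hR A S hAS hAne
    have hBnc : ¬ IsCyclic B := by
      intro hBc
      have hBA : B = A := hmax B hBS hBn inferInstance hAB
      rw [hBA, Subgroup.relIndex_self] at hidx
      exact (Fact.out : p.Prime).one_lt.ne hidx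
    have hCcyc : IsCyclic (A.subgroupOf B) :=
      isCyclic_of_surjective (Subgroup.subgroupOfEquivOfLe hAB).symm
        (Subgroup.subgroupOfEquivOfLe hAB).symm.surjective
    obtain ⟨E, hEc, hEexp, hEcard, hT⟩ :=
      exists_omega_of_cyclic_maximal hp (hR.to_subgroup B) hBnc (A.subgroupOf B) hCcyc hidx
    refine ⟨E.map B.subtype, ?_, ?_, ⟨inferInstance, ?_⟩, ?_⟩
    · intro y hy
      obtain ⟨e, he, rfl⟩ := Subgroup.mem_map.mp hy
      exact hBS e.2
    · refine ⟨fun n hn g => ?_⟩
      obtain ⟨e, he, rfl⟩ := Subgroup.mem_map.mp hn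
      have hmemB : g * (e : R) * g⁻¹ ∈ B := hBn.conj_mem _ e.2 g
      refine Subgroup.mem_map.mpr ⟨⟨g * (e : R) * g⁻¹, hmemB⟩, ?_, rfl⟩
      apply hT
      apply Subtype.ext
      have h1 := congrArg Subtype.val (hEexp e he)
      simp only [Subgroup.coe_pow, Subgroup.coe_one] at h1 ⊢
      rw [conj_pow, h1]; group
    · intro y hy
      obtain ⟨e, he, rfl⟩ := Subgroup.mem_map.mp hy
      have h1 := congrArg Subtype.val (hEexp e he)
      simpa using h1
    · rw [Subgroup.card_map_of_injective B.subtype_injective, hEcard]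
  · -- noncyclic case
    obtain ⟨q, hq, E0, hE0card, hE0exp⟩ := exists_elementary_abelian_sq hAcyc
    have hqp : q = p := by
      obtain ⟨k, hk⟩ := IsPGroup.iff_card.mp hR
      have h1 : q ∣ Nat.card R := by
        have h2 : q ∣ Nat.card E0 := by rw [hE0card, sq]; exact dvd_mul_right q q
        exact (h2.trans (Subgroup.card_subgroup_dvd_card E0)).trans
          (Subgroup.card_subgroup_dvd_card A)
      rw [hk] at h1
      exact (Nat.prime_dvd_prime_iff_eq hq (Fact.out : p.Prime)).mp (hq.dvd_of_dvd_pow h1)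
    subst hqp
    set V : Subgroup R := (powMonoidHom q : A →* A).ker.map A.subtype with hV
    have hVmem : ∀ y : R, y ∈ V ↔ y ∈ A ∧ y ^ q = 1 := by
      intro y
      constructor
      · intro hy
        obtain ⟨a, ha, rfl⟩ := Subgroup.mem_map.mp hy
        refine ⟨a.2, ?_⟩
        have h1 : a ^ q = 1 := ha
        have := congrArg Subtype.val h1
        simpa using this
      · rintro ⟨hyA, hyq⟩
        refine Subgroup.mem_map.mpr ⟨⟨y, hyA⟩, ?_, rfl⟩
        change (⟨y, hyA⟩ : A) ^ q = 1
        exact Subtype.ext hyq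
    haveI hVn : V.Normal := by
      refine ⟨fun n hn g => ?_⟩
      rw [hVmem] at hn ⊢
      refine ⟨hAn.conj_mem n hn.1 g, ?_⟩
      rw [conj_pow, hn.2]; group
    have hVexp : ∀ v ∈ V, v ^ q = 1 := fun v hv => ((hVmem v).mp hv).2
    have hE0V : E0.map A.subtype ≤ V := by
      intro y hy
      obtain ⟨e, he, rfl⟩ := Subgroup.mem_map.mp hy
      rw [hVmem]
      refine ⟨e.2, ?_⟩
      have := congrArg Subtype.val (hE0exp e he)
      simpa using this
    have hVcard : q < Nat.card V := by
      have h1 := Subgroup.card_le_of_le hE0V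
      rw [Subgroup.card_map_of_injective A.subtype_injective, hE0card] at h1
      have h2 : q < q ^ 2 := by
        rw [sq]; have := hq.one_lt; nlinarith
      omega
    obtain ⟨W, hWn, hWV, hWc, hWexp, hWcard⟩ := exists_normal_sq_le hR V hVexp hVcard
    refine ⟨W, ?_, hWn, ⟨hWc, hWexp⟩, hWcard⟩
    intro w hw
    exact hAS ((hVmem w).mp (hWV hw)).1

end Cfsg.Agent.S0636
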