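import Cfsg.Statements.S0638
import Mathlib
import Cfsg.Agent.Lib.Lead.CyclicMax
import Cfsg.Agent.Lib.Lead.UniqueOrderP5
import Cfsg.Agent.Lib.Lead.CyclicP
import Cfsg.Agent.Lib.Lead.HallTools

set_option autoImplicit false
open Cfsg

namespace Cfsg.Agent.S0638

open Cfsg.Agent.Lib.Lead
open scoped IsMulCommutative

/-- For odd p, in a non-cyclic metacyclic p-group the elements of order dividing p generate an elementary abelian subgroup of order p². -/
theorem result {R : Type*} [Group R] [Finite R] {p : ℕ} [Fact p.Prime] (hp : p ≠ 2) (hR : IsPGroup p R) (hm : Cfsg.IsMetacyclic R) (hnc : ¬ IsCyclic R) : Cfsg.IsElementaryAbelian p (Cfsg.omegaOne p (⊤ : Subgroup R)) ∧ Nat.card ↥(Cfsg.omegaOne p (⊤ : Subgroup R)) = p ^ 2 := by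
  classical
  obtain ⟨N, hNn, hNc, hQc⟩ := hm
  have hpp : p.Prime := Fact.out
  set π := QuotientGroup.mk' N with hπ
  have hker : π.ker = N := QuotientGroup.ker_mk' N
  have hcomm : ∀ a b : R ⧸ N, a * b = b * a :=
    fun a b => (IsCyclic.isMulCommutative (α := R ⧸ N)).is_comm.comm a b
  -- M = {x | x^p ∈ N}
  let M : Subgroup R :=
    { carrier := {x | x ^ p ∈ N}
      one_mem' := by simp [N.one_mem]
      mul_mem' := by
        intro x y hx hy
        have hx' : π x ^ p = 1 := by
          rw [← map_pow]; exact (QuotientGroup.eq_one_iff _).mpr hx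
        have hy' : π y ^ p = 1 := by
          rw [← map_pow]; exact (QuotientGroup.eq_one_iff _).mpr hy
        have : π ((x * y) ^ p) = 1 := by
          rw [map_pow, map_mul, (show Commute (π x) (π y) from hcomm _ _).mul_pow, hx', hy', one_mul]
        exact (QuotientGroup.eq_one_iff _).mp this
      inv_mem' := by
        intro x hx
        change (x⁻¹) ^ p ∈ N
        rw [inv_pow]; exact N.inv_mem hx }
  have hMmem : ∀ x : R, x ∈ M ↔ x ^ p ∈ N := fun x => Iff.rfl
  have hNM : N ≤ M := fun x hx => N.pow_mem hx p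
  have hpowM : ∀ x : R, x ^ p = 1 → x ∈ M := fun x hx => by
    rw [hMmem, hx]; exact N.one_mem
  -- index bound
  have hrel : N.relIndex M ≤ p := by
    have h1 := Subgroup.relIndex_ker (K := M) π
    rw [hker] at h1
    rw [h1]
    haveI : Fintype (R ⧸ N) := Fintype.ofFinite _
    have h2 := IsCyclic.card_pow_eq_one_le (α := R ⧸ N) hpp.pos
    refine le_trans ?_ h2
    rw [Nat.card_eq_fintype_card, ← Finset.card_univ]
    have : (Finset.univ : Finset (M.map π)).card =
        ((Finset.univ : Finset (M.map π)).map ⟨Subtype.val, Subtype.val_injective⟩).card := by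
      rw [Finset.card_map]
    rw [this]
    apply Finset.card_le_card
    intro y hy
    rw [Finset.mem_map] at hy
    obtain ⟨z, -, rfl⟩ := hy
    obtain ⟨x, hx, hxz⟩ := Subgroup.mem_map.mp z.2
    simp only [Function.Embedding.coeFn_mk, Finset.mem_filter, Finset.mem_univ, true_and]
    rw [← hxz, ← map_pow]
    exact (QuotientGroup.eq_one_iff _).mpr hx
  -- M is not cyclic
  have hnu : ¬ UniqueOrderP p R := fun h => (h.main hR).elim hnc (fun h2 => hp h2.1)
  unfold UniqueOrderP at hnu
  push Not at hnu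
  obtain ⟨H, K, hH, hK, hHK⟩ := hnu
  have hpowH : ∀ (L : Subgroup R), Nat.card L = p → ∀ y ∈ L, y ^ p = 1 := by
    intro L hL y hy
    have := pow_card_eq_one' (G := L) (x := ⟨y, hy⟩)
    rw [hL] at this
    exact congrArg Subtype.val this
  have hMnc : ¬ IsCyclic M := by
    intro hMc
    have hHC : H ≤ M := fun y hy => hpowM y (hpowH H hH y hy)
    have hKC : K ≤ M := fun y hy => hpowM y (hpowH K hK y hy)
    have h1 : Nat.card (H.subgroupOf M) = p := by rw [card_subgroupOf_of_le hHC, hH]
    have h2 : Nat.card (K.subgroupOf M) = p := by rw [card_subgroupOf_of_le hKC, hK]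
    have h3 : H.subgroupOf M ≤ K.subgroupOf M :=
      le_of_card_dvd_of_isCyclic _ _ (by rw [h1, h2])
    have h4 : K.subgroupOf M ≤ H.subgroupOf M :=
      le_of_card_dvd_of_isCyclic _ _ (by rw [h1, h2])
    apply hHK
    apply le_antisymm
    · intro y hy
      have : (⟨y, hHC hy⟩ : M) ∈ K.subgroupOf M := h3 (Subgroup.mem_subgroupOf.mpr hy)
      exact Subgroup.mem_subgroupOf.mp this
    · intro y hy
      have : (⟨y, hKC hy⟩ : M) ∈ H.subgroupOf M := h4 (Subgroup.mem_subgroupOf.mpr hy)
      exact Subgroup.mem_subgroupOf.mp this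
  have hCcyc : IsCyclic (N.subgroupOf M) :=
    isCyclic_of_surjective (Subgroup.subgroupOfEquivOfLe hNM).symm
      (Subgroup.subgroupOfEquivOfLe hNM).symm.surjective
  have hidx : (N.subgroupOf M).index = p := by
    have h0 : (N.subgroupOf M).index = N.relIndex M := rfl
    obtain ⟨k, hk⟩ := (hR.to_subgroup M).index (N.subgroupOf M)
    rcases k with _ | k
    · exfalso
      rw [pow_zero, Subgroup.index_eq_one] at hk
      apply hMnc
      have e : (N.subgroupOf M) ≃* M := hk ▸ Subgroup.topEquiv
      exact isCyclic_of_surjective e e.surjective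
    · rcases k with _ | k
      · simpa using hk
      · exfalso
        rw [h0] at hk
        rw [hk] at hrel
        have : p ^ 2 ≤ p ^ (k + 1 + 1) := Nat.pow_le_pow_right hpp.pos (by omega)
        have h5 : p < p ^ 2 := by rw [sq]; nlinarith [hpp.one_lt]
        omega
  obtain ⟨E, hEc, hEexp, hEcard, hT⟩ :=
    exists_omega_of_cyclic_maximal hp (hR.to_subgroup M) hMnc (N.subgroupOf M) hCcyc hidx
  have hΩ : Cfsg.omegaOne p (⊤ : Subgroup R) = E.map M.subtype := by
    unfold Cfsg.omegaOne
    apply le_antisymm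
    · rw [Subgroup.closure_le]
      rintro x ⟨-, hx⟩
      refine Subgroup.mem_map.mpr ⟨⟨x, hpowM x hx⟩, ?_, rfl⟩
      apply hT
      exact Subtype.ext hx
    · intro y hy
      obtain ⟨e, he, rfl⟩ := Subgroup.mem_map.mp hy
      apply Subgroup.subset_closure
      refine ⟨Subgroup.mem_top _, ?_⟩
      have h1 := congrArg Subtype.val (hEexp e he)
      simpa using h1
  rw [hΩ]
  refine ⟨⟨inferInstance, ?_⟩, ?_⟩
  · intro y hy
    obtain ⟨e, he, rfl⟩ := Subgroup.mem_map.mp hy
    have h1 := congrArg Subtype.val (hEexp e he)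
    simpa using h1
  · rw [Subgroup.card_map_of_injective M.subtype_injective, hEcard]

end Cfsg.Agent.S0638
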