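import Cfsg.Statements.S0642
import Mathlib
import Cfsg.Agent.Lib.Lead.Frattini

set_option autoImplicit false
open Cfsg

namespace Cfsg.Agent.S0642


universe u

theorem regular_quotient {G : Type u} [Group G] (N : Subgroup G) [N.Normal]
    (h : Cfsg.IsRegularPGroup 2 G) : Cfsg.IsRegularPGroup 2 (G ⧸ N) := by
  obtain ⟨hP, hr⟩ := h
  refine ⟨hP.to_quotient N, ?_⟩
  intro a' b' n
  obtain ⟨a, rfl⟩ := QuotientGroup.mk_surjective a'
  obtain ⟨b, rfl⟩ := QuotientGroup.mk_surjective b'
  obtain ⟨c, hc, hab⟩ := hr a b n
  set π := QuotientGroup.mk' N with hπ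
  refine ⟨π c, ?_, ?_⟩
  · have hmap : (Subgroup.closure ({a, b} : Set G)).map π =
        Subgroup.closure ({(a : G ⧸ N), (b : G ⧸ N)} : Set (G ⧸ N)) := by
      rw [MonoidHom.map_closure, Set.image_pair]
      rfl
    have h1 : (Cfsg.powerClosure 2 n ⁅Subgroup.closure ({a, b} : Set G),
        Subgroup.closure ({a, b} : Set G)⁆).map π ≤
        Cfsg.powerClosure 2 n ⁅Subgroup.closure ({(a : G ⧸ N), (b : G ⧸ N)} : Set (G ⧸ N)),
          Subgroup.closure ({(a : G ⧸ N), (b : G ⧸ N)} : Set (G ⧸ N))⁆ := by
      unfold Cfsg.powerClosure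
      rw [MonoidHom.map_closure, Subgroup.closure_le]
      rintro _ ⟨y, ⟨x, hx, rfl⟩, rfl⟩
      apply Subgroup.subset_closure
      refine ⟨π x, ?_, map_pow π x _⟩
      rw [← hmap, ← Subgroup.map_commutator]
      exact Subgroup.mem_map_of_mem π hx
    exact h1 (Subgroup.mem_map_of_mem π hc)
  · have := congrArg π hab
    rw [map_pow, map_mul, map_mul, map_mul, map_pow, map_pow] at this
    exact this

theorem comm_of_regular : ∀ (n : ℕ) (G : Type u) [Group G] [Finite G], Nat.card G ≤ n →
    Cfsg.IsRegularPGroup 2 G → ∀ a b : G, a * b = b * a := by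
  intro n
  induction n with
  | zero =>
    intro G _ _ hn
    have : 0 < Nat.card G := Nat.card_pos
    omega
  | succ n ih =>
    intro G _ _ hn hreg a b
    by_cases hsub : Subsingleton G
    · exact Subsingleton.elim _ _
    · haveI : Nontrivial G := not_subsingleton_iff_nontrivial.mp hsub
      obtain ⟨hP, hr⟩ := hreg
      haveI : Fact (Nat.Prime 2) := ⟨Nat.prime_two⟩
      haveI : Nontrivial (Subgroup.center G) := hP.center_nontrivial
      have h2 : 2 ∣ Nat.card (Subgroup.center G) := by
        obtain ⟨k, hk⟩ := (hP.to_subgroup (Subgroup.center G)).exists_card_eq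
        have hk1 : k ≠ 0 := by
          intro h0
          rw [h0, pow_zero] at hk
          have := Finite.one_lt_card (α := Subgroup.center G)
          omega
        rw [hk]
        exact dvd_pow_self 2 hk1
      obtain ⟨z, hz⟩ := exists_prime_orderOf_dvd_card' (G := Subgroup.center G) 2 h2
      have hzG : orderOf (z : G) = 2 := by rw [Subgroup.orderOf_coe]; exact hz
      set N := Subgroup.zpowers (z : G) with hN
      haveI hNn : N.Normal := by
        constructor
        intro x hx g
        obtain ⟨k, rfl⟩ := Subgroup.mem_zpowers_iff.mp hx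
        have hcz : Commute g (z : G) := Subgroup.mem_center_iff.mp z.2 g
        have hc : g * (z : G) ^ k = (z : G) ^ k * g := (hcz.zpow_right k).eq
        rw [hc, mul_inv_cancel_right]
        exact Subgroup.zpow_mem_zpowers _ _
      have hNcard : Nat.card N = 2 := by rw [hN, Nat.card_zpowers, hzG]
      have hquot : ∀ x y : G ⧸ N, x * y = y * x := by
        apply ih (G ⧸ N) _ (regular_quotient N ⟨hP, hr⟩)
        have h1 := Subgroup.card_eq_card_quotient_mul_card_subgroup N
        rw [hNcard] at h1
        omega
      have hcomm : commutator G ≤ N :=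
        Cfsg.Agent.Lib.Lead.commutator_le_of_quotient_comm N hquot
      have hsq : ∀ x ∈ N, x ^ 2 = 1 := by
        intro x hx
        have := pow_card_eq_one' (G := N) (x := ⟨x, hx⟩)
        rw [hNcard] at this
        exact congrArg Subtype.val this
      obtain ⟨c, hc, hab⟩ := hr a b 1
      have hc1 : c = 1 := by
        have hbot : Cfsg.powerClosure 2 1 ⁅Subgroup.closure ({a, b} : Set G),
            Subgroup.closure ({a, b} : Set G)⁆ = ⊥ := by
          rw [eq_bot_iff]
          unfold Cfsg.powerClosure
          rw [Subgroup.closure_le]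
          rintro y ⟨x, hx, rfl⟩
          have hxN : x ∈ N := by
            apply hcomm
            rw [commutator_def]
            exact Subgroup.commutator_mono le_top le_top hx
          rw [pow_one]
          exact hsq x hxN
        rw [hbot] at hc
        exact Subgroup.mem_bot.mp hc
      rw [hc1, mul_one, pow_one] at hab
      have h3 : a * b * (a * b) = a * a * (b * b) := by
        rw [← sq, ← sq, ← sq]; exact hab
      have h4 : b * a = a * b := by
        have : a * (b * a) * b = a * (a * b) * b := by
          simpa [mul_assoc] using h3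
        exact mul_left_cancel (mul_right_cancel this)
      exact h4.symm

/-- Among finite 2-groups the regular ones are exactly the abelian ones. -/
theorem result {G : Type*} [Group G] [Finite G] (hG : IsPGroup 2 G) : Cfsg.IsRegularPGroup 2 G ↔ ∀ a b : G, a * b = b * a := by
  constructor
  · intro h
    exact comm_of_regular (Nat.card G) G le_rfl h
  · intro h
    refine ⟨hG, ?_⟩
    intro a b n
    refine ⟨1, Subgroup.one_mem _, ?_⟩
    rw [mul_one]
    exact (Commute.mul_pow (h a b) _)

end Cfsg.Agent.S0642
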