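import Cfsg.Statements.S0647
import Mathlib

set_option autoImplicit false
open Cfsg

namespace Cfsg.Agent.S0647

theorem isMulComm_iff {G : Type*} [Group G] (H : Subgroup G) :
    IsMulCommutative H ↔ ∀ a ∈ H, ∀ b ∈ H, a * b = b * a := by
  constructor
  · intro h a ha b hb
    exact Subgroup.mul_comm_of_mem_isMulCommutative H ha hb
  · intro h
    exact ⟨⟨fun a b => Subtype.ext (h a a.2 b b.2)⟩⟩

theorem isMulComm_sup_zpowers {G : Type*} [Group G] (A : Subgroup G) (hA : IsMulCommutative A)
    (x : G) (hx : ∀ a ∈ A, a * x = x * a) : IsMulCommutative ↥(A ⊔ Subgroup.zpowers x) := by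
  rw [isMulComm_iff] at hA ⊢
  have hk : ∀ u ∈ ((A : Set G) ∪ {x}), ∀ v ∈ ((A : Set G) ∪ {x}), u * v = v * u := by
    rintro u (hu | hu) v (hv | hv)
    · exact hA u hu v hv
    · rw [Set.mem_singleton_iff] at hv; subst hv; exact hx u hu
    · rw [Set.mem_singleton_iff] at hu; subst hu; exact (hx v hv).symm
    · rw [Set.mem_singleton_iff] at hu hv; subst hu; subst hv; rfl
  have hcl : A ⊔ Subgroup.zpowers x = Subgroup.closure ((A : Set G) ∪ {x}) := by
    rw [Subgroup.closure_union, Subgroup.closure_eq, Subgroup.zpowers_eq_closure]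
  rw [hcl]
  have h1 : Subgroup.closure ((A : Set G) ∪ {x}) ≤ Subgroup.centralizer ((A : Set G) ∪ {x}) := by
    rw [Subgroup.closure_le]
    intro u hu
    rw [SetLike.mem_coe, Subgroup.mem_centralizer_iff]
    intro v hv
    exact hk v hv u hu
  have h2 : Subgroup.closure ((A : Set G) ∪ {x}) ≤
      Subgroup.centralizer (Subgroup.closure ((A : Set G) ∪ {x}) : Set G) := by
    rw [Subgroup.closure_le]
    intro u hu
    rw [SetLike.mem_coe, Subgroup.mem_centralizer_iff]
    intro v hv
    have := h1 hv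
    rw [Subgroup.mem_centralizer_iff] at this
    exact (this u hu).symm
  intro a ha b hb
  have := h2 hb
  rw [Subgroup.mem_centralizer_iff] at this
  exact this a ha

/-- For a nonempty family of maximal abelian subgroups of a finite group, the intersection of the family is the centre of the subgroup it generates, which is also the full centralizer of that subgroup. -/
theorem result {S : Type*} [Group S] [Finite S] (𝒜 : Set (Subgroup S)) (hne : 𝒜.Nonempty) (hab : ∀ A ∈ 𝒜, IsMulCommutative A) (hmax : ∀ A ∈ 𝒜, ∀ B : Subgroup S, IsMulCommutative B → A ≤ B → B = A) : sInf 𝒜 = sSup 𝒜 ⊓ Subgroup.centralizer ((sSup 𝒜 : Subgroup S) : Set S) ∧ sInf 𝒜 = Subgroup.centralizer ((sSup 𝒜 : Subgroup S) : Set S) := by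
  have h1 : sInf 𝒜 ≤ Subgroup.centralizer ((sSup 𝒜 : Subgroup S) : Set S) := by
    intro x hx
    rw [Subgroup.mem_sInf] at hx
    have hle : sSup 𝒜 ≤ Subgroup.centralizer ({x} : Set S) := by
      apply sSup_le
      intro A hA a ha
      rw [Subgroup.mem_centralizer_iff]
      intro y hy
      rw [Set.mem_singleton_iff] at hy
      subst hy
      exact ((isMulComm_iff A).mp (hab A hA) a ha y (hx A hA)).symm
    rw [Subgroup.mem_centralizer_iff]
    intro y hy
    have := hle hy
    rw [Subgroup.mem_centralizer_iff] at this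
    exact (this x rfl).symm
  have h2 : Subgroup.centralizer ((sSup 𝒜 : Subgroup S) : Set S) ≤ sInf 𝒜 := by
    intro x hx
    rw [Subgroup.mem_sInf]
    intro A hA
    rw [Subgroup.mem_centralizer_iff] at hx
    have hxA : ∀ a ∈ A, a * x = x * a := fun a ha => hx a ((le_sSup hA : A ≤ sSup 𝒜) ha)
    have hB := isMulComm_sup_zpowers A (hab A hA) x hxA
    have := hmax A hA _ hB le_sup_left
    rw [← this]
    exact (le_sup_right : Subgroup.zpowers x ≤ _) (Subgroup.mem_zpowers x)
  have h3 : sInf 𝒜 ≤ sSup 𝒜 := by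
    obtain ⟨A, hA⟩ := hne
    exact (sInf_le hA).trans (le_sSup hA)
  have h4 := le_antisymm h1 h2
  refine ⟨?_, h4⟩
  apply le_antisymm (le_inf h3 h1)
  rw [← h4]
  exact inf_le_right

end Cfsg.Agent.S0647
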