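import Cfsg.Statements.S0649
import Mathlib
import Cfsg.Agent.Lib.Helper2.Schmidt

set_option autoImplicit false
open Cfsg

namespace Cfsg.Agent.S0649


open Pointwise

/-- In the Glauberman replacement situation, if B does not normalize A then some element of B normalizes N_S(A) without normalizing A. -/
theorem result {S : Type*} [Group S] [Finite S] {p : ℕ} [Fact p.Prime] (hS : IsPGroup p S) (B : Subgroup S) [B.Normal] (hB2 : p = 2 → IsMulCommutative B) (A : Subgroup S) (hA : IsMulCommutative A) (hBA : ⁅B, B⁆ ≤ A) (hnot : ¬ B ≤ Subgroup.normalizer (A : Set S)) : ∃ b ∈ B, b ∈ Subgroup.normalizer ((Subgroup.normalizer (A : Set S)) : Set S) ∧ b ∉ Subgroup.normalizer (A : Set S) := by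
  set N := Subgroup.normalizer (A : Set S) with hN
  set K : Subgroup S := B ⊔ N with hK
  have hNK : N < K := by
    apply lt_of_le_of_ne le_sup_right
    intro h
    apply hnot
    have : B ≤ K := le_sup_left
    exact this.trans (le_of_eq h.symm)
  have hKnil : Group.IsNilpotent K := (hS.to_subgroup K).isNilpotent
  have h1 := Cfsg.Agent.Lib.Helper2.Schmidt.nilpotent_normalizer_grows K N hKnil hNK
  obtain ⟨k, hk, hkN⟩ := SetLike.exists_of_lt h1
  obtain ⟨hkK, hknorm⟩ := Subgroup.mem_inf.mp hk
  have hkK' : k ∈ ((B ⊔ N : Subgroup S) : Set S) := hkK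
  rw [Subgroup.normal_mul] at hkK'
  obtain ⟨b, hb, n, hn, hbn⟩ := hkK'
  have hbk : b = k * n⁻¹ := by rw [← hbn]; group
  refine ⟨b, hb, ?_, ?_⟩
  · rw [hbk]
    exact Subgroup.mul_mem _ hknorm (Subgroup.inv_mem _ (Subgroup.le_normalizer hn))
  · intro hbN
    apply hkN
    rw [← hbn]
    exact Subgroup.mul_mem _ hbN hn

end Cfsg.Agent.S0649
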