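import Cfsg.Statements.S0655
import Cfsg.Agent.Lib.Helper2.Thompson

set_option autoImplicit false
open Cfsg

namespace Cfsg.Agent.S0655

open Cfsg.Agent.Lib.Helper2

/-- In a p-group the intersection of all elementary abelian subgroups of largest order is the subgroup generated by the elements of order dividing p in the centre (equivalently the centralizer) of the elementary-version Thompson subgroup. -/
theorem result {S : Type*} [Group S] [Finite S] {p : ℕ} [Fact p.Prime] (hS : IsPGroup p S) : sInf (Cfsg.maxElementaryAbelianSubgroups p S) = Cfsg.omegaCenterThompson p S ∧ Cfsg.omegaCenterThompson p S = Cfsg.omegaOne p (Subgroup.centralizer (Cfsg.thompsonSubgroup p S : Set S)) := by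
  set J := thompsonSubgroup p S with hJ
  set I := sInf (maxElementaryAbelianSubgroups p S) with hI
  obtain ⟨A₀, hA₀⟩ := maxEA_nonempty (G := S) p
  -- I ≤ Ω₁(Z(J))
  have h1 : I ≤ omegaCenterThompson p S := by
    intro x hx
    rw [hI, Subgroup.mem_sInf] at hx
    apply Subgroup.subset_closure
    refine ⟨⟨le_thompson_of_mem hA₀ (hx A₀ hA₀), ?_⟩, ?_⟩
    · -- x centralizes J
      have hle : J ≤ Subgroup.centralizer ({x} : Set S) := by
        apply sSup_le
        intro A hA a ha
        rw [Subgroup.mem_centralizer_iff]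
        intro y hy
        rw [Set.mem_singleton_iff] at hy
        subst hy
        exact (((isEA_iff p A).mp hA.1).1 a ha y (hx A hA)).symm
      show x ∈ Subgroup.centralizer (J : Set S)
      rw [Subgroup.mem_centralizer_iff]
      intro y hy
      have := hle hy
      rw [Subgroup.mem_centralizer_iff] at this
      exact (this x rfl).symm
    · exact ((isEA_iff p A₀).mp hA₀.1).2 x (hx A₀ hA₀)
  -- Ω₁(Z(J)) ≤ Ω₁(C(J))
  have h2 : omegaCenterThompson p S ≤ omegaOne p (Subgroup.centralizer (J : Set S)) := by
    apply Subgroup.closure_mono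
    rintro x ⟨hx, hxp⟩
    exact ⟨hx.2, hxp⟩
  -- Ω₁(C(J)) ≤ I
  have h3 : omegaOne p (Subgroup.centralizer (J : Set S)) ≤ I := by
    unfold omegaOne
    rw [Subgroup.closure_le]
    rintro x ⟨hx, hxp⟩
    rw [SetLike.mem_coe, hI, Subgroup.mem_sInf]
    intro A hA
    apply mem_of_mem_maxEA hA x _ hxp
    intro a ha
    rw [Subgroup.mem_centralizer_iff] at hx
    exact hx a (le_thompson_of_mem hA ha)
  exact ⟨le_antisymm h1 (h2.trans h3), le_antisymm h2 (h3.trans h1)⟩

end Cfsg.Agent.S0655
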