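import Cfsg.Statements.S0656
import Cfsg.Agent.Lib.Lead.Quad9
open scoped commutatorElement

set_option autoImplicit false
open Cfsg

namespace Cfsg.Agent.S0656

/-- For odd p, a faithful group on an elementary abelian p-group with no nontrivial normal p-subgroup in which some nontrivial p-element acts quadratically has a section isomorphic to SL(2, p). -/
theorem result {G : Type*} [Group G] [Finite G] {p : ℕ} [Fact p.Prime] (hp : p ≠ 2) (V H : Subgroup G) (hV : Cfsg.IsElementaryAbelian p V) (hHV : H ≤ Subgroup.normalizer (V : Set G)) (hf : H ⊓ Subgroup.centralizer (V : Set G) = ⊥) (hO : Cfsg.pCore p ↥H = ⊥) (x : G) (hxH : x ∈ H) (hx1 : x ≠ 1) (hxp : ∃ k : ℕ, orderOf x = p ^ k) (hq : ⁅⁅V, Subgroup.zpowers x⁆, Subgroup.zpowers x⁆ = ⊥) : ∃ (K L : Subgroup G) (hL : (L.subgroupOf K).Normal), K ≤ H ∧ Nonempty ((K ⧸ L.subgroupOf K) ≃* Matrix.SpecialLinearGroup (Fin 2) (ZMod p)) := by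
  classical
  have hVc : ∀ a ∈ V, ∀ b ∈ V, a * b = b * a := by
    intro a ha b hb
    have := hV.1.is_comm.comm (⟨a, ha⟩ : ↥V) ⟨b, hb⟩
    exact congrArg Subtype.val this
  refine Cfsg.Agent.Lib.Lead.Quad.section_of_quadratic hp V H hVc hV.2 hHV x hxH ?_ ?_
  · -- quadratic action
    intro v hv
    have hc : x * v * x⁻¹ * v⁻¹ ∈ ⁅V, Subgroup.zpowers x⁆ := by
      have h1 : ⁅v, x⁆ ∈ ⁅V, Subgroup.zpowers x⁆ :=
        Subgroup.commutator_mem_commutator hv (Subgroup.mem_zpowers x)
      have h2 := Subgroup.inv_mem _ h1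
      rw [commutatorElement_inv] at h2
      exact h2
    have h3 : ⁅x * v * x⁻¹ * v⁻¹, x⁆ ∈ ⁅⁅V, Subgroup.zpowers x⁆, Subgroup.zpowers x⁆ :=
      Subgroup.commutator_mem_commutator hc (Subgroup.mem_zpowers x)
    rw [hq, Subgroup.mem_bot, commutatorElement_eq_one_iff_mul_comm] at h3
    rw [← h3, mul_assoc, mul_inv_cancel, mul_one]
  · -- `x` lies in no normal subgroup acting as a `p`-group
    intro N hNH hNn hNp hxN
    have hNpg : IsPGroup p ↥(N.subgroupOf H) := by
      rintro ⟨n, hn⟩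
      rw [Subgroup.mem_subgroupOf] at hn
      obtain ⟨k, hk⟩ := hNp _ hn
      refine ⟨k, ?_⟩
      apply Subtype.ext
      apply Subtype.ext
      have h1 : (n : G) ^ p ^ k ∈ H ⊓ Subgroup.centralizer (V : Set G) := by
        refine ⟨H.pow_mem n.2 _, ?_⟩
        intro v hv
        exact (hk v hv).symm
      rw [hf, Subgroup.mem_bot] at h1
      simpa using h1
    have hNnorm : (N.subgroupOf H).Normal := by
      constructor
      intro n hn g
      rw [Subgroup.mem_subgroupOf] at hn ⊢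
      exact hNn g g.2 n hn
    have hle : N.subgroupOf H ≤ Cfsg.pCore p ↥H := le_sSup ⟨hNnorm, hNpg⟩
    rw [hO] at hle
    have hx' : (⟨x, hxH⟩ : ↥H) ∈ N.subgroupOf H := by
      rw [Subgroup.mem_subgroupOf]; exact hxN
    have := hle hx'
    rw [Subgroup.mem_bot] at this
    exact hx1 (congrArg Subtype.val this)

end Cfsg.Agent.S0656
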