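import Cfsg.Statements.S0657
import Cfsg.Agent.Lib.Lead.Quad14

set_option autoImplicit false
open Cfsg

namespace Cfsg.Agent.S0657

/-- For odd p, a group that fails to be p-stable modulo its largest normal subgroup of order prime to p, and whose upper p-series does not stop there, has a section isomorphic to SL(2, p). -/
theorem result {G : Type*} [Group G] [Finite G] {p : ℕ} [Fact p.Prime] (hp : p ≠ 2) (hO : Cfsg.pPrimeCore p G < Cfsg.pPrimePCore p G) (hns : ¬ Cfsg.IsPStable p (G ⧸ Cfsg.pPrimeCore p G)) : ∃ (K L : Subgroup G) (hL : (L.subgroupOf K).Normal), K ≤ ⊤ ∧ Nonempty ((K ⧸ L.subgroupOf K) ≃* Matrix.SpecialLinearGroup (Fin 2) (ZMod p)) := by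
  classical
  set Z := Cfsg.pPrimeCore p G with hZ
  have hodd : Odd p := (Fact.out : p.Prime).odd_of_ne_two hp
  have hcore : Cfsg.pCore p (G ⧸ Z) ≠ ⊥ := by
    intro h0
    have h1 : Cfsg.pPrimePCore p G = Z := by
      unfold Cfsg.pPrimePCore
      rw [h0]
      exact QuotientGroup.ker_mk' Z
    exact hO.ne h1.symm
  have hns' : ¬ (∀ A P : Subgroup (G ⧸ Z), IsPGroup p A → IsPGroup p P →
      (∀ a ∈ A, ∀ x ∈ P, a * x * a⁻¹ ∈ P) → P ≤ Cfsg.pPrimePCore p (G ⧸ Z) →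
      (Cfsg.pPrimeCore p (G ⧸ Z) ⊔ P).Normal → ⁅⁅P, A⁆, A⁆ = ⊥ →
      (A.subgroupOf (Subgroup.normalizer (P : Set (G ⧸ Z)))).map
          (QuotientGroup.mk' ((Subgroup.centralizer (P : Set (G ⧸ Z))).subgroupOf
            (Subgroup.normalizer (P : Set (G ⧸ Z)))))
        ≤ Cfsg.pCore p _) := fun h => hns ⟨hodd, hcore, h⟩
  push Not at hns'
  obtain ⟨A, P, hA, hP, hnorm, -, -, hq, hnle⟩ := hns'
  obtain ⟨z, hz, hzn⟩ := SetLike.not_le_iff_exists.mp hnle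
  obtain ⟨⟨a, haN⟩, haA, rfl⟩ := hz
  rw [SetLike.mem_coe, Subgroup.mem_subgroupOf] at haA
  have hq' : ⁅⁅P, Subgroup.zpowers a⁆, Subgroup.zpowers a⁆ = ⊥ := by
    have hle : Subgroup.zpowers a ≤ A := by
      rw [Subgroup.zpowers_le]; exact haA
    rw [eq_bot_iff, ← hq]
    exact Subgroup.commutator_mono (Subgroup.commutator_mono le_rfl hle) hle
  have hsec : Cfsg.Agent.Lib.Lead.Quad.HasSL2Section p
      ↥(Subgroup.normalizer (P : Set (G ⧸ Z))) := by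
    by_contra hcon
    exact hzn (Cfsg.Agent.Lib.Lead.Quad.mem_pCore_of_not_hasSL2Section hp P hP a haN hq' hcon)
  have h1 : Cfsg.Agent.Lib.Helper9.IsSectionOf (Matrix.SpecialLinearGroup (Fin 2) (ZMod p)) (G ⧸ Z) :=
    (Cfsg.Agent.Lib.Lead.Quad.hasSL2Section_iff_isSectionOf.mp hsec).of_subgroup
  have h2 : Cfsg.Agent.Lib.Helper9.IsSectionOf (G ⧸ Z) G :=
    ⟨⊤, (QuotientGroup.mk' Z).comp (⊤ : Subgroup G).subtype, fun y => by
      obtain ⟨x, rfl⟩ := QuotientGroup.mk'_surjective Z y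
      exact ⟨⟨x, trivial⟩, rfl⟩⟩
  obtain ⟨K, L, hL, e⟩ := Cfsg.Agent.Lib.Helper9.involves_of_isSectionOf (h1.trans h2)
  exact ⟨K, L, hL, le_top, e⟩

end Cfsg.Agent.S0657
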