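import Cfsg.Statements.S0661
import Mathlib
import Cfsg.Agent.Lib.Helper3.PComp8
import Cfsg.Agent.Lib.Helper3.CharP2

set_option autoImplicit false
open Cfsg

namespace Cfsg.Agent.S0661

/-- If, modulo the largest normal subgroup of order prime to p, the largest normal p-subgroup contains its centralizer, then for every p-subgroup P the p'-core of N_G(P) is just O_p'(G) ∩ N_G(P). -/
theorem result {G : Type*} [Group G] [Finite G] {p : ℕ} [Fact p.Prime] (hc : Subgroup.centralizer (Cfsg.pCore p (G ⧸ Cfsg.pPrimeCore p G) : Set (G ⧸ Cfsg.pPrimeCore p G)) ≤ Cfsg.pCore p (G ⧸ Cfsg.pPrimeCore p G)) (P : Subgroup G) (hP : IsPGroup p P) : (Cfsg.pPrimeCore p ↥(Subgroup.normalizer (P : Set G))).map (Subgroup.normalizer (P : Set G)).subtype = Cfsg.pPrimeCore p G ⊓ Subgroup.normalizer (P : Set G) := by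
  classical
  haveI hQn : (Cfsg.pCore p (G ⧸ Cfsg.pPrimeCore p G)).Normal := Cfsg.Agent.Lib.Lead.pCore_normal p
  have hN := Cfsg.Agent.Lib.Helper3.generalizedFittingSubgroup_normalizer_eq_pCore
    (Q := Cfsg.pCore p (G ⧸ Cfsg.pPrimeCore p G)) (Cfsg.Agent.Lib.Lead.pCore_isPGroup p) hc
    (P := P.map (QuotientGroup.mk' (Cfsg.pPrimeCore p G))) (hP.map _)
  rw [← Cfsg.Agent.Lib.Helper3.normalizer_map_mk'_eq _ (Cfsg.Agent.Lib.Helper6.pPrimeCore_coprime p) hP] at hN
  have h1 := Cfsg.Agent.Lib.Helper3.pPrimeCore_eq_bot_of_generalizedFittingSubgroup_eq_pCore hN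
  have hφ := (QuotientGroup.mk' (Cfsg.pPrimeCore p G)).subgroupMap_surjective (Subgroup.normalizer (P : Set G))
  have hker : ((QuotientGroup.mk' (Cfsg.pPrimeCore p G)).subgroupMap (Subgroup.normalizer (P : Set G))).ker =
      (Cfsg.pPrimeCore p G).subgroupOf (Subgroup.normalizer (P : Set G)) := by
    ext x
    rw [MonoidHom.mem_ker, Subgroup.mem_subgroupOf]
    constructor
    · intro h
      have := congrArg Subtype.val h
      exact (QuotientGroup.eq_one_iff _).mp this
    · intro h
      apply Subtype.ext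
      exact (QuotientGroup.eq_one_iff _).mpr h
  have hkc : (Nat.card ((QuotientGroup.mk' (Cfsg.pPrimeCore p G)).subgroupMap (Subgroup.normalizer (P : Set G))).ker).Coprime p := by
    rw [hker, ← Subgroup.inf_subgroupOf_right,
      Nat.card_congr (Subgroup.subgroupOfEquivOfLe inf_le_right).toEquiv]
    exact Nat.Coprime.coprime_dvd_left (Subgroup.card_dvd_of_le inf_le_left)
      (Cfsg.Agent.Lib.Helper6.pPrimeCore_coprime p)
  rw [Cfsg.Agent.Lib.Helper3.pPrimeCore_eq_ker_of_surjective _ hφ hkc h1, hker, Subgroup.subgroupOf_map_subtype]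

end Cfsg.Agent.S0661
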