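import Cfsg.Statements.S0663
import Mathlib
import Cfsg.Agent.Lib.Lead.Uniserial2

set_option autoImplicit false
open Cfsg

namespace Cfsg.Agent.S0663

/-- A p-group acts uniserially on a p-group N of order p^n exactly when the iterated commutator chain from N has length n; in that case the chain terms are all the invariant subgroups of N and they are normal in N. -/
theorem result {L : Type*} [Group L] [Finite L] {p : ℕ} [Fact p.Prime] (N G : Subgroup L) (hN : IsPGroup p N) (hG : IsPGroup p G) (hGN : G ≤ Subgroup.normalizer (N : Set L)) (n : ℕ) (hn : Nat.card N = p ^ n) : ((∀ H : Subgroup L, H ≤ N → G ≤ Subgroup.normalizer (H : Set L) → H ≠ ⊥ → (⁅H, G⁆).relIndex H = p) ↔ Cfsg.iterCommutator N G (n - 1) ≠ ⊥ ∨ n = 0) ∧ ((∀ H : Subgroup L, H ≤ N → G ≤ Subgroup.normalizer (H : Set L) → H ≠ ⊥ → (⁅H, G⁆).relIndex H = p) → ∀ H : Subgroup L, H ≤ N → G ≤ Subgroup.normalizer (H : Set L) → (∃ i ≤ n, H = Cfsg.iterCommutator N G i) ∧ N ≤ Subgroup.normalizer (H : Set L)) := by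
  classical
  have hpr : p.Prime := Fact.out
  have hp1 : 1 < p := hpr.one_lt
  have hrel : ∀ A B : Subgroup L, A ≤ B → Nat.card A * A.relIndex B = Nat.card B := by
    intro A B hAB
    have := Subgroup.card_mul_index (A.subgroupOf B)
    rwa [Cfsg.Agent.Lib.Lead.card_subgroupOf_of_le hAB] at this
  have fwd : (∀ H : Subgroup L, H ≤ N → G ≤ Subgroup.normalizer (H : Set L) → H ≠ ⊥ →
      (⁅H, G⁆).relIndex H = p) → (Cfsg.iterCommutator N G (n - 1) ≠ ⊥ ∨ n = 0) := by
    intro U
    by_cases h0 : n = 0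
    · exact Or.inr h0
    left
    have key : ∀ i ≤ n, Nat.card (Cfsg.iterCommutator N G i) = p ^ (n - i) := by
      intro i
      induction i with
      | zero => intro _; simpa [Cfsg.Agent.Lib.Lead.Uniserial.iter_zero] using hn
      | succ i ih =>
        intro hi
        have h1 := ih (by omega)
        have hne : Cfsg.iterCommutator N G i ≠ ⊥ := by
          intro h
          rw [h, Subgroup.card_bot] at h1
          have : 1 < p ^ (n - i) := Nat.one_lt_pow (by omega) hp1
          omega
        have h2 : (Cfsg.iterCommutator N G (i + 1)).relIndex (Cfsg.iterCommutator N G i) = p :=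
          U _ (Cfsg.Agent.Lib.Lead.Uniserial.iter_le N G hGN i)
            (Cfsg.Agent.Lib.Lead.Uniserial.iter_normalized N G hGN i) hne
        have h3 := hrel _ _ (Cfsg.Agent.Lib.Lead.Uniserial.iter_succ_le N G hGN i)
        rw [h2, h1] at h3
        have h4 : n - i = (n - (i + 1)) + 1 := by omega
        rw [h4, pow_succ] at h3
        exact Nat.eq_of_mul_eq_mul_right hpr.pos h3
    intro h
    have h1 := key (n - 1) (by omega)
    rw [h, Subgroup.card_bot] at h1
    have : 1 < p ^ (n - (n - 1)) := Nat.one_lt_pow (by omega) hp1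
    omega
  have bwd := Cfsg.Agent.Lib.Lead.Uniserial.invariant_eq_iter G hG n N hN hGN hn
  refine ⟨⟨fwd, ?_⟩, fun U => bwd (fwd U)⟩
  intro hlen H hHN hGH hH1
  obtain ⟨⟨i, hi, rfl⟩, _⟩ := bwd hlen H hHN hGH
  have hcard := Cfsg.Agent.Lib.Lead.Uniserial.card_iter N G hN hG hGN n hn hlen
  have hin : i ≠ n := by
    rintro rfl
    have := hcard i le_rfl
    rw [Nat.sub_self, pow_zero] at this
    exact hH1 (Subgroup.card_eq_one.mp this)
  have h3 := hrel _ _ (Cfsg.Agent.Lib.Lead.Uniserial.iter_succ_le N G hGN i)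
  rw [hcard i hi, hcard (i + 1) (by omega)] at h3
  have h4 : n - i = (n - (i + 1)) + 1 := by omega
  rw [h4, pow_succ] at h3
  exact Nat.eq_of_mul_eq_mul_left (pow_pos hpr.pos _) h3

end Cfsg.Agent.S0663
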