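import Cfsg.Statements.S0668
import Mathlib

set_option autoImplicit false
open Cfsg

namespace Cfsg.Agent.S0668

/-- The equivariant linear maps between the permutation modules of two finite `G`-sets form a space whose dimension is the number of `G`-orbits on the product of the two sets. -/
theorem result {G : Type*} [Group G] {K : Type*} [Field K] {Ω₁ Ω₂ : Type*} [Fintype Ω₁] [Fintype Ω₂] [MulAction G Ω₁] [MulAction G Ω₂] : Module.finrank K ((Cfsg.permRep K G Ω₁).linHom (Cfsg.permRep K G Ω₂)).invariants = Nat.card (MulAction.orbitRel.Quotient G (Ω₁ × Ω₂)) := by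
  classical
  haveI : Finite (MulAction.orbitRel.Quotient G (Ω₁ × Ω₂)) := Quotient.finite _
  letI : Fintype (MulAction.orbitRel.Quotient G (Ω₁ × Ω₂)) := Fintype.ofFinite _
  -- the linear map attached to a function on orbits
  let Ψ : (MulAction.orbitRel.Quotient G (Ω₁ × Ω₂) → K) →ₗ[K] ((Ω₁ → K) →ₗ[K] (Ω₂ → K)) :=
    { toFun := fun c =>
        { toFun := fun f y => ∑ x, c (Quotient.mk'' (x, y)) * f x
          map_add' := by
            intro f₁ f₂
            funext y
            simp only [Pi.add_apply, mul_add, Finset.sum_add_distrib]
          map_smul' := by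
            intro r f
            funext y
            simp only [Pi.smul_apply, smul_eq_mul, RingHom.id_apply, Finset.mul_sum]
            apply Finset.sum_congr rfl
            intro x _
            ring }
      map_add' := by
        intro c₁ c₂
        apply LinearMap.ext
        intro f
        funext y
        simp only [LinearMap.coe_mk, AddHom.coe_mk, Pi.add_apply, LinearMap.add_apply, add_mul,
          Finset.sum_add_distrib]
      map_smul' := by
        intro r c
        apply LinearMap.ext
        intro f
        funext y
        simp only [LinearMap.coe_mk, AddHom.coe_mk, Pi.smul_apply, LinearMap.smul_apply,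
          smul_eq_mul, RingHom.id_apply, Finset.mul_sum]
        apply Finset.sum_congr rfl
        intro x _
        ring }
  have hΨapp : ∀ c f y, Ψ c f y = ∑ x, c (Quotient.mk'' (x, y)) * f x := fun _ _ _ => rfl
  have hΨsingle : ∀ c x y, Ψ c (Pi.single x 1) y = c (Quotient.mk'' (x, y)) := by
    intro c x y
    rw [hΨapp]
    rw [Finset.sum_eq_single x]
    · rw [Pi.single_eq_same, mul_one]
    · intro x' _ hx'
      rw [Pi.single_eq_of_ne hx', mul_zero]
    · intro h
      exact absurd (Finset.mem_univ x) h
  have hinj : Function.Injective Ψ := by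
    intro c₁ c₂ h
    funext q
    refine Quotient.inductionOn' q ?_
    rintro ⟨x, y⟩
    have := hΨsingle c₁ x y
    rw [h, hΨsingle] at this
    exact this.symm
  have hmk : ∀ (g : G) (x : Ω₁) (y : Ω₂),
      (Quotient.mk'' (g • x, g • y) : MulAction.orbitRel.Quotient G (Ω₁ × Ω₂)) =
        Quotient.mk'' (x, y) := by
    intro g x y
    rw [Quotient.eq'']
    change (g • x, g • y) ∈ MulAction.orbit G (x, y)
    exact ⟨g, rfl⟩
  have hrange : LinearMap.range Ψ =
      ((Cfsg.permRep K G Ω₁).linHom (Cfsg.permRep K G Ω₂)).invariants := by
    apply le_antisymm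
    · rintro _ ⟨c, rfl⟩
      rw [Representation.mem_invariants]
      intro g
      apply LinearMap.ext
      intro f
      funext y
      rw [Representation.linHom_apply]
      change Ψ c (fun x => f ((g⁻¹)⁻¹ • x)) (g⁻¹ • y) = Ψ c f y
      rw [hΨapp, hΨapp, inv_inv]
      apply Fintype.sum_equiv (MulAction.toPerm g)
      intro x
      change c (Quotient.mk'' (x, g⁻¹ • y)) * f (g • x) = c (Quotient.mk'' (g • x, y)) * f (g • x)
      congr 2
      have := hmk g x (g⁻¹ • y)
      rw [smul_inv_smul] at this
      exact this.symm
    · intro L hL
      rw [Representation.mem_invariants] at hL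
      have hLg : ∀ (g : G) (x : Ω₁) (y : Ω₂),
          L (Pi.single (g • x) 1) (g • y) = L (Pi.single x 1) y := by
        intro g x y
        have h1 := hL g
        rw [Representation.linHom_apply] at h1
        have h2 := congrFun (LinearMap.congr_fun h1 (Pi.single (g • x) 1)) (g • y)
        rw [← h2]
        change L (fun z => (Pi.single (g • x) 1 : Ω₁ → K) ((g⁻¹)⁻¹ • z)) (g⁻¹ • (g • y)) = _
        rw [inv_inv, inv_smul_smul]
        have e0 : (fun z => (Pi.single (g • x) 1 : Ω₁ → K) (g • z)) = Pi.single x 1 := by
          funext z
          rw [Pi.single_apply, Pi.single_apply]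
          by_cases hz : z = x
          · rw [if_pos hz, if_pos (by rw [hz])]
          · rw [if_neg hz, if_neg (fun h => hz (MulAction.injective g h))]
        rw [e0]
      let c : MulAction.orbitRel.Quotient G (Ω₁ × Ω₂) → K :=
        Quotient.lift (fun xy : Ω₁ × Ω₂ => L (Pi.single xy.1 1) xy.2) (by
          rintro ⟨x, y⟩ ⟨x', y'⟩ h
          change (x, y) ∈ MulAction.orbit G (x', y') at h
          obtain ⟨g, hg⟩ := h
          change (g • x', g • y') = (x, y) at hg
          rw [Prod.mk.injEq] at hg
          change L (Pi.single x 1) y = L (Pi.single x' 1) y'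
          rw [← hg.1, ← hg.2, hLg])
      refine ⟨c, ?_⟩
      apply LinearMap.pi_ext'
      intro x
      apply LinearMap.ext
      intro r
      funext y
      simp only [LinearMap.coe_comp, Function.comp_apply, LinearMap.coe_single]
      have e : (Pi.single x r : Ω₁ → K) = r • Pi.single x 1 := by
        funext z
        simp [Pi.single_apply]
      rw [e, map_smul, map_smul, Pi.smul_apply, Pi.smul_apply, hΨsingle]
      rfl
  rw [← hrange, LinearMap.finrank_range_of_inj hinj, Module.finrank_fintype_fun_eq_card,
    Nat.card_eq_fintype_card]

end Cfsg.Agent.S0668
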