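import Cfsg.Statements.S0677
import Mathlib
import Cfsg.Agent.Lib.Helper2.PrimeDeg4
import Cfsg.Agent.Lib.Helper2.PrimeDeg5
import Cfsg.Agent.S0675

set_option autoImplicit false
open Cfsg

namespace Cfsg.Agent.S0677

/-- In a transitive permutation group of prime degree `p` whose Sylow `p`-normaliser has even order, the point stabilisers are the only subgroups of index `p`. -/
theorem result {α : Type*} [Fintype α] [DecidableEq α] {p : ℕ} [Fact p.Prime] (hα : Fintype.card α = p) (G : Subgroup (Equiv.Perm α)) [MulAction.IsPretransitive G α] (P : Sylow p G) (heven : Even (Nat.card (Subgroup.normalizer ((P : Subgroup G) : Set G)))) (H : Subgroup G) (hH : H.index = p) : ∃ a : α, H = MulAction.stabilizer G a := by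
  classical
  have hp : p.Prime := Fact.out
  by_cases hp2 : p = 2
  · -- the group has order two
    have hne : Nonempty α := by
      rw [← Fintype.card_pos_iff, hα]
      exact hp.pos
    obtain ⟨a⟩ := hne
    refine ⟨a, Cfsg.Agent.Lib.Helper2.PrimeDeg.eq_stabilizer_of_le G hα H hH a ?_⟩
    have h1 : Nat.card G ∣ Nat.card (Equiv.Perm α) := Subgroup.card_subgroup_dvd_card G
    rw [Nat.card_eq_fintype_card (α := Equiv.Perm α), Fintype.card_perm, hα, hp2] at h1
    have h2 := Subgroup.card_mul_index H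
    rw [hH, hp2] at h2
    rw [← h2] at h1
    have h3 : Nat.card H = 1 := by
      have h4 : Nat.card H * 2 ∣ 1 * 2 := by simpa using h1
      have h5 := Nat.dvd_of_mul_dvd_mul_right (by norm_num) h4
      exact Nat.dvd_one.mp h5
    rw [Subgroup.card_eq_one.mp h3]
    exact bot_le
  · obtain ⟨σ, t, e, hσG, htG, htt, hσe, hte⟩ :=
      Cfsg.Agent.Lib.Helper2.PrimeDeg.exists_inverting hα hp2 G P heven
    have ht1 : t ≠ 1 := by
      intro h1
      have h2 : t (e 1) = e 1 := by rw [h1]; rfl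
      rw [hte] at h2
      have h3 : (-1 : ZMod p) = 1 := e.injective h2
      have h4 : (2 : ZMod p) = 0 := by
        have : (1 : ZMod p) + 1 = 0 := by
          nth_rewrite 1 [← h3]
          exact neg_add_cancel 1
        rw [← this]
        norm_num
      have h5 : ((2 : ℕ) : ZMod p) = 0 := by exact_mod_cast h4
      rw [ZMod.natCast_eq_zero_iff] at h5
      have := Nat.le_of_dvd (by norm_num) h5
      have := hp.two_le
      omega
    obtain ⟨g₀, hg₀⟩ := Cfsg.Agent.Lib.Helper2.PrimeDeg.exists_conj_mem G hp2 H hH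
      (⟨t, htG⟩ : G) (Subtype.ext htt)
    apply Cfsg.Agent.Lib.Helper2.PrimeDeg.of_conj G H g₀
    have hH' : (H.map (MulAut.conj g₀).toMonoidHom).index = p := by
      rw [← hH]
      exact Subgroup.index_map_equiv H (MulAut.conj g₀)
    have htH' : (⟨t, htG⟩ : G) ∈ H.map (MulAut.conj g₀).toMonoidHom := by
      refine ⟨g₀⁻¹ * (⟨t, htG⟩ : G) * g₀, hg₀, ?_⟩
      show g₀ * (g₀⁻¹ * (⟨t, htG⟩ : G) * g₀) * g₀⁻¹ = _
      group
    rcases Cfsg.Agent.S0675.result (hα ▸ hp) G with hsolv | h2t
    · obtain ⟨a, ha⟩ := Cfsg.Agent.Lib.Helper2.PrimeDeg.solvable_case hα hp2 G hsolv htG htt ht1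
        _ hH' htH'
      exact ⟨a, Cfsg.Agent.Lib.Helper2.PrimeDeg.eq_stabilizer_of_le G hα _ hH' a ha⟩
    · exact ⟨e 0, Cfsg.Agent.Lib.Helper2.PrimeDeg.eq_stabilizer_of_le G hα _ hH' (e 0)
        (Cfsg.Agent.Lib.Helper2.PrimeDeg.two_trans_case hα hp2 G h2t hσG htG hσe hte _ hH' htH')⟩

end Cfsg.Agent.S0677
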