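import Cfsg.Statements.S0680
import Mathlib
import Cfsg.Agent.Lib.Helper2.SharpTwo4

set_option autoImplicit false
open Cfsg

namespace Cfsg.Agent.S0680

/-- A finite sharply doubly transitive permutation group has degree a prime power `p ^ j`; a Sylow `p`-subgroup is normal, elementary abelian and regular, and consists of the identity together with the elements without fixed points. (Frobenius' Theorem is not needed.) -/
theorem result {α : Type*} [Fintype α] [DecidableEq α] (G : Subgroup (Equiv.Perm α)) [MulAction.IsMultiplyPretransitive G α 2] (hsharp : ∀ x : Fin 2 ↪ α, MulAction.stabilizer G x = ⊥) (h2 : 2 ≤ Fintype.card α) : ∃ p j : ℕ, p.Prime ∧ 1 ≤ j ∧ Fintype.card α = p ^ j ∧ ∀ (hp : Fact p.Prime) (P : Sylow p G), (P : Subgroup G).Normal ∧ IsMulCommutative (P : Subgroup G) ∧ (∀ x ∈ (P : Subgroup G), x ^ p = 1) ∧ MulAction.IsPretransitive (P : Subgroup G) α ∧ (∀ a : α, MulAction.stabilizer (P : Subgroup G) a = ⊥) ∧ ∀ g : G, g ∈ (P : Subgroup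 G) ↔ g = 1 ∨ ∀ a : α, g • a ≠ a := by
  classical
  obtain ⟨p, j, N, hp, hj1, hcard, hnormal, hNcard, hcomm, hexp, hNmem, htrans⟩ :=
    Cfsg.Agent.Lib.Helper2.SharpTwo.exists_regular_normal (Γ := ↥G) (α := α) hsharp h2
  refine ⟨p, j, hp, hj1, hcard, ?_⟩
  intro hpf P
  haveI := hnormal
  have hNp : IsPGroup p ↥N := by
    intro y
    refine ⟨1, ?_⟩
    apply Subtype.ext
    rw [pow_one, Subgroup.coe_pow, Subgroup.coe_one]
    exact hexp y y.2
  have hle : N ≤ (P : Subgroup ↥G) := hNp.le_sylow_of_normal P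
  have hGcard : Nat.card ↥G = p ^ j * (p ^ j - 1) := by
    rw [← hcard]
    exact Cfsg.Agent.Lib.Helper2.SharpTwo.card_eq (Γ := ↥G) (α := α) hsharp h2
  have hPN : (P : Subgroup ↥G) = N := by
    symm
    apply Subgroup.eq_of_le_of_card_ge hle
    obtain ⟨k, hk⟩ := P.isPGroup'.exists_card_eq
    have hdvd : Nat.card ↥(P : Subgroup ↥G) ∣ Nat.card ↥G := Subgroup.card_subgroup_dvd_card _
    rw [hk, hGcard] at hdvd
    have hcop : Nat.Coprime (p ^ k) (p ^ j - 1) := by
      apply Nat.Coprime.pow_left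
      rw [hp.coprime_iff_not_dvd]
      intro hd
      have h1 : p ∣ p ^ j := dvd_pow_self p (by omega)
      have h2' : 1 ≤ p ^ j := Nat.one_le_pow _ _ hp.pos
      have h3 : p ∣ p ^ j - (p ^ j - 1) := Nat.dvd_sub h1 hd
      have h4 : p ^ j - (p ^ j - 1) = 1 := by omega
      rw [h4] at h3
      exact hp.one_lt.ne' (Nat.dvd_one.mp h3)
    have hdvd2 : p ^ k ∣ p ^ j := hcop.dvd_of_dvd_mul_right hdvd
    rw [hk, hNcard]
    exact Nat.le_of_dvd (pow_pos hp.pos _) hdvd2
  have hmem : ∀ g : ↥G, g ∈ (P : Subgroup ↥G) ↔ g ∈ N := fun g => by rw [hPN]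
  refine ⟨?_, ?_, ?_, ?_, ?_, ?_⟩
  · rw [hPN]; exact hnormal
  · exact ⟨⟨fun a b => Subtype.ext (hcomm a ((hmem _).mp a.2) b ((hmem _).mp b.2))⟩⟩
  · intro x hx
    exact hexp x ((hmem x).mp hx)
  · constructor
    intro a b
    obtain ⟨g, hg, hgab⟩ := htrans a b
    exact ⟨⟨g, (hmem g).mpr hg⟩, hgab⟩
  · intro a
    rw [Subgroup.eq_bot_iff_forall]
    intro c hc
    rw [MulAction.mem_stabilizer_iff] at hc
    have hcN : (c : ↥G) ∈ N := (hmem _).mp c.2
    rcases (hNmem _).mp hcN with h | h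
    · exact Subtype.ext h
    · exact absurd hc (h a)
  · intro g
    rw [hmem, hNmem]
    rfl

end Cfsg.Agent.S0680
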