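import Cfsg.Statements.S0682
import Mathlib


set_option autoImplicit false
open Cfsg

namespace Cfsg.Agent.S0682


theorem nf_zero_mul {F : Type*} [Cfsg.NearField F] (c : F) : (0 : F) * c = 0 := by
  have h := Cfsg.NearField.right_distrib (0 : F) 0 c
  rw [add_zero] at h
  have h2 : (0 : F) * c + 0 = 0 * c + 0 * c := by rw [add_zero]; exact h
  exact (add_left_cancel h2).symm

/-- right multiplication as an additive hom -/
def nfMulRight {F : Type*} [Cfsg.NearField F] (c : F) : F →+ F :=
  AddMonoidHom.mk' (fun x => x * c) (fun a b => Cfsg.NearField.right_distrib a b c)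

theorem nf_exists_mul_eq {F : Type*} [Cfsg.NearField F] {x : F} (hx : x ≠ 0) (y : F) :
    ∃ c : F, x * c = y := by
  obtain ⟨b, hb1, _⟩ := Cfsg.NearField.exists_inv x hx
  exact ⟨b * y, by rw [← mul_assoc, hb1, one_mul]⟩

theorem nf_addOrderOf_dvd {F : Type*} [Cfsg.NearField F] {x : F} (hx : x ≠ 0) (y : F) :
    addOrderOf y ∣ addOrderOf x := by
  obtain ⟨c, rfl⟩ := nf_exists_mul_eq hx y
  apply addOrderOf_dvd_of_nsmul_eq_zero
  have h := map_nsmul (nfMulRight c) (addOrderOf x) x
  have h1 : (nfMulRight c) x = x * c := rfl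
  have h2 : (nfMulRight c) (addOrderOf x • x) = (addOrderOf x • x) * c := rfl
  rw [h1, h2, addOrderOf_nsmul_eq_zero, nf_zero_mul] at h
  exact h.symm

/-- A finite near-field has prime-power order; its additive group is commutative of prime exponent. -/
theorem result {F : Type*} [Cfsg.NearField F] [Finite F] : ∃ p j : ℕ, p.Prime ∧ 1 ≤ j ∧ Nat.card F = p ^ j ∧ (∀ x y : F, x + y = y + x) ∧ ∀ x : F, p • x = 0 := by
  have h01 : (0 : F) ≠ 1 := Cfsg.NearField.zero_ne_one
  haveI : Nontrivial F := ⟨⟨0, 1, h01⟩⟩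
  have hcard : 1 < Nat.card F := Finite.one_lt_card
  obtain ⟨p, hp, hpd⟩ := Nat.exists_prime_and_dvd (ne_of_gt hcard)
  haveI : Fact p.Prime := ⟨hp⟩
  obtain ⟨x0, hx0⟩ := exists_prime_addOrderOf_dvd_card' (G := F) p hpd
  have hx0ne : x0 ≠ 0 := by
    intro h
    rw [h, addOrderOf_zero] at hx0
    exact hp.one_lt.ne hx0
  have hpx : ∀ x : F, p • x = 0 := by
    intro x
    have := nf_addOrderOf_dvd hx0ne x
    rw [hx0] at this
    exact addOrderOf_dvd_iff_nsmul_eq_zero.mp this
  have hprimes : ∀ {d : ℕ}, d.Prime → d ∣ Nat.card F → d = p := by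
    intro d hd hdd
    haveI : Fact d.Prime := ⟨hd⟩
    obtain ⟨y, hy⟩ := exists_prime_addOrderOf_dvd_card' (G := F) d hdd
    have h1 : addOrderOf y ∣ p := addOrderOf_dvd_iff_nsmul_eq_zero.mpr (hpx y)
    rw [hy] at h1
    exact (Nat.prime_dvd_prime_iff_eq hd hp).mp h1
  have hpow := Nat.eq_prime_pow_of_unique_prime_dvd (Nat.pos_of_ne_zero (by omega)).ne' hprimes
  set j := (Nat.card F).primeFactorsList.length with hj
  have hj1 : 1 ≤ j := by
    by_contra hlt
    have : j = 0 := by omega
    rw [this, pow_zero] at hpow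
    omega
  refine ⟨p, j, hp, hj1, hpow, ?_, hpx⟩
  -- commutativity
  have hPG : IsPGroup p (Multiplicative F) := by
    apply IsPGroup.of_card (n := j)
    rw [← hpow]; rfl
  haveI : Nontrivial (Multiplicative F) := ⟨⟨Multiplicative.ofAdd 0, Multiplicative.ofAdd 1,
    fun h => h01 (Multiplicative.ofAdd.injective h)⟩⟩
  haveI : Finite (Multiplicative F) := inferInstanceAs (Finite F)
  obtain ⟨⟨z, hz⟩, ⟨z', hz'⟩, hne⟩ := hPG.center_nontrivial
  -- obtain a nontrivial central element
  have hex : ∃ w : F, w ≠ 0 ∧ ∀ y : F, w + y = y + w := by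
    have key : ∀ u : Multiplicative F, u ∈ Subgroup.center (Multiplicative F) → u ≠ 1 →
        ∃ w : F, w ≠ 0 ∧ ∀ y : F, w + y = y + w := by
      intro u hu hu1
      refine ⟨Multiplicative.toAdd u, fun h => hu1 ?_, fun y => ?_⟩
      · exact Multiplicative.toAdd.injective h
      · have := (Subgroup.mem_center_iff.mp hu) (Multiplicative.ofAdd y)
        exact (congrArg Multiplicative.toAdd this).symm
    by_cases h1 : z = 1
    · have h2 : z' ≠ 1 := by
        intro h2
        apply hne
        apply Subtype.ext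
        show z = z'
        rw [h1, h2]
      exact key z' hz' h2
    · exact key z hz h1
  obtain ⟨w, hw0, hwc⟩ := hex
  intro y v
  by_cases hy : y = 0
  · rw [hy, zero_add, add_zero]
  · obtain ⟨c, rfl⟩ := nf_exists_mul_eq hw0 y
    have hc0 : c ≠ 0 := by
      intro h
      apply hy
      rw [h]; exact Cfsg.NearField.mul_zero w
    obtain ⟨c', _, hc'⟩ := Cfsg.NearField.exists_inv c hc0
    have hv : v = (v * c') * c := by rw [mul_assoc, hc', mul_one]
    rw [hv, ← Cfsg.NearField.right_distrib, ← Cfsg.NearField.right_distrib, hwc]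

end Cfsg.Agent.S0682
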