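import Cfsg.Statements.S0681
import Mathlib
import Cfsg.Agent.S0682

set_option autoImplicit false
open Cfsg

namespace Cfsg.Agent.S0681


open Cfsg.Agent.S0682

theorem nf_neg_mul {F : Type*} [Cfsg.NearField F] (x c : F) : (-x) * c = -(x * c) :=
  map_neg (nfMulRight c) x

theorem nf_sub_mul {F : Type*} [Cfsg.NearField F] (x y c : F) :
    (x + -y) * c = x * c + -(y * c) := by
  rw [Cfsg.NearField.right_distrib, nf_neg_mul]

theorem nf_mul_ne_zero {F : Type*} [Cfsg.NearField F] {a b : F} (ha : a ≠ 0) (hb : b ≠ 0) :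
    a * b ≠ 0 := by
  intro h
  obtain ⟨a', _, h2⟩ := Cfsg.NearField.exists_inv a ha
  apply hb
  calc b = (a' * a) * b := by rw [h2, one_mul]
    _ = a' * (a * b) := mul_assoc _ _ _
    _ = 0 := by rw [h, Cfsg.NearField.mul_zero]

theorem nf_one_ne_zero {F : Type*} [Cfsg.NearField F] : (1 : F) ≠ 0 :=
  fun h => Cfsg.NearField.zero_ne_one h.symm

theorem nf_inv_ne_zero {F : Type*} [Cfsg.NearField F] {a a' : F} (h : a * a' = 1) : a' ≠ 0 := by
  intro h0
  rw [h0, Cfsg.NearField.mul_zero] at h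
  exact Cfsg.NearField.zero_ne_one h

/-- the affine map `x ↦ x * a + b` -/
def nfAff {F : Type*} [Cfsg.NearField F] (a a' b : F) (h1 : a * a' = 1) (h2 : a' * a = 1) :
    Equiv.Perm F where
  toFun x := x * a + b
  invFun y := (y + -b) * a'
  left_inv x := by
    show (x * a + b + -b) * a' = x
    rw [add_neg_cancel_right, mul_assoc, h1, mul_one]
  right_inv y := by
    show (y + -b) * a' * a + b = y
    rw [mul_assoc, h2, mul_one, neg_add_cancel_right]

/-- the group of affine maps of a near-field -/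
def nfAffGroup (F : Type*) [Cfsg.NearField F] : Subgroup (Equiv.Perm F) where
  carrier := {σ | ∃ a b : F, a ≠ 0 ∧ ∀ x, σ x = x * a + b}
  one_mem' := ⟨1, 0, nf_one_ne_zero, fun x => by simp⟩
  mul_mem' := by
    rintro σ τ ⟨a, b, ha, hσ⟩ ⟨c, d, hc, hτ⟩
    refine ⟨c * a, d * a + b, nf_mul_ne_zero hc ha, fun x => ?_⟩
    rw [Equiv.Perm.mul_apply, hτ, hσ, Cfsg.NearField.right_distrib, mul_assoc, add_assoc]
  inv_mem' := by
    rintro σ ⟨a, b, ha, hσ⟩
    obtain ⟨a', h1, h2⟩ := Cfsg.NearField.exists_inv a ha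
    refine ⟨a', (-b) * a', nf_inv_ne_zero h1, fun x => ?_⟩
    apply σ.injective
    rw [Equiv.Perm.inv_def, Equiv.apply_symm_apply, hσ, ← Cfsg.NearField.right_distrib, mul_assoc, h2, mul_one,
      neg_add_cancel_right]

/-- The affine maps `x ↦ x * a + b`, `a ≠ 0`, of a near-field form a sharply doubly transitive permutation group. -/
theorem result {F : Type*} [Cfsg.NearField F] : ∃ H : Subgroup (Equiv.Perm F), (∀ σ : Equiv.Perm F, σ ∈ H ↔ ∃ a b : F, a ≠ 0 ∧ ∀ x : F, σ x = x * a + b) ∧ MulAction.IsMultiplyPretransitive H F 2 ∧ ∀ x : Fin 2 ↪ F, MulAction.stabilizer H x = ⊥ := by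
  refine ⟨nfAffGroup F, fun σ => Iff.rfl, ?_, ?_⟩
  · rw [MulAction.is_two_pretransitive_iff]
    intro x1 x2 y1 y2 hx hy
    have hdx : x1 + -x2 ≠ 0 := fun h => hx (add_neg_eq_zero.mp h)
    have hdy : y1 + -y2 ≠ 0 := fun h => hy (add_neg_eq_zero.mp h)
    obtain ⟨u, hu1, hu2⟩ := Cfsg.NearField.exists_inv _ hdx
    set a := u * (y1 + -y2) with ha
    have ha0 : a ≠ 0 := nf_mul_ne_zero (nf_inv_ne_zero hu1) hdy
    obtain ⟨a', h1, h2⟩ := Cfsg.NearField.exists_inv a ha0
    have hmul : (x1 + -x2) * a = y1 + -y2 := by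
      rw [ha, ← mul_assoc, hu1, one_mul]
    set b := -(x1 * a) + y1 with hb
    have hmem : nfAff a a' b h1 h2 ∈ nfAffGroup F := ⟨a, b, ha0, fun x => rfl⟩
    refine ⟨⟨nfAff a a' b h1 h2, hmem⟩, ?_, ?_⟩
    · show x1 * a + b = y1
      rw [hb, add_neg_cancel_left]
    · show x2 * a + b = y2
      rw [nf_sub_mul] at hmul
      have h3 : x2 * a + -(x1 * a) = y2 + -y1 := by
        have := congrArg Neg.neg hmul
        rw [neg_add_rev, neg_add_rev, neg_neg, neg_neg] at this
        exact this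
      rw [hb, ← add_assoc, h3, neg_add_cancel_right]
  · intro x
    rw [eq_bot_iff]
    rintro ⟨σ, a, b, ha, hσ⟩ hstab
    rw [Subgroup.mem_bot]
    apply Subtype.ext
    show σ = 1
    rw [MulAction.mem_stabilizer_iff] at hstab
    have h0 : σ (x 0) = x 0 := by
      have := congrArg (fun f : Fin 2 ↪ F => f 0) hstab
      exact this
    have h1 : σ (x 1) = x 1 := by
      have := congrArg (fun f : Fin 2 ↪ F => f 1) hstab
      exact this
    have hne : x 0 ≠ x 1 := fun h => by
      have := x.injective h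
      exact absurd this (by decide)
    have hd : x 0 + -x 1 ≠ 0 := fun h => hne (add_neg_eq_zero.mp h)
    rw [hσ] at h0 h1
    have hda : (x 0 + -x 1) * a = x 0 + -x 1 := by
      rw [nf_sub_mul]
      have : x 0 * a + -(x 1 * a) = (x 0 * a + b) + -(x 1 * a + b) := by
        rw [neg_add_rev, add_assoc, add_neg_cancel_left]
      rw [this, h0, h1]
    obtain ⟨d', _, hd2⟩ := Cfsg.NearField.exists_inv _ hd
    have ha1 : a = 1 := by
      calc a = (d' * (x 0 + -x 1)) * a := by rw [hd2, one_mul]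
        _ = d' * ((x 0 + -x 1) * a) := mul_assoc _ _ _
        _ = 1 := by rw [hda, hd2]
    have hb0 : b = 0 := by
      rw [ha1, mul_one] at h0
      exact add_eq_left.mp h0
    apply Equiv.ext
    intro y
    rw [hσ, ha1, hb0, mul_one, add_zero]
    rfl

end Cfsg.Agent.S0681
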