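import Cfsg.Statements.S0683
import Mathlib
import Cfsg.Agent.Lib.Helper2.SharpTwo5

set_option autoImplicit false
open Cfsg

namespace Cfsg.Agent.S0683

/-- A finite sharply doubly transitive permutation group is the affine group of a near-field: the permuted set carries a near-field structure for which the group consists exactly of the maps `x ↦ x * a + b` with `a ≠ 0`. -/
theorem result {α : Type*} [Fintype α] [DecidableEq α] (H : Subgroup (Equiv.Perm α)) [MulAction.IsMultiplyPretransitive H α 2] (hsharp : ∀ x : Fin 2 ↪ α, MulAction.stabilizer H x = ⊥) (h2 : 2 ≤ Fintype.card α) : ∃ _ : Cfsg.NearField α, ∀ σ : Equiv.Perm α, σ ∈ H ↔ ∃ a b : α, a ≠ 0 ∧ ∀ x : α, σ x = x * a + b := by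
  classical
  obtain ⟨D, hdec⟩ := Cfsg.Agent.Lib.Helper2.SharpTwo.exists_nfData (Γ := ↥H) (α := α) hsharp h2
  refine ⟨D.nearField, ?_⟩
  have key : ∀ (a b x : α), a ≠ D.o →
      (letI := D.nearField; x * a + b) = ((D.t b * D.m a : ↥H) : Equiv.Perm α) x := by
    intro a b x ha
    show D.add (D.mul x a) b = _
    rw [D.add_comm', D.mul_ne ha]
    show D.t b • D.m a • x = _
    rw [← mul_smul]
    rfl
  intro σ
  constructor
  · intro hσ
    obtain ⟨a, b, ha, hg⟩ := hdec ⟨σ, hσ⟩
    refine ⟨a, b, ha, fun x => ?_⟩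
    rw [key a b x ha, ← hg]
  · rintro ⟨a, b, ha, hx⟩
    have ha' : a ≠ D.o := ha
    have hσ : σ = ((D.t b * D.m a : ↥H) : Equiv.Perm α) := by
      ext x
      rw [hx x, key a b x ha']
    rw [hσ]
    exact (D.t b * D.m a).2

end Cfsg.Agent.S0683
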