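import Cfsg.Statements.S0691
import Mathlib
import Cfsg.Agent.Lib.Helper2.RegCert3
import Cfsg.Agent.Lib.Helper2.RegCertD5

set_option autoImplicit false
open Cfsg

namespace Cfsg.Agent.S0691

/-- An exceptional sharply doubly transitive group of degree 5^2: the listed matrices generate a subgroup of GL(2,5) of order 24 acting regularly on the non-zero vectors. -/
theorem result (A : Matrix.GeneralLinearGroup (Fin 2) (ZMod 5)) (B : Matrix.GeneralLinearGroup (Fin 2) (ZMod 5)) (C : Matrix.GeneralLinearGroup (Fin 2) (ZMod 5)) (hA : (A : Matrix (Fin 2) (Fin 2) (ZMod 5)) = !![2, 0; 0, -2]) (hB : (B : Matrix (Fin 2) (Fin 2) (ZMod 5)) = !![0, -1; 1, 0]) (hC : (C : Matrix (Fin 2) (Fin 2) (ZMod 5)) = !![1, 2; 1, -2]) : Nat.card (Subgroup.closure ({A, B, C} : Set (Matrix.GeneralLinearGroup (Fin 2) (ZMod 5)))) = 24 ∧ ∀ v w : Fin 2 → ZMod 5, v ≠ 0 → w ≠ 0 → ∃! h : Subgroup.closure ({A, B, C} : Set (Matrix.GeneralLinearGroup (Fin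 2) (ZMod 5))), Matrix.mulVec ((h : Matrix.GeneralLinearGroup (Fin 2) (ZMod 5)) : Matrix (Fin 2) (Fin 2) (ZMod 5)) v = w := by
  haveI : Fact (Nat.Prime 5) := ⟨by norm_num⟩
  have hmA : A.val = Cfsg.Agent.Lib.Helper2.RegCert.matN 5 (2, 0, 0, 3) := by
    show (A : Matrix (Fin 2) (Fin 2) (ZMod 5)) = _
    rw [hA]; unfold Cfsg.Agent.Lib.Helper2.RegCert.matN
    ext i j; fin_cases i <;> fin_cases j <;> decide
  have hmB : B.val = Cfsg.Agent.Lib.Helper2.RegCert.matN 5 (0, 4, 1, 0) := by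
    show (B : Matrix (Fin 2) (Fin 2) (ZMod 5)) = _
    rw [hB]; unfold Cfsg.Agent.Lib.Helper2.RegCert.matN
    ext i j; fin_cases i <;> fin_cases j <;> decide
  have hmC : C.val = Cfsg.Agent.Lib.Helper2.RegCert.matN 5 (1, 2, 1, 3) := by
    show (C : Matrix (Fin 2) (Fin 2) (ZMod 5)) = _
    rw [hC]; unfold Cfsg.Agent.Lib.Helper2.RegCert.matN
    ext i j; fin_cases i <;> fin_cases j <;> decide
  have key := Cfsg.Agent.Lib.Helper2.RegCert.main (p := 5) Cfsg.Agent.Lib.Helper2.RegCert.chk5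
    ({A, B, C} : Set (Matrix.GeneralLinearGroup (Fin 2) (ZMod 5))) ?_ ?_
  · exact key
  · intro g hg
    rcases hg with rfl | rfl | rfl
    · exact ⟨_, by simp [Cfsg.Agent.Lib.Helper2.RegCert.gens5], hmA⟩
    · exact ⟨_, by simp [Cfsg.Agent.Lib.Helper2.RegCert.gens5], hmB⟩
    · exact ⟨_, by simp [Cfsg.Agent.Lib.Helper2.RegCert.gens5], hmC⟩
  · intro m hm
    simp only [Cfsg.Agent.Lib.Helper2.RegCert.gens5, List.mem_cons, List.not_mem_nil, or_false] at hm
    rcases hm with rfl | rfl | rfl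
    · exact ⟨A, by simp, hmA⟩
    · exact ⟨B, by simp, hmB⟩
    · exact ⟨C, by simp, hmC⟩

end Cfsg.Agent.S0691
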