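import Cfsg.Statements.S0692
import Mathlib
import Cfsg.Agent.Lib.Helper2.RegCert3
import Cfsg.Agent.Lib.Helper2.RegCertD11

set_option autoImplicit false
open Cfsg

namespace Cfsg.Agent.S0692

/-- An exceptional sharply doubly transitive group of degree 11^2: the listed matrices generate a subgroup of GL(2,11) of order 120 acting regularly on the non-zero vectors. -/
theorem result (A : Matrix.GeneralLinearGroup (Fin 2) (ZMod 11)) (B : Matrix.GeneralLinearGroup (Fin 2) (ZMod 11)) (hA : (A : Matrix (Fin 2) (Fin 2) (ZMod 11)) = !![0, -1; 1, 0]) (hB : (B : Matrix (Fin 2) (Fin 2) (ZMod 11)) = !![2, 4; 1, -3]) : Nat.card (Subgroup.closure ({A, B} : Set (Matrix.GeneralLinearGroup (Fin 2) (ZMod 11)))) = 120 ∧ ∀ v w : Fin 2 → ZMod 11, v ≠ 0 → w ≠ 0 → ∃! h : Subgroup.closure ({A, B} : Set (Matrix.GeneralLinearGroup (Fin 2) (ZMod 11))), Matrix.mulVec ((h : Matrix.GeneralLinearGroup (Fin 2) (ZMod 11)) : Matrix (Fin 2) (Fin 2) (ZMod 11)) v = w := by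
  haveI : Fact (Nat.Prime 11) := ⟨by norm_num⟩
  have hmA : A.val = Cfsg.Agent.Lib.Helper2.RegCert.matN 11 (0, 10, 1, 0) := by
    show (A : Matrix (Fin 2) (Fin 2) (ZMod 11)) = _
    rw [hA]; unfold Cfsg.Agent.Lib.Helper2.RegCert.matN
    ext i j; fin_cases i <;> fin_cases j <;> decide
  have hmB : B.val = Cfsg.Agent.Lib.Helper2.RegCert.matN 11 (2, 4, 1, 8) := by
    show (B : Matrix (Fin 2) (Fin 2) (ZMod 11)) = _
    rw [hB]; unfold Cfsg.Agent.Lib.Helper2.RegCert.matN
    ext i j; fin_cases i <;> fin_cases j <;> decide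
  have key := Cfsg.Agent.Lib.Helper2.RegCert.main (p := 11) Cfsg.Agent.Lib.Helper2.RegCert.chk11
    ({A, B} : Set (Matrix.GeneralLinearGroup (Fin 2) (ZMod 11))) ?_ ?_
  · exact key
  · intro g hg
    rcases hg with rfl | rfl
    · exact ⟨_, by simp [Cfsg.Agent.Lib.Helper2.RegCert.gens11], hmA⟩
    · exact ⟨_, by simp [Cfsg.Agent.Lib.Helper2.RegCert.gens11], hmB⟩
  · intro m hm
    simp only [Cfsg.Agent.Lib.Helper2.RegCert.gens11, List.mem_cons, List.not_mem_nil, or_false] at hm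
    rcases hm with rfl | rfl
    · exact ⟨A, by simp, hmA⟩
    · exact ⟨B, by simp, hmB⟩

end Cfsg.Agent.S0692
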