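import Cfsg.Statements.S0693
import Mathlib
import Cfsg.Agent.Lib.Helper2.RegCert3
import Cfsg.Agent.Lib.Helper2.RegCertD59

set_option autoImplicit false
open Cfsg

namespace Cfsg.Agent.S0693

/-- An exceptional sharply doubly transitive group of degree 59^2: the listed matrices generate a subgroup of GL(2,59) of order 3480 acting regularly on the non-zero vectors. -/
theorem result (A : Matrix.GeneralLinearGroup (Fin 2) (ZMod 59)) (B : Matrix.GeneralLinearGroup (Fin 2) (ZMod 59)) (C : Matrix.GeneralLinearGroup (Fin 2) (ZMod 59)) (hA : (A : Matrix (Fin 2) (Fin 2) (ZMod 59)) = !![0, -1; 1, 0]) (hB : (B : Matrix (Fin 2) (Fin 2) (ZMod 59)) = !![9, 15; -10, -10]) (hC : (C : Matrix (Fin 2) (Fin 2) (ZMod 59)) = !![4, 0; 0, 4]) : Nat.card (Subgroup.closure ({A, B, C} : Set (Matrix.GeneralLinearGroup (Fin 2) (ZMod 59)))) = 3480 ∧ ∀ v w : Fin 2 → ZMod 59, v ≠ 0 → w ≠ 0 → ∃! h : Subgroup.closure ({A, B, C} : Set (Matrix.GeneralLinearGroup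 (Fin 2) (ZMod 59))), Matrix.mulVec ((h : Matrix.GeneralLinearGroup (Fin 2) (ZMod 59)) : Matrix (Fin 2) (Fin 2) (ZMod 59)) v = w := by
  haveI : Fact (Nat.Prime 59) := ⟨by norm_num⟩
  have hmA : A.val = Cfsg.Agent.Lib.Helper2.RegCert.matN 59 (0, 58, 1, 0) := by
    show (A : Matrix (Fin 2) (Fin 2) (ZMod 59)) = _
    rw [hA]; unfold Cfsg.Agent.Lib.Helper2.RegCert.matN
    ext i j; fin_cases i <;> fin_cases j <;> decide
  have hmB : B.val = Cfsg.Agent.Lib.Helper2.RegCert.matN 59 (9, 15, 49, 49) := by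
    show (B : Matrix (Fin 2) (Fin 2) (ZMod 59)) = _
    rw [hB]; unfold Cfsg.Agent.Lib.Helper2.RegCert.matN
    ext i j; fin_cases i <;> fin_cases j <;> decide
  have hmC : C.val = Cfsg.Agent.Lib.Helper2.RegCert.matN 59 (4, 0, 0, 4) := by
    show (C : Matrix (Fin 2) (Fin 2) (ZMod 59)) = _
    rw [hC]; unfold Cfsg.Agent.Lib.Helper2.RegCert.matN
    ext i j; fin_cases i <;> fin_cases j <;> decide
  have key := Cfsg.Agent.Lib.Helper2.RegCert.main (p := 59) Cfsg.Agent.Lib.Helper2.RegCert.chk59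
    ({A, B, C} : Set (Matrix.GeneralLinearGroup (Fin 2) (ZMod 59))) ?_ ?_
  · exact key
  · intro g hg
    rcases hg with rfl | rfl | rfl
    · exact ⟨_, by simp [Cfsg.Agent.Lib.Helper2.RegCert.gens59], hmA⟩
    · exact ⟨_, by simp [Cfsg.Agent.Lib.Helper2.RegCert.gens59], hmB⟩
    · exact ⟨_, by simp [Cfsg.Agent.Lib.Helper2.RegCert.gens59], hmC⟩
  · intro m hm
    simp only [Cfsg.Agent.Lib.Helper2.RegCert.gens59, List.mem_cons, List.not_mem_nil, or_false] at hm
    rcases hm with rfl | rfl | rfl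
    · exact ⟨A, by simp, hmA⟩
    · exact ⟨B, by simp, hmB⟩
    · exact ⟨C, by simp, hmC⟩

end Cfsg.Agent.S0693
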