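import Cfsg.Statements.S0696
import Mathlib
import Cfsg.Agent.Lib.Lead.PermReg
import Cfsg.Agent.S0695

set_option autoImplicit false
open Cfsg
open Cfsg.Agent.Lib.Lead

namespace Cfsg.Agent.S0696

/-- A triply primitive group of degree at least 3 having a regular normal subgroup has degree 3 or 4. -/
theorem result {G : Type*} [Group G] {X : Type*} [Fintype X] [MulAction G X] (hX : 3 ≤ Fintype.card X) (h3 : MulAction.IsMultiplyPreprimitive G X 3) (N : Subgroup G) [N.Normal] (htrans : MulAction.IsPretransitive N X) (hreg : ∀ x : X, MulAction.stabilizer N x = ⊥) : Fintype.card X = 3 ∨ Fintype.card X = 4 := by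
  classical
  have hcardE : ((3 : ℕ) : ℕ∞) ≤ ENat.card X := by
    rw [ENat.card_eq_coe_fintype_card]
    exact_mod_cast hX
  have h2 : MulAction.IsMultiplyPreprimitive G X 2 :=
    MulAction.isMultiplyPreprimitive_of_le G X h3 (by norm_num) hcardE
  rcases Cfsg.Agent.S0695.result (by omega) h2 N htrans hreg with h | ⟨_, hexp, _⟩
  · exact Or.inl h
  right
  have hne : Nonempty X := by
    rw [← Fintype.card_pos_iff]; omega
  obtain ⟨a⟩ := hne
  -- a second point
  obtain ⟨b, hb⟩ : ∃ b : X, b ≠ a := by
    by_contra hcon
    push Not at hcon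
    have : Fintype.card X ≤ 1 := Fintype.card_le_one_iff.mpr (fun p q => by rw [hcon p, hcon q])
    omega
  obtain ⟨c, hca, hcb⟩ : ∃ c : X, c ≠ a ∧ c ≠ b := by
    by_contra hcon
    push Not at hcon
    have : (Finset.univ : Finset X) ⊆ {a, b} := by
      intro p _
      by_cases hpa : p = a
      · simp [hpa]
      · simp [hcon p hpa]
    have h1 := Finset.card_le_card this
    have h2 : ({a, b} : Finset X).card ≤ 2 := Finset.card_le_two
    rw [Finset.card_univ] at h1
    omega
  obtain ⟨⟨x, hxN⟩, hx⟩ := htrans.exists_smul_eq a b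
  obtain ⟨⟨y, hyN⟩, hy⟩ := htrans.exists_smul_eq a c
  change x • a = b at hx
  change y • a = c at hy
  have hx2 : x * x = 1 := by rw [← pow_two]; exact hexp x hxN
  have hxi : x⁻¹ = x := inv_eq_of_mul_eq_one_left hx2
  have hxyN : x * y ∈ N := N.mul_mem hxN hyN
  have hp : MulAction.IsPreprimitive (fixingSubgroup G ({a, b} : Set X)) (SubMulAction.ofFixingSubgroup G ({a, b} : Set X)) :=
    h3.isPreprimitive_ofFixingSubgroup (by
      rw [Set.encard_pair hb.symm]; rfl)
  have hx1 : x ≠ 1 := by
    rintro rfl
    rw [one_smul] at hx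
    exact hb hx.symm
  have hu : y • a ∉ ({a, b} : Set X) := by
    rw [hy]
    simp [hca, hcb]
  have hv : (x * y) • a ∉ ({a, b} : Set X) := by
    intro h
    simp only [Set.mem_insert_iff, Set.mem_singleton_iff] at h
    rcases h with h | h
    · -- x * y = 1 so y = x
      have h1 := PermReg.smul_inj_of_reg N hreg a hxyN N.one_mem (by rw [h, one_smul])
      have : y = x := by
        have := eq_inv_of_mul_eq_one_right h1
        rw [this, hxi]
      rw [this, hx] at hy
      exact hcb hy.symm
    · have h1 := PermReg.smul_inj_of_reg N hreg a hxyN hxN (by rw [h, hx])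
      have : y = 1 := by
        have := mul_left_cancel (h1.trans (mul_one x).symm)
        exact this
      rw [this, one_smul] at hy
      exact hca hy.symm
  have key := PermReg.pair_block ({a, b} : Set X) hp hu hv (by
    intro g hg hcase
    have hga : g • a = a :=
      (mem_fixingSubgroup_iff G).mp hg a (by simp)
    have hgb : g • b = b :=
      (mem_fixingSubgroup_iff G).mp hg b (by simp)
    have hzN : g * y * g⁻¹ ∈ N := ‹N.Normal›.conj_mem y hyN g
    have hgx : g * x * g⁻¹ = x := by
      apply PermReg.smul_inj_of_reg N hreg a (‹N.Normal›.conj_mem x hxN g) hxN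
      rw [← PermReg.stab_smul_conj a g hga x, hx, hgb]
    have hxzN : x * (g * y * g⁻¹) ∈ N := N.mul_mem hxN hzN
    have e1 : g • (y • a) = (g * y * g⁻¹) • a := PermReg.stab_smul_conj a g hga y
    have e2 : g • ((x * y) • a) = (x * (g * y * g⁻¹)) • a := by
      rw [PermReg.stab_smul_conj a g hga (x * y)]
      congr 1
      calc g * (x * y) * g⁻¹ = (g * x * g⁻¹) * (g * y * g⁻¹) := by group
        _ = x * (g * y * g⁻¹) := by rw [hgx]
    rw [e1, e2] at hcase ⊢
    have hz : g * y * g⁻¹ = y ∨ g * y * g⁻¹ = x * y := by
      rcases hcase with h | h | h | h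
      · exact Or.inl (PermReg.smul_inj_of_reg N hreg a hzN hyN h)
      · exact Or.inr (PermReg.smul_inj_of_reg N hreg a hzN hxyN h)
      · have := PermReg.smul_inj_of_reg N hreg a hxzN hyN h
        right
        calc g * y * g⁻¹ = x * (x * (g * y * g⁻¹)) := by rw [← mul_assoc, hx2, one_mul]
          _ = x * y := by rw [this]
      · have := PermReg.smul_inj_of_reg N hreg a hxzN hxyN h
        left
        exact mul_left_cancel this
    rcases hz with h | h
    · left
      rw [h]
      exact ⟨rfl, rfl⟩
    · right
      rw [h, ← mul_assoc, hx2, one_mul]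
      exact ⟨rfl, rfl⟩)
  rcases key with h | h
  · exfalso
    have h1 := PermReg.smul_inj_of_reg N hreg a hyN hxyN h
    apply hx1
    have : 1 * y = x * y := by rw [one_mul]; exact h1
    exact (mul_right_cancel this).symm
  · have huv : y • a ≠ (x * y) • a := by
      intro h'
      have h1 := PermReg.smul_inj_of_reg N hreg a hyN hxyN h'
      apply hx1
      have : 1 * y = x * y := by rw [one_mul]; exact h1
      exact (mul_right_cancel this).symm
    have h1 := Set.ncard_add_ncard_compl ({a, b} : Set X)
    rw [h, Set.ncard_pair hb.symm, Set.ncard_pair huv, Nat.card_eq_fintype_card] at h1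
    omega

end Cfsg.Agent.S0696
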