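import Cfsg.Statements.S0701
import Mathlib

set_option autoImplicit false
open Cfsg

namespace Cfsg.Agent.S0701

/-- The centraliser in the full symmetric group of a transitive permutation group `G` is semiregular, and it is transitive if and only if `G` is regular. -/
theorem result {α : Type*} (G : Subgroup (Equiv.Perm α)) [MulAction.IsPretransitive G α] : (∀ c ∈ Subgroup.centralizer (G : Set (Equiv.Perm α)), ∀ a : α, c a = a → c = 1) ∧ (MulAction.IsPretransitive (Subgroup.centralizer (G : Set (Equiv.Perm α))) α ↔ ∀ a : α, MulAction.stabilizer G a = ⊥) := by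
  have hcomm : ∀ c ∈ Subgroup.centralizer (G : Set (Equiv.Perm α)), ∀ g ∈ G, ∀ x : α,
      c (g x) = g (c x) := by
    intro c hc g hg x
    rw [Subgroup.mem_centralizer_iff] at hc
    have := hc g hg
    have h2 := congrArg (fun f : Equiv.Perm α => f x) this
    simpa [Equiv.Perm.mul_apply] using h2.symm
  refine ⟨?_, ?_, ?_⟩
  · intro c hc a hca
    ext b
    obtain ⟨g, hg⟩ := MulAction.exists_smul_eq G a b
    have hg' : (g : Equiv.Perm α) a = b := hg
    rw [← hg', hcomm c hc g g.2 a, hca]
    simp
  · intro htr a
    rw [eq_bot_iff]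
    intro g hg
    rw [MulAction.mem_stabilizer_iff] at hg
    have hg' : (g : Equiv.Perm α) a = a := hg
    rw [Subgroup.mem_bot]
    apply Subtype.ext
    ext b
    obtain ⟨c, hc⟩ := htr.exists_smul_eq a b
    have hc' : (c : Equiv.Perm α) a = b := hc
    rw [← hc', ← hcomm c c.2 g g.2 a, hg']
    simp
  · intro hreg
    refine ⟨fun a b => ?_⟩
    -- the bijection G → α, g ↦ g a
    have hbij : Function.Bijective (fun g : G => (g : Equiv.Perm α) a) := by
      constructor
      · intro g h hgh
        have hgh' : (g : Equiv.Perm α) a = (h : Equiv.Perm α) a := hgh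
        have : h⁻¹ * g ∈ MulAction.stabilizer G a := by
          rw [MulAction.mem_stabilizer_iff]
          show ((h⁻¹ * g : G) : Equiv.Perm α) a = a
          simp [Equiv.Perm.mul_apply, hgh']
        rw [hreg a, Subgroup.mem_bot] at this
        exact (inv_mul_eq_one.mp this).symm
      · intro x
        obtain ⟨g, hg⟩ := MulAction.exists_smul_eq G a x
        exact ⟨g, hg⟩
    let e : G ≃ α := Equiv.ofBijective _ hbij
    have he : ∀ g : G, e g = (g : Equiv.Perm α) a := fun g => rfl
    obtain ⟨k, hk⟩ := MulAction.exists_smul_eq G a b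
    have hk' : (k : Equiv.Perm α) a = b := hk
    let c : Equiv.Perm α := e.symm.trans ((Equiv.mulRight k).trans e)
    have hc_apply : ∀ x, c x = ((e.symm x * k : G) : Equiv.Perm α) a := fun x => rfl
    have hesymm : ∀ (h : G) (x : α), e.symm ((h : Equiv.Perm α) x) = h * e.symm x := by
      intro h x
      apply e.injective
      rw [Equiv.apply_symm_apply, he]
      have : (e.symm x : Equiv.Perm α) a = x := by rw [← he, Equiv.apply_symm_apply]
      simp [Equiv.Perm.mul_apply, this]
    have hcC : c ∈ Subgroup.centralizer (G : Set (Equiv.Perm α)) := by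
      rw [Subgroup.mem_centralizer_iff]
      intro h hh
      ext x
      simp only [Equiv.Perm.mul_apply]
      rw [hc_apply, hc_apply, hesymm ⟨h, hh⟩ x]
      simp [Equiv.Perm.mul_apply, mul_assoc]
    refine ⟨⟨c, hcC⟩, ?_⟩
    show c a = b
    rw [hc_apply]
    have : e.symm a = 1 := by
      apply e.injective
      rw [Equiv.apply_symm_apply, he]; simp
    rw [this, one_mul, hk']

end Cfsg.Agent.S0701
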