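import Cfsg.Statements.S0702
import Mathlib
import Cfsg.Agent.Lib.Lead.CoprimeSylow
import Cfsg.Agent.Lib.Lead.HallTools
import Cfsg.Agent.Lib.Lead.Frobenius

set_option autoImplicit false
open Cfsg

namespace Cfsg.Agent.S0702


open Pointwise

section
variable {α : Type*} [Finite α] (G : Subgroup (Equiv.Perm α)) [MulAction.IsPretransitive G α] (a : α)

/-- if `k⁻¹ G_a k ≤ G_a` then `k` normalizes `G_a` (finite case) -/
theorem mem_normalizer_of_conj_le (k : G)
    (h : ∀ s ∈ MulAction.stabilizer G a, k⁻¹ * s * k ∈ MulAction.stabilizer G a) :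
    k ∈ Subgroup.normalizer ((MulAction.stabilizer G a : Subgroup G) : Set G) := by
  have h1 : MulAut.conj k⁻¹ • MulAction.stabilizer G a ≤ MulAction.stabilizer G a := by
    intro x hx
    rw [Cfsg.Agent.Lib.Lead.mem_conj_smul_iff, inv_inv] at hx
    have h2 := h _ hx
    have : k⁻¹ * (k * x * k⁻¹) * k = x := by group
    rwa [this] at h2
  have h3 : MulAut.conj k⁻¹ • MulAction.stabilizer G a = MulAction.stabilizer G a :=
    Subgroup.eq_of_le_of_card_ge h1 (by rw [Cfsg.Agent.Lib.Lead.card_conj_smul])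
  have h4 := (Cfsg.Agent.Lib.Lead.mem_normalizer_iff_conj_smul k⁻¹ _).mpr h3
  have := Subgroup.inv_mem _ h4
  rwa [inv_inv] at this

/-- the underlying function of the centralizing permutation attached to `n` -/
noncomputable def cfun (n : G) (x : α) : α :=
  (Classical.choose (MulAction.exists_smul_eq G a x) * n⁻¹) • a

theorem cfun_spec (n : G)
    (hn : n ∈ Subgroup.normalizer ((MulAction.stabilizer G a : Subgroup G) : Set G)) (g : G) :
    cfun G a n (g • a) = (g * n⁻¹) • a := by
  unfold cfun
  set g0 := Classical.choose (MulAction.exists_smul_eq G a (g • a)) with hg0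
  have h0 : g0 • a = g • a := Classical.choose_spec (MulAction.exists_smul_eq G a (g • a))
  -- s = g⁻¹ g0 ∈ G_a
  have hs : g⁻¹ * g0 ∈ MulAction.stabilizer G a := by
    rw [MulAction.mem_stabilizer_iff, mul_smul, h0, inv_smul_smul]
  have hs' : n * (g⁻¹ * g0) * n⁻¹ ∈ MulAction.stabilizer G a :=
    (Subgroup.mem_normalizer_iff.mp hn _).mp hs
  rw [MulAction.mem_stabilizer_iff] at hs'
  have : g0 * n⁻¹ = (g * n⁻¹) * (n * (g⁻¹ * g0) * n⁻¹) := by group
  rw [this, mul_smul, hs']

/-- the centralizing permutation attached to `n ∈ N_G(G_a)` -/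
noncomputable def cperm (n : G)
    (hn : n ∈ Subgroup.normalizer ((MulAction.stabilizer G a : Subgroup G) : Set G)) :
    Equiv.Perm α where
  toFun := cfun G a n
  invFun := cfun G a n⁻¹
  left_inv x := by
    obtain ⟨g, rfl⟩ := MulAction.exists_smul_eq G a x
    rw [cfun_spec G a n hn, cfun_spec G a n⁻¹ (Subgroup.inv_mem _ hn), inv_inv, mul_assoc,
      inv_mul_cancel, mul_one]
  right_inv x := by
    obtain ⟨g, rfl⟩ := MulAction.exists_smul_eq G a x
    rw [cfun_spec G a n⁻¹ (Subgroup.inv_mem _ hn), cfun_spec G a n hn, inv_inv, mul_assoc,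
      mul_inv_cancel, mul_one]

theorem cperm_apply (n : G)
    (hn : n ∈ Subgroup.normalizer ((MulAction.stabilizer G a : Subgroup G) : Set G)) (g : G) :
    cperm G a n hn (g • a) = (g * n⁻¹) • a := cfun_spec G a n hn g

theorem cperm_mem (n : G)
    (hn : n ∈ Subgroup.normalizer ((MulAction.stabilizer G a : Subgroup G) : Set G)) :
    cperm G a n hn ∈ Subgroup.centralizer (G : Set (Equiv.Perm α)) := by
  rw [Subgroup.mem_centralizer_iff]
  intro h hh
  apply Equiv.ext
  intro x
  obtain ⟨g, rfl⟩ := MulAction.exists_smul_eq G a x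
  rw [Equiv.Perm.mul_apply, Equiv.Perm.mul_apply, cperm_apply]
  have e1 : h ((g * n⁻¹) • a) = ((⟨h, hh⟩ : G) * g * n⁻¹) • a := by
    rw [mul_assoc, mul_smul]; rfl
  have e2 : h (g • a) = ((⟨h, hh⟩ : G) * g) • a := by
    rw [mul_smul]; rfl
  rw [e1, e2, cperm_apply]

/-- the homomorphism `N_G(G_a) → C_{Sym}(G)` -/
noncomputable def chom :
    Subgroup.normalizer ((MulAction.stabilizer G a : Subgroup G) : Set G) →*
      Subgroup.centralizer (G : Set (Equiv.Perm α)) :=
  MonoidHom.mk' (fun n => ⟨cperm G a n.1 n.2, cperm_mem G a n.1 n.2⟩) (by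
    intro n m
    apply Subtype.ext
    apply Equiv.ext
    intro x
    obtain ⟨g, rfl⟩ := MulAction.exists_smul_eq G a x
    show cperm G a (n.1 * m.1) (n * m).2 (g • a) = cperm G a n.1 n.2 (cperm G a m.1 m.2 (g • a))
    rw [cperm_apply, cperm_apply, cperm_apply, mul_inv_rev, mul_assoc])

theorem chom_apply (n : Subgroup.normalizer ((MulAction.stabilizer G a : Subgroup G) : Set G))
    (g : G) : ((chom G a n : Subgroup.centralizer (G : Set (Equiv.Perm α))) : Equiv.Perm α)
      (g • a) = (g * (n : G)⁻¹) • a :=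
  cperm_apply G a n.1 n.2 g

theorem chom_ker : (chom G a).ker = (MulAction.stabilizer G a).subgroupOf
    (Subgroup.normalizer ((MulAction.stabilizer G a : Subgroup G) : Set G)) := by
  ext n
  rw [MonoidHom.mem_ker, Subgroup.mem_subgroupOf, MulAction.mem_stabilizer_iff]
  constructor
  · intro h
    have h1 := chom_apply G a n 1
    rw [h, one_mul] at h1
    have h2 : (n : G)⁻¹ • a = a := by
      rw [← h1]; simp
    rw [inv_smul_eq_iff] at h2
    exact h2.symm
  · intro h
    apply Subtype.ext
    apply Equiv.ext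
    intro x
    obtain ⟨g, rfl⟩ := MulAction.exists_smul_eq G a x
    rw [chom_apply, mul_smul]
    have : (n : G)⁻¹ • a = a := by rw [inv_smul_eq_iff, h]
    rw [this]; rfl

theorem exists_of_fixed (x : α) (hx : ∀ s ∈ MulAction.stabilizer G a, s • x = x) :
    ∃ n : Subgroup.normalizer ((MulAction.stabilizer G a : Subgroup G) : Set G),
      ∀ g : G, (g * (n : G)⁻¹) • a = g • x := by
  obtain ⟨k, rfl⟩ := MulAction.exists_smul_eq G a x
  have hk : k ∈ Subgroup.normalizer ((MulAction.stabilizer G a : Subgroup G) : Set G) := by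
    apply mem_normalizer_of_conj_le
    intro s hs
    rw [MulAction.mem_stabilizer_iff, mul_smul, mul_smul, hx s hs, inv_smul_smul]
  refine ⟨⟨k⁻¹, Subgroup.inv_mem _ hk⟩, ?_⟩
  intro g
  show (g * (k⁻¹)⁻¹) • a = g • k • a
  rw [inv_inv, mul_smul]

theorem chom_surjective : Function.Surjective (chom G a) := by
  intro c
  have hfix : ∀ s ∈ MulAction.stabilizer G a, s • (c.1 a) = c.1 a := by
    intro s hs
    have hc := Subgroup.mem_centralizer_iff.mp c.2 (s : Equiv.Perm α) s.2
    have h1 : (s : Equiv.Perm α) (c.1 a) = c.1 ((s : Equiv.Perm α) a) := by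
      have := congrArg (fun f : Equiv.Perm α => f a) hc
      exact this
    show (s : Equiv.Perm α) (c.1 a) = c.1 a
    rw [h1]
    congr 1
  obtain ⟨n, hn⟩ := exists_of_fixed G a (c.1 a) hfix
  refine ⟨n, ?_⟩
  apply Subtype.ext
  apply Equiv.ext
  intro x
  obtain ⟨g, rfl⟩ := MulAction.exists_smul_eq G a x
  rw [chom_apply, hn g]
  have hc := Subgroup.mem_centralizer_iff.mp c.2 (g : Equiv.Perm α) g.2
  have := congrArg (fun f : Equiv.Perm α => f a) hc
  exact this

end

/-- For a transitive permutation group `G` on a finite set, the centraliser of `G` in the symmetric group is isomorphic to `N_G(G_ω)/G_ω`, and its orbit of `ω` is the set of fixed points of `G_ω`. -/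
theorem result {α : Type*} [Finite α] (G : Subgroup (Equiv.Perm α)) [MulAction.IsPretransitive G α] (a : α) : Nonempty (Subgroup.centralizer (G : Set (Equiv.Perm α)) ≃* Subgroup.normalizer ((MulAction.stabilizer G a : Subgroup G) : Set G) ⧸ (MulAction.stabilizer G a).subgroupOf (Subgroup.normalizer ((MulAction.stabilizer G a : Subgroup G) : Set G))) ∧ MulAction.orbit (Subgroup.centralizer (G : Set (Equiv.Perm α))) a = MulAction.fixedPoints (MulAction.stabilizer G a) α := by
  constructor
  · have e1 := QuotientGroup.quotientKerEquivOfSurjective (chom G a) (chom_surjective G a)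
    have e2 := QuotientGroup.quotientMulEquivOfEq (chom_ker G a)
    exact ⟨(e2.symm.trans e1).symm⟩
  · ext x
    rw [MulAction.mem_fixedPoints]
    constructor
    · rintro ⟨c, rfl⟩ s
      have hc := Subgroup.mem_centralizer_iff.mp c.2 ((s : G) : Equiv.Perm α) (s : G).2
      have h1 : ((s : G) : Equiv.Perm α) (c.1 a) = c.1 (((s : G) : Equiv.Perm α) a) := by
        have := congrArg (fun f : Equiv.Perm α => f a) hc
        exact this
      show ((s : G) : Equiv.Perm α) (c.1 a) = c.1 a
      rw [h1]
      congr 1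
      exact s.2
    · intro hx
      obtain ⟨n, hn⟩ := exists_of_fixed G a x (fun s hs => hx ⟨s, hs⟩)
      refine ⟨chom G a n, ?_⟩
      have h1 := chom_apply G a n 1
      rw [hn 1, one_smul, one_smul] at h1
      exact h1

end Cfsg.Agent.S0702
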