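import Cfsg.Statements.S0703
import Mathlib


set_option autoImplicit false
open Cfsg

namespace Cfsg.Agent.S0703


open scoped commutatorElement

/-- An abelian transitive minimal normal subgroup `M` of a permutation group on a finite set is self-centralising in the symmetric group, regular, elementary abelian, and is the unique minimal normal subgroup. -/
theorem result {α : Type*} [Finite α] (G : Subgroup (Equiv.Perm α)) (M : Subgroup G) [M.Normal] (hM : M ≠ ⊥) (hmin : ∀ L : Subgroup G, L.Normal → L ≤ M → L = ⊥ ∨ L = M) (hab : IsMulCommutative M) (htrans : MulAction.IsPretransitive M α) : Subgroup.centralizer ((M.map G.subtype : Subgroup (Equiv.Perm α)) : Set (Equiv.Perm α)) = M.map G.subtype ∧ (∀ a : α, MulAction.stabilizer M a = ⊥) ∧ (∃ p : ℕ, p.Prime ∧ ∀ m ∈ M, m ^ p = 1) ∧ ∀ L : Subgroup G, L.Normal → L ≠ ⊥ → (∀ L' : Subgroup G, L'.Normal → L' ≤ L → L' = ⊥ ∨ L' = L) → L = M := by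
  classical
  haveI : Finite G := inferInstance
  have hcommM : ∀ x ∈ M, ∀ y ∈ M, x * y = y * x := by
    intro x hx y hy
    have := mul_comm' (⟨x, hx⟩ : M) ⟨y, hy⟩
    exact congrArg Subtype.val this
  -- an element of G acting trivially is 1
  have hfaith : ∀ g : G, (∀ b : α, g • b = b) → g = 1 := by
    intro g hg
    apply Subtype.ext
    apply Equiv.ext
    intro b
    exact hg b
  have hsmulM : ∀ (m : M) (b : α), m • b = (m : G) • b := fun m b => rfl
  have hcoe : ∀ x y : G, ((x * y : G) : Equiv.Perm α) = (x : Equiv.Perm α) * (y : Equiv.Perm α) :=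
    fun x y => rfl
  have hreg : ∀ a : α, MulAction.stabilizer M a = ⊥ := by
    intro a
    rw [eq_bot_iff]
    intro m hm
    rw [MulAction.mem_stabilizer_iff] at hm
    rw [Subgroup.mem_bot]
    apply Subtype.ext
    apply hfaith
    intro b
    obtain ⟨n, rfl⟩ := MulAction.exists_smul_eq M a b
    rw [hsmulM n a, ← mul_smul, hcommM m m.2 n n.2, mul_smul, ← hsmulM m a, hm]
  -- α is nonempty
  obtain ⟨a0⟩ : Nonempty α := by
    by_contra hemp
    rw [not_nonempty_iff] at hemp
    apply hM
    rw [eq_bot_iff]
    intro m _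
    rw [Subgroup.mem_bot]
    apply hfaith
    intro b
    exact (hemp.false b).elim
  have hcent : Subgroup.centralizer ((M.map G.subtype : Subgroup (Equiv.Perm α)) :
      Set (Equiv.Perm α)) = M.map G.subtype := by
    apply le_antisymm
    · intro c hc
      rw [Subgroup.mem_centralizer_iff] at hc
      obtain ⟨n, hn⟩ := MulAction.exists_smul_eq M a0 (c a0)
      have hn' : ((n : G) : Equiv.Perm α) a0 = c a0 := hn
      have hcn : c = ((n : G) : Equiv.Perm α) := by
        apply Equiv.ext
        intro b
        obtain ⟨k, rfl⟩ := MulAction.exists_smul_eq M a0 b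
        have hk : ((k : G) : Equiv.Perm α) ∈ (M.map G.subtype : Subgroup (Equiv.Perm α)) :=
          ⟨k, k.2, rfl⟩
        have h1 := hc _ hk
        have h2 : c (k • a0) = ((k : G) : Equiv.Perm α) (c a0) := by
          have := congrArg (fun f : Equiv.Perm α => f a0) h1
          exact this.symm
        rw [h2, ← hn']
        show ((k : G) : Equiv.Perm α) (((n : G) : Equiv.Perm α) a0) =
          ((n : G) : Equiv.Perm α) (((k : G) : Equiv.Perm α) a0)
        have h3 := hcommM k k.2 n n.2
        have h4 : ((k : G) : Equiv.Perm α) * ((n : G) : Equiv.Perm α) =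
            ((n : G) : Equiv.Perm α) * ((k : G) : Equiv.Perm α) := by
          rw [← hcoe, ← hcoe, h3]
        exact congrArg (fun f : Equiv.Perm α => f a0) h4
      rw [hcn]
      exact ⟨n, n.2, rfl⟩
    · rintro _ ⟨m, hm, rfl⟩
      rw [Subgroup.mem_centralizer_iff]
      rintro _ ⟨k, hk, rfl⟩
      show ((k : G) : Equiv.Perm α) * ((m : G) : Equiv.Perm α) =
        ((m : G) : Equiv.Perm α) * ((k : G) : Equiv.Perm α)
      rw [← hcoe, ← hcoe, hcommM k hk m hm]
  refine ⟨hcent, hreg, ?_, ?_⟩
  · -- elementary abelian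
    have hMcard : 1 < Nat.card M := by
      rw [Subgroup.one_lt_card_iff_ne_bot]; exact hM
    obtain ⟨p, hp, hpd⟩ := Nat.exists_prime_and_dvd (ne_of_gt hMcard)
    haveI : Fact p.Prime := ⟨hp⟩
    refine ⟨p, hp, ?_⟩
    let Ω : Subgroup G :=
      { carrier := {g | g ∈ M ∧ g ^ p = 1}
        mul_mem' := by
          rintro x y ⟨hx, hx1⟩ ⟨hy, hy1⟩
          refine ⟨M.mul_mem hx hy, ?_⟩
          have : Commute x y := hcommM x hx y hy
          rw [this.mul_pow, hx1, hy1, one_mul]
        one_mem' := ⟨M.one_mem, one_pow _⟩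
        inv_mem' := by
          rintro x ⟨hx, hx1⟩
          exact ⟨M.inv_mem hx, by rw [inv_pow, hx1, inv_one]⟩ }
    have hΩn : Ω.Normal := by
      constructor
      rintro x ⟨hx, hx1⟩ g
      refine ⟨‹M.Normal›.conj_mem x hx g, ?_⟩
      rw [conj_pow, hx1, mul_one, mul_inv_cancel]
    have hΩM : Ω ≤ M := fun x hx => hx.1
    obtain ⟨m, hm⟩ := exists_prime_orderOf_dvd_card' (G := M) p hpd
    have hΩne : Ω ≠ ⊥ := by
      intro h
      have hmΩ : (m : G) ∈ Ω := by
        refine ⟨m.2, ?_⟩
        have := pow_orderOf_eq_one m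
        rw [hm] at this
        exact_mod_cast congrArg Subtype.val this
      rw [h, Subgroup.mem_bot] at hmΩ
      have : m = 1 := Subtype.ext hmΩ
      rw [this, orderOf_one] at hm
      exact hp.one_lt.ne hm
    rcases hmin Ω hΩn hΩM with h | h
    · exact absurd h hΩne
    · intro x hx
      have : x ∈ Ω := by rw [h]; exact hx
      exact this.2
  · intro L hLn hLne hLmin
    haveI := hLn
    have hinfn : (L ⊓ M).Normal := inferInstance
    rcases hmin (L ⊓ M) hinfn inf_le_right with h | h
    · exfalso
      -- L centralizes M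
      have hLM : ∀ l ∈ L, ∀ m ∈ M, l * m = m * l := by
        intro l hl m hm
        have h1 : ⁅l, m⁆ ∈ L ⊓ M := by
          constructor
          · rw [commutatorElement_def]
            have := hLn.conj_mem l⁻¹ (L.inv_mem hl) m
            have h2 := L.mul_mem hl this
            simpa [mul_assoc] using h2
          · rw [commutatorElement_def]
            have := ‹M.Normal›.conj_mem m hm l
            exact M.mul_mem this (M.inv_mem hm)
        rw [h, Subgroup.mem_bot, commutatorElement_eq_one_iff_mul_comm] at h1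
        exact h1
      have hLcent : L.map G.subtype ≤ Subgroup.centralizer
          ((M.map G.subtype : Subgroup (Equiv.Perm α)) : Set (Equiv.Perm α)) := by
        rintro _ ⟨l, hl, rfl⟩
        rw [Subgroup.mem_centralizer_iff]
        rintro _ ⟨m, hm, rfl⟩
        show ((m : G) : Equiv.Perm α) * ((l : G) : Equiv.Perm α) =
          ((l : G) : Equiv.Perm α) * ((m : G) : Equiv.Perm α)
        rw [← hcoe, ← hcoe, hLM l hl m hm]
      rw [hcent] at hLcent
      have hLleM : L ≤ M := by
        intro l hl
        obtain ⟨m, hm, hml⟩ := hLcent ⟨l, hl, rfl⟩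
        have : m = l := Subtype.ext hml
        rwa [← this]
      apply hLne
      rw [eq_bot_iff, ← h]
      exact le_inf le_rfl hLleM
    · have hML : M ≤ L := by rw [← h]; exact inf_le_left
      rcases hLmin M inferInstance hML with h1 | h1
      · exact absurd h1 hM
      · exact h1.symm

end Cfsg.Agent.S0703
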