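import Cfsg.Statements.S0704
import Mathlib


set_option autoImplicit false
open Cfsg

namespace Cfsg.Agent.S0704


open scoped commutatorElement

section
variable {α : Type*} (G : Subgroup (Equiv.Perm α))

theorem faithful_aux (g : G) (hg : ∀ b : α, g • b = b) : g = 1 := by
  apply Subtype.ext
  apply Equiv.ext
  intro b
  exact hg b

/-- an element centralizing a transitive group and fixing a point is trivial -/
theorem eq_one_of_centralizer_of_fix (X : Subgroup G) (hX : MulAction.IsPretransitive X α)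
    (c : Equiv.Perm α)
    (hc : c ∈ Subgroup.centralizer ((X.map G.subtype : Subgroup (Equiv.Perm α)) :
      Set (Equiv.Perm α))) (a : α) (hca : c a = a) : c = 1 := by
  rw [Subgroup.mem_centralizer_iff] at hc
  apply Equiv.ext
  intro b
  obtain ⟨x, rfl⟩ := MulAction.exists_smul_eq X a b
  have hx : ((x : G) : Equiv.Perm α) ∈ (X.map G.subtype : Subgroup (Equiv.Perm α)) :=
    ⟨x, x.2, rfl⟩
  have h1 := hc _ hx
  have h2 : c (((x : G) : Equiv.Perm α) a) = ((x : G) : Equiv.Perm α) (c a) := by
    have := congrArg (fun f : Equiv.Perm α => f a) h1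
    exact this.symm
  show c (((x : G) : Equiv.Perm α) a) = _
  rw [h2, hca]
  rfl

theorem centralizer_eq_of_commute (X Y : Subgroup G)
    (hXY : ∀ x ∈ X, ∀ y ∈ Y, x * y = y * x) (hX : MulAction.IsPretransitive X α)
    (hY : MulAction.IsPretransitive Y α) (a0 : α) :
    Subgroup.centralizer ((X.map G.subtype : Subgroup (Equiv.Perm α)) : Set (Equiv.Perm α)) =
      Y.map G.subtype := by
  have hYle : Y.map G.subtype ≤ Subgroup.centralizer
      ((X.map G.subtype : Subgroup (Equiv.Perm α)) : Set (Equiv.Perm α)) := by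
    rintro _ ⟨y, hy, rfl⟩
    rw [Subgroup.mem_centralizer_iff]
    rintro _ ⟨x, hx, rfl⟩
    show ((x : G) : Equiv.Perm α) * ((y : G) : Equiv.Perm α) =
      ((y : G) : Equiv.Perm α) * ((x : G) : Equiv.Perm α)
    have : ∀ u v : G, ((u * v : G) : Equiv.Perm α) = (u : Equiv.Perm α) * (v : Equiv.Perm α) :=
      fun u v => rfl
    rw [← this, ← this, hXY x hx y hy]
  apply le_antisymm _ hYle
  intro c hc
  obtain ⟨n, hn⟩ := MulAction.exists_smul_eq Y a0 (c a0)
  have hn' : ((n : G) : Equiv.Perm α) a0 = c a0 := hn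
  have hnmem : ((n : G) : Equiv.Perm α) ∈ Y.map G.subtype := ⟨n, n.2, rfl⟩
  have hc' : ((n : G) : Equiv.Perm α)⁻¹ * c ∈ Subgroup.centralizer
      ((X.map G.subtype : Subgroup (Equiv.Perm α)) : Set (Equiv.Perm α)) :=
    Subgroup.mul_mem _ (Subgroup.inv_mem _ (hYle hnmem)) hc
  have hfix : (((n : G) : Equiv.Perm α)⁻¹ * c) a0 = a0 := by
    rw [Equiv.Perm.mul_apply, ← hn', Equiv.Perm.inv_def, Equiv.symm_apply_apply]
  have h1 := eq_one_of_centralizer_of_fix G X hX _ hc' a0 hfix
  have : c = ((n : G) : Equiv.Perm α) := by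
    rw [inv_mul_eq_one] at h1
    exact h1.symm
  rw [this]
  exact hnmem

theorem regular_of_commute (X Y : Subgroup G)
    (hXY : ∀ x ∈ X, ∀ y ∈ Y, x * y = y * x) (hX : MulAction.IsPretransitive X α) (a : α) :
    MulAction.stabilizer Y a = ⊥ := by
  rw [eq_bot_iff]
  intro y hy
  rw [MulAction.mem_stabilizer_iff] at hy
  rw [Subgroup.mem_bot]
  apply Subtype.ext
  apply Subtype.ext
  show ((y : G) : Equiv.Perm α) = 1
  apply eq_one_of_centralizer_of_fix G X hX _ _ a hy
  rw [Subgroup.mem_centralizer_iff]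
  rintro _ ⟨x, hx, rfl⟩
  show ((x : G) : Equiv.Perm α) * ((y : G) : Equiv.Perm α) =
    ((y : G) : Equiv.Perm α) * ((x : G) : Equiv.Perm α)
  have : ∀ u v : G, ((u * v : G) : Equiv.Perm α) = (u : Equiv.Perm α) * (v : Equiv.Perm α) :=
    fun u v => rfl
  rw [← this, ← this, hXY x hx y y.2]

end

/-- Two distinct transitive minimal normal subgroups `M`, `N` of a permutation group are regular, non-abelian, isomorphic, each other's centraliser in the symmetric group, and the only minimal normal subgroups. -/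
theorem result {α : Type*} (G : Subgroup (Equiv.Perm α)) (M N : Subgroup G) [M.Normal] [N.Normal] (hM : M ≠ ⊥) (hN : N ≠ ⊥) (hMmin : ∀ L : Subgroup G, L.Normal → L ≤ M → L = ⊥ ∨ L = M) (hNmin : ∀ L : Subgroup G, L.Normal → L ≤ N → L = ⊥ ∨ L = N) (hMN : M ≠ N) (hMt : MulAction.IsPretransitive M α) (hNt : MulAction.IsPretransitive N α) : (∀ a : α, MulAction.stabilizer M a = ⊥) ∧ (∀ a : α, MulAction.stabilizer N a = ⊥) ∧ ¬ IsMulCommutative M ∧ Nonempty (M ≃* N) ∧ Subgroup.centralizer ((M.map G.subtype : Subgroup (Equiv.Perm α)) : Set (Equiv.Perm α)) = N.map G.subtype ∧ Subgroup.centralizer ((N.map G.subtype : Subgroup (Equiv.Perm α)) : Set (Equiv.Perm α)) = M.map G.subtype ∧ ∀ L : Subgroup G, L.Normal → L ≠ ⊥ → (∀ L' : Subgroup G, L'.Normal → L' ≤ L → L' = ⊥ ∨ L' = L) → L = M ∨ L = N := by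
  have hMNinf : M ⊓ N = ⊥ := by
    rcases hMmin (M ⊓ N) inferInstance inf_le_left with h | h
    · exact h
    · exfalso
      have hMN' : M ≤ N := by rw [← h]; exact inf_le_right
      rcases hNmin M inferInstance hMN' with h1 | h1
      · exact hM h1
      · exact hMN h1
  have hcomm : ∀ m ∈ M, ∀ n ∈ N, m * n = n * m := by
    intro m hm n hn
    have h1 : ⁅m, n⁆ ∈ M ⊓ N := by
      constructor
      · rw [commutatorElement_def]
        have := ‹M.Normal›.conj_mem m⁻¹ (M.inv_mem hm) n
        have h2 := M.mul_mem hm this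
        simpa [mul_assoc] using h2
      · rw [commutatorElement_def]
        have := ‹N.Normal›.conj_mem n hn m
        exact N.mul_mem this (N.inv_mem hn)
    rw [hMNinf, Subgroup.mem_bot, commutatorElement_eq_one_iff_mul_comm] at h1
    exact h1
  have hcomm' : ∀ n ∈ N, ∀ m ∈ M, n * m = m * n := fun n hn m hm => (hcomm m hm n hn).symm
  obtain ⟨a0⟩ : Nonempty α := by
    by_contra hemp
    rw [not_nonempty_iff] at hemp
    apply hM
    rw [eq_bot_iff]
    intro m _
    rw [Subgroup.mem_bot]
    apply faithful_aux G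
    intro b
    exact (hemp.false b).elim
  have hregM : ∀ a : α, MulAction.stabilizer M a = ⊥ :=
    fun a => regular_of_commute G N M hcomm' hNt a
  have hregN : ∀ a : α, MulAction.stabilizer N a = ⊥ :=
    fun a => regular_of_commute G M N hcomm hMt a
  have hCM := centralizer_eq_of_commute G M N hcomm hMt hNt a0
  have hCN := centralizer_eq_of_commute G N M hcomm' hNt hMt a0
  have hle_of_map : ∀ X Y : Subgroup G, X.map G.subtype ≤ Y.map G.subtype → X ≤ Y := by
    intro X Y h x hx
    obtain ⟨y, hy, hyx⟩ := h ⟨x, hx, rfl⟩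
    have : y = x := Subtype.ext hyx
    rwa [← this]
  have hcoe : ∀ u v : G, ((u * v : G) : Equiv.Perm α) = (u : Equiv.Perm α) * (v : Equiv.Perm α) :=
    fun u v => rfl
  refine ⟨hregM, hregN, ?_, ?_, hCM, hCN, ?_⟩
  · -- M not abelian
    intro hab
    have hcommM : ∀ x ∈ M, ∀ y ∈ M, x * y = y * x := by
      intro x hx y hy
      have := mul_comm' (⟨x, hx⟩ : M) ⟨y, hy⟩
      exact congrArg Subtype.val this
    have h1 : M.map G.subtype ≤ Subgroup.centralizer
        ((M.map G.subtype : Subgroup (Equiv.Perm α)) : Set (Equiv.Perm α)) := by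
      rintro _ ⟨y, hy, rfl⟩
      rw [Subgroup.mem_centralizer_iff]
      rintro _ ⟨x, hx, rfl⟩
      show ((x : G) : Equiv.Perm α) * ((y : G) : Equiv.Perm α) =
        ((y : G) : Equiv.Perm α) * ((x : G) : Equiv.Perm α)
      rw [← hcoe, ← hcoe, hcommM x hx y hy]
    rw [hCM] at h1
    have h2 : M ≤ N := hle_of_map M N h1
    apply hM
    rw [eq_bot_iff, ← hMNinf]
    exact le_inf le_rfl h2
  · -- M ≃* N
    have hex : ∀ m : M, ∃ n : N, n • a0 = m⁻¹ • a0 := fun m =>
      MulAction.exists_smul_eq N a0 (m⁻¹ • a0)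
    choose f hf using hex
    have hsmulM : ∀ (m : M) (b : α), m • b = (m : G) • b := fun m b => rfl
    have hsmulN : ∀ (n : N) (b : α), n • b = (n : G) • b := fun n b => rfl
    have huniqN : ∀ n n' : N, n • a0 = n' • a0 → n = n' := by
      intro n n' h
      have h1 : (n'⁻¹ * n) ∈ MulAction.stabilizer N a0 := by
        rw [MulAction.mem_stabilizer_iff, mul_smul, h, inv_smul_smul]
      rw [hregN a0, Subgroup.mem_bot] at h1
      exact (inv_mul_eq_one.mp h1).symm
    have huniqM : ∀ m m' : M, m • a0 = m' • a0 → m = m' := by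
      intro m m' h
      have h1 : (m'⁻¹ * m) ∈ MulAction.stabilizer M a0 := by
        rw [MulAction.mem_stabilizer_iff, mul_smul, h, inv_smul_smul]
      rw [hregM a0, Subgroup.mem_bot] at h1
      exact (inv_mul_eq_one.mp h1).symm
    have hswap : ∀ (m : M) (n : N) (b : α), m • n • b = n • m • b := by
      intro m n b
      rw [hsmulM, hsmulN, hsmulN, hsmulM, ← mul_smul, ← mul_smul, hcomm m m.2 n n.2]
    have hmul : ∀ m1 m2 : M, f (m1 * m2) = f m1 * f m2 := by
      intro m1 m2
      apply huniqN
      rw [hf, mul_smul, hf, mul_inv_rev, mul_smul, ← hf m1, hswap]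
    have hinj : Function.Injective f := by
      intro m1 m2 h
      have h1 : m1⁻¹ • a0 = m2⁻¹ • a0 := by rw [← hf m1, ← hf m2, h]
      have := huniqM _ _ h1
      exact inv_injective this
    have hsurj : Function.Surjective f := by
      intro n
      obtain ⟨m, hm⟩ := MulAction.exists_smul_eq M a0 (n • a0)
      refine ⟨m⁻¹, ?_⟩
      apply huniqN
      rw [hf, inv_inv, hm]
    exact ⟨MulEquiv.ofBijective (MonoidHom.mk' f hmul) ⟨hinj, hsurj⟩⟩
  · intro L hLn hLne hLmin
    haveI := hLn
    by_cases hLM : L = M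
    · exact Or.inl hLM
    · right
      have hLMinf : L ⊓ M = ⊥ := by
        rcases hLmin (L ⊓ M) inferInstance inf_le_left with h | h
        · exact h
        · exfalso
          have h1 : L ≤ M := by rw [← h]; exact inf_le_right
          rcases hMmin L hLn h1 with h2 | h2
          · exact hLne h2
          · exact hLM h2
      have hLMcomm : ∀ l ∈ L, ∀ m ∈ M, l * m = m * l := by
        intro l hl m hm
        have h1 : ⁅l, m⁆ ∈ L ⊓ M := by
          constructor
          · rw [commutatorElement_def]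
            have := hLn.conj_mem l⁻¹ (L.inv_mem hl) m
            have h2 := L.mul_mem hl this
            simpa [mul_assoc] using h2
          · rw [commutatorElement_def]
            have := ‹M.Normal›.conj_mem m hm l
            exact M.mul_mem this (M.inv_mem hm)
        rw [hLMinf, Subgroup.mem_bot, commutatorElement_eq_one_iff_mul_comm] at h1
        exact h1
      have hLcent : L.map G.subtype ≤ Subgroup.centralizer
          ((M.map G.subtype : Subgroup (Equiv.Perm α)) : Set (Equiv.Perm α)) := by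
        rintro _ ⟨l, hl, rfl⟩
        rw [Subgroup.mem_centralizer_iff]
        rintro _ ⟨m, hm, rfl⟩
        show ((m : G) : Equiv.Perm α) * ((l : G) : Equiv.Perm α) =
          ((l : G) : Equiv.Perm α) * ((m : G) : Equiv.Perm α)
        rw [← hcoe, ← hcoe, hLMcomm l hl m hm]
      rw [hCM] at hLcent
      have hLN : L ≤ N := hle_of_map L N hLcent
      rcases hNmin L hLn hLN with h | h
      · exact absurd h hLne
      · exact h

end Cfsg.Agent.S0704
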