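import Cfsg.Statements.S0705
import Mathlib
import Cfsg.Agent.Lib.Helper2.TupleConn

set_option autoImplicit false
open scoped Pointwise
open Cfsg

namespace Cfsg.Agent.S0705

open Cfsg.Agent.Lib.Helper2.TupleConn

/-- A generously `k`-transitive permutation group (every `(k+1)`-subset has its full symmetric group induced by the setwise stabiliser) of degree greater than `k` is `k`-transitive, and for a `k`-subset the setwise and pointwise stabilisers have the same orbits outside it. -/
theorem result {α : Type*} [Fintype α] [DecidableEq α] (G : Subgroup (Equiv.Perm α)) {k : ℕ} (hk : k < Fintype.card α) (hgen : ∀ s : Finset α, s.card = k + 1 → ∀ σ : Equiv.Perm ↥s, ∃ g ∈ G, ∀ x : ↥s, g (x : α) = σ x) : MulAction.IsMultiplyPretransitive G α k ∧ ∀ s : Finset α, s.card = k → ∀ a b : α, a ∉ s → b ∉ s → (∃ g ∈ G, g • s = s ∧ g a = b) → ∃ g ∈ G, (∀ x ∈ s, g x = x) ∧ g a = b := by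
  constructor
  · apply isMultiplyPretransitive_of_step G hk
    intro x i v hv
    set s : Finset α := insert v (Finset.univ.map x) with hs
    have hvs : v ∉ Finset.univ.map x := by
      intro h
      rw [Finset.mem_map] at h
      obtain ⟨j, -, hj⟩ := h
      exact hv ⟨j, hj⟩
    have hcard : s.card = k + 1 := by
      rw [hs, Finset.card_insert_of_notMem hvs, Finset.card_map, Finset.card_univ, Fintype.card_fin]
    have hxs : ∀ j, x j ∈ s := fun j =>
      Finset.mem_insert_of_mem (Finset.mem_map_of_mem x (Finset.mem_univ j))
    have hvmem : v ∈ s := Finset.mem_insert_self _ _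
    obtain ⟨g, hg, hgs⟩ := hgen s hcard (Equiv.swap ⟨x i, hxs i⟩ ⟨v, hvmem⟩)
    refine ⟨g, hg, ?_, ?_⟩
    · have := hgs ⟨x i, hxs i⟩
      rw [Equiv.swap_apply_left] at this
      exact this
    · intro j hj
      have := hgs ⟨x j, hxs j⟩
      rw [Equiv.swap_apply_of_ne_of_ne] at this
      · exact this
      · intro h
        exact hj (x.injective (congrArg Subtype.val h))
      · intro h
        exact hv ⟨j, congrArg Subtype.val h⟩
  · intro s hs a b ha hb ⟨g, hg, hgs, hgab⟩
    have hgmem : ∀ x ∈ s, g x ∈ s := by
      intro x hx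
      have : g • x ∈ g • s := Finset.smul_mem_smul_finset hx
      rw [hgs] at this
      exact this
    have hginv : ∀ z ∈ s, g⁻¹ z ∈ s := by
      intro z hz
      rw [← hgs, Finset.mem_smul_finset] at hz
      obtain ⟨w, hw, hwz⟩ := hz
      have : g⁻¹ z = w := by
        rw [← hwz]
        change g⁻¹ (g w) = w
        simp
      rw [this]; exact hw
    set t : Finset α := insert b s with ht
    have hcard : t.card = k + 1 := by
      rw [ht, Finset.card_insert_of_notMem hb, hs]
    have hmem_t : ∀ z : t, (z : α) ≠ b → (z : α) ∈ s := by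
      intro z hz
      have := Finset.mem_insert.mp z.2
      rcases this with h | h
      · exact absurd h hz
      · exact h
    let f : t → t := fun z =>
      if hz : (z : α) = b then z else ⟨g⁻¹ (z : α), Finset.mem_insert_of_mem (hginv _ (hmem_t z hz))⟩
    have hf_b : ∀ z : t, (z : α) = b → f z = z := by
      intro z hz
      simp only [f, dif_pos hz]
    have hf_s : ∀ z : t, (z : α) ≠ b → ((f z : t) : α) = g⁻¹ (z : α) := by
      intro z hz
      simp only [f, dif_neg hz]
    have hf_inj : Function.Injective f := by
      intro z z' hzz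
      by_cases hz : (z : α) = b
      · by_cases hz' : (z' : α) = b
        · exact Subtype.ext (hz.trans hz'.symm)
        · exfalso
          rw [hf_b z hz] at hzz
          have h1 := congrArg Subtype.val hzz
          rw [hf_s z' hz', hz] at h1
          exact hb (h1 ▸ hginv _ (hmem_t z' hz'))
      · by_cases hz' : (z' : α) = b
        · exfalso
          rw [hf_b z' hz'] at hzz
          have h1 := congrArg Subtype.val hzz
          rw [hf_s z hz, hz'] at h1
          exact hb (h1 ▸ hginv _ (hmem_t z hz))
        · have h1 := congrArg Subtype.val hzz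
          rw [hf_s z hz, hf_s z' hz'] at h1
          exact Subtype.ext (g⁻¹.injective h1)
    let σ : Equiv.Perm t := Equiv.ofBijective f (Finite.injective_iff_bijective.mp hf_inj)
    obtain ⟨h, hh, hht⟩ := hgen t hcard σ
    refine ⟨h * g, G.mul_mem hh hg, ?_, ?_⟩
    · intro x hx
      have hgx : g x ∈ s := hgmem x hx
      have hgxb : g x ≠ b := fun h' => hb (h' ▸ hgx)
      have h1 := hht ⟨g x, Finset.mem_insert_of_mem hgx⟩
      change h (g x) = x
      rw [h1]
      change ((f ⟨g x, _⟩ : t) : α) = x
      rw [hf_s _ hgxb]
      simp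
    · change h (g a) = b
      rw [hgab]
      have h1 := hht ⟨b, Finset.mem_insert_self _ _⟩
      rw [h1]
      change ((f ⟨b, _⟩ : t) : α) = b
      rw [hf_b _ rfl]

end Cfsg.Agent.S0705
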