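import Cfsg.Statements.S0710
import Mathlib

set_option autoImplicit false
open Cfsg

namespace Cfsg.Agent.S0710

/-- No transitive permutation group on 13 points has order `13 * 12 * 11 * 10 * 9 * 8`. -/
theorem result {α : Type*} [Fintype α] [DecidableEq α] (hα : Fintype.card α = 13) (G : Subgroup (Equiv.Perm α)) [MulAction.IsPretransitive G α] : Nat.card G ≠ 13 * 12 * 11 * 10 * 9 * 8 := by
  intro hG
  haveI : Fact (Nat.Prime 13) := ⟨by norm_num⟩
  haveI : Finite G := inferInstance
  let P : Sylow 13 G := default
  have hPcard : Nat.card P = 13 := by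
    obtain ⟨k, hk⟩ := P.2.exists_card_eq
    have h1 : 13 ∣ Nat.card P := P.dvd_card_of_dvd_card (by rw [hG]; norm_num)
    have h2 : Nat.card P ∣ Nat.card G := Subgroup.card_subgroup_dvd_card _
    rw [hk, hG] at h2
    have hk2 : k < 2 := by
      by_contra hcon
      push Not at hcon
      have : 13 ^ 2 ∣ 13 * 12 * 11 * 10 * 9 * 8 := (pow_dvd_pow 13 hcon).trans h2
      norm_num at this
    have hk1 : k ≠ 0 := by
      rintro rfl
      rw [hk] at h1
      norm_num at h1
    have : k = 1 := by omega
    rw [hk, this, pow_one]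
  haveI : IsCyclic P := isCyclic_of_prime_card hPcard
  obtain ⟨g, hg⟩ := IsCyclic.exists_generator (α := P)
  have hgo : orderOf g = 13 := by
    rw [orderOf_eq_card_of_forall_mem_zpowers hg, hPcard]
  set σ : Equiv.Perm α := ((g : G) : Equiv.Perm α) with hσ
  have hσo : orderOf σ = 13 := by
    rw [hσ, Subgroup.orderOf_coe, Subgroup.orderOf_coe, hgo]
  have hcyc : σ.IsCycle := Equiv.Perm.isCycle_of_prime_order'' (by rw [hα]; norm_num) (by rw [hσo, hα])
  have hct : σ.cycleType = {13} := by
    rw [hcyc.cycleType, ← hcyc.orderOf, hσo]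
  have hcent : Nat.card (Subgroup.centralizer {σ}) = 13 := by
    rw [Equiv.Perm.nat_card_centralizer, hct, hα]
    simp
  -- centralizer of P in G embeds in centralizer of σ
  have hC : Nat.card (Subgroup.centralizer (P : Set G)) ∣ Nat.card (Subgroup.centralizer {σ}) := by
    let f : Subgroup.centralizer ((P : Subgroup G) : Set G) →* Subgroup.centralizer {σ} :=
      { toFun := fun c => ⟨((c : G) : Equiv.Perm α), by
          rw [Subgroup.mem_centralizer_singleton_iff]
          have := c.2 (g : G) g.2
          have h2 := congrArg (fun x : G => (x : Equiv.Perm α)) this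
          simpa [hσ] using h2.symm⟩
        map_one' := rfl
        map_mul' := fun a b => rfl }
    apply Subgroup.card_dvd_of_injective f
    intro a b hab
    have := congrArg (fun x : Subgroup.centralizer {σ} => (x : Equiv.Perm α)) hab
    exact Subtype.ext (Subtype.ext this)
  rw [hcent] at hC
  have key := Subgroup.card_dvd_of_injective _ (QuotientGroup.kerLift_injective (P : Subgroup G).normalizerMonoidHom)
  rw [Subgroup.normalizerMonoidHom_ker, ← Subgroup.index, IsCyclic.card_mulAut, hPcard] at key
  have htot : Nat.totient 13 = 12 := by rw [Nat.totient_prime (by norm_num)]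
  rw [htot] at key
  -- |N| = |C ⊓ N| * index
  have hN : Nat.card (Subgroup.normalizer ((P : Subgroup G) : Set G)) ∣ 156 := by
    rw [← Subgroup.card_mul_index ((Subgroup.centralizer (P : Set G)).subgroupOf (Subgroup.normalizer ((P : Subgroup G) : Set G)))]
    have h1 : Nat.card ((Subgroup.centralizer (P : Set G)).subgroupOf (Subgroup.normalizer ((P : Subgroup G) : Set G))) ∣ 13 := by
      refine dvd_trans ?_ hC
      let f : ((Subgroup.centralizer (P : Set G)).subgroupOf (Subgroup.normalizer ((P : Subgroup G) : Set G))) →* (Subgroup.centralizer (P : Set G)) :=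
        { toFun := fun x => ⟨((x : Subgroup.normalizer ((P : Subgroup G) : Set G)) : G), Subgroup.mem_subgroupOf.mp x.2⟩
          map_one' := rfl
          map_mul' := fun _ _ => rfl }
      apply Subgroup.card_dvd_of_injective f
      intro a b hab
      have := congrArg (fun x : Subgroup.centralizer (P : Set G) => (x : G)) hab
      exact Subtype.ext (Subtype.ext this)
    exact Nat.mul_dvd_mul h1 key
  have hidx : Nat.card (Sylow 13 G) = (Subgroup.normalizer ((P : Subgroup G) : Set G)).index := Sylow.card_eq_index_normalizer P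
  have hmod : Nat.card (Sylow 13 G) ≡ 1 [MOD 13] := card_sylow_modEq_one 13 G
  rw [hidx] at hmod
  have hmul := Subgroup.card_mul_index (Subgroup.normalizer ((P : Subgroup G) : Set G))
  rw [hG] at hmul
  have hmem : Nat.card (Subgroup.normalizer ((P : Subgroup G) : Set G)) ∈ Nat.divisors 156 := Nat.mem_divisors.mpr ⟨hN, by norm_num⟩
  have hfin : ∀ d ∈ Nat.divisors 156, (13 * 12 * 11 * 10 * 9 * 8) / d % 13 ≠ 1 := by decide
  have hdpos : 0 < Nat.card (Subgroup.normalizer ((P : Subgroup G) : Set G)) := Nat.pos_of_mem_divisors hmem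
  have hi : (Subgroup.normalizer ((P : Subgroup G) : Set G)).index = (13 * 12 * 11 * 10 * 9 * 8) / Nat.card (Subgroup.normalizer ((P : Subgroup G) : Set G)) := by
    rw [← hmul, Nat.mul_div_cancel_left _ hdpos]
  have h3 := hfin _ hmem
  rw [← hi] at h3
  exact h3 hmod

end Cfsg.Agent.S0710
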