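import Cfsg.Statements.S0711
import Mathlib
import Cfsg.Agent.Lib.Lead.SmallSupp2

set_option autoImplicit false
open Cfsg
open Cfsg.Agent.Lib.Lead

namespace Cfsg.Agent.S0711

/-- A `k`-transitive permutation group (`k ≥ 3`) with a non-identity element of support smaller than `2k - 2` contains a non-identity element of support at most 3, and therefore contains the alternating group. -/
theorem result {α : Type*} [Fintype α] [DecidableEq α] (G : Subgroup (Equiv.Perm α)) {k : ℕ} (hk : 3 ≤ k) (hkn : k ≤ Fintype.card α) (hG : MulAction.IsMultiplyPretransitive G α k) (g : Equiv.Perm α) (hg : g ∈ G) (hg1 : g ≠ 1) (hsupp : g.support.card < 2 * k - 2) : (∃ h : Equiv.Perm α, h ∈ G ∧ h ≠ 1 ∧ h.support.card ≤ 3) ∧ alternatingGroup α ≤ G := by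
  have key : ∀ m : ℕ, ∀ g : Equiv.Perm α, g ∈ G → g ≠ 1 → g.support.card = m → m < 2 * k - 2 →
      ∃ h : Equiv.Perm α, h ∈ G ∧ h ≠ 1 ∧ h.support.card ≤ 3 := by
    intro m
    induction m using Nat.strong_induction_on with
    | _ m ih =>
      intro g hg hg1 hgm hm
      by_cases h3 : m ≤ 3
      · exact ⟨g, hg, hg1, by omega⟩
      · obtain ⟨c, hc, hc1, hcm⟩ := SmallSupp.descent G hk hkn hG g hg (by omega) (by omega)
        exact ih c.support.card (by omega) c hc hc1 rfl (by omega)
  obtain ⟨h, hh, hh1, hh3⟩ := key _ g hg hg1 rfl hsupp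
  refine ⟨⟨h, hh, hh1, hh3⟩, ?_⟩
  have h2 : MulAction.IsMultiplyPretransitive G α 2 :=
    MulAction.isMultiplyPretransitive_of_le (n := k) (by omega)
      (by rw [Nat.card_eq_fintype_card]; exact hkn)
  have hprim : MulAction.IsPreprimitive G α := MulAction.isPreprimitive_of_is_two_pretransitive h2
  have hc0 : h.support.card ≠ 0 := by
    rw [Ne, Equiv.Perm.card_support_eq_zero]; exact hh1
  have hc1 := Equiv.Perm.card_support_ne_one h
  rcases (by omega : h.support.card = 2 ∨ h.support.card = 3) with h2' | h3'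
  · rw [Equiv.Perm.card_support_eq_two] at h2'
    rw [Equiv.Perm.subgroup_eq_top_of_isPreprimitive_of_isSwap_mem hprim h h2' hh]
    exact le_top
  · rw [card_support_eq_three_iff] at h3'
    exact Equiv.Perm.alternatingGroup_le_of_isPreprimitive_of_isThreeCycle_mem hprim h3' hh

end Cfsg.Agent.S0711
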