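import Cfsg.Statements.S0712
import Mathlib


set_option autoImplicit false
open Cfsg

namespace Cfsg.Agent.S0712

open MulAction SubMulAction

theorem comb {G α : Type*} [Group G] [MulAction G α] (s : Set α) [Finite s] {m : ℕ} (hsm : s.ncard = m)
    (hm : IsMultiplyPretransitive G α m)
    (h2 : ∀ u v u' v' : α, u ∉ s → v ∉ s → u' ∉ s → v' ∉ s → u ≠ v → u' ≠ v' →
      ∃ g ∈ fixingSubgroup G s, g • u = u' ∧ g • v = v') :
    IsMultiplyPretransitive G α (m + 2) := by
  rw [isMultiplyPretransitive_iff]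
  intro x y
  have hne : Nonempty (Fin m ≃ s) := Finite.card_eq.mp (by simp [Nat.card_coe_set_eq, hsm])
  obtain ⟨e⟩ := hne
  let σ : Fin m ↪ α := e.toEmbedding.trans (Function.Embedding.subtype _)
  have hσs : ∀ j, σ j ∈ s := fun j => (e j).2
  have hσsurj : ∀ z ∈ s, ∃ j, σ j = z := by
    intro z hz
    exact ⟨e.symm ⟨z, hz⟩, by simp [σ]⟩
  have hmle : m ≤ m + 2 := by omega
  have key : ∀ x : Fin (m + 2) ↪ α, ∃ g : G, (∀ j : Fin m, g • x (Fin.castLE hmle j) = σ j) ∧
      g • x ⟨m, by omega⟩ ∉ s ∧ g • x ⟨m + 1, by omega⟩ ∉ s := by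
    intro x
    obtain ⟨g, hg⟩ := hm.exists_smul_eq ((Fin.castLEEmb hmle).trans x) σ
    have hg' : ∀ j : Fin m, g • x (Fin.castLE hmle j) = σ j := by
      intro j
      have := congrArg (fun f : Fin m ↪ α => f j) hg
      exact this
    refine ⟨g, hg', ?_, ?_⟩
    · intro hmem
      obtain ⟨j, hj⟩ := hσsurj _ hmem
      rw [← hg' j] at hj
      have := x.injective (smul_left_cancel g hj)
      have h3 := congrArg Fin.val this
      simp at h3
      omega
    · intro hmem
      obtain ⟨j, hj⟩ := hσsurj _ hmem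
      rw [← hg' j] at hj
      have := x.injective (smul_left_cancel g hj)
      have h3 := congrArg Fin.val this
      simp at h3
      omega
  obtain ⟨g₁, h11, h12, h13⟩ := key x
  obtain ⟨g₂, h21, h22, h23⟩ := key y
  have hne1 : g₁ • x ⟨m, by omega⟩ ≠ g₁ • x ⟨m + 1, by omega⟩ := by
    intro h
    have := x.injective (smul_left_cancel g₁ h)
    have h3 := congrArg Fin.val this
    simp at h3
  have hne2 : g₂ • y ⟨m, by omega⟩ ≠ g₂ • y ⟨m + 1, by omega⟩ := by
    intro h
    have := y.injective (smul_left_cancel g₂ h)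
    have h3 := congrArg Fin.val this
    simp at h3
  obtain ⟨h, hh, hh1, hh2⟩ := h2 _ _ _ _ h12 h13 h22 h23 hne1 hne2
  refine ⟨g₂⁻¹ * h * g₁, ?_⟩
  ext i
  change (g₂⁻¹ * h * g₁) • x i = y i
  rw [mul_smul, mul_smul, inv_smul_eq_iff]
  by_cases hi : (i : ℕ) < m
  · have hi' : i = Fin.castLE hmle ⟨i, hi⟩ := by ext; simp
    rw [hi', h11, h21]
    exact (mem_fixingSubgroup_iff G).mp hh _ (hσs _)
  · by_cases hi2 : (i : ℕ) = m
    · have hi' : i = ⟨m, by omega⟩ := by ext; exact hi2
      rw [hi', hh1]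
    · have hi' : i = ⟨m + 1, by omega⟩ := by
        ext
        have := i.2
        simp only
        omega
      rw [hi', hh2]

/-- Jordan: a primitive group in which the pointwise stabiliser of a set `s` is doubly transitive on the complement of `s` (which has at least 2 points) is `(|s| + 2)`-transitive. -/
theorem result {α : Type*} [Fintype α] [DecidableEq α] (G : Subgroup (Equiv.Perm α)) (hG : MulAction.IsPreprimitive G α) (s : Set α) {m : ℕ} (hsm : s.ncard = m) (hm : m + 2 ≤ Fintype.card α) (h2 : MulAction.IsMultiplyPretransitive (fixingSubgroup G s) (SubMulAction.ofFixingSubgroup G s) 2) : MulAction.IsMultiplyPretransitive G α (m + 2) := by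
  haveI : Finite s := Subtype.finite
  have hcardα : Nat.card α = Fintype.card α := Nat.card_eq_fintype_card
  -- 2-transitivity in points
  have h2' : ∀ u v u' v' : α, u ∉ s → v ∉ s → u' ∉ s → v' ∉ s → u ≠ v → u' ≠ v' →
      ∃ g ∈ fixingSubgroup G s, g • u = u' ∧ g • v = v' := by
    intro u v u' v' hu hv hu' hv' huv huv'
    have key0 : ∀ (a b c d : ofFixingSubgroup G s), a ≠ b → c ≠ d →
        ∃ g : fixingSubgroup G s, g • a = c ∧ g • b = d :=
      fun a b c d hab hcd => (is_two_pretransitive_iff).mp h2 hab hcd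
    have key := key0
      (⟨u, (mem_ofFixingSubgroup_iff G).mpr hu⟩ : ofFixingSubgroup G s)
      (⟨v, (mem_ofFixingSubgroup_iff G).mpr hv⟩ : ofFixingSubgroup G s)
      (⟨u', (mem_ofFixingSubgroup_iff G).mpr hu'⟩ : ofFixingSubgroup G s)
      (⟨v', (mem_ofFixingSubgroup_iff G).mpr hv'⟩ : ofFixingSubgroup G s)
      (fun h => huv (congrArg Subtype.val h)) (fun h => huv' (congrArg Subtype.val h))
    obtain ⟨g, hg1, hg2⟩ := key
    refine ⟨g.1, g.2, ?_, ?_⟩
    · exact congrArg Subtype.val hg1
    · exact congrArg Subtype.val hg2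
  have hmt : IsMultiplyPretransitive G α m := by
    rcases Nat.eq_zero_or_pos m with rfl | hmpos
    · exact is_zero_pretransitive'
    · obtain ⟨n, rfl⟩ : ∃ n, m = n + 1 := ⟨m - 1, by omega⟩
      have hprim : IsPreprimitive (fixingSubgroup G s) (ofFixingSubgroup G s) :=
        isPreprimitive_of_is_two_pretransitive h2
      have h3 := hG.isMultiplyPreprimitive hsm (by rw [hcardα]; omega) hprim
      haveI := h3.isMultiplyPretransitive
      exact isMultiplyPretransitive_of_le (n := n + 2) (m := n + 1) (by omega) (by rw [hcardα]; omega)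
  exact comb s hsm hmt h2'

end Cfsg.Agent.S0712
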