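import Cfsg.Statements.S0714
import Mathlib
import Cfsg.Agent.Lib.Lead.NormMT7

set_option autoImplicit false
open Cfsg
open Cfsg.Agent.Lib.Lead

namespace Cfsg.Agent.S0714

/-- Over any field, the permutation module of the alternating group of degree at least 5 has exactly four invariant subspaces: zero, the constant functions, the functions with coordinate sum zero, and everything. -/
theorem result {α : Type*} [Fintype α] [DecidableEq α] (hα : 5 ≤ Fintype.card α) {K : Type*} [Field K] (W : Subrepresentation (Cfsg.permRep K (alternatingGroup α) α)) : W.toSubmodule = ⊥ ∨ W = Cfsg.permConstants K (alternatingGroup α) α ∨ W = Cfsg.permSumZero K (alternatingGroup α) α ∨ W.toSubmodule = ⊤ := by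
  classical
  -- closure under precomposition with even permutations
  have hcomp : ∀ σ : Equiv.Perm α, σ ∈ alternatingGroup α → ∀ f ∈ W.toSubmodule,
      (fun x => f (σ x)) ∈ W.toSubmodule := by
    intro σ hσ f hf
    have := W.apply_mem_toSubmodule
      (⟨σ⁻¹, (alternatingGroup α).inv_mem hσ⟩ : alternatingGroup α) hf
    have e : (Cfsg.permRep K (alternatingGroup α) α
        (⟨σ⁻¹, (alternatingGroup α).inv_mem hσ⟩ : alternatingGroup α)) f = fun x => f (σ x) := by
      funext x
      change f ((⟨σ⁻¹, (alternatingGroup α).inv_mem hσ⟩ : alternatingGroup α)⁻¹ • x) = f (σ x)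
      have e0 : (⟨σ⁻¹, (alternatingGroup α).inv_mem hσ⟩ : alternatingGroup α)⁻¹ • x = σ x := by
        change (σ⁻¹)⁻¹ x = σ x
        rw [inv_inv]
      rw [e0]
    rw [e] at this
    exact this
  have hswap2 : ∀ a b c d : α, a ≠ b → c ≠ d →
      Equiv.swap a b * Equiv.swap c d ∈ alternatingGroup α := by
    intro a b c d hab hcd
    rw [Equiv.Perm.mem_alternatingGroup, Equiv.Perm.sign_mul, Equiv.Perm.sign_swap hab,
      Equiv.Perm.sign_swap hcd]
    rfl
  have h2t : MulAction.IsMultiplyPretransitive (alternatingGroup α) α 2 := by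
    have := alternatingGroup.isMultiplyPretransitive α
    exact MulAction.isMultiplyPretransitive_of_le (n := Nat.card α - 2)
      (by rw [Nat.card_eq_fintype_card]; omega) (by omega)
  by_cases hconst : ∀ w ∈ W.toSubmodule, ∀ i j : α, w i = w j
  · -- W inside the constants
    by_cases hbot : W.toSubmodule = ⊥
    · exact Or.inl hbot
    · right; left
      apply Subrepresentation.toSubmodule_injective
      change W.toSubmodule = Submodule.span K {fun _ => (1 : K)}
      apply le_antisymm
      · intro w hw
        rw [Submodule.mem_span_singleton]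
        have hne : Nonempty α := by
          rw [← Fintype.card_pos_iff]; omega
        obtain ⟨x₀⟩ := hne
        refine ⟨w x₀, ?_⟩
        funext x
        simp only [Pi.smul_apply, smul_eq_mul, mul_one]
        exact hconst w hw x₀ x
      · rw [Submodule.span_singleton_le_iff_mem]
        obtain ⟨w, hw, hw0⟩ := (Submodule.ne_bot_iff _).mp hbot
        have hne : Nonempty α := by
          rw [← Fintype.card_pos_iff]; omega
        obtain ⟨x₀⟩ := hne
        have hwx : w x₀ ≠ 0 := by
          intro h
          apply hw0
          funext x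
          rw [← hconst w hw x₀ x, h]
          rfl
        have : (fun _ => (1 : K)) = (w x₀)⁻¹ • w := by
          funext x
          simp only [Pi.smul_apply, smul_eq_mul]
          rw [← hconst w hw x₀ x, inv_mul_cancel₀ hwx]
        rw [this]
        exact W.toSubmodule.smul_mem _ hw
  · push Not at hconst
    obtain ⟨w, hw, i, j, hij⟩ := hconst
    have hijne : i ≠ j := by
      rintro rfl
      exact hij rfl
    right; right
    -- three further points
    have h5 : 5 ≤ Nat.card α := by rw [Nat.card_eq_fintype_card]; exact hα
    obtain ⟨l, hli, hlj⟩ := NormMT.exists_ne2 (by omega) i j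
    obtain ⟨m, hmi, hmj, hml⟩ := NormMT.exists_ne3 (by omega) i j l
    obtain ⟨m', hm'i, hm'j, hm'l, hm'm⟩ := NormMT.exists_ne4 h5 i j l m
    -- σ = 3-cycle i → j → l → i
    have hσ : Equiv.swap i l * Equiv.swap i j ∈ alternatingGroup α := hswap2 _ _ _ _ hli.symm hijne
    have hv : (fun x => w ((Equiv.swap i l * Equiv.swap i j) x) - w x) ∈ W.toSubmodule :=
      W.toSubmodule.sub_mem (hcomp _ hσ w hw) hw
    set v : α → K := fun x => w ((Equiv.swap i l * Equiv.swap i j) x) - w x with hvdef
    have hvi : v i = w j - w i := by
      simp only [hvdef, Equiv.Perm.mul_apply, Equiv.swap_apply_left]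
      rw [Equiv.swap_apply_of_ne_of_ne hijne.symm hlj.symm]
    have hvi0 : v i ≠ 0 := by
      rw [hvi]
      intro h
      exact hij (sub_eq_zero.mp h).symm
    have hvm : v m = 0 := by
      simp only [hvdef, Equiv.Perm.mul_apply]
      rw [Equiv.swap_apply_of_ne_of_ne hmi hmj, Equiv.swap_apply_of_ne_of_ne hmi hml, sub_self]
    have hvm' : v m' = 0 := by
      simp only [hvdef, Equiv.Perm.mul_apply]
      rw [Equiv.swap_apply_of_ne_of_ne hm'i hm'j, Equiv.swap_apply_of_ne_of_ne hm'i hm'l, sub_self]
    -- ρ' = 3-cycle i → m → m' → i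
    have hρ : Equiv.swap i m * Equiv.swap m m' ∈ alternatingGroup α :=
      hswap2 _ _ _ _ hmi.symm hm'm.symm
    have hu : (fun x => v ((Equiv.swap i m * Equiv.swap m m') x) - v x) ∈ W.toSubmodule :=
      W.toSubmodule.sub_mem (hcomp _ hρ v hv) hv
    have hueq : (fun x => v ((Equiv.swap i m * Equiv.swap m m') x) - v x) =
        (v i) • (Pi.single m' 1 - Pi.single i 1 : α → K) := by
      funext x
      simp only [Equiv.Perm.mul_apply, Pi.smul_apply, Pi.sub_apply, smul_eq_mul]
      by_cases hxi : x = i
      · subst hxi
        rw [Equiv.swap_apply_of_ne_of_ne hmi.symm hm'i.symm, Equiv.swap_apply_left, hvm,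
          Pi.single_eq_same, Pi.single_eq_of_ne hm'i.symm]
        ring
      · by_cases hxm : x = m
        · subst hxm
          rw [Equiv.swap_apply_left, Equiv.swap_apply_of_ne_of_ne hm'i hm'm, hvm', hvm,
            Pi.single_eq_of_ne hm'm.symm, Pi.single_eq_of_ne hmi]
          ring
        · by_cases hxm' : x = m'
          · subst hxm'
            rw [Equiv.swap_apply_right, Equiv.swap_apply_right, hvm',
              Pi.single_eq_same, Pi.single_eq_of_ne hm'i]
            ring
          · rw [Equiv.swap_apply_of_ne_of_ne hxm hxm', Equiv.swap_apply_of_ne_of_ne hxi hxm,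
              Pi.single_eq_of_ne hxm', Pi.single_eq_of_ne hxi]
            ring
    rw [hueq] at hu
    have hdiff0 : (Pi.single m' 1 - Pi.single i 1 : α → K) ∈ W.toSubmodule := by
      have := W.toSubmodule.smul_mem (v i)⁻¹ hu
      rwa [smul_smul, inv_mul_cancel₀ hvi0, one_smul] at this
    -- all differences
    have hdiff : ∀ c d : α, c ≠ d → (Pi.single c 1 - Pi.single d 1 : α → K) ∈ W.toSubmodule := by
      intro c d hcd
      obtain ⟨⟨σ, hσ⟩, hσc, hσd⟩ := NormMT.two_trans_elem h2t hcd hm'i
      change σ c = m' at hσc
      change σ d = i at hσd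
      have := hcomp σ hσ _ hdiff0
      have e : (fun x => (Pi.single m' 1 - Pi.single i 1 : α → K) (σ x)) =
          (Pi.single c 1 - Pi.single d 1 : α → K) := by
        funext x
        simp only [Pi.sub_apply, Pi.single_apply]
        have e1 : (σ x = m') ↔ x = c := by
          rw [← hσc]; exact σ.injective.eq_iff
        have e2 : (σ x = i) ↔ x = d := by
          rw [← hσd]; exact σ.injective.eq_iff
        simp only [e1, e2]
      rw [e] at this
      exact this
    -- sum-zero inside W
    have hsz : (Cfsg.permSumZero K (alternatingGroup α) α).toSubmodule ≤ W.toSubmodule := by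
      intro f hf
      have hf0 : ∑ x, f x = 0 := hf
      have hrepr : f = ∑ x, f x • (Pi.single x 1 - Pi.single i 1 : α → K) := by
        funext y
        simp only [Finset.sum_apply, Pi.smul_apply, Pi.sub_apply, smul_eq_mul, mul_sub,
          Finset.sum_sub_distrib, Pi.single_apply, mul_ite, mul_one, mul_zero]
        rw [Finset.sum_ite_eq Finset.univ y]
        simp only [Finset.mem_univ, if_true]
        by_cases hyi : y = i
        · simp [hyi, hf0]
        · simp [hyi]
      rw [hrepr]
      apply Submodule.sum_mem
      intro x _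
      by_cases hxi : x = i
      · rw [hxi, sub_self, smul_zero]
        exact W.toSubmodule.zero_mem
      · exact W.toSubmodule.smul_mem _ (hdiff x i hxi)
    by_cases hall : ∀ f ∈ W.toSubmodule, ∑ x, f x = 0
    · left
      apply Subrepresentation.toSubmodule_injective
      apply le_antisymm
      · intro f hf
        exact hall f hf
      · exact hsz
    · right
      push Not at hall
      obtain ⟨f₀, hf₀, hs⟩ := hall
      rw [eq_top_iff]
      intro f _
      have h1 : f - ((∑ x, f x) * (∑ x, f₀ x)⁻¹) • f₀ ∈
          (Cfsg.permSumZero K (alternatingGroup α) α).toSubmodule := by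
        change ∑ x, (f - ((∑ x, f x) * (∑ x, f₀ x)⁻¹) • f₀) x = 0
        simp only [Pi.sub_apply, Pi.smul_apply, smul_eq_mul, Finset.sum_sub_distrib,
          ← Finset.mul_sum]
        rw [mul_assoc, inv_mul_cancel₀ hs, mul_one, sub_self]
      have h2 := W.toSubmodule.add_mem (hsz h1) (W.toSubmodule.smul_mem
        ((∑ x, f x) * (∑ x, f₀ x)⁻¹) hf₀)
      rwa [sub_add_cancel] at h2

end Cfsg.Agent.S0714
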