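import Cfsg.Statements.S0716
import Mathlib
import Cfsg.Agent.Lib.Helper2.PermChar4

set_option autoImplicit false
open Cfsg

namespace Cfsg.Agent.S0716

/-- (a) If all non-principal irreducible constituents of the permutation character of a transitive group have the same degree `f`, the character is multiplicity-free and all non-trivial subdegrees equal `f`. (b) A transitive group of rank at most 5 has multiplicity-free permutation character. -/
theorem result {G : Type*} [Group G] [Fintype G] {Ω : Type*} [Fintype Ω] [MulAction G Ω] [MulAction.IsPretransitive G Ω] (a : Ω) : ((f : ℕ) → (∀ χ : G → ℂ, Cfsg.IsIrrCharacter G χ → χ ≠ (fun _ => 1) → Cfsg.classInner (fun g : G => (Nat.card (MulAction.fixedBy Ω g) : ℂ)) χ ≠ 0 → χ 1 = f) → (∀ χ : G → ℂ, Cfsg.IsIrrCharacter G χ → Cfsg.classInner (fun g : G => (Nat.card (MulAction.fixedBy Ω g) : ℂ)) χ = 0 ∨ Cfsg.classInner (fun g : G => (Nat.card (MulAction.fixedBy Ω g) : ℂ)) χ = 1) ∧ ∀ b : Ω, b ≠ a → Nat.card (MulAction.orbit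 (MulAction.stabilizer G a) b) = f) ∧ (Nat.card (MulAction.orbitRel.Quotient (MulAction.stabilizer G a) Ω) ≤ 5 → ∀ χ : G → ℂ, Cfsg.IsIrrCharacter G χ → Cfsg.classInner (fun g : G => (Nat.card (MulAction.fixedBy Ω g) : ℂ)) χ = 0 ∨ Cfsg.classInner (fun g : G => (Nat.card (MulAction.fixedBy Ω g) : ℂ)) χ = 1) := by
  classical
  refine ⟨fun f hf => Cfsg.Agent.Lib.Helper2.PermChar.multFree_of_same_degree a f hf, ?_⟩
  intro hrank χ hχ
  let _ : Fintype (Cfsg.IrrCharacter G) := Fintype.ofFinite _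
  obtain ⟨m, hm, hm1, hr⟩ := Cfsg.Agent.Lib.Helper2.PermChar.exists_mult (G := G) a
  have hirr1 : Cfsg.IsIrrCharacter G (fun _ => (1 : ℂ)) :=
    Cfsg.Agent.Lib.Helper1.isIrrCharacter_of_hom (1 : G →* ℂˣ)
  set χ₀ : Cfsg.IrrCharacter G := ⟨fun _ => 1, hirr1⟩ with hχ₀
  set χ₁ : Cfsg.IrrCharacter G := ⟨χ, hχ⟩ with hχ₁
  have hm0 : m χ₀ = 1 := hm1 χ₀ rfl
  have hmχ := hm χ₁
  have hmχ' : Cfsg.classInner (fun g : G => (Nat.card (MulAction.fixedBy Ω g) : ℂ)) χ = m χ₁ := hmχ
  by_cases hle : m χ₁ ≤ 1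
  · rcases Nat.le_one_iff_eq_zero_or_eq_one.1 hle with h | h
    · left
      rw [hmχ', h, Nat.cast_zero]
    · right
      rw [hmχ', h, Nat.cast_one]
  · exfalso
    have h2 : 2 ≤ m χ₁ := by omega
    have hne : χ₁ ≠ χ₀ := by
      intro h
      rw [h, hm0] at h2
      omega
    have hmem : χ₁ ∈ Finset.univ.erase χ₀ := Finset.mem_erase.2 ⟨hne, Finset.mem_univ _⟩
    rw [hr, ← Finset.add_sum_erase Finset.univ _ (Finset.mem_univ χ₀), hm0,
      ← Finset.add_sum_erase _ _ hmem] at hrank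
    have h4 : 4 ≤ m χ₁ ^ 2 := by
      rw [sq]
      exact Nat.mul_le_mul h2 h2
    have hrest : ∑ ψ ∈ (Finset.univ.erase χ₀).erase χ₁, m ψ ^ 2 = 0 := by omega
    rw [Finset.sum_eq_zero_iff] at hrest
    obtain ⟨f, -, hf1⟩ := Cfsg.Agent.Lib.Helper4.irr_apply_one_pos hχ
    have hkey := Cfsg.Agent.Lib.Helper2.PermChar.multFree_of_same_degree (G := G) a f ?_
    · rcases hkey.1 χ hχ with h | h
      · rw [hmχ'] at h
        have : m χ₁ = 0 := by exact_mod_cast h
        omega
      · rw [hmχ'] at h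
        have : m χ₁ = 1 := by exact_mod_cast h
        omega
    · intro ψ hψ hψ1 hψ0
      by_cases hψχ : ψ = χ
      · rw [hψχ]
        exact hf1
      · exfalso
        apply hψ0
        have hmem2 : (⟨ψ, hψ⟩ : Cfsg.IrrCharacter G) ∈ (Finset.univ.erase χ₀).erase χ₁ := by
          refine Finset.mem_erase.2 ⟨?_, Finset.mem_erase.2 ⟨?_, Finset.mem_univ _⟩⟩
          · intro h
            exact hψχ (congrArg Subtype.val h)
          · intro h
            exact hψ1 (congrArg Subtype.val h)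
        have := hrest _ hmem2
        have h0 : m ⟨ψ, hψ⟩ = 0 := by
          rcases Nat.eq_zero_or_pos (m ⟨ψ, hψ⟩) with h | h
          · exact h
          · exfalso
            have : 0 < m ⟨ψ, hψ⟩ ^ 2 := Nat.pow_pos h
            omega
        have h5 := hm ⟨ψ, hψ⟩
        rw [h0, Nat.cast_zero] at h5
        exact h5

end Cfsg.Agent.S0716
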