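import Cfsg.Statements.S0720
import Cfsg.Agent.Lib.Helper7.W2p5

set_option autoImplicit false
open Cfsg

namespace Cfsg.Agent.S0720

/-- Wielandt's Theorem on primitive groups of degree `2p`: such a group is doubly transitive, or it has rank 3, `p = 2a² + 2a + 1`, and subdegrees `a(2a+1)` and `(a+1)(2a+1)`. -/
theorem result {α : Type*} [Fintype α] [DecidableEq α] {p : ℕ} (hp : p.Prime) (hα : Fintype.card α = 2 * p) (G : Subgroup (Equiv.Perm α)) (hG : MulAction.IsPreprimitive G α) (a₀ : α) : MulAction.IsMultiplyPretransitive G α 2 ∨ (Nat.card (MulAction.orbitRel.Quotient (MulAction.stabilizer G a₀) α) = 3 ∧ ∃ a : ℕ, 0 < a ∧ p = 2 * a ^ 2 + 2 * a + 1 ∧ ∀ b : α, b ≠ a₀ → Nat.card (MulAction.orbit (MulAction.stabilizer G a₀) b) = a * (2 * a + 1) ∨ Nat.card (MulAction.orbit (MulAction.stabilizer G a₀) b) = (a + 1) * (2 * a + 1)) := by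
  classical
  by_cases h2 : MulAction.IsMultiplyPretransitive G α 2
  · exact Or.inl h2
  right
  by_cases hp2 : p = 2
  · exfalso
    apply h2
    rw [hp2] at hα
    exact Cfsg.Agent.H7W2p.two_trans_of_card_four hα G hG a₀
  obtain ⟨x, hx, hsq, hself, hsemi⟩ := Cfsg.Agent.H7W2p.partA hp hp2 hα G hG h2
  have : Fintype G := Fintype.ofFinite _
  exact Cfsg.Agent.H7W2p.main_abstract (G := G) (Ω := α) hG hp hp2 hα x hx hsq hself hsemi h2 a₀

end Cfsg.Agent.S0720
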