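import Cfsg.Statements.S0723
import Mathlib
import Mathlib
import Cfsg.Agent.Lib.Helper2.MinNormalPower
import Cfsg.Agent.Lib.Helper2.OS9

set_option autoImplicit false
open Cfsg

namespace Cfsg.Agent.S0723

/-- A type-0 carrier without any algebraic instances. -/
def Carrier (n : ℕ) : Type := Fin n

/-- The core of the O'Nan–Scott Theorem. Let `H` be a primitive permutation group on a finite set whose unique minimal normal subgroup `N` is non-abelian, and `K` a point stabiliser. Then there are a non-abelian simple group `T` and an isomorphism `N ≃* T^m` (`m ≥ 1`) under which `K ⊓ N` becomes either a product `∏ K_i` of proper subgroups `K_i < T`, or the set of functions constant on each block of a partition of the index set into blocks of one common size `k ≥ 2`. -/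
theorem result {α : Type*} [Finite α] (H : Subgroup (Equiv.Perm α)) [MulAction.IsPreprimitive H α] (N : Subgroup H) [N.Normal] (hN : N ≠ ⊥) (hmin : ∀ M : Subgroup H, M.Normal → M ≤ N → M = ⊥ ∨ M = N) (huniq : ∀ L : Subgroup H, L.Normal → L ≠ ⊥ → (∀ M : Subgroup H, M.Normal → M ≤ L → M = ⊥ ∨ M = L) → L = N) (hnab : ¬ IsMulCommutative N) (a : α) : ∃ (T : Type) (_ : Group T) (m : ℕ) (e : N ≃* (Fin m → T)), IsSimpleGroup T ∧ ¬ IsMulCommutative T ∧ 0 < m ∧ ((∃ K : Fin m → Subgroup T, (∀ i, K i ≠ ⊤) ∧ ∀ n : N, (n : H) ∈ MulAction.stabilizer H a ↔ ∀ i, e n i ∈ K i) ∨ (∃ (k : ℕ) (c : Fin m → Fin m), 2 ≤ k ∧ (∀ j : Fin m, Nat.card {i : Fin m // c i = j} = k ∨ Nat.card {i : Fin m // c i = j} = 0) ∧ ∀ n : N, (n : H) ∈ MulAction.stabilizer H a ↔ ∀ i j : Fin m, c i = c j → e n i = e n j)) := by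
  classical
  obtain ⟨T₀, m, hsimple, hm, ⟨e₀⟩⟩ :=
    Cfsg.Agent.Lib.Helper2.MinNormalPower.exists_equiv_pi N hN hmin
  have hT : ∃ a b : ↥T₀, a * b ≠ b * a := by
    by_contra hcon
    push Not at hcon
    apply hnab
    refine ⟨⟨fun x y => ?_⟩⟩
    apply e₀.injective
    rw [map_mul, map_mul]
    funext i
    exact hcon _ _
  have key := Cfsg.Agent.Lib.Helper2.OS.transport H N a e₀ hN hmin hT
  let eq₀ : ↥T₀ ≃ Carrier (Nat.card ↥T₀) := Finite.equivFin ↥T₀
  letI inst : Group (Carrier (Nat.card ↥T₀)) := eq₀.symm.group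
  let e₁ : Carrier (Nat.card ↥T₀) ≃* ↥T₀ := eq₀.symm.mulEquiv
  have hsimp : IsSimpleGroup (Carrier (Nat.card ↥T₀)) := e₁.isSimpleGroup
  have hnc : ¬ IsMulCommutative (Carrier (Nat.card ↥T₀)) := by
    intro hc
    obtain ⟨x, y, hxy⟩ := hT
    apply hxy
    have h1 := hc.is_comm.comm (e₁.symm x) (e₁.symm y)
    have h2 := congrArg e₁ h1
    rw [map_mul, map_mul, e₁.apply_symm_apply, e₁.apply_symm_apply] at h2
    exact h2
  rcases key with ⟨K, hK, hx⟩ | ⟨θ, k, c, hk, hc, hx⟩
  · refine ⟨Carrier (Nat.card ↥T₀), inst, m,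
      e₀.trans (MulEquiv.piCongrRight fun _ => e₁.symm), hsimp, hnc, hm, Or.inl ?_⟩
    refine ⟨fun i => (K i).comap e₁.toMonoidHom, ?_, ?_⟩
    · intro i htop
      have htop : (K i).comap e₁.toMonoidHom = ⊤ := htop
      apply hK i
      rw [eq_top_iff]
      intro y _
      have : e₁.symm y ∈ (K i).comap e₁.toMonoidHom := htop ▸ Subgroup.mem_top _
      rw [Subgroup.mem_comap] at this
      have h2 : e₁.toMonoidHom (e₁.symm y) = y := e₁.apply_symm_apply y
      rw [h2] at this
      exact this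
    · intro n
      rw [hx n]
      constructor
      · intro h i
        rw [Subgroup.mem_comap]
        show e₁ (e₁.symm (e₀ n i)) ∈ K i
        rw [e₁.apply_symm_apply]
        exact h i
      · intro h i
        have := h i
        rw [Subgroup.mem_comap] at this
        have h2 : e₁ (e₁.symm (e₀ n i)) ∈ K i := this
        rw [e₁.apply_symm_apply] at h2
        exact h2
  · refine ⟨Carrier (Nat.card ↥T₀), inst, m,
      e₀.trans (MulEquiv.piCongrRight fun i => (θ i).trans e₁.symm), hsimp, hnc, hm, Or.inr ?_⟩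
    refine ⟨k, c, hk, hc, ?_⟩
    intro n
    rw [hx n]
    constructor
    · intro h i j hij
      show e₁.symm (θ i (e₀ n i)) = e₁.symm (θ j (e₀ n j))
      rw [h i j hij]
    · intro h i j hij
      have := h i j hij
      have h2 : e₁.symm (θ i (e₀ n i)) = e₁.symm (θ j (e₀ n j)) := this
      exact e₁.symm.injective h2

end Cfsg.Agent.S0723
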