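import Cfsg.Statements.S0724
import Mathlib


set_option autoImplicit false
open Cfsg

namespace Cfsg.Agent.S0724


theorem card_fixedBy_pi {α : Type*} [Finite α] {G : Type*} [Group G] [MulAction G α] (k : ℕ)
    (g : G) :
    Nat.card (MulAction.fixedBy (Fin k → α) g) = (Nat.card (MulAction.fixedBy α g)) ^ k := by
  have e : MulAction.fixedBy (Fin k → α) g ≃ (Fin k → MulAction.fixedBy α g) :=
    { toFun := fun f i => ⟨f.1 i, by
        have h := f.2
        rw [MulAction.mem_fixedBy] at h ⊢
        exact congrFun h i⟩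
      invFun := fun f => ⟨fun i => (f i).1, by
        rw [MulAction.mem_fixedBy]
        funext i
        exact (f i).2⟩
      left_inv := fun f => rfl
      right_inv := fun f => rfl }
  rw [Nat.card_congr e, Nat.card_fun]
  simp

theorem dvd_sum_pow (G : Type*) [Group G] [Fintype G] {α : Type*} [Finite α] [MulAction G α]
    (k : ℕ) :
    (Fintype.card G : ℤ) ∣ ∑ g : G, (Nat.card (MulAction.fixedBy α g) : ℤ) ^ k := by
  classical
  haveI : Fintype α := Fintype.ofFinite α
  haveI : ∀ g : G, Fintype (MulAction.fixedBy (Fin k → α) g) := fun g => Fintype.ofFinite _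
  haveI : Fintype (Quotient (MulAction.orbitRel G (Fin k → α))) := Fintype.ofFinite _
  have h := MulAction.sum_card_fixedBy_eq_card_orbits_mul_card_group G (Fin k → α)
  have h2 : ∑ g : G, (Nat.card (MulAction.fixedBy α g) : ℤ) ^ k =
      ((∑ g : G, Fintype.card (MulAction.fixedBy (Fin k → α) g) : ℕ) : ℤ) := by
    rw [Nat.cast_sum]
    apply Finset.sum_congr rfl
    intro g _
    rw [← Nat.card_eq_fintype_card, card_fixedBy_pi, Nat.cast_pow]
  rw [h2, h, Nat.cast_mul]
  exact dvd_mul_left _ _

theorem dvd_sum_eval (G : Type*) [Group G] [Fintype G] {α : Type*} [Finite α] [MulAction G α]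
    (P : Polynomial ℤ) :
    (Fintype.card G : ℤ) ∣ ∑ g : G, P.eval (Nat.card (MulAction.fixedBy α g) : ℤ) := by
  simp_rw [Polynomial.eval_eq_sum_range]
  rw [Finset.sum_comm]
  apply Finset.dvd_sum
  intro i _
  rw [← Finset.mul_sum]
  exact Dvd.dvd.mul_left (dvd_sum_pow G i) _

/-- Blichfeldt's Theorem: if a finite set `L` of natural numbers contains the number of fixed points of every non-identity element of a permutation group `G` of degree `n`, then the order of `G` divides `∏ (n - l)` over `l ∈ L`. -/
theorem result {α : Type*} [Fintype α] [DecidableEq α] (G : Subgroup (Equiv.Perm α)) (L : Finset ℕ) (hL : ∀ g ∈ G, g ≠ 1 → Nat.card (MulAction.fixedBy α g) ∈ L) : Nat.card G ∣ ∏ l ∈ L, (Fintype.card α - l) := by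
  classical
  by_cases hex : ∃ l ∈ L, Fintype.card α < l
  · obtain ⟨l, hl, hlt⟩ := hex
    rw [Finset.prod_eq_zero hl (Nat.sub_eq_zero_of_le hlt.le)]
    exact dvd_zero _
  · push Not at hex
    haveI : Fintype G := Fintype.ofFinite G
    have h := dvd_sum_eval G (α := α) (∏ l ∈ L, (Polynomial.X - Polynomial.C (l : ℤ)))
    have hfix1 : Nat.card (MulAction.fixedBy α (1 : G)) = Fintype.card α := by
      rw [MulAction.fixedBy_one_eq_univ, ← Nat.card_eq_fintype_card]
      exact Nat.card_congr (Equiv.Set.univ α)
    rw [Finset.sum_eq_single (1 : G)] at h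
    · rw [hfix1, Polynomial.eval_prod] at h
      simp only [Polynomial.eval_sub, Polynomial.eval_X, Polynomial.eval_C] at h
      have hc : ((∏ l ∈ L, (Fintype.card α - l) : ℕ) : ℤ) = ∏ l ∈ L, ((Fintype.card α : ℤ) - l) := by
        rw [Nat.cast_prod]
        apply Finset.prod_congr rfl
        intro l hl
        rw [Nat.cast_sub (hex l hl)]
      rw [← hc, ← Nat.card_eq_fintype_card] at h
      exact Int.natCast_dvd_natCast.mp h
    · intro g _ hg
      rw [Polynomial.eval_prod]
      have hgL := hL g.1 g.2 (fun h1 => hg (Subtype.ext h1))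
      have hfe : Nat.card (MulAction.fixedBy α g) = Nat.card (MulAction.fixedBy α (g : Equiv.Perm α)) := rfl
      apply Finset.prod_eq_zero hgL
      rw [hfe, Polynomial.eval_sub, Polynomial.eval_X, Polynomial.eval_C, sub_self]
    · intro h1; exact absurd (Finset.mem_univ _) h1

end Cfsg.Agent.S0724
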