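import Cfsg.Statements.S0726
import Mathlib

set_option autoImplicit false
open Cfsg

namespace Cfsg.Agent.S0726

/-- The left and right regular permutation representations of a group are each other's centralisers in the symmetric group: the centraliser of the left regular image is the right regular image, and a transitive subgroup centralising the left regular image is the whole right regular image. -/
theorem result {G : Type*} [Group G] : Subgroup.centralizer ((MulAction.toPermHom G G).range : Set (Equiv.Perm G)) = (MulAction.toPermHom Gᵐᵒᵖ G).range ∧ ∀ H : Subgroup (Equiv.Perm G), H ≤ Subgroup.centralizer ((MulAction.toPermHom G G).range : Set (Equiv.Perm G)) → MulAction.IsPretransitive H G → H = (MulAction.toPermHom Gᵐᵒᵖ G).range := by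
  have hL : ∀ (h x : G), MulAction.toPermHom G G h x = h * x := fun h x => rfl
  have hR : ∀ (g x : G), MulAction.toPermHom Gᵐᵒᵖ G (MulOpposite.op g) x = x * g := fun g x => rfl
  -- elements of the centralizer are right multiplications
  have key : ∀ c ∈ Subgroup.centralizer ((MulAction.toPermHom G G).range : Set (Equiv.Perm G)),
      c = MulAction.toPermHom Gᵐᵒᵖ G (MulOpposite.op (c 1)) := by
    intro c hc
    rw [Subgroup.mem_centralizer_iff] at hc
    ext x
    have := hc (MulAction.toPermHom G G x) ⟨x, rfl⟩
    have h2 := congrArg (fun f : Equiv.Perm G => f 1) this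
    simp only [Equiv.Perm.mul_apply, hL, mul_one] at h2
    rw [hR, ← h2]
  have h1 : Subgroup.centralizer ((MulAction.toPermHom G G).range : Set (Equiv.Perm G)) =
      (MulAction.toPermHom Gᵐᵒᵖ G).range := by
    apply le_antisymm
    · intro c hc
      exact ⟨MulOpposite.op (c 1), (key c hc).symm⟩
    · rintro _ ⟨g, rfl⟩
      rw [Subgroup.mem_centralizer_iff]
      rintro _ ⟨h, rfl⟩
      ext x
      simp only [Equiv.Perm.mul_apply, hL]
      rw [← MulOpposite.op_unop g, hR, hR, mul_assoc]
  refine ⟨h1, ?_⟩
  intro H hH htr
  apply le_antisymm (h1 ▸ hH)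
  rintro _ ⟨g, rfl⟩
  obtain ⟨c, hc⟩ := htr.exists_smul_eq (1 : G) (MulOpposite.unop g)
  have hc' : (c : Equiv.Perm G) 1 = MulOpposite.unop g := hc
  have := key c (hH c.2)
  rw [hc', MulOpposite.op_unop] at this
  rw [← this]
  exact c.2

end Cfsg.Agent.S0726
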