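import Cfsg.Statements.S0729
import Mathlib
import Cfsg.Agent.Lib.Helper2.S3T16

set_option autoImplicit false
open Cfsg

namespace Cfsg.Agent.S0729

open Cfsg.Agent.Lib.Helper2.S3T

/-- In a sharply triply transitive group of even degree at least 6, the two-point stabiliser `H = G_{a,b}` has a normal subgroup of index 2 that is normalised by the element `s` interchanging `a, b` and fixing a third point `c`. -/
theorem result {α : Type*} [Fintype α] [DecidableEq α] (heven : Even (Fintype.card α)) (h6 : 6 ≤ Fintype.card α) (G : Subgroup (Equiv.Perm α)) (h3 : MulAction.IsMultiplyPretransitive G α 3) (hsharp : ∀ x : Fin 3 ↪ α, MulAction.stabilizer G x = ⊥) {a b c : α} (hab : a ≠ b) (hac : a ≠ c) (hbc : b ≠ c) (s : G) (hsa : s • a = b) (hsb : s • b = a) (hsc : s • c = c) : ∃ N : Subgroup G, N ≤ MulAction.stabilizer G a ⊓ MulAction.stabilizer G b ∧ (N.subgroupOf (MulAction.stabilizer G a ⊓ MulAction.stabilizer G b)).Normal ∧ N.relIndex (MulAction.stabilizer G a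 ⊓ MulAction.stabilizer G b) = 2 ∧ ∀ n ∈ N, s * n * s⁻¹ ∈ N := by
  classical
  obtain ⟨F, t, z, T⟩ := exists_tdata (G := G) (Ω := α) h3 hsharp heven (by omega) hab
  obtain ⟨φ, h₀, h₀a, h₀b, hφ⟩ := T.exists_linear_char
  refine ⟨φ.ker ⊓ (MulAction.stabilizer G a ⊓ MulAction.stabilizer G b), inf_le_right, ?_, ?_, ?_⟩
  · constructor
    intro n hn g
    rw [Subgroup.mem_subgroupOf] at hn ⊢
    rw [Subgroup.coe_mul, Subgroup.coe_mul, Subgroup.coe_inv]
    refine Subgroup.mem_inf.mpr ⟨?_, ?_⟩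
    · exact (MonoidHom.normal_ker φ).conj_mem _ (Subgroup.mem_inf.mp hn).1 _
    · exact Subgroup.mul_mem _ (Subgroup.mul_mem _ g.2 n.2) (Subgroup.inv_mem _ g.2)
  · exact T.relIndex_ker φ h₀a h₀b hφ
  · intro n hn
    have hnk := (Subgroup.mem_inf.mp hn).1
    have hnH := (Subgroup.mem_inf.mp hn).2
    have hna : n • a = a := memHa hnH
    have hnb : n • b = b := memHb hnH
    refine Subgroup.mem_inf.mpr ⟨(MonoidHom.normal_ker φ).conj_mem _ hnk _, ?_⟩
    refine Subgroup.mem_inf.mpr ⟨MulAction.mem_stabilizer_iff.mpr ?_,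
      MulAction.mem_stabilizer_iff.mpr ?_⟩
    · rw [mul_smul, mul_smul, inv_smul_eq_iff.mpr hsb.symm, hnb, hsb]
    · rw [mul_smul, mul_smul, inv_smul_eq_iff.mpr hsa.symm, hna, hsa]

end Cfsg.Agent.S0729
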