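import Cfsg.Statements.S0730
import Mathlib
import Cfsg.Agent.Lib.Helper2.S3T22
import Cfsg.Agent.Lib.Helper2.S3T23

set_option autoImplicit false
open Cfsg

namespace Cfsg.Agent.S0730

open Cfsg.Agent.Lib.Helper2.S3T

/-- A sharply triply transitive group of degree `p^f + 1`, `p` an odd prime and `f` odd, is isomorphic to the projective general linear group of degree 2 over the field with `p^f` elements (for even `f` there is a second, twisted, group). -/
theorem result {α : Type*} [Fintype α] [DecidableEq α] {p f : ℕ} (hp : p.Prime) (hp2 : p ≠ 2) (hfo : Odd f) (hα : Fintype.card α = p ^ f + 1) (G : Subgroup (Equiv.Perm α)) (h3 : MulAction.IsMultiplyPretransitive G α 3) (hsharp : ∀ x : Fin 3 ↪ α, MulAction.stabilizer G x = ⊥) : ∃ (F : Type) (_ : Field F) (_ : Fintype F), Fintype.card F = p ^ f ∧ Nonempty (G ≃* Matrix.ProjGenLinGroup (Fin 2) F) := by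
  classical
  have hpodd : Odd p := hp.odd_of_ne_two hp2
  have hqodd : Odd (p ^ f) := hpodd.pow
  have hf1 : 1 ≤ f := by
    obtain ⟨k, hk⟩ := hfo
    omega
  have hq3 : 3 ≤ p ^ f := by
    have h1 : 3 ≤ p := by
      have := hp.two_le
      omega
    calc 3 ≤ p := h1
      _ = p ^ 1 := (pow_one p).symm
      _ ≤ p ^ f := Nat.pow_le_pow_right (by omega) hf1
  by_cases hq : p ^ f = 3
  · obtain ⟨K, instK, instFK, hK, hiso⟩ := pgl_of_card_four (G := G) (Ω := α) h3 hsharp
      (by rw [hα, hq])
    exact ⟨K, instK, instFK, by rw [hK, hq], hiso⟩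
  · have hq5 : 5 ≤ p ^ f := by
      obtain ⟨k, hk⟩ := hqodd
      omega
    have heven : Even (Fintype.card α) := by
      rw [hα]
      exact hqodd.add_one
    have hex : ∃ a b : α, a ≠ b := by
      have h1 : 1 < Fintype.card α := by omega
      exact Fintype.one_lt_card_iff.mp h1
    obtain ⟨a, b, hab⟩ := hex
    obtain ⟨F, t, z, T⟩ := exists_tdata (G := G) (Ω := α) h3 hsharp heven (by omega) hab
    have hqq : Fintype.card α - 1 = p ^ f := by omega
    exact T.pgl_of_odd_exp h3 hsharp (by omega) hp hfo hqq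

end Cfsg.Agent.S0730
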