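import Cfsg.Statements.S0731
import Mathlib
import Mathlib
import Cfsg.Agent.Lib.Helper2.ZP14

set_option autoImplicit false
open Cfsg

namespace Cfsg.Agent.S0731

open MulAction Cfsg.Agent.Lib.Lead.Zass Cfsg.Agent.Lib.Helper2.FZ Cfsg.Agent.Lib.Helper2.ZP

/-- A finite Zassenhaus group whose point stabiliser has an abelian regular normal subgroup on the remaining points is sharply triply transitive or isomorphic to `PSL(2, F)` for a finite field `F` of odd characteristic. -/
theorem result {G Ω : Type*} [Group G] [Finite G] [MulAction G Ω] [Finite Ω] (hZ : Cfsg.IsZassenhausGroup G Ω) (x : Ω) (F : Subgroup G) (hFle : F ≤ MulAction.stabilizer G x) (hFn : (F.subgroupOf (MulAction.stabilizer G x)).Normal) (hFab : IsMulCommutative F) (hreg : ∀ y z : Ω, y ≠ x → z ≠ x → ∃! u : F, (u : G) • y = z) : (MulAction.IsMultiplyPretransitive G Ω 3 ∧ ∀ t : Fin 3 ↪ Ω, MulAction.stabilizer G t = ⊥) ∨ ∃ (K : Type) (_ : Field K) (_ : Fintype K), ringChar K ≠ 2 ∧ Nonempty (G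 ≃* Matrix.ProjectiveSpecialLinearGroup (Fin 2) K) := by
  classical
  letI : Fintype Ω := Fintype.ofFinite Ω
  have Z := zdata_of hZ
  obtain ⟨g₀, hg₀1, a', b', hab', -, -⟩ := hZ.2.2.2.1
  obtain ⟨b, hxb⟩ : ∃ b, x ≠ b := by
    by_cases h : a' = x
    · exact ⟨b', h ▸ hab'⟩
    · exact ⟨a', Ne.symm h⟩
  have hbx : b ≠ x := Ne.symm hxb
  have hFfix : ∀ u ∈ F, u ≠ 1 → ∀ c : Ω, u • c = c → c = x := by
    intro u hu hu1 c hc
    by_contra hcx
    apply hu1
    have := (hreg c c hcx hcx).unique (y₁ := ⟨u, hu⟩) (y₂ := 1) hc (one_smul _ _)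
    exact congrArg Subtype.val this
  have hFcard : Nat.card F + 1 = Fintype.card Ω := by
    have hcardΩ' : Nat.card {c : Ω // c ≠ x} + 1 = Fintype.card Ω := by
      rw [Nat.card_eq_fintype_card, Fintype.card_subtype_compl, Fintype.card_subtype_eq]
      have : 0 < Fintype.card Ω := Fintype.card_pos_iff.mpr ⟨x⟩
      omega
    rw [← hcardΩ']
    congr 1
    apply Nat.card_congr
    refine Equiv.ofBijective (fun u => ⟨(u : G) • b, stab_ne x (mem_stabilizer_iff.mp (hFle u.2)) hbx⟩)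
      ⟨?_, ?_⟩
    · intro u v huv
      have h1 : (u : G) • b = (v : G) • b := congrArg Subtype.val huv
      exact (hreg b ((v : G) • b) hbx
        (stab_ne x (mem_stabilizer_iff.mp (hFle v.2)) hbx)).unique h1 rfl
    · rintro ⟨c, hc⟩
      obtain ⟨u, hu, -⟩ := hreg b c hbx hc
      exact ⟨u, Subtype.ext hu⟩
  have hcomm : ∀ u ∈ F, ∀ v ∈ F, u * v = v * u := by
    intro u hu v hv
    have := hFab.is_comm.comm (⟨u, hu⟩ : F) ⟨v, hv⟩
    exact congrArg Subtype.val this
  rcases abelian_kernel hZ hxb F hFle hFcard hFfix hcomm with h | ⟨K, instK, instFK, -, hodd, hiso⟩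
  · exact Or.inl h
  · exact Or.inr ⟨K, instK, instFK, odd_char hodd, hiso⟩

end Cfsg.Agent.S0731
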