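import Cfsg.Statements.S0733
import Mathlib

set_option autoImplicit false
open Cfsg
open scoped Pointwise

namespace Cfsg.Agent.S0733

/-- A permutation group of affine type — generated by the translations of a finite vector space `V` over `ZMod p` together with a group `G₀` of linear automorphisms — is primitive on `V` if and only if `G₀` is irreducible on `V`. -/
theorem result {p : ℕ} [Fact p.Prime] {V : Type*} [AddCommGroup V] [Module (ZMod p) V] [Finite V] [Nontrivial V] (G₀ : Subgroup (V ≃ₗ[ZMod p] V)) (G : Subgroup (Equiv.Perm V)) (hG : ∀ σ : Equiv.Perm V, σ ∈ G ↔ ∃ g ∈ G₀, ∃ b : V, ∀ x : V, σ x = (g : V ≃ₗ[ZMod p] V) x + b) : MulAction.IsPreprimitive G V ↔ ∀ W : Submodule (ZMod p) V, (∀ g ∈ G₀, ∀ v ∈ W, (g : V ≃ₗ[ZMod p] V) v ∈ W) → W = ⊥ ∨ W = ⊤ := by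
  classical
  -- translations and linear parts belong to G
  have htrans_mem : ∀ b : V, (Equiv.addRight b : Equiv.Perm V) ∈ G := by
    intro b
    rw [hG]
    refine ⟨1, G₀.one_mem, b, fun x => ?_⟩
    simp
  have hlin_mem : ∀ g ∈ G₀, ((g : V ≃ₗ[ZMod p] V).toEquiv : Equiv.Perm V) ∈ G := by
    intro g hg
    rw [hG]
    refine ⟨g, hg, 0, fun x => ?_⟩
    simp
  constructor
  · intro hprim W hW
    have hblock : MulAction.IsBlock G (W : Set V) := by
      rw [MulAction.isBlock_iff_smul_eq_of_mem]
      rintro ⟨σ, hσ⟩ a ha hσa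
      obtain ⟨g, hg, b, hgb⟩ := (hG σ).mp hσ
      have hσa' : σ a ∈ W := hσa
      have hbW : b ∈ W := by
        have h1 : (g : V ≃ₗ[ZMod p] V) a ∈ W := hW g hg a ha
        have h2 : (g : V ≃ₗ[ZMod p] V) a + b ∈ W := by rw [← hgb]; exact hσa'
        have := W.sub_mem h2 h1
        simpa using this
      ext y
      constructor
      · rintro ⟨x, hx, rfl⟩
        change σ x ∈ W
        rw [hgb]
        exact W.add_mem (hW g hg x hx) hbW
      · intro hy
        have hyb : y - b ∈ W := W.sub_mem hy hbW
        refine ⟨(g⁻¹ : V ≃ₗ[ZMod p] V) (y - b), hW g⁻¹ (G₀.inv_mem hg) _ hyb, ?_⟩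
        change σ _ = y
        rw [hgb, ← LinearEquiv.mul_apply, mul_inv_cancel]
        change (y - b) + b = y
        abel
    rcases hprim.isTrivialBlock_of_isBlock hblock with h | h
    · left
      rw [eq_bot_iff]
      intro w hw
      rw [Submodule.mem_bot]
      exact h hw W.zero_mem
    · right
      rw [eq_top_iff]
      intro w _
      have : w ∈ (W : Set V) := by rw [h]; trivial
      exact this
  · intro hirr
    haveI : MulAction.IsPretransitive G V := by
      constructor
      intro x y
      refine ⟨⟨Equiv.addRight (y - x), htrans_mem _⟩, ?_⟩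
      change x + (y - x) = y
      abel
    apply MulAction.IsPreprimitive.of_isTrivialBlock_base (0 : V)
    intro B h0 hB
    rw [MulAction.isBlock_iff_smul_eq_of_mem] at hB
    -- B + b = B for b ∈ B
    have hadd : ∀ b ∈ B, ∀ x ∈ B, x + b ∈ B := by
      intro b hb x hx
      have h1 := @hB ⟨Equiv.addRight b, htrans_mem b⟩ 0 h0 (by
        change (0 : V) + b ∈ B
        rw [zero_add]; exact hb)
      rw [← h1]
      exact ⟨x, hx, rfl⟩
    have hneg : ∀ b ∈ B, -b ∈ B := by
      intro b hb
      have h1 := @hB ⟨Equiv.addRight b, htrans_mem b⟩ 0 h0 (by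
        change (0 : V) + b ∈ B
        rw [zero_add]; exact hb)
      have : (0 : V) ∈ (⟨Equiv.addRight b, htrans_mem b⟩ : G) • B := by rw [h1]; exact h0
      obtain ⟨x, hx, hx0⟩ := this
      change x + b = 0 at hx0
      have : x = -b := eq_neg_of_add_eq_zero_left hx0
      rw [← this]; exact hx
    let W₀ : AddSubgroup V :=
      { carrier := B
        zero_mem' := h0
        add_mem' := fun {x y} hx hy => hadd y hy x hx
        neg_mem' := fun {x} hx => hneg x hx }
    let W : Submodule (ZMod p) V :=
      { carrier := B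
        zero_mem' := h0
        add_mem' := fun {x y} hx hy => hadd y hy x hx
        smul_mem' := fun c x hx => by
          have : c • x = (c.val : ℕ) • x := by
            rw [← Nat.cast_smul_eq_nsmul (ZMod p), ZMod.natCast_val, ZMod.cast_id', id]
          rw [this]
          exact W₀.nsmul_mem hx _ }
    have hWinv : ∀ g ∈ G₀, ∀ v ∈ W, (g : V ≃ₗ[ZMod p] V) v ∈ W := by
      intro g hg v hv
      have h1 := @hB ⟨(g : V ≃ₗ[ZMod p] V).toEquiv, hlin_mem g hg⟩ 0 h0 (by
        change (g : V ≃ₗ[ZMod p] V) 0 ∈ B
        rw [map_zero]; exact h0)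
      change (g : V ≃ₗ[ZMod p] V) v ∈ B
      rw [← h1]
      exact ⟨v, hv, rfl⟩
    rcases hirr W hWinv with h | h
    · left
      intro x hx y hy
      have hx' : x ∈ W := hx
      have hy' : y ∈ W := hy
      rw [h, Submodule.mem_bot] at hx' hy'
      rw [hx', hy']
    · right
      ext x
      constructor
      · intro _; trivial
      · intro _
        have : x ∈ W := by rw [h]; trivial
        exact this

end Cfsg.Agent.S0733
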