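import Cfsg.Statements.S0734
import Mathlib


set_option autoImplicit false
open Cfsg

namespace Cfsg.Agent.S0734

open MulAction
open scoped Pointwise

variable {G : Type*} [Group G] {Ω : Type*} [MulAction G Ω]

/-- The orbital graph of the pair `(a, b)`. -/
abbrev orb (G : Type*) [Group G] {Ω : Type*} [MulAction G Ω] (a b : Ω) : SimpleGraph Ω :=
  SimpleGraph.fromRel fun x y : Ω => ∃ g : G, g • a = x ∧ g • b = y

theorem adj_smul {a b x y : Ω} (h : (orb G a b).Adj x y) (g : G) : (orb G a b).Adj (g • x) (g • y) := by
  rw [SimpleGraph.fromRel_adj] at h ⊢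
  obtain ⟨hne, h⟩ := h
  refine ⟨fun h' => hne (smul_left_cancel g h'), ?_⟩
  rcases h with ⟨k, hk1, hk2⟩ | ⟨k, hk1, hk2⟩
  · left; exact ⟨g * k, by rw [mul_smul, hk1], by rw [mul_smul, hk2]⟩
  · right; exact ⟨g * k, by rw [mul_smul, hk1], by rw [mul_smul, hk2]⟩

theorem reachable_smul {a b x y : Ω} (h : (orb G a b).Reachable x y) (g : G) :
    (orb G a b).Reachable (g • x) (g • y) := by
  obtain ⟨w⟩ := h
  induction w with
  | nil => exact SimpleGraph.Reachable.refl _
  | cons hadj _ ih => exact (SimpleGraph.Adj.reachable (adj_smul hadj g)).trans ih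

/-- Higman's criterion for primitivity: a transitive action on a finite set is primitive if and only if every non-trivial orbital graph (edges = images of a fixed pair of distinct points) is connected. -/
theorem result {G : Type*} [Group G] {Ω : Type*} [Finite Ω] [MulAction G Ω] [MulAction.IsPretransitive G Ω] [Nontrivial Ω] : MulAction.IsPreprimitive G Ω ↔ ∀ a b : Ω, a ≠ b → (SimpleGraph.fromRel fun x y : Ω => ∃ g : G, g • a = x ∧ g • b = y).Connected := by
  constructor
  · intro hprim a b hab
    set B : Set Ω := {x | (orb G a b).Reachable a x} with hB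
    have haB : a ∈ B := SimpleGraph.Reachable.refl _
    have hadj : (orb G a b).Adj a b := by
      rw [SimpleGraph.fromRel_adj]
      exact ⟨hab, Or.inl ⟨1, one_smul _ _, one_smul _ _⟩⟩
    have hbB : b ∈ B := hadj.reachable
    have hblock : IsBlock G B := by
      rw [isBlock_iff_smul_eq_of_mem]
      intro g x hx hgx
      -- a ~ x, a ~ g x; so g a ~ g x ~ a
      have h1 : (orb G a b).Reachable (g • a) (g • x) := reachable_smul hx g
      have h2 : (orb G a b).Reachable a (g • a) := hgx.trans h1.symm
      ext y
      constructor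
      · rintro ⟨z, hz, rfl⟩
        exact h2.trans (reachable_smul hz g)
      · intro hy
        refine ⟨g⁻¹ • y, ?_, by simp⟩
        have h3 : (orb G a b).Reachable (g⁻¹ • (g • a)) (g⁻¹ • y) := reachable_smul (h2.symm.trans hy) g⁻¹
        rwa [inv_smul_smul] at h3
    rcases hprim.isTrivialBlock_of_isBlock hblock with hs | hu
    · exact absurd (hs haB hbB) hab
    · rw [SimpleGraph.connected_iff]
      refine ⟨?_, ⟨a⟩⟩
      intro x y
      have hx : x ∈ B := by rw [hu]; trivial
      have hy : y ∈ B := by rw [hu]; trivial
      exact (SimpleGraph.Reachable.symm hx).trans hy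
  · intro hconn
    refine { isTrivialBlock_of_isBlock := ?_ }
    intro B hB
    by_cases hs : B.Subsingleton
    · exact Or.inl hs
    · right
      rw [Set.not_subsingleton_iff] at hs
      obtain ⟨a, ha, b, hb, hab⟩ := hs
      have key : ∀ x y : Ω, (orb G a b).Adj x y → x ∈ B → y ∈ B := by
        intro x y hadj hx
        rw [SimpleGraph.fromRel_adj] at hadj
        obtain ⟨-, h | h⟩ := hadj
        · obtain ⟨g, rfl, rfl⟩ := h
          have := (isBlock_iff_smul_eq_of_mem.mp hB) ha hx
          rw [← this]
          exact Set.smul_mem_smul_set hb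
        · obtain ⟨g, rfl, rfl⟩ := h
          have := (isBlock_iff_smul_eq_of_mem.mp hB) hb hx
          rw [← this]
          exact Set.smul_mem_smul_set ha
      have hreach : ∀ x y : Ω, (orb G a b).Reachable x y → x ∈ B → y ∈ B := by
        intro x y h
        obtain ⟨w⟩ := h
        induction w with
        | nil => exact id
        | cons hadj _ ih => exact fun hx => ih (key _ _ hadj hx)
      ext x
      simp only [Set.mem_univ, iff_true]
      exact hreach a x ((hconn a b hab).preconnected a x) ha

end Cfsg.Agent.S0734
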