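import Cfsg.Statements.S0735
import Mathlib


set_option autoImplicit false
open Cfsg

namespace Cfsg.Agent.S0735

open MulAction
open scoped Pointwise

variable {α : Type*} [Fintype α] [DecidableEq α]

theorem hom2 (G : Subgroup (Equiv.Perm α)) (h2 : MulAction.IsPretransitive G (Set.powersetCard α 2))
    {a b x y : α} (hab : a ≠ b) (hxy : x ≠ y) :
    ∃ g : G, (g • a = x ∧ g • b = y) ∨ (g • a = y ∧ g • b = x) := by
  have h1 : ({a, b} : Finset α).card = 2 := Finset.card_pair hab
  have h2' : ({x, y} : Finset α).card = 2 := Finset.card_pair hxy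
  obtain ⟨g, hg⟩ := h2.exists_smul_eq (Set.powersetCard.ofCard h1) (Set.powersetCard.ofCard h2')
  have hg' : g • ({a, b} : Finset α) = {x, y} := by
    have := congrArg (fun s : Set.powersetCard α 2 => (s : Finset α)) hg
    have h3 : ((g • Set.powersetCard.ofCard h1 : Set.powersetCard α 2) : Finset α) =
        g • ((Set.powersetCard.ofCard h1 : Set.powersetCard α 2) : Finset α) :=
      Set.powersetCard.coe_smul
    exact h3.symm.trans this
  refine ⟨g, ?_⟩
  have ha : g • a ∈ ({x, y} : Finset α) := by
    rw [← hg']; exact Finset.smul_mem_smul_finset (by simp)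
  have hb : g • b ∈ ({x, y} : Finset α) := by
    rw [← hg']; exact Finset.smul_mem_smul_finset (by simp)
  have hne : g • a ≠ g • b := fun h => hab (smul_left_cancel g h)
  rw [Finset.mem_insert, Finset.mem_singleton] at ha hb
  rcases ha with ha | ha <;> rcases hb with hb | hb
  · exact absurd (ha.trans hb.symm) hne
  · exact Or.inl ⟨ha, hb⟩
  · exact Or.inr ⟨ha, hb⟩
  · exact absurd (ha.trans hb.symm) hne

/-- A 2-homogeneous permutation group (transitive on 2-subsets) of even order is doubly transitive; a non-trivial 2-homogeneous group is primitive. -/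
theorem result {α : Type*} [Fintype α] [DecidableEq α] (G : Subgroup (Equiv.Perm α)) (h2 : MulAction.IsPretransitive G (Set.powersetCard α 2)) (hα : 3 ≤ Fintype.card α) : (Even (Nat.card G) → MulAction.IsMultiplyPretransitive G α 2) ∧ (G ≠ ⊥ → MulAction.IsPreprimitive G α) := by
  have hthird : ∀ x y : α, ∃ z, z ≠ x ∧ z ≠ y := by
    intro x y
    by_contra hcon
    push Not at hcon
    have : (Finset.univ : Finset α) ⊆ {x, y} := by
      intro z _
      rw [Finset.mem_insert, Finset.mem_singleton]
      by_cases hz : z = x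
      · exact Or.inl hz
      · exact Or.inr (hcon z hz)
    have h1 := Finset.card_le_card this
    have h2 : ({x, y} : Finset α).card ≤ 2 := Finset.card_le_two
    rw [Finset.card_univ] at h1
    omega
  constructor
  · intro heven
    -- an involution
    obtain ⟨t, ht⟩ := exists_prime_orderOf_dvd_card' (G := G) 2 heven.two_dvd
    have ht1 : t ≠ 1 := by
      rintro rfl
      rw [orderOf_one] at ht; omega
    have htt : t * t = 1 := by
      have := pow_orderOf_eq_one t
      rw [ht, pow_two] at this
      exact this
    obtain ⟨a, ha⟩ : ∃ a : α, t • a ≠ a := by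
      by_contra hcon
      push Not at hcon
      apply ht1
      apply Subtype.ext
      apply Equiv.ext
      intro z
      exact hcon z
    set b := t • a with hb
    have htb : t • b = a := by
      rw [hb, ← mul_smul, htt, one_smul]
    have key : ∀ x y : α, x ≠ y → ∃ g : G, g • a = x ∧ g • b = y := by
      intro x y hxy
      obtain ⟨g, hg | hg⟩ := hom2 G h2 (Ne.symm ha) hxy
      · exact ⟨g, hg⟩
      · refine ⟨g * t, ?_, ?_⟩
        · rw [mul_smul, ← hb]; exact hg.2
        · rw [mul_smul, htb]; exact hg.1
    rw [is_two_pretransitive_iff]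
    intro x y x' y' hxy hxy'
    obtain ⟨g₁, h11, h12⟩ := key x y hxy
    obtain ⟨g₂, h21, h22⟩ := key x' y' hxy'
    refine ⟨g₂ * g₁⁻¹, ?_, ?_⟩
    · rw [← h11, mul_smul, inv_smul_smul, h21]
    · rw [← h12, mul_smul, inv_smul_smul, h22]
  · intro _
    have htrans : IsPretransitive G α := by
      refine ⟨fun x y => ?_⟩
      by_cases hxy : x = y
      · exact ⟨1, by rw [one_smul, hxy]⟩
      · by_contra hcon
        push Not at hcon
        obtain ⟨z, hzx, hzy⟩ := hthird x y
        -- y ~ z
        have h1 : ∃ g : G, g • y = z := by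
          obtain ⟨g, hg | hg⟩ := hom2 G h2 hxy (Ne.symm hzx)
          · exact ⟨g, hg.2⟩
          · exfalso
            apply hcon g⁻¹
            rw [inv_smul_eq_iff]; exact hg.2.symm
        have h2' : ∃ g : G, g • x = z := by
          obtain ⟨g, hg | hg⟩ := hom2 G h2 hxy (Ne.symm hzy)
          · exact absurd hg.1 (hcon g)
          · exact ⟨g, hg.1⟩
        obtain ⟨g₁, hg₁⟩ := h1
        obtain ⟨g₂, hg₂⟩ := h2'
        apply hcon (g₁⁻¹ * g₂)
        rw [mul_smul, hg₂, inv_smul_eq_iff, hg₁]
    refine { toIsPretransitive := htrans, isTrivialBlock_of_isBlock := ?_ }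
    intro B hB
    by_cases hs : B.Subsingleton
    · exact Or.inl hs
    · right
      rw [Set.not_subsingleton_iff] at hs
      obtain ⟨a, ha, b, hb, hab⟩ := hs
      ext c
      simp only [Set.mem_univ, iff_true]
      by_cases hca : c = a
      · rw [hca]; exact ha
      · obtain ⟨g, hg | hg⟩ := hom2 G h2 hab (Ne.symm hca)
        · have h1 : g • B = B := (isBlock_iff_smul_eq_of_mem.mp hB) ha (by rw [hg.1]; exact ha)
          rw [← h1, ← hg.2]
          exact Set.smul_mem_smul_set hb
        · have h1 : g • B = B := (isBlock_iff_smul_eq_of_mem.mp hB) hb (by rw [hg.2]; exact ha)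
          rw [← h1, ← hg.1]
          exact Set.smul_mem_smul_set ha

end Cfsg.Agent.S0735
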