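import Cfsg.Statements.S0748
import Cfsg.Agent.Lib.Helper4.LWB_G
import Cfsg.Agent.Lib.Helper4.LWB_D
import Cfsg.Agent.Lib.Helper7.LWB_H
import Cfsg.Agent.Lib.Helper1.LW.Glue

set_option autoImplicit false
open Cfsg

namespace Cfsg.Agent.S0748

/-- The Livingstone–Wagner Theorem: a `k`-homogeneous permutation group of degree `n` with `10 ≤ 2k ≤ n` is `k`-transitive. -/
theorem result {α : Type*} [Fintype α] [DecidableEq α] (G : Subgroup (Equiv.Perm α)) {k : ℕ} (hk : 5 ≤ k) (hkn : 2 * k ≤ Fintype.card α) (hh : MulAction.IsPretransitive G (Set.powersetCard α k)) : MulAction.IsMultiplyPretransitive G α k := by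
  have h746 : MulAction.IsMultiplyPretransitive G α (k - 1) :=
    Cfsg.Agent.Lib.Helper1.LW.lw_main G k (by omega) hkn hh
  refine Cfsg.Agent.Lib.Helper7.LWBH.main_748_of G hk hkn hh h746
    (Cfsg.Agent.Lib.Helper4.LWB.main_747 G (by omega) (by omega) h746) ?_
  intro e ho hc
  have := h746
  exact Cfsg.Agent.Lib.Helper4.LWB.hall_t (k - 1) (by omega) ↥G α e ho hc

end Cfsg.Agent.S0748
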