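import Cfsg.Statements.S0751
import Mathlib
import Mathlib
import Cfsg.Agent.Lib.Helper2.WittHerm

set_option autoImplicit false
open Cfsg

namespace Cfsg.Agent.S0751


universe u v

theorem witt_herm {F : Type u} {V : Type v} [Field F] [Finite F] [AddCommGroup V] [Module F V] [FiniteDimensional F V] (σ : F →+* F) (hσ : σ ≠ RingHom.id F) (hσ2 : ∀ a : F, σ (σ a) = a) (B : V →ₛₗ[σ] V →ₗ[F] F) (hS : B.IsSymm) (hB : B.Nondegenerate) (X Y : Submodule F V) (φ : X ≃ₗ[F] Y) (hφ : ∀ x x' : X, B (φ x : V) (φ x' : V) = B (x : V) (x' : V)) : ∃ g : V ≃ₗ[F] V, (∀ u v : V, B (g u) (g v) = B u v) ∧ ∀ x : X, g (x : V) = (φ x : V) := by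
  set σ' : F ≃+* F := RingEquiv.ofRingHom σ σ (RingHom.ext hσ2) (RingHom.ext hσ2) with hσ'
  have hσ'a : ∀ a, σ' a = σ a := fun a => rfl
  have hord : orderOf σ' = 2 := by
    haveI : Fact (Nat.Prime 2) := ⟨Nat.prime_two⟩
    apply orderOf_eq_prime
    · apply RingEquiv.ext
      intro a
      rw [pow_two]
      show σ' (σ' a) = a
      rw [hσ'a, hσ'a, hσ2]
    · intro h1
      apply hσ
      apply RingHom.ext
      intro a
      have := DFunLike.congr_fun h1 a
      rw [hσ'a] at this
      exact this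
  set H : V → V → F := fun u w => B w u with hH
  have hHerm : Cfsg.Agent.Lib.Helper5.PSLCoset.IsHerm σ' H :=
    { add_left := fun u v w => map_add (B w) u v
      smul_left := fun a v w => by
        show B w (a • v) = a * B w v
        rw [map_smul, smul_eq_mul]
      symm := fun v w => (hS.eq w v).symm }
  have hnd : ∀ v, (∀ w, H v w = 0) → v = 0 := fun v hv => hB.2 v hv
  set e : ULift.{max v u} ↥X ≃ₗ[F] ↥X := ULift.moduleEquiv with he
  set f₁ : ULift.{max v u} ↥X →ₗ[F] V := X.subtype.comp e.toLinearMap with hf₁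
  set f₂ : ULift.{max v u} ↥X →ₗ[F] V := (Y.subtype.comp φ.toLinearMap).comp e.toLinearMap with hf₂
  have h₁ : Function.Injective f₁ := X.subtype_injective.comp e.injective
  have h₂ : Function.Injective f₂ := (Y.subtype_injective.comp φ.injective).comp e.injective
  have hiso : ∀ a b, H (f₁ a) (f₁ b) = H (f₂ a) (f₂ b) := by
    intro a b
    exact (hφ (e b) (e a)).symm
  obtain ⟨g, hg1, hg2⟩ := Cfsg.Agent.Lib.Helper2.WittHerm.witt_aux hord hHerm hnd _
    (ULift.{max v u} ↥X) f₁ f₂ rfl h₁ h₂ hiso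
  refine ⟨g, fun u v => hg1 v u, fun x => ?_⟩
  have := hg2 (e.symm x)
  simpa [hf₁, hf₂] using this

/-- Witt's Lemma for Hermitian forms. Let σ be a non-identity involutive automorphism of a finite field F and B a non-degenerate σ-sesquilinear form on a finite-dimensional F-space V which is conjugate-symmetric (σ (B x y) = B y x). Then every linear equivalence between subspaces X, Y of V preserving B extends to a B-preserving linear automorphism of V. -/
theorem result {F V : Type*} [Field F] [Finite F] [AddCommGroup V] [Module F V] [FiniteDimensional F V] (σ : F →+* F) (hσ : σ ≠ RingHom.id F) (hσ2 : ∀ a : F, σ (σ a) = a) (B : V →ₛₗ[σ] V →ₗ[F] F) (hS : B.IsSymm) (hB : B.Nondegenerate) (X Y : Submodule F V) (φ : X ≃ₗ[F] Y) (hφ : ∀ x x' : X, B (φ x : V) (φ x' : V) = B (x : V) (x' : V)) : ∃ g : V ≃ₗ[F] V, (∀ u v : V, B (g u) (g v) = B u v) ∧ ∀ x : X, g (x : V) = (φ x : V) := by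
  exact witt_herm σ hσ hσ2 B hS hB X Y φ hφ

end Cfsg.Agent.S0751
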