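import Cfsg.Statements.S0752
import Mathlib


set_option autoImplicit false
open Cfsg

namespace Cfsg.Agent.S0752

open Module

variable {F V : Type*} [Field F] [AddCommGroup V] [Module F V]

/-- A hyperbolic family. -/
structure Hyp (B : LinearMap.BilinForm F V) {m : ℕ} (e f : Fin m → V) : Prop where
  ef : ∀ i j, B (e i) (f j) = if i = j then 1 else 0
  ee : ∀ i j, B (e i) (e j) = 0
  ff : ∀ i j, B (f i) (f j) = 0

variable {B : LinearMap.BilinForm F V}

theorem Hyp.fe (hA : B.IsAlt) {m : ℕ} {e f : Fin m → V} (h : Hyp B e f) (i j : Fin m) :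
    B (f i) (e j) = if i = j then -1 else 0 := by
  rw [← hA.neg_eq, h.ef]
  by_cases hij : i = j
  · rw [if_pos hij, if_pos hij.symm]
  · rw [if_neg hij, if_neg (Ne.symm hij), neg_zero]

theorem Hyp.linearIndependent_e {m : ℕ} {e f : Fin m → V} (h : Hyp B e f) :
    LinearIndependent F e := by
  rw [Fintype.linearIndependent_iff]
  intro g hg l
  have := congrArg (fun v => B v (f l)) hg
  simp only [map_sum, map_smul, LinearMap.sum_apply, LinearMap.smul_apply, smul_eq_mul, h.ef,
    LinearMap.zero_apply] at this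
  simpa using this

/-- the orthogonal complement of a hyperbolic family -/
def perp (B : LinearMap.BilinForm F V) {m : ℕ} (e f : Fin m → V) : Submodule F V where
  carrier := {v | ∀ i, B (e i) v = 0 ∧ B (f i) v = 0}
  add_mem' := by
    intro a b ha hb i
    simp [map_add, (ha i).1, (ha i).2, (hb i).1, (hb i).2]
  zero_mem' := by intro i; simp
  smul_mem' := by
    intro c a ha i
    simp [(ha i).1, (ha i).2]

theorem mem_perp {m : ℕ} {e f : Fin m → V} {v : V} :
    v ∈ perp B e f ↔ ∀ i, B (e i) v = 0 ∧ B (f i) v = 0 := Iff.rfl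

/-- the projection to the complement -/
def pr (B : LinearMap.BilinForm F V) {m : ℕ} (e f : Fin m → V) (v : V) : V :=
  v + ∑ i, B (f i) v • e i - ∑ i, B (e i) v • f i

theorem pr_mem (hA : B.IsAlt) {m : ℕ} {e f : Fin m → V} (h : Hyp B e f) (v : V) :
    pr B e f v ∈ perp B e f := by
  intro l
  constructor
  · simp only [pr, map_add, map_sub, map_sum, map_smul, smul_eq_mul, h.ee, h.ef, mul_zero,
      Finset.sum_const_zero, add_zero]
    simp
  · simp only [pr, map_add, map_sub, map_sum, map_smul, smul_eq_mul, h.ff, h.fe hA, mul_zero,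
      Finset.sum_const_zero, sub_zero]
    simp

theorem Hyp.extend (hA : B.IsAlt) {m : ℕ} {e f : Fin m → V} (h : Hyp B e f) {w₁ w₂ : V}
    (h1 : w₁ ∈ perp B e f) (h2 : w₂ ∈ perp B e f) (hne : B w₁ w₂ ≠ 0) :
    ∃ (e' f' : Fin (m + 1) → V), Hyp B e' f' := by
  refine ⟨Fin.cons w₁ e, Fin.cons ((B w₁ w₂)⁻¹ • w₂) f, ?_, ?_, ?_⟩
  · intro i j
    refine Fin.cases ?_ (fun i' => ?_) i <;> refine Fin.cases ?_ (fun j' => ?_) j
    · simp [inv_mul_cancel₀ hne]
    · simp only [Fin.cons_zero, Fin.cons_succ]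
      rw [← hA.neg_eq, (h1 j').2, neg_zero, if_neg (Fin.succ_ne_zero j').symm]
    · simp only [Fin.cons_zero, Fin.cons_succ, map_smul, smul_eq_mul, (h2 i').1, mul_zero]
      rw [if_neg (Fin.succ_ne_zero i')]
    · simp only [Fin.cons_succ, h.ef, Fin.succ_inj]
  · intro i j
    refine Fin.cases ?_ (fun i' => ?_) i <;> refine Fin.cases ?_ (fun j' => ?_) j
    · simp [hA w₁]
    · simp only [Fin.cons_zero, Fin.cons_succ]
      rw [← hA.neg_eq, (h1 j').1, neg_zero]
    · simp only [Fin.cons_zero, Fin.cons_succ, (h1 i').1]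
    · simp only [Fin.cons_succ, h.ee]
  · intro i j
    refine Fin.cases ?_ (fun i' => ?_) i <;> refine Fin.cases ?_ (fun j' => ?_) j
    · simp [hA w₂]
    · simp only [Fin.cons_zero, Fin.cons_succ, map_smul, LinearMap.smul_apply, smul_eq_mul]
      have : B w₂ (f j') = 0 := by rw [← hA.neg_eq, (h2 j').2, neg_zero]
      rw [this, mul_zero]
    · simp only [Fin.cons_zero, Fin.cons_succ, map_smul, smul_eq_mul, (h2 i').2, mul_zero]
    · simp only [Fin.cons_succ, h.ff]

theorem perp_left (hA : B.IsAlt) {m : ℕ} {e f : Fin m → V} {w : V} (hw : w ∈ perp B e f) (i : Fin m) :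
    B w (e i) = 0 ∧ B w (f i) = 0 := by
  constructor
  · rw [← hA.neg_eq, (hw i).1, neg_zero]
  · rw [← hA.neg_eq, (hw i).2, neg_zero]

theorem decomp {m : ℕ} (e f : Fin m → V) (v : V) :
    v = pr B e f v - ∑ i, B (f i) v • e i + ∑ i, B (e i) v • f i := by
  unfold pr; abel

theorem rad_of_perp (hA : B.IsAlt) {m : ℕ} {e f : Fin m → V}
    (hW0 : ∀ w₁ ∈ perp B e f, ∀ w₂ ∈ perp B e f, B w₁ w₂ = 0) (h : Hyp B e f) {w : V}
    (hw : w ∈ perp B e f) (v : V) : B w v = 0 := by
  rw [decomp (B := B) e f v]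
  simp only [map_add, map_sub, map_sum, map_smul, smul_eq_mul, (perp_left hA hw _).1,
    (perp_left hA hw _).2, mul_zero, Finset.sum_const_zero, sub_zero, add_zero]
  exact hW0 w hw _ (pr_mem hA h v)

/-- Classification of alternating forms: for an alternating bilinear form B on a finite-dimensional space over any field there is a basis indexed by (Fin m ⊕ Fin m) ⊕ Fin k such that B (e_i, f_j) = δ_ij, the e's are pairwise orthogonal, the f's are pairwise orthogonal, and the last k basis vectors are orthogonal to everything (they span the radical). -/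
theorem result {F V : Type*} [Field F] [AddCommGroup V] [Module F V] [FiniteDimensional F V] (B : LinearMap.BilinForm F V) (hA : B.IsAlt) : ∃ (m k : ℕ) (b : Module.Basis ((Fin m ⊕ Fin m) ⊕ Fin k) F V), (∀ i j : Fin m, B (b (Sum.inl (Sum.inl i))) (b (Sum.inl (Sum.inr j))) = if i = j then 1 else 0) ∧ (∀ i j : Fin m, B (b (Sum.inl (Sum.inl i))) (b (Sum.inl (Sum.inl j))) = 0) ∧ (∀ i j : Fin m, B (b (Sum.inl (Sum.inr i))) (b (Sum.inl (Sum.inr j))) = 0) ∧ (∀ (j : Fin k) (v : V), B (b (Sum.inr j)) v = 0) := by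
  classical
  let P : ℕ → Prop := fun m => ∃ e f : Fin m → V, Hyp B e f
  have hP0 : P 0 := ⟨Fin.elim0, Fin.elim0, ⟨fun i => i.elim0, fun i => i.elim0, fun i => i.elim0⟩⟩
  have hPle : ∀ m, P m → m ≤ finrank F V := by
    rintro m ⟨e, f, h⟩
    simpa using h.linearIndependent_e.fintype_card_le_finrank
  obtain ⟨m, hPm, hmax⟩ : ∃ m, P m ∧ ¬ P (m + 1) := by
    refine ⟨Nat.findGreatest P (finrank F V), Nat.findGreatest_spec (Nat.zero_le _) hP0, ?_⟩
    intro h
    have h1 := hPle _ h
    have := Nat.le_findGreatest h1 h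
    omega
  obtain ⟨e, f, h⟩ := hPm
  have hW0 : ∀ w₁ ∈ perp B e f, ∀ w₂ ∈ perp B e f, B w₁ w₂ = 0 := by
    intro w₁ h1 w₂ h2
    by_contra hne
    exact hmax (h.extend hA h1 h2 hne)
  obtain ⟨k, hk⟩ : ∃ k, k = finrank F (perp B e f) := ⟨_, rfl⟩
  let r : Basis (Fin k) F (perp B e f) := Module.finBasisOfFinrankEq F _ hk.symm
  let v : (Fin m ⊕ Fin m) ⊕ Fin k → V := Sum.elim (Sum.elim e f) (fun j => (r j : V))
  have hrW : ∀ j, (r j : V) ∈ perp B e f := fun j => (r j).2
  have hrW1 : ∀ j i, B (e i) (r j : V) = 0 := fun j i => ((hrW j) i).1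
  have hrW2 : ∀ j i, B (f i) (r j : V) = 0 := fun j i => ((hrW j) i).2
  have hli : LinearIndependent F v := by
    rw [Fintype.linearIndependent_iff]
    intro g hg
    rw [Fintype.sum_sum_type, Fintype.sum_sum_type] at hg
    simp only [v, Sum.elim_inl, Sum.elim_inr] at hg
    have ha : ∀ l, g (Sum.inl (Sum.inl l)) = 0 := by
      intro l
      have := congrArg (fun x => B (f l) x) hg
      simp only [map_add, map_sum, map_smul, smul_eq_mul, h.fe hA, h.ff, hrW2, mul_zero,
        Finset.sum_const_zero, add_zero, map_zero] at this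
      simpa using this
    have hc : ∀ l, g (Sum.inl (Sum.inr l)) = 0 := by
      intro l
      have := congrArg (fun x => B (e l) x) hg
      simp only [map_add, map_sum, map_smul, smul_eq_mul, h.ee, h.ef, hrW1, mul_zero,
        Finset.sum_const_zero, add_zero, zero_add, map_zero] at this
      simpa using this
    have hd : ∀ j, g (Sum.inr j) = 0 := by
      simp only [ha, hc, zero_smul, Finset.sum_const_zero, zero_add] at hg
      have h2 : ∑ j, g (Sum.inr j) • r j = 0 := by
        apply Subtype.ext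
        simpa using hg
      exact Fintype.linearIndependent_iff.mp r.linearIndependent _ h2
    rintro ((i | i) | j)
    · exact ha i
    · exact hc i
    · exact hd j
  have hsp : ⊤ ≤ Submodule.span F (Set.range v) := by
    intro x _
    have he : ∀ i, e i ∈ Submodule.span F (Set.range v) :=
      fun i => Submodule.subset_span ⟨Sum.inl (Sum.inl i), rfl⟩
    have hf : ∀ i, f i ∈ Submodule.span F (Set.range v) :=
      fun i => Submodule.subset_span ⟨Sum.inl (Sum.inr i), rfl⟩
    have hr : ∀ w ∈ perp B e f, w ∈ Submodule.span F (Set.range v) := by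
      intro w hw
      have h1 : (⟨w, hw⟩ : perp B e f) ∈ Submodule.span F (Set.range r) := r.mem_span _
      have h2 := Submodule.apply_mem_span_image_of_mem_span (perp B e f).subtype h1
      refine Submodule.span_mono ?_ h2
      rintro _ ⟨_, ⟨j, rfl⟩, rfl⟩
      exact ⟨Sum.inr j, rfl⟩
    rw [decomp (B := B) e f x]
    refine Submodule.add_mem _ (Submodule.sub_mem _ (hr _ (pr_mem hA h x)) ?_) ?_
    · exact Submodule.sum_mem _ (fun i _ => Submodule.smul_mem _ _ (he i))
    · exact Submodule.sum_mem _ (fun i _ => Submodule.smul_mem _ _ (hf i))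
  refine ⟨m, k, Basis.mk hli hsp, ?_, ?_, ?_, ?_⟩
  · intro i j
    rw [Basis.mk_apply, Basis.mk_apply]
    exact h.ef i j
  · intro i j
    rw [Basis.mk_apply, Basis.mk_apply]
    exact h.ee i j
  · intro i j
    rw [Basis.mk_apply, Basis.mk_apply]
    exact h.ff i j
  · intro j x
    rw [Basis.mk_apply]
    exact rad_of_perp hA hW0 h (hrW j) x

end Cfsg.Agent.S0752
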