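import Cfsg.Statements.S0755
import Mathlib
import Cfsg.Agent.Lib.Helper5.PSLCoset5

set_option autoImplicit false
open Cfsg

namespace Cfsg.Agent.S0755

/-- Classification of Hermitian forms over finite fields: if σ is a non-identity involutive automorphism of the finite field F and B is a non-degenerate conjugate-symmetric σ-sesquilinear form on the finite-dimensional space V, then V has a B-orthonormal basis. -/
theorem result {F V : Type*} [Field F] [Finite F] [AddCommGroup V] [Module F V] [FiniteDimensional F V] (σ : F →+* F) (hσ : σ ≠ RingHom.id F) (hσ2 : ∀ a : F, σ (σ a) = a) (B : V →ₛₗ[σ] V →ₗ[F] F) (hS : B.IsSymm) (hB : B.Nondegenerate) : ∃ b : Module.Basis (Fin (Module.finrank F V)) F V, ∀ i j, B (b i) (b j) = if i = j then 1 else 0 := by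
  classical
  let σ' : F ≃+* F :=
    { toFun := σ
      invFun := σ
      left_inv := hσ2
      right_inv := hσ2
      map_mul' := map_mul σ
      map_add' := map_add σ }
  have hσ'apply : ∀ a : F, σ' a = σ a := fun a => rfl
  have hσ'1 : σ' ≠ 1 := by
    intro h1
    apply hσ
    ext a
    have := DFunLike.congr_fun h1 a
    simpa [hσ'apply] using this
  have hord : orderOf σ' = 2 := by
    apply orderOf_eq_prime
    · ext a
      rw [pow_two]
      exact hσ2 a
    · exact hσ'1
  have hH : Cfsg.Agent.Lib.Helper5.PSLCoset.IsHerm σ' (fun u v : V => B v u) := by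
    refine ⟨fun u v w => ?_, fun a v w => ?_, fun v w => ?_⟩
    · exact map_add (B w) u v
    · show B w (a • v) = a * B w v
      rw [map_smul, smul_eq_mul]
    · show B v w = σ' (B w v)
      rw [hσ'apply]
      exact (hS.eq w v).symm
  have hnd : ∀ v : V, v ≠ 0 → ∃ w, (fun u v : V => B v u) v w ≠ 0 := by
    intro v hv
    by_contra hcon
    push Not at hcon
    exact hv (hB.2 v hcon)
  obtain ⟨e, he⟩ := Cfsg.Agent.Lib.Helper5.PSLCoset.exists_orthonormal hord
    (Module.finrank F V) V (fun u v : V => B v u) hH hnd rfl
  have hli : LinearIndependent F e := by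
    rw [Fintype.linearIndependent_iff]
    intro c hc j
    have h1 : B (e j) (∑ i, c i • e i) = 0 := by rw [hc, map_zero]
    rw [map_sum] at h1
    have h2 : ∀ i, B (e j) (c i • e i) = if i = j then c i else 0 := by
      intro i
      rw [map_smul, smul_eq_mul]
      have : B (e j) (e i) = if i = j then 1 else 0 := he i j
      rw [this]
      split_ifs <;> simp
    simp only [h2, Finset.sum_ite_eq', Finset.mem_univ, if_true] at h1
    exact h1
  refine ⟨basisOfLinearIndependentOfCardEqFinrank' e hli (by simp), fun i j => ?_⟩
  rw [coe_basisOfLinearIndependentOfCardEqFinrank']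
  have : B (e i) (e j) = if j = i then 1 else 0 := he j i
  rw [this]
  by_cases hij : i = j
  · subst hij; simp
  · rw [if_neg hij, if_neg (Ne.symm hij)]

end Cfsg.Agent.S0755
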