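import Cfsg.Statements.S0756
import Mathlib
import Cfsg.Agent.Lib.Helper5.QuadFin

set_option autoImplicit false
open Cfsg

namespace Cfsg.Agent.S0756

open Cfsg.Agent.Lib.Helper5

theorem isSquare_mul_of_not {F : Type*} [Field F] [Finite F] {a b : F} (ha : ¬ IsSquare a)
    (hb : ¬ IsSquare b) : IsSquare (a * b) := by
  classical
  haveI : Fintype F := Fintype.ofFinite F
  have ha0 : a ≠ 0 := by rintro rfl; exact ha ⟨0, by simp⟩
  have hb0 : b ≠ 0 := by rintro rfl; exact hb ⟨0, by simp⟩
  rw [← quadraticChar_one_iff_isSquare (mul_ne_zero ha0 hb0), map_mul,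
    quadraticChar_neg_one_iff_not_isSquare.mpr ha, quadraticChar_neg_one_iff_not_isSquare.mpr hb]
  norm_num

/-- Classification of symmetric bilinear forms over finite fields of odd characteristic: if B is non-degenerate symmetric on V of dimension n + 1 and α is a fixed non-square of F, there is an orthogonal basis b_0, ..., b_n with B(b_i, b_i) = 1 for i < n and B(b_n, b_n) ∈ {1, α}. -/
theorem result {F V : Type*} [Field F] [Finite F] [AddCommGroup V] [Module F V] [FiniteDimensional F V] (h2 : (2 : F) ≠ 0) (B : LinearMap.BilinForm F V) (hS : B.IsSymm) (hB : B.Nondegenerate) {n : ℕ} (hn : Module.finrank F V = n + 1) (α : F) (hα : ¬ IsSquare α) : ∃ b : Module.Basis (Fin (n + 1)) F V, (∀ i j, i ≠ j → B (b i) (b j) = 0) ∧ (∀ i, i ≠ Fin.last n → B (b i) (b i) = 1) ∧ (B (b (Fin.last n)) (b (Fin.last n)) = 1 ∨ B (b (Fin.last n)) (b (Fin.last n)) = α) := by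
  classical
  set Q : QuadraticForm F V := B.toQuadraticMap with hQ
  have hQv : ∀ v, Q v = B v v := fun v => rfl
  have hpol : ∀ x y, QuadraticMap.polar Q x y = 2 * B x y := by
    intro x y
    simp only [QuadraticMap.polar, hQv, map_add, LinearMap.add_apply]
    rw [hS.eq y x]
    ring
  have hnd : (QuadraticMap.polarBilin Q).Nondegenerate := by
    constructor
    · intro x hx
      apply hB.1 x
      intro y
      have := hx y
      rw [QuadraticMap.polarBilin_apply_apply, hpol] at this
      rcases mul_eq_zero.mp this with h | h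
      · exact absurd h h2
      · exact h
    · intro y hy
      apply hB.2 y
      intro x
      have := hy x
      rw [QuadraticMap.polarBilin_apply_apply, hpol] at this
      rcases mul_eq_zero.mp this with h | h
      · exact absurd h h2
      · exact h
  obtain ⟨b, hortho, hone, hlast⟩ := exists_orthogonal_family_aux h2 n V Q hnd hn
  have horthoB : ∀ i j, i ≠ j → B (b i) (b j) = 0 := by
    intro i j hij
    have := hortho i j hij
    rw [hpol] at this
    rcases mul_eq_zero.mp this with h | h
    · exact absurd h h2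
    · exact h
  -- scale the last vector
  obtain ⟨c, hc0, hc⟩ : ∃ c : F, c ≠ 0 ∧ (B (c • b (Fin.last n)) (c • b (Fin.last n)) = 1 ∨
      B (c • b (Fin.last n)) (c • b (Fin.last n)) = α) := by
    have hd : B (b (Fin.last n)) (b (Fin.last n)) ≠ 0 := hlast
    set d := B (b (Fin.last n)) (b (Fin.last n)) with hd'
    have hsm : ∀ c : F, B (c • b (Fin.last n)) (c • b (Fin.last n)) = c * c * d := by
      intro c
      simp only [map_smul, LinearMap.smul_apply, smul_eq_mul, hd']
      ring
    have hα0 : α ≠ 0 := by rintro rfl; exact hα ⟨0, by simp⟩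
    by_cases hsq : IsSquare d
    · obtain ⟨e, he⟩ := hsq
      have he0 : e ≠ 0 := by rintro rfl; rw [mul_zero] at he; exact hd he
      refine ⟨e⁻¹, inv_ne_zero he0, Or.inl ?_⟩
      rw [hsm, he]
      field_simp
    · obtain ⟨e, he⟩ := isSquare_mul_of_not hsq hα
      have he0 : e ≠ 0 := by
        rintro rfl
        rw [mul_zero] at he
        exact (mul_ne_zero hd hα0) he
      refine ⟨α * e⁻¹, mul_ne_zero hα0 (inv_ne_zero he0), Or.inr ?_⟩
      rw [hsm]
      have : d = e * e / α := by
        rw [← he]; field_simp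
      rw [this]
      field_simp
  let b' : Fin (n + 1) → V := fun i => if i = Fin.last n then c • b (Fin.last n) else b i
  have hb'last : b' (Fin.last n) = c • b (Fin.last n) := if_pos rfl
  have hb'ne : ∀ i, i ≠ Fin.last n → b' i = b i := fun i hi => if_neg hi
  have hortho' : ∀ i j, i ≠ j → B (b' i) (b' j) = 0 := by
    intro i j hij
    by_cases hi : i = Fin.last n
    · have hj : j ≠ Fin.last n := fun h => hij (hi.trans h.symm)
      rw [hi, hb'last, hb'ne j hj, map_smul, LinearMap.smul_apply, horthoB _ _ (hi ▸ hij), smul_zero]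
    · by_cases hj : j = Fin.last n
      · rw [hj, hb'last, hb'ne i hi, map_smul, horthoB _ _ (hj ▸ hij), smul_zero]
      · rw [hb'ne i hi, hb'ne j hj, horthoB _ _ hij]
  have hone' : ∀ i, i ≠ Fin.last n → B (b' i) (b' i) = 1 := by
    intro i hi
    rw [hb'ne i hi]
    exact hone i hi
  have hlast' : B (b' (Fin.last n)) (b' (Fin.last n)) = 1 ∨ B (b' (Fin.last n)) (b' (Fin.last n)) = α := by
    rw [hb'last]; exact hc
  have hα0 : α ≠ 0 := by rintro rfl; exact hα ⟨0, by simp⟩
  have hli : LinearIndependent F b' := by
    apply LinearMap.BilinForm.linearIndependent_of_iIsOrtho (B := B)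
    · intro i j hij
      exact hortho' i j hij
    · intro i
      by_cases hi : i = Fin.last n
      · rw [hi]
        rcases hlast' with h | h
        · rw [h]; exact one_ne_zero
        · rw [h]; exact hα0
      · rw [hone' i hi]; exact one_ne_zero
  let bb : Module.Basis (Fin (n + 1)) F V :=
    basisOfLinearIndependentOfCardEqFinrank hli (by rw [Fintype.card_fin, hn])
  have hbb : ∀ i, bb i = b' i := fun i => by
    simp [bb]
  refine ⟨bb, ?_, ?_, ?_⟩
  · intro i j hij
    rw [hbb, hbb]; exact hortho' i j hij
  · intro i hi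
    rw [hbb]; exact hone' i hi
  · rw [hbb]; exact hlast'

end Cfsg.Agent.S0756
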