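import Cfsg.Statements.S0757
import Mathlib


set_option autoImplicit false
open Cfsg

namespace Cfsg.Agent.S0757


theorem toMatrix'_weightedSumSquares {F : Type*} [Field F] [Invertible (2 : F)] {n : Type} [Fintype n]
    [DecidableEq n] (w : n → F) :
    QuadraticForm.toMatrix' (QuadraticMap.weightedSumSquares F w) = Matrix.diagonal w := by
  ext i j
  rw [QuadraticForm.toMatrix', LinearMap.toMatrix₂'_apply]
  by_cases hij : i = j
  · subst hij
    rw [Matrix.diagonal_apply_eq]
    show (QuadraticMap.associatedHom F (QuadraticMap.weightedSumSquares F w)) (Pi.single i 1) (Pi.single i 1) = w i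
    rw [QuadraticMap.associated_eq_self_apply, QuadraticMap.weightedSumSquares_apply]
    simp only [Pi.single_apply, smul_eq_mul]
    have h2 : ∀ k : n, w k * ((if k = i then (1:F) else 0) * (if k = i then (1:F) else 0)) =
        if k = i then w k else 0 := by
      intro k; split_ifs <;> ring
    simp only [h2, Finset.sum_ite_eq', Finset.mem_univ, if_true]
  · rw [Matrix.diagonal_apply_ne _ hij]
    show (QuadraticMap.associatedHom F (QuadraticMap.weightedSumSquares F w)) (Pi.single i 1) (Pi.single j 1) = 0
    rw [QuadraticMap.associated_apply]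
    simp only [QuadraticMap.weightedSumSquares_apply, Pi.add_apply, smul_eq_mul]
    simp only [Pi.single_apply]
    have h1 : ∀ k : n, w k * (((if k = i then (1:F) else 0) + (if k = j then (1:F) else 0)) *
        ((if k = i then (1:F) else 0) + (if k = j then (1:F) else 0))) =
        (if k = i then w k else 0) + (if k = j then w k else 0) := by
      intro k
      by_cases h1 : k = i
      · have : k ≠ j := fun h => hij (h1.symm.trans h)
        simp [h1, hij]
      · by_cases h2 : k = j
        · subst h2
          have : ¬ k = i := h1
          simp [this]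
        · simp [h1, h2]
    have h2 : ∀ (l : n) (k : n), w k * ((if k = l then (1:F) else 0) * (if k = l then (1:F) else 0)) =
        if k = l then w k else 0 := by
      intro l k; split_ifs <;> ring
    simp only [h1, h2, Finset.sum_add_distrib, Finset.sum_ite_eq', Finset.mem_univ, if_true]
    simp

/-- The two diagonal forms Σ x_i^2 and Σ_(i<n) x_i^2 + α x_n^2 on F^(n+1), with α a non-square and 2 ≠ 0 in F, are inequivalent quadratic forms (so over a finite field of odd order there are exactly two classes of non-singular symmetric bilinear forms in each dimension). -/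
theorem result {F : Type*} [Field F] (h2 : (2 : F) ≠ 0) (n : ℕ) (α : F) (hα : ¬ IsSquare α) : ¬ (QuadraticMap.weightedSumSquares F (fun _ : Fin (n + 1) => (1 : F))).Equivalent (QuadraticMap.weightedSumSquares F (fun i : Fin (n + 1) => if i = Fin.last n then α else (1 : F))) := by
  rintro ⟨e⟩
  haveI : Invertible (2 : F) := invertibleOfNonzero h2
  set Q1 := QuadraticMap.weightedSumSquares F (fun _ : Fin (n + 1) => (1 : F)) with hQ1
  set Q2 := QuadraticMap.weightedSumSquares F
    (fun i : Fin (n + 1) => if i = Fin.last n then α else (1 : F)) with hQ2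
  have hcomp : Q1 = Q2.comp (e.toLinearEquiv : (Fin (n + 1) → F) →ₗ[F] (Fin (n + 1) → F)) := by
    ext v
    rw [QuadraticMap.comp_apply]
    exact (e.map_app v).symm
  have hd := congrArg QuadraticForm.discr' hcomp
  rw [QuadraticForm.discr'_comp] at hd
  have hd1 : QuadraticForm.discr' Q1 = 1 := by
    unfold QuadraticForm.discr'
    rw [hQ1, toMatrix'_weightedSumSquares, Matrix.det_diagonal]
    simp
  have hd2 : QuadraticForm.discr' Q2 = α := by
    unfold QuadraticForm.discr'
    rw [hQ2, toMatrix'_weightedSumSquares, Matrix.det_diagonal,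
      Finset.prod_ite_eq']
    simp
  rw [hd1, hd2] at hd
  set d := (LinearMap.toMatrix' (e.toLinearEquiv : (Fin (n + 1) → F) →ₗ[F] (Fin (n + 1) → F))).det
    with hdd
  have hd0 : d ≠ 0 := by
    intro h0
    rw [h0] at hd
    simp at hd
  apply hα
  refine ⟨d⁻¹, ?_⟩
  rw [← mul_inv]
  apply eq_inv_of_mul_eq_one_left
  linear_combination (-1 : F) * hd

end Cfsg.Agent.S0757
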