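import Cfsg.Statements.S0759
import Mathlib
import Mathlib
import Cfsg.Agent.Lib.Helper2.PlusType3

set_option autoImplicit false
open Cfsg

namespace Cfsg.Agent.S0759

/-- Type of the orthonormal form: over a finite field of odd order q and for m ≥ 1, the quadratic form Σ_(i<2m) x_i² on F^(2m) admits an m-dimensional subspace on which it vanishes identically if and only if it is not the case that q ≡ 3 (mod 4) and m is odd. -/
theorem result {F : Type*} [Field F] [Fintype F] (h2 : (2 : F) ≠ 0) (m : ℕ) (hm : 1 ≤ m) : (∃ W : Submodule F (Fin (2 * m) → F), Module.finrank F W = m ∧ ∀ w ∈ W, ∑ i, w i ^ 2 = 0) ↔ ¬ (Fintype.card F % 4 = 3 ∧ Odd m) := by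
  classical
  open Cfsg.Agent.Lib.Helper2.PlusType in
  set B : LinearMap.BilinForm F (Fin (2 * m) → F) :=
    Matrix.toBilin' (1 : Matrix (Fin (2 * m)) (Fin (2 * m)) F) with hB
  have hBapp : ∀ x y : Fin (2 * m) → F, B x y = ∑ i, x i * y i := by
    intro x y
    rw [hB, Matrix.toBilin'_apply', Matrix.one_mulVec]
    rfl
  have hBQ : ∀ w : Fin (2 * m) → F, B w w = ∑ i, w i ^ 2 := by
    intro w
    rw [hBapp]
    apply Finset.sum_congr rfl
    intro i _
    rw [pow_two]
  have hS : B.IsSymm := by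
    refine ⟨fun x y => ?_⟩
    rw [hBapp, hBapp]
    apply Finset.sum_congr rfl
    intro i _
    rw [mul_comm]
  have hG : LinearMap.BilinForm.toMatrix (Pi.basisFun F (Fin (2 * m))) B = 1 := by
    rw [LinearMap.BilinForm.toMatrix_basisFun, hB, LinearMap.BilinForm.toMatrix'_toBilin']
  have hdet1 : (LinearMap.BilinForm.toMatrix (Pi.basisFun F (Fin (2 * m))) B).det = 1 := by
    rw [hG, Matrix.det_one]
  have hnd : B.Nondegenerate :=
    nondegenerate_of_det_ne_zero (Pi.basisFun F (Fin (2 * m))) (by rw [hdet1]; exact one_ne_zero)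
  have hV : Module.finrank F (Fin (2 * m) → F) = 2 * m := Module.finrank_fin_fun F
  constructor
  · rintro ⟨W, hW, hW0⟩ ⟨hq, hodd⟩
    have hti : ∀ x ∈ W, ∀ y ∈ W, B x y = 0 := by
      intro x hx y hy
      have h1 := hW0 (x + y) (W.add_mem hx hy)
      rw [← hBQ, map_add, map_add, LinearMap.add_apply, LinearMap.add_apply, hBQ x, hBQ y,
        hW0 x hx, hW0 y hy, hS.eq y x] at h1
      have h3 : (2 : F) * B x y = 0 := by linear_combination h1
      rcases mul_eq_zero.1 h3 with h4 | h4
      · exact absurd h4 h2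
      · exact h4
    obtain ⟨u, hu, hdet⟩ := disc_of_isotropic B hS hnd m hV W (le_of_eq hW.symm) hti
      (Pi.basisFun F (Fin (2 * m)))
    rw [hdet1, hodd.neg_one_pow] at hdet
    have hsq : IsSquare (-1 : F) := ⟨u, by linear_combination -hdet⟩
    exact FiniteField.isSquare_neg_one_iff.1 hsq hq
  · intro h
    have hs : ∃ s : F, s ≠ 0 ∧ (-1 : F) ^ m = s ^ 2 := by
      rcases Nat.even_or_odd m with he | ho
      · exact ⟨1, one_ne_zero, by rw [he.neg_one_pow, one_pow]⟩
      · have hq : Fintype.card F % 4 ≠ 3 := fun hq => h ⟨hq, ho⟩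
        obtain ⟨r, hr⟩ := FiniteField.isSquare_neg_one_iff.2 hq
        have hr0 : r ≠ 0 := by
          rintro rfl
          rw [mul_zero] at hr
          exact neg_ne_zero.2 one_ne_zero hr
        refine ⟨r ^ m, pow_ne_zero _ hr0, ?_⟩
        rw [hr, ← pow_two, ← pow_mul, ← pow_mul, mul_comm]
    obtain ⟨s, hs0, hs⟩ := hs
    obtain ⟨X, hX, hX0⟩ := isotropic_of_disc B hS hnd m hV (Pi.basisFun F (Fin (2 * m))) s⁻¹
      (inv_ne_zero hs0) (by rw [hdet1, hs]; field_simp)
    refine ⟨X, hX, ?_⟩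
    intro w hw
    rw [← hBQ]
    exact hX0 w hw w hw

end Cfsg.Agent.S0759
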