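import Cfsg.Statements.S0760
import Mathlib


set_option autoImplicit false
open Cfsg

namespace Cfsg.Agent.S0760


open Module QuadraticMap

theorem polar_eq_zero_of_singular {F V : Type*} [Field F] [AddCommGroup V] [Module F V]
    (Q : QuadraticForm F V) (W : Submodule F V) (h : ∀ w ∈ W, Q w = 0) {x y : V} (hx : x ∈ W)
    (hy : y ∈ W) : polar (⇑Q) x y = 0 := by
  unfold polar
  rw [h _ (W.add_mem hx hy), h _ hx, h _ hy]; simp

theorem exists_extension {F V : Type*} [Field F] [AddCommGroup V] [Module F V]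
    [FiniteDimensional F V] (Q : QuadraticForm F V) (W1 W2 : Submodule F V)
    (h2 : ∀ w ∈ W2, Q w = 0) (hlt : finrank F W1 < finrank F W2) :
    ∃ w ∈ W2, w ∉ W1 ∧ ∀ w1 ∈ W1, polar (⇑Q) w w1 = 0 := by
  by_contra hcon
  push Not at hcon
  set g : W2 →ₗ[F] (W1 →ₗ[F] F) := (polarBilin Q).domRestrict₁₂ W2 W1 with hg
  have hgapp : ∀ (w : W2) (w1 : W1), g w w1 = polar (⇑Q) (w : V) (w1 : V) := fun w w1 => rfl
  set D1 : Submodule F W1 := (W1 ⊓ W2).comap W1.subtype with hD1
  set D2 : Submodule F W2 := (W1 ⊓ W2).comap W2.subtype with hD2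
  have hker : LinearMap.ker g ≤ D2 := by
    intro w hw
    rw [LinearMap.mem_ker] at hw
    have h1 : ∀ w1 ∈ W1, polar (⇑Q) (w : V) w1 = 0 := by
      intro w1 hw1
      have := congrArg (fun φ : W1 →ₗ[F] F => φ ⟨w1, hw1⟩) hw
      exact this
    by_contra hnot
    have hwW1 : (w : V) ∉ W1 := by
      intro hw1
      apply hnot
      exact ⟨hw1, w.2⟩
    obtain ⟨w1, hw1, hne⟩ := hcon w w.2 hwW1
    exact hne (h1 w1 hw1)
  have hrange : LinearMap.range g ≤ D1.dualAnnihilator := by
    rintro _ ⟨w, rfl⟩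
    rw [Submodule.mem_dualAnnihilator]
    intro d hd
    rw [hgapp]
    exact polar_eq_zero_of_singular Q W2 h2 w.2 hd.2
  have hfD1 : finrank F D1 = finrank F (W1 ⊓ W2 : Submodule F V) :=
    (Submodule.comapSubtypeEquivOfLe (inf_le_left : W1 ⊓ W2 ≤ W1)).finrank_eq
  have hfD2 : finrank F D2 = finrank F (W1 ⊓ W2 : Submodule F V) :=
    (Submodule.comapSubtypeEquivOfLe (inf_le_right : W1 ⊓ W2 ≤ W2)).finrank_eq
  have e1 := LinearMap.finrank_range_add_finrank_ker g
  have e2 := Submodule.finrank_mono hker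
  have e3 : finrank F (LinearMap.range g) ≤ finrank F D1.dualAnnihilator :=
    Submodule.finrank_mono hrange
  have e4 : finrank F D1 + finrank F D1.dualAnnihilator = finrank F W1 :=
    Subspace.finrank_add_finrank_dualAnnihilator_eq D1
  omega

/-- Witt index is well defined: if Q is a quadratic form on a finite-dimensional space V over a finite field with non-degenerate polar form, and W₁, W₂ are subspaces on which Q vanishes that are maximal with this property, then W₁ and W₂ have the same dimension, and twice this dimension is at most dim V. -/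
theorem result {F V : Type*} [Field F] [Finite F] [AddCommGroup V] [Module F V] [FiniteDimensional F V] (Q : QuadraticForm F V) (hQ : (QuadraticMap.polarBilin Q).Nondegenerate) (W₁ W₂ : Submodule F V) (h₁ : ∀ w ∈ W₁, Q w = 0) (h₂ : ∀ w ∈ W₂, Q w = 0) (hmax₁ : ∀ W : Submodule F V, W₁ ≤ W → (∀ w ∈ W, Q w = 0) → W = W₁) (hmax₂ : ∀ W : Submodule F V, W₂ ≤ W → (∀ w ∈ W, Q w = 0) → W = W₂) : Module.finrank F W₁ = Module.finrank F W₂ ∧ 2 * Module.finrank F W₁ ≤ Module.finrank F V := by
  have key : ∀ (W1 W2 : Submodule F V), (∀ w ∈ W1, Q w = 0) → (∀ w ∈ W2, Q w = 0) →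
      (∀ W : Submodule F V, W1 ≤ W → (∀ w ∈ W, Q w = 0) → W = W1) →
      finrank F W2 ≤ finrank F W1 := by
    intro W1 W2 h1 h2 hmax
    by_contra hlt
    push Not at hlt
    obtain ⟨w, hw2, hw1, hperp⟩ := exists_extension Q W1 W2 h2 hlt
    have hW : ∀ x ∈ W1 ⊔ Submodule.span F {w}, Q x = 0 := by
      intro x hx
      obtain ⟨y, hy, z, hz, rfl⟩ := Submodule.mem_sup.mp hx
      obtain ⟨c, rfl⟩ := Submodule.mem_span_singleton.mp hz
      rw [QuadraticMap.map_add (⇑Q), h1 y hy, QuadraticMap.map_smul, h2 w hw2,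
        polar_smul_right, polar_comm, hperp y hy]
      simp
    have := hmax _ le_sup_left hW
    apply hw1
    rw [← this]
    exact Submodule.mem_sup_right (Submodule.mem_span_singleton_self w)
  refine ⟨le_antisymm (key W₂ W₁ h₂ h₁ hmax₂) (key W₁ W₂ h₁ h₂ hmax₁), ?_⟩
  have hle : W₁ ≤ LinearMap.BilinForm.orthogonal (polarBilin Q) W₁ := by
    intro x hx
    rw [LinearMap.BilinForm.mem_orthogonal_iff]
    intro y hy
    exact polar_eq_zero_of_singular Q W₁ h₁ hy hx
  have e1 := LinearMap.BilinForm.finrank_orthogonal hQ W₁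
  have e2 := Submodule.finrank_mono hle
  have e3 : finrank F W₁ ≤ finrank F V := Submodule.finrank_le W₁
  omega

end Cfsg.Agent.S0760
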