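import Cfsg.Statements.S0761
import Mathlib


set_option autoImplicit false
open Cfsg

namespace Cfsg.Agent.S0761

/-- Hyperbolic partners: let B be a non-degenerate bilinear form on a finite-dimensional space, either alternating, or symmetric with 2 ≠ 0. If Z is a subspace on which B vanishes, x ∉ Z is isotropic and orthogonal to Z, then there is an isotropic y with B x y = 1 which is orthogonal to Z. -/
theorem result {F V : Type*} [Field F] [AddCommGroup V] [Module F V] [FiniteDimensional F V] (B : LinearMap.BilinForm F V) (hB : B.Nondegenerate) (hform : B.IsAlt ∨ (B.IsSymm ∧ (2 : F) ≠ 0)) (x : V) (Z : Submodule F V) (hxZ : x ∉ Z) (hx : B x x = 0) (hxz : ∀ z ∈ Z, B x z = 0) (hZ : ∀ z ∈ Z, ∀ z' ∈ Z, B z z' = 0) : ∃ y : V, B y y = 0 ∧ B x y = 1 ∧ ∀ z ∈ Z, B z y = 0 := by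
  obtain ⟨f, hfx, hfZ⟩ := Submodule.exists_le_ker_of_notMem hxZ
  set φ : Module.Dual F V := (f x)⁻¹ • f with hφ
  have hφx : φ x = 1 := by
    rw [hφ, LinearMap.smul_apply, smul_eq_mul, inv_mul_cancel₀ hfx]
  have hφZ : ∀ z ∈ Z, φ z = 0 := by
    intro z hz
    have : f z = 0 := LinearMap.mem_ker.mp (hfZ hz)
    rw [hφ, LinearMap.smul_apply, this, smul_zero]
  set y0 := (B.toDual hB).symm φ with hy0
  have hy0v : ∀ v, B y0 v = φ v := fun v => LinearMap.BilinForm.apply_toDual_symm_apply φ v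
  rcases hform with halt | ⟨hsymm, h2⟩
  · refine ⟨-y0, halt (-y0), ?_, ?_⟩
    · rw [map_neg, ← hφx, ← hy0v x]
      exact halt.neg_eq x y0
    · intro z hz
      rw [map_neg, ← hφZ z hz, ← hy0v z]
      exact halt.neg_eq z y0
  · have hxy0 : B x y0 = 1 := by rw [hsymm.eq x y0, hy0v, hφx]
    have hy0x : B y0 x = 1 := by rw [hy0v, hφx]
    set t : F := -(B y0 y0) / 2 with ht
    refine ⟨y0 + t • x, ?_, ?_, ?_⟩
    · simp only [map_add, map_smul, LinearMap.add_apply, LinearMap.smul_apply, smul_eq_mul, hx,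
        hxy0, hy0x]
      rw [ht]; field_simp; ring
    · simp only [map_add, map_smul, smul_eq_mul, hx, hxy0]
      ring
    · intro z hz
      have h1 : B z y0 = 0 := by rw [hsymm.eq z y0, hy0v, hφZ z hz]
      have h2' : B z x = 0 := by rw [hsymm.eq z x, hxz z hz]
      simp only [map_add, map_smul, smul_eq_mul, h1, h2']
      ring

end Cfsg.Agent.S0761
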