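import Cfsg.Statements.S0763
import Mathlib
import Cfsg.Agent.Lib.Helper5.QuadFin

set_option autoImplicit false
open Cfsg

namespace Cfsg.Agent.S0763


open Cfsg.Agent.Lib.Helper5 QuadraticMap

/-- Binary quadratic forms in characteristic two over a finite field: if Q is a quadratic form on a 2-dimensional space whose polar form is non-degenerate, then either there are vectors v, w with Q v = Q w = 0 and polar value 1 (Q is xy in these coordinates), or there are v, w and μ with Q v = 1, Q w = μ, polar value 1 and x² + x + μ without roots in F (Q is x² + xy + μy²). -/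
theorem result {F V : Type*} [Field F] [Finite F] [CharP F 2] [AddCommGroup V] [Module F V] (Q : QuadraticForm F V) (h2 : Module.finrank F V = 2) (hQ : (QuadraticMap.polarBilin Q).Nondegenerate) : (∃ v w : V, LinearIndependent F ![v, w] ∧ Q v = 0 ∧ Q w = 0 ∧ QuadraticMap.polar Q v w = 1) ∨ (∃ (v w : V) (μ : F), LinearIndependent F ![v, w] ∧ (∀ x : F, x ^ 2 + x + μ ≠ 0) ∧ Q v = 1 ∧ Q w = μ ∧ QuadraticMap.polar Q v w = 1) := by
  haveI : FiniteDimensional F V := Module.finite_of_finrank_pos (by rw [h2]; norm_num)
  by_cases hsing : ∃ v : V, v ≠ 0 ∧ Q v = 0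
  · left
    obtain ⟨v, hv0, hv⟩ := hsing
    obtain ⟨w, hvw, hw⟩ := exists_partner Q hQ hv0 hv
    refine ⟨v, w, ?_, hv, hw, hvw⟩
    rw [LinearIndependent.pair_iff]
    intro s t hst
    have h1 : polar (⇑Q) v (s • v + t • w) = t := by
      rw [polar_add_right, polar_smul_right, polar_smul_right, polar_self_of_singular Q hv, hvw]
      simp
    rw [hst] at h1
    have ht : t = 0 := by
      rw [← h1]; simp [polar]
    refine ⟨?_, ht⟩
    rw [ht, zero_smul, add_zero] at hst
    exact (smul_eq_zero.mp hst).resolve_right hv0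
  · right
    push Not at hsing
    have haniso : ∀ x ∈ (⊤ : Submodule F V), Q x = 0 → x = 0 := by
      intro x _ hx
      by_contra hx0
      exact hsing x hx0 hx
    have hnd : ∀ x ∈ (⊤ : Submodule F V), x ≠ 0 → ∃ y ∈ (⊤ : Submodule F V),
        polar (⇑Q) x y ≠ 0 := by
      intro x _ hx0
      by_contra hcon
      push Not at hcon
      exact hx0 (hQ.1 x (fun y => hcon y trivial))
    obtain ⟨x, y, _, _, hx1, hxy, hli⟩ :=
      exists_elliptic_pair Q (⊤ : Submodule F V) (by rw [finrank_top, h2]) haniso hnd
    refine ⟨x, y, Q y, hli, ?_, hx1, rfl, hxy⟩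
    intro t ht
    have h1 : Q (t • x + (1 : F) • y) = 0 := by
      rw [map_lin2, hx1, hxy]
      linear_combination ht
    have h2' := haniso _ trivial h1
    rw [LinearIndependent.pair_iff] at hli
    have := (hli t 1 h2').2
    exact one_ne_zero this

end Cfsg.Agent.S0763
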