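import Cfsg.Statements.S0768
import Mathlib
import Mathlib
import Cfsg.Agent.S0766
import Cfsg.Agent.Lib.Helper1.SpPoint
import Cfsg.Agent.Lib.Helper1.SpCard
import Cfsg.Agent.Lib.Helper2.SpIsom
open scoped LinearAlgebra.Projectivization

set_option autoImplicit false
open scoped LinearAlgebra.Projectivization
open Cfsg

namespace Cfsg.Agent.S0768


open Matrix Cfsg.Agent.Lib.Helper1.SpPoint Cfsg.Agent.Lib.Helper1.SpBasic Cfsg.Agent.Lib.Helper2.Symp
  Cfsg.Agent.Lib.Helper2.SpIsom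

variable {F : Type*} [Field F] {m : ℕ}

/-- symplectic matrices as elements of `spGL` -/
noncomputable def toSpGL (m : ℕ) (F : Type*) [Field F] :
    Matrix.symplecticGroup (Fin m) F →* ↥(Cfsg.spGL m F) where
  toFun A := ⟨⟨(A : Matrix (Fin m ⊕ Fin m) (Fin m ⊕ Fin m) F),
      ((A⁻¹ : Matrix.symplecticGroup (Fin m) F) : Matrix (Fin m ⊕ Fin m) (Fin m ⊕ Fin m) F),
      by rw [← Submonoid.coe_mul, mul_inv_cancel]; rfl,
      by rw [← Submonoid.coe_mul, inv_mul_cancel]; rfl⟩,
    fun x y => form_mulVec A x y⟩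
  map_one' := by
    apply Subtype.ext
    apply Units.ext
    rfl
  map_mul' A B := by
    apply Subtype.ext
    apply Units.ext
    rfl

theorem toSpGL_coe (A : Matrix.symplecticGroup (Fin m) F) :
    (((toSpGL m F A : ↥(Cfsg.spGL m F)) : Matrix.GeneralLinearGroup (Fin m ⊕ Fin m) F) :
      Matrix (Fin m ⊕ Fin m) (Fin m ⊕ Fin m) F) = (A : Matrix (Fin m ⊕ Fin m) (Fin m ⊕ Fin m) F) :=
  rfl

theorem toSpGL_surjective : Function.Surjective (toSpGL m F) := by
  intro g
  have hg : ((g : Matrix.GeneralLinearGroup (Fin m ⊕ Fin m) F) :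
      Matrix (Fin m ⊕ Fin m) (Fin m ⊕ Fin m) F) ∈ Matrix.symplecticGroup (Fin m) F := by
    rw [Cfsg.Agent.Lib.Helper1.SpCard.mem_symplectic_iff_form]
    exact g.2
  refine ⟨⟨_, hg⟩, ?_⟩
  apply Subtype.ext
  apply Units.ext
  rfl

theorem smul_mk_toSpGL (A : Matrix.symplecticGroup (Fin m) F) (v : Fin m ⊕ Fin m → F)
    (hv : v ≠ 0) (hv' : (A : Matrix (Fin m ⊕ Fin m) (Fin m ⊕ Fin m) F) *ᵥ v ≠ 0) :
    toSpGL m F A • Projectivization.mk F v hv =
      Projectivization.mk F ((A : Matrix (Fin m ⊕ Fin m) (Fin m ⊕ Fin m) F) *ᵥ v) hv' := rfl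

theorem exists_partner (v : Fin m ⊕ Fin m → F) (hv : v ≠ 0) :
    ∃ w, Cfsg.sympForm m F v w = 1 := by
  have h1 : ∃ w₀, Cfsg.sympForm m F v w₀ ≠ 0 := by
    by_contra hcon
    push Not at hcon
    exact hv (sympForm_nondeg v hcon)
  obtain ⟨w₀, hw₀⟩ := h1
  refine ⟨(Cfsg.sympForm m F v w₀)⁻¹ • w₀, ?_⟩
  rw [sympForm_smul_right, inv_mul_cancel₀ hw₀]

theorem mulVec_ne_zero (A : Matrix.symplecticGroup (Fin m) F) (v : Fin m ⊕ Fin m → F)
    (hv : v ≠ 0) : (A : Matrix (Fin m ⊕ Fin m) (Fin m ⊕ Fin m) F) *ᵥ v ≠ 0 := by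
  intro h0
  have := inv_mulVec_mulVec A v
  rw [h0, Matrix.mulVec_zero] at this
  exact hv this.symm

theorem pretransitive (m : ℕ) (F : Type*) [Field F] :
    MulAction.IsPretransitive ↥(Cfsg.spGL m F) (ℙ F (Fin m ⊕ Fin m → F)) := by
  constructor
  intro p p'
  induction p using Projectivization.ind with
  | h v hv =>
    induction p' using Projectivization.ind with
    | h v' hv' =>
      obtain ⟨w, hw⟩ := exists_partner v hv
      obtain ⟨w', hw'⟩ := exists_partner v' hv'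
      obtain ⟨A, -, hA1, -⟩ := Cfsg.Agent.S0766.result m v w v' w' hw hw'
      refine ⟨toSpGL m F A, ?_⟩
      rw [smul_mk_toSpGL A v hv (mulVec_ne_zero A v hv)]
      congr 1

theorem mem_stabilizer_iff (A : Matrix.symplecticGroup (Fin m) F) (v : Fin m ⊕ Fin m → F)
    (hv : v ≠ 0) :
    toSpGL m F A ∈ MulAction.stabilizer ↥(Cfsg.spGL m F) (Projectivization.mk F v hv) ↔
      A ∈ pointStab v := by
  rw [MulAction.mem_stabilizer_iff, smul_mk_toSpGL A v hv (mulVec_ne_zero A v hv),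
    Projectivization.mk_eq_mk_iff, mem_pointStab]
  constructor
  · rintro ⟨a, ha⟩
    exact ⟨(a : F), a.ne_zero, ha.symm⟩
  · rintro ⟨a, ha0, ha⟩
    exact ⟨Units.mk0 a ha0, ha.symm⟩

/-- Primitivity: for m ≥ 1 and F finite, the symplectic group of the form sympForm (as a subgroup of the general linear group) acts primitively on the projective space of F^(2m). -/
theorem result {F : Type*} [Field F] [Finite F] (m : ℕ) (hm : 1 ≤ m) : MulAction.IsPreprimitive ↥(Cfsg.spGL m F) (ℙ F (Fin m ⊕ Fin m → F)) := by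
  classical
  haveI := pretransitive m F
  obtain ⟨k, rfl⟩ : ∃ k, m = k + 1 := ⟨m - 1, by omega⟩
  set i₀ : Fin (k + 1) ⊕ Fin (k + 1) := Sum.inl 0 with hi₀
  set v : Fin (k + 1) ⊕ Fin (k + 1) → F := Pi.single i₀ 1 with hv
  have hv0 : v ≠ 0 := by
    intro h
    have := congrFun h i₀
    rw [hv, Pi.single_eq_same] at this
    exact one_ne_zero this
  set w : Fin (k + 1) ⊕ Fin (k + 1) → F := Pi.single (Sum.inr 0) 1 with hw
  have hw0 : w ≠ 0 := by
    intro h
    have := congrFun h (Sum.inr 0)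
    rw [hw, Pi.single_eq_same] at this
    exact one_ne_zero this
  have hne : Projectivization.mk F v hv0 ≠ Projectivization.mk F w hw0 := by
    intro h
    rw [Projectivization.mk_eq_mk_iff] at h
    obtain ⟨a, ha⟩ := h
    have := congrFun ha i₀
    rw [hv, hw, Pi.smul_apply, Pi.single_eq_same, Pi.single_eq_of_ne (by simp [hi₀]), smul_zero] at this
    exact one_ne_zero this.symm
  haveI : Nontrivial (ℙ F (Fin (k + 1) ⊕ Fin (k + 1) → F)) := ⟨⟨_, _, hne⟩⟩
  rw [← MulAction.isCoatom_stabilizer_iff_preprimitive _ (Projectivization.mk F v hv0)]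
  constructor
  · intro htop
    obtain ⟨g, hg⟩ := MulAction.exists_smul_eq ↥(Cfsg.spGL (k + 1) F)
      (Projectivization.mk F v hv0) (Projectivization.mk F w hw0)
    have : g ∈ MulAction.stabilizer ↥(Cfsg.spGL (k + 1) F) (Projectivization.mk F v hv0) := by
      rw [htop]; trivial
    rw [MulAction.mem_stabilizer_iff] at this
    exact hne (this.symm.trans hg)
  · intro M hM
    obtain ⟨hle, g, hgM, hgS⟩ := SetLike.lt_iff_le_and_exists.1 hM
    obtain ⟨h, rfl⟩ := toSpGL_surjective g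
    have hP : h ∉ pointStab v := fun hh => hgS ((mem_stabilizer_iff h v hv0).2 hh)
    have hPM : pointStab v ≤ M.comap (toSpGL (k + 1) F) := by
      intro A hA
      rw [Subgroup.mem_comap]
      exact hle ((mem_stabilizer_iff A v hv0).2 hA)
    have htop := eq_top_of_pointStab_lt v hv0 (M.comap (toSpGL (k + 1) F)) hPM h
      (by rw [Subgroup.mem_comap]; exact hgM) hP
    rw [eq_top_iff]
    intro x _
    obtain ⟨A, rfl⟩ := toSpGL_surjective x
    have : A ∈ M.comap (toSpGL (k + 1) F) := by rw [htop]; trivial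
    exact this

end Cfsg.Agent.S0768
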