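import Cfsg.Statements.S0769
import Mathlib


set_option autoImplicit false
open Cfsg

namespace Cfsg.Agent.S0769

open Matrix

variable {F : Type*} [Field F] {n : ℕ}

theorem det_lower {M : Matrix (Fin n) (Fin n) F} (h : ∀ i j : Fin n, i < j → M i j = 0) :
    M.det = ∏ i, M i i :=
  Matrix.det_of_isLowerTriangular M (fun i j hij => h i j hij)

/-- The entry types. -/
abbrev Ent (F : Type*) [Field F] {n : ℕ} (i j : Fin n) : Type _ :=
  {x : F // (i < j → x = 0) ∧ (i = j → x ≠ 0)}

/-- Lower-triangular invertible matrices as a dependent product. -/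
noncomputable def lowerEquiv :
    {g : Matrix.GeneralLinearGroup (Fin n) F //
      ∀ i j : Fin n, i < j → (g : Matrix (Fin n) (Fin n) F) i j = 0} ≃
    (∀ ij : Fin n × Fin n, Ent F ij.1 ij.2) where
  toFun g := fun ij => ⟨(g.1 : Matrix (Fin n) (Fin n) F) ij.1 ij.2, g.2 ij.1 ij.2, by
    intro h
    have h1 : (g.1 : Matrix (Fin n) (Fin n) F).det ≠ 0 := by
      have := Matrix.GeneralLinearGroup.det_ne_zero g.1
      exact this
    rw [det_lower g.2] at h1
    have := (Finset.prod_ne_zero_iff.mp h1) ij.1 (Finset.mem_univ _)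
    rw [← h]; exact this⟩
  invFun f := ⟨Matrix.GeneralLinearGroup.mkOfDetNeZero (Matrix.of fun i j => (f (i, j)).1) (by
      rw [det_lower (M := Matrix.of fun i j => (f (i, j)).1) (fun i j hij => (f (i, j)).2.1 hij)]
      exact Finset.prod_ne_zero_iff.mpr (fun i _ => (f (i, i)).2.2 rfl)),
    fun i j hij => (f (i, j)).2.1 hij⟩
  left_inv g := by
    apply Subtype.ext
    apply Units.ext
    ext i j
    rfl
  right_inv f := by
    funext ij
    apply Subtype.ext
    rfl

theorem card_ent [Finite F] {q : ℕ} (hF : Nat.card F = q) (i j : Fin n) :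
    Nat.card (Ent F i j) = (if i = j then q - 1 else 1) * (if j < i then q else 1) := by
  rcases lt_trichotomy i j with h | h | h
  · have hne : i ≠ j := ne_of_lt h
    have hnlt : ¬ j < i := not_lt_of_gt h
    rw [if_neg hne, if_neg hnlt]
    have : Ent F i j ≃ Unit :=
      { toFun := fun _ => ()
        invFun := fun _ => ⟨0, fun _ => rfl, fun h' => absurd h' hne⟩
        left_inv := fun x => Subtype.ext (x.2.1 h).symm
        right_inv := fun _ => rfl }
    rw [Nat.card_congr this]; simp
  · subst h
    rw [if_pos rfl, if_neg (lt_irrefl _), mul_one]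
    have : Ent F i i ≃ Fˣ :=
      { toFun := fun x => Units.mk0 x.1 (x.2.2 rfl)
        invFun := fun u => ⟨u.1, fun h' => absurd h' (lt_irrefl _), fun _ => u.ne_zero⟩
        left_inv := fun x => Subtype.ext rfl
        right_inv := fun u => Units.ext rfl }
    rw [Nat.card_congr this, Nat.card_units, hF]
  · have hne : i ≠ j := ne_of_gt h
    rw [if_neg hne, if_pos h, one_mul]
    have : Ent F i j ≃ F :=
      { toFun := fun x => x.1
        invFun := fun u => ⟨u, fun h' => absurd h' (not_lt_of_gt h), fun h' => absurd h' hne⟩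
        left_inv := fun x => Subtype.ext rfl
        right_inv := fun u => rfl }
    rw [Nat.card_congr this, hF]

theorem row_prod (q : ℕ) (i : Fin n) :
    ∏ j : Fin n, ((if i = j then q - 1 else 1) * (if j < i then q else 1)) = (q - 1) * q ^ (i : ℕ) := by
  rw [Finset.prod_mul_distrib, Finset.prod_ite_eq Finset.univ i (fun _ => q - 1), if_pos (Finset.mem_univ _),
    Finset.prod_ite, Finset.prod_const, Finset.prod_const_one, mul_one]
  congr 2
  have : (Finset.univ.filter fun j : Fin n => j < i) = Finset.Iio i := by
    ext j; simp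
  rw [this, Fin.card_Iio]

/-- Order of the Borel subgroup of GL_n(q): the invertible lower-triangular n × n matrices over a field with q elements number q^(n(n-1)/2) (q-1)^n (unitriangular part times the diagonal torus). -/
theorem result {F : Type*} [Field F] [Fintype F] {q : ℕ} (hF : Fintype.card F = q) (n : ℕ) : Nat.card {g : Matrix.GeneralLinearGroup (Fin n) F // ∀ i j : Fin n, i < j → (g : Matrix (Fin n) (Fin n) F) i j = 0} = q ^ (n * (n - 1) / 2) * (q - 1) ^ n := by
  have hF' : Nat.card F = q := by rw [Nat.card_eq_fintype_card, hF]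
  rw [Nat.card_congr lowerEquiv, Nat.card_pi, Fintype.prod_prod_type]
  simp_rw [card_ent hF', row_prod q]
  rw [Finset.prod_mul_distrib, Finset.prod_const, Finset.prod_pow_eq_pow_sum, Finset.card_univ,
    Fintype.card_fin, mul_comm]
  congr 2
  rw [Fin.sum_univ_eq_sum_range (fun i => i) n, Finset.sum_range_id]

end Cfsg.Agent.S0769
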