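import Cfsg.Statements.S0770
import Mathlib


set_option autoImplicit false
open Cfsg

namespace Cfsg.Agent.S0770


open Matrix

section
variable {F : Type*} [Field F] {n : ℕ}

/-- membership in the diagonal torus -/
theorem mem_torus_iff (t : Matrix.GeneralLinearGroup (Fin n) F) :
    t ∈ ((Units.map (Matrix.diagonalRingHom (Fin n) F).toMonoidHom).range :
      Subgroup (Matrix.GeneralLinearGroup (Fin n) F)) ↔
    ∃ d : Fin n → F, (t : Matrix (Fin n) (Fin n) F) = Matrix.diagonal d := by
  constructor
  · rintro ⟨u, rfl⟩
    exact ⟨u.val, rfl⟩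
  · rintro ⟨d, hd⟩
    have hdet : (Matrix.diagonal d).det ≠ 0 := by
      rw [← hd]
      have := t.isUnit.map (Matrix.detMonoidHom (n := Fin n) (R := F))
      exact this.ne_zero
    rw [Matrix.det_diagonal] at hdet
    have hdi : ∀ i, d i ≠ 0 := fun i => (Finset.prod_ne_zero_iff.mp hdet) i (Finset.mem_univ i)
    refine ⟨⟨d, fun i => (d i)⁻¹, ?_, ?_⟩, ?_⟩
    · funext i; simp [hdi i]
    · funext i; simp [hdi i]
    · apply Units.ext
      rw [hd]
      rfl

theorem mul_diagonal_eq_of_monomial (g : Matrix (Fin n) (Fin n) F) (σ : Fin n → Fin n)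
    (hσ : ∀ i k, g i k ≠ 0 → k = σ i) (d : Fin n → F) :
    g * Matrix.diagonal d = Matrix.diagonal (d ∘ σ) * g := by
  ext i k
  rw [Matrix.mul_diagonal, Matrix.diagonal_mul]
  by_cases h : g i k = 0
  · rw [h, zero_mul, mul_zero]
  · rw [hσ i k h, Function.comp_apply, mul_comm]

end

/-- For a field with at least 3 elements, an invertible matrix normalises the subgroup of invertible diagonal matrices of GL_n if and only if it is monomial (exactly one non-zero entry in each row). -/
theorem result {F : Type*} [Field F] (hF : ∃ a : F, a ≠ 0 ∧ a ≠ 1) (n : ℕ) (g : Matrix.GeneralLinearGroup (Fin n) F) : g ∈ Subgroup.normalizer ((Units.map (Matrix.diagonalRingHom (Fin n) F).toMonoidHom).range : Subgroup (Matrix.GeneralLinearGroup (Fin n) F)) ↔ ∀ i : Fin n, ∃! j : Fin n, (g : Matrix (Fin n) (Fin n) F) i j ≠ 0 := by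
  set T := ((Units.map (Matrix.diagonalRingHom (Fin n) F).toMonoidHom).range :
      Subgroup (Matrix.GeneralLinearGroup (Fin n) F)) with hT
  set gm : Matrix (Fin n) (Fin n) F := (g : Matrix (Fin n) (Fin n) F) with hgm
  set gi : Matrix (Fin n) (Fin n) F := ((g⁻¹ : Matrix.GeneralLinearGroup (Fin n) F) :
    Matrix (Fin n) (Fin n) F) with hgi
  have hggi : gm * gi = 1 := by
    have : ((g * g⁻¹ : Matrix.GeneralLinearGroup (Fin n) F) : Matrix (Fin n) (Fin n) F) = 1 := by
      rw [mul_inv_cancel]; rfl
    exact this
  have hgig : gi * gm = 1 := by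
    have : ((g⁻¹ * g : Matrix.GeneralLinearGroup (Fin n) F) : Matrix (Fin n) (Fin n) F) = 1 := by
      rw [inv_mul_cancel]; rfl
    exact this
  constructor
  · intro hg i
    rw [Subgroup.mem_normalizer_iff] at hg
    -- existence
    have hex : ∃ j, gm i j ≠ 0 := by
      by_contra hne
      push Not at hne
      have h1 : (gm * gi) i i = 0 := by
        rw [Matrix.mul_apply]
        apply Finset.sum_eq_zero
        intro k _
        rw [hne k, zero_mul]
      rw [hggi, Matrix.one_apply_eq] at h1
      exact one_ne_zero h1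
    obtain ⟨j, hj⟩ := hex
    refine ⟨j, hj, ?_⟩
    intro j' hj'
    by_contra hne
    obtain ⟨a, ha0, ha1⟩ := hF
    set d : Fin n → F := fun k => if k = j then a else 1 with hd
    have hdi : ∀ k, d k ≠ 0 := by
      intro k
      by_cases hk : k = j
      · simp [hd, hk, ha0]
      · simp [hd, hk]
    let u : (Fin n → F)ˣ := ⟨d, fun k => (d k)⁻¹, by funext k; simp [hdi k],
      by funext k; simp [hdi k]⟩
    set t : Matrix.GeneralLinearGroup (Fin n) F :=
      Units.map (Matrix.diagonalRingHom (Fin n) F).toMonoidHom u with ht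
    have htT : t ∈ T := ⟨u, rfl⟩
    have htm : (t : Matrix (Fin n) (Fin n) F) = Matrix.diagonal d := rfl
    obtain ⟨d', hd'⟩ := (mem_torus_iff _).mp ((hg t).mp htT)
    have h1 : gm * Matrix.diagonal d = Matrix.diagonal d' * gm := by
      have h2 : ((g * t * g⁻¹ : Matrix.GeneralLinearGroup (Fin n) F) :
          Matrix (Fin n) (Fin n) F) = gm * Matrix.diagonal d * gi := rfl
      rw [h2] at hd'
      rw [← hd', Matrix.mul_assoc, hgig, Matrix.mul_one]
    have e1 := congrFun (congrFun h1 i) j
    have e2 := congrFun (congrFun h1 i) j'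
    rw [Matrix.mul_diagonal, Matrix.diagonal_mul] at e1 e2
    have hdj : d j = a := by simp [hd]
    have hdj' : d j' = 1 := by simp [hd, hne]
    rw [hdj] at e1
    rw [hdj', mul_one] at e2
    have h3 : d' i = a := by
      have : gm i j * a = gm i j * d' i := by rw [e1, mul_comm]
      exact (mul_left_cancel₀ hj this).symm
    have h4 : d' i = 1 := by
      have : gm i j' * 1 = gm i j' * d' i := by rw [mul_one, mul_comm]; exact e2
      exact (mul_left_cancel₀ hj' this).symm
    exact ha1 (h3.symm.trans h4)
  · intro hmono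
    choose σ hσ using hmono
    have hσ1 : ∀ i, gm i (σ i) ≠ 0 := fun i => (hσ i).1
    have hσ2 : ∀ i k, gm i k ≠ 0 → k = σ i := fun i k hk => (hσ i).2 k hk
    -- σ injective
    have hinj : Function.Injective σ := by
      intro i i' hii
      by_contra hne
      have e1 : (gm * gi) i i = gm i (σ i) * gi (σ i) i := by
        rw [Matrix.mul_apply]
        apply Finset.sum_eq_single (σ i)
        · intro k _ hk
          have : gm i k = 0 := by
            by_contra h0
            exact hk (hσ2 i k h0)
          rw [this, zero_mul]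
        · intro h; exact absurd (Finset.mem_univ _) h
      have e2 : (gm * gi) i' i = gm i' (σ i') * gi (σ i') i := by
        rw [Matrix.mul_apply]
        apply Finset.sum_eq_single (σ i')
        · intro k _ hk
          have : gm i' k = 0 := by
            by_contra h0
            exact hk (hσ2 i' k h0)
          rw [this, zero_mul]
        · intro h; exact absurd (Finset.mem_univ _) h
      rw [hggi, Matrix.one_apply_eq] at e1
      rw [hggi, Matrix.one_apply_ne (Ne.symm hne), ← hii] at e2
      have h1 : gi (σ i) i = 0 := by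
        rcases mul_eq_zero.mp e2.symm with h | h
        · exact absurd h (hii ▸ hσ1 i')
        · exact h
      rw [h1, mul_zero] at e1
      exact one_ne_zero e1
    have hbij : Function.Bijective σ := Finite.injective_iff_bijective.mp hinj
    set e := Equiv.ofBijective σ hbij with he
    rw [Subgroup.mem_normalizer_iff]
    intro t
    have hmat : ((g * t * g⁻¹ : Matrix.GeneralLinearGroup (Fin n) F) :
        Matrix (Fin n) (Fin n) F) = gm * (t : Matrix (Fin n) (Fin n) F) * gi := rfl
    constructor
    · intro ht
      obtain ⟨d, hd⟩ := (mem_torus_iff t).mp ht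
      rw [mem_torus_iff]
      refine ⟨d ∘ σ, ?_⟩
      rw [hmat, hd, mul_diagonal_eq_of_monomial gm σ hσ2 d, Matrix.mul_assoc, hggi, Matrix.mul_one]
    · intro ht
      obtain ⟨d', hd'⟩ := (mem_torus_iff _).mp ht
      rw [hmat] at hd'
      rw [mem_torus_iff]
      refine ⟨d' ∘ e.symm, ?_⟩
      have h1 : gm * Matrix.diagonal (d' ∘ e.symm) = gm * (t : Matrix (Fin n) (Fin n) F) := by
        rw [mul_diagonal_eq_of_monomial gm σ hσ2]
        have : (d' ∘ e.symm) ∘ σ = d' := by
          funext i
          simp only [Function.comp_apply]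
          congr 1
          exact e.symm_apply_apply i
        rw [this, ← hd', Matrix.mul_assoc, hgig, Matrix.mul_one]
      have h2 := congrArg (fun M => gi * M) h1
      simp only [← Matrix.mul_assoc, hgig, Matrix.one_mul] at h2
      exact h2.symm

end Cfsg.Agent.S0770
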