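import Cfsg.Statements.S0774
import Mathlib
import Cfsg.Agent.Lib.Helper2.SpBorel

set_option autoImplicit false
open Cfsg

namespace Cfsg.Agent.S0774

open Cfsg.Agent.Lib.Helper2 Cfsg.Agent.Lib.Helper2.SpBorel Cfsg.Agent.Lib.Helper2.SpFrames Cfsg.Agent.Lib.Helper2.IsoFrames Cfsg.Agent.Lib.Helper2.IsomDecomp Cfsg.Agent.Lib.Helper2.SpIsom in
theorem mem_stabilizing_iff {F : Type*} [Field F] {m : ℕ} (A : Matrix.symplecticGroup (Fin m) F)
    (k : Fin m) :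
    A ∈ Cfsg.stabilizing (Cfsg.spToMat m F) {v : Fin m ⊕ Fin m → F |
      (∀ i : Fin m, (k : ℕ) < (i : ℕ) → v (Sum.inl i) = 0) ∧ ∀ i : Fin m, v (Sum.inr i) = 0} ↔
    spHom m F A ∈ stab (Wk m F ((k : ℕ) + 1)) := Iff.rfl

theorem arith (q m : ℕ) (hq : 2 ≤ q) :
    (q ^ (m ^ 2) * (q - 1) ^ m) * ∏ j ∈ Finset.range m, (q ^ (2 * m - j) - q ^ j) =
    (∏ j ∈ Finset.range m, (q ^ (j + 1) - q ^ j)) *
      (q ^ (m ^ 2) * ∏ i ∈ Finset.range m, (q ^ (2 * (i + 1)) - 1)) := by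
  have h1 : ∏ j ∈ Finset.range m, (q ^ (2 * m - j) - q ^ j) =
      (∏ j ∈ Finset.range m, q ^ j) * ∏ j ∈ Finset.range m, (q ^ (2 * (m - j)) - 1) := by
    rw [← Finset.prod_mul_distrib]
    apply Finset.prod_congr rfl
    intro j hj
    rw [Finset.mem_range] at hj
    rw [Nat.mul_sub, mul_one, ← pow_add]
    congr 2
    omega
  have h2 : ∏ j ∈ Finset.range m, (q ^ (j + 1) - q ^ j) =
      (∏ j ∈ Finset.range m, q ^ j) * (q - 1) ^ m := by
    have : ∀ j ∈ Finset.range m, q ^ (j + 1) - q ^ j = q ^ j * (q - 1) := by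
      intro j _
      rw [Nat.mul_sub, mul_one, pow_succ]
    rw [Finset.prod_congr rfl this, Finset.prod_mul_distrib, Finset.prod_const, Finset.card_range]
  have h3 : ∏ j ∈ Finset.range m, (q ^ (2 * (m - j)) - 1) =
      ∏ i ∈ Finset.range m, (q ^ (2 * (i + 1)) - 1) := by
    rw [← Finset.prod_range_reflect]
    apply Finset.prod_congr rfl
    intro j hj
    rw [Finset.mem_range] at hj
    congr 3
    omega
  rw [h1, h2, h3]
  ring

/-- Borel subgroup of the symplectic group: the elements of Sp_2m(q) stabilising each of the totally isotropic coordinate subspaces ⟨e_0, ..., e_k⟩ (k < m) form a subgroup of order q^(m²) (q − 1)^m. -/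
theorem result {F : Type*} [Field F] [Fintype F] {q : ℕ} (hF : Fintype.card F = q) (m : ℕ) : Nat.card ↥(⨅ k : Fin m, Cfsg.stabilizing (Cfsg.spToMat m F) {v : Fin m ⊕ Fin m → F | (∀ i : Fin m, (k : ℕ) < (i : ℕ) → v (Sum.inl i) = 0) ∧ ∀ i : Fin m, v (Sum.inr i) = 0}) = q ^ (m ^ 2) * (q - 1) ^ m := by
  classical
  have hq : 2 ≤ q := by
    rw [← hF]
    exact Fintype.one_lt_card
  set K : Subgroup (Matrix.symplecticGroup (Fin m) F) :=
    ⨅ k : Fin m, Cfsg.stabilizing (Cfsg.spToMat m F) {v : Fin m ⊕ Fin m → F | (∀ i : Fin m, (k : ℕ) < (i : ℕ) → v (Sum.inl i) = 0) ∧ ∀ i : Fin m, v (Sum.inr i) = 0} with hK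
  have hKmem : ∀ A : Matrix.symplecticGroup (Fin m) F, A ∈ K ↔
      ∀ k : Fin m, Cfsg.Agent.Lib.Helper2.SpIsom.spHom m F A ∈
        Cfsg.Agent.Lib.Helper2.IsomDecomp.stab (Cfsg.Agent.Lib.Helper2.SpBorel.Wk m F ((k : ℕ) + 1)) := by
    intro A
    rw [hK, Subgroup.mem_iInf]
    exact forall_congr' (fun k => mem_stabilizing_iff A k)
  set H := K.map (Cfsg.Agent.Lib.Helper2.SpIsom.spHom m F) with hH
  have hcard : Nat.card ↥H = Nat.card ↥K :=
    Subgroup.card_map_of_injective Cfsg.Agent.Lib.Helper2.SpFrames.spHom_injective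
  have hHle : H ≤ Cfsg.Agent.Lib.Helper2.IsomDecomp.isom (Cfsg.sympForm m F) := by
    rintro g ⟨A, -, rfl⟩
    exact Cfsg.Agent.Lib.Helper2.SpFrames.spHom_mem_isom A
  have hmemH : ∀ g ∈ Cfsg.Agent.Lib.Helper2.IsomDecomp.isom (Cfsg.sympForm m F),
      ∀ u ∈ Cfsg.Agent.Lib.Helper2.SpBorel.Adapted m F,
      (∀ i, g (Cfsg.Agent.Lib.Helper2.SpBorel.e i) = u i) → g ∈ H := by
    intro g hg u hu hgu
    obtain ⟨A, rfl⟩ := Cfsg.Agent.Lib.Helper2.SpFrames.exists_sp_of_isom hg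
    refine ⟨A, ?_, rfl⟩
    rw [SetLike.mem_coe, hKmem]
    intro k
    exact Cfsg.Agent.Lib.Helper2.SpBorel.mem_stab_Wk _ hu hgu _
  have key := Cfsg.Agent.Lib.Helper2.IsoFrames.card_mul_of_stabilizer_le (Cfsg.sympForm m F) m
    (fun u hu u' hu' => Cfsg.Agent.Lib.Helper2.SpFrames.frame_trans u hu u' hu') H hHle
    (Cfsg.Agent.Lib.Helper2.SpBorel.e)
    (Cfsg.Agent.Lib.Helper2.SpBorel.adapted_frame Cfsg.Agent.Lib.Helper2.SpBorel.e_adapted)
    (by
      rintro g ⟨hg1, hg2⟩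
      have hg2' : g • (Cfsg.Agent.Lib.Helper2.SpBorel.e : Fin m → (Fin m ⊕ Fin m → F)) =
          Cfsg.Agent.Lib.Helper2.SpBorel.e := MulAction.mem_stabilizer_iff.1 hg2
      exact hmemH g hg1 _ Cfsg.Agent.Lib.Helper2.SpBorel.e_adapted (fun i => congrFun hg2' i))
    (Cfsg.Agent.Lib.Helper2.SpBorel.Adapted m F)
    (by
      intro r
      constructor
      · intro hr
        obtain ⟨g, hg, hgu⟩ := Cfsg.Agent.Lib.Helper2.SpFrames.frame_trans _
          (Cfsg.Agent.Lib.Helper2.SpBorel.adapted_frame Cfsg.Agent.Lib.Helper2.SpBorel.e_adapted)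
          r (Cfsg.Agent.Lib.Helper2.SpBorel.adapted_frame hr)
        exact ⟨g, hmemH g hg r hr hgu, funext hgu⟩
      · rintro ⟨g, ⟨A, hA, rfl⟩, rfl⟩
        apply Cfsg.Agent.Lib.Helper2.SpBorel.adapted_of_stab
        exact (hKmem A).1 hA)
  rw [hcard, Cfsg.Agent.Lib.Helper2.SpFrames.ncard_frame hF,
    Cfsg.Agent.Lib.Helper2.SpBorel.ncard_adapted, Cfsg.Agent.Lib.Helper2.SpFrames.card_isom,
    Cfsg.Agent.S0245.result hF m, hF] at key
  have hX : 0 < ∏ j ∈ Finset.range m, (q ^ (2 * m - j) - q ^ j) := by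
    apply Finset.prod_pos
    intro j hj
    rw [Finset.mem_range] at hj
    apply Nat.sub_pos_of_lt
    apply Nat.pow_lt_pow_right hq
    omega
  apply Nat.eq_of_mul_eq_mul_right hX
  rw [key, arith q m hq]

end Cfsg.Agent.S0774
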