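import Cfsg.Statements.S0775
import Mathlib
import Cfsg.Agent.Lib.Helper2.SpFrames

set_option autoImplicit false
open Cfsg

namespace Cfsg.Agent.S0775

theorem tri_succ (k : ℕ) : (k + 1) * (k + 1 + 1) / 2 = k * (k + 1) / 2 + (k + 1) := by
  have : (k + 1) * (k + 1 + 1) = k * (k + 1) + 2 * (k + 1) := by ring
  rw [this, Nat.add_mul_div_left _ _ (by norm_num : 0 < 2)]

/-- the arithmetic identity, by induction on `k` -/
theorem arith (q m : ℕ) (hq : 1 ≤ q) : ∀ k, k ≤ m →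
    q ^ (k * (k + 1) / 2 + 2 * k * (m - k)) *
      (q ^ ((m - k) ^ 2) * ∏ i ∈ Finset.range (m - k), (q ^ (2 * (i + 1)) - 1)) *
      ∏ j ∈ Finset.range k, (q ^ (2 * m - j) - q ^ j) =
    q ^ (m ^ 2) * ∏ i ∈ Finset.range m, (q ^ (2 * (i + 1)) - 1) := by
  intro k
  induction k with
  | zero =>
    intro _
    simp
  | succ k ih =>
    intro hk
    obtain ⟨s, rfl⟩ : ∃ s, m = k + 1 + s := ⟨m - (k + 1), by omega⟩
    rw [← ih (by omega)]
    have e1 : k + 1 + s - (k + 1) = s := by omega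
    have e2 : k + 1 + s - k = s + 1 := by omega
    rw [e1, e2, Finset.prod_range_succ (fun j => q ^ (2 * (k + 1 + s) - j) - q ^ j) k,
      Finset.prod_range_succ (fun i => q ^ (2 * (i + 1)) - 1) s, tri_succ]
    have e3 : q ^ (2 * (k + 1 + s) - k) - q ^ k = q ^ k * (q ^ (2 * (s + 1)) - 1) := by
      rw [Nat.mul_sub, mul_one, ← pow_add]
      congr 2
      omega
    rw [e3]
    have e4 : q ^ (k * (k + 1) / 2 + 2 * k * (s + 1)) * q ^ ((s + 1) ^ 2) =
        q ^ (k * (k + 1) / 2 + (k + 1) + 2 * (k + 1) * s) * q ^ (s ^ 2) * q ^ k := by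
      rw [← pow_add, ← pow_add, ← pow_add]
      congr 1
      ring
    set P := ∏ i ∈ Finset.range s, (q ^ (2 * (i + 1)) - 1)
    set X := ∏ j ∈ Finset.range k, (q ^ (2 * (k + 1 + s) - j) - q ^ j)
    calc q ^ (k * (k + 1) / 2 + (k + 1) + 2 * (k + 1) * s) * (q ^ s ^ 2 * P) *
          (X * (q ^ k * (q ^ (2 * (s + 1)) - 1)))
        = (q ^ (k * (k + 1) / 2 + (k + 1) + 2 * (k + 1) * s) * q ^ (s ^ 2) * q ^ k) *
          (P * (q ^ (2 * (s + 1)) - 1)) * X := by ring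
      _ = q ^ (k * (k + 1) / 2 + 2 * k * (s + 1)) *
          (q ^ (s + 1) ^ 2 * (P * (q ^ (2 * (s + 1)) - 1))) * X := by rw [← e4]; ring

/-- Maximal parabolics of the symplectic group: if W is a k-dimensional subspace of F^(2m) on which the symplectic form vanishes identically, its stabiliser in Sp_2m(q) has order q^(k(k+1)/2 + 2k(m−k)) · |Sp_(2m−2k)(q)| · |GL_k(q)|. -/
theorem result {F : Type*} [Field F] [Fintype F] {q : ℕ} (hF : Fintype.card F = q) (m k : ℕ) (hk : k ≤ m) (W : Submodule F (Fin m ⊕ Fin m → F)) (hWk : Module.finrank F W = k) (hW : ∀ u ∈ W, ∀ v ∈ W, Cfsg.sympForm m F u v = 0) : Nat.card ↥(Cfsg.stabilizing (Cfsg.spToMat m F) (W : Set (Fin m ⊕ Fin m → F))) = q ^ (k * (k + 1) / 2 + 2 * k * (m - k)) * (q ^ ((m - k) ^ 2) * ∏ i ∈ Finset.range (m - k), (q ^ (2 * (i + 1)) - 1)) * ∏ i : Fin k, (q ^ k - q ^ (i : ℕ)) := by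
  have hq : 2 ≤ q := by
    rw [← hF]
    exact Fintype.one_lt_card
  have h := Cfsg.Agent.Lib.Helper2.SpFrames.card_stab_mul_sp hF k W hWk hW
  rw [Cfsg.Agent.S0245.result hF m] at h
  have hX : 0 < ∏ j ∈ Finset.range k, (q ^ (2 * m - j) - q ^ j) := by
    apply Finset.prod_pos
    intro j hj
    rw [Finset.mem_range] at hj
    apply Nat.sub_pos_of_lt
    apply Nat.pow_lt_pow_right hq
    omega
  apply Nat.eq_of_mul_eq_mul_right hX
  rw [h, mul_comm _ (∏ i : Fin k, (q ^ k - q ^ (i : ℕ))), mul_assoc, mul_assoc,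
    ← mul_assoc (q ^ (k * (k + 1) / 2 + 2 * k * (m - k)))]
  congr 1
  rw [← arith q m (by omega) k hk]

end Cfsg.Agent.S0775
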