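import Cfsg.Statements.S0776
import Mathlib
import Cfsg.Agent.Lib.Helper2.SpIsom

set_option autoImplicit false
open Cfsg

namespace Cfsg.Agent.S0776

/-- If W ≤ F^(2m) is a 2k-dimensional subspace on which the symplectic form is non-degenerate, then the stabiliser of W in Sp_2m(F) is isomorphic to Sp_2k(F) × Sp_(2m−2k)(F). -/
theorem result {F : Type*} [Field F] (m k : ℕ) (hk : k ≤ m) (W : Submodule F (Fin m ⊕ Fin m → F)) (hWk : Module.finrank F W = 2 * k) (hW : ∀ u ∈ W, (∀ v ∈ W, Cfsg.sympForm m F u v = 0) → u = 0) : Nonempty (↥(Cfsg.stabilizing (Cfsg.spToMat m F) (W : Set (Fin m ⊕ Fin m → F))) ≃* Matrix.symplecticGroup (Fin k) F × Matrix.symplecticGroup (Fin (m - k)) F) := by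
  classical
  open Cfsg.Agent.Lib.Helper2.SpIsom Cfsg.Agent.Lib.Helper2.IsomDecomp Cfsg.Agent.Lib.Helper2.Symp in
  have hAlt : (sympBilin m F).IsAlt := sympBilin_isAlt
  have hrefl : (sympBilin m F).IsRefl := hAlt.isRefl
  -- nondegeneracy of the restriction to `W`
  have hndW : ∀ x : W, (∀ y : W, ((sympBilin m F).restrict W) x y = 0) → x = 0 := by
    intro x hx
    apply Subtype.ext
    apply hW x x.2
    intro v hv
    have := hx ⟨v, hv⟩
    rw [← sympBilin_apply]
    exact this
  have hnd : ((sympBilin m F).restrict W).Nondegenerate := by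
    refine ⟨hndW, ?_⟩
    intro y hy
    apply hndW y
    intro x
    have h1 := hy x
    have h2 : ((sympBilin m F).restrict W) y x = -((sympBilin m F).restrict W) x y := by
      show sympBilin m F (y : Fin m ⊕ Fin m → F) (x : Fin m ⊕ Fin m → F) =
        -sympBilin m F (x : Fin m ⊕ Fin m → F) (y : Fin m ⊕ Fin m → F)
      rw [← hAlt.neg_eq]
    rw [h2, h1, neg_zero]
  have hcompl : IsCompl W ((sympBilin m F).orthogonal W) :=
    LinearMap.BilinForm.isCompl_orthogonal_of_restrict_nondegenerate hrefl hnd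
  set W' := (sympBilin m F).orthogonal W with hW'
  have hortho : ∀ w ∈ W, ∀ w' ∈ W', Cfsg.sympForm m F w w' = 0 := by
    intro w hw w' hw'
    rw [hW', LinearMap.BilinForm.mem_orthogonal_iff] at hw'
    have h2 : sympBilin m F w w' = 0 := hw' w hw
    rwa [sympBilin_apply] at h2
  have hdec : OrthoDecomp (Cfsg.sympForm m F) W W' :=
    { compl := hcompl
      add_left := sympForm_add_left
      add_right := sympForm_add_right
      ortho := hortho
      ortho' := by
        intro w hw w' hw'
        rw [sympForm_swap, hortho w hw w' hw', neg_zero]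
      mem' := by
        intro v hv
        rw [hW', LinearMap.BilinForm.mem_orthogonal_iff]
        intro w hw
        show sympBilin m F w v = 0
        rw [sympBilin_apply]
        exact hv w hw }
  have hndW' : ∀ x : W', (∀ y : W', ((sympBilin m F).restrict W') x y = 0) → x = 0 := by
    intro x hx
    apply Subtype.ext
    apply sympForm_nondeg
    intro v
    obtain ⟨w, w', rfl⟩ := exists_decomp hdec v
    rw [sympForm_add_right, hdec.ortho' w w.2 x x.2, zero_add]
    have := hx w'
    rw [← sympBilin_apply]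
    exact this
  obtain ⟨m₁, b₁, hm₁, hb₁⟩ := Cfsg.Agent.Lib.Helper5.AltForm.exists_symplectic_basis
    (B := (sympBilin m F).restrict W) (fun x => hAlt (x : Fin m ⊕ Fin m → F)) hndW
  obtain ⟨m₂, b₂, hm₂, hb₂⟩ := Cfsg.Agent.Lib.Helper5.AltForm.exists_symplectic_basis
    (B := (sympBilin m F).restrict W') (fun x => hAlt (x : Fin m ⊕ Fin m → F)) hndW'
  have hfr : Module.finrank F W + Module.finrank F W' = 2 * m := by
    rw [Submodule.finrank_add_eq_of_isCompl hcompl, Module.finrank_fintype_fun_eq_card,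
      Fintype.card_sum, Fintype.card_fin]
    omega
  obtain rfl : m₁ = k := by omega
  obtain rfl : m₂ = m - m₁ := by omega
  have hb₁' : ∀ x y, Cfsg.sympForm m F (b₁ x : Fin m ⊕ Fin m → F) (b₁ y : Fin m ⊕ Fin m → F) =
      Matrix.J (Fin m₁) F x y := by
    intro x y
    rw [← sympBilin_apply]
    exact hb₁ x y
  have hb₂' : ∀ x y, Cfsg.sympForm m F (b₂ x : Fin m ⊕ Fin m → F) (b₂ y : Fin m ⊕ Fin m → F) =
      Matrix.J (Fin (m - m₁)) F x y := by
    intro x y
    rw [← sympBilin_apply]
    exact hb₂ x y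
  exact ⟨(stabEquiv W).trans ((decompEquiv hdec).trans
    (MulEquiv.prodCongr (isomSubEquiv W b₁ hb₁') (isomSubEquiv W' b₂ hb₂')))⟩

end Cfsg.Agent.S0776
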