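import Cfsg.Statements.S0778
import Mathlib


set_option autoImplicit false
open Cfsg

namespace Cfsg.Agent.S0778

open Matrix

variable {F : Type*} [Field F] {m : ℕ}

theorem diag_mem (X : Matrix.GeneralLinearGroup (Fin m) F) :
    Matrix.fromBlocks (X : Matrix (Fin m) (Fin m) F) 0 0
      ((X⁻¹ : Matrix.GeneralLinearGroup (Fin m) F) : Matrix (Fin m) (Fin m) F)ᵀ
      ∈ Matrix.symplecticGroup (Fin m) F := by
  rw [SymplecticGroup.fromBlocks_mem_iff]
  refine ⟨by simp, by simp, ?_⟩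
  rw [← Matrix.transpose_mul]
  have : ((X⁻¹ : Matrix.GeneralLinearGroup (Fin m) F) : Matrix (Fin m) (Fin m) F) *
      (X : Matrix (Fin m) (Fin m) F) = 1 := by
    rw [← Units.val_mul, inv_mul_cancel]; rfl
  rw [this]; simp

/-- The block-diagonal embedding. -/
def diagHom : Matrix.GeneralLinearGroup (Fin m) F →* Matrix.symplecticGroup (Fin m) F where
  toFun X := ⟨_, diag_mem X⟩
  map_one' := by
    apply Subtype.ext
    simp [Matrix.fromBlocks_one]
  map_mul' X Y := by
    apply Subtype.ext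
    simp only [Submonoid.coe_mul, Matrix.fromBlocks_multiply]
    simp [Matrix.transpose_mul]

theorem diagHom_injective : Function.Injective (diagHom (F := F) (m := m)) := by
  intro X Y h
  have h1 := congrArg Subtype.val h
  simp only [diagHom, MonoidHom.coe_mk, OneHom.coe_mk] at h1
  have := (Matrix.fromBlocks_inj.mp h1).1
  exact Units.ext this

theorem range_diagHom :
    (diagHom (F := F) (m := m)).range =
      Cfsg.stabilizing (Cfsg.spToMat m F) {v : Fin m ⊕ Fin m → F | ∀ i : Fin m, v (Sum.inr i) = 0} ⊓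
      Cfsg.stabilizing (Cfsg.spToMat m F) {v : Fin m ⊕ Fin m → F | ∀ i : Fin m, v (Sum.inl i) = 0} := by
  apply le_antisymm
  · rintro g ⟨X, rfl⟩
    have hXi : ((X⁻¹ : Matrix.GeneralLinearGroup (Fin m) F) : Matrix (Fin m) (Fin m) F) *
        (X : Matrix (Fin m) (Fin m) F) = 1 := by
      rw [← Units.val_mul, inv_mul_cancel]; rfl
    have hXi' : (X : Matrix (Fin m) (Fin m) F) *
        ((X⁻¹ : Matrix.GeneralLinearGroup (Fin m) F) : Matrix (Fin m) (Fin m) F) = 1 := by
      rw [← Units.val_mul, mul_inv_cancel]; rfl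
    refine Subgroup.mem_inf.mpr ⟨?_, ?_⟩
    · intro v
      change (∀ i, v (Sum.inr i) = 0) ↔ ∀ i, ((Matrix.fromBlocks (X : Matrix (Fin m) (Fin m) F) 0 0
        ((X⁻¹ : Matrix.GeneralLinearGroup (Fin m) F) : Matrix (Fin m) (Fin m) F)ᵀ) *ᵥ v) (Sum.inr i) = 0
      simp only [Matrix.fromBlocks_mulVec, Sum.elim_inr, Matrix.zero_mulVec, zero_add]
      constructor
      · intro h i
        have : v ∘ Sum.inr = 0 := funext h
        rw [this]; simp
      · intro h i
        have h0 : ((X⁻¹ : Matrix.GeneralLinearGroup (Fin m) F) : Matrix (Fin m) (Fin m) F)ᵀ *ᵥ (v ∘ Sum.inr) = 0 :=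
          funext h
        have := congrArg (fun w => (X : Matrix (Fin m) (Fin m) F)ᵀ *ᵥ w) h0
        simp only [Matrix.mulVec_mulVec, ← Matrix.transpose_mul, hXi, Matrix.transpose_one,
          Matrix.one_mulVec, Matrix.mulVec_zero] at this
        exact congrFun this i
    · intro v
      change (∀ i, v (Sum.inl i) = 0) ↔ ∀ i, ((Matrix.fromBlocks (X : Matrix (Fin m) (Fin m) F) 0 0
        ((X⁻¹ : Matrix.GeneralLinearGroup (Fin m) F) : Matrix (Fin m) (Fin m) F)ᵀ) *ᵥ v) (Sum.inl i) = 0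
      simp only [Matrix.fromBlocks_mulVec, Sum.elim_inl, Matrix.zero_mulVec, add_zero]
      constructor
      · intro h i
        have : v ∘ Sum.inl = 0 := funext h
        rw [this]; simp
      · intro h i
        have h0 : (X : Matrix (Fin m) (Fin m) F) *ᵥ (v ∘ Sum.inl) = 0 :=
          funext h
        have := congrArg (fun w => ((X⁻¹ : Matrix.GeneralLinearGroup (Fin m) F) : Matrix (Fin m) (Fin m) F) *ᵥ w) h0
        simp only [Matrix.mulVec_mulVec, hXi, Matrix.one_mulVec, Matrix.mulVec_zero] at this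
        exact congrFun this i
  · intro g hg
    obtain ⟨hW, hU⟩ := Subgroup.mem_inf.mp hg
    have hgv : ∀ v, (Cfsg.spToMat m F g) *ᵥ v = (g : Matrix _ _ F) *ᵥ v := fun _ => rfl
    have hC : (g : Matrix (Fin m ⊕ Fin m) (Fin m ⊕ Fin m) F).toBlocks₂₁ = 0 := by
      ext i j
      have h1 := (hW (Pi.single (Sum.inl j) 1)).mp (by
        intro i; simp)
      have h2 := h1 i
      rw [hgv] at h2
      simpa [Matrix.mulVec_single_one, Matrix.toBlocks₂₁] using h2
    have hB : (g : Matrix (Fin m ⊕ Fin m) (Fin m ⊕ Fin m) F).toBlocks₁₂ = 0 := by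
      ext i j
      have h1 := (hU (Pi.single (Sum.inr j) 1)).mp (by
        intro i; simp)
      have h2 := h1 i
      rw [hgv] at h2
      simpa [Matrix.mulVec_single_one, Matrix.toBlocks₁₂] using h2
    have hmem := g.2
    rw [← Matrix.fromBlocks_toBlocks (g : Matrix (Fin m ⊕ Fin m) (Fin m ⊕ Fin m) F),
      SymplecticGroup.fromBlocks_mem_iff] at hmem
    obtain ⟨-, -, h3⟩ := hmem
    rw [hC, hB] at h3
    simp only [Matrix.transpose_zero, Matrix.zero_mul, sub_zero] at h3
    set A := (g : Matrix (Fin m ⊕ Fin m) (Fin m ⊕ Fin m) F).toBlocks₁₁ with hA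
    set D := (g : Matrix (Fin m ⊕ Fin m) (Fin m ⊕ Fin m) F).toBlocks₂₂ with hD
    have h4 : Dᵀ * A = 1 := by
      have := congrArg Matrix.transpose h3
      simpa [Matrix.transpose_mul] using this
    have h5 : A * Dᵀ = 1 := mul_eq_one_comm.mp h4
    refine ⟨⟨A, Dᵀ, h5, h4⟩, ?_⟩
    apply Subtype.ext
    change Matrix.fromBlocks A 0 0 (Dᵀ)ᵀ = _
    rw [Matrix.transpose_transpose]
    conv_rhs => rw [← Matrix.fromBlocks_toBlocks (g : Matrix (Fin m ⊕ Fin m) (Fin m ⊕ Fin m) F), hB, hC]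

/-- The elements of Sp_2m(F) stabilising both W = ⟨e_1..e_m⟩ and U = ⟨f_1..f_m⟩ form a subgroup isomorphic to GL_m(F) (block-diagonal matrices diag(X, X^(−ᵀ)) up to the sign convention of J), for m ≥ 1 or m = 0 alike. -/
theorem result {F : Type*} [Field F] (m : ℕ) : Nonempty (↥(Cfsg.stabilizing (Cfsg.spToMat m F) {v : Fin m ⊕ Fin m → F | ∀ i : Fin m, v (Sum.inr i) = 0} ⊓ Cfsg.stabilizing (Cfsg.spToMat m F) {v : Fin m ⊕ Fin m → F | ∀ i : Fin m, v (Sum.inl i) = 0}) ≃* Matrix.GeneralLinearGroup (Fin m) F) := by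
  exact ⟨(MulEquiv.subgroupCongr range_diagHom.symm).trans
    (MonoidHom.ofInjective diagHom_injective).symm⟩

end Cfsg.Agent.S0778
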