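import Cfsg.Statements.S0782
import Mathlib
import Cfsg.Agent.Lib.Helper2.HermFrames3

set_option autoImplicit false
open Cfsg

namespace Cfsg.Agent.S0782

open Cfsg.Agent.Lib.Helper2.HermFrames

/-- the order formula of the unitary group -/
def guOrd (q d : ℕ) : ℕ :=
  q ^ (d * (d - 1) / 2) * ∏ i ∈ Finset.range d, (if Even i then q ^ (i + 1) + 1 else q ^ (i + 1) - 1)

theorem guOrd_succ_succ (q d : ℕ) :
    guOrd q (d + 2) = q ^ (2 * d + 1) * isoCount q (d + 2) * guOrd q d := by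
  unfold guOrd isoCount
  have e1 : (d + 2) * (d + 2 - 1) / 2 = d * (d - 1) / 2 + (2 * d + 1) := by
    have : (d + 2) * (d + 2 - 1) = d * (d - 1) + 2 * (2 * d + 1) := by
      cases d with
      | zero => rfl
      | succ e =>
        have e3 : e + 1 + 2 - 1 = e + 2 := by omega
        have e4 : e + 1 - 1 = e := by omega
        rw [e3, e4]
        ring
    rw [this, Nat.add_mul_div_left _ _ (by norm_num : 0 < 2)]
  rw [e1, Finset.prod_range_succ, Finset.prod_range_succ, pow_add]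
  have e2 : d + 2 - 1 = d + 1 := by omega
  rw [e2]
  rcases Nat.even_or_odd d with hd | hd
  · have h1 : Even (d + 2) := by
      rw [Nat.even_add]; simp [hd]
    have h2 : ¬ Even (d + 1) := by
      rw [Nat.even_add_one]; simpa using hd
    rw [if_pos hd, if_neg h2, if_pos h1]
    ring
  · have hd' : ¬ Even d := Nat.not_even_iff_odd.2 hd
    have h1 : ¬ Even (d + 2) := by
      rw [Nat.even_add]; simp [hd']
    have h2 : Even (d + 1) := by
      rw [Nat.even_add_one]; exact hd'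
    rw [if_neg hd', if_pos h2, if_neg h1]
    ring

theorem arith2 (q : ℕ) : ∀ k d : ℕ,
    q ^ (k * (k + 2 * d)) * guOrd q d *
      ∏ j ∈ Finset.range k, ((q ^ 2) ^ j * isoCount q (2 * k + d - 2 * j)) = guOrd q (2 * k + d) := by
  intro k
  induction k with
  | zero =>
    intro d
    simp
  | succ k ih =>
    intro d
    have e0 : 2 * (k + 1) + d = 2 * k + (d + 2) := by ring
    rw [e0, ← ih (d + 2), Finset.prod_range_succ, guOrd_succ_succ]
    have e1 : 2 * k + (d + 2) - 2 * k = d + 2 := by omega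
    rw [e1]
    have e2 : q ^ ((k + 1) * (k + 1 + 2 * d)) * (q ^ 2) ^ k =
        q ^ (k * (k + 2 * (d + 2))) * q ^ (2 * d + 1) := by
      rw [← pow_mul, ← pow_add, ← pow_add]
      congr 1
      ring
    set X := ∏ j ∈ Finset.range k, ((q ^ 2) ^ j * isoCount q (2 * k + (d + 2) - 2 * j))
    calc q ^ ((k + 1) * (k + 1 + 2 * d)) * guOrd q d * (X * ((q ^ 2) ^ k * isoCount q (d + 2)))
        = (q ^ ((k + 1) * (k + 1 + 2 * d)) * (q ^ 2) ^ k) * (isoCount q (d + 2) * guOrd q d) * X := by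
          ring
      _ = q ^ (k * (k + 2 * (d + 2))) * (q ^ (2 * d + 1) * isoCount q (d + 2) * guOrd q d) * X := by
          rw [e2]; ring

theorem isoCount_pos (q d : ℕ) (hq : 2 ≤ q) (hd : 2 ≤ d) : 0 < isoCount q d := by
  unfold isoCount
  have h1 : 2 ≤ q ^ d := by
    calc 2 ≤ q := hq
      _ = q ^ 1 := (pow_one q).symm
      _ ≤ q ^ d := Nat.pow_le_pow_right (by omega) (by omega)
  have h2 : 2 ≤ q ^ (d - 1) := by
    calc 2 ≤ q := hq
      _ = q ^ 1 := (pow_one q).symm
      _ ≤ q ^ (d - 1) := Nat.pow_le_pow_right (by omega) (by omega)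
  split_ifs
  · apply Nat.mul_pos <;> omega
  · apply Nat.mul_pos <;> omega

/-- Maximal parabolics of SU_n(q): if W is a k-dimensional subspace of F^n (n ≥ 1, |F| = q²) on which the Hermitian form vanishes, then (q + 1) times the order of its stabiliser in SU_n(q) equals q^(k(2n−3k)) · |GL_k(q²)| · |GU_(n−2k)(q)|, where |GU_m(q)| = q^(m(m−1)/2) Π_(i=1..m) (q^i − (−1)^i). -/
theorem result {F : Type*} [Field F] [Fintype F] {q : ℕ} (hF : Fintype.card F = q ^ 2) (n k : ℕ) (hn : 1 ≤ n) (hk : 2 * k ≤ n) (W : Submodule F (Fin n → F)) (hWk : Module.finrank F W = k) (hW : ∀ u ∈ W, ∀ v ∈ W, Cfsg.hermForm n F q u v = 0) : (q + 1) * Nat.card ↥((Cfsg.stabilizing (Cfsg.slToMat n F) (W : Set (Fin n → F))).subgroupOf (Cfsg.SU n F q)) = q ^ (k * (2 * n - 3 * k)) * (∏ i : Fin k, ((q ^ 2) ^ k - (q ^ 2) ^ (i : ℕ))) * (q ^ ((n - 2 * k) * ((n - 2 * k) - 1) / 2) * ∏ i ∈ Finset.range (n - 2 * k), (if Even i then q ^ (i + 1) + 1 else q ^ (i + 1) - 1)) := by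
  classical
  have hq : 2 ≤ q := Cfsg.Agent.Lib.Helper1.HermCount.two_le_q hF
  rw [card_stab_su hF hn W hW,
    Nat.card_congr (Cfsg.Agent.Lib.Helper2.GUIsom.stabEquivGU n q W).toEquiv]
  have h := card_stab_mul_herm hF n k W hWk hW
  rw [Cfsg.Agent.S0277.result hF n] at h
  obtain ⟨d, rfl⟩ : ∃ d, n = 2 * k + d := ⟨n - 2 * k, by omega⟩
  have hX : 0 < ∏ j ∈ Finset.range k, ((q ^ 2) ^ j * isoCount q (2 * k + d - 2 * j)) := by
    apply Finset.prod_pos
    intro j hj
    rw [Finset.mem_range] at hj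
    apply Nat.mul_pos
    · positivity
    · apply isoCount_pos q _ hq
      omega
  apply Nat.eq_of_mul_eq_mul_right hX
  rw [h]
  have e1 : 2 * k + d - 2 * k = d := by omega
  have e2 : 2 * (2 * k + d) - 3 * k = k + 2 * d := by omega
  rw [e1, e2]
  have h3 := arith2 q k d
  unfold guOrd at h3
  rw [← h3]
  ring

end Cfsg.Agent.S0782
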