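import Cfsg.Statements.S0783
import Mathlib
import Mathlib
import Cfsg.Agent.Lib.Helper2.GUCenter

set_option autoImplicit false
open Cfsg

namespace Cfsg.Agent.S0783


theorem ker_pow_eq_range_pow {N : Type*} [CommGroup N] [Finite N] [IsCyclic N] (n m d e : ℕ)
    (hm : Nat.card N = m) (hd : d = Nat.gcd n m) (he : m = d * e) (hm0 : 0 < m) :
    (powMonoidHom e : N →* N).ker = (powMonoidHom n : N →* N).range ∧
    Nat.card (powMonoidHom e : N →* N).range = d := by
  have hd0 : 0 < d := by
    rcases Nat.eq_zero_or_pos d with h | h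
    · rw [h, zero_mul] at he; omega
    · exact h
  have he0 : 0 < e := by
    rcases Nat.eq_zero_or_pos e with h | h
    · rw [h, mul_zero] at he; omega
    · exact h
  have hge : Nat.gcd m e = e := Nat.gcd_eq_right ⟨d, by rw [he, mul_comm]⟩
  have hgn : Nat.gcd m n = d := by rw [hd, Nat.gcd_comm]
  constructor
  · symm
    apply Subgroup.eq_of_le_of_card_ge
    · rintro x ⟨y, rfl⟩
      rw [MonoidHom.mem_ker, powMonoidHom_apply, powMonoidHom_apply, ← pow_mul]
      obtain ⟨c, hc⟩ : d ∣ n := by rw [hd]; exact Nat.gcd_dvd_left _ _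
      have : n * e = m * c := by rw [hc, he]; ring
      rw [this, pow_mul, ← hm, pow_card_eq_one', one_pow]
    · rw [IsCyclic.card_powMonoidHom_ker, IsCyclic.card_powMonoidHom_range, hm, hge, hgn, he,
        Nat.mul_div_cancel_left _ hd0]
  · rw [IsCyclic.card_powMonoidHom_range, hm, hge, he, Nat.mul_div_cancel _ he0]

/-- PGU_n(q)/PSU_n(q) is cyclic of order (n, q+1): for n ≥ 2 and |F| = q² there is a surjective homomorphism from GU_n(q) onto the cyclic group of order gcd(n, q + 1) whose kernel is generated by the determinant-one elements together with the centre. -/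
theorem result {F : Type*} [Field F] [Fintype F] {q : ℕ} (hF : Fintype.card F = q ^ 2) (n : ℕ) (hn : 2 ≤ n) : ∃ φ : ↥(Cfsg.GU n F q) →* Multiplicative (ZMod (Nat.gcd n (q + 1))), Function.Surjective φ ∧ φ.ker = (Matrix.GeneralLinearGroup.det : Matrix.GeneralLinearGroup (Fin n) F →* Fˣ).ker.subgroupOf (Cfsg.GU n F q) ⊔ Subgroup.center ↥(Cfsg.GU n F q) := by
  classical
  open Cfsg.Agent.Lib.Helper2.GUCenter Cfsg.Agent.Lib.Helper1.HermCount
    Cfsg.Agent.Lib.Helper1.GUBasic Cfsg.Agent.S0278 in
  have hq2 := two_le_q hF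
  have hn1 : 1 ≤ n := by omega
  set d := Nat.gcd n (q + 1) with hd
  have hdpos : 0 < d := Nat.gcd_pos_of_pos_right _ (Nat.succ_pos q)
  haveI : NeZero d := ⟨hdpos.ne'⟩
  obtain ⟨e, he⟩ : d ∣ q + 1 := Nat.gcd_dvd_right _ _
  set N1 : Subgroup Fˣ := (powMonoidHom (q + 1) : Fˣ →* Fˣ).ker with hN1
  have hmemN1 : ∀ l : Fˣ, l ∈ N1 ↔ nrm q (l : F) = 1 := by
    intro l
    rw [hN1, MonoidHom.mem_ker, powMonoidHom_apply]
    unfold nrm
    rw [← pow_succ', Units.ext_iff, Units.val_pow_eq_pow_val, Units.val_one]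
  have hcardN1 : Nat.card N1 = q + 1 := by
    rw [← card_norm_one hF]
    apply Nat.card_congr
    exact Equiv.subtypeEquivRight hmemN1
  let detN : ↥(Cfsg.GU n F q) →* N1 := (detGU n F q).codRestrict N1
    (fun g => (hmemN1 _).2 ((range_detGU hF hn1 _).1 ⟨g, rfl⟩))
  have hdetN_coe : ∀ g, ((detN g : N1) : Fˣ) = detGU n F q g := fun g => rfl
  have hdetN : Function.Surjective detN := by
    rintro ⟨l, hl⟩
    obtain ⟨g, hg⟩ := (range_detGU hF hn1 l).2 ((hmemN1 l).1 hl)
    exact ⟨g, Subtype.ext hg⟩
  obtain ⟨hker, hrange⟩ := ker_pow_eq_range_pow (N := N1) n (q + 1) d e hcardN1 hd he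
    (Nat.succ_pos q)
  have hcardZ : Nat.card (Multiplicative (ZMod d)) = d := by
    rw [Nat.card_eq_fintype_card, Fintype.card_multiplicative, ZMod.card]
  let iso : ↥(powMonoidHom e : N1 →* N1).range ≃* Multiplicative (ZMod d) :=
    mulEquivOfCyclicCardEq (hrange.trans hcardZ.symm)
  refine ⟨iso.toMonoidHom.comp ((powMonoidHom e : N1 →* N1).rangeRestrict.comp detN), ?_, ?_⟩
  · exact iso.surjective.comp ((MonoidHom.rangeRestrict_surjective _).comp hdetN)
  · have hkerφ : ∀ g, g ∈ (iso.toMonoidHom.comp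
        ((powMonoidHom e : N1 →* N1).rangeRestrict.comp detN)).ker ↔
        detN g ∈ (powMonoidHom n : N1 →* N1).range := by
      intro g
      rw [← hker, MonoidHom.mem_ker, MonoidHom.mem_ker, MonoidHom.comp_apply, MonoidHom.comp_apply]
      show iso _ = 1 ↔ _
      rw [MulEquiv.map_eq_one_iff, Subtype.ext_iff, MonoidHom.coe_rangeRestrict]
      rfl
    apply le_antisymm
    · intro g hg
      rw [hkerφ] at hg
      obtain ⟨μ, hμ⟩ := hg
      rw [powMonoidHom_apply] at hμ
      have hμ1 : nrm q ((μ : Fˣ) : F) = 1 := (hmemN1 μ).1 μ.2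
      set z := scalarGU hF n ((μ : Fˣ) : F) hμ1 with hz
      have hzdet : detGU n F q z = detGU n F q g := by
        apply Units.ext
        rw [det_scalarGU, ← hdetN_coe g, ← hμ]
        rfl
      have hgz : g = (g * z⁻¹) * z := by group
      rw [hgz]
      apply Subgroup.mul_mem_sup
      · rw [Subgroup.mem_subgroupOf, MonoidHom.mem_ker]
        have : detGU n F q (g * z⁻¹) = 1 := by
          rw [map_mul, map_inv, hzdet, mul_inv_cancel]
        exact this
      · exact scalarGU_mem_center hF _ hμ1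
    · have hS : ∀ g, g ∈ ((powMonoidHom n : N1 →* N1).range.comap detN) →
          g ∈ (iso.toMonoidHom.comp
            ((powMonoidHom e : N1 →* N1).rangeRestrict.comp detN)).ker := by
        intro g hg
        rw [hkerφ]
        exact hg
      refine le_trans (sup_le ?_ ?_) hS
      · intro g hg
        rw [Subgroup.mem_subgroupOf, MonoidHom.mem_ker] at hg
        rw [Subgroup.mem_comap]
        have : detN g = 1 := by
          apply Subtype.ext
          rw [hdetN_coe]
          exact hg
        rw [this]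
        exact one_mem _
      · intro g hg
        obtain ⟨l, hl, hgl⟩ := center_scalar hF hn1 g hg
        have hl0 : l ≠ 0 := by
          rintro rfl
          unfold nrm at hl
          rw [zero_mul] at hl
          exact zero_ne_one hl
        rw [Subgroup.mem_comap]
        refine ⟨⟨Units.mk0 l hl0, (hmemN1 _).2 (by rw [Units.val_mk0]; exact hl)⟩, ?_⟩
        rw [powMonoidHom_apply]
        apply Subtype.ext
        apply Units.ext
        rw [hdetN_coe, detGU_coe, hgl, Matrix.det_smul, Matrix.det_one, mul_one, Fintype.card_fin]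
        rfl

end Cfsg.Agent.S0783
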