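import Cfsg.Statements.S0786
import Mathlib
import Cfsg.Agent.Lib.Helper2.OrthTwo8

set_option autoImplicit false
open Cfsg

namespace Cfsg.Agent.S0786

/-- Generation by reflections: if F is finite, Q is a quadratic form on F^n with non-degenerate polar form, and (|F|, n) ≠ (2, 4), then the isometry group of Q is generated by the reflections r_v, Q(v) ≠ 0. -/
theorem result {F : Type*} [Field F] [Fintype F] {n : ℕ} (Q : QuadraticForm F (Fin n → F)) (hQ : (QuadraticMap.polarBilin Q).Nondegenerate) (h : Fintype.card F ≠ 2 ∨ n ≠ 4) : Subgroup.closure {g : ↥(Cfsg.isometryGroup F ⇑Q) | ∃ v : Fin n → F, Q v ≠ 0 ∧ ((g : Matrix.GeneralLinearGroup (Fin n) F) : Matrix (Fin n) (Fin n) F) = Cfsg.reflectionMatrix ⇑Q v} = ⊤ := by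
  show Subgroup.closure (Cfsg.Agent.Lib.Helper2.CDG.R Q) = ⊤
  by_cases h2 : (2 : F) = 0
  · by_cases hn : 2 ≤ n
    · exact Cfsg.Agent.Lib.Helper2.OrthTwo.closure_R_eq_top₂ h2 hQ
        (by rw [Fintype.card_fin]; exact h) (by rw [Fintype.card_fin]; exact hn)
    · have hn' : n = 0 ∨ n = 1 := by omega
      rcases hn' with rfl | rfl
      · rw [eq_top_iff]
        intro g _
        have : g = 1 := by
          apply Subtype.ext
          apply Units.ext
          ext i
          exact i.elim0
        rw [this]
        exact Subgroup.one_mem _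
      · exfalso
        have hx : (Pi.single 0 1 : Fin 1 → F) = 0 := by
          apply hQ.1
          intro y
          show QuadraticMap.polar (⇑Q) (Pi.single 0 1) y = 0
          have hy : y = (y 0) • (Pi.single 0 1 : Fin 1 → F) := by
            funext i
            fin_cases i
            simp
          rw [hy, QuadraticMap.polar_smul_right, QuadraticMap.polar_self]
          simp [h2]
        have := congrFun hx 0
        simp at this
  · exact Cfsg.Agent.Lib.Helper2.CDG.closure_R_eq_top h2 hQ

end Cfsg.Agent.S0786
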