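import Cfsg.Statements.S0788
import Mathlib
import Cfsg.Agent.Lib.Helper2.Spinor5

set_option autoImplicit false
open Cfsg

namespace Cfsg.Agent.S0788

/-- Ω has index 4 in O for q odd: if F is finite of odd characteristic, n ≥ 2 and Q is a quadratic form on F^n with non-degenerate polar form, then the commutator subgroup of the isometry group of Q (the group Ω of our definitions) has index 4 in it. -/
theorem result {F : Type*} [Field F] [Fintype F] (h2 : (2 : F) ≠ 0) {n : ℕ} (hn : 2 ≤ n) (Q : QuadraticForm F (Fin n → F)) (hQ : (QuadraticMap.polarBilin Q).Nondegenerate) : (Cfsg.Omega F ⇑Q).index = 4 := by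
  classical
  have hcard : 2 ≤ Fintype.card (Fin n) := by rw [Fintype.card_fin]; exact hn
  obtain ⟨f, hsurj, hinj, -⟩ := Cfsg.Agent.Lib.Helper2.Spinor.exists_ab_structure h2 hQ hcard
  have hfinj : Function.Injective f := by
    intro p p' h
    apply hinj
    show Abelianization.lift _ (f p) = Abelianization.lift _ (f p')
    rw [h]
  have hbij : Function.Bijective f := ⟨hfinj, hsurj⟩
  show (commutator ↥(Cfsg.isometryGroup F ⇑Q)).index = 4
  rw [Subgroup.index_eq_card]
  have h1 : Nat.card (Abelianization ↥(Cfsg.isometryGroup F ⇑Q)) = Nat.card (Bool × Bool) :=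
    (Nat.card_congr (Equiv.ofBijective f hbij)).symm
  have h3 : Nat.card (Bool × Bool) = 4 := by
    rw [Nat.card_eq_fintype_card]
    rfl
  rw [← h3, ← h1]
  rfl

end Cfsg.Agent.S0788
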