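import Cfsg.Statements.S0787
import Mathlib
import Cfsg.Agent.Lib.Helper2.SOIndex2
import Cfsg.Agent.Lib.Helper2.Dickson4
import Cfsg.Agent.S0788
import Cfsg.Agent.S0789

set_option autoImplicit false
open Cfsg

namespace Cfsg.Agent.S0787

/-- Existence and uniqueness of Ω: if F is finite, n ≥ 2, Q is a quadratic form on F^n with non-degenerate polar form and (|F|, n) ≠ (2, 4), then the group of isometries of determinant one has a unique subgroup of index 2. -/
theorem result {F : Type*} [Field F] [Fintype F] {n : ℕ} (hn : 2 ≤ n) (Q : QuadraticForm F (Fin n → F)) (hQ : (QuadraticMap.polarBilin Q).Nondegenerate) (h : Fintype.card F ≠ 2 ∨ n ≠ 4) : ∃! H : Subgroup ↥(Cfsg.specialIsometryGroup F ⇑Q), H.index = 2 := by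
  have hcard : 2 ≤ Fintype.card (Fin n) := by rw [Fintype.card_fin]; exact hn
  by_cases h2 : (2 : F) = 0
  · haveI : CharP F 2 := CharTwo.of_one_ne_zero_of_two_eq_zero one_ne_zero h2
    have hgen := Cfsg.Agent.Lib.Helper2.OrthTwo.closure_R_eq_top₂ h2 hQ
      (by rw [Fintype.card_fin]; exact h) hcard
    have hSO := Cfsg.Agent.Lib.Helper2.SOIndex.SO_eq_top₂ h2 hgen
    apply Cfsg.Agent.Lib.Helper2.SOIndex.existsUnique_index_two hgen
    · rw [hSO, Subgroup.index_top, mul_one]
      exact Cfsg.Agent.S0789.result hn Q hQ h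
    · rw [hSO, Subgroup.index_top]
      exact one_ne_zero
  · have hgen := Cfsg.Agent.Lib.Helper2.CDG.closure_R_eq_top h2 hQ
    have hfr : 2 ≤ Module.finrank F (Fin n → F) := by
      rw [Module.finrank_fintype_fun_eq_card]; exact hcard
    obtain ⟨u, hu1⟩ := Cfsg.Agent.Lib.Helper5.exists_represents_one Q hQ hfr
    have hSO := Cfsg.Agent.Lib.Helper2.SOIndex.SO_index h2 hgen
      ⟨u, by rw [hu1]; exact one_ne_zero⟩
    apply Cfsg.Agent.Lib.Helper2.SOIndex.existsUnique_index_two hgen
    · rw [hSO]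
      exact Cfsg.Agent.S0788.result h2 hn Q hQ
    · rw [hSO]
      norm_num

end Cfsg.Agent.S0787
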