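import Cfsg.Statements.S0792
import Mathlib
import Cfsg.Agent.Lib.Helper2.CartanDieudonne

set_option autoImplicit false
open Cfsg

namespace Cfsg.Agent.S0792

open Cfsg.Agent.Lib.Helper2.CD in
theorem mem_special_iff {F : Type*} [Field F] {n : ℕ} (Q : QuadraticForm F (Fin n → F))
    (g : ↥(Cfsg.isometryGroup F ⇑Q)) :
    g ∈ Cfsg.specialIsometryGroup F ⇑Q ↔
      ((g : Matrix.GeneralLinearGroup (Fin n) F) : Matrix (Fin n) (Fin n) F).det = 1 := by
  unfold Cfsg.specialIsometryGroup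
  rw [MonoidHom.mem_ker]
  constructor
  · intro h
    have := congrArg Units.val h
    simpa using this
  · intro h
    apply Units.ext
    simpa using h

/-- For q odd and Q with non-degenerate polar form on F^n, the determinant-one isometries form the subgroup generated by all products r_u r_v of two reflections (Q(u), Q(v) ≠ 0). -/
theorem result {F : Type*} [Field F] [Fintype F] (h2 : (2 : F) ≠ 0) {n : ℕ} (Q : QuadraticForm F (Fin n → F)) (hQ : (QuadraticMap.polarBilin Q).Nondegenerate) : Cfsg.specialIsometryGroup F ⇑Q = Subgroup.closure {g : ↥(Cfsg.isometryGroup F ⇑Q) | ∃ u v : Fin n → F, Q u ≠ 0 ∧ Q v ≠ 0 ∧ ((g : Matrix.GeneralLinearGroup (Fin n) F) : Matrix (Fin n) (Fin n) F) = Cfsg.reflectionMatrix ⇑Q u * Cfsg.reflectionMatrix ⇑Q v} := by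
  classical
  set S : Set ↥(Cfsg.isometryGroup F ⇑Q) := {g : ↥(Cfsg.isometryGroup F ⇑Q) | ∃ u v : Fin n → F, Q u ≠ 0 ∧ Q v ≠ 0 ∧ ((g : Matrix.GeneralLinearGroup (Fin n) F) : Matrix (Fin n) (Fin n) F) = Cfsg.reflectionMatrix ⇑Q u * Cfsg.reflectionMatrix ⇑Q v} with hS
  have hpair : ∀ (u v : Fin n → F) (hu : Q u ≠ 0) (hv : Q v ≠ 0),
      Cfsg.Agent.Lib.Helper2.CD.refl Q u hu * Cfsg.Agent.Lib.Helper2.CD.refl Q v hv ∈ S :=
    fun u v hu hv => ⟨u, v, hu, hv, rfl⟩
  have hle : Subgroup.closure S ≤ Cfsg.specialIsometryGroup F ⇑Q := by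
    rw [Subgroup.closure_le]
    rintro g ⟨u, v, hu, hv, hg⟩
    rw [SetLike.mem_coe, mem_special_iff, hg, Matrix.det_mul,
      (Cfsg.Agent.S0784.result Q u hu).2.2.2, (Cfsg.Agent.S0784.result Q v hv).2.2.2]
    ring
  apply le_antisymm _ hle
  intro g hg
  rw [mem_special_iff] at hg
  rcases Nat.eq_zero_or_pos n with hn | hn
  · subst hn
    have : g = 1 := by
      apply Subtype.ext
      apply Units.ext
      exact Subsingleton.elim _ _
    rw [this]
    exact Subgroup.one_mem _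
  obtain ⟨b, -, haniso⟩ := Cfsg.Agent.Lib.Helper2.CD.exists_orthogonal_basis h2 hQ
  have hfr : 0 < Module.finrank F (Fin n → F) := by
    rw [Module.finrank_fin_fun]; exact hn
  set v₀ := b ⟨0, hfr⟩ with hv₀
  have hv₀' : Q v₀ ≠ 0 := haniso _
  set r₀ := Cfsg.Agent.Lib.Helper2.CD.refl Q v₀ hv₀' with hr₀
  have hR : ∀ x ∈ Cfsg.Agent.Lib.Helper2.CD.R Q, ∃ (v : Fin n → F) (hv : Q v ≠ 0),
      x = Cfsg.Agent.Lib.Helper2.CD.refl Q v hv := by
    rintro x ⟨v, hv, hx⟩
    refine ⟨v, hv, ?_⟩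
    apply Subtype.ext
    apply Units.ext
    exact hx
  have hstep : ∀ (v : Fin n → F) (hv : Q v ≠ 0) (y : ↥(Cfsg.isometryGroup F ⇑Q)),
      (y ∈ Subgroup.closure S ∨ r₀ * y ∈ Subgroup.closure S) →
      (Cfsg.Agent.Lib.Helper2.CD.refl Q v hv * y ∈ Subgroup.closure S ∨
        r₀ * (Cfsg.Agent.Lib.Helper2.CD.refl Q v hv * y) ∈ Subgroup.closure S) := by
    intro v hv y hy
    rcases hy with hy | hy
    · right
      rw [← mul_assoc]
      exact Subgroup.mul_mem _ (Subgroup.subset_closure (hpair _ _ _ _)) hy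
    · left
      have : Cfsg.Agent.Lib.Helper2.CD.refl Q v hv * y =
          (Cfsg.Agent.Lib.Helper2.CD.refl Q v hv * r₀) * (r₀ * y) := by
        rw [mul_assoc, ← mul_assoc r₀ r₀ y, hr₀, Cfsg.Agent.Lib.Helper2.CD.refl_mul_self, one_mul]
      rw [this]
      exact Subgroup.mul_mem _ (Subgroup.subset_closure (hpair _ _ _ _)) hy
  have hall : ∀ x ∈ Subgroup.closure (Cfsg.Agent.Lib.Helper2.CD.R Q),
      x ∈ Subgroup.closure S ∨ r₀ * x ∈ Subgroup.closure S := by
    intro x hx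
    induction hx using Subgroup.closure_induction_left with
    | one =>
      left
      exact Subgroup.one_mem _
    | mul_left x hx y _ ih =>
      obtain ⟨v, hv, rfl⟩ := hR x hx
      exact hstep v hv y ih
    | inv_mul_cancel x hx y _ ih =>
      obtain ⟨v, hv, rfl⟩ := hR x hx
      rw [Cfsg.Agent.Lib.Helper2.CD.refl_inv]
      exact hstep v hv y ih
  have hg' : g ∈ Subgroup.closure (Cfsg.Agent.Lib.Helper2.CD.R Q) := by
    rw [Cfsg.Agent.Lib.Helper2.CD.closure_R_eq_top h2 hQ]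
    exact Subgroup.mem_top _
  rcases hall g hg' with h | h
  · exact h
  · exfalso
    have h1 := hle h
    rw [mem_special_iff] at h1
    have h3 : (((r₀ * g : ↥(Cfsg.isometryGroup F ⇑Q)) : Matrix.GeneralLinearGroup (Fin n) F) :
        Matrix (Fin n) (Fin n) F) =
        ((r₀ : Matrix.GeneralLinearGroup (Fin n) F) : Matrix (Fin n) (Fin n) F) *
        ((g : Matrix.GeneralLinearGroup (Fin n) F) : Matrix (Fin n) (Fin n) F) := rfl
    rw [h3, Matrix.det_mul, hg, hr₀, Cfsg.Agent.Lib.Helper2.CD.det_refl] at h1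
    apply h2
    linear_combination -h1

end Cfsg.Agent.S0792
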