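import Cfsg.Statements.S0793
import Mathlib
import Cfsg.Agent.Lib.Helper2.Refl

set_option autoImplicit false
open Cfsg

namespace Cfsg.Agent.S0793


open Cfsg.Agent.Lib.Helper2.Refl

/-- Root elements: if Q(u) = Q(v) = 0 and f(u, v) = 0 (f the polar form), then for every c the Siegel matrix T_(u,v)(c) preserves Q, fixes u and v, and T(c) T(d) = T(c + d). -/
theorem result {F : Type*} [Field F] {n : ℕ} (Q : QuadraticForm F (Fin n → F)) (u v : Fin n → F) (hu : Q u = 0) (hv : Q v = 0) (huv : QuadraticMap.polar ⇑Q u v = 0) : (∀ c x, Q ((Cfsg.siegelMatrix ⇑Q u v c).mulVec x) = Q x) ∧ (∀ c, (Cfsg.siegelMatrix ⇑Q u v c).mulVec u = u ∧ (Cfsg.siegelMatrix ⇑Q u v c).mulVec v = v) ∧ ∀ c d, Cfsg.siegelMatrix ⇑Q u v c * Cfsg.siegelMatrix ⇑Q u v d = Cfsg.siegelMatrix ⇑Q u v (c + d) := by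
  have huu : QuadraticMap.polar (⇑Q) u u = 0 := by rw [polar_self, hu, mul_zero]
  have hvv : QuadraticMap.polar (⇑Q) v v = 0 := by rw [polar_self, hv, mul_zero]
  have hvu : QuadraticMap.polar (⇑Q) v u = 0 := by rw [QuadraticMap.polar_comm, huv]
  refine ⟨?_, ?_, ?_⟩
  · intro c x
    rw [siegelMatrix_mulVec, smul_sub, smul_smul, smul_smul, sub_eq_add_neg, ← neg_smul,
      ← add_assoc, map_add_smul, map_add_smul, hu, hv, QuadraticMap.polar_add_left,
      QuadraticMap.polar_smul_left, hvu, QuadraticMap.polar_comm (⇑Q) x v,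
      QuadraticMap.polar_comm (⇑Q) x u]
    simp only [smul_eq_mul]
    ring
  · intro c
    constructor
    · rw [siegelMatrix_mulVec, huu, hvu, zero_smul, zero_smul, sub_zero, smul_zero, add_zero]
    · rw [siegelMatrix_mulVec, huv, hvv, zero_smul, zero_smul, sub_zero, smul_zero, add_zero]
  · intro c d
    unfold Cfsg.siegelMatrix
    set M := Matrix.vecMulVec v (Cfsg.polarVec (⇑Q) u) - Matrix.vecMulVec u (Cfsg.polarVec (⇑Q) v)
      with hM
    have hMM : M * M = 0 := by
      rw [hM, Matrix.sub_mul, Matrix.mul_sub, Matrix.mul_sub, Matrix.vecMulVec_mul_vecMulVec,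
        Matrix.vecMulVec_mul_vecMulVec, Matrix.vecMulVec_mul_vecMulVec,
        Matrix.vecMulVec_mul_vecMulVec, polarVec_dot, polarVec_dot, polarVec_dot, polarVec_dot,
        huv, huu, hvv, hvu]
      simp
    rw [mul_add, add_mul, one_mul, mul_one, add_mul, one_mul, smul_mul_smul_comm, hMM, smul_zero,
      add_zero, add_smul, add_assoc]

end Cfsg.Agent.S0793
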