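import Cfsg.Statements.S0796
import Mathlib

set_option autoImplicit false
open Cfsg
open scoped Pointwise

namespace Cfsg.Agent.S0796

/-- If G is finite and acts faithfully and primitively on X, H is the stabiliser of a point, A is a normal subgroup of H whose normal closure in G is G, then for every non-trivial normal subgroup K of G the quotient G ⧸ K is isomorphic to A ⧸ B for some normal subgroup B of A. -/
theorem result {G X : Type*} [Group G] [Finite G] [MulAction G X] [FaithfulSMul G X] (hprim : MulAction.IsPreprimitive G X) (x : X) (A : Subgroup G) (hA : A ≤ MulAction.stabilizer G x) (hAn : (A.subgroupOf (MulAction.stabilizer G x)).Normal) (hgen : Subgroup.normalClosure (A : Set G) = ⊤) (K : Subgroup G) [K.Normal] (hK : K ≠ ⊥) : ∃ (B : Subgroup A) (_ : B.Normal), Nonempty (G ⧸ K ≃* A ⧸ B) := by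
  set H := MulAction.stabilizer G x with hH
  -- K is transitive
  have hKtr : MulAction.IsPretransitive K X := by
    apply MulAction.IsQuasiPreprimitive.isPretransitive_of_normal (G := G)
    intro hfix
    apply hK
    rw [eq_bot_iff]
    intro k hk
    rw [Subgroup.mem_bot]
    apply FaithfulSMul.eq_of_smul_eq_smul (α := X)
    intro y
    have hy : y ∈ MulAction.fixedPoints K X := by rw [hfix]; exact Set.mem_univ y
    have := hy ⟨k, hk⟩
    rw [one_smul]
    exact this
  -- K ⊔ H = ⊤
  have hKH : K ⊔ H = ⊤ := by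
    rw [eq_top_iff]
    intro g _
    obtain ⟨k, hk⟩ := hKtr.exists_smul_eq x (g • x)
    have hk' : (k : G) • x = g • x := hk
    have hmem : (k : G)⁻¹ * g ∈ H := by
      rw [hH, MulAction.mem_stabilizer_iff, mul_smul, ← hk', inv_smul_smul]
    have : g = (k : G) * ((k : G)⁻¹ * g) := by group
    rw [this]
    exact Subgroup.mul_mem_sup k.2 hmem
  -- K ⊔ A is normal
  have hAconj : ∀ h ∈ H, ∀ a ∈ A, h * a * h⁻¹ ∈ A := by
    intro h hh a ha
    have := hAn.conj_mem ⟨a, hA ha⟩ (Subgroup.mem_subgroupOf.mpr ha) ⟨h, hh⟩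
    exact Subgroup.mem_subgroupOf.mp this
  have hKAn : (K ⊔ A).Normal := by
    rw [← Subgroup.normalizer_eq_top_iff, eq_top_iff, ← hKH]
    apply sup_le
    · exact le_sup_left.trans Subgroup.le_normalizer
    · intro h hh
      have hconj : ∀ h ∈ H, ∀ y ∈ K ⊔ A, h * y * h⁻¹ ∈ K ⊔ A := by
        intro h hh y hy
        have hmap : (K ⊔ A).map (MulAut.conj h).toMonoidHom ≤ K ⊔ A := by
          rw [Subgroup.map_sup]
          apply sup_le
          · rintro _ ⟨k, hk, rfl⟩
            exact (le_sup_left : K ≤ K ⊔ A) (Subgroup.Normal.conj_mem inferInstance k hk h)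
          · rintro _ ⟨a, ha, rfl⟩
            exact (le_sup_right : A ≤ K ⊔ A) (hAconj h hh a ha)
        exact hmap ⟨y, hy, rfl⟩
      rw [Subgroup.mem_normalizer_iff]
      intro y
      constructor
      · exact hconj h hh y
      · intro hy
        have := hconj h⁻¹ (H.inv_mem hh) _ hy
        simpa [mul_assoc] using this
  have hKA : K ⊔ A = ⊤ := by
    rw [eq_top_iff, ← hgen]
    exact Subgroup.normalClosure_le_normal (le_sup_right : A ≤ K ⊔ A)
  -- the homomorphism A → G ⧸ K
  let φ : A →* G ⧸ K := (QuotientGroup.mk' K).comp A.subtype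
  have hφ : Function.Surjective φ := by
    intro q
    obtain ⟨g, rfl⟩ := QuotientGroup.mk'_surjective K q
    have hg : g ∈ K ⊔ A := by rw [hKA]; trivial
    rw [← SetLike.mem_coe, Subgroup.normal_mul] at hg
    obtain ⟨k, hk, a, ha, rfl⟩ := hg
    refine ⟨⟨a, ha⟩, ?_⟩
    show (QuotientGroup.mk' K) a = (QuotientGroup.mk' K) (k * a)
    rw [QuotientGroup.mk'_apply, QuotientGroup.mk'_apply, QuotientGroup.eq]
    have : a⁻¹ * (k * a) = a⁻¹ * k * a := by group
    rw [this]
    have := Subgroup.Normal.conj_mem (inferInstance : K.Normal) k hk a⁻¹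
    simpa using this
  exact ⟨φ.ker, inferInstance, ⟨(QuotientGroup.quotientKerEquivOfSurjective φ hφ).symm⟩⟩

end Cfsg.Agent.S0796
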