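import Cfsg.Statements.S0797
import Mathlib
import Cfsg.Agent.Lib.Helper2.Spinor5
import Cfsg.Agent.Lib.Helper2.IndexTwo

set_option autoImplicit false
open Cfsg

namespace Cfsg.Agent.S0797

/-- O^ε_2m(q) ≅ Ω.2² for q odd: if F is finite of odd characteristic, n ≥ 2 is even and Q has non-degenerate polar form on F^n, the isometry group of Q has exactly three subgroups of index 2. -/
theorem result {F : Type*} [Field F] [Fintype F] (h2 : (2 : F) ≠ 0) {n : ℕ} (hn : 2 ≤ n) (heven : Even n) (Q : QuadraticForm F (Fin n → F)) (hQ : (QuadraticMap.polarBilin Q).Nondegenerate) : Nat.card {H : Subgroup ↥(Cfsg.isometryGroup F ⇑Q) // H.index = 2} = 3 := by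
  classical
  have hcard : 2 ≤ Fintype.card (Fin n) := by rw [Fintype.card_fin]; exact hn
  obtain ⟨f, hsurj, hinj, hsq⟩ := Cfsg.Agent.Lib.Helper2.Spinor.exists_ab_structure h2 hQ hcard
  have hfinj : Function.Injective f := by
    intro p p' h
    apply hinj
    show Abelianization.lift _ (f p) = Abelianization.lift _ (f p')
    rw [h]
  have hbij : Function.Bijective f := ⟨hfinj, hsurj⟩
  have h1 : Nat.card (Abelianization ↥(Cfsg.isometryGroup F ⇑Q)) = 4 := by
    rw [← Nat.card_congr (Equiv.ofBijective f hbij), Nat.card_eq_fintype_card]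
    rfl
  have hexp : ∀ x : Abelianization ↥(Cfsg.isometryGroup F ⇑Q), x * x = 1 := by
    intro x
    obtain ⟨p, rfl⟩ := hsurj x
    exact hsq p
  rw [Cfsg.Agent.Lib.Helper2.IndexTwo.card_index_two_eq]
  exact Cfsg.Agent.Lib.Helper2.IndexTwo.card_index_two_of_exp_two h1 hexp

end Cfsg.Agent.S0797
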