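import Cfsg.Statements.S0802
import Mathlib
import Cfsg.Agent.Lib.Helper2.SL2S4c
import Cfsg.Agent.Lib.Helper2.SL2S4d
import Cfsg.Agent.Lib.Helper2.SL2S4e

set_option autoImplicit false
open Cfsg

namespace Cfsg.Agent.S0802

theorem a4_rel : ∃ a x : alternatingGroup (Fin 4), a ^ 2 = 1 ∧ x ^ 3 = 1 ∧ x * a * x⁻¹ ≠ a ∧
    a * (x * a * x⁻¹) = (x * a * x⁻¹) * a := by
  refine ⟨⟨Equiv.swap 0 1 * Equiv.swap 2 3, ?_⟩, ⟨Equiv.swap 0 1 * Equiv.swap 1 2, ?_⟩, ?_, ?_, ?_, ?_⟩
  · rw [Equiv.Perm.mem_alternatingGroup, Equiv.Perm.sign_mul,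
      Equiv.Perm.sign_swap (by decide), Equiv.Perm.sign_swap (by decide)]; rfl
  · rw [Equiv.Perm.mem_alternatingGroup, Equiv.Perm.sign_mul,
      Equiv.Perm.sign_swap (by decide), Equiv.Perm.sign_swap (by decide)]; rfl
  · apply Subtype.ext
    show (Equiv.swap (0 : Fin 4) 1 * Equiv.swap 2 3) ^ 2 = 1
    decide
  · apply Subtype.ext
    show (Equiv.swap (0 : Fin 4) 1 * Equiv.swap 1 2) ^ 3 = 1
    decide
  · intro h
    have := congrArg Subtype.val h
    revert this
    show ¬ ((Equiv.swap (0 : Fin 4) 1 * Equiv.swap 1 2) * (Equiv.swap (0 : Fin 4) 1 * Equiv.swap 2 3) *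
      (Equiv.swap (0 : Fin 4) 1 * Equiv.swap 1 2)⁻¹ = Equiv.swap (0 : Fin 4) 1 * Equiv.swap 2 3)
    decide
  · apply Subtype.ext
    show (Equiv.swap (0 : Fin 4) 1 * Equiv.swap 2 3) *
      ((Equiv.swap (0 : Fin 4) 1 * Equiv.swap 1 2) * (Equiv.swap (0 : Fin 4) 1 * Equiv.swap 2 3) *
      (Equiv.swap (0 : Fin 4) 1 * Equiv.swap 1 2)⁻¹) =
      ((Equiv.swap (0 : Fin 4) 1 * Equiv.swap 1 2) * (Equiv.swap (0 : Fin 4) 1 * Equiv.swap 2 3) *
      (Equiv.swap (0 : Fin 4) 1 * Equiv.swap 1 2)⁻¹) * (Equiv.swap (0 : Fin 4) 1 * Equiv.swap 2 3)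
    decide

/-- PSL_2(p^n) has a subgroup isomorphic to A_4 if and only if it is not the case that p = 2 and n is odd. -/
theorem result {F : Type*} [Field F] [Fintype F] (p n : ℕ) [Fact p.Prime] [CharP F p] (hF : Fintype.card F = p ^ n) : (∃ H : Subgroup (Matrix.ProjectiveSpecialLinearGroup (Fin 2) F), Nonempty (H ≃* alternatingGroup (Fin 4))) ↔ ¬ (p = 2 ∧ Odd n) := by
  classical
  constructor
  · rintro ⟨H, ⟨e⟩⟩ ⟨rfl, hodd⟩
    have h2 : (2 : F) = 0 := by exact_mod_cast CharP.cast_eq_zero F 2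
    obtain ⟨a, x, ha2, hx3, hne, hc⟩ := a4_rel
    -- transport to `PSL₂(F)`
    let ψ : alternatingGroup (Fin 4) →* Matrix.ProjectiveSpecialLinearGroup (Fin 2) F :=
      H.subtype.comp e.symm.toMonoidHom
    have hψ : Function.Injective ψ := fun u v h =>
      e.symm.injective (Subtype.ext h)
    obtain ⟨a', ha'⟩ := QuotientGroup.mk_surjective (ψ a)
    obtain ⟨x', hx'⟩ := QuotientGroup.mk_surjective (ψ x)
    have hmk := Cfsg.Agent.Lib.Helper2.SL2S4.mk_injective h2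
    have ha2' : a' ^ 2 = 1 := by
      apply hmk
      rw [QuotientGroup.mk_pow, ha', ← map_pow, ha2, map_one]; rfl
    have hx3' : x' ^ 3 = 1 := by
      apply hmk
      rw [QuotientGroup.mk_pow, hx', ← map_pow, hx3, map_one]; rfl
    have hne' : x' * a' * x'⁻¹ ≠ a' := by
      intro h
      apply hne
      apply hψ
      have := congrArg (QuotientGroup.mk : _ → Matrix.ProjectiveSpecialLinearGroup (Fin 2) F) h
      rw [QuotientGroup.mk_mul, QuotientGroup.mk_mul, QuotientGroup.mk_inv, ha', hx'] at this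
      rw [map_mul, map_mul, map_inv]; exact this
    have hc' : a' * (x' * a' * x'⁻¹) = (x' * a' * x'⁻¹) * a' := by
      apply hmk
      have := congrArg ψ hc
      simp only [map_mul, map_inv] at this
      simp only [QuotientGroup.mk_mul, QuotientGroup.mk_inv, ha', hx']
      exact this
    obtain ⟨α, h3, h1⟩ := Cfsg.Agent.Lib.Helper2.SL2S4.exists_cube_root ha2' hx3' hne' hc'
    have hev := Cfsg.Agent.Lib.Helper2.SL2S4.even_of_cube_root hF h3 h1
    exact (Nat.not_even_iff_odd.2 hodd) hev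
  · intro h
    by_cases hp : p = 2
    · subst hp
      have hev : Even n := by
        rw [← Nat.not_odd_iff_even]
        intro ho
        exact h ⟨rfl, ho⟩
      exact Cfsg.Agent.Lib.Helper2.SL2S4.exists_A4_even hev hF
    · have hodd : Odd (Fintype.card F) := by
        rw [hF]
        exact ((Fact.out : p.Prime).odd_of_ne_two hp).pow
      exact Cfsg.Agent.Lib.Helper2.SL2S4.exists_A4_odd hodd

end Cfsg.Agent.S0802
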