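import Cfsg.Statements.S0806
import Mathlib
import Cfsg.Agent.Lib.Helper2.DSubC1

set_option autoImplicit false
open Cfsg

namespace Cfsg.Agent.S0806

open Cfsg.Agent.Lib.Helper2.DSub

open Matrix in
theorem small_card {K : Type*} [Field K] [Fintype K]
    (hq4 : 4 ≤ Fintype.card K)
    (hq : Fintype.card K ∉ ({2, 3, 5, 7, 9, 11} : Finset ℕ))
    (H : Subgroup (ProjectiveSpecialLinearGroup (Fin 2) K)) (hH : H ≠ ⊤)
    (n : ℕ) (hn : n = 12 ∨ n = 24 ∨ n = 60) (hc : Nat.card H = n) :
    Nat.gcd 2 (Fintype.card K - 1) * Nat.card H ≤ Fintype.card K * (Fintype.card K - 1) := by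
  haveI := finite_psl (F := K)
  have hG := card_psl_two (F := K)
  have hdvd : Nat.card H ∣ Nat.card (ProjectiveSpecialLinearGroup (Fin 2) K) :=
    Subgroup.card_subgroup_dvd_card H
  have hne : Nat.card H ≠ Nat.card (ProjectiveSpecialLinearGroup (Fin 2) K) := by
    intro h
    exact hH ((Subgroup.card_eq_iff_eq_top H).mp h)
  set q := Fintype.card K with hqdef
  set G := Nat.card (ProjectiveSpecialLinearGroup (Fin 2) K) with hGdef
  have hd := gcd_two_cases (q - 1)
  rw [hc] at hdvd hne ⊢
  rcases Nat.lt_or_ge q 13 with hlt | hge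
  · have hq' : q = 4 ∨ q = 6 ∨ q = 8 ∨ q = 10 ∨ q = 12 := by
      simp only [Finset.mem_insert, Finset.mem_singleton, not_or] at hq
      omega
    rcases hq' with h | h | h | h | h <;> rw [h] at hG ⊢ <;> norm_num at hG ⊢
    · -- q = 4
      rcases hn with rfl | rfl | rfl
      · norm_num
      · exfalso; rw [hG] at hdvd; norm_num at hdvd
      · exact absurd hG.symm hne
    · rcases hn with rfl | rfl | rfl
      · norm_num
      · norm_num
      · exfalso; rw [hG] at hdvd; norm_num at hdvd
    · rcases hn with rfl | rfl | rfl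
      · norm_num
      · norm_num
      · exfalso; rw [hG] at hdvd; norm_num at hdvd
    · rcases hn with rfl | rfl | rfl <;> norm_num
    · rcases hn with rfl | rfl | rfl <;> norm_num
  · have h1 : 13 * 12 ≤ q * (q - 1) := Nat.mul_le_mul hge (by omega)
    have h2 : Nat.gcd 2 (q - 1) * n ≤ 2 * 60 := by
      apply Nat.mul_le_mul
      · rcases hd with h | h <;> omega
      · rcases hn with rfl | rfl | rfl <;> norm_num
    omega

/-- Minimal index (Galois): if q ∉ {2, 3, 5, 7, 9, 11} then every proper subgroup of PSL_2(q) has index ≥ q + 1, and some subgroup has index exactly q + 1. -/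
theorem result {F : Type*} [Field F] [Fintype F] {q : ℕ} (hF : Fintype.card F = q) (hq : q ∉ ({2, 3, 5, 7, 9, 11} : Finset ℕ)) : (∀ H : Subgroup (Matrix.ProjectiveSpecialLinearGroup (Fin 2) F), H ≠ ⊤ → q + 1 ≤ H.index) ∧ ∃ H : Subgroup (Matrix.ProjectiveSpecialLinearGroup (Fin 2) F), H.index = q + 1 := by
  subst hF
  haveI := finite_psl (F := F)
  obtain ⟨p, hchar⟩ := CharP.exists F
  haveI : Fact p.Prime := ⟨CharP.char_is_prime F p⟩
  have hq2 : 2 ≤ Fintype.card F := Fintype.one_lt_card
  have hq4 : 4 ≤ Fintype.card F := by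
    simp only [Finset.mem_insert, Finset.mem_singleton, not_or] at hq
    omega
  have hd := gcd_two_cases (Fintype.card F - 1)
  constructor
  · intro H hH
    apply index_ge_of_card_le
    have hne : Nat.card H ≠ Nat.card (Matrix.ProjectiveSpecialLinearGroup (Fin 2) F) := by
      intro h
      exact hH ((Subgroup.card_eq_iff_eq_top H).mp h)
    have hG := card_psl_two (F := F)
    have hqq : 2 * (Fintype.card F + 1) ≤ Fintype.card F * (Fintype.card F - 1) := by
      obtain ⟨t, ht⟩ : ∃ t, Fintype.card F = t + 4 := ⟨Fintype.card F - 4, by omega⟩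
      rw [ht]
      have : t + 4 - 1 = t + 3 := by omega
      rw [this]
      nlinarith
    rcases dickson_psl_concrete p H with ⟨k, hk, hH'⟩ | ⟨P, hP⟩ | ⟨⟨e⟩⟩ | ⟨⟨e⟩⟩ | ⟨⟨e⟩⟩ |
      ⟨K, hKf, hKfin, m, hm, hiso⟩
    · -- cyclic or dihedral
      have hkd : k * Nat.gcd 2 (Fintype.card F - 1) ≤ Fintype.card F + 1 := by
        rcases hk with hk | hk
        · have h1 : 0 < (Fintype.card F + 1) / Nat.gcd 2 (Fintype.card F - 1) :=
            Nat.div_pos (by rcases hd with h | h <;> omega) (by rcases hd with h | h <;> omega)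
          have h2 := Nat.le_of_dvd h1 hk
          calc k * Nat.gcd 2 (Fintype.card F - 1)
              ≤ (Fintype.card F + 1) / Nat.gcd 2 (Fintype.card F - 1) *
                Nat.gcd 2 (Fintype.card F - 1) := Nat.mul_le_mul_right _ h2
            _ ≤ Fintype.card F + 1 := Nat.div_mul_le_self _ _
        · have h1 : 0 < (Fintype.card F - 1) / Nat.gcd 2 (Fintype.card F - 1) :=
            Nat.div_pos (by rcases hd with h | h <;> omega) (by rcases hd with h | h <;> omega)
          have h2 := Nat.le_of_dvd h1 hk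
          calc k * Nat.gcd 2 (Fintype.card F - 1)
              ≤ (Fintype.card F - 1) / Nat.gcd 2 (Fintype.card F - 1) *
                Nat.gcd 2 (Fintype.card F - 1) := Nat.mul_le_mul_right _ h2
            _ ≤ Fintype.card F - 1 := Nat.div_mul_le_self _ _
            _ ≤ Fintype.card F + 1 := by omega
      have hcard : Nat.card H ≤ 2 * k := by
        rcases hH' with ⟨-, h⟩ | ⟨⟨e⟩⟩
        · omega
        · rw [Nat.card_congr e.toEquiv, DihedralGroup.nat_card]
      calc Nat.gcd 2 (Fintype.card F - 1) * Nat.card H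
          ≤ Nat.gcd 2 (Fintype.card F - 1) * (2 * k) := Nat.mul_le_mul_left _ hcard
        _ = 2 * (k * Nat.gcd 2 (Fintype.card F - 1)) := by ring
        _ ≤ 2 * (Fintype.card F + 1) := Nat.mul_le_mul_left _ hkd
        _ ≤ _ := hqq
    · -- in a Borel subgroup
      obtain ⟨-, -, h3, -⟩ := sylow_psl_facts p P
      rw [← h3]
      exact Nat.mul_le_mul_left _ (Subgroup.card_le_of_le hP)
    · exact small_card hq4 hq H hH 12 (Or.inl rfl) (by rw [Nat.card_congr e.toEquiv, card_A4])
    · exact small_card hq4 hq H hH 24 (Or.inr (Or.inl rfl))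
        (by rw [Nat.card_congr e.toEquiv, card_S4])
    · exact small_card hq4 hq H hH 60 (Or.inr (Or.inr rfl))
        (by rw [Nat.card_congr e.toEquiv, card_A5])
    · -- subfield subgroups
      have hq₀ : 2 ≤ Fintype.card K := Fintype.one_lt_card
      have hle : Nat.card H ≤ Nat.card (Matrix.ProjectiveSpecialLinearGroup (Fin 2) F) :=
        Subgroup.card_le_card_group H
      rcases Nat.lt_or_ge m 2 with hm2 | hm2
      · exfalso
        have hm01 : m = 0 ∨ m = 1 := by omega
        rcases hm01 with rfl | rfl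
        · rw [pow_zero] at hm; omega
        · rw [pow_one] at hm
          rcases hiso with ⟨⟨e⟩⟩ | ⟨⟨e⟩⟩
          · have h1 := card_psl_two (F := K)
            rw [← Nat.card_congr e.toEquiv, hm, ← hG] at h1
            exact hne (Nat.eq_of_mul_eq_mul_left (by rcases hd with h | h <;> omega) h1)
          · have h1 := card_pgl_two (K := K)
            rw [← Nat.card_congr e.toEquiv, hm, ← hG] at h1
            rcases hd with h | h
            · rw [h, one_mul] at h1
              exact hne h1
            · rw [h] at h1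
              have : 0 < Nat.card (Matrix.ProjectiveSpecialLinearGroup (Fin 2) F) := Nat.card_pos
              omega
      · have hcard : Nat.card H ≤
            Fintype.card K * (Fintype.card K - 1) * (Fintype.card K + 1) := by
          rcases hiso with ⟨⟨e⟩⟩ | ⟨⟨e⟩⟩
          · have h1 := card_psl_two (F := K)
            rw [← Nat.card_congr e.toEquiv] at h1
            rw [← h1]
            exact Nat.le_mul_of_pos_left _ (Nat.gcd_pos_of_pos_left _ (by norm_num))
          · rw [Nat.card_congr e.toEquiv, card_pgl_two]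
        have hsq : Fintype.card K ^ 2 ≤ Fintype.card F := by
          rw [← hm]
          exact Nat.pow_le_pow_right (by omega) hm2
        set q₀ := Fintype.card K with hq₀def
        set q := Fintype.card F with hqdef
        have h5 : q₀ ^ 2 * (q₀ ^ 2 - 1) ≤ q * (q - 1) :=
          Nat.mul_le_mul hsq (by omega)
        have h6 : 2 * (q₀ * (q₀ - 1) * (q₀ + 1)) ≤ q₀ ^ 2 * (q₀ ^ 2 - 1) := by
          obtain ⟨t, ht⟩ : ∃ t, q₀ = t + 2 := ⟨q₀ - 2, by omega⟩
          rw [ht]
          have e1 : t + 2 - 1 = t + 1 := by omega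
          have e2 : (t + 2) ^ 2 - 1 = (t + 1) * (t + 3) := by
            have : (t + 2) ^ 2 = (t + 1) * (t + 3) + 1 := by ring
            rw [this, Nat.add_sub_cancel]
          rw [e1, e2]
          nlinarith [Nat.zero_le t, Nat.zero_le (t * t), Nat.zero_le (t * t * t)]
        calc Nat.gcd 2 (q - 1) * Nat.card H ≤ 2 * (q₀ * (q₀ - 1) * (q₀ + 1)) := by
              apply Nat.mul_le_mul _ hcard
              rcases hd with h | h <;> omega
          _ ≤ _ := h6.trans h5
  · obtain ⟨P⟩ : Nonempty (Sylow p (Matrix.ProjectiveSpecialLinearGroup (Fin 2) F)) := inferInstance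
    obtain ⟨-, h2, -, -⟩ := sylow_psl_facts p P
    exact ⟨_, h2⟩

end Cfsg.Agent.S0806
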