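import Cfsg.Statements.S0810
import Mathlib
import Cfsg.Agent.Lib.Helper2.DSubM3

set_option autoImplicit false
open Cfsg

namespace Cfsg.Agent.S0810

open Cfsg.Agent.Lib.Helper2.DSub

theorem two_pow_odd_mod_five (k : ℕ) : 2 ^ (2 * k + 1) % 5 = 2 ∨ 2 ^ (2 * k + 1) % 5 = 3 := by
  induction k with
  | zero => left; rfl
  | succ k ih =>
    have e : 2 ^ (2 * (k + 1) + 1) = 4 * 2 ^ (2 * k + 1) := by ring
    rw [e]
    omega

theorem three_pow_odd_mod_five (k : ℕ) : 3 ^ (2 * k + 1) % 5 = 2 ∨ 3 ^ (2 * k + 1) % 5 = 3 := by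
  induction k with
  | zero => right; rfl
  | succ k ih =>
    have e : 3 ^ (2 * (k + 1) + 1) = 9 * 3 ^ (2 * k + 1) := by ring
    rw [e]
    omega

theorem not_five_dvd (q : ℕ) (hq : q % 5 = 2 ∨ q % 5 = 3) : ¬ 5 ∣ q * (q - 1) * (q + 1) := by
  intro h
  have h5 : Nat.Prime 5 := by norm_num
  rcases (Nat.Prime.dvd_mul h5).mp h with h | h
  · rcases (Nat.Prime.dvd_mul h5).mp h with h | h <;> omega
  · omega

theorem sq_sub_one (q : ℕ) (hq : 1 ≤ q) : q ^ 2 - 1 = (q - 1) * (q + 1) := by
  obtain ⟨t, rfl⟩ : ∃ t, q = t + 1 := ⟨q - 1, by omega⟩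
  rw [Nat.add_sub_cancel]
  have : (t + 1) ^ 2 = t * (t + 1 + 1) + 1 := by ring
  rw [this, Nat.add_sub_cancel]

theorem arith_minimal (p n q : ℕ) (hp : p.Prime) (hn : 0 < n) (hq : q = p ^ n) (hq4 : 4 ≤ q)
    (hA : ∀ m, m ∣ n → m < n → p ^ m < 4) (hB : ¬ (5 ∣ q * (q ^ 2 - 1) ∧ 5 < q)) :
    (∃ r : ℕ, r.Prime ∧ q = 2 ^ r) ∨ (∃ r : ℕ, r.Prime ∧ r ≠ 2 ∧ q = 3 ^ r) ∨
      (q.Prime ∧ 5 < q ∧ (q % 5 = 2 ∨ q % 5 = 3)) ∨ q = 5 := by
  rcases Nat.lt_or_ge n 2 with hn1 | hn2
  · have hn1' : n = 1 := by omega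
    rw [hn1', pow_one] at hq
    by_cases h5 : q = 5
    · right; right; right; exact h5
    right; right; left
    have hqp : q.Prime := hq ▸ hp
    have hq5 : 5 < q := by
      have : q ≠ 4 := by
        intro h; rw [h] at hqp; norm_num at hqp
      omega
    refine ⟨hqp, hq5, ?_⟩
    have hB' : ¬ 5 ∣ q * (q ^ 2 - 1) := fun h => hB ⟨h, hq5⟩
    rw [sq_sub_one q (by omega)] at hB'
    by_contra hcon
    apply hB'
    have hmod : q % 5 = 0 ∨ q % 5 = 1 ∨ q % 5 = 4 := by omega
    rcases hmod with h | h | h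
    · exact Dvd.dvd.mul_right (Nat.dvd_of_mod_eq_zero h) _
    · apply Dvd.dvd.mul_left
      apply Dvd.dvd.mul_right
      omega
    · apply Dvd.dvd.mul_left
      apply Dvd.dvd.mul_left
      omega
  · have hp23 : p = 2 ∨ p = 3 := by
      have := hA 1 (one_dvd n) (by omega)
      rw [pow_one] at this
      have := hp.two_le
      omega
    have hnprime : n.Prime := by
      rw [Nat.prime_def]
      refine ⟨hn2, ?_⟩
      intro m hm
      by_contra hcon
      push Not at hcon
      have hmn : m < n := lt_of_le_of_ne (Nat.le_of_dvd hn hm) hcon.2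
      have hm0 : m ≠ 0 := by
        rintro rfl
        rw [zero_dvd_iff] at hm; omega
      have hm2 : 2 ≤ m := by omega
      have h4 := hA m hm hmn
      have : p ^ 2 ≤ p ^ m := Nat.pow_le_pow_right hp.pos hm2
      have : 2 ^ 2 ≤ p ^ 2 := Nat.pow_le_pow_left hp.two_le 2
      omega
    rcases hp23 with rfl | rfl
    · left; exact ⟨n, hnprime, hq⟩
    · right; left
      refine ⟨n, hnprime, ?_, hq⟩
      rintro rfl
      apply hB
      rw [hq]
      norm_num

/-- PSL_2(q) is minimal simple iff q is 2^r (r prime), 3^r (r an odd prime), a prime greater than 5 congruent to 2 or 3 mod 5, or 5. -/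
theorem result {F : Type*} [Field F] [Fintype F] {q : ℕ} (hF : Fintype.card F = q) : Cfsg.IsMinimalSimple (Matrix.ProjectiveSpecialLinearGroup (Fin 2) F) ↔ ((∃ r : ℕ, r.Prime ∧ q = 2 ^ r) ∨ (∃ r : ℕ, r.Prime ∧ r ≠ 2 ∧ q = 3 ^ r) ∨ (q.Prime ∧ 5 < q ∧ (q % 5 = 2 ∨ q % 5 = 3)) ∨ q = 5) := by
  subst hF
  haveI := finite_psl (F := F)
  obtain ⟨p, hchar⟩ := CharP.exists F
  haveI : Fact p.Prime := ⟨CharP.char_is_prime F p⟩
  have hp : p.Prime := Fact.out
  obtain ⟨n, -, hn⟩ := FiniteField.card F p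
  have hq2 : 2 ≤ Fintype.card F := Fintype.one_lt_card
  have hG := card_psl_two (F := F)
  have hd12 := gcd_two_cases (Fintype.card F - 1)
  constructor
  · rintro ⟨hsimple, hnc, hsolv⟩
    have hq4 : 4 ≤ Fintype.card F := by
      by_contra hcon
      apply hnc
      have hdvd : Nat.card (Matrix.ProjectiveSpecialLinearGroup (Fin 2) F) ∣ 24 := by
        have h23 : Fintype.card F = 2 ∨ Fintype.card F = 3 := by omega
        rcases h23 with h | h
        · rw [h] at hG
          have : Nat.gcd 2 (2 - 1) = 1 := by norm_num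
          rw [this] at hG
          have h6 : Nat.card (Matrix.ProjectiveSpecialLinearGroup (Fin 2) F) = 6 := by omega
          rw [h6]; norm_num
        · rw [h] at hG
          have : Nat.gcd 2 (3 - 1) = 2 := by norm_num
          rw [this] at hG
          have h6 : Nat.card (Matrix.ProjectiveSpecialLinearGroup (Fin 2) F) = 12 := by omega
          rw [h6]; norm_num
      have hs := Cfsg.Agent.Lib.Helper8.isSolvable_of_card_dvd_24 hdvd
      exact ⟨⟨IsSimpleGroup.comm_iff_isSolvable.mpr hs⟩⟩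
    apply arith_minimal p n (Fintype.card F) hp n.pos hn hq4
    · intro m hm hmn
      by_contra hcon
      push Not at hcon
      obtain ⟨H, hH, hns⟩ := exists_nonsolvable_subfield p n m hn hm hmn hcon
      exact hns (hsolv H hH)
    · rintro ⟨h5, hq5⟩
      obtain ⟨H, hH, hns⟩ := exists_nonsolvable_A5 h5 hq5
      exact hns (hsolv H hH)
  · intro hlist
    -- the numerical consequences of the list
    have key : 4 ≤ Fintype.card F ∧ ((n : ℕ) = 1 ∨ ((n : ℕ).Prime ∧ (p = 2 ∨ p = 3))) ∧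
        (¬ 5 ∣ Fintype.card F * (Fintype.card F - 1) * (Fintype.card F + 1) ∨
          Nat.card (Matrix.ProjectiveSpecialLinearGroup (Fin 2) F) = 60) := by
      rcases hlist with ⟨r, hr, hqr⟩ | ⟨r, hr, hr2, hqr⟩ | ⟨hqp, hq5, hmod⟩ | hq5
      · have hp2 : p = 2 := by
          have h1 : p ∣ 2 ^ r := by rw [← hqr, hn]; exact dvd_pow_self p n.ne_zero
          exact (Nat.prime_dvd_prime_iff_eq hp Nat.prime_two).mp (hp.dvd_of_dvd_pow h1)
        have hnr : (n : ℕ) = r := by
          rw [hp2, hqr] at hn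
          exact (Nat.pow_right_injective (le_refl 2) hn).symm
        have hr2 : 2 ≤ r := hr.two_le
        have h4 : 4 ≤ Fintype.card F := by
          rw [hqr]
          calc 4 = 2 ^ 2 := by norm_num
            _ ≤ 2 ^ r := Nat.pow_le_pow_right (by norm_num) hr2
        refine ⟨h4, Or.inr ⟨hnr ▸ hr, Or.inl hp2⟩, ?_⟩
        rcases hr.eq_two_or_odd with h | h
        · right
          rw [h] at hqr
          rw [hqr] at hG
          norm_num at hG
          exact hG
        · left
          apply not_five_dvd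
          obtain ⟨k, hk⟩ : ∃ k, r = 2 * k + 1 := ⟨r / 2, by omega⟩
          rw [hqr, hk]
          exact two_pow_odd_mod_five k
      · have hp3 : p = 3 := by
          have h1 : p ∣ 3 ^ r := by rw [← hqr, hn]; exact dvd_pow_self p n.ne_zero
          exact (Nat.prime_dvd_prime_iff_eq hp Nat.prime_three).mp (hp.dvd_of_dvd_pow h1)
        have hnr : (n : ℕ) = r := by
          rw [hp3, hqr] at hn
          exact (Nat.pow_right_injective (by norm_num : 2 ≤ 3) hn).symm
        have hr2' : 2 ≤ r := hr.two_le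
        have h4 : 4 ≤ Fintype.card F := by
          rw [hqr]
          calc 4 ≤ 3 ^ 2 := by norm_num
            _ ≤ 3 ^ r := Nat.pow_le_pow_right (by norm_num) hr2'
        refine ⟨h4, Or.inr ⟨hnr ▸ hr, Or.inr hp3⟩, Or.inl ?_⟩
        apply not_five_dvd
        rcases hr.eq_two_or_odd with h | h
        · exact absurd h hr2
        · obtain ⟨k, hk⟩ : ∃ k, r = 2 * k + 1 := ⟨r / 2, by omega⟩
          rw [hqr, hk]
          exact three_pow_odd_mod_five k
      · have h1 := (Nat.Prime.pow_eq_iff hqp).mp hn.symm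
        exact ⟨by omega, Or.inl h1.2, Or.inl (not_five_dvd _ hmod)⟩
      · have h1 := (Nat.Prime.pow_eq_iff (by norm_num : Nat.Prime 5)).mp (hn.symm.trans hq5)
        refine ⟨by omega, Or.inl h1.2, Or.inr ?_⟩
        rw [hq5] at hG
        norm_num at hG
        omega
    obtain ⟨hq4, hn', h5⟩ := key
    refine ⟨?_, ?_, ?_⟩
    · exact Matrix.ProjectiveSpecialLinearGroup.rank_two_simple
        (by rw [Nat.card_eq_fintype_card]; exact hq4)
    · intro hc
      obtain ⟨a, b, hab⟩ := psl_not_comm hq4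
      exact hab (hc.is_comm.comm a b)
    · intro H hH
      exact proper_solvable p n hn hn' h5 H hH

end Cfsg.Agent.S0810
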