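import Cfsg.Statements.S0813
import Mathlib
import Mathlib
import Cfsg.Agent.S2601
import Cfsg.Agent.S2602
import Cfsg.Agent.Lib.Helper1.SLCard
import Cfsg.Agent.Lib.Helper1.SLn

set_option autoImplicit false
open Cfsg

namespace Cfsg.Agent.S0813


open Matrix

theorem card_inn {P : Type*} [Group P] (hc : Subgroup.center P = ⊥) :
    Nat.card (Cfsg.Inn P) = Nat.card P := by
  have hinj : Function.Injective (MulAut.conj : P →* MulAut P) := by
    rw [injective_iff_map_eq_one]
    intro g hg
    have hmem : g ∈ Subgroup.center P := by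
      rw [Subgroup.mem_center_iff]
      intro x
      have h1 := DFunLike.congr_fun hg x
      rw [MulAut.conj_apply, MulAut.one_apply] at h1
      calc x * g = (g * x * g⁻¹) * g := by rw [h1]
        _ = g * x := by group
    rw [hc, Subgroup.mem_bot] at hmem
    exact hmem
  exact (Nat.card_congr (MonoidHom.ofInjective hinj).toEquiv).symm

theorem card_aut_eq {P : Type*} [Group P] (hc : Subgroup.center P = ⊥) :
    Nat.card (MulAut P) = Nat.card (Cfsg.Out P) * Nat.card P := by
  rw [← card_inn hc]
  exact Subgroup.card_eq_card_quotient_mul_card_subgroup (Cfsg.Inn P)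

theorem card_of_surjective {A B : Type*} [Group A] [Group B] (φ : A →* B)
    (hφ : Function.Surjective φ) : Nat.card A = Nat.card B * Nat.card φ.ker := by
  rw [Subgroup.card_eq_card_quotient_mul_card_subgroup φ.ker,
    Nat.card_congr (QuotientGroup.quotientKerEquivOfSurjective φ hφ).toEquiv]

theorem center_PSL_eq_bot {F : Type*} [Field F] [Fintype F] (n : ℕ) (hn : 2 ≤ n)
    (h2 : n = 2 → 4 ≤ Fintype.card F) :
    Subgroup.center (ProjectiveSpecialLinearGroup (Fin n) F) = ⊥ := by
  have hperf : Group.IsPerfect (SpecialLinearGroup (Fin n) F) := by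
    rcases Nat.lt_or_ge n 3 with h | h
    · have hn2 : n = 2 := by omega
      subst hn2
      have h4 := h2 rfl
      classical
      -- find a with a ≠ 0, a^2 ≠ 1
      obtain ⟨a, ha⟩ : ∃ a : F, a ∉ ({0, 1, -1} : Finset F) := by
        by_contra hcon
        push Not at hcon
        have : (Finset.univ : Finset F) ⊆ {0, 1, -1} := fun a _ => hcon a
        have h5 := Finset.card_le_card this
        rw [Finset.card_univ] at h5
        have h6 : ({0, 1, -1} : Finset F).card ≤ 3 := Finset.card_le_three
        omega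
      simp only [Finset.mem_insert, Finset.mem_singleton, not_or] at ha
      have hasq : a ^ 2 ≠ 1 := by
        intro hsq
        have : (a - 1) * (a + 1) = 0 := by ring_nf; rw [hsq]; ring
        rcases mul_eq_zero.mp this with h7 | h7
        · exact ha.2.1 (sub_eq_zero.mp h7)
        · exact ha.2.2 (eq_neg_of_add_eq_zero_left h7)
      exact ⟨SL2.commutator_eq_top ha.1 hasq⟩
    · exact ⟨Cfsg.Agent.Lib.Helper1.commutator_SL_eq_top n h⟩
  exact Group.IsPerfect.center_quotient_center_eq_bot (SpecialLinearGroup (Fin n) F)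

theorem card_PGL {F : Type*} [Field F] [Fintype F] (n : ℕ) (hn : 1 ≤ n) :
    Nat.card (ProjGenLinGroup (Fin n) F)
      = Nat.gcd n (Fintype.card F - 1) * Nat.card (ProjectiveSpecialLinearGroup (Fin n) F) := by
  rw [Cfsg.Agent.Lib.Helper1.card_PGL_eq_card_SL,
    ← Cfsg.Agent.Lib.Helper1.card_center_SL_field n hn,
    ← (Subgroup.center (SpecialLinearGroup (Fin n) F)).card_mul_index]
  rfl

/-- |Aut(PSL_n(q))|, q = p^f: for n ≥ 3 it is 2 f |PGL_n(q)|, and for n = 2 (q ≥ 4) it is f |PGL_2(q)|. -/
theorem result {F : Type*} [Field F] [Fintype F] (p f : ℕ) [Fact p.Prime] (hf : 1 ≤ f) (hF : Fintype.card F = p ^ f) (n : ℕ) (hn : 2 ≤ n) (h2 : n = 2 → 4 ≤ p ^ f) : Nat.card (MulAut (Matrix.ProjectiveSpecialLinearGroup (Fin n) F)) = (if n = 2 then 1 else 2) * f * Nat.card (Matrix.ProjGenLinGroup (Fin n) F) := by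
  have hc := center_PSL_eq_bot (F := F) n hn (by rw [hF]; exact h2)
  rw [card_aut_eq hc, card_PGL n (by omega), hF]
  by_cases hn2 : n = 2
  · subst hn2
    obtain ⟨φ, hφ, _, hker⟩ := Cfsg.Agent.S2602.result (F := F) hf hF (h2 rfl)
    rw [card_of_surjective φ hφ, hker, if_pos rfl]
    have hcard : Nat.card (Multiplicative (ZMod f)) = f := by
      rw [Nat.card_congr Multiplicative.toAdd, Nat.card_zmod]
    rw [hcard]
    ring
  · obtain ⟨φ, hφ, _, hker⟩ := Cfsg.Agent.S2601.result (F := F) (n := n) hf hF (by omega)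
    rw [card_of_surjective φ hφ, hker, if_neg hn2]
    have hcard : Nat.card (Multiplicative (ZMod f × ZMod 2)) = f * 2 := by
      rw [Nat.card_congr Multiplicative.toAdd, Nat.card_prod, Nat.card_zmod, Nat.card_zmod]
    rw [hcard]
    ring

end Cfsg.Agent.S0813
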