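import Cfsg.Statements.S0814
import Cfsg.Agent.Lib.Helper5.PSpGr4
import Cfsg.Agent.Lib.Helper5.PSL2Aut6
import Cfsg.Agent.S0246

set_option autoImplicit false
open Cfsg

namespace Cfsg.Agent.S0814


open Cfsg.Agent.Lib.Helper5.PSpAut Cfsg.Agent.Lib.Helper5.PSpGr



/-- |Aut(PSp_2m(q))| = gcd(2, q−1) · f · |PSp_2m(q)| for q = p^f, m ≥ 2, (m, q) ≠ (2, 2), with an extra factor 2 exactly when m = 2 and p = 2. -/
theorem result {F : Type*} [Field F] [Fintype F] (p f : ℕ) [Fact p.Prime] (hf : 1 ≤ f) (hF : Fintype.card F = p ^ f) (m : ℕ) (hm : 2 ≤ m) (h22 : m = 2 → 3 ≤ p ^ f) : Nat.card (MulAut (Cfsg.PSp m F)) = (if m = 2 ∧ p = 2 then 2 else 1) * Nat.gcd 2 (p ^ f - 1) * f * Nat.card (Cfsg.PSp m F) := by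
  haveI : CharP F p := Cfsg.Agent.Lib.Helper5.PSL2Aut.charP_of_card hf hF
  have hgal : Nat.card (F ≃+* F) = f :=
    (Cfsg.Agent.Lib.Helper5.PSL2Aut.ringAut_cyclic_card (p := p) (f := f) hf hF).2
  have hSp : Nat.card ↥(Matrix.symplecticGroup (Fin m) F)
      = Nat.card (Cfsg.PSp m F) * Nat.gcd 2 (p ^ f - 1) := by
    rw [← Cfsg.Agent.S0246.result hF m (by omega)]
    exact Subgroup.card_eq_card_quotient_mul_card_subgroup _
  have hG := card_GamSub (m := m) (F := F) p (by omega)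
  rw [hgal, hSp] at hG
  by_cases hc : m = 2 ∧ p = 2
  · obtain ⟨rfl, rfl⟩ := hc
    rw [if_pos ⟨rfl, rfl⟩]
    have hidx := index_GamSub (m := 2) (F := F) (le_refl 2) thG_not_mem
    rw [← Subgroup.index_mul_card (GamSub 2 F), hidx, hG]
    ring
  · rw [if_neg hc]
    have htop : GamSub m F = ⊤ := by
      rw [eq_top_iff]
      intro α _
      exact aut_PSp_all hm p (fun h1 h2 => hc ⟨h1, h2⟩) α
    rw [← Subgroup.card_top (G := MulAut (Cfsg.PSp m F)), ← htop, hG]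
    ring


end Cfsg.Agent.S0814
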