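import Cfsg.Statements.S0815
import Cfsg.Agent.Lib.Helper5.UAut15
import Cfsg.Agent.Lib.Helper5.PSUAut9
import Cfsg.Agent.Lib.Helper5.PSL2Aut6
import Cfsg.Agent.S0279

set_option autoImplicit false
open Cfsg

namespace Cfsg.Agent.S0815


open Matrix Cfsg.Agent.Lib.Helper5.UAut Cfsg.Agent.Lib.Helper5.PSUAut Cfsg.Agent.Lib.Helper5.SLnAut

theorem card_of_surj {A B : Type*} [Group A] [Group B] (φ : A →* B)
    (hφ : Function.Surjective φ) : Nat.card A = Nat.card B * Nat.card φ.ker := by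
  rw [Subgroup.card_eq_card_quotient_mul_card_subgroup φ.ker,
    Nat.card_congr (QuotientGroup.quotientKerEquivOfSurjective φ hφ).toEquiv]

section
variable {n : ℕ} {F : Type*} [Field F] [Fintype F] {q : ℕ}

theorem card_ker_detGU (hF : Fintype.card F = q ^ 2) :
    Nat.card ↥(detGU hF n).ker = Nat.card ↥(Cfsg.SU n F q) := by
  have hmem : ∀ s : ↥(Cfsg.SU n F q), Matrix.SpecialLinearGroup.toGL s.1 ∈ Cfsg.GU n F q := by
    intro s u v
    exact s.2 u v
  have hker : ∀ s : ↥(Cfsg.SU n F q),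
      (⟨Matrix.SpecialLinearGroup.toGL s.1, hmem s⟩ : ↥(Cfsg.GU n F q)) ∈ (detGU hF n).ker := by
    intro s
    rw [MonoidHom.mem_ker]
    apply Subtype.ext
    apply Units.ext
    rw [detGU_coe, Matrix.GeneralLinearGroup.val_det_apply]
    exact s.1.2
  symm
  apply Nat.card_congr
  refine Equiv.ofBijective (fun s => ⟨⟨Matrix.SpecialLinearGroup.toGL s.1, hmem s⟩, hker s⟩)
    ⟨?_, ?_⟩
  · intro s t hst
    have h1 := congrArg (fun z : ↥(detGU hF n).ker =>
      (((z : ↥(Cfsg.GU n F q)) : GL (Fin n) F) : Matrix (Fin n) (Fin n) F)) hst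
    apply Subtype.ext
    apply Subtype.ext
    exact h1
  · rintro ⟨g, hg⟩
    rw [MonoidHom.mem_ker] at hg
    have hdet : ((g : GL (Fin n) F) : Matrix (Fin n) (Fin n) F).det = 1 := by
      have := congrArg (fun u : ↥(U1 F q) => ((u : Fˣ) : F)) hg
      exact this
    have hs : (⟨((g : GL (Fin n) F) : Matrix (Fin n) (Fin n) F), hdet⟩ :
        Matrix.SpecialLinearGroup (Fin n) F) ∈ Cfsg.SU n F q := by
      intro u v
      exact g.2 u v
    refine ⟨⟨_, hs⟩, ?_⟩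
    apply Subtype.ext
    apply Subtype.ext
    apply Units.ext
    rfl

theorem card_GU (hF : Fintype.card F = q ^ 2) (hn : 1 ≤ n) :
    Nat.card ↥(Cfsg.GU n F q) = (q + 1) * Nat.card ↥(Cfsg.SU n F q) := by
  rw [card_of_surj (detGU hF n) (detGU_surjective hF hn), card_U1 hF, card_ker_detGU hF]

theorem scalar_mem_GU (z : Fˣ) (hz : z ∈ U1 F q) :
    Matrix.GeneralLinearGroup.scalar (Fin n) z ∈ Cfsg.GU n F q := by
  intro u v
  have h : ∀ x : Fin n → F,
      ((Matrix.GeneralLinearGroup.scalar (Fin n) z : GL (Fin n) F) :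
        Matrix (Fin n) (Fin n) F) *ᵥ x = (z : F) • x := by
    intro x
    rw [Matrix.GeneralLinearGroup.coe_scalar, Matrix.scalar_apply, ← Matrix.smul_one_eq_diagonal,
      Matrix.smul_mulVec, Matrix.one_mulVec]
  show Cfsg.hermForm n F q (((Matrix.GeneralLinearGroup.scalar (Fin n) z : GL (Fin n) F) :
        Matrix (Fin n) (Fin n) F) *ᵥ u) (((Matrix.GeneralLinearGroup.scalar (Fin n) z :
        GL (Fin n) F) : Matrix (Fin n) (Fin n) F) *ᵥ v) = Cfsg.hermForm n F q u v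
  rw [h, h, Cfsg.Agent.Lib.Helper2.Herm.herm_smul_left,
    Cfsg.Agent.Lib.Helper2.Herm.herm_smul_right, ← mul_assoc, (mem_U1.1 hz), one_mul]

theorem card_ker_rhoGU (hF : Fintype.card F = q ^ 2) (hn : 3 ≤ n) :
    Nat.card ↥(rhoGU n F q).ker = q + 1 := by
  rw [← card_U1 hF]
  symm
  apply Nat.card_congr
  have hk : ∀ z : ↥(U1 F q), (⟨Matrix.GeneralLinearGroup.scalar (Fin n) z.1,
      scalar_mem_GU z.1 z.2⟩ : ↥(Cfsg.GU n F q)) ∈ (rhoGU n F q).ker := by
    intro z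
    rw [MonoidHom.mem_ker, rhoGU_apply]
    apply cjC_eq_one_of_scalar _ (z.1 : F) z.1.ne_zero
    show ((Matrix.GeneralLinearGroup.scalar (Fin n) z.1 : GL (Fin n) F) :
      Matrix (Fin n) (Fin n) F) = _
    rw [Matrix.GeneralLinearGroup.coe_scalar, Matrix.scalar_apply, ← Matrix.smul_one_eq_diagonal]
  refine Equiv.ofBijective (fun z => ⟨⟨Matrix.GeneralLinearGroup.scalar (Fin n) z.1,
    scalar_mem_GU z.1 z.2⟩, hk z⟩) ⟨?_, ?_⟩
  · intro z z' hzz
    have h1 := congrArg (fun w : ↥(rhoGU n F q).ker =>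
      (((w : ↥(Cfsg.GU n F q)) : GL (Fin n) F) : Matrix (Fin n) (Fin n) F) ⟨0, by omega⟩
        ⟨0, by omega⟩) hzz
    simp only [Matrix.GeneralLinearGroup.coe_scalar, Matrix.scalar_apply,
      Matrix.diagonal_apply_eq] at h1
    apply Subtype.ext
    apply Units.ext
    exact h1
  · rintro ⟨g, hg⟩
    rw [MonoidHom.mem_ker, rhoGU_apply] at hg
    obtain ⟨l, hl0, hl⟩ := (cjC_eq_one_iff hF hn _).1 hg
    have hl' : ((g : GL (Fin n) F) : Matrix (Fin n) (Fin n) F) = l • 1 := hl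
    have hU : Units.mk0 l hl0 ∈ U1 F q := by
      rw [mem_U1, Units.val_mk0]
      have h1 := g.2 (Pi.single ⟨0, by omega⟩ 1) (Pi.single ⟨0, by omega⟩ 1)
      have h1' : Cfsg.hermForm n F q (((g : GL (Fin n) F) : Matrix (Fin n) (Fin n) F) *ᵥ
          (Pi.single ⟨0, by omega⟩ 1)) (((g : GL (Fin n) F) : Matrix (Fin n) (Fin n) F) *ᵥ
          (Pi.single ⟨0, by omega⟩ 1))
          = Cfsg.hermForm n F q (Pi.single (⟨0, by omega⟩ : Fin n) 1)
            (Pi.single ⟨0, by omega⟩ 1) := h1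
      rw [hl', Matrix.smul_mulVec, Matrix.one_mulVec,
        Cfsg.Agent.Lib.Helper2.Herm.herm_smul_left,
        Cfsg.Agent.Lib.Helper2.Herm.herm_smul_right] at h1'
      have h2 : Cfsg.hermForm n F q (Pi.single (⟨0, by omega⟩ : Fin n) 1)
          (Pi.single ⟨0, by omega⟩ 1) = 1 := by
        unfold Cfsg.hermForm
        rw [Finset.sum_eq_single (⟨0, by omega⟩ : Fin n)]
        · simp
        · intro b _ hb
          rw [Pi.single_eq_of_ne hb, zero_mul]
        · intro h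
          exact absurd (Finset.mem_univ _) h
      rw [h2, mul_one] at h1'
      linear_combination h1'
    refine ⟨⟨Units.mk0 l hl0, hU⟩, ?_⟩
    apply Subtype.ext
    apply Subtype.ext
    apply Units.ext
    show ((Matrix.GeneralLinearGroup.scalar (Fin n) (Units.mk0 l hl0) : GL (Fin n) F) :
      Matrix (Fin n) (Fin n) F) = ((g : GL (Fin n) F) : Matrix (Fin n) (Fin n) F)
    rw [hl', Matrix.GeneralLinearGroup.coe_scalar, Matrix.scalar_apply,
      ← Matrix.smul_one_eq_diagonal, Units.val_mk0]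

theorem card_range_rhoGU (hF : Fintype.card F = q ^ 2) (hn : 3 ≤ n) :
    Nat.card ↥(rhoGU n F q).range = Nat.card ↥(Cfsg.SU n F q) := by
  have h1 := card_of_surj (rhoGU n F q).rangeRestrict (rhoGU n F q).rangeRestrict_surjective
  rw [MonoidHom.ker_rangeRestrict, card_ker_rhoGU hF hn, card_GU hF (by omega)] at h1
  have hq : 0 < q + 1 := by omega
  have h2 : (q + 1) * Nat.card ↥(Cfsg.SU n F q) = (q + 1) * Nat.card ↥(rhoGU n F q).range := by
    rw [h1, mul_comm]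
  exact (Nat.eq_of_mul_eq_mul_left hq h2).symm

end



/-- |Aut(PSU_n(q))| = gcd(n, q+1) · 2f · |PSU_n(q)| for q = p^f, n ≥ 3, (n, q) ≠ (3, 2); the form is realised over F with |F| = q². -/
theorem result {F : Type*} [Field F] [Fintype F] (p f : ℕ) [Fact p.Prime] (hf : 1 ≤ f) {q : ℕ} (hq : q = p ^ f) (hF : Fintype.card F = q ^ 2) (n : ℕ) (hn : 3 ≤ n) (h32 : ¬ (n = 3 ∧ q = 2)) : Nat.card (MulAut (Cfsg.PSU n F q)) = Nat.gcd n (q + 1) * (2 * f) * Nat.card (Cfsg.PSU n F q) := by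
  have hbij : Function.Bijective (fun x : ↥(rhoGU n F q).range × (F ≃+* F) =>
      (x.1 : MulAut (Cfsg.PSU n F q)) * fa x.2) := by
    constructor
    · rintro ⟨⟨_, g, rfl⟩, τ⟩ ⟨⟨_, g', rfl⟩, τ'⟩ h
      have h' : rhoGU n F q g * fa τ = rhoGU n F q g' * fa τ' := h
      rw [rhoGU_apply, rhoGU_apply] at h'
      obtain ⟨h1, -⟩ := cjC_fa_inj hF hn _ _ _ _ h'
      subst h1
      have h2 := mul_right_cancel h'
      rw [← rhoGU_apply, ← rhoGU_apply] at h2
      apply Prod.ext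
      · apply Subtype.ext
        exact h2
      · rfl
    · intro α
      obtain ⟨g, τ, h⟩ := aut_PSU hq hF hn h32 α
      obtain ⟨g', hg', z, hz, hgz⟩ := exists_smul_mem_GU hF g.1 g.2
      have h1 : cjC g = cjC ⟨g', GU_le_CU hg'⟩ := cjC_eq_of_smul _ _ z hz hgz
      refine ⟨⟨⟨rhoGU n F q ⟨g', hg'⟩, ⟨_, rfl⟩⟩, τ⟩, ?_⟩
      show rhoGU n F q ⟨g', hg'⟩ * fa τ = α
      rw [h, h1, rhoGU_apply]
  have hcard := Nat.card_congr (Equiv.ofBijective _ hbij)
  rw [← hcard, Nat.card_prod, card_range_rhoGU hF hn]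
  have hgal : Nat.card (F ≃+* F) = f * 2 :=
    (Cfsg.Agent.Lib.Helper5.PSL2Aut.ringAut_cyclic_card (p := p) (f := f * 2) (by omega)
      (by rw [hF, hq, ← pow_mul])).2
  rw [hgal, ← Cfsg.Agent.S0279.result hF n hn,
    Subgroup.card_eq_card_quotient_mul_card_subgroup (Subgroup.center ↥(Cfsg.SU n F q))]
  ring


end Cfsg.Agent.S0815
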