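import Cfsg.Statements.S0819
import Cfsg.Agent.S2476

set_option autoImplicit false
open Cfsg

namespace Cfsg.Agent.S0819




/-- No element of PSL_3(4) has order 15. -/
theorem result {F : Type*} [Field F] [Fintype F] (hF : Fintype.card F = 4) (g : Matrix.ProjectiveSpecialLinearGroup (Fin 3) F) : orderOf g ≠ 15 := by
  classical
  intro h15
  obtain ⟨p, hp⟩ := CharP.exists F
  have hpp : Fact p.Prime := ⟨CharP.char_is_prime F p⟩
  have hp2 : p = 2 := by
    have h1 : p ∣ Fintype.card F := by
      rw [← CharP.cast_eq_zero_iff F p]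
      exact FiniteField.cast_card_eq_zero F
    rw [hF] at h1
    have h2 : (4 : ℕ) = 2 ^ 2 := by norm_num
    rw [h2] at h1
    exact (Nat.prime_dvd_prime_iff_eq hpp.out Nat.prime_two).1 (hpp.out.dvd_of_dvd_pow h1)
  have hmem : (15 : ℕ) ∈ Set.range (orderOf : Matrix.ProjectiveSpecialLinearGroup (Fin 3) F → ℕ) :=
    ⟨g, h15⟩
  rw [Cfsg.Agent.S2476.result p, hF, hp2] at hmem
  simp only [Set.mem_setOf_eq] at hmem
  norm_num at hmem


end Cfsg.Agent.S0819
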