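import Cfsg.Statements.S0820
import Mathlib
import Cfsg.Agent.Lib.Helper2.SL3Inv2
import Cfsg.Agent.Lib.Helper5.PSL2Aut6

set_option autoImplicit false
open Cfsg

namespace Cfsg.Agent.S0820

/-- Any two elements of order 2 of PSL_3(4) are conjugate. -/
theorem result {F : Type*} [Field F] [Fintype F] (hF : Fintype.card F = 4) (x y : Matrix.ProjectiveSpecialLinearGroup (Fin 3) F) (hx : orderOf x = 2) (hy : orderOf y = 2) : IsConj x y := by
  have hF' : Fintype.card F = 2 ^ 2 := by rw [hF]; norm_num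
  haveI : Fact (Nat.Prime 2) := ⟨Nat.prime_two⟩
  haveI := Cfsg.Agent.Lib.Helper5.PSL2Aut.charP_of_card (F := F) (p := 2) (f := 2) (by norm_num) hF'
  exact Cfsg.Agent.Lib.Helper2.SL3Inv.isConj_invol CharTwo.two_eq_zero x y hx hy

end Cfsg.Agent.S0820
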