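import Cfsg.Statements.S0821
import Cfsg.Agent.Lib.Helper9.SpOmG
import Cfsg.Agent.Lib.Helper9.SpOmM

set_option autoImplicit false
open Cfsg

namespace Cfsg.Agent.S0821

open Cfsg.Agent.Lib.Helper9.SpOm

/-- PSp_2m(q) ≇ PΩ_(2m+1)(q) for q odd and m ≥ 3 (they have the same order). -/
theorem result {F : Type*} [Field F] [Fintype F] (hodd : Odd (Fintype.card F)) (m : ℕ) (hm : 3 ≤ m) : IsEmpty (Cfsg.PSp m F ≃* Cfsg.POmega F (Cfsg.quadFormOdd m F)) := by
  constructor
  intro e
  have h2 : (2 : F) ≠ 0 := by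
    intro h
    have hchar : ringChar F = 2 := CharP.ringChar_of_prime_eq_zero Nat.prime_two h
    have := FiniteField.even_card_of_char_two hchar
    rcases hodd with ⟨k, hk⟩
    omega
  obtain ⟨H, hH2, hHcard⟩ := exists_elemAb_POmega (F := F) h2 hm
  have h1 := not_elemAb_PSp h2 m hm (H.map e.symm.toMonoidHom) (by
    rintro _ ⟨h, hh, rfl⟩
    rw [← map_mul, hH2 h hh, map_one])
  rw [Subgroup.card_map_of_injective (f := e.symm.toMonoidHom) e.symm.injective] at h1
  omega

end Cfsg.Agent.S0821
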