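import Cfsg.Statements.S0823
import Mathlib
import Cfsg.Agent.Lib.Helper2.S4O3c
import Cfsg.Agent.Lib.Helper2.IsoRingEquiv2

set_option autoImplicit false
open Cfsg

namespace Cfsg.Agent.S0823

/-- SO_3(3) ≅ S_4: the determinant-one isometries of the form x_0² + x_1y_1 over the field with 3 elements form a group isomorphic to the symmetric group on 4 letters. -/
theorem result {F : Type*} [Field F] [Fintype F] (hF : Fintype.card F = 3) : Nonempty (↥(Cfsg.specialIsometryGroup F (Cfsg.quadFormOdd 1 F)) ≃* Equiv.Perm (Fin 4)) := by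
  have hp : Nat.Prime 3 := by norm_num
  haveI : Fact (Nat.Prime 3) := ⟨hp⟩
  let e : ZMod 3 ≃+* F := ZMod.ringEquivOfPrime F hp hF
  have h : ∀ v : Unit ⊕ (Fin 1 ⊕ Fin 1) → ZMod 3,
      Cfsg.quadFormOdd 1 F (fun i => e (v i)) = e (Cfsg.quadFormOdd 1 (ZMod 3) v) := by
    intro v
    unfold Cfsg.quadFormOdd
    simp only [map_add, map_pow, map_sum, map_mul]
  obtain ⟨e1⟩ := Cfsg.Agent.Lib.Helper2.IsoRingEquiv.special_equiv e
    (Cfsg.quadFormOdd 1 (ZMod 3)) (Cfsg.quadFormOdd 1 F) h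
  obtain ⟨e2⟩ := Cfsg.Agent.Lib.Helper2.S4O3.equiv_zmod3
  exact ⟨e1.symm.trans e2⟩

end Cfsg.Agent.S0823
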