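import Cfsg.Statements.S0826
import Mathlib
import Cfsg.Agent.Lib.Helper2.PermSymp

set_option autoImplicit false
open Cfsg

namespace Cfsg.Agent.S0826

/-- S_2n ≤ Sp_(2n−2)(2) for n ≥ 3: there is an injective homomorphism from the symmetric group on 2n letters into the symplectic group of degree 2n − 2 over the field with two elements. -/
theorem result (n : ℕ) (hn : 3 ≤ n) : ∃ f : Equiv.Perm (Fin (2 * n)) →* Matrix.symplecticGroup (Fin (n - 1)) (ZMod 2), Function.Injective f := by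
  haveI : NeZero (2 * n) := ⟨by omega⟩
  have hm : Even (2 * n) := even_two_mul n
  have hfr : Module.finrank (ZMod 2) (Cfsg.Agent.Lib.Helper2.PermSymp.W (2 * n)) = 2 * (n - 1) := by
    rw [Cfsg.Agent.Lib.Helper2.PermSymp.finrank_W (2 * n) (by omega)]
    omega
  exact Cfsg.Agent.Lib.Helper5.AltForm.exists_hom_symplectic
    (Cfsg.Agent.Lib.Helper2.PermSymp.B (2 * n)) (Cfsg.Agent.Lib.Helper2.PermSymp.B_alt (2 * n))
    (Cfsg.Agent.Lib.Helper2.PermSymp.B_nondeg (2 * n) hm) (n - 1) hfr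
    (Cfsg.Agent.Lib.Helper2.PermSymp.ρ (2 * n) hm)
    (Cfsg.Agent.Lib.Helper2.PermSymp.ρ_injective (2 * n) hm (by omega))
    (Cfsg.Agent.Lib.Helper2.PermSymp.B_pres (2 * n) hm)

end Cfsg.Agent.S0826
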