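import Cfsg.Statements.S0828
import Mathlib
import Cfsg.Agent.Lib.Helper2.SpFrames

set_option autoImplicit false
open Cfsg

namespace Cfsg.Agent.S0828

/-- The symplectic generalised quadrangle over a field with q elements: the number of 2-dimensional subspaces of F^4 on which the symplectic form vanishes is (q + 1)(q² + 1), and every non-zero vector lies in exactly q + 1 of them. -/
theorem result {F : Type*} [Field F] [Fintype F] {q : ℕ} (hF : Fintype.card F = q) : Nat.card {W : Submodule F (Fin 2 ⊕ Fin 2 → F) // Module.finrank F W = 2 ∧ ∀ u ∈ W, ∀ v ∈ W, Cfsg.sympForm 2 F u v = 0} = (q + 1) * (q ^ 2 + 1) ∧ ∀ v : Fin 2 ⊕ Fin 2 → F, v ≠ 0 → Nat.card {W : Submodule F (Fin 2 ⊕ Fin 2 → F) // Module.finrank F W = 2 ∧ v ∈ W ∧ ∀ u ∈ W, ∀ w ∈ W, Cfsg.sympForm 2 F u w = 0} = q + 1 := by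
  classical
  have hq : 2 ≤ q := by
    rw [← hF]
    exact Fintype.one_lt_card
  have l1 : 1 ≤ q ^ 2 := Nat.one_le_pow _ _ (by omega)
  have l2 : q ≤ q ^ 2 := by nlinarith
  have l3 : q ≤ q ^ 3 := by nlinarith [Nat.one_le_pow 2 q (by omega)]
  have l4 : 1 ≤ q ^ 4 := Nat.one_le_pow _ _ (by omega)
  have l5 : 0 < q ^ 2 - q := by
    apply Nat.sub_pos_of_lt
    nlinarith
  have l6 : 0 < q ^ 2 - 1 := by
    apply Nat.sub_pos_of_lt
    nlinarith
  have hspan := fun (k : ℕ) => (Cfsg.Agent.Lib.Helper2.SpFrames.span_isotropic (F := F) (m := 2) (k := k))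
  refine ⟨?_, ?_⟩
  · show Nat.card ↥(Cfsg.Agent.Lib.Helper2.IsoFrames.TI (Cfsg.sympForm 2 F) 2) = _
    rw [Nat.card_coe_set_eq]
    have h1 := Cfsg.Agent.Lib.Helper2.SpFrames.ncard_frame (m := 2) hF 2
    have h2 := Cfsg.Agent.Lib.Helper2.IsoFrames.ncard_frame_eq (Cfsg.sympForm 2 F) 2 (hspan 2)
    rw [h1, hF] at h2
    simp only [Finset.prod_range_succ, Finset.prod_range_zero, Fin.prod_univ_two, one_mul,
      Fin.val_zero, Fin.val_one, pow_zero, pow_one, Nat.sub_zero] at h2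
    norm_num at h2
    apply Nat.eq_of_mul_eq_mul_right (Nat.mul_pos l6 l5)
    rw [← h2]
    zify [l1, l2, l3, l4]
    ring
  · intro v hv
    set u₁ : Fin 1 → (Fin 2 ⊕ Fin 2 → F) := fun _ => v with hu₁
    have hu₁F : u₁ ∈ Cfsg.Agent.Lib.Helper2.IsoFrames.Frame (Cfsg.sympForm 2 F) 1 := by
      refine ⟨?_, fun i j => ?_⟩
      · rw [linearIndependent_unique_iff]
        exact hv
      · exact Cfsg.Agent.Lib.Helper2.Symp.sympForm_self v
    have h1 := Cfsg.Agent.Lib.Helper2.SpFrames.card_ext hF u₁ hu₁F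
    have h2 := Cfsg.Agent.Lib.Helper2.IsoFrames.ncard_extn_eq (Cfsg.sympForm 2 F) u₁ hu₁F (hspan 2)
    rw [Nat.card_coe_set_eq] at h1
    rw [h1, hF] at h2
    have e : {W : Submodule F (Fin 2 ⊕ Fin 2 → F) // Module.finrank F W = 2 ∧ v ∈ W ∧
        ∀ u ∈ W, ∀ w ∈ W, Cfsg.sympForm 2 F u w = 0} ≃
        ↥{W | W ∈ Cfsg.Agent.Lib.Helper2.IsoFrames.TI (Cfsg.sympForm 2 F) (1 + 1) ∧
          Submodule.span F (Set.range u₁) ≤ W} := by
      apply Equiv.subtypeEquivRight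
      intro W
      have : Submodule.span F (Set.range u₁) ≤ W ↔ v ∈ W := by
        rw [hu₁, Set.range_const, Submodule.span_singleton_le_iff_mem]
      show _ ↔ (_ ∧ _) ∧ _
      rw [this]
      tauto
    rw [Nat.card_congr e, Nat.card_coe_set_eq]
    norm_num at h2
    apply Nat.eq_of_mul_eq_mul_right l5
    rw [← h2]
    zify [l1, l2, l3, l4]
    ring

end Cfsg.Agent.S0828
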