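import Cfsg.Statements.S0829
import Mathlib
import Cfsg.Agent.Lib.Helper2.HermFrames

set_option autoImplicit false
open Cfsg

namespace Cfsg.Agent.S0829

/-- The unitary quadrangle of PSU_4(q): with |F| = q², the number of 2-dimensional subspaces of F^4 on which the Hermitian form Σ x_i y_i^q vanishes is (q + 1)(q³ + 1). -/
theorem result {F : Type*} [Field F] [Fintype F] {q : ℕ} (hF : Fintype.card F = q ^ 2) : Nat.card {W : Submodule F (Fin 4 → F) // Module.finrank F W = 2 ∧ ∀ u ∈ W, ∀ v ∈ W, Cfsg.hermForm 4 F q u v = 0} = (q + 1) * (q ^ 3 + 1) := by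
  classical
  have hq : 2 ≤ q := Cfsg.Agent.Lib.Helper1.HermCount.two_le_q hF
  show Nat.card ↥(Cfsg.Agent.Lib.Helper2.IsoFrames.TI (Cfsg.hermForm 4 F q) 2) = _
  rw [Nat.card_coe_set_eq]
  have h := Cfsg.Agent.Lib.Helper2.HermFrames.ncard_TI_mul hF 4 2
  simp only [Finset.prod_range_succ, Finset.prod_range_zero, Fin.prod_univ_two, one_mul,
    Fin.val_zero, Fin.val_one, pow_zero, pow_one, Cfsg.Agent.Lib.Helper2.HermFrames.isoCount] at h
  norm_num at h
  have l1 : 1 ≤ q ^ 2 := Nat.one_le_pow _ _ (by omega)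
  have l4 : 1 ≤ q ^ 4 := Nat.one_le_pow _ _ (by omega)
  have l5 : q ^ 2 ≤ (q ^ 2) ^ 2 := by nlinarith
  have l6 : 1 ≤ (q ^ 2) ^ 2 := Nat.one_le_pow _ _ (by omega)
  have hpos : 0 < ((q ^ 2) ^ 2 - 1) * ((q ^ 2) ^ 2 - q ^ 2) := by
    apply Nat.mul_pos
    · apply Nat.sub_pos_of_lt
      nlinarith
    · apply Nat.sub_pos_of_lt
      nlinarith
  apply Nat.eq_of_mul_eq_mul_right hpos
  rw [h]
  zify [l1, l4, l5, l6]
  ring

end Cfsg.Agent.S0829
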