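import Cfsg.Statements.S0833
import Mathlib
import Mathlib
import Cfsg.Agent.Lib.Helper2.TmulForm
import Cfsg.Agent.Lib.Helper5.AltForm

set_option autoImplicit false
open Cfsg

namespace Cfsg.Agent.S0833

/-- If B₁, B₂ are non-degenerate alternating forms on U (dim 2k) and W (dim 2l), then B₁ ⊗ B₂ on U ⊗ W is symmetric, non-degenerate, and vanishes identically on some subspace of dimension 2kl (half of dim U ⊗ W). -/
theorem result {F U W : Type*} [Field F] [Fintype F] [AddCommGroup U] [Module F U] [FiniteDimensional F U] [AddCommGroup W] [Module F W] [FiniteDimensional F W] (B₁ : LinearMap.BilinForm F U) (B₂ : LinearMap.BilinForm F W) (h₁ : B₁.Nondegenerate) (h₂ : B₂.Nondegenerate) (hA₁ : B₁.IsAlt) (hA₂ : B₂.IsAlt) (k l : ℕ) (hU : Module.finrank F U = 2 * k) (hW : Module.finrank F W = 2 * l) : (B₁.tmul B₂).IsSymm ∧ (B₁.tmul B₂).Nondegenerate ∧ (∃ X : Submodule F (TensorProduct F U W), Module.finrank F X = 2 * k * l ∧ ∀ x ∈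 X, ∀ y ∈ X, (B₁.tmul B₂) x y = 0) := by
  classical
  open Cfsg.Agent.Lib.Helper2.TmulForm in
  refine ⟨tmul_symm_of_alt hA₁ hA₂, tmul_nondegenerate h₁ h₂, ?_⟩
  obtain ⟨m₁, b, hm₁, hb⟩ := Cfsg.Agent.Lib.Helper5.AltForm.exists_symplectic_basis hA₁ h₁.1
  have hli : LinearIndependent F (fun i : Fin m₁ => b (Sum.inl i)) :=
    b.linearIndependent.comp _ Sum.inl_injective
  set X₁ : Submodule F U := Submodule.span F (Set.range (fun i : Fin m₁ => b (Sum.inl i))) with hX₁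
  have hfr : Module.finrank F X₁ = m₁ := by
    rw [hX₁, finrank_span_eq_card hli, Fintype.card_fin]
  have hiso : ∀ x ∈ X₁, ∀ y ∈ X₁, B₁ x y = 0 := by
    apply eq_zero_on_span
    rintro _ ⟨i, rfl⟩ _ ⟨j, rfl⟩
    show B₁ (b (Sum.inl i)) (b (Sum.inl j)) = 0
    rw [hb]
    unfold Matrix.J
    rw [Matrix.fromBlocks_apply₁₁]
    rfl
  obtain ⟨X, hX, hX0⟩ := exists_isotropic_tmul B₁ B₂ X₁ hiso
  refine ⟨X, ?_, hX0⟩
  rw [hX, hfr, hW]
  have : m₁ = k := by omega
  rw [this]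
  ring

end Cfsg.Agent.S0833
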