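import Cfsg.Statements.S0834
import Mathlib
import Mathlib
import Cfsg.Agent.Lib.Helper2.TmulForm
import Cfsg.Agent.Lib.Helper2.PlusType3

set_option autoImplicit false
open Cfsg

namespace Cfsg.Agent.S0834

/-- Over a finite field with 2 ≠ 0: if B₁ on U (dim 2k, k ≥ 1) and B₂ on W (dim 2l, l ≥ 1) are non-degenerate symmetric forms admitting no totally isotropic subspaces of dimensions k, resp. l (minus type), then B₁ ⊗ B₂ admits a totally isotropic subspace of dimension 2kl (plus type). -/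
theorem result {F U W : Type*} [Field F] [Fintype F] [AddCommGroup U] [Module F U] [FiniteDimensional F U] [AddCommGroup W] [Module F W] [FiniteDimensional F W] (h2 : (2 : F) ≠ 0) (B₁ : LinearMap.BilinForm F U) (B₂ : LinearMap.BilinForm F W) (h₁ : B₁.Nondegenerate) (h₂ : B₂.Nondegenerate) (hS₁ : B₁.IsSymm) (hS₂ : B₂.IsSymm) (k l : ℕ) (hk : 1 ≤ k) (hl : 1 ≤ l) (hU : Module.finrank F U = 2 * k) (hW : Module.finrank F W = 2 * l) (hm₁ : ¬ (∃ X : Submodule F (U), Module.finrank F X = k ∧ ∀ x ∈ X, ∀ y ∈ X, (B₁) x y = 0)) (hm₂ : ¬ (∃ X : Submodule F (W), Module.finrank F X = l ∧ ∀ x ∈ X, ∀ y ∈ X, (B₂) x y = 0)) : (∃ X : Submodule F (TensorProduct F U W), Module.finrank F X = 2 * k * l ∧ ∀ x ∈ X, ∀ y ∈ X, (B₁.tmul B₂) x y = 0) := by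
  classical
  open Cfsg.Agent.Lib.Helper2.TmulForm Cfsg.Agent.Lib.Helper2.PlusType in
  set b₁ := Module.finBasis F U with hb₁
  set b₂ := Module.finBasis F W with hb₂
  have hd₁ := det_ne_zero_of_nondegenerate b₁ h₁
  have hd₂ := det_ne_zero_of_nondegenerate b₂ h₂
  have hfr : Module.finrank F (TensorProduct F U W) = 2 * (2 * k * l) := by
    rw [Module.finrank_tensorProduct, hU, hW]
    ring
  have hsymm : LinearMap.BilinForm.IsSymm (B₁.tmul B₂) :=
    ⟨fun x y => (tmul_symm_of_symm hS₁ hS₂).eq x y⟩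
  have e1 : Fintype.card (Fin (Module.finrank F W)) = 2 * l := by rw [Fintype.card_fin, hW]
  have e2 : Fintype.card (Fin (Module.finrank F U)) = 2 * k := by rw [Fintype.card_fin, hU]
  refine isotropic_of_disc (B₁.tmul B₂) hsymm (tmul_nondegenerate h₁ h₂)
    (2 * k * l) hfr (b₁.tensorProduct b₂)
    ((LinearMap.BilinForm.toMatrix b₁ B₁).det ^ l * (LinearMap.BilinForm.toMatrix b₂ B₂).det ^ k)
    (mul_ne_zero (pow_ne_zero _ hd₁) (pow_ne_zero _ hd₂)) ?_
  rw [det_toMatrix_tmul, e1, e2]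
  have h1 : ((-1 : F)) ^ (2 * k * l) = 1 := by
    rw [mul_assoc, pow_mul]
    norm_num
  rw [h1]
  ring

end Cfsg.Agent.S0834
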