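import Cfsg.Statements.S0835
import Mathlib
import Mathlib
import Cfsg.Agent.Lib.Helper2.TmulForm
import Cfsg.Agent.Lib.Helper2.PlusType3

set_option autoImplicit false
open Cfsg

namespace Cfsg.Agent.S0835

/-- Over a finite field with 2 ≠ 0: if B₁ on U (dim 2k, k ≥ 1) is non-degenerate symmetric of minus type (no totally isotropic k-subspace) and B₂ on W (dim 2l + 1) is non-degenerate symmetric, then B₁ ⊗ B₂ (dimension 2k(2l+1)) admits no totally isotropic subspace of dimension k(2l+1) (minus type). -/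
theorem result {F U W : Type*} [Field F] [Fintype F] [AddCommGroup U] [Module F U] [FiniteDimensional F U] [AddCommGroup W] [Module F W] [FiniteDimensional F W] (h2 : (2 : F) ≠ 0) (B₁ : LinearMap.BilinForm F U) (B₂ : LinearMap.BilinForm F W) (h₁ : B₁.Nondegenerate) (h₂ : B₂.Nondegenerate) (hS₁ : B₁.IsSymm) (hS₂ : B₂.IsSymm) (k l : ℕ) (hk : 1 ≤ k) (hU : Module.finrank F U = 2 * k) (hW : Module.finrank F W = 2 * l + 1) (hm₁ : ¬ (∃ X : Submodule F (U), Module.finrank F X = k ∧ ∀ x ∈ X, ∀ y ∈ X, (B₁) x y = 0)) : ¬ (∃ X : Submodule F (TensorProduct F U W), Module.finrank F X = k * (2 * l + 1) ∧ ∀ x ∈ X, ∀ y ∈ X, (B₁.tmul B₂) x y = 0) := by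
  classical
  open Cfsg.Agent.Lib.Helper2.TmulForm Cfsg.Agent.Lib.Helper2.PlusType in
  rintro ⟨X, hX, hX0⟩
  apply hm₁
  set b₁ := Module.finBasis F U with hb₁
  set b₂ := Module.finBasis F W with hb₂
  have hd₁ := det_ne_zero_of_nondegenerate b₁ h₁
  have hd₂ := det_ne_zero_of_nondegenerate b₂ h₂
  have hfr : Module.finrank F (TensorProduct F U W) = 2 * (k * (2 * l + 1)) := by
    rw [Module.finrank_tensorProduct, hU, hW]
    ring
  have hsymm : LinearMap.BilinForm.IsSymm (B₁.tmul B₂) :=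
    ⟨fun x y => (tmul_symm_of_symm hS₁ hS₂).eq x y⟩
  have e1 : Fintype.card (Fin (Module.finrank F W)) = 2 * l + 1 := by rw [Fintype.card_fin, hW]
  have e2 : Fintype.card (Fin (Module.finrank F U)) = 2 * k := by rw [Fintype.card_fin, hU]
  obtain ⟨u, hu, hdet⟩ := disc_of_isotropic (B₁.tmul B₂) hsymm (tmul_nondegenerate h₁ h₂)
    (k * (2 * l + 1)) hfr X (le_of_eq hX.symm) hX0 (b₁.tensorProduct b₂)
  rw [det_toMatrix_tmul, e1, e2] at hdet
  set d₁ := (LinearMap.BilinForm.toMatrix b₁ B₁).det with hd₁'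
  set d₂ := (LinearMap.BilinForm.toMatrix b₂ B₂).det with hd₂'
  have hc : d₁ ^ l * d₂ ^ k ≠ 0 := mul_ne_zero (pow_ne_zero _ hd₁) (pow_ne_zero _ hd₂)
  have hs : ((-1 : F)) ^ (k * l) ≠ 0 := pow_ne_zero _ (neg_ne_zero.2 one_ne_zero)
  refine isotropic_of_disc B₁ hS₁ h₁ k hU b₁ ((-1) ^ (k * l) * u / (d₁ ^ l * d₂ ^ k))
    (div_ne_zero (mul_ne_zero hs hu) hc) ?_
  rw [← hd₁']
  have h3 : ((-1 : F)) ^ (k * (2 * l + 1)) = ((-1) ^ (k * l)) ^ 2 * (-1) ^ k := by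
    rw [← pow_mul, ← pow_add]
    congr 1
    ring
  rw [h3] at hdet
  have h4 : ((-1 : F) ^ (k * l)) ^ 2 = 1 := by
    rw [← pow_mul, mul_comm, pow_mul]
    norm_num
  field_simp
  rw [h4]
  rw [h4, one_mul] at hdet
  have h5 : d₁ ^ (2 * l + 1) * d₂ ^ (2 * k) = d₁ * (d₁ ^ l) ^ 2 * (d₂ ^ k) ^ 2 := by ring
  rw [← h5, hdet]
  ring

end Cfsg.Agent.S0835
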