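import Cfsg.Statements.S0836
import Mathlib


set_option autoImplicit false
open Cfsg

namespace Cfsg.Agent.S0836


open Matrix
open scoped commutatorElement

theorem comm_eq_of_mul_eq {G : Type*} [Group G] (g₁ g₂ t : G) (h : g₁ * g₂ = t * g₂ * g₁) :
    ⁅g₁, g₂⁆ = t := by
  rw [commutatorElement_def, h]; group

theorem exists_third {n : ℕ} (hn : 3 ≤ n) (i j : Fin n) : ∃ k : Fin n, k ≠ i ∧ k ≠ j := by
  by_contra hne
  push Not at hne
  have hsub : (Finset.univ : Finset (Fin n)) ⊆ {i, j} := by
    intro k _
    by_cases hk : k = i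
    · simp [hk]
    · simp [hne k hk]
  have := Finset.card_le_card hsub
  rw [Finset.card_univ, Fintype.card_fin] at this
  have h2 : ({i, j} : Finset (Fin n)).card ≤ 2 := Finset.card_le_two
  omega

/-- For i ≠ j and any scalar c, the elementary transvection 1 + c E_ij is a commutator ⁅g, h⁆ of two elements of SL_n(F) provided n ≥ 3, or n = 2 and F contains x ≠ 0 with x² ≠ 1. -/
theorem result {F : Type*} [Field F] (n : ℕ) (hn : 3 ≤ n ∨ (n = 2 ∧ ∃ x : F, x ≠ 0 ∧ x ^ 2 ≠ 1)) (i j : Fin n) (hij : i ≠ j) (c : F) (t : Matrix.SpecialLinearGroup (Fin n) F) (ht : (t : Matrix (Fin n) (Fin n) F) = Matrix.transvection i j c) : t ∈ commutatorSet (Matrix.SpecialLinearGroup (Fin n) F) := by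
  rcases hn with hn | ⟨hn, x, hx0, hx1⟩
  · obtain ⟨k, hki, hkj⟩ := exists_third hn i j
    have hik : i ≠ k := fun h => hki h.symm
    refine ⟨⟨Matrix.transvection i k c, Matrix.det_transvection_of_ne i k hik c⟩,
      ⟨Matrix.transvection k j 1, Matrix.det_transvection_of_ne k j hkj 1⟩, ?_⟩
    apply comm_eq_of_mul_eq
    apply Subtype.ext
    show Matrix.transvection i k c * Matrix.transvection k j 1 =
      (t : Matrix (Fin n) (Fin n) F) * Matrix.transvection k j 1 * Matrix.transvection i k c
    rw [ht]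
    have e1 : Matrix.single i j c * Matrix.single k j (1 : F) = 0 :=
      Matrix.single_mul_single_of_ne (h := Ne.symm hkj) ..
    have e2 : Matrix.single i j c * Matrix.single i k c = 0 :=
      Matrix.single_mul_single_of_ne (h := hij.symm) ..
    have e3 : Matrix.single k j (1 : F) * Matrix.single i k c = 0 :=
      Matrix.single_mul_single_of_ne (h := hij.symm) ..
    simp only [Matrix.transvection, Matrix.add_mul, Matrix.mul_add, Matrix.one_mul, Matrix.mul_one,
      Matrix.single_mul_single_same, e1, e2, e3, mul_one, Matrix.zero_mul, add_zero]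
    abel
  · subst hn
    have hx2 : x ^ 2 - 1 ≠ 0 := sub_ne_zero.mpr hx1
    obtain ⟨b, hbc⟩ : ∃ b : F, b * (x ^ 2 - 1) = c := ⟨c / (x ^ 2 - 1), by field_simp⟩
    set d : Fin 2 → F := fun k => if k = i then x else x⁻¹ with hd
    have hdet : (Matrix.diagonal d).det = 1 := by
      rw [Matrix.det_diagonal, Fin.prod_univ_two, hd]
      fin_cases i <;> fin_cases j <;> simp_all
    refine ⟨⟨Matrix.diagonal d, hdet⟩,
      ⟨Matrix.transvection i j b, Matrix.det_transvection_of_ne i j hij b⟩, ?_⟩
    apply comm_eq_of_mul_eq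
    apply Subtype.ext
    show Matrix.diagonal d * Matrix.transvection i j b =
      (t : Matrix (Fin 2) (Fin 2) F) * Matrix.transvection i j b * Matrix.diagonal d
    rw [ht]
    rw [Matrix.transvection_mul_transvection_same i j hij]
    simp only [Matrix.transvection, Matrix.add_mul, Matrix.mul_add, Matrix.one_mul, Matrix.mul_one]
    congr 1
    have hdi : d i = x := by simp [hd]
    have hdj : d j = x⁻¹ := by simp [hd, hij.symm]
    ext a a'
    rw [Matrix.diagonal_mul, Matrix.mul_diagonal, Matrix.single_apply, Matrix.single_apply]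
    by_cases h : i = a ∧ j = a'
    · rw [if_pos h, if_pos h, ← h.1, ← h.2, hdi, hdj]
      rw [eq_comm, mul_inv_eq_iff_eq_mul₀ hx0]
      linear_combination (-1 : F) * hbc
    · rw [if_neg h, if_neg h, mul_zero, zero_mul]

end Cfsg.Agent.S0836
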