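import Cfsg.Statements.S0837
import Mathlib
import Mathlib
import Cfsg.Agent.Lib.Helper2.GUIsom

set_option autoImplicit false
open Cfsg

namespace Cfsg.Agent.S0837

/-- If W ≤ F^n (|F| = q²) is a k-dimensional subspace on which the Hermitian form Σ x_i y_i^q is non-degenerate, then the stabiliser of W in GU_n(q) is isomorphic to GU_k(q) × GU_(n−k)(q). -/
theorem result {F : Type*} [Field F] [Fintype F] {q : ℕ} (hF : Fintype.card F = q ^ 2) (n k : ℕ) (hk : k ≤ n) (W : Submodule F (Fin n → F)) (hWk : Module.finrank F W = k) (hW : ∀ u ∈ W, (∀ v ∈ W, Cfsg.hermForm n F q u v = 0) → u = 0) : Nonempty (↥((Cfsg.stabilizing (Cfsg.glToMat (Fin n) F) (W : Set (Fin n → F))).subgroupOf (Cfsg.GU n F q)) ≃* ↥(Cfsg.GU k F q) × ↥(Cfsg.GU (n - k) F q)) := by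
  classical
  open Cfsg.Agent.Lib.Helper2.GUIsom Cfsg.Agent.Lib.Helper2.HermDecomp Cfsg.Agent.Lib.Helper2.IsomDecomp in
  obtain ⟨σ, hσ, hσq⟩ := exists_sigma hF
  have hσ2 : ∀ a : F, σ (σ a) = a := by
    intro a
    have h2 : σ ^ 2 = 1 := by
      rw [← hσ]
      exact pow_orderOf_eq_one σ
    have := DFunLike.congr_fun h2 a
    rwa [pow_two] at this
  have hH := isHerm_hermForm n q σ hσ2 hσq
  have hq : q ≠ 0 := by
    rintro rfl
    have : 0 < Fintype.card F := Fintype.card_pos
    rw [hF] at this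
    simp at this
  have hdec := orthoDecomp hσ hH W hW
  have hW' := nondeg_orthoCompl hH W hdec (hermForm_nondeg n q hq)
  obtain ⟨b₁, hb₁⟩ := exists_onb (V := W)
    (H := fun x y : W => Cfsg.hermForm n F q (x : Fin n → F) (y : Fin n → F)) hσ
    (isHerm_restrict hH W)
    (by
      intro u hu
      apply Subtype.ext
      apply hW u u.2
      intro v hv
      exact hu ⟨v, hv⟩) hWk
  have hfr : Module.finrank F (orthoCompl hH W) = n - k := by
    have := Submodule.finrank_add_eq_of_isCompl hdec.compl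
    rw [Module.finrank_fintype_fun_eq_card, Fintype.card_fin] at this
    omega
  obtain ⟨b₂, hb₂⟩ := exists_onb (V := orthoCompl hH W)
    (H := fun x y : orthoCompl hH W => Cfsg.hermForm n F q (x : Fin n → F) (y : Fin n → F)) hσ
    (isHerm_restrict hH (orthoCompl hH W))
    (by
      intro u hu
      apply Subtype.ext
      apply hW' u u.2
      intro v hv
      exact hu ⟨v, hv⟩) hfr
  exact ⟨(stabEquivGU n q W).trans ((decompEquiv hdec).trans
    (MulEquiv.prodCongr (isomSubEquivGU σ hσ2 hσq W b₁ hb₁)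
      (isomSubEquivGU σ hσ2 hσq (orthoCompl hH W) b₂ hb₂)))⟩

end Cfsg.Agent.S0837
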