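import Cfsg.Statements.S0838
import Mathlib
import Cfsg.Agent.S2623

set_option autoImplicit false
open Cfsg

namespace Cfsg.Agent.S0838

open QuadraticMap

/-- Over a finite field with 2 ≠ 0 and n odd: two quadratic forms Q₁, Q₂ on F^n with non-degenerate polar forms are similar — there are an invertible linear map g and a scalar c ≠ 0 with Q₂ (g v) = c · Q₁ v for all v. -/
theorem result {F : Type*} [Field F] [Fintype F] (h2 : (2 : F) ≠ 0) {n : ℕ} (hn : Odd n) (Q₁ Q₂ : QuadraticForm F (Fin n → F)) (h₁ : (QuadraticMap.polarBilin Q₁).Nondegenerate) (h₂ : (QuadraticMap.polarBilin Q₂).Nondegenerate) : ∃ (g : (Fin n → F) ≃ₗ[F] (Fin n → F)) (c : F), c ≠ 0 ∧ ∀ v, Q₂ (g v) = c * Q₁ v := by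
  classical
  set d₁ := (Matrix.of (fun i j : Fin n => QuadraticMap.polar ⇑Q₁ (Pi.single i 1) (Pi.single j 1))).det with hd₁
  set d₂ := (Matrix.of (fun i j : Fin n => QuadraticMap.polar ⇑Q₂ (Pi.single i 1) (Pi.single j 1))).det with hd₂
  obtain ⟨c, hc0, hsq⟩ : ∃ c : F, c ≠ 0 ∧ IsSquare (c ^ n * d₁ * d₂) := by
    by_cases h0 : d₁ * d₂ = 0
    · refine ⟨1, one_ne_zero, 0, ?_⟩
      rw [one_pow, one_mul, h0, mul_zero]
    · refine ⟨d₁ * d₂, h0, ?_⟩
      obtain ⟨k, hk⟩ := hn
      refine ⟨(d₁ * d₂) ^ k * (d₁ * d₂), ?_⟩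
      rw [hk]; ring
  have hnd : (QuadraticMap.polarBilin (c • Q₁)).Nondegenerate := by
    have hpol : ∀ x y, QuadraticMap.polarBilin (c • Q₁) x y = c * QuadraticMap.polarBilin Q₁ x y := by
      intro x y
      simp only [QuadraticMap.polarBilin_apply_apply, QuadraticMap.polar, QuadraticMap.smul_apply, smul_eq_mul]
      ring
    constructor
    · intro x hx
      apply h₁.1 x
      intro y
      have := hx y
      rw [hpol] at this
      rcases mul_eq_zero.mp this with h | h
      · exact absurd h hc0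
      · exact h
    · intro y hy
      apply h₁.2 y
      intro x
      have := hy x
      rw [hpol] at this
      rcases mul_eq_zero.mp this with h | h
      · exact absurd h hc0
      · exact h
  have hgram : (Matrix.of (fun i j : Fin n => QuadraticMap.polar ⇑(c • Q₁) (Pi.single i 1) (Pi.single j 1))).det =
      c ^ n * d₁ := by
    have : (Matrix.of (fun i j : Fin n => QuadraticMap.polar ⇑(c • Q₁) (Pi.single i 1) (Pi.single j 1))) =
        c • (Matrix.of (fun i j : Fin n => QuadraticMap.polar ⇑Q₁ (Pi.single i 1) (Pi.single j 1))) := by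
      ext i j
      simp only [Matrix.of_apply, Matrix.smul_apply, QuadraticMap.polar, QuadraticMap.smul_apply, smul_eq_mul]
      ring
    rw [this, Matrix.det_smul, Fintype.card_fin]
  obtain ⟨g, hg⟩ := (Cfsg.Agent.S2623.result h2 (c • Q₁) Q₂ hnd h₂).mpr (by rw [hgram]; exact hsq)
  refine ⟨g, c, hc0, ?_⟩
  intro v
  rw [hg v]
  rfl

end Cfsg.Agent.S0838
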