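import Mathlib
import Cfsg.Statements.S2572

set_option autoImplicit false
open Cfsg

namespace Cfsg.Agent.S2572

variable {F : Type*} [Field F]

section shape
variable {m : ℕ}

/-- the standard nilpotent matrix `E₁₀` -/
def stdE (m : ℕ) (F : Type*) [Field F] : Matrix (Fin (m+2)) (Fin (m+2)) F := Matrix.single 1 0 1

theorem comm_iff (g : Matrix (Fin (m+2)) (Fin (m+2)) F) :
    g * stdE m F = stdE m F * g ↔
      (∀ j, j ≠ 0 → g 0 j = 0) ∧ (∀ i, i ≠ 1 → g i 1 = 0) ∧ g 0 0 = g 1 1 := by
  have hL : ∀ i j, (g * stdE m F) i j = if j = 0 then g i 1 else 0 := by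
    intro i j
    by_cases hj : j = 0
    · subst hj
      simp [stdE]
    · simp [stdE, hj, Matrix.mul_single_apply_of_ne (hbj := hj)]
  have hR : ∀ i j, (stdE m F * g) i j = if i = 1 then g 0 j else 0 := by
    intro i j
    by_cases hi : i = 1
    · subst hi
      simp [stdE]
    · simp [stdE, hi, Matrix.single_mul_apply_of_ne (h := hi)]
  constructor
  · intro h
    refine ⟨?_, ?_, ?_⟩
    · intro j hj
      have := congrFun (congrFun h 1) j
      rw [hL, hR] at this
      simpa [hj] using this.symm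
    · intro i hi
      have := congrFun (congrFun h i) 0
      rw [hL, hR] at this
      simpa [hi] using this
    · have := congrFun (congrFun h 1) 0
      rw [hL, hR] at this
      simpa using this.symm
  · rintro ⟨h1, h2, h3⟩
    ext i j
    rw [hL, hR]
    by_cases hj : j = 0 <;> by_cases hi : i = 1
    · subst hj; subst hi; simp [h3]
    · subst hj; simp [hi, h2 i hi]
    · subst hi; simp [hj, h1 j hj]
    · simp [hi, hj]

theorem det_of_shape (g : Matrix (Fin (m+2)) (Fin (m+2)) F)
    (h1 : ∀ j, j ≠ 0 → g 0 j = 0) (h2 : ∀ i, i ≠ 1 → g i 1 = 0) :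
    g.det = g 0 0 * g 1 1 * (g.submatrix (fun i : Fin m => i.succ.succ) (fun j : Fin m => j.succ.succ)).det := by
  rw [Matrix.det_succ_row_zero, Finset.sum_eq_single 0]
  · simp only [Fin.val_zero, pow_zero, one_mul, Fin.succAbove_zero]
    rw [Matrix.det_succ_column_zero, Finset.sum_eq_single 0]
    · simp only [Fin.val_zero, pow_zero, one_mul, Fin.succAbove_zero, Matrix.submatrix_apply,
        Matrix.submatrix_submatrix]
      rw [mul_assoc]
      rfl
    · intro i _ hi
      have : g i.succ (Fin.succ 0) = 0 := by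
        apply h2
        intro h
        apply hi
        exact Fin.succ_injective _ h
      simp only [Matrix.submatrix_apply, this, mul_zero, zero_mul]
    · intro h; exact absurd (Finset.mem_univ _) h
  · intro j _ hj
    rw [h1 j hj, mul_zero, zero_mul]
  · intro h; exact absurd (Finset.mem_univ _) h

def mkMat (a : F) (x : Fin (m+1) → F) (y : Fin m → F) (B : Matrix (Fin m) (Fin m) F) :
    Matrix (Fin (m+2)) (Fin (m+2)) F :=
  Matrix.of fun i j =>
    Fin.cases (motive := fun _ => F) (Fin.cases (motive := fun _ => F) a (fun _ => 0) j)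
      (fun i' => Fin.cases (motive := fun _ => F) (x i')
        (fun j' => Fin.cases (motive := fun _ => F)
          (Fin.cases (motive := fun _ => F) a y j')
          (fun i'' => Fin.cases (motive := fun _ => F) 0 (B i'') j') i') j) i

section
variable (a : F) (x : Fin (m+1) → F) (y : Fin m → F) (B : Matrix (Fin m) (Fin m) F)

@[simp] theorem mkMat_zero_zero : mkMat a x y B 0 0 = a := rfl
@[simp] theorem mkMat_zero_succ (j : Fin (m+1)) : mkMat a x y B 0 j.succ = 0 := rfl
@[simp] theorem mkMat_succ_zero (i : Fin (m+1)) : mkMat a x y B i.succ 0 = x i := rfl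
@[simp] theorem mkMat_one_one : mkMat a x y B 1 1 = a := rfl
@[simp] theorem mkMat_one_succ_succ (j : Fin m) : mkMat a x y B 1 j.succ.succ = y j := rfl
@[simp] theorem mkMat_succ_succ_one (i : Fin m) : mkMat a x y B i.succ.succ 1 = 0 := rfl
@[simp] theorem mkMat_succ_succ (i j : Fin m) : mkMat a x y B i.succ.succ j.succ.succ = B i j := rfl

theorem mkMat_shape1 : ∀ j, j ≠ 0 → mkMat a x y B 0 j = 0 := by
  intro j hj
  induction j using Fin.cases with
  | zero => exact absurd rfl hj
  | succ j => rfl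

theorem mkMat_shape2 : ∀ i, i ≠ 1 → mkMat a x y B i 1 = 0 := by
  intro i hi
  induction i using Fin.cases with
  | zero => rfl
  | succ i =>
    induction i using Fin.cases with
    | zero => exact absurd rfl hi
    | succ i => rfl

theorem mkMat_comm : mkMat a x y B * stdE m F = stdE m F * mkMat a x y B :=
  (comm_iff _).2 ⟨mkMat_shape1 a x y B, mkMat_shape2 a x y B, rfl⟩

theorem mkMat_det : (mkMat a x y B).det = a * a * B.det := by
  rw [det_of_shape _ (mkMat_shape1 a x y B) (mkMat_shape2 a x y B)]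
  rfl

end

theorem mkMat_eq (g : Matrix (Fin (m+2)) (Fin (m+2)) F)
    (h1 : ∀ j, j ≠ 0 → g 0 j = 0) (h2 : ∀ i, i ≠ 1 → g i 1 = 0) (h3 : g 0 0 = g 1 1) :
    mkMat (g 0 0) (fun i => g i.succ 0) (fun j => g 1 j.succ.succ)
      (g.submatrix (fun i : Fin m => i.succ.succ) (fun j : Fin m => j.succ.succ)) = g := by
  ext i j
  induction i using Fin.cases with
  | zero =>
    induction j using Fin.cases with
    | zero => rfl
    | succ j => 
      rw [h1 _ (Fin.succ_ne_zero j)]; rfl
  | succ i =>
    induction j using Fin.cases with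
    | zero => rfl
    | succ j =>
      induction i using Fin.cases with
      | zero =>
        induction j using Fin.cases with
        | zero => exact h3
        | succ j => rfl
      | succ i =>
        induction j using Fin.cases with
        | zero => 
          have : g i.succ.succ 1 = 0 := h2 _ (by
            intro h
            have := congrArg Fin.val h
            simp at this)
          exact this.symm
        | succ j => rfl

/-- The centraliser of `E` in `GL` is parametrised by `(a, x, y, B)`. -/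
noncomputable def centEquiv [Fintype F] [DecidableEq F] :
    {g : GL (Fin (m+2)) F // g.1 * stdE m F = stdE m F * g.1} ≃
      Fˣ × (Fin (m+1) → F) × (Fin m → F) × GL (Fin m) F where
  toFun g :=
    have hs := (comm_iff g.1.1).1 g.2
    have hd : g.1.1.det ≠ 0 := (Matrix.isUnit_iff_isUnit_det _).1 g.1.isUnit |>.ne_zero
    have hd2 := det_of_shape g.1.1 hs.1 hs.2.1
    ⟨Units.mk0 (g.1.1 0 0) (by
        intro h; rw [hd2, h, zero_mul, zero_mul] at hd; exact hd rfl),
      fun i => g.1.1 i.succ 0, fun j => g.1.1 1 j.succ.succ,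
      Matrix.GeneralLinearGroup.mkOfDetNeZero
        (g.1.1.submatrix (fun i : Fin m => i.succ.succ) (fun j : Fin m => j.succ.succ))
        (by intro h; rw [hd2, h, mul_zero] at hd; exact hd rfl)⟩
  invFun p :=
    ⟨Matrix.GeneralLinearGroup.mkOfDetNeZero (mkMat p.1.1 p.2.1 p.2.2.1 p.2.2.2.1)
      (by
        rw [mkMat_det]
        have : p.2.2.2.1.det ≠ 0 := (Matrix.isUnit_iff_isUnit_det _).1 p.2.2.2.isUnit |>.ne_zero
        exact mul_ne_zero (mul_ne_zero p.1.ne_zero p.1.ne_zero) this),
      mkMat_comm _ _ _ _⟩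
  left_inv g := by
    have hs := (comm_iff g.1.1).1 g.2
    apply Subtype.ext
    apply Units.ext
    exact mkMat_eq g.1.1 hs.1 hs.2.1 hs.2.2
  right_inv p := by
    obtain ⟨a, x, y, B⟩ := p
    refine Prod.ext (Units.ext rfl) (Prod.ext rfl (Prod.ext rfl (Units.ext rfl)))


theorem card_cent [Fintype F] [DecidableEq F] {q : ℕ} (hF : Fintype.card F = q) :
    Nat.card {g : GL (Fin (m+2)) F // g.1 * stdE m F = stdE m F * g.1} =
      q ^ (2*m+1) * (q - 1) * ∏ i : Fin m, (q ^ m - q ^ (i:ℕ)) := by
  rw [Nat.card_congr centEquiv, Nat.card_prod, Nat.card_prod, Nat.card_prod, Matrix.card_GL_field,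
    Nat.card_eq_fintype_card, Fintype.card_units, Nat.card_eq_fintype_card, Fintype.card_fun,
    Nat.card_eq_fintype_card, Fintype.card_fun, Fintype.card_fin, Fintype.card_fin, hF]
  have : 2 * m + 1 = (m + 1) + m := by ring
  rw [this, pow_add]
  ring

end shape

theorem conj_std_gl {m : ℕ} (N : Matrix (Fin (m+2)) (Fin (m+2)) F) (hr : N.rank = 1)
    (hN : N * N = 0) :
    ∃ P : Matrix (Fin (m+2)) (Fin (m+2)) F, IsUnit P.det ∧ N * P = P * Matrix.single 1 0 1 := by
  classical
  set f : (Fin (m+2) → F) →ₗ[F] (Fin (m+2) → F) := N.mulVecLin with hf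
  have hrange : Module.finrank F (LinearMap.range f) = 1 := hr
  have hker : Module.finrank F (LinearMap.ker f) = m + 1 := by
    have := LinearMap.finrank_range_add_finrank_ker f
    rw [hrange, Module.finrank_fin_fun] at this
    omega
  have hne : f ≠ 0 := by
    intro h0
    rw [h0, LinearMap.range_zero, finrank_bot] at hrange; omega
  obtain ⟨w, hw⟩ : ∃ w, f w ≠ 0 := by
    by_contra hcon; push Not at hcon; exact hne (LinearMap.ext hcon)
  have hfa : f (f w) = 0 := by
    simp [hf, Matrix.mulVec_mulVec, hN]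
  -- the range is spanned by a
  have hspan : ∀ z, ∃ c : F, f z = c • f w := by
    intro z
    have h1 := (finrank_eq_one_iff_of_nonzero' (⟨f w, LinearMap.mem_range_self f w⟩ : LinearMap.range f)
      (by intro h; exact hw (congrArg Subtype.val h))).1 hrange ⟨f z, LinearMap.mem_range_self f z⟩
    obtain ⟨c, hc⟩ := h1
    exact ⟨c, (congrArg Subtype.val hc).symm⟩
  set K := LinearMap.ker f with hK
  set a' : K := ⟨f w, hfa⟩ with ha'
  have ha'0 : a' ≠ 0 := by intro h; exact hw (congrArg Subtype.val h)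
  obtain ⟨K', hK'⟩ := Submodule.exists_isCompl (Submodule.span F {a'} : Submodule F K)
  have hK'rank : Module.finrank F K' = m := by
    have h1 := Submodule.finrank_add_eq_of_isCompl hK'
    rw [finrank_span_singleton ha'0, hker] at h1
    omega
  have : Module.Free F K' := Module.Free.of_divisionRing F K'
  let bK' : Module.Basis (Fin (m)) F K' := Module.finBasisOfFinrankEq F K' hK'rank
  have hli1 : ∀ (c : F), ∀ x ∈ K', c • a' + x = 0 → c = 0 := by
    intro c x hx hcx
    have h1 : c • a' ∈ Submodule.span F {a'} ⊓ K' := by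
      refine ⟨Submodule.smul_mem _ _ (Submodule.mem_span_singleton_self _), ?_⟩
      have : c • a' = -x := eq_neg_of_add_eq_zero_left hcx
      rw [this]; exact K'.neg_mem hx
    rw [hK'.inf_eq_bot, Submodule.mem_bot] at h1
    rcases smul_eq_zero.1 h1 with h | h
    · exact h
    · exact absurd h ha'0
  have hsp1 : ∀ z : K, ∃ c : F, z + c • a' ∈ K' := by
    intro z
    have hz : z ∈ Submodule.span F {a'} ⊔ K' := by rw [hK'.sup_eq_top]; trivial
    obtain ⟨s, hs, k, hk, hsk⟩ := Submodule.mem_sup.1 hz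
    obtain ⟨d, rfl⟩ := Submodule.mem_span_singleton.1 hs
    refine ⟨-d, ?_⟩
    rw [← hsk]
    have : d • a' + k + -d • a' = k := by module
    rw [this]; exact hk
  let bK : Module.Basis (Fin (m+1)) F K := Module.Basis.mkFinCons a' bK' hli1 hsp1
  have hli2 : ∀ (c : F), ∀ x ∈ K, c • w + x = 0 → c = 0 := by
    intro c x hx hcx
    have h1 := congrArg f hcx
    rw [map_add, map_smul, map_zero, LinearMap.mem_ker.1 hx, add_zero] at h1
    rcases smul_eq_zero.1 h1 with h | h
    · exact h
    · exact absurd h hw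
  have hsp2 : ∀ z : Fin (m+2) → F, ∃ c : F, z + c • w ∈ K := by
    intro z
    obtain ⟨c, hc⟩ := hspan z
    refine ⟨-c, ?_⟩
    rw [hK, LinearMap.mem_ker, map_add, map_smul, hc, neg_smul, add_neg_cancel]
  let bV : Module.Basis (Fin (m+2)) F (Fin (m+2) → F) := Module.Basis.mkFinCons w bK hli2 hsp2
  have hbV0 : bV 0 = w := by
    simp [bV]
  have hbV1 : bV 1 = f w := by
    have : (1 : Fin (m+2)) = Fin.succ 0 := rfl
    rw [this]
    simp [bV, bK, ha']
  have hbVs : ∀ j : Fin (m+1), f (bV j.succ) = 0 := by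
    intro j
    have : bV j.succ = (bK j : Fin (m+2) → F) := by simp [bV]
    rw [this]
    exact (bK j).2
  -- the matrix
  let P : Matrix (Fin (m+2)) (Fin (m+2)) F := (Pi.basisFun F (Fin (m+2))).toMatrix bV
  have hPij : ∀ i j, P i j = bV j i := by
    intro i j
    simp [P, Module.Basis.toMatrix_apply]
  have hdetP : IsUnit P.det := by
    have := (Pi.basisFun F (Fin (m+2))).isUnit_det bV
    rw [Module.Basis.det_apply] at this
    exact this
  have hNP : N * P = P * Matrix.single 1 0 1 := by
    ext i j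
    have h1 : (N * P) i j = f (bV j) i := by
      simp [hf, Matrix.mul_apply, Matrix.mulVec, dotProduct, hPij]
    rw [h1]
    refine Fin.cases ?_ (fun j' => ?_) j
    · rw [Matrix.mul_single_apply_same, hbV0, hPij, hbV1, mul_one]
    · rw [hbVs j', Matrix.mul_single_apply_of_ne (hbj := Fin.succ_ne_zero j')]
      rfl
  exact ⟨P, hdetP, hNP⟩


theorem result {F : Type*} [Field F] [Fintype F] {q n : ℕ} (hF : Fintype.card F = q) (hn : 2 ≤ n) (t : GL (Fin n) F) (ht : Cfsg.IsTransvection (t : Matrix (Fin n) (Fin n) F)) : Nat.card ↥(Subgroup.centralizer ({t} : Set (GL (Fin n) F))) = q ^ (2 * n - 3) * (q - 1) * ∏ i : Fin (n - 2), (q ^ (n - 2) - q ^ (i : ℕ)) := by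
  classical
  obtain ⟨m, rfl⟩ : ∃ m, n = m + 2 := ⟨n - 2, by omega⟩
  obtain ⟨P, hP, hNP⟩ := conj_std_gl (t.1 - 1) ht.1 ht.2
  let Pu : GL (Fin (m+2)) F := Matrix.GeneralLinearGroup.mk'' P hP
  have hPu : Pu.1 = P := rfl
  have hinv1 : (Pu⁻¹).1 * P = 1 := by rw [← hPu]; exact Units.inv_mul Pu
  have hinv2 : P * (Pu⁻¹).1 = 1 := by rw [← hPu]; exact Units.mul_inv Pu
  have hE : stdE m F = (Pu⁻¹).1 * (t.1 - 1) * P := by
    rw [Matrix.mul_assoc, hNP, ← Matrix.mul_assoc, hinv1, Matrix.one_mul]; rfl
  have e : ↥(Subgroup.centralizer ({t} : Set (GL (Fin (m+2)) F))) ≃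
      {g : GL (Fin (m+2)) F // g.1 * stdE m F = stdE m F * g.1} :=
    Equiv.subtypeEquiv (MulAut.conj Pu⁻¹).toEquiv (fun g => by
      rw [Subgroup.mem_centralizer_singleton_iff]
      have hconj : ((MulAut.conj Pu⁻¹).toEquiv g).1 = (Pu⁻¹).1 * g.1 * P := by
        simp [hPu]
      rw [hconj, hE]
      constructor
      · intro h
        have h' : g.1 * t.1 = t.1 * g.1 := by
          have := congrArg Units.val h
          simpa using this
        have h2 : g.1 * (t.1 - 1) = (t.1 - 1) * g.1 := by
          rw [Matrix.mul_sub, Matrix.sub_mul, h', Matrix.mul_one, Matrix.one_mul]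
        calc (Pu⁻¹).1 * g.1 * P * ((Pu⁻¹).1 * (t.1 - 1) * P)
            = (Pu⁻¹).1 * g.1 * (P * (Pu⁻¹).1) * (t.1 - 1) * P := by
              simp only [Matrix.mul_assoc]
          _ = (Pu⁻¹).1 * (g.1 * (t.1 - 1)) * P := by
              rw [hinv2, Matrix.mul_one]; simp only [Matrix.mul_assoc]
          _ = (Pu⁻¹).1 * (t.1 - 1) * (P * (Pu⁻¹).1) * g.1 * P := by
              rw [h2, hinv2, Matrix.mul_one]; simp only [Matrix.mul_assoc]
          _ = (Pu⁻¹).1 * (t.1 - 1) * P * ((Pu⁻¹).1 * g.1 * P) := by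
              simp only [Matrix.mul_assoc]
      · intro h
        have h1 : (Pu⁻¹).1 * (g.1 * (t.1 - 1)) * P = (Pu⁻¹).1 * ((t.1 - 1) * g.1) * P := by
          calc (Pu⁻¹).1 * (g.1 * (t.1 - 1)) * P
              = (Pu⁻¹).1 * g.1 * (P * (Pu⁻¹).1) * (t.1 - 1) * P := by
                rw [hinv2, Matrix.mul_one]; simp only [Matrix.mul_assoc]
            _ = (Pu⁻¹).1 * g.1 * P * ((Pu⁻¹).1 * (t.1 - 1) * P) := by
                simp only [Matrix.mul_assoc]
            _ = (Pu⁻¹).1 * (t.1 - 1) * P * ((Pu⁻¹).1 * g.1 * P) := h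
            _ = (Pu⁻¹).1 * (t.1 - 1) * (P * (Pu⁻¹).1) * g.1 * P := by
                simp only [Matrix.mul_assoc]
            _ = (Pu⁻¹).1 * ((t.1 - 1) * g.1) * P := by
                rw [hinv2, Matrix.mul_one]; simp only [Matrix.mul_assoc]
        have h2 : g.1 * (t.1 - 1) = (t.1 - 1) * g.1 := by
          have h3 : P * ((Pu⁻¹).1 * (g.1 * (t.1 - 1)) * P) * (Pu⁻¹).1 =
              P * ((Pu⁻¹).1 * ((t.1 - 1) * g.1) * P) * (Pu⁻¹).1 := by rw [h1]
          have l : ∀ M : Matrix (Fin (m+2)) (Fin (m+2)) F,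
              P * ((Pu⁻¹).1 * M * P) * (Pu⁻¹).1 = M := by
            intro M
            calc P * ((Pu⁻¹).1 * M * P) * (Pu⁻¹).1
                = (P * (Pu⁻¹).1) * M * (P * (Pu⁻¹).1) := by simp only [Matrix.mul_assoc]
              _ = M := by rw [hinv2, Matrix.one_mul, Matrix.mul_one]
          rwa [l, l] at h3
        have h' : g.1 * t.1 = t.1 * g.1 := by
          rw [Matrix.mul_sub, Matrix.sub_mul, Matrix.mul_one, Matrix.one_mul] at h2
          exact sub_left_injective h2
        apply Units.ext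
        simpa using h')
  rw [Nat.card_congr e, card_cent hF]
  have h1 : 2 * (m + 2) - 3 = 2 * m + 1 := by omega
  rw [h1]
  rfl

end Cfsg.Agent.S2572
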