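import Cfsg.Statements.S0839
import Mathlib
import Cfsg.Agent.S2572

set_option autoImplicit false
open Cfsg

namespace Cfsg.Agent.S0839

/-- Every transvection t ∈ SL_(n+2)(F) (rank(t − 1) = 1, (t − 1)² = 0) is conjugate in SL_(n+2)(F) to 1 + v·e_0ᵀ for some column vector v with v_0 = 0 (the group A of matrices that are the identity except in the first column below the diagonal); the dimension is written n + 2 ≥ 2. -/
theorem result {F : Type*} [Field F] (n : ℕ) (t : Matrix.SpecialLinearGroup (Fin (n + 2)) F) (ht : Cfsg.IsTransvection (t : Matrix (Fin (n + 2)) (Fin (n + 2)) F)) : ∃ (g : Matrix.SpecialLinearGroup (Fin (n + 2)) F) (v : Fin (n + 2) → F), v 0 = 0 ∧ ((g⁻¹ * t * g : Matrix.SpecialLinearGroup (Fin (n + 2)) F) : Matrix (Fin (n + 2)) (Fin (n + 2)) F) = 1 + Matrix.vecMulVec v (Pi.single 0 1) := by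
  classical
  obtain ⟨hr, hN⟩ := ht
  obtain ⟨P, hP, hNP⟩ := Cfsg.Agent.S2572.conj_std_gl
    ((t : Matrix (Fin (n + 2)) (Fin (n + 2)) F) - 1) hr hN
  obtain ⟨d, hd⟩ : ∃ d, d = P.det := ⟨_, rfl⟩
  have hd0 : d ≠ 0 := by rw [hd]; exact hP.ne_zero
  let D : Matrix (Fin (n+2)) (Fin (n+2)) F := Matrix.diagonal (Function.update (fun _ => 1) 0 d⁻¹)
  have hDdet : D.det = d⁻¹ := by
    rw [Matrix.det_diagonal, Fin.prod_univ_succ]
    simp [Function.update]
  let g : Matrix.SpecialLinearGroup (Fin (n + 2)) F :=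
    ⟨P * D, by rw [Matrix.det_mul, hDdet, ← hd, mul_inv_cancel₀ hd0]⟩
  have h10 : (1 : Fin (n + 2)) ≠ 0 := by
    intro h; have := congrArg Fin.val h; simp at this
  refine ⟨g, d⁻¹ • Pi.single 1 1, by simp [h10], ?_⟩
  have hED : Matrix.single (1 : Fin (n + 2)) (0 : Fin (n + 2)) (1 : F) * D =
      D * Matrix.vecMulVec (d⁻¹ • Pi.single 1 1) (Pi.single 0 1) := by
    ext i j
    simp only [D, Matrix.mul_diagonal, Matrix.diagonal_mul, Matrix.vecMulVec_apply, Matrix.single_apply,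
      Pi.smul_apply, Pi.single_apply, smul_eq_mul]
    by_cases hi : i = 1
    · subst hi
      by_cases hj : j = 0
      · subst hj; simp [h10]
      · simp [hj, Ne.symm hj]
    · simp [hi, Ne.symm hi]
  have key : (t : Matrix (Fin (n + 2)) (Fin (n + 2)) F) * (g : Matrix (Fin (n + 2)) (Fin (n + 2)) F) =
      (g : Matrix (Fin (n + 2)) (Fin (n + 2)) F) *
        (1 + Matrix.vecMulVec (d⁻¹ • Pi.single 1 1) (Pi.single 0 1)) := by
    change (t : Matrix (Fin (n + 2)) (Fin (n + 2)) F) * (P * D) = (P * D) * _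
    have ht1 : (t : Matrix (Fin (n + 2)) (Fin (n + 2)) F) =
        1 + ((t : Matrix (Fin (n + 2)) (Fin (n + 2)) F) - 1) := by abel
    rw [ht1, add_mul, one_mul, ← Matrix.mul_assoc _ P D, hNP, Matrix.mul_assoc P _ D, hED, mul_add, mul_one,
      Matrix.mul_assoc]
  have h1 : ((g⁻¹ * t * g : Matrix.SpecialLinearGroup (Fin (n + 2)) F) :
      Matrix (Fin (n + 2)) (Fin (n + 2)) F) =
      ((g⁻¹ : Matrix.SpecialLinearGroup (Fin (n + 2)) F) : Matrix (Fin (n + 2)) (Fin (n + 2)) F) *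
        ((t : Matrix (Fin (n + 2)) (Fin (n + 2)) F) * (g : Matrix (Fin (n + 2)) (Fin (n + 2)) F)) := by
    simp [Matrix.SpecialLinearGroup.coe_mul, Matrix.mul_assoc]
  rw [h1, key, ← Matrix.mul_assoc, ← Matrix.SpecialLinearGroup.coe_mul, inv_mul_cancel,
    Matrix.SpecialLinearGroup.coe_one, one_mul]

end Cfsg.Agent.S0839
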