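import Cfsg.Statements.S0845
import Mathlib
import Cfsg.Agent.Lib.Helper2.QuatSylow7

set_option autoImplicit false
open Cfsg

namespace Cfsg.Agent.S0845

/-- Suppose a Sylow 2-subgroup S of the finite group G is generalized quaternion of order at least 16. Then G has a normal subgroup M of even order such that G / M is non-abelian, that is, M does not contain the commutator subgroup of G. -/
theorem result {G : Type*} [Group G] [Finite G] (S : Sylow 2 G) (n : ℕ) (e : (S : Subgroup G) ≃* QuaternionGroup (2 ^ (n + 2))) : ∃ M : Subgroup G, M.Normal ∧ Even (Nat.card M) ∧ ¬ commutator G ≤ M := by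
  classical
  open scoped commutatorElement in
  open Cfsg.Agent.Lib.Helper2.QuatSylow in
  haveI : NeZero (2 ^ (n + 2)) := ⟨by positivity⟩
  obtain ⟨α, β, h⟩ := exists_qdata (S : Subgroup G) (2 ^ (n + 2)) e
  have hmpos : 0 < 2 ^ (n + 2) := by positivity
  obtain ⟨M, hMn, htM, hα2M⟩ := exists_M S h ⟨n, rfl⟩
  refine ⟨M, hMn, ?_, ?_⟩
  · have ht := orderOf_t (S : Subgroup G) h hmpos
    have hdvd : orderOf (⟨α ^ (2 ^ (n + 2)), htM⟩ : M) ∣ Nat.card M := orderOf_dvd_natCard _
    have hord : orderOf (⟨α ^ (2 ^ (n + 2)), htM⟩ : M) = 2 := by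
      rw [← Subgroup.orderOf_coe]
      exact ht
    rw [hord] at hdvd
    exact even_iff_two_dvd.mpr hdvd
  · intro hle
    apply hα2M
    apply hle
    have h1 : ⁅α, β⁆ ∈ commutator G := by
      rw [commutator_def]
      exact Subgroup.commutator_mem_commutator (Subgroup.mem_top α) (Subgroup.mem_top β)
    have e1 : ⁅α, β⁆ = α * (β * α ^ (-1 : ℤ) * β⁻¹) := by
      rw [commutatorElement_def]; group
    rw [e1, h.conj_zpow'] at h1
    have e2 : α * α ^ (-(-1 : ℤ)) = α ^ 2 := by
      rw [neg_neg, zpow_one, pow_two]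
    rwa [e2] at h1

end Cfsg.Agent.S0845
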