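import Cfsg.Statements.S0846
import Mathlib
import Cfsg.Agent.Lib.Helper2.QuatSylow7

set_option autoImplicit false
open Cfsg

namespace Cfsg.Agent.S0846

/-- Suppose a Sylow 2-subgroup S of the finite group G is generalized quaternion of order at least 16. Then every Sylow 2-subgroup of the subgroup generated by the involutions of G is cyclic. -/
theorem result {G : Type*} [Group G] [Finite G] (S : Sylow 2 G) (n : ℕ) (e : (S : Subgroup G) ≃* QuaternionGroup (2 ^ (n + 2))) (Q : Sylow 2 ↥(Subgroup.closure {g : G | orderOf g = 2})) : IsCyclic Q := by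
  classical
  open Cfsg.Agent.Lib.Helper2.QuatSylow in
  haveI : NeZero (2 ^ (n + 2)) := ⟨by positivity⟩
  obtain ⟨α, β, h⟩ := exists_qdata (S : Subgroup G) (2 ^ (n + 2)) e
  have hmpos : 0 < 2 ^ (n + 2) := by positivity
  obtain ⟨M, hMn, htM, hα2M⟩ := exists_M S h ⟨n, rfl⟩
  have hTM : Subgroup.closure {g : G | orderOf g = 2} ≤ M := by
    rw [Subgroup.closure_le]
    intro u hu
    obtain ⟨g, hg⟩ := involution_conj S h hmpos hu
    have h1 : g⁻¹ * (g * u * g⁻¹) * g⁻¹⁻¹ ∈ M := hMn.conj_mem _ (by rw [hg]; exact htM) g⁻¹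
    have h2 : g⁻¹ * (g * u * g⁻¹) * g⁻¹⁻¹ = u := by group
    rw [h2] at h1
    exact h1
  have hQ2 : IsPGroup 2 ((Q : Subgroup _).map (Subgroup.closure {g : G | orderOf g = 2}).subtype) :=
    Q.isPGroup'.map _
  obtain ⟨g, hg⟩ := exists_conj_le S hQ2
  have hRle : (S : Subgroup G) ⊓ M ≤ Subgroup.zpowers α := by
    apply h.le_zpowers_of_normal inf_le_left
    · intro s hs
      apply Subgroup.mem_normalizer_fintype
      intro r hr
      have hr' : r ∈ (S : Subgroup G) ⊓ M := hr
      rw [Subgroup.mem_inf] at hr'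
      show s * r * s⁻¹ ∈ (S : Subgroup G) ⊓ M
      rw [Subgroup.mem_inf]
      exact ⟨Subgroup.mul_mem _ (Subgroup.mul_mem _ hs hr'.1) (Subgroup.inv_mem _ hs),
        hMn.conj_mem _ hr'.2 s⟩
    · intro hmem
      rw [Subgroup.mem_inf] at hmem
      exact hα2M hmem.2
  have hmemz : ∀ q : ↥(Q : Subgroup ↥(Subgroup.closure {g : G | orderOf g = 2})),
      ((MulAut.conj g).toMonoidHom.comp
        ((Subgroup.closure {g : G | orderOf g = 2}).subtype.comp
          (Q : Subgroup _).subtype)) q ∈ Subgroup.zpowers α := by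
    intro q
    apply hRle
    rw [Subgroup.mem_inf]
    constructor
    · apply hg
      exact ⟨q.1, q.2, rfl⟩
    · exact hMn.conj_mem _ (hTM q.1.2) g
  let φ := ((MulAut.conj g).toMonoidHom.comp
        ((Subgroup.closure {g : G | orderOf g = 2}).subtype.comp
          (Q : Subgroup _).subtype)).codRestrict (Subgroup.zpowers α) hmemz
  have hφ : Function.Injective φ := by
    intro x y hxy
    have h1 : g * ((x : ↥(Subgroup.closure {g : G | orderOf g = 2})) : G) * g⁻¹
        = g * ((y : ↥(Subgroup.closure {g : G | orderOf g = 2})) : G) * g⁻¹ :=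
      congrArg Subtype.val hxy
    have h2 : ((x : ↥(Subgroup.closure {g : G | orderOf g = 2})) : G)
        = ((y : ↥(Subgroup.closure {g : G | orderOf g = 2})) : G) :=
      mul_left_cancel (mul_right_cancel h1)
    exact Subtype.ext (Subtype.ext h2)
  exact isCyclic_of_injective φ hφ

end Cfsg.Agent.S0846
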