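import Cfsg.Statements.S0849
import Mathlib
import Cfsg.Agent.Lib.Helper1.IndFun

set_option autoImplicit false
open Cfsg

namespace Cfsg.Agent.S0849

open Cfsg.Agent.Lib.Helper1 in
theorem sum_eq_sum_subgroup {G : Type*} [Group G] [Fintype G] (H : Subgroup G) [Fintype H] (g : G → ℂ)
    (hg : ∀ x, x ∉ H → g x = 0) : ∑ x : G, g x = ∑ x : H, g x := by
  classical
  have h1 := sum_extendByZero H (fun x : H => g x)
  rw [← h1]
  refine Finset.sum_congr rfl fun x _ => ?_
  by_cases hx : x ∈ H
  · rw [extendByZero_of_mem H _ hx]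
  · rw [extendByZero_of_notMem H _ hx, hg x hx]

theorem finsum_mem_eq_sum_ite {α : Type*} [Fintype α] (P : Set α) [DecidablePred (· ∈ P)] (f : α → ℂ) :
    ∑ᶠ a ∈ P, f a = ∑ a : α, if a ∈ P then f a else 0 := by
  rw [finsum_mem_def, finsum_eq_sum_of_fintype]
  refine Finset.sum_congr rfl fun a _ => ?_
  rw [Set.indicator_apply]

theorem sq_eq_one_of_isConj {G : Type*} [Group G] {u x : G} (hu : orderOf u = 2) (hx : IsConj u x) :
    x * x = 1 := by
  obtain ⟨c, hc⟩ := isConj_iff.mp hx
  have h2 : u * u = 1 := by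
    have := pow_orderOf_eq_one u
    rw [hu, pow_two] at this
    exact this
  rw [← hc]
  calc c * u * c⁻¹ * (c * u * c⁻¹) = c * (u * u) * c⁻¹ := by group
    _ = 1 := by rw [h2]; group

/-- Let H be a subgroup of a finite group G and S a subset of H that is mapped to itself under conjugation by H, is disjoint from its conjugate by any element outside H, and is closed under inverses. Let φ be a class function of H vanishing on H away from S, and let u, v be involutions of G. Then the sum of the induced function of φ over all products a * b with a conjugate to u and b conjugate to v equals the index of H times the sum of φ (a * b) over such pairs with a and b in H. -/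
theorem result {G : Type*} [Group G] [Fintype G] (H : Subgroup G) (S : Set G) (hSH : S ⊆ H) (hHS : ∀ h ∈ H, ∀ s ∈ S, h * s * h⁻¹ ∈ S) (hTI : ∀ g : G, g ∉ H → ∀ s ∈ S, g * s * g⁻¹ ∉ S) (hinv : ∀ s ∈ S, s⁻¹ ∈ S) (φ : H → ℂ) (hφ : Cfsg.IsClassFunction H φ) (hφS : ∀ x : H, (x : G) ∉ S → φ x = 0) (u v : G) (hu : orderOf u = 2) (hv : orderOf v = 2) : ∑ᶠ p ∈ {p : G × G | IsConj u p.1 ∧ IsConj v p.2}, Cfsg.indFun H φ (p.1 * p.2) = (H.index : ℂ) * ∑ᶠ p ∈ {p : H × H | IsConj u (p.1 : G) ∧ IsConj v (p.2 : G)}, φ (p.1 * p.2) := by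
  classical
  haveI : Fintype H := Fintype.ofFinite H
  rw [finsum_mem_eq_sum_ite, finsum_mem_eq_sum_ite]
  -- the key local sum
  set F : G × G → ℂ := fun p => if (IsConj u p.1 ∧ IsConj v p.2) then
    Cfsg.extendByZero H φ (p.1 * p.2) else 0 with hF
  -- Step 1: LHS = (|G|/|H|) * Σ F
  have hstep1 : ∀ p : G × G, (if p ∈ {p : G × G | IsConj u p.1 ∧ IsConj v p.2} then
      Cfsg.indFun H φ (p.1 * p.2) else 0) =
      (Nat.card H : ℂ)⁻¹ * ∑ t : G, F (t⁻¹ * p.1 * t, t⁻¹ * p.2 * t) := by
    intro p
    by_cases hp : IsConj u p.1 ∧ IsConj v p.2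
    · rw [if_pos (by exact hp), Cfsg.Agent.Lib.Helper1.indFun_apply]
      congr 1
      refine Finset.sum_congr rfl fun t _ => ?_
      have h1 : IsConj u (t⁻¹ * p.1 * t) := by
        refine hp.1.trans ?_
        rw [isConj_iff]
        exact ⟨t⁻¹, by group⟩
      have h2 : IsConj v (t⁻¹ * p.2 * t) := by
        refine hp.2.trans ?_
        rw [isConj_iff]
        exact ⟨t⁻¹, by group⟩
      simp only [hF]
      rw [if_pos ⟨h1, h2⟩]
      congr 1
      group
    · rw [if_neg (by exact hp)]
      have : ∀ t : G, F (t⁻¹ * p.1 * t, t⁻¹ * p.2 * t) = 0 := by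
        intro t
        simp only [hF]
        rw [if_neg]
        rintro ⟨h1, h2⟩
        apply hp
        refine ⟨h1.trans ?_, h2.trans ?_⟩
        · rw [isConj_iff]
          exact ⟨t, by group⟩
        · rw [isConj_iff]
          exact ⟨t, by group⟩
      simp [this]
  rw [Finset.sum_congr rfl (fun p _ => hstep1 p), ← Finset.mul_sum, Finset.sum_comm]
  have hre : ∀ t : G, ∑ p : G × G, F (t⁻¹ * p.1 * t, t⁻¹ * p.2 * t) = ∑ p : G × G, F p := by
    intro t
    let e : G × G ≃ G × G :=
      { toFun := fun p => (t⁻¹ * p.1 * t, t⁻¹ * p.2 * t)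
        invFun := fun p => (t * p.1 * t⁻¹, t * p.2 * t⁻¹)
        left_inv := by intro p; ext <;> simp [mul_assoc]
        right_inv := by intro p; ext <;> simp [mul_assoc] }
    exact Equiv.sum_comp e F
  rw [Finset.sum_congr rfl (fun t _ => hre t), Finset.sum_const, Finset.card_univ, nsmul_eq_mul]
  -- Step 2: Σ F = Σ over H × H
  have hFH : ∀ x y : G, F (x, y) ≠ 0 → x ∈ H ∧ y ∈ H := by
    intro x y hne
    simp only [hF] at hne
    by_cases hp : IsConj u x ∧ IsConj v y
    · rw [if_pos hp] at hne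
      have hsH : x * y ∈ H := by
        by_contra hn
        exact hne (Cfsg.Agent.Lib.Helper1.extendByZero_of_notMem H φ hn)
      rw [Cfsg.Agent.Lib.Helper1.extendByZero_of_mem H φ hsH] at hne
      have hsS : x * y ∈ S := by
        by_contra hn
        exact hne (hφS ⟨x * y, hsH⟩ hn)
      have hx2 := sq_eq_one_of_isConj hu hp.1
      have hy2 := sq_eq_one_of_isConj hv hp.2
      have hxinv : x⁻¹ = x := inv_eq_of_mul_eq_one_left hx2
      have hyinv : y⁻¹ = y := inv_eq_of_mul_eq_one_left hy2
      have hxH : x ∈ H := by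
        by_contra hn
        apply hTI x hn (x * y) hsS
        have : x * (x * y) * x⁻¹ = (x * y)⁻¹ := by
          rw [mul_inv_rev, hxinv, hyinv, ← mul_assoc, hx2, one_mul]
        rw [this]
        exact hinv _ hsS
      refine ⟨hxH, ?_⟩
      have : y = x⁻¹ * (x * y) := by group
      rw [this]
      exact H.mul_mem (H.inv_mem hxH) hsH
    · rw [if_neg hp] at hne
      exact absurd rfl hne
  have hsum : ∑ p : G × G, F p = ∑ q : H × H, (if q ∈ {p : H × H | IsConj u (p.1 : G) ∧ IsConj v (p.2 : G)}
      then φ (q.1 * q.2) else 0) := by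
    rw [Fintype.sum_prod_type, Fintype.sum_prod_type]
    rw [sum_eq_sum_subgroup H (fun x => ∑ y : G, F (x, y))]
    · refine Finset.sum_congr rfl fun x _ => ?_
      rw [sum_eq_sum_subgroup H (fun y => F ((x : G), y))]
      · refine Finset.sum_congr rfl fun y _ => ?_
        simp only [hF, Set.mem_setOf_eq]
        by_cases hp : IsConj u (x : G) ∧ IsConj v (y : G)
        · rw [if_pos hp, if_pos hp]
          have : (x : G) * (y : G) = ((x * y : H) : G) := rfl
          rw [this, Cfsg.Agent.Lib.Helper1.extendByZero_coe]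
        · rw [if_neg hp, if_neg hp]
      · intro y hy
        by_contra hne
        exact hy (hFH _ _ hne).2
    · intro x hx
      refine Finset.sum_eq_zero fun y _ => ?_
      by_contra hne
      exact hx (hFH _ _ hne).1
  rw [hsum]
  have hidx : (Nat.card H : ℂ)⁻¹ * ((Fintype.card G : ℕ) : ℂ) = (H.index : ℂ) := by
    have h1 := H.card_mul_index
    have hH0 : (Nat.card H : ℂ) ≠ 0 := by
      exact_mod_cast (Nat.card_pos (α := H)).ne'
    rw [← Nat.card_eq_fintype_card, ← h1]
    push_cast
    field_simp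
  rw [← mul_assoc, hidx]

end Cfsg.Agent.S0849
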