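import Cfsg.Statements.S0859
import Mathlib
import Mathlib
import Cfsg.Agent.Lib.Helper2.RelMAbelian

set_option autoImplicit false
open Cfsg

namespace Cfsg.Agent.S0859

/-- Let G be a finite solvable group and N a normal subgroup such that for every prime p every Sylow p-subgroup of N is abelian. Suppose every irreducible character of G is induced from an irreducible character of some subgroup containing N whose restriction to N is irreducible. Then every irreducible character of G is induced from a character of degree 1 of some subgroup. -/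
theorem result {G : Type*} [Group G] [Fintype G] [Group.IsSolvable G] (N : Subgroup G) [N.Normal] (hab : ∀ (p : ℕ) [Fact p.Prime] (P : Sylow p N), ∀ a ∈ P, ∀ b ∈ P, a * b = b * a) (hrel : ∀ χ : G → ℂ, Cfsg.IsIrrCharacter G χ → ∃ (H : Subgroup G) (hNH : N ≤ H) (ψ : H → ℂ), Cfsg.IsIrrCharacter H ψ ∧ Cfsg.indFun H ψ = χ ∧ Cfsg.IsIrrCharacter N (fun n : N => ψ ⟨(n : G), hNH n.2⟩)) (χ : G → ℂ) (hχ : Cfsg.IsIrrCharacter G χ) : ∃ (U : Subgroup G) (lam : U → ℂ), Cfsg.IsCharacter U lam ∧ lam 1 = 1 ∧ Cfsg.indFun U lam = χ := by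
  classical
  obtain ⟨H, hNH, ψ, hψ, hind, hψN⟩ := hrel χ hχ
  haveI : Fintype H := Fintype.ofFinite H
  let e : N.subgroupOf H ≃* N := Subgroup.subgroupOfEquivOfLe hNH
  have hψN' : Cfsg.IsIrrCharacter (N.subgroupOf H) (fun d : N.subgroupOf H => ψ d) := by
    have := Cfsg.Agent.Lib.Helper1.isIrrCharacter_comp_mulEquiv hψN e
    exact this
  obtain ⟨S, μ, hμ⟩ := Cfsg.Agent.Lib.Helper2.RelMAbelian.main_aux (Nat.card H) H (N.subgroupOf H) rfl
    (fun p _ P => Cfsg.Agent.Lib.Helper2.RelMAbelian.hab_subgroupOf N H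
      (fun q _ Q => hab q Q) p P) ψ hψ hψN'
  have hmem : ∀ y : S.map H.subtype,
      (Subgroup.inclusion (Subgroup.map_subtype_le S) y : H) ∈ S := by
    intro y
    exact (Cfsg.Agent.S0176.mem_of_mem_map_subtype y.2).2
  let lam : S.map H.subtype →* ℂˣ :=
    μ.comp ((Subgroup.inclusion (Subgroup.map_subtype_le S)).codRestrict S hmem)
  refine ⟨S.map H.subtype, fun y => ((lam y : ℂˣ) : ℂ), ?_, ?_, ?_⟩
  · exact Cfsg.Agent.Lib.Helper4.isCharacter_of_irr
      (Cfsg.Agent.Lib.Helper1.isIrrCharacter_of_hom lam)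
  · show ((lam 1 : ℂˣ) : ℂ) = 1
    rw [map_one, Units.val_one]
  · rw [← hind, hμ, Cfsg.Agent.S0176.indFun_trans_map H S (fun s => (μ s : ℂ))]
    rfl

end Cfsg.Agent.S0859
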