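import Cfsg.Statements.S0860
import Mathlib
import Cfsg.Agent.Lib.Helper1.CharFound8

set_option autoImplicit false
open Cfsg

namespace Cfsg.Agent.S0860

/-- Let a group A act on the set of irreducible characters and on the set of conjugacy classes of a finite group G in such a way that (a • χ) evaluated on the class a • C equals χ evaluated on C, for all a, χ and C. Then every element of A fixes exactly as many irreducible characters as it fixes conjugacy classes. -/
theorem result {G : Type*} [Group G] [Finite G] {A : Type*} [Group A] [MulAction A (Cfsg.IrrCharacter G)] [MulAction A (ConjClasses G)] (hcompat : ∀ (a : A) (χ : Cfsg.IrrCharacter G) (g g' : G), ConjClasses.mk g' = a • ConjClasses.mk g → ((a • χ : Cfsg.IrrCharacter G) : G → ℂ) g' = (χ : G → ℂ) g) (a : A) : Nat.card {χ : Cfsg.IrrCharacter G // a • χ = χ} = Nat.card {C : ConjClasses G // a • C = C} := by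
  classical
  haveI : Fintype G := Fintype.ofFinite G
  haveI : Fintype (Cfsg.IrrCharacter G) := Fintype.ofFinite _
  haveI : Fintype (ConjClasses G) := Fintype.ofFinite _
  let β : G → G := fun g => Quotient.out (a⁻¹ • ConjClasses.mk g)
  have hmkβ : ∀ g : G, ConjClasses.mk (β g) = a⁻¹ • ConjClasses.mk g := fun g => Quotient.out_eq _
  have hβeq : ∀ χ : Cfsg.IrrCharacter G, (fun g => (χ : G → ℂ) (β g)) = ((a • χ : Cfsg.IrrCharacter G) : G → ℂ) := by
    intro χ
    funext g
    refine (hcompat a χ (β g) g ?_).symm
    rw [hmkβ, smul_inv_smul]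
  have key := Cfsg.Agent.Lib.Helper1.brauer_perm_generic (G := G) β
    (fun χ hχ => by
      have := hβeq ⟨χ, hχ⟩
      simp only at this
      rw [this]
      exact (a • (⟨χ, hχ⟩ : Cfsg.IrrCharacter G)).2)
  have key' : (Finset.univ.filter (fun χ : Cfsg.IrrCharacter G =>
        (fun g => (χ : G → ℂ) (β g)) = (χ : G → ℂ))).card
      = (Finset.univ.filter (fun c : ConjClasses G =>
        IsConj (β (Quotient.out c)) (Quotient.out c))).card := by
    exact_mod_cast key
  rw [Nat.subtype_card (Finset.univ.filter (fun c : ConjClasses G =>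
        IsConj (β (Quotient.out c)) (Quotient.out c))), ← key']
  · apply Nat.subtype_card
    intro χ
    simp only [Finset.mem_filter, Finset.mem_univ, true_and]
    rw [hβeq χ]
    exact ⟨fun h => Subtype.ext h, fun h => congrArg Subtype.val h⟩
  · intro c
    simp only [Finset.mem_filter, Finset.mem_univ, true_and]
    have h1 : ConjClasses.mk (Quotient.out c) = c := Quotient.out_eq c
    rw [← ConjClasses.mk_eq_mk_iff_isConj, hmkβ, h1]
    constructor
    · intro h
      exact (inv_smul_eq_iff.1 h).symm
    · intro h
      rw [inv_smul_eq_iff, h]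

end Cfsg.Agent.S0860
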