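import Cfsg.Statements.S0861
import Mathlib
import Cfsg.Agent.S0145
import Cfsg.Agent.S0169
import Cfsg.Agent.S0187
import Cfsg.Agent.Lib.Helper2.PVanish
import Cfsg.Agent.Lib.Helper8.GaloisAvg
import Cfsg.Agent.Lib.Helper8.Deflation
import Cfsg.Agent.Lib.Helper4.Characters

set_option autoImplicit false
open Cfsg

namespace Cfsg.Agent.S0861

theorem centralizer_pow_eq {G : Type*} [Group G] [Finite G] (g : G) (k : ℕ)
    (hk : k.Coprime (Nat.card G)) :
    Subgroup.centralizer ({g ^ k} : Set G) = Subgroup.centralizer ({g} : Set G) := by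
  have hko : k.Coprime (orderOf g) := hk.coprime_dvd_right (orderOf_dvd_natCard g)
  obtain ⟨j, hj⟩ := exists_pow_eq_self_of_coprime hko
  apply le_antisymm
  · intro x hx
    rw [Subgroup.mem_centralizer_singleton_iff] at hx ⊢
    rw [← hj]
    exact (Commute.pow_right (show Commute x (g ^ k) from hx) j).eq
  · intro x hx
    rw [Subgroup.mem_centralizer_singleton_iff] at hx ⊢
    exact (Commute.pow_right (show Commute x g from hx) k).eq

/-- Let P be a normal abelian Sylow p-subgroup of the finite group G and suppose some element g of P has centralizer exactly P. Then the number of irreducible characters of G is at most the order of P, and if equality holds then G / P is abelian (the commutator subgroup lies in P). -/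
theorem result {G : Type*} [Group G] [Finite G] (p : ℕ) [Fact p.Prime] (P : Sylow p G) [(P : Subgroup G).Normal] (hab : ∀ a ∈ P, ∀ b ∈ P, a * b = b * a) (g : G) (hg : g ∈ P) (hC : Subgroup.centralizer ({g} : Set G) = P) : Nat.card (Cfsg.IrrCharacter G) ≤ Nat.card P ∧ (Nat.card (Cfsg.IrrCharacter G) = Nat.card P → commutator G ≤ P) := by
  classical
  haveI : Fintype G := Fintype.ofFinite G
  haveI : Fintype (Cfsg.IrrCharacter G) := Fintype.ofFinite _
  have hp := (Fact.out : p.Prime)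
  -- Step 1: irreducible characters do not vanish on P
  have hnz : ∀ χ : Cfsg.IrrCharacter G, ∀ x ∈ (P : Subgroup G), (χ : G → ℂ) x ≠ 0 := by
    intro χ x hx h0
    obtain ⟨m, ρ, hρ, hχ⟩ := χ.2
    haveI := hρ
    have hdvd := Cfsg.Agent.S0169.result ρ (P : Subgroup G) hab
    rw [Module.finrank_fin_fun] at hdvd
    obtain ⟨a, ha⟩ := P.2 ⟨x, hx⟩
    have ha' : x ^ (p ^ a) = 1 := by simpa using congrArg Subtype.val ha
    have hd : (χ : G → ℂ) 1 = m := by
      rw [← hχ, Representation.char_one, Module.finrank_fin_fun]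
    have := Cfsg.Agent.Lib.Helper2.PVanish.dvd_degree_of_apply_eq_zero
      (Cfsg.Agent.Lib.Helper4.isCharacter_of_irr χ.2) x a ha' h0 hd
    exact P.not_dvd_index (this.trans hdvd)
  obtain ⟨Γ, _, hne, k, hk, hkey⟩ := Cfsg.Agent.Lib.Helper8.exists_galois_family G
  have hm : (0 : ℝ) < Fintype.card Γ := by exact_mod_cast Fintype.card_pos
  -- column orthogonality at the powers of g
  have hcol : ∀ σ : Γ, ∑ χ : Cfsg.IrrCharacter G, ‖(χ : G → ℂ) (g ^ k σ)‖ ^ 2
      = (Nat.card (P : Subgroup G) : ℝ) := by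
    intro σ
    have h1 := (Cfsg.Agent.S0145.result (g ^ k σ) (g ^ k σ)).1 (IsConj.refl _)
    rw [finsum_eq_sum_of_fintype, centralizer_pow_eq g (k σ) (hk σ), hC] at h1
    apply Complex.ofReal_injective
    rw [Complex.ofReal_sum, Complex.ofReal_natCast, ← h1]
    refine Finset.sum_congr rfl fun χ _ => ?_
    rw [Complex.mul_conj, Complex.normSq_eq_norm_sq]
  have htotal : ∑ χ : Cfsg.IrrCharacter G, ∑ σ : Γ, ‖(χ : G → ℂ) (g ^ k σ)‖ ^ 2
      = (Fintype.card Γ : ℝ) * (Nat.card (P : Subgroup G) : ℝ) := by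
    rw [Finset.sum_comm, Finset.sum_congr rfl fun σ _ => hcol σ, Finset.sum_const,
      Finset.card_univ, nsmul_eq_mul]
  have hge : ∀ χ : Cfsg.IrrCharacter G,
      (Fintype.card Γ : ℝ) ≤ ∑ σ : Γ, ‖(χ : G → ℂ) (g ^ k σ)‖ ^ 2 := fun χ =>
    hkey χ (Cfsg.Agent.Lib.Helper4.isCharacter_of_irr χ.2) g (hnz χ g hg)
  have hsumge : (Fintype.card (Cfsg.IrrCharacter G) : ℝ) * (Fintype.card Γ : ℝ)
      ≤ ∑ χ : Cfsg.IrrCharacter G, ∑ σ : Γ, ‖(χ : G → ℂ) (g ^ k σ)‖ ^ 2 := by
    rw [← Finset.card_univ, ← nsmul_eq_mul, ← Finset.sum_const]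
    exact Finset.sum_le_sum fun χ _ => hge χ
  rw [htotal] at hsumge
  have hle : (Fintype.card (Cfsg.IrrCharacter G) : ℝ) ≤ (Nat.card (P : Subgroup G) : ℝ) := by
    rw [mul_comm] at hsumge
    exact le_of_mul_le_mul_left hsumge hm
  rw [Nat.card_eq_fintype_card (α := Cfsg.IrrCharacter G)]
  refine ⟨by exact_mod_cast hle, fun heq => ?_⟩
  have heach : ∀ χ : Cfsg.IrrCharacter G,
      (Fintype.card Γ : ℝ) = ∑ σ : Γ, ‖(χ : G → ℂ) (g ^ k σ)‖ ^ 2 := by
    have h1 : ∑ χ : Cfsg.IrrCharacter G, (Fintype.card Γ : ℝ)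
        = ∑ χ : Cfsg.IrrCharacter G, ∑ σ : Γ, ‖(χ : G → ℂ) (g ^ k σ)‖ ^ 2 := by
      rw [htotal, Finset.sum_const, Finset.card_univ, nsmul_eq_mul, heq, mul_comm]
    intro χ
    exact (Finset.sum_eq_sum_iff_of_le (fun χ _ => hge χ)).1 h1 χ (Finset.mem_univ _)
  have hlinear : ∀ ψ : Cfsg.IrrCharacter (G ⧸ (P : Subgroup G)),
      (ψ : G ⧸ (P : Subgroup G) → ℂ) 1 = 1 := by
    intro ψ
    have hinf := Cfsg.Agent.Lib.Helper8.isIrrCharacter_inflation (P : Subgroup G) ψ.2
    have h2 := heach ⟨_, hinf⟩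
    simp only at h2
    have h3 : ∀ σ : Γ, ((QuotientGroup.mk (g ^ k σ) : G ⧸ (P : Subgroup G))) = 1 := by
      intro σ
      rw [QuotientGroup.eq_one_iff]
      exact Subgroup.pow_mem _ hg _
    simp only [h3] at h2
    rw [Finset.sum_const, Finset.card_univ, nsmul_eq_mul] at h2
    obtain ⟨d, hd0, hd⟩ := Cfsg.Agent.Lib.Helper4.irr_apply_one_pos ψ.2
    rw [hd] at h2 ⊢
    have h4 : ‖(d : ℂ)‖ ^ 2 = 1 := by
      have : (Fintype.card Γ : ℝ) * 1 = (Fintype.card Γ : ℝ) * ‖(d : ℂ)‖ ^ 2 := by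
        rw [mul_one]; exact h2
      exact (mul_left_cancel₀ hm.ne' this).symm
    rw [Complex.norm_natCast] at h4
    have h5 : d ^ 2 = 1 := by exact_mod_cast h4
    have h6 : d = 1 := by
      rcases Nat.pow_eq_one.1 h5 with h | h
      · exact h
      · omega
    rw [h6]; simp
  have hcomm := (Cfsg.Agent.S0187.result (G := G ⧸ (P : Subgroup G))).2 hlinear
  rw [commutator_def, Subgroup.commutator_le]
  intro a _ b _
  rw [← QuotientGroup.eq_one_iff, commutatorElement_def]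
  simp only [QuotientGroup.mk_mul, QuotientGroup.mk_inv]
  rw [hcomm (a : G ⧸ (P : Subgroup G)) b]
  group

end Cfsg.Agent.S0861
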