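import Cfsg.Statements.S0863
import Mathlib
import Cfsg.Agent.Lib.Helper2.DetChar
import Cfsg.Agent.Lib.Helper2.Schmidt2
import Cfsg.Agent.Lib.Helper1.CharFound7
import Cfsg.Agent.S0862
import Cfsg.Agent.S0886

set_option autoImplicit false
open Cfsg

namespace Cfsg.Agent.S0863

open Cfsg.Agent.Lib.Helper2.LinExt Cfsg.Agent.Lib.Helper2.DetChar Cfsg.Agent.Lib.Helper4
  Cfsg.Agent.Lib.Helper1

universe u

theorem ext_aux : ∀ (k : ℕ) (G : Type u) [Group G] [Finite G], Nat.card G = k →
    ∀ (N : Subgroup G) (hN : N.Normal), Group.IsSolvable (G ⧸ N) →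
    ∀ (ϑ : N → ℂ), Cfsg.IsIrrCharacter N ϑ →
    (∀ (g : G) (n : N), ϑ ⟨g * n * g⁻¹, hN.conj_mem (n : G) n.2 g⟩ = ϑ n) →
    ∀ d : ℕ, ϑ 1 = d → Nat.Coprime N.index d →
    (∃ μ' : G →* ℂˣ, ∀ n : N, ((μ' n : ℂˣ) : ℂ) = Cfsg.detChar ϑ n) →
    ∃ χ : G → ℂ, Cfsg.IsIrrCharacter G χ ∧ ∀ n : N, χ n = ϑ n := by
  intro k
  induction k using Nat.strong_induction_on with
  | _ k ih =>
  intro G _ _ hcard N hN hsolv ϑ hϑ hinv d hd hcop hμ
  obtain ⟨μ', hμ'⟩ := hμ
  haveI := hN
  by_cases hNtop : N = ⊤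
  · subst hNtop
    refine ⟨fun g => ϑ (Subgroup.topEquiv.symm g),
      isIrrCharacter_comp_mulEquiv hϑ Subgroup.topEquiv.symm, fun n => ?_⟩
    congr 1
  · haveI : Nontrivial (G ⧸ N) := by
      by_contra hnt
      rw [not_nontrivial_iff_subsingleton] at hnt
      apply hNtop
      rw [eq_top_iff]
      intro g _
      rw [← QuotientGroup.eq_one_iff]
      exact Subsingleton.elim _ _
    obtain ⟨Mq, hMqn, hMqp⟩ := Cfsg.Agent.Lib.Helper2.Schmidt.exists_normal_prime_index (G := G ⧸ N)
    set M : Subgroup G := Mq.comap (QuotientGroup.mk' N) with hM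
    haveI hMn : M.Normal := hMqn.comap _
    have hNM : N ≤ M := by
      intro n hn
      rw [hM, Subgroup.mem_comap, QuotientGroup.mk'_apply, (QuotientGroup.eq_one_iff n).2 hn]
      exact Subgroup.one_mem _
    have hMidx : M.index = Mq.index :=
      Subgroup.index_comap_of_surjective Mq (QuotientGroup.mk'_surjective N)
    have hMp : M.index.Prime := hMidx ▸ hMqp
    have hlt : Nat.card M < k := by
      rw [← hcard, ← Subgroup.card_mul_index M]
      exact lt_mul_of_one_lt_right Nat.card_pos hMp.one_lt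
    set N' : Subgroup M := N.subgroupOf M with hN'
    haveI hN'n : N'.Normal := Subgroup.normal_subgroupOf
    let e : N' ≃* N := Subgroup.subgroupOfEquivOfLe hNM
    have he : ∀ x : N', ((e x : N) : G) = ((x : M) : G) := fun x => rfl
    set ϑ' : N' → ℂ := fun x => ϑ (e x) with hϑ'def
    have hϑ' : Cfsg.IsIrrCharacter N' ϑ' := isIrrCharacter_comp_mulEquiv hϑ e
    have hinv' : ∀ (g : M) (n : N'),
        ϑ' ⟨g * n * g⁻¹, hN'n.conj_mem (n : M) n.2 g⟩ = ϑ' n := by
      intro g n
      have h1 := hinv (g : G) (e n)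
      simp only [hϑ'def]
      rw [← h1]
      exact congrArg ϑ (Subtype.ext rfl)
    have hd' : ϑ' 1 = d := by
      simp only [hϑ'def]
      rw [map_one, hd]
    have hcop' : Nat.Coprime N'.index d := by
      have h1 : N'.index ∣ N.index := Subgroup.relIndex_dvd_index_of_normal N M
      exact Nat.Coprime.coprime_dvd_left h1 hcop
    have hsolvM : Group.IsSolvable (M ⧸ N') := by
      let f : M ⧸ N' →* G ⧸ N := QuotientGroup.map N' N M.subtype (fun x hx => hx)
      refine solvable_of_solvable_injective (f := f) ?_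
      rw [injective_iff_map_eq_one]
      intro a ha
      induction a using QuotientGroup.induction_on with
      | H x =>
        rw [QuotientGroup.eq_one_iff]
        have h2 : f (QuotientGroup.mk x) = QuotientGroup.mk (x : G) := rfl
        rw [h2, QuotientGroup.eq_one_iff] at ha
        exact ha
    let μ'' : M →* ℂˣ := μ'.comp M.subtype
    have hϑc : Cfsg.IsCharacter N ϑ := isCharacter_of_irr hϑ
    have hdetϑ' : Cfsg.detChar ϑ' = fun x : N' => Cfsg.detChar ϑ (e x) :=
      detChar_comp_hom e.toMonoidHom hϑc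
    have hμ'' : ∀ n : N', ((μ'' n : ℂˣ) : ℂ) = Cfsg.detChar ϑ' n := by
      intro n
      rw [hdetϑ']
      exact hμ' (e n)
    obtain ⟨η', hη'irr, hη'N⟩ := ih (Nat.card M) hlt M rfl N' hN'n hsolvM ϑ' hϑ' hinv' d hd' hcop'
      ⟨μ'', hμ''⟩
    obtain ⟨η, ⟨hηirr, hηN, hηdet⟩, hηuniq⟩ := Cfsg.Agent.S0862.result N' ϑ' hϑ' d hd' hcop'
      ⟨η', hη'irr, hη'N⟩ (coeHom M μ'') (isLinear_coeHom μ'') (fun n => by
        rw [coeHom_apply]; exact hμ'' n)
    -- invariance of η
    have hηinv : ∀ (g : G) (x : M), η ⟨g * x * g⁻¹, hMn.conj_mem (x : G) x.2 g⟩ = η x := by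
      intro g x
      let c : M ≃* M := MulAut.conjNormal g
      have hc : ∀ y : M, ((c y : M) : G) = g * y * g⁻¹ := fun y => MulAut.conjNormal_apply g y
      let ηg : M → ℂ := fun y => η (c y)
      have h1 : ηg = η := by
        apply hηuniq
        refine ⟨isIrrCharacter_comp_mulEquiv hηirr c, fun n => ?_, ?_⟩
        · have hmem : c (n : M) ∈ N' := by
            apply Subgroup.mem_subgroupOf.2
            rw [hc]
            exact hN.conj_mem _ (Subgroup.mem_subgroupOf.1 n.2) g
          have h2 := hηN ⟨c (n : M), hmem⟩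
          show η (c (n : M)) = ϑ' n
          rw [h2]
          simp only [hϑ'def]
          rw [← hinv g (e n)]
          refine congrArg ϑ (Subtype.ext ?_)
          show ((c (n : M) : M) : G) = g * ((n : M) : G) * g⁻¹
          exact hc _
        · have h3 := detChar_comp_hom c.toMonoidHom (isCharacter_of_irr hηirr)
          have h4 : (fun h : M => η (c.toMonoidHom h)) = ηg := rfl
          rw [h4] at h3
          rw [h3, hηdet]
          funext y
          rw [coeHom_apply, coeHom_apply]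
          congr 1
          show μ' ((c y : M) : G) = μ' (y : G)
          rw [hc, map_mul, map_mul, map_inv, mul_comm, inv_mul_cancel_left]
      have h5 := congrFun h1 x
      rw [← h5]
      exact congrArg η (Subtype.ext (hc x).symm)
    haveI : Fact M.index.Prime := ⟨hMp⟩
    have hcyc : IsCyclic (G ⧸ M) :=
      isCyclic_of_prime_card (p := M.index) (Subgroup.index_eq_card M).symm
    obtain ⟨χ, hχirr, hχM⟩ := Cfsg.Agent.S0886.result M hcyc η hηirr hηinv
    refine ⟨χ, hχirr, fun n => ?_⟩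
    have h6 := hχM ⟨(n : G), hNM n.2⟩
    have h7 := hηN ⟨⟨(n : G), hNM n.2⟩, Subgroup.mem_subgroupOf.2 n.2⟩
    rw [show χ (n : G) = χ ((⟨(n : G), hNM n.2⟩ : M) : G) from rfl, h6, h7]
    simp only [hϑ'def]
    exact congrArg ϑ (Subtype.ext rfl)

/-- Let N be a normal subgroup of the finite group G with G / N solvable, and ϑ an irreducible character of N, invariant under conjugation by G, of degree d coprime to the index of N. Then ϑ is the restriction of an irreducible character of G if and only if the determinantal character of ϑ is the restriction of a character of G of degree 1. -/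
theorem result {G : Type*} [Group G] [Finite G] (N : Subgroup G) [hN : N.Normal] (hsolv : Group.IsSolvable (G ⧸ N)) (ϑ : N → ℂ) (hϑ : Cfsg.IsIrrCharacter N ϑ) (hinv : ∀ (g : G) (n : N), ϑ ⟨g * n * g⁻¹, hN.conj_mem (n : G) n.2 g⟩ = ϑ n) (d : ℕ) (hd : ϑ 1 = d) (hcop : Nat.Coprime N.index d) : (∃ χ : G → ℂ, Cfsg.IsIrrCharacter G χ ∧ (∀ n : N, χ n = ϑ n)) ↔ ∃ μ : G → ℂ, Cfsg.IsCharacter G μ ∧ μ 1 = 1 ∧ ∀ n : N, μ n = Cfsg.detChar ϑ n := by
  constructor
  · rintro ⟨χ, hχ, hχN⟩
    obtain ⟨δ, hδ⟩ := exists_detHom (isCharacter_of_irr hχ)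
    refine ⟨Cfsg.detChar χ, ?_, ?_, fun n => ?_⟩
    · rw [hδ]; exact (isLinear_coeHom δ).1
    · rw [hδ]; exact (isLinear_coeHom δ).2
    · have h1 := detChar_restrict N (isCharacter_of_irr hχ)
      rw [funext hχN] at h1
      rw [h1]
  · rintro ⟨μ, hμc, hμ1, hμN⟩
    obtain ⟨μ', rfl⟩ := exists_hom_of_linear ⟨hμc, hμ1⟩
    exact ext_aux (Nat.card G) G rfl N hN hsolv ϑ hϑ hinv d hd hcop
      ⟨μ', fun n => by rw [← hμN n]; rfl⟩

end Cfsg.Agent.S0863
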