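import Cfsg.Statements.S0864
import Mathlib
import Cfsg.Agent.Lib.Helper2.LinExt

set_option autoImplicit false
open Cfsg

namespace Cfsg.Agent.S0864

/-- Let N be a normal subgroup of the finite group G and λ a character of N of degree 1 invariant under conjugation by G. Suppose that for every prime p dividing the order of λ (in the group of functions under pointwise multiplication) there is a subgroup H containing N, of index prime to p and with the index of N in H a power of p, together with a character of H of degree 1 restricting to λ. Then λ is the restriction of a character of G of degree 1. -/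
theorem result {G : Type*} [Group G] [Finite G] (N : Subgroup G) [hN : N.Normal] (lam : N → ℂ) (hlam : Cfsg.IsCharacter N lam ∧ lam 1 = 1) (hinv : ∀ (g : G) (n : N), lam ⟨g * n * g⁻¹, hN.conj_mem (n : G) n.2 g⟩ = lam n) (hsyl : ∀ p : ℕ, p.Prime → p ∣ orderOf lam → ∃ (H : Subgroup G) (hNH : N ≤ H) (ν : H → ℂ), Nat.Coprime H.index p ∧ (∃ k : ℕ, N.relIndex H = p ^ k) ∧ Cfsg.IsCharacter H ν ∧ ν 1 = 1 ∧ ∀ n : N, ν ⟨(n : G), hNH n.2⟩ = lam n) : ∃ μ : G → ℂ, Cfsg.IsCharacter G μ ∧ μ 1 = 1 ∧ ∀ n : N, μ n = lam n := by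
  classical
  obtain ⟨φ, rfl⟩ := Cfsg.Agent.Lib.Helper2.LinExt.exists_hom_of_linear hlam
  have hinv' : ∀ (t : G) (n : N), φ ⟨t * n * t⁻¹, hN.conj_mem n n.2 t⟩ = φ n :=
    fun t n => Units.ext (hinv t n)
  -- restriction homomorphism
  let res : (G →* ℂˣ) →* (N →* ℂˣ) :=
    { toFun := fun ψ => ψ.comp N.subtype
      map_one' := rfl
      map_mul' := fun a b => rfl }
  let S : Subgroup (N →* ℂˣ) := res.range
  haveI : IsMulCommutative (N →* ℂˣ) := ⟨⟨fun a b => mul_comm a b⟩⟩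
  haveI hSn : S.Normal := Subgroup.normal_of_isMulCommutative S
  let x : (N →* ℂˣ) ⧸ S := QuotientGroup.mk φ
  have hxb : orderOf x ∣ orderOf φ := by
    apply orderOf_dvd_of_pow_eq_one
    show (QuotientGroup.mk φ : (N →* ℂˣ) ⧸ S) ^ orderOf φ = 1
    rw [← QuotientGroup.mk_pow, pow_orderOf_eq_one]
    rfl
  have hx1 : orderOf x = 1 := by
    by_contra hne
    obtain ⟨p, hp, hpt⟩ := Nat.exists_prime_and_dvd hne
    have hpb : p ∣ orderOf (Cfsg.Agent.Lib.Helper2.LinExt.coeHom N φ) := by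
      rw [Cfsg.Agent.Lib.Helper2.LinExt.orderOf_coeHom]
      exact hpt.trans hxb
    obtain ⟨H, hNH, ν, hcop, -, hν1, hν2, hνres⟩ := hsyl p hp hpb
    obtain ⟨ν', rfl⟩ := Cfsg.Agent.Lib.Helper2.LinExt.exists_hom_of_linear ⟨hν1, hν2⟩
    have hν'res : ∀ n : N, ν' ⟨(n : G), hNH n.2⟩ = φ n := fun n => Units.ext (hνres n)
    let τ : G →* ℂˣ := MonoidHom.transfer ν'
    have hτ : ∀ n : N, τ n = φ n ^ H.index := by
      intro n
      have := Cfsg.Agent.Lib.Helper2.TransferExt.transfer_apply_of_invariant H N hNH ν' (by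
        intro t m hm
        have h1 := hinv' t⁻¹ ⟨m, hm⟩
        rw [hν'res ⟨m, hm⟩, ← h1, ← hν'res]
        congr 1
        apply Subtype.ext
        simp) (n : G) n.2
      rw [hν'res n] at this
      exact this
    have hmem : φ ^ H.index ∈ S := by
      refine ⟨τ, ?_⟩
      apply MonoidHom.ext
      intro n
      show τ (n : G) = (φ ^ H.index) n
      rw [hτ n, MonoidHom.pow_apply]
    have hxa : x ^ H.index = 1 := by
      show (QuotientGroup.mk φ : (N →* ℂˣ) ⧸ S) ^ H.index = 1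
      rw [← QuotientGroup.mk_pow, QuotientGroup.eq_one_iff]
      exact hmem
    have h2 : p ∣ H.index := hpt.trans (orderOf_dvd_of_pow_eq_one hxa)
    have h3 : p ∣ Nat.gcd H.index p := Nat.dvd_gcd h2 dvd_rfl
    rw [hcop] at h3
    exact hp.one_lt.ne' (Nat.dvd_one.1 h3)
  have hx : x = 1 := orderOf_eq_one_iff.1 hx1
  have hφS : φ ∈ S := (QuotientGroup.eq_one_iff φ).1 hx
  obtain ⟨ψ, hψ⟩ := hφS
  refine ⟨Cfsg.Agent.Lib.Helper2.LinExt.coeHom G ψ,
    (Cfsg.Agent.Lib.Helper2.LinExt.isLinear_coeHom ψ).1,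
    (Cfsg.Agent.Lib.Helper2.LinExt.isLinear_coeHom ψ).2, fun n => ?_⟩
  rw [Cfsg.Agent.Lib.Helper2.LinExt.coeHom_apply, Cfsg.Agent.Lib.Helper2.LinExt.coeHom_apply,
    ← hψ]
  rfl

end Cfsg.Agent.S0864
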