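import Cfsg.Statements.S0865
import Mathlib
import Cfsg.Agent.Lib.Helper2.LinExt

set_option autoImplicit false
open Cfsg

namespace Cfsg.Agent.S0865

/-- Let N be a normal subgroup of the finite group G and λ a character of N of degree 1, invariant under conjugation by G, whose order (under pointwise multiplication) is coprime to the index of N. Then there is a character μ of G of degree 1 restricting to λ with the same order as λ, and μ is the only degree-1 character of G restricting to λ whose order is coprime to the index of N. -/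
theorem result {G : Type*} [Group G] [Finite G] (N : Subgroup G) [hN : N.Normal] (lam : N → ℂ) (hlam : Cfsg.IsCharacter N lam ∧ lam 1 = 1) (hinv : ∀ (g : G) (n : N), lam ⟨g * n * g⁻¹, hN.conj_mem (n : G) n.2 g⟩ = lam n) (hcop : Nat.Coprime N.index (orderOf lam)) : ∃ μ : G → ℂ, (Cfsg.IsCharacter G μ ∧ μ 1 = 1 ∧ (∀ n : N, μ n = lam n) ∧ orderOf μ = orderOf lam) ∧ ∀ μ' : G → ℂ, Cfsg.IsCharacter G μ' ∧ μ' 1 = 1 → (∀ n : N, μ' n = lam n) → Nat.Coprime N.index (orderOf μ') → μ' = μ := by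
  obtain ⟨φ, rfl⟩ := Cfsg.Agent.Lib.Helper2.LinExt.exists_hom_of_linear hlam
  rw [Cfsg.Agent.Lib.Helper2.LinExt.orderOf_coeHom] at hcop
  have hinv' : ∀ (t : G) (n : N), φ ⟨t * n * t⁻¹, hN.conj_mem n n.2 t⟩ = φ n :=
    fun t n => Units.ext (hinv t n)
  obtain ⟨ψ, hres, hord⟩ :=
    Cfsg.Agent.Lib.Helper2.LinExt.exists_extension_of_coprime N φ hinv' hcop
  refine ⟨Cfsg.Agent.Lib.Helper2.LinExt.coeHom G ψ,
    ⟨(Cfsg.Agent.Lib.Helper2.LinExt.isLinear_coeHom ψ).1,
      (Cfsg.Agent.Lib.Helper2.LinExt.isLinear_coeHom ψ).2, fun n => ?_, ?_⟩, ?_⟩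
  · rw [Cfsg.Agent.Lib.Helper2.LinExt.coeHom_apply, hres]
    rfl
  · rw [Cfsg.Agent.Lib.Helper2.LinExt.orderOf_coeHom,
      Cfsg.Agent.Lib.Helper2.LinExt.orderOf_coeHom, hord]
  · intro μ' hμ' hres' hcop'
    obtain ⟨ψ', rfl⟩ := Cfsg.Agent.Lib.Helper2.LinExt.exists_hom_of_linear hμ'
    rw [Cfsg.Agent.Lib.Helper2.LinExt.orderOf_coeHom] at hcop'
    congr 1
    apply Cfsg.Agent.Lib.Helper2.LinExt.extension_unique_of_coprime N ψ' ψ
    · intro n
      apply Units.ext
      have h1 := hres' n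
      rw [Cfsg.Agent.Lib.Helper2.LinExt.coeHom_apply,
        Cfsg.Agent.Lib.Helper2.LinExt.coeHom_apply] at h1
      rw [h1, hres]
    · exact hcop'
    · rw [hord]; exact hcop

end Cfsg.Agent.S0865
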