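import Cfsg.Statements.S0869
import Mathlib

set_option autoImplicit false
open Cfsg

namespace Cfsg.Agent.S0869

/-- Let S be a nonempty finite type and R an additive subgroup of the integer-valued functions on S that is closed under pointwise multiplication. If the constant function 1 is not in R, then there exist a point x of S and a prime p such that p divides f x for every f in R. -/
theorem result {S : Type*} [Finite S] [Nonempty S] (R : AddSubgroup (S → ℤ)) (hmul : ∀ f ∈ R, ∀ g ∈ R, f * g ∈ R) (h1 : (1 : S → ℤ) ∉ R) : ∃ (x : S) (p : ℕ), p.Prime ∧ ∀ f ∈ R, (p : ℤ) ∣ f x := by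
  classical
  by_contra hcon
  push_neg at hcon
  -- for each x there is f ∈ R with f x = 1
  have hex : ∀ x : S, ∃ f ∈ R, f x = 1 := by
    intro x
    let H : AddSubgroup ℤ := R.map (Pi.evalAddMonoidHom (fun _ : S => ℤ) x)
    obtain ⟨a, ha⟩ := Int.subgroup_cyclic H
    have hmemH : ∀ f ∈ R, f x ∈ H := fun f hf => ⟨f, hf, rfl⟩
    have hdvd : ∀ f ∈ R, a ∣ f x := by
      intro f hf
      have := hmemH f hf
      rw [ha, AddSubgroup.mem_closure_singleton] at this
      obtain ⟨k, hk⟩ := this
      exact ⟨k, by rw [← hk]; simp [mul_comm]⟩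
    by_cases hau : a.natAbs = 1
    · -- a is a unit, so 1 ∈ H
      have h1H : (1 : ℤ) ∈ H := by
        rw [ha, AddSubgroup.mem_closure_singleton]
        rcases Int.natAbs_eq a with h | h
        · exact ⟨1, by rw [h, hau]; simp⟩
        · exact ⟨-1, by rw [h, hau]; simp⟩
      obtain ⟨f, hf, hfx⟩ := h1H
      exact ⟨f, hf, hfx⟩
    · obtain ⟨p, hp, hpa⟩ := Nat.exists_prime_and_dvd hau
      exfalso
      obtain ⟨f, hf, hpf⟩ := hcon x p hp
      apply hpf
      have : (p : ℤ) ∣ a := Int.natCast_dvd.mpr hpa
      exact this.trans (hdvd f hf)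
  choose f hfR hfx using hex
  haveI := Fintype.ofFinite S
  -- the product of (1 - f x) over all x is 1 modulo R
  have key : ∀ T : Finset S, (∏ x ∈ T, (1 - f x)) - 1 ∈ R := by
    intro T
    induction T using Finset.induction_on with
    | empty => simp
    | insert a T ha ih =>
      rw [Finset.prod_insert ha]
      have h2 : (1 - f a) * (∏ x ∈ T, (1 - f x)) - 1 =
          ((∏ x ∈ T, (1 - f x)) - 1) - f a * ((∏ x ∈ T, (1 - f x)) - 1) - f a := by ring
      rw [h2]
      exact R.sub_mem (R.sub_mem ih (hmul _ (hfR a) _ ih)) (hfR a)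
  have hzero : (∏ x ∈ (Finset.univ : Finset S), (1 - f x)) = 0 := by
    funext y
    rw [Finset.prod_apply]
    apply Finset.prod_eq_zero (Finset.mem_univ y)
    simp [hfx y]
  have := key Finset.univ
  rw [hzero, zero_sub] at this
  exact h1 (by simpa using R.neg_mem this)

end Cfsg.Agent.S0869
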