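import Cfsg.Statements.S0875
import Mathlib
import Mathlib
import Cfsg.Agent.Lib.Helper2.PiSection

set_option autoImplicit false
open Cfsg

namespace Cfsg.Agent.S0875

/-- Let G be a finite group of order m * n with m and n coprime, and g an element whose order is coprime to m. Every x in G factors uniquely as x = u * v with u, v commuting, the order of u coprime to n and the order of v coprime to m; let ϑ be the function on G equal to n at those x whose factor v is conjugate to g and equal to 0 elsewhere. Then ϑ is a linear combination of the irreducible characters of G with algebraic-integer coefficients. -/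
theorem result {G : Type*} [Group G] [Fintype G] (m n : ℕ) (hmn : Nat.card G = m * n) (hcop : Nat.Coprime m n) (g : G) (hg : Nat.Coprime (orderOf g) m) (ϑ : G → ℂ) (hϑ1 : ∀ x : G, (∃ v : G, IsConj v g ∧ (∃ u : G, x = u * v ∧ Commute u v ∧ Nat.Coprime (orderOf u) n ∧ Nat.Coprime (orderOf v) m)) → ϑ x = n) (hϑ0 : ∀ x : G, (¬ ∃ v : G, IsConj v g ∧ (∃ u : G, x = u * v ∧ Commute u v ∧ Nat.Coprime (orderOf u) n ∧ Nat.Coprime (orderOf v) m)) → ϑ x = 0) : ∃ c : Cfsg.IrrCharacter G → ℂ, (∀ χ, c χ ∈ Cfsg.AlgInt) ∧ ϑ = ∑ᶠ χ : Cfsg.IrrCharacter G, c χ • (χ : G → ℂ) := by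
  classical
  haveI : Fintype (Cfsg.IrrCharacter G) := Fintype.ofFinite _
  obtain ⟨k, hk0, hk1⟩ := Nat.chineseRemainder hcop 0 1
  let γ : G → ℂ := fun x => if IsConj x g then (n : ℂ) else 0
  have hγ : Cfsg.IsClassFunction G γ := by
    intro x h
    show (if IsConj (h * x * h⁻¹) g then (n : ℂ) else 0) = if IsConj x g then (n : ℂ) else 0
    have h1 : IsConj (h * x * h⁻¹) g ↔ IsConj x g := by
      have h2 : IsConj x (h * x * h⁻¹) := isConj_iff.2 ⟨h, rfl⟩
      constructor
      · intro h3; exact h2.trans h3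
      · intro h3; exact h2.symm.trans h3
    rw [if_congr h1 rfl rfl]
  have hint : ∀ x, ∃ z : ℤ, γ x = z * (n : ℂ) := by
    intro x
    by_cases hx : IsConj x g
    · refine ⟨1, ?_⟩
      show (if IsConj x g then (n : ℂ) else 0) = _
      rw [if_pos hx]; simp
    · refine ⟨0, ?_⟩
      show (if IsConj x g then (n : ℂ) else 0) = _
      rw [if_neg hx]; simp
  have hϑ : ϑ = fun x => γ (x ^ k) := by
    funext x
    have hiff := Cfsg.Agent.Lib.Helper2.PiSection.section_iff m n k hmn hcop hk0 hk1 g x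
    show ϑ x = if IsConj (x ^ k) g then (n : ℂ) else 0
    by_cases hx : IsConj (x ^ k) g
    · rw [if_pos hx]
      exact hϑ1 x (hiff.2 hx)
    · rw [if_neg hx]
      exact hϑ0 x (fun h => hx (hiff.1 h))
  have hcf : Cfsg.IsClassFunction G ϑ := by
    rw [hϑ]
    exact Cfsg.Agent.Lib.Helper2.PiSection.isClassFunction_comp_pow k hγ
  refine ⟨fun χ => Cfsg.classInner ϑ χ, ?_, ?_⟩
  · intro χ
    show Cfsg.classInner ϑ χ ∈ Cfsg.AlgInt
    rw [hϑ]
    exact Cfsg.Agent.Lib.Helper2.PiSection.section_classInner_algInt m n k hmn hcop hk0 hk1 γ hγ hint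
      χ χ.2
  · rw [finsum_eq_sum_of_fintype]
    exact Cfsg.Agent.Lib.Helper1.class_function_expansion ϑ hcf

end Cfsg.Agent.S0875
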