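import Cfsg.Statements.S0876
import Mathlib
import Mathlib
import Cfsg.Agent.Lib.Helper2.PRegularCong

set_option autoImplicit false
open Cfsg

namespace Cfsg.Agent.S0876

/-- Let G be a finite group, p a prime and M a maximal ideal of the ring of algebraic integers containing p. Let x, y be elements with p-parts a and b (so a⁻¹ * x and b⁻¹ * y are their p-regular parts). Then a⁻¹ * x and b⁻¹ * y are conjugate in G if and only if, for every irreducible character χ, the difference χ x - χ y lies in the local ideal at M. -/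
theorem result {G : Type*} [Group G] [Finite G] (p : ℕ) (M : Ideal Cfsg.AlgInt) (hM : Cfsg.IsPModular p M) (x y a b : G) (ha : Cfsg.IsPPart p x a) (hb : Cfsg.IsPPart p y b) : IsConj (a⁻¹ * x) (b⁻¹ * y) ↔ ∀ χ : Cfsg.IrrCharacter G, Cfsg.MemLocalIdeal M ((χ : G → ℂ) x - (χ : G → ℂ) y) := by
  classical
  have hMp : M.IsPrime := Cfsg.Agent.Lib.Helper8.isPModular_isPrime hM
  have hMt : M ≠ ⊤ := Cfsg.Agent.Lib.Helper8.isPModular_ne_top hM
  have hA : ∀ χ : Cfsg.IrrCharacter G,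
      Cfsg.MemLocalIdeal M ((χ : G → ℂ) x - (χ : G → ℂ) (a⁻¹ * x)) := fun χ =>
    Cfsg.Agent.Lib.Helper2.PRegularCong.char_sub_ppart_memLocalIdeal hM
      (Cfsg.Agent.Lib.Helper4.isCharacter_of_irr χ.2) ha
  have hB : ∀ χ : Cfsg.IrrCharacter G,
      Cfsg.MemLocalIdeal M ((χ : G → ℂ) y - (χ : G → ℂ) (b⁻¹ * y)) := fun χ =>
    Cfsg.Agent.Lib.Helper2.PRegularCong.char_sub_ppart_memLocalIdeal hM
      (Cfsg.Agent.Lib.Helper4.isCharacter_of_irr χ.2) hb
  constructor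
  · intro hconj χ
    obtain ⟨c, hc⟩ := isConj_iff.1 hconj
    have h1 : (χ : G → ℂ) (b⁻¹ * y) = (χ : G → ℂ) (a⁻¹ * x) := by
      rw [← hc]
      exact Cfsg.Agent.Lib.Helper1.isClassFunction_irr χ.2 _ _
    have h2 : (χ : G → ℂ) x - (χ : G → ℂ) y
        = ((χ : G → ℂ) x - (χ : G → ℂ) (a⁻¹ * x)) - ((χ : G → ℂ) y - (χ : G → ℂ) (b⁻¹ * y)) := by
      rw [h1]; ring
    rw [h2]
    exact Cfsg.Agent.Lib.Helper8.memLocalIdeal_sub hMp (hA χ) (hB χ)
  · intro h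
    have hxr : ¬ p ∣ orderOf (a⁻¹ * x) := by
      obtain ⟨y', hxy, -, -, hy'⟩ := ha
      rw [← hxy, inv_mul_cancel_left]
      exact hy'
    have hyr : ¬ p ∣ orderOf (b⁻¹ * y) := by
      obtain ⟨y', hxy, -, -, hy'⟩ := hb
      rw [← hxy, inv_mul_cancel_left]
      exact hy'
    apply Cfsg.Agent.Lib.Helper2.PRegularCong.isConj_of_cong hM hxr hyr
    intro χ
    have h2 : (χ : G → ℂ) (a⁻¹ * x) - (χ : G → ℂ) (b⁻¹ * y)
        = (((χ : G → ℂ) x - (χ : G → ℂ) y) - ((χ : G → ℂ) x - (χ : G → ℂ) (a⁻¹ * x)))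
          + ((χ : G → ℂ) y - (χ : G → ℂ) (b⁻¹ * y)) := by
      ring
    rw [h2]
    exact Cfsg.Agent.Lib.Helper8.memLocalIdeal_add hMp
      (Cfsg.Agent.Lib.Helper8.memLocalIdeal_sub hMp (h χ) (hA χ)) (hB χ)

end Cfsg.Agent.S0876
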