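import Cfsg.Statements.S0879
import Mathlib


set_option autoImplicit false
open Cfsg

namespace Cfsg.Agent.S0879

/-- Let G be a Zassenhaus group on the finite set Ω and E the stabilizer of two distinct points a, b. Then an element outside the normalizer of E conjugates no non-identity element of E into E, and E has index 2 in its normalizer. -/
theorem result {G Ω : Type*} [Group G] [Finite G] [MulAction G Ω] [Fintype Ω] (hZ : Cfsg.IsZassenhausGroup G Ω) {a b : Ω} (hab : a ≠ b) : (∀ g : G, g ∉ Subgroup.normalizer ((MulAction.stabilizer G a ⊓ MulAction.stabilizer G b : Subgroup G) : Set G) → ∀ x ∈ (MulAction.stabilizer G a ⊓ MulAction.stabilizer G b : Subgroup G), g * x * g⁻¹ ∈ (MulAction.stabilizer G a ⊓ MulAction.stabilizer G b : Subgroup G) → x = 1) ∧ ((MulAction.stabilizer G a ⊓ MulAction.stabilizer G b : Subgroup G).subgroupOf (Subgroup.normalizer ((MulAction.stabilizer G a ⊓ MulAction.stabilizer G b : Subgroup G) : Set G))).index = 2 := by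
  obtain ⟨hfaith, h2, h3, ⟨g₀, hg₀, a', b', ha'b', hga', hgb'⟩, -⟩ := hZ
  rw [MulAction.is_two_pretransitive_iff] at h2
  set E : Subgroup G := MulAction.stabilizer G a ⊓ MulAction.stabilizer G b with hE
  have memE : ∀ x : G, x ∈ E ↔ x • a = a ∧ x • b = b := by
    intro x
    rw [hE, Subgroup.mem_inf, MulAction.mem_stabilizer_iff, MulAction.mem_stabilizer_iff]
  -- E is nontrivial
  obtain ⟨x₀, hx₀E, hx₀⟩ : ∃ x ∈ E, x ≠ 1 := by
    obtain ⟨t, hta, htb⟩ := h2 ha'b' hab
    refine ⟨t * g₀ * t⁻¹, ?_, ?_⟩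
    · rw [memE]
      constructor
      · rw [mul_smul, mul_smul, ← hta, inv_smul_smul, hga']
      · rw [mul_smul, mul_smul, ← htb, inv_smul_smul, hgb']
    · intro h
      apply hg₀
      have : g₀ = t⁻¹ * (t * g₀ * t⁻¹) * t := by group
      rw [this, h]; group
  -- fixed points of nonidentity elements of E
  have hfix : ∀ x ∈ E, x ≠ 1 → ∀ c : Ω, x • c = c → c = a ∨ c = b := by
    intro x hx hx1 c hc
    by_contra hcon
    push_neg at hcon
    exact hx1 (h3 x a b c hab (Ne.symm hcon.2) (Ne.symm hcon.1) ((memE x).mp hx).1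
      ((memE x).mp hx).2 hc)
  -- elements permuting {a, b}
  have hperm : ∀ g : G, ∀ x ∈ E, x ≠ 1 → g * x * g⁻¹ ∈ E →
      (g⁻¹ • a = a ∧ g⁻¹ • b = b) ∨ (g⁻¹ • a = b ∧ g⁻¹ • b = a) := by
    intro g x hx hx1 hgx
    have h1 : x • (g⁻¹ • a) = g⁻¹ • a := by
      have := ((memE _).mp hgx).1
      rw [mul_smul, mul_smul] at this
      exact (smul_eq_iff_eq_inv_smul g).mp this
    have h2' : x • (g⁻¹ • b) = g⁻¹ • b := by
      have := ((memE _).mp hgx).2
      rw [mul_smul, mul_smul] at this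
      exact (smul_eq_iff_eq_inv_smul g).mp this
    have hne : g⁻¹ • a ≠ g⁻¹ • b := fun h => hab (MulAction.injective g⁻¹ h)
    rcases hfix x hx hx1 _ h1 with ha1 | ha1 <;> rcases hfix x hx hx1 _ h2' with hb1 | hb1
    · exact absurd (ha1.trans hb1.symm) hne
    · exact Or.inl ⟨ha1, hb1⟩
    · exact Or.inr ⟨ha1, hb1⟩
    · exact absurd (ha1.trans hb1.symm) hne
  have hnorm : ∀ g : G, ((g⁻¹ • a = a ∧ g⁻¹ • b = b) ∨ (g⁻¹ • a = b ∧ g⁻¹ • b = a)) →
      g ∈ Subgroup.normalizer (E : Set G) := by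
    intro g hg
    rw [Subgroup.mem_normalizer_iff]
    intro h
    rw [memE, memE, mul_smul, mul_smul, mul_smul, mul_smul, smul_eq_iff_eq_inv_smul g,
      smul_eq_iff_eq_inv_smul g]
    rcases hg with ⟨h1, h2'⟩ | ⟨h1, h2'⟩
    · rw [h1, h2']
    · rw [h1, h2']
      exact and_comm
  constructor
  · intro g hg x hx hgx
    by_contra hx1
    exact hg (hnorm g (hperm g x hx hx1 hgx))
  · -- index 2
    obtain ⟨s, hsa, hsb⟩ := h2 hab (Ne.symm hab)
    have hsinv : s⁻¹ • a = b ∧ s⁻¹ • b = a := by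
      constructor
      · rw [← hsb, inv_smul_smul]
      · rw [← hsa, inv_smul_smul]
    have hsN : s ∈ Subgroup.normalizer (E : Set G) := hnorm s (Or.inr hsinv)
    rw [Subgroup.index_eq_two_iff]
    refine ⟨⟨s, hsN⟩, ?_⟩
    rintro ⟨g, hgN⟩
    rw [Subgroup.mem_subgroupOf, Subgroup.mem_subgroupOf]
    simp only [Subgroup.coe_mul]
    have hgx : g * x₀ * g⁻¹ ∈ E := (Subgroup.mem_normalizer_iff.mp hgN x₀).mp hx₀E
    rcases hperm g x₀ hx₀E hx₀ hgx with ⟨h1, h2'⟩ | ⟨h1, h2'⟩
    · have hga : g • a = a := by rw [← h1, smul_inv_smul, h1]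
      have hgb : g • b = b := by rw [← h2', smul_inv_smul, h2']
      right
      refine ⟨(memE g).mpr ⟨hga, hgb⟩, ?_⟩
      rw [memE, mul_smul, hsa, hgb]
      rintro ⟨u, -⟩
      exact hab u.symm
    · have hga : g • b = a := by rw [← h1, smul_inv_smul]
      have hgb : g • a = b := by rw [← h2', smul_inv_smul]
      left
      refine ⟨?_, ?_⟩
      · rw [memE, mul_smul, mul_smul, hsa, hsb, hga, hgb]
        exact ⟨rfl, rfl⟩
      · rw [memE, hgb]
        rintro ⟨u, -⟩
        exact hab u.symm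

end Cfsg.Agent.S0879
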