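import Cfsg.Statements.S0881
import Mathlib
import Cfsg.Agent.Lib.Helper2.FZ7

set_option autoImplicit false
open Cfsg

namespace Cfsg.Agent.S0881

open MulAction Cfsg.Agent.Lib.Lead.Zass Cfsg.Agent.Lib.Helper1 Cfsg.Agent.Lib.Helper2
open scoped ComplexConjugate

/-- Let G be a finite simple Zassenhaus group on Ω with n points, a ≠ b points with two-point stabilizer E of odd order less than n - 2, and let H be the subgroup of the stabilizer of a consisting of the identity and the elements fixing no point other than a (given here as a subgroup of the stabilizer of order one less than the number of points whose non-identity elements fix only a; it is the Frobenius kernel of the stabilizer). Let μ be a character of degree 1 of the stabilizer of a that is identically 1 on H but not identically 1. Then the function induced from μ to G is an irreducible character of G, and it takes the value 1 at every non-identity element of H. -/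
theorem result {G Ω : Type*} [Group G] [Fintype G] [MulAction G Ω] [Fintype Ω] (hZ : Cfsg.IsZassenhausGroup G Ω) {a b : Ω} (hab : a ≠ b) [IsSimpleGroup G] (hodd : Odd (Nat.card ↥(MulAction.stabilizer G a ⊓ MulAction.stabilizer G b : Subgroup G))) (hlt : Nat.card ↥(MulAction.stabilizer G a ⊓ MulAction.stabilizer G b : Subgroup G) < Fintype.card Ω - 2) (H : Subgroup G) (hHa : H ≤ MulAction.stabilizer G a) (hHcard : Nat.card H + 1 = Fintype.card Ω) (hHfix : ∀ u ∈ H, u ≠ 1 → ∀ c : Ω, u • c = c → c = a) (μ : MulAction.stabilizer G a → ℂ) (hμ : Cfsg.IsCharacter (MulAction.stabilizer G a) μ ∧ μ 1 = 1) (hμH : ∀ u : MulAction.stabilizer G a, (u : G) ∈ H → μ u = 1) (hμne : μ ≠ fun _ => 1) : Cfsg.IsIrrCharacter G (Cfsg.indFun (MulAction.stabilizer G a) μ) ∧ ∀ u ∈ H, u ≠ 1 → Cfsg.indFun (MulAction.stabilizer G a) μ u = 1 := by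
  classical
  haveI : Fintype ↥(stabilizer G a) := Fintype.ofFinite _
  have Z := zdata_of hZ
  obtain ⟨φ, hφ⟩ := LinExt.exists_hom_of_linear hμ
  have hμφ : μ = fun g => ((φ g : ℂˣ) : ℂ) := hφ
  have hφH : ∀ u : ↥(stabilizer G a), (u : G) ∈ H → φ u = 1 := by
    intro u hu
    apply Units.ext
    have := hμH u hu
    rw [hμφ] at this
    rw [Units.val_one]
    exact this
  have hφE : ∃ k : ↥(stabilizer G a), (k : G) • b = b ∧ φ k ≠ 1 := by
    by_contra hcon
    push Not at hcon
    apply hμne
    funext g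
    rw [hμφ]
    obtain ⟨u, hu, k, hka, hkb, hg⟩ := FZ.N_eq_HE hab H hHa hHcard hHfix
      (mem_stabilizer_iff.mp g.2)
    have hg' : g = (⟨u, hHa hu⟩ : ↥(stabilizer G a)) * ⟨k, mem_stabilizer_iff.mpr hka⟩ :=
      Subtype.ext hg
    show ((φ g : ℂˣ) : ℂ) = 1
    rw [hg', map_mul, hφH _ hu, hcon _ hkb, one_mul, Units.val_one]
  have hN0 : (Nat.card ↥(stabilizer G a) : ℂ) ≠ 0 := Nat.cast_ne_zero.mpr Nat.card_pos.ne'
  have hcardN : ((Finset.univ.filter (fun x : G => x ∈ stabilizer G a)).card : ℂ)
      = (Nat.card ↥(stabilizer G a) : ℂ) := by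
    rw [Nat.card_eq_fintype_card, Fintype.card_subtype]
  -- second claim
  have claim2 : ∀ u ∈ H, u ≠ 1 → Cfsg.indFun (stabilizer G a) μ u = 1 := by
    intro u hu hu1
    rw [indFun_apply]
    have h1 : ∀ x : G, Cfsg.extendByZero (stabilizer G a) μ (x⁻¹ * u * x)
        = if x ∈ stabilizer G a then 1 else 0 := by
      intro x
      by_cases hx : x ∈ stabilizer G a
      · rw [if_pos hx]
        have hm := FZ.H_conj_mem' hZ a H hHa hHcard hHfix (mem_stabilizer_iff.mp hx) hu
        rw [extendByZero_of_mem _ _ (hHa hm)]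
        exact hμH _ hm
      · rw [if_neg hx]
        apply extendByZero_of_notMem
        intro hm
        apply hx
        rw [mem_stabilizer_iff, mul_smul, mul_smul, inv_smul_eq_iff] at hm
        exact mem_stabilizer_iff.mpr (hHfix u hu hu1 _ hm)
    rw [Finset.sum_congr rfl fun x _ => h1 x, Finset.sum_boole, hcardN, inv_mul_cancel₀ hN0]
  have hchar : Cfsg.IsCharacter G (Cfsg.indFun (stabilizer G a) μ) :=
    Cfsg.Agent.S0148.result _ μ hμ.1
  refine ⟨isIrrCharacter_of_norm_one hchar ?_, claim2⟩
  rw [Cfsg.Agent.S0146.result _ μ _ (indFun_isClassFunction _ μ)]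
  unfold Cfsg.classInner
  have h1 : ∀ g : ↥(stabilizer G a), μ g * conj (Cfsg.indFun (stabilizer G a) μ (g : G))
      = (Nat.card ↥(stabilizer G a) : ℂ)⁻¹ * ∑ x : G, μ g *
        conj (Cfsg.extendByZero (stabilizer G a) μ (x⁻¹ * (g : G) * x)) := by
    intro g
    rw [indFun_apply, map_mul, map_inv₀, map_natCast, map_sum, Finset.mul_sum, Finset.mul_sum,
      Finset.mul_sum]
    refine Finset.sum_congr rfl fun x _ => ?_
    ring
  rw [Finset.sum_congr rfl fun g _ => h1 g, ← Finset.mul_sum, Finset.sum_comm]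
  have h2 : ∀ x : G, ∑ g : ↥(stabilizer G a), μ g *
        conj (Cfsg.extendByZero (stabilizer G a) μ (x⁻¹ * (g : G) * x))
      = if x ∈ stabilizer G a then (Nat.card ↥(stabilizer G a) : ℂ) else 0 := by
    intro x
    rw [hμφ]
    exact FZ.inner_sum hZ hab hodd φ hφE x
  rw [Finset.sum_congr rfl fun x _ => h2 x, ← Finset.sum_filter, Finset.sum_const, nsmul_eq_mul,
    hcardN]
  field_simp

end Cfsg.Agent.S0881
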