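import Cfsg.Statements.S0893
import Mathlib
import Cfsg.Agent.S0894
import Cfsg.Agent.S0146
import Cfsg.Agent.S0148
import Cfsg.Agent.S0170
import Cfsg.Agent.Lib.Helper1.LinearChar
import Cfsg.Agent.Lib.Helper1.CharFound6

set_option autoImplicit false
open Cfsg

namespace Cfsg.Agent.S0893

theorem irr_of_deg_one {G : Type*} [Group G] {χ : G → ℂ} (hχ : Cfsg.IsCharacter G χ)
    (h1 : χ 1 = 1) : Cfsg.IsIrrCharacter G χ := by
  obtain ⟨m, ρ, rfl⟩ := hχ
  have hm : m = 1 := by
    rw [Representation.char_one] at h1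
    simpa using h1
  subst hm
  exact ⟨1, ρ, Cfsg.Agent.Lib.Helper1.irreducible_of_finrank_eq_one ρ (by simp), rfl⟩

/-- Let P be an extraspecial p-group of order p ^ (2 * n + 1), A an abelian subgroup of order p ^ (n + 1), and λ a character of A of degree 1 that is not identically 1 on the elements of A lying in the centre of P. Then the function induced from λ to P is an irreducible character of P and vanishes at every element outside the centre. -/
theorem result {P : Type*} [Group P] [Fintype P] (p n : ℕ) [Fact p.Prime] (hP : Cfsg.IsExtraspecial p P) (hcard : Nat.card P = p ^ (2 * n + 1)) (A : Subgroup P) (hab : ∀ a ∈ A, ∀ b ∈ A, a * b = b * a) (hA : Nat.card A = p ^ (n + 1)) (lam : A → ℂ) (hlam : Cfsg.IsCharacter A lam ∧ lam 1 = 1) (hZ : ∃ a : A, (a : P) ∈ Subgroup.center P ∧ lam a ≠ 1) : Cfsg.IsIrrCharacter P (Cfsg.indFun A lam) ∧ ∀ x : P, x ∉ Subgroup.center P → Cfsg.indFun A lam x = 0 := by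
  classical
  haveI : Fintype (Cfsg.IrrCharacter P) := Fintype.ofFinite _
  haveI : Fintype A := Fintype.ofFinite A
  have hp := (Fact.out : p.Prime)
  have hP' := hP
  obtain ⟨⟨hpg, hfr, hcomm⟩, hZc⟩ := hP
  obtain ⟨hdeg, -⟩ := Cfsg.Agent.S0894.result p n hP' hcard
  have hlamirr : Cfsg.IsIrrCharacter A lam := irr_of_deg_one hlam.1 hlam.2
  set ψ := Cfsg.indFun A lam with hψ
  have hψc : Cfsg.IsCharacter P ψ := Cfsg.Agent.S0148.result A lam hlam.1
  have hψcf := Cfsg.Agent.Lib.Helper4.isClassFunction_of_isCharacter hψc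
  -- multiplicities
  have hm : ∀ χ : Cfsg.IrrCharacter P, ∃ m : ℕ, Cfsg.classInner ψ χ = m := fun χ =>
    Cfsg.Agent.Lib.Helper1.classInner_char_irr_nat hψc χ.2
  choose m hmm using hm
  -- linear constituents do not occur
  have hlin : ∀ χ : Cfsg.IrrCharacter P, (χ : P → ℂ) 1 = 1 → m χ = 0 := by
    intro χ h1
    have hfr := Cfsg.Agent.S0146.result A lam (χ : P → ℂ)
      (Cfsg.Agent.Lib.Helper4.isClassFunction_of_isCharacter
        (Cfsg.Agent.Lib.Helper4.isCharacter_of_irr χ.2))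
    obtain ⟨φ, hφ⟩ := Cfsg.Agent.Lib.Helper1.exists_hom_of_isIrrCharacter χ.2 h1
    have hres : Cfsg.IsIrrCharacter A (fun h : A => (χ : P → ℂ) h) := by
      have := Cfsg.Agent.Lib.Helper1.isIrrCharacter_of_hom (φ.comp A.subtype)
      rw [hφ]
      exact this
    have hne : lam ≠ (fun h : A => (χ : P → ℂ) h) := by
      intro h
      obtain ⟨a, haZ, ha1⟩ := hZ
      apply ha1
      rw [h]
      apply Cfsg.Agent.Lib.Helper8.linear_irr_commutator χ.2 h1
      rw [hcomm]; exact haZ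
    have h0 := Cfsg.Agent.Lib.Helper4.classInner_irr_ne hlamirr hres hne
    have : (m χ : ℂ) = 0 := by rw [← hmm, ← hψ] at *; rw [hfr, h0]
    exact_mod_cast this
  have hpc : (p : ℂ) ≠ 0 := Nat.cast_ne_zero.2 hp.ne_zero
  have hψ1 : ψ 1 = (p : ℂ) ^ n := by
    rw [hψ, Cfsg.Agent.S0170.indFun_one, hA, hcard, hlam.2]
    push_cast
    field_simp
    ring
  have hexp := Cfsg.Agent.Lib.Helper1.class_function_expansion ψ hψcf
  have hexp1 := congrFun hexp 1
  rw [Finset.sum_apply] at hexp1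
  have hterm : ∀ χ : Cfsg.IrrCharacter P,
      (Cfsg.classInner ψ (χ : P → ℂ) • (χ : P → ℂ)) 1 = (m χ : ℂ) * (p : ℂ) ^ n := by
    intro χ
    rw [Pi.smul_apply, smul_eq_mul, hmm]
    rcases hdeg χ with h | h
    · rw [hlin χ h]; simp
    · rw [h]
  rw [Finset.sum_congr rfl (fun χ _ => hterm χ), ← Finset.sum_mul, hψ1] at hexp1
  have hsum : ∑ χ : Cfsg.IrrCharacter P, m χ = 1 := by
    have h2 : (1 : ℂ) * (p : ℂ) ^ n = (∑ χ : Cfsg.IrrCharacter P, (m χ : ℂ)) * (p : ℂ) ^ n := by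
      rw [one_mul]; exact hexp1
    have h3 := mul_right_cancel₀ (pow_ne_zero n hpc) h2
    exact_mod_cast h3.symm
  obtain ⟨χ₀, -, h0⟩ := Finset.exists_ne_zero_of_sum_ne_zero (by rw [hsum]; exact one_ne_zero)
  have hsplit := Finset.add_sum_erase Finset.univ m (Finset.mem_univ χ₀)
  rw [hsum] at hsplit
  have hm0 : m χ₀ = 1 := by omega
  have hrest : ∑ χ ∈ Finset.univ.erase χ₀, m χ = 0 := by omega
  have hrest' : ∀ χ : Cfsg.IrrCharacter P, χ ≠ χ₀ → m χ = 0 := by
    intro χ hχ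
    exact (Finset.sum_eq_zero_iff.1 hrest) χ (Finset.mem_erase.2 ⟨hχ, Finset.mem_univ _⟩)
  have hψeq : ψ = (χ₀ : P → ℂ) := by
    rw [hexp, Finset.sum_eq_single χ₀]
    · rw [hmm, hm0]; simp
    · intro χ _ hχ
      rw [hmm, hrest' χ hχ]; simp
    · intro h; exact absurd (Finset.mem_univ _) h
  have hnl : (χ₀ : P → ℂ) 1 ≠ 1 := fun h => h0 (hlin χ₀ h)
  have hidx : (commutator P).index = p ^ (2 * n) := by
    have := Subgroup.card_mul_index (commutator P)
    rw [hcomm, hZc, hcard, pow_succ, mul_comm] at this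
    rw [hcomm]
    exact Nat.eq_of_mul_eq_mul_right hp.pos this
  refine ⟨hψeq ▸ χ₀.2, fun x hx => ?_⟩
  rw [hψeq]
  apply Cfsg.Agent.S0894.vanish x _ χ₀ hnl
  rw [hidx]
  have hne : Subgroup.centralizer ({x} : Set P) ≠ ⊤ := by
    intro h
    apply hx
    rw [Subgroup.mem_center_iff]
    intro g
    have hg : g ∈ Subgroup.centralizer ({x} : Set P) := h ▸ Subgroup.mem_top g
    exact Subgroup.mem_centralizer_iff.1 hg x rfl |>.symm
  obtain ⟨k, hk⟩ := (hpg.to_subgroup (Subgroup.centralizer ({x} : Set P))).exists_card_eq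
  have hdvd : Nat.card (Subgroup.centralizer ({x} : Set P)) ∣ p ^ (2 * n + 1) :=
    hcard ▸ Subgroup.card_subgroup_dvd_card _
  rw [hk]
  apply Nat.pow_le_pow_right hp.pos
  rw [hk] at hdvd
  have hle := (Nat.pow_dvd_pow_iff_le_right hp.one_lt).1 hdvd
  rcases hle.lt_or_eq with h | h
  · omega
  · exfalso; apply hne
    apply Subgroup.eq_top_of_card_eq
    rw [hk, hcard, h]

end Cfsg.Agent.S0893
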