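import Cfsg.Statements.S0895
import Mathlib
import Cfsg.Agent.Lib.Helper4.Characters

set_option autoImplicit false
open Cfsg

namespace Cfsg.Agent.S0895

open Cfsg.Agent.Lib.Helper4 Matrix

theorem single_entry {n : ℕ} (A B : Matrix (Fin n) (Fin n) ℂ) (i j k l : Fin n) :
    (A.transpose * Matrix.single i j (1:ℂ) * B) k l = A i k * B j l := by
  rw [Matrix.mul_apply]
  simp only [Matrix.mul_apply, Matrix.single_apply, Matrix.transpose_apply]
  rw [Finset.sum_eq_single j]
  · rw [Finset.sum_eq_single i]
    · simp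
    · intro b _ hb; simp [Ne.symm hb]
    · simp
  · intro b _ hb
    simp [Ne.symm hb]
  · simp

/-- An invariant bilinear form of an irreducible representation with nontrivial kernel is zero. -/
theorem form_zero {G : Type*} [Group G] [Fintype G] {n : ℕ} (ρ : Representation ℂ G (Fin n → ℂ))
    [ρ.IsIrreducible] (F : Matrix (Fin n) (Fin n) ℂ)
    (hF : ∀ h : G, (repMat ρ h)ᵀ * F * repMat ρ h = F)
    (v : Fin n → ℂ) (hv : v ≠ 0) (hFv : F *ᵥ v = 0) : F = 0 := by
  have hinv : ∀ g : G, F * repMat ρ g = (repMat ρ g⁻¹)ᵀ * F := by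
    intro g
    have h1 : (repMat ρ g⁻¹)ᵀ * (repMat ρ g)ᵀ = 1 := by
      rw [← Matrix.transpose_mul, ← repMat_mul, mul_inv_cancel, repMat_one, Matrix.transpose_one]
    calc F * repMat ρ g = ((repMat ρ g⁻¹)ᵀ * (repMat ρ g)ᵀ) * F * repMat ρ g := by
          rw [h1, Matrix.one_mul]
      _ = (repMat ρ g⁻¹)ᵀ * ((repMat ρ g)ᵀ * F * repMat ρ g) := by
          simp only [Matrix.mul_assoc]
      _ = (repMat ρ g⁻¹)ᵀ * F := by rw [hF g]
  let S : Subrepresentation ρ :=
    { toSubmodule := LinearMap.ker (Matrix.toLin' F)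
      apply_mem_toSubmodule := by
        intro g w hw
        rw [LinearMap.mem_ker, Matrix.toLin'_apply] at hw ⊢
        have h2 : ρ g w = repMat ρ g *ᵥ w := by
          unfold repMat
          rw [LinearMap.toMatrix'_mulVec]
        rw [h2, Matrix.mulVec_mulVec, hinv g, ← Matrix.mulVec_mulVec, hw, Matrix.mulVec_zero] }
  have hvS : v ∈ S.toSubmodule := by
    show v ∈ LinearMap.ker (Matrix.toLin' F)
    rw [LinearMap.mem_ker, Matrix.toLin'_apply, hFv]
  rcases eq_bot_or_eq_top S with h | h
  · exfalso
    have h3 := congrArg Subrepresentation.toSubmodule h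
    have h4 : v ∈ (⊥ : Submodule ℂ (Fin n → ℂ)) := by
      have := hvS
      rw [h3] at this
      exact this
    exact hv ((Submodule.mem_bot ℂ).1 h4)
  · have h3 := congrArg Subrepresentation.toSubmodule h
    have h4 : LinearMap.ker (Matrix.toLin' F) = ⊤ := h3
    have h5 : Matrix.toLin' F = 0 := LinearMap.ker_eq_top.1 h4
    exact (LinearEquiv.map_eq_zero_iff _).1 h5

/-- Let χ be a real-valued irreducible character of a finite group G whose degree is an odd natural number. Then the average over s in G of χ (s * s) equals 1. -/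
theorem result {G : Type*} [Group G] [Fintype G] (χ : G → ℂ) (hχ : Cfsg.IsIrrCharacter G χ) (hreal : ∀ g : G, (χ g).im = 0) (d : ℕ) (hd : χ 1 = d) (hodd : Odd d) : (Nat.card G : ℂ)⁻¹ * ∑ s : G, χ (s * s) = 1 := by
  classical
  have hirr := hχ
  obtain ⟨n, ρ, hρ, rfl⟩ := hχ
  haveI := hρ
  have hn : n = d := by
    rw [Representation.char_one, Module.finrank_fin_fun] at hd
    exact_mod_cast hd
  subst hn
  set R : G → Matrix (Fin n) (Fin n) ℂ := fun g => repMat ρ g with hR
  let T : Matrix (Fin n) (Fin n) ℂ → Matrix (Fin n) (Fin n) ℂ := fun X =>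
    ∑ g : G, (R g)ᵀ * X * R g
  have hT : ∀ (X : Matrix (Fin n) (Fin n) ℂ) (h : G), (R h)ᵀ * T X * R h = T X := by
    intro X h
    calc (R h)ᵀ * T X * R h = ∑ g : G, (R (g * h))ᵀ * X * R (g * h) := by
          simp only [T]
          rw [Finset.mul_sum, Finset.sum_mul]
          refine Finset.sum_congr rfl fun g _ => ?_
          simp only [hR, repMat_mul, Matrix.transpose_mul, Matrix.mul_assoc]
      _ = T X := Equiv.sum_comp (Equiv.mulRight h) (fun g => (R g)ᵀ * X * R g)
  have hsym : ∀ X : Matrix (Fin n) (Fin n) ℂ, (T X)ᵀ = T X := by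
    intro X
    set A := T X - (T X)ᵀ with hA
    have hAinv : ∀ h : G, (R h)ᵀ * A * R h = A := by
      intro h
      have h1 : (R h)ᵀ * (T X)ᵀ * R h = (T X)ᵀ := by
        have := congrArg Matrix.transpose (hT X h)
        simpa only [Matrix.transpose_mul, Matrix.transpose_transpose, Matrix.mul_assoc] using this
      rw [hA, Matrix.mul_sub, Matrix.sub_mul, hT X h, h1]
    have hAt : Aᵀ = -A := by
      rw [hA, Matrix.transpose_sub, Matrix.transpose_transpose, neg_sub]
    have hdet : A.det = 0 := by
      have h1 : A.det = (-1) ^ n * A.det := by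
        conv_lhs => rw [← Matrix.det_transpose, hAt, Matrix.det_neg, Fintype.card_fin]
      rw [hodd.neg_one_pow] at h1
      linear_combination (1 / 2 : ℂ) * h1
    obtain ⟨v, hv, hAv⟩ := Matrix.exists_mulVec_eq_zero_iff.2 hdet
    have h0 := form_zero ρ A hAinv v hv hAv
    exact (sub_eq_zero.1 h0).symm
  have hentry : ∀ i j k l : Fin n, T (Matrix.single i j (1:ℂ)) k l = ∑ g : G, R g i k * R g j l := by
    intro i j k l
    simp only [T]
    rw [Matrix.sum_apply]
    exact Finset.sum_congr rfl fun g _ => single_entry (R g) (R g) i j k l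
  have key : ∀ i j : Fin n, ∑ g : G, R g i j * R g j i = ∑ g : G, R g i i * R g j j := by
    intro i j
    have := congrFun (congrFun (hsym (Matrix.single i j (1:ℂ))) i) j
    rw [Matrix.transpose_apply, hentry, hentry] at this
    exact this
  have hsq : ∑ s : G, ρ.character (s * s) = ∑ s : G, ρ.character s * ρ.character s := by
    have h1 : ∀ s : G, ρ.character (s * s) = ∑ i, ∑ j, R s i j * R s j i := by
      intro s
      rw [character_eq_trace_repMat, repMat_mul, Matrix.trace]
      simp only [Matrix.diag_apply, Matrix.mul_apply, hR]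
    have h2 : ∀ s : G, ρ.character s * ρ.character s = ∑ i, ∑ j, R s i i * R s j j := by
      intro s
      rw [character_eq_trace_repMat, Matrix.trace, Finset.sum_mul_sum]
      simp only [Matrix.diag_apply, hR]
    rw [Finset.sum_congr rfl fun s _ => h1 s, Finset.sum_congr rfl fun s _ => h2 s,
      Finset.sum_comm]
    conv_rhs => rw [Finset.sum_comm]
    refine Finset.sum_congr rfl fun i _ => ?_
    rw [Finset.sum_comm]
    conv_rhs => rw [Finset.sum_comm]
    exact Finset.sum_congr rfl fun j _ => key i j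
  rw [hsq]
  have hnorm := classInner_irr_self hirr
  rw [classInner_def] at hnorm
  rw [← hnorm]
  congr 1
  refine Finset.sum_congr rfl fun s _ => ?_
  rw [Complex.conj_eq_iff_im.2 (hreal s)]

end Cfsg.Agent.S0895
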