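import Mathlib
import Cfsg.Statements.S0901
import Cfsg.Agent.Lib.Helper8.RU1
import Cfsg.Agent.Lib.Helper8.RU2

set_option autoImplicit false
open Cfsg

namespace Cfsg.Agent.S0901

open scoped ComplexConjugate
open Cfsg.Agent.Lib.Helper8

/-- Let M be a maximal ideal of the ring of algebraic integers containing the prime p, and let U be the set of complex roots of unity of order prime to p. Then reduction modulo M is injective on U, and every algebraic integer not in M is congruent modulo M to an element of U (so U maps bijectively onto the nonzero residues). -/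
theorem result (p : ℕ) [Fact p.Prime] (M : Ideal Cfsg.AlgInt) (hM : Cfsg.IsPModular p M) : (∀ ε₁ ε₂ : Cfsg.AlgInt, (∃ m : ℕ, ¬ p ∣ m ∧ (ε₁ : ℂ) ^ m = 1) → (∃ m : ℕ, ¬ p ∣ m ∧ (ε₂ : ℂ) ^ m = 1) → ε₁ - ε₂ ∈ M → ε₁ = ε₂) ∧ (∀ a : Cfsg.AlgInt, a ∉ M → ∃ ε : Cfsg.AlgInt, (∃ m : ℕ, ¬ p ∣ m ∧ (ε : ℂ) ^ m = 1) ∧ a - ε ∈ M) := by
  refine ⟨?_, ?_⟩
  · rintro ε₁ ε₂ ⟨m₁, hm₁, h₁⟩ ⟨m₂, hm₂, h₂⟩ hsub
    have h₁' : ε₁ ^ m₁ = 1 := by
      apply Subtype.ext
      rw [SubmonoidClass.coe_pow]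
      exact h₁
    have h₂' : ε₂ ^ m₂ = 1 := by
      apply Subtype.ext
      rw [SubmonoidClass.coe_pow]
      exact h₂
    exact root_eq_of_sub_mem hM hm₁ h₁' hm₂ h₂' hsub
  · intro a ha
    obtain ⟨ε, ⟨m, hm, hε⟩, hmem⟩ := exists_root_sub_mem hM ha
    refine ⟨ε, ⟨m, hm, ?_⟩, hmem⟩
    have := congrArg Subtype.val hε
    rw [SubmonoidClass.coe_pow] at this
    exact this

end Cfsg.Agent.S0901
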