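import Mathlib
import Cfsg.Statements.S0903

set_option autoImplicit false
open Cfsg

namespace Cfsg.Agent.S0903

variable {G : Type*} [Group G]

/-- the set of pairs -/
abbrev Pairs (c g h : G) : Type _ :=
  {xy : G × G // IsConj g xy.1 ∧ IsConj h xy.2 ∧ xy.1 * xy.2 = c}

theorem isConj_conj (g x u : G) (h : IsConj g x) : IsConj g (u * x * u⁻¹) := by
  obtain ⟨a, ha⟩ := isConj_iff.mp h
  exact isConj_iff.mpr ⟨u * a, by rw [← ha]; group⟩

/-- conjugation action of `P` on the pairs -/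
def pairAction (P : Subgroup G) (c : G) (hc : c ∈ Subgroup.centralizer (P : Set G)) (g h : G) :
    MulAction P (Pairs c g h) where
  smul u xy := ⟨(u.1 * xy.1.1 * u.1⁻¹, u.1 * xy.1.2 * u.1⁻¹),
    isConj_conj g _ _ xy.2.1, isConj_conj h _ _ xy.2.2.1, by
      have h3 := xy.2.2.2
      have hcu := hc u.1 u.2
      calc u.1 * xy.1.1 * u.1⁻¹ * (u.1 * xy.1.2 * u.1⁻¹) = u.1 * (xy.1.1 * xy.1.2) * u.1⁻¹ := by group
        _ = u.1 * c * u.1⁻¹ := by rw [h3]
        _ = c * u.1 * u.1⁻¹ := by rw [hcu]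
        _ = c := by group⟩
  one_smul xy := by
    apply Subtype.ext
    apply Prod.ext <;> simp [HSMul.hSMul]
  mul_smul u v xy := by
    apply Subtype.ext
    apply Prod.ext <;> simp [HSMul.hSMul, mul_assoc]

theorem result {G : Type*} [Group G] [Finite G] (p : ℕ) [Fact p.Prime] (P : Subgroup G) (hP : IsPGroup p P) (c : G) (hc : c ∈ Subgroup.centralizer (P : Set G)) (g h : G) : Nat.card {xy : G × G // IsConj g xy.1 ∧ IsConj h xy.2 ∧ xy.1 * xy.2 = c} ≡ Nat.card {xy : G × G // IsConj g xy.1 ∧ IsConj h xy.2 ∧ xy.1 * xy.2 = c ∧ xy.1 ∈ Subgroup.centralizer (P : Set G) ∧ xy.2 ∈ Subgroup.centralizer (P : Set G)} [MOD p] := by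
  letI := pairAction P c hc g h
  have key := hP.card_modEq_card_fixedPoints (Pairs c g h)
  have hsmul : ∀ (u : P) (xy : Pairs c g h), (u • xy).1 = (u.1 * xy.1.1 * u.1⁻¹, u.1 * xy.1.2 * u.1⁻¹) :=
    fun u xy => rfl
  have e : Nat.card (MulAction.fixedPoints P (Pairs c g h)) = Nat.card {xy : G × G // IsConj g xy.1 ∧ IsConj h xy.2 ∧ xy.1 * xy.2 = c ∧ xy.1 ∈ Subgroup.centralizer (P : Set G) ∧ xy.2 ∈ Subgroup.centralizer (P : Set G)} := by
    apply Nat.card_congr
    refine
      { toFun := fun a => ⟨a.1.1, a.1.2.1, a.1.2.2.1, a.1.2.2.2, ?_, ?_⟩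
        invFun := fun b => ⟨⟨b.1, b.2.1, b.2.2.1, b.2.2.2.1⟩, ?_⟩
        left_inv := fun a => rfl
        right_inv := fun b => rfl }
    · intro u hu
      have := a.2 ⟨u, hu⟩
      have h2 := congrArg Subtype.val this
      rw [hsmul] at h2
      have h3 := congrArg Prod.fst h2
      simp only at h3
      calc u * a.1.1.1 = (u * a.1.1.1 * u⁻¹) * u := by group
        _ = a.1.1.1 * u := by rw [h3]
    · intro u hu
      have := a.2 ⟨u, hu⟩
      have h2 := congrArg Subtype.val this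
      rw [hsmul] at h2
      have h3 := congrArg Prod.snd h2
      simp only at h3
      calc u * a.1.1.2 = (u * a.1.1.2 * u⁻¹) * u := by group
        _ = a.1.1.2 * u := by rw [h3]
    · intro u
      apply Subtype.ext
      rw [hsmul]
      have h1 := b.2.2.2.2.1 u.1 u.2
      have h2 := b.2.2.2.2.2 u.1 u.2
      apply Prod.ext
      · simp only
        rw [h1]; group
      · simp only
        rw [h2]; group
  rw [← e]
  exact key

end Cfsg.Agent.S0903
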