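import Mathlib
import Cfsg.Statements.S0905
import Cfsg.Agent.Lib.Helper8.NC1
import Cfsg.Agent.Lib.Helper8.BlockNormalP
import Cfsg.Agent.Lib.Helper8.BlockUnion
import Cfsg.Agent.Lib.Lead.Core
import Cfsg.Agent.Lib.Helper1.CharInt

set_option autoImplicit false
open Cfsg

namespace Cfsg.Agent.S0905

open scoped ComplexConjugate
open Cfsg.Agent.Lib.Helper1 Cfsg.Agent.Lib.Helper4 Cfsg.Agent.Lib.Helper8

/-- Let F be a field of characteristic p and let g be an element of the finite group G no conjugate of which centralizes O_p(G). Then the class sum of g is a nilpotent element of the group algebra F[G]. -/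
theorem result {G : Type*} [Group G] [Finite G] (p : ℕ) [Fact p.Prime] (F : Type*) [Field F] [CharP F p] (g : G) (hg : ∀ x : G, IsConj g x → x ∉ Subgroup.centralizer (Cfsg.pCore p G : Set G)) : IsNilpotent (∑ᶠ x ∈ ConjClasses.carrier (ConjClasses.mk g), MonoidAlgebra.single x (1 : F) : MonoidAlgebra F G) := by
  classical
  have hp : p.Prime := Fact.out
  haveI : Fintype G := Fintype.ofFinite G
  haveI : Fintype (IrrCharacter G) := Fintype.ofFinite _
  haveI := Cfsg.Agent.Lib.Lead.pCore_normal (G := G) p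
  have hP := Cfsg.Agent.Lib.Lead.pCore_isPGroup (G := G) p
  have hgc : g ∉ Subgroup.centralizer (Cfsg.pCore p G : Set G) := hg g (IsConj.refl g)
  have hsum : (∑ᶠ x ∈ ConjClasses.carrier (ConjClasses.mk g), MonoidAlgebra.single x (1 : F) :
      MonoidAlgebra F G) =
      ∑ x ∈ Finset.univ.filter (fun x => IsConj g x), MonoidAlgebra.single x (1 : F) := by
    rw [finsum_mem_eq_finite_toFinset_sum _ (Set.toFinite _)]
    apply Finset.sum_congr _ (fun _ _ => rfl)
    ext x
    simp only [Set.Finite.mem_toFinset, Finset.mem_filter, Finset.mem_univ, true_and,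
      ConjClasses.mem_carrier_iff_mk_eq, ConjClasses.mk_eq_mk_iff_isConj]
    exact isConj_comm
  rw [hsum]
  have ha : ∀ χ : IrrCharacter G, ∃ m : ℕ, ∃ b : AlgInt,
      (centralChar (χ : G → ℂ) g) ^ m = (p : ℂ) * (b : ℂ) := by
    intro χ
    let a : AlgInt := ⟨centralChar (χ : G → ℂ) g, isIntegral_centralChar χ.2 g⟩
    have h1 : ∀ M : Ideal AlgInt, IsPModular p M → a ∈ M := by
      intro M hM
      have hMp := isPModular_isPrime hM
      rw [← memLocalIdeal_algInt_iff hMp a]
      exact memLocalIdeal_centralChar_of_not_mem_centralizer hM (Cfsg.pCore p G) hP χ hgc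
    obtain ⟨m, b, hb⟩ := exists_pow_eq_natCast_mul hp a h1
    refine ⟨m, b, ?_⟩
    have := congrArg (fun z : AlgInt => (z : ℂ)) hb
    simpa [a] using this
  choose m b hb using ha
  set m₀ := ∑ χ, m χ with hm₀
  have hb' : ∀ χ : IrrCharacter G, ∃ c : ℂ, IsIntegral ℤ c ∧
      (centralChar (χ : G → ℂ) g) ^ m₀ = (p : ℂ) * c := by
    intro χ
    have hle : m χ ≤ m₀ := Finset.single_le_sum (fun _ _ => Nat.zero_le _) (Finset.mem_univ χ)
    refine ⟨(b χ : ℂ) * (centralChar (χ : G → ℂ) g) ^ (m₀ - m χ), ?_, ?_⟩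
    · exact (b χ).2.mul ((isIntegral_centralChar χ.2 g).pow _)
    · rw [← mul_assoc, ← hb χ, ← pow_add, Nat.add_sub_cancel' hle]
  choose c hcint hc using hb'
  set t := Nat.card G with ht
  refine ⟨m₀ * t, ?_⟩
  rw [classSum_pow]
  apply Finset.sum_eq_zero
  intro y _
  have hdvd : p ∣ classPowCount g (m₀ * t) y := by
    have h1 := classFunction_eq_sum_omega (isClassFunction_classConvPow g (m₀ * t)) y
    rw [classConvPow_eq_count] at h1
    have h2 : ∀ ψ : IrrCharacter G, omega (ψ : G → ℂ) (classConvPow g (m₀ * t)) =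
        (p : ℂ) ^ t * (c ψ) ^ t := by
      intro ψ
      rw [omega_classConvPow ψ.2, pow_mul, hc ψ, mul_pow]
    simp only [h2] at h1
    set β : ℂ := ∑ ψ : IrrCharacter G, (c ψ) ^ t * (ψ : G → ℂ) 1 * conj ((ψ : G → ℂ) y) with hβ
    have hβint : IsIntegral ℤ β := by
      apply IsIntegral.sum
      intro ψ _
      refine ((hcint ψ).pow _).mul (isIntegral_char_apply (isCharacter_of_irr ψ.2) 1) |>.mul ?_
      rw [← isCharacter_inv (isCharacter_of_irr ψ.2)]
      exact isIntegral_char_apply (isCharacter_of_irr ψ.2) _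
    have hG0 : (Nat.card G : ℂ) ≠ 0 := Nat.cast_ne_zero.2 Nat.card_pos.ne'
    have hp0 : ((p : ℂ) ^ t) ≠ 0 := pow_ne_zero _ (Nat.cast_ne_zero.2 hp.ne_zero)
    have h3 : ((Nat.card G * classPowCount g (m₀ * t) y : ℕ) : ℂ) / ((p ^ t : ℕ) : ℂ) = β := by
      push_cast
      rw [h1, hβ, Finset.mul_sum, Finset.mul_sum, Finset.sum_div]
      refine Finset.sum_congr rfl fun ψ _ => ?_
      field_simp
    have h4 : p ^ t ∣ Nat.card G * classPowCount g (m₀ * t) y := by
      apply nat_dvd_of_isIntegral_div _ _ (pow_ne_zero _ hp.ne_zero)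
      rw [h3]
      exact hβint
    by_contra hnd
    have hcop : (p ^ t).Coprime (classPowCount g (m₀ * t) y) :=
      Nat.Coprime.pow_left _ ((Nat.Prime.coprime_iff_not_dvd hp).2 hnd)
    have h5 : p ^ t ∣ Nat.card G := hcop.dvd_of_dvd_mul_right h4
    have h6 : p ^ t ≤ Nat.card G := Nat.le_of_dvd Nat.card_pos h5
    have h7 : t < p ^ t := Nat.lt_pow_self hp.one_lt
    omega
  obtain ⟨k, hk⟩ := hdvd
  rw [hk]
  push_cast
  rw [CharP.cast_eq_zero F p, zero_mul, MonoidAlgebra.single_zero]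

end Cfsg.Agent.S0905
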