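import Mathlib
import Cfsg.Statements.S0923
import Cfsg.Agent.Lib.Helper8.SM6

set_option autoImplicit false
open Cfsg

namespace Cfsg.Agent.S0923

open scoped ComplexConjugate
open Cfsg.Agent.Lib.Helper1 Cfsg.Agent.Lib.Helper4 Cfsg.Agent.Lib.Helper8

/-- Brauer's Second Main Theorem, in terms of ordinary characters. Let x be a p-element of the finite group G with centralizer C, let χ lie in the block B of G and let b be a block of C that does not induce B (relative to a maximal ideal M of the algebraic integers containing p). Form the class function ϑ(c) = χ(x c) on C and its b-part (the sum over ψ ∈ b of the inner product of ϑ with ψ, times ψ). Then the b-part of ϑ vanishes at every p-regular element of C. (Equivalently, the generalized decomposition numbers of χ with respect to b are zero.) -/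
theorem result {G : Type*} [Group G] [Finite G] (p : ℕ) [Fact p.Prime] (M : Ideal Cfsg.AlgInt) (hM : Cfsg.IsPModular p M) (x : G) (hx : ∃ k : ℕ, orderOf x = p ^ k) (B : Set (Cfsg.IrrCharacter G)) (hB : Cfsg.IsPBlock M B) (χ : Cfsg.IrrCharacter G) (hχ : χ ∈ B) (b : Set (Cfsg.IrrCharacter (Subgroup.centralizer ({x} : Set G)))) (hb : Cfsg.IsPBlock M b) (hnot : ¬ Cfsg.IsInducedBlock M (Subgroup.centralizer ({x} : Set G)) b B) (y : Subgroup.centralizer ({x} : Set G)) (hy : ¬ p ∣ orderOf y) : Cfsg.blockPart b (fun c : Subgroup.centralizer ({x} : Set G) => (χ : G → ℂ) (x * (c : G))) y = 0 := by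
  classical
  have : Fintype G := Fintype.ofFinite G
  have hMp := isPModular_isPrime hM
  have hp : p.Prime := Fact.out
  -- the induced block is defined
  have hxC : x ∈ Subgroup.centralizer ({x} : Set G) := by
    rw [Subgroup.mem_centralizer_singleton_iff]
  have hcent : Subgroup.centralizer ((Subgroup.zpowers x : Subgroup G) : Set G) =
      Subgroup.centralizer ({x} : Set G) := by
    rw [Subgroup.zpowers_eq_closure, Subgroup.centralizer_closure]
  have hPp : IsPGroup p (Subgroup.zpowers x) := by
    obtain ⟨k, hk⟩ := hx
    apply IsPGroup.of_card (n := k)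
    rw [Nat.card_zpowers, hk]
  have hdef : InducedBlockDefined M (Subgroup.centralizer ({x} : Set G)) b := by
    apply inducedBlockDefined_of_le hM (Subgroup.zpowers x) _ hPp _ _ _ hb
    · rw [Subgroup.zpowers_le]
      exact hxC
    · rw [hcent]
    · rw [← hcent]
      exact Subgroup.centralizer_le_normalizer _
  obtain ⟨B₀, hind⟩ := hdef
  have hχ₀ : χ ∉ B₀ := by
    intro h
    apply hnot
    have : B = B₀ := by
      rw [eq_blockOf_of_mem hMp hB hχ, eq_blockOf_of_mem hMp hind.2.1 h]
    rw [this]
    exact hind
  have hau : IsPPart p (x * (y : G)) x := by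
    refine ⟨(y : G), rfl, ?_, hx, ?_⟩
    · have := y.2
      rw [Subgroup.mem_centralizer_singleton_iff] at this
      exact this.symm
    · rw [Subgroup.orderOf_coe]
      exact hy
  have key := second_main_idempotent hM (Subgroup.centralizer ({x} : Set G)) hind
    (Subgroup.mul_mem _ hxC y.2) hau le_rfl hχ₀
  have hθ : IsClassFunction (Subgroup.centralizer ({x} : Set G))
      (fun c : Subgroup.centralizer ({x} : Set G) => (χ : G → ℂ) (x * (c : G))) := by
    intro c t
    show (χ : G → ℂ) (x * ((t * c * t⁻¹ : Subgroup.centralizer ({x} : Set G)) : G)) = (χ : G → ℂ) (x * (c : G))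
    have ht := t.2
    rw [Subgroup.mem_centralizer_singleton_iff] at ht
    have e : x * ((t * c * t⁻¹ : Subgroup.centralizer ({x} : Set G)) : G) = (t : G) * (x * (c : G)) * (t : G)⁻¹ := by
      push_cast
      calc x * ((t : G) * (c : G) * (t : G)⁻¹) = (x * (t : G)) * (c : G) * (t : G)⁻¹ := by group
        _ = ((t : G) * x) * (c : G) * (t : G)⁻¹ := by rw [ht]
        _ = (t : G) * (x * (c : G)) * (t : G)⁻¹ := by group
    rw [e, isClassFunction_irr χ.2]
  rw [blockPart_eq_sum_blockCoeff hMp hb hθ y, ← key]
  refine Finset.sum_congr rfl fun k _ => ?_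
  congr 2
  push_cast
  group

end Cfsg.Agent.S0923
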