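import Mathlib
import Cfsg.Statements.S0926
import Cfsg.Agent.Lib.Helper8.SM9

set_option autoImplicit false
open Cfsg

namespace Cfsg.Agent.S0926

open scoped ComplexConjugate
open Cfsg.Agent.Lib.Helper1 Cfsg.Agent.Lib.Helper4 Cfsg.Agent.Lib.Helper8

/-- Let B be a block of the finite group G with defect group D (relative to a maximal ideal M of the algebraic integers containing p), let χ ∈ B have height zero, and let x be a p-element. Then some conjugate of x lies in D if and only if χ does not vanish on the whole p-section of x (the elements whose p-part is conjugate to x). -/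
theorem result {G : Type*} [Group G] [Finite G] (p : ℕ) [Fact p.Prime] (M : Ideal Cfsg.AlgInt) (hM : Cfsg.IsPModular p M) (B : Set (Cfsg.IrrCharacter G)) (hB : Cfsg.IsPBlock M B) (D : Subgroup G) (hD : Cfsg.IsDefectGroup p M B D) (χ : Cfsg.IrrCharacter G) (hχ : χ ∈ B) (h0 : Cfsg.blockHeight p B (χ : G → ℂ) = 0) (x : G) (hx : ∃ k : ℕ, orderOf x = p ^ k) : (∃ g : G, g * x * g⁻¹ ∈ D) ↔ ∃ u : G, (∃ z : G, Cfsg.IsPPart p u z ∧ IsConj x z) ∧ (χ : G → ℂ) u ≠ 0 := by
  classical
  have := Fintype.ofFinite G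
  have hMp := isPModular_isPrime hM
  constructor
  · rintro ⟨g, hg⟩
    obtain ⟨g₀, hg₀, P, rfl⟩ := hD
    obtain ⟨⟨c, hc⟩, -, hce⟩ := hg
    simp only [Subgroup.coe_subtype] at hce
    have hcomm : (g * x * g⁻¹) * g₀ = g₀ * (g * x * g⁻¹) := by
      rw [← hce]
      exact (Subgroup.mem_centralizer_singleton_iff.1 hc)
    have hord : ∃ k : ℕ, orderOf (g * x * g⁻¹) = p ^ k := by
      rw [orderOf_conj']; exact hx
    refine ⟨(g * x * g⁻¹) * g₀, ⟨g * x * g⁻¹, ⟨g₀, rfl, hcomm, hord,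
      not_dvd_orderOf_of_isDefectClass hM hB hg₀⟩, isConj_iff.2 ⟨g, rfl⟩⟩, ?_⟩
    exact irr_ne_zero_of_height_zero hM hB hχ h0 hg₀ hord hcomm
  · rintro ⟨u, ⟨z, hz, hxz⟩, hu⟩
    by_contra hno
    apply hu
    apply irr_eq_zero_of_pPart_not_mem_defectGroup hM χ hz
    intro D' hD' hzD'
    rw [← eq_blockOf_of_mem hMp hB hχ] at hD'
    obtain ⟨t, ht⟩ := exists_conj_eq_of_isDefectGroup hM hB hD hD'
    obtain ⟨c, hc⟩ := isConj_iff.1 hxz
    apply hno
    refine ⟨t * c, ?_⟩
    rw [← ht]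
    refine ⟨z, hzD', ?_⟩
    rw [← hc]
    simp only [MulEquiv.coe_toMonoidHom, MulAut.conj_apply]
    group

end Cfsg.Agent.S0926
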