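import Mathlib
import Cfsg.Statements.S0927
import Cfsg.Agent.Lib.Helper8.BlockCenterDefect3
import Cfsg.Agent.Lib.Helper8.CharPPart
import Cfsg.Agent.Lib.Helper8.BlockDefectBounds

set_option autoImplicit false
open Cfsg

namespace Cfsg.Agent.S0927

open scoped ComplexConjugate
open Cfsg.Agent.Lib.Helper1 Cfsg.Agent.Lib.Helper4 Cfsg.Agent.Lib.Helper8

/-- Let B be a block of the finite group G relative to a maximal ideal M of the algebraic integers containing p, let y represent a defect class of B and let P be a Sylow p-subgroup of the centralizer of y. (a) If x ∈ P and χ ∈ B has height zero, then χ (x * y) is not in the local ideal at M. (b) If x lies in the centre of P, then for every χ ∈ B the central character of χ at x * y is not in the local ideal at M. -/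
theorem result {G : Type*} [Group G] [Finite G] (p : ℕ) [Fact p.Prime] (M : Ideal Cfsg.AlgInt) (hM : Cfsg.IsPModular p M) (B : Set (Cfsg.IrrCharacter G)) (hB : Cfsg.IsPBlock M B) (y : G) (hy : Cfsg.IsDefectClass M B y) (P : Sylow p (Subgroup.centralizer ({y} : Set G))) (x : Subgroup.centralizer ({y} : Set G)) (hx : x ∈ (P : Subgroup (Subgroup.centralizer ({y} : Set G)))) : (∀ χ ∈ B, Cfsg.blockHeight p B (χ : G → ℂ) = 0 → ¬ Cfsg.MemLocalIdeal M ((χ : G → ℂ) ((x : G) * y))) ∧ ((∀ w ∈ (P : Subgroup (Subgroup.centralizer ({y} : Set G))), x * w = w * x) → ∀ χ ∈ B, ¬ Cfsg.MemLocalIdeal M (Cfsg.centralChar (χ : G → ℂ) ((x : G) * y))) := by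
  classical
  have : Fintype G := Fintype.ofFinite G
  have hMp := isPModular_isPrime hM
  have hp : p.Prime := hM.1
  constructor
  · intro χ hχ hht hmem
    -- x is a p-element commuting with y
    obtain ⟨k, hk⟩ := (IsPGroup.iff_orderOf.1 P.isPGroup') ⟨x, hx⟩
    have hxk : (x : G) ^ (p ^ k) = 1 := by
      have h1 : (⟨x, hx⟩ : (P : Subgroup (Subgroup.centralizer ({y} : Set G)))) ^ (p ^ k) = 1 := by
        rw [← hk]
        exact pow_orderOf_eq_one _
      have h2 := congrArg (fun t : (P : Subgroup (Subgroup.centralizer ({y} : Set G))) =>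
        ((t : Subgroup.centralizer ({y} : Set G)) : G)) h1
      simpa using h2
    have hxy : (x : G) * y = y * (x : G) := by
      have := x.2
      rw [Subgroup.mem_centralizer_singleton_iff] at this
      exact this
    have h1 := memLocalIdeal_char_mul_sub hM (isCharacter_of_irr χ.2) (x : G) y k hxk hxy
    have h2 : MemLocalIdeal M ((χ : G → ℂ) y) := by
      have := memLocalIdeal_sub hMp hmem h1
      rwa [sub_sub_cancel] at this
    apply hy.2.2 χ hχ
    -- the central character at y
    have hdeg := irr_apply_one_eq_charDegree χ.2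
    have hidx0 : (Subgroup.centralizer ({y} : Set G)).index ≠ 0 := Subgroup.index_ne_zero_of_finite
    have hval : (charDegree (χ : G → ℂ)).factorization p ≤
        ((Subgroup.centralizer ({y} : Set G)).index).factorization p := by
      have h3 := factorization_card_centralizer_of_isDefectClass hM hB hy
      have h4 := Subgroup.card_mul_index (Subgroup.centralizer ({y} : Set G))
      have h5 := congrArg (fun k => k.factorization p) h4
      simp only [Nat.factorization_mul Nat.card_pos.ne' hidx0, Finsupp.coe_add,
        Pi.add_apply] at h5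
      have h6 : sInf ((fun ψ : IrrCharacter G => (charDegree (ψ : G → ℂ)).factorization p) '' B) ≤
          (charDegree (χ : G → ℂ)).factorization p := Nat.sInf_le ⟨χ, hχ, rfl⟩
      have h7 : (charDegree (χ : G → ℂ)).factorization p ≤ (Nat.card G).factorization p :=
        (Nat.factorization_le_iff_dvd hdeg.2.ne' Nat.card_pos.ne').2 (charDegree_dvd_card χ.2) p
      unfold blockHeight at hht
      unfold blockDefect at h3
      omega
    have hloc := memLocalRing_natCast_div hM hidx0 hdeg.2.ne' hval
    have : centralChar (χ : G → ℂ) y = (((Subgroup.centralizer ({y} : Set G)).index : ℂ) /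
        (charDegree (χ : G → ℂ) : ℂ)) * (χ : G → ℂ) y := by
      unfold centralChar
      rw [hdeg.1]
      ring
    rw [this]
    exact memLocalIdeal_mul_left hMp hloc h2
  · intro hxc χ hχ
    have hz : (x : G) ∈ (P : Subgroup (Subgroup.centralizer ({y} : Set G))).map
        (Subgroup.centralizer ({y} : Set G)).subtype := ⟨x, hx, rfl⟩
    have hzc : ∀ w ∈ (P : Subgroup (Subgroup.centralizer ({y} : Set G))).map
        (Subgroup.centralizer ({y} : Set G)).subtype, (x : G) * w = w * (x : G) := by
      rintro _ ⟨w, hw, rfl⟩
      exact congrArg Subtype.val (hxc w hw)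
    obtain ⟨χ₀, hχ₀, hunit⟩ := exists_unit_centralChar_mul_center hM hB hy P hz hzc
    intro hmem
    apply hunit
    have hs : SameBlock M (χ : G → ℂ) (χ₀ : G → ℂ) := by
      have := eq_blockOf_of_mem hMp hB hχ
      rw [this] at hχ₀
      exact hχ₀
    have := memLocalIdeal_sub hMp hmem (hs ((x : G) * y))
    rwa [sub_sub_cancel] at this

end Cfsg.Agent.S0927
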