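import Mathlib
import Cfsg.Statements.S0931
import Cfsg.Agent.Lib.Helper8.BlockCenterDefect3

set_option autoImplicit false
open Cfsg

namespace Cfsg.Agent.S0931

open scoped ComplexConjugate
open Cfsg.Agent.Lib.Helper1 Cfsg.Agent.Lib.Helper4 Cfsg.Agent.Lib.Helper8

/-- Let H be a subgroup of the finite group G and fix a maximal ideal M of the algebraic integers containing the prime p. If the block b of H induces the block B of G, then b has defect 0 if and only if B has defect 0. -/
theorem result {G : Type*} [Group G] [Finite G] (p : ℕ) [Fact p.Prime] (M : Ideal Cfsg.AlgInt) (hM : Cfsg.IsPModular p M) (H : Subgroup G) (b : Set (Cfsg.IrrCharacter H)) (B : Set (Cfsg.IrrCharacter G)) (hind : Cfsg.IsInducedBlock M H b B) : Cfsg.blockDefect p b = 0 ↔ Cfsg.blockDefect p B = 0 := by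
  classical
  have : Fintype G := Fintype.ofFinite G
  have hp : p.Prime := Fact.out
  have hMp := isPModular_isPrime hM
  have hb := hind.1
  have hB := hind.2.1
  obtain ⟨D, hD⟩ := exists_isDefectGroup (p := p) hMp hb
  obtain ⟨P, hP⟩ := exists_isDefectGroup (p := p) hMp hB
  have hDc := card_of_isDefectGroup hM hb hD
  have hPc := card_of_isDefectGroup hM hB hP
  constructor
  · intro h0
    rw [h0, pow_zero] at hDc
    have hDbot : D = ⊥ := Subgroup.card_eq_one.1 hDc
    have hPp := isPGroup_of_isDefectGroup hP
    have hPtriv : Nat.card P = 1 := by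
      by_contra hne
      have hnt : Nontrivial P := by
        rw [← Finite.one_lt_card_iff_nontrivial]
        have := Nat.card_pos (α := P)
        omega
      have hcnt := hPp.center_nontrivial
      obtain ⟨c, hc⟩ := exists_ne (1 : Subgroup.center P)
      apply hc
      have hcx : ((c : P) : G) ∈ P := (c : P).2
      have hcc : ∀ w ∈ P, ((c : P) : G) * w = w * ((c : P) : G) := by
        intro w hw
        have := Subgroup.mem_center_iff.1 c.2 ⟨w, hw⟩
        exact (congrArg Subtype.val this).symm
      obtain ⟨g, hg, _⟩ := exists_conj_mem_center_of_induced hM H hind hD hP hcx hcc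
      rw [hDbot, Subgroup.map_bot, Subgroup.mem_bot] at hg
      have h1 : ((c : P) : G) = 1 := by
        have : ((c : P) : G) = g⁻¹ * (g * ((c : P) : G) * g⁻¹) * g := by group
        rw [this, hg]
        group
      apply Subtype.ext
      apply Subtype.ext
      exact h1
    rw [hPtriv] at hPc
    by_contra hne
    have : 1 < p ^ Cfsg.blockDefect p B := Nat.one_lt_pow hne hp.one_lt
    omega
  · intro h0
    obtain ⟨E, hE, hDE⟩ := exists_defectGroup_ge_of_induced hM H hind hD
    have hEc := card_of_isDefectGroup hM hB hE
    rw [h0, pow_zero] at hEc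
    have hEbot : E = ⊥ := Subgroup.card_eq_one.1 hEc
    rw [hEbot, le_bot_iff] at hDE
    have hDbot : D = ⊥ := by
      rw [← Subgroup.map_eq_bot_iff_of_injective D (Subgroup.subtype_injective H)]
      exact hDE
    rw [hDbot, Subgroup.card_bot] at hDc
    by_contra hne
    have : 1 < p ^ Cfsg.blockDefect p b := Nat.one_lt_pow hne hp.one_lt
    omega

end Cfsg.Agent.S0931
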