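import Mathlib
-- Template for statement S0943 (row 943; see /opt/grader/pristine/manifest.json for weights).
-- Copy to Cfsg/Agent/S0943.lean and replace the sorry. The statement below is byte-identical to the frozen
-- statement Cfsg.CfsgFrozen.S0943 (Cfsg/Statements/S0943.lean; the theorem Cfsg.irreducible_character_multiplicative_on_constant_class_product);
-- the grader kernel-checks Cfsg.Agent.S0943.result against that frozen type. Keep the theorem IN THIS FILE
-- (a `result` declared elsewhere and merely imported here is not credited); helpers may live anywhere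
-- under Cfsg/Agent/.
import Cfsg.Statements.S0943
import Cfsg.Agent.Lib.Helper1.CharInt

set_option autoImplicit false
open Cfsg
open Cfsg.Agent.Lib.Helper1 Cfsg.Agent.Lib.Helper4

namespace Cfsg.Agent.S0943

/-- Let χ be an irreducible character of the finite group G and u, v ∈ G. If χ (x * y) = χ (u * v) whenever x is conjugate to u and y is conjugate to v, then χ u * χ v = χ 1 * χ (u * v). (Multiply the class sums of u and v and apply the central character of χ.) -/
theorem result {G : Type*} [Group G] [Finite G] (χ : Cfsg.IrrCharacter G) (u v : G) (hc : ∀ x y : G, IsConj u x → IsConj v y → (χ : G → ℂ) (x * y) = (χ : G → ℂ) (u * v)) : (χ : G → ℂ) u * (χ : G → ℂ) v = (χ : G → ℂ) 1 * (χ : G → ℂ) (u * v) := by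
  classical
  let _ : Fintype G := Fintype.ofFinite G
  obtain ⟨n, ρ, hirr, hρ⟩ := χ.2
  have := hirr
  set f : G → ℂ := fun g => if IsConj v g then 1 else 0 with hf
  have hfc : IsClassFunction G f := by
    intro g h
    simp only [hf]
    have : IsConj v (h * g * h⁻¹) ↔ IsConj v g := by
      constructor
      · intro h1
        exact h1.trans (isConj_iff.mpr ⟨h⁻¹, by group⟩)
      · intro h1
        exact h1.trans (isConj_iff.mpr ⟨h, rfl⟩)
    simp only [this]
  have h1 := opSum_eq_smul_id ρ f hfc
  -- trace of `ρ u ∘ opSum`
  have h2 : LinearMap.trace ℂ _ (ρ u * opSum ρ f) = ∑ g, f g * ρ.character (u * g) := by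
    unfold opSum Representation.character
    rw [Finset.mul_sum, map_sum]
    apply Finset.sum_congr rfl
    intro g _
    rw [mul_smul_comm, map_smul, smul_eq_mul, ← map_mul ρ u g]
  have hk : (∑ g, f g) ≠ 0 := by
    have : (∑ g, f g) = ((Finset.univ.filter (fun g => IsConj v g)).card : ℂ) := by
      simp only [hf]
      rw [Finset.sum_ite, Finset.sum_const_zero, add_zero, Finset.sum_const, nsmul_eq_mul, mul_one]
    rw [this, Nat.cast_ne_zero]
    apply Finset.card_ne_zero_of_mem (a := v)
    simp only [Finset.mem_filter, Finset.mem_univ, true_and]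
    exact IsConj.refl v
  have h3 : ∑ g, f g * ρ.character (u * g) = (∑ g, f g) * (χ : G → ℂ) (u * v) := by
    rw [Finset.sum_mul]
    apply Finset.sum_congr rfl
    intro g _
    by_cases hg : IsConj v g
    · rw [hρ, hc u g (IsConj.refl u) hg]
    · simp only [hf, if_neg hg, zero_mul]
  have h4 : ∑ g, f g * ρ.character g = (∑ g, f g) * (χ : G → ℂ) v := by
    rw [Finset.sum_mul]
    apply Finset.sum_congr rfl
    intro g _
    by_cases hg : IsConj v g
    · obtain ⟨c, hc'⟩ := isConj_iff.mp hg
      rw [← hc', Representation.char_conj, hρ]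
    · simp only [hf, if_neg hg, zero_mul]
  have h5 : LinearMap.trace ℂ _ (ρ u * opSum ρ f) =
      ((∑ g, f g * ρ.character g) / (Module.finrank ℂ (Fin n → ℂ) : ℂ)) * ρ.character u := by
    rw [h1, mul_smul_comm, map_smul, smul_eq_mul]
    congr 1
  have h6 : (χ : G → ℂ) 1 = (Module.finrank ℂ (Fin n → ℂ) : ℂ) := by
    rw [← hρ, Representation.char_one]
  have hn := finrank_ne_zero_of_irreducible ρ
  rw [h2, h3, h4, hρ] at h5
  rw [h6]
  have h7 := h5
  field_simp at h7
  linear_combination -h7

end Cfsg.Agent.S0943
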