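import Mathlib
-- Template for statement S0946 (row 946; see /opt/grader/pristine/manifest.json for weights).
-- Copy to Cfsg/Agent/S0946.lean and replace the sorry. The statement below is byte-identical to the frozen
-- statement Cfsg.CfsgFrozen.S0946 (Cfsg/Statements/S0946.lean; the theorem Cfsg.homocyclic_sylow_two_complement_or_one_involution_class);
-- the grader kernel-checks Cfsg.Agent.S0946.result against that frozen type. Keep the theorem IN THIS FILE
-- (a `result` declared elsewhere and merely imported here is not credited); helpers may live anywhere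
-- under Cfsg/Agent/.
import Cfsg.Statements.S0946
import Cfsg.Agent.Lib.Helper3.Ord168_1
import Cfsg.Agent.Lib.Helper3.WrAut1
import Cfsg.Agent.Lib.Helper3.Homocyclic1
import Cfsg.Agent.Lib.Helper6.Conj

set_option autoImplicit false
open Cfsg
open Subgroup Cfsg.Agent.Lib.Helper3 Cfsg.Agent.Lib.Helper6 Cfsg.Agent.Lib.Helper3.Homocyclic

namespace Cfsg.Agent.S0946

/-- Let P be a Sylow 2-subgroup of the finite group G isomorphic to Z/2^m × Z/2^m with m ≥ 1. Then either P has a normal complement in G, or all involutions of G are conjugate. -/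
theorem result {G : Type*} [Group G] [Finite G] (P : Sylow 2 G) (m : ℕ) (hm : 1 ≤ m) (e : (P : Subgroup G) ≃* Multiplicative (ZMod (2 ^ m) × ZMod (2 ^ m))) : (∃ N : Subgroup G, N.Normal ∧ Subgroup.IsComplement' N (P : Subgroup G)) ∨ ∀ s t : G, orderOf s = 2 → orderOf t = 2 → IsConj s t := by
  classical
  have hcomm : ∀ a ∈ (P : Subgroup G), ∀ b ∈ (P : Subgroup G), a * b = b * a := by
    intro a ha b hb
    have h1 : e (⟨a, ha⟩ * ⟨b, hb⟩) = e (⟨b, hb⟩ * ⟨a, ha⟩) := by
      rw [map_mul, map_mul, mul_comm]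
    have h2 := e.injective h1
    exact congrArg Subtype.val h2
  set h : ZMod (2 ^ m) := ((2 ^ (m - 1) : ℕ) : ZMod (2 ^ m)) with hh
  -- the coordinates of an element of `P` of square one
  let c : ↥(P : Subgroup G) → ZMod (2 ^ m) × ZMod (2 ^ m) := fun x => Multiplicative.toAdd (e x)
  have hcinj : Function.Injective c := fun x y hxy => e.injective (Multiplicative.toAdd.injective hxy)
  let S4 : Finset (ZMod (2 ^ m) × ZMod (2 ^ m)) := {(0, 0), (h, 0), (0, h), (h, h)}
  have hS4 : ∀ x : ↥(P : Subgroup G), (x : G) * (x : G) = 1 → c x ∈ S4 := by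
    intro x hx
    have h1 : x * x = 1 := Subtype.ext hx
    have h2 : c x + c x = 0 := by
      have := congrArg (fun y => Multiplicative.toAdd (e y)) h1
      simpa [c, map_mul] using this
    have h3 : 2 * (c x).1 = 0 := by
      have := congrArg Prod.fst h2
      simpa [two_mul] using this
    have h4 : 2 * (c x).2 = 0 := by
      have := congrArg Prod.snd h2
      simpa [two_mul] using this
    have hx' : c x = ((c x).1, (c x).2) := rfl
    rw [hx']
    simp only [S4, Finset.mem_insert, Finset.mem_singleton, Prod.mk.injEq]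
    rcases zmod_two_torsion m hm _ h3 with h5 | h5 <;> rcases zmod_two_torsion m hm _ h4 with h6 | h6
    · left; exact ⟨h5, h6⟩
    · right; right; left; exact ⟨h5, h6⟩
    · right; left; exact ⟨h5, h6⟩
    · right; right; right; exact ⟨h5, h6⟩
  have hΩ : ∀ t t₁ t₂ : G, t ∈ (P : Subgroup G) → t₁ ∈ (P : Subgroup G) → t₂ ∈ (P : Subgroup G) →
      t * t = 1 → t₁ * t₁ = 1 → t₂ * t₂ = 1 → t ≠ 1 → t₁ ≠ 1 → t₂ ≠ 1 → t ≠ t₁ → t ≠ t₂ → t₁ ≠ t₂ →
      ∀ s ∈ (P : Subgroup G), s * s = 1 → s ≠ 1 → s = t ∨ s = t₁ ∨ s = t₂ := by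
    intro t t₁ t₂ ht ht₁ ht₂ htt ht₁t ht₂t h1 h2 h3 h4 h5 h6 s hs hss hs1
    let F : Finset ↥(P : Subgroup G) := {1, ⟨t, ht⟩, ⟨t₁, ht₁⟩, ⟨t₂, ht₂⟩}
    have hFcard : F.card = 4 := by
      simp only [F]
      rw [Finset.card_insert_of_notMem, Finset.card_insert_of_notMem, Finset.card_insert_of_notMem,
        Finset.card_singleton]
      · simp only [Finset.mem_singleton, Subtype.mk.injEq]; exact h6
      · simp only [Finset.mem_insert, Finset.mem_singleton, Subtype.mk.injEq]
        push Not; exact ⟨h4, h5⟩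
      · simp only [Finset.mem_insert, Finset.mem_singleton]
        push Not
        refine ⟨?_, ?_, ?_⟩
        · intro hh'; exact h1 (congrArg Subtype.val hh').symm
        · intro hh'; exact h2 (congrArg Subtype.val hh').symm
        · intro hh'; exact h3 (congrArg Subtype.val hh').symm
    have hsub : F.image c ⊆ S4 := by
      intro v hv
      rw [Finset.mem_image] at hv
      obtain ⟨x, hx, rfl⟩ := hv
      apply hS4
      simp only [F, Finset.mem_insert, Finset.mem_singleton] at hx
      rcases hx with rfl | rfl | rfl | rfl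
      · simp
      · exact htt
      · exact ht₁t
      · exact ht₂t
    have hcard : S4.card ≤ (F.image c).card := by
      rw [Finset.card_image_of_injective _ hcinj, hFcard]
      exact Finset.card_le_four
    have heq := Finset.eq_of_subset_of_card_le hsub hcard
    have hmem : c ⟨s, hs⟩ ∈ F.image c := by rw [heq]; exact hS4 ⟨s, hs⟩ hss
    rw [Finset.mem_image] at hmem
    obtain ⟨x, hx, hxs⟩ := hmem
    have hxs' : x = ⟨s, hs⟩ := hcinj hxs
    simp only [F, Finset.mem_insert, Finset.mem_singleton] at hx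
    rcases hx with rfl | rfl | rfl | rfl
    · exact absurd (congrArg Subtype.val hxs').symm hs1
    · left; exact (congrArg Subtype.val hxs').symm
    · right; left; exact (congrArg Subtype.val hxs').symm
    · right; right; exact (congrArg Subtype.val hxs').symm
  by_cases hB : ∀ n ∈ normalizer ((P : Subgroup G) : Set G), ∀ k : ℕ, k.Coprime 2 → n ^ k = 1 →
      ∀ t ∈ (P : Subgroup G), t * t = 1 → n * t * n⁻¹ = t
  · left
    have hle : normalizer ((P : Subgroup G) : Set G) ≤ centralizer ((P : Subgroup G) : Set G) := by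
      intro g hg
      obtain ⟨a, k, hk, hak⟩ := Nat.exists_eq_two_pow_mul_odd (orderOf_pos g).ne'
      have hkc : k.Coprime 2 := Nat.coprime_comm.mp (Nat.coprime_two_left.mpr hk)
      -- 2-part
      have h2 : g ^ k ∈ centralizer ((P : Subgroup G) : Set G) := by
        have hN : g ^ k ∈ normalizer ((P : Subgroup G) : Set G) := Subgroup.pow_mem _ hg k
        have hpow : (g ^ k) ^ 2 ^ a = 1 := by
          rw [← pow_mul, mul_comm, ← hak]; exact pow_orderOf_eq_one g
        have hP := Ord168.mem_sylow_of_mem_normalizer P hN hpow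
        rw [Subgroup.mem_centralizer_iff]
        intro y hy
        exact hcomm y hy _ hP
      -- odd part
      have h3 : g ^ 2 ^ a ∈ centralizer ((P : Subgroup G) : Set G) := by
        have hN : g ^ 2 ^ a ∈ normalizer ((P : Subgroup G) : Set G) := Subgroup.pow_mem _ hg _
        have hpow : (g ^ 2 ^ a) ^ k = 1 := by
          rw [← pow_mul, ← hak]; exact pow_orderOf_eq_one g
        have hβ : (MulAut.conj (g ^ 2 ^ a)) ^ k = 1 := by
          rw [← map_pow, hpow, map_one]
        have hfix := aut_fix_of_omega (MulAut.conj (g ^ 2 ^ a)) k hβ hkc (P : Subgroup G) hcomm P.2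
          (fun u hu => by
            rw [MulAut.conj_apply]
            exact (Subgroup.mem_normalizer_iff.mp hN u).mp hu)
          (fun u hu huu => by
            rw [MulAut.conj_apply]
            exact hB _ hN k hkc hpow u hu huu)
        rw [Subgroup.mem_centralizer_iff]
        intro y hy
        have := hfix y hy
        rw [MulAut.conj_apply] at this
        calc y * g ^ 2 ^ a = (g ^ 2 ^ a * y * (g ^ 2 ^ a)⁻¹) * g ^ 2 ^ a := by rw [this]
          _ = g ^ 2 ^ a * y := by group
      have hcop : Nat.Coprime k (2 ^ a) := Nat.Coprime.pow_right a hkc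
      have hbez := Nat.gcd_eq_gcd_ab k (2 ^ a)
      rw [hcop.gcd_eq_one] at hbez
      have hg1 : g = (g ^ k) ^ (Nat.gcdA k (2 ^ a)) * (g ^ 2 ^ a) ^ (Nat.gcdB k (2 ^ a)) := by
        rw [← zpow_natCast g k, ← zpow_natCast g (2 ^ a), ← zpow_mul, ← zpow_mul, ← zpow_add]
        have : ((k : ℕ) : ℤ) * Nat.gcdA k (2 ^ a) + ((2 ^ a : ℕ) : ℤ) * Nat.gcdB k (2 ^ a) = 1 := by
          rw [← hbez]; simp
        rw [this, zpow_one]
      rw [hg1]
      exact Subgroup.mul_mem _ (Subgroup.zpow_mem _ h2 _) (Subgroup.zpow_mem _ h3 _)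
    exact ⟨(MonoidHom.transferSylow P hle).ker, inferInstance,
      MonoidHom.ker_transferSylow_isComplement' P hle⟩
  · right
    push Not at hB
    obtain ⟨n, hn, k, hk, hnk, t, htP, htt, hne⟩ := hB
    have hconjP : ∀ u ∈ (P : Subgroup G), n * u * n⁻¹ ∈ (P : Subgroup G) := fun u hu =>
      (Subgroup.mem_normalizer_iff.mp hn u).mp hu
    have ht1 : t ≠ 1 := by
      rintro rfl
      apply hne; group
    set t₁ := n * t * n⁻¹ with ht₁
    set t₂ := n * t₁ * n⁻¹ with ht₂
    have ht₁P : t₁ ∈ (P : Subgroup G) := hconjP t htP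
    have ht₂P : t₂ ∈ (P : Subgroup G) := hconjP t₁ ht₁P
    have hsq : ∀ u : G, u * u = 1 → (n * u * n⁻¹) * (n * u * n⁻¹) = 1 := by
      intro u hu
      calc (n * u * n⁻¹) * (n * u * n⁻¹) = n * (u * u) * n⁻¹ := by group
        _ = 1 := by rw [hu]; group
    have hne1 : ∀ u : G, u ≠ 1 → n * u * n⁻¹ ≠ 1 := by
      intro u hu hh'
      apply hu
      calc u = n⁻¹ * (n * u * n⁻¹) * n := by group
        _ = 1 := by rw [hh']; group
    have h12 : t₁ ≠ t₂ := by
      intro hh'
      apply hne
      have e1 : t = n⁻¹ * t₁ * n := by rw [ht₁]; group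
      have e2 : n⁻¹ * t₁ * n = t₁ := by
        calc n⁻¹ * t₁ * n = n⁻¹ * t₂ * n := by rw [← hh']
          _ = t₁ := by rw [ht₂]; group
      exact (e1.trans e2).symm
    have h02 : t ≠ t₂ := by
      intro hh'
      apply hne
      -- n² commutes with t, hence so does n
      have hc2 : Commute (n ^ 2) t := by
        show n ^ 2 * t = t * n ^ 2
        have : n ^ 2 * t * (n ^ 2)⁻¹ = t := by
          calc n ^ 2 * t * (n ^ 2)⁻¹ = n * (n * t * n⁻¹) * n⁻¹ := by rw [pow_two]; group
            _ = t := hh'.symm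
        calc n ^ 2 * t = (n ^ 2 * t * (n ^ 2)⁻¹) * n ^ 2 := by group
          _ = t * n ^ 2 := by rw [this]
      obtain ⟨j, hj⟩ : ∃ j, k + 1 = 2 * j := by
        have : k % 2 = 1 := Nat.odd_iff.mp (Nat.coprime_two_right.mp hk)
        exact ⟨(k + 1) / 2, by omega⟩
      have hn' : n = (n ^ 2) ^ j := by
        rw [← pow_mul, ← hj, pow_succ, hnk, one_mul]
      have hc : Commute n t := by rw [hn']; exact hc2.pow_left j
      calc n * t * n⁻¹ = t * n * n⁻¹ := by rw [hc.eq]
        _ = t := by group
    have hall : ∀ s : G, orderOf s = 2 → IsConj t s := by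
      intro s hs
      have hs2 : s * s = 1 := by rw [← pow_two, ← hs]; exact pow_orderOf_eq_one s
      have hs1 : s ≠ 1 := by
        rintro rfl
        rw [orderOf_one] at hs; omega
      have hsp : IsPGroup 2 (zpowers s) := by
        rw [IsPGroup.iff_card]
        exact ⟨1, by rw [Nat.card_zpowers, hs, pow_one]⟩
      obtain ⟨g, hg⟩ := exists_map_conj_le_sylow P hsp
      have hgs : g * s * g⁻¹ ∈ (P : Subgroup G) := hg ⟨s, mem_zpowers s, rfl⟩
      have hgs2 : (g * s * g⁻¹) * (g * s * g⁻¹) = 1 := by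
        calc (g * s * g⁻¹) * (g * s * g⁻¹) = g * (s * s) * g⁻¹ := by group
          _ = 1 := by rw [hs2]; group
      have hgs1 : g * s * g⁻¹ ≠ 1 := by
        intro hh'
        apply hs1
        calc s = g⁻¹ * (g * s * g⁻¹) * g := by group
          _ = 1 := by rw [hh']; group
      have hcs : IsConj s (g * s * g⁻¹) := isConj_iff.mpr ⟨g, rfl⟩
      have h01 : t ≠ t₁ := fun hh' => hne hh'.symm
      rcases hΩ t t₁ t₂ htP ht₁P ht₂P htt (hsq t htt) (hsq t₁ (hsq t htt)) ht1 (hne1 t ht1)
        (hne1 t₁ (hne1 t ht1)) h01 h02 h12 _ hgs hgs2 hgs1 with h' | h' | h'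
      · rw [h'] at hcs; exact hcs.symm
      · rw [h'] at hcs
        exact (isConj_iff.mpr ⟨n, rfl⟩ : IsConj t t₁).trans hcs.symm
      · rw [h'] at hcs
        have : IsConj t t₂ := (isConj_iff.mpr ⟨n, rfl⟩ : IsConj t t₁).trans (isConj_iff.mpr ⟨n, rfl⟩)
        exact this.trans hcs.symm
    intro s s' hs hs'
    exact (hall s hs).symm.trans (hall s' hs')

end Cfsg.Agent.S0946
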