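import Cfsg.Statements.S0949
import Mathlib
import Cfsg.Agent.Lib.Helper7.BH8
-- import your own Cfsg.Agent.* helpers here

set_option autoImplicit false
open Cfsg

namespace Cfsg.Agent.S0949

/-- Let the finite group G have a Sylow 2-subgroup P isomorphic to Z/2^m × Z/2^m with m ≥ 2, and suppose G has no nontrivial normal subgroup of odd order. Then P is normal in G, C_G(P) = P, and the index of P is 1 or 3. -/
theorem result {G : Type*} [Group G] [Finite G] (P : Sylow 2 G) (m : ℕ) (hm : 2 ≤ m) (e : (P : Subgroup G) ≃* Multiplicative (ZMod (2 ^ m) × ZMod (2 ^ m))) (hO : ∀ N : Subgroup G, N.Normal → Odd (Nat.card N) → N = ⊥) : (P : Subgroup G).Normal ∧ Subgroup.centralizer (P : Set G) = (P : Subgroup G) ∧ ((P : Subgroup G).index = 1 ∨ (P : Subgroup G).index = 3) := by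
  haveI : Fact (Nat.Prime 2) := ⟨Nat.prime_two⟩
  have hab : ∀ a ∈ (P : Subgroup G), ∀ b ∈ (P : Subgroup G), a * b = b * a := by
    intro a ha b hb
    have h1 : (⟨a, ha⟩ : ↥(P : Subgroup G)) * ⟨b, hb⟩ = ⟨b, hb⟩ * ⟨a, ha⟩ := by
      apply e.injective
      rw [map_mul, map_mul, mul_comm]
    exact congrArg Subtype.val h1
  have hcard : Nat.card ↥(P : Subgroup G) = (2 ^ m) ^ 2 := by
    haveI : NeZero (2 ^ m) := ⟨by positivity⟩
    rw [Nat.card_congr e.toEquiv]
    show Nat.card (ZMod (2 ^ m) × ZMod (2 ^ m)) = _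
    rw [Nat.card_prod, Nat.card_zmod, sq]
  have h4 : 2 ^ 2 ≤ 2 ^ m := Nat.pow_le_pow_right (by norm_num) hm
  have h16 : 16 ≤ Nat.card ↥(P : Subgroup G) := by
    rw [hcard]
    nlinarith
  obtain ⟨h13, hfrob⟩ := Cfsg.Agent.S0945.result P m (by omega) e
  rcases h13 with h1 | h3
  · -- Burnside transfer
    have hNC : Subgroup.normalizer ((P : Subgroup G) : Set G) ≤
        Subgroup.centralizer ((P : Subgroup G) : Set G) := Subgroup.relIndex_eq_one.mp h1
    have hcomp := MonoidHom.ker_transferSylow_isComplement' P hNC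
    have hidx := hcomp.index_eq_card
    have hodd : Odd (Nat.card (MonoidHom.transferSylow P hNC).ker) := by
      rw [← hidx, ← Nat.not_even_iff_odd, even_iff_two_dvd]
      exact P.not_dvd_index
    have hbot := hO _ (MonoidHom.normal_ker _) hodd
    rw [hbot, Subgroup.card_bot] at hidx
    have htop : (P : Subgroup G) = ⊤ := Subgroup.index_eq_one.mp hidx
    refine ⟨?_, ?_, Or.inl hidx⟩
    · rw [htop]
      infer_instance
    · apply le_antisymm
      · intro g _
        rw [htop]
        trivial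
      · intro a ha
        exact Subgroup.mem_centralizer_iff.mpr fun b hb => hab b hb a ha
  · have h : Cfsg.Agent.Lib.Helper7.BL.Hyp 2 P :=
      ⟨hab, fun y hy hy1 => hfrob (by rw [h3]; norm_num) y hy hy1⟩
    set y₀ : ↥(P : Subgroup G) := e.symm (Multiplicative.ofAdd ((1 : ZMod (2 ^ m)), (0 : ZMod (2 ^ m))))
      with hy₀def
    have hy₀ : y₀ * y₀ ≠ 1 := by
      intro h0
      have h5 := congrArg e h0
      rw [map_mul, map_one, hy₀def, MulEquiv.apply_symm_apply, ← ofAdd_add] at h5
      have h6 : ((1 : ZMod (2 ^ m)), (0 : ZMod (2 ^ m))) + (1, 0) = 0 := by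
        exact Multiplicative.ofAdd.injective h5
      have h7 := congrArg Prod.fst h6
      simp only [Prod.fst_add, Prod.fst_zero] at h7
      have h8 : ((2 : ℕ) : ZMod (2 ^ m)) = 0 := by
        rw [← h7]
        push_cast
        norm_num
      rw [ZMod.natCast_eq_zero_iff] at h8
      have := Nat.le_of_dvd (by norm_num) h8
      omega
    obtain ⟨hn, hc, hi⟩ := Cfsg.Agent.Lib.Helper7.BH.case_three P h h3 h16 y₀ hy₀ hO
    exact ⟨hn, hc, Or.inr hi⟩

end Cfsg.Agent.S0949
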