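import Mathlib
import Cfsg.Statements.S0952
import Cfsg.Agent.Lib.Helper8.BlockRank

set_option autoImplicit false
open scoped ComplexConjugate
open Cfsg

namespace Cfsg.Agent.S0952

open scoped ComplexConjugate
open Cfsg.Agent.Lib.Helper1 Cfsg.Agent.Lib.Helper4 Cfsg.Agent.Lib.Helper8

/-- Let χ and ψ be irreducible characters of the finite group G lying in different blocks relative to a maximal ideal M of the algebraic integers containing the prime p. Then the sum of χ x * conj (ψ x) over the elements x of order prime to p is zero. -/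
theorem result {G : Type*} [Group G] [Finite G] (p : ℕ) [Fact p.Prime] (M : Ideal Cfsg.AlgInt) (hM : Cfsg.IsPModular p M) (χ ψ : Cfsg.IrrCharacter G) (h : ¬ Cfsg.SameBlock M (χ : G → ℂ) (ψ : G → ℂ)) : ∑ᶠ x ∈ {x : G | ¬ p ∣ orderOf x}, (χ : G → ℂ) x * conj ((ψ : G → ℂ) x) = 0 := by
  classical
  have : Fintype G := Fintype.ofFinite G
  have h1 := classInner_pRegularPart_eq_zero hM h
  unfold Cfsg.classInner at h1
  have hne : (Nat.card G : ℂ)⁻¹ ≠ 0 := by
    apply inv_ne_zero
    exact_mod_cast Nat.card_pos.ne'
  have h2 := (mul_eq_zero.1 h1).resolve_left hne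
  rw [← h2, finsum_mem_eq_finite_toFinset_sum _ (Set.toFinite _)]
  rw [← Finset.sum_subset (Finset.subset_univ _)]
  · apply Finset.sum_congr rfl
    intro x hx
    rw [Set.Finite.mem_toFinset] at hx
    rw [pRegularPart_of_not_dvd _ hx]
  · intro x _ hx
    rw [Set.Finite.mem_toFinset] at hx
    have hx' : p ∣ orderOf x := by
      by_contra h3
      exact hx h3
    rw [pRegularPart_of_dvd _ hx', zero_mul]

end Cfsg.Agent.S0952
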