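import Mathlib
import Cfsg.Statements.S0962
import Cfsg.Agent.Lib.Helper8.BlockCount

set_option autoImplicit false
open Cfsg

namespace Cfsg.Agent.S0962

open scoped ComplexConjugate
open Cfsg.Agent.Lib.Helper1 Cfsg.Agent.Lib.Helper4 Cfsg.Agent.Lib.Helper8

/-- Fix a maximal ideal M of the algebraic integers containing the prime p and a natural number d. The number of blocks of the finite group G of defect at least d is at most the number of conjugacy classes of p-regular elements of G of defect at least d, where the defect of a class is the exponent of p in the order of the centralizer of any of its elements. -/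
theorem result {G : Type*} [Group G] [Finite G] (p : ℕ) [Fact p.Prime] (M : Ideal Cfsg.AlgInt) (hM : Cfsg.IsPModular p M) (d : ℕ) : Nat.card {B : Set (Cfsg.IrrCharacter G) // Cfsg.IsPBlock M B ∧ d ≤ Cfsg.blockDefect p B} ≤ Nat.card {C : ConjClasses G // ∃ g : G, ConjClasses.mk g = C ∧ Cfsg.IsPRegular p g ∧ d ≤ (Nat.card (Subgroup.centralizer ({g} : Set G))).factorization p} := by
  classical
  have : Fintype G := Fintype.ofFinite G
  have hMp := isPModular_isPrime hM
  apply card_blocks_le_card_classes hMp (fun B => d ≤ Cfsg.blockDefect p B)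
    (fun C => ∃ g : G, ConjClasses.mk g = C ∧ Cfsg.IsPRegular p g ∧
      d ≤ (Nat.card (Subgroup.centralizer ({g} : Set G))).factorization p)
  intro B B' hB hBσ hB' hB'σ c hc χ' hχ'
  by_contra hcon
  have h1 : ¬ MemLocalIdeal M (Cfsg.blockCoeff B (Quotient.out c)) := fun h =>
    hcon (memLocalIdeal_mul_right hMp h (memLocalRing_centralChar hMp.ne_top χ'.2 _))
  have h2 : ¬ MemLocalIdeal M (Cfsg.centralChar (χ' : G → ℂ) (Quotient.out c)) := fun h =>
    hcon (memLocalIdeal_mul_left hMp (blockCoeff_memLocalRing hMp hB _) h)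
  apply hc
  refine ⟨Quotient.out c, Quotient.out_eq c, ?_, ?_⟩
  · intro hdvd
    apply h1
    rw [blockCoeff_eq_zero_of_dvd_orderOf hM hB hdvd]
    exact memLocalIdeal_zero hMp.ne_top
  · have h4 := le_factorization_of_not_memLocalIdeal_centralChar hM hB' ⟨χ', hχ', h2⟩
    exact le_trans hB'σ h4

end Cfsg.Agent.S0962
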