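import Mathlib
import Cfsg.Statements.S0967
import Cfsg.Agent.Lib.Helper8.CoverQuot

set_option autoImplicit false
open Cfsg

namespace Cfsg.Agent.S0967

open scoped ComplexConjugate
open Cfsg.Agent.Lib.Helper1 Cfsg.Agent.Lib.Helper4 Cfsg.Agent.Lib.Helper8

/-- Let N be a normal subgroup of the finite group G of order prime to p and fix a maximal ideal M of the algebraic integers containing p. If χ is an irreducible character of G ⧸ N and ψ lies in the block of its inflation χ ∘ (quotient map), then ψ is itself inflated from an irreducible character ψ' of G ⧸ N lying in the block of χ. (Over a normal p'-subgroup, blocks of the quotient are whole blocks of G.) -/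
theorem result {G : Type*} [Group G] [Finite G] (p : ℕ) [Fact p.Prime] (M : Ideal Cfsg.AlgInt) (hM : Cfsg.IsPModular p M) (N : Subgroup G) [N.Normal] (hN : ¬ p ∣ Nat.card N) (χ : Cfsg.IrrCharacter (G ⧸ N)) (ψ : Cfsg.IrrCharacter G) (hψ : ψ ∈ Cfsg.blockOf M ((χ : G ⧸ N → ℂ) ∘ QuotientGroup.mk)) : ∃ ψ' : Cfsg.IrrCharacter (G ⧸ N), (ψ : G → ℂ) = (ψ' : G ⧸ N → ℂ) ∘ QuotientGroup.mk ∧ Cfsg.SameBlock M (χ : G ⧸ N → ℂ) (ψ' : G ⧸ N → ℂ) := by
  classical
  have : Fintype G := Fintype.ofFinite G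
  have : Fintype N := Fintype.ofFinite N
  have : Fintype (G ⧸ N) := Fintype.ofFinite _
  have hMp := isPModular_isPrime hM
  let χ' : IrrCharacter G := ⟨fun g => (χ : G ⧸ N → ℂ) (QuotientGroup.mk g), isIrrCharacter_inflation N χ.2⟩
  have hsb : SameBlock M (χ' : G → ℂ) (ψ : G → ℂ) := hψ
  have h1 : classInner (fun n : N => (χ' : G → ℂ) n) (fun _ : N => (1 : ℂ)) ≠ 0 := by
    rw [constituent_one_iff N χ'.2]
    intro n hn
    change (χ : G ⧸ N → ℂ) (QuotientGroup.mk n) = (χ : G ⧸ N → ℂ) (QuotientGroup.mk 1)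
    rw [(QuotientGroup.eq_one_iff n).2 hn, QuotientGroup.mk_one]
  have h2 := constituent_of_sameBlock N hM hN hsb
    (θ := ⟨fun _ => 1, Cfsg.Agent.S0161.isIrrCharacter_one⟩) h1
  have h3 := (constituent_one_iff N ψ.2).1 h2
  obtain ⟨ψ', hψ', hψ'eq⟩ := exists_deflation N ψ.2 h3
  refine ⟨⟨ψ', hψ'⟩, ?_, ?_⟩
  · funext g
    exact (hψ'eq g).symm
  · apply sameBlock_of_inflation N hM hN χ.2 hψ'
    have : (fun g : G => ψ' (QuotientGroup.mk g)) = (ψ : G → ℂ) := funext hψ'eq
    rw [this]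
    exact hsb

end Cfsg.Agent.S0967
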