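import Cfsg.Statements.S0984
import Cfsg.Agent.Lib.Helper6.OrdT15
import Cfsg.Agent.S0991
import Cfsg.Agent.Lib.Helper3.Ord504_1

set_option autoImplicit false
open Cfsg

namespace Cfsg.Agent.S0984

/-- A simple group of order 2520 is isomorphic to the alternating group of degree 7. -/
theorem result {G : Type*} [Group G] [Finite G] [IsSimpleGroup G] (h : Nat.card G = 2520) : Nonempty (G ≃* alternatingGroup (Fin 7)) := by
  classical
  have : Fintype G := Fintype.ofFinite G
  have : Fintype (IrrCharacter G) := Fintype.ofFinite _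
  have hnc : ¬ IsMulCommutative G := by
    intro hc
    letI : CommGroup G := { (inferInstance : Group G) with mul_comm := hc.is_comm.comm }
    have hp : (Nat.card G).Prime := IsSimpleGroup.prime_card (α := G)
    rw [h] at hp
    norm_num at hp
  obtain ⟨L, hL⟩ := Cfsg.Agent.Lib.Helper6.OrdT.exists_card360 hnc h
  have hidx : L.index = 7 := by
    have := L.card_mul_index
    rw [hL, h] at this
    omega
  have hLtop : L ≠ ⊤ := by
    intro ht
    rw [ht, Subgroup.index_top] at hidx
    norm_num at hidx
  obtain ⟨f, hf⟩ := Cfsg.Agent.S0991.result hnc L hLtop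
  have key : ∀ n : ℕ, n = 7 →
      (∃ f : G →* alternatingGroup (Fin n), Function.Injective f) →
      Nonempty (G ≃* alternatingGroup (Fin 7)) := by
    rintro n rfl ⟨f, hf⟩
    have hbij : Function.Bijective f :=
      hf.bijective_of_nat_card_le (by rw [h, Cfsg.Agent.Lib.Helper3.Ord504.card_alt7])
    exact ⟨MulEquiv.ofBijective f hbij⟩
  exact key _ hidx ⟨f, hf⟩

end Cfsg.Agent.S0984
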