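import Mathlib
import Cfsg.Statements.S0985
import Cfsg.Agent.Lib.Helper3.Orbits

set_option autoImplicit false
open Cfsg
open Cfsg.Agent.Lib.Helper3
open Subgroup MulAction

namespace Cfsg.Agent.S0985

theorem result {G : Type*} [Group G] [Finite G] (p k : ℕ) [Fact p.Prime] (h : ¬ Nat.card (Sylow p G) ≡ 1 [MOD p ^ k]) : ∃ P R : Sylow p G, P ≠ R ∧ ((R : Subgroup G).subgroupOf (P : Subgroup G)).index ≤ p ^ (k - 1) := by
  have hp : p.Prime := Fact.out
  by_contra hcon
  push Not at hcon
  apply h
  obtain ⟨P⟩ : Nonempty (Sylow p G) := inferInstance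
  apply card_modEq_one_of_orbits (H := (P : Subgroup G)) (p ^ k) P
  · intro g
    have : P ∈ fixedPoints (P : Subgroup G) (Sylow p G) :=
      (P.2.sylow_mem_fixedPoints_iff).mpr le_rfl
    exact this g
  · intro R hR
    have hlt := hcon P R (Ne.symm hR)
    -- orbit size = index of stabilizer
    have h1 : Nat.card (orbit (P : Subgroup G) R) = (stabilizer (P : Subgroup G) R).index := by
      rw [index_stabilizer]; rfl
    have h2 : stabilizer (P : Subgroup G) R = (normalizer ((R : Subgroup G) : Set G)).subgroupOf (P : Subgroup G) := by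
      ext g
      rw [mem_stabilizer_iff, mem_subgroupOf]
      exact Sylow.smul_eq_iff_mem_normalizer
    have h3 : ((normalizer ((R : Subgroup G) : Set G)).subgroupOf (P : Subgroup G)).index
        = ((R : Subgroup G).subgroupOf (P : Subgroup G)).index := by
      change (normalizer ((R : Subgroup G) : Set G)).relIndex (P : Subgroup G) = (R : Subgroup G).relIndex (P : Subgroup G)
      have e : (P : Subgroup G) ⊓ normalizer ((R : Subgroup G) : Set G) = (P : Subgroup G) ⊓ (R : Subgroup G) :=
        P.2.inf_normalizer_sylow R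
      rw [← inf_relIndex_right, inf_comm, e, inf_comm, inf_relIndex_right]
    rw [h1, h2, h3]
    have hdvd : ((R : Subgroup G).subgroupOf (P : Subgroup G)).index ∣ Nat.card (P : Subgroup G) :=
      Subgroup.index_dvd_card _
    obtain ⟨n, hn⟩ := P.2.exists_card_eq
    rw [hn] at hdvd
    obtain ⟨j, _, hj⟩ := (Nat.dvd_prime_pow hp).mp hdvd
    rw [hj] at hlt ⊢
    apply pow_dvd_pow
    rcases Nat.eq_zero_or_pos k with hk | hk
    · omega
    · have : k - 1 < j := (Nat.pow_lt_pow_iff_right hp.one_lt).mp hlt
      omega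

end Cfsg.Agent.S0985
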