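import Mathlib
-- Template for statement S0986 (row 986; see /opt/grader/pristine/manifest.json for weights).
-- Copy to Cfsg/Agent/S0986.lean and replace the sorry. The statement below is byte-identical to the frozen
-- statement Cfsg.CfsgFrozen.S0986 (Cfsg/Statements/S0986.lean; the theorem Cfsg.maximal_sylow_intersection_normalizer);
-- the grader kernel-checks Cfsg.Agent.S0986.result against that frozen type. Keep the theorem IN THIS FILE
-- (a `result` declared elsewhere and merely imported here is not credited); helpers may live anywhere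
-- under Cfsg/Agent/.
import Cfsg.Statements.S0986
import Cfsg.Agent.Lib.Helper3.Sig4
import Cfsg.Agent.Lib.Lead.CoprimeSylow4

set_option autoImplicit false
open Cfsg
open Cfsg.Agent.Lib.Helper3 Cfsg.Agent.Lib.Lead

namespace Cfsg.Agent.S0986

/-- Let P and Q be distinct Sylow p-subgroups of a finite group G chosen so that the order of P ∩ Q is as large as possible among intersections of two distinct Sylow p-subgroups, and let N be the normalizer of P ∩ Q. Then N has more than one Sylow p-subgroup, any two distinct Sylow p-subgroups of N intersect exactly in P ∩ Q, and each Sylow p-subgroup of N lies in exactly one Sylow p-subgroup of G. -/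
theorem result {G : Type*} [Group G] [Finite G] (p : ℕ) [Fact p.Prime] (P Q : Sylow p G) (hPQ : P ≠ Q) (hmax : ∀ P' Q' : Sylow p G, P' ≠ Q' → Nat.card ↥((P' : Subgroup G) ⊓ (Q' : Subgroup G)) ≤ Nat.card ↥((P : Subgroup G) ⊓ (Q : Subgroup G))) : 1 < Nat.card (Sylow p ↥(Subgroup.normalizer (((P : Subgroup G) ⊓ (Q : Subgroup G) : Subgroup G) : Set G))) ∧ (∀ S T : Sylow p ↥(Subgroup.normalizer (((P : Subgroup G) ⊓ (Q : Subgroup G) : Subgroup G) : Set G)), S ≠ T → (S : Subgroup _) ⊓ (T : Subgroup _) = ((P : Subgroup G) ⊓ (Q : Subgroup G)).subgroupOf (Subgroup.normalizer (((P : Subgroup G) ⊓ (Q : Subgroup G) : Subgroup G) : Set G))) ∧ ∀ S : Sylow p ↥(Subgroup.normalizer (((P : Subgroup G) ⊓ (Q : Subgroup G) : Subgroup G) : Set G)), ∃! T : Sylow p G, (S : Subgroup _).map (Subgroup.normalizer (((P : Subgroup G) ⊓ (Q : Subgroup G) : Subgroup G) : Set G)).subtype ≤ (T : Subgroup G) := by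
  obtain ⟨D, hD⟩ : ∃ D : Subgroup G, D = (P : Subgroup G) ⊓ (Q : Subgroup G) := ⟨_, rfl⟩
  rw [← hD]
  rw [← hD] at hmax
  have hDP : D ≤ P := hD ▸ inf_le_left
  have hDQ : D ≤ Q := hD ▸ inf_le_right
  have hDp : IsPGroup p D := P.2.to_le hDP
  -- `D` is a proper subgroup of both
  have hne : ∀ {P Q : Sylow p G}, P ≠ Q → D = (P : Subgroup G) ⊓ (Q : Subgroup G) → D < P := by
    intro P Q hPQ hD
    refine lt_of_le_of_ne (hD ▸ inf_le_left) ?_
    intro h
    apply hPQ
    have h1 : (P : Subgroup G) ≤ Q := by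
      have : (P : Subgroup G) ≤ (P : Subgroup G) ⊓ (Q : Subgroup G) := by rw [← hD, h]
      exact this.trans inf_le_right
    exact Sylow.ext (P.3 Q.2 h1).symm
  have hltP : D < P := hne hPQ hD
  have hltQ : D < Q := hne hPQ.symm (by rw [hD, inf_comm])
  have hgP := pgroup_normalizer_grows p P D P.2 hltP
  have hgQ := pgroup_normalizer_grows p Q D Q.2 hltQ
  -- Sylow subgroups of `N` are bigger than `D`
  have hbig : ∀ S : Sylow p ↥(Subgroup.normalizer (D : Set G)),
      Nat.card D < Nat.card (S : Subgroup ↥(Subgroup.normalizer (D : Set G))) := by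
    intro S
    have h1 : IsPGroup p (((P : Subgroup G) ⊓ Subgroup.normalizer (D : Set G)).subgroupOf
        (Subgroup.normalizer (D : Set G))) := (P.2.to_le inf_le_left).comap_subtype
    obtain ⟨S₀, hS₀⟩ := h1.exists_le_sylow
    have h2 : Nat.card (S : Subgroup ↥(Subgroup.normalizer (D : Set G))) =
        Nat.card (S₀ : Subgroup ↥(Subgroup.normalizer (D : Set G))) := by
      rw [Sylow.card_eq_multiplicity, Sylow.card_eq_multiplicity]
    have h3 := Subgroup.card_le_of_le hS₀
    rw [card_subgroupOf_of_le inf_le_right] at h3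
    have h4 := Sig.card_lt_card_of_lt hgP
    omega
  have hbig' : ∀ S : Sylow p ↥(Subgroup.normalizer (D : Set G)),
      Nat.card D < Nat.card ((S : Subgroup ↥(Subgroup.normalizer (D : Set G))).map
        (Subgroup.normalizer (D : Set G)).subtype) := by
    intro S
    rw [← Nat.card_congr (Subgroup.equivMapOfInjective _ _
      (Subgroup.subtype_injective _)).toEquiv]
    exact hbig S
  -- uniqueness of the Sylow subgroup of `G` above a Sylow subgroup of `N`
  have huniq : ∀ (S : Sylow p ↥(Subgroup.normalizer (D : Set G))) (T₁ T₂ : Sylow p G),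
      (S : Subgroup _).map (Subgroup.normalizer (D : Set G)).subtype ≤ T₁ →
      (S : Subgroup _).map (Subgroup.normalizer (D : Set G)).subtype ≤ T₂ → T₁ = T₂ := by
    intro S T₁ T₂ h1 h2
    by_contra hcon
    have h3 := hmax T₁ T₂ hcon
    have h4 := Subgroup.card_le_of_le (le_inf h1 h2)
    have h5 := hbig' S
    omega
  have hex : ∀ S : Sylow p ↥(Subgroup.normalizer (D : Set G)), ∃ T : Sylow p G,
      (S : Subgroup _).map (Subgroup.normalizer (D : Set G)).subtype ≤ T := by
    intro S
    exact (S.2.map _).exists_le_sylow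
  -- a Sylow subgroup of `N` is the trace of the Sylow subgroup of `G` above it
  have htrace : ∀ (S : Sylow p ↥(Subgroup.normalizer (D : Set G))) (T : Sylow p G),
      (S : Subgroup _).map (Subgroup.normalizer (D : Set G)).subtype ≤ T →
      (S : Subgroup _) = (T : Subgroup G).subgroupOf (Subgroup.normalizer (D : Set G)) := by
    intro S T h
    have h1 : IsPGroup p ((T : Subgroup G).subgroupOf (Subgroup.normalizer (D : Set G))) :=
      T.2.comap_subtype
    have h2 : (S : Subgroup _) ≤ (T : Subgroup G).subgroupOf (Subgroup.normalizer (D : Set G)) := by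
      intro s hs
      rw [Subgroup.mem_subgroupOf]
      exact h ⟨s, hs, rfl⟩
    exact (S.3 h1 h2).symm
  refine ⟨?_, ?_, ?_⟩
  · -- at least two Sylow subgroups
    have h1 : IsPGroup p (((P : Subgroup G) ⊓ Subgroup.normalizer (D : Set G)).subgroupOf
        (Subgroup.normalizer (D : Set G))) := (P.2.to_le inf_le_left).comap_subtype
    have h2 : IsPGroup p (((Q : Subgroup G) ⊓ Subgroup.normalizer (D : Set G)).subgroupOf
        (Subgroup.normalizer (D : Set G))) := (Q.2.to_le inf_le_left).comap_subtype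
    obtain ⟨SP, hSP⟩ := h1.exists_le_sylow
    obtain ⟨SQ, hSQ⟩ := h2.exists_le_sylow
    have hneS : SP ≠ SQ := by
      intro heq
      obtain ⟨T, hT⟩ := hex SP
      have key : ∀ (R : Sylow p G), D < (R : Subgroup G) ⊓ Subgroup.normalizer (D : Set G) →
          ((R : Subgroup G) ⊓ Subgroup.normalizer (D : Set G)).subgroupOf
            (Subgroup.normalizer (D : Set G)) ≤ SP → T = R := by
        intro R hgR hR
        by_contra hcon
        have h3 := hmax T R hcon
        have h4 : (R : Subgroup G) ⊓ Subgroup.normalizer (D : Set G) ≤ (T : Subgroup G) ⊓ R := by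
          intro x hx
          refine Subgroup.mem_inf.mpr ⟨?_, (Subgroup.mem_inf.mp hx).1⟩
          apply hT
          exact ⟨⟨x, (Subgroup.mem_inf.mp hx).2⟩, hR (Subgroup.mem_subgroupOf.mpr hx), rfl⟩
        have h5 := Subgroup.card_le_of_le h4
        have h6 := Sig.card_lt_card_of_lt hgR
        omega
      have e1 := key P hgP hSP
      have e2 := key Q hgQ (heq ▸ hSQ)
      exact hPQ (e1.symm.trans e2)
    rw [Finite.one_lt_card_iff_nontrivial]
    exact ⟨⟨SP, SQ, hneS⟩⟩
  · intro S T hST
    have hDn : (D.subgroupOf (Subgroup.normalizer (D : Set G))).Normal :=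
      Subgroup.normal_subgroupOf_of_le_normalizer le_rfl
    have hDp' : IsPGroup p (D.subgroupOf (Subgroup.normalizer (D : Set G))) := hDp.comap_subtype
    apply le_antisymm
    · obtain ⟨T₁, hT₁⟩ := hex S
      obtain ⟨T₂, hT₂⟩ := hex T
      have hne12 : T₁ ≠ T₂ := by
        intro heq
        apply hST
        apply Sylow.ext
        rw [htrace S T₁ hT₁, htrace T T₂ hT₂, heq]
      have h3 := hmax T₁ T₂ hne12
      have h4 : D ≤ (T₁ : Subgroup G) ⊓ T₂ := by
        intro d hd
        have hdN : d ∈ Subgroup.normalizer (D : Set G) := Subgroup.le_normalizer hd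
        have h5 := normal_pgroup_le_sylow p _ hDp' S (Subgroup.mem_subgroupOf.mpr hd : (⟨d, hdN⟩ : Subgroup.normalizer (D : Set G)) ∈ _)
        have h6 := normal_pgroup_le_sylow p _ hDp' T (Subgroup.mem_subgroupOf.mpr hd : (⟨d, hdN⟩ : Subgroup.normalizer (D : Set G)) ∈ _)
        exact Subgroup.mem_inf.mpr ⟨hT₁ ⟨_, h5, rfl⟩, hT₂ ⟨_, h6, rfl⟩⟩
      have h7 : D = (T₁ : Subgroup G) ⊓ T₂ := Subgroup.eq_of_le_of_card_ge h4 h3
      have h8 : (T₁ : Subgroup G) ⊓ T₂ ≤ D := h7.ge
      intro x hx
      rw [Subgroup.mem_subgroupOf]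
      obtain ⟨hxS, hxT⟩ := Subgroup.mem_inf.mp hx
      exact h8 (Subgroup.mem_inf.mpr ⟨hT₁ ⟨x, hxS, rfl⟩, hT₂ ⟨x, hxT, rfl⟩⟩)
    · exact le_inf (normal_pgroup_le_sylow p _ hDp' S) (normal_pgroup_le_sylow p _ hDp' T)
  · intro S
    obtain ⟨T, hT⟩ := hex S
    exact ⟨T, hT, fun T' hT' => huniq S T' T hT' hT⟩

end Cfsg.Agent.S0986
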