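import Mathlib
import Cfsg.Statements.S0987
import Cfsg.Agent.Lib.Helper3.SylowCount

set_option autoImplicit false
open Cfsg
open Cfsg.Agent.Lib.Helper3

namespace Cfsg.Agent.S0987

theorem dvd_prime_mul_prime {n a b : ℕ} (ha : a.Prime) (hb : b.Prime) (h : n ∣ a * b) :
    n = 1 ∨ n = a ∨ n = b ∨ n = a * b := by
  obtain ⟨y, z, hy, hz, rfl⟩ := (Nat.dvd_mul).mp h
  rcases (Nat.dvd_prime ha).mp hy with rfl | rfl <;> rcases (Nat.dvd_prime hb).mp hz with rfl | rfl <;> simp

theorem not_modEq_one_of_lt {a r : ℕ} (h1 : 1 < a) (h2 : a < r) : ¬ a ≡ 1 [MOD r] := by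
  intro h
  have : a % r = 1 % r := h
  rw [Nat.mod_eq_of_lt h2, Nat.mod_eq_of_lt (by omega)] at this
  omega

theorem result {G : Type*} [Group G] [Finite G] (p q r : ℕ) (hp : p.Prime) (hq : q.Prime) [Fact r.Prime] (hpq : p < q) (hqr : q < r) (hG : Nat.card G = p * q * r) (R : Sylow r G) : (R : Subgroup G).Normal := by
  have hr : r.Prime := Fact.out
  have : Fact q.Prime := ⟨hq⟩
  have hrpq : ¬ r ∣ p * q := by
    intro h
    rcases (Nat.Prime.dvd_mul hr).mp h with h | h
    · have := Nat.le_of_dvd hp.pos h; omega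
    · have := Nat.le_of_dvd hq.pos h; omega
  have hqpr : ¬ q ∣ p * r := by
    intro h
    rcases (Nat.Prime.dvd_mul hq).mp h with h | h
    · have := Nat.le_of_dvd hp.pos h; omega
    · rcases (Nat.dvd_prime hr).mp h with h | h
      · have := hq.one_lt; omega
      · omega
  have hRcard : Nat.card R = r := by
    have := sylow_card_eq_of_card_eq R 1 (p * q) (by rw [hG]; ring) hrpq
    simpa using this
  have hRidx : (R : Subgroup G).index = p * q :=
    sylow_index_eq_of_card_eq R 1 (p * q) (by rw [hG]; ring) hrpq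
  apply sylow_normal_of_card_eq_one
  have hdvd : Nat.card (Sylow r G) ∣ p * q := hRidx ▸ R.card_dvd_index
  have hmod : Nat.card (Sylow r G) ≡ 1 [MOD r] := card_sylow_modEq_one r G
  rcases dvd_prime_mul_prime hp hq hdvd with h | h | h | h
  · exact h
  · rw [h] at hmod
    exact absurd hmod (not_modEq_one_of_lt hp.one_lt (by omega))
  · rw [h] at hmod
    exact absurd hmod (not_modEq_one_of_lt hq.one_lt hqr)
  · exfalso
    have hXr := card_orderOf_eq_prime R hRcard
    rw [h] at hXr
    obtain ⟨Q⟩ : Nonempty (Sylow q G) := inferInstance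
    have hQcard : Nat.card Q = q := by
      have := sylow_card_eq_of_card_eq Q 1 (p * r) (by rw [hG]; ring) hqpr
      simpa using this
    have hQidx : (Q : Subgroup G).index = p * r :=
      sylow_index_eq_of_card_eq Q 1 (p * r) (by rw [hG]; ring) hqpr
    have hdvdq : Nat.card (Sylow q G) ∣ p * r := hQidx ▸ Q.card_dvd_index
    have hmodq : Nat.card (Sylow q G) ≡ 1 [MOD q] := card_sylow_modEq_one q G
    have hcases : Nat.card (Sylow q G) = 1 ∨ r ≤ Nat.card (Sylow q G) := by
      rcases dvd_prime_mul_prime hp hr hdvdq with h' | h' | h' | h'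
      · left; exact h'
      · rw [h'] at hmodq
        exact absurd hmodq (not_modEq_one_of_lt hp.one_lt hpq)
      · right; omega
      · right; rw [h']; exact Nat.le_mul_of_pos_left r hp.pos
    rcases hcases with h1 | h1
    · -- Q normal
      have hQn : (Q : Subgroup G).Normal := sylow_normal_of_card_eq_one Q h1
      have hle := le_normalizer_sylow_of_card_lt R (Q : Subgroup G) (by rw [hQcard]; exact hqr)
      have hNidx : (Subgroup.normalizer ((R : Subgroup G) : Set G)).index = p * q := by
        rw [← h]; exact (Sylow.card_eq_index_normalizer R).symm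
      have hNcard : Nat.card (Subgroup.normalizer ((R : Subgroup G) : Set G)) = r := by
        have := (Subgroup.normalizer ((R : Subgroup G) : Set G)).index_mul_card
        rw [hNidx, hG] at this
        exact Nat.eq_of_mul_eq_mul_left (Nat.mul_pos hp.pos hq.pos) this
      have hdq : q ∣ r := by
        have := Subgroup.card_dvd_of_le hle
        rwa [hQcard, hNcard] at this
      rcases (Nat.dvd_prime hr).mp hdq with h' | h'
      · have := hq.one_lt; omega
      · omega
    · have hXq := card_orderOf_eq_prime Q hQcard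
      have hsum := sum_card_orderOf_le (G := G) ({q, r} : Finset ℕ)
      rw [Finset.sum_pair (by omega : q ≠ r), hXq, hXr, hG] at hsum
      have h2 : r * (q - 1) ≤ Nat.card (Sylow q G) * (q - 1) := Nat.mul_le_mul_right _ h1
      obtain ⟨r', rfl⟩ : ∃ r', r = r' + 1 := ⟨r - 1, by have := hr.one_lt; omega⟩
      obtain ⟨q', rfl⟩ : ∃ q', q = q' + 1 := ⟨q - 1, by have := hq.one_lt; omega⟩
      simp only [Nat.add_sub_cancel] at hsum h2
      have hp1 := hp.one_lt
      nlinarith

end Cfsg.Agent.S0987
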