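import Mathlib
-- Template for statement S0988 (row 988; see /opt/grader/pristine/manifest.json for weights).
-- Copy to Cfsg/Agent/S0988.lean and replace the sorry. The statement below is byte-identical to the frozen
-- statement Cfsg.CfsgFrozen.S0988 (Cfsg/Statements/S0988.lean; the theorem Cfsg.simple_of_card_p_sq_qr);
-- the grader kernel-checks Cfsg.Agent.S0988.result against that frozen type. Keep the theorem IN THIS FILE
-- (a `result` declared elsewhere and merely imported here is not credited); helpers may live anywhere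
-- under Cfsg/Agent/.
import Cfsg.Statements.S0988
import Cfsg.Agent.Lib.Helper3.PSqQR1
import Cfsg.Agent.Lib.Lead.FpfCyclic

set_option autoImplicit false
open Cfsg
open Subgroup Cfsg.Agent.Lib.Helper3 Cfsg.Agent.Lib.Helper3.NS Cfsg.Agent.Lib.Helper3.Ord168 Cfsg.Agent.Lib.Helper3.PSqQR

namespace Cfsg.Agent.S0988

/-- If a finite simple group has order p^2 * q * r with p, q and r prime, then its order is 60. -/
theorem result {G : Type*} [Group G] [Finite G] [IsSimpleGroup G] (p q r : ℕ) (hp : p.Prime) (hq : q.Prime) (hr : r.Prime) (hG : Nat.card G = p ^ 2 * q * r) : Nat.card G = 60 := by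
  have hp2 := hp.two_le
  have hq2 := hq.two_le
  have hr2 := hr.two_le
  have hnp : ¬ (Nat.card G).Prime := by
    rw [hG]
    have e : p ^ 2 * q * r = p * (p * q * r) := by ring
    rw [e]
    apply Nat.not_prime_mul (by omega)
    have : 1 < p * q * r := by
      have : 2 * 2 * 2 ≤ p * q * r := Nat.mul_le_mul (Nat.mul_le_mul hp2 hq2) hr2
      omega
    omega
  have hna := not_isMulCommutative_of_not_prime hnp
  have hns : ¬ Group.IsSolvable G := by
    intro hs
    apply hna
    exact ⟨⟨IsSimpleGroup.comm_iff_isSolvable.mpr hs⟩⟩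
  have hpq : p ≠ q := by
    rintro rfl
    exact hns (Cfsg.Agent.S0144.result p r 3 1 hp hr (by rw [hG]; ring))
  have hpr : p ≠ r := by
    rintro rfl
    exact hns (Cfsg.Agent.S0144.result p q 3 1 hp hq (by rw [hG]; ring))
  have hqr : q ≠ r := by
    rintro rfl
    exact hns (Cfsg.Agent.S0144.result p q 2 2 hp hq (by rw [hG]; ring))
  have hfp : Fact p.Prime := ⟨hp⟩
  have hfq : Fact q.Prime := ⟨hq⟩
  have hfr : Fact r.Prime := ⟨hr⟩
  have hndvd : ∀ a b : ℕ, a.Prime → b.Prime → a ≠ b → ¬ a ∣ b := by
    intro a b ha hb hab h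
    exact hab ((Nat.prime_dvd_prime_iff_eq ha hb).mp h)
  -- the least prime divisor is `p`
  have hmin : (Nat.card G).minFac = p := by
    have hmf : (Nat.card G).minFac.Prime := Nat.minFac_prime (by
      rw [hG]
      have : 2 * 2 * 2 * 2 ≤ p * p * q * r :=
        Nat.mul_le_mul (Nat.mul_le_mul (Nat.mul_le_mul hp2 hp2) hq2) hr2
      have e : p ^ 2 * q * r = p * p * q * r := by ring
      omega)
    have hdvd : (Nat.card G).minFac ∣ p ^ 2 * q * r := hG ▸ Nat.minFac_dvd _
    rcases (hmf.dvd_mul).mp hdvd with h | h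
    · rcases (hmf.dvd_mul).mp h with h | h
      · exact (Nat.prime_dvd_prime_iff_eq hmf hp).mp (hmf.dvd_of_dvd_pow h)
      · exfalso
        have e := (Nat.prime_dvd_prime_iff_eq hmf hq).mp h
        refine minFac_ne_of_exact (G := G) (s := q) (p ^ 2 * r) (by rw [hG]; ring) ?_ ?_ e
        · intro hh
          rcases (hq.dvd_mul).mp hh with h1 | h1
          · exact hndvd q p hq hp hpq.symm (hq.dvd_of_dvd_pow h1)
          · exact hndvd q r hq hr hqr h1
        · have : 2 * 2 * 2 ≤ p * p * r := Nat.mul_le_mul (Nat.mul_le_mul hp2 hp2) hr2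
          have e' : p ^ 2 * r = p * p * r := by ring
          omega
    · exfalso
      have e := (Nat.prime_dvd_prime_iff_eq hmf hr).mp h
      refine minFac_ne_of_exact (G := G) (s := r) (p ^ 2 * q) (by rw [hG]; ring) ?_ ?_ e
      · intro hh
        rcases (hr.dvd_mul).mp hh with h1 | h1
        · exact hndvd r p hr hp hpr.symm (hr.dvd_of_dvd_pow h1)
        · exact hndvd r q hr hq hqr.symm h1
      · have : 2 * 2 * 2 ≤ p * p * q := Nat.mul_le_mul (Nat.mul_le_mul hp2 hp2) hq2
        have e' : p ^ 2 * q = p * p * q := by ring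
        omega
  have hplt : ∀ s : ℕ, s.Prime → s ∣ Nat.card G → p ≤ s := fun s hs hd =>
    hmin ▸ Nat.minFac_le_of_dvd hs.two_le hd
  -- Sylow `p`
  obtain ⟨P⟩ : Nonempty (Sylow p G) := inferInstance
  have hpqr : ¬ p ∣ q * r := by
    intro hh
    rcases (hp.dvd_mul).mp hh with h1 | h1
    · exact hndvd p q hp hq hpq h1
    · exact hndvd p r hp hr hpr h1
  have hPcard : Nat.card (P : Subgroup G) = p ^ 2 :=
    sylow_card_eq_of_card_eq P 2 (q * r) (by rw [hG]; ring) hpqr
  have hPcomm : IsMulCommutative (P : Subgroup G) :=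
    IsPGroup.isMulCommutative_of_card_eq_prime_sq hPcard
  have hPC : (P : Subgroup G) ≤ centralizer ((P : Subgroup G) : Set G) :=
    le_centralizer_of_isMulCommutative (P : Subgroup G)
  have hnotNC : ¬ normalizer ((P : Subgroup G) : Set G) ≤ centralizer ((P : Subgroup G) : Set G) := by
    intro h
    rcases sylow_eq_bot_or_top_of_normalizer_le_centralizer P h with h' | h'
    · rw [h', Subgroup.card_bot] at hPcard
      have : 2 * 2 ≤ p * p := Nat.mul_le_mul hp2 hp2
      have e' : p ^ 2 = p * p := by ring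
      omega
    · rw [h', Subgroup.card_top, hG] at hPcard
      have h4 : 2 * 2 ≤ q * r := Nat.mul_le_mul hq2 hr2
      have hpp : 0 < p ^ 2 := pow_pos hp.pos 2
      have : p ^ 2 * (q * r) = p ^ 2 * 1 := by
        rw [mul_one]
        calc p ^ 2 * (q * r) = p ^ 2 * q * r := by ring
          _ = p ^ 2 := hPcard
      have := Nat.eq_of_mul_eq_mul_left hpp this
      omega
  have hCN : centralizer ((P : Subgroup G) : Set G) ≤ normalizer ((P : Subgroup G) : Set G) :=
    Subgroup.centralizer_le_normalizer _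
  have hk := relIndex_mul_card' hCN
  have hk1 : (centralizer ((P : Subgroup G) : Set G)).relIndex (normalizer ((P : Subgroup G) : Set G)) ≠ 1 :=
    fun h => hnotNC (relIndex_eq_one.mp h)
  have hp2C : p ^ 2 ∣ Nat.card (centralizer ((P : Subgroup G) : Set G)) :=
    hPcard ▸ Subgroup.card_dvd_of_le hPC
  have hNG : Nat.card (normalizer ((P : Subgroup G) : Set G)) ∣ p ^ 2 * q * r :=
    hG ▸ Subgroup.card_subgroup_dvd_card _
  have hkqr : (centralizer ((P : Subgroup G) : Set G)).relIndex (normalizer ((P : Subgroup G) : Set G)) ∣ q * r := by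
    obtain ⟨c', hc'⟩ := hp2C
    rw [hc'] at hk
    have h1 : p ^ 2 * ((centralizer ((P : Subgroup G) : Set G)).relIndex (normalizer ((P : Subgroup G) : Set G)) * c') ∣ p ^ 2 * (q * r) := by
      have e1 : p ^ 2 * ((centralizer ((P : Subgroup G) : Set G)).relIndex (normalizer ((P : Subgroup G) : Set G)) * c') = Nat.card (normalizer ((P : Subgroup G) : Set G)) := by
        rw [← hk]; ring
      rw [e1]
      have e2 : p ^ 2 * (q * r) = p ^ 2 * q * r := by ring
      rw [e2]; exact hNG
    have := Nat.dvd_of_mul_dvd_mul_left (pow_pos hp.pos 2) h1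
    exact (Dvd.intro _ rfl).trans this
  obtain ⟨s, hs, hsk⟩ := Nat.exists_prime_and_dvd hk1
  have hsqr : s = q ∨ s = r := by
    rcases (hs.dvd_mul).mp (hsk.trans hkqr) with h | h
    · left; exact (Nat.prime_dvd_prime_iff_eq hs hq).mp h
    · right; exact (Nat.prime_dvd_prime_iff_eq hs hr).mp h
  have hsN : s ∣ Nat.card (normalizer ((P : Subgroup G) : Set G)) := hk ▸ (hsk.mul_right _)
  have hsC : ¬ s ∣ Nat.card (centralizer ((P : Subgroup G) : Set G)) := by
    intro h
    have h1 : s * s ∣ Nat.card (normalizer ((P : Subgroup G) : Set G)) := hk ▸ Nat.mul_dvd_mul hsk h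
    have h2 : s * s ∣ p ^ 2 * q * r := h1.trans hNG
    rcases hsqr with rfl | rfl
    · have e : p ^ 2 * s * r = s * (p ^ 2 * r) := by ring
      rw [e] at h2
      have h3 := Nat.dvd_of_mul_dvd_mul_left hs.pos h2
      rcases (hs.dvd_mul).mp h3 with h4 | h4
      · exact hndvd s p hs hp hpq.symm (hs.dvd_of_dvd_pow h4)
      · exact hndvd s r hs hr hqr h4
    · have e : p ^ 2 * q * s = s * (p ^ 2 * q) := by ring
      rw [e] at h2
      have h3 := Nat.dvd_of_mul_dvd_mul_left hs.pos h2
      rcases (hs.dvd_mul).mp h3 with h4 | h4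
      · exact hndvd s p hs hp hpr.symm (hs.dvd_of_dvd_pow h4)
      · exact hndvd s q hs hq hqr.symm h4
  have hfs : Fact s.Prime := ⟨hs⟩
  obtain ⟨y, hy⟩ := exists_prime_orderOf_dvd_card'
    (G := normalizer ((P : Subgroup G) : Set G)) s hsN
  rw [← Subgroup.orderOf_coe] at hy
  have hyC : (y : G) ∉ centralizer ((P : Subgroup G) : Set G) := by
    intro h
    apply hsC
    have := Subgroup.orderOf_dvd_natCard _ h
    rwa [hy] at this
  have hQs : IsPGroup s (zpowers (y : G)) := by
    rw [IsPGroup.iff_card]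
    exact ⟨1, by rw [Nat.card_zpowers, hy, pow_one]⟩
  have hQN : zpowers (y : G) ≤ normalizer ((P : Subgroup G) : Set G) := by
    rw [zpowers_le]; exact y.2
  have hmod := Cfsg.Agent.Lib.Lead.card_modEq_card_inf_centralizer (P : Subgroup G) (zpowers (y : G)) s hQs hQN
  have hDne : (P : Subgroup G) ⊓ centralizer ((zpowers (y : G) : Subgroup G) : Set G) ≠ (P : Subgroup G) := by
    intro h
    apply hyC
    rw [Subgroup.mem_centralizer_iff]
    intro u hu
    have hu' : u ∈ (P : Subgroup G) ⊓ centralizer ((zpowers (y : G) : Subgroup G) : Set G) := by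
      rw [h]; exact hu
    have := (Subgroup.mem_inf.mp hu').2
    rw [Subgroup.mem_centralizer_iff] at this
    exact (this (y : G) (mem_zpowers _)).symm
  have hDcard : Nat.card ((P : Subgroup G) ⊓ centralizer ((zpowers (y : G) : Subgroup G) : Set G) : Subgroup G) = 1 ∨
      Nat.card ((P : Subgroup G) ⊓ centralizer ((zpowers (y : G) : Subgroup G) : Set G) : Subgroup G) = p := by
    have hd : Nat.card ((P : Subgroup G) ⊓ centralizer ((zpowers (y : G) : Subgroup G) : Set G) : Subgroup G) ∣ p ^ 2 :=
      hPcard ▸ Subgroup.card_dvd_of_le inf_le_left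
    obtain ⟨i, hi, hi'⟩ := (Nat.dvd_prime_pow hp).mp hd
    have hi2 : i ≠ 2 := by
      rintro rfl
      exact hDne (Subgroup.eq_of_le_of_card_ge inf_le_left (by rw [hi', hPcard]))
    have : i = 0 ∨ i = 1 := by omega
    rcases this with rfl | rfl
    · left; rw [hi', pow_zero]
    · right; rw [hi', pow_one]
  have hsG : s ∣ Nat.card G := hsN.trans (Subgroup.card_subgroup_dvd_card _)
  have hps : p < s := by
    apply lt_of_le_of_ne (hplt s hs hsG)
    rcases hsqr with rfl | rfl
    · exact hpq
    · exact hpr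
  have hkey : p = 2 ∧ s = 3 := by
    have hsp1 : s ∣ p + 1 := by
      rcases hDcard with h1 | h1
      · rw [hPcard, h1] at hmod
        have h2 : s ∣ p ^ 2 - 1 := (Nat.modEq_iff_dvd' (Nat.one_le_pow _ _ hp.pos)).mp hmod.symm
        have h3 : p ^ 2 - 1 = (p - 1) * (p + 1) := by
          zify [Nat.one_le_pow 2 p hp.pos, hp.pos]
          ring
        rw [h3] at h2
        rcases (hs.dvd_mul).mp h2 with h4 | h4
        · exfalso
          have := Nat.le_of_dvd (by omega) h4
          omega
        · exact h4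
      · exfalso
        rw [hPcard, h1] at hmod
        have hle : p ≤ p ^ 2 := by nlinarith
        have h2 : s ∣ p ^ 2 - p := (Nat.modEq_iff_dvd' hle).mp hmod.symm
        have h3 : p ^ 2 - p = p * (p - 1) := by
          zify [hle, hp.pos]
          ring
        rw [h3] at h2
        rcases (hs.dvd_mul).mp h2 with h4 | h4
        · have := Nat.le_of_dvd hp.pos h4
          omega
        · have := Nat.le_of_dvd (by omega) h4
          omega
    have hs1 : s = p + 1 := by
      have := Nat.le_of_dvd (by omega) hsp1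
      omega
    rcases hp.eq_two_or_odd with h2 | hodd
    · exact ⟨h2, by omega⟩
    · exfalso
      have h2s : 2 ∣ s := by omega
      have := (Nat.prime_dvd_prime_iff_eq Nat.prime_two hs).mp h2s
      omega
  obtain ⟨hp2', hs3⟩ := hkey
  rcases hsqr with hsq | hsr
  · apply card_12t (t := r) _ hr
    · rw [← hp2']; exact hpr.symm
    · rw [← hs3, hsq]; exact hqr.symm
    · rw [hG, hp2', ← hsq, hs3]; ring
  · apply card_12t (t := q) _ hq
    · rw [← hp2']; exact hpq.symm
    · rw [← hs3, hsr]; exact hqr
    · rw [hG, hp2', ← hsr, hs3]; ring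

end Cfsg.Agent.S0988
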