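import Mathlib
import Cfsg.Statements.S0992
import Cfsg.Agent.Lib.Helper3.NC

set_option autoImplicit false
open Cfsg
open Cfsg.Agent.Lib.Helper3
open Subgroup

namespace Cfsg.Agent.S0992

theorem result {G : Type*} [Group G] [Finite G] [IsSimpleGroup G] (hG : ¬ IsMulCommutative G) (h2 : Even (Nat.card G)) (h8 : ¬ 8 ∣ Nat.card G) (T : Sylow 2 G) : IsKleinFour ↥(T : Subgroup G) ∧ (Subgroup.centralizer ((T : Subgroup G) : Set G)).relIndex (Subgroup.normalizer ((T : Subgroup G) : Set G)) = 3 := by
  have : Fact (Nat.Prime 2) := ⟨Nat.prime_two⟩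
  have h2dvd : 2 ∣ Nat.card G := even_iff_two_dvd.mp h2
  have hminFac : (Nat.card G).minFac = 2 := (Nat.minFac_eq_two_iff _).mpr h2dvd
  -- |T| = 2^k, 1 ≤ k ≤ 2
  have hTcard := T.card_eq_multiplicity
  set k := (Nat.card G).factorization 2 with hk
  have hk1 : 1 ≤ k := by
    have := (Nat.Prime.dvd_iff_one_le_factorization Nat.prime_two (Nat.card_pos.ne')).mp h2dvd
    exact this
  have hk2 : k ≤ 2 := by
    by_contra hcon
    push Not at hcon
    apply h8
    have h3 : 2 ^ 3 ∣ 2 ^ k := pow_dvd_pow 2 hcon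
    have h4 : 2 ^ k ∣ Nat.card G := Nat.ordProj_dvd _ _
    exact dvd_trans h3 h4
  have hTne_bot : (T : Subgroup G) ≠ ⊥ := by
    intro h
    have h1 : Nat.card (T : Subgroup G) = 1 := by rw [h]; exact Subgroup.card_bot
    rw [hTcard] at h1
    have : 2 ^ 1 ≤ 2 ^ k := Nat.pow_le_pow_right (by norm_num) hk1
    omega
  have hTne_top : (T : Subgroup G) ≠ ⊤ := by
    intro h
    have h1 : Nat.card (T : Subgroup G) = Nat.card G := by rw [h]; exact Subgroup.card_top
    rw [hTcard] at h1
    apply hG
    interval_cases k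
    · have : IsCyclic G := isCyclic_of_prime_card (p := 2) (by rw [← h1]; norm_num)
      exact ⟨⟨fun a b => this.commGroup.mul_comm a b⟩⟩
    · exact IsPGroup.isMulCommutative_of_card_eq_prime_sq (p := 2) h1.symm
  have hnotNC : ¬ normalizer ((T : Subgroup G) : Set G) ≤ centralizer ((T : Subgroup G) : Set G) := by
    intro h
    rcases sylow_eq_bot_or_top_of_normalizer_le_centralizer T h with h' | h'
    · exact hTne_bot h'
    · exact hTne_top h'
  have hnotcyc : ¬ IsCyclic (T : Subgroup G) := fun h =>
    hnotNC (IsCyclic.normalizer_le_centralizer hminFac h)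
  have hk2' : k = 2 := by
    by_contra hcon
    have hk1' : k = 1 := by omega
    apply hnotcyc
    exact isCyclic_of_prime_card (p := 2) (by rw [hTcard, hk1']; norm_num)
  have hT4 : Nat.card (T : Subgroup G) = 4 := by rw [hTcard, hk2']; norm_num
  have hsq : ∀ g : (T : Subgroup G), g ^ 2 = 1 := by
    intro g
    have hdvd : orderOf g ∣ 4 := hT4 ▸ orderOf_dvd_natCard g
    have hne4 : orderOf g ≠ 4 := by
      intro h
      exact hnotcyc (isCyclic_of_orderOf_eq_card g (by rw [h, hT4]))
    have hmem : orderOf g ∈ Nat.divisors 4 := Nat.mem_divisors.mpr ⟨hdvd, by norm_num⟩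
    have hdiv : Nat.divisors 4 = {1, 2, 4} := by decide
    rw [hdiv] at hmem
    simp only [Finset.mem_insert, Finset.mem_singleton] at hmem
    rcases hmem with h | h | h
    · rw [orderOf_eq_one_iff.mp h]; simp
    · have := pow_orderOf_eq_one g
      rwa [h] at this
    · exact absurd h hne4
  have hKlein : IsKleinFour (T : Subgroup G) := by
    refine ⟨hT4, ?_⟩
    have h1 : Monoid.exponent (T : Subgroup G) ∣ 2 := Monoid.exponent_dvd_of_forall_pow_eq_one hsq
    rcases (Nat.dvd_prime Nat.prime_two).mp h1 with h | h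
    · exfalso
      have : Subsingleton (T : Subgroup G) := Monoid.exp_eq_one_iff.mp h
      have := Nat.card_eq_one_iff_unique.mpr ⟨this, ⟨1⟩⟩
      omega
    · exact h
  refine ⟨hKlein, ?_⟩
  have hcomm : IsMulCommutative (T : Subgroup G) :=
    IsPGroup.isMulCommutative_of_card_eq_prime_sq (p := 2) (by rw [hT4]; norm_num)
  have h1 := relIndex_centralizer_normalizer_dvd_card_mulAut (T : Subgroup G)
  have h1' := dvd_trans h1 (card_mulAut_dvd_factorial (T : Subgroup G))
  rw [hT4] at h1'
  have h6 : (4 - 1).factorial = 6 := by decide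
  rw [h6] at h1'
  have h3 := relIndex_centralizer_normalizer_dvd_relIndex (T : Subgroup G)
    (le_centralizer_of_isMulCommutative (T : Subgroup G))
  have h4 : (T : Subgroup G).relIndex (normalizer ((T : Subgroup G) : Set G)) ∣ (T : Subgroup G).index :=
    relIndex_dvd_index_of_le le_normalizer
  have hodd : ¬ 2 ∣ (centralizer ((T : Subgroup G) : Set G)).relIndex (normalizer ((T : Subgroup G) : Set G)) := by
    intro h
    exact T.not_dvd_index (dvd_trans h (dvd_trans h3 h4))
  have hne1 : (centralizer ((T : Subgroup G) : Set G)).relIndex (normalizer ((T : Subgroup G) : Set G)) ≠ 1 := by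
    intro h
    exact hnotNC (relIndex_eq_one.mp h)
  have hmem : (centralizer ((T : Subgroup G) : Set G)).relIndex (normalizer ((T : Subgroup G) : Set G)) ∈ Nat.divisors 6 :=
    Nat.mem_divisors.mpr ⟨h1', by norm_num⟩
  have hdiv : Nat.divisors 6 = {1, 2, 3, 6} := by decide
  rw [hdiv] at hmem
  simp only [Finset.mem_insert, Finset.mem_singleton] at hmem
  rcases hmem with h | h | h | h
  · exact absurd h hne1
  · exfalso; apply hodd; rw [h]
  · exact h
  · exfalso; apply hodd; rw [h]; norm_num

end Cfsg.Agent.S0992
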