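import Mathlib
import Cfsg.Statements.S0994
import Cfsg.Agent.Lib.Helper3.NC

set_option autoImplicit false
open Cfsg
open Cfsg.Agent.Lib.Helper3
open Subgroup

namespace Cfsg.Agent.S0994

theorem result {G : Type*} [Group G] [Finite G] [IsSimpleGroup G] : Nat.card G ≠ 1188 := by
  intro hG
  have : Fact (Nat.Prime 11) := ⟨by norm_num⟩
  obtain ⟨P⟩ : Nonempty (Sylow 11 G) := inferInstance
  have hPcard : Nat.card P = 11 := by
    have := sylow_card_eq_of_card_eq P 1 108 (by rw [hG]; norm_num) (by norm_num)
    simpa using this
  have hPidx : (P : Subgroup G).index = 108 :=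
    sylow_index_eq_of_card_eq P 1 108 (by rw [hG]; norm_num) (by norm_num)
  have hPne_bot : (P : Subgroup G) ≠ ⊥ := by
    intro h
    have : Nat.card (P : Subgroup G) = 1 := by rw [h]; exact Subgroup.card_bot
    omega
  have hPne_top : (P : Subgroup G) ≠ ⊤ := by
    intro h
    have : Nat.card (P : Subgroup G) = Nat.card G := by rw [h]; exact Subgroup.card_top
    omega
  have hdvd : Nat.card (Sylow 11 G) ∣ 108 := hPidx ▸ P.card_dvd_index
  have hmod : Nat.card (Sylow 11 G) ≡ 1 [MOD 11] := card_sylow_modEq_one 11 G
  have hmem : Nat.card (Sylow 11 G) ∈ (Nat.divisors 108).filter (fun n => n % 11 = 1) := by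
    rw [Finset.mem_filter, Nat.mem_divisors]
    exact ⟨⟨hdvd, by norm_num⟩, hmod⟩
  have hset : (Nat.divisors 108).filter (fun n => n % 11 = 1) = {1, 12} := by decide
  rw [hset] at hmem
  simp only [Finset.mem_insert, Finset.mem_singleton] at hmem
  rcases hmem with h | h
  · have := sylow_normal_of_card_eq_one P h
    rcases this.eq_bot_or_eq_top with h' | h'
    · exact hPne_bot h'
    · exact hPne_top h'
  · -- normalizer has order 99
    have hNidx : (normalizer ((P : Subgroup G) : Set G)).index = 12 := by
      rw [← h]; exact (Sylow.card_eq_index_normalizer P).symm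
    have hNcard : Nat.card (normalizer ((P : Subgroup G) : Set G)) = 99 := by
      have := (normalizer ((P : Subgroup G) : Set G)).index_mul_card
      rw [hNidx, hG] at this
      omega
    have hPN : (P : Subgroup G).relIndex (normalizer ((P : Subgroup G) : Set G)) = 9 := by
      have h1 := ((P : Subgroup G).subgroupOf (normalizer ((P : Subgroup G) : Set G))).index_mul_card
      rw [Nat.card_congr (Subgroup.subgroupOfEquivOfLe (le_normalizer : (P : Subgroup G) ≤ _)).toEquiv,
        hPcard, hNcard] at h1
      have : (P : Subgroup G).relIndex (normalizer ((P : Subgroup G) : Set G)) * 11 = 99 := h1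
      omega
    have hcyc : IsCyclic (P : Subgroup G) := isCyclic_of_prime_card hPcard
    have hcomm : IsMulCommutative (P : Subgroup G) := ⟨⟨fun a b => hcyc.commGroup.mul_comm a b⟩⟩
    have h1 := relIndex_centralizer_normalizer_dvd_card_mulAut (P : Subgroup G)
    rw [IsCyclic.card_mulAut, hPcard, Nat.totient_prime (by norm_num)] at h1
    have h2 := relIndex_centralizer_normalizer_dvd_relIndex (P : Subgroup G)
      (le_centralizer_of_isMulCommutative (P : Subgroup G))
    rw [hPN] at h2
    have h3 : (centralizer ((P : Subgroup G) : Set G)).relIndex (normalizer ((P : Subgroup G) : Set G)) = 1 := by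
      have := Nat.dvd_gcd h1 h2
      simpa using this
    have h4 : normalizer ((P : Subgroup G) : Set G) ≤ centralizer ((P : Subgroup G) : Set G) :=
      relIndex_eq_one.mp h3
    rcases sylow_eq_bot_or_top_of_normalizer_le_centralizer P h4 with h' | h'
    · exact hPne_bot h'
    · exact hPne_top h'

end Cfsg.Agent.S0994
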