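import Mathlib
-- Template for statement S0995 (row 995; see /opt/grader/pristine/manifest.json for weights).
-- Copy to Cfsg/Agent/S0995.lean and replace the sorry. The statement below is byte-identical to the frozen
-- statement Cfsg.CfsgFrozen.S0995 (Cfsg/Statements/S0995.lean; the theorem Cfsg.card_formula_of_self_centralizing_prime_order_element);
-- the grader kernel-checks Cfsg.Agent.S0995.result against that frozen type. Keep the theorem IN THIS FILE
-- (a `result` declared elsewhere and merely imported here is not credited); helpers may live anywhere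
-- under Cfsg/Agent/.
import Cfsg.Statements.S0995
import Cfsg.Agent.Lib.Helper3.SylowCount
import Cfsg.Agent.Lib.Helper3.Count
import Cfsg.Agent.Lib.Helper3.PrimeOrder

set_option autoImplicit false
open Cfsg
open Cfsg.Agent.Lib.Helper3

namespace Cfsg.Agent.S0995

/-- Let G be a finite perfect group containing an element z of prime order p whose centralizer is the cyclic group it generates. Let t be the number of conjugacy classes of elements of order p. Then t divides p - 1, the number of Sylow p-subgroups has the form 1 + n * p, and |G| * t = (p - 1) * p * (1 + n * p). -/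
theorem result {G : Type*} [Group G] [Finite G] (hperf : commutator G = ⊤) (p : ℕ) [Fact p.Prime] (z : G) (hz : orderOf z = p) (hC : Subgroup.centralizer ({z} : Set G) = Subgroup.zpowers z) : ∃ n t : ℕ, t = Nat.card {c : ConjClasses G // ∃ g : G, ConjClasses.mk g = c ∧ orderOf g = p} ∧ t ∣ p - 1 ∧ Nat.card (Sylow p G) = 1 + n * p ∧ Nat.card G * t = (p - 1) * p * (1 + n * p) := by
  classical
  have hp : p.Prime := Fact.out
  have hz1 : z ≠ 1 := by
    rintro rfl
    rw [orderOf_one] at hz
    exact hp.one_lt.ne hz
  have hcardZ : Nat.card ↥(Subgroup.zpowers z) = p := by rw [Nat.card_zpowers, hz]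
  have hzp : IsPGroup p ↥(Subgroup.zpowers z) :=
    IsPGroup.of_card (n := 1) (by rw [hcardZ, pow_one])
  obtain ⟨Q, hQ⟩ := hzp.exists_le_sylow
  have hzQ : z ∈ (Q : Subgroup G) := hQ (Subgroup.mem_zpowers z)
  haveI : Nontrivial ↥(Q : Subgroup G) :=
    ⟨⟨⟨z, hzQ⟩, 1, fun h => hz1 (congrArg Subtype.val h)⟩⟩
  have hcen := Q.2.bot_lt_center
  obtain ⟨c, hc, hc1⟩ := SetLike.exists_of_lt hcen
  have hc1' : (c : G) ≠ 1 := by
    intro h
    apply hc1
    rw [Subgroup.mem_bot]
    exact Subtype.ext h
  rw [Subgroup.mem_center_iff] at hc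
  have hcz : (c : G) ∈ Subgroup.zpowers z := by
    rw [← hC, Subgroup.mem_centralizer_singleton_iff]
    have := hc ⟨z, hzQ⟩
    exact (congrArg Subtype.val this).symm
  have hzc : Subgroup.zpowers (c : G) = Subgroup.zpowers z :=
    zpowers_eq_of_card_prime hp _ hcardZ hcz hc1'
  have hQeq : (Q : Subgroup G) = Subgroup.zpowers z := by
    apply le_antisymm _ hQ
    intro q hq
    rw [← hC, Subgroup.mem_centralizer_singleton_iff]
    have hzc' : z ∈ Subgroup.zpowers (c : G) := by rw [hzc]; exact Subgroup.mem_zpowers z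
    obtain ⟨k, hk⟩ := hzc'
    have h1 : (c : G) * q = q * (c : G) := by
      have := hc ⟨q, hq⟩
      exact (congrArg Subtype.val this).symm
    rw [← hk]
    exact ((Commute.zpow_left (h1 : Commute (c : G) q) k)).eq.symm
  have hQcard : Nat.card ↥(Q : Subgroup G) = p := by rw [hQeq, hcardZ]
  -- number of elements of order `p`
  have hE := card_orderOf_eq_prime Q hQcard
  -- every class of elements of order `p` has `|G| / p` elements
  have hpG : p ∣ Nat.card G := by
    rw [← hz]; exact orderOf_dvd_natCard z
  obtain ⟨m, hm⟩ := hpG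
  set T := {c : ConjClasses G // ∃ g : G, ConjClasses.mk g = c ∧ orderOf g = p} with hT
  let f : {g : G // orderOf g = p} → T := fun g => ⟨ConjClasses.mk g.1, g.1, rfl, g.2⟩
  have hfib : ∀ c : T, Nat.card {a // f a = c} = m := by
    rintro ⟨c, g, rfl, hg⟩
    -- a conjugate of `g` in `⟨z⟩`
    have hgp : IsPGroup p ↥(Subgroup.zpowers g) :=
      IsPGroup.of_card (n := 1) (by rw [Nat.card_zpowers, hg, pow_one])
    obtain ⟨R, hR⟩ := hgp.exists_le_sylow
    obtain ⟨a, ha⟩ := MulAction.exists_smul_eq G R Q
    have hgR : g ∈ (R : Subgroup G) := hR (Subgroup.mem_zpowers g)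
    have hw : a * g * a⁻¹ ∈ Subgroup.zpowers z := by
      rw [← hQeq, ← ha, Sylow.coe_subgroup_smul, Subgroup.mem_pointwise_smul_iff_inv_smul_mem]
      simpa [MulAut.smul_def, mul_assoc] using hgR
    set w := a * g * a⁻¹ with hwdef
    have hwo : orderOf w = p := by
      have := MulEquiv.orderOf_eq (MulAut.conj a) g
      rw [← hg, ← this]; rfl
    have hw1 : w ≠ 1 := by
      intro h
      rw [h, orderOf_one] at hwo
      exact hp.one_lt.ne hwo
    have hCw : Nat.card ↥(Subgroup.centralizer ({w} : Set G)) = p := by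
      rw [centralizer_eq_of_mem_zpowers_prime hp z w hz hw hw1, hC, hcardZ]
    have hcl := card_conj_class_mul_card_centralizer w
    rw [hCw, hm, mul_comm] at hcl
    have hcl' : Nat.card {g : G // IsConj w g} = m := Nat.eq_of_mul_eq_mul_left hp.pos hcl
    rw [← hcl']
    apply Nat.card_congr
    have hwg : IsConj g w := isConj_iff.mpr ⟨a, rfl⟩
    refine
      { toFun := fun b => ⟨b.1.1, ?_⟩
        invFun := fun b => ⟨⟨b.1, ?_⟩, ?_⟩
        left_inv := fun b => rfl
        right_inv := fun b => rfl }
    · have := congrArg Subtype.val b.2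
      have h2 : ConjClasses.mk b.1.1 = ConjClasses.mk g := this
      rw [ConjClasses.mk_eq_mk_iff_isConj] at h2
      exact hwg.symm.trans h2.symm
    · have h2 : IsConj g b.1 := hwg.trans b.2
      obtain ⟨d, hd⟩ := isConj_iff.mp h2
      have := MulEquiv.orderOf_eq (MulAut.conj d) g
      rw [← hg, ← this, ← hd]; rfl
    · apply Subtype.ext
      show ConjClasses.mk b.1 = ConjClasses.mk g
      rw [ConjClasses.mk_eq_mk_iff_isConj]
      exact (hwg.trans b.2).symm
  have hE2 := card_eq_mul_of_fibres f m hfib
  -- Sylow count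
  have hmod := card_sylow_modEq_one p G
  have hnp : Nat.card (Sylow p G) = 1 + (Nat.card (Sylow p G) / p) * p := by
    have h1 : Nat.card (Sylow p G) % p = 1 := by
      have := hmod
      unfold Nat.ModEq at this
      rw [this, Nat.mod_eq_of_lt hp.one_lt]
    have := Nat.div_add_mod (Nat.card (Sylow p G)) p
    rw [h1] at this
    rw [mul_comm] at this
    omega
  refine ⟨Nat.card (Sylow p G) / p, Nat.card T, rfl, ?_, hnp, ?_⟩
  · -- `t ∣ p - 1`
    have h1 : Nat.card (Sylow p G) * Nat.card ↥(Subgroup.normalizer ((Q : Subgroup G) : Set G)) = Nat.card G := by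
      rw [Sylow.card_eq_index_normalizer Q, mul_comm]
      exact Subgroup.card_mul_index _
    have h2 : p ∣ Nat.card ↥(Subgroup.normalizer ((Q : Subgroup G) : Set G)) := by
      have := Subgroup.card_dvd_of_le (Subgroup.le_normalizer (H := (Q : Subgroup G)))
      rwa [hQcard] at this
    obtain ⟨k, hk⟩ := h2
    refine ⟨k, ?_⟩
    have h3 : Nat.card (Sylow p G) * (p - 1) = Nat.card T * m := by rw [← hE, hE2]
    have h4 : Nat.card (Sylow p G) * (p * k) = p * m := by rw [← hk, h1, hm]
    have hpos : 0 < Nat.card (Sylow p G) := Nat.card_pos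
    have h5 : m = Nat.card (Sylow p G) * k := by
      apply Nat.eq_of_mul_eq_mul_left hp.pos
      rw [← h4]; ring
    rw [h5] at h3
    apply Nat.eq_of_mul_eq_mul_left hpos
    rw [h3]; ring
  · rw [← hnp, hm]
    have h3 : Nat.card (Sylow p G) * (p - 1) = Nat.card T * m := by rw [← hE, hE2]
    calc p * m * Nat.card T = p * (Nat.card T * m) := by ring
      _ = p * (Nat.card (Sylow p G) * (p - 1)) := by rw [h3]
      _ = _ := by ring

end Cfsg.Agent.S0995
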