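import Cfsg.Statements.S0996
import Cfsg.Agent.Lib.Helper7.Brn22

set_option autoImplicit false
open Cfsg

namespace Cfsg.Agent.S0996

open Cfsg.Agent.H7Brauer

/-- Let G be a finite perfect group containing an element z of prime order p whose centralizer is the cyclic group it generates, and suppose the number 1 + n * p of Sylow p-subgroups satisfies n < (p + 3) / 2. Then p > 3 and G is isomorphic to the projective special linear group of dimension 2 over the field with p elements, or p - 1 is a power of 2 and G is isomorphic to that group over the field with p - 1 elements. -/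
theorem result {G : Type*} [Group G] [Finite G] (hperf : commutator G = ⊤) (p : ℕ) [Fact p.Prime] (z : G) (hz : orderOf z = p) (hC : Subgroup.centralizer ({z} : Set G) = Subgroup.zpowers z) (hn : 2 * Nat.card (Sylow p G) < (p + 1) * (p + 2)) : (∃ (F : Type) (_ : Field F) (_ : Fintype F), Fintype.card F = p ∧ 3 < p ∧ Nonempty (G ≃* Matrix.ProjectiveSpecialLinearGroup (Fin 2) F)) ∨ (∃ (m : ℕ) (F : Type) (_ : Field F) (_ : Fintype F), Fintype.card F = 2 ^ m ∧ p = 2 ^ m + 1 ∧ 3 < p ∧ Nonempty (G ≃* Matrix.ProjectiveSpecialLinearGroup (Fin 2) F)) := by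
  classical
  have hp : p.Prime := Fact.out
  have : Fintype G := Fintype.ofFinite G
  have : Fintype (IrrCharacter G) := Fintype.ofFinite _
  have hself : ∀ g : G, g * z = z * g → g ∈ Subgroup.zpowers z := by
    intro g hg
    rw [← hC, Subgroup.mem_centralizer_iff]
    intro y hy
    rw [Set.mem_singleton_iff.1 hy]
    exact hg.symm
  obtain ⟨e, Q, instQ, ε, W, a, m0, hcardN, P⟩ := exists_pat hz hself
  have he2 : 2 ≤ e := two_le_of_perfect hz hself hperf hcardN
  have hp3 : 3 ≤ p := P.three_le he2
  -- the number of Sylow subgroups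
  have hmod := card_sylow_modEq_one p G
  obtain ⟨n, hm⟩ : ∃ n, Nat.card (Sylow p G) = 1 + n * p := by
    refine ⟨Nat.card (Sylow p G) / p, ?_⟩
    have h1 := Nat.div_add_mod (Nat.card (Sylow p G)) p
    have h2 : Nat.card (Sylow p G) % p = 1 := by
      have := hmod
      unfold Nat.ModEq at this
      rw [this, Nat.mod_eq_of_lt hp.one_lt]
    rw [h2] at h1
    rw [mul_comm] at h1
    omega
  have hz1 : z ≠ 1 := by
    intro h
    rw [h, orderOf_one] at hz
    exact hp.one_lt.ne hz
  have hn1 : 1 ≤ n := by
    by_contra h0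
    have hn0 : n = 0 := by omega
    rw [hn0, zero_mul, add_zero] at hm
    have : Subsingleton (Sylow p G) := (Nat.card_eq_one_iff_unique.1 hm).1
    obtain ⟨S, hS⟩ := exists_sylow_eq hz hself
    have hnorm : (Subgroup.zpowers z).Normal := hS ▸ Sylow.normal_of_subsingleton S
    have htop := eq_top_of_zpowers_le (x := z) hz hself hperf (Subgroup.zpowers z) le_rfl
    have hcomm : ∀ c d : G, c * d = d * c := by
      intro c d
      have hc : c ∈ Subgroup.zpowers z := htop ▸ Subgroup.mem_top c
      have hd : d ∈ Subgroup.zpowers z := htop ▸ Subgroup.mem_top d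
      obtain ⟨i, rfl⟩ := Subgroup.mem_zpowers_iff.1 hc
      obtain ⟨j, rfl⟩ := Subgroup.mem_zpowers_iff.1 hd
      rw [← zpow_add, ← zpow_add, add_comm]
    exact hz1 (hom_trivial_of_perfect hcomm hperf (MonoidHom.id G) z)
  have hn2 : 2 * n ≤ p + 1 := by
    rw [hm] at hn
    have h1 : p * (2 * n) < p * (p + 3) := by nlinarith
    have h2 : 2 * n < p + 3 := Nat.lt_of_mul_lt_mul_left h1
    have hodd : Odd p := hp.odd_of_ne_two (by omega)
    obtain ⟨k, hk⟩ := hodd
    omega
  have S : Setup z p e n := ⟨hz, hself, hperf, hcardN, hm, hn2, hn1⟩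
  -- the number of exceptional characters
  have hQpos : 0 < Fintype.card Q := by
    rcases Nat.eq_zero_or_pos (Fintype.card Q) with h | h
    · have := P.hQe
      rw [h, zero_mul] at this
      omega
    · exact h
  by_cases ht1 : Fintype.card Q = 1
  · exact (P.t1_false S ht1).elim
  have ht2 : 2 ≤ Fintype.card Q := by omega
  have helt : e < p := P.e_lt ht2 he2
  rcases P.hε with hε | hε
  · -- ε = 1
    obtain ⟨-, hn'⟩ := P.caseI_main S ht2 hε
    exact Or.inl (S.e1_final hn' helt)
  · -- ε = -1
    by_cases hn' : n = 1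
    · exact Or.inl (S.e1_final hn' helt)
    · by_cases he : 2 < e
      · exact absurd (P.caseII_big S ht2 hε he) hn'
      · have he' : e = 2 := by omega
        exact Or.inr (P.e2_final S ht2 hε he')

end Cfsg.Agent.S0996
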