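import Cfsg.Statements.S0999
import Cfsg.Agent.Lib.Helper1.BR2
import Cfsg.Agent.Lib.Helper1.BR10

set_option autoImplicit false
open Cfsg

namespace Cfsg.Agent.S0999

/-- Let G be a non-cyclic finite simple group and p a prime divisor of its order with p^3 > |G|. Then p > 3 and G is isomorphic to the projective special linear group of dimension 2 over the field with p elements, or p - 1 is a power of 2 and G is isomorphic to that group over the field with p - 1 elements. -/
theorem result {G : Type*} [Group G] [Finite G] [IsSimpleGroup G] (hG : ¬ IsCyclic G) (p : ℕ) (hp : p.Prime) (hdvd : p ∣ Nat.card G) (hbig : Nat.card G < p ^ 3) : (∃ (F : Type) (_ : Field F) (_ : Fintype F), Fintype.card F = p ∧ 3 < p ∧ Nonempty (G ≃* Matrix.ProjectiveSpecialLinearGroup (Fin 2) F)) ∨ (∃ (m : ℕ) (F : Type) (_ : Field F) (_ : Fintype F), Fintype.card F = 2 ^ m ∧ p = 2 ^ m + 1 ∧ 3 < p ∧ Nonempty (G ≃* Matrix.ProjectiveSpecialLinearGroup (Fin 2) F)) := by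
  classical
  have : Fintype G := Fintype.ofFinite G
  have : Fact p.Prime := ⟨hp⟩
  obtain ⟨x, hx⟩ := exists_prime_orderOf_dvd_card' (G := G) p hdvd
  obtain ⟨q, k, n, hq2, hk1, hn1, hq, hCk, hn, hcard, hwn⟩ :=
    Cfsg.Agent.Lib.Helper1.BR.setup hG hdvd hbig hx
  have hp2 := hp.two_le
  rcases Nat.lt_or_ge n 2 with h | h
  · have hn1' : n = 1 := by omega
    subst hn1'
    left
    have hnp : Nat.card (Sylow p G) = p + 1 := by
      rw [hn]
      ring
    have hcard' : Nat.card G = (p + 1) * p * (q * k) := by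
      rw [hcard]
      ring
    have hd : q * k < p := by omega
    have hd2 : 2 ≤ q * k := by
      have : 2 * 1 ≤ q * k := Nat.mul_le_mul hq2 hk1
      omega
    obtain ⟨K, i1, i2, hK, h3, he⟩ :=
      Cfsg.Agent.Lib.Helper1.BR.case_one hG hdvd hnp hcard' hd hd2
    exact ⟨K, i1, i2, hK, h3, he⟩
  · right
    exact Cfsg.Agent.Lib.Helper1.BR.case_two hG hdvd hbig h hn

end Cfsg.Agent.S0999
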