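import Cfsg.Statements.S0997
import Cfsg.Agent.Lib.Helper6.BT10
import Cfsg.Agent.S0999

set_option autoImplicit false
open Cfsg

namespace Cfsg.Agent.S0997

/-- Let G be a non-cyclic finite simple group of order p * q^b * g₀, where p and q are distinct primes and g₀ < p - 1. Then either p has the form 2^m + 1 or 2^m - 1 and G is isomorphic to the projective special linear group of dimension 2 over the field with p elements, or p = 2^m + 1 > 3 and G is isomorphic to that group over the field with 2^m elements. -/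
theorem result {G : Type*} [Group G] [Finite G] [IsSimpleGroup G] (hG : ¬ IsCyclic G) (p q b g₀ : ℕ) (hp : p.Prime) (hq : q.Prime) (hpq : p ≠ q) (hG' : Nat.card G = p * q ^ b * g₀) (hg : g₀ < p - 1) : (∃ (m : ℕ) (F : Type) (_ : Field F) (_ : Fintype F), Fintype.card F = p ∧ (p = 2 ^ m + 1 ∨ p = 2 ^ m - 1) ∧ Nonempty (G ≃* Matrix.ProjectiveSpecialLinearGroup (Fin 2) F)) ∨ (∃ (m : ℕ) (F : Type) (_ : Field F) (_ : Fintype F), Fintype.card F = 2 ^ m ∧ p = 2 ^ m + 1 ∧ 3 < p ∧ Nonempty (G ≃* Matrix.ProjectiveSpecialLinearGroup (Fin 2) F)) := by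
  classical
  have hg0 : g₀ ≠ 0 := by
    intro h
    rw [h, mul_zero] at hG'
    exact Nat.card_pos.ne' hG'
  obtain ⟨k, g1, hqg1, hg01⟩ := Nat.exists_eq_pow_mul_and_not_dvd hg0 q hq.ne_one
  have hcard : Nat.card G = p * q ^ (b + k) * g1 := by
    rw [hG', hg01, pow_add]
    ring
  have hg1le : g1 ≤ g₀ := Nat.le_of_dvd (Nat.pos_of_ne_zero hg0) (Dvd.intro_left _ hg01.symm)
  have hg1 : g1 + 1 < p := by omega
  obtain ⟨hbig, m, hm⟩ :=
    Cfsg.Agent.Lib.Helper6.BT.brauer_tuan_small hG hp hq hpq hcard hqg1 hg1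
  have hdvd : p ∣ Nat.card G := by
    rw [hG', mul_assoc]
    exact Dvd.intro _ rfl
  rcases Cfsg.Agent.S0999.result hG p hp hdvd hbig with h | h
  · obtain ⟨F, i1, i2, hF, -, hiso⟩ := h
    exact Or.inl ⟨m, F, i1, i2, hF, hm, hiso⟩
  · exact Or.inr h

end Cfsg.Agent.S0997
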