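import Cfsg.Statements.S0998
import Cfsg.Agent.Lib.Helper6.BT10
import Cfsg.Agent.S0219
import Cfsg.Agent.S0253
import Cfsg.Agent.S0494
import Cfsg.Agent.S0495

set_option autoImplicit false
open Cfsg

namespace Cfsg.Agent.S0998


theorem three_dvd_even (k : ℕ) : 3 ∣ 2 ^ (2 * k) - 1 := by
  have h : 2 ^ (2 * k) = 4 ^ k := by
    rw [pow_mul]
    norm_num
  rw [h]
  have h5 : 4 ^ k % 3 = 1 := by
    rw [Nat.pow_mod]
    norm_num
  omega

theorem three_dvd_odd (k : ℕ) : 3 ∣ 2 ^ (2 * k + 1) + 1 := by
  have h1 := three_dvd_even k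
  have h2 : 1 ≤ 2 ^ (2 * k) := Nat.one_le_two_pow
  have h3 : 2 ^ (2 * k + 1) + 1 = 2 * (2 ^ (2 * k) - 1) + 3 := by
    rw [pow_succ]
    omega
  rw [h3]
  exact dvd_add (Dvd.dvd.mul_left h1 2) (dvd_refl 3)

/-- a simple group of order `6 q^b` with `q` odd is cyclic -/
theorem no_six {G : Type*} [Group G] [Finite G] [IsSimpleGroup G]
    {q b : ℕ} (hqodd : Odd q) (hcard : Nat.card G = 3 * 2 * q ^ b) : False := by
  classical
  have : Fact (Nat.Prime 2) := ⟨Nat.prime_two⟩
  have hmodd : Odd (3 * q ^ b) := (by decide : Odd 3).mul hqodd.pow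
  have hcard' : Nat.card G = 2 * (3 * q ^ b) := by
    rw [hcard]
    ring
  have heven : Even (Nat.card G) := by
    rw [hcard']
    exact even_two_mul _
  obtain ⟨T⟩ : Nonempty (Sylow 2 G) := inferInstance
  obtain ⟨j, hj⟩ := IsPGroup.iff_card.1 T.2
  have hdvd : 2 ^ j ∣ 2 * (3 * q ^ b) := by
    rw [← hj, ← hcard']
    exact Subgroup.card_subgroup_dvd_card _
  have hj1 : j ≤ 1 := by
    by_contra hlt
    push Not at hlt
    have h1 : 2 ^ 2 ∣ 2 * (3 * q ^ b) := dvd_trans (pow_dvd_pow 2 hlt) hdvd
    have h2 : 2 * 2 ∣ 2 * (3 * q ^ b) := by simpa using h1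
    have h3 : 2 ∣ 3 * q ^ b := Nat.dvd_of_mul_dvd_mul_left (by norm_num) h2
    rcases hmodd with ⟨k, hk⟩
    omega
  have hT : IsCyclic (T : Subgroup G) := by
    rcases Nat.eq_zero_or_pos j with h0 | h0
    · rw [h0, pow_zero] at hj
      have : Subsingleton (T : Subgroup G) := (Nat.card_eq_one_iff_unique.1 hj).1
      exact isCyclic_of_subsingleton
    · have hj' : j = 1 := by omega
      rw [hj', pow_one] at hj
      exact isCyclic_of_prime_card hj
  obtain ⟨H, hH⟩ := Cfsg.Agent.S0219.result heven T hT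
  have hHn : H.Normal := Subgroup.normal_of_index_eq_two hH
  rcases hHn.eq_bot_or_eq_top with h | h
  · rw [h, Subgroup.index_bot, hcard'] at hH
    have : 0 < q ^ b := pow_pos hqodd.pos b
    omega
  · rw [h, Subgroup.index_top] at hH
    omega

/-- the order is `60` or `168` -/
theorem core {G : Type*} [Group G] [Finite G] [IsSimpleGroup G] (hG : ¬ IsCyclic G)
    (p q r b : ℕ) (hp : p.Prime) (hq : q.Prime) (hr : r.Prime) (hpq : p ≠ q) (hqr : q ≠ r)
    (hlt : r < p) (hG' : Nat.card G = p * r * q ^ b) :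
    Nat.card G = 60 ∨ Nat.card G = 168 := by
  have hr2 := hr.two_le
  by_cases h1 : r + 1 < p
  · have hcard : Nat.card G = p * q ^ b * r := by
      rw [hG']
      ring
    have hqr' : ¬ q ∣ r := fun h => hqr ((Nat.prime_dvd_prime_iff_eq hq hr).1 h)
    obtain ⟨hq2, h | h | h⟩ :=
      Cfsg.Agent.Lib.Helper6.BT.brauer_tuan_shape hG hp hq hpq hcard hqr' h1
    · obtain ⟨a, ha1, ha2, ha3⟩ := h
      right
      rcases Nat.even_or_odd' a with ⟨k, hk | hk⟩
      · exfalso
        have h3 : 3 ∣ p := by
          have := three_dvd_even k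
          rw [← hk, ← ha1] at this
          simpa using this
        have : p = 3 := ((Nat.prime_dvd_prime_iff_eq Nat.prime_three hp).1 h3).symm
        omega
      · have h2a : 2 ^ a = 2 * 2 ^ (2 * k) := by
          rw [hk, pow_succ]
          ring
        have h3 : 3 ∣ r := by
          have h4 := three_dvd_even k
          have : r = 2 ^ (2 * k) - 1 := by omega
          rwa [this]
        have hr3 : r = 3 := ((Nat.prime_dvd_prime_iff_eq Nat.prime_three hr).1 h3).symm
        have hp7 : p = 7 := by omega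
        have h8 : 2 ^ a = 8 := by omega
        rw [hG', hq2, ha3, h8, hp7, hr3]
    · obtain ⟨a, ha1, ha2, ha3⟩ := h
      left
      rcases Nat.even_or_odd' a with ⟨k, hk | hk⟩
      · have h3 : 3 ∣ r := by
          have h4 := three_dvd_even k
          have : r = 2 ^ (2 * k) - 1 := by
            rw [← hk]
            omega
          rwa [this]
        have hr3 : r = 3 := ((Nat.prime_dvd_prime_iff_eq Nat.prime_three hr).1 h3).symm
        have hp5 : p = 5 := by omega
        have h4 : 2 ^ a = 4 := by omega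
        rw [hG', hq2, ha3, h4, hp5, hr3]
      · exfalso
        have h3 : 3 ∣ p := by
          have := three_dvd_odd k
          rwa [← hk, ← ha1] at this
        have : p = 3 := ((Nat.prime_dvd_prime_iff_eq Nat.prime_three hp).1 h3).symm
        omega
    · obtain ⟨c, hc, hc1, hc2, hc3⟩ := h
      exfalso
      have h4c : 2 ^ 2 ≤ 2 ^ c := Nat.pow_le_pow_right (by norm_num) hc
      rcases Nat.even_or_odd' c with ⟨k, hk | hk⟩
      · have h3 : 3 ∣ p := by
          have := three_dvd_odd k
          rwa [← hk, ← hc1] at this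
        have : p = 3 := ((Nat.prime_dvd_prime_iff_eq Nat.prime_three hp).1 h3).symm
        have h5 : 2 ^ (c + 1) = 2 * 2 ^ c := by rw [pow_succ']
        omega
      · have h3 : 3 ∣ r := by
          have := three_dvd_odd k
          rwa [← hk, ← hc2] at this
        have : r = 3 := ((Nat.prime_dvd_prime_iff_eq Nat.prime_three hr).1 h3).symm
        omega
  · exfalso
    have hrp : p = r + 1 := by omega
    have hr2' : r = 2 := by
      rcases hr.eq_two_or_odd with h | h
      · exact h
      · exfalso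
        have hp2 : p = 2 := (hp.eq_two_or_odd).resolve_right (by omega)
        omega
    have hp3 : p = 3 := by omega
    have hq2 : q ≠ 2 := by
      rintro rfl
      exact hqr hr2'.symm
    have hqodd : Odd q := hq.odd_of_ne_two hq2
    exact no_six hqodd (by rw [hG', hp3, hr2'])

/-- A non-cyclic finite simple group whose order has the form p * r * q^b for distinct primes p, q, r is isomorphic to the projective special linear group of dimension 2 over the field with 5 or with 7 elements. -/
theorem result {G : Type*} [Group G] [Finite G] [IsSimpleGroup G] (hG : ¬ IsCyclic G) (p q r b : ℕ) (hp : p.Prime) (hq : q.Prime) (hr : r.Prime) (hpq : p ≠ q) (hpr : p ≠ r) (hqr : q ≠ r) (hG' : Nat.card G = p * r * q ^ b) : (∃ (F : Type) (_ : Field F) (_ : Fintype F), Fintype.card F = 5 ∧ Nonempty (G ≃* Matrix.ProjectiveSpecialLinearGroup (Fin 2) F)) ∨ (∃ (F : Type) (_ : Field F) (_ : Fintype F), Fintype.card F = 7 ∧ Nonempty (G ≃* Matrix.ProjectiveSpecialLinearGroup (Fin 2) F)) := by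
  have key : Nat.card G = 60 ∨ Nat.card G = 168 := by
    rcases lt_or_gt_of_ne hpr with h | h
    · exact core hG r q p b hr hq hp hqr.symm hpq.symm h (by rw [hG']; ring)
    · exact core hG p q r b hp hq hr hpq hqr h hG'
  rcases key with h | h
  · left
    have : Fact (Nat.Prime 5) := ⟨by norm_num⟩
    obtain ⟨e1⟩ := Cfsg.Agent.S0494.result h
    obtain ⟨e2⟩ := Cfsg.Agent.S0253.result (F := ZMod 5) (ZMod.card 5)
    exact ⟨ZMod 5, inferInstance, inferInstance, ZMod.card 5, ⟨e1.trans e2.symm⟩⟩
  · right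
    have : Fact (Nat.Prime 7) := ⟨by norm_num⟩
    exact ⟨ZMod 7, inferInstance, inferInstance, ZMod.card 7,
      Cfsg.Agent.S0495.result h (F := ZMod 7) (ZMod.card 7)⟩

end Cfsg.Agent.S0998
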