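import Mathlib
import Cfsg.Statements.S1001
import Cfsg.Agent.S0904
import Cfsg.Agent.S0144

set_option autoImplicit false
open Cfsg

namespace Cfsg.Agent.S1001

/-- a solvable simple group is commutative -/
theorem comm_of_solvable_simple {G : Type*} [Group G] [IsSimpleGroup G] [Group.IsSolvable G]
    (x y : G) : x * y = y * x := by
  have h := IsSimpleGroup.comm_iff_isSolvable (G := G)
  exact (h.2 inferInstance) x y

/-- In a finite simple group whose order has the form p * 3^a * 2^b with p prime, the centralizer of any element of order p is the cyclic group it generates. -/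
theorem result {G : Type*} [Group G] [Finite G] [IsSimpleGroup G] (p a b : ℕ) (hp : p.Prime) (hG : Nat.card G = p * 3 ^ a * 2 ^ b) (x : G) (hx : orderOf x = p) : Subgroup.centralizer ({x} : Set G) = Subgroup.zpowers x := by
  classical
  haveI : Fact p.Prime := ⟨hp⟩
  by_cases h23 : p = 2 ∨ p = 3
  · -- Burnside: G is solvable, hence commutative, hence of prime order
    have hsolv : Group.IsSolvable G := by
      rcases h23 with h | h
      · subst h
        refine Cfsg.Agent.S0144.result (G := G) 2 3 (b + 1) a Nat.prime_two Nat.prime_three ?_
        rw [hG]; ring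
      · subst h
        refine Cfsg.Agent.S0144.result (G := G) 3 2 (a + 1) b Nat.prime_three Nat.prime_two ?_
        rw [hG]; ring
    have hcomm : ∀ u v : G, u * v = v * u := fun u v => comm_of_solvable_simple u v
    -- centralizer is everything
    have hcent : Subgroup.centralizer ({x} : Set G) = ⊤ := by
      rw [eq_top_iff]
      intro g _
      rw [Subgroup.mem_centralizer_iff]
      intro h _
      exact hcomm h g
    -- zpowers x is normal (commutative), nontrivial, hence everything
    have hnormal : (Subgroup.zpowers x).Normal := by
      constructor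
      intro n hn g
      have : g * n * g⁻¹ = n := by rw [hcomm g n, mul_assoc, mul_inv_cancel, mul_one]
      rw [this]; exact hn
    have hne : Subgroup.zpowers x ≠ ⊥ := by
      intro hbot
      have hx1 : x = 1 := by
        have : x ∈ Subgroup.zpowers x := Subgroup.mem_zpowers x
        rw [hbot] at this
        exact Subgroup.mem_bot.mp this
      rw [hx1, orderOf_one] at hx
      exact hp.one_lt.ne' hx.symm
    have htop : Subgroup.zpowers x = ⊤ := (hnormal.eq_bot_or_eq_top).resolve_left hne
    rw [hcent, htop]
  · push_neg at h23
    obtain ⟨h2, h3⟩ := h23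
    -- Sylow p-subgroup containing x
    have hpx : IsPGroup p (Subgroup.zpowers x) := by
      rw [IsPGroup.iff_card]
      exact ⟨1, by rw [Nat.card_zpowers, hx, pow_one]⟩
    obtain ⟨S, hS⟩ := hpx.exists_le_sylow
    -- card of S is p
    have hcop : ¬ p ∣ 3 ^ a * 2 ^ b := by
      intro hd
      rcases (Nat.Prime.dvd_mul hp).1 hd with h | h
      · have := (Nat.prime_dvd_prime_iff_eq hp Nat.prime_three).1 (hp.dvd_of_dvd_pow h)
        exact h3 this
      · have := (Nat.prime_dvd_prime_iff_eq hp Nat.prime_two).1 (hp.dvd_of_dvd_pow h)
        exact h2 this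
    have hScard : Nat.card S = p := by
      have h1 := S.card_eq_multiplicity
      rw [h1, hG]
      have hfac : (p * 3 ^ a * 2 ^ b).factorization p = 1 := by
        have hne1 : p ≠ 0 := hp.ne_zero
        have hne2 : 3 ^ a * 2 ^ b ≠ 0 := by positivity
        rw [mul_assoc, Nat.factorization_mul hne1 hne2]
        simp only [Finsupp.coe_add, Pi.add_apply]
        rw [Nat.Prime.factorization_self hp, Nat.factorization_eq_zero_of_not_dvd hcop]
      rw [hfac, pow_one]
    have hSeq : Subgroup.zpowers x = (S : Subgroup G) := by
      apply Subgroup.eq_of_le_of_card_ge hS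
      rw [Nat.card_zpowers, hx]
      exact le_of_eq hScard
    have key := Cfsg.Agent.S0904.result (G := G) 3 2 p a b Nat.prime_three Nat.prime_two
      (by decide) (Ne.symm h3) (Ne.symm h2) (by rw [hG]; ring) S
    have hc : Subgroup.centralizer ({x} : Set G) =
        Subgroup.centralizer ((Subgroup.zpowers x : Subgroup G) : Set G) := by
      ext g
      simp only [Subgroup.mem_centralizer_iff, Set.mem_singleton_iff, forall_eq, SetLike.mem_coe]
      constructor
      · intro h y hy
        obtain ⟨k, rfl⟩ := Subgroup.mem_zpowers_iff.mp hy
        have hcomm : Commute x g := h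
        exact (hcomm.zpow_left k).eq
      · intro h
        exact h x (Subgroup.mem_zpowers x)
    rw [hc, hSeq]
    exact key

end Cfsg.Agent.S1001
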