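import Cfsg.Statements.S1002
import Mathlib
import Cfsg.Agent.Lib.Helper7.PTI12
-- import your own Cfsg.Agent.* helpers here

set_option autoImplicit false
open Cfsg

namespace Cfsg.Agent.S1002

/-- No finite simple group has order 1004913 = 3^3 * 7 * 13 * 409. -/
theorem result {G : Type*} [Group G] [Finite G] [IsSimpleGroup G] : Nat.card G ≠ 1004913 := by
  intro hcard
  haveI : Fintype G := Fintype.ofFinite G
  have hdiv : ∀ n, n ∣ 2457 → n % 409 = 1 → n = 1 ∨ n = 819 := by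
    intro n hn hmod
    have hle : n ≤ 2457 := Nat.le_of_dvd (by norm_num) hn
    obtain ⟨k, hk⟩ : ∃ k, n = 409 * k + 1 := ⟨n / 409, by omega⟩
    have hk6 : k ≤ 6 := by omega
    subst hk
    interval_cases k <;> omega
  have cand : ∀ (a : ℤ) (f : ℕ), (a = 1 ∨ a = -1) → f ≠ 1 → f ∣ 409 * 2457 →
      ((409 : ℕ) : ℤ) ∣ (f : ℤ) - a → (a = 1 ∧ f = 819) := by
    intro a f ha hf1 hf hfa
    have hfg : f ∣ 2457 := Cfsg.Agent.Lib.Helper7.PTI.dvd_cofactor (by norm_num) ha hf hfa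
    have hle : f ≤ 2457 := Nat.le_of_dvd (by norm_num) hfg
    obtain ⟨c, hc⟩ := hfa
    rcases ha with rfl | rfl
    · obtain ⟨k, hk⟩ : ∃ k : ℕ, f = 409 * k + 1 := ⟨f / 409, by omega⟩
      have hk10 : k ≤ 6 := by omega
      subst hk
      interval_cases k <;> omega
    · have hf0 : 0 < f := Nat.pos_of_dvd_of_pos hfg (by norm_num)
      obtain ⟨k, hk⟩ : ∃ k : ℕ, f = 409 * k + 408 := ⟨(f + 1) / 409 - 1, by omega⟩
      have hk10 : k ≤ 6 := by omega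
      subst hk
      interval_cases k <;> omega
  obtain ⟨a₂, a₃, f₂, f₃, d₀, ha₂, ha₃, hf₂1, hf₃1, hf₂, hf₃, hfa₂, hfa₃, hd, hd0, -⟩ :=
    Cfsg.Agent.Lib.Helper7.PTI.simple_e3 (G := G) (p := 409) (g := 2457) (n₀ := 819) (by norm_num)
      (by rw [hcard]) (by norm_num) (by norm_num) hdiv (by norm_num)
  have hd' : (d₀ : ℤ) = 1 + a₂ * (f₂ : ℤ) + a₃ * (f₃ : ℤ) ∨
      (d₀ : ℤ) = -(1 + a₂ * (f₂ : ℤ) + a₃ * (f₃ : ℤ)) := by
    rw [hd0]; exact abs_choice _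
  rcases cand a₂ f₂ ha₂ hf₂1 hf₂ hfa₂ with ⟨rfl, rfl⟩ <;>
  rcases cand a₃ f₃ ha₃ hf₃1 hf₃ hfa₃ with ⟨rfl, rfl⟩ <;>
  · have hd3 : d₀ = 1639 := by omega
    subst hd3
    omega

end Cfsg.Agent.S1002
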