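import Mathlib
-- Template for statement S1003 (row 1003; see /opt/grader/pristine/manifest.json for weights).
-- Copy to Cfsg/Agent/S1003.lean and replace the sorry. The statement below is byte-identical to the frozen
-- statement Cfsg.CfsgFrozen.S1003 (Cfsg/Statements/S1003.lean; the theorem Cfsg.simple_card_168_sylow_numbers);
-- the grader kernel-checks Cfsg.Agent.S1003.result against that frozen type. Keep the theorem IN THIS FILE
-- (a `result` declared elsewhere and merely imported here is not credited); helpers may live anywhere
-- under Cfsg/Agent/.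
import Cfsg.Statements.S1003
import Cfsg.Agent.Lib.Helper3.Ord168_3

set_option autoImplicit false
open Cfsg
open Cfsg.Agent.Lib.Helper3.Ord168

namespace Cfsg.Agent.S1003

/-- A simple group of order 168 has exactly 21 Sylow 2-subgroups, 28 Sylow 3-subgroups and 8 Sylow 7-subgroups. -/
theorem result {G : Type*} [Group G] [Finite G] [IsSimpleGroup G] (h : Nat.card G = 168) : Nat.card (Sylow 2 G) = 21 ∧ Nat.card (Sylow 3 G) = 28 ∧ Nat.card (Sylow 7 G) = 8 := by
  exact ⟨card_sylow2 h, card_sylow3 h, card_sylow7 h⟩

end Cfsg.Agent.S1003
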