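import Mathlib
-- Template for statement S1004 (row 1004; see /opt/grader/pristine/manifest.json for weights).
-- Copy to Cfsg/Agent/S1004.lean and replace the sorry. The statement below is byte-identical to the frozen
-- statement Cfsg.CfsgFrozen.S1004 (Cfsg/Statements/S1004.lean; the theorem Cfsg.simple_card_168_sylow_two_dihedral_self_normalizing);
-- the grader kernel-checks Cfsg.Agent.S1004.result against that frozen type. Keep the theorem IN THIS FILE
-- (a `result` declared elsewhere and merely imported here is not credited); helpers may live anywhere
-- under Cfsg/Agent/.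
import Cfsg.Statements.S1004
import Cfsg.Agent.Lib.Helper3.Ord168_7

set_option autoImplicit false
open Cfsg
open Cfsg.Agent.Lib.Helper3.Ord168

namespace Cfsg.Agent.S1004

/-- Let G be a simple group of order 168 and T a Sylow 2-subgroup. Then T is dihedral of order 8, T is its own normalizer, and T is the centralizer of any non-identity element of T that commutes with every element of T. -/
theorem result {G : Type*} [Group G] [Finite G] [IsSimpleGroup G] (h : Nat.card G = 168) (T : Sylow 2 G) : Nonempty (↥(T : Subgroup G) ≃* DihedralGroup 4) ∧ Subgroup.normalizer ((T : Subgroup G) : Set G) = T ∧ ∀ z : G, z ∈ (T : Subgroup G) → z ≠ 1 → (∀ t ∈ (T : Subgroup G), t * z = z * t) → Subgroup.centralizer ({z} : Set G) = T := by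
  exact ⟨sylow2_dihedral h T, normalizer_sylow2 h T, fun z hzT hz1 hc => centralizer_eq_sylow h T z hz1 hc hzT⟩

end Cfsg.Agent.S1004
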