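import Mathlib
-- Template for statement S1005 (row 1005; see /opt/grader/pristine/manifest.json for weights).
-- Copy to Cfsg/Agent/S1005.lean and replace the sorry. The statement below is byte-identical to the frozen
-- statement Cfsg.CfsgFrozen.S1005 (Cfsg/Statements/S1005.lean; the theorem Cfsg.simple_card_168_element_orders_and_involutions);
-- the grader kernel-checks Cfsg.Agent.S1005.result against that frozen type. Keep the theorem IN THIS FILE
-- (a `result` declared elsewhere and merely imported here is not credited); helpers may live anywhere
-- under Cfsg/Agent/.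
import Cfsg.Statements.S1005
import Cfsg.Agent.Lib.Helper3.Ord168_6

set_option autoImplicit false
open Cfsg
open Cfsg.Agent.Lib.Helper3.Ord168

namespace Cfsg.Agent.S1005

/-- In a simple group of order 168 every element has order 1, 2, 3, 4 or 7; there are exactly 21 elements of order 2, and any two of them are conjugate. -/
theorem result {G : Type*} [Group G] [Finite G] [IsSimpleGroup G] (h : Nat.card G = 168) : (∀ g : G, orderOf g = 1 ∨ orderOf g = 2 ∨ orderOf g = 3 ∨ orderOf g = 4 ∨ orderOf g = 7) ∧ Nat.card {g : G // orderOf g = 2} = 21 ∧ ∀ s t : G, orderOf s = 2 → orderOf t = 2 → IsConj s t := by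
  exact ⟨orderOf_mem h, card_orderOf_two h, isConj_of_orderOf_two h⟩

end Cfsg.Agent.S1005
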