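import Mathlib
-- Template for statement S1006 (row 1006; see /opt/grader/pristine/manifest.json for weights).
-- Copy to Cfsg/Agent/S1006.lean and replace the sorry. The statement below is byte-identical to the frozen
-- statement Cfsg.CfsgFrozen.S1006 (Cfsg/Statements/S1006.lean; the theorem Cfsg.simple_card_168_class_sizes);
-- the grader kernel-checks Cfsg.Agent.S1006.result against that frozen type. Keep the theorem IN THIS FILE
-- (a `result` declared elsewhere and merely imported here is not credited); helpers may live anywhere
-- under Cfsg/Agent/.
import Cfsg.Statements.S1006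
import Cfsg.Agent.Lib.Helper3.Ord168_6

set_option autoImplicit false
open Cfsg
open Cfsg.Agent.Lib.Helper3.Ord168

namespace Cfsg.Agent.S1006

/-- In a simple group of order 168 there are 56 elements of order 3, all conjugate; 42 elements of order 4, all conjugate; and 48 elements of order 7 falling into two conjugacy classes of size 24, an element of order 7 not being conjugate to its inverse. -/
theorem result {G : Type*} [Group G] [Finite G] [IsSimpleGroup G] (h : Nat.card G = 168) : Nat.card {g : G // orderOf g = 3} = 56 ∧ (∀ s t : G, orderOf s = 3 → orderOf t = 3 → IsConj s t) ∧ Nat.card {g : G // orderOf g = 4} = 42 ∧ (∀ s t : G, orderOf s = 4 → orderOf t = 4 → IsConj s t) ∧ Nat.card {g : G // orderOf g = 7} = 48 ∧ ∀ x : G, orderOf x = 7 → Nat.card {g : G // IsConj x g} = 24 ∧ ¬ IsConj x x⁻¹ := by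
  exact ⟨card_orderOf_three h, isConj_of_orderOf_three h, card_orderOf_four h, isConj_of_orderOf_four h,
    card_orderOf_seven h, fun x hx => ⟨card_class_order7 h hx, not_isConj_inv h hx⟩⟩

end Cfsg.Agent.S1006
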