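import Mathlib
-- Template for statement S1008 (row 1008; see /opt/grader/pristine/manifest.json for weights).
-- Copy to Cfsg/Agent/S1008.lean and replace the sorry. The statement below is byte-identical to the frozen
-- statement Cfsg.CfsgFrozen.S1008 (Cfsg/Statements/S1008.lean; the theorem Cfsg.simple_card_168_maximal_subgroups);
-- the grader kernel-checks Cfsg.Agent.S1008.result against that frozen type. Keep the theorem IN THIS FILE
-- (a `result` declared elsewhere and merely imported here is not credited); helpers may live anywhere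
-- under Cfsg/Agent/.
import Cfsg.Statements.S1008
import Cfsg.Agent.Lib.Helper3.Ord168_11

set_option autoImplicit false
open Cfsg
open Cfsg.Agent.Lib.Helper3.Ord168 Cfsg.Agent.Lib.Helper3 Cfsg.Agent.Lib.Helper6 Subgroup

namespace Cfsg.Agent.S1008

/-- In a simple group of order 168 every maximal subgroup is either isomorphic to the symmetric group of degree 4 or non-abelian of order 21; the maximal subgroups of order 21 form one conjugacy class and those isomorphic to the symmetric group of degree 4 form exactly two conjugacy classes. -/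
theorem result {G : Type*} [Group G] [Finite G] [IsSimpleGroup G] (h : Nat.card G = 168) : (∀ M : Subgroup G, IsCoatom M → Nonempty (↥M ≃* Equiv.Perm (Fin 4)) ∨ (Nat.card ↥M = 21 ∧ ¬ IsMulCommutative ↥M)) ∧ (∀ M M' : Subgroup G, IsCoatom M → IsCoatom M' → Nat.card ↥M = 21 → Nat.card ↥M' = 21 → ∃ g : G, M' = M.map (MulAut.conj g).toMonoidHom) ∧ ∃ M₁ M₂ : Subgroup G, IsCoatom M₁ ∧ IsCoatom M₂ ∧ Nonempty (↥M₁ ≃* Equiv.Perm (Fin 4)) ∧ Nonempty (↥M₂ ≃* Equiv.Perm (Fin 4)) ∧ (∀ g : G, M₂ ≠ M₁.map (MulAut.conj g).toMonoidHom) ∧ ∀ M : Subgroup G, IsCoatom M → Nonempty (↥M ≃* Equiv.Perm (Fin 4)) → ∃ g : G, M = M₁.map (MulAut.conj g).toMonoidHom ∨ M = M₂.map (MulAut.conj g).toMonoidHom := by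
  have hS4 : ∀ M : Subgroup G, Nat.card M = 24 → Nonempty (↥M ≃* Equiv.Perm (Fin 4)) := by
    intro M hM
    apply Cfsg.Agent.S1012.result hM
    intro g hg
    rw [← Subgroup.orderOf_coe] at hg
    rcases orderOf_mem h (g : G) with h' | h' | h' | h' | h' <;> omega
  have hcard4 : Nat.card (Equiv.Perm (Fin 4)) = 24 := by
    rw [Nat.card_eq_fintype_card, Fintype.card_perm, Fintype.card_fin]; rfl
  refine ⟨?_, ?_, ?_⟩
  · intro M hM
    rcases coatom_cases h M hM with h24 | ⟨P, hP⟩
    · exact Or.inl (hS4 M h24)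
    · right
      have hc : Nat.card M = 21 := by rw [hP, card_normalizer_sylow7 h]
      refine ⟨hc, ?_⟩
      intro hcomm
      have hPM : (P : Subgroup G) ≤ M := by rw [hP]; exact le_normalizer
      have hle : M ≤ centralizer ((P : Subgroup G) : Set G) := by
        intro m hm
        rw [Subgroup.mem_centralizer_iff]
        intro y hy
        have := hcomm.is_comm.comm ⟨y, hPM hy⟩ ⟨m, hm⟩
        exact congrArg Subtype.val this
      rw [centralizer_sylow7 h] at hle
      have := Subgroup.card_le_of_le hle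
      rw [hc, card_sylow7_sub h] at this
      omega
  · intro M M' hM hM' hc hc'
    rcases coatom_cases h M hM with h24 | ⟨P, hP⟩
    · omega
    rcases coatom_cases h M' hM' with h24 | ⟨P', hP'⟩
    · omega
    obtain ⟨g, hg⟩ := MulAction.exists_smul_eq G P P'
    refine ⟨g, ?_⟩
    rw [hP', hP, ← normalizer_map_conj, ← sylow_smul_eq_map_conj, hg]
  · obtain ⟨T⟩ : Nonempty (Sylow 2 G) := inferInstance
    obtain ⟨⟨K0, hK0T, hK0⟩, ⟨K1, hK1T, hK1⟩, hne, huniv⟩ :=
      Nat.card_eq_two_iff.mp (card_klein_le_sylow h T)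
    have hne' : K0 ≠ K1 := fun hh => hne (Subtype.ext hh)
    have hall : ∀ U : Subgroup G, U ≤ (T : Subgroup G) → IsKleinFour U → U = K0 ∨ U = K1 := by
      intro U hUT hU
      have : (⟨U, hUT, hU⟩ : {U : Subgroup G // U ≤ (T : Subgroup G) ∧ IsKleinFour ↥U}) ∈
          ({⟨K0, hK0T, hK0⟩, ⟨K1, hK1T, hK1⟩} : Set _) := by rw [huniv]; exact Set.mem_univ _
      rcases this with h' | h'
      · left; exact congrArg Subtype.val h'
      · right; exact congrArg Subtype.val h'
    refine ⟨normalizer (K0 : Set G), normalizer (K1 : Set G),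
      isCoatom_of_card_24 h _ (card_normalizer_klein h K0 hK0),
      isCoatom_of_card_24 h _ (card_normalizer_klein h K1 hK1),
      normalizer_klein_equiv h K0 hK0, normalizer_klein_equiv h K1 hK1, ?_, ?_⟩
    · intro g heq
      rw [← normalizer_map_conj] at heq
      have := klein_eq_of_normalizer_eq h K1 _ hK1 (isKleinFour_map_conj K0 hK0 g) heq
      exact klein_not_conj h T K0 K1 hK0T hK1T hK0 hK1 hne' g this.symm
    · intro M hM ⟨e⟩
      have hM24 : Nat.card M = 24 := by rw [Nat.card_congr e.toEquiv, hcard4]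
      obtain ⟨U, hU, hMU⟩ := exists_klein_normalizer_eq h M hM24
      obtain ⟨T'', hUT''⟩ := klein_le_sylow U hU
      obtain ⟨k, hk⟩ := MulAction.exists_smul_eq G T'' T
      have hU'T : U.map (MulAut.conj k).toMonoidHom ≤ (T : Subgroup G) := by
        rw [← hk, sylow_smul_eq_map_conj]
        exact Subgroup.map_mono hUT''
      have hU' := isKleinFour_map_conj U hU k
      have hback : (U.map (MulAut.conj k).toMonoidHom).map (MulAut.conj k⁻¹).toMonoidHom = U := by
        have := map_conj_inv_map_conj U k⁻¹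
        rwa [inv_inv] at this
      refine ⟨k⁻¹, ?_⟩
      rcases hall _ hU'T hU' with h' | h'
      · left
        rw [← normalizer_map_conj, ← h', hback]; exact hMU
      · right
        rw [← normalizer_map_conj, ← h', hback]; exact hMU

end Cfsg.Agent.S1008
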