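import Mathlib
-- Template for statement S1009 (row 1009; see /opt/grader/pristine/manifest.json for weights).
-- Copy to Cfsg/Agent/S1009.lean and replace the sorry. The statement below is byte-identical to the frozen
-- statement Cfsg.CfsgFrozen.S1009 (Cfsg/Statements/S1009.lean; the theorem Cfsg.brodkey_abelian_sylow_intersection);
-- the grader kernel-checks Cfsg.Agent.S1009.result against that frozen type. Keep the theorem IN THIS FILE
-- (a `result` declared elsewhere and merely imported here is not credited); helpers may live anywhere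
-- under Cfsg/Agent/.
import Cfsg.Statements.S1009
import Cfsg.Agent.Lib.Helper3.Brodkey2

set_option autoImplicit false
open Cfsg
open Cfsg.Agent.Lib.Helper3 Cfsg.Agent.Lib.Lead
open scoped Pointwise

namespace Cfsg.Agent.S1009

/-- Brodkey's Theorem: if a finite group has abelian Sylow p-subgroups, then there are two Sylow p-subgroups whose intersection equals the intersection of all Sylow p-subgroups. -/
theorem result {G : Type*} [Group G] [Finite G] (p : ℕ) [Fact p.Prime] (hab : ∀ P : Sylow p G, IsMulCommutative ↥(P : Subgroup G)) : ∃ P Q : Sylow p G, (P : Subgroup G) ⊓ (Q : Subgroup G) = ⨅ R : Sylow p G, (R : Subgroup G) := by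
  obtain ⟨S⟩ : Nonempty (Sylow p G) := inferInstance
  have hcomm : ∀ a ∈ (S : Subgroup G), ∀ b ∈ (S : Subgroup G), a * b = b * a := by
    intro a ha b hb
    have := (hab S).is_comm.comm ⟨a, ha⟩ ⟨b, hb⟩
    exact congrArg Subtype.val this
  obtain ⟨g, hg⟩ := brodkey_general p S hcomm
  refine ⟨S, g • S, le_antisymm ?_ ?_⟩
  · rw [Sylow.coe_subgroup_smul]; exact hg
  · exact le_inf (iInf_le _ S) (iInf_le _ (g • S))

end Cfsg.Agent.S1009
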