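import Mathlib
-- Template for statement S1011 (row 1011; see /opt/grader/pristine/manifest.json for weights).
-- Copy to Cfsg/Agent/S1011.lean and replace the sorry. The statement below is byte-identical to the frozen
-- statement Cfsg.CfsgFrozen.S1011 (Cfsg/Statements/S1011.lean; the theorem Cfsg.simple_of_card_504_iso_psl_two_eight);
-- the grader kernel-checks Cfsg.Agent.S1011.result against that frozen type. Keep the theorem IN THIS FILE
-- (a `result` declared elsewhere and merely imported here is not credited); helpers may live anywhere
-- under Cfsg/Agent/.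
import Cfsg.Statements.S1011
import Cfsg.Agent.Lib.Helper3.Ord504_5

set_option autoImplicit false
open Cfsg


namespace Cfsg.Agent.S1011

/-- A simple group of order 504 is isomorphic to the projective special linear group of dimension 2 over the field with 8 elements. -/
theorem result {G : Type*} [Group G] [Finite G] [IsSimpleGroup G] (h : Nat.card G = 504) {F : Type*} [Field F] [Fintype F] (hF : Fintype.card F = 8) : Nonempty (G ≃* Matrix.ProjectiveSpecialLinearGroup (Fin 2) F) := by
  obtain ⟨F', hF1, hF2, hcard, ⟨e⟩⟩ := Cfsg.Agent.Lib.Helper3.Ord504.exists_equiv_psl h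
  have e2 : F' ≃+* F := FiniteField.ringEquivOfCardEq (by rw [hcard, hF])
  obtain ⟨e3⟩ := Cfsg.Agent.Lib.Helper2.PSLRingEquiv.pslEquiv (n := Fin 2) e2
  exact ⟨e.trans e3⟩

end Cfsg.Agent.S1011
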