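import Mathlib
-- Template for statement S1014 (row 1014; see /opt/grader/pristine/manifest.json for weights).
-- Copy to Cfsg/Agent/S1014.lean and replace the sorry. The statement below is byte-identical to the frozen
-- statement Cfsg.CfsgFrozen.S1014 (Cfsg/Statements/S1014.lean; the theorem Cfsg.not_simple_of_card_1104);
-- the grader kernel-checks Cfsg.Agent.S1014.result against that frozen type. Keep the theorem IN THIS FILE
-- (a `result` declared elsewhere and merely imported here is not credited); helpers may live anywhere
-- under Cfsg/Agent/.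
import Cfsg.Statements.S1014
import Cfsg.Agent.Lib.Helper3.NS1
import Cfsg.Agent.Lib.Helper3.SylowCount

set_option autoImplicit false
open Cfsg
open Cfsg.Agent.Lib.Helper3 Cfsg.Agent.Lib.Helper3.NS
open Subgroup

namespace Cfsg.Agent.S1014

/-- No finite simple group has order 1104 = 2^4 * 3 * 23. -/
theorem result {G : Type*} [Group G] [Finite G] [IsSimpleGroup G] : Nat.card G ≠ 1104 := by
  intro hG
  have hna : ¬ IsMulCommutative G :=
    not_isMulCommutative_of_not_prime (by rw [hG]; norm_num)
  have : Fact (Nat.Prime 23) := ⟨by norm_num⟩
  obtain ⟨P⟩ : Nonempty (Sylow 23 G) := inferInstance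
  have hPcard : Nat.card P = 23 := by
    have := sylow_card_eq_of_card_eq P 1 48 (by rw [hG]; norm_num) (by norm_num)
    simpa using this
  have hPidx : (P : Subgroup G).index = 48 :=
    sylow_index_eq_of_card_eq P 1 48 (by rw [hG]; norm_num) (by norm_num)
  have hPne_bot : (P : Subgroup G) ≠ ⊥ := by
    intro h
    have : Nat.card (P : Subgroup G) = 1 := by rw [h]; exact Subgroup.card_bot
    omega
  have hPne_top : (P : Subgroup G) ≠ ⊤ := by
    intro h
    have : Nat.card (P : Subgroup G) = Nat.card G := by rw [h]; exact Subgroup.card_top
    omega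
  have hdvd : Nat.card (Sylow 23 G) ∣ 48 := hPidx ▸ P.card_dvd_index
  have hmod : Nat.card (Sylow 23 G) ≡ 1 [MOD 23] := card_sylow_modEq_one 23 G
  have hmem : Nat.card (Sylow 23 G) ∈ (Nat.divisors 48).filter (fun n => n % 23 = 1) := by
    rw [Finset.mem_filter, Nat.mem_divisors]
    exact ⟨⟨hdvd, by norm_num⟩, hmod⟩
  have hset : (Nat.divisors 48).filter (fun n => n % 23 = 1) = {1, 24} := by decide
  rw [hset] at hmem
  simp only [Finset.mem_insert, Finset.mem_singleton] at hmem
  rcases hmem with h | h
  · have := sylow_normal_of_card_eq_one P h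
    rcases this.eq_bot_or_eq_top with h' | h'
    · exact hPne_bot h'
    · exact hPne_top h'
  · have hNidx : (normalizer ((P : Subgroup G) : Set G)).index = 24 := by
      rw [← h]; exact (Sylow.card_eq_index_normalizer P).symm
    have hNcard : Nat.card (normalizer ((P : Subgroup G) : Set G)) = 46 := by
      have := (normalizer ((P : Subgroup G) : Set G)).index_mul_card
      rw [hNidx, hG] at this
      omega
    have := two_mul_card_normalizer_dvd hna (p := 23) (by norm_num) P hPcard (Or.inr hNidx)
    rw [hNcard] at this
    norm_num at this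

end Cfsg.Agent.S1014
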