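import Mathlib
-- Template for statement S1015 (row 1015; see /opt/grader/pristine/manifest.json for weights).
-- Copy to Cfsg/Agent/S1015.lean and replace the sorry. The statement below is byte-identical to the frozen
-- statement Cfsg.CfsgFrozen.S1015 (Cfsg/Statements/S1015.lean; the theorem Cfsg.not_simple_of_card_1200);
-- the grader kernel-checks Cfsg.Agent.S1015.result against that frozen type. Keep the theorem IN THIS FILE
-- (a `result` declared elsewhere and merely imported here is not credited); helpers may live anywhere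
-- under Cfsg/Agent/.
import Cfsg.Statements.S1015
import Cfsg.Agent.Lib.Helper3.NS2
import Cfsg.Agent.S0985

set_option autoImplicit false
open Cfsg
open Cfsg.Agent.Lib.Helper3 Cfsg.Agent.Lib.Helper3.NS
open Subgroup

namespace Cfsg.Agent.S1015

/-- No finite simple group has order 1200 = 2^4 * 3 * 5^2. -/
theorem result {G : Type*} [Group G] [Finite G] [IsSimpleGroup G] : Nat.card G ≠ 1200 := by
  intro hG
  have hna : ¬ IsMulCommutative G :=
    not_isMulCommutative_of_not_prime (by rw [hG]; norm_num)
  have : Fact (Nat.Prime 5) := ⟨by norm_num⟩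
  have hcardS : ∀ Q : Sylow 5 G, Nat.card (Q : Subgroup G) = 25 := by
    intro Q
    have := sylow_card_eq_of_card_eq Q 2 48 (by rw [hG]; norm_num) (by norm_num)
    simpa using this
  obtain ⟨P⟩ : Nonempty (Sylow 5 G) := inferInstance
  have hPcard := hcardS P
  have hPidx : (P : Subgroup G).index = 48 :=
    sylow_index_eq_of_card_eq P 2 48 (by rw [hG]; norm_num) (by norm_num)
  have hne_bot : ∀ D : Subgroup G, 1 < Nat.card D → D ≠ ⊥ := by
    intro D hD h
    rw [h, Subgroup.card_bot] at hD; omega
  have hne_top : ∀ D : Subgroup G, Nat.card D < 1200 → D ≠ ⊤ := by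
    intro D hD h
    rw [h, Subgroup.card_top, hG] at hD; omega
  have hdvd : Nat.card (Sylow 5 G) ∣ 48 := hPidx ▸ P.card_dvd_index
  have hmod : Nat.card (Sylow 5 G) ≡ 1 [MOD 5] := card_sylow_modEq_one 5 G
  have hmem : Nat.card (Sylow 5 G) ∈ (Nat.divisors 48).filter (fun n => n % 5 = 1) := by
    rw [Finset.mem_filter, Nat.mem_divisors]
    exact ⟨⟨hdvd, by norm_num⟩, hmod⟩
  have hset : (Nat.divisors 48).filter (fun n => n % 5 = 1) = {1, 6, 16} := by decide
  rw [hset] at hmem
  simp only [Finset.mem_insert, Finset.mem_singleton] at hmem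
  rcases hmem with h | h | h
  · have := sylow_normal_of_card_eq_one P h
    rcases this.eq_bot_or_eq_top with h' | h'
    · exact hne_bot _ (by omega) h'
    · exact hne_top _ (by omega) h'
  · have hNidx : (normalizer ((P : Subgroup G) : Set G)).index = 6 := by
      rw [← h]; exact (Sylow.card_eq_index_normalizer P).symm
    have hNtop : normalizer ((P : Subgroup G) : Set G) ≠ ⊤ := by
      intro h'
      rw [h', Subgroup.index_top] at hNidx; omega
    have := two_mul_card_dvd_factorial hna _ hNtop
    rw [hNidx, hG] at this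
    norm_num [Nat.factorial] at this
  · have hnot : ¬ Nat.card (Sylow 5 G) ≡ 1 [MOD 5 ^ 2] := by
      rw [h]; decide
    obtain ⟨P₁, R, hne, hidx⟩ := Cfsg.Agent.S0985.result 5 2 hnot
    set D : Subgroup G := (P₁ : Subgroup G) ⊓ (R : Subgroup G) with hD
    have hDP : D ≤ (P₁ : Subgroup G) := inf_le_left
    have hDR : D ≤ (R : Subgroup G) := inf_le_right
    have hrel : D.relIndex (P₁ : Subgroup G) * Nat.card D = 25 := by
      have h1 := (D.subgroupOf (P₁ : Subgroup G)).index_mul_card
      rw [Nat.card_congr (Subgroup.subgroupOfEquivOfLe hDP).toEquiv, hcardS P₁] at h1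
      exact h1
    have hrel2 : D.relIndex (P₁ : Subgroup G) ≤ 5 := by
      have : D.relIndex (P₁ : Subgroup G) = (R : Subgroup G).relIndex (P₁ : Subgroup G) := by
        rw [hD, inf_comm, Subgroup.inf_relIndex_right]
      rw [this]
      exact hidx
    have hDne : D ≠ (P₁ : Subgroup G) := by
      intro h'
      apply hne
      have hle : (P₁ : Subgroup G) ≤ (R : Subgroup G) := by rw [← h']; exact hDR
      apply Sylow.ext
      exact Subgroup.eq_of_le_of_card_ge hle (by rw [hcardS P₁, hcardS R])
    have hDcard : Nat.card D = 5 := by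
      have h1 : Nat.card D ∣ 25 := Dvd.intro_left _ hrel
      have h2 : Nat.card D < 25 := by
        by_contra hcon
        exact hDne (Subgroup.eq_of_le_of_card_ge hDP (by rw [hcardS P₁]; omega))
      have h3 : Nat.card D ∈ Nat.divisors 25 := Nat.mem_divisors.mpr ⟨h1, by norm_num⟩
      have h4 : Nat.divisors 25 = {1, 5, 25} := by decide
      rw [h4] at h3
      simp only [Finset.mem_insert, Finset.mem_singleton] at h3
      rcases h3 with h3 | h3 | h3
      · rw [h3] at hrel; omega
      · exact h3
      · omega
    have hnorm : ∀ Q : Sylow 5 G, D ≤ (Q : Subgroup G) →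
        (Q : Subgroup G) ≤ normalizer (D : Set G) := by
      intro Q hDQ x hx
      have hcomm := (IsPGroup.isMulCommutative_of_card_eq_prime_sq (p := 5) (G := (Q : Subgroup G))
        (by rw [hcardS Q]; norm_num)).is_comm.comm
      rw [Subgroup.mem_normalizer_iff]
      intro d
      by_cases hd : d ∈ D
      · have := hcomm ⟨x, hx⟩ ⟨d, hDQ hd⟩
        have h2 : x * d = d * x := congrArg Subtype.val this
        have h3 : x * d * x⁻¹ = d := by rw [h2]; group
        rw [h3]
      · constructor
        · intro h'; exact absurd h' hd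
        · intro h'
          exfalso
          apply hd
          have := hcomm ⟨x⁻¹, Subgroup.inv_mem _ hx⟩ ⟨x * d * x⁻¹, hDQ h'⟩
          have h2 : x⁻¹ * (x * d * x⁻¹) = (x * d * x⁻¹) * x⁻¹ := congrArg Subtype.val this
          have h3 : d = x⁻¹ * (x * d * x⁻¹) * x := by group
          rw [h3, h2]
          have : x * d * x⁻¹ * x⁻¹ * x = x * d * x⁻¹ := by group
          rw [this]; exact h'
    set H := normalizer (D : Set G) with hH
    have hHtop : H ≠ ⊤ := by
      intro h'
      have hDn : D.Normal := Subgroup.normalizer_eq_top_iff.mp h'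
      rcases hDn.eq_bot_or_eq_top with h'' | h''
      · exact hne_bot _ (by omega) h''
      · exact hne_top _ (by omega) h''
    obtain ⟨h6, hdvd2⟩ := card_sylow_subgroup_of_two H P₁ R (hnorm P₁ hDP) (hnorm R hDR) hne
    rw [hcardS P₁] at hdvd2
    have hHcard : 150 ≤ Nat.card H := by
      have h1 : Nat.card (Sylow 5 H) * 25 ≤ Nat.card H := Nat.le_of_dvd Nat.card_pos hdvd2
      omega
    have hHidx : H.index ≤ 8 := by
      have := H.index_mul_card
      rw [hG] at this
      by_contra hcon
      push Not at hcon
      have : 9 * 150 ≤ H.index * Nat.card H := Nat.mul_le_mul hcon hHcard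
      omega
    have h1 := two_mul_card_dvd_factorial hna H hHtop
    have h2 : (H.index).factorial ∣ (8).factorial := Nat.factorial_dvd_factorial hHidx
    have h3 := h1.trans h2
    rw [hG] at h3
    norm_num [Nat.factorial] at h3

end Cfsg.Agent.S1015
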