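import Mathlib
-- Template for statement S1018 (row 1018; see /opt/grader/pristine/manifest.json for weights).
-- Copy to Cfsg/Agent/S1018.lean and replace the sorry. The statement below is byte-identical to the frozen
-- statement Cfsg.CfsgFrozen.S1018 (Cfsg/Statements/S1018.lean; the theorem Cfsg.fixed_points_le_orbits_of_mem_sylow_normalizer_not_centralizer);
-- the grader kernel-checks Cfsg.Agent.S1018.result against that frozen type. Keep the theorem IN THIS FILE
-- (a `result` declared elsewhere and merely imported here is not credited); helpers may live anywhere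
-- under Cfsg/Agent/.
import Cfsg.Statements.S1018


set_option autoImplicit false
open Cfsg

namespace Cfsg.Agent.S1018

/-- Let P be a Sylow p-subgroup of order p of a finite group G, and consider the action of G on the left cosets of the normalizer N of P. Then every element of order p fixes exactly one coset, and an element of N that does not centralize P fixes at most as many cosets as there are orbits of P. -/
theorem result {G : Type*} [Group G] [Finite G] (p : ℕ) [Fact p.Prime] (P : Sylow p G) (hP : Nat.card ↥(P : Subgroup G) = p) : (∀ y : G, orderOf y = p → Nat.card (MulAction.fixedBy (G ⧸ Subgroup.normalizer ((P : Subgroup G) : Set G)) y) = 1) ∧ ∀ x : G, x ∈ Subgroup.normalizer ((P : Subgroup G) : Set G) → x ∉ Subgroup.centralizer ((P : Subgroup G) : Set G) → Nat.card (MulAction.fixedBy (G ⧸ Subgroup.normalizer ((P : Subgroup G) : Set G)) x) ≤ Nat.card (MulAction.orbitRel.Quotient ↥(P : Subgroup G) (G ⧸ Subgroup.normalizer ((P : Subgroup G) : Set G))) := by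
  classical
  have hp : p.Prime := Fact.out
  set N := Subgroup.normalizer ((P : Subgroup G) : Set G) with hN
  have hPN : (P : Subgroup G) ≤ N := Subgroup.le_normalizer
  -- fixed cosets
  have hfix : ∀ (y g : G), y • (g : G ⧸ N) = (g : G ⧸ N) ↔ g⁻¹ * y * g ∈ N := by
    intro y g
    rw [MulAction.Quotient.smul_coe, eq_comm, QuotientGroup.eq, smul_eq_mul, ← mul_assoc]
  have hord : ∀ g y : G, orderOf (g⁻¹ * y * g) = orderOf y := by
    intro g y
    have := MulEquiv.orderOf_eq (MulAut.conj g⁻¹) y
    simpa using this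
  -- elements of order `p` in `N` lie in `P`
  have hNP : ∀ w : G, orderOf w = p → w ∈ N → w ∈ (P : Subgroup G) := by
    intro w hw hwN
    have hwp : IsPGroup p ↥(Subgroup.zpowers w) := by
      apply IsPGroup.of_card (n := 1)
      rw [Nat.card_zpowers, hw, pow_one]
    have := hwp.inf_normalizer_sylow P
    have h1 : w ∈ Subgroup.zpowers w ⊓ Subgroup.normalizer (P : Set G) :=
      ⟨Subgroup.mem_zpowers w, hwN⟩
    rw [this] at h1
    exact h1.2
  -- a subgroup of order `p` is generated by each of its non-identity elements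
  have hgen : ∀ (Q : Subgroup G), Nat.card ↥Q = p → ∀ w ∈ Q, w ≠ 1 → Subgroup.zpowers w = Q := by
    intro Q hQ w hw hw1
    apply Subgroup.eq_of_le_of_card_ge
    · rw [Subgroup.zpowers_le]; exact hw
    · rw [hQ, Nat.card_zpowers]
      have hdvd : orderOf w ∣ p := by
        rw [← hQ]
        have := orderOf_dvd_natCard (⟨w, hw⟩ : ↥Q)
        rwa [Subgroup.orderOf_mk] at this
      rcases (Nat.dvd_prime hp).mp hdvd with h | h
      · exact absurd (orderOf_eq_one_iff.mp h) hw1
      · rw [h]
  have hconjcard : ∀ g : G, Nat.card ↥((P : Subgroup G).map (MulAut.conj g).toMonoidHom) = p := by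
    intro g
    rw [Subgroup.card_map_of_injective (MulAut.conj g).injective, hP]
  -- uniqueness of the fixed coset of an element of order `p`
  have huniq : ∀ y : G, orderOf y = p → ∀ g₁ g₂ : G, g₁⁻¹ * y * g₁ ∈ N → g₂⁻¹ * y * g₂ ∈ N →
      (g₁ : G ⧸ N) = (g₂ : G ⧸ N) := by
    intro y hy g₁ g₂ h₁ h₂
    have hy1 : y ≠ 1 := by
      rintro rfl
      rw [orderOf_one] at hy
      exact hp.one_lt.ne hy
    have e₁ : g₁⁻¹ * y * g₁ ∈ (P : Subgroup G) := hNP _ (by rw [hord]; exact hy) h₁
    have e₂ : g₂⁻¹ * y * g₂ ∈ (P : Subgroup G) := hNP _ (by rw [hord]; exact hy) h₂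
    have m₁ : y ∈ (P : Subgroup G).map (MulAut.conj g₁).toMonoidHom :=
      ⟨g₁⁻¹ * y * g₁, e₁, by simp [mul_assoc]⟩
    have m₂ : y ∈ (P : Subgroup G).map (MulAut.conj g₂).toMonoidHom :=
      ⟨g₂⁻¹ * y * g₂, e₂, by simp [mul_assoc]⟩
    have heq : (P : Subgroup G).map (MulAut.conj g₁).toMonoidHom =
        (P : Subgroup G).map (MulAut.conj g₂).toMonoidHom := by
      rw [← hgen _ (hconjcard g₁) y m₁ hy1, ← hgen _ (hconjcard g₂) y m₂ hy1]
    rw [QuotientGroup.eq, hN, Subgroup.mem_normalizer_iff_map_conj_eq]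
    have h3 : ((P : Subgroup G).map (MulAut.conj g₂).toMonoidHom).map
        (MulAut.conj g₁⁻¹).toMonoidHom = P := by
      rw [← heq, Subgroup.map_map]
      have : (MulAut.conj g₁⁻¹).toMonoidHom.comp (MulAut.conj g₁).toMonoidHom = MonoidHom.id G := by
        ext z; simp [mul_assoc]
      rw [this, Subgroup.map_id]
    rw [Subgroup.map_map] at h3
    convert h3 using 2
    ext z; simp [mul_assoc]
  -- (a)
  have hA : ∀ y : G, orderOf y = p →
      Nat.card (MulAction.fixedBy (G ⧸ N) y) = 1 := by
    intro y hy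
    rw [Nat.card_eq_one_iff_unique]
    constructor
    · constructor
      rintro ⟨ω₁, h₁⟩ ⟨ω₂, h₂⟩
      apply Subtype.ext
      induction ω₁ using QuotientGroup.induction_on with | _ g₁ => ?_
      induction ω₂ using QuotientGroup.induction_on with | _ g₂ => ?_
      rw [MulAction.mem_fixedBy, hfix] at h₁ h₂
      exact huniq y hy g₁ g₂ h₁ h₂
    · have hyp : IsPGroup p ↥(Subgroup.zpowers y) := by
        apply IsPGroup.of_card (n := 1)
        rw [Nat.card_zpowers, hy, pow_one]
      obtain ⟨Q, hQ⟩ := hyp.exists_le_sylow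
      obtain ⟨g, hg⟩ := MulAction.exists_smul_eq G P Q
      have hyQ : y ∈ (Q : Subgroup G) := hQ (Subgroup.mem_zpowers y)
      rw [← hg, Sylow.coe_subgroup_smul, Subgroup.mem_pointwise_smul_iff_inv_smul_mem] at hyQ
      have hyP : g⁻¹ * y * g ∈ (P : Subgroup G) := by
        simpa [MulAut.smul_def] using hyQ
      refine ⟨⟨(g : G ⧸ N), ?_⟩⟩
      rw [MulAction.mem_fixedBy, hfix]
      exact hPN hyP
  refine ⟨hA, ?_⟩
  -- (b)
  intro x hxN hxC
  have hfin : Finite (MulAction.orbitRel.Quotient ↥(P : Subgroup G) (G ⧸ N)) :=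
    Quotient.finite _
  let φ : MulAction.fixedBy (G ⧸ N) x → MulAction.orbitRel.Quotient ↥(P : Subgroup G) (G ⧸ N) :=
    fun ω => Quotient.mk'' ω.1
  apply Nat.card_le_card_of_injective φ
  rintro ⟨ω₁, h₁⟩ ⟨ω₂, h₂⟩ h12
  apply Subtype.ext
  show ω₁ = ω₂
  have h12' : ω₁ ∈ MulAction.orbit ↥(P : Subgroup G) ω₂ := by
    have : (Quotient.mk'' ω₁ : MulAction.orbitRel.Quotient ↥(P : Subgroup G) (G ⧸ N)) =
      Quotient.mk'' ω₂ := h12
    rw [Quotient.eq''] at this
    exact this
  obtain ⟨u, hu⟩ := h12'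
  -- `ω₁ = u • ω₂`
  have hu' : (u : G) • ω₂ = ω₁ := hu
  rw [MulAction.mem_fixedBy] at h₁ h₂
  by_cases hu1 : (u : G) = 1
  · rw [← hu', hu1, one_smul]
  -- `w = u⁻¹ (x u x⁻¹)` fixes `ω₂`
  set w : G := (u : G)⁻¹ * (x * (u : G) * x⁻¹) with hw
  have hwP : w ∈ (P : Subgroup G) := by
    apply Subgroup.mul_mem _ (Subgroup.inv_mem _ u.2)
    exact (Subgroup.mem_normalizer_iff.mp hxN (u : G)).mp u.2
  have hwfix : w • ω₂ = ω₂ := by
    have hx' : x⁻¹ • ω₂ = ω₂ := by
      rw [inv_smul_eq_iff, h₂]
    rw [hw, mul_smul, mul_smul, mul_smul, hx', hu', h₁, ← hu', inv_smul_smul]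
  by_cases hw1 : w = 1
  · exfalso
    apply hxC
    have hcomm : x * (u : G) * x⁻¹ = (u : G) := by
      have : (u : G) * w = (u : G) := by rw [hw1, mul_one]
      rw [hw, ← mul_assoc, mul_inv_cancel, one_mul] at this
      exact this
    rw [← hgen _ hP (u : G) u.2 hu1, Subgroup.mem_centralizer_iff]
    rintro _ ⟨k, rfl⟩
    have : x * (u : G) = (u : G) * x := by
      calc x * (u : G) = x * (u : G) * x⁻¹ * x := by group
        _ = (u : G) * x := by rw [hcomm]
    exact ((Commute.zpow_left (this.symm : Commute (u : G) x) k)).eq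
  · -- `w` has order `p` and fixes both `ω₂` and the base coset
    have hwo : orderOf w = p := by
      have := hgen _ hP w hwP hw1
      rw [← Nat.card_zpowers, this, hP]
    induction ω₂ using QuotientGroup.induction_on with | _ g₂ => ?_
    have hb := huniq w hwo g₂ 1 ((hfix w g₂).mp hwfix) (by simpa using hPN hwP)
    rw [← hu', hb]
    rw [MulAction.Quotient.smul_coe, QuotientGroup.eq, smul_eq_mul, mul_one]
    exact N.inv_mem (by simpa using hPN u.2)

end Cfsg.Agent.S1018
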