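import Mathlib
-- Template for statement S1023 (row 1023; see /opt/grader/pristine/manifest.json for weights).
-- Copy to Cfsg/Agent/S1023.lean and replace the sorry. The statement below is byte-identical to the frozen
-- statement Cfsg.CfsgFrozen.S1023 (Cfsg/Statements/S1023.lean; the theorem Cfsg.chevalley_root_elem_add);
-- the grader kernel-checks Cfsg.Agent.S1023.result against that frozen type. Keep the theorem IN THIS FILE
-- (a `result` declared elsewhere and merely imported here is not credited); helpers may live anywhere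
-- under Cfsg/Agent/.
import Cfsg.Statements.S1023
import Cfsg.Agent.Lib.Helper3.ChevData.G2Add
import Cfsg.Agent.Lib.Helper3.ChevData.B2Add
import Cfsg.Agent.Lib.Helper3.ChevData.D4Add
import Cfsg.Agent.Lib.Helper3.ChevData.F4Add
import Cfsg.Agent.Lib.Helper3.ChevData.E6Add
import Cfsg.Agent.Lib.Helper3.ChevData.E7Add
import Cfsg.Agent.Lib.Helper3.ChevData.E8Add

set_option autoImplicit false
open Cfsg
open Cfsg.Agent.Lib.Helper3.ChevM

namespace Cfsg.Agent.S1023

/-- Additivity of root elements: for every type G₂, B₂, D₄, F₄, E₆, E₇, E₈ and every root `r`, `x_r(t₁) x_r(t₂) = x_r(t₁ + t₂)` as matrices. -/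
theorem result {F : Type*} [Field F] (D : Cfsg.Lie.ChevalleyDatum) (hD : D ∈ [Cfsg.Lie.chevG2, Cfsg.Lie.chevB2, Cfsg.Lie.chevD4, Cfsg.Lie.chevF4, Cfsg.Lie.chevE6, Cfsg.Lie.chevE7, Cfsg.Lie.chevE8]) (r : ℕ) (hr : r < D.nroots) (t₁ t₂ : F) :
    D.x F r t₁ * D.x F r t₂ = D.x F r (t₁ + t₂) := by
  simp only [List.mem_cons, List.not_mem_nil, or_false] at hD
  rcases hD with rfl | rfl | rfl | rfl | rfl | rfl | rfl
  · exact cdG2.x_add_of_check r hr (g2Add r hr) t₁ t₂
  · exact cdB2.x_add_of_check r hr (b2Add r hr) t₁ t₂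
  · exact cdD4.x_add_of_check r hr (d4Add r hr) t₁ t₂
  · exact cdF4.x_add_of_check r hr (f4Add r hr) t₁ t₂
  · exact cdE6.x_add_of_check r hr (e6Add r hr) t₁ t₂
  · exact cdE7.x_add_of_check r hr (e7Add r hr) t₁ t₂
  · exact cdE8.x_add_of_check r hr (e8Add r hr) t₁ t₂

end Cfsg.Agent.S1023
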