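import Mathlib
-- Template for statement S1025 (row 1025; see /opt/grader/pristine/manifest.json for weights).
-- Copy to Cfsg/Agent/S1025.lean and replace the sorry. The statement below is byte-identical to the frozen
-- statement Cfsg.CfsgFrozen.S1025 (Cfsg/Statements/S1025.lean; the theorem Cfsg.chevalley_commutator_formula);
-- the grader kernel-checks Cfsg.Agent.S1025.result against that frozen type. Keep the theorem IN THIS FILE
-- (a `result` declared elsewhere and merely imported here is not credited); helpers may live anywhere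
-- under Cfsg/Agent/.
import Cfsg.Statements.S1025
import Cfsg.Agent.Lib.Helper3.ChevData.G2CommData
import Cfsg.Agent.Lib.Helper3.ChevData.B2CommData
import Cfsg.Agent.Lib.Helper3.ChevData.D4CommData
import Cfsg.Agent.Lib.Helper3.ChevData.F4CommData
import Cfsg.Agent.Lib.Helper3.ChevData.E6CommData
import Cfsg.Agent.Lib.Helper3.ChevData.E7CommData
import Cfsg.Agent.Lib.Helper3.ChevData.E8CommData

set_option autoImplicit false
open Cfsg
open Cfsg.Agent.Lib.Helper3.ChevM

namespace Cfsg.Agent.S1025

/-- Chevalley's commutator formula: for roots `s ≠ ±r`, `x_s(u) x_r(t) = x_r(t) x_s(u) · ∏_{i,j>0} x_{ir+js}(C_{ijrs} (-t)^i u^j)`, the product (in order of increasing `i + j`) and the constants being those of `commWord`. -/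
theorem result {F : Type*} [Field F] (D : Cfsg.Lie.ChevalleyDatum) (hD : D ∈ [Cfsg.Lie.chevG2, Cfsg.Lie.chevB2, Cfsg.Lie.chevD4, Cfsg.Lie.chevF4, Cfsg.Lie.chevE6, Cfsg.Lie.chevE7, Cfsg.Lie.chevE8]) (r s : ℕ) (hr : r < D.nroots) (hs : s < D.nroots)
    (hrs : s ≠ r) (hneg : s ≠ D.neg r) (t u : F) :
    D.x F s u * D.x F r t = D.x F r t * D.x F s u * D.wordMat F (D.commWord F r s t u) := by
  simp only [List.mem_cons, List.not_mem_nil, or_false] at hD
  rcases hD with rfl | rfl | rfl | rfl | rfl | rfl | rfl
  · exact commG2.commF r s hr hs hrs hneg t u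
  · exact commB2.commF r s hr hs hrs hneg t u
  · exact commD4.commF r s hr hs hrs hneg t u
  · exact commF4.commF r s hr hs hrs hneg t u
  · exact commE6.commF r s hr hs hrs hneg t u
  · exact commE7.commF r s hr hs hrs hneg t u
  · exact commE8.commF r s hr hs hrs hneg t u

end Cfsg.Agent.S1025
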