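import Mathlib
-- Template for statement S1026 (row 1026; see /opt/grader/pristine/manifest.json for weights).
-- Copy to Cfsg/Agent/S1026.lean and replace the sorry. The statement below is byte-identical to the frozen
-- statement Cfsg.CfsgFrozen.S1026 (Cfsg/Statements/S1026.lean; the theorem Cfsg.chevalley_pos_unipotent_unique_product);
-- the grader kernel-checks Cfsg.Agent.S1026.result against that frozen type. Keep the theorem IN THIS FILE
-- (a `result` declared elsewhere and merely imported here is not credited); helpers may live anywhere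
-- under Cfsg/Agent/.
import Cfsg.Statements.S1026
import Cfsg.Agent.Lib.Helper3.ChevData.G2UHyp
import Cfsg.Agent.Lib.Helper3.ChevData.B2UHyp
import Cfsg.Agent.Lib.Helper3.ChevData.D4UHyp
import Cfsg.Agent.Lib.Helper3.ChevData.F4UHyp
import Cfsg.Agent.Lib.Helper3.ChevData.E6UHyp
import Cfsg.Agent.Lib.Helper3.ChevData.E7UHyp
import Cfsg.Agent.Lib.Helper3.ChevData.E8UHyp

set_option autoImplicit false
open Cfsg
open Cfsg.Agent.Lib.Helper3.ChevM

namespace Cfsg.Agent.S1026

/-- Every element of `U` has a unique expression `∏_{r ∈ Φ⁺} x_r(t_r)`, the product over the positive roots in increasing index order (the coefficient family `t`, supported on the positive roots, exists and is unique); and conversely every such ordered product is the matrix of an element of `U`. -/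
theorem result {F : Type*} [Field F] (D : Cfsg.Lie.ChevalleyDatum) (hD : D ∈ [Cfsg.Lie.chevG2, Cfsg.Lie.chevB2, Cfsg.Lie.chevD4, Cfsg.Lie.chevF4, Cfsg.Lie.chevE6, Cfsg.Lie.chevE7, Cfsg.Lie.chevE8]) :
    (∀ g : GL D.Idx F, g ∈ D.posUnipotent F →
      ∃! t : ℕ → F, (∀ r, ¬ D.IsPosRoot r → t r = 0) ∧
        (g : Matrix D.Idx D.Idx F) = D.wordMat F (D.posRoots.map fun r => (r, t r))) ∧
    (∀ t : ℕ → F, ∃ g : GL D.Idx F, g ∈ D.posUnipotent F ∧
      (g : Matrix D.Idx D.Idx F) = D.wordMat F (D.posRoots.map fun r => (r, t r))) := by
  simp only [List.mem_cons, List.not_mem_nil, or_false] at hD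
  rcases hD with rfl | rfl | rfl | rfl | rfl | rfl | rfl
  · exact uhypG2.unique_product
  · exact uhypB2.unique_product
  · exact uhypD4.unique_product
  · exact uhypF4.unique_product
  · exact uhypE6.unique_product
  · exact uhypE7.unique_product
  · exact uhypE8.unique_product

end Cfsg.Agent.S1026
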