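import Mathlib
-- Template for statement S1028 (row 1028; see /opt/grader/pristine/manifest.json for weights).
-- Copy to Cfsg/Agent/S1028.lean and replace the sorry. The statement below is byte-identical to the frozen
-- statement Cfsg.CfsgFrozen.S1028 (Cfsg/Statements/S1028.lean; the theorem Cfsg.chevalley_unipotent_sub_one_nilpotent);
-- the grader kernel-checks Cfsg.Agent.S1028.result against that frozen type. Keep the theorem IN THIS FILE
-- (a `result` declared elsewhere and merely imported here is not credited); helpers may live anywhere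
-- under Cfsg/Agent/.
import Cfsg.Statements.S1028
import Cfsg.Agent.Lib.Helper3.ChevData.G2Tri
import Cfsg.Agent.Lib.Helper3.ChevData.B2Tri
import Cfsg.Agent.Lib.Helper3.ChevData.D4Tri
import Cfsg.Agent.Lib.Helper3.ChevData.F4Tri
import Cfsg.Agent.Lib.Helper3.ChevData.E6Tri
import Cfsg.Agent.Lib.Helper3.ChevData.E7Tri
import Cfsg.Agent.Lib.Helper3.ChevData.E8Tri

set_option autoImplicit false
open Cfsg
open Cfsg.Agent.Lib.Helper3.ChevM

namespace Cfsg.Agent.S1028

/-- Elements of `U` (the subgroup generated by the root elements of the positive roots) are unipotent linear maps: `(u - 1)^n = 0` with `n = rank + nroots` the dimension of the module. -/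
theorem result {F : Type*} [Field F] (D : Cfsg.Lie.ChevalleyDatum) (hD : D ∈ [Cfsg.Lie.chevG2, Cfsg.Lie.chevB2, Cfsg.Lie.chevD4, Cfsg.Lie.chevF4, Cfsg.Lie.chevE6, Cfsg.Lie.chevE7, Cfsg.Lie.chevE8]) (g : GL D.Idx F) (hg : g ∈ D.posUnipotent F) :
    ((g : Matrix D.Idx D.Idx F) - 1) ^ (D.rank + D.nroots) = 0 := by
  simp only [List.mem_cons, List.not_mem_nil, or_false] at hD
  rcases hD with rfl | rfl | rfl | rfl | rfl | rfl | rfl
  · exact posUnipotent_unipotent cdG2 g2Tri g hg
  · exact posUnipotent_unipotent cdB2 b2Tri g hg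
  · exact posUnipotent_unipotent cdD4 d4Tri g hg
  · exact posUnipotent_unipotent cdF4 f4Tri g hg
  · exact posUnipotent_unipotent cdE6 e6Tri g hg
  · exact posUnipotent_unipotent cdE7 e7Tri g hg
  · exact posUnipotent_unipotent cdE8 e8Tri g hg

end Cfsg.Agent.S1028
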