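import Mathlib
-- Template for statement S1031 (row 1031; see /opt/grader/pristine/manifest.json for weights).
-- Copy to Cfsg/Agent/S1031.lean and replace the sorry. The statement below is byte-identical to the frozen
-- statement Cfsg.CfsgFrozen.S1031 (Cfsg/Statements/S1031.lean; the theorem Cfsg.chevalley_n_simple_conj_root_elem);
-- the grader kernel-checks Cfsg.Agent.S1031.result against that frozen type. Keep the theorem IN THIS FILE
-- (a `result` declared elsewhere and merely imported here is not credited); helpers may live anywhere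
-- under Cfsg/Agent/.
import Cfsg.Statements.S1031
import Cfsg.Agent.Lib.Helper3.ChevData.G2Rel
import Cfsg.Agent.Lib.Helper3.ChevData.B2Rel
import Cfsg.Agent.Lib.Helper3.ChevData.D4Rel
import Cfsg.Agent.Lib.Helper3.ChevData.F4Rel
import Cfsg.Agent.Lib.Helper3.ChevData.E6Rel
import Cfsg.Agent.Lib.Helper3.ChevData.E7Rel
import Cfsg.Agent.Lib.Helper3.ChevData.E8Rel

set_option autoImplicit false
open Cfsg
open Cfsg.Agent.Lib.Helper3.ChevM

namespace Cfsg.Agent.S1031

/-- For a fundamental root `p = p_{i+1}` and any root `s`: `n_p x_s(t) n_p⁻¹ = x_{w_p(s)}(η t)` with a sign `η = ±1` independent of `t`, where `w_p(s)` is the reflected root (`reflectRoot`). Stated as `n_p x_s(t) = x_{w_p(s)}(η t) n_p`. -/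
theorem result {F : Type*} [Field F] (D : Cfsg.Lie.ChevalleyDatum) (hD : D ∈ [Cfsg.Lie.chevG2, Cfsg.Lie.chevB2, Cfsg.Lie.chevD4, Cfsg.Lie.chevF4, Cfsg.Lie.chevE6, Cfsg.Lie.chevE7, Cfsg.Lie.chevE8]) (i s : ℕ) (hi : i < D.rank) (hs : s < D.nroots) :
    ∃ η : ℤ, (η = 1 ∨ η = -1) ∧
      ∀ t : F, D.nMat F (D.simple i) 1 * D.x F s t = D.x F (D.reflectRoot i s) ((η : F) * t) * D.nMat F (D.simple i) 1 := by
  simp only [List.mem_cons, List.not_mem_nil, or_false] at hD
  rcases hD with rfl | rfl | rfl | rfl | rfl | rfl | rfl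
  · exact relG2.nMat_mul_x i s hi hs
  · exact relB2.nMat_mul_x i s hi hs
  · exact relD4.nMat_mul_x i s hi hs
  · exact relF4.nMat_mul_x i s hi hs
  · exact relE6.nMat_mul_x i s hi hs
  · exact relE7.nMat_mul_x i s hi hs
  · exact relE8.nMat_mul_x i s hi hs

end Cfsg.Agent.S1031
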