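import Mathlib
-- Template for statement S1032 (row 1032; see /opt/grader/pristine/manifest.json for weights).
-- Copy to Cfsg/Agent/S1032.lean and replace the sorry. The statement below is byte-identical to the frozen
-- statement Cfsg.CfsgFrozen.S1032 (Cfsg/Statements/S1032.lean; the theorem Cfsg.chevalley_h_simple_conj_root_elem);
-- the grader kernel-checks Cfsg.Agent.S1032.result against that frozen type. Keep the theorem IN THIS FILE
-- (a `result` declared elsewhere and merely imported here is not credited); helpers may live anywhere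
-- under Cfsg/Agent/.
import Cfsg.Statements.S1032
import Cfsg.Agent.Lib.Helper3.ChevData.G2Rel
import Cfsg.Agent.Lib.Helper3.ChevData.B2Rel
import Cfsg.Agent.Lib.Helper3.ChevData.D4Rel
import Cfsg.Agent.Lib.Helper3.ChevData.F4Rel
import Cfsg.Agent.Lib.Helper3.ChevData.E6Rel
import Cfsg.Agent.Lib.Helper3.ChevData.E7Rel
import Cfsg.Agent.Lib.Helper3.ChevData.E8Rel

set_option autoImplicit false
open Cfsg
open Cfsg.Agent.Lib.Helper3.ChevM

namespace Cfsg.Agent.S1032

/-- For a fundamental root `p`, a root `s` and `c ≠ 0`: `h_p(c) x_s(t) h_p(c)⁻¹ = x_s(c^{A_{p,s}} t)`, stated as `h_p(c) x_s(t) = x_s(c^{A_{p,s}} t) h_p(c)`. -/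
theorem result {F : Type*} [Field F] (D : Cfsg.Lie.ChevalleyDatum) (hD : D ∈ [Cfsg.Lie.chevG2, Cfsg.Lie.chevB2, Cfsg.Lie.chevD4, Cfsg.Lie.chevF4, Cfsg.Lie.chevE6, Cfsg.Lie.chevE7, Cfsg.Lie.chevE8]) (i s : ℕ) (hi : i < D.rank) (hs : s < D.nroots) (c : F) (hc : c ≠ 0) (t : F) :
    D.hMat F (D.simple i) c * D.x F s t = D.x F s (c ^ (D.cartan i s) * t) * D.hMat F (D.simple i) c := by
  simp only [List.mem_cons, List.not_mem_nil, or_false] at hD
  rcases hD with rfl | rfl | rfl | rfl | rfl | rfl | rfl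
  · exact relG2.hMat_mul_x i s hi hs c hc t
  · exact relB2.hMat_mul_x i s hi hs c hc t
  · exact relD4.hMat_mul_x i s hi hs c hc t
  · exact relF4.hMat_mul_x i s hi hs c hc t
  · exact relE6.hMat_mul_x i s hi hs c hc t
  · exact relE7.hMat_mul_x i s hi hs c hc t
  · exact relE8.hMat_mul_x i s hi hs c hc t

end Cfsg.Agent.S1032
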