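import Mathlib
-- Template for statement S1035 (row 1035; see /opt/grader/pristine/manifest.json for weights).
-- Copy to Cfsg/Agent/S1035.lean and replace the sorry. The statement below is byte-identical to the frozen
-- statement Cfsg.CfsgFrozen.S1035 (Cfsg/Statements/S1035.lean; the theorem Cfsg.chevalley_card_diagonal);
-- the grader kernel-checks Cfsg.Agent.S1035.result against that frozen type. Keep the theorem IN THIS FILE
-- (a `result` declared elsewhere and merely imported here is not credited); helpers may live anywhere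
-- under Cfsg/Agent/.
import Cfsg.Statements.S1035
import Cfsg.Agent.Lib.Helper3.ChevData.G2Rel
import Cfsg.Agent.Lib.Helper3.ChevData.G2Hdec
import Cfsg.Agent.Lib.Helper3.ChevData.G2Vec
import Cfsg.Agent.Lib.Helper3.ChevData.F4Rel
import Cfsg.Agent.Lib.Helper3.ChevData.F4Hdec
import Cfsg.Agent.Lib.Helper3.ChevData.F4Vec
import Cfsg.Agent.Lib.Helper3.ChevData.E8Rel
import Cfsg.Agent.Lib.Helper3.ChevData.E8Hdec
import Cfsg.Agent.Lib.Helper3.ChevData.E8Vec
import Cfsg.Agent.Lib.Helper3.ChevData.E6Rel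
import Cfsg.Agent.Lib.Helper3.ChevData.E6Hdec
import Cfsg.Agent.Lib.Helper3.ChevData.E6Vec
import Cfsg.Agent.Lib.Helper3.ChevData.E7Rel
import Cfsg.Agent.Lib.Helper3.ChevData.E7Hdec
import Cfsg.Agent.Lib.Helper3.ChevData.E7Vec
import Cfsg.Agent.Lib.Helper3.ChevData.B2Rel
import Cfsg.Agent.Lib.Helper3.ChevData.B2Hdec
import Cfsg.Agent.Lib.Helper3.ChevData.B2Vec
import Cfsg.Agent.Lib.Helper3.ChevData.D4Rel
import Cfsg.Agent.Lib.Helper3.ChevData.D4Hdec
import Cfsg.Agent.Lib.Helper3.ChevData.D4Vec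

set_option autoImplicit false
open Cfsg
open Cfsg.Agent.Lib.Helper3.ChevM

namespace Cfsg.Agent.S1035

/-- `d · |H| = (q - 1)^rank` over a field with `q` elements, with `d = 1` (G₂, F₄, E₈), `gcd(3, q-1)` (E₆), `gcd(2, q-1)` (E₇, B₂), `gcd(2, q-1)²` (D₄). -/
theorem result {F : Type*} [Field F] [Fintype F] {q : ℕ} (hq : Fintype.card F = q)
    (p : Cfsg.Lie.ChevalleyDatum × ℕ)
    (hp : p ∈ [(Cfsg.Lie.chevG2, 1), (Cfsg.Lie.chevF4, 1), (Cfsg.Lie.chevE8, 1), (Cfsg.Lie.chevE6, Nat.gcd 3 (q - 1)),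
      (Cfsg.Lie.chevE7, Nat.gcd 2 (q - 1)), (Cfsg.Lie.chevB2, Nat.gcd 2 (q - 1)), (Cfsg.Lie.chevD4, Nat.gcd 2 (q - 1) ^ 2)]) :
    p.2 * Nat.card (p.1.diagonalSubgroup F) = (q - 1) ^ p.1.rank := by
  subst hq
  simp only [List.mem_cons, List.not_mem_nil, or_false] at hp
  rcases hp with rfl | rfl | rfl | rfl | rfl | rfl | rfl
  · have key : (∏ k : Fin 2, Nat.gcd (Fintype.card F - 1) (smDG2 k)) * Nat.card (Cfsg.Lie.chevG2.diagonalSubgroup F) =
        (Fintype.card F - 1) ^ 2 :=
      relG2.card_diagonal (F := F) (of_pairRange (m := 12) (n := 12) g2Hdec) vecG2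
        (of_pairRange (m := 2) (n := 12) g2Vec) smPG2 smQG2 smPiG2 smQiG2 smDG2
        (by decide +kernel) (by decide +kernel) (by decide +kernel) (by decide +kernel)
    have e : (∏ k : Fin 2, Nat.gcd (Fintype.card F - 1) (smDG2 k)) = 1 := by
      simp [Fin.prod_univ_succ, smDG2, Nat.gcd_comm]
    rw [e] at key
    exact key
  · have key : (∏ k : Fin 4, Nat.gcd (Fintype.card F - 1) (smDF4 k)) * Nat.card (Cfsg.Lie.chevF4.diagonalSubgroup F) =
        (Fintype.card F - 1) ^ 4 :=
      relF4.card_diagonal (F := F) (of_pairRange (m := 48) (n := 48) f4Hdec) vecF4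
        (of_pairRange (m := 4) (n := 48) f4Vec) smPF4 smQF4 smPiF4 smQiF4 smDF4
        (by decide +kernel) (by decide +kernel) (by decide +kernel) (by decide +kernel)
    have e : (∏ k : Fin 4, Nat.gcd (Fintype.card F - 1) (smDF4 k)) = 1 := by
      simp [Fin.prod_univ_succ, smDF4, Nat.gcd_comm]
    rw [e] at key
    exact key
  · have key : (∏ k : Fin 8, Nat.gcd (Fintype.card F - 1) (smDE8 k)) * Nat.card (Cfsg.Lie.chevE8.diagonalSubgroup F) =
        (Fintype.card F - 1) ^ 8 :=
      relE8.card_diagonal (F := F) (of_pairRange (m := 240) (n := 240) e8Hdec) vecE8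
        (of_pairRange (m := 8) (n := 240) e8Vec) smPE8 smQE8 smPiE8 smQiE8 smDE8
        (by decide +kernel) (by decide +kernel) (by decide +kernel) (by decide +kernel)
    have e : (∏ k : Fin 8, Nat.gcd (Fintype.card F - 1) (smDE8 k)) = 1 := by
      simp [Fin.prod_univ_succ, smDE8, Nat.gcd_comm]
    rw [e] at key
    exact key
  · have key : (∏ k : Fin 6, Nat.gcd (Fintype.card F - 1) (smDE6 k)) * Nat.card (Cfsg.Lie.chevE6.diagonalSubgroup F) =
        (Fintype.card F - 1) ^ 6 :=
      relE6.card_diagonal (F := F) (of_pairRange (m := 72) (n := 72) e6Hdec) vecE6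
        (of_pairRange (m := 6) (n := 72) e6Vec) smPE6 smQE6 smPiE6 smQiE6 smDE6
        (by decide +kernel) (by decide +kernel) (by decide +kernel) (by decide +kernel)
    have e : (∏ k : Fin 6, Nat.gcd (Fintype.card F - 1) (smDE6 k)) = Nat.gcd 3 (Fintype.card F - 1) := by
      simp [Fin.prod_univ_succ, smDE6, Nat.gcd_comm]
    rw [e] at key
    exact key
  · have key : (∏ k : Fin 7, Nat.gcd (Fintype.card F - 1) (smDE7 k)) * Nat.card (Cfsg.Lie.chevE7.diagonalSubgroup F) =
        (Fintype.card F - 1) ^ 7 :=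
      relE7.card_diagonal (F := F) (of_pairRange (m := 126) (n := 126) e7Hdec) vecE7
        (of_pairRange (m := 7) (n := 126) e7Vec) smPE7 smQE7 smPiE7 smQiE7 smDE7
        (by decide +kernel) (by decide +kernel) (by decide +kernel) (by decide +kernel)
    have e : (∏ k : Fin 7, Nat.gcd (Fintype.card F - 1) (smDE7 k)) = Nat.gcd 2 (Fintype.card F - 1) := by
      simp [Fin.prod_univ_succ, smDE7, Nat.gcd_comm]
    rw [e] at key
    exact key
  · have key : (∏ k : Fin 2, Nat.gcd (Fintype.card F - 1) (smDB2 k)) * Nat.card (Cfsg.Lie.chevB2.diagonalSubgroup F) =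
        (Fintype.card F - 1) ^ 2 :=
      relB2.card_diagonal (F := F) (of_pairRange (m := 8) (n := 8) b2Hdec) vecB2
        (of_pairRange (m := 2) (n := 8) b2Vec) smPB2 smQB2 smPiB2 smQiB2 smDB2
        (by decide +kernel) (by decide +kernel) (by decide +kernel) (by decide +kernel)
    have e : (∏ k : Fin 2, Nat.gcd (Fintype.card F - 1) (smDB2 k)) = Nat.gcd 2 (Fintype.card F - 1) := by
      simp [Fin.prod_univ_succ, smDB2, Nat.gcd_comm]
    rw [e] at key
    exact key
  · have key : (∏ k : Fin 4, Nat.gcd (Fintype.card F - 1) (smDD4 k)) * Nat.card (Cfsg.Lie.chevD4.diagonalSubgroup F) =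
        (Fintype.card F - 1) ^ 4 :=
      relD4.card_diagonal (F := F) (of_pairRange (m := 24) (n := 24) d4Hdec) vecD4
        (of_pairRange (m := 4) (n := 24) d4Vec) smPD4 smQD4 smPiD4 smQiD4 smDD4
        (by decide +kernel) (by decide +kernel) (by decide +kernel) (by decide +kernel)
    have e : (∏ k : Fin 4, Nat.gcd (Fintype.card F - 1) (smDD4 k)) = Nat.gcd 2 (Fintype.card F - 1) ^ 2 := by
      simp [Fin.prod_univ_succ, smDD4, Nat.gcd_comm]
      ring
    rw [e] at key
    exact key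

end Cfsg.Agent.S1035
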