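import Mathlib
-- Template for statement S1036 (row 1036; see /opt/grader/pristine/manifest.json for weights).
-- Copy to Cfsg/Agent/S1036.lean and replace the sorry. The statement below is byte-identical to the frozen
-- statement Cfsg.CfsgFrozen.S1036 (Cfsg/Statements/S1036.lean; the theorem Cfsg.chevalley_borel_semidirect);
-- the grader kernel-checks Cfsg.Agent.S1036.result against that frozen type. Keep the theorem IN THIS FILE
-- (a `result` declared elsewhere and merely imported here is not credited); helpers may live anywhere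
-- under Cfsg/Agent/.
import Cfsg.Statements.S1036
import Cfsg.Agent.Lib.Helper3.ChevG3
import Cfsg.Agent.Lib.Helper3.ChevData.G2Rel
import Cfsg.Agent.Lib.Helper3.ChevData.G2Hdec
import Cfsg.Agent.Lib.Helper3.ChevData.G2Tri
import Cfsg.Agent.Lib.Helper3.ChevData.B2Rel
import Cfsg.Agent.Lib.Helper3.ChevData.B2Hdec
import Cfsg.Agent.Lib.Helper3.ChevData.B2Tri
import Cfsg.Agent.Lib.Helper3.ChevData.D4Rel
import Cfsg.Agent.Lib.Helper3.ChevData.D4Hdec
import Cfsg.Agent.Lib.Helper3.ChevData.D4Tri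
import Cfsg.Agent.Lib.Helper3.ChevData.F4Rel
import Cfsg.Agent.Lib.Helper3.ChevData.F4Hdec
import Cfsg.Agent.Lib.Helper3.ChevData.F4Tri
import Cfsg.Agent.Lib.Helper3.ChevData.E6Rel
import Cfsg.Agent.Lib.Helper3.ChevData.E6Hdec
import Cfsg.Agent.Lib.Helper3.ChevData.E6Tri
import Cfsg.Agent.Lib.Helper3.ChevData.E7Rel
import Cfsg.Agent.Lib.Helper3.ChevData.E7Hdec
import Cfsg.Agent.Lib.Helper3.ChevData.E7Tri
import Cfsg.Agent.Lib.Helper3.ChevData.E8Rel
import Cfsg.Agent.Lib.Helper3.ChevData.E8Hdec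
import Cfsg.Agent.Lib.Helper3.ChevData.E8Tri

set_option autoImplicit false
open Cfsg
open Cfsg.Agent.Lib.Helper3.ChevM

namespace Cfsg.Agent.S1036

/-- `H` normalises `U` and `U ∩ H = 1`; thus `B = UH` is the semidirect product of `U` by `H`. -/
theorem result {F : Type*} [Field F] (D : Cfsg.Lie.ChevalleyDatum) (hD : D ∈ [Cfsg.Lie.chevG2, Cfsg.Lie.chevB2, Cfsg.Lie.chevD4, Cfsg.Lie.chevF4, Cfsg.Lie.chevE6, Cfsg.Lie.chevE7, Cfsg.Lie.chevE8]) :
    D.diagonalSubgroup F ≤ Subgroup.normalizer (D.posUnipotent F : Set (GL D.Idx F)) ∧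
      D.posUnipotent F ⊓ D.diagonalSubgroup F = ⊥ := by
  simp only [List.mem_cons, List.not_mem_nil, or_false] at hD
  rcases hD with rfl | rfl | rfl | rfl | rfl | rfl | rfl
  · exact relG2.diagonal_normalizes (of_pairRange (m := 12) (n := 12) g2Hdec) g2Tri
  · exact relB2.diagonal_normalizes (of_pairRange (m := 8) (n := 8) b2Hdec) b2Tri
  · exact relD4.diagonal_normalizes (of_pairRange (m := 24) (n := 24) d4Hdec) d4Tri
  · exact relF4.diagonal_normalizes (of_pairRange (m := 48) (n := 48) f4Hdec) f4Tri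
  · exact relE6.diagonal_normalizes (of_pairRange (m := 72) (n := 72) e6Hdec) e6Tri
  · exact relE7.diagonal_normalizes (of_pairRange (m := 126) (n := 126) e7Hdec) e7Tri
  · exact relE8.diagonal_normalizes (of_pairRange (m := 240) (n := 240) e8Hdec) e8Tri

end Cfsg.Agent.S1036
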