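import Mathlib
-- Template for statement S1038 (row 1038; see /opt/grader/pristine/manifest.json for weights).
-- Copy to Cfsg/Agent/S1038.lean and replace the sorry. The statement below is byte-identical to the frozen
-- statement Cfsg.CfsgFrozen.S1038 (Cfsg/Statements/S1038.lean; the theorem Cfsg.chevalley_diagonal_normal_monomial);
-- the grader kernel-checks Cfsg.Agent.S1038.result against that frozen type. Keep the theorem IN THIS FILE
-- (a `result` declared elsewhere and merely imported here is not credited); helpers may live anywhere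
-- under Cfsg/Agent/.
import Cfsg.Statements.S1038
import Cfsg.Agent.Lib.Helper3.ChevData.G2Rel
import Cfsg.Agent.Lib.Helper3.ChevData.G2NegRefl
import Cfsg.Agent.Lib.Helper3.ChevData.G2Rwc
import Cfsg.Agent.Lib.Helper3.ChevData.B2Rel
import Cfsg.Agent.Lib.Helper3.ChevData.B2NegRefl
import Cfsg.Agent.Lib.Helper3.ChevData.B2Rwc
import Cfsg.Agent.Lib.Helper3.ChevData.D4Rel
import Cfsg.Agent.Lib.Helper3.ChevData.D4NegRefl
import Cfsg.Agent.Lib.Helper3.ChevData.D4Rwc
import Cfsg.Agent.Lib.Helper3.ChevData.F4Rel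
import Cfsg.Agent.Lib.Helper3.ChevData.F4NegRefl
import Cfsg.Agent.Lib.Helper3.ChevData.F4Rwc
import Cfsg.Agent.Lib.Helper3.ChevData.E6Rel
import Cfsg.Agent.Lib.Helper3.ChevData.E6NegRefl
import Cfsg.Agent.Lib.Helper3.ChevData.E6Rwc
import Cfsg.Agent.Lib.Helper3.ChevData.E7Rel
import Cfsg.Agent.Lib.Helper3.ChevData.E7NegRefl
import Cfsg.Agent.Lib.Helper3.ChevData.E7Rwc
import Cfsg.Agent.Lib.Helper3.ChevData.E8Rel
import Cfsg.Agent.Lib.Helper3.ChevData.E8NegRefl
import Cfsg.Agent.Lib.Helper3.ChevData.E8Rwc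

set_option autoImplicit false
open Cfsg
open Cfsg.Agent.Lib.Helper3.ChevM

namespace Cfsg.Agent.S1038

/-- The diagonal subgroup `H` (generated by the `h_r(t)`, `t ≠ 0`) is normal in the monomial subgroup `N` (generated by `H` and the `n_r`). -/
theorem result {F : Type*} [Field F] (D : Cfsg.Lie.ChevalleyDatum) (hD : D ∈ [Cfsg.Lie.chevG2, Cfsg.Lie.chevB2, Cfsg.Lie.chevD4, Cfsg.Lie.chevF4, Cfsg.Lie.chevE6, Cfsg.Lie.chevE7, Cfsg.Lie.chevE8]) : ((D.diagonalSubgroup F).subgroupOf (D.monomialSubgroup F)).Normal := by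
  simp only [List.mem_cons, List.not_mem_nil, or_false] at hD
  rcases hD with rfl | rfl | rfl | rfl | rfl | rfl | rfl
  · exact relG2.diagonal_normal_monomial (of_pairRange (m := 2) (n := 12) g2NegRefl) rwG2 g2Rwc
  · exact relB2.diagonal_normal_monomial (of_pairRange (m := 2) (n := 8) b2NegRefl) rwB2 b2Rwc
  · exact relD4.diagonal_normal_monomial (of_pairRange (m := 4) (n := 24) d4NegRefl) rwD4 d4Rwc
  · exact relF4.diagonal_normal_monomial (of_pairRange (m := 4) (n := 48) f4NegRefl) rwF4 f4Rwc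
  · exact relE6.diagonal_normal_monomial (of_pairRange (m := 6) (n := 72) e6NegRefl) rwE6 e6Rwc
  · exact relE7.diagonal_normal_monomial (of_pairRange (m := 7) (n := 126) e7NegRefl) rwE7 e7Rwc
  · exact relE8.diagonal_normal_monomial (of_pairRange (m := 8) (n := 240) e8NegRefl) rwE8 e8Rwc

end Cfsg.Agent.S1038
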