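import Mathlib
-- Template for statement S1040 (row 1040; see /opt/grader/pristine/manifest.json for weights).
-- Copy to Cfsg/Agent/S1040.lean and replace the sorry. The statement below is byte-identical to the frozen
-- statement Cfsg.CfsgFrozen.S1040 (Cfsg/Statements/S1040.lean; the theorem Cfsg.chevalley_unipotent_inf_monomial);
-- the grader kernel-checks Cfsg.Agent.S1040.result against that frozen type. Keep the theorem IN THIS FILE
-- (a `result` declared elsewhere and merely imported here is not credited); helpers may live anywhere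
-- under Cfsg/Agent/.
import Cfsg.Statements.S1040
import Cfsg.Agent.Lib.Helper3.ChevData.G2Mono
import Cfsg.Agent.Lib.Helper3.ChevData.G2Hdec
import Cfsg.Agent.Lib.Helper3.ChevData.B2Mono
import Cfsg.Agent.Lib.Helper3.ChevData.B2Hdec
import Cfsg.Agent.Lib.Helper3.ChevData.D4Mono
import Cfsg.Agent.Lib.Helper3.ChevData.D4Hdec
import Cfsg.Agent.Lib.Helper3.ChevData.F4Mono
import Cfsg.Agent.Lib.Helper3.ChevData.F4Hdec
import Cfsg.Agent.Lib.Helper3.ChevData.E6Mono
import Cfsg.Agent.Lib.Helper3.ChevData.E6Hdec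
import Cfsg.Agent.Lib.Helper3.ChevData.E7Mono
import Cfsg.Agent.Lib.Helper3.ChevData.E7Hdec
import Cfsg.Agent.Lib.Helper3.ChevData.E8Mono
import Cfsg.Agent.Lib.Helper3.ChevData.E8Hdec

set_option autoImplicit false
open Cfsg
open Cfsg.Agent.Lib.Helper3.ChevM

namespace Cfsg.Agent.S1040

/-- `U ∩ N = 1` and `B ∩ N = UH ∩ N = H`. -/
theorem result {F : Type*} [Field F] (D : Cfsg.Lie.ChevalleyDatum) (hD : D ∈ [Cfsg.Lie.chevG2, Cfsg.Lie.chevB2, Cfsg.Lie.chevD4, Cfsg.Lie.chevF4, Cfsg.Lie.chevE6, Cfsg.Lie.chevE7, Cfsg.Lie.chevE8]) :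
    D.posUnipotent F ⊓ D.monomialSubgroup F = ⊥ ∧ D.borelSubgroup F ⊓ D.monomialSubgroup F = D.diagonalSubgroup F := by
  simp only [List.mem_cons, List.not_mem_nil, or_false] at hD
  rcases hD with rfl | rfl | rfl | rfl | rfl | rfl | rfl
  · exact monoG2.unipotent_inf_monomial (of_pairRange (m := 12) (n := 12) g2Hdec)
  · exact monoB2.unipotent_inf_monomial (of_pairRange (m := 8) (n := 8) b2Hdec)
  · exact monoD4.unipotent_inf_monomial (of_pairRange (m := 24) (n := 24) d4Hdec)
  · exact monoF4.unipotent_inf_monomial (of_pairRange (m := 48) (n := 48) f4Hdec)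
  · exact monoE6.unipotent_inf_monomial (of_pairRange (m := 72) (n := 72) e6Hdec)
  · exact monoE7.unipotent_inf_monomial (of_pairRange (m := 126) (n := 126) e7Hdec)
  · exact monoE8.unipotent_inf_monomial (of_pairRange (m := 240) (n := 240) e8Hdec)

end Cfsg.Agent.S1040
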