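import Mathlib
-- Template for statement S1041 (row 1041; see /opt/grader/pristine/manifest.json for weights).
-- Copy to Cfsg/Agent/S1041.lean and replace the sorry. The statement below is byte-identical to the frozen
-- statement Cfsg.CfsgFrozen.S1041 (Cfsg/Statements/S1041.lean; the theorem Cfsg.chevalley_pos_sup_neg_unipotent_eq);
-- the grader kernel-checks Cfsg.Agent.S1041.result against that frozen type. Keep the theorem IN THIS FILE
-- (a `result` declared elsewhere and merely imported here is not credited); helpers may live anywhere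
-- under Cfsg/Agent/.
import Cfsg.Statements.S1041


set_option autoImplicit false
open Cfsg

namespace Cfsg.Agent.S1041

/-- `U` and `V` generate the whole Chevalley group. -/
theorem result {F : Type*} [Field F] (D : Cfsg.Lie.ChevalleyDatum) (hD : D ∈ [Cfsg.Lie.chevG2, Cfsg.Lie.chevB2, Cfsg.Lie.chevD4, Cfsg.Lie.chevF4, Cfsg.Lie.chevE6, Cfsg.Lie.chevE7, Cfsg.Lie.chevE8]) : D.posUnipotent F ⊔ D.negUnipotent F = D.group F := by
  have hpn : ∀ r : Fin D.nroots, D.IsPosRoot r.val ∨ D.IsNegRoot r.val := by
    simp only [List.mem_cons, List.not_mem_nil, or_false] at hD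
    rcases hD with rfl | rfl | rfl | rfl | rfl | rfl | rfl <;> decide +kernel
  apply le_antisymm
  · apply sup_le
    · unfold Cfsg.Lie.ChevalleyDatum.posUnipotent Cfsg.Lie.ChevalleyDatum.group
      apply Subgroup.closure_mono
      rintro g ⟨r, t, hr, hg⟩
      refine ⟨⟨r, hr.1⟩, t, ?_⟩
      rw [hg]
      unfold Cfsg.Lie.ChevalleyDatum.x
      rw [dif_pos hr.1]
    · unfold Cfsg.Lie.ChevalleyDatum.negUnipotent Cfsg.Lie.ChevalleyDatum.group
      apply Subgroup.closure_mono
      rintro g ⟨r, t, hr, hg⟩
      refine ⟨⟨r, hr.1⟩, t, ?_⟩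
      rw [hg]
      unfold Cfsg.Lie.ChevalleyDatum.x
      rw [dif_pos hr.1]
  · unfold Cfsg.Lie.ChevalleyDatum.group
    rw [Subgroup.closure_le]
    rintro g ⟨r, t, hg⟩
    have hx : (g : Matrix D.Idx D.Idx F) = D.x F r.val t := by
      rw [hg]
      unfold Cfsg.Lie.ChevalleyDatum.x
      rw [dif_pos r.2]
    rcases hpn r with h | h
    · apply (le_sup_left : D.posUnipotent F ≤ _)
      exact Subgroup.subset_closure ⟨r.val, t, h, hx⟩
    · apply (le_sup_right : D.negUnipotent F ≤ _)
      exact Subgroup.subset_closure ⟨r.val, t, h, hx⟩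

end Cfsg.Agent.S1041
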