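import Mathlib
-- Template for statement S1043 (row 1043; see /opt/grader/pristine/manifest.json for weights).
-- Copy to Cfsg/Agent/S1043.lean and replace the sorry. The statement below is byte-identical to the frozen
-- statement Cfsg.CfsgFrozen.S1043 (Cfsg/Statements/S1043.lean; the theorem Cfsg.chevalley_borel_monomial_le_group);
-- the grader kernel-checks Cfsg.Agent.S1043.result against that frozen type. Keep the theorem IN THIS FILE
-- (a `result` declared elsewhere and merely imported here is not credited); helpers may live anywhere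
-- under Cfsg/Agent/.
import Cfsg.Statements.S1043
import Cfsg.Agent.Lib.Helper3.ChevData.G2Rel
import Cfsg.Agent.Lib.Helper3.ChevData.G2Root
import Cfsg.Agent.Lib.Helper3.ChevData.G2NegConj
import Cfsg.Agent.Lib.Helper3.ChevData.B2Rel
import Cfsg.Agent.Lib.Helper3.ChevData.B2Root
import Cfsg.Agent.Lib.Helper3.ChevData.B2NegConj
import Cfsg.Agent.Lib.Helper3.ChevData.D4Rel
import Cfsg.Agent.Lib.Helper3.ChevData.D4Root
import Cfsg.Agent.Lib.Helper3.ChevData.D4NegConj
import Cfsg.Agent.Lib.Helper3.ChevData.F4Rel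
import Cfsg.Agent.Lib.Helper3.ChevData.F4Root
import Cfsg.Agent.Lib.Helper3.ChevData.F4NegConj
import Cfsg.Agent.Lib.Helper3.ChevData.E6Rel
import Cfsg.Agent.Lib.Helper3.ChevData.E6Root
import Cfsg.Agent.Lib.Helper3.ChevData.E6NegConj
import Cfsg.Agent.Lib.Helper3.ChevData.E7Rel
import Cfsg.Agent.Lib.Helper3.ChevData.E7Root
import Cfsg.Agent.Lib.Helper3.ChevData.E7NegConj
import Cfsg.Agent.Lib.Helper3.ChevData.E8Rel
import Cfsg.Agent.Lib.Helper3.ChevData.E8Root
import Cfsg.Agent.Lib.Helper3.ChevData.E8NegConj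

set_option autoImplicit false
open Cfsg
open Cfsg.Agent.Lib.Helper3.ChevM

namespace Cfsg.Agent.S1043

/-- `B ≤ G`, `N ≤ G` and `B ⊔ N = G` for the Chevalley group `G` generated by all root elements. -/
theorem result {F : Type*} [Field F] (D : Cfsg.Lie.ChevalleyDatum) (hD : D ∈ [Cfsg.Lie.chevG2, Cfsg.Lie.chevB2, Cfsg.Lie.chevD4, Cfsg.Lie.chevF4, Cfsg.Lie.chevE6, Cfsg.Lie.chevE7, Cfsg.Lie.chevE8]) :
    D.borelSubgroup F ≤ D.group F ∧ D.monomialSubgroup F ≤ D.group F ∧ D.borelSubgroup F ⊔ D.monomialSubgroup F = D.group F := by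
  simp only [List.mem_cons, List.not_mem_nil, or_false] at hD
  rcases hD with rfl | rfl | rfl | rfl | rfl | rfl | rfl
  · exact relG2.borel_sup_monomial g2Root g2NegConj
  · exact relB2.borel_sup_monomial b2Root b2NegConj
  · exact relD4.borel_sup_monomial d4Root d4NegConj
  · exact relF4.borel_sup_monomial f4Root f4NegConj
  · exact relE6.borel_sup_monomial e6Root e6NegConj
  · exact relE7.borel_sup_monomial e7Root e7NegConj
  · exact relE8.borel_sup_monomial e8Root e8NegConj

end Cfsg.Agent.S1043
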