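import Mathlib
-- Template for statement S1044 (row 1044; see /opt/grader/pristine/manifest.json for weights).
-- Copy to Cfsg/Agent/S1044.lean and replace the sorry. The statement below is byte-identical to the frozen
-- statement Cfsg.CfsgFrozen.S1044 (Cfsg/Statements/S1044.lean; the theorem Cfsg.chevalley_borel_union_double_coset_subgroup);
-- the grader kernel-checks Cfsg.Agent.S1044.result against that frozen type. Keep the theorem IN THIS FILE
-- (a `result` declared elsewhere and merely imported here is not credited); helpers may live anywhere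
-- under Cfsg/Agent/.
import Cfsg.Statements.S1044
import Cfsg.Agent.Lib.Helper3.ChevData.G2CommData
import Cfsg.Agent.Lib.Helper3.ChevData.G2Up
import Cfsg.Agent.Lib.Helper3.ChevData.G2Hdec
import Cfsg.Agent.Lib.Helper3.ChevData.G2NegRefl
import Cfsg.Agent.Lib.Helper3.ChevData.G2Wp
import Cfsg.Agent.Lib.Helper3.ChevData.B2CommData
import Cfsg.Agent.Lib.Helper3.ChevData.B2Up
import Cfsg.Agent.Lib.Helper3.ChevData.B2Hdec
import Cfsg.Agent.Lib.Helper3.ChevData.B2NegRefl
import Cfsg.Agent.Lib.Helper3.ChevData.B2Wp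
import Cfsg.Agent.Lib.Helper3.ChevData.D4CommData
import Cfsg.Agent.Lib.Helper3.ChevData.D4Up
import Cfsg.Agent.Lib.Helper3.ChevData.D4Hdec
import Cfsg.Agent.Lib.Helper3.ChevData.D4NegRefl
import Cfsg.Agent.Lib.Helper3.ChevData.D4Wp
import Cfsg.Agent.Lib.Helper3.ChevData.F4CommData
import Cfsg.Agent.Lib.Helper3.ChevData.F4Up
import Cfsg.Agent.Lib.Helper3.ChevData.F4Hdec
import Cfsg.Agent.Lib.Helper3.ChevData.F4NegRefl
import Cfsg.Agent.Lib.Helper3.ChevData.F4Wp
import Cfsg.Agent.Lib.Helper3.ChevData.E6CommData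
import Cfsg.Agent.Lib.Helper3.ChevData.E6Up
import Cfsg.Agent.Lib.Helper3.ChevData.E6Hdec
import Cfsg.Agent.Lib.Helper3.ChevData.E6NegRefl
import Cfsg.Agent.Lib.Helper3.ChevData.E6Wp
import Cfsg.Agent.Lib.Helper3.ChevData.E7CommData
import Cfsg.Agent.Lib.Helper3.ChevData.E7Up
import Cfsg.Agent.Lib.Helper3.ChevData.E7Hdec
import Cfsg.Agent.Lib.Helper3.ChevData.E7NegRefl
import Cfsg.Agent.Lib.Helper3.ChevData.E7Wp
import Cfsg.Agent.Lib.Helper3.ChevData.E8CommData
import Cfsg.Agent.Lib.Helper3.ChevData.E8Up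
import Cfsg.Agent.Lib.Helper3.ChevData.E8Hdec
import Cfsg.Agent.Lib.Helper3.ChevData.E8NegRefl
import Cfsg.Agent.Lib.Helper3.ChevData.E8Wp

set_option autoImplicit false
open Cfsg
open Cfsg.Agent.Lib.Helper3.ChevM

namespace Cfsg.Agent.S1044

/-- For a fundamental root `p` the set `B ∪ B n_p B` is (the carrier of) a subgroup of the general linear group. -/
theorem result {F : Type*} [Field F] (D : Cfsg.Lie.ChevalleyDatum) (hD : D ∈ [Cfsg.Lie.chevG2, Cfsg.Lie.chevB2, Cfsg.Lie.chevD4, Cfsg.Lie.chevF4, Cfsg.Lie.chevE6, Cfsg.Lie.chevE7, Cfsg.Lie.chevE8]) (i : ℕ) (hi : i < D.rank) (n : GL D.Idx F)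
    (hn : (n : Matrix D.Idx D.Idx F) = D.nMat F (D.simple i) 1) :
    ∃ P : Subgroup (GL D.Idx F), (P : Set (GL D.Idx F)) =
      (D.borelSubgroup F : Set (GL D.Idx F)) ∪ DoubleCoset.doubleCoset n (D.borelSubgroup F : Set (GL D.Idx F)) (D.borelSubgroup F) := by
  simp only [List.mem_cons, List.not_mem_nil, or_false] at hD
  rcases hD with rfl | rfl | rfl | rfl | rfl | rfl | rfl
  · exact commG2.rank_one_parabolic (of_pairRange (m := 2) (n := 12) g2Up) (of_pairRange (m := 12) (n := 12) g2Hdec) (of_pairRange (m := 2) (n := 12) g2NegRefl) (of_pairRange (m := 2) (n := 12) g2Wp) i hi n hn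
  · exact commB2.rank_one_parabolic (of_pairRange (m := 2) (n := 8) b2Up) (of_pairRange (m := 8) (n := 8) b2Hdec) (of_pairRange (m := 2) (n := 8) b2NegRefl) (of_pairRange (m := 2) (n := 8) b2Wp) i hi n hn
  · exact commD4.rank_one_parabolic (of_pairRange (m := 4) (n := 24) d4Up) (of_pairRange (m := 24) (n := 24) d4Hdec) (of_pairRange (m := 4) (n := 24) d4NegRefl) (of_pairRange (m := 4) (n := 24) d4Wp) i hi n hn
  · exact commF4.rank_one_parabolic (of_pairRange (m := 4) (n := 48) f4Up) (of_pairRange (m := 48) (n := 48) f4Hdec) (of_pairRange (m := 4) (n := 48) f4NegRefl) (of_pairRange (m := 4) (n := 48) f4Wp) i hi n hn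
  · exact commE6.rank_one_parabolic (of_pairRange (m := 6) (n := 72) e6Up) (of_pairRange (m := 72) (n := 72) e6Hdec) (of_pairRange (m := 6) (n := 72) e6NegRefl) (of_pairRange (m := 6) (n := 72) e6Wp) i hi n hn
  · exact commE7.rank_one_parabolic (of_pairRange (m := 7) (n := 126) e7Up) (of_pairRange (m := 126) (n := 126) e7Hdec) (of_pairRange (m := 7) (n := 126) e7NegRefl) (of_pairRange (m := 7) (n := 126) e7Wp) i hi n hn
  · exact commE8.rank_one_parabolic (of_pairRange (m := 8) (n := 240) e8Up) (of_pairRange (m := 240) (n := 240) e8Hdec) (of_pairRange (m := 8) (n := 240) e8NegRefl) (of_pairRange (m := 8) (n := 240) e8Wp) i hi n hn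

end Cfsg.Agent.S1044
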