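import Mathlib
-- Template for statement S1045 (row 1045; see /opt/grader/pristine/manifest.json for weights).
-- Copy to Cfsg/Agent/S1045.lean and replace the sorry. The statement below is byte-identical to the frozen
-- statement Cfsg.CfsgFrozen.S1045 (Cfsg/Statements/S1045.lean; the theorem Cfsg.chevalley_simple_root_complement_normal);
-- the grader kernel-checks Cfsg.Agent.S1045.result against that frozen type. Keep the theorem IN THIS FILE
-- (a `result` declared elsewhere and merely imported here is not credited); helpers may live anywhere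
-- under Cfsg/Agent/.
import Cfsg.Statements.S1045
import Cfsg.Agent.Lib.Helper3.ChevData.G2CommData
import Cfsg.Agent.Lib.Helper3.ChevData.G2Up
import Cfsg.Agent.Lib.Helper3.ChevData.B2CommData
import Cfsg.Agent.Lib.Helper3.ChevData.B2Up
import Cfsg.Agent.Lib.Helper3.ChevData.D4CommData
import Cfsg.Agent.Lib.Helper3.ChevData.D4Up
import Cfsg.Agent.Lib.Helper3.ChevData.F4CommData
import Cfsg.Agent.Lib.Helper3.ChevData.F4Up
import Cfsg.Agent.Lib.Helper3.ChevData.E6CommData
import Cfsg.Agent.Lib.Helper3.ChevData.E6Up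
import Cfsg.Agent.Lib.Helper3.ChevData.E7CommData
import Cfsg.Agent.Lib.Helper3.ChevData.E7Up
import Cfsg.Agent.Lib.Helper3.ChevData.E8CommData
import Cfsg.Agent.Lib.Helper3.ChevData.E8Up

set_option autoImplicit false
open Cfsg
open Cfsg.Agent.Lib.Helper3.ChevM

namespace Cfsg.Agent.S1045

/-- For a fundamental root `p`, the subgroup `U_p` generated by the `X_s`, `s` positive and `s ≠ p`, is normalised by `X_p` and `X_{-p}`, and `U = U_p ⊔ X_p`. -/
theorem result {F : Type*} [Field F] (D : Cfsg.Lie.ChevalleyDatum) (hD : D ∈ [Cfsg.Lie.chevG2, Cfsg.Lie.chevB2, Cfsg.Lie.chevD4, Cfsg.Lie.chevF4, Cfsg.Lie.chevE6, Cfsg.Lie.chevE7, Cfsg.Lie.chevE8]) (i : ℕ) (hi : i < D.rank) :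
    D.rootSubgroup F (D.simple i) ⊔ D.rootSubgroup F (D.neg (D.simple i)) ≤
        Subgroup.normalizer (Subgroup.closure {g : GL D.Idx F | ∃ (s : ℕ) (t : F), D.IsPosRoot s ∧ s ≠ D.simple i ∧
          (g : Matrix D.Idx D.Idx F) = D.x F s t} : Set (GL D.Idx F)) ∧
      Subgroup.closure {g : GL D.Idx F | ∃ (s : ℕ) (t : F), D.IsPosRoot s ∧ s ≠ D.simple i ∧
          (g : Matrix D.Idx D.Idx F) = D.x F s t} ⊔ D.rootSubgroup F (D.simple i) = D.posUnipotent F := by
  simp only [List.mem_cons, List.not_mem_nil, or_false] at hD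
  rcases hD with rfl | rfl | rfl | rfl | rfl | rfl | rfl
  · exact commG2.up_normal (of_pairRange (m := 2) (n := 12) g2Up) i hi
  · exact commB2.up_normal (of_pairRange (m := 2) (n := 8) b2Up) i hi
  · exact commD4.up_normal (of_pairRange (m := 4) (n := 24) d4Up) i hi
  · exact commF4.up_normal (of_pairRange (m := 4) (n := 48) f4Up) i hi
  · exact commE6.up_normal (of_pairRange (m := 6) (n := 72) e6Up) i hi
  · exact commE7.up_normal (of_pairRange (m := 7) (n := 126) e7Up) i hi
  · exact commE8.up_normal (of_pairRange (m := 8) (n := 240) e8Up) i hi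

end Cfsg.Agent.S1045
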