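import Mathlib
-- Template for statement S1046 (row 1046; see /opt/grader/pristine/manifest.json for weights).
-- Copy to Cfsg/Agent/S1046.lean and replace the sorry. The statement below is byte-identical to the frozen
-- statement Cfsg.CfsgFrozen.S1046 (Cfsg/Statements/S1046.lean; the theorem Cfsg.chevalley_diagonal_conj_in_monomial);
-- the grader kernel-checks Cfsg.Agent.S1046.result against that frozen type. Keep the theorem IN THIS FILE
-- (a `result` declared elsewhere and merely imported here is not credited); helpers may live anywhere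
-- under Cfsg/Agent/.
import Cfsg.Statements.S1046
import Cfsg.Agent.Lib.Helper3.ChevData.G2UHyp
import Cfsg.Agent.Lib.Helper3.ChevData.G2Bn
import Cfsg.Agent.Lib.Helper3.ChevData.G2NegTri
import Cfsg.Agent.Lib.Helper3.ChevData.B2UHyp
import Cfsg.Agent.Lib.Helper3.ChevData.B2Bn
import Cfsg.Agent.Lib.Helper3.ChevData.B2NegTri
import Cfsg.Agent.Lib.Helper3.ChevData.D4UHyp
import Cfsg.Agent.Lib.Helper3.ChevData.D4Bn
import Cfsg.Agent.Lib.Helper3.ChevData.D4NegTri
import Cfsg.Agent.Lib.Helper3.ChevData.F4UHyp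
import Cfsg.Agent.Lib.Helper3.ChevData.F4Bn
import Cfsg.Agent.Lib.Helper3.ChevData.F4NegTri
import Cfsg.Agent.Lib.Helper3.ChevData.E6UHyp
import Cfsg.Agent.Lib.Helper3.ChevData.E6Bn
import Cfsg.Agent.Lib.Helper3.ChevData.E6NegTri
import Cfsg.Agent.Lib.Helper3.ChevData.E7UHyp
import Cfsg.Agent.Lib.Helper3.ChevData.E7Bn
import Cfsg.Agent.Lib.Helper3.ChevData.E7NegTri
import Cfsg.Agent.Lib.Helper3.ChevData.E8UHyp
import Cfsg.Agent.Lib.Helper3.ChevData.E8Bn
import Cfsg.Agent.Lib.Helper3.ChevData.E8NegTri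
import Cfsg.Agent.Lib.Helper3.ChevU5

set_option autoImplicit false
open Cfsg
open Cfsg.Agent.Lib.Helper3.ChevM

namespace Cfsg.Agent.S1046

/-- Two elements of `H` conjugate in the Chevalley group are conjugate by an element of `N`. -/
theorem result {F : Type*} [Field F] (D : Cfsg.Lie.ChevalleyDatum) (hD : D ∈ [Cfsg.Lie.chevG2, Cfsg.Lie.chevB2, Cfsg.Lie.chevD4, Cfsg.Lie.chevF4, Cfsg.Lie.chevE6, Cfsg.Lie.chevE7, Cfsg.Lie.chevE8]) (h₁ h₂ g : GL D.Idx F) (h1 : h₁ ∈ D.diagonalSubgroup F) (h2 : h₂ ∈ D.diagonalSubgroup F)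
    (hg : g ∈ D.group F) (hc : g * h₁ * g⁻¹ = h₂) :
    ∃ n ∈ D.monomialSubgroup F, n * h₁ * n⁻¹ = h₂ := by
  simp only [List.mem_cons, List.not_mem_nil, or_false] at hD
  rcases hD with rfl | rfl | rfl | rfl | rfl | rfl | rfl
  · exact uhypG2.diagonal_conj_in_monomial bnG2 g2NegTri (by decide +kernel) h₁ h₂ g h1 h2 hg hc
  · exact uhypB2.diagonal_conj_in_monomial bnB2 b2NegTri (by decide +kernel) h₁ h₂ g h1 h2 hg hc
  · exact uhypD4.diagonal_conj_in_monomial bnD4 d4NegTri (by decide +kernel) h₁ h₂ g h1 h2 hg hc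
  · exact uhypF4.diagonal_conj_in_monomial bnF4 f4NegTri (by decide +kernel) h₁ h₂ g h1 h2 hg hc
  · exact uhypE6.diagonal_conj_in_monomial bnE6 e6NegTri (by decide +kernel) h₁ h₂ g h1 h2 hg hc
  · exact uhypE7.diagonal_conj_in_monomial bnE7 e7NegTri (by decide +kernel) h₁ h₂ g h1 h2 hg hc
  · exact uhypE8.diagonal_conj_in_monomial bnE8 e8NegTri (by decide +kernel) h₁ h₂ g h1 h2 hg hc

end Cfsg.Agent.S1046
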