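import Mathlib
-- Template for statement S1047 (row 1047; see /opt/grader/pristine/manifest.json for weights).
-- Copy to Cfsg/Agent/S1047.lean and replace the sorry. The statement below is byte-identical to the frozen
-- statement Cfsg.CfsgFrozen.S1047 (Cfsg/Statements/S1047.lean; the theorem Cfsg.chevalley_parabolic_eq_levi_generated);
-- the grader kernel-checks Cfsg.Agent.S1047.result against that frozen type. Keep the theorem IN THIS FILE
-- (a `result` declared elsewhere and merely imported here is not credited); helpers may live anywhere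
-- under Cfsg/Agent/.
import Cfsg.Statements.S1047
import Cfsg.Agent.Lib.Helper3.ChevData.G2Rel
import Cfsg.Agent.Lib.Helper3.ChevData.G2Sc
import Cfsg.Agent.Lib.Helper3.ChevData.G2Srwc
import Cfsg.Agent.Lib.Helper3.ChevData.B2Rel
import Cfsg.Agent.Lib.Helper3.ChevData.B2Sc
import Cfsg.Agent.Lib.Helper3.ChevData.B2Srwc
import Cfsg.Agent.Lib.Helper3.ChevData.D4Rel
import Cfsg.Agent.Lib.Helper3.ChevData.D4Sc
import Cfsg.Agent.Lib.Helper3.ChevData.D4Srwc
import Cfsg.Agent.Lib.Helper3.ChevData.F4Rel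
import Cfsg.Agent.Lib.Helper3.ChevData.F4Sc
import Cfsg.Agent.Lib.Helper3.ChevData.F4Srwc
import Cfsg.Agent.Lib.Helper3.ChevData.E6Rel
import Cfsg.Agent.Lib.Helper3.ChevData.E6Sc
import Cfsg.Agent.Lib.Helper3.ChevData.E6Srwc
import Cfsg.Agent.Lib.Helper3.ChevData.E7Rel
import Cfsg.Agent.Lib.Helper3.ChevData.E7Sc
import Cfsg.Agent.Lib.Helper3.ChevData.E7Srwc
import Cfsg.Agent.Lib.Helper3.ChevData.E8Rel
import Cfsg.Agent.Lib.Helper3.ChevData.E8Sc
import Cfsg.Agent.Lib.Helper3.ChevData.E8Srwc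

set_option autoImplicit false
open Cfsg
open Cfsg.Agent.Lib.Helper3.ChevM

namespace Cfsg.Agent.S1047

/-- `P_J = ⟨H, X_r : r ∈ Φ⁺ ∪ Φ_J⟩`. -/
theorem result {F : Type*} [Field F] (D : Cfsg.Lie.ChevalleyDatum) (hD : D ∈ [Cfsg.Lie.chevG2, Cfsg.Lie.chevB2, Cfsg.Lie.chevD4, Cfsg.Lie.chevF4, Cfsg.Lie.chevE6, Cfsg.Lie.chevE7, Cfsg.Lie.chevE8]) (J : Set ℕ) :
    D.parabolicSubgroup F J = D.diagonalSubgroup F ⊔
      Subgroup.closure {g : GL D.Idx F | ∃ (r : ℕ) (t : F), (D.IsPosRoot r ∨ D.InRootSub J r) ∧ (g : Matrix D.Idx D.Idx F) = D.x F r t} := by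
  simp only [List.mem_cons, List.not_mem_nil, or_false] at hD
  rcases hD with rfl | rfl | rfl | rfl | rfl | rfl | rfl
  · exact relG2.parabolic_eq g2Sc srwG2 g2Srwc J
  · exact relB2.parabolic_eq b2Sc srwB2 b2Srwc J
  · exact relD4.parabolic_eq d4Sc srwD4 d4Srwc J
  · exact relF4.parabolic_eq f4Sc srwF4 f4Srwc J
  · exact relE6.parabolic_eq e6Sc srwE6 e6Srwc J
  · exact relE7.parabolic_eq e7Sc srwE7 e7Srwc J
  · exact relE8.parabolic_eq e8Sc srwE8 e8Srwc J

end Cfsg.Agent.S1047
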