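import Mathlib
-- Template for statement S1048 (row 1048; see /opt/grader/pristine/manifest.json for weights).
-- Copy to Cfsg/Agent/S1048.lean and replace the sorry. The statement below is byte-identical to the frozen
-- statement Cfsg.CfsgFrozen.S1048 (Cfsg/Statements/S1048.lean; the theorem Cfsg.chevalley_levi_decomposition);
-- the grader kernel-checks Cfsg.Agent.S1048.result against that frozen type. Keep the theorem IN THIS FILE
-- (a `result` declared elsewhere and merely imported here is not credited); helpers may live anywhere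
-- under Cfsg/Agent/.
import Cfsg.Statements.S1048
import Cfsg.Agent.Lib.Helper3.ChevData.G2Levi
import Cfsg.Agent.Lib.Helper3.ChevData.G2CommData
import Cfsg.Agent.Lib.Helper3.ChevData.B2Levi
import Cfsg.Agent.Lib.Helper3.ChevData.B2CommData
import Cfsg.Agent.Lib.Helper3.ChevData.D4Levi
import Cfsg.Agent.Lib.Helper3.ChevData.D4CommData
import Cfsg.Agent.Lib.Helper3.ChevData.F4Levi
import Cfsg.Agent.Lib.Helper3.ChevData.F4CommData
import Cfsg.Agent.Lib.Helper3.ChevData.E6Levi
import Cfsg.Agent.Lib.Helper3.ChevData.E6CommData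
import Cfsg.Agent.Lib.Helper3.ChevData.E7Levi
import Cfsg.Agent.Lib.Helper3.ChevData.E7CommData
import Cfsg.Agent.Lib.Helper3.ChevData.E8Levi
import Cfsg.Agent.Lib.Helper3.ChevData.E8CommData

set_option autoImplicit false
open Cfsg
open Cfsg.Agent.Lib.Helper3.ChevM

namespace Cfsg.Agent.S1048

/-- `U_J ⊴ P_J`, `P_J = U_J L_J` and `U_J ∩ L_J = 1` (Levi decomposition of the standard parabolic subgroup). -/
theorem result {F : Type*} [Field F] (D : Cfsg.Lie.ChevalleyDatum) (hD : D ∈ [Cfsg.Lie.chevG2, Cfsg.Lie.chevB2, Cfsg.Lie.chevD4, Cfsg.Lie.chevF4, Cfsg.Lie.chevE6, Cfsg.Lie.chevE7, Cfsg.Lie.chevE8]) (J : Set ℕ) :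
    D.parabolicSubgroup F J ≤ Subgroup.normalizer (D.unipotentRadical F J : Set (GL D.Idx F)) ∧
      D.unipotentRadical F J ⊔ D.leviSubgroup F J = D.parabolicSubgroup F J ∧
      D.unipotentRadical F J ⊓ D.leviSubgroup F J = ⊥ := by
  simp only [List.mem_cons, List.not_mem_nil, or_false] at hD
  rcases hD with rfl | rfl | rfl | rfl | rfl | rfl | rfl
  · exact ⟨leviG2.parabolic_le_normalizer commG2 J, leviG2.sup_eq_parabolic J, leviG2.inf_eq_bot J⟩
  · exact ⟨leviB2.parabolic_le_normalizer commB2 J, leviB2.sup_eq_parabolic J, leviB2.inf_eq_bot J⟩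
  · exact ⟨leviD4.parabolic_le_normalizer commD4 J, leviD4.sup_eq_parabolic J, leviD4.inf_eq_bot J⟩
  · exact ⟨leviF4.parabolic_le_normalizer commF4 J, leviF4.sup_eq_parabolic J, leviF4.inf_eq_bot J⟩
  · exact ⟨leviE6.parabolic_le_normalizer commE6 J, leviE6.sup_eq_parabolic J, leviE6.inf_eq_bot J⟩
  · exact ⟨leviE7.parabolic_le_normalizer commE7 J, leviE7.sup_eq_parabolic J, leviE7.inf_eq_bot J⟩
  · exact ⟨leviE8.parabolic_le_normalizer commE8 J, leviE8.sup_eq_parabolic J, leviE8.inf_eq_bot J⟩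

end Cfsg.Agent.S1048
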