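import Mathlib
-- Template for statement S1049 (row 1049; see /opt/grader/pristine/manifest.json for weights).
-- Copy to Cfsg/Agent/S1049.lean and replace the sorry. The statement below is byte-identical to the frozen
-- statement Cfsg.CfsgFrozen.S1049 (Cfsg/Statements/S1049.lean; the theorem Cfsg.chevalley_normalizer_unipotent_radical);
-- the grader kernel-checks Cfsg.Agent.S1049.result against that frozen type. Keep the theorem IN THIS FILE
-- (a `result` declared elsewhere and merely imported here is not credited); helpers may live anywhere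
-- under Cfsg/Agent/.
import Cfsg.Statements.S1049
import Cfsg.Agent.Lib.Helper3.ChevData.G2Levi
import Cfsg.Agent.Lib.Helper3.ChevData.G2CommData
import Cfsg.Agent.Lib.Helper3.ChevData.G2Bn
import Cfsg.Agent.Lib.Helper3.ChevData.G2Rv
import Cfsg.Agent.Lib.Helper3.ChevData.G2Inj
import Cfsg.Agent.Lib.Helper3.ChevData.B2Levi
import Cfsg.Agent.Lib.Helper3.ChevData.B2CommData
import Cfsg.Agent.Lib.Helper3.ChevData.B2Bn
import Cfsg.Agent.Lib.Helper3.ChevData.B2Rv
import Cfsg.Agent.Lib.Helper3.ChevData.B2Inj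
import Cfsg.Agent.Lib.Helper3.ChevData.D4Levi
import Cfsg.Agent.Lib.Helper3.ChevData.D4CommData
import Cfsg.Agent.Lib.Helper3.ChevData.D4Bn
import Cfsg.Agent.Lib.Helper3.ChevData.D4Rv
import Cfsg.Agent.Lib.Helper3.ChevData.D4Inj
import Cfsg.Agent.Lib.Helper3.ChevData.F4Levi
import Cfsg.Agent.Lib.Helper3.ChevData.F4CommData
import Cfsg.Agent.Lib.Helper3.ChevData.F4Bn
import Cfsg.Agent.Lib.Helper3.ChevData.F4Rv
import Cfsg.Agent.Lib.Helper3.ChevData.F4Inj
import Cfsg.Agent.Lib.Helper3.ChevData.E6Levi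
import Cfsg.Agent.Lib.Helper3.ChevData.E6CommData
import Cfsg.Agent.Lib.Helper3.ChevData.E6Bn
import Cfsg.Agent.Lib.Helper3.ChevData.E6Rv
import Cfsg.Agent.Lib.Helper3.ChevData.E6Inj
import Cfsg.Agent.Lib.Helper3.ChevData.E7Levi
import Cfsg.Agent.Lib.Helper3.ChevData.E7CommData
import Cfsg.Agent.Lib.Helper3.ChevData.E7Bn
import Cfsg.Agent.Lib.Helper3.ChevData.E7Rv
import Cfsg.Agent.Lib.Helper3.ChevData.E7Inj
import Cfsg.Agent.Lib.Helper3.ChevData.E8Levi
import Cfsg.Agent.Lib.Helper3.ChevData.E8CommData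
import Cfsg.Agent.Lib.Helper3.ChevData.E8Bn
import Cfsg.Agent.Lib.Helper3.ChevData.E8Rv
import Cfsg.Agent.Lib.Helper3.ChevData.E8Inj
import Cfsg.Agent.Lib.Helper3.ChevL3

set_option autoImplicit false
set_option maxRecDepth 1000000
open Cfsg
open Cfsg.Agent.Lib.Helper3.ChevM

namespace Cfsg.Agent.S1049

/-- `N_G(U_J) = P_J`: the normaliser of `U_J` inside the Chevalley group is the standard parabolic subgroup. -/
theorem result {F : Type*} [Field F] (D : Cfsg.Lie.ChevalleyDatum) (hD : D ∈ [Cfsg.Lie.chevG2, Cfsg.Lie.chevB2, Cfsg.Lie.chevD4, Cfsg.Lie.chevF4, Cfsg.Lie.chevE6, Cfsg.Lie.chevE7, Cfsg.Lie.chevE8]) (J : Set ℕ) (hJ : ∀ j ∈ J, j < D.rank) :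
    Subgroup.normalizer (D.unipotentRadical F J : Set (GL D.Idx F)) ⊓ D.group F = D.parabolicSubgroup F J := by
  simp only [List.mem_cons, List.not_mem_nil, or_false] at hD
  rcases hD with rfl | rfl | rfl | rfl | rfl | rfl | rfl
  · exact leviG2.normalizer_inf_group commG2 bnG2 (of_pairRange (m := 2) (n := 12) g2Rv) g2Inj J hJ
  · exact leviB2.normalizer_inf_group commB2 bnB2 (of_pairRange (m := 2) (n := 8) b2Rv) b2Inj J hJ
  · exact leviD4.normalizer_inf_group commD4 bnD4 (of_pairRange (m := 4) (n := 24) d4Rv) d4Inj J hJ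
  · exact leviF4.normalizer_inf_group commF4 bnF4 (of_pairRange (m := 4) (n := 48) f4Rv) f4Inj J hJ
  · exact leviE6.normalizer_inf_group commE6 bnE6 (of_pairRange (m := 6) (n := 72) e6Rv) e6Inj J hJ
  · exact leviE7.normalizer_inf_group commE7 bnE7 (of_pairRange (m := 7) (n := 126) e7Rv) e7Inj J hJ
  · exact leviE8.normalizer_inf_group commE8 bnE8 (of_pairRange (m := 8) (n := 240) e8Rv) e8Inj J hJ

end Cfsg.Agent.S1049
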