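import Mathlib
-- Template for statement S1052 (row 1052; see /opt/grader/pristine/manifest.json for weights).
-- Copy to Cfsg/Agent/S1052.lean and replace the sorry. The statement below is byte-identical to the frozen
-- statement Cfsg.CfsgFrozen.S1052 (Cfsg/Statements/S1052.lean; the theorem Cfsg.chevalley_perfect);
-- the grader kernel-checks Cfsg.Agent.S1052.result against that frozen type. Keep the theorem IN THIS FILE
-- (a `result` declared elsewhere and merely imported here is not credited); helpers may live anywhere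
-- under Cfsg/Agent/.
import Cfsg.Statements.S1052
import Cfsg.Agent.Lib.Helper3.ChevData.G2CommData
import Cfsg.Agent.Lib.Helper3.ChevData.G2Perfc
import Cfsg.Agent.Lib.Helper3.ChevData.B2CommData
import Cfsg.Agent.Lib.Helper3.ChevData.B2Perfc
import Cfsg.Agent.Lib.Helper3.ChevData.D4CommData
import Cfsg.Agent.Lib.Helper3.ChevData.D4Perfc
import Cfsg.Agent.Lib.Helper3.ChevData.F4CommData
import Cfsg.Agent.Lib.Helper3.ChevData.F4Perfc
import Cfsg.Agent.Lib.Helper3.ChevData.E6CommData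
import Cfsg.Agent.Lib.Helper3.ChevData.E6Perfc
import Cfsg.Agent.Lib.Helper3.ChevData.E7CommData
import Cfsg.Agent.Lib.Helper3.ChevData.E7Perfc
import Cfsg.Agent.Lib.Helper3.ChevData.E8CommData
import Cfsg.Agent.Lib.Helper3.ChevData.E8Perfc

set_option autoImplicit false
open Cfsg
open Cfsg.Agent.Lib.Helper3.ChevM

namespace Cfsg.Agent.S1052

/-- `G = G'` for every type G₂, B₂, D₄, F₄, E₆, E₇, E₈ over every field, except G₂ and B₂ over the field with two elements. -/
theorem result {F : Type*} [Field F] (D : Cfsg.Lie.ChevalleyDatum) (hD : D ∈ [Cfsg.Lie.chevG2, Cfsg.Lie.chevB2, Cfsg.Lie.chevD4, Cfsg.Lie.chevF4, Cfsg.Lie.chevE6, Cfsg.Lie.chevE7, Cfsg.Lie.chevE8]) (h2 : D = Cfsg.Lie.chevG2 ∨ D = Cfsg.Lie.chevB2 → ∃ a : F, a ≠ 0 ∧ a ≠ 1) :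
    commutator ↥(D.group F) = ⊤ := by
  simp only [List.mem_cons, List.not_mem_nil, or_false] at hD
  rcases hD with rfl | rfl | rfl | rfl | rfl | rfl | rfl
  · exact commG2.perfect ptagG2 psG2 psqG2 pmG2 g2Perfc (Or.inr (h2 (Or.inl rfl)))
  · exact commB2.perfect ptagB2 psB2 psqB2 pmB2 b2Perfc (Or.inr (h2 (Or.inr rfl)))
  · exact commD4.perfect ptagD4 psD4 psqD4 pmD4 d4Perfc (Or.inl fun _ _ => rfl)
  · exact commF4.perfect ptagF4 psF4 psqF4 pmF4 f4Perfc (Or.inl fun _ _ => rfl)
  · exact commE6.perfect ptagE6 psE6 psqE6 pmE6 e6Perfc (Or.inl fun _ _ => rfl)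
  · exact commE7.perfect ptagE7 psE7 psqE7 pmE7 e7Perfc (Or.inl fun _ _ => rfl)
  · exact commE8.perfect ptagE8 psE8 psqE8 pmE8 e8Perfc (Or.inl fun _ _ => rfl)

end Cfsg.Agent.S1052
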