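import Mathlib
-- Template for statement S1053 (row 1053; see /opt/grader/pristine/manifest.json for weights).
-- Copy to Cfsg/Agent/S1053.lean and replace the sorry. The statement below is byte-identical to the frozen
-- statement Cfsg.CfsgFrozen.S1053 (Cfsg/Statements/S1053.lean; the theorem Cfsg.chevalley_weyl_opposition_conj_unipotent);
-- the grader kernel-checks Cfsg.Agent.S1053.result against that frozen type. Keep the theorem IN THIS FILE
-- (a `result` declared elsewhere and merely imported here is not credited); helpers may live anywhere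
-- under Cfsg/Agent/.
import Cfsg.Statements.S1053
import Cfsg.Agent.Lib.Helper3.ChevData.G2Rel
import Cfsg.Agent.Lib.Helper3.ChevData.G2Opp
import Cfsg.Agent.Lib.Helper3.ChevData.B2Rel
import Cfsg.Agent.Lib.Helper3.ChevData.B2Opp
import Cfsg.Agent.Lib.Helper3.ChevData.D4Rel
import Cfsg.Agent.Lib.Helper3.ChevData.D4Opp
import Cfsg.Agent.Lib.Helper3.ChevData.F4Rel
import Cfsg.Agent.Lib.Helper3.ChevData.F4Opp
import Cfsg.Agent.Lib.Helper3.ChevData.E6Rel
import Cfsg.Agent.Lib.Helper3.ChevData.E6Opp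
import Cfsg.Agent.Lib.Helper3.ChevData.E7Rel
import Cfsg.Agent.Lib.Helper3.ChevData.E7Opp
import Cfsg.Agent.Lib.Helper3.ChevData.E8Rel
import Cfsg.Agent.Lib.Helper3.ChevData.E8Opp

set_option autoImplicit false
open Cfsg
open Cfsg.Agent.Lib.Helper3.ChevM

namespace Cfsg.Agent.S1053

/-- There is `n₀ ∈ N` with `n₀ U n₀⁻¹ = V` (a representative of the longest element of the Weyl group). -/
theorem result {F : Type*} [Field F] (D : Cfsg.Lie.ChevalleyDatum) (hD : D ∈ [Cfsg.Lie.chevG2, Cfsg.Lie.chevB2, Cfsg.Lie.chevD4, Cfsg.Lie.chevF4, Cfsg.Lie.chevE6, Cfsg.Lie.chevE7, Cfsg.Lie.chevE8]) :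
    ∃ n ∈ D.monomialSubgroup F, (D.posUnipotent F).map (MulAut.conj n).toMonoidHom = D.negUnipotent F := by
  simp only [List.mem_cons, List.not_mem_nil, or_false] at hD
  rcases hD with rfl | rfl | rfl | rfl | rfl | rfl | rfl
  · exact relG2.exists_opposition w0G2 w0rG2 w0G2_lt g2Opp
  · exact relB2.exists_opposition w0B2 w0rB2 w0B2_lt b2Opp
  · exact relD4.exists_opposition w0D4 w0rD4 w0D4_lt d4Opp
  · exact relF4.exists_opposition w0F4 w0rF4 w0F4_lt f4Opp
  · exact relE6.exists_opposition w0E6 w0rE6 w0E6_lt e6Opp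
  · exact relE7.exists_opposition w0E7 w0rE7 w0E7_lt e7Opp
  · exact relE8.exists_opposition w0E8 w0rE8 w0E8_lt e8Opp

end Cfsg.Agent.S1053
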