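import Mathlib
-- Template for statement S1054 (row 1054; see /opt/grader/pristine/manifest.json for weights).
-- Copy to Cfsg/Agent/S1054.lean and replace the sorry. The statement below is byte-identical to the frozen
-- statement Cfsg.CfsgFrozen.S1054 (Cfsg/Statements/S1054.lean; the theorem Cfsg.chevalley_is_simple_group);
-- the grader kernel-checks Cfsg.Agent.S1054.result against that frozen type. Keep the theorem IN THIS FILE
-- (a `result` declared elsewhere and merely imported here is not credited); helpers may live anywhere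
-- under Cfsg/Agent/.
import Cfsg.Statements.S1054
import Cfsg.Agent.Lib.Helper3.ChevData.D4Simple
import Cfsg.Agent.Lib.Helper3.ChevData.F4Simple
import Cfsg.Agent.Lib.Helper3.ChevData.E6Simple
import Cfsg.Agent.Lib.Helper3.ChevData.E7Simple
import Cfsg.Agent.Lib.Helper3.ChevData.E8Simple

set_option autoImplicit false
open Cfsg
open Cfsg.Agent.Lib.Helper3.ChevM

namespace Cfsg.Agent.S1054

/-- The Chevalley groups of types D₄, F₄, E₆, E₇, E₈ are simple over every field. -/
theorem result {F : Type*} [Field F] (D : Cfsg.Lie.ChevalleyDatum)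
    (hD : D ∈ [Cfsg.Lie.chevD4, Cfsg.Lie.chevF4, Cfsg.Lie.chevE6, Cfsg.Lie.chevE7, Cfsg.Lie.chevE8]) :
    IsSimpleGroup ↥(D.group F) ∧ ¬ IsMulCommutative ↥(D.group F) := by
  simp only [List.mem_cons, List.not_mem_nil, or_false] at hD
  rcases hD with rfl | rfl | rfl | rfl | rfl
  · exact commD4.simple simpleD4 (Or.inl fun _ _ => rfl)
  · exact commF4.simple simpleF4 (Or.inl fun _ _ => rfl)
  · exact commE6.simple simpleE6 (Or.inl fun _ _ => rfl)
  · exact commE7.simple simpleE7 (Or.inl fun _ _ => rfl)
  · exact commE8.simple simpleE8 (Or.inl fun _ _ => rfl)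

end Cfsg.Agent.S1054
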