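import Mathlib
-- Template for statement S1060 (row 1060; see /opt/grader/pristine/manifest.json for weights).
-- Copy to Cfsg/Agent/S1060.lean and replace the sorry. The statement below is byte-identical to the frozen
-- statement Cfsg.CfsgFrozen.S1060 (Cfsg/Statements/S1060.lean; the theorem Cfsg.chevalley_card_b2);
-- the grader kernel-checks Cfsg.Agent.S1060.result against that frozen type. Keep the theorem IN THIS FILE
-- (a `result` declared elsewhere and merely imported here is not credited); helpers may live anywhere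
-- under Cfsg/Agent/.
import Cfsg.Statements.S1060
import Cfsg.Agent.Lib.Helper3.ChevData.B2UHyp
import Cfsg.Agent.Lib.Helper3.ChevData.B2Bn
import Cfsg.Agent.Lib.Helper3.ChevData.B2NegTri
import Cfsg.Agent.Lib.Helper3.ChevData.B2Vec
import Cfsg.Agent.Lib.Helper3.ChevData.B2Poin

set_option autoImplicit false
open Cfsg
open Cfsg.Agent.Lib.Helper3.ChevM

namespace Cfsg.Agent.S1060

/-- `gcd(2, q-1) · |B₂(q)| = q⁴ (q² - 1)(q⁴ - 1)`. -/
theorem result {F : Type*} [Field F] [Fintype F] {q : ℕ} (hq : Fintype.card F = q) : Nat.gcd 2 (q - 1) * Nat.card ↥(Cfsg.Lie.chevB2.group F) = q ^ 4 * (q ^ 2 - 1) * (q ^ 4 - 1) := by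
  have key : (∏ k : Fin 2, Nat.gcd (Fintype.card F - 1) (smDB2 k)) * Nat.card ↥(Cfsg.Lie.chevB2.group F) =
      Fintype.card F ^ 4 * (Fintype.card F - 1) ^ 2 * poin cdB2.D relB2.refl Set.univ (Fintype.card F) :=
    uhypB2.card_group_formula (F := F) bnB2 b2NegTri b2Sign (by decide +kernel) vecB2
      (of_pairRange (m := 2) (n := 8) b2Vec) smPB2 smQB2 smPiB2 smQiB2 smDB2
      (by decide +kernel) (by decide +kernel) (by decide +kernel) (by decide +kernel)
  rw [b2Poin] at key
  have e : (∏ k : Fin 2, Nat.gcd (Fintype.card F - 1) (smDB2 k)) = Nat.gcd 2 (Fintype.card F - 1) := by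
    simp [Fin.prod_univ_succ, smDB2, Nat.gcd_comm]
  rw [e, hq] at key
  have hq1 : 1 ≤ q := by rw [← hq]; exact Fintype.card_pos
  have h2 : 1 ≤ q ^ 2 := Nat.one_le_pow _ _ hq1
  have h4 : 1 ≤ q ^ 4 := Nat.one_le_pow _ _ hq1
  simp only [List.map_cons, List.map_nil, List.sum_cons, List.sum_nil] at key
  zify [hq1, h2, h4] at key ⊢
  rw [key]
  ring

end Cfsg.Agent.S1060
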