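import Mathlib
-- Template for statement S1058 (row 1058; see /opt/grader/pristine/manifest.json for weights).
-- Copy to Cfsg/Agent/S1058.lean and replace the sorry. The statement below is byte-identical to the frozen
-- statement Cfsg.CfsgFrozen.S1058 (Cfsg/Statements/S1058.lean; the theorem Cfsg.chevalley_b2_two_equiv_symmetric_six);
-- the grader kernel-checks Cfsg.Agent.S1058.result against that frozen type. Keep the theorem IN THIS FILE
-- (a `result` declared elsewhere and merely imported here is not credited); helpers may live anywhere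
-- under Cfsg/Agent/.
import Cfsg.Statements.S1058
import Cfsg.Agent.S1060
import Cfsg.Agent.Lib.Helper3.B2S6b
import Cfsg.Agent.Lib.Helper3.ChevRingEquiv

set_option autoImplicit false
open Cfsg
open Cfsg.Agent.Lib.Helper3

namespace Cfsg.Agent.S1058

/-- B₂(2) ≅ S₆. -/
theorem result {F : Type*} [Field F] [Fintype F] (hF : Fintype.card F = 2) :
    Nonempty (↥(Cfsg.Lie.chevB2.group F) ≃* Equiv.Perm (Fin 6)) := by
  have e1 : ↥(Cfsg.Lie.chevB2.group F) ≃* ↥(Cfsg.Lie.chevB2.group (ZMod 2)) :=
    ChevRE.groupRingEquiv Cfsg.Lie.chevB2 (ZMod.ringEquivOfPrime F Nat.prime_two hF).symm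
  have hcard : Nat.card ↥(Cfsg.Lie.chevB2.group (ZMod 2)) = 720 := by
    have h := Cfsg.Agent.S1060.result (F := ZMod 2) (q := 2) (ZMod.card 2)
    norm_num at h
    omega
  have hbij : Function.Bijective B2S6.psi := by
    haveI : Finite ↥(Cfsg.Lie.chevB2.group (ZMod 2)) := Nat.finite_of_card_ne_zero (by rw [hcard]; norm_num)
    rw [Nat.bijective_iff_surjective_and_card]
    refine ⟨B2S6.psi_surjective, ?_⟩
    rw [hcard, Nat.card_eq_fintype_card, Fintype.card_perm, Fintype.card_fin]
    rfl
  exact ⟨e1.trans (MulEquiv.ofBijective B2S6.psi hbij)⟩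

end Cfsg.Agent.S1058
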