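import Mathlib
-- Template for statement S1072 (row 1072; see /opt/grader/pristine/manifest.json for weights).
-- Copy to Cfsg/Agent/S1072.lean and replace the sorry. The statement below is byte-identical to the frozen
-- statement Cfsg.CfsgFrozen.S1072 (Cfsg/Statements/S1072.lean; the theorem Cfsg.twisted_f4_is_simple_group);
-- the grader kernel-checks Cfsg.Agent.S1072.result against that frozen type. Keep the theorem IN THIS FILE
-- (a `result` declared elsewhere and merely imported here is not credited); helpers may live anywhere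
-- under Cfsg/Agent/.
import Cfsg.Statements.S1072
import Cfsg.Agent.Lib.Helper3.F4T21

set_option autoImplicit false
open Cfsg
open Cfsg.Agent.Lib.Helper3.RF4 Cfsg.Agent.Lib.Helper3.ChevM

namespace Cfsg.Agent.S1072

/-- ²F₄(2^(2m+1)) is simple for `m ≥ 1`. -/
theorem result {K : Type*} [Field K] [Fintype K] {m : ℕ} (hm : 1 ≤ m) (hK : Fintype.card K = 2 ^ (2 * m + 1)) :
    IsSimpleGroup ↥(Cfsg.Lie.twistedF4 K (2 ^ m)) ∧ ¬ IsMulCommutative ↥(Cfsg.Lie.twistedF4 K (2 ^ m)) := by
  haveI : Fact (Nat.Prime 2) := ⟨by norm_num⟩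
  haveI : CharP K 2 := charP_of_card_eq_prime_pow hK
  exact f4_simple (K := K) m hm hK

end Cfsg.Agent.S1072
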