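import Mathlib
-- Template for statement S1075 (row 1075; see /opt/grader/pristine/manifest.json for weights).
-- Copy to Cfsg/Agent/S1075.lean and replace the sorry. The statement below is byte-identical to the frozen
-- statement Cfsg.CfsgFrozen.S1075 (Cfsg/Statements/S1075.lean; the theorem Cfsg.small_ree_three_derived);
-- the grader kernel-checks Cfsg.Agent.S1075.result against that frozen type. Keep the theorem IN THIS FILE
-- (a `result` declared elsewhere and merely imported here is not credited); helpers may live anywhere
-- under Cfsg/Agent/.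
import Cfsg.Statements.S1075
import Cfsg.Agent.Lib.Helper3.Ree103
import Cfsg.Agent.S1011

set_option autoImplicit false
open Cfsg
open Cfsg.Agent.Lib.Helper3.Ree

namespace Cfsg.Agent.S1075

/-- The derived subgroup of ²G₂(3) (θ = identity over the field with three elements) has order 504 = 1512/3 and is isomorphic to PSL₂ over the field with eight elements. -/
theorem result {L : Type*} [Field L] [Fintype L] (hL : Fintype.card L = 8) :
    Nat.card ↥(commutator ↥(Cfsg.Lie.twistedG2 (ZMod 3) 1)) = 504 ∧
      Nonempty (↥(commutator ↥(Cfsg.Lie.twistedG2 (ZMod 3) 1)) ≃* Matrix.ProjectiveSpecialLinearGroup (Fin 2) L) := by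
  have hK : Fintype.card (ZMod 3) = 3 ^ (2 * 0 + 1) := by
    rw [ZMod.card]; norm_num
  obtain ⟨h1, h2⟩ := ree3_derived (K := ZMod 3) hK
  have : IsSimpleGroup ↥(commutator ↥(tG2 (ZMod 3) (3 ^ 0))) := h2
  exact ⟨h1, Cfsg.Agent.S1011.result h1 hL⟩

end Cfsg.Agent.S1075
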