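import Mathlib
-- Template for statement S1076 (row 1076; see /opt/grader/pristine/manifest.json for weights).
-- Copy to Cfsg/Agent/S1076.lean and replace the sorry. The statement below is byte-identical to the frozen
-- statement Cfsg.CfsgFrozen.S1076 (Cfsg/Statements/S1076.lean; the theorem Cfsg.chevalley_h_mul);
-- the grader kernel-checks Cfsg.Agent.S1076.result against that frozen type. Keep the theorem IN THIS FILE
-- (a `result` declared elsewhere and merely imported here is not credited); helpers may live anywhere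
-- under Cfsg/Agent/.
import Cfsg.Statements.S1076
import Cfsg.Agent.Lib.Helper3.ChevData.G2Rel
import Cfsg.Agent.Lib.Helper3.ChevData.B2Rel
import Cfsg.Agent.Lib.Helper3.ChevData.D4Rel
import Cfsg.Agent.Lib.Helper3.ChevData.F4Rel
import Cfsg.Agent.Lib.Helper3.ChevData.E6Rel
import Cfsg.Agent.Lib.Helper3.ChevData.E7Rel
import Cfsg.Agent.Lib.Helper3.ChevData.E8Rel

set_option autoImplicit false
open Cfsg
open Cfsg.Agent.Lib.Helper3.ChevM

namespace Cfsg.Agent.S1076

/-- `h_r(t₁) h_r(t₂) = h_r(t₁ t₂)` for non-zero `t₁, t₂` (the third family of defining relations), as a matrix identity. -/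
theorem result {F : Type*} [Field F] (D : Cfsg.Lie.ChevalleyDatum) (hD : D ∈ [Cfsg.Lie.chevG2, Cfsg.Lie.chevB2, Cfsg.Lie.chevD4, Cfsg.Lie.chevF4, Cfsg.Lie.chevE6, Cfsg.Lie.chevE7, Cfsg.Lie.chevE8]) (r : ℕ) (hr : r < D.nroots) (t₁ t₂ : F) (h₁ : t₁ ≠ 0) (h₂ : t₂ ≠ 0) :
    D.hMat F r t₁ * D.hMat F r t₂ = D.hMat F r (t₁ * t₂) := by
  simp only [List.mem_cons, List.not_mem_nil, or_false] at hD
  rcases hD with rfl | rfl | rfl | rfl | rfl | rfl | rfl
  · exact relG2.hMat_mul r hr t₁ t₂ h₁ h₂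
  · exact relB2.hMat_mul r hr t₁ t₂ h₁ h₂
  · exact relD4.hMat_mul r hr t₁ t₂ h₁ h₂
  · exact relF4.hMat_mul r hr t₁ t₂ h₁ h₂
  · exact relE6.hMat_mul r hr t₁ t₂ h₁ h₂
  · exact relE7.hMat_mul r hr t₁ t₂ h₁ h₂
  · exact relE8.hMat_mul r hr t₁ t₂ h₁ h₂

end Cfsg.Agent.S1076
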