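import Mathlib
-- Template for statement S1078 (row 1078; see /opt/grader/pristine/manifest.json for weights).
-- Copy to Cfsg/Agent/S1078.lean and replace the sorry. The statement below is byte-identical to the frozen
-- statement Cfsg.CfsgFrozen.S1078 (Cfsg/Statements/S1078.lean; the theorem Cfsg.steinberg_center_trivial_of_types_g2_f4_e8);
-- the grader kernel-checks Cfsg.Agent.S1078.result against that frozen type. Keep the theorem IN THIS FILE
-- (a `result` declared elsewhere and merely imported here is not credited); helpers may live anywhere
-- under Cfsg/Agent/.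
import Cfsg.Statements.S1078
import Cfsg.Agent.Lib.Helper3.StB16

set_option autoImplicit false
open Cfsg
open Cfsg.Agent.Lib.Helper3.ChevM Cfsg.Agent.Lib.Helper3.StB

namespace Cfsg.Agent.S1078

/-- For G₂, F₄, E₈ the presented group has trivial centre (the universal and adjoint groups coincide). -/
theorem result {K : Type*} [Field K] (D : Cfsg.Lie.ChevalleyDatum) (hD : D ∈ [Cfsg.Lie.chevG2, Cfsg.Lie.chevF4, Cfsg.Lie.chevE8]) :
    Subgroup.center (D.SteinbergGroup K) = ⊥ := by
  exact steinberg_center_trivial D hD

end Cfsg.Agent.S1078
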