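import Mathlib
-- Template for statement S1079 (row 1079; see /opt/grader/pristine/manifest.json for weights).
-- Copy to Cfsg/Agent/S1079.lean and replace the sorry. The statement below is byte-identical to the frozen
-- statement Cfsg.CfsgFrozen.S1079 (Cfsg/Statements/S1079.lean; the theorem Cfsg.steinberg_card_center_e6_e7);
-- the grader kernel-checks Cfsg.Agent.S1079.result against that frozen type. Keep the theorem IN THIS FILE
-- (a `result` declared elsewhere and merely imported here is not credited); helpers may live anywhere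
-- under Cfsg/Agent/.
import Cfsg.Statements.S1079
import Cfsg.Agent.Lib.Helper3.StEmb2
import Cfsg.Agent.Lib.Helper3.StB16
import Cfsg.Agent.Lib.Helper3.ChevData.E6Vec
import Cfsg.Agent.Lib.Helper3.ChevData.E7Vec
import Cfsg.Agent.Lib.Helper3.ChevData.E6EmbOk
import Cfsg.Agent.Lib.Helper3.ChevData.E6EmbComm
import Cfsg.Agent.Lib.Helper3.ChevData.E7EmbOk
import Cfsg.Agent.Lib.Helper3.ChevData.E7EmbComm

set_option autoImplicit false
open Cfsg
open Cfsg.Agent.Lib.Helper3.ChevM Cfsg.Agent.Lib.Helper3.StB Cfsg.Agent.Lib.Helper3.StEmb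

namespace Cfsg.Agent.S1079

/-- `|Z(Ḡ)| = gcd(3, q-1)` for E₆ and `gcd(2, q-1)` for E₇ over a field with `q` elements (the centre is dual to the weight lattice modulo the root lattice). -/
theorem result {K : Type*} [Field K] [Fintype K] {q : ℕ} (hq : Fintype.card K = q)
    (p : Cfsg.Lie.ChevalleyDatum × ℕ) (hp : p ∈ [(Cfsg.Lie.chevE6, 3), (Cfsg.Lie.chevE7, 2)]) :
    Nat.card (Subgroup.center (p.1.SteinbergGroup K)) = Nat.gcd p.2 (q - 1) := by
  subst hq
  simp only [List.mem_cons, List.not_mem_nil, or_false] at hp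
  rcases hp with rfl | rfl
  · have key := card_center_of_emb (F := K) relE6 commE6 stHypE6
      (Cfsg.Agent.S1051.result Cfsg.Lie.chevE6 (by simp)) relE8 commE8 iotaE6E8 kappaE6E8 e6EmbOk
      (of_pairRange (m := 72) (n := 72) e6EmbComm) (by decide +kernel) (by decide) cinvE8 cinvE8_spec
      vecE6 (of_pairRange (m := 6) (n := 72) e6Vec) smPE6 smQE6 smPiE6 smQiE6 smDE6
      (by decide +kernel) (by decide +kernel) (by decide +kernel) (by decide +kernel)
    have e : (∏ k : Fin 6, Nat.gcd (Fintype.card K - 1) (smDE6 k)) = Nat.gcd 3 (Fintype.card K - 1) := by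
      simp [Fin.prod_univ_succ, smDE6, Nat.gcd_comm]
    exact key.trans e
  · have key := card_center_of_emb (F := K) relE7 commE7 stHypE7
      (Cfsg.Agent.S1051.result Cfsg.Lie.chevE7 (by simp)) relE8 commE8 iotaE7E8 kappaE7E8 e7EmbOk
      (of_pairRange (m := 126) (n := 126) e7EmbComm) (by decide +kernel) (by decide) cinvE8 cinvE8_spec
      vecE7 (of_pairRange (m := 7) (n := 126) e7Vec) smPE7 smQE7 smPiE7 smQiE7 smDE7
      (by decide +kernel) (by decide +kernel) (by decide +kernel) (by decide +kernel)
    have e : (∏ k : Fin 7, Nat.gcd (Fintype.card K - 1) (smDE7 k)) = Nat.gcd 2 (Fintype.card K - 1) := by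
      simp [Fin.prod_univ_succ, smDE7, Nat.gcd_comm]
    exact key.trans e

end Cfsg.Agent.S1079
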