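import Mathlib
-- Template for statement S1080 (row 1080; see /opt/grader/pristine/manifest.json for weights).
-- Copy to Cfsg/Agent/S1080.lean and replace the sorry. The statement below is byte-identical to the frozen
-- statement Cfsg.CfsgFrozen.S1080 (Cfsg/Statements/S1080.lean; the theorem Cfsg.chevalley_field_automorphism);
-- the grader kernel-checks Cfsg.Agent.S1080.result against that frozen type. Keep the theorem IN THIS FILE
-- (a `result` declared elsewhere and merely imported here is not credited); helpers may live anywhere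
-- under Cfsg/Agent/.
import Cfsg.Statements.S1080
import Cfsg.Agent.Lib.Helper3.Chev2

set_option autoImplicit false
open Cfsg
open Cfsg.Agent.Lib.Helper3

namespace Cfsg.Agent.S1080

/-- Field automorphisms: for every field automorphism `f` there is a group automorphism sending each `x_r(t)` to `x_r(f t)`. -/
theorem result {F : Type*} [Field F] (D : Cfsg.Lie.ChevalleyDatum) (hD : D ∈ [Cfsg.Lie.chevG2, Cfsg.Lie.chevB2, Cfsg.Lie.chevD4, Cfsg.Lie.chevF4, Cfsg.Lie.chevE6, Cfsg.Lie.chevE7, Cfsg.Lie.chevE8]) (f : F ≃+* F) :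
    ∃ α : ↥(D.group F) ≃* ↥(D.group F), ∀ (g : ↥(D.group F)) (r : ℕ) (t : F), r < D.nroots →
      ((g : GL D.Idx F) : Matrix D.Idx D.Idx F) = D.x F r t → ((α g : GL D.Idx F) : Matrix D.Idx D.Idx F) = D.x F r (f t) := by
  let e1 : ↥(D.group F) ≃* ↥((D.group F).map (glMapEquiv (n := D.Idx) f).toMonoidHom) :=
    (glMapEquiv (n := D.Idx) f).subgroupMap (D.group F)
  let e2 : ↥((D.group F).map (glMapEquiv (n := D.Idx) f).toMonoidHom) ≃* ↥(D.group F) :=
    MulEquiv.subgroupCongr (group_map_eq D f)
  refine ⟨e1.trans e2, ?_⟩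
  intro g r t _ hg
  show ((glMapEquiv f (g : GL D.Idx F) : GL D.Idx F) : Matrix D.Idx D.Idx F) = _
  rw [glMapEquiv_coe, hg, x_map]

end Cfsg.Agent.S1080
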