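import Mathlib
-- Template for statement S1083 (row 1083; see /opt/grader/pristine/manifest.json for weights).
-- Copy to Cfsg/Agent/S1083.lean and replace the sorry. The statement below is byte-identical to the frozen
-- statement Cfsg.CfsgFrozen.S1083 (Cfsg/Statements/S1083.lean; the theorem Cfsg.chevalley_b2_equiv_pomega_five);
-- the grader kernel-checks Cfsg.Agent.S1083.result against that frozen type. Keep the theorem IN THIS FILE
-- (a `result` declared elsewhere and merely imported here is not credited); helpers may live anywhere
-- under Cfsg/Agent/.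
import Cfsg.Statements.S1083
import Cfsg.Agent.Lib.Helper3.PB7

set_option autoImplicit false
open Cfsg
open Cfsg.Agent.Lib.Helper3.PB

namespace Cfsg.Agent.S1083

/-- B₂(F) ≅ PΩ₅(F) for the form `x₀² + x₁y₁ + x₂y₂`, over every field with more than two elements. -/
theorem result {F : Type*} [Field F] (hF : ∃ a : F, a ≠ 0 ∧ a ≠ 1) :
    Nonempty (↥(Cfsg.Lie.chevB2.group F) ≃* Cfsg.POmega F (Cfsg.quadFormOdd 2 F)) := by
  exact b2_iso hF

end Cfsg.Agent.S1083
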