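import Mathlib
-- Template for statement S1085 (row 1085; see /opt/grader/pristine/manifest.json for weights).
-- Copy to Cfsg/Agent/S1085.lean and replace the sorry. The statement below is byte-identical to the frozen
-- statement Cfsg.CfsgFrozen.S1085 (Cfsg/Statements/S1085.lean; the theorem Cfsg.twisted_e6_has_bn_pair);
-- the grader kernel-checks Cfsg.Agent.S1085.result against that frozen type. Keep the theorem IN THIS FILE
-- (a `result` declared elsewhere and merely imported here is not credited); helpers may live anywhere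
-- under Cfsg/Agent/.
import Cfsg.Statements.S1085
import Cfsg.Agent.Lib.Helper3.ChevData.E6TwB

set_option autoImplicit false
open Cfsg
open Cfsg.Agent.Lib.Helper3.ChevM

namespace Cfsg.Agent.S1085

/-- ²E₆(q) has a (B,N)-pair: B¹ = G¹ ∩ B and N¹ = G¹ ∩ N, intersections with the ambient Chevalley group's B = UH and N. -/
theorem result {K : Type*} [Field K] [Fintype K] {q : ℕ} (hq : IsPrimePow q) (hK : Fintype.card K = q ^ 2) :
    ∃ P : Cfsg.BNPair ↥(Cfsg.Lie.twistedE6 K q),
      P.B = (Cfsg.Lie.chevE6.borelSubgroup K ⊓ Cfsg.Lie.twistedE6 K q).subgroupOf (Cfsg.Lie.twistedE6 K q) ∧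
      P.N = (Cfsg.Lie.chevE6.monomialSubgroup K ⊓ Cfsg.Lie.twistedE6 K q).subgroupOf (Cfsg.Lie.twistedE6 K q) := by
  obtain ⟨φ, hφ, hφd, hφ1⟩ := exists_frob K q 2 hq (by norm_num) hK
  rw [twistedE6_eq' K q φ hφ (fun t => hφd t)]
  exact ⟨twE6B.bnPair φ, rfl, rfl⟩

end Cfsg.Agent.S1085
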