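import Mathlib
-- Template for statement S1087 (row 1087; see /opt/grader/pristine/manifest.json for weights).
-- Copy to Cfsg/Agent/S1087.lean and replace the sorry. The statement below is byte-identical to the frozen
-- statement Cfsg.CfsgFrozen.S1087 (Cfsg/Statements/S1087.lean; the theorem Cfsg.twisted_d4_has_bn_pair);
-- the grader kernel-checks Cfsg.Agent.S1087.result against that frozen type. Keep the theorem IN THIS FILE
-- (a `result` declared elsewhere and merely imported here is not credited); helpers may live anywhere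
-- under Cfsg/Agent/.
import Cfsg.Statements.S1087
import Cfsg.Agent.Lib.Helper3.ChevData.D4TwB

set_option autoImplicit false
open Cfsg
open Cfsg.Agent.Lib.Helper3.ChevM

namespace Cfsg.Agent.S1087

/-- ³D₄(q) has a (B,N)-pair: B¹ = G¹ ∩ B and N¹ = G¹ ∩ N, intersections with the ambient Chevalley group's B = UH and N. -/
theorem result {K : Type*} [Field K] [Fintype K] {q : ℕ} (hq : IsPrimePow q) (hK : Fintype.card K = q ^ 3) :
    ∃ P : Cfsg.BNPair ↥(Cfsg.Lie.twistedD4 K q),
      P.B = (Cfsg.Lie.chevD4.borelSubgroup K ⊓ Cfsg.Lie.twistedD4 K q).subgroupOf (Cfsg.Lie.twistedD4 K q) ∧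
      P.N = (Cfsg.Lie.chevD4.monomialSubgroup K ⊓ Cfsg.Lie.twistedD4 K q).subgroupOf (Cfsg.Lie.twistedD4 K q) := by
  obtain ⟨φ, hφ, hφd, hφ1⟩ := exists_frob K q 3 hq (by norm_num) hK
  rw [twistedD4_eq' K q φ hφ (fun t => hφd t)]
  exact ⟨twD4B.bnPair φ, rfl, rfl⟩

end Cfsg.Agent.S1087
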