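import Mathlib
-- Template for statement S1091 (row 1091; see /opt/grader/pristine/manifest.json for weights).
-- Copy to Cfsg/Agent/S1091.lean and replace the sorry. The statement below is byte-identical to the frozen
-- statement Cfsg.CfsgFrozen.S1091 (Cfsg/Statements/S1091.lean; the theorem Cfsg.twisted_g2_has_bn_pair);
-- the grader kernel-checks Cfsg.Agent.S1091.result against that frozen type. Keep the theorem IN THIS FILE
-- (a `result` declared elsewhere and merely imported here is not credited); helpers may live anywhere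
-- under Cfsg/Agent/.
import Cfsg.Statements.S1091
import Cfsg.Agent.Lib.Helper3.Ree15

set_option autoImplicit false
open Cfsg
open Cfsg.Agent.Lib.Helper3.Ree Cfsg.Agent.Lib.Helper3.ChevM

namespace Cfsg.Agent.S1091

/-- ²G₂(3^(2m+1)) has a (B,N)-pair: B¹ = G¹ ∩ B and N¹ = G¹ ∩ N, intersections with the ambient Chevalley group's B = UH and N. -/
theorem result {K : Type*} [Field K] [Fintype K] {m : ℕ} (hK : Fintype.card K = 3 ^ (2 * m + 1)) :
    ∃ P : Cfsg.BNPair ↥(Cfsg.Lie.twistedG2 K (3 ^ m)),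
      P.B = (Cfsg.Lie.chevG2.borelSubgroup K ⊓ Cfsg.Lie.twistedG2 K (3 ^ m)).subgroupOf (Cfsg.Lie.twistedG2 K (3 ^ m)) ∧
      P.N = (Cfsg.Lie.chevG2.monomialSubgroup K ⊓ Cfsg.Lie.twistedG2 K (3 ^ m)).subgroupOf (Cfsg.Lie.twistedG2 K (3 ^ m)) := by
  haveI : Fact (Nat.Prime 3) := ⟨by norm_num⟩
  haveI : CharP K 3 := charP_of_card_eq_prime_pow hK
  exact ⟨reeBN (K := K) m hK, reeBN_B m hK, reeBN_N m hK⟩

end Cfsg.Agent.S1091
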