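import Mathlib
-- Template for statement S1093 (row 1093; see /opt/grader/pristine/manifest.json for weights).
-- Copy to Cfsg/Agent/S1093.lean and replace the sorry. The statement below is byte-identical to the frozen
-- statement Cfsg.CfsgFrozen.S1093 (Cfsg/Statements/S1093.lean; the theorem Cfsg.weyl_group_card_e);
-- the grader kernel-checks Cfsg.Agent.S1093.result against that frozen type. Keep the theorem IN THIS FILE
-- (a `result` declared elsewhere and merely imported here is not credited); helpers may live anywhere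
-- under Cfsg/Agent/.
import Cfsg.Statements.S1093
import Cfsg.Agent.Lib.Helper3.ChevData.E6Cox
import Cfsg.Agent.Lib.Helper3.ChevData.E7Cox
import Cfsg.Agent.Lib.Helper3.ChevData.E8Cox

set_option autoImplicit false
open Cfsg
open Cfsg.Agent.Lib.Helper3.ChevM

namespace Cfsg.Agent.S1093

/-- `|W(E₆)| = 51840`, `|W(E₇)| = 2903040`, `|W(E₈)| = 696729600` for Mathlib's presented Coxeter groups. -/
theorem result (p : (Σ n : ℕ, CoxeterMatrix (Fin n)) × ℕ)
    (hp : p ∈ [(⟨6, CoxeterMatrix.E₆⟩, 51840), (⟨7, CoxeterMatrix.E₇⟩, 2903040), (⟨8, CoxeterMatrix.E₈⟩, 696729600)]) :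
    Nat.card p.1.2.Group = p.2 := by
  simp only [List.mem_cons, List.not_mem_nil, or_false] at hp
  rcases hp with rfl | rfl | rfl
  · exact e6CoxCard
  · exact e7CoxCard
  · exact e8CoxCard

end Cfsg.Agent.S1093
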