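import Mathlib
-- Template for statement S1094 (row 1094; see /opt/grader/pristine/manifest.json for weights).
-- Copy to Cfsg/Agent/S1094.lean and replace the sorry. The statement below is byte-identical to the frozen
-- statement Cfsg.CfsgFrozen.S1094 (Cfsg/Statements/S1094.lean; the theorem Cfsg.weyl_group_coxeter_element_order);
-- the grader kernel-checks Cfsg.Agent.S1094.result against that frozen type. Keep the theorem IN THIS FILE
-- (a `result` declared elsewhere and merely imported here is not credited); helpers may live anywhere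
-- under Cfsg/Agent/.
import Cfsg.Statements.S1094
import Cfsg.Agent.Lib.Helper3.ChevData.B2Cox
import Cfsg.Agent.Lib.Helper3.ChevData.G2Cox
import Cfsg.Agent.Lib.Helper3.ChevData.D4Cox
import Cfsg.Agent.Lib.Helper3.ChevData.F4Cox
import Cfsg.Agent.Lib.Helper3.ChevData.E6Cox
import Cfsg.Agent.Lib.Helper3.ChevData.E7Cox
import Cfsg.Agent.Lib.Helper3.ChevData.E8Cox

set_option autoImplicit false
open Cfsg
open Cfsg.Agent.Lib.Helper3.ChevM

namespace Cfsg.Agent.S1094

/-- The Coxeter element `s₁ s₂ ⋯ s_l` of the Coxeter group of type B₂, G₂, D₄, F₄, E₆, E₇, E₈ has order `h = 2N/l` = 4, 6, 6, 12, 12, 18, 30. -/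
theorem result (p : (Σ n : ℕ, CoxeterMatrix (Fin n)) × ℕ)
    (hp : p ∈ [(⟨2, CoxeterMatrix.B 2⟩, 4), (⟨2, CoxeterMatrix.G₂⟩, 6), (⟨4, Cfsg.Lie.coxeterD4⟩, 6), (⟨4, CoxeterMatrix.F₄⟩, 12),
      (⟨6, CoxeterMatrix.E₆⟩, 12), (⟨7, CoxeterMatrix.E₇⟩, 18), (⟨8, CoxeterMatrix.E₈⟩, 30)]) :
    orderOf ((List.finRange p.1.1).map p.1.2.simple).prod = p.2 := by
  simp only [List.mem_cons, List.not_mem_nil, or_false] at hp
  rcases hp with rfl | rfl | rfl | rfl | rfl | rfl | rfl
  · exact b2CoxEl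
  · exact g2CoxEl
  · exact d4CoxEl
  · exact f4CoxEl
  · exact e6CoxEl
  · exact e7CoxEl
  · exact e8CoxEl

end Cfsg.Agent.S1094
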