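import Mathlib
-- Template for statement S1097 (row 1097; see /opt/grader/pristine/manifest.json for weights).
-- Copy to Cfsg/Agent/S1097.lean and replace the sorry. The statement below is byte-identical to the frozen
-- statement Cfsg.CfsgFrozen.S1097 (Cfsg/Statements/S1097.lean; the theorem Cfsg.steinberg_ker_le_diagonal);
-- the grader kernel-checks Cfsg.Agent.S1097.result against that frozen type. Keep the theorem IN THIS FILE
-- (a `result` declared elsewhere and merely imported here is not credited); helpers may live anywhere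
-- under Cfsg/Agent/.
import Cfsg.Statements.S1097
import Cfsg.Agent.Lib.Helper3.StB16

set_option autoImplicit false
open Cfsg
open Cfsg.Agent.Lib.Helper3.ChevM Cfsg.Agent.Lib.Helper3.StB

namespace Cfsg.Agent.S1097

/-- Any homomorphism from the presented group to the Chevalley group with `x̄_r(t) ↦ x_r(t)` has kernel contained in `H̄ = ⟨h̄_p(t) : p fundamental, t ≠ 0⟩`. -/
theorem result {K : Type*} [Field K] (D : Cfsg.Lie.ChevalleyDatum) (hD : D ∈ [Cfsg.Lie.chevG2, Cfsg.Lie.chevB2, Cfsg.Lie.chevD4, Cfsg.Lie.chevF4, Cfsg.Lie.chevE6, Cfsg.Lie.chevE7, Cfsg.Lie.chevE8]) (θ : D.SteinbergGroup K →* ↥(D.group K))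
    (hθ : ∀ (r : ℕ) (t : K), r < D.nroots → ((θ (D.stGen K r t) : GL D.Idx K) : Matrix D.Idx D.Idx K) = D.x K r t) :
    θ.ker ≤ Subgroup.closure {h | ∃ (i : ℕ) (t : K), i < D.rank ∧ t ≠ 0 ∧ h = PresentedGroup.mk (D.steinbergRels K) (D.stH (D.simple i) t)} := by
  revert θ
  refine st_dispatch (F := K) (P := fun D => ∀ (θ : D.SteinbergGroup K →* ↥(D.group K)),
    (∀ (r : ℕ) (t : K), r < D.nroots →
      ((θ (D.stGen K r t) : GL D.Idx K) : Matrix D.Idx D.Idx K) = D.x K r t) →
    θ.ker ≤ Subgroup.closure {h | ∃ (i : ℕ) (t : K), i < D.rank ∧ t ≠ 0 ∧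
      h = PresentedGroup.mk (D.steinbergRels K) (D.stH (D.simple i) t)}) D hD ?_
  intro C R _ Y _ θ hθ
  exact pres_ker_le' R Y _ (fun g hg => Or.inl hg) θ (fun r hr t => hθ r t hr)

end Cfsg.Agent.S1097
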