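import Mathlib
-- Template for statement S1098 (row 1098; see /opt/grader/pristine/manifest.json for weights).
-- Copy to Cfsg/Agent/S1098.lean and replace the sorry. The statement below is byte-identical to the frozen
-- statement Cfsg.CfsgFrozen.S1098 (Cfsg/Statements/S1098.lean; the theorem Cfsg.chevalley_graph_automorphism_char_two);
-- the grader kernel-checks Cfsg.Agent.S1098.result against that frozen type. Keep the theorem IN THIS FILE
-- (a `result` declared elsewhere and merely imported here is not credited); helpers may live anywhere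
-- under Cfsg/Agent/.
import Cfsg.Statements.S1098
import Cfsg.Agent.Lib.Helper3.ChevSpB2
import Cfsg.Agent.Lib.Helper3.ChevSpF4

set_option autoImplicit false
open Cfsg
open Cfsg.Agent.Lib.Helper3.ChevSp Cfsg.Agent.Lib.Helper3.ChevM

namespace Cfsg.Agent.S1098

/-- Graph automorphisms in characteristic 2 (K perfect): for B₂ (a short, b long) `x_a(t) ↦ x_b(t²)`, `x_b(t) ↦ x_a(t)`, and for F₄ (p₁, p₂ short, p₃, p₄ long) `x_{p₁}(t) ↦ x_{p₄}(t²)`, `x_{p₂}(t) ↦ x_{p₃}(t²)`, `x_{p₃}(t) ↦ x_{p₂}(t)`, `x_{p₄}(t) ↦ x_{p₁}(t)`, likewise on the negatives, extend to an automorphism of the group. -/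
theorem result {K : Type*} [Field K] [CharP K 2] (hperf : ∀ x : K, ∃ y : K, y ^ 2 = x)
    (p : Cfsg.Lie.ChevalleyDatum × List (ℕ × ℕ))
    (hp : p ∈ [(Cfsg.Lie.chevB2, [(1, 2), (0, 1)]), (Cfsg.Lie.chevF4, [(3, 2), (2, 2), (1, 1), (0, 1)])]) :
    ∃ α : ↥(p.1.group K) ≃* ↥(p.1.group K), ∀ (g : ↥(p.1.group K)) (i : ℕ) (t : K), i < p.1.rank →
      (((g : GL p.1.Idx K) : Matrix p.1.Idx p.1.Idx K) = p.1.x K (p.1.simple i) t →
        ((α g : GL p.1.Idx K) : Matrix p.1.Idx p.1.Idx K) = p.1.x K (p.1.simple (p.2.getD i (0, 1)).1) (t ^ (p.2.getD i (0, 1)).2)) ∧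
      (((g : GL p.1.Idx K) : Matrix p.1.Idx p.1.Idx K) = p.1.x K (p.1.neg (p.1.simple i)) t →
        ((α g : GL p.1.Idx K) : Matrix p.1.Idx p.1.Idx K) = p.1.x K (p.1.neg (p.1.simple (p.2.getD i (0, 1)).1)) (t ^ (p.2.getD i (0, 1)).2)) := by
  simp only [List.mem_cons, List.not_mem_nil, or_false] at hp
  rcases hp with rfl | rfl
  · show ∃ α : ↥(Cfsg.Lie.chevB2.group K) ≃* ↥(Cfsg.Lie.chevB2.group K), _
    have h0 : ∃ σ : ↥(Cfsg.Lie.chevB2.group K) ≃* ↥(Cfsg.Lie.chevB2.group K),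
        ∀ (r : ℕ) (hr : r < 8) (g : ↥(Cfsg.Lie.chevB2.group K)) (t : K),
        ((g : GL Cfsg.Lie.chevB2.Idx K) : Matrix Cfsg.Lie.chevB2.Idx Cfsg.Lie.chevB2.Idx K) = Cfsg.Lie.chevB2.x K r t →
        ((σ g : GL Cfsg.Lie.chevB2.Idx K) : Matrix Cfsg.Lie.chevB2.Idx Cfsg.Lie.chevB2.Idx K) =
          Cfsg.Lie.chevB2.x K (b2rho r) (t ^ b2lam r) := by
      obtain ⟨σ, hσ⟩ := b2_exists_graph_aut (K := K) hperf
      refine ⟨σ, ?_⟩
      intro r hr g t hg
      have e : g = xG relB2 r hr t := by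
        apply Subtype.ext
        apply Units.ext
        exact hg
      rw [e]
      exact congrArg (fun x : ↥(cdB2.D.group K) => ((x : GL cdB2.D.Idx K) : Matrix cdB2.D.Idx cdB2.D.Idx K)) (hσ r hr t)
    obtain ⟨σ, hσ⟩ := h0
    refine ⟨σ, ?_⟩
    intro g i t hi
    have hi' : i < 2 := hi
    interval_cases i
    · refine ⟨fun hg => ?_, fun hg => ?_⟩
      · exact hσ _ (by decide) g t hg
      · exact hσ _ (by decide) g t hg
    · refine ⟨fun hg => ?_, fun hg => ?_⟩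
      · exact hσ _ (by decide) g t hg
      · exact hσ _ (by decide) g t hg
  · show ∃ α : ↥(Cfsg.Lie.chevF4.group K) ≃* ↥(Cfsg.Lie.chevF4.group K), _
    have h0 : ∃ σ : ↥(Cfsg.Lie.chevF4.group K) ≃* ↥(Cfsg.Lie.chevF4.group K),
        ∀ (r : ℕ) (hr : r < 48) (g : ↥(Cfsg.Lie.chevF4.group K)) (t : K),
        ((g : GL Cfsg.Lie.chevF4.Idx K) : Matrix Cfsg.Lie.chevF4.Idx Cfsg.Lie.chevF4.Idx K) = Cfsg.Lie.chevF4.x K r t →
        ((σ g : GL Cfsg.Lie.chevF4.Idx K) : Matrix Cfsg.Lie.chevF4.Idx Cfsg.Lie.chevF4.Idx K) =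
          Cfsg.Lie.chevF4.x K (f4rho r) (t ^ f4lam r) := by
      obtain ⟨σ, hσ⟩ := f4_exists_graph_aut (K := K) hperf
      refine ⟨σ, ?_⟩
      intro r hr g t hg
      have e : g = xG relF4 r hr t := by
        apply Subtype.ext
        apply Units.ext
        exact hg
      rw [e]
      exact congrArg (fun x : ↥(cdF4.D.group K) => ((x : GL cdF4.D.Idx K) : Matrix cdF4.D.Idx cdF4.D.Idx K)) (hσ r hr t)
    obtain ⟨σ, hσ⟩ := h0
    refine ⟨σ, ?_⟩
    intro g i t hi
    have hi' : i < 4 := hi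
    interval_cases i
    · refine ⟨fun hg => ?_, fun hg => ?_⟩
      · exact hσ _ (by decide) g t hg
      · exact hσ _ (by decide) g t hg
    · refine ⟨fun hg => ?_, fun hg => ?_⟩
      · exact hσ _ (by decide) g t hg
      · exact hσ _ (by decide) g t hg
    · refine ⟨fun hg => ?_, fun hg => ?_⟩
      · exact hσ _ (by decide) g t hg
      · exact hσ _ (by decide) g t hg
    · refine ⟨fun hg => ?_, fun hg => ?_⟩
      · exact hσ _ (by decide) g t hg
      · exact hσ _ (by decide) g t hg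

end Cfsg.Agent.S1098
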