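import Mathlib
-- Template for statement S1099 (row 1099; see /opt/grader/pristine/manifest.json for weights).
-- Copy to Cfsg/Agent/S1099.lean and replace the sorry. The statement below is byte-identical to the frozen
-- statement Cfsg.CfsgFrozen.S1099 (Cfsg/Statements/S1099.lean; the theorem Cfsg.chevalley_graph_automorphism_g2_char_three);
-- the grader kernel-checks Cfsg.Agent.S1099.result against that frozen type. Keep the theorem IN THIS FILE
-- (a `result` declared elsewhere and merely imported here is not credited); helpers may live anywhere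
-- under Cfsg/Agent/.
import Cfsg.Statements.S1099
import Cfsg.Agent.Lib.Helper3.ChevSpG2

set_option autoImplicit false
open Cfsg
open Cfsg.Agent.Lib.Helper3.ChevSp Cfsg.Agent.Lib.Helper3.ChevM

namespace Cfsg.Agent.S1099

/-- Graph automorphism of G₂ in characteristic 3 (K perfect): `x_a(t) ↦ x_b(t³)`, `x_b(t) ↦ x_a(t)`, `x_{-a}(t) ↦ x_{-b}(t³)`, `x_{-b}(t) ↦ x_{-a}(t)` extend to an automorphism of the group. -/
theorem result {K : Type*} [Field K] [CharP K 3] (hperf : ∀ x : K, ∃ y : K, y ^ 3 = x) :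
    ∃ α : ↥(Cfsg.Lie.chevG2.group K) ≃* ↥(Cfsg.Lie.chevG2.group K), ∀ (g : ↥(Cfsg.Lie.chevG2.group K)) (t : K),
      (((g : GL Cfsg.Lie.chevG2.Idx K) : Matrix _ _ K) = Cfsg.Lie.chevG2.x K Cfsg.Lie.g2a t →
        ((α g : GL Cfsg.Lie.chevG2.Idx K) : Matrix _ _ K) = Cfsg.Lie.chevG2.x K Cfsg.Lie.g2b (t ^ 3)) ∧
      (((g : GL Cfsg.Lie.chevG2.Idx K) : Matrix _ _ K) = Cfsg.Lie.chevG2.x K Cfsg.Lie.g2b t →
        ((α g : GL Cfsg.Lie.chevG2.Idx K) : Matrix _ _ K) = Cfsg.Lie.chevG2.x K Cfsg.Lie.g2a t) ∧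
      (((g : GL Cfsg.Lie.chevG2.Idx K) : Matrix _ _ K) = Cfsg.Lie.chevG2.x K Cfsg.Lie.g2ma t →
        ((α g : GL Cfsg.Lie.chevG2.Idx K) : Matrix _ _ K) = Cfsg.Lie.chevG2.x K Cfsg.Lie.g2mb (t ^ 3)) ∧
      (((g : GL Cfsg.Lie.chevG2.Idx K) : Matrix _ _ K) = Cfsg.Lie.chevG2.x K Cfsg.Lie.g2mb t →
        ((α g : GL Cfsg.Lie.chevG2.Idx K) : Matrix _ _ K) = Cfsg.Lie.chevG2.x K Cfsg.Lie.g2ma t) := by
  have h0 : ∃ σ : ↥(Cfsg.Lie.chevG2.group K) ≃* ↥(Cfsg.Lie.chevG2.group K),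
      ∀ (r : ℕ) (hr : r < 12) (g : ↥(Cfsg.Lie.chevG2.group K)) (t : K),
      ((g : GL Cfsg.Lie.chevG2.Idx K) : Matrix _ _ K) = Cfsg.Lie.chevG2.x K r t →
      ((σ g : GL Cfsg.Lie.chevG2.Idx K) : Matrix _ _ K) =
        Cfsg.Lie.chevG2.x K (g2rho r) (t ^ g2lam r) := by
    obtain ⟨σ, hσ⟩ := g2_exists_graph_aut (K := K) hperf
    refine ⟨σ, ?_⟩
    intro r hr g t hg
    have e : g = xG relG2 r hr t := by
      apply Subtype.ext
      apply Units.ext
      exact hg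
    rw [e]
    exact congrArg (fun x : ↥(cdG2.D.group K) => ((x : GL cdG2.D.Idx K) : Matrix cdG2.D.Idx cdG2.D.Idx K)) (hσ r hr t)
  obtain ⟨σ, hσ⟩ := h0
  refine ⟨σ, ?_⟩
  intro g t
  refine ⟨?_, ?_, ?_, ?_⟩
  · intro hg
    exact hσ 7 (by decide) g t hg
  · intro hg
    have := hσ 6 (by decide) g t hg
    rw [this]
    show Cfsg.Lie.chevG2.x K 7 (t ^ 1) = _
    rw [pow_one]
    rfl
  · intro hg
    exact hσ 4 (by decide) g t hg
  · intro hg
    have := hσ 5 (by decide) g t hg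
    rw [this]
    show Cfsg.Lie.chevG2.x K 4 (t ^ 1) = _
    rw [pow_one]
    rfl

end Cfsg.Agent.S1099
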