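import Mathlib
-- Template for statement S1102 (row 1102; see /opt/grader/pristine/manifest.json for weights).
-- Copy to Cfsg/Agent/S1102.lean and replace the sorry. The statement below is byte-identical to the frozen
-- statement Cfsg.CfsgFrozen.S1102 (Cfsg/Statements/S1102.lean; the theorem Cfsg.twisted_e6_card_diagonal);
-- the grader kernel-checks Cfsg.Agent.S1102.result against that frozen type. Keep the theorem IN THIS FILE
-- (a `result` declared elsewhere and merely imported here is not credited); helpers may live anywhere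
-- under Cfsg/Agent/.
import Cfsg.Statements.S1102
import Cfsg.Agent.Lib.Helper3.ChevData.E6TwF

set_option autoImplicit false
open Cfsg
open Cfsg.Agent.Lib.Helper3.ChevM

namespace Cfsg.Agent.S1102

/-- `|H¹| = |G¹ ∩ H|`: `Nat.gcd 3 (q + 1) * |H¹| = (q - 1) ^ 4 * (q + 1) ^ 2` for ²E₆(q). -/
theorem result {K : Type*} [Field K] [Fintype K] {q : ℕ} (hq : IsPrimePow q) (hK : Fintype.card K = q ^ 2) :
    Nat.gcd 3 (q + 1) * Nat.card ↥(Cfsg.Lie.chevE6.diagonalSubgroup K ⊓ Cfsg.Lie.twistedE6 K q) = (q - 1) ^ 4 * (q + 1) ^ 2 := by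
  obtain ⟨φ, hφ, hφd, hφ1⟩ := exists_frob K q 2 hq (by norm_num) hK
  rw [twistedE6_eq'' K q φ hφ (fun t => hφd t)]
  have key := twE6G.card_diagonal_inf' φ q hφ1 hφd (by rw [Nat.card_eq_fintype_card, hK]; rfl)
  rw [e6_card_kerFix φ q hφ hK] at key
  have hq1 : 1 ≤ q := hq.one_lt.le
  have h2 : q ^ 2 - 1 = (q - 1) * (q + 1) := by
    rw [mul_comm, ← Nat.sq_sub_sq]
  have e : (twE6G.cls.map fun J => q ^ J.length - 1).prod = (q - 1) ^ 4 * (q + 1) ^ 2 := by
    show (q ^ 1 - 1) * ((q ^ 1 - 1) * ((q ^ 2 - 1) * ((q ^ 2 - 1) * 1))) = _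
    rw [h2, pow_one]
    ring
  rw [e] at key
  exact key

end Cfsg.Agent.S1102
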