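import Mathlib
-- Template for statement S1105 (row 1105; see /opt/grader/pristine/manifest.json for weights).
-- Copy to Cfsg/Agent/S1105.lean and replace the sorry. The statement below is byte-identical to the frozen
-- statement Cfsg.CfsgFrozen.S1105 (Cfsg/Statements/S1105.lean; the theorem Cfsg.twisted_e6_borel_core_trivial);
-- the grader kernel-checks Cfsg.Agent.S1105.result against that frozen type. Keep the theorem IN THIS FILE
-- (a `result` declared elsewhere and merely imported here is not credited); helpers may live anywhere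
-- under Cfsg/Agent/.
import Cfsg.Statements.S1105
import Cfsg.Agent.Lib.Helper3.ChevData.E6TwC

set_option autoImplicit false
open Cfsg
open Cfsg.Agent.Lib.Helper3.ChevM

namespace Cfsg.Agent.S1105

/-- The normal core of `B¹ = G¹ ∩ B` in ²E₆(q) is trivial. -/
theorem result {K : Type*} [Field K] [Fintype K] {q : ℕ} (hq : IsPrimePow q) (hK : Fintype.card K = q ^ 2) :
    ((Cfsg.Lie.chevE6.borelSubgroup K ⊓ Cfsg.Lie.twistedE6 K q).subgroupOf (Cfsg.Lie.twistedE6 K q)).normalCore = ⊥ := by
  obtain ⟨φ, hφ, hφd, hφ1⟩ := exists_frob K q 2 hq (by norm_num) hK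
  rw [twistedE6_eq'' K q φ hφ (fun t => hφd t)]
  exact twE6C.core_trivial φ

end Cfsg.Agent.S1105
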