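import Mathlib
-- Template for statement S1106 (row 1106; see /opt/grader/pristine/manifest.json for weights).
-- Copy to Cfsg/Agent/S1106.lean and replace the sorry. The statement below is byte-identical to the frozen
-- statement Cfsg.CfsgFrozen.S1106 (Cfsg/Statements/S1106.lean; the theorem Cfsg.twisted_d4_card_diagonal);
-- the grader kernel-checks Cfsg.Agent.S1106.result against that frozen type. Keep the theorem IN THIS FILE
-- (a `result` declared elsewhere and merely imported here is not credited); helpers may live anywhere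
-- under Cfsg/Agent/.
import Cfsg.Statements.S1106
import Cfsg.Agent.Lib.Helper3.ChevData.D4TwF

set_option autoImplicit false
open Cfsg
open Cfsg.Agent.Lib.Helper3.ChevM

namespace Cfsg.Agent.S1106

/-- `|H¹| = |G¹ ∩ H|`: `|H¹| = (q - 1) ^ 2 * (q ^ 2 + q + 1)` for ³D₄(q). -/
theorem result {K : Type*} [Field K] [Fintype K] {q : ℕ} (hq : IsPrimePow q) (hK : Fintype.card K = q ^ 3) :
    Nat.card ↥(Cfsg.Lie.chevD4.diagonalSubgroup K ⊓ Cfsg.Lie.twistedD4 K q) = (q - 1) ^ 2 * (q ^ 2 + q + 1) := by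
  obtain ⟨φ, hφ, hφd, hφ1⟩ := exists_frob K q 3 hq (by norm_num) hK
  rw [twistedD4_eq'' K q φ hφ (fun t => hφd t)]
  have key := twD4G.card_diagonal_inf' φ q hφ1 hφd (by rw [Nat.card_eq_fintype_card, hK]; rfl)
  rw [d4_kerFix_eq_bot φ, Subgroup.card_bot, one_mul] at key
  have hq1 : 1 ≤ q := hq.one_lt.le
  have h3 : q ^ 3 - 1 = (q - 1) * (q ^ 2 + q + 1) := by
    obtain ⟨m, rfl⟩ : ∃ m, q = m + 1 := ⟨q - 1, by omega⟩
    rw [Nat.add_sub_cancel]
    have : (m + 1) ^ 3 = m * ((m + 1) ^ 2 + (m + 1) + 1) + 1 := by ring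
    rw [this, Nat.add_sub_cancel]
  have e : (twD4G.cls.map fun J => q ^ J.length - 1).prod = (q - 1) ^ 2 * (q ^ 2 + q + 1) := by
    show (q ^ 1 - 1) * ((q ^ 3 - 1) * 1) = _
    rw [h3, pow_one]
    ring
  rw [e] at key
  exact key

end Cfsg.Agent.S1106
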