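import Mathlib
-- Template for statement S1113 (row 1113; see /opt/grader/pristine/manifest.json for weights).
-- Copy to Cfsg/Agent/S1113.lean and replace the sorry. The statement below is byte-identical to the frozen
-- statement Cfsg.CfsgFrozen.S1113 (Cfsg/Statements/S1113.lean; the theorem Cfsg.twisted_f4_borel_core_trivial);
-- the grader kernel-checks Cfsg.Agent.S1113.result against that frozen type. Keep the theorem IN THIS FILE
-- (a `result` declared elsewhere and merely imported here is not credited); helpers may live anywhere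
-- under Cfsg/Agent/.
import Cfsg.Statements.S1113
import Cfsg.Agent.Lib.Helper3.F4T9

set_option autoImplicit false
open Cfsg
open Cfsg.Agent.Lib.Helper3.RF4 Cfsg.Agent.Lib.Helper3.ChevM

namespace Cfsg.Agent.S1113

/-- The normal core of `B¹ = G¹ ∩ B` in ²F₄(2^(2m+1)) is trivial. -/
theorem result {K : Type*} [Field K] [Fintype K] {m : ℕ} (hK : Fintype.card K = 2 ^ (2 * m + 1)) :
    ((Cfsg.Lie.chevF4.borelSubgroup K ⊓ Cfsg.Lie.twistedF4 K (2 ^ m)).subgroupOf (Cfsg.Lie.twistedF4 K (2 ^ m))).normalCore = ⊥ := by
  haveI : Fact (Nat.Prime 2) := ⟨by norm_num⟩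
  haveI : CharP K 2 := charP_of_card_eq_prime_pow hK
  exact f4_core (K := K) m

end Cfsg.Agent.S1113
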