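import Mathlib
-- Template for statement S1116 (row 1116; see /opt/grader/pristine/manifest.json for weights).
-- Copy to Cfsg/Agent/S1116.lean and replace the sorry. The statement below is byte-identical to the frozen
-- statement Cfsg.CfsgFrozen.S1116 (Cfsg/Statements/S1116.lean; the theorem Cfsg.twisted_g2_perfect);
-- the grader kernel-checks Cfsg.Agent.S1116.result against that frozen type. Keep the theorem IN THIS FILE
-- (a `result` declared elsewhere and merely imported here is not credited); helpers may live anywhere
-- under Cfsg/Agent/.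
import Cfsg.Statements.S1116
import Cfsg.Agent.Lib.Helper3.Ree19

set_option autoImplicit false
open Cfsg
open Cfsg.Agent.Lib.Helper3.Ree Cfsg.Agent.Lib.Helper3.ChevM

namespace Cfsg.Agent.S1116

/-- ²G₂(3^(2m+1)) (m ≥ 1) equals its derived subgroup. -/
theorem result {K : Type*} [Field K] [Fintype K] {m : ℕ} (hK : Fintype.card K = 3 ^ (2 * m + 1)) (hm : 1 ≤ m) : commutator ↥(Cfsg.Lie.twistedG2 K (3 ^ m)) = ⊤ := by
  haveI : Fact (Nat.Prime 3) := ⟨by norm_num⟩
  haveI : CharP K 3 := charP_of_card_eq_prime_pow hK
  exact ree_perfect (K := K) m hm hK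

end Cfsg.Agent.S1116
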