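import Mathlib
-- Template for statement S1117 (row 1117; see /opt/grader/pristine/manifest.json for weights).
-- Copy to Cfsg/Agent/S1117.lean and replace the sorry. The statement below is byte-identical to the frozen
-- statement Cfsg.CfsgFrozen.S1117 (Cfsg/Statements/S1117.lean; the theorem Cfsg.twisted_g2_borel_core_trivial);
-- the grader kernel-checks Cfsg.Agent.S1117.result against that frozen type. Keep the theorem IN THIS FILE
-- (a `result` declared elsewhere and merely imported here is not credited); helpers may live anywhere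
-- under Cfsg/Agent/.
import Cfsg.Statements.S1117
import Cfsg.Agent.Lib.Helper3.Ree16

set_option autoImplicit false
open Cfsg
open Cfsg.Agent.Lib.Helper3.Ree Cfsg.Agent.Lib.Helper3.ChevM

namespace Cfsg.Agent.S1117

/-- The normal core of `B¹ = G¹ ∩ B` in ²G₂(3^(2m+1)) is trivial. -/
theorem result {K : Type*} [Field K] [Fintype K] {m : ℕ} (hK : Fintype.card K = 3 ^ (2 * m + 1)) :
    ((Cfsg.Lie.chevG2.borelSubgroup K ⊓ Cfsg.Lie.twistedG2 K (3 ^ m)).subgroupOf (Cfsg.Lie.twistedG2 K (3 ^ m))).normalCore = ⊥ := by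
  haveI : Fact (Nat.Prime 3) := ⟨by norm_num⟩
  haveI : CharP K 3 := charP_of_card_eq_prime_pow hK
  rw [eq_bot_iff]
  intro z hz
  rw [Subgroup.mem_bot]
  apply Subtype.ext
  refine core_aux (K := K) m hK z.1 z.2 ?_
  intro g hg
  have h1 : (⟨g, hg⟩ : ↥(Cfsg.Lie.twistedG2 K (3 ^ m))) * z * (⟨g, hg⟩ : ↥(Cfsg.Lie.twistedG2 K (3 ^ m)))⁻¹ ∈
      (Cfsg.Lie.chevG2.borelSubgroup K ⊓ Cfsg.Lie.twistedG2 K (3 ^ m)).subgroupOf (Cfsg.Lie.twistedG2 K (3 ^ m)) :=
    hz ⟨g, hg⟩
  exact Subgroup.mem_subgroupOf.mp h1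

end Cfsg.Agent.S1117
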