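import Mathlib
import Cfsg.Statements.S1118
import Cfsg.Agent.Lib.Helper3.RankOne

set_option autoImplicit false
open Cfsg
open MulAction
open Cfsg.Agent.Lib.Helper3.RankOne

namespace Cfsg.Agent.S1118

theorem result {G Ω : Type*} [Group G] [Finite G] [MulAction G Ω] {a : Ω} {t : G} {Q : Subgroup G}
    (hS : Cfsg.IsRankOneSetup G Ω a t Q) :
    (∀ X : Set G, X ⊆ (Q : Set G) → (∃ x ∈ X, x ≠ 1) → Subgroup.normalizer X ≤ MulAction.stabilizer G a) ∧
      Subgroup.normalizer (Q : Set G) = MulAction.stabilizer G a ∧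
      Subgroup.normalizer (MulAction.stabilizer G a : Set G) = MulAction.stabilizer G a := by
  have part1 : ∀ X : Set G, X ⊆ (Q : Set G) → (∃ x ∈ X, x ≠ 1) →
      Subgroup.normalizer X ≤ MulAction.stabilizer G a := by
    intro X hXQ ⟨x, hxX, hx1⟩ g hg
    rw [mem_stabilizer_iff]
    by_contra hga
    have h1 : g * x * g⁻¹ ∈ X := (Subgroup.mem_set_normalizer_iff.mp hg x).mp hxX
    have h2 : g * x * g⁻¹ ∈ Q := hXQ h1
    have h3 : (g * x * g⁻¹) • (g • a) = g • a := by
      rw [mul_smul, mul_smul, inv_smul_smul, smul_a_of_mem_Q hS (hXQ hxX)]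
    have h4 := eq_one_of_smul_eq hS h2 hga h3
    apply hx1
    calc x = g⁻¹ * (g * x * g⁻¹) * g := by group
      _ = 1 := by rw [h4]; group
  refine ⟨part1, ?_, ?_⟩
  · apply le_antisymm
    · obtain ⟨x, hx, hx1⟩ := exists_ne_one hS
      exact part1 (Q : Set G) subset_rfl ⟨x, hx, hx1⟩
    · intro h hh
      rw [Subgroup.mem_normalizer_iff]
      intro x
      constructor
      · intro hx; exact hS.conj_mem h hh x hx
      · intro hx
        have := hS.conj_mem h⁻¹ ((stabilizer G a).inv_mem hh) _ hx
        simpa [mul_assoc] using this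
  · apply le_antisymm
    · intro g hg
      rw [mem_stabilizer_iff]
      by_contra hga
      obtain ⟨x, hx, hx1⟩ := exists_ne_one hS
      -- g⁻¹ x g ∈ G_a so x fixes g • a
      have h1 : g⁻¹ * x * g ∈ stabilizer G a := by
        have hg' := (Subgroup.normalizer (stabilizer G a : Set G)).inv_mem hg
        have := (Subgroup.mem_normalizer_iff.mp hg' x).mp (hS.le hx)
        simpa using this
      have h2 : x • (g • a) = g • a := by
        have := mem_stabilizer_iff.mp h1
        rw [mul_smul, mul_smul] at this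
        calc x • g • a = g • (g⁻¹ • x • g • a) := by rw [smul_inv_smul]
          _ = g • a := by rw [this]
      exact hx1 (eq_one_of_smul_eq hS hx hga h2)
    · exact Subgroup.le_normalizer

end Cfsg.Agent.S1118
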