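import Mathlib
-- Template for statement S1122 (row 1122; see /opt/grader/pristine/manifest.json for weights).
-- Copy to Cfsg/Agent/S1122.lean and replace the sorry. The statement below is byte-identical to the frozen
-- statement Cfsg.CfsgFrozen.S1122 (Cfsg/Statements/S1122.lean; the theorem Cfsg.rank_one_inverted_transitive_on_involutions);
-- the grader kernel-checks Cfsg.Agent.S1122.result against that frozen type. Keep the theorem IN THIS FILE
-- (a `result` declared elsewhere and merely imported here is not credited); helpers may live anywhere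
-- under Cfsg/Agent/.
import Cfsg.Statements.S1122
import Cfsg.Agent.Lib.Helper3.RankOne5

set_option autoImplicit false
open Cfsg
open MulAction
open Cfsg.Agent.Lib.Helper3
open Cfsg.Agent.Lib.Helper3.RankOne

namespace Cfsg.Agent.S1122

/-- In the rank-one set-up (`G` finite and doubly transitive on `Ω`, `t` an involution moving `a`, `Q` normal in `G_a` with `G_a = Q D`, `Q ⊓ D = 1` for the two-point stabiliser `D = G_a ⊓ G_{t • a}`, `|Q|` even, `|D|` odd), with `K` the set of elements of `D` inverted by `t`: `|K|` is the number of involutions of `G_a`, and for each involution `s` of `G_a` the `K`-conjugates of `s` are all the involutions of `G_a`. -/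
theorem result {G Ω : Type*} [Group G] [Finite G] [MulAction G Ω] {a : Ω} {t : G} {Q : Subgroup G}
    (hS : Cfsg.IsRankOneSetup G Ω a t Q) :
    Nat.card (Cfsg.invertedBy (MulAction.stabilizer G a ⊓ MulAction.stabilizer G (t • a)) t) = Nat.card (Cfsg.involutionsIn (MulAction.stabilizer G a : Set G)) ∧
      ∀ s ∈ Cfsg.involutionsIn (MulAction.stabilizer G a : Set G), ∀ s' ∈ Cfsg.involutionsIn (MulAction.stabilizer G a : Set G),
        ∃ k ∈ Cfsg.invertedBy (MulAction.stabilizer G a ⊓ MulAction.stabilizer G (t • a)) t, k⁻¹ * s * k = s' := by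
  refine ⟨card_inverted hS, ?_⟩
  rintro s ⟨hs, hs1, hss⟩ s' ⟨hs', hs'1, hs's'⟩
  exact inverted_transitive hS hs (orderOf_two_iff.mpr ⟨hs1, hss⟩) hs' (orderOf_two_iff.mpr ⟨hs'1, hs's'⟩)

end Cfsg.Agent.S1122
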