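import Mathlib
-- Template for statement S1123 (row 1123; see /opt/grader/pristine/manifest.json for weights).
-- Copy to Cfsg/Agent/S1123.lean and replace the sorry. The statement below is byte-identical to the frozen
-- statement Cfsg.CfsgFrozen.S1123 (Cfsg/Statements/S1123.lean; the theorem Cfsg.rank_one_structure_equation);
-- the grader kernel-checks Cfsg.Agent.S1123.result against that frozen type. Keep the theorem IN THIS FILE
-- (a `result` declared elsewhere and merely imported here is not credited); helpers may live anywhere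
-- under Cfsg/Agent/.
import Cfsg.Statements.S1123
import Cfsg.Agent.Lib.Helper3.RankOne6

set_option autoImplicit false
open Cfsg
open MulAction
open Cfsg.Agent.Lib.Helper3
open Cfsg.Agent.Lib.Helper3.RankOne
open Cfsg.Agent.Lib.Helper3.InvFix
open Cfsg.Agent.Lib.Helper3.StrEmb

namespace Cfsg.Agent.S1123

/-- In the rank-one set-up (`G` finite and doubly transitive on `Ω`, `t` an involution moving `a`, `Q` normal in `G_a` with `G_a = Q D`, `Q ⊓ D = 1` for the two-point stabiliser `D = G_a ⊓ G_{t • a}`, `|Q|` even, `|D|` odd), there is a unique pair `(s, r)` with `s` an involution of `G_a`, `r ∈ Q` and `t s t = r⁻¹ t r`. -/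
theorem result {G Ω : Type*} [Group G] [Finite G] [MulAction G Ω] {a : Ω} {t : G} {Q : Subgroup G}
    (hS : Cfsg.IsRankOneSetup G Ω a t Q) :
    ∃! p : G × G, p.1 ∈ Cfsg.involutionsIn (MulAction.stabilizer G a : Set G) ∧ p.2 ∈ Q ∧
      t * p.1 * t = p.2⁻¹ * t * p.2 := by
  have hU := uniqueFix hS
  obtain ⟨s, r, γ, hsa, hs2, hrQ, hγ, hr, heq⟩ := structure_exists hS
  have hs' := orderOf_two_iff.mp hs2
  refine ⟨(s, r), ⟨⟨hsa, hs'.1, hs'.2⟩, hrQ, heq⟩, ?_⟩
  rintro ⟨s', r'⟩ ⟨⟨hs'a, hs'1, hs's'⟩, hr'Q, heq'⟩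
  simp only at hs'a hs'1 hs's' hr'Q heq'
  have hs'a' : s' • a = a := mem_stabilizer_iff.mp hs'a
  -- `r' • (t • a)` is fixed by `t`
  have h1 : t • (r' • (t • a)) = r' • (t • a) := by
    have h2 : (r'⁻¹ * t * r') • (t • a) = t • a := by
      rw [← heq', mul_smul, mul_smul, tta hS, hs'a']
    rw [mul_smul, mul_smul] at h2
    have := congrArg (fun c => r' • c) h2
    simp only [smul_inv_smul] at this
    exact this
  have h3 : r' • (t • a) = γ := fixed_unique hU (orderOf_t hS) h1 hγ
  have hγa : γ ≠ a := by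
    intro h; rw [h] at hγ; exact ta_ne hS hγ
  have hrr : r' = r := by
    have huniq := (existsUnique_mem_Q_smul hS (ta_ne hS) hγa).unique
      (y₁ := ⟨r', hr'Q⟩) (y₂ := ⟨r, hrQ⟩) h3 hr
    exact congrArg Subtype.val huniq
  have hss : s' = s := by
    have e1 : s' = t * (t * s' * t) * t := by
      calc s' = (t * t) * s' * (t * t) := by rw [hS.mul_self, one_mul, mul_one]
        _ = t * (t * s' * t) * t := by group
    have e2 : s = t * (t * s * t) * t := by
      calc s = (t * t) * s * (t * t) := by rw [hS.mul_self, one_mul, mul_one]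
        _ = t * (t * s * t) * t := by group
    rw [e1, e2, heq, heq', hrr]
  rw [hss, hrr]

end Cfsg.Agent.S1123
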