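import Mathlib
-- Template for statement S1127 (row 1127; see /opt/grader/pristine/manifest.json for weights).
-- Copy to Cfsg/Agent/S1127.lean and replace the sorry. The statement below is byte-identical to the frozen
-- statement Cfsg.CfsgFrozen.S1127 (Cfsg/Statements/S1127.lean; the theorem Cfsg.rank_one_centralizer_of_distinguished_involution);
-- the grader kernel-checks Cfsg.Agent.S1127.result against that frozen type. Keep the theorem IN THIS FILE
-- (a `result` declared elsewhere and merely imported here is not credited); helpers may live anywhere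
-- under Cfsg/Agent/.
import Cfsg.Statements.S1127
import Cfsg.Agent.Lib.Helper3.RankOne9

set_option autoImplicit false
open Cfsg
open Cfsg.Agent.Lib.Helper3.RankOne MulAction

namespace Cfsg.Agent.S1127

/-- In the rank-one set-up (`G` finite and doubly transitive on `Ω`, `t` an involution moving `a`, `Q` normal in `G_a` with `G_a = Q D`, `Q ⊓ D = 1` for the two-point stabiliser `D = G_a ⊓ G_{t • a}`, `|Q|` even, `|D|` odd): if `s` is an involution of `G_a` and `r ∈ Q` satisfy `t s t = r⁻¹ t r`, then `C_D(t) = C_D(s)`; moreover `C_D(t) ⊓ C_D(K) = C_D(I ∩ G_a)`, where `K` is the set of elements of `D` inverted by `t` and `I ∩ G_a` the set of involutions of `G_a`. -/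
theorem result {G Ω : Type*} [Group G] [Finite G] [MulAction G Ω] {a : Ω} {t : G} {Q : Subgroup G}
    (hS : Cfsg.IsRankOneSetup G Ω a t Q) :
    (∀ s r : G, s ∈ Cfsg.involutionsIn (MulAction.stabilizer G a : Set G) → r ∈ Q → t * s * t = r⁻¹ * t * r →
        (MulAction.stabilizer G a ⊓ MulAction.stabilizer G (t • a)) ⊓ Subgroup.centralizer {t} = (MulAction.stabilizer G a ⊓ MulAction.stabilizer G (t • a)) ⊓ Subgroup.centralizer {s}) ∧
      (MulAction.stabilizer G a ⊓ MulAction.stabilizer G (t • a)) ⊓ Subgroup.centralizer {t} ⊓ Subgroup.centralizer (Cfsg.invertedBy (MulAction.stabilizer G a ⊓ MulAction.stabilizer G (t • a)) t) =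
        (MulAction.stabilizer G a ⊓ MulAction.stabilizer G (t • a)) ⊓ Subgroup.centralizer (Cfsg.involutionsIn (MulAction.stabilizer G a : Set G)) := by
  refine ⟨?_, centralizer_t_inf_centralizer_inverted hS⟩
  intro s r hs hr hrel
  obtain ⟨hsa, hs2⟩ := mem_involutionsIn_iff.mp hs
  ext d
  constructor
  · rintro ⟨hdD, hdt⟩
    refine ⟨hdD, ?_⟩
    have hdt' : t * d = d * t :=
      (Subgroup.mem_centralizer_singleton_iff.mp (show d ∈ Subgroup.centralizer {t} from hdt)).symm
    have := centralizer_t_le_centralizer_s hS hsa hr hrel hdD hdt'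
    exact Subgroup.mem_centralizer_singleton_iff.mpr this.symm
  · rintro ⟨hdD, hds⟩
    refine ⟨hdD, ?_⟩
    have hds' : s * d = d * s :=
      (Subgroup.mem_centralizer_singleton_iff.mp (show d ∈ Subgroup.centralizer {s} from hds)).symm
    have := centralizer_s_le_centralizer_t hS hsa hs2 hr hrel hdD hds'
    exact Subgroup.mem_centralizer_singleton_iff.mpr this.symm

end Cfsg.Agent.S1127
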