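import Mathlib
-- Template for statement S1130 (row 1130; see /opt/grader/pristine/manifest.json for weights).
-- Copy to Cfsg/Agent/S1130.lean and replace the sorry. The statement below is byte-identical to the frozen
-- statement Cfsg.CfsgFrozen.S1130 (Cfsg/Statements/S1130.lean; the theorem Cfsg.rank_one_involutions_central_elementary);
-- the grader kernel-checks Cfsg.Agent.S1130.result against that frozen type. Keep the theorem IN THIS FILE
-- (a `result` declared elsewhere and merely imported here is not credited); helpers may live anywhere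
-- under Cfsg/Agent/.
import Cfsg.Statements.S1130
import Cfsg.Agent.Lib.Helper3.RankOne13

set_option autoImplicit false
open Cfsg
open Cfsg.Agent.Lib.Helper3.RankOne MulAction

namespace Cfsg.Agent.S1130

/-- In the rank-one set-up (`G` finite and doubly transitive on `Ω`, `t` an involution moving `a`, `Q` normal in `G_a` with `G_a = Q D`, `Q ⊓ D = 1` for the two-point stabiliser `D = G_a ⊓ G_{t • a}`, `|Q|` even, `|D|` odd), with the action faithful and `G` containing two distinct commuting involutions: the involutions of `G_a` lie in `Z(Q)`, and together with `1` they are closed under multiplication (so form an elementary abelian 2-subgroup). -/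
theorem result {G Ω : Type*} [Group G] [Finite G] [MulAction G Ω] [FaithfulSMul G Ω] {a : Ω} {t : G} {Q : Subgroup G}
    (hS : Cfsg.IsRankOneSetup G Ω a t Q)
    (h2 : ∃ x y : G, x ≠ 1 ∧ y ≠ 1 ∧ x ≠ y ∧ x * x = 1 ∧ y * y = 1 ∧ x * y = y * x) :
    (∀ s ∈ Cfsg.involutionsIn (MulAction.stabilizer G a : Set G), s ∈ Q ∧ ∀ x ∈ Q, s * x = x * s) ∧
      ∀ s ∈ Cfsg.involutionsIn (MulAction.stabilizer G a : Set G), ∀ s' ∈ Cfsg.involutionsIn (MulAction.stabilizer G a : Set G),
        s * s' = 1 ∨ s * s' ∈ Cfsg.involutionsIn (MulAction.stabilizer G a : Set G) := by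
  constructor
  · intro s hs
    obtain ⟨hsa, hs2⟩ := mem_involutionsIn_iff.mp hs
    exact ⟨involution_mem_Q hS hsa hs.2.2, involution_central hS h2 hsa hs2⟩
  · intro s hs s' hs'
    obtain ⟨hsa, hs2⟩ := mem_involutionsIn_iff.mp hs
    obtain ⟨hsa', hs2'⟩ := mem_involutionsIn_iff.mp hs'
    rcases involution_mul hS h2 hsa hs2 hsa' hs2' with h | h
    · left; exact h
    · right; exact mem_involutionsIn_iff.mpr h

end Cfsg.Agent.S1130
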