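import Mathlib
-- Template for statement S1137 (row 1137; see /opt/grader/pristine/manifest.json for weights).
-- Copy to Cfsg/Agent/S1137.lean and replace the sorry. The statement below is byte-identical to the frozen
-- statement Cfsg.CfsgFrozen.S1137 (Cfsg/Statements/S1137.lean; the theorem Cfsg.suzuki_two_group_involutions_central);
-- the grader kernel-checks Cfsg.Agent.S1137.result against that frozen type. Keep the theorem IN THIS FILE
-- (a `result` declared elsewhere and merely imported here is not credited); helpers may live anywhere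
-- under Cfsg/Agent/.
import Cfsg.Statements.S1137
import Cfsg.Agent.Lib.Helper3.Hig7

set_option autoImplicit false
open Cfsg
open Cfsg.Agent.Lib.Helper3.Hig

namespace Cfsg.Agent.S1137

/-- In a Suzuki 2-group `P` (a finite non-abelian 2-group with more than one involution admitting a cyclic group of automorphisms regular on its involutions) the involutions are exactly the non-identity central elements, and `Z(P)` is elementary abelian. -/
theorem result {P : Type*} [Group P] (hP : Cfsg.IsSuzukiTwoGroup P) :
    (∀ x : P, (x ≠ 1 ∧ x * x = 1) ↔ (x ∈ Subgroup.center P ∧ x ≠ 1)) ∧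
      ∀ z ∈ Subgroup.center P, z * z = 1 := by
  obtain ⟨hfin, htwo, ⟨x₀, y₀, hxy⟩, hmany, K, hK, hreg⟩ := hP
  have hR : Reg K.subtype := by
    refine ⟨?_, hfin, htwo, hmany, hreg⟩
    letI := IsCyclic.commGroup (α := ↥K)
    exact fun a b => mul_comm a b
  have key : ∀ z ∈ Subgroup.center P, z * z = 1 := by
    intro z hz
    by_contra hne
    exact hxy (abelian_of_central_four _ P K.subtype rfl hR ⟨z, hz, hne⟩ x₀ y₀)
  refine ⟨fun x => ⟨fun hx => ⟨hR.central hx.2, hx.1⟩, fun hx => ⟨hx.2, key x hx.1⟩⟩, key⟩

end Cfsg.Agent.S1137
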