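import Cfsg.Statements.S1138
import Mathlib
import Cfsg.Agent.Lib.Helper9.SZ16

set_option autoImplicit false
open Cfsg

namespace Cfsg.Agent.S1138

/-- Let `P` be a Suzuki 2-group with `|Z(P)| = q`. Then every square lies in `Z(P)` and `P/Z(P)` is abelian (so elementary abelian), `|P| = q²` or `|P| = q³`, and `P` has exponent 4. -/
theorem result {P : Type*} [Group P] (hP : Cfsg.IsSuzukiTwoGroup P) :
    (∀ x : P, x * x ∈ Subgroup.center P) ∧ (∀ x y : P, x⁻¹ * y⁻¹ * x * y ∈ Subgroup.center P) ∧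
      (Nat.card P = Nat.card (Subgroup.center P) ^ 2 ∨ Nat.card P = Nat.card (Subgroup.center P) ^ 3) ∧
      Monoid.exponent P = 4 := by
  classical
  obtain ⟨hfin, htwo, ⟨x₀, y₀, hxy⟩, hmany, K, hK, hreg⟩ := hP
  have hR : Cfsg.Agent.Lib.Helper3.Hig.Reg K.subtype := by
    refine ⟨?_, hfin, htwo, hmany, hreg⟩
    letI := IsCyclic.commGroup (α := ↥K)
    exact fun a b => mul_comm a b
  have hna : ∃ x y : P, x * y ≠ y * x := ⟨x₀, y₀, hxy⟩
  have hceq : Subgroup.center P = hR.Zs :=
    le_antisymm (Cfsg.Agent.H9SZ.center_le_Zs hR hna) hR.Zs_le_center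
  have hsq := Cfsg.Agent.H9SZ.sq_mem_Zs_of_nonabelian hR hna
  have hcomm := Cfsg.Agent.H9SZ.comm_mem_Zs_of_nonabelian hR hna
  refine ⟨?_, ?_, ?_, ?_⟩
  · intro x
    rw [hceq]
    exact hsq x
  · intro x y
    rw [hceq]
    have := hcomm x⁻¹ y⁻¹
    rw [commutatorElement_def, inv_inv, inv_inv] at this
    exact this
  · rw [hceq]
    exact Cfsg.Agent.H9SZ.card_eq_sq_or_cube hR hna
  · have h4 : Monoid.exponent P ∣ 4 := by
      apply Monoid.exponent_dvd_of_forall_pow_eq_one
      exact Cfsg.Agent.H9SZ.pow_four_eq_one hR hna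
    have h2 : ¬ Monoid.exponent P ∣ 2 := by
      intro hd
      apply hxy
      have hall : ∀ x : P, x ∈ hR.Zs := by
        intro x
        have h1 : orderOf x ∣ 2 := (Monoid.order_dvd_exponent x).trans hd
        have h3 : x ^ 2 = 1 := orderOf_dvd_iff_pow_eq_one.mp h1
        show x * x = 1
        rw [← pow_two]
        exact h3
      exact (Subgroup.mem_center_iff.mp (hR.Zs_le_center (hall y₀)) x₀)
    have h4' : Monoid.exponent P ∣ 2 ^ 2 := by norm_num; exact h4
    obtain ⟨k, hk, hke⟩ := (Nat.dvd_prime_pow Nat.prime_two).mp h4'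
    interval_cases k
    · exfalso; apply h2; rw [hke]; norm_num
    · exfalso; apply h2; rw [hke]; norm_num
    · rw [hke]; norm_num

end Cfsg.Agent.S1138
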