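import Mathlib
-- Template for statement S1139 (row 1139; see /opt/grader/pristine/manifest.json for weights).
-- Copy to Cfsg/Agent/S1139.lean and replace the sorry. The statement below is byte-identical to the frozen
-- statement Cfsg.CfsgFrozen.S1139 (Cfsg/Statements/S1139.lean; the theorem Cfsg.suzuki_two_group_of_order_sq_is_type_a);
-- the grader kernel-checks Cfsg.Agent.S1139.result against that frozen type. Keep the theorem IN THIS FILE
-- (a `result` declared elsewhere and merely imported here is not credited); helpers may live anywhere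
-- under Cfsg/Agent/.
import Cfsg.Statements.S1139
import Cfsg.Agent.Lib.Helper3.Hig13

set_option autoImplicit false
open Cfsg
open Cfsg.Agent.Lib.Helper3.Hig

namespace Cfsg.Agent.S1139

/-- A Suzuki 2-group `P` with `|P| = |Z(P)|²` is of type A: for some finite field `F` with `|F| = |Z(P)|` and some field automorphism `φ ≠ 1` of odd order, `P` is isomorphic to the group of lower unitriangular matrices with rows `(1,0,0)`, `(x,1,0)`, `(y, φ x, 1)`. -/
theorem result {P : Type*} [Group P] (hP : Cfsg.IsSuzukiTwoGroup P)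
    (hcard : Nat.card P = Nat.card (Subgroup.center P) ^ 2) :
    ∃ (F : Type) (_ : Field F) (_ : Fintype F) (φ : F ≃+* F), Fintype.card F = Nat.card (Subgroup.center P) ∧
      φ ≠ RingEquiv.refl F ∧ Odd (orderOf φ) ∧ Nonempty (P ≃* Cfsg.suzukiTypeA F (φ : F →+* F)) := by
  obtain ⟨hfin, htwo, ⟨x₀, y₀, hxy⟩, hmany, K, hK, hreg⟩ := hP
  have hR : Reg K.subtype := by
    refine ⟨?_, hfin, htwo, hmany, hreg⟩
    letI := IsCyclic.commGroup (α := ↥K)
    exact fun a b => mul_comm a b
  have key : ∀ z ∈ Subgroup.center P, z * z = 1 := by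
    intro z hz
    by_contra hne
    exact hxy (abelian_of_central_four _ P K.subtype rfl hR ⟨z, hz, hne⟩ x₀ y₀)
  have hZ : Subgroup.center P = hR.Zs := by
    ext x
    exact ⟨fun hx => key x hx, fun hx => hR.central hx⟩
  have hcZ : Nat.card (Subgroup.center P) = Nat.card hR.Zs := by rw [hZ]
  have hq : Nat.card P = Nat.card hR.Zs ^ 2 := by rw [← hcZ]; exact hcard
  haveI := hfin
  obtain ⟨n, hn⟩ := (htwo.to_subgroup hR.Zs).exists_card_eq
  have hn0 : n ≠ 0 := by
    rintro rfl
    rw [pow_zero, hR.card_Zs] at hn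
    haveI := hR.finite_K
    have : 0 < Nat.card K := Nat.card_pos
    omega
  haveI : Fact (Nat.Prime 2) := ⟨Nat.prime_two⟩
  letI : Fintype (GaloisField 2 n) := Fintype.ofFinite _
  have hF : Fintype.card (GaloisField 2 n) = 2 ^ n := by
    rw [← Nat.card_eq_fintype_card]
    exact GaloisField.card 2 n hn0
  obtain ⟨s, h1, h2, h3⟩ := hR.exists_typeA hq ⟨x₀, y₀, hxy⟩ hF (by rw [hF, hn])
  exact ⟨GaloisField 2 n, inferInstance, inferInstance,
    iterateFrobeniusEquiv (GaloisField 2 n) 2 s, by rw [hF, hcZ, hn], h1, h2, h3⟩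

end Cfsg.Agent.S1139
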