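import Mathlib
-- Template for statement S1140 (row 1140; see /opt/grader/pristine/manifest.json for weights).
-- Copy to Cfsg/Agent/S1140.lean and replace the sorry. The statement below is byte-identical to the frozen
-- statement Cfsg.CfsgFrozen.S1140 (Cfsg/Statements/S1140.lean; the theorem Cfsg.field_automorphisms_basis_additive_endomorphisms);
-- the grader kernel-checks Cfsg.Agent.S1140.result against that frozen type. Keep the theorem IN THIS FILE
-- (a `result` declared elsewhere and merely imported here is not credited); helpers may live anywhere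
-- under Cfsg/Agent/.
import Cfsg.Statements.S1140
import Cfsg.Agent.Lib.Helper3.FieldAut1

set_option autoImplicit false
open Cfsg
open Cfsg.Agent.Lib.Helper3.FieldAut

namespace Cfsg.Agent.S1140

/-- For a finite field `F` of characteristic 2, the automorphisms of `F`, viewed as additive maps `F → F`, are linearly independent over `F` (acting on values) every additive endomorphism of `F` is an `F`-linear combination of them, and every biadditive map `F → F → F` is an `F`-combination of the maps `(x, y) ↦ σ(x) τ(y)`. -/
theorem result {F : Type*} [Field F] [Fintype F] [CharP F 2] :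
    LinearIndependent F (fun σ : F ≃+* F => ((σ : F →+* F) : F → F)) ∧
      (∀ f : F →+ F, ∃ (s : Finset (F ≃+* F)) (c : (F ≃+* F) → F), ∀ x : F, f x = ∑ σ ∈ s, c σ * σ x) ∧
      ∀ B : F →+ F →+ F, ∃ (s : Finset ((F ≃+* F) × (F ≃+* F))) (c : (F ≃+* F) × (F ≃+* F) → F),
        ∀ x y : F, B x y = ∑ p ∈ s, c p * (p.1 x * p.2 y) := by
  refine ⟨?_, ?_, ?_⟩
  · have h := linearIndependent_monoidHom F F
    have hinj : Function.Injective (fun σ : F ≃+* F => ((σ : F →+* F) : F →* F)) := by
      intro σ τ hστ
      ext x
      exact congrArg (fun g : F →* F => g x) hστ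
    exact h.comp _ hinj
  · intro f
    obtain ⟨c, hc⟩ := additive_eq_sum f
    exact ⟨Finset.univ, c, hc⟩
  · intro B
    obtain ⟨c, hc⟩ := biadditive_eq_sum B
    exact ⟨Finset.univ, c, hc⟩

end Cfsg.Agent.S1140
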