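import Mathlib
-- Template for statement S1141 (row 1141; see /opt/grader/pristine/manifest.json for weights).
-- Copy to Cfsg/Agent/S1141.lean and replace the sorry. The statement below is byte-identical to the frozen
-- statement Cfsg.CfsgFrozen.S1141 (Cfsg/Statements/S1141.lean; the theorem Cfsg.psu_three_even_sylow_two_suzuki);
-- the grader kernel-checks Cfsg.Agent.S1141.result against that frozen type. Keep the theorem IN THIS FILE
-- (a `result` declared elsewhere and merely imported here is not credited); helpers may live anywhere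
-- under Cfsg/Agent/.
import Cfsg.Statements.S1141
import Cfsg.Agent.Lib.Helper3.U3g

set_option autoImplicit false
open Cfsg
open Cfsg.Agent.Lib.Helper3.U3

namespace Cfsg.Agent.S1141

/-- Let `q = 2^n ≥ 4` and `|F| = q²`. A Sylow 2-subgroup `S` of `PSU₃(q)` has order `q³`, its centre has order `q`, and `S` is a Suzuki 2-group. -/
theorem result {F : Type*} [Field F] [Fintype F] {n : ℕ} (hn : 2 ≤ n)
    (hF : Fintype.card F = (2 ^ n) ^ 2) (S : Sylow 2 (Cfsg.PSU 3 F (2 ^ n))) :
    Nat.card S = (2 ^ n) ^ 3 ∧ Nat.card (Subgroup.center ↥(S : Subgroup (Cfsg.PSU 3 F (2 ^ n)))) = 2 ^ n ∧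
      Cfsg.IsSuzukiTwoGroup ↥(S : Subgroup (Cfsg.PSU 3 F (2 ^ n))) := by
  haveI : CharP F 2 := Cfsg.Agent.Lib.Helper3.Sz.charP_two_of_card (n := 2 * n) (by
    rw [hF, ← pow_mul, mul_comm])
  obtain ⟨c⟩ := exists_coord_sylow (by omega) hF S
  exact ⟨c.card_eq, c.card_center, c.isSuzukiTwoGroup hn rfl⟩

end Cfsg.Agent.S1141
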