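import Mathlib
import Cfsg.Statements.S1142
import Cfsg.Agent.Lib.Helper1.BNInst
import Cfsg.Agent.Lib.Helper3.FHB4

set_option autoImplicit false
open Cfsg

namespace Cfsg.Agent.S1142

open Cfsg.Agent.Lib.Helper1 Cfsg.Agent.Lib.Helper3.FH

/-- Feit–Higman: if a finite group has a (B,N)-pair of rank 2, its Weyl group `N/(B ⊓ N)` has order 4, 6, 8, 12 or 16. -/
theorem result {G : Type*} [Group G] [Finite G] (P : Cfsg.BNPair G)
    (h2 : P.rank = 2) :
    ((P.B ⊓ P.N).subgroupOf P.N).index ∈ ({4, 6, 8, 12, 16} : Set ℕ) := by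
  have hc : Nat.card P.S = 2 := h2
  obtain ⟨a, b, hab, huniv⟩ := Nat.card_eq_two_iff.1 hc
  set x : bnW P := bnπ P ⟨(a : G), P.subset a.2⟩ with hx
  set y : bnW P := bnπ P ⟨(b : G), P.subset b.2⟩ with hy
  have hxy : x ≠ y := by
    intro h
    rw [hx, hy, bnπ_eq_iff] at h
    exact hab (Subtype.ext (P.inj _ a.2 _ b.2 h))
  have hS : (bnData P).S = {x, y} := by
    change bnS P = {x, y}
    ext w
    constructor
    · rintro ⟨s, rfl⟩
      have hs : s ∈ ({a, b} : Set P.S) := by rw [huniv]; trivial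
      rcases hs with rfl | hs
      · left; rfl
      · have : s = b := hs
        subst this
        right; rfl
    · rintro (rfl | h)
      · exact ⟨a, rfl⟩
      · have : w = y := h
        subst this
        exact ⟨b, rfl⟩
  obtain ⟨hord, hcard⟩ := tits_rank_two (bnData P) x y hS hxy
  have hidx : ((P.B ⊓ P.N).subgroupOf P.N).index = Nat.card (bnW P) := rfl
  rw [hidx, hcard]
  rcases hord with h | h | h | h | h
  · rw [h]; simp
  · rw [h]; simp
  · rw [h]; simp
  · rw [h]; simp
  · have : orderOf (x * y) = 8 := h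
    rw [this]; simp
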