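import Mathlib
-- Template for statement S1162 (row 1162; see /opt/grader/pristine/manifest.json for weights).
-- Copy to Cfsg/Agent/S1162.lean and replace the sorry. The statement below is byte-identical to the frozen
-- statement Cfsg.CfsgFrozen.S1162 (Cfsg/Statements/S1162.lean; the theorem Cfsg.suzuki_matrix_group_is_simple);
-- the grader kernel-checks Cfsg.Agent.S1162.result against that frozen type. Keep the theorem IN THIS FILE
-- (a `result` declared elsewhere and merely imported here is not credited); helpers may live anywhere
-- under Cfsg/Agent/.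
import Cfsg.Statements.S1162
import Cfsg.Agent.Lib.Helper3.Sz21

set_option autoImplicit false
open Cfsg
open Cfsg.Agent.Lib.Helper3.Sz

namespace Cfsg.Agent.S1162

/-- For the Suzuki group Sz(q), q = 2^(2m+1) ≥ 8, realised as the elements g of Sp₄(F) with g* = g^θ (θ the 2^(m+1)-th power map, so that θ² is squaring): `Sz(q)` is a simple group. -/
theorem result {F : Type*} [Field F] [Fintype F] {m : ℕ} (hm : 1 ≤ m) (hF : Fintype.card F = 2 ^ (2 * m + 1)) :
    IsSimpleGroup ↥(Cfsg.Lie.Sz F (2 ^ (m + 1))) := by
  have := charP_two_of_card hF
  exact isSimpleGroup_lieSz (titsOfCard hF) (titsOfCard_isPow hm hF) (titsOfCard_apply hF)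

end Cfsg.Agent.S1162
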