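import Mathlib
-- Template for statement S2397 (row 2397; see /opt/grader/pristine/manifest.json for weights).
-- Copy to Cfsg/Agent/S2397.lean and replace the sorry. The statement below is byte-identical to the frozen
-- statement Cfsg.CfsgFrozen.S2397 (Cfsg/Statements/S2397.lean; the theorem Cfsg.lie4_steinberg_cover_equiv_steinberg_group_of_finite);
-- the grader kernel-checks Cfsg.Agent.S2397.result against that frozen type. Keep the theorem IN THIS FILE
-- (a `result` declared elsewhere and merely imported here is not credited); helpers may live anywhere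
-- under Cfsg/Agent/.
import Cfsg.Statements.S2397
import Cfsg.Agent.Lib.Helper3.StRk3
import Cfsg.Agent.Lib.Helper3.StB16


set_option autoImplicit false
open Cfsg
open Cfsg.Agent.Lib.Helper3.ChevM Cfsg.Agent.Lib.Helper3.StB Cfsg.Agent.Lib.Helper3


namespace Cfsg.Agent.S2397

/-- Over a finite field the relators (R3) h̄_r(t₁) h̄_r(t₂) = h̄_r(t₁ t₂) are consequences of (R1) and (R2): for each of the types G₂, B₂, D₄, F₄, E₆, E₇, E₈ (for types B₂ and G₂ the field must have more than two elements — the cases where the Chevalley group is not simple are set aside) the group presented by (R1), (R2) is canonically isomorphic to the one presented by (R1)–(R3), by an isomorphism matching the generators x̄_r(t). -/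
theorem result {K : Type*} [Field K] [Finite K] (D : Cfsg.Lie.ChevalleyDatum) (hD : D ∈ [Cfsg.Lie.chevG2, Cfsg.Lie.chevB2, Cfsg.Lie.chevD4, Cfsg.Lie.chevF4, Cfsg.Lie.chevE6, Cfsg.Lie.chevE7, Cfsg.Lie.chevE8]) (hK : D ∈ [Cfsg.Lie.chevB2, Cfsg.Lie.chevG2] → ∃ x : K, x ≠ 0 ∧ x ≠ 1) :
    ∃ e : D.SteinbergCover K ≃* D.SteinbergGroup K, ∀ (r : ℕ) (t : K), e (D.scGen K r t) = D.stGen K r t := by
  clear hK
  simp only [List.mem_cons, List.not_mem_nil, or_false] at hD
  rcases hD with rfl | rfl | rfl | rfl | rfl | rfl | rfl
  · exact cover_equiv_steinberg commG2 stHypG2 (by decide +kernel)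
  · exact cover_equiv_steinberg commB2 stHypB2 (by decide +kernel)
  · exact cover_equiv_steinberg commD4 stHypD4 (by decide +kernel)
  · exact cover_equiv_steinberg commF4 stHypF4 (by decide +kernel)
  · exact cover_equiv_steinberg commE6 stHypE6 (by decide +kernel)
  · exact cover_equiv_steinberg commE7 stHypE7 (by decide +kernel)
  · exact cover_equiv_steinberg commE8 stHypE8 (by decide +kernel)


end Cfsg.Agent.S2397
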