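import Cfsg.Statements.S1164
import Cfsg.Agent.S2397
import Cfsg.Agent.Lib.Helper3.CT13
import Cfsg.Agent.Lib.Helper3.CTD.D4Ct
import Cfsg.Agent.Lib.Helper3.CTD.F4Ct
import Cfsg.Agent.Lib.Helper3.CTD.E6Ct
import Cfsg.Agent.Lib.Helper3.CTD.E7Ct
import Cfsg.Agent.Lib.Helper3.CTD.E8Ct

set_option autoImplicit false
open Cfsg
open Cfsg.Agent.Lib.Helper3.CT

namespace Cfsg.Agent.S1164

/-- Curtis–Tits: for the Chevalley datum of type D₄, F₄, E₆, E₇ or E₈ and a field `K` with at least four elements, there is an isomorphism from the group presented by the Curtis–Tits relators (additivity, the commutator relators and the `h̄`-relators only for roots inside a common rank-two subsystem spanned by two fundamental roots, all other generators killed) onto the group of Steinberg's presentation, sending each generator `x̄_r(t)` with `r` in such a subsystem to `x̄_r(t)`. -/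
theorem result (D : Cfsg.Lie.ChevalleyDatum)
    (hD : D ∈ [Cfsg.Lie.chevD4, Cfsg.Lie.chevF4, Cfsg.Lie.chevE6, Cfsg.Lie.chevE7, Cfsg.Lie.chevE8])
    (K : Type*) [Field K] [Fintype K] (hK : 4 ≤ Fintype.card K) :
    ∃ e : D.CurtisTitsGroup K ≃* D.SteinbergGroup K,
      ∀ (i j r : ℕ) (t : K), D.InRankTwoSub i j r →
        e (PresentedGroup.mk (D.curtisTitsRels K) (D.stX r t)) = D.stGen K r t := by
  have hx : ∃ x : K, x ≠ 0 ∧ x ≠ 1 := by
    classical
    by_contra h
    push Not at h
    have h2 : Fintype.card K ≤ 2 := by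
      calc Fintype.card K = (Finset.univ : Finset K).card := rfl
        _ ≤ ({0, 1} : Finset K).card := by
          apply Finset.card_le_card
          intro x _
          by_cases hx0 : x = 0
          · simp [hx0]
          · simp [h x hx0]
        _ ≤ 2 := Finset.card_le_two
    omega
  have hD' : D ∈ [Cfsg.Lie.chevG2, Cfsg.Lie.chevB2, Cfsg.Lie.chevD4, Cfsg.Lie.chevF4, Cfsg.Lie.chevE6,
      Cfsg.Lie.chevE7, Cfsg.Lie.chevE8] := by
    simp only [List.mem_cons, List.not_mem_nil, or_false] at hD ⊢
    tauto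
  have hcov : ∃ e : D.SteinbergCover K ≃* D.SteinbergGroup K,
      ∀ (r : ℕ) (t : K), e (D.scGen K r t) = D.stGen K r t :=
    Cfsg.Agent.S2397.result D hD' (fun _ => hx)
  simp only [List.mem_cons, List.not_mem_nil, or_false] at hD
  rcases hD with rfl | rfl | rfl | rfl | rfl
  · exact curtisTits_equiv ctLinkD4 cwD4 ctBaseD4 hcov
  · exact curtisTits_equiv ctLinkF4 cwF4 ctBaseF4 hcov
  · exact curtisTits_equiv ctLinkE6 cwE6 ctBaseE6 hcov
  · exact curtisTits_equiv ctLinkE7 cwE7 ctBaseE7 hcov
  · exact curtisTits_equiv ctLinkE8 cwE8 ctBaseE8 hcov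

end Cfsg.Agent.S1164
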