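import Cfsg.Statements.S1167
import Mathlib
import Mathlib
import Cfsg.Agent.Lib.Helper2.ZP13
import Cfsg.Agent.Lib.Helper2.ZP15
import Cfsg.Agent.Lib.Helper2.FZ33
import Cfsg.Agent.Lib.Lead.Zass5

set_option autoImplicit false
open Cfsg

namespace Cfsg.Agent.S1167

open MulAction Cfsg.Agent.Lib.Lead.Zass Cfsg.Agent.Lib.Helper2.FZ Cfsg.Agent.Lib.Helper2.ZP

/-- Let `G` be a finite simple Zassenhaus group on `Ω`, `U` a normal subgroup of `G_a` regular on `Ω` minus `a` which is an abelian 2-group, and `v` an involution with `v • a ≠ a`. Then there is a unique `u₀ ∈ U`, `u₀ ≠ 1`, with `v u₀ v = u₀ v u₀`. -/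
theorem result {G Ω : Type*} [Group G] [Finite G] [MulAction G Ω] [Finite Ω]
    (hZ : Cfsg.IsZassenhausGroup G Ω) [IsSimpleGroup G] {a : Ω}
    (U : Subgroup G) (hUle : U ≤ MulAction.stabilizer G a)
    (hUn : ∀ h ∈ MulAction.stabilizer G a, ∀ u ∈ U, h * u * h⁻¹ ∈ U)
    (hreg : ∀ c d : Ω, c ≠ a → d ≠ a → ∃! u : U, (u : G) • c = d)
    (hU2 : IsPGroup 2 U) (hUab : ∀ u ∈ U, ∀ u' ∈ U, u * u' = u' * u)
    (v : G) (hv1 : v ≠ 1) (hv2 : v * v = 1) (hva : v • a ≠ a) :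
    ∃! u₀ : G, u₀ ∈ U ∧ u₀ ≠ 1 ∧ v * u₀ * v = u₀ * v * u₀ := by
  classical
  letI : Fintype Ω := Fintype.ofFinite Ω
  have Z := zdata_of hZ
  obtain ⟨b, hb⟩ : ∃ b, b = v • a := ⟨_, rfl⟩
  have hba : b ≠ a := by rw [hb]; exact hva
  have hab : a ≠ b := Ne.symm hba
  have hvb : v • b = a := by rw [hb, ← mul_smul, hv2, one_smul]
  obtain ⟨hUcard, hUfix⟩ := kernel_of_reg a U hUle hreg hba
  haveI : Fact (Nat.Prime 2) := ⟨Nat.prime_two⟩
  obtain ⟨k, hk⟩ := IsPGroup.iff_card.mp hU2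
  obtain ⟨h₀, hh₀1, hh₀a, hh₀b, c₀, hc₀a, hc₀b⟩ := exists_ne_one_H hZ hab
  have hΩ2 : 3 ≤ Fintype.card Ω := by
    have h1 : ({a, b, c₀} : Finset Ω).card = 3 := by
      rw [Finset.card_insert_of_notMem, Finset.card_insert_of_notMem, Finset.card_singleton]
      · rw [Finset.mem_singleton]
        exact Ne.symm hc₀b
      · rw [Finset.mem_insert, Finset.mem_singleton]
        push Not
        exact ⟨hab, Ne.symm hc₀a⟩
    rw [← h1]
    exact Finset.card_le_univ _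
  have hk0 : k ≠ 0 := by
    rintro rfl
    rw [pow_zero] at hk
    omega
  have hoddΩ : Odd (Fintype.card Ω) := by
    rw [← hUcard, hk]
    exact Even.add_one ((Nat.even_pow' hk0).mpr even_two)
  have hodd : Odd (Nat.card ↥(stabilizer G a ⊓ stabilizer G b : Subgroup G)) := by
    have hdvd := two_stab_dvd Z hab
    apply Odd.of_dvd_nat _ hdvd
    obtain ⟨m, hm⟩ := hoddΩ
    rw [Nat.odd_iff]
    omega
  -- elementary abelian
  have hUn' : (U.subgroupOf (stabilizer G a)).Normal := by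
    constructor
    intro n hn g
    rw [Subgroup.mem_subgroupOf] at hn ⊢
    exact hUn g g.2 n hn
  have hreg' : ∀ y z : Ω, y ≠ a → z ≠ a → ∃! u : U, (u : G) • y = z := hreg
  have hle : Fintype.card Ω - 2
      ≤ 2 * Nat.card ↥(stabilizer G a ⊓ stabilizer G b : Subgroup G) := by
    have FD : FData G Ω a b U := ⟨hZ, hab, hodd, hUle, hUcard, hUfix⟩
    rcases FData.main_aux (Nat.card G) G U FD rfl with h1 | ⟨-, ⟨x, y, hxy⟩, -⟩
    · omega
    · exfalso
      apply hxy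
      apply Subtype.ext
      exact hUab _ x.2 _ y.2
  obtain ⟨-, p, f, hp, hexp, hcardΩ⟩ := large_d hZ hab hle U hUle hUn' hreg'
  have hp2 : p = 2 := by
    have h1 : p ^ f = 2 ^ k := by omega
    have hf : f ≠ 0 := by
      rintro rfl
      rw [pow_zero] at h1
      have : 2 ≤ 2 ^ k := by
        calc 2 = 2 ^ 1 := by norm_num
          _ ≤ 2 ^ k := Nat.pow_le_pow_right (by norm_num) (by omega)
      omega
    have h2 : p ∣ 2 ^ k := by
      rw [← h1]
      exact dvd_pow_self p hf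
    exact (Nat.prime_dvd_prime_iff_eq hp Nat.prime_two).mp (hp.dvd_of_dvd_pow h2)
  have hsq : ∀ u ∈ U, u * u = 1 := by
    intro u hu
    have := hexp u hu
    rwa [hp2, pow_two] at this
  -- the fixed point of `v`
  have hvo : orderOf v = 2 := by
    apply orderOf_eq_prime
    · rw [pow_two]; exact hv2
    · exact hv1
  obtain ⟨c, hc⟩ := invol_exists_fixed hoddΩ hvo
  have hca : c ≠ a := by
    rintro rfl
    exact hva hc
  have hcb : c ≠ b := by
    rintro rfl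
    rw [hvb] at hc
    exact hab hc
  have hfixuniq : ∀ c' : Ω, v • c' = c' → c' = c := by
    intro c' hc'
    by_contra hne
    have := odd_order_of_two_fixed Z hab hodd hne hc' hc
    rw [hvo] at this
    exact absurd this (by decide)
  obtain ⟨u₀, hu₀c, hu₀uniq⟩ := hreg b c hba hca
  have hu₀a : (u₀ : G) • a = a := mem_stabilizer_iff.mp (hUle u₀.2)
  have hu₀cb : (u₀ : G) • c = b := by
    rw [← hu₀c, ← mul_smul, hsq _ u₀.2, one_smul]
  refine ⟨(u₀ : G), ⟨u₀.2, ?_, ?_⟩, ?_⟩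
  · intro h
    rw [h, one_smul] at hu₀c
    exact hcb hu₀c.symm
  · -- both sides agree on `a`, `b`, `c`
    have h1 : ((v * u₀ * v)⁻¹ * (u₀ * v * u₀)) = 1 := by
      apply Z.three _ a b c hab (Ne.symm hcb) (Ne.symm hca)
      · rw [mul_smul, inv_smul_eq_iff, mul_smul, mul_smul, hu₀a, ← hb, hu₀c, mul_smul, mul_smul,
          ← hb, hu₀c, hc]
      · rw [mul_smul, inv_smul_eq_iff, mul_smul, mul_smul, hu₀c, hc, hu₀cb, mul_smul, mul_smul,
          hvb, hu₀a, ← hb]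
      · rw [mul_smul, inv_smul_eq_iff, mul_smul, mul_smul, hu₀cb, hvb, hu₀a, mul_smul, mul_smul,
          hc, hu₀cb, hvb]
    have h2 : u₀ * v * u₀ = (v * u₀ * v) * ((v * u₀ * v)⁻¹ * ((u₀ : G) * v * u₀)) := by group
    rw [h2, h1, mul_one]
  · rintro u₁ ⟨hu₁U, hu₁1, hu₁rel⟩
    have hu₁a : u₁ • a = a := mem_stabilizer_iff.mp (hUle hu₁U)
    have h1 : v • (u₁ • b) = u₁ • b := by
      have h2 : (v * u₁ * v) • a = (u₁ * v * u₁) • a := by rw [hu₁rel]
      rw [mul_smul, mul_smul, ← hb, mul_smul, mul_smul, hu₁a, ← hb] at h2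
      exact h2
    have h3 := hfixuniq _ h1
    have h4 := hu₀uniq ⟨u₁, hu₁U⟩ h3
    exact congrArg Subtype.val h4

end Cfsg.Agent.S1167
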