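import Mathlib
-- Template for statement S1168 (row 1168; see /opt/grader/pristine/manifest.json for weights).
-- Copy to Cfsg/Agent/S1168.lean and replace the sorry. The statement below is byte-identical to the frozen
-- statement Cfsg.CfsgFrozen.S1168 (Cfsg/Statements/S1168.lean; the theorem Cfsg.char_two_quadratic_maps_span);
-- the grader kernel-checks Cfsg.Agent.S1168.result against that frozen type. Keep the theorem IN THIS FILE
-- (a `result` declared elsewhere and merely imported here is not credited); helpers may live anywhere
-- under Cfsg/Agent/.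
import Cfsg.Statements.S1168
import Cfsg.Agent.Lib.Helper3.FieldAut2

set_option autoImplicit false
open Cfsg
open Cfsg.Agent.Lib.Helper3.FieldAut

namespace Cfsg.Agent.S1168

/-- For a finite field `F` of characteristic 2: if `q : F → F` is quadratic over the prime field, i.e. `(x, y) ↦ q (x + y) + q x + q y` is additive in each variable, then `q x = Σ c_{σ,τ} σ(x) τ(x)` for some coefficients indexed by pairs of field automorphisms. -/
theorem result {F : Type*} [Field F] [Fintype F] [CharP F 2]
    (q : F → F)
    (hq : ∀ x y z : F, q (x + y + z) + q (x + y) + q (x + z) + q (y + z) + q x + q y + q z = 0) :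
    ∃ (s : Finset ((F ≃+* F) × (F ≃+* F))) (c : (F ≃+* F) × (F ≃+* F) → F),
      ∀ x : F, q x = ∑ p ∈ s, c p * (p.1 x * p.2 x) := by
  let _ : Algebra (ZMod 2) F := ZMod.algebra F 2
  let b := Module.finBasis (ZMod 2) F
  obtain ⟨c, hc⟩ := isQF_partial q b Finset.univ hq
  refine ⟨Finset.univ, c, fun x => ?_⟩
  rw [← hc x]
  congr 1
  rw [AddMonoidHom.finsetSum_apply]
  exact (b.sum_repr x).symm

end Cfsg.Agent.S1168
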