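import Mathlib
import Cfsg.Statements.S1176
import Cfsg.Agent.Lib.Helper3.Isolated

set_option autoImplicit false
open Cfsg
open scoped commutatorElement
open Cfsg.Agent.Lib.Helper3

namespace Cfsg.Agent.S1176

theorem involution_of_isConj {G : Type*} [Group G] {x₀ x : G} (hx₀ : orderOf x₀ = 2) (h : IsConj x₀ x) :
    x * x = 1 := by
  obtain ⟨c, rfl⟩ := isConj_iff.mp h
  have : x₀ * x₀ = 1 := by
    have := pow_orderOf_eq_one x₀
    rwa [hx₀, pow_two] at this
  exact conj_mul_self this c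

theorem result {G : Type*} [Group G] [Finite G] (x₀ : G) (hx₀ : orderOf x₀ = 2) (ha : ∀ x : G, IsConj x₀ x → IsPGroup 2 ↥(Subgroup.closure {y : G | IsConj x₀ y ∧ Commute y x}) ∧ ⁅⁅Subgroup.closure {y : G | IsConj x₀ y ∧ Commute y x}, Subgroup.closure {y : G | IsConj x₀ y ∧ Commute y x}⁆, Subgroup.closure {y : G | IsConj x₀ y ∧ Commute y x}⁆ = ⊥) (hb : ∀ x y : G, IsConj x₀ x → IsConj x₀ y → x ≠ y → Commute x y → IsConj x₀ (x * y)) (x y : G) (hx : IsConj x₀ x) (hy : IsConj x₀ y) (heven : Even (orderOf (x * y))) (hgt : 2 < orderOf (x * y)) : orderOf (x * y) = 4 := by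
  have hxx := involution_of_isConj hx₀ hx
  have hyy := involution_of_isConj hx₀ hy
  have hxinv : x⁻¹ = x := inv_eq_of_mul_eq_one_right hxx
  have hyinv : y⁻¹ = y := inv_eq_of_mul_eq_one_right hyy
  obtain ⟨m, hm⟩ := heven
  have hm2 : 2 ≤ m := by omega
  have hw1 : (x * y) ^ m ≠ 1 := pow_ne_one_of_lt_orderOf (by omega) (by omega)
  have hww : (x * y) ^ m * (x * y) ^ m = 1 := by rw [← pow_add, ← hm, pow_orderOf_eq_one]
  have hwinv : ((x * y) ^ m)⁻¹ = (x * y) ^ m := inv_eq_of_mul_eq_one_right hww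
  have h1 := dihedral_pow_mul_left x y hxx hyy m
  have h1' := dihedral_pow_mul_right x y hxx hyy m
  have hcommx : Commute x ((x * y) ^ m) := by
    have : (x * y) ^ m * x = x * ((x * y) ^ m)⁻¹ := by
      rw [eq_mul_inv_iff_mul_eq]; exact h1
    rw [hwinv] at this
    exact this.symm
  have hcommy : Commute y ((x * y) ^ m) := by
    have : (x * y) ^ m * y = y * ((x * y) ^ m)⁻¹ := by
      rw [eq_mul_inv_iff_mul_eq]; exact h1'
    rw [hwinv] at this
    exact this.symm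
  -- x * d^m is conjugate to x₀
  have hconj : IsConj x₀ (x * (x * y) ^ m) := by
    rcases Nat.even_or_odd' m with ⟨i, hi | hi⟩
    · have h2 := dihedral_pow_mul_left x y hxx hyy i
      have e : x * (x * y) ^ m = ((x * y) ^ i)⁻¹ * x * (((x * y) ^ i)⁻¹)⁻¹ := by
        rw [inv_inv, hi, two_mul, pow_add]
        calc x * ((x * y) ^ i * (x * y) ^ i) = ((x * y) ^ i)⁻¹ * ((x * y) ^ i * x * (x * y) ^ i) * (x * y) ^ i := by group
          _ = ((x * y) ^ i)⁻¹ * x * (x * y) ^ i := by rw [h2]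
      rw [e]
      exact hx.trans (isConj_iff.mpr ⟨_, rfl⟩)
    · have h2 := dihedral_pow_mul_right x y hxx hyy i
      have e : x * (x * y) ^ m = ((x * y) ^ i)⁻¹ * y * (((x * y) ^ i)⁻¹)⁻¹ := by
        rw [inv_inv, hi, pow_succ', two_mul, pow_add]
        calc x * ((x * y) * ((x * y) ^ i * (x * y) ^ i)) = (x * x) * y * ((x * y) ^ i * (x * y) ^ i) := by simp only [mul_assoc]
          _ = y * ((x * y) ^ i * (x * y) ^ i) := by rw [hxx, one_mul]
          _ = ((x * y) ^ i)⁻¹ * ((x * y) ^ i * y * (x * y) ^ i) * (x * y) ^ i := by group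
          _ = ((x * y) ^ i)⁻¹ * y * (x * y) ^ i := by rw [h2]
      rw [e]
      exact hy.trans (isConj_iff.mpr ⟨_, rfl⟩)
  have hne : x ≠ x * (x * y) ^ m := by
    intro h
    apply hw1
    have : x * 1 = x * (x * y) ^ m := by rw [mul_one]; exact h
    exact (mul_left_cancel this).symm
  have hcomm2 : Commute x (x * (x * y) ^ m) := (Commute.refl x).mul_right hcommx
  have hz : IsConj x₀ ((x * y) ^ m) := by
    have := hb x (x * (x * y) ^ m) hx hconj hne hcomm2
    rwa [← mul_assoc, hxx, one_mul] at this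
  obtain ⟨_, hclass⟩ := ha ((x * y) ^ m) hz
  set W := Subgroup.closure {w : G | IsConj x₀ w ∧ Commute w ((x * y) ^ m)} with hW
  have hxW : x ∈ W := Subgroup.subset_closure ⟨hx, hcommx⟩
  have hyW : y ∈ W := Subgroup.subset_closure ⟨hy, hcommy⟩
  have h3 : ⁅⁅x, y⁆, x⁆ ∈ ⁅⁅W, W⁆, W⁆ :=
    Subgroup.commutator_mem_commutator (Subgroup.commutator_mem_commutator hxW hyW) hxW
  rw [hclass, Subgroup.mem_bot] at h3
  -- ⁅⁅x,y⁆,x⁆ = d^4
  have h4 : ⁅⁅x, y⁆, x⁆ = (x * y) ^ 4 := by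
    rw [commutatorElement_def, commutatorElement_def, hxinv, hyinv]
    have e1 : x * y * x * y = (x * y) ^ 2 := by rw [pow_two]; simp only [mul_assoc]
    rw [e1]
    have e2 : x * ((x * y) ^ 2)⁻¹ * x = (x * y) ^ 2 := by
      have h5 := dihedral_pow_mul_left x y hxx hyy 2
      calc x * ((x * y) ^ 2)⁻¹ * x = ((x * y) ^ 2 * x * (x * y) ^ 2) * ((x * y) ^ 2)⁻¹ * x := by rw [h5]
        _ = (x * y) ^ 2 * (x * x) := by group
        _ = (x * y) ^ 2 := by rw [hxx, mul_one]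
    calc (x * y) ^ 2 * x * ((x * y) ^ 2)⁻¹ * x = (x * y) ^ 2 * (x * ((x * y) ^ 2)⁻¹ * x) := by group
      _ = (x * y) ^ 2 * (x * y) ^ 2 := by rw [e2]
      _ = (x * y) ^ 4 := by rw [← pow_add]
  rw [h4] at h3
  have hdvd : orderOf (x * y) ∣ 4 := orderOf_dvd_of_pow_eq_one h3
  have hle : orderOf (x * y) ≤ 4 := Nat.le_of_dvd (by norm_num) hdvd
  interval_cases hh : orderOf (x * y)
  · omega
  · rfl

end Cfsg.Agent.S1176
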