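import Mathlib
import Cfsg.Statements.S1177
import Cfsg.Agent.Lib.Helper3.Basic

set_option autoImplicit false
open Cfsg
open scoped Pointwise
open Cfsg.Agent.Lib.Helper3

namespace Cfsg.Agent.S1177

variable {G : Type*} [Group G]

theorem ti_conj (A : Subgroup G)
    (hTI : ∀ g : G, MulAut.conj g • A ⊓ A = ⊥ ∨ MulAut.conj g • A = A) (g h : G) :
    MulAut.conj g • A ⊓ MulAut.conj h • A = ⊥ ∨ MulAut.conj g • A = MulAut.conj h • A := by
  have e : MulAut.conj g • A = MulAut.conj h • (MulAut.conj (h⁻¹ * g) • A) := by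
    rw [smul_smul, ← map_mul]; simp
  rcases hTI (h⁻¹ * g) with h1 | h1
  · left
    rw [e, ← Subgroup.smul_inf, h1, Subgroup.smul_bot]
  · right
    rw [e, h1]

theorem hb_conj (A : Subgroup G)
    (hb : ∀ g : G, (∀ a ∈ A, ∀ b ∈ MulAut.conj g • A, a * b = b * a) → MulAut.conj g • A = A)
    (g h : G) (hc : ∀ x ∈ MulAut.conj g • A, ∀ y ∈ MulAut.conj h • A, x * y = y * x) :
    MulAut.conj g • A = MulAut.conj h • A := by
  have e : MulAut.conj g • A = MulAut.conj h • (MulAut.conj (h⁻¹ * g) • A) := by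
    rw [smul_smul, ← map_mul]; simp
  rw [e]
  congr 1
  apply hb
  intro a ha b hb'
  -- h a h⁻¹ ∈ conj h • A, h b h⁻¹ ∈ conj g • A
  have h1 : h * a * h⁻¹ ∈ MulAut.conj h • A := conj_mem_conj_smul A h a ha
  have h2 : h * b * h⁻¹ ∈ MulAut.conj g • A := by
    rw [e]
    exact conj_mem_conj_smul _ h b hb'
  have := hc _ h2 _ h1
  have e2 : h * (a * b) * h⁻¹ = h * (b * a) * h⁻¹ := by
    calc h * (a * b) * h⁻¹ = (h * a * h⁻¹) * (h * b * h⁻¹) := by group
      _ = (h * b * h⁻¹) * (h * a * h⁻¹) := this.symm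
      _ = h * (b * a) * h⁻¹ := by group
  exact mul_left_cancel (mul_right_cancel e2)

theorem result {G : Type*} [Group G] [Finite G] (A : Subgroup G) (hA : Cfsg.IsElementaryAbelian 2 A) (hA1 : A ≠ ⊥) (hTI : ∀ g : G, A.map (MulAut.conj g).toMonoidHom ⊓ A = ⊥ ∨ A.map (MulAut.conj g).toMonoidHom = A) (hb : ∀ g : G, (∀ a ∈ A, ∀ b ∈ A.map (MulAut.conj g).toMonoidHom, a * b = b * a) → A.map (MulAut.conj g).toMonoidHom = A) (a : G) (ha : a ∈ A) (ha1 : a ≠ 1) (g : G) (hg : A.map (MulAut.conj g).toMonoidHom ≤ Subgroup.centralizer ({a} : Set G)) : A.map (MulAut.conj g).toMonoidHom = A := by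
  change ∀ g : G, MulAut.conj g • A ⊓ A = ⊥ ∨ MulAut.conj g • A = A at hTI
  change ∀ g : G, (∀ a ∈ A, ∀ b ∈ MulAut.conj g • A, a * b = b * a) → MulAut.conj g • A = A at hb
  change MulAut.conj g • A ≤ Subgroup.centralizer ({a} : Set G) at hg
  change MulAut.conj g • A = A
  obtain ⟨hAc, hA2⟩ := hA
  have hAcomm : ∀ x ∈ A, ∀ y ∈ A, x * y = y * x := fun x hx y hy =>
    congrArg Subtype.val (hAc.is_comm.comm ⟨x, hx⟩ ⟨y, hy⟩)
  have hAsq : ∀ x ∈ A, x * x = 1 := fun x hx => by rw [← pow_two]; exact hA2 x hx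
  have hAinv : ∀ x ∈ A, x⁻¹ = x := fun x hx => inv_eq_of_mul_eq_one_right (hAsq x hx)
  set B := MulAut.conj g • A with hB
  have hBcomm : ∀ x ∈ B, ∀ y ∈ B, x * y = y * x := by
    intro x hx y hy
    rw [hB, mem_conj_smul_iff] at hx hy
    have := hAcomm _ hx _ hy
    calc x * y = g * ((g⁻¹ * x * g) * (g⁻¹ * y * g)) * g⁻¹ := by group
      _ = g * ((g⁻¹ * y * g) * (g⁻¹ * x * g)) * g⁻¹ := by rw [this]
      _ = y * x := by group
  have hBsq : ∀ x ∈ B, x * x = 1 := by
    intro x hx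
    rw [hB, mem_conj_smul_iff] at hx
    have := hAsq _ hx
    calc x * x = g * ((g⁻¹ * x * g) * (g⁻¹ * x * g)) * g⁻¹ := by group
      _ = 1 := by rw [this]; group
  have hBinv : ∀ x ∈ B, x⁻¹ = x := fun x hx => inv_eq_of_mul_eq_one_right (hBsq x hx)
  -- Step 1
  have step1A : ∀ x : G, x * a = a * x → MulAut.conj x • A = A := by
    intro x hx
    rcases hTI x with h | h
    · exfalso
      have : a ∈ MulAut.conj x • A ⊓ A := by
        refine Subgroup.mem_inf.mpr ⟨?_, ha⟩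
        rw [mem_conj_smul_iff]
        have : x⁻¹ * a * x = a := by rw [mul_assoc, ← hx]; group
        rw [this]; exact ha
      rw [h] at this
      exact ha1 (Subgroup.mem_bot.mp this)
    · exact h
  have step1B : ∀ b ∈ B, b ≠ 1 → ∀ x : G, x * b = b * x → MulAut.conj x • B = B := by
    intro b hb' hb1 x hx
    have e : MulAut.conj x • B = MulAut.conj (x * g) • A := by
      rw [hB, smul_smul, ← map_mul]
    rcases ti_conj A hTI (x * g) g with h | h
    · exfalso
      have : b ∈ MulAut.conj (x * g) • A ⊓ MulAut.conj g • A := by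
        refine Subgroup.mem_inf.mpr ⟨?_, hb'⟩
        rw [← e, mem_conj_smul_iff]
        have : x⁻¹ * b * x = b := by rw [mul_assoc, ← hx]; group
        rw [this]; exact hb'
      rw [h] at this
      exact hb1 (Subgroup.mem_bot.mp this)
    · rw [e, h]
  -- Step 2
  have step2 : ∀ b ∈ B, MulAut.conj b • A = A := by
    intro b hb'
    apply step1A
    have := hg hb'
    rw [Subgroup.mem_centralizer_singleton_iff] at this
    exact this
  have hBA : ∀ b ∈ B, ∀ x ∈ A, b * x * b⁻¹ ∈ A := by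
    intro b hb' x hx
    have := conj_mem_conj_smul A b x hx
    rwa [step2 b hb'] at this
  -- Step 3
  rcases hTI g with hdisj | heq
  swap
  · exact heq
  have hdisj' : ∀ x, x ∈ A → x ∈ B → x = 1 := by
    intro x hxA hxB
    have : x ∈ B ⊓ A := Subgroup.mem_inf.mpr ⟨hxB, hxA⟩
    rw [hdisj] at this
    exact Subgroup.mem_bot.mp this
  -- Step 4
  have step4 : ∀ a' ∈ A, ∀ b ∈ B, ∀ b' ∈ B,
      (a' * (b * a' * b⁻¹)) * b' = b' * (a' * (b * a' * b⁻¹)) := by
    intro a' ha' b hb' b' hb''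
    by_cases hb1 : b = 1
    · subst hb1
      simp [hAsq a' ha']
    set c := a' * (b * a' * b⁻¹) with hc
    have hcA : c ∈ A := A.mul_mem ha' (hBA b hb' a' ha')
    have hcb : c * b = b * c := by
      have h1 : b * c * b⁻¹ = c := by
        calc b * c * b⁻¹ = (b * a' * b⁻¹) * ((b * b) * a' * (b * b)⁻¹) := by rw [hc]; group
          _ = (b * a' * b⁻¹) * a' := by rw [hBsq b hb']; group
          _ = c := by rw [hc]; exact hAcomm _ (hBA b hb' a' ha') _ ha'
      calc c * b = (b * c * b⁻¹) * b := by rw [h1]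
        _ = b * c := by group
    have hcB : MulAut.conj c • B = B := step1B b hb' hb1 c hcb
    have h1 : c * b' * c⁻¹ ∈ B := by
      have := conj_mem_conj_smul B c b' hb''
      rwa [hcB] at this
    have h2 : c * b' * c⁻¹ * b'⁻¹ ∈ B := B.mul_mem h1 (B.inv_mem hb'')
    have h3 : c * b' * c⁻¹ * b'⁻¹ ∈ A := by
      have : c * b' * c⁻¹ * b'⁻¹ = c * (b' * c⁻¹ * b'⁻¹) := by group
      rw [this]
      exact A.mul_mem hcA (hBA b' hb'' _ (A.inv_mem hcA))
    have h4 := hdisj' _ h3 h2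
    calc c * b' = (c * b' * c⁻¹ * b'⁻¹) * b' * c := by group
      _ = b' * c := by rw [h4, one_mul]
  -- Step 5
  have step5 : ∀ a' ∈ A, MulAut.conj a' • B = B := by
    intro a' ha'
    have e : MulAut.conj a' • B = MulAut.conj (a' * g) • A := by
      rw [hB, smul_smul, ← map_mul]
    rw [e]
    apply hb_conj A hb
    intro x hx y hy
    rw [← e, mem_conj_smul_iff] at hx
    -- x = a' (a'⁻¹ x a') a'⁻¹
    set b := a'⁻¹ * x * a' with hbdef
    have hx' : x = (a' * (b * a' * b⁻¹)) * b := by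
      rw [hbdef, hAinv a' ha']
      have := hAsq a' ha'
      calc x = (a' * a') * x * (a' * a') := by rw [this]; group
        _ = a' * (a' * x * a' * a' * (a' * x * a')⁻¹) * (a' * x * a') := by group
    rw [hx']
    have h4 := step4 a' ha' b hx y hy
    have h5 := hBcomm b hx y hy
    calc (a' * (b * a' * b⁻¹)) * b * y = (a' * (b * a' * b⁻¹)) * (b * y) := by group
      _ = (a' * (b * a' * b⁻¹)) * (y * b) := by rw [h5]
      _ = ((a' * (b * a' * b⁻¹)) * y) * b := by group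
      _ = (y * (a' * (b * a' * b⁻¹))) * b := by rw [h4]
      _ = y * ((a' * (b * a' * b⁻¹)) * b) := by group
  -- Step 6
  apply hb
  intro a' ha' b hb'
  have h1 : a' * b * a'⁻¹ ∈ B := by
    have := conj_mem_conj_smul B a' b hb'
    rwa [step5 a' ha'] at this
  have h2 : a' * b * a'⁻¹ * b⁻¹ ∈ B := B.mul_mem h1 (B.inv_mem hb')
  have h3 : a' * b * a'⁻¹ * b⁻¹ ∈ A := by
    have : a' * b * a'⁻¹ * b⁻¹ = a' * (b * a'⁻¹ * b⁻¹) := by group
    rw [this]
    exact A.mul_mem ha' (hBA b hb' _ (A.inv_mem ha'))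
  have h4 := hdisj' _ h3 h2
  calc a' * b = (a' * b * a'⁻¹ * b⁻¹) * b * a' := by group
    _ = b * a' := by rw [h4, one_mul]

end Cfsg.Agent.S1177
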