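import Mathlib
import Cfsg.Statements.S1178

set_option autoImplicit false
open Cfsg
open scoped Pointwise

namespace Cfsg.Agent.S1178

theorem result {G : Type*} [Group G] [Finite G] (S : Sylow 2 G) (A : Subgroup G) (hW : Cfsg.IsWeaklyClosed A (S : Subgroup G)) (g : G) (hc : ∀ a ∈ A, ∀ b ∈ A.map (MulAut.conj g).toMonoidHom, a * b = b * a) : A.map (MulAut.conj g).toMonoidHom = A := by
  haveI : Fact (Nat.Prime 2) := ⟨Nat.prime_two⟩
  obtain ⟨hAS, hcl⟩ := hW
  change MulAut.conj g • A = A
  have hcl' : ∀ x : G, MulAut.conj x • A ≤ (S : Subgroup G) → MulAut.conj x • A = A := hcl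
  have hc' : ∀ a ∈ A, ∀ b ∈ MulAut.conj g • A, a * b = b * a := hc
  have hA2 : IsPGroup 2 A := S.2.to_le hAS
  have hB2 : IsPGroup 2 (MulAut.conj g • A : Subgroup G) := by
    have : (MulAut.conj g • A : Subgroup G) = A.map (MulAut.conj g).toMonoidHom := rfl
    rw [this]
    exact hA2.map _
  have hBN : (MulAut.conj g • A : Subgroup G) ≤ Subgroup.normalizer (A : Set G) := by
    refine le_trans ?_ (Subgroup.centralizer_le_normalizer (A : Set G))
    intro b hb a ha
    exact hc' a ha b hb
  have hAB : IsPGroup 2 (MulAut.conj g • A ⊔ A : Subgroup G) := IsPGroup.to_sup_of_normal_right' hB2 hA2 hBN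
  obtain ⟨Q, hQ⟩ := hAB.exists_le_sylow
  obtain ⟨h, hh⟩ := MulAction.exists_smul_eq G Q S
  have hQS : MulAut.conj h • (Q : Subgroup G) = S := by
    rw [← Sylow.coe_subgroup_smul, hh]
  have h1 : MulAut.conj h • A ≤ (S : Subgroup G) := by
    rw [← hQS]
    exact Subgroup.pointwise_smul_le_pointwise_smul_iff.mpr (le_trans le_sup_right hQ)
  have h2 : MulAut.conj (h * g) • A ≤ (S : Subgroup G) := by
    rw [← hQS, map_mul, mul_smul]
    exact Subgroup.pointwise_smul_le_pointwise_smul_iff.mpr (le_trans le_sup_left hQ)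
  have e1 := hcl' h h1
  have e2 := hcl' (h * g) h2
  rw [map_mul, mul_smul] at e2
  have : MulAut.conj h • (MulAut.conj g • A) = MulAut.conj h • A := by rw [e2, e1]
  exact smul_left_cancel _ this

end Cfsg.Agent.S1178
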