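import Mathlib
-- Template for statement S1183 (row 1183; see /opt/grader/pristine/manifest.json for weights).
-- Copy to Cfsg/Agent/S1183.lean and replace the sorry. The statement below is byte-identical to the frozen
-- statement Cfsg.CfsgFrozen.S1183 (Cfsg/Statements/S1183.lean; the theorem Cfsg.isolated_involution_two_residual);
-- the grader kernel-checks Cfsg.Agent.S1183.result against that frozen type. Keep the theorem IN THIS FILE
-- (a `result` declared elsewhere and merely imported here is not credited); helpers may live anywhere
-- under Cfsg/Agent/.
import Cfsg.Statements.S1183
import Cfsg.Agent.Lib.Helper3.Isolated2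

set_option autoImplicit false
open Cfsg

namespace Cfsg.Agent.S1183

/-- Let z be an isolated involution of the finite group G and C = C_G(z). Then the subgroup of G generated by its elements of odd order is all of G if and only if the subgroup of C generated by its elements of odd order is all of C. -/
theorem result {G : Type*} [Group G] [Finite G] (z : G) (hz : Cfsg.IsIsolatedInvolution z) : Cfsg.pResidual 2 G = ⊤ ↔ Cfsg.pResidual 2 ↥(Subgroup.centralizer ({z} : Set G)) = ⊤ := by
  exact Cfsg.Agent.Lib.Helper3.Iso.pResidual_eq_top_iff hz

end Cfsg.Agent.S1183
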