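import Mathlib
-- Template for statement S1189 (row 1189; see /opt/grader/pristine/manifest.json for weights).
-- Copy to Cfsg/Agent/S1189.lean and replace the sorry. The statement below is byte-identical to the frozen
-- statement Cfsg.CfsgFrozen.S1189 (Cfsg/Statements/S1189.lean; the theorem Cfsg.quasidihedral_conjugacy_classes_orders_two_and_four);
-- the grader kernel-checks Cfsg.Agent.S1189.result against that frozen type. Keep the theorem IN THIS FILE
-- (a `result` declared elsewhere and merely imported here is not credited); helpers may live anywhere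
-- under Cfsg/Agent/.
import Cfsg.Statements.S1189
import Cfsg.Agent.Lib.Helper3.QD3

set_option autoImplicit false
open Cfsg
open Cfsg.Agent.Lib.Helper3

namespace Cfsg.Agent.S1189

/-- A quasi-dihedral 2-group has exactly two conjugacy classes of elements of order 2 and exactly two conjugacy classes of elements of order 4. -/
theorem result {S : Type*} [Group S] [Finite S] (hS : Cfsg.IsQuasiDihedral S) : Nat.card {C : ConjClasses S // ∃ t : S, orderOf t = 2 ∧ ConjClasses.mk t = C} = 2 ∧ Nat.card {C : ConjClasses S // ∃ t : S, orderOf t = 4 ∧ ConjClasses.mk t = C} = 2 := by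
  obtain ⟨d⟩ := (isQuasiDihedral_iff S).mp hS
  constructor
  · rw [Nat.card_eq_two_iff]
    refine ⟨⟨ConjClasses.mk d.zz, d.zz, d.orderOf_zz, rfl⟩,
      ⟨ConjClasses.mk (d.b 0), d.b 0, ?_, rfl⟩, ?_, ?_⟩
    · have := d.orderOf_b_even 0
      rwa [mul_zero] at this
    · intro h
      have h1 : ConjClasses.mk d.zz = ConjClasses.mk (d.b 0) := congrArg Subtype.val h
      rw [ConjClasses.mk_eq_mk_iff_isConj, isConj_iff] at h1
      obtain ⟨c, hc⟩ := h1
      have h2 : c * d.zz * c⁻¹ = d.zz := by
        rw [← d.zz_central c, mul_assoc, mul_inv_cancel, mul_one]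
      rw [h2] at hc
      exact d.a_ne_b _ _ hc
    · rw [Set.eq_univ_iff_forall]
      rintro ⟨C, t, ht, rfl⟩
      rw [d.orderOf_eq_two_iff] at ht
      rcases ht with rfl | ⟨j, rfl⟩
      · left; rfl
      · right
        rw [Set.mem_singleton_iff]
        apply Subtype.ext
        show ConjClasses.mk (d.b (2 * j)) = ConjClasses.mk (d.b 0)
        rw [ConjClasses.mk_eq_mk_iff_isConj, isConj_comm, isConj_iff]
        obtain ⟨g, hg⟩ := d.exists_conj_b_even 0 j
        exact ⟨g, by rw [hg, zero_add]⟩
  · rw [Nat.card_eq_two_iff]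
    have hb1 : orderOf (d.b 1) = 4 := by
      have := d.orderOf_b_odd 0
      rwa [mul_zero, zero_add] at this
    refine ⟨⟨ConjClasses.mk d.qq, d.qq, (d.orderOf_eq_four_iff _).mpr (Or.inl rfl), rfl⟩,
      ⟨ConjClasses.mk (d.b 1), d.b 1, hb1, rfl⟩, ?_, ?_⟩
    · intro h
      have h1 : ConjClasses.mk d.qq = ConjClasses.mk (d.b 1) := congrArg Subtype.val h
      rw [ConjClasses.mk_eq_mk_iff_isConj, isConj_iff] at h1
      obtain ⟨c, hc⟩ := h1
      obtain ⟨i', hi'⟩ := d.conj_a c (z2quarter d.n)
      have : d.a i' = d.b 1 := by rw [← hi']; exact hc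
      exact d.a_ne_b _ _ this
    · rw [Set.eq_univ_iff_forall]
      rintro ⟨C, t, ht, rfl⟩
      rw [d.orderOf_eq_four_iff] at ht
      rcases ht with rfl | rfl | ⟨j, rfl⟩
      · left; rfl
      · left
        apply Subtype.ext
        show ConjClasses.mk (d.qq * d.zz) = ConjClasses.mk d.qq
        rw [ConjClasses.mk_eq_mk_iff_isConj, isConj_comm, isConj_iff]
        exact ⟨d.b 0, d.y_conj_qq⟩
      · right
        rw [Set.mem_singleton_iff]
        apply Subtype.ext
        show ConjClasses.mk (d.b (2 * j + 1)) = ConjClasses.mk (d.b 1)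
        rw [ConjClasses.mk_eq_mk_iff_isConj, isConj_comm, isConj_iff]
        obtain ⟨g, hg⟩ := d.exists_conj_b_even 1 j
        exact ⟨g, by rw [hg, add_comm]⟩

end Cfsg.Agent.S1189
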