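import Mathlib
-- Template for statement S1190 (row 1190; see /opt/grader/pristine/manifest.json for weights).
-- Copy to Cfsg/Agent/S1190.lean and replace the sorry. The statement below is byte-identical to the frozen
-- statement Cfsg.CfsgFrozen.S1190 (Cfsg/Statements/S1190.lean; the theorem Cfsg.quasidihedral_four_subgroups);
-- the grader kernel-checks Cfsg.Agent.S1190.result against that frozen type. Keep the theorem IN THIS FILE
-- (a `result` declared elsewhere and merely imported here is not credited); helpers may live anywhere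
-- under Cfsg/Agent/.
import Cfsg.Statements.S1190
import Cfsg.Agent.Lib.Helper3.QD4

set_option autoImplicit false
open Cfsg
open Cfsg.Agent.Lib.Helper3

namespace Cfsg.Agent.S1190

/-- In a quasi-dihedral 2-group S, any two Klein four-subgroups are conjugate, and every Klein four-subgroup T satisfies C_S(T) = T and |N_S(T) : T| = 2. -/
theorem result {S : Type*} [Group S] [Finite S] (hS : Cfsg.IsQuasiDihedral S) : (∀ T₁ T₂ : Subgroup S, IsKleinFour T₁ → IsKleinFour T₂ → ∃ s : S, T₁.map (MulAut.conj s).toMonoidHom = T₂) ∧ (∀ T : Subgroup S, IsKleinFour T → Subgroup.centralizer (T : Set S) = T ∧ T.relIndex (Subgroup.normalizer (T : Set S)) = 2) := by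
  obtain ⟨d⟩ := (isQuasiDihedral_iff S).mp hS
  constructor
  · intro T₁ T₂ hT₁ hT₂
    obtain ⟨j₁, hz₁, hb₁⟩ := d.klein_struct T₁ hT₁
    obtain ⟨j₂, hz₂, hb₂⟩ := d.klein_struct T₂ hT₂
    obtain ⟨s, hs⟩ := d.exists_conj_b_even (2 * j₁) (j₂ - j₁)
    have hs' : s * d.b (2 * j₁) * s⁻¹ = d.b (2 * j₂) := by
      rw [hs]; congr 1; ring
    refine ⟨s, ?_⟩
    apply Subgroup.eq_of_le_of_card_ge
    · rintro _ ⟨t, ht, rfl⟩
      show s * t * s⁻¹ ∈ T₂
      rcases d.klein_mem T₁ hT₁ j₁ hb₁ t ht with rfl | rfl | rfl | rfl
      · simp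
      · rw [d.zz_conj]; exact hz₂
      · rw [hs']; exact hb₂
      · rw [← d.zz_mul_b']
        have : s * (d.zz * d.b (2 * j₁)) * s⁻¹ = (s * d.zz * s⁻¹) * (s * d.b (2 * j₁) * s⁻¹) := by
          group
        rw [this, d.zz_conj, hs']
        exact T₂.mul_mem hz₂ hb₂
    · rw [Subgroup.card_map_of_injective (MulAut.conj s).injective, hT₁.card_four, hT₂.card_four]
  · intro T hT
    obtain ⟨j, hz, hb⟩ := d.klein_struct T hT
    have hcent : Subgroup.centralizer (T : Set S) = T := by
      apply le_antisymm
      · intro g hg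
        have h1 : g * d.b (2 * j) = d.b (2 * j) * g := (hg _ hb).symm
        rcases d.comm_b_even j g h1 with rfl | rfl | rfl | rfl
        · exact T.one_mem
        · exact hz
        · exact hb
        · rw [← d.zz_mul_b']; exact T.mul_mem hz hb
      · intro g hg t ht
        exact klein_comm T hT t g ht hg
    refine ⟨hcent, ?_⟩
    rw [Subgroup.relIndex_eq_two_iff]
    have hqT : d.qq ∉ T := by
      intro h
      have := klein_mem_sq T hT h
      rw [d.qq_mul_qq] at this
      exact d.zz_ne_one this
    refine ⟨d.qq, d.klein_mem_normalizer T hT j hz hb _ (Or.inr (d.qq_conj_b_even _)), ?_⟩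
    intro g hg
    rcases d.klein_of_mem_normalizer T hT j hb g hg with h | h
    · right
      have hgT : g ∈ T := by
        rw [← hcent]
        have h1 : g * d.b (2 * j) = d.b (2 * j) * g := by
          calc g * d.b (2 * j) = (g * d.b (2 * j) * g⁻¹) * g := by group
            _ = d.b (2 * j) * g := by rw [h]
        rcases d.comm_b_even j g h1 with rfl | rfl | rfl | rfl
        · exact Subgroup.one_mem _
        · rw [hcent]; exact hz
        · rw [hcent]; exact hb
        · rw [hcent, ← d.zz_mul_b']; exact T.mul_mem hz hb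
      refine ⟨hgT, ?_⟩
      intro h2
      apply hqT
      have : d.qq = g⁻¹ * (g * d.qq) := by group
      rw [this]
      exact T.mul_mem (T.inv_mem hgT) h2
    · left
      constructor
      · have h1 : (g * d.qq) * d.b (2 * j) = d.b (2 * j) * (g * d.qq) := by
          have e1 : (g * d.qq) * d.b (2 * j) = g * (d.qq * d.b (2 * j) * d.qq⁻¹) * d.qq := by group
          rw [e1, d.qq_conj_b_even]
          have e2 : g * (d.zz * d.b (2 * j)) * d.qq = (g * d.zz * g⁻¹) * (g * d.b (2 * j) * g⁻¹) * (g * d.qq) := by
            group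
          have e3 : d.zz * (d.zz * d.b (2 * j)) = d.b (2 * j) := by
            rw [← mul_assoc, d.zz_mul_zz, one_mul]
          rw [e2, d.zz_conj, h, e3]
        rcases d.comm_b_even j _ h1 with h2 | h2 | h2 | h2
        · rw [h2]; exact T.one_mem
        · rw [h2]; exact hz
        · rw [h2]; exact hb
        · rw [h2, ← d.zz_mul_b']; exact T.mul_mem hz hb
      · intro hgT
        have h1 := klein_comm T hT g (d.b (2 * j)) hgT hb
        have h2 : g * d.b (2 * j) * g⁻¹ = d.b (2 * j) := by rw [h1]; group
        rw [h2] at h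
        exact d.zz_mul_b_ne _ h.symm

end Cfsg.Agent.S1190
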