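import Mathlib
-- Template for statement S1191 (row 1191; see /opt/grader/pristine/manifest.json for weights).
-- Copy to Cfsg/Agent/S1191.lean and replace the sorry. The statement below is byte-identical to the frozen
-- statement Cfsg.CfsgFrozen.S1191 (Cfsg/Statements/S1191.lean; the theorem Cfsg.quasidihedral_quaternion_subgroups);
-- the grader kernel-checks Cfsg.Agent.S1191.result against that frozen type. Keep the theorem IN THIS FILE
-- (a `result` declared elsewhere and merely imported here is not credited); helpers may live anywhere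
-- under Cfsg/Agent/.
import Cfsg.Statements.S1191
import Cfsg.Agent.Lib.Helper3.QD5

set_option autoImplicit false
open Cfsg
open Cfsg.Agent.Lib.Helper3

namespace Cfsg.Agent.S1191

/-- In a quasi-dihedral 2-group S, any two subgroups isomorphic to the quaternion group of order 8 are conjugate, and each such subgroup Q satisfies C_S(Q) = Z(Q) and |N_S(Q) : Q| = 2. -/
theorem result {S : Type*} [Group S] [Finite S] (hS : Cfsg.IsQuasiDihedral S) : (∀ Q₁ Q₂ : Subgroup S, Nonempty (Q₁ ≃* QuaternionGroup 2) → Nonempty (Q₂ ≃* QuaternionGroup 2) → ∃ s : S, Q₁.map (MulAut.conj s).toMonoidHom = Q₂) ∧ (∀ Q : Subgroup S, Nonempty (Q ≃* QuaternionGroup 2) → Subgroup.centralizer (Q : Set S) = (Subgroup.center Q).map Q.subtype ∧ Q.relIndex (Subgroup.normalizer (Q : Set S)) = 2) := by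
  obtain ⟨d⟩ := (isQuasiDihedral_iff S).mp hS
  have hn := d.hn
  constructor
  · rintro Q₁ Q₂ ⟨e₁⟩ ⟨e₂⟩
    obtain ⟨m₁, hA₁, hB₁⟩ := d.q8_struct Q₁ e₁
    obtain ⟨m₂, hA₂, hB₂⟩ := d.q8_struct Q₂ e₂
    obtain ⟨s, hs⟩ := d.exists_conj_b_even (2 * m₁ + 1) (m₂ - m₁)
    have hs' : s * d.b (2 * m₁ + 1) * s⁻¹ = d.b (2 * m₂ + 1) := by
      rw [hs]; congr 1; ring
    refine ⟨s, ?_⟩
    have hmapA : ∀ i, z2R4 d.n i → s * d.a i * s⁻¹ ∈ Q₂ := by
      intro i hi
      obtain ⟨i', hi', h | h⟩ := d.conj_a' s i
      · rw [hi', h, hA₂]; exact hi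
      · rw [hi', h, hA₂]; exact z2R4_mul d.n _ _ hi
    apply Subgroup.eq_of_le_of_card_ge
    · rintro _ ⟨t, ht, rfl⟩
      show s * t * s⁻¹ ∈ Q₂
      rcases d.cases t with ⟨i, rfl⟩ | ⟨i, rfl⟩
      · exact hmapA i ((hA₁ i).mp ht)
      · have hi := (hB₁ i).mp ht
        have e1 : d.b i = d.a (i - (2 * m₁ + 1)) * d.b (2 * m₁ + 1) := by
          rw [QDData.a_mul_b]; congr 1; ring
        have e2 : s * d.b i * s⁻¹ = (s * d.a (i - (2 * m₁ + 1)) * s⁻¹) *
            (s * d.b (2 * m₁ + 1) * s⁻¹) := by rw [e1]; group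
        rw [e2, hs']
        apply Q₂.mul_mem (hmapA _ hi)
        rw [hB₂, sub_self]
        unfold z2R4; ring
    · rw [Subgroup.card_map_of_injective (MulAut.conj s).injective, q8_sub_card Q₁ e₁,
        q8_sub_card Q₂ e₂]
  · rintro Q ⟨e⟩
    obtain ⟨m, hA, hB⟩ := d.q8_struct Q e
    have hcQ : d.b (2 * m + 1) ∈ Q := by
      rw [hB, sub_self]; unfold z2R4; ring
    have hqQ : d.qq ∈ Q := (hA _).mpr d.z2R4_quarter
    have hCle : Subgroup.centralizer (Q : Set S) ≤ Q := by
      intro g hg
      rcases d.cases g with ⟨i, rfl⟩ | ⟨i, rfl⟩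
      · have h1 : d.a i * d.b (2 * m + 1) = d.b (2 * m + 1) * d.a i := (hg _ hcQ).symm
        rw [QDData.a_comm_b_iff] at h1
        rw [hA, z2R4_iff d.n d.n_two]
        rcases h1 with h | h
        · left; exact h
        · right; left; exact h
      · exfalso
        have h1 : d.a (z2quarter d.n) * d.b i = d.b i * d.a (z2quarter d.n) := hg _ hqQ
        rw [QDData.a_comm_b_iff] at h1
        rcases h1 with h | h
        · exact z2_quarter_ne_zero d.n d.n_two h
        · exact z2_half_ne_quarter d.n d.n_two h.symm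
    constructor
    · ext g
      constructor
      · intro hg
        refine ⟨⟨g, hCle hg⟩, ?_, rfl⟩
        rw [SetLike.mem_coe, Subgroup.mem_center_iff]
        intro q
        apply Subtype.ext
        exact hg q.1 q.2
      · rintro ⟨q, hq, rfl⟩
        rw [SetLike.mem_coe, Subgroup.mem_center_iff] at hq
        intro t ht
        have := hq ⟨t, ht⟩
        exact congrArg Subtype.val this
    · rw [Subgroup.relIndex_eq_two_iff]
      set w := d.a (z2eighth d.n) with hw
      have hwN : w ∈ Subgroup.normalizer (Q : Set S) := by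
        rw [Subgroup.mem_normalizer_iff]
        intro h
        rcases d.cases h with ⟨i, rfl⟩ | ⟨i, rfl⟩
        · rw [hw, QDData.a_conj_a]
        · rw [hw, QDData.a_conj_b, hB, hB]
          constructor
          · intro h1
            have : i + (1 - d.kk) * z2eighth d.n - (2 * m + 1) =
                (i - (2 * m + 1)) + (1 - d.kk) * z2eighth d.n := by ring
            rw [this]
            exact z2R4_add d.n _ _ h1 d.z2R4_delta
          · intro h1
            have : i - (2 * m + 1) =
                (i + (1 - d.kk) * z2eighth d.n - (2 * m + 1)) - (1 - d.kk) * z2eighth d.n := by ring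
            rw [this]
            exact z2R4_sub d.n _ _ h1 d.z2R4_delta
      refine ⟨w, hwN, ?_⟩
      intro g hg
      have hgc : g * d.b (2 * m + 1) * g⁻¹ ∈ Q := (Subgroup.mem_normalizer_iff.mp hg _).mp hcQ
      -- dichotomy
      have hdich : ∀ t : ZMod (2 ^ d.n), 2 * t = 0 → (g ∈ Q ↔ t = 0) →
          (g * w ∈ Q ↔ t + z2half d.n = 0) → Xor (g * w ∈ Q) (g ∈ Q) := by
        intro t ht h1 h2
        rw [z2_two_mul_eq_zero d.n d.n_pos] at ht
        rcases ht with rfl | rfl
        · right
          refine ⟨h1.mpr rfl, ?_⟩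
          rw [h2, zero_add]
          exact z2_half_ne_zero d.n d.n_pos
        · left
          refine ⟨h2.mpr (z2_half_add_half d.n d.n_pos), ?_⟩
          rw [h1]
          exact z2_half_ne_zero d.n d.n_pos
      rcases d.cases g with ⟨i, rfl⟩ | ⟨i, rfl⟩
      · rw [QDData.a_conj_b, hB] at hgc
        have hR : z2R4 d.n ((1 - d.kk) * i) := by
          have : 2 * m + 1 + (1 - d.kk) * i - (2 * m + 1) = (1 - d.kk) * i := by ring
          rwa [this] at hgc
        apply hdich (2 * (2 * i))
        · unfold z2R4 at hR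
          rw [QDData.one_sub_kk] at hR
          have : 2 * (2 * ((2 - z2half d.n) * i)) = 2 * (2 * (2 * i)) - (2 * (2 * z2half d.n)) * i := by
            ring
          rw [this, d.four_half, zero_mul, sub_zero] at hR
          exact hR
        · rw [hA]; rfl
        · rw [hw, QDData.a_mul_a, hA]
          unfold z2R4
          have : 2 * (2 * (i + z2eighth d.n)) = 2 * (2 * i) + 2 * (2 * z2eighth d.n) := by ring
          rw [this, d.four_eighth]
      · rw [QDData.b_conj_b, hB] at hgc
        have hR : z2R4 d.n ((1 - d.kk) * (i - (2 * m + 1))) := by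
          have : d.kk * (2 * m + 1) + (1 - d.kk) * i - (2 * m + 1) =
              (1 - d.kk) * (i - (2 * m + 1)) := by ring
          rwa [this] at hgc
        apply hdich (2 * (2 * (i - (2 * m + 1))))
        · unfold z2R4 at hR
          rw [QDData.one_sub_kk] at hR
          have : 2 * (2 * ((2 - z2half d.n) * (i - (2 * m + 1)))) =
              2 * (2 * (2 * (i - (2 * m + 1)))) - (2 * (2 * z2half d.n)) * (i - (2 * m + 1)) := by
            ring
          rw [this, d.four_half, zero_mul, sub_zero] at hR
          exact hR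
        · rw [hB]; rfl
        · rw [hw, QDData.b_mul_a, hB]
          unfold z2R4
          have : 2 * (2 * (i + d.kk * z2eighth d.n - (2 * m + 1))) =
              2 * (2 * (i - (2 * m + 1))) + d.kk * (2 * (2 * z2eighth d.n)) := by ring
          rw [this, d.four_eighth, QDData.kk_mul_half]

end Cfsg.Agent.S1191
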