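import Mathlib
-- Template for statement S1192 (row 1192; see /opt/grader/pristine/manifest.json for weights).
-- Copy to Cfsg/Agent/S1192.lean and replace the sorry. The statement below is byte-identical to the frozen
-- statement Cfsg.CfsgFrozen.S1192 (Cfsg/Statements/S1192.lean; the theorem Cfsg.quasidihedral_maximal_subgroups);
-- the grader kernel-checks Cfsg.Agent.S1192.result against that frozen type. Keep the theorem IN THIS FILE
-- (a `result` declared elsewhere and merely imported here is not credited); helpers may live anywhere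
-- under Cfsg/Agent/.
import Cfsg.Statements.S1192
import Cfsg.Agent.Lib.Helper3.QD8

set_option autoImplicit false
open Cfsg
open Cfsg.Agent.Lib.Helper3

namespace Cfsg.Agent.S1192

/-- A quasi-dihedral group S of order 2^(n+1) has exactly three maximal subgroups; one is cyclic, one is isomorphic to the generalized quaternion group of order 2^n and one to the dihedral group of order 2^n. -/
theorem result {S : Type*} [Group S] [Finite S] (hS : Cfsg.IsQuasiDihedral S) (n : ℕ) (hn : Nat.card S = 2 ^ (n + 1)) : ∃ M₁ M₂ M₃ : Subgroup S, IsCoatom M₁ ∧ IsCoatom M₂ ∧ IsCoatom M₃ ∧ M₁ ≠ M₂ ∧ M₁ ≠ M₃ ∧ M₂ ≠ M₃ ∧ (∀ M : Subgroup S, IsCoatom M → M = M₁ ∨ M = M₂ ∨ M = M₃) ∧ IsCyclic M₁ ∧ Nonempty (M₂ ≃* QuaternionGroup (2 ^ (n - 2))) ∧ Nonempty (M₃ ≃* DihedralGroup (2 ^ (n - 1))) := by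
  obtain ⟨d⟩ := (isQuasiDihedral_iff S).mp hS
  have hdn := d.n_eq n hn
  refine ⟨Subgroup.zpowers d.x, d.subQ, d.subD, d.isCoatom_zpowers,
    isCoatom_of_index_two _ d.index_subQ, isCoatom_of_index_two _ d.index_subD, ?_, ?_, ?_,
    d.coatom_cases, inferInstance, ?_, ?_⟩
  · intro h
    apply d.a_one_not_mem_subQ
    rw [← h]; exact d.a_mem_zpowers 1
  · intro h
    apply d.a_one_not_mem_subD
    rw [← h]; exact d.a_mem_zpowers 1
  · intro h
    apply d.b_zero_not_mem_subQ
    rw [h]; exact d.b_zero_mem_subD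
  · rw [← hdn]; exact d.subQ_equiv
  · rw [← hdn]
    obtain ⟨h1, ⟨e⟩⟩ := d.closure_b_eq_subD
    exact ⟨(MulEquiv.subgroupCongr h1).symm.trans e⟩

end Cfsg.Agent.S1192
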