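import Mathlib
-- Template for statement S1193 (row 1193; see /opt/grader/pristine/manifest.json for weights).
-- Copy to Cfsg/Agent/S1193.lean and replace the sorry. The statement below is byte-identical to the frozen
-- statement Cfsg.CfsgFrozen.S1193 (Cfsg/Statements/S1193.lean; the theorem Cfsg.quasidihedral_derived_frattini_omega);
-- the grader kernel-checks Cfsg.Agent.S1193.result against that frozen type. Keep the theorem IN THIS FILE
-- (a `result` declared elsewhere and merely imported here is not credited); helpers may live anywhere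
-- under Cfsg/Agent/.
import Cfsg.Statements.S1193
import Cfsg.Agent.Lib.Helper3.QD9

set_option autoImplicit false
open Cfsg
open Cfsg.Agent.Lib.Helper3

namespace Cfsg.Agent.S1193

/-- Let S be quasi-dihedral of order 2^(n+1). Then S' = Φ(S) is cyclic of order 2^(n-1), the centre of S has order 2, and the subgroup generated by the involutions of S is dihedral of order 2^n. -/
theorem result {S : Type*} [Group S] [Finite S] (hS : Cfsg.IsQuasiDihedral S) (n : ℕ) (hn : Nat.card S = 2 ^ (n + 1)) : commutator S = frattini S ∧ IsCyclic (commutator S) ∧ Nat.card (commutator S) = 2 ^ (n - 1) ∧ Nat.card (Subgroup.center S) = 2 ∧ Nonempty (↥(Subgroup.closure {x : S | orderOf x = 2}) ≃* DihedralGroup (2 ^ (n - 1))) := by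
  obtain ⟨d⟩ := (isQuasiDihedral_iff S).mp hS
  have hdn := d.n_eq n hn
  refine ⟨?_, ?_, ?_, ?_, ?_⟩
  · rw [d.commutator_eq, d.frattini_eq]
  · rw [d.commutator_eq]; infer_instance
  · rw [d.commutator_eq, Nat.card_zpowers, d.orderOf_a_two, hdn]
  · rw [d.center_eq, Nat.card_zpowers, d.orderOf_zz]
  · rw [← hdn]
    obtain ⟨_, ⟨e⟩⟩ := d.closure_b_eq_subD
    exact ⟨(MulEquiv.subgroupCongr d.closure_involutions_eq).trans e⟩

end Cfsg.Agent.S1193
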