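import Mathlib
-- Template for statement S1194 (row 1194; see /opt/grader/pristine/manifest.json for weights).
-- Copy to Cfsg/Agent/S1194.lean and replace the sorry. The statement below is byte-identical to the frozen
-- statement Cfsg.CfsgFrozen.S1194 (Cfsg/Statements/S1194.lean; the theorem Cfsg.quasidihedral_normal_subgroups);
-- the grader kernel-checks Cfsg.Agent.S1194.result against that frozen type. Keep the theorem IN THIS FILE
-- (a `result` declared elsewhere and merely imported here is not credited); helpers may live anywhere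
-- under Cfsg/Agent/.
import Cfsg.Statements.S1194
import Cfsg.Agent.Lib.Helper3.QD6

set_option autoImplicit false
open Cfsg
open Cfsg.Agent.Lib.Helper3

namespace Cfsg.Agent.S1194

/-- In a quasi-dihedral 2-group S, every proper normal subgroup is either a maximal subgroup or a cyclic subgroup contained in the derived subgroup S'. -/
theorem result {S : Type*} [Group S] [Finite S] (hS : Cfsg.IsQuasiDihedral S) (N : Subgroup S) [N.Normal] (hN : N ≠ ⊤) : IsCoatom N ∨ (IsCyclic N ∧ N ≤ commutator S) := by
  obtain ⟨d⟩ := (isQuasiDihedral_iff S).mp hS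
  by_cases hNC : N ≤ Subgroup.zpowers d.x
  · by_cases hodd : ∃ j, d.a (2 * j + 1) ∈ N
    · left
      obtain ⟨j, hj⟩ := hodd
      have hA := d.all_a_of_odd N j hj
      refine ⟨hN, ?_⟩
      intro K hK
      obtain ⟨g, hgK, hgN⟩ := SetLike.exists_of_lt hK
      rcases d.cases g with ⟨i, rfl⟩ | ⟨i, rfl⟩
      · exact absurd (hA i) hgN
      · exact d.eq_top_of K (fun i => hK.le (hA i)) i hgK
    · right
      constructor
      · exact Subgroup.isCyclic_of_le hNC
      · intro g hg
        obtain ⟨i, rfl⟩ := (d.mem_zpowers_iff g).mp (hNC hg)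
        obtain ⟨j, rfl | rfl⟩ := z2_parity d.n i
        · exact d.a_even_mem_commutator j
        · exact absurd ⟨j, hg⟩ hodd
  · left
    obtain ⟨g, hgN, hgC⟩ := SetLike.not_le_iff_exists.mp hNC
    rcases d.cases g with ⟨i, rfl⟩ | ⟨i₀, rfl⟩
    · exact absurd (d.a_mem_zpowers i) hgC
    have hev := d.normal_contains_even N i₀ hgN
    refine ⟨hN, ?_⟩
    intro K hK
    obtain ⟨g, hgK, hgN'⟩ := SetLike.exists_of_lt hK
    have hoddK : ∃ j, d.a (2 * j + 1) ∈ K := by
      rcases d.cases g with ⟨i, rfl⟩ | ⟨i, rfl⟩
      · obtain ⟨j, rfl | rfl⟩ := z2_parity d.n i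
        · exact absurd (hev j) hgN'
        · exact ⟨j, hgK⟩
      · obtain ⟨j, hj | hj⟩ := z2_parity d.n (i - i₀)
        · exfalso
          apply hgN'
          have : i = i₀ + 2 * j := by rw [← hj]; ring
          rw [this]
          exact d.b_add_even_mem N hev i₀ hgN j
        · refine ⟨j, ?_⟩
          have : d.a (2 * j + 1) = d.b i * (d.b i₀)⁻¹ := by
            rw [QDData.b_inv, QDData.b_mul_b, ← hj]; congr 1
            rw [mul_neg, ← mul_assoc, QDData.kk_mul_kk]; ring
          rw [this]
          exact K.mul_mem hgK (K.inv_mem (hK.le hgN))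
    obtain ⟨j, hj⟩ := hoddK
    exact d.eq_top_of K (d.all_a_of_odd K j hj) i₀ (hK.le hgN)

end Cfsg.Agent.S1194
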