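import Mathlib
-- Template for statement S1195 (row 1195; see /opt/grader/pristine/manifest.json for weights).
-- Copy to Cfsg/Agent/S1195.lean and replace the sorry. The statement below is byte-identical to the frozen
-- statement Cfsg.CfsgFrozen.S1195 (Cfsg/Statements/S1195.lean; the theorem Cfsg.wreathed_three_classes_of_involutions);
-- the grader kernel-checks Cfsg.Agent.S1195.result against that frozen type. Keep the theorem IN THIS FILE
-- (a `result` declared elsewhere and merely imported here is not credited); helpers may live anywhere
-- under Cfsg/Agent/.
import Cfsg.Statements.S1195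
import Cfsg.Agent.Lib.Helper3.Wr2

set_option autoImplicit false
open Cfsg
open Cfsg.Agent.Lib.Helper3

namespace Cfsg.Agent.S1195

/-- A wreathed 2-group has exactly three conjugacy classes of elements of order 2. -/
theorem result {S : Type*} [Group S] [Finite S] (hS : Cfsg.IsWreathed S) : Nat.card {C : ConjClasses S // ∃ t : S, orderOf t = 2 ∧ ConjClasses.mk t = C} = 3 := by
  obtain ⟨d⟩ := (isWreathed_iff S).mp hS
  exact d.card_involution_classes

end Cfsg.Agent.S1195
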