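import Mathlib
-- Template for statement S1196 (row 1196; see /opt/grader/pristine/manifest.json for weights).
-- Copy to Cfsg/Agent/S1196.lean and replace the sorry. The statement below is byte-identical to the frozen
-- statement Cfsg.CfsgFrozen.S1196 (Cfsg/Statements/S1196.lean; the theorem Cfsg.wreathed_unique_abelian_maximal_subgroup);
-- the grader kernel-checks Cfsg.Agent.S1196.result against that frozen type. Keep the theorem IN THIS FILE
-- (a `result` declared elsewhere and merely imported here is not credited); helpers may live anywhere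
-- under Cfsg/Agent/.
import Cfsg.Statements.S1196
import Cfsg.Agent.Lib.Helper3.Wr3

set_option autoImplicit false
open Cfsg
open Cfsg.Agent.Lib.Helper3

namespace Cfsg.Agent.S1196

/-- A wreathed 2-group S of order 2^(2n+1) has a unique commutative subgroup of order 2^(2n), and this subgroup is isomorphic to the direct product of two cyclic groups of order 2^n. -/
theorem result {S : Type*} [Group S] [Finite S] (hS : Cfsg.IsWreathed S) (n : ℕ) (hn : Nat.card S = 2 ^ (2 * n + 1)) : (∃! U : Subgroup S, IsMulCommutative U ∧ Nat.card U = 2 ^ (2 * n)) ∧ ∀ U : Subgroup S, IsMulCommutative U → Nat.card U = 2 ^ (2 * n) → Nonempty (U ≃* Multiplicative (ZMod (2 ^ n) × ZMod (2 ^ n))) := by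
  obtain ⟨d⟩ := (isWreathed_iff S).mp hS
  obtain rfl := d.n_eq n hn
  refine ⟨⟨d.U, ⟨d.U_comm, d.card_U⟩, ?_⟩, ?_⟩
  · rintro A ⟨hA, hc⟩
    exact d.eq_U_of_comm A hA hc
  · intro A hA hc
    have := d.eq_U_of_comm A hA hc
    subst this
    exact ⟨d.mulEquivU⟩

end Cfsg.Agent.S1196
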