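import Mathlib
-- Template for statement S1197 (row 1197; see /opt/grader/pristine/manifest.json for weights).
-- Copy to Cfsg/Agent/S1197.lean and replace the sorry. The statement below is byte-identical to the frozen
-- statement Cfsg.CfsgFrozen.S1197 (Cfsg/Statements/S1197.lean; the theorem Cfsg.wreathed_center_and_derived_subgroup);
-- the grader kernel-checks Cfsg.Agent.S1197.result against that frozen type. Keep the theorem IN THIS FILE
-- (a `result` declared elsewhere and merely imported here is not credited); helpers may live anywhere
-- under Cfsg/Agent/.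
import Cfsg.Statements.S1197
import Cfsg.Agent.Lib.Helper3.Wr6

set_option autoImplicit false
open Cfsg
open Cfsg.Agent.Lib.Helper3

namespace Cfsg.Agent.S1197

/-- Let S be a wreathed 2-group of order 2^(2n+1). Then Z(S) is cyclic of order 2^n, the derived subgroup S' is cyclic of order 2^n, and S/Z(S) is isomorphic to the dihedral group of order 2^(n+1). -/
theorem result {S : Type*} [Group S] [Finite S] (hS : Cfsg.IsWreathed S) (n : ℕ) (hn : Nat.card S = 2 ^ (2 * n + 1)) : IsCyclic (Subgroup.center S) ∧ Nat.card (Subgroup.center S) = 2 ^ n ∧ IsCyclic (commutator S) ∧ Nat.card (commutator S) = 2 ^ n ∧ Nonempty (S ⧸ Subgroup.center S ≃* DihedralGroup (2 ^ n)) := by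
  obtain ⟨d⟩ := (isWreathed_iff S).mp hS
  obtain rfl := d.n_eq n hn
  exact ⟨d.isCyclic_center, d.card_center, d.isCyclic_commutator, d.card_commutator, ⟨d.quotCenterEquiv⟩⟩

end Cfsg.Agent.S1197
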