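import Mathlib
-- Template for statement S1198 (row 1198; see /opt/grader/pristine/manifest.json for weights).
-- Copy to Cfsg/Agent/S1198.lean and replace the sorry. The statement below is byte-identical to the frozen
-- statement Cfsg.CfsgFrozen.S1198 (Cfsg/Statements/S1198.lean; the theorem Cfsg.wreathed_four_subgroups);
-- the grader kernel-checks Cfsg.Agent.S1198.result against that frozen type. Keep the theorem IN THIS FILE
-- (a `result` declared elsewhere and merely imported here is not credited); helpers may live anywhere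
-- under Cfsg/Agent/.
import Cfsg.Statements.S1198
import Cfsg.Agent.Lib.Helper3.Wr4

set_option autoImplicit false
open Cfsg
open Cfsg.Agent.Lib.Helper3

namespace Cfsg.Agent.S1198

/-- A wreathed 2-group S has a normal Klein four-subgroup T such that every Klein four-subgroup of S other than T is conjugate in S to any other such subgroup; in particular S has exactly two conjugacy classes of Klein four-subgroups. -/
theorem result {S : Type*} [Group S] [Finite S] (hS : Cfsg.IsWreathed S) : ∃ T : Subgroup S, IsKleinFour T ∧ T.Normal ∧ (∃ T₀ : Subgroup S, IsKleinFour T₀ ∧ T₀ ≠ T) ∧ ∀ T₁ T₂ : Subgroup S, IsKleinFour T₁ → IsKleinFour T₂ → T₁ ≠ T → T₂ ≠ T → ∃ s : S, T₁.map (MulAut.conj s).toMonoidHom = T₂ := by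
  obtain ⟨d⟩ := (isWreathed_iff S).mp hS
  refine ⟨d.omegaU, d.isKleinFour_omegaU, d.omegaU_normal, ⟨d.kl 0, d.isKleinFour_kl 0, d.kl_ne_omegaU 0⟩, ?_⟩
  intro T₁ T₂ h₁ h₂ hne₁ hne₂
  obtain ⟨i, rfl⟩ := d.klein_eq_kl T₁ h₁ hne₁
  obtain ⟨j, rfl⟩ := d.klein_eq_kl T₂ h₂ hne₂
  exact ⟨_, d.kl_conj i j⟩

end Cfsg.Agent.S1198
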