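import Mathlib
-- Template for statement S1199 (row 1199; see /opt/grader/pristine/manifest.json for weights).
-- Copy to Cfsg/Agent/S1199.lean and replace the sorry. The statement below is byte-identical to the frozen
-- statement Cfsg.CfsgFrozen.S1199 (Cfsg/Statements/S1199.lean; the theorem Cfsg.wreathed_unique_generalized_quaternion_subgroup);
-- the grader kernel-checks Cfsg.Agent.S1199.result against that frozen type. Keep the theorem IN THIS FILE
-- (a `result` declared elsewhere and merely imported here is not credited); helpers may live anywhere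
-- under Cfsg/Agent/.
import Cfsg.Statements.S1199
import Cfsg.Agent.Lib.Helper3.Wr8

set_option autoImplicit false
open Cfsg
open Cfsg.Agent.Lib.Helper3

namespace Cfsg.Agent.S1199

/-- A wreathed 2-group S of order 2^(2n+1) has exactly one subgroup of order 2^(n+1) isomorphic to a generalized quaternion group, and that subgroup is normal in S. -/
theorem result {S : Type*} [Group S] [Finite S] (hS : Cfsg.IsWreathed S) (n : ℕ) (hn : Nat.card S = 2 ^ (2 * n + 1)) : (∃! Y : Subgroup S, Nat.card Y = 2 ^ (n + 1) ∧ Nonempty (Y ≃* QuaternionGroup (2 ^ (n - 1)))) ∧ ∀ Y : Subgroup S, Nat.card Y = 2 ^ (n + 1) → Nonempty (Y ≃* QuaternionGroup (2 ^ (n - 1))) → Y.Normal := by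
  obtain ⟨d⟩ := (isWreathed_iff S).mp hS
  obtain rfl := d.n_eq n hn
  refine ⟨⟨d.quatS, ⟨d.card_quatS, d.quatS_equiv⟩, ?_⟩, ?_⟩
  · rintro Y ⟨hc, ⟨φ⟩⟩
    exact d.eq_quatS Y hc φ
  · rintro Y hc ⟨φ⟩
    rw [d.eq_quatS Y hc φ]
    exact d.quatS_normal

end Cfsg.Agent.S1199
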