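import Mathlib
-- Template for statement S1200 (row 1200; see /opt/grader/pristine/manifest.json for weights).
-- Copy to Cfsg/Agent/S1200.lean and replace the sorry. The statement below is byte-identical to the frozen
-- statement Cfsg.CfsgFrozen.S1200 (Cfsg/Statements/S1200.lean; the theorem Cfsg.wreathed_omega_one);
-- the grader kernel-checks Cfsg.Agent.S1200.result against that frozen type. Keep the theorem IN THIS FILE
-- (a `result` declared elsewhere and merely imported here is not credited); helpers may live anywhere
-- under Cfsg/Agent/.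
import Cfsg.Statements.S1200
import Cfsg.Agent.Lib.Helper3.Wr7

set_option autoImplicit false
open Cfsg
open Cfsg.Agent.Lib.Helper3

namespace Cfsg.Agent.S1200

/-- Let S be a wreathed 2-group of order 2^(2n+1) and Ω the subgroup generated by its involutions. Then Ω has order 2^(n+2) and S/Ω is cyclic: some s ∈ S together with Ω generates S. -/
theorem result {S : Type*} [Group S] [Finite S] (hS : Cfsg.IsWreathed S) (n : ℕ) (hn : Nat.card S = 2 ^ (2 * n + 1)) : Nat.card (Subgroup.closure {x : S | orderOf x = 2}) = 2 ^ (n + 2) ∧ ∃ s : S, Subgroup.closure {x : S | orderOf x = 2} ⊔ Subgroup.zpowers s = ⊤ := by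
  obtain ⟨d⟩ := (isWreathed_iff S).mp hS
  obtain rfl := d.n_eq n hn
  rw [d.closure_involutions_eq]
  exact ⟨d.card_omegaS, d.c 1 0, d.omegaS_sup_zpowers⟩

end Cfsg.Agent.S1200
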