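import Mathlib
-- Template for statement S1201 (row 1201; see /opt/grader/pristine/manifest.json for weights).
-- Copy to Cfsg/Agent/S1201.lean and replace the sorry. The statement below is byte-identical to the frozen
-- statement Cfsg.CfsgFrozen.S1201 (Cfsg/Statements/S1201.lean; the theorem Cfsg.wreathed_center_of_nonabelian_subgroup);
-- the grader kernel-checks Cfsg.Agent.S1201.result against that frozen type. Keep the theorem IN THIS FILE
-- (a `result` declared elsewhere and merely imported here is not credited); helpers may live anywhere
-- under Cfsg/Agent/.
import Cfsg.Statements.S1201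
import Cfsg.Agent.Lib.Helper3.Wr2

set_option autoImplicit false
open Cfsg
open Cfsg.Agent.Lib.Helper3

namespace Cfsg.Agent.S1201

/-- If X is a non-commutative subgroup of a wreathed 2-group S, then Z(X) ≤ Z(S). -/
theorem result {S : Type*} [Group S] [Finite S] (hS : Cfsg.IsWreathed S) (X : Subgroup S) (hX : ¬ IsMulCommutative X) : (Subgroup.center X).map X.subtype ≤ Subgroup.center S := by
  obtain ⟨d⟩ := (isWreathed_iff S).mp hS
  exact d.center_le_of_not_comm X hX

end Cfsg.Agent.S1201
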