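import Mathlib
-- Template for statement S1202 (row 1202; see /opt/grader/pristine/manifest.json for weights).
-- Copy to Cfsg/Agent/S1202.lean and replace the sorry. The statement below is byte-identical to the frozen
-- statement Cfsg.CfsgFrozen.S1202 (Cfsg/Statements/S1202.lean; the theorem Cfsg.wreathed_self_centralizing_subgroups_with_odd_automorphisms);
-- the grader kernel-checks Cfsg.Agent.S1202.result against that frozen type. Keep the theorem IN THIS FILE
-- (a `result` declared elsewhere and merely imported here is not credited); helpers may live anywhere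
-- under Cfsg/Agent/.
import Cfsg.Statements.S1202
import Cfsg.Agent.Lib.Helper3.WrAut7

set_option autoImplicit false
open Cfsg
open Cfsg.Agent.Lib.Helper3

namespace Cfsg.Agent.S1202

/-- Let S be a wreathed 2-group of order 2^(2n+1) and X a subgroup with C_S(X) ≤ X such that Aut(X) is not a 2-group. Then |N_S(X) : X| = 2, and either X is the commutative subgroup of order 2^(2n), or X = Q·Z(S) for some subgroup Q ≅ Q₈; in the latter case any two such subgroups are conjugate in S. -/
theorem result {S : Type*} [Group S] [Finite S] (hS : Cfsg.IsWreathed S) (n : ℕ) (hn : Nat.card S = 2 ^ (2 * n + 1)) (X : Subgroup S) (hC : Subgroup.centralizer (X : Set S) ≤ X) (hA : ¬ IsPGroup 2 (MulAut X)) : X.relIndex (Subgroup.normalizer (X : Set S)) = 2 ∧ ((IsMulCommutative X ∧ Nat.card X = 2 ^ (2 * n)) ∨ ∃ Q : Subgroup S, Nonempty (Q ≃* QuaternionGroup 2) ∧ X = Q ⊔ Subgroup.center S) ∧ ∀ X' : Subgroup S, Subgroup.centralizer (X' : Set S) ≤ X' → ¬ IsPGroup 2 (MulAut X') → ¬ IsMulCommutative X → ¬ IsMulCommutative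 X' → ∃ s : S, X.map (MulAut.conj s).toMonoidHom = X' := by
  obtain ⟨d⟩ := (isWreathed_iff _).mp hS
  have hdn : d.n = n := d.n_eq n hn
  have hUc : IsMulCommutative ↥d.U := by
    refine ⟨⟨?_⟩⟩
    rintro ⟨a, ha⟩ ⟨b, hb⟩
    obtain ⟨i, j, rfl⟩ := (d.mem_U_iff _).mp ha
    obtain ⟨k, l, rfl⟩ := (d.mem_U_iff _).mp hb
    apply Subtype.ext
    exact d.c_comm_c _ _ _ _
  rcases d.selfcent_cases X hC hA with rfl | ⟨κ', rfl⟩
  · refine ⟨?_, Or.inl ⟨hUc, by rw [d.card_U, hdn]⟩, ?_⟩
    · have hnorm : d.U.Normal := Subgroup.normal_of_index_eq_two d.index_U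
      rw [Subgroup.normalizer_eq_top, Subgroup.relIndex_top_right, d.index_U]
    · intro X' _ _ hnc
      exact absurd hUc hnc
  · refine ⟨d.relIndex_Vk_normalizer _, Or.inr ⟨d.q8Sub κ', d.q8Sub_equiv κ',
      (d.q8Sub_sup_center κ').symm⟩, ?_⟩
    intro X' hC' hA' _ hnc'
    rcases d.selfcent_cases X' hC' hA' with rfl | ⟨κ'', rfl⟩
    · exact absurd hUc hnc'
    · refine ⟨d.c (κ'' - κ') 0, ?_⟩
      rw [d.Vk_conj]
      congr 1
      ring

end Cfsg.Agent.S1202
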