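import Mathlib
-- Template for statement S1204 (row 1204; see /opt/grader/pristine/manifest.json for weights).
-- Copy to Cfsg/Agent/S1204.lean and replace the sorry. The statement below is byte-identical to the frozen
-- statement Cfsg.CfsgFrozen.S1204 (Cfsg/Statements/S1204.lean; the theorem Cfsg.quasidihedral_sylow_fusion_simple_case);
-- the grader kernel-checks Cfsg.Agent.S1204.result against that frozen type. Keep the theorem IN THIS FILE
-- (a `result` declared elsewhere and merely imported here is not credited); helpers may live anywhere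
-- under Cfsg/Agent/.
import Cfsg.Statements.S1204
import Cfsg.Agent.Lib.Helper3.QDFusion1

set_option autoImplicit false
open Cfsg
open Cfsg.Agent.Lib.Helper3

namespace Cfsg.Agent.S1204

/-- Let G be a finite group with quasi-dihedral Sylow 2-subgroup S, T a Klein four-subgroup and Q a quaternion subgroup of order 8 of S, with |N_G(T) : C_G(T)| = 6 and |N_G(Q) : Q C_G(Q)| = 6. Then G has no subgroup of index 2, exactly one conjugacy class of involutions and exactly one conjugacy class of elements of order 4. -/
theorem result {G : Type*} [Group G] [Finite G] (S : Sylow 2 G) (hS : Cfsg.IsQuasiDihedral (S : Subgroup G)) (T : Subgroup G) (hT : IsKleinFour T) (hTS : T ≤ S) (Q : Subgroup G) (hQS : Q ≤ S) (eQ : Q ≃* QuaternionGroup 2) (h₁ : (Subgroup.centralizer (T : Set G)).relIndex (Subgroup.normalizer (T : Set G)) = 6) (h₂ : (Q ⊔ Subgroup.centralizer (Q : Set G)).relIndex (Subgroup.normalizer (Q : Set G)) = 6) : (∀ H : Subgroup G, H.index ≠ 2) ∧ Nat.card {C : ConjClasses G // ∃ t : G, orderOf t = 2 ∧ ConjClasses.mk t = C} = 1 ∧ Nat.card {C : ConjClasses G //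 ∃ t : G, orderOf t = 4 ∧ ConjClasses.mk t = C} = 1 := by
  obtain ⟨d⟩ := (isQuasiDihedral_iff _).mp hS
  have hinv := qd_zz_conj_b_of_six S d T hT hTS h₁
  have hfour := qd_qq_conj_b_of_six S d Q hQS eQ h₂
  exact ⟨qd_no_index_two S d hinv hfour, qd_card_inv_classes_of_conj S d hinv,
    qd_card_four_classes_of_conj S d hfour⟩

end Cfsg.Agent.S1204
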