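import Mathlib
-- Template for statement S1205 (row 1205; see /opt/grader/pristine/manifest.json for weights).
-- Copy to Cfsg/Agent/S1205.lean and replace the sorry. The statement below is byte-identical to the frozen
-- statement Cfsg.CfsgFrozen.S1205 (Cfsg/Statements/S1205.lean; the theorem Cfsg.quasidihedral_sylow_fusion_quaternion_case);
-- the grader kernel-checks Cfsg.Agent.S1205.result against that frozen type. Keep the theorem IN THIS FILE
-- (a `result` declared elsewhere and merely imported here is not credited); helpers may live anywhere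
-- under Cfsg/Agent/.
import Cfsg.Statements.S1205
import Cfsg.Agent.Lib.Helper3.QDFusion4

set_option autoImplicit false
open Cfsg
open Cfsg.Agent.Lib.Helper3 Cfsg.Agent.Lib.Lead

namespace Cfsg.Agent.S1205

/-- Let G be a finite group with quasi-dihedral Sylow 2-subgroup S, T a Klein four-subgroup and Q a quaternion subgroup of order 8 of S, with |N_G(T) : C_G(T)| = 2 and |N_G(Q) : Q C_G(Q)| = 6. Then G has a normal subgroup K of index 2 whose Sylow 2-subgroups are generalized quaternion and which has no subgroup of index 2; the centre of S is weakly closed in S; and G has exactly two classes of involutions and one class of elements of order 4. -/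
theorem result {G : Type*} [Group G] [Finite G] (S : Sylow 2 G) (hS : Cfsg.IsQuasiDihedral (S : Subgroup G)) (T : Subgroup G) (hT : IsKleinFour T) (hTS : T ≤ S) (Q : Subgroup G) (hQS : Q ≤ S) (eQ : Q ≃* QuaternionGroup 2) (h₁ : (Subgroup.centralizer (T : Set G)).relIndex (Subgroup.normalizer (T : Set G)) = 2) (h₂ : (Q ⊔ Subgroup.centralizer (Q : Set G)).relIndex (Subgroup.normalizer (Q : Set G)) = 6) : (∃ K : Subgroup G, K.Normal ∧ K.index = 2 ∧ (∀ P : Sylow 2 ↥K, ∃ m : ℕ, 1 ≤ m ∧ Nonempty ((P : Subgroup ↥K) ≃* QuaternionGroup (2 ^ m))) ∧ (∀ H : Subgroup ↥K, H.index ≠ 2)) ∧ Cfsg.IsWeaklyClosed ((Subgroup.center (S : Subgroup G)).map (S : Subgroup G).subtype) (S : Subgroup G) ∧ Nat.card {C : ConjClasses G // ∃ t : G, orderOf t = 2 ∧ ConjClasses.mk t = C} = 2 ∧ Nat.card {C : ConjClasses G // ∃ t : G, orderOf t = 4 ∧ ConjClasses.mk t = C} = 1 := by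
  obtain ⟨d⟩ := (isQuasiDihedral_iff _).mp hS
  have nf1 := qd_not_conj_zz_b_of_two S d T hT hTS h₁
  have hfour := qd_qq_conj_b_of_six S d Q hQS eQ h₂
  refine ⟨?_, qd_center_weakly_closed S d nf1, qd_card_inv_classes_of_not_conj S d nf1,
    qd_card_four_classes_of_conj S d hfour⟩
  obtain ⟨K, hKn, hKi, -⟩ := qd_exists_index_two_of_not_conj_inv S d nf1
  have hle := qd_subQ_le_of_index_two S d K hKi hfour
  have hcard : Nat.card ↥(d.subQ.map (S : Subgroup G).subtype) * 2 = Nat.card ↥(S : Subgroup G) := by
    rw [Subgroup.card_map_of_injective (S : Subgroup G).subtype_injective, d.card_subQ, d.card, pow_succ]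
  refine ⟨K, hKn, hKi, ?_, ?_⟩
  · intro P
    obtain ⟨e1⟩ := sylow_equiv_of_le_of_card K hKi S _ hle hcard P
    obtain ⟨e2⟩ := d.subQ_equiv
    refine ⟨d.n - 2, by have := d.hn; omega, ⟨e1.trans
      ((Subgroup.equivMapOfInjective _ _ (S : Subgroup G).subtype_injective).symm.trans e2)⟩⟩
  · obtain ⟨w, hwO, hwo⟩ := qd_exists_four_mem_pResidual S d Q hQS eQ h₂
    have hO : (Cfsg.pResidual 2 G).Normal := pResidual_normal 2
    have hle' := qd_subQ_le_normal_of_four S d (Cfsg.pResidual 2 G) w hwO hwo hfour
    exact no_index_two_of_le_pResidual K hKi S _ hle' hcard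

end Cfsg.Agent.S1205
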