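import Mathlib
-- Template for statement S1206 (row 1206; see /opt/grader/pristine/manifest.json for weights).
-- Copy to Cfsg/Agent/S1206.lean and replace the sorry. The statement below is byte-identical to the frozen
-- statement Cfsg.CfsgFrozen.S1206 (Cfsg/Statements/S1206.lean; the theorem Cfsg.quasidihedral_sylow_fusion_dihedral_case);
-- the grader kernel-checks Cfsg.Agent.S1206.result against that frozen type. Keep the theorem IN THIS FILE
-- (a `result` declared elsewhere and merely imported here is not credited); helpers may live anywhere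
-- under Cfsg/Agent/.
import Cfsg.Statements.S1206
import Cfsg.Agent.Lib.Helper3.QDFusion4

set_option autoImplicit false
open Cfsg
open Cfsg.Agent.Lib.Helper3 Cfsg.Agent.Lib.Lead

namespace Cfsg.Agent.S1206

/-- Let G be a finite group with quasi-dihedral Sylow 2-subgroup S, T a Klein four-subgroup and Q a quaternion subgroup of order 8 of S, with |N_G(T) : C_G(T)| = 6 and |N_G(Q) : Q C_G(Q)| = 2. Then G has a normal subgroup K of index 2 whose Sylow 2-subgroups are dihedral and which has no subgroup of index 2, and G has exactly one class of involutions and two classes of elements of order 4. -/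
theorem result {G : Type*} [Group G] [Finite G] (S : Sylow 2 G) (hS : Cfsg.IsQuasiDihedral (S : Subgroup G)) (T : Subgroup G) (hT : IsKleinFour T) (hTS : T ≤ S) (Q : Subgroup G) (hQS : Q ≤ S) (eQ : Q ≃* QuaternionGroup 2) (h₁ : (Subgroup.centralizer (T : Set G)).relIndex (Subgroup.normalizer (T : Set G)) = 6) (h₂ : (Q ⊔ Subgroup.centralizer (Q : Set G)).relIndex (Subgroup.normalizer (Q : Set G)) = 2) : (∃ K : Subgroup G, K.Normal ∧ K.index = 2 ∧ (∀ P : Sylow 2 ↥K, ∃ m : ℕ, Nonempty ((P : Subgroup ↥K) ≃* DihedralGroup m)) ∧ (∀ H : Subgroup ↥K, H.index ≠ 2)) ∧ Nat.card {C : ConjClasses G // ∃ t : G, orderOf t = 2 ∧ ConjClasses.mk t = C} = 1 ∧ Nat.card {C : ConjClasses G // ∃ t : G, orderOf t = 4 ∧ ConjClasses.mk t = C} = 2 := by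
  obtain ⟨d⟩ := (isQuasiDihedral_iff _).mp hS
  have nf2 := qd_not_conj_qq_b_of_two S d Q hQS eQ h₂
  have hinv := qd_zz_conj_b_of_six S d T hT hTS h₁
  refine ⟨?_, qd_card_inv_classes_of_conj S d hinv, qd_card_four_classes_of_not_conj S d nf2⟩
  obtain ⟨K, hKn, hKi, -⟩ := qd_exists_index_two_of_not_conj_four S d nf2
  have hle := qd_subD_le_of_index_two S d K hKi hinv
  have hcard : Nat.card ↥(d.subD.map (S : Subgroup G).subtype) * 2 = Nat.card ↥(S : Subgroup G) := by
    rw [Subgroup.card_map_of_injective (S : Subgroup G).subtype_injective, d.card_subD, d.card, pow_succ]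
  refine ⟨K, hKn, hKi, ?_, ?_⟩
  · intro P
    obtain ⟨e1⟩ := sylow_equiv_of_le_of_card K hKi S _ hle hcard P
    obtain ⟨hcl, ⟨e2⟩⟩ := d.closure_b_eq_subD
    refine ⟨2 ^ (d.n - 1), ⟨e1.trans
      (((Subgroup.equivMapOfInjective _ _ (S : Subgroup G).subtype_injective).symm.trans
        (MulEquiv.subgroupCongr hcl.symm)).trans e2)⟩⟩
  · obtain ⟨w, hwO, hwo⟩ := qd_exists_inv_mem_pResidual T hT h₁
    have hO : (Cfsg.pResidual 2 G).Normal := pResidual_normal 2
    have hle' := qd_subD_le_normal_of_inv S d (Cfsg.pResidual 2 G) w hwO hwo hinv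
    exact no_index_two_of_le_pResidual K hKi S _ hle' hcard

end Cfsg.Agent.S1206
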