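import Mathlib
-- Template for statement S1207 (row 1207; see /opt/grader/pristine/manifest.json for weights).
-- Copy to Cfsg/Agent/S1207.lean and replace the sorry. The statement below is byte-identical to the frozen
-- statement Cfsg.CfsgFrozen.S1207 (Cfsg/Statements/S1207.lean; the theorem Cfsg.quasidihedral_sylow_fusion_nilpotent_case);
-- the grader kernel-checks Cfsg.Agent.S1207.result against that frozen type. Keep the theorem IN THIS FILE
-- (a `result` declared elsewhere and merely imported here is not credited); helpers may live anywhere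
-- under Cfsg/Agent/.
import Cfsg.Statements.S1207
import Cfsg.Agent.Lib.Helper3.QDFusion3

set_option autoImplicit false
open Cfsg
open Cfsg.Agent.Lib.Helper3

namespace Cfsg.Agent.S1207

/-- Let G be a finite group with quasi-dihedral Sylow 2-subgroup S, T a Klein four-subgroup and Q a quaternion subgroup of order 8 of S, with |N_G(T) : C_G(T)| = 2 and |N_G(Q) : Q C_G(Q)| = 2. Then G has a normal 2-complement, exactly two classes of involutions and exactly two classes of elements of order 4. -/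
theorem result {G : Type*} [Group G] [Finite G] (S : Sylow 2 G) (hS : Cfsg.IsQuasiDihedral (S : Subgroup G)) (T : Subgroup G) (hT : IsKleinFour T) (hTS : T ≤ S) (Q : Subgroup G) (hQS : Q ≤ S) (eQ : Q ≃* QuaternionGroup 2) (h₁ : (Subgroup.centralizer (T : Set G)).relIndex (Subgroup.normalizer (T : Set G)) = 2) (h₂ : (Q ⊔ Subgroup.centralizer (Q : Set G)).relIndex (Subgroup.normalizer (Q : Set G)) = 2) : Cfsg.HasNormalPComplement 2 G ∧ Nat.card {C : ConjClasses G // ∃ t : G, orderOf t = 2 ∧ ConjClasses.mk t = C} = 2 ∧ Nat.card {C : ConjClasses G // ∃ t : G, orderOf t = 4 ∧ ConjClasses.mk t = C} = 2 := by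
  obtain ⟨d⟩ := (isQuasiDihedral_iff _).mp hS
  have nf1 := qd_not_conj_zz_b_of_two S d T hT hTS h₁
  have nf2 := qd_not_conj_qq_b_of_two S d Q hQS eQ h₂
  refine ⟨?_, qd_card_inv_classes_of_not_conj S d nf1, qd_card_four_classes_of_not_conj S d nf2⟩
  obtain ⟨M₁, hM₁n, hM₁i, hM₁b⟩ := qd_exists_index_two_of_not_conj_inv S d nf1
  obtain ⟨M₂, hM₂n, hM₂i, hM₂b⟩ := qd_exists_index_two_of_not_conj_four S d nf2
  have : (M₁ ⊓ M₂).Normal := Subgroup.normal_inf_normal M₁ M₂
  have hidx : ∃ k, (M₁ ⊓ M₂).index = 2 ^ k := by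
    have h1 := Subgroup.relIndex_inf_mul_relIndex M₁ M₂ ⊤
    rw [Subgroup.relIndex_top_right, Subgroup.relIndex_top_right, inf_top_eq, hM₂i] at h1
    have h2 : M₁.relIndex M₂ ∣ 2 := by
      have := Subgroup.relIndex_dvd_index_of_normal M₁ M₂
      rwa [hM₁i] at this
    rcases (Nat.dvd_prime Nat.prime_two).mp h2 with h3 | h3
    · exact ⟨1, by rw [← h1, h3]; norm_num⟩
    · exact ⟨2, by rw [← h1, h3]; norm_num⟩
  obtain ⟨k, hk⟩ := hidx
  have hb : ∀ i, ((d.b i : ↥(S : Subgroup G)) : G) ∉ M₁ ⊓ M₂ := by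
    intro i hmem
    obtain ⟨j, hj | hj⟩ := z2_parity d.n i
    · apply hM₁b
      have hc := qd_isConj_b_even S d j 0
      rw [mul_zero, ← hj] at hc
      exact isConj_mem_normal M₁ _ _ hc hmem.1
    · apply hM₂b
      have hc := qd_isConj_b_odd S d j 0
      rw [mul_zero, zero_add, ← hj] at hc
      exact isConj_mem_normal M₂ _ _ hc hmem.2
  obtain ⟨P⟩ : Nonempty (Sylow 2 ↥(M₁ ⊓ M₂)) := inferInstance
  exact hasNormalPComplement_two_of_normal_cyclic (M₁ ⊓ M₂) k hk P
    (qd_cyclic_sylow_of_no_b S d (M₁ ⊓ M₂) hb P)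

end Cfsg.Agent.S1207
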