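import Mathlib
-- Template for statement S1213 (row 1213; see /opt/grader/pristine/manifest.json for weights).
-- Copy to Cfsg/Agent/S1213.lean and replace the sorry. The statement below is byte-identical to the frozen
-- statement Cfsg.CfsgFrozen.S1213 (Cfsg/Statements/S1213.lean; the theorem Cfsg.qd_group_involution_centralizer_is_q_group);
-- the grader kernel-checks Cfsg.Agent.S1213.result against that frozen type. Keep the theorem IN THIS FILE
-- (a `result` declared elsewhere and merely imported here is not credited); helpers may live anywhere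
-- under Cfsg/Agent/.
import Cfsg.Statements.S1213
import Cfsg.Agent.Lib.Helper3.WrCent5

set_option autoImplicit false
open Cfsg
open Cfsg.Agent.Lib.Helper3

namespace Cfsg.Agent.S1213

/-- Let G be a finite group with quasi-dihedral or wreathed Sylow 2-subgroups and no subgroup of index 2, and let x be an involution with centralizer C. Then C has a Sylow 2-subgroup R which is a Sylow 2-subgroup of G; C has a normal subgroup K of index a power of 2 which has no subgroup of index 2 and whose Sylow 2-subgroups are generalized quaternion; and every subgroup of the centre of R is weakly closed in R with respect to C. -/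
theorem result {G : Type*} [Group G] [Finite G] (S : Sylow 2 G) (hS : Cfsg.IsQuasiDihedral (S : Subgroup G) ∨ Cfsg.IsWreathed (S : Subgroup G)) (hG : ∀ H : Subgroup G, H.index ≠ 2) (x : G) (hx : orderOf x = 2) : ∃ R : Sylow 2 ↥(Subgroup.centralizer ({x} : Set G)), Nat.card R = Nat.card S ∧ (∃ K : Subgroup ↥(Subgroup.centralizer ({x} : Set G)), K.Normal ∧ (∃ a : ℕ, K.index = 2 ^ a) ∧ (∀ H : Subgroup ↥K, H.index ≠ 2) ∧ (∀ P : Sylow 2 ↥K, ∃ m : ℕ, 1 ≤ m ∧ Nonempty ((P : Subgroup ↥K) ≃* QuaternionGroup (2 ^ m)))) ∧ (∀ Z₀ : Subgroup ↥(Subgroup.centralizer ({x} : Set G)), Z₀ ≤ ((Subgroup.center (R : Subgroup ↥(Subgroup.centralizer ({x} : Set G)))).map (R : Subgroup ↥(Subgroup.centralizer ({x} : Set G))).subtype) → Cfsg.IsWeaklyClosed Z₀ (R : Subgroup ↥(Subgroup.centralizer ({x} : Set G)))) := by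
  rcases hS with hQD | hWr
  · obtain ⟨d⟩ := (isQuasiDihedral_iff _).mp hQD
    obtain ⟨hall, -⟩ := qd_no_index_two_data S d hG
    obtain ⟨g, hg⟩ := isConj_iff.mp (hall x hx).symm
    obtain ⟨S₁, ⟨e⟩, hxS₁, hcen⟩ := exists_sylow_central_of_conj S
      ((d.zz : ↥(S : Subgroup G)) : G) (Subtype.property _)
      (fun s hs => congrArg Subtype.val (d.zz_central ⟨s, hs⟩)) g
    rw [hg] at hxS₁ hcen
    have hS₁ : Cfsg.IsQuasiDihedral ↥(S₁ : Subgroup G) := isQuasiDihedral_of_equiv e hQD
    obtain ⟨d₁⟩ := (isQuasiDihedral_iff _).mp hS₁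
    have hxd₁ : x = ((d₁.zz : ↥(S₁ : Subgroup G)) : G) := by
      have hc : (⟨x, hxS₁⟩ : ↥(S₁ : Subgroup G)) ∈ Subgroup.center ↥(S₁ : Subgroup G) := by
        rw [Subgroup.mem_center_iff]
        intro r
        apply Subtype.ext
        exact (hcen r r.2).symm
      rcases d₁.mem_center_cases _ hc with h | h
      · exfalso
        have h1 : x = 1 := congrArg Subtype.val h
        rw [h1, orderOf_one] at hx
        norm_num at hx
      · exact congrArg Subtype.val h
    obtain ⟨-, V, τ, hVS, hτo, hτN, hτz, hτV⟩ := qd_no_index_two_data S₁ d₁ hG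
    rw [← hxd₁] at hτz
    obtain ⟨R, hcard, hK, hZ⟩ := qd_centralizer_main S₁ d₁ x hxd₁ V hVS τ hτo hτN hτz hτV
    exact ⟨R, by rw [hcard]; exact Nat.card_congr e.symm.toEquiv, hK, hZ⟩
  · obtain ⟨d⟩ := (isWreathed_iff _).mp hWr
    obtain ⟨hall, -⟩ := wr_no_index_two_data S d hG
    obtain ⟨g, hg⟩ := isConj_iff.mp (hall x hx).symm
    obtain ⟨S₁, ⟨e⟩, hxS₁, hcen⟩ := exists_sylow_central_of_conj S
      ((d.c (z2half d.n) (z2half d.n) : ↥(S : Subgroup G)) : G) (Subtype.property _)
      (fun s hs => (coe_chh_central S d s hs).symm) g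
    rw [hg] at hxS₁ hcen
    have hS₁ : Cfsg.IsWreathed ↥(S₁ : Subgroup G) := isWreathed_of_equiv e hWr
    obtain ⟨d₁⟩ := (isWreathed_iff _).mp hS₁
    have hxd₁ : x = ((d₁.c (z2half d₁.n) (z2half d₁.n) : ↥(S₁ : Subgroup G)) : G) := by
      have hc : (⟨x, hxS₁⟩ : ↥(S₁ : Subgroup G)) ∈ Subgroup.center ↥(S₁ : Subgroup G) := by
        rw [Subgroup.mem_center_iff]
        intro r
        apply Subtype.ext
        exact (hcen r r.2).symm
      have := d₁.center_involution _ hc (by rw [Subgroup.orderOf_mk]; exact hx)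
      exact congrArg Subtype.val this
    obtain ⟨-, V, τ, hVS, hτo, hτN, hτz, hτV⟩ := wr_no_index_two_data S₁ d₁ hG
    rw [← hxd₁] at hτz
    obtain ⟨R, hcard, hK, hZ⟩ := wr_centralizer_main S₁ d₁ x hxd₁ V hVS τ hτo hτN hτz hτV
    exact ⟨R, by rw [hcard]; exact Nat.card_congr e.symm.toEquiv, hK, hZ⟩

end Cfsg.Agent.S1213
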