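import Mathlib
-- Template for statement S1214 (row 1214; see /opt/grader/pristine/manifest.json for weights).
-- Copy to Cfsg/Agent/S1214.lean and replace the sorry. The statement below is byte-identical to the frozen
-- statement Cfsg.CfsgFrozen.S1214 (Cfsg/Statements/S1214.lean; the theorem Cfsg.qd_group_simple_normal_subgroup_of_odd_index);
-- the grader kernel-checks Cfsg.Agent.S1214.result against that frozen type. Keep the theorem IN THIS FILE
-- (a `result` declared elsewhere and merely imported here is not credited); helpers may live anywhere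
-- under Cfsg/Agent/.
import Cfsg.Statements.S1214
import Cfsg.Agent.Lib.Helper3.QDSimple1

set_option autoImplicit false
open Cfsg
open Cfsg.Agent.Lib.Helper3 Cfsg.Agent.Lib.Lead

namespace Cfsg.Agent.S1214

/-- Let G be a finite group with quasi-dihedral or wreathed Sylow 2-subgroups and no subgroup of index 2. Then G/O(G), the quotient by the largest normal subgroup of odd order, has a normal subgroup of odd index which is a non-abelian simple group. -/
theorem result {G : Type*} [Group G] [Finite G] (S : Sylow 2 G) (hS : Cfsg.IsQuasiDihedral (S : Subgroup G) ∨ Cfsg.IsWreathed (S : Subgroup G)) (hG : ∀ H : Subgroup G, H.index ≠ 2) : ∃ L : Subgroup (G ⧸ Cfsg.oddCore G), L.Normal ∧ Odd L.index ∧ IsSimpleGroup L ∧ ¬ IsMulCommutative L := by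
  have : Fact (Nat.Prime 2) := ⟨Nat.prime_two⟩
  have hπ : Function.Surjective (QuotientGroup.mk' (Cfsg.oddCore G)) :=
    QuotientGroup.mk'_surjective _
  have hS' : ((S.mapSurjective hπ : Sylow 2 (G ⧸ Cfsg.oddCore G)) : Subgroup (G ⧸ Cfsg.oddCore G)) =
      (S : Subgroup G).map (QuotientGroup.mk' (Cfsg.oddCore G)) := Sylow.coe_mapSurjective _ _
  have h3 : (S : Subgroup G) ⊓ Cfsg.oddCore G = ⊥ := by
    apply Disjoint.eq_bot
    apply Subgroup.disjoint_of_coprime_natCard
    obtain ⟨k, hk⟩ := IsPGroup.iff_card.mp S.isPGroup'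
    rw [hk]
    exact Nat.Coprime.pow_left k
      (Nat.coprime_comm.mp (Cfsg.Agent.Lib.Helper6.pPrimeCore_coprime 2))
  have hinj : Function.Injective
      ((QuotientGroup.mk' (Cfsg.oddCore G)).subgroupMap (S : Subgroup G)) := by
    rw [injective_iff_map_eq_one]
    intro s hs
    have h1 : (QuotientGroup.mk' (Cfsg.oddCore G)) (s : G) = 1 := congrArg Subtype.val hs
    have h2 : (s : G) ∈ Cfsg.oddCore G := (QuotientGroup.eq_one_iff _).mp h1
    have h4 : (s : G) ∈ (S : Subgroup G) ⊓ Cfsg.oddCore G := ⟨s.2, h2⟩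
    rw [h3, Subgroup.mem_bot] at h4
    exact Subtype.ext h4
  have e : ↥(S : Subgroup G) ≃*
      ↥((S.mapSurjective hπ : Sylow 2 (G ⧸ Cfsg.oddCore G)) : Subgroup (G ⧸ Cfsg.oddCore G)) :=
    (MulEquiv.ofBijective _ ⟨hinj, MonoidHom.subgroupMap_surjective _ _⟩).trans
      (MulEquiv.subgroupCongr hS'.symm)
  have hS'' := hS.imp (isQuasiDihedral_of_equiv e) (isWreathed_of_equiv e)
  have hG' : ∀ H : Subgroup (G ⧸ Cfsg.oddCore G), H.index ≠ 2 := by
    intro H h
    apply hG (H.comap (QuotientGroup.mk' (Cfsg.oddCore G)))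
    rw [Subgroup.index_comap_of_surjective _ hπ, h]
  exact exists_simple_normal_of_qdwr (S.mapSurjective hπ) hS'' hG' pPrimeCore_quotient_eq_bot

end Cfsg.Agent.S1214
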