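import Mathlib
-- Template for statement S1231 (row 1231; see /opt/grader/pristine/manifest.json for weights).
-- Copy to Cfsg/Agent/S1231.lean and replace the sorry. The statement below is byte-identical to the frozen
-- statement Cfsg.CfsgFrozen.S1231 (Cfsg/Statements/S1231.lean; the theorem Cfsg.k_generated_core_in_subgroup_iff_intersections_low_rank);
-- the grader kernel-checks Cfsg.Agent.S1231.result against that frozen type. Keep the theorem IN THIS FILE
-- (a `result` declared elsewhere and merely imported here is not credited); helpers may live anywhere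
-- under Cfsg/Agent/.
import Cfsg.Statements.S1231
import Cfsg.Agent.Lib.Helper3.KGen2

set_option autoImplicit false
open Cfsg
open Cfsg.Agent.Lib.Helper3.KGen

namespace Cfsg.Agent.S1231

/-- Let H be a subgroup of the finite group G, p a prime, k ≥ 1, and P a Sylow p-subgroup of H whose p-rank is at least k. Then N_G(X) ≤ H for every subgroup X of P of p-rank at least k if and only if H ∩ gHg⁻¹ has p-rank less than k for every g ∉ H. -/
theorem result {G : Type*} [Group G] [Finite G] {p : ℕ} [Fact p.Prime] (k : ℕ) (hk : 1 ≤ k) (H : Subgroup G) (P : Sylow p ↥H) (hP : ¬ Cfsg.PRankLE p (k - 1) ↥(P : Subgroup ↥H)) : (∀ X : Subgroup G, X ≤ (P : Subgroup ↥H).map H.subtype → ¬ Cfsg.PRankLE p (k - 1) ↥X → Subgroup.normalizer (X : Set G) ≤ H) ↔ (∀ g : G, g ∉ H → Cfsg.PRankLE p (k - 1) ↥(H ⊓ H.map (MulAut.conj g).toMonoidHom)) := by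
  constructor
  · intro hL g hg
    by_contra hcon
    rw [not_pRankLE_iff] at hcon
    obtain ⟨E, hE, hbig⟩ := hcon
    have hL' : ∀ X : Subgroup G, X ≤ (P : Subgroup ↥H).map H.subtype →
        (∃ E : Subgroup G, E ≤ X ∧ Big p (k - 1) E) → Subgroup.normalizer (X : Set G) ≤ H := by
      intro X hX hb
      exact hL X hX ((not_pRankLE_iff X).mpr hb)
    have hEH : E ≤ H := hE.trans inf_le_left
    obtain ⟨h, hh, hle⟩ := exists_conj_le_sylow H P hEH hbig.isPGroup
    set X := E.map (MulAut.conj h).toMonoidHom with hX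
    have hXbig : ∃ E' : Subgroup G, E' ≤ X ∧ Big p (k - 1) E' := ⟨X, le_rfl, hbig.map_conj h⟩
    have hXg : X.map (MulAut.conj (g⁻¹ * h⁻¹)).toMonoidHom ≤ H := by
      rw [hX, Subgroup.map_map]
      rintro _ ⟨e, he, rfl⟩
      obtain ⟨y, hy, hye⟩ := (hE.trans inf_le_right) he
      have : e = g * y * g⁻¹ := by rw [← hye]; simp [MulAut.conj_apply]
      simp only [MulEquiv.toMonoidHom_eq_coe, MonoidHom.coe_comp, MonoidHom.coe_coe,
        Function.comp_apply, MulAut.conj_apply]
      rw [this]
      have : g⁻¹ * h⁻¹ * (h * (g * y * g⁻¹) * h⁻¹) * (g⁻¹ * h⁻¹)⁻¹ = y := by group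
      rw [this]; exact hy
    have := mem_of_map_conj_le (k - 1) H P hL' _ X hle hXbig le_rfl (g⁻¹ * h⁻¹) hXg
    apply hg
    have h2 := H.mul_mem this hh
    have h3 := H.inv_mem h2
    simpa using h3
  · intro hR X hXP hXrank n hn
    by_contra hnH
    have := hR n hnH
    apply (not_pRankLE_iff _).mpr _ this
    obtain ⟨E, hEX, hbig⟩ := (not_pRankLE_iff X).mp hXrank
    refine ⟨E, ?_, hbig⟩
    have hXH : X ≤ H := by
      intro x hx
      obtain ⟨y, _, rfl⟩ := hXP hx
      exact y.2
    refine hEX.trans (le_inf hXH ?_)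
    intro x hx
    refine ⟨n⁻¹ * x * n, ?_, ?_⟩
    · apply hXH
      have := (Subgroup.mem_normalizer_iff.mp (Subgroup.inv_mem _ hn) x).mp hx
      simpa using this
    · simp [MulAut.conj_apply, mul_assoc]

end Cfsg.Agent.S1231
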