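import Mathlib
-- Template for statement S1236 (row 1236; see /opt/grader/pristine/manifest.json for weights).
-- Copy to Cfsg/Agent/S1236.lean and replace the sorry. The statement below is byte-identical to the frozen
-- statement Cfsg.CfsgFrozen.S1236 (Cfsg/Statements/S1236.lean; the theorem Cfsg.elementary_eight_self_centralizing_in_central_mod_dihedral);
-- the grader kernel-checks Cfsg.Agent.S1236.result against that frozen type. Keep the theorem IN THIS FILE
-- (a `result` declared elsewhere and merely imported here is not credited); helpers may live anywhere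
-- under Cfsg/Agent/.
import Cfsg.Statements.S1236
import Cfsg.Agent.Lib.Helper3.Di2

set_option autoImplicit false
open Cfsg
open Cfsg.Agent.Lib.Helper3

namespace Cfsg.Agent.S1236

/-- Let R be a finite group, t a central involution of R such that R ⧸ ⟨t⟩ is dihedral (of order ≥ 4) or quasi-dihedral, and A ≤ R an elementary abelian subgroup of order 8 containing t. Then C_R(A) = A. -/
theorem result {R : Type*} [Group R] [Finite R] (t : R) (ht : orderOf t = 2) (htz : t ∈ Subgroup.center R) [(Subgroup.zpowers t).Normal] (hq : (∃ m : ℕ, 2 ≤ m ∧ Nonempty (R ⧸ Subgroup.zpowers t ≃* DihedralGroup m)) ∨ Cfsg.IsQuasiDihedral (R ⧸ Subgroup.zpowers t)) (A : Subgroup R) (hA : Cfsg.IsElementaryAbelian 2 A) (hA8 : Nat.card A = 8) (htA : t ∈ A) : Subgroup.centralizer (A : Set R) = A := by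
  apply e8_self_centralizing_of_quotient t ht _ A hA hA8 htA
  intro T hT
  rcases hq with ⟨m, -, ⟨e⟩⟩ | hqd
  · exact klein_centralizer_le_of_dihedral e T hT
  · obtain ⟨d⟩ := (isQuasiDihedral_iff _).mp hqd
    exact klein_centralizer_le_of_qd d T hT

end Cfsg.Agent.S1236
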