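import Cfsg.Statements.S1237
import Cfsg.Agent.Lib.Lead.Hx3B0
import Cfsg.Agent.Lib.Helper8.Hx3K1C
import Cfsg.Agent.Lib.Helper2.Hx3KB
import Cfsg.Agent.Lib.Helper9.Hx3L2
import Cfsg.Agent.Lib.Helper3.Hx3L3D

set_option autoImplicit false
open Cfsg

namespace Cfsg.Agent.S1237

open Cfsg.Agent.Lib.Lead.Hx3 Cfsg.Agent.Lib.Helper3.S64

/-- Let T be a finite 2-group of 2-rank exactly 2 (it has a Klein four-subgroup but no elementary abelian subgroup of order 8) admitting an automorphism φ such that any two involutions of T are carried to one another by a power of φ. Then T ≅ Z_{2^n} × Z_{2^n} for some n ≥ 1, or T is isomorphic to a Sylow 2-subgroup of PSU(3) over the field with 16 elements. -/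
theorem result {T : Type*} [Group T] [Finite T] (hT : IsPGroup 2 T) (h2 : Cfsg.PRankLE 2 2 T) (h1 : ¬ Cfsg.PRankLE 2 1 T) (φ : MulAut T) (htrans : ∀ s t : T, orderOf s = 2 → orderOf t = 2 → ∃ k : ℕ, (φ ^ k) s = t) {F : Type*} [Field F] [Fintype F] (hF : Fintype.card F = 16) (P : Sylow 2 (Cfsg.PSU 3 F 4)) : (∃ n : ℕ, 1 ≤ n ∧ Nonempty (T ≃* Multiplicative (ZMod (2 ^ n) × ZMod (2 ^ n)))) ∨ Nonempty (T ≃* (P : Subgroup (Cfsg.PSU 3 F 4))) := by
  obtain ⟨V, ρ₁, a, hV, hVc, hV4, ha, hfix⟩ := b0_setup hT h2 h1 φ htrans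
  have hcube : ρ₁ ^ 3 = 1 := k1_cube hT V hV hVc hV4 ρ₁ a ha hfix
  -- `ρ₁` is fixed-point-free of order three
  have hfpf : Fpf3 ρ₁ := by
    constructor
    · intro y
      have := congrArg (fun f : MulAut T => f y) hcube
      simpa [pow_succ, MulAut.mul_apply] using this
    · intro y hy
      by_contra hne
      -- the fixed points form a nontrivial 2-group, which contains an involution
      have hp : IsPGroup 2 (Cfsg.Agent.Lib.Lead.Hx3.fixSub ρ₁) := hT.to_subgroup _
      have hnt : Nontrivial (Cfsg.Agent.Lib.Lead.Hx3.fixSub ρ₁) :=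
        ⟨⟨⟨y, hy⟩, 1, fun h => hne (congrArg Subtype.val h)⟩⟩
      have hfin : Finite (Cfsg.Agent.Lib.Lead.Hx3.fixSub ρ₁) := inferInstance
      obtain ⟨n, hn⟩ := IsPGroup.iff_card.mp hp
      have hn0 : n ≠ 0 := by
        rintro rfl
        have : Nat.card (Cfsg.Agent.Lib.Lead.Hx3.fixSub ρ₁) = 1 := by simpa using hn
        have := (Nat.card_eq_one_iff_unique.mp this).1
        exact not_subsingleton _ this
      have h2dvd : 2 ∣ Nat.card (Cfsg.Agent.Lib.Lead.Hx3.fixSub ρ₁) := by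
        rw [hn]
        exact dvd_pow_self 2 hn0
      have : Fact (Nat.Prime 2) := ⟨Nat.prime_two⟩
      obtain ⟨z, hz⟩ := exists_prime_orderOf_dvd_card' 2 h2dvd
      have hz2 : (z : T) ^ 2 = 1 := by
        have := pow_orderOf_eq_one z
        rw [hz] at this
        exact congrArg Subtype.val this
      have hz1 : (z : T) ≠ 1 := by
        intro h1'
        have : z = 1 := Subtype.ext h1'
        rw [this, orderOf_one] at hz
        norm_num at hz
      exact hz1 (hfix z ((hV z).mpr hz2) z.2)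
  rcases k_class hT hfpf V hV hVc hV4 with ⟨hab, b, hb⟩ | ⟨h64, hna⟩
  · left
    have : Nontrivial T := by
      have : Nontrivial V := by
        apply (Finite.one_lt_card_iff_nontrivial).mp
        rw [hV4]; norm_num
      obtain ⟨⟨v, hv⟩, ⟨w, hw⟩, hvw⟩ := this
      exact ⟨⟨v, w, fun h => hvw (Subtype.ext h)⟩⟩
    obtain ⟨n, hn, ⟨e⟩⟩ := l2_homocyclic hT hfpf hab b hb
    exact ⟨n, hn, ⟨e.trans (MulEquiv.prodMultiplicative _ _).symm⟩⟩
  · right
    have hyp : Hyp ρ₁ := ⟨h64, hna, hfpf⟩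
    exact l3_psu hyp (fun u hu => hVc ((hV u).mpr hu)) hF P

end Cfsg.Agent.S1237
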