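import Mathlib
-- Template for statement S1239 (row 1239; see /opt/grader/pristine/manifest.json for weights).
-- Copy to Cfsg/Agent/S1239.lean and replace the sorry. The statement below is byte-identical to the frozen
-- statement Cfsg.CfsgFrozen.S1239 (Cfsg/Statements/S1239.lean; the theorem Cfsg.qd_or_wreathed_isolated_involution_core_times_center_normal);
-- the grader kernel-checks Cfsg.Agent.S1239.result against that frozen type. Keep the theorem IN THIS FILE
-- (a `result` declared elsewhere and merely imported here is not credited); helpers may live anywhere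
-- under Cfsg/Agent/.
import Cfsg.Statements.S1239
import Cfsg.Agent.S1205
import Cfsg.Agent.S1207
import Cfsg.Agent.S1215
import Cfsg.Agent.Lib.Helper3.QDIso1

set_option autoImplicit false
open Cfsg
open Cfsg.Agent.Lib.Helper3 Cfsg.Agent.Lib.Lead Cfsg.Agent.Lib.Helper3.Iso

namespace Cfsg.Agent.S1239

/-- Let X be a finite group whose Sylow 2-subgroup S is quasi-dihedral or wreathed, and suppose some involution of S is isolated in X. Then the product of the largest normal odd-order subgroup O(X) with the centre of S is normal in X. -/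
theorem result {X : Type*} [Group X] [Finite X] (S : Sylow 2 X) (hS : Cfsg.IsQuasiDihedral (S : Subgroup X) ∨ Cfsg.IsWreathed (S : Subgroup X)) (z : X) (hzS : z ∈ S) (hz : Cfsg.IsIsolatedInvolution z) : (Cfsg.oddCore X ⊔ (Subgroup.center (S : Subgroup X)).map (S : Subgroup X).subtype).Normal := by
  have hzc := sylow_le_centralizer hz S hzS
  have hcen : (⟨z, hzS⟩ : ↥(S : Subgroup X)) ∈ Subgroup.center ↥(S : Subgroup X) := by
    rw [Subgroup.mem_center_iff]
    intro r
    apply Subtype.ext
    have := Subgroup.mem_centralizer_singleton_iff.mp (hzc r.2)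
    simp only [Subgroup.coe_mul]
    exact this
  rcases hS with hQD | hWr
  · obtain ⟨d⟩ := (isQuasiDihedral_iff _).mp hQD
    have hz_eq : z = ((d.zz : ↥(S : Subgroup X)) : X) := by
      rcases d.mem_center_cases _ hcen with h | h
      · exfalso; exact IsIsolatedInvolution.ne_one hz (congrArg Subtype.val h)
      · exact congrArg Subtype.val h
    obtain ⟨Q, hQS, ⟨eQ⟩⟩ := qd_exists_q8 S d
    have hT := isKleinFour_qdT S d
    have hTS := qdT_le S d
    rcases qd_klein_index (S : Subgroup X) d (qdT S d) hT hTS with h₁ | h₁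
    · rcases qd_q8_index (S : Subgroup X) d Q hQS eQ with h₂ | h₂
      · exact normal_core_sup_center_of_npc (Cfsg.Agent.S1207.result S hQD _ hT hTS Q hQS eQ h₁ h₂).1 S
      · obtain ⟨⟨K, hKn, hKi, hKq, hK2⟩, hwc, -, -⟩ :=
          Cfsg.Agent.S1205.result S hQD _ hT hTS Q hQS eQ h₁ h₂
        apply normal_core_sup_center_of_decomp S
        intro g
        apply Cfsg.Agent.S1215.result S (Or.inl hQD) ⟨⟨K, hKn, ⟨1, by rw [hKi, pow_one]⟩, hK2, hKq⟩, ?_⟩ g
        intro Z₀ hZ₀
        by_cases hzz : ((d.zz : ↥(S : Subgroup X)) : X) ∈ Z₀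
        · have : Z₀ = (Subgroup.center (S : Subgroup X)).map (S : Subgroup X).subtype := by
            apply le_antisymm hZ₀
            rintro _ ⟨c, hc, rfl⟩
            rcases d.mem_center_cases c hc with h | h
            · rw [h]; exact Z₀.one_mem
            · rw [h]; exact hzz
          rw [this]; exact hwc
        · have : Z₀ = ⊥ := by
            rw [eq_bot_iff]
            intro x hx
            obtain ⟨c, hc, rfl⟩ := hZ₀ hx
            rcases d.mem_center_cases c hc with h | h
            · rw [h]; exact Subgroup.one_mem _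
            · rw [h] at hx; exact absurd hx hzz
          rw [this]
          exact ⟨bot_le, fun g _ => Subgroup.map_bot _⟩
    · exfalso
      have hc := qd_zz_conj_b_of_six S d _ hT hTS h₁
      obtain ⟨g, hg⟩ := isConj_iff.mp hc
      rw [← hz_eq] at hg
      have hcomm : Commute z (g * z * g⁻¹) := by
        rw [hg]
        exact (Subgroup.mem_centralizer_singleton_iff.mp (hzc (d.b 0).2)).symm
      have h1 := hz.2 g hcomm
      rw [hg, hz_eq] at h1
      have h2 : d.b 0 = d.zz := Subtype.ext h1
      exact d.a_ne_b _ _ h2.symm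
  · obtain ⟨d⟩ := (isWreathed_iff _).mp hWr
    have hz_eq : z = ((d.c (z2half d.n) (z2half d.n) : ↥(S : Subgroup X)) : X) := by
      have := d.center_involution _ hcen (by rw [Subgroup.orderOf_mk]; exact hz.1)
      exact congrArg Subtype.val this
    obtain ⟨eQ⟩ := wrQ8_equiv S d
    have hQS := wrQ8_le S d
    rcases wr_index_U S d with h₁ | h₁
    · rcases wr_index_V S d (wrQ8 S d) hQS eQ with h₂ | h₂
      · exact normal_core_sup_center_of_npc (wr_case_two_two S d _ hQS eQ h₁ h₂).1 S
      · obtain ⟨K, hKn, hKi, hKq, hK2⟩ := wr_two_six_K S d _ hQS eQ h₁ h₂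
        have hwc := (wr_case_two_six S d _ hQS eQ h₁ h₂).1
        apply normal_core_sup_center_of_decomp S
        intro g
        exact Cfsg.Agent.S1215.result S (Or.inr hWr) ⟨⟨K, hKn, ⟨d.n, hKi⟩, hK2, hKq⟩, hwc⟩ g
    · exfalso
      obtain ⟨hc, -⟩ := wr_six_U S d h₁
      obtain ⟨g, hg⟩ := isConj_iff.mp hc
      rw [← hz_eq] at hg
      have hcomm : Commute z (g * z * g⁻¹) := by
        rw [hg]
        exact (Subgroup.mem_centralizer_singleton_iff.mp (hzc (d.c (z2half d.n) 0).2)).symm
      have h1 := hz.2 g hcomm
      rw [hg, hz_eq] at h1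
      have h2 : d.c (z2half d.n) 0 = d.c (z2half d.n) (z2half d.n) := Subtype.ext h1
      rw [d.c_inj] at h2
      exact d.half_ne_zero h2.2.symm

end Cfsg.Agent.S1239
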