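import Mathlib
import Cfsg.Statements.S1243
import Cfsg.Agent.Lib.Helper3.Basic

set_option autoImplicit false
open Cfsg
open scoped Pointwise
open Cfsg.Agent.Lib.Helper3

namespace Cfsg.Agent.S1243

theorem result {G : Type*} [Group G] [Finite G] {p : ℕ} [Fact p.Prime] (T : Sylow p G) (W : Subgroup G) (hW : Cfsg.IsWeaklyClosed W (T : Subgroup G)) (d g : G) (hd : d ∈ Subgroup.centralizer (W : Set G)) (hgd : g * d * g⁻¹ ∈ Subgroup.centralizer (W : Set G)) : ∃ h ∈ Subgroup.normalizer (W : Set G), h * d * h⁻¹ = g * d * g⁻¹ := by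
  obtain ⟨hWT, hcl⟩ := hW
  have hcl' : ∀ x : G, MulAut.conj x • W ≤ (T : Subgroup G) → MulAut.conj x • W = W := hcl
  have hWp : IsPGroup p W := T.2.to_le hWT
  set d' := g * d * g⁻¹ with hd'
  set C := Subgroup.centralizer ({d'} : Set G) with hC
  have hWC : W ≤ C := by
    intro w hw
    rw [hC, Subgroup.mem_centralizer_singleton_iff]
    exact (hgd w hw)
  have hgWC : MulAut.conj g • W ≤ C := by
    intro x hx
    rw [mem_conj_smul_iff] at hx
    rw [hC, Subgroup.mem_centralizer_singleton_iff]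
    have := hd _ hx
    -- (g⁻¹ x g) d = d (g⁻¹ x g)
    rw [hd']
    calc x * (g * d * g⁻¹) = g * ((g⁻¹ * x * g) * d) * g⁻¹ := by group
      _ = g * (d * (g⁻¹ * x * g)) * g⁻¹ := by rw [this]
      _ = g * d * g⁻¹ * x := by group
  obtain ⟨c, hcC, P, hWP, hcP⟩ := exists_conj_le_sylow C W (MulAut.conj g • W) hWp
    (isPGroup_conj_smul hWp g) hWC hgWC
  obtain ⟨x, hx⟩ := MulAction.exists_smul_eq G P T
  have hPT : MulAut.conj x • (P : Subgroup G) = T := by
    rw [← Sylow.coe_subgroup_smul, hx]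
  have h1 : MulAut.conj x • W ≤ (T : Subgroup G) := by
    rw [← hPT]
    exact Subgroup.pointwise_smul_le_pointwise_smul_iff.mpr hWP
  have h2 : MulAut.conj (x * (c * g)) • W ≤ (T : Subgroup G) := by
    rw [← hPT, map_mul, mul_smul, map_mul, mul_smul]
    exact Subgroup.pointwise_smul_le_pointwise_smul_iff.mpr hcP
  have e1 := hcl' x h1
  have e2 := hcl' _ h2
  rw [map_mul, mul_smul] at e2
  have e3 : MulAut.conj (c * g) • W = W := by
    have : MulAut.conj x • (MulAut.conj (c * g) • W) = MulAut.conj x • W := by rw [e2, e1]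
    exact smul_left_cancel _ this
  refine ⟨c * g, ?_, ?_⟩
  · exact Subgroup.mem_normalizer_iff_map_conj_eq.mpr e3
  · rw [hC, Subgroup.mem_centralizer_singleton_iff] at hcC
    calc c * g * d * (c * g)⁻¹ = c * d' * c⁻¹ := by rw [hd']; group
      _ = d' * c * c⁻¹ := by rw [hcC]
      _ = d' := by group

end Cfsg.Agent.S1243
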