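import Mathlib
-- Template for statement S1246 (row 1246; see /opt/grader/pristine/manifest.json for weights).
-- Copy to Cfsg/Agent/S1246.lean and replace the sorry. The statement below is byte-identical to the frozen
-- statement Cfsg.CfsgFrozen.S1246 (Cfsg/Statements/S1246.lean; the theorem Cfsg.generalized_fitting_centralizer_pgroup_monotone);
-- the grader kernel-checks Cfsg.Agent.S1246.result against that frozen type. Keep the theorem IN THIS FILE
-- (a `result` declared elsewhere and merely imported here is not credited); helpers may live anywhere
-- under Cfsg/Agent/.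
import Cfsg.Statements.S1246
import Cfsg.Agent.Lib.Helper3.CharP5

set_option autoImplicit false
open Cfsg
open Cfsg.Agent.Lib.Helper3 Cfsg.Agent.Lib.Lead

namespace Cfsg.Agent.S1246

/-- Let V ≤ U be p-subgroups of the finite group G. If the generalized Fitting subgroup of C_G(V) is a p-group, then so is that of C_G(U). -/
theorem result {G : Type*} [Group G] [Finite G] {p : ℕ} [Fact p.Prime] (U V : Subgroup G) (hVU : V ≤ U) (hU : IsPGroup p U) (hV : IsPGroup p ↥(Cfsg.generalizedFittingSubgroup ↥(Subgroup.centralizer (V : Set G)))) : IsPGroup p ↥(Cfsg.generalizedFittingSubgroup ↥(Subgroup.centralizer (U : Set G))) := by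
  exact isPGroup_generalizedFittingSubgroup_centralizer_mono hU _ V hVU le_rfl hV

end Cfsg.Agent.S1246
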