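import Mathlib
-- Template for statement S1248 (row 1248; see /opt/grader/pristine/manifest.json for weights).
-- Copy to Cfsg/Agent/S1248.lean and replace the sorry. The statement below is byte-identical to the frozen
-- statement Cfsg.CfsgFrozen.S1248 (Cfsg/Statements/S1248.lean; the theorem Cfsg.u34_type_sylow_two_structure);
-- the grader kernel-checks Cfsg.Agent.S1248.result against that frozen type. Keep the theorem IN THIS FILE
-- (a `result` declared elsewhere and merely imported here is not credited); helpers may live anywhere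
-- under Cfsg/Agent/.
import Cfsg.Statements.S1248
import Cfsg.Agent.Lib.Helper3.U3g

set_option autoImplicit false
open Cfsg
open Cfsg.Agent.Lib.Helper3.U3

namespace Cfsg.Agent.S1248

/-- Let F be a field with 16 elements and S a Sylow 2-subgroup of PSU(3) over F (the unitary group U₃(4)). Then |S| = 64; the centre Z(S) is a Klein four-group and coincides with the subgroup generated by the involutions of S and with the derived subgroup; and every element of S ⧸ Z(S) squares to the identity, S ⧸ Z(S) having order 16. -/
theorem result {F : Type*} [Field F] [Fintype F] (hF : Fintype.card F = 16) (S : Sylow 2 (Cfsg.PSU 3 F 4)) : Nat.card S = 64 ∧ IsKleinFour (Subgroup.center (S : Subgroup (Cfsg.PSU 3 F 4))) ∧ Subgroup.center (S : Subgroup (Cfsg.PSU 3 F 4)) = Subgroup.closure {x : (S : Subgroup (Cfsg.PSU 3 F 4)) | orderOf x = 2} ∧ Subgroup.center (S : Subgroup (Cfsg.PSU 3 F 4)) = commutator (S : Subgroup (Cfsg.PSU 3 F 4)) ∧ Nat.card ((S : Subgroup (Cfsg.PSU 3 F 4)) ⧸ Subgroup.center (S : Subgroup (Cfsg.PSU 3 F 4))) = 16 ∧ ∀ x : (S : Subgroup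 (Cfsg.PSU 3 F 4)) ⧸ Subgroup.center (S : Subgroup (Cfsg.PSU 3 F 4)), x ^ 2 = 1 := by
  have hF' : Fintype.card F = 4 ^ 2 := by rw [hF]; norm_num
  haveI : CharP F 2 := Cfsg.Agent.Lib.Helper3.Sz.charP_two_of_card (n := 4) (by
    rw [hF]; norm_num)
  obtain ⟨c⟩ := exists_coord_sylow' (n := 2) (by omega) (by norm_num) hF' S
  refine ⟨?_, c.isKleinFour_center rfl, c.center_eq_closure, c.center_eq_commutator, ?_,
    c.quotient_sq⟩
  · rw [c.card_eq]; norm_num
  · rw [c.card_quotient_center]; norm_num

end Cfsg.Agent.S1248
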