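import Mathlib
import Cfsg.Statements.S1249
import Cfsg.Agent.Lib.Helper3.Basic

set_option autoImplicit false
open Cfsg
open scoped Pointwise
open Cfsg.Agent.Lib.Helper3

namespace Cfsg.Agent.S1249

theorem result {G : Type*} [Group G] [Finite G] {p : ℕ} [Fact p.Prime] (P Q : Sylow p G) (A : Subgroup G) (hAQ : A ≤ Q) (hA : Cfsg.IsStronglyClosed A (P : Subgroup G)) : Cfsg.IsStronglyClosed A (Q : Subgroup G) := by
  obtain ⟨hAP, hcl⟩ := hA
  refine ⟨hAQ, ?_⟩
  obtain ⟨h, hh⟩ := MulAction.exists_smul_eq G Q P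
  have hQP : MulAut.conj h • (Q : Subgroup G) = P := by
    rw [← Sylow.coe_subgroup_smul, hh]
  have hle : MulAut.conj h • A ≤ A := by
    intro y hy
    rw [mem_conj_smul_iff] at hy
    have hy2 : h * (h⁻¹ * y * h) * h⁻¹ ∈ A := by
      apply hcl _ hy
      rw [← hQP]
      exact conj_mem_conj_smul _ _ _ (hAQ hy)
    have e : h * (h⁻¹ * y * h) * h⁻¹ = y := by group
    rwa [e] at hy2
  have heq : MulAut.conj h • A = A := by
    apply Subgroup.eq_of_le_of_card_ge hle
    have : Nat.card (MulAut.conj h • A : Subgroup G) = Nat.card A := by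
      have : (MulAut.conj h • A : Subgroup G) = A.map (MulAut.conj h).toMonoidHom := rfl
      rw [this]
      exact Subgroup.card_map_of_injective (MulAut.conj h).injective
    rw [this]
  intro x hx g hgx
  have h1 : (h * g) * x * (h * g)⁻¹ ∈ A := by
    apply hcl x hx
    rw [← hQP]
    have := conj_mem_conj_smul (Q : Subgroup G) h _ hgx
    have e : h * (g * x * g⁻¹) * h⁻¹ = (h * g) * x * (h * g)⁻¹ := by group
    rwa [e] at this
  rw [← heq, mem_conj_smul_iff] at h1
  have e : h⁻¹ * (h * g * x * (h * g)⁻¹) * h = g * x * g⁻¹ := by group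
  rwa [e] at h1

end Cfsg.Agent.S1249
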