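import Mathlib
import Cfsg.Statements.S1250
import Cfsg.Agent.Lib.Helper3.Basic

set_option autoImplicit false
open Cfsg
open scoped Pointwise
open Cfsg.Agent.Lib.Helper3

namespace Cfsg.Agent.S1250

theorem result {G : Type*} [Group G] [Finite G] {p : ℕ} [Fact p.Prime] (S : Sylow p G) (A : Subgroup G) (hA : Cfsg.IsStronglyClosed A (S : Subgroup G)) (N : Subgroup G) [N.Normal] : Cfsg.IsStronglyClosed (A.map (QuotientGroup.mk' N)) ((S : Subgroup G).map (QuotientGroup.mk' N)) := by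
  obtain ⟨hAS, hcl⟩ := hA
  refine ⟨Subgroup.map_mono hAS, ?_⟩
  rintro _ ⟨a, ha, rfl⟩ gbar hg
  obtain ⟨g, rfl⟩ := QuotientGroup.mk'_surjective N gbar
  obtain ⟨s0, hs0, hs0e⟩ := hg
  -- z = g a g⁻¹ lies in S ⊔ N
  set z := g * a * g⁻¹ with hz
  have hzK : z ∈ (S : Subgroup G) ⊔ N := by
    have h1 : (QuotientGroup.mk' N) (s0⁻¹ * z) = 1 := by
      rw [map_mul, map_inv, hs0e, hz]
      simp only [map_mul, map_inv]
      group
    have h2 : s0⁻¹ * z ∈ N := by
      rwa [← QuotientGroup.ker_mk' N, MonoidHom.mem_ker]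
    have : z = s0 * (s0⁻¹ * z) := by group
    rw [this]
    exact Subgroup.mul_mem_sup hs0 h2
  have hzp : IsPGroup p (Subgroup.zpowers z) := by
    have h1 : IsPGroup p (Subgroup.zpowers a) := isPGroup_zpowers_of_mem S.2 (hAS ha)
    have h2 : Subgroup.zpowers z = MulAut.conj g • Subgroup.zpowers a := by
      rw [← map_conj_eq_smul, MonoidHom.map_zpowers]
      rfl
    rw [h2]
    exact isPGroup_conj_smul h1 g
  obtain ⟨c, hcK, hcz⟩ := exists_conj_mem_of_le_sylow S ((S : Subgroup G) ⊔ N) le_sup_left z hzp hzK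
  obtain ⟨s, hs, n, hn, rfl⟩ := Subgroup.mem_sup_of_normal_right.mp hcK
  -- (s n g) a (s n g)⁻¹ ∈ S hence in A
  have h3 : (s * n * g) * a * (s * n * g)⁻¹ ∈ A := by
    apply hcl a ha
    have e : (s * n * g) * a * (s * n * g)⁻¹ = s * n * z * (s * n)⁻¹ := by rw [hz]; group
    rw [e]; exact hcz
  -- A is normalized by s⁻¹
  have h4 : s⁻¹ * ((s * n * g) * a * (s * n * g)⁻¹) * s⁻¹⁻¹ ∈ A := by
    apply hcl _ h3
    exact Subgroup.mul_mem _ (Subgroup.mul_mem _ (Subgroup.inv_mem _ hs) (hAS h3)) (Subgroup.inv_mem _ (Subgroup.inv_mem _ hs))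
  refine ⟨_, h4, ?_⟩
  have hn1 : (QuotientGroup.mk' N) n = 1 := by
    rw [← MonoidHom.mem_ker, QuotientGroup.ker_mk' N]; exact hn
  simp only [map_mul, map_inv, hn1]
  group

end Cfsg.Agent.S1250
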