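import Mathlib
-- Template for statement S1254 (row 1254; see /opt/grader/pristine/manifest.json for weights).
-- Copy to Cfsg/Agent/S1254.lean and replace the sorry. The statement below is byte-identical to the frozen
-- statement Cfsg.CfsgFrozen.S1254 (Cfsg/Statements/S1254.lean; the theorem Cfsg.dihedral_sylow_normal_two_complement_iff_four_group_normalizers);
-- the grader kernel-checks Cfsg.Agent.S1254.result against that frozen type. Keep the theorem IN THIS FILE
-- (a `result` declared elsewhere and merely imported here is not credited); helpers may live anywhere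
-- under Cfsg/Agent/.
import Cfsg.Statements.S1254
import Cfsg.Agent.Lib.Helper3.Di8

set_option autoImplicit false
open Cfsg
open Cfsg.Agent.Lib.Helper3

namespace Cfsg.Agent.S1254

/-- Let X be a finite group whose Sylow 2-subgroup S is dihedral (of order at least 4). Then X has a normal 2-complement if and only if, for every Klein four-subgroup U ≤ S, the normalizer N_X(U) is generated by C_X(U) and N_S(U). -/
theorem result {X : Type*} [Group X] [Finite X] (S : Sylow 2 X) (m : ℕ) (hm : 2 ≤ m) (eS : (S : Subgroup X) ≃* DihedralGroup m) : Cfsg.HasNormalPComplement 2 X ↔ ∀ U : Subgroup X, U ≤ S → IsKleinFour U → Subgroup.normalizer (U : Set X) = Subgroup.centralizer (U : Set X) ⊔ ((S : Subgroup X) ⊓ Subgroup.normalizer (U : Set X)) := by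
  have : Fact (Nat.Prime 2) := ⟨Nat.prime_two⟩
  constructor
  · intro h U hUS _
    exact npc_normalizer_eq h S U hUS
  · intro hall
    have hm0 : m ≠ 0 := by omega
    by_cases hm2 : m = 2
    · subst hm2
      have hSK := di_isKleinFour_of_two eS
      have hN := hall S le_rfl hSK
      have hPC : Subgroup.normalizer ((S : Subgroup X) : Set X) ≤
          Subgroup.centralizer ((S : Subgroup X) : Set X) := by
        rw [hN]
        apply sup_le le_rfl
        intro s hs
        rw [Subgroup.mem_centralizer_iff]
        intro t ht
        exact klein_comm (S : Subgroup X) hSK t s ht hs.1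
      exact ⟨S, _, MonoidHom.normal_ker _, MonoidHom.ker_transferSylow_isComplement' S hPC⟩
    · obtain ⟨h, q, hh0, hh2, hq⟩ := zmod_exists_quarter hm0 (di_four_dvd S eS hm hm2)
      have : NeZero m := ⟨hm0⟩
      apply Cfsg.Agent.Lib.Helper1.hasNormalPComplement_of_dihedralLike_aux _ X rfl S (diRot eS)
        (diRot_le eS) (isCyclic_diRot eS)
      · intro x hx y hy hxR hyR
        rcases di_cases eS x hx with ⟨i, rfl⟩ | ⟨i, rfl⟩
        · exact absurd ⟨i, rfl⟩ hxR
        rcases di_cases eS y hy with ⟨j, rfl⟩ | ⟨j, rfl⟩
        · exact absurd ⟨j, rfl⟩ hyR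
        rw [diS_mul_diS]; exact ⟨_, rfl⟩
      · intro x hx hxR
        rcases di_cases eS x hx with ⟨i, rfl⟩ | ⟨i, rfl⟩
        · exact absurd ⟨i, rfl⟩ hxR
        exact diS_mul_self eS i
      · intro x hx hxR g hg
        rcases di_cases eS x hx with ⟨i, rfl⟩ | ⟨i, rfl⟩
        · exact absurd ⟨i, rfl⟩ hxR
        obtain ⟨j, hj⟩ := hg
        have hsq : diR eS j * diR eS j = 1 := by
          rw [← hj]
          calc g * diS eS i * g⁻¹ * (g * diS eS i * g⁻¹) = g * (diS eS i * diS eS i) * g⁻¹ := by
                group
            _ = 1 := by rw [diS_mul_self]; group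
        rw [diR_sq_eq_one_iff] at hsq
        have hj0 : j ≠ 0 := by
          rintro rfl
          rw [diR_zero] at hj
          apply diS_ne_one eS i
          calc diS eS i = g⁻¹ * (g * diS eS i * g⁻¹) * g := by group
            _ = 1 := by rw [hj]; group
        rw [zmod_two_mul_unique j h hsq hh2 hj0 hh0] at hj
        have hconj : IsConj (diR eS h) (diS eS i) :=
          (isConj_iff.mpr ⟨g, hj⟩).symm
        exact di_not_conj_of_normalizer_eq S eS h q hh0 hh2 hq i
          (hall _ (diKlein_le eS h hh2 i) (isKleinFour_diKlein eS h hh0 hh2 i)) hconj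

end Cfsg.Agent.S1254
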