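import Mathlib
-- Template for statement S1255 (row 1255; see /opt/grader/pristine/manifest.json for weights).
-- Copy to Cfsg/Agent/S1255.lean and replace the sorry. The statement below is byte-identical to the frozen
-- statement Cfsg.CfsgFrozen.S1255 (Cfsg/Statements/S1255.lean; the theorem Cfsg.dihedral_sylow_fusion_simple_iff);
-- the grader kernel-checks Cfsg.Agent.S1255.result against that frozen type. Keep the theorem IN THIS FILE
-- (a `result` declared elsewhere and merely imported here is not credited); helpers may live anywhere
-- under Cfsg/Agent/.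
import Cfsg.Statements.S1255
import Cfsg.Agent.Lib.Helper3.Di6

set_option autoImplicit false
open Cfsg
open Cfsg.Agent.Lib.Helper3

namespace Cfsg.Agent.S1255

/-- Let X be a finite group whose Sylow 2-subgroup S is dihedral of order 2m ≥ 4. Then X has no subgroup of index 2 and no isolated involution if and only if either all involutions of X are conjugate, or for every Klein four-subgroup U ≤ S the index |N_X(U) : C_X(U)| equals 3 when |S| = 4 and equals 6 when |S| > 4. -/
theorem result {X : Type*} [Group X] [Finite X] (S : Sylow 2 X) (m : ℕ) (hm : 2 ≤ m) (eS : (S : Subgroup X) ≃* DihedralGroup m) : ((∀ H : Subgroup X, H.index ≠ 2) ∧ (∀ z : X, ¬ Cfsg.IsIsolatedInvolution z)) ↔ ((∀ a b : X, orderOf a = 2 → orderOf b = 2 → IsConj a b) ∨ (∀ U : Subgroup X, U ≤ S → IsKleinFour U → (Subgroup.centralizer (U : Set X)).relIndex (Subgroup.normalizer (U : Set X)) = (if Nat.card S = 4 then 3 else 6))) := by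
  have hm0 : m ≠ 0 := by omega
  obtain ⟨h, hh0, hh2⟩ := zmod_exists_half hm0 (di_two_dvd S eS hm)
  have hcard : Nat.card ↥(S : Subgroup X) = 2 * m := by
    rw [Nat.card_congr eS.toEquiv, DihedralGroup.nat_card]
  have key : (∀ a b : X, orderOf a = 2 → orderOf b = 2 → IsConj a b) →
      ((∀ H : Subgroup X, H.index ≠ 2) ∧ (∀ z : X, ¬ Cfsg.IsIsolatedInvolution z)) := fun hall =>
    ⟨di_no_index_two_of_all_conj S eS h hh0 hh2 hall, di_no_isolated_of_all_conj S eS h hh0 hh2 hall⟩
  constructor
  · rintro ⟨hno, -⟩
    left
    exact di_all_conj S eS h hh0 hh2 (di_conj_of_no_index_two S eS h hh0 hh2 hno)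
  · rintro (hall | hidx)
    · exact key hall
    · apply key
      by_cases h4 : Nat.card (S : Subgroup X) = 4
      · have hm2 : m = 2 := by
          have : Nat.card ↥(S : Subgroup X) = 4 := h4
          omega
        subst hm2
        have hSK := di_isKleinFour_of_two eS
        have h3 := hidx S le_rfl hSK
        rw [if_pos h4] at h3
        exact klein_sylow_all_conj_of_index_three S hSK h3
      · apply di_all_conj S eS h hh0 hh2
        apply di_conj_of_index_six eS h hh0 hh2
        intro U hUS hU
        have := hidx U hUS hU
        rw [if_neg h4] at this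
        exact this

end Cfsg.Agent.S1255
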