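import Mathlib
-- Template for statement S1256 (row 1256; see /opt/grader/pristine/manifest.json for weights).
-- Copy to Cfsg/Agent/S1256.lean and replace the sorry. The statement below is byte-identical to the frozen
-- statement Cfsg.CfsgFrozen.S1256 (Cfsg/Statements/S1256.lean; the theorem Cfsg.dihedral_sylow_classes_of_four_groups);
-- the grader kernel-checks Cfsg.Agent.S1256.result against that frozen type. Keep the theorem IN THIS FILE
-- (a `result` declared elsewhere and merely imported here is not credited); helpers may live anywhere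
-- under Cfsg/Agent/.
import Cfsg.Statements.S1256
import Cfsg.Agent.Lib.Helper3.Di12

set_option autoImplicit false
open Cfsg
open Cfsg.Agent.Lib.Helper3

namespace Cfsg.Agent.S1256

/-- Let X be a finite group whose Sylow 2-subgroup S is dihedral of order 2m ≥ 4. If |S| = 4, any two Klein four-subgroups of X are conjugate; if |S| > 4, there are Klein four-subgroups U₁, U₂ of X that are not conjugate, and every Klein four-subgroup of X is conjugate to U₁ or to U₂. -/
theorem result {X : Type*} [Group X] [Finite X] (S : Sylow 2 X) (m : ℕ) (hm : 2 ≤ m) (eS : (S : Subgroup X) ≃* DihedralGroup m) : (Nat.card S = 4 → ∀ U V : Subgroup X, IsKleinFour U → IsKleinFour V → (∃ x : X, U.map (MulAut.conj x).toMonoidHom = V)) ∧ (4 < Nat.card S → ∃ U₁ U₂ : Subgroup X, IsKleinFour U₁ ∧ IsKleinFour U₂ ∧ ¬ (∃ x : X, U₁.map (MulAut.conj x).toMonoidHom = U₂) ∧ ∀ V : Subgroup X, IsKleinFour V → (∃ x : X, V.map (MulAut.conj x).toMonoidHom = U₁) ∨ (∃ x : X, V.map (MulAut.conj x).toMonoidHom = U₂)) := by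
  have : Fact (Nat.Prime 2) := ⟨Nat.prime_two⟩
  have hm0 : m ≠ 0 := by omega
  have hcard : Nat.card ↥(S : Subgroup X) = 2 * m := by
    rw [Nat.card_congr eS.toEquiv, DihedralGroup.nat_card]
  constructor
  · intro h4 U V hU hV
    have h4' : Nat.card ↥(S : Subgroup X) = 4 := h4
    exact exists_conj_eq_of_card_eq_sylow S U V (by rw [hU.card_four, h4'])
      (by rw [hV.card_four, h4'])
  · intro h4
    have h4' : 4 < Nat.card ↥(S : Subgroup X) := h4
    have hm2 : m ≠ 2 := by omega
    have h2dvd := di_two_dvd S eS hm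
    obtain ⟨h, q, hh0, hh2, hq⟩ := zmod_exists_quarter hm0 (di_four_dvd S eS hm hm2)
    have : NeZero m := ⟨hm0⟩
    refine ⟨diKlein eS h hh2 0, diKlein eS h hh2 1, isKleinFour_diKlein eS h hh0 hh2 0,
      isKleinFour_diKlein eS h hh0 hh2 1, ?_, ?_⟩
    · rintro ⟨x, hx⟩
      obtain ⟨s, hs, hsU⟩ := di_klein_control S eS hm0 h q hh0 hh2 hq _ _
        (diKlein_le eS h hh2 0) (diKlein_le eS h hh2 1) (isKleinFour_diKlein eS h hh0 hh2 0)
        (isKleinFour_diKlein eS h hh0 hh2 1) x hx
      have h1 := hsU _ (diS_mem_diKlein eS h hh2 0)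
      -- the conjugate is `diS (2 * j)` for some `j`
      have h2 : ∃ j, s * diS eS 0 * s⁻¹ = diS eS (2 * j) := by
        rcases di_cases eS s hs with ⟨j, rfl⟩ | ⟨j, rfl⟩
        · refine ⟨-j, ?_⟩
          rw [diR_conj_diS]; congr 1; ring
        · refine ⟨j, ?_⟩
          rw [diS_conj_diS]; congr 1; ring
      obtain ⟨j, hj⟩ := h2
      rw [hj] at h1
      rcases h1 with h3 | h3 | h3 | h3
      · exact diS_ne_one eS _ h3
      · exact diR_ne_diS eS _ _ h3.symm
      · rw [diS_inj] at h3
        have := zmod_even_ne_odd h2dvd j 0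
        rw [mul_zero, zero_add] at this
        exact this h3
      · rw [diR_mul_diS, diS_inj, ← hq] at h3
        apply zmod_even_ne_odd h2dvd j (-q)
        rw [h3]; ring
    · intro V hV
      have hVp : IsPGroup 2 ↥V := IsPGroup.of_card (n := 2) (by rw [hV.card_four]; norm_num)
      obtain ⟨x, hx⟩ := exists_map_conj_le_sylow S V hVp
      have hV' : IsKleinFour ↥(V.map (MulAut.conj x).toMonoidHom) :=
        isKleinFour_of_equiv (V.equivMapOfInjective _ (MulAut.conj x).injective) hV
      obtain ⟨i, hi⟩ := di_klein_eq eS h hh0 hh2 _ hx hV'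
      obtain ⟨j, hj | hj⟩ := zmod_parity' i
      · left
        refine ⟨diR eS j * x, ?_⟩
        have : (MulAut.conj (diR eS j * x)).toMonoidHom =
            (MulAut.conj (diR eS j)).toMonoidHom.comp (MulAut.conj x).toMonoidHom := by
          rw [map_mul]; rfl
        rw [this, ← Subgroup.map_map, hi, diKlein_map_conj_diR eS h hh0 hh2, hj, sub_self]
      · right
        refine ⟨diR eS j * x, ?_⟩
        have : (MulAut.conj (diR eS j * x)).toMonoidHom =
            (MulAut.conj (diR eS j)).toMonoidHom.comp (MulAut.conj x).toMonoidHom := by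
          rw [map_mul]; rfl
        rw [this, ← Subgroup.map_map, hi, diKlein_map_conj_diR eS h hh0 hh2, hj]
        congr 1; ring

end Cfsg.Agent.S1256
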