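import Mathlib
-- Template for statement S1258 (row 1258; see /opt/grader/pristine/manifest.json for weights).
-- Copy to Cfsg/Agent/S1258.lean and replace the sorry. The statement below is byte-identical to the frozen
-- statement Cfsg.CfsgFrozen.S1258 (Cfsg/Statements/S1258.lean; the theorem Cfsg.quasisimple_commutator_of_central_quotient_simple);
-- the grader kernel-checks Cfsg.Agent.S1258.result against that frozen type. Keep the theorem IN THIS FILE
-- (a `result` declared elsewhere and merely imported here is not credited); helpers may live anywhere
-- under Cfsg/Agent/.
import Cfsg.Statements.S1258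
import Cfsg.Agent.Lib.Helper3.Components3

set_option autoImplicit false
open Cfsg

namespace Cfsg.Agent.S1258

/-- If the central quotient of a finite group X is non-abelian simple, then X = X' Z(X) and the commutator subgroup X' is quasisimple. -/
theorem result {X : Type*} [Group X] [Finite X] (hs : IsSimpleGroup (X ⧸ Subgroup.center X)) (hna : ¬ IsMulCommutative (X ⧸ Subgroup.center X)) : commutator X ⊔ Subgroup.center X = ⊤ ∧ Cfsg.IsQuasisimple ↥(commutator X) := by
  exact ⟨Cfsg.Agent.Lib.Helper3.commutator_sup_eq_top_of_simple_quotient _ hs hna,
    Cfsg.Agent.Lib.Helper3.isQuasisimple_commutator_of_simple_quotient _ le_rfl hs hna⟩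

end Cfsg.Agent.S1258
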