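import Mathlib
-- Template for statement S1259 (row 1259; see /opt/grader/pristine/manifest.json for weights).
-- Copy to Cfsg/Agent/S1259.lean and replace the sorry. The statement below is byte-identical to the frozen
-- statement Cfsg.CfsgFrozen.S1259 (Cfsg/Statements/S1259.lean; the theorem Cfsg.quasisimple_subnormal_subgroup_top_or_central);
-- the grader kernel-checks Cfsg.Agent.S1259.result against that frozen type. Keep the theorem IN THIS FILE
-- (a `result` declared elsewhere and merely imported here is not credited); helpers may live anywhere
-- under Cfsg/Agent/.
import Cfsg.Statements.S1259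
import Cfsg.Agent.Lib.Helper3.Components2

set_option autoImplicit false
open Cfsg

namespace Cfsg.Agent.S1259

/-- In a quasisimple group, every subnormal subgroup is either the whole group or central. -/
theorem result {X : Type*} [Group X] [Finite X] (hX : Cfsg.IsQuasisimple X) (H : Subgroup X) (hH : H.IsSubnormal) : H = ⊤ ∨ H ≤ Subgroup.center X := by
  exact Cfsg.Agent.Lib.Helper3.IsQuasisimple.subnormal_eq_top_or_le_center hX H hH

end Cfsg.Agent.S1259
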