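import Mathlib
-- Template for statement S1260 (row 1260; see /opt/grader/pristine/manifest.json for weights).
-- Copy to Cfsg/Agent/S1260.lean and replace the sorry. The statement below is byte-identical to the frozen
-- statement Cfsg.CfsgFrozen.S1260 (Cfsg/Statements/S1260.lean; the theorem Cfsg.component_of_subnormal_iff);
-- the grader kernel-checks Cfsg.Agent.S1260.result against that frozen type. Keep the theorem IN THIS FILE
-- (a `result` declared elsewhere and merely imported here is not credited); helpers may live anywhere
-- under Cfsg/Agent/.
import Cfsg.Statements.S1260
import Cfsg.Agent.Lib.Helper3.Components4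

set_option autoImplicit false
open Cfsg

namespace Cfsg.Agent.S1260

/-- Let H be a subnormal subgroup of the finite group G and K a subgroup of H. Then K is a component of H if and only if K, viewed in G, is a component of G. -/
theorem result {G : Type*} [Group G] [Finite G] (H : Subgroup G) (hH : H.IsSubnormal) (K : Subgroup ↥H) : Cfsg.IsComponent K ↔ Cfsg.IsComponent (K.map H.subtype) := by
  exact Cfsg.Agent.Lib.Helper3.isComponent_map_subtype_iff hH K

end Cfsg.Agent.S1260
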