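import Mathlib
-- Template for statement S1261 (row 1261; see /opt/grader/pristine/manifest.json for weights).
-- Copy to Cfsg/Agent/S1261.lean and replace the sorry. The statement below is byte-identical to the frozen
-- statement Cfsg.CfsgFrozen.S1261 (Cfsg/Statements/S1261.lean; the theorem Cfsg.component_le_or_commutes_with_subnormal);
-- the grader kernel-checks Cfsg.Agent.S1261.result against that frozen type. Keep the theorem IN THIS FILE
-- (a `result` declared elsewhere and merely imported here is not credited); helpers may live anywhere
-- under Cfsg/Agent/.
import Cfsg.Statements.S1261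
import Cfsg.Agent.Lib.Helper3.Components2

set_option autoImplicit false
open Cfsg

namespace Cfsg.Agent.S1261

/-- Let L be a component and H a subnormal subgroup of the finite group G. Then L ≤ H (so L is a component of H) or ⁅L, H⁆ = 1. -/
theorem result {G : Type*} [Group G] [Finite G] (L H : Subgroup G) (hL : Cfsg.IsComponent L) (hH : H.IsSubnormal) : L ≤ H ∨ ⁅L, H⁆ = ⊥ := by
  exact Cfsg.Agent.Lib.Helper3.IsComponent.le_or_commutator_eq_bot_of_isSubnormal hL hH

end Cfsg.Agent.S1261
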