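import Mathlib
-- Template for statement S1263 (row 1263; see /opt/grader/pristine/manifest.json for weights).
-- Copy to Cfsg/Agent/S1263.lean and replace the sorry. The statement below is byte-identical to the frozen
-- statement Cfsg.CfsgFrozen.S1263 (Cfsg/Statements/S1263.lean; the theorem Cfsg.center_layer_eq_join_center_components);
-- the grader kernel-checks Cfsg.Agent.S1263.result against that frozen type. Keep the theorem IN THIS FILE
-- (a `result` declared elsewhere and merely imported here is not credited); helpers may live anywhere
-- under Cfsg/Agent/.
import Cfsg.Statements.S1263
import Cfsg.Agent.Lib.Helper3.Components9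

set_option autoImplicit false
open Cfsg

namespace Cfsg.Agent.S1263

/-- For a finite group G, Z(E(G)) is the subgroup generated by the centres Z(L) of the components L of G (all viewed as subgroups of G). -/
theorem result {G : Type*} [Group G] [Finite G] : (Subgroup.center ↥(Cfsg.layer G)).map (Cfsg.layer G).subtype = ⨆ L : {K : Subgroup G // Cfsg.IsComponent K}, (Subgroup.center ↥(L : Subgroup G)).map (L : Subgroup G).subtype := by
  exact Cfsg.Agent.Lib.Helper3.center_layer_eq_iSup

end Cfsg.Agent.S1263
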