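import Mathlib
-- Template for statement S1264 (row 1264; see /opt/grader/pristine/manifest.json for weights).
-- Copy to Cfsg/Agent/S1264.lean and replace the sorry. The statement below is byte-identical to the frozen
-- statement Cfsg.CfsgFrozen.S1264 (Cfsg/Statements/S1264.lean; the theorem Cfsg.solvable_normal_subgroup_of_centralizer_fitting_le_center);
-- the grader kernel-checks Cfsg.Agent.S1264.result against that frozen type. Keep the theorem IN THIS FILE
-- (a `result` declared elsewhere and merely imported here is not credited); helpers may live anywhere
-- under Cfsg/Agent/.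
import Cfsg.Statements.S1264
import Cfsg.Agent.Lib.Helper3.Components11

set_option autoImplicit false
open Cfsg

namespace Cfsg.Agent.S1264

/-- Let G be finite, C = C_G(F(G)) the centralizer of the Fitting subgroup, and N a solvable subgroup of C normalized by C. Then N ≤ Z(F(G)). -/
theorem result {G : Type*} [Group G] [Finite G] (N : Subgroup G) (hN : N ≤ Subgroup.centralizer (Cfsg.fittingSubgroup G : Set G)) (hnorm : Subgroup.centralizer (Cfsg.fittingSubgroup G : Set G) ≤ Subgroup.normalizer (N : Set G)) (hsolv : Group.IsSolvable ↥N) : N ≤ (Subgroup.center ↥(Cfsg.fittingSubgroup G)).map (Cfsg.fittingSubgroup G).subtype := by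
  rw [Cfsg.Agent.Lib.Helper3.center_map_subtype]
  exact Cfsg.Agent.Lib.Helper3.le_fitting_inf_centralizer_of_isSolvable N hN hnorm hsolv

end Cfsg.Agent.S1264
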