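import Mathlib
-- Template for statement S1267 (row 1267; see /opt/grader/pristine/manifest.json for weights).
-- Copy to Cfsg/Agent/S1267.lean and replace the sorry. The statement below is byte-identical to the frozen
-- statement Cfsg.CfsgFrozen.S1267 (Cfsg/Statements/S1267.lean; the theorem Cfsg.layer_normalizer_eq_layer_of_le_p_core);
-- the grader kernel-checks Cfsg.Agent.S1267.result against that frozen type. Keep the theorem IN THIS FILE
-- (a `result` declared elsewhere and merely imported here is not credited); helpers may live anywhere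
-- under Cfsg/Agent/.
import Cfsg.Statements.S1267
import Cfsg.Agent.Lib.Helper3.CharP3

set_option autoImplicit false
open Cfsg
open Cfsg.Agent.Lib.Helper3 Cfsg.Agent.Lib.Lead

namespace Cfsg.Agent.S1267

/-- Let G be finite and P ≤ O_p(G). Then E(N_G(P)) = E(G). -/
theorem result {G : Type*} [Group G] [Finite G] (p : ℕ) [Fact p.Prime] (P : Subgroup G) (hP : P ≤ Cfsg.pCore p G) : (Cfsg.layer ↥(Subgroup.normalizer ((P : Subgroup G) : Set G))).map (Subgroup.normalizer ((P : Subgroup G) : Set G)).subtype = Cfsg.layer G := by
  have hQ : IsPGroup p (Cfsg.pCore p G) := pCore_isPGroup p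
  have hPp : IsPGroup p P := hQ.to_le hP
  have hNQ : ∀ K : Subgroup G, K ≤ Subgroup.normalizer ((Cfsg.pCore p G : Subgroup G) : Set G) := by
    intro K
    rw [Subgroup.normalizer_eq_top]
    exact le_top
  have hCN : Subgroup.centralizer ((Cfsg.pCore p G : Subgroup G) : Set G) ≤
      Subgroup.normalizer (P : Set G) :=
    (Subgroup.centralizer_le hP).trans (Subgroup.centralizer_le_normalizer (P : Set G))
  apply le_antisymm
  · rw [Subgroup.map_le_iff_le_comap, layer_le_iff]
    intro K hK
    rw [← Subgroup.map_le_iff_le_comap]
    apply IsComponent.le_layer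
    have hKq : Cfsg.IsQuasisimple (K.map (Subgroup.normalizer (P : Set G)).subtype) :=
      isQuasisimple_map_of_injective _ (Subgroup.subtype_injective _) hK.2
    have hPO : P ≤ (Cfsg.pCore p (Subgroup.normalizer (P : Set G))).map
        (Subgroup.normalizer (P : Set G)).subtype :=
      le_map_pCore_of_le_normalizer hPp Subgroup.le_normalizer le_rfl
    have hRO : Cfsg.pCore p G ⊓ Subgroup.normalizer (P : Set G) ≤
        (Cfsg.pCore p (Subgroup.normalizer (P : Set G))).map (Subgroup.normalizer (P : Set G)).subtype := by
      apply le_map_pCore_of_le_normalizer (hQ.to_le inf_le_left) inf_le_right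
      exact Cfsg.Agent.Lib.Helper3.Sig.le_normalizer_inf (hNQ _) Subgroup.le_normalizer
    have hCR : Cfsg.pCore p G ⊓ Subgroup.centralizer (P : Set G) ≤
        Cfsg.pCore p G ⊓ Subgroup.normalizer (P : Set G) :=
      inf_le_inf_left _ (Subgroup.centralizer_le_normalizer (P : Set G))
    have hKc : K.map (Subgroup.normalizer (P : Set G)).subtype ≤ Subgroup.centralizer
        (((Cfsg.pCore p (Subgroup.normalizer (P : Set G))).map
          (Subgroup.normalizer (P : Set G)).subtype : Subgroup G) : Set G) :=
      map_le_centralizer_map ((IsComponent.le_layer hK).trans (layer_le_centralizer_pCore p _))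
    have h1 := le_centralizer_of_isQuasisimple hQ hPp (hNQ P) hKq (hNQ _)
      (hKc.trans (Subgroup.centralizer_le hPO))
      (hKc.trans (Subgroup.centralizer_le (hCR.trans hRO)))
    exact ⟨isSubnormal_map_subtype_of_le_normal hCN hK.1 h1, hKq⟩
  · rw [layer_le_iff]
    intro K hK
    have hKN : K ≤ Subgroup.normalizer (P : Set G) := by
      refine le_trans ?_ hCN
      exact (IsComponent.le_layer hK).trans (layer_le_centralizer_pCore p G)
    have h1 := IsComponent.le_layer (IsComponent.subgroupOf hK hKN)
    have h2 := Subgroup.map_mono (f := (Subgroup.normalizer (P : Set G)).subtype) h1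
    rwa [Subgroup.map_subgroupOf_eq_of_le hKN] at h2

end Cfsg.Agent.S1267
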