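import Mathlib
-- Template for statement S1268 (row 1268; see /opt/grader/pristine/manifest.json for weights).
-- Copy to Cfsg/Agent/S1268.lean and replace the sorry. The statement below is byte-identical to the frozen
-- statement Cfsg.CfsgFrozen.S1268 (Cfsg/Statements/S1268.lean; the theorem Cfsg.generalized_fitting_normalizer_of_generalized_fitting_eq_p_core);
-- the grader kernel-checks Cfsg.Agent.S1268.result against that frozen type. Keep the theorem IN THIS FILE
-- (a `result` declared elsewhere and merely imported here is not credited); helpers may live anywhere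
-- under Cfsg/Agent/.
import Cfsg.Statements.S1268
import Cfsg.Agent.Lib.Helper3.CharP2

set_option autoImplicit false
open Cfsg

namespace Cfsg.Agent.S1268

/-- Let G be finite with F*(G) = O_p(G). Then F*(N) = O_p(N) for N the normalizer of any p-subgroup P of G. -/
theorem result {G : Type*} [Group G] [Finite G] (p : ℕ) [Fact p.Prime] (h : Cfsg.generalizedFittingSubgroup G = Cfsg.pCore p G) (P : Subgroup G) (hP : IsPGroup p ↥P) : Cfsg.generalizedFittingSubgroup ↥(Subgroup.normalizer ((P : Subgroup G) : Set G)) = Cfsg.pCore p ↥(Subgroup.normalizer ((P : Subgroup G) : Set G)) := by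
  have hC : Subgroup.centralizer (Cfsg.pCore p G : Set G) ≤ Cfsg.pCore p G := by
    have := Cfsg.Agent.Lib.Helper3.centralizer_generalizedFittingSubgroup_le (G := G)
    rwa [h] at this
  exact Cfsg.Agent.Lib.Helper3.generalizedFittingSubgroup_normalizer_eq_pCore
    (Cfsg.Agent.Lib.Lead.pCore_isPGroup p) hC hP

end Cfsg.Agent.S1268
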