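import Mathlib
import Cfsg.Statements.S1269
import Cfsg.Agent.Lib.Helper4.LBal11
import Cfsg.Agent.Lib.Helper3.PComp6
-- import your own Cfsg.Agent.* helpers here

set_option autoImplicit false
open Cfsg

namespace Cfsg.Agent.S1269

/-- Let G be finite with O_{p'}(G) = 1, P a p-subgroup, N = N_G(P), and x an element of the preimage in N of E(N / O_{p'}(N)). Then x normalizes every component L of G. -/
theorem result {G : Type*} [Group G] [Finite G] (p : ℕ) [Fact p.Prime] (hO : Cfsg.pPrimeCore p G = ⊥) (P : Subgroup G) (hP : IsPGroup p ↥P) (L : Subgroup G) (hL : Cfsg.IsComponent L) (x : G) (hx : x ∈ (((Cfsg.layer (↥(Subgroup.normalizer ((P : Subgroup G) : Set G)) ⧸ Cfsg.pPrimeCore p ↥(Subgroup.normalizer ((P : Subgroup G) : Set G)))).comap (QuotientGroup.mk' (Cfsg.pPrimeCore p ↥(Subgroup.normalizer ((P : Subgroup G) : Set G))))).map (Subgroup.normalizer ((P : Subgroup G) : Set G)).subtype)) : L.map (MulAut.conj x).toMonoidHom = L := by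
  have hinj : Function.Injective (QuotientGroup.mk' (Cfsg.pPrimeCore p G)) := by
    rw [← MonoidHom.ker_eq_bot_iff, QuotientGroup.ker_mk', hO]
  let e : G ≃* G ⧸ Cfsg.pPrimeCore p G :=
    MulEquiv.ofBijective (QuotientGroup.mk' (Cfsg.pPrimeCore p G))
      ⟨hinj, QuotientGroup.mk'_surjective _⟩
  have hLm : Cfsg.IsComponent (L.map (QuotientGroup.mk' (Cfsg.pPrimeCore p G))) :=
    Cfsg.Agent.Lib.Helper3.IsComponent.map_equiv e hL
  have hLp : Cfsg.IsPComponent p L := Cfsg.Agent.Lib.Helper3.IsComponent.isPComponent_of_map hL hLm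
  obtain ⟨y, hy, rfl⟩ := hx
  have h1 := Cfsg.Agent.Lib.Helper4.LBal.comap_layer_normalizer_map_le_normalizer hP hLm
    (Subgroup.mem_map_of_mem _ hy)
  have h2 : (y : G) ∈ Subgroup.normalizer (L : Set G) :=
    Cfsg.Agent.Lib.Helper3.IsPComponent.mem_normalizer_of_map hLp h1
  exact Subgroup.mem_normalizer_iff_map_conj_eq.1 h2

end Cfsg.Agent.S1269
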