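import Cfsg.Statements.S1271
import Mathlib
import Cfsg.Agent.Lib.Helper4.LB4
-- import your own Cfsg.Agent.* helpers here

set_option autoImplicit false
open Cfsg

namespace Cfsg.Agent.S1271

open Cfsg.Agent.Lib.Helper1 Cfsg.Agent.Lib.Helper3 Cfsg.Agent.Lib.Helper4.LBal
  Cfsg.Agent.Lib.Helper4.NQ Cfsg.Agent.Lib.Helper4.LB

/-- Let G be finite with O_{p'}(G) = 1. Suppose that for every component L of G and every subgroup H ≥ L in which L is normal, the quotient H / C_H(L) is balanced for the prime p. Then G is balanced for p. -/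
theorem result {G : Type*} [Group G] [Finite G] (p : ℕ) [Fact p.Prime] (hO : Cfsg.pPrimeCore p G = ⊥) (h : ∀ L : Subgroup G, Cfsg.IsComponent L → ∀ H : Subgroup G, L ≤ H → (L.subgroupOf H).Normal → ∀ [((Subgroup.centralizer (L : Set G)).subgroupOf H).Normal], Cfsg.IsBalancedFor p (↥H ⧸ (Subgroup.centralizer (L : Set G)).subgroupOf H)) : Cfsg.IsBalancedFor p G := by
  intro x hx
  have hxp : x ^ p = 1 := by rw [← hx]; exact pow_orderOf_eq_one x
  have hmain := iInf_centralizerPPrimeCore_eq_bot hO (ι := Unit) (fun _ => x) (fun _ => hxp) ?_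
  · rw [iInf_const] at hmain
    rw [hmain]
    exact bot_le
  · intro K hK hall
    obtain ⟨hxN, hxC⟩ := hall ()
    rw [iInf_const]
    set D := centralizerPPrimeCore p x with hD
    set B := D ⊔ Subgroup.zpowers x with hB
    set H := K ⊔ B with hH
    have hDN : D ≤ Subgroup.normalizer (K : Set G) :=
      centralizerPPrimeCore_le_normalizer_component hO hxp hK
    have hBK : B ≤ Subgroup.normalizer (K : Set G) :=
      sup_le hDN (Subgroup.zpowers_le.2 hxN)
    have hKH : K ≤ H := le_sup_left
    have hDH : D ≤ H := le_sup_left.trans le_sup_right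
    have hxH : x ∈ H :=
      (le_sup_right.trans le_sup_right : Subgroup.zpowers x ≤ H) (Subgroup.mem_zpowers x)
    have hHN : H ≤ Subgroup.normalizer (K : Set G) := sup_le_normalizer_left hBK
    have hBa : B ≤ Subgroup.centralizer ({x} : Set G) := by
      apply sup_le (centralizerPPrimeCore_le_centralizer x)
      rw [Subgroup.zpowers_le, Subgroup.mem_centralizer_singleton_iff]
    have hKn : (K.subgroupOf H).Normal :=
      (Subgroup.normal_subgroupOf_iff_le_normalizer hKH).2 hHN
    have hCn : ((Subgroup.centralizer (K : Set G)).subgroupOf H).Normal := by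
      have h1 : H ≤ Subgroup.normalizer
          ((Subgroup.centralizer (K : Set G) : Subgroup G) : Set G) :=
        hHN.trans (normalizer_le_normalizer_centralizer_aux K)
      constructor
      intro n hn g
      rw [Subgroup.mem_subgroupOf] at hn ⊢
      exact (Subgroup.mem_normalizer_iff.1 (h1 g.2) _).1 hn
    let π := QuotientGroup.mk' ((Subgroup.centralizer (K : Set G)).subgroupOf H)
    have hπ : Function.Surjective π := QuotientGroup.mk'_surjective _
    have hker : ∀ g : ↥H, π g = 1 ↔ (g : G) ∈ Subgroup.centralizer (K : Set G) := by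
      intro g
      rw [QuotientGroup.mk'_apply, QuotientGroup.eq_one_iff, Subgroup.mem_subgroupOf]
    have hbal := h K hK H hKH hKn
    have hS : pPrimeCore p (↥H ⧸ (Subgroup.centralizer (K : Set G)).subgroupOf H) = ⊥ :=
      pPrimeCore_eq_bot_of_ker hO hK hKH hHN π hπ hker
    have horder : orderOf (π ⟨x, hxH⟩) = p := by
      apply orderOf_eq_prime
      · rw [← map_pow]
        have : (⟨x, hxH⟩ : ↥H) ^ p = 1 := by
          apply Subtype.ext
          simpa using hxp
        rw [this, map_one]
      · rw [Ne, hker]
        exact hxC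
    have h1 := hbal (π ⟨x, hxH⟩) horder
    rw [hS] at h1
    have hEZ : ∀ e ∈ D, ∀ z ∈ K, z ∈ Subgroup.centralizer (K : Set G) → e * z = z * e := by
      intro e he z hz hzc
      have hzF : z ∈ fittingSubgroup G :=
        inf_centralizer_le_fittingSubgroup hK (Subgroup.mem_inf.2 ⟨hz, hzc⟩)
      have hzP : z ∈ pCore p G := fittingSubgroup_le_pCore hO hzF
      have := centralizerPPrimeCore_le_centralizer_pCore hO hxp he
      exact ((Subgroup.mem_centralizer_iff.1 this) z hzP).symm
    have h2 := map_subgroupOf_le_centralizerPPrimeCore (p := p) (H := H) rfl hBK hxH hBa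
      (card_centralizerPPrimeCore_coprime x) (centralizerPPrimeCore_le_centralizer x)
      (inf_le_right.trans (centralizer_le_normalizer_centralizerPPrimeCore x)) hEZ π hπ hker
    exact le_centralizer_of_map_le_bot hDH π hker (h2.trans h1)

end Cfsg.Agent.S1271
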