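import Mathlib
-- Template for statement S1272 (row 1272; see /opt/grader/pristine/manifest.json for weights).
-- Copy to Cfsg/Agent/S1272.lean and replace the sorry. The statement below is byte-identical to the frozen
-- statement Cfsg.CfsgFrozen.S1272 (Cfsg/Statements/S1272.lean; the theorem Cfsg.p_component_exists_unique);
-- the grader kernel-checks Cfsg.Agent.S1272.result against that frozen type. Keep the theorem IN THIS FILE
-- (a `result` declared elsewhere and merely imported here is not credited); helpers may live anywhere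
-- under Cfsg/Agent/.
import Cfsg.Statements.S1272
import Cfsg.Agent.Lib.Helper3.PComp4

set_option autoImplicit false
open Cfsg
open Cfsg.Agent.Lib.Helper3 Cfsg.Agent.Lib.Lead

namespace Cfsg.Agent.S1272

/-- Let X be finite and Q = X / O_{p'}(X). For every component Kbar of Q there is a unique p-component K of X whose image in Q is Kbar; and the image of the p-layer L_{p'}(X) in Q is E(Q). -/
theorem result {X : Type*} [Group X] [Finite X] (p : ℕ) [Fact p.Prime] : (∀ Kbar : Subgroup (X ⧸ Cfsg.pPrimeCore p X), Cfsg.IsComponent Kbar → ∃! K : Subgroup X, Cfsg.IsPComponent p K ∧ K.map (QuotientGroup.mk' (Cfsg.pPrimeCore p X)) = Kbar) ∧ (Cfsg.pLayer p X).map (QuotientGroup.mk' (Cfsg.pPrimeCore p X)) = Cfsg.layer (X ⧸ Cfsg.pPrimeCore p X) := by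
  refine ⟨?_, pLayer_map_mk'⟩
  intro Kbar hKbar
  obtain ⟨K, hK, hKm⟩ := exists_isPComponent_map_eq hKbar
  refine ⟨K, ⟨hK, hKm⟩, ?_⟩
  rintro L ⟨hL, hLm⟩
  exact IsPComponent.eq_of_map_eq hL hK (hLm.trans hKm.symm)

end Cfsg.Agent.S1272
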