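import Mathlib
-- Template for statement S1273 (row 1273; see /opt/grader/pristine/manifest.json for weights).
-- Copy to Cfsg/Agent/S1273.lean and replace the sorry. The statement below is byte-identical to the frozen
-- statement Cfsg.CfsgFrozen.S1273 (Cfsg/Statements/S1273.lean; the theorem Cfsg.p_component_no_normal_subgroup_of_p_prime_index);
-- the grader kernel-checks Cfsg.Agent.S1273.result against that frozen type. Keep the theorem IN THIS FILE
-- (a `result` declared elsewhere and merely imported here is not credited); helpers may live anywhere
-- under Cfsg/Agent/.
import Cfsg.Statements.S1273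
import Cfsg.Agent.Lib.Helper3.PComp3

set_option autoImplicit false
open Cfsg

namespace Cfsg.Agent.S1273

/-- Let K be a p-component of the finite group X and N a normal subgroup of K whose index in K is prime to p. Then N = K. -/
theorem result {X : Type*} [Group X] [Finite X] (p : ℕ) [Fact p.Prime] (K : Subgroup X) (hK : Cfsg.IsPComponent p K) (N : Subgroup ↥K) [N.Normal] (hidx : (N.index).Coprime p) : N = ⊤ := by
  exact Cfsg.Agent.Lib.Helper3.IsPComponent.eq_top_of_normal_of_coprime_index hK N hidx

end Cfsg.Agent.S1273
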