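import Mathlib
-- Template for statement S1274 (row 1274; see /opt/grader/pristine/manifest.json for weights).
-- Copy to Cfsg/Agent/S1274.lean and replace the sorry. The statement below is byte-identical to the frozen
-- statement Cfsg.CfsgFrozen.S1274 (Cfsg/Statements/S1274.lean; the theorem Cfsg.p_component_normal_in_p_layer);
-- the grader kernel-checks Cfsg.Agent.S1274.result against that frozen type. Keep the theorem IN THIS FILE
-- (a `result` declared elsewhere and merely imported here is not credited); helpers may live anywhere
-- under Cfsg/Agent/.
import Cfsg.Statements.S1274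
import Cfsg.Agent.Lib.Helper3.PComp4

set_option autoImplicit false
open Cfsg

namespace Cfsg.Agent.S1274

/-- A p-component K of the finite group X is a normal subgroup of L_{p'}(X). -/
theorem result {X : Type*} [Group X] [Finite X] (p : ℕ) [Fact p.Prime] (K : Subgroup X) (hK : Cfsg.IsPComponent p K) : (K.subgroupOf (Cfsg.pLayer p X)).Normal := by
  exact Cfsg.Agent.Lib.Helper3.IsPComponent.normal_subgroupOf_pLayer hK

end Cfsg.Agent.S1274
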