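import Mathlib
-- Template for statement S1275 (row 1275; see /opt/grader/pristine/manifest.json for weights).
-- Copy to Cfsg/Agent/S1275.lean and replace the sorry. The statement below is byte-identical to the frozen
-- statement Cfsg.CfsgFrozen.S1275 (Cfsg/Statements/S1275.lean; the theorem Cfsg.two_component_quotient_core_quasisimple);
-- the grader kernel-checks Cfsg.Agent.S1275.result against that frozen type. Keep the theorem IN THIS FILE
-- (a `result` declared elsewhere and merely imported here is not credited); helpers may live anywhere
-- under Cfsg/Agent/.
import Cfsg.Statements.S1275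
import Cfsg.Agent.Lib.Helper3.PComp5

set_option autoImplicit false
open Cfsg

namespace Cfsg.Agent.S1275

/-- For a 2-component K of a finite group X, the quotient of K by its core O(K) is quasisimple. -/
theorem result {X : Type*} [Group X] [Finite X] (K : Subgroup X) (hK : Cfsg.IsPComponent 2 K) : Cfsg.IsQuasisimple (↥K ⧸ Cfsg.oddCore ↥K) := by
  exact Cfsg.Agent.Lib.Helper3.IsPComponent.isQuasisimple_quotient hK

end Cfsg.Agent.S1275
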