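import Mathlib
-- Template for statement S1277 (row 1277; see /opt/grader/pristine/manifest.json for weights).
-- Copy to Cfsg/Agent/S1277.lean and replace the sorry. The statement below is byte-identical to the frozen
-- statement Cfsg.CfsgFrozen.S1277 (Cfsg/Statements/S1277.lean; the theorem Cfsg.layer_maps_onto_layer_quotient_core_iff);
-- the grader kernel-checks Cfsg.Agent.S1277.result against that frozen type. Keep the theorem IN THIS FILE
-- (a `result` declared elsewhere and merely imported here is not credited); helpers may live anywhere
-- under Cfsg/Agent/.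
import Cfsg.Statements.S1277
import Cfsg.Agent.Lib.Helper3.PComp6

set_option autoImplicit false
open Cfsg
open Cfsg.Agent.Lib.Helper3 Cfsg.Agent.Lib.Lead

namespace Cfsg.Agent.S1277

/-- For a finite group X with core O(X): the image of E(X) in X / O(X) is all of E(X / O(X)) if and only if every 2-component of X is a component, i.e. L_{2'}(X) ≤ E(X). -/
theorem result {X : Type*} [Group X] [Finite X] : (Cfsg.layer X).map (QuotientGroup.mk' (Cfsg.oddCore X)) = Cfsg.layer (X ⧸ Cfsg.oddCore X) ↔ Cfsg.pLayer 2 X ≤ Cfsg.layer X := by
  exact layer_map_mk'_eq_iff

end Cfsg.Agent.S1277
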