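import Mathlib
-- Template for statement S1278 (row 1278; see /opt/grader/pristine/manifest.json for weights).
-- Copy to Cfsg/Agent/S1278.lean and replace the sorry. The statement below is byte-identical to the frozen
-- statement Cfsg.CfsgFrozen.S1278 (Cfsg/Statements/S1278.lean; the theorem Cfsg.two_components_commutator_le_cores);
-- the grader kernel-checks Cfsg.Agent.S1278.result against that frozen type. Keep the theorem IN THIS FILE
-- (a `result` declared elsewhere and merely imported here is not credited); helpers may live anywhere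
-- under Cfsg/Agent/.
import Cfsg.Statements.S1278
import Cfsg.Agent.Lib.Helper3.PComp5

set_option autoImplicit false
open Cfsg

namespace Cfsg.Agent.S1278

/-- Let K ≠ L be 2-components of the finite group X. Then ⁅K, L⁆ ≤ O(K) ⊓ O(L), and if K is quasisimple then ⁅K, L⁆ = 1. -/
theorem result {X : Type*} [Group X] [Finite X] (K L : Subgroup X) (hK : Cfsg.IsPComponent 2 K) (hL : Cfsg.IsPComponent 2 L) (hne : K ≠ L) : ⁅K, L⁆ ≤ ((Cfsg.oddCore ↥K).map K.subtype) ⊓ ((Cfsg.oddCore ↥L).map L.subtype) ∧ (Cfsg.IsQuasisimple ↥K → ⁅K, L⁆ = ⊥) := by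
  exact ⟨Cfsg.Agent.Lib.Helper3.IsPComponent.commutator_le_inf hK hL hne, fun hq => Cfsg.Agent.Lib.Helper3.IsPComponent.commutator_eq_bot_of_isQuasisimple hK hL hne hq⟩

end Cfsg.Agent.S1278
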