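import Mathlib
-- Template for statement S1279 (row 1279; see /opt/grader/pristine/manifest.json for weights).
-- Copy to Cfsg/Agent/S1279.lean and replace the sorry. The statement below is byte-identical to the frozen
-- statement Cfsg.CfsgFrozen.S1279 (Cfsg/Statements/S1279.lean; the theorem Cfsg.p_prime_core_centralizer_solvable_signalizer_functor);
-- the grader kernel-checks Cfsg.Agent.S1279.result against that frozen type. Keep the theorem IN THIS FILE
-- (a `result` declared elsewhere and merely imported here is not credited); helpers may live anywhere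
-- under Cfsg/Agent/.
import Cfsg.Statements.S1279
import Cfsg.Agent.Lib.Helper3.LocalP2

set_option autoImplicit false
open Cfsg
open Cfsg.Agent.Lib.Helper3 Cfsg.Agent.Lib.Lead

namespace Cfsg.Agent.S1279

/-- Let A be a noncyclic elementary abelian p-subgroup of the finite group G such that C_G(a) is solvable for every non-identity a ∈ A. Then a ↦ O_{p'}(C_G(a)) is a solvable A-signalizer functor on G. -/
theorem result {G : Type*} [Group G] [Finite G] (p : ℕ) [Fact p.Prime] (A : Subgroup G) (hA : Cfsg.IsElementaryAbelian p A) (hA2 : p ^ 2 ≤ Nat.card ↥A) (hsolv : ∀ a ∈ A, a ≠ 1 → Group.IsSolvable ↥(Subgroup.centralizer ({a} : Set G))) : Cfsg.IsSolvableSignalizerFunctor p A (fun a => Cfsg.centralizerPPrimeCore p a) := by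
  have _ := hA2
  have hp : p.Prime := Fact.out
  have hcomm : ∀ a ∈ A, ∀ b ∈ A, a * b = b * a := by
    intro a ha b hb
    have := hA.1.is_comm.comm ⟨a, ha⟩ ⟨b, hb⟩
    exact congrArg Subtype.val this
  refine ⟨⟨?_, ?_, ?_, ?_⟩, ?_⟩
  · intro a _ _
    exact coreOf_le p _
  · intro a _ _ hdvd
    have h1 := card_coreOf_coprime p (Subgroup.centralizer ({a} : Set G))
    have h4 : p ∣ Nat.gcd (Nat.card (coreOf p (Subgroup.centralizer ({a} : Set G)))) p :=
      Nat.dvd_gcd hdvd dvd_rfl
    rw [h1] at h4
    exact hp.one_lt.ne' (Nat.dvd_one.mp h4)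
  · intro a ha _ b hb x hx
    have hbC : b ∈ Subgroup.centralizer ({a} : Set G) := by
      rw [Subgroup.mem_centralizer_iff]
      intro y hy
      rw [Set.mem_singleton_iff] at hy
      subst hy
      exact hcomm y ha b hb
    have hbN := normalizer_le_normalizer_coreOf p _ (Subgroup.le_normalizer hbC)
    exact (Subgroup.mem_normalizer_iff.mp hbN x).mp hx
  · intro a ha _ b hb hb1
    show coreOf p (Subgroup.centralizer ({a} : Set G)) ⊓ Subgroup.centralizer ({b} : Set G) ≤
      coreOf p (Subgroup.centralizer ({b} : Set G))
    have hL : Cfsg.pLayer p ↥(Subgroup.centralizer ({b} : Set G)) = ⊥ :=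
      pLayer_eq_bot_of_isSolvable (hsolv b hb hb1)
    have haP : IsPGroup p (Subgroup.zpowers a) := by
      rw [IsPGroup.iff_card, Nat.card_zpowers]
      have h1 : orderOf a ∣ p := orderOf_dvd_of_pow_eq_one (hA.2 a ha)
      rcases (Nat.dvd_prime hp).mp h1 with h | h
      · exact ⟨0, by rw [h, pow_zero]⟩
      · exact ⟨1, by rw [h, pow_one]⟩
    have hcz : Subgroup.centralizer ((Subgroup.zpowers a : Subgroup G) : Set G) =
        Subgroup.centralizer ({a} : Set G) := by
      rw [Subgroup.zpowers_eq_closure, Subgroup.centralizer_closure]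
    apply le_coreOf_of_pLayer_eq_bot hL (P := Subgroup.zpowers a) _ haP inf_le_right
    · exact Nat.Coprime.coprime_dvd_left (Subgroup.card_dvd_of_le inf_le_left)
        (card_coreOf_coprime p _)
    · refine (inf_le_left.trans (coreOf_le p _)).trans ?_
      rw [← hcz]
      exact Subgroup.centralizer_le_normalizer _
    · apply Sig.le_normalizer_inf
      · refine inf_le_left.trans ?_
        refine (Cfsg.Agent.Lib.Helper2.normalizer_le_normalizer_centralizer _).trans ?_
        rw [hcz]
        exact normalizer_le_normalizer_coreOf p _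
      · exact inf_le_right.trans Subgroup.le_normalizer
    · rw [Subgroup.zpowers_le, Subgroup.mem_centralizer_iff]
      intro y hy
      rw [Set.mem_singleton_iff] at hy
      subst hy
      exact hcomm y hb a ha
  · intro a ha ha1
    have : Group.IsSolvable ↥(Subgroup.centralizer ({a} : Set G)) := hsolv a ha ha1
    exact Group.isSolvable_of_isSolvable_injective
      (f := Subgroup.inclusion (coreOf_le p (Subgroup.centralizer ({a} : Set G))))
      (Subgroup.inclusion_injective _)

end Cfsg.Agent.S1279
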