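import Mathlib
-- Template for statement S1286 (row 1286; see /opt/grader/pristine/manifest.json for weights).
-- Copy to Cfsg/Agent/S1286.lean and replace the sorry. The statement below is byte-identical to the frozen
-- statement Cfsg.CfsgFrozen.S1286 (Cfsg/Statements/S1286.lean; the theorem Cfsg.signalizer_functor_rank_two_not_complete);
-- the grader kernel-checks Cfsg.Agent.S1286.result against that frozen type. Keep the theorem IN THIS FILE
-- (a `result` declared elsewhere and merely imported here is not credited); helpers may live anywhere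
-- under Cfsg/Agent/.
import Cfsg.Statements.S1286
import Cfsg.Agent.Lib.Helper3.SigExample

set_option autoImplicit false
open Cfsg

namespace Cfsg.Agent.S1286

/-- There exist a finite group X, an elementary abelian subgroup A of order 4 and a solvable A-signalizer functor θ on X for the prime 2 which is not complete. -/
theorem result : ∃ (X : Type) (_ : Group X) (_ : Finite X) (A : Subgroup X) (θ : X → Subgroup X), Cfsg.IsElementaryAbelian 2 A ∧ Nat.card ↥A = 4 ∧ Cfsg.IsSolvableSignalizerFunctor 2 A θ ∧ ¬ Cfsg.IsCompleteSignalizerFunctor 2 A θ := by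
  exact ⟨Cfsg.Agent.Lib.Helper3.SigExample.P5, inferInstance, inferInstance,
    Cfsg.Agent.Lib.Helper3.SigExample.A4, Cfsg.Agent.Lib.Helper3.SigExample.θ,
    Cfsg.Agent.Lib.Helper3.SigExample.ea_A4, Cfsg.Agent.Lib.Helper3.SigExample.card_A4,
    ⟨Cfsg.Agent.Lib.Helper3.SigExample.sigFunctor, Cfsg.Agent.Lib.Helper3.SigExample.solvable_θ⟩,
    Cfsg.Agent.Lib.Helper3.SigExample.not_complete⟩

end Cfsg.Agent.S1286
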