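import Mathlib
-- Template for statement S1287 (row 1287; see /opt/grader/pristine/manifest.json for weights).
-- Copy to Cfsg/Agent/S1287.lean and replace the sorry. The statement below is byte-identical to the frozen
-- statement Cfsg.CfsgFrozen.S1287 (Cfsg/Statements/S1287.lean; the theorem Cfsg.coprime_factorization_from_centralizers);
-- the grader kernel-checks Cfsg.Agent.S1287.result against that frozen type. Keep the theorem IN THIS FILE
-- (a `result` declared elsewhere and merely imported here is not credited); helpers may live anywhere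
-- under Cfsg/Agent/.
import Cfsg.Statements.S1287
import Cfsg.Agent.Lib.Helper3.BW4

set_option autoImplicit false
open scoped Pointwise
open Cfsg
open Cfsg.Agent.Lib.Helper3.BW Cfsg.Agent.Lib.Helper3.Gen Cfsg.Agent.Lib.Lead
open scoped Pointwise

namespace Cfsg.Agent.S1287

/-- Let A be a noncyclic elementary abelian p-subgroup of a finite group H normalizing a subgroup K of order prime to p, and X, Y ≤ K subgroups normalized by A with C_K(a) = C_X(a) C_Y(a) (as sets) for every non-identity a ∈ A, where X is also normalized by C_K(A). Then K = XY as sets. -/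
theorem result {H : Type*} [Group H] [Finite H] (p : ℕ) [Fact p.Prime] (A K X Y : Subgroup H) (hA : Cfsg.IsElementaryAbelian p A) (hA2 : p ^ 2 ≤ Nat.card ↥A) (hK : ¬ p ∣ Nat.card ↥K) (hAK : A ≤ Subgroup.normalizer (K : Set H)) (hX : X ≤ K) (hY : Y ≤ K) (hAX : A ≤ Subgroup.normalizer (X : Set H)) (hAY : A ≤ Subgroup.normalizer (Y : Set H)) (hCX : K ⊓ Subgroup.centralizer (A : Set H) ≤ Subgroup.normalizer (X : Set H)) (hfac : ∀ a ∈ A, a ≠ 1 → ((K ⊓ Subgroup.centralizer {a} : Subgroup H) : Set H) = ((X ⊓ Subgroup.centralizer {a} : Subgroup H) : Set H) * ((Y ⊓ Subgroup.centralizer {a} : Subgroup H) : Set H)) : (K : Set H) = (X : Set H) * (Y : Set H) := by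
  classical
  have hp : p.Prime := Fact.out
  -- an elementary abelian subgroup of order `p ^ 2`
  obtain ⟨E, hEA, hE, hEcard⟩ : ∃ E : Subgroup H, E ≤ A ∧ Cfsg.IsElementaryAbelian p E ∧
      Nat.card E = p ^ 2 := by
    have hAp : IsPGroup p A := Cfsg.Agent.Lib.Helper3.Sig.ea_isPGroup hA
    obtain ⟨n, hn⟩ := IsPGroup.iff_card.mp hAp
    have hn2 : 2 ≤ n := by
      rw [hn] at hA2
      exact (Nat.pow_le_pow_iff_right hp.one_lt).mp hA2
    obtain ⟨E', hE'⟩ := Sylow.exists_subgroup_card_pow_prime (G := ↥A) p (n := 2)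
      (by rw [hn]; exact pow_dvd_pow p hn2)
    have hle : E'.map A.subtype ≤ A := Subgroup.map_subtype_le _
    refine ⟨E'.map A.subtype, hle, ?_, by rw [Subgroup.card_map_of_injective A.subtype_injective, hE']⟩
    exact ⟨⟨⟨fun x y => Subtype.ext (comm_of_ea hA (hle x.2) (hle y.2))⟩⟩, fun a ha => hA.2 a (hle ha)⟩
  set Z := X ⊓ Y with hZ
  have hZK : Z ≤ K := inf_le_left.trans hX
  have hEK := hEA.trans hAK
  have hEX := hEA.trans hAX
  have hEY := hEA.trans hAY
  have hEZ : E ≤ Subgroup.normalizer (Z : Set H) := fun e he =>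
    Subgroup.inf_normalizer_le_normalizer_inf ⟨hEX he, hEY he⟩
  have hXp : ¬ p ∣ Nat.card X := fun h => hK (h.trans (Subgroup.card_dvd_of_le hX))
  have hYp : ¬ p ∣ Nat.card Y := fun h => hK (h.trans (Subgroup.card_dvd_of_le hY))
  have hZp : ¬ p ∣ Nat.card Z := fun h => hK (h.trans (Subgroup.card_dvd_of_le hZK))
  have bK := bw hE hEcard K hEK hK
  have bX := bw hE hEcard X hEX hXp
  have bY := bw hE hEcard Y hEY hYp
  have bZ := bw hE hEcard Z hEZ hZp
  set q := p ^ 2 - p with hq
  -- split off the identity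
  let PM : Subgroup H → ℕ := fun M =>
    ∏ a ∈ (elems E).erase 1, Nat.card ↥(M ⊓ Subgroup.centralizer ({a} : Set H))
  let cE : Subgroup H → ℕ := fun M => Nat.card ↥(M ⊓ Subgroup.centralizer (E : Set H))
  have hsplit : ∀ M : Subgroup H, fE E M = Nat.card M * PM M := by
    intro M
    unfold fE
    rw [← Finset.mul_prod_erase (elems E) _ (mem_elems.mpr (Subgroup.one_mem E))]
    have h1 : Subgroup.centralizer ({1} : Set H) = ⊤ := by
      ext g; simp [Subgroup.mem_centralizer_iff]
    rw [h1, inf_top_eq]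
  have hPM : ∀ M : Subgroup H, fE E M = gE p E M → PM M = Nat.card M ^ (p - 1) * cE M ^ q := by
    intro M hb
    rw [hsplit M] at hb
    unfold gE at hb
    have h1 : Nat.card M ^ p = Nat.card M * Nat.card M ^ (p - 1) := by
      rw [← pow_succ']
      congr 1
      have := hp.one_lt
      omega
    rw [h1, mul_assoc] at hb
    exact Nat.eq_of_mul_eq_mul_left Nat.card_pos hb
  have hterm : ∀ a ∈ (elems E).erase 1,
      Nat.card ↥(K ⊓ Subgroup.centralizer ({a} : Set H)) *
        Nat.card ↥(Z ⊓ Subgroup.centralizer ({a} : Set H)) =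
      Nat.card ↥(X ⊓ Subgroup.centralizer ({a} : Set H)) *
        Nat.card ↥(Y ⊓ Subgroup.centralizer ({a} : Set H)) := by
    intro a ha
    rw [Finset.mem_erase, mem_elems] at ha
    have h1 := card_mul_set (X ⊓ Subgroup.centralizer ({a} : Set H))
      (Y ⊓ Subgroup.centralizer ({a} : Set H))
    rw [← hfac a (hEA ha.2) ha.1, ← inf_inf_distrib_right] at h1
    exact h1
  have hP : PM K * PM Z = PM X * PM Y := by
    show (∏ a ∈ (elems E).erase 1, _) * (∏ a ∈ (elems E).erase 1, _) =
      (∏ a ∈ (elems E).erase 1, _) * (∏ a ∈ (elems E).erase 1, _)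
    rw [← Finset.prod_mul_distrib, ← Finset.prod_mul_distrib]
    exact Finset.prod_congr rfl hterm
  rw [hPM K bK, hPM X bX, hPM Y bY, hPM Z bZ] at hP
  -- the inequalities
  have hXYK : (X : Set H) * (Y : Set H) ⊆ (K : Set H) := by
    rintro _ ⟨x, hx, y, hy, rfl⟩
    exact K.mul_mem (hX hx) (hY hy)
  have hu : Nat.card X * Nat.card Y ≤ Nat.card K * Nat.card Z := by
    rw [← card_mul_set X Y]
    exact Nat.mul_le_mul_right _ (Nat.card_mono (Set.toFinite _) hXYK)
  have hv : cE X * cE Y ≤ cE K * cE Z := by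
    show Nat.card ↥(X ⊓ Subgroup.centralizer (E : Set H)) *
      Nat.card ↥(Y ⊓ Subgroup.centralizer (E : Set H)) ≤
      Nat.card ↥(K ⊓ Subgroup.centralizer (E : Set H)) *
      Nat.card ↥(Z ⊓ Subgroup.centralizer (E : Set H))
    rw [← card_mul_set, ← inf_inf_distrib_right]
    apply Nat.mul_le_mul_right
    apply Nat.card_mono (Set.toFinite _)
    rintro _ ⟨x, hx, y, hy, rfl⟩
    exact ⟨K.mul_mem (hX hx.1) (hY hy.1), Subgroup.mul_mem _ hx.2 hy.2⟩
  have heq : (Nat.card K * Nat.card Z) ^ (p - 1) * (cE K * cE Z) ^ q =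
      (Nat.card X * Nat.card Y) ^ (p - 1) * (cE X * cE Y) ^ q := by
    rw [mul_pow, mul_pow, mul_pow, mul_pow]
    calc Nat.card K ^ (p - 1) * Nat.card Z ^ (p - 1) * (cE K ^ q * cE Z ^ q)
        = Nat.card K ^ (p - 1) * cE K ^ q * (Nat.card Z ^ (p - 1) * cE Z ^ q) := by ring
      _ = Nat.card X ^ (p - 1) * cE X ^ q * (Nat.card Y ^ (p - 1) * cE Y ^ q) := hP
      _ = _ := by ring
  have huu : Nat.card X * Nat.card Y = Nat.card K * Nat.card Z := by
    by_contra hne
    have hlt : Nat.card X * Nat.card Y < Nat.card K * Nat.card Z := lt_of_le_of_ne hu hne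
    have hp1 : p - 1 ≠ 0 := by have := hp.one_lt; omega
    have h1 : (Nat.card X * Nat.card Y) ^ (p - 1) < (Nat.card K * Nat.card Z) ^ (p - 1) :=
      Nat.pow_lt_pow_left hlt hp1
    have h2 : (cE X * cE Y) ^ q ≤ (cE K * cE Z) ^ q := Nat.pow_le_pow_left hv q
    have h3 : 0 < (cE K * cE Z) ^ q := pow_pos (Nat.mul_pos Nat.card_pos Nat.card_pos) q
    have h4 := Nat.mul_lt_mul_of_lt_of_le h1 h2 h3
    rw [heq] at h4
    exact lt_irrefl _ h4
  have hcard : Nat.card ↥((X : Set H) * (Y : Set H)) = Nat.card K := by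
    have h1 := card_mul_set X Y
    rw [huu] at h1
    exact Nat.eq_of_mul_eq_mul_right Nat.card_pos h1
  symm
  apply Set.eq_of_subset_of_ncard_le hXYK _ (Set.toFinite _)
  rw [← Nat.card_coe_set_eq, ← Nat.card_coe_set_eq, hcard]
  exact le_of_eq rfl

end Cfsg.Agent.S1287
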