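import Mathlib
-- Template for statement S1288 (row 1288; see /opt/grader/pristine/manifest.json for weights).
-- Copy to Cfsg/Agent/S1288.lean and replace the sorry. The statement below is byte-identical to the frozen
-- statement Cfsg.CfsgFrozen.S1288 (Cfsg/Statements/S1288.lean; the theorem Cfsg.q_prime_subgroup_le_q_prime_core_of_hyperplane_commutators);
-- the grader kernel-checks Cfsg.Agent.S1288.result against that frozen type. Keep the theorem IN THIS FILE
-- (a `result` declared elsewhere and merely imported here is not credited); helpers may live anywhere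
-- under Cfsg/Agent/.
import Cfsg.Statements.S1288
import Cfsg.Agent.Lib.Helper3.HypComm1
import Cfsg.Agent.Lib.Helper3.Gen3
import Cfsg.Agent.Lib.Lead.CoprimeFrattini
import Cfsg.Agent.S0017

set_option autoImplicit false
open Cfsg
open Cfsg.Agent.Lib.Helper3.HypComm Cfsg.Agent.Lib.Helper3 Cfsg.Agent.Lib.Lead

namespace Cfsg.Agent.S1288

/-- Let A be a noncyclic elementary abelian p-subgroup of a finite group H normalizing a solvable subgroup K of order prime to p, q a prime dividing |K|, and U ≤ K a subgroup of order prime to q such that ⁅U, C_K(B)⁆ has order prime to q for every subgroup B of index p in A. Then U ≤ O_{q'}(K). -/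
theorem result {H : Type*} [Group H] [Finite H] (p : ℕ) [Fact p.Prime] (A K : Subgroup H) (hA : Cfsg.IsElementaryAbelian p A) (hA2 : p ^ 2 ≤ Nat.card ↥A) (hK : ¬ p ∣ Nat.card ↥K) (hKs : Group.IsSolvable ↥K) (hAK : A ≤ Subgroup.normalizer (K : Set H)) (q : ℕ) [Fact q.Prime] (hqK : q ∣ Nat.card ↥K) (U : Subgroup H) (hU : U ≤ K) (hUq : ¬ q ∣ Nat.card ↥U) (hcomm : ∀ B : Subgroup H, B ≤ A → B.relIndex A = p → ¬ q ∣ Nat.card ↥⁅U, K ⊓ Subgroup.centralizer (B : Set H)⁆) : U ≤ (Cfsg.pPrimeCore q ↥K).map K.subtype := by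
  classical
  have hp : p.Prime := Fact.out
  have hq : q.Prime := Fact.out
  set N' := Cfsg.pPrimeCore q ↥K with hN'
  set π := QuotientGroup.mk' N' with hπ
  have hbot : Cfsg.pPrimeCore q (↥K ⧸ N') = ⊥ := pPrimeCore_quotient_eq_bot
  have hHH := Cfsg.Agent.S0017.result (G := ↥K ⧸ N') q hbot
  set V := Cfsg.pCore q (↥K ⧸ N') with hV
  have hVn : V.Normal := Cfsg.Agent.Lib.Lead.pCore_normal q
  have hVq : IsPGroup q V := Cfsg.Agent.Lib.Lead.pCore_isPGroup q
  set Q' := Cfsg.pPrimePCore q ↥K with hQ'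
  have hQ'mem : ∀ x : ↥K, x ∈ Q' ↔ π x ∈ V := fun x => Iff.rfl
  set Q := Q'.map K.subtype with hQ
  have hQK : Q ≤ K := Subgroup.map_subtype_le _
  have hAQ : A ≤ Subgroup.normalizer (Q : Set H) :=
    hAK.trans (le_normalizer_map_characteristic K Q')
  have hQp : ¬ p ∣ Nat.card Q := fun h => hK (h.trans (Subgroup.card_dvd_of_le hQK))
  have hAp : IsPGroup p A := Cfsg.Agent.Lib.Helper3.Sig.ea_isPGroup hA
  -- a hyperplane of `A`
  obtain ⟨B₀, hB₀A, hB₀idx⟩ : ∃ B₀ : Subgroup H, B₀ ≤ A ∧ B₀.relIndex A = p := by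
    obtain ⟨n, hn⟩ := IsPGroup.iff_card.mp hAp
    have hn2 : 2 ≤ n := by
      rw [hn] at hA2
      exact (Nat.pow_le_pow_iff_right hp.one_lt).mp hA2
    obtain ⟨B', hB'⟩ := Sylow.exists_subgroup_card_pow_prime (G := ↥A) p
      (n := n - 1) (by rw [hn]; exact pow_dvd_pow p (Nat.sub_le n 1))
    refine ⟨B'.map A.subtype, Subgroup.map_subtype_le _, ?_⟩
    have h1 : (B'.map A.subtype).relIndex A * Nat.card (B'.map A.subtype) = Nat.card A := by
      have h2 := Subgroup.card_mul_index ((B'.map A.subtype).subgroupOf A)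
      rw [Nat.card_congr (Subgroup.subgroupOfEquivOfLe (Subgroup.map_subtype_le B')).toEquiv] at h2
      unfold Subgroup.relIndex
      rw [mul_comm]; exact h2
    rw [Subgroup.card_map_of_injective A.subtype_injective, hB', hn] at h1
    have h3 : p ^ n = p * p ^ (n - 1) := by
      rw [← pow_succ']; congr 1; omega
    rw [h3] at h1
    exact Nat.eq_of_mul_eq_mul_right (pow_pos hp.pos _) h1
  -- the image of `U`
  set Ubar : Subgroup (↥K ⧸ N') := (U.subgroupOf K).map π with hUbar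
  -- the key commutation
  have hkey : ∀ B : Subgroup H, B ≤ A → B.relIndex A ≤ p →
      ∀ x : ↥K, x ∈ Q' → (x : H) ∈ Subgroup.centralizer (B : Set H) →
      ∀ u : ↥K, (u : H) ∈ U → π u * π x = π x * π u := by
    intro B hBA hBidx x hxQ hxB u hu
    -- a hyperplane `B₁ ≤ B`
    obtain ⟨B₁, hB₁A, hB₁idx, hB₁B⟩ : ∃ B₁ : Subgroup H, B₁ ≤ A ∧ B₁.relIndex A = p ∧ B₁ ≤ B := by
      by_cases h : B.relIndex A = p
      · exact ⟨B, hBA, h, le_rfl⟩
      · refine ⟨B₀, hB₀A, hB₀idx, hB₀A.trans ?_⟩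
        obtain ⟨n, hn⟩ := IsPGroup.iff_card.mp hAp
        have h1 : B.relIndex A ∣ p ^ n := by
          rw [← hn]; exact Subgroup.relIndex_dvd_card B A
        obtain ⟨j, -, hj⟩ := (Nat.dvd_prime_pow hp).mp h1
        have hj1 : j = 0 := by
          rcases Nat.lt_or_ge j 2 with h2 | h2
          · interval_cases j
            · rfl
            · exfalso; apply h; rw [hj, pow_one]
          · exfalso
            rw [hj] at hBidx
            have : p ^ 2 ≤ p ^ j := Nat.pow_le_pow_right hp.pos h2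
            have : p < p ^ 2 := by rw [sq]; nlinarith [hp.one_lt]
            omega
        rw [hj1, pow_zero] at hj
        exact Subgroup.relIndex_eq_one.mp hj
    set W := ⁅U, K ⊓ Subgroup.centralizer (B₁ : Set H)⁆ with hW
    have hWq : ¬ q ∣ Nat.card W := hcomm B₁ hB₁A hB₁idx
    have hxB₁ : (x : H) ∈ K ⊓ Subgroup.centralizer (B₁ : Set H) :=
      ⟨x.2, Subgroup.centralizer_le hB₁B hxB⟩
    set c : ↥K := u * x * u⁻¹ * x⁻¹ with hc
    have hcW : (c : H) ∈ W := Subgroup.commutator_mem_commutator hu hxB₁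
    have hπc : π c ∈ V := by
      have : π c = (π u * π x * (π u)⁻¹) * (π x)⁻¹ := by
        rw [hc, map_mul, map_mul, map_mul, map_inv, map_inv]
      rw [this]
      exact V.mul_mem (hVn.conj_mem _ ((hQ'mem x).mp hxQ) _) (V.inv_mem ((hQ'mem x).mp hxQ))
    have hπc1 : π c = 1 := by
      obtain ⟨k, hk⟩ := (IsPGroup.iff_orderOf.mp hVq) ⟨π c, hπc⟩
      rw [Subgroup.orderOf_mk] at hk
      have h1 : orderOf (π c) ∣ orderOf c := orderOf_map_dvd π c
      have h2 : orderOf c = orderOf (c : H) := (Subgroup.orderOf_coe c).symm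
      have h3 : orderOf (c : H) ∣ Nat.card W := by
        have := orderOf_dvd_natCard (⟨(c : H), hcW⟩ : W)
        rwa [Subgroup.orderOf_mk] at this
      rw [h2] at h1
      have h4 : q ^ k ∣ Nat.card W := hk ▸ h1.trans h3
      rcases Nat.eq_zero_or_pos k with h0 | h0
      · rw [h0, pow_zero] at hk
        exact orderOf_eq_one_iff.mp hk
      · exact absurd ((dvd_pow_self q h0.ne').trans h4) hWq
    have : π c = π u * π x * (π u)⁻¹ * (π x)⁻¹ := by
      rw [hc, map_mul, map_mul, map_mul, map_inv, map_inv]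
    rw [this] at hπc1
    calc π u * π x = (π u * π x * (π u)⁻¹ * (π x)⁻¹) * (π x * π u) := by group
      _ = π x * π u := by rw [hπc1, one_mul]
  -- generation by centralisers of hyperplanes
  set T : Subgroup H := ((Subgroup.centralizer (Ubar : Set (↥K ⧸ N'))).comap π).map K.subtype with hT
  have hQT : Q ≤ T := by
    have h1 := Cfsg.Agent.Lib.Helper3.Gen.le_hypJoin hA (Nat.card A) ⊥ Q (Nat.sub_le _ _) bot_le
      (by intro x _; rw [Subgroup.mem_centralizer_iff]; intro y hy
          rw [SetLike.mem_coe, Subgroup.mem_bot] at hy; rw [hy, one_mul, mul_one]) hQp hAQ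
    refine h1.trans ?_
    unfold Cfsg.Agent.Lib.Helper3.Gen.hypJoin
    apply iSup_le
    rintro ⟨B, -, hBA, hBidx⟩
    rintro y ⟨hyQ, hyB⟩
    obtain ⟨x, hxQ, rfl⟩ := hyQ
    refine ⟨x, ?_, rfl⟩
    rw [SetLike.mem_coe, Subgroup.mem_comap, Subgroup.mem_centralizer_iff]
    rintro _ ⟨u, hu, rfl⟩
    exact hkey B hBA hBidx x hxQ hyB u (Subgroup.mem_subgroupOf.mp hu)
  -- `V` centralises the image of `U`
  have hVU : ∀ v ∈ V, ∀ w ∈ Ubar, w * v = v * w := by
    intro v hv w hw
    obtain ⟨x, rfl⟩ := QuotientGroup.mk'_surjective N' v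
    have hxQ : x ∈ Q' := (hQ'mem x).mpr hv
    have h1 : (x : H) ∈ T := hQT ⟨x, hxQ, rfl⟩
    obtain ⟨x', hx', hxx'⟩ := h1
    have hx'x : x' = x := Subtype.ext hxx'
    rw [hx'x, SetLike.mem_coe, Subgroup.mem_comap, Subgroup.mem_centralizer_iff] at hx'
    exact hx' w hw
  have hUV : Ubar ≤ V := by
    refine le_trans ?_ hHH
    intro w hw
    rw [Subgroup.mem_centralizer_iff]
    intro v hv
    exact (hVU v hv w hw).symm
  -- so the image of `U` is trivial
  intro u hu
  have hπu : π ⟨u, hU hu⟩ = 1 := by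
    have hmem : π ⟨u, hU hu⟩ ∈ Ubar := ⟨⟨u, hU hu⟩, Subgroup.mem_subgroupOf.mpr hu, rfl⟩
    obtain ⟨k, hk⟩ := (IsPGroup.iff_orderOf.mp hVq) ⟨_, hUV hmem⟩
    rw [Subgroup.orderOf_mk] at hk
    have h1 : orderOf (π ⟨u, hU hu⟩) ∣ orderOf (⟨u, hU hu⟩ : ↥K) := orderOf_map_dvd π _
    have h2 : orderOf (⟨u, hU hu⟩ : ↥K) = orderOf u := Subgroup.orderOf_mk u (hU hu)
    have h3 : orderOf u ∣ Nat.card U := by
      have := orderOf_dvd_natCard (⟨u, hu⟩ : U)
      rwa [Subgroup.orderOf_mk] at this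
    rw [h2] at h1
    have h4 : q ^ k ∣ Nat.card U := hk ▸ h1.trans h3
    rcases Nat.eq_zero_or_pos k with h0 | h0
    · rw [h0, pow_zero] at hk
      exact orderOf_eq_one_iff.mp hk
    · exact absurd ((dvd_pow_self q h0.ne').trans h4) hUq
  exact ⟨⟨u, hU hu⟩, (QuotientGroup.eq_one_iff _).mp hπu, rfl⟩

end Cfsg.Agent.S1288
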