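import Cfsg.Statements.S1297
import Mathlib
import Cfsg.Agent.Lib.Helper4.LB6
-- import your own Cfsg.Agent.* helpers here

set_option autoImplicit false
open Cfsg

namespace Cfsg.Agent.S1297

open Cfsg.Agent.Lib.Helper1 Cfsg.Agent.Lib.Helper3 Cfsg.Agent.Lib.Helper4.LBal
  Cfsg.Agent.Lib.Helper4.NQ Cfsg.Agent.Lib.Helper4.LB

/-- Let G be finite. Suppose that for every involution x, writing C = C_G(x), every component K of C / O(C) has K / Z(K) locally balanced. Then G is balanced. -/
theorem result {G : Type*} [Group G] [Finite G] (h : ∀ x : G, orderOf x = 2 → ∀ K : Subgroup (↥(Subgroup.centralizer ({x} : Set G)) ⧸ Cfsg.oddCore ↥(Subgroup.centralizer ({x} : Set G))), Cfsg.IsComponent K → Cfsg.IsLocallyBalanced (↥K ⧸ Subgroup.center ↥K)) : Cfsg.IsBalanced G := by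
  have : Fact (Nat.Prime 2) := ⟨Nat.prime_two⟩
  have key : ∀ x y : G, orderOf x = 2 → orderOf y = 2 → x * y = y * x →
      centralizerPPrimeCore 2 x ⊓ Subgroup.centralizer {y} ≤
        centralizerPPrimeCore 2 y ⊓ Subgroup.centralizer {x} := by
    intro x y hx hy hxy g hg
    obtain ⟨hg1, hg2⟩ := Subgroup.mem_inf.1 hg
    refine Subgroup.mem_inf.2 ⟨?_, centralizerPPrimeCore_le_centralizer x hg1⟩
    have hx2 : x ^ 2 = 1 := by rw [← hx]; exact pow_orderOf_eq_one x
    have h1 := mk_mem_centralizerPPrimeCore (p := 2) hxy hx2 hg1 hg2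
    have hY : pPrimeCore 2 (↥(Subgroup.centralizer ({y} : Set G)) ⧸
        pPrimeCore 2 ↥(Subgroup.centralizer ({y} : Set G))) = ⊥ :=
      Cfsg.Agent.Lib.Helper3.pPrimeCore_quotient_eq_bot
    have h2 := centralizerPPrimeCore_two_eq_bot hY (h y hy)
      (x := QuotientGroup.mk' (pPrimeCore 2 ↥(Subgroup.centralizer ({y} : Set G)))
        ⟨x, Subgroup.mem_centralizer_singleton_iff.2 hxy⟩)
      (by
        rw [← map_pow]
        have : (⟨x, Subgroup.mem_centralizer_singleton_iff.2 hxy⟩ :
            ↥(Subgroup.centralizer ({y} : Set G))) ^ 2 = 1 := by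
          apply Subtype.ext
          simpa using hx2
        rw [this, map_one])
    rw [h2, Subgroup.mem_bot] at h1
    exact mem_centralizerPPrimeCore_of_mk_eq_one hg2 h1
  intro x y hx hy hxy
  exact le_antisymm (key x y hx hy hxy) (key y x hy hx hxy.symm)

end Cfsg.Agent.S1297
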