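import Cfsg.Statements.S1298
import Mathlib
import Cfsg.Agent.Lib.Helper4.LB6
-- import your own Cfsg.Agent.* helpers here

set_option autoImplicit false
open Cfsg

namespace Cfsg.Agent.S1298

open Cfsg.Agent.Lib.Helper1 Cfsg.Agent.Lib.Helper3 Cfsg.Agent.Lib.Helper4.LBal
  Cfsg.Agent.Lib.Helper4.NQ Cfsg.Agent.Lib.Helper4.LB

/-- Let G be finite and k ≥ 1. Suppose that for every x of order p, writing C = C_G(x), every component K of C / O_{p'}(C) has K / Z(K) locally k-balanced for p. Then G is k-balanced for p. -/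
theorem result {G : Type*} [Group G] [Finite G] (p k : ℕ) [Fact p.Prime] (hk : 1 ≤ k) (h : ∀ x : G, orderOf x = p → ∀ K : Subgroup (↥(Subgroup.centralizer ({x} : Set G)) ⧸ Cfsg.pPrimeCore p ↥(Subgroup.centralizer ({x} : Set G))), Cfsg.IsComponent K → Cfsg.IsLocallyKBalanced p k (↥K ⧸ Subgroup.center ↥K)) : Cfsg.IsKBalanced p k G := by
  intro A hA hcard b hb hAb g hg
  obtain ⟨hg1, hg2⟩ := Subgroup.mem_inf.1 hg
  have hp : p.Prime := Fact.out
  have hAX : A ≤ Subgroup.centralizer ({b} : Set G) := fun a ha =>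
    Subgroup.mem_centralizer_singleton_iff.2 (hAb a ha)
  have hY : pPrimeCore p (↥(Subgroup.centralizer ({b} : Set G)) ⧸
      pPrimeCore p ↥(Subgroup.centralizer ({b} : Set G))) = ⊥ :=
    Cfsg.Agent.Lib.Helper3.pPrimeCore_quotient_eq_bot
  have hinj : ∀ a : ↥(Subgroup.centralizer ({b} : Set G)), (a : G) ∈ A →
      QuotientGroup.mk' (pPrimeCore p ↥(Subgroup.centralizer ({b} : Set G))) a = 1 → a = 1 := by
    intro a ha h1
    rw [QuotientGroup.mk'_apply, QuotientGroup.eq_one_iff] at h1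
    have hap : a ^ p = 1 := by
      apply Subtype.ext
      simpa using hA.2 (a : G) ha
    have hord : ∃ j : ℕ, orderOf a = p ^ j := by
      rcases (Nat.dvd_prime hp).1 (orderOf_dvd_of_pow_eq_one hap) with h2 | h2
      · exact ⟨0, by rw [h2, pow_zero]⟩
      · exact ⟨1, by rw [h2, pow_one]⟩
    exact Cfsg.Agent.Lib.Helper6.eq_one_of_pElement_of_coprime_card
      (Cfsg.Agent.Lib.Helper6.pPrimeCore_coprime p) h1 hord
  have hΔ := signalizerDelta_eq_bot hk hY (h b hb)
    (isElementaryAbelian_map_subgroupOf hA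
      (QuotientGroup.mk' (pPrimeCore p ↥(Subgroup.centralizer ({b} : Set G)))))
    (by rw [card_map_subgroupOf_of_injOn hAX _ hinj, hcard])
  have hmem : QuotientGroup.mk' (pPrimeCore p ↥(Subgroup.centralizer ({b} : Set G))) ⟨g, hg2⟩ ∈
      signalizerDelta p ((A.subgroupOf (Subgroup.centralizer ({b} : Set G))).map
        (QuotientGroup.mk' (pPrimeCore p ↥(Subgroup.centralizer ({b} : Set G))))) := by
    unfold signalizerDelta
    rw [Subgroup.mem_iInf]
    rintro ⟨t, ⟨a, ha, rfl⟩, ht1⟩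
    have haA : (a : G) ∈ A := Subgroup.mem_subgroupOf.1 ha
    have ha1 : (a : G) ≠ 1 := by
      intro h0
      apply ht1
      have : a = 1 := Subtype.ext h0
      rw [this, map_one]
    have hga : g ∈ centralizerPPrimeCore p (a : G) := by
      unfold signalizerDelta at hg1
      rw [Subgroup.mem_iInf] at hg1
      exact hg1 ⟨(a : G), haA, ha1⟩
    exact mk_mem_centralizerPPrimeCore (hAb (a : G) haA) (hA.2 (a : G) haA) hga hg2
  rw [hΔ, Subgroup.mem_bot] at hmem
  exact mem_centralizerPPrimeCore_of_mk_eq_one hg2 hmem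

end Cfsg.Agent.S1298
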