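import Cfsg.Statements.S1299
import Mathlib
import Cfsg.Agent.Lib.Helper4.KB3
-- import your own Cfsg.Agent.* helpers here

set_option autoImplicit false
open Cfsg
open Cfsg.Agent.Lib.Helper3.Sig Cfsg.Agent.Lib.Helper4.Balance Cfsg.Agent.Lib.Helper4.SF Cfsg.Agent.Lib.Helper4.KB

namespace Cfsg.Agent.S1299

/-- Let G be finite and k-balanced for the prime p (k ≥ 1), A an elementary abelian p-subgroup of order at least p^(k+2) such that O_{p'}(C_G(a)) is solvable for every non-identity a ∈ A. For a ∈ A put θ a = the subgroup generated by the Δ_G(D) ∩ C_G(a) over the subgroups D ≤ A of order p^k. Then θ is an A-signalizer functor. -/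
theorem result {G : Type*} [Group G] [Finite G] (p k : ℕ) [Fact p.Prime] (hk : 1 ≤ k) (hbal : Cfsg.IsKBalanced p k G) (A : Subgroup G) (hA : Cfsg.IsElementaryAbelian p A) (hAk : p ^ (k + 2) ≤ Nat.card ↥A) (hsolv : ∀ a ∈ A, a ≠ 1 → Group.IsSolvable ↥(Cfsg.centralizerPPrimeCore p a)) : Cfsg.IsSignalizerFunctor p A (fun a => ⨆ D : {D : Subgroup G // D ≤ A ∧ Nat.card ↥D = p ^ k}, Cfsg.signalizerDelta p (D : Subgroup G) ⊓ Subgroup.centralizer {a}) := by
  have hp : p.Prime := Fact.out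
  have hppos : 0 < p := hp.pos
  have hAk1 : p ^ (k + 1) ≤ Nat.card ↥A :=
    le_trans (Nat.pow_le_pow_right hppos (by omega)) hAk
  -- facts on zpowers a
  have hz : ∀ a ∈ A, a ≠ 1 → Subgroup.zpowers a ≤ A ∧ Nat.card (Subgroup.zpowers a) = p ^ 1 := by
    intro a ha ha1
    refine ⟨Subgroup.zpowers_le.mpr ha, ?_⟩
    rw [pow_one]
    exact Cfsg.Agent.Lib.Helper3.Gen.card_zpowers_of_pow_eq_one (hA.2 a ha) ha1
  have hTfam : ∀ a ∈ A, a ≠ 1 → InFam p A (tJoin p k A (Subgroup.zpowers a)) := fun a ha ha1 =>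
    tJoin_inFam hA hk hbal hAk hsolv (k - 1) 1 (by omega) le_rfl _ (hz a ha ha1).1 (hz a ha ha1).2
  -- each generator lies in T_<a>
  have hgen : ∀ a ∈ A, a ≠ 1 → ∀ D : Subgroup G, D ≤ A → Nat.card ↥D = p ^ k →
      Cfsg.signalizerDelta p D ⊓ Subgroup.centralizer {a} ≤ tJoin p k A (Subgroup.zpowers a) := by
    intro a ha ha1 D hDA hDc
    have hX : InFam p A (Cfsg.signalizerDelta p D ⊓ Subgroup.centralizer {a}) :=
      (delta_inFam hA hk hbal hDA (by rw [hDc])).of_le inf_le_left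
        (le_normalizer_inf (le_normalizer_delta p hA.1 hDA)
          (le_normalizer_centralizer_singleton hA.1 ha))
    exact le_tJoin_of_centralizes hA hAk1 hX (hz a ha ha1).1 (hz a ha ha1).2 hk
      (inf_le_right.trans (centralizer_singleton_le_zpowers a))
  have hθle : ∀ a ∈ A, a ≠ 1 →
      (⨆ D : {D : Subgroup G // D ≤ A ∧ Nat.card ↥D = p ^ k},
        Cfsg.signalizerDelta p (D : Subgroup G) ⊓ Subgroup.centralizer {a}) ≤
        tJoin p k A (Subgroup.zpowers a) := by
    intro a ha ha1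
    apply iSup_le
    rintro ⟨D, hDA, hDc⟩
    exact hgen a ha ha1 D hDA hDc
  have hAθ : ∀ a ∈ A, A ≤ Subgroup.normalizer
      ((⨆ D : {D : Subgroup G // D ≤ A ∧ Nat.card ↥D = p ^ k},
        Cfsg.signalizerDelta p (D : Subgroup G) ⊓ Subgroup.centralizer {a} : Subgroup G) : Set G) := by
    intro a ha
    apply Cfsg.Agent.Lib.Helper3.Sig.le_normalizer_of_conj_mem
    intro b hb
    apply conj_mem_iSup_of_forall
    rintro ⟨D, hDA, hDc⟩ z hz'
    refine le_iSup (fun D : {D : Subgroup G // D ≤ A ∧ Nat.card ↥D = p ^ k} =>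
      Cfsg.signalizerDelta p (D : Subgroup G) ⊓ Subgroup.centralizer {a}) ⟨D, hDA, hDc⟩ ?_
    exact (Subgroup.mem_normalizer_iff.mp (le_normalizer_inf (le_normalizer_delta p hA.1 hDA)
      (le_normalizer_centralizer_singleton hA.1 ha) hb) z).mp hz'
  have hθfam : ∀ a ∈ A, a ≠ 1 → InFam p A
      (⨆ D : {D : Subgroup G // D ≤ A ∧ Nat.card ↥D = p ^ k},
        Cfsg.signalizerDelta p (D : Subgroup G) ⊓ Subgroup.centralizer {a}) := fun a ha ha1 =>
    (hTfam a ha ha1).of_le (hθle a ha ha1) (hAθ a ha)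
  refine ⟨?_, ?_, ?_, ?_⟩
  · intro a ha ha1
    exact iSup_le fun D => inf_le_right
  · intro a ha ha1
    exact (hθfam a ha ha1).2.1
  · intro a ha ha1 b hb x hx
    exact (Subgroup.mem_normalizer_iff.mp (hAθ a ha hb) x).mp hx
  · intro a ha ha1 b hb hb1
    have hX : InFam p A ((⨆ D : {D : Subgroup G // D ≤ A ∧ Nat.card ↥D = p ^ k},
        Cfsg.signalizerDelta p (D : Subgroup G) ⊓ Subgroup.centralizer {a}) ⊓
        Subgroup.centralizer {b}) :=
      (hθfam a ha ha1).of_le inf_le_left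
        (le_normalizer_inf (hAθ a ha) (le_normalizer_centralizer_singleton hA.1 hb))
    have h1 := le_tJoin_of_centralizes hA hAk1 hX (hz b hb hb1).1 (hz b hb hb1).2 hk
      (inf_le_right.trans (centralizer_singleton_le_zpowers b))
    refine h1.trans ?_
    apply iSup_le
    rintro ⟨D, hbD, hDA, hDc⟩
    have hbD' : b ∈ D := hbD (Subgroup.mem_zpowers b)
    refine le_trans ?_ (le_iSup (fun D : {D : Subgroup G // D ≤ A ∧ Nat.card ↥D = p ^ k} =>
      Cfsg.signalizerDelta p (D : Subgroup G) ⊓ Subgroup.centralizer {b}) ⟨D, hDA, hDc⟩)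
    exact le_inf le_rfl ((delta_le_centralizerPPrimeCore p hbD' hb1).trans
      (centralizerPPrimeCore_le_centralizer p b))

end Cfsg.Agent.S1299
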