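import Mathlib
import Cfsg.Statements.S1300

set_option autoImplicit false
open Cfsg

namespace Cfsg.Agent.S1300

theorem cpc_le_centralizer {G : Type*} [Group G] (p : ℕ) (x : G) :
    Cfsg.centralizerPPrimeCore p x ≤ Subgroup.centralizer ({x} : Set G) := by
  unfold Cfsg.centralizerPPrimeCore
  intro g hg
  obtain ⟨c, _, rfl⟩ := hg
  exact c.2

theorem involution_subgroup {G : Type*} [Group G] (a : G) (ha : orderOf a = 2) :
    Cfsg.IsElementaryAbelian 2 (Subgroup.zpowers a) ∧ Nat.card (Subgroup.zpowers a) = 2 := by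
  refine ⟨⟨?_, ?_⟩, ?_⟩
  · exact ⟨⟨fun x y => by
      obtain ⟨x, hx⟩ := x
      obtain ⟨y, hy⟩ := y
      obtain ⟨i, rfl⟩ := Subgroup.mem_zpowers_iff.mp hx
      obtain ⟨j, rfl⟩ := Subgroup.mem_zpowers_iff.mp hy
      apply Subtype.ext
      simp only [Subgroup.coe_mul]
      rw [← zpow_add, ← zpow_add, add_comm]⟩⟩
  · intro x hx
    obtain ⟨i, rfl⟩ := Subgroup.mem_zpowers_iff.mp hx
    rw [← zpow_natCast, ← zpow_mul, mul_comm, zpow_mul, zpow_natCast]
    have : a ^ 2 = 1 := by rw [← ha]; exact pow_orderOf_eq_one a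
    rw [this, one_zpow]
  · rw [Nat.card_zpowers, ha]

theorem delta_zpowers {G : Type*} [Group G] (a : G) (ha : orderOf a = 2) :
    Cfsg.signalizerDelta 2 (Subgroup.zpowers a) = Cfsg.centralizerPPrimeCore 2 a := by
  unfold Cfsg.signalizerDelta
  have ha1 : a ≠ 1 := by
    intro h; rw [h, orderOf_one] at ha; omega
  apply le_antisymm
  · exact iInf_le_of_le ⟨a, Subgroup.mem_zpowers a, ha1⟩ le_rfl
  · apply le_iInf
    rintro ⟨b, hb, hb1⟩
    have hb' : b = a := by
      obtain ⟨i, rfl⟩ := Subgroup.mem_zpowers_iff.mp hb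
      have h2 : a ^ (2 : ℤ) = 1 := by
        have : a ^ 2 = 1 := by rw [← ha]; exact pow_orderOf_eq_one a
        exact_mod_cast this
      rcases Int.emod_two_eq_zero_or_one i with h | h
      · exfalso; apply hb1
        have : i = 2 * (i / 2) := by omega
        rw [this, zpow_mul, h2, one_zpow]
      · have : i = 2 * (i / 2) + 1 := by omega
        rw [this, zpow_add, zpow_mul, h2, one_zpow, one_mul, zpow_one]
    simp only [hb']
    exact le_rfl

theorem result {G : Type*} [Group G] [Finite G] : Cfsg.IsBalanced G ↔ Cfsg.IsKBalanced 2 1 G := by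
  constructor
  · intro h A hA hcard b hb hcomm
    rw [pow_one] at hcard
    -- A = zpowers a for an involution a
    have hAfin : Finite A := Nat.finite_of_card_ne_zero (by rw [hcard]; norm_num)
    obtain ⟨a, ha1⟩ : ∃ a : A, a ≠ 1 := by
      by_contra hcon
      push Not at hcon
      have : Subsingleton A := ⟨fun x y => by rw [hcon x, hcon y]⟩
      have := Nat.card_eq_one_iff_unique.mpr ⟨this, ⟨1⟩⟩
      omega
    have haA : (a : G) ∈ A := a.2
    have ha2 : (a : G) ^ 2 = 1 := hA.2 a haA
    have hao : orderOf (a : G) = 2 := by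
      have : Fact (Nat.Prime 2) := ⟨Nat.prime_two⟩
      apply orderOf_eq_prime ha2
      intro h; apply ha1; exact Subtype.ext h
    have hAeq : A = Subgroup.zpowers (a : G) := by
      symm
      apply Subgroup.eq_of_le_of_card_ge (Subgroup.zpowers_le.mpr haA)
      rw [Nat.card_zpowers, hao, hcard]
    rw [hAeq, delta_zpowers _ hao]
    have hab : (a : G) * b = b * a := hcomm a haA
    have := h a b hao hb hab
    intro g hg
    have hg' : g ∈ Cfsg.centralizerPPrimeCore 2 (a : G) ⊓ Subgroup.centralizer {b} := hg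
    rw [this] at hg'
    exact hg'.1
  · intro h x y hx hy hxy
    obtain ⟨hEx, hcx⟩ := involution_subgroup x hx
    obtain ⟨hEy, hcy⟩ := involution_subgroup y hy
    have h1 := h (Subgroup.zpowers x) hEx (by rw [hcx, pow_one]) y hy (by
      intro a ha
      obtain ⟨i, rfl⟩ := Subgroup.mem_zpowers_iff.mp ha
      exact ((Commute.zpow_left (show Commute x y from hxy) i).eq))
    have h2 := h (Subgroup.zpowers y) hEy (by rw [hcy, pow_one]) x hx (by
      intro a ha
      obtain ⟨i, rfl⟩ := Subgroup.mem_zpowers_iff.mp ha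
      exact ((Commute.zpow_left (show Commute y x from hxy.symm) i).eq))
    rw [delta_zpowers _ hx] at h1
    rw [delta_zpowers _ hy] at h2
    apply le_antisymm
    · intro g hg
      exact ⟨h1 hg, cpc_le_centralizer 2 x hg.1⟩
    · intro g hg
      exact ⟨h2 hg, cpc_le_centralizer 2 y hg.1⟩

end Cfsg.Agent.S1300
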