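import Mathlib
-- Template for statement S1303 (row 1303; see /opt/grader/pristine/manifest.json for weights).
-- Copy to Cfsg/Agent/S1303.lean and replace the sorry. The statement below is byte-identical to the frozen
-- statement Cfsg.CfsgFrozen.S1303 (Cfsg/Statements/S1303.lean; the theorem Cfsg.sl_two_three_invariant_subgroup_outside_core);
-- the grader kernel-checks Cfsg.Agent.S1303.result against that frozen type. Keep the theorem IN THIS FILE
-- (a `result` declared elsewhere and merely imported here is not credited); helpers may live anywhere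
-- under Cfsg/Agent/.
import Cfsg.Statements.S1303
import Cfsg.Agent.Lib.Helper3.SL23

set_option autoImplicit false
open Cfsg
open Cfsg.Agent.Lib.Helper3 Cfsg.Agent.Lib.Helper6
local notation "X23" => Matrix.SpecialLinearGroup (Fin 2) (ZMod 3)

namespace Cfsg.Agent.S1303

/-- The group X = SL(2, 3): it is 2-constrained, O_{2'}(X) = 1, its centre A = Z(X) contains every involution of X = C_X(A), and X has a subgroup of order 3 (normalized by A) not contained in O_{2'}(X). -/
theorem result : Cfsg.IsPConstrained 2 (Matrix.SpecialLinearGroup (Fin 2) (ZMod 3)) ∧ Cfsg.pPrimeCore 2 (Matrix.SpecialLinearGroup (Fin 2) (ZMod 3)) = ⊥ ∧ (∀ t : Matrix.SpecialLinearGroup (Fin 2) (ZMod 3), orderOf t = 2 → t ∈ Subgroup.center (Matrix.SpecialLinearGroup (Fin 2) (ZMod 3))) ∧ ∃ Q : Subgroup (Matrix.SpecialLinearGroup (Fin 2) (ZMod 3)), Nat.card ↥Q = 3 ∧ ¬ (Q ≤ Cfsg.pPrimeCore 2 (Matrix.SpecialLinearGroup (Fin 2) (ZMod 3))) := by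
  have : Fact (Nat.Prime 2) := ⟨Nat.prime_two⟩
  have hsolv : Group.IsSolvable X23 := solvable_X23
  have hcore : Cfsg.pPrimeCore 2 X23 = ⊥ := by
    rw [eq_bot_iff]
    have hcop := pPrimeCore_coprime (G := X23) 2
    have hdvd : Nat.card ↥(Cfsg.pPrimeCore 2 X23) ∣ 3 := by
      have h1 := Subgroup.card_subgroup_dvd_card (Cfsg.pPrimeCore 2 X23)
      rw [card_X23] at h1
      have h2 : (Nat.card ↥(Cfsg.pPrimeCore 2 X23)).Coprime 8 := Nat.Coprime.pow_right 3 hcop
      exact h2.dvd_of_dvd_mul_left (by simpa using h1)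
    have hcube : ∀ m ∈ Cfsg.pPrimeCore 2 X23, m ^ 3 = 1 := by
      intro m hm
      have h1 : orderOf (⟨m, hm⟩ : ↥(Cfsg.pPrimeCore 2 X23)) ∣ 3 :=
        (orderOf_dvd_natCard _).trans hdvd
      have h2 : (⟨m, hm⟩ : ↥(Cfsg.pPrimeCore 2 X23)) ^ 3 = 1 := orderOf_dvd_iff_pow_eq_one.mp h1
      exact congrArg Subtype.val h2
    intro n hn
    rw [Subgroup.mem_bot]
    by_contra hne
    obtain ⟨g, hg⟩ := lemA n hne (hcube n hn)
    apply hg
    apply hcube
    have hnorm : (Cfsg.pPrimeCore 2 X23).Normal := inferInstance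
    exact Subgroup.mul_mem _ (hnorm.conj_mem n hn g) hn
  refine ⟨isPConstrained_iff.mpr (pLayer_eq_bot_of_isSolvable hsolv), hcore, ?_, ?_⟩
  · intro t ht
    rw [Subgroup.mem_center_iff]
    have h1 : t * t = 1 := by
      have := pow_orderOf_eq_one t
      rw [ht, pow_two] at this
      exact this
    have h2 : t ≠ 1 := by
      rintro rfl
      rw [orderOf_one] at ht
      omega
    exact lemC t h1 h2
  · obtain ⟨u, hu3, hu1⟩ := lemD
    refine ⟨Subgroup.zpowers u, ?_, ?_⟩
    · rw [Nat.card_zpowers]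
      exact orderOf_eq_prime hu3 hu1
    · rw [hcore]
      intro h
      exact hu1 ((Subgroup.mem_bot).mp (h (Subgroup.mem_zpowers u)))

end Cfsg.Agent.S1303
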