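import Mathlib
import Cfsg.Statements.S1304

set_option autoImplicit false
open Cfsg
open scoped commutatorElement

namespace Cfsg.Agent.S1304

theorem comm_central {X : Type*} [Group X] (a b z w : X) (hz : ∀ g, g * z = z * g)
    (hw : ∀ g, g * w = w * g) :
    z * a * (w * b) * (z * a)⁻¹ * (w * b)⁻¹ = a * b * a⁻¹ * b⁻¹ := by
  have hzi : ∀ g, g * z⁻¹ = z⁻¹ * g := fun g => by
    have := hz g
    calc g * z⁻¹ = z⁻¹ * (z * g) * z⁻¹ := by group
      _ = z⁻¹ * (g * z) * z⁻¹ := by rw [this]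
      _ = z⁻¹ * g := by group
  have hwi : ∀ g, g * w⁻¹ = w⁻¹ * g := fun g => by
    have := hw g
    calc g * w⁻¹ = w⁻¹ * (w * g) * w⁻¹ := by group
      _ = w⁻¹ * (g * w) * w⁻¹ := by rw [this]
      _ = w⁻¹ * g := by group
  calc z * a * (w * b) * (z * a)⁻¹ * (w * b)⁻¹
      = z * a * (w * b) * (a⁻¹ * z⁻¹) * (b⁻¹ * w⁻¹) := by simp only [mul_inv_rev]
    _ = z * (a * w) * b * a⁻¹ * (z⁻¹ * b⁻¹) * w⁻¹ := by simp only [mul_assoc]
    _ = z * (w * a) * b * a⁻¹ * (b⁻¹ * z⁻¹) * w⁻¹ := by rw [hw a, hzi b⁻¹]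
    _ = (z * w) * (a * b * a⁻¹ * b⁻¹) * z⁻¹ * w⁻¹ := by simp only [mul_assoc]
    _ = (a * b * a⁻¹ * b⁻¹) * (z * w) * z⁻¹ * w⁻¹ := by
        have hzw : ∀ g, g * (z * w) = (z * w) * g := fun g => by
          rw [← mul_assoc, hz g, mul_assoc, hw g, mul_assoc]
        rw [hzw]
    _ = a * b * a⁻¹ * b⁻¹ := by
        rw [hw z]; group

theorem result {X : Type*} [Group X] (hperf : commutator X = ⊤) (α : X ≃* X) (h : ∀ x : X, α x * x⁻¹ ∈ Subgroup.center X) : ∀ x : X, α x = x := by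
  have key : commutator X ≤ (α.toMonoidHom).eqLocus (MonoidHom.id X) := by
    rw [commutator_eq_closure, Subgroup.closure_le]
    rintro _ ⟨a, b, rfl⟩
    change α ⁅a, b⁆ = ⁅a, b⁆
    have ha := h a
    have hb := h b
    rw [Subgroup.mem_center_iff] at ha hb
    have e1 : α a = (α a * a⁻¹) * a := by simp
    have e2 : α b = (α b * b⁻¹) * b := by simp
    rw [commutatorElement_def, map_mul, map_mul, map_mul, map_inv, map_inv, e1, e2]
    exact comm_central a b _ _ ha hb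
  rw [hperf] at key
  intro x
  exact key (Subgroup.mem_top x)

end Cfsg.Agent.S1304
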