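import Mathlib
-- Template for statement S1306 (row 1306; see /opt/grader/pristine/manifest.json for weights).
-- Copy to Cfsg/Agent/S1306.lean and replace the sorry. The statement below is byte-identical to the frozen
-- statement Cfsg.CfsgFrozen.S1306 (Cfsg/Statements/S1306.lean; the theorem Cfsg.nonembedded_component_commuting_with_no_conjugate_is_standard);
-- the grader kernel-checks Cfsg.Agent.S1306.result against that frozen type. Keep the theorem IN THIS FILE
-- (a `result` declared elsewhere and merely imported here is not credited); helpers may live anywhere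
-- under Cfsg/Agent/.
import Cfsg.Statements.S1306
import Cfsg.Agent.Lib.Helper3.Std1

set_option autoImplicit false
open Cfsg
open Cfsg.Agent.Lib.Helper3 Cfsg.Agent.Lib.Helper3.Std

namespace Cfsg.Agent.S1306

/-- Let G be finite, x an involution and L ≤ C_G(x) a component of C_G(x). Suppose L is a component of C_G(y) for every involution y ∈ C_G(L), and ⁅L, g L g⁻¹⁆ ≠ 1 whenever g L g⁻¹ ≠ L. Then L is a standard subgroup of G. -/
theorem result {G : Type*} [Group G] [Finite G] (x : G) (hx : orderOf x = 2) (L : Subgroup G) (hLx : L ≤ Subgroup.centralizer ({x} : Set G)) (hL : Cfsg.IsComponent (L.subgroupOf (Subgroup.centralizer ({x} : Set G)))) (hne : ∀ y : G, orderOf y = 2 → y ∈ Subgroup.centralizer (L : Set G) → L ≤ Subgroup.centralizer ({y} : Set G) ∧ Cfsg.IsComponent (L.subgroupOf (Subgroup.centralizer ({y} : Set G)))) (hnc : ∀ g : G, L.map (MulAut.conj g).toMonoidHom ≠ L → ⁅L, L.map (MulAut.conj g).toMonoidHom⁆ ≠ ⊥) : Cfsg.IsStandardSubgroup L := by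
  classical
  -- the key claim
  have key : ∀ (y g : G), orderOf y = 2 → y ∈ Subgroup.centralizer (L : Set G) →
      y ∈ Subgroup.centralizer ((L.map (MulAut.conj g).toMonoidHom : Subgroup G) : Set G) →
      L.map (MulAut.conj g).toMonoidHom = L := by
    intro y g hy hyL hyLg
    by_contra hneq
    -- the conjugate `g⁻¹ y g`
    have hy' : orderOf (g⁻¹ * y * g) = 2 := by
      have : g⁻¹ * y * g = MulAut.conj g⁻¹ y := by simp [MulAut.conj_apply]
      rw [this, MulEquiv.orderOf_eq, hy]
    have hy'L : g⁻¹ * y * g ∈ Subgroup.centralizer (L : Set G) := by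
      rw [Subgroup.mem_centralizer_iff]
      intro l hl
      have := Subgroup.mem_centralizer_iff.mp hyLg (g * l * g⁻¹) ⟨l, hl, rfl⟩
      calc l * (g⁻¹ * y * g) = g⁻¹ * ((g * l * g⁻¹) * y) * g := by group
        _ = g⁻¹ * (y * (g * l * g⁻¹)) * g := by rw [this]
        _ = g⁻¹ * y * g * l := by group
    obtain ⟨h1, h2⟩ := hne _ hy' hy'L
    obtain ⟨h3, h4⟩ := isComponent_conj g h1 h2
    have e : g * (g⁻¹ * y * g) * g⁻¹ = y := by group
    rw [e] at h3 h4
    obtain ⟨h5, h6⟩ := hne y hy hyL
    rcases eq_or_commutator_eq_bot h5 h3 h6 h4 with h7 | h7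
    · exact hneq h7.symm
    · exact hnc g hneq h7
  have hxL : x ∈ Subgroup.centralizer (L : Set G) := by
    rw [Subgroup.mem_centralizer_iff]
    intro l hl
    exact Subgroup.mem_centralizer_singleton_iff.mp (hLx hl)
  -- normalizers
  have hNL : ∀ g : G, L.map (MulAut.conj g).toMonoidHom = L →
      (Subgroup.centralizer (L : Set G)).map (MulAut.conj g).toMonoidHom =
        Subgroup.centralizer (L : Set G) := by
    intro g hg
    rw [centralizer_map_conj, hg]
  refine ⟨?_, ⟨?_, ?_⟩, hnc, ?_⟩
  · exact isQuasisimple_of_mulEquiv (Subgroup.subgroupOfEquivOfLe hLx) hL.2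
  · -- even order
    have h2 : orderOf (⟨x, hxL⟩ : Subgroup.centralizer (L : Set G)) = 2 := by
      rw [← hx]
      exact (Subgroup.orderOf_mk x hxL)
    rw [even_iff_two_dvd, ← h2]
    exact orderOf_dvd_natCard _
  · intro g hg
    by_contra hodd
    rw [Nat.not_odd_iff_even, even_iff_two_dvd] at hodd
    haveI : Fact (Nat.Prime 2) := ⟨Nat.prime_two⟩
    obtain ⟨⟨y, hyK⟩, hy⟩ := exists_prime_orderOf_dvd_card' 2 hodd
    have hy2 : orderOf y = 2 := by
      rw [← hy]
      exact (Subgroup.orderOf_mk y hyK).symm
    obtain ⟨hy1, hy3⟩ := Subgroup.mem_inf.mp hyK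
    rw [centralizer_map_conj] at hy3
    have hLg := key y g hy2 hy1 hy3
    apply hg
    rw [Subgroup.mem_normalizer_iff_map_conj_eq]
    exact hNL g hLg
  · ext g
    rw [Subgroup.mem_normalizer_iff_map_conj_eq, Subgroup.mem_normalizer_iff_map_conj_eq]
    constructor
    · intro hg
      exact hNL g hg
    · intro hg
      have h1 : x ∈ (Subgroup.centralizer (L : Set G)).map (MulAut.conj g).toMonoidHom := by
        have : (Subgroup.centralizer (L : Set G)).map (MulAut.conj g).toMonoidHom =
            Subgroup.centralizer (L : Set G) := hg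
        rw [this]
        exact hxL
      rw [centralizer_map_conj] at h1
      exact key x g hx hxL h1

end Cfsg.Agent.S1306
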