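import Mathlib
-- Template for statement S1307 (row 1307; see /opt/grader/pristine/manifest.json for weights).
-- Copy to Cfsg/Agent/S1307.lean and replace the sorry. The statement below is byte-identical to the frozen
-- statement Cfsg.CfsgFrozen.S1307 (Cfsg/Statements/S1307.lean; the theorem Cfsg.nonembedded_component_of_two_rank_one_gives_classical_involution);
-- the grader kernel-checks Cfsg.Agent.S1307.result against that frozen type. Keep the theorem IN THIS FILE
-- (a `result` declared elsewhere and merely imported here is not credited); helpers may live anywhere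
-- under Cfsg/Agent/.
import Cfsg.Statements.S1307
import Cfsg.Agent.Lib.Helper3.QuatComp3

set_option autoImplicit false
open Cfsg

namespace Cfsg.Agent.S1307

/-- Let G be finite, x an involution and L ≤ C_G(x) a component of C_G(x) of even order and 2-rank 1, such that L is a component of C_G(y) for every involution y ∈ C_G(L). Then some involution of L is a classical involution of G. -/
theorem result {G : Type*} [Group G] [Finite G] (x : G) (hx : orderOf x = 2) (L : Subgroup G) (hLx : L ≤ Subgroup.centralizer ({x} : Set G)) (hL : Cfsg.IsComponent (L.subgroupOf (Subgroup.centralizer ({x} : Set G)))) (heven : Even (Nat.card ↥L)) (hrk : Cfsg.PRankLE 2 1 ↥L) (hne : ∀ y : G, orderOf y = 2 → y ∈ Subgroup.centralizer (L : Set G) → L ≤ Subgroup.centralizer ({y} : Set G) ∧ Cfsg.IsComponent (L.subgroupOf (Subgroup.centralizer ({y} : Set G)))) : ∃ t ∈ L, Cfsg.IsClassicalInvolution t := by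
  classical
  set C : Subgroup G := Subgroup.centralizer ({x} : Set G) with hC
  have e0 : ↥(L.subgroupOf C) ≃* ↥L := Subgroup.subgroupOfEquivOfLe hLx
  have hq : Cfsg.IsQuasisimple ↥L := Cfsg.Agent.Lib.Helper3.isQuasisimple_of_mulEquiv e0 hL.2
  obtain ⟨t, hto, htc, S, n, he⟩ := Cfsg.Agent.Lib.Helper3.QuatComp.main hq heven hrk
  have htG : orderOf (t : G) = 2 := by rw [Subgroup.orderOf_coe]; exact hto
  have htcL : (t : G) ∈ Subgroup.centralizer (L : Set G) := by
    rw [Subgroup.mem_centralizer_iff]
    intro y hy
    have := Subgroup.mem_center_iff.mp htc ⟨y, hy⟩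
    exact congrArg Subtype.val this
  obtain ⟨hle, hcomp⟩ := hne (t : G) htG htcL
  exact ⟨(t : G), t.2, htG, L, hle, t.2, hcomp.1, S, n, he⟩

end Cfsg.Agent.S1307
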