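import Cfsg.Statements.S1312
import Mathlib
import Cfsg.Agent.Lib.Helper7.Bender3
import Cfsg.Agent.Lib.Lead.Core

set_option autoImplicit false
open Cfsg

namespace Cfsg.Agent.S1312

/-- Let G be a non-abelian finite simple group and M ≠ N maximal subgroups of G with F*(M) ≤ N and F*(N) ≤ M. Then there is a prime p such that F*(M) and F*(N) are both p-groups. -/
theorem result {G : Type*} [Group G] [Finite G] [IsSimpleGroup G] (hna : ¬ IsMulCommutative G) (M N : Subgroup G) (hM : IsCoatom M) (hN : IsCoatom N) (hMN : M ≠ N) (h1 : (Cfsg.generalizedFittingSubgroup ↥M).map M.subtype ≤ N) (h2 : (Cfsg.generalizedFittingSubgroup ↥N).map N.subtype ≤ M) : ∃ p : ℕ, p.Prime ∧ IsPGroup p ↥(Cfsg.generalizedFittingSubgroup ↥M) ∧ IsPGroup p ↥(Cfsg.generalizedFittingSubgroup ↥N) := by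
  classical
  have hMtop : M ≠ ⊤ := hM.1
  have hNtop : N ≠ ⊤ := hN.1
  -- normalizers of nontrivial subgroups of proper subgroups are proper
  have hnorm : ∀ (X : Subgroup G), IsCoatom X → ∀ A : Subgroup G, A ≠ ⊥ → A ≤ X →
      X ≤ Subgroup.normalizer (A : Set G) → Subgroup.normalizer (A : Set G) = X := by
    intro X hX A hA hAX hXN
    rcases eq_or_lt_of_le hXN with h | h
    · exact h.symm
    · have htop := hX.2 _ h
      have hAn : A.Normal := Subgroup.normalizer_eq_top_iff.mp htop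
      rcases hAn.eq_bot_or_eq_top with h3 | h3
      · exact (hA h3).elim
      · exfalso
        apply hX.1
        rw [eq_top_iff, ← h3]; exact hAX
  have hP : Cfsg.Agent.Lib.Helper7.Bender.Prim M N := by
    intro A hA hle
    constructor
    · intro h
      rw [hnorm M hM A hA (hle.trans inf_le_left) h, inf_comm]
    · intro h
      rw [hnorm N hN A hA (hle.trans inf_le_right) h]
  have hS : Cfsg.Agent.Lib.Helper7.Bender.Setup M N := ⟨hP, hMN, h1, h2⟩
  obtain ⟨p, hp, hp1⟩ := hS.exists_prime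
  haveI : Fact p.Prime := ⟨hp⟩
  obtain ⟨hR1, hR2⟩ := hS.Rq_eq_bot p hp1
  refine ⟨p, hp, ?_, ?_⟩
  · rw [hS.gfs_eq_pCore p hR1]
    exact Cfsg.Agent.Lib.Lead.pCore_isPGroup p
  · rw [hS.symm.gfs_eq_pCore p hR2]
    exact Cfsg.Agent.Lib.Lead.pCore_isPGroup p

end Cfsg.Agent.S1312
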