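import Mathlib
-- Template for statement S1313 (row 1313; see /opt/grader/pristine/manifest.json for weights).
-- Copy to Cfsg/Agent/S1313.lean and replace the sorry. The statement below is byte-identical to the frozen
-- statement Cfsg.CfsgFrozen.S1313 (Cfsg/Statements/S1313.lean; the theorem Cfsg.card_le_factorial_card_generalized_fitting);
-- the grader kernel-checks Cfsg.Agent.S1313.result against that frozen type. Keep the theorem IN THIS FILE
-- (a `result` declared elsewhere and merely imported here is not credited); helpers may live anywhere
-- under Cfsg/Agent/.
import Cfsg.Statements.S1313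
import Cfsg.Agent.Lib.Helper3.Components8

set_option autoImplicit false
open Cfsg

namespace Cfsg.Agent.S1313

/-- For a finite group H, |H| ≤ |F*(H)|!. -/
theorem result {H : Type*} [Group H] [Finite H] : Nat.card H ≤ Nat.factorial (Nat.card ↥(Cfsg.generalizedFittingSubgroup H)) := by
  exact Cfsg.Agent.Lib.Helper3.card_le_factorial_card_generalizedFittingSubgroup

end Cfsg.Agent.S1313
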