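import Mathlib
-- Template for statement S1314 (row 1314; see /opt/grader/pristine/manifest.json for weights).
-- Copy to Cfsg/Agent/S1314.lean and replace the sorry. The statement below is byte-identical to the frozen
-- statement Cfsg.CfsgFrozen.S1314 (Cfsg/Statements/S1314.lean; the theorem Cfsg.diagonal_of_commuting_conjugate_pair);
-- the grader kernel-checks Cfsg.Agent.S1314.result against that frozen type. Keep the theorem IN THIS FILE
-- (a `result` declared elsewhere and merely imported here is not credited); helpers may live anywhere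
-- under Cfsg/Agent/.
import Cfsg.Statements.S1314


set_option autoImplicit false
open Cfsg
open scoped commutatorElement

namespace Cfsg.Agent.S1314

/-- Let x be an involution of a group G and L a perfect subgroup with ⁅L, x L x⁻¹⁆ = 1. Then l ↦ l (x l x⁻¹) is a group homomorphism π from L to G whose kernel is central in L and whose image lies in C_G(x); and the commutator subgroup of C_{L ⊔ xLx⁻¹}(x) equals the image of π. -/
theorem result {G : Type*} [Group G] [Finite G] (x : G) (hx : orderOf x = 2) (L : Subgroup G) (hperf : ⁅L, L⁆ = L) (hcomm : ⁅L, L.map (MulAut.conj x).toMonoidHom⁆ = ⊥) : ∃ π : ↥L →* G, (∀ l : ↥L, π l = (l : G) * (x * (l : G) * x⁻¹)) ∧ π.ker ≤ Subgroup.center ↥L ∧ π.range ≤ Subgroup.centralizer ({x} : Set G) ∧ ⁅(L ⊔ L.map (MulAut.conj x).toMonoidHom) ⊓ Subgroup.centralizer ({x} : Set G), (L ⊔ L.map (MulAut.conj x).toMonoidHom) ⊓ Subgroup.centralizer ({x} : Set G)⁆ = π.range := by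
  classical
  have hx2 : x * x = 1 := by rw [← pow_two, ← hx, pow_orderOf_eq_one]
  have hxi : x⁻¹ = x := inv_eq_of_mul_eq_one_left hx2
  have hc : ∀ a ∈ L, ∀ b ∈ L, Commute a (x * b * x⁻¹) := by
    intro a ha b hb
    have h1 := Subgroup.commutator_eq_bot_iff_le_centralizer.mp hcomm ha
    exact (Subgroup.mem_centralizer_iff.mp h1 (x*b*x⁻¹) ⟨b, hb, rfl⟩).symm
  let f : ↥L →* G := L.subtype
  let g : ↥L →* G := (MulAut.conj x).toMonoidHom.comp L.subtype
  have hfg : ∀ a b : ↥L, Commute (f a) (g b) := fun a b => hc a a.2 b b.2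
  let Φ : ↥L × ↥L →* G := f.noncommCoprod g hfg
  let π : ↥L →* G := Φ.comp (MonoidHom.prod (MonoidHom.id _) (MonoidHom.id _))
  have hπ : ∀ l : ↥L, π l = (l : G) * (x * (l : G) * x⁻¹) := fun l => rfl
  have hΦ : ∀ a b : ↥L, Φ (a, b) = (a : G) * (x * (b : G) * x⁻¹) := fun a b => rfl
  have hrange : Φ.range = L ⊔ L.map (MulAut.conj x).toMonoidHom := by
    have h1 : f.range = L := Subgroup.range_subtype L
    have h2 : g.range = L.map (MulAut.conj x).toMonoidHom := by
      rw [MonoidHom.range_comp, Subgroup.range_subtype]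
    rw [MonoidHom.noncommCoprod_range, h1, h2]
  have hker : π.ker ≤ Subgroup.center ↥L := by
    intro l hl
    rw [MonoidHom.mem_ker, hπ] at hl
    rw [Subgroup.mem_center_iff]
    intro a
    have h1 : (l : G) = (x * (l : G) * x⁻¹)⁻¹ := eq_inv_of_mul_eq_one_left hl
    have h2 : (l : G) = x * (l⁻¹ : ↥L) * x⁻¹ := by
      rw [h1]; simp [mul_assoc]
    apply Subtype.ext
    have h3 := hc a a.2 (l⁻¹ : ↥L) (l⁻¹ : ↥L).2
    rw [← h2] at h3
    simpa using h3.eq
  have hran : π.range ≤ Subgroup.centralizer ({x} : Set G) := by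
    rintro _ ⟨l, rfl⟩
    rw [Subgroup.mem_centralizer_singleton_iff, hπ]
    have h3 := (hc l l.2 l l.2).eq
    calc (l : G) * (x * (l : G) * x⁻¹) * x = (x * (l : G) * x⁻¹) * (l : G) * x := by rw [h3]
      _ = x * ((l : G) * (x * (l : G) * x⁻¹)) := by
        rw [hxi]
        have : x * ((l : G) * (x * (l : G) * x)) = x * (l : G) * x * (l : G) * x := by group
        rw [this]
  refine ⟨π, hπ, hker, hran, ?_⟩
  have hπM : π.range ≤ (L ⊔ L.map (MulAut.conj x).toMonoidHom) := by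
    rw [← hrange]
    rintro _ ⟨l, rfl⟩
    exact ⟨(l, l), rfl⟩
  apply le_antisymm
  · rw [Subgroup.commutator_le]
    -- decomposition of elements of `M ⊓ C`
    have hdec : ∀ m ∈ (L ⊔ L.map (MulAut.conj x).toMonoidHom) ⊓ Subgroup.centralizer ({x} : Set G),
        ∃ b : ↥L, ∃ z : G, m = π b * z ∧
          ∀ n ∈ (L ⊔ L.map (MulAut.conj x).toMonoidHom), Commute z n := by
      intro m hm
      obtain ⟨hmM, hmC⟩ := Subgroup.mem_inf.mp hm
      rw [← hrange] at hmM
      obtain ⟨⟨a, b⟩, rfl⟩ := hmM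
      rw [hΦ] at hmC ⊢
      rw [Subgroup.mem_centralizer_singleton_iff] at hmC
      -- z = b⁻¹ a
      refine ⟨b, (b : G)⁻¹ * a, ?_, ?_⟩
      · rw [hπ]
        have h3 := (hc ((b : G)⁻¹ * a) (L.mul_mem (L.inv_mem b.2) a.2) b b.2).eq
        calc (a : G) * (x * (b : G) * x⁻¹) = (b : G) * (((b : G)⁻¹ * a) * (x * (b : G) * x⁻¹)) := by group
          _ = (b : G) * ((x * (b : G) * x⁻¹) * ((b : G)⁻¹ * a)) := by rw [h3]
          _ = (b : G) * (x * (b : G) * x⁻¹) * ((b : G)⁻¹ * a) := by group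
      · -- `b⁻¹ a = x (a b⁻¹) x⁻¹`
        have h4 : (b : G)⁻¹ * a = x * ((a : G) * (b : G)⁻¹) * x⁻¹ := by
          have h5 := (hc b b.2 a a.2).eq
          have h6 : x * (a : G) * x⁻¹ * (b : G) = (a : G) * (x * (b : G) * x⁻¹) := by
            have : x * (a : G) * x⁻¹ * (b : G) = x * ((a : G) * (x * (b : G) * x⁻¹)) * x⁻¹ := by
              rw [hxi]
              have e : x * ((a : G) * (x * (b : G) * x)) * x = x * (a : G) * x * (b : G) * (x * x) := by group
              rw [e, hx2, mul_one]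
            rw [this, ← hmC]
            group
          rw [← h5] at h6
          -- b * (x a x⁻¹) = a * (x b x⁻¹)
          have h7 : (b : G)⁻¹ * a = (x * (a : G) * x⁻¹) * (x * (b : G) * x⁻¹)⁻¹ := by
            rw [eq_mul_inv_iff_mul_eq, mul_assoc, ← h6]
            group
          rw [h7]; group
        intro n hn
        rw [← hrange] at hn
        obtain ⟨⟨c, d⟩, rfl⟩ := hn
        rw [hΦ]
        apply Commute.mul_right
        · -- z ∈ Lx commutes with c ∈ L
          rw [h4]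
          exact (hc c c.2 _ (L.mul_mem a.2 (L.inv_mem b.2))).symm
        · exact hc _ (L.mul_mem (L.inv_mem b.2) a.2) d d.2
    intro m₁ hm₁ m₂ hm₂
    obtain ⟨b₁, z₁, rfl, hz₁⟩ := hdec m₁ hm₁
    obtain ⟨b₂, z₂, rfl, hz₂⟩ := hdec m₂ hm₂
    have hb₁ : π b₁ ∈ (L ⊔ L.map (MulAut.conj x).toMonoidHom) := hπM ⟨b₁, rfl⟩
    have hb₂ : π b₂ ∈ (L ⊔ L.map (MulAut.conj x).toMonoidHom) := hπM ⟨b₂, rfl⟩
    have hz₂M : z₂ ∈ (L ⊔ L.map (MulAut.conj x).toMonoidHom) := by
      have := (Subgroup.mem_inf.mp hm₂).1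
      have h := Subgroup.mul_mem _ (Subgroup.inv_mem _ hb₂) this
      simpa using h
    have e1 : ⁅π b₁ * z₁, π b₂ * z₂⁆ = ⁅π b₁, π b₂⁆ := by
      have c1 : Commute z₁ (π b₂ * z₂) := hz₁ _ (Subgroup.mul_mem _ hb₂ hz₂M)
      have c2 : Commute z₂ (π b₁) := hz₂ _ hb₁
      have c3 : Commute z₂ (π b₁)⁻¹ := c2.inv_right
      have c1' : Commute z₁ (π b₂ * z₂)⁻¹ := c1.inv_right
      rw [commutatorElement_def, commutatorElement_def]
      calc π b₁ * z₁ * (π b₂ * z₂) * (π b₁ * z₁)⁻¹ * (π b₂ * z₂)⁻¹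
          = π b₁ * (z₁ * (π b₂ * z₂)) * (z₁⁻¹ * (π b₁)⁻¹) * (π b₂ * z₂)⁻¹ := by group
        _ = π b₁ * ((π b₂ * z₂) * z₁) * (z₁⁻¹ * (π b₁)⁻¹) * (π b₂ * z₂)⁻¹ := by rw [c1.eq]
        _ = π b₁ * π b₂ * (z₂ * (π b₁)⁻¹) * z₂⁻¹ * (π b₂)⁻¹ := by group
        _ = π b₁ * π b₂ * ((π b₁)⁻¹ * z₂) * z₂⁻¹ * (π b₂)⁻¹ := by rw [c3.eq]
        _ = π b₁ * π b₂ * (π b₁)⁻¹ * (π b₂)⁻¹ := by group
    rw [e1, ← map_commutatorElement]
    exact ⟨_, rfl⟩
  · have htop : ⁅(⊤ : Subgroup L), (⊤ : Subgroup L)⁆ = (⊤ : Subgroup L) := by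
      apply Subgroup.map_injective L.subtype_injective
      rw [Subgroup.map_commutator, ← MonoidHom.range_eq_map, Subgroup.range_subtype]
      exact hperf
    have h1 : π.range = ⁅π.range, π.range⁆ := by
      conv_lhs => rw [MonoidHom.range_eq_map, ← htop, Subgroup.map_commutator, ← MonoidHom.range_eq_map]
    rw [h1]
    exact Subgroup.commutator_mono (le_inf hπM hran) (le_inf hπM hran)

end Cfsg.Agent.S1314
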