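import Mathlib
-- Template for statement S1316 (row 1316; see /opt/grader/pristine/manifest.json for weights).
-- Copy to Cfsg/Agent/S1316.lean and replace the sorry. The statement below is byte-identical to the frozen
-- statement Cfsg.CfsgFrozen.S1316 (Cfsg/Statements/S1316.lean; the theorem Cfsg.layer_eq_derived_series_limit_of_generalized_fitting);
-- the grader kernel-checks Cfsg.Agent.S1316.result against that frozen type. Keep the theorem IN THIS FILE
-- (a `result` declared elsewhere and merely imported here is not credited); helpers may live anywhere
-- under Cfsg/Agent/.
import Cfsg.Statements.S1316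
import Cfsg.Agent.Lib.Helper3.Components8

set_option autoImplicit false
open Cfsg

namespace Cfsg.Agent.S1316

/-- For a finite group X, E(X) equals the intersection of the derived series of F*(X) (its last term). -/
theorem result {X : Type*} [Group X] [Finite X] : (⨅ n : ℕ, (derivedSeries ↥(Cfsg.generalizedFittingSubgroup X) n).map (Cfsg.generalizedFittingSubgroup X).subtype) = Cfsg.layer X := by
  exact Cfsg.Agent.Lib.Helper3.iInf_derivedSeries_generalizedFittingSubgroup

end Cfsg.Agent.S1316
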