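import Mathlib
-- Template for statement S1317 (row 1317; see /opt/grader/pristine/manifest.json for weights).
-- Copy to Cfsg/Agent/S1317.lean and replace the sorry. The statement below is byte-identical to the frozen
-- statement Cfsg.CfsgFrozen.S1317 (Cfsg/Statements/S1317.lean; the theorem Cfsg.center_layer_eq_fitting_inf_layer);
-- the grader kernel-checks Cfsg.Agent.S1317.result against that frozen type. Keep the theorem IN THIS FILE
-- (a `result` declared elsewhere and merely imported here is not credited); helpers may live anywhere
-- under Cfsg/Agent/.
import Cfsg.Statements.S1317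
import Cfsg.Agent.Lib.Helper3.Components8

set_option autoImplicit false
open Cfsg

namespace Cfsg.Agent.S1317

/-- For a finite group X, the centre of the layer E(X) is F(X) ∩ E(X). -/
theorem result {X : Type*} [Group X] [Finite X] : (Subgroup.center ↥(Cfsg.layer X)).map (Cfsg.layer X).subtype = Cfsg.fittingSubgroup X ⊓ Cfsg.layer X := by
  exact Cfsg.Agent.Lib.Helper3.center_layer_map_subtype

end Cfsg.Agent.S1317
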