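import Mathlib
-- Template for statement S1318 (row 1318; see /opt/grader/pristine/manifest.json for weights).
-- Copy to Cfsg/Agent/S1318.lean and replace the sorry. The statement below is byte-identical to the frozen
-- statement Cfsg.CfsgFrozen.S1318 (Cfsg/Statements/S1318.lean; the theorem Cfsg.subnormal_of_generalized_fitting_factorization);
-- the grader kernel-checks Cfsg.Agent.S1318.result against that frozen type. Keep the theorem IN THIS FILE
-- (a `result` declared elsewhere and merely imported here is not credited); helpers may live anywhere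
-- under Cfsg/Agent/.
import Cfsg.Statements.S1318
import Cfsg.Agent.Lib.Helper3.Components10

set_option autoImplicit false
open Cfsg

namespace Cfsg.Agent.S1318

/-- Let X be finite and S ≤ F*(X) a subgroup subnormal in F*(X). Then F(S) = F(X) ∩ S (inside X) and S = F(S)E(S). -/
theorem result {X : Type*} [Group X] [Finite X] (S : Subgroup X) (hS : S ≤ Cfsg.generalizedFittingSubgroup X) (hsn : (S.subgroupOf (Cfsg.generalizedFittingSubgroup X)).IsSubnormal) : (Cfsg.fittingSubgroup ↥S).map S.subtype = Cfsg.fittingSubgroup X ⊓ S ∧ Cfsg.fittingSubgroup ↥S ⊔ Cfsg.layer ↥S = ⊤ := by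
  open Cfsg.Agent.Lib.Helper3 in
  have hSsn : S.IsSubnormal :=
    Subgroup.IsSubnormal.trans hS hsn (Subgroup.Normal.isSubnormal inferInstance)
  have h1 := fittingSubgroup_map_subtype_eq_of_isSubnormal hSsn
  refine ⟨h1, ?_⟩
  have h2 := le_layer_sup_fitting_of_le_generalizedFittingSubgroup hSsn hS
  rw [← h1] at h2
  apply Subgroup.map_injective S.subtype_injective
  rw [Subgroup.map_sup, ← MonoidHom.range_eq_map, Subgroup.range_subtype]
  apply le_antisymm
  · apply sup_le
    · rintro _ ⟨y, _, rfl⟩; exact y.2
    · rintro _ ⟨y, _, rfl⟩; exact y.2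
  · rw [sup_comm]; exact h2

end Cfsg.Agent.S1318
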