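import Mathlib
-- Template for statement S1319 (row 1319; see /opt/grader/pristine/manifest.json for weights).
-- Copy to Cfsg/Agent/S1319.lean and replace the sorry. The statement below is byte-identical to the frozen
-- statement Cfsg.CfsgFrozen.S1319 (Cfsg/Statements/S1319.lean; the theorem Cfsg.perfect_layer_subnormal_normal_in_layer);
-- the grader kernel-checks Cfsg.Agent.S1319.result against that frozen type. Keep the theorem IN THIS FILE
-- (a `result` declared elsewhere and merely imported here is not credited); helpers may live anywhere
-- under Cfsg/Agent/.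
import Cfsg.Statements.S1319
import Cfsg.Agent.Lib.Helper3.Components9

set_option autoImplicit false
open Cfsg

namespace Cfsg.Agent.S1319

/-- Let A be a subnormal subgroup of the finite group X with E(A) = A. Then A ≤ E(X) and A is normal in E(X). -/
theorem result {X : Type*} [Group X] [Finite X] (A : Subgroup X) (hsn : A.IsSubnormal) (hA : Cfsg.layer ↥A = ⊤) : A ≤ Cfsg.layer X ∧ (A.subgroupOf (Cfsg.layer X)).Normal := by
  have h1 := Cfsg.Agent.Lib.Helper3.le_layer_of_layer_eq_top hsn hA
  exact ⟨h1, (Subgroup.normal_subgroupOf_iff_le_normalizer h1).mpr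
    (Cfsg.Agent.Lib.Helper3.layer_le_normalizer_of_isSubnormal hsn)⟩

end Cfsg.Agent.S1319
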