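import Mathlib
-- Template for statement S1320 (row 1320; see /opt/grader/pristine/manifest.json for weights).
-- Copy to Cfsg/Agent/S1320.lean and replace the sorry. The statement below is byte-identical to the frozen
-- statement Cfsg.CfsgFrozen.S1320 (Cfsg/Statements/S1320.lean; the theorem Cfsg.generalized_fitting_inf_normal);
-- the grader kernel-checks Cfsg.Agent.S1320.result against that frozen type. Keep the theorem IN THIS FILE
-- (a `result` declared elsewhere and merely imported here is not credited); helpers may live anywhere
-- under Cfsg/Agent/.
import Cfsg.Statements.S1320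
import Cfsg.Agent.Lib.Helper3.Components10

set_option autoImplicit false
open Cfsg

namespace Cfsg.Agent.S1320

/-- Let B be a normal subgroup of the finite group A. Then F*(A) ∩ B = F*(B). -/
theorem result {A : Type*} [Group A] [Finite A] (B : Subgroup A) [B.Normal] : Cfsg.generalizedFittingSubgroup A ⊓ B = (Cfsg.generalizedFittingSubgroup ↥B).map B.subtype := by
  open Cfsg.Agent.Lib.Helper3 in
  have hBsn : B.IsSubnormal := Subgroup.Normal.isSubnormal inferInstance
  rw [generalizedFittingSubgroup_map_subtype, fittingSubgroup_map_subtype_eq_of_isSubnormal hBsn]
  apply le_antisymm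
  · have hSn : (Cfsg.generalizedFittingSubgroup A ⊓ B).Normal := inferInstance
    have hSsn : (Cfsg.generalizedFittingSubgroup A ⊓ B).IsSubnormal := hSn.isSubnormal
    have h2 := le_layer_sup_fitting_of_le_generalizedFittingSubgroup hSsn inf_le_left
    refine h2.trans (sup_le_sup ?_ ?_)
    · exact layer_map_subtype_mono hSsn hBsn inf_le_right
    · exact inf_le_inf_left _ inf_le_right
  · apply le_inf
    · unfold Cfsg.generalizedFittingSubgroup
      exact sup_le_sup (layer_map_subtype_le hBsn) inf_le_left
    · apply sup_le
      · rintro _ ⟨y, _, rfl⟩; exact y.2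
      · exact inf_le_right

end Cfsg.Agent.S1320
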