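import Mathlib
-- Template for statement S1321 (row 1321; see /opt/grader/pristine/manifest.json for weights).
-- Copy to Cfsg/Agent/S1321.lean and replace the sorry. The statement below is byte-identical to the frozen
-- statement Cfsg.CfsgFrozen.S1321 (Cfsg/Statements/S1321.lean; the theorem Cfsg.layer_eq_centralizer_sup_commutator);
-- the grader kernel-checks Cfsg.Agent.S1321.result against that frozen type. Keep the theorem IN THIS FILE
-- (a `result` declared elsewhere and merely imported here is not credited); helpers may live anywhere
-- under Cfsg/Agent/.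
import Cfsg.Statements.S1321
import Cfsg.Agent.Lib.Helper3.Components12

set_option autoImplicit false
open Cfsg

namespace Cfsg.Agent.S1321

/-- Let X be finite and U ≤ X. Then E(X) is generated by C_{E(X)}(U) together with ⁅E(X), U⁆ (indeed it is their product, ⁅E(X), U⁆ being normal in E(X)). -/
theorem result {X : Type*} [Group X] [Finite X] (U : Subgroup X) : Cfsg.layer X = (Cfsg.layer X ⊓ Subgroup.centralizer (U : Set X)) ⊔ ⁅Cfsg.layer X, U⁆ ∧ ⁅Cfsg.layer X, U⁆ ≤ Cfsg.layer X := by
  exact ⟨Cfsg.Agent.Lib.Helper3.layer_eq_centralizer_sup_commutator U, Subgroup.commutator_le_left _ _⟩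

end Cfsg.Agent.S1321
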