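import Mathlib
-- Template for statement S1323 (row 1323; see /opt/grader/pristine/manifest.json for weights).
-- Copy to Cfsg/Agent/S1323.lean and replace the sorry. The statement below is byte-identical to the frozen
-- statement Cfsg.CfsgFrozen.S1323 (Cfsg/Statements/S1323.lean; the theorem Cfsg.alternating_pointwise_stabilizer_of_four_points_standard);
-- the grader kernel-checks Cfsg.Agent.S1323.result against that frozen type. Keep the theorem IN THIS FILE
-- (a `result` declared elsewhere and merely imported here is not credited); helpers may live anywhere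
-- under Cfsg/Agent/.
import Cfsg.Statements.S1323
import Cfsg.Agent.Lib.Helper3.AltStd2

set_option autoImplicit false
open Cfsg
open Cfsg.Agent.Lib.Helper3.AltStd

namespace Cfsg.Agent.S1323

/-- For n ≥ 9, the subgroup of the alternating group on Fin n fixing each of the points 0, 1, 2, 3 is a standard subgroup. -/
theorem result (n : ℕ) (h4 : 4 ≤ n) (hn : 9 ≤ n) : Cfsg.IsStandardSubgroup (⨅ i : Fin 4, MulAction.stabilizer ↥(alternatingGroup (Fin n)) (Fin.castLE h4 i : Fin n)) := by
  classical
  have hL : (⨅ i : Fin 4, MulAction.stabilizer ↥(alternatingGroup (Fin n))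
      (Fin.castLE h4 i : Fin n)) = fixA {j : Fin n | j.val < 4} := by
    ext g
    rw [Subgroup.mem_iInf, mem_fixA]
    constructor
    · intro h j hj
      have := h ⟨j.val, hj⟩
      rw [MulAction.mem_stabilizer_iff] at this
      exact this
    · intro h i
      rw [MulAction.mem_stabilizer_iff]
      exact h (Fin.castLE h4 i) i.2
  rw [hL]
  have hcard : (Finset.univ.filter (fun j : Fin n => 4 ≤ j.val)).card = n - 4 := by
    have h1 := Fin.card_filter_val_lt (n := n) (m := 4)
    have h2 := Finset.card_filter_add_card_filter_not (s := (Finset.univ : Finset (Fin n)))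
      (fun j : Fin n => j.val < 4)
    rw [Finset.card_univ, Fintype.card_fin] at h2
    have h3 : (Finset.univ.filter (fun j : Fin n => ¬ j.val < 4)) =
        (Finset.univ.filter (fun j : Fin n => 4 ≤ j.val)) := by
      apply Finset.filter_congr
      intro x _
      exact not_lt
    rw [h3] at h2
    rw [min_eq_right h4] at h1
    omega
  refine isStandardSubgroup_fixA {j : Fin n | j.val < 4}
    (Finset.univ.filter (fun j : Fin n => 4 ≤ j.val)) ?_
    ⟨0, by omega⟩ ⟨1, by omega⟩ ⟨2, by omega⟩ ⟨3, by omega⟩ ?_ ?_ ?_ ?_ ?_ ?_ ?_ ?_ ?_
  · intro x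
    rw [Finset.mem_filter]
    show (x ∈ Finset.univ ∧ 4 ≤ x.val) ↔ ¬ (x.val < 4)
    constructor
    · rintro ⟨_, h⟩; omega
    · intro h; exact ⟨Finset.mem_univ _, by omega⟩
  · intro h; have := congrArg Fin.val h; simp at this
  · intro h; have := congrArg Fin.val h; simp at this
  · intro h; have := congrArg Fin.val h; simp at this
  · intro h; have := congrArg Fin.val h; simp at this
  · intro h; have := congrArg Fin.val h; simp at this
  · intro h; have := congrArg Fin.val h; simp at this
  · intro x
    show x.val < 4 ↔ _
    simp only [Fin.ext_iff]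
    omega
  · rw [hcard]; omega
  · rw [hcard, Fintype.card_fin]; omega

end Cfsg.Agent.S1323
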