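import Mathlib
-- Template for statement S1325 (row 1325; see /opt/grader/pristine/manifest.json for weights).
-- Copy to Cfsg/Agent/S1325.lean and replace the sorry. The statement below is byte-identical to the frozen
-- statement Cfsg.CfsgFrozen.S1325 (Cfsg/Statements/S1325.lean; the theorem Cfsg.generalized_fitting_le_selfcentralizing_normal_over_fitting);
-- the grader kernel-checks Cfsg.Agent.S1325.result against that frozen type. Keep the theorem IN THIS FILE
-- (a `result` declared elsewhere and merely imported here is not credited); helpers may live anywhere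
-- under Cfsg/Agent/.
import Cfsg.Statements.S1325
import Cfsg.Agent.Lib.Helper3.Components7

set_option autoImplicit false
open Cfsg

namespace Cfsg.Agent.S1325

/-- Let X be finite and Y a normal subgroup containing F(X) with C_X(Y) ≤ Y. Then F*(X) ≤ Y. -/
theorem result {X : Type*} [Group X] [Finite X] (Y : Subgroup X) [Y.Normal] (hF : Cfsg.fittingSubgroup X ≤ Y) (hC : Subgroup.centralizer (Y : Set X) ≤ Y) : Cfsg.generalizedFittingSubgroup X ≤ Y := by
  open Cfsg.Agent.Lib.Helper3 in
  unfold Cfsg.generalizedFittingSubgroup
  apply sup_le _ hF
  rw [layer_le_iff]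
  intro K hK
  rcases IsComponent.le_or_commutator_eq_bot_of_isSubnormal hK (Subgroup.Normal.isSubnormal (inferInstance : Y.Normal)) with h1 | h1
  · exact h1
  · rw [Subgroup.commutator_eq_bot_iff_le_centralizer] at h1
    exact h1.trans hC

end Cfsg.Agent.S1325
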