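import Mathlib
-- Template for statement S1326 (row 1326; see /opt/grader/pristine/manifest.json for weights).
-- Copy to Cfsg/Agent/S1326.lean and replace the sorry. The statement below is byte-identical to the frozen
-- statement Cfsg.CfsgFrozen.S1326 (Cfsg/Statements/S1326.lean; the theorem Cfsg.centralizer_fitting_le_fitting_iff_layer_trivial);
-- the grader kernel-checks Cfsg.Agent.S1326.result against that frozen type. Keep the theorem IN THIS FILE
-- (a `result` declared elsewhere and merely imported here is not credited); helpers may live anywhere
-- under Cfsg/Agent/.
import Cfsg.Statements.S1326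
import Cfsg.Agent.Lib.Helper3.Components7

set_option autoImplicit false
open Cfsg

namespace Cfsg.Agent.S1326

/-- For a finite group X: the Fitting subgroup contains its centralizer if and only if the layer of X is trivial. -/
theorem result {X : Type*} [Group X] [Finite X] : Subgroup.centralizer (Cfsg.fittingSubgroup X : Set X) ≤ Cfsg.fittingSubgroup X ↔ Cfsg.layer X = ⊥ := by
  open Cfsg.Agent.Lib.Helper3 in
  constructor
  · intro h
    apply layer_eq_bot_of_le_isSolvable (isSolvable_fittingSubgroup (G := X))
    refine le_trans ?_ h
    rw [← Subgroup.commutator_eq_bot_iff_le_centralizer]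
    exact commutator_layer_fittingSubgroup
  · intro h
    have h1 := centralizer_generalizedFittingSubgroup_le (G := X)
    unfold Cfsg.generalizedFittingSubgroup at h1
    rw [h, bot_sup_eq] at h1
    exact h1

end Cfsg.Agent.S1326
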