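import Mathlib
-- Template for statement S1327 (row 1327; see /opt/grader/pristine/manifest.json for weights).
-- Copy to Cfsg/Agent/S1327.lean and replace the sorry. The statement below is byte-identical to the frozen
-- statement Cfsg.CfsgFrozen.S1327 (Cfsg/Statements/S1327.lean; the theorem Cfsg.p_constrained_iff_p_layer_trivial);
-- the grader kernel-checks Cfsg.Agent.S1327.result against that frozen type. Keep the theorem IN THIS FILE
-- (a `result` declared elsewhere and merely imported here is not credited); helpers may live anywhere
-- under Cfsg/Agent/.
import Cfsg.Statements.S1327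
import Cfsg.Agent.Lib.Helper3.PComp7

set_option autoImplicit false
open Cfsg
open Cfsg.Agent.Lib.Helper3 Cfsg.Agent.Lib.Lead

namespace Cfsg.Agent.S1327

/-- A finite group X is p-constrained if and only if its p-layer L_{p'}(X) is trivial (equivalently X / O_{p'}(X) has trivial layer). -/
theorem result {X : Type*} [Group X] [Finite X] (p : ℕ) [Fact p.Prime] : Cfsg.IsPConstrained p X ↔ Cfsg.pLayer p X = ⊥ := by
  exact isPConstrained_iff

end Cfsg.Agent.S1327
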