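import Mathlib
-- Template for statement S1335 (row 1335; see /opt/grader/pristine/manifest.json for weights).
-- Copy to Cfsg/Agent/S1335.lean and replace the sorry. The statement below is byte-identical to the frozen
-- statement Cfsg.CfsgFrozen.S1335 (Cfsg/Statements/S1335.lean; the theorem Cfsg.sylow_of_subgroup_containing_k_generated_core);
-- the grader kernel-checks Cfsg.Agent.S1335.result against that frozen type. Keep the theorem IN THIS FILE
-- (a `result` declared elsewhere and merely imported here is not credited); helpers may live anywhere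
-- under Cfsg/Agent/.
import Cfsg.Statements.S1335
import Cfsg.Agent.Lib.Helper3.PRank
import Cfsg.Agent.Lib.Lead.CoprimeSylow4

set_option autoImplicit false
open Cfsg
open Cfsg.Agent.Lib.Helper3 Cfsg.Agent.Lib.Lead

namespace Cfsg.Agent.S1335

/-- Let H be a subgroup of the finite group G, p a prime, k ≥ 1, P a Sylow p-subgroup of H of p-rank at least k, and suppose N_G(X) ≤ H for every subgroup X ≤ P of p-rank at least k. Then P is a Sylow p-subgroup of G. -/
theorem result {G : Type*} [Group G] [Finite G] {p : ℕ} [Fact p.Prime] (k : ℕ) (hk : 1 ≤ k) (H : Subgroup G) (P : Sylow p ↥H) (hP : ¬ Cfsg.PRankLE p (k - 1) ↥(P : Subgroup ↥H)) (hΓ : (∀ X : Subgroup G, X ≤ (P : Subgroup ↥H).map H.subtype → ¬ Cfsg.PRankLE p (k - 1) ↥X → Subgroup.normalizer (X : Set G) ≤ H)) : ∃ Q : Sylow p G, (Q : Subgroup G) = (P : Subgroup ↥H).map H.subtype := by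
  have hP'p : IsPGroup p ((P : Subgroup H).map H.subtype) := P.2.map _
  obtain ⟨Q, hQ⟩ := hP'p.exists_le_sylow
  refine ⟨Q, ?_⟩
  by_contra hne
  have hlt : (P : Subgroup H).map H.subtype < Q := lt_of_le_of_ne hQ (Ne.symm hne)
  have hgrow := pgroup_normalizer_grows p (Q : Subgroup G) _ Q.2 hlt
  have hrank : ¬ Cfsg.PRankLE p (k - 1) ↥((P : Subgroup H).map H.subtype) := by
    intro h
    apply hP
    exact pRankLE_of_mulEquiv
      (Subgroup.equivMapOfInjective (P : Subgroup H) H.subtype H.subtype_injective).symm h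
  have hNH := hΓ _ le_rfl hrank
  have hRH : (Q : Subgroup G) ⊓ Subgroup.normalizer (((P : Subgroup H).map H.subtype : Subgroup G) : Set G) ≤ H :=
    inf_le_right.trans hNH
  have hRp : IsPGroup p ((Q : Subgroup G) ⊓
      Subgroup.normalizer (((P : Subgroup H).map H.subtype : Subgroup G) : Set G) : Subgroup G) :=
    Q.2.to_le inf_le_left
  have h1 : IsPGroup p (((Q : Subgroup G) ⊓
      Subgroup.normalizer (((P : Subgroup H).map H.subtype : Subgroup G) : Set G)).subgroupOf H) :=
    hRp.comap_subtype
  have h2 : (P : Subgroup H) ≤ ((Q : Subgroup G) ⊓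
      Subgroup.normalizer (((P : Subgroup H).map H.subtype : Subgroup G) : Set G)).subgroupOf H := by
    intro x hx
    rw [Subgroup.mem_subgroupOf]
    exact hgrow.le ⟨x, hx, rfl⟩
  have h3 := P.is_maximal' h1 h2
  have h4 := congrArg (Subgroup.map H.subtype) h3
  rw [Subgroup.subgroupOf_map_subtype, inf_eq_left.mpr hRH] at h4
  exact hgrow.ne h4.symm

end Cfsg.Agent.S1335
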