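import Mathlib
-- Template for statement S1336 (row 1336; see /opt/grader/pristine/manifest.json for weights).
-- Copy to Cfsg/Agent/S1336.lean and replace the sorry. The statement below is byte-identical to the frozen
-- statement Cfsg.CfsgFrozen.S1336 (Cfsg/Statements/S1336.lean; the theorem Cfsg.strongly_p_embedded_iff_one_disconnected);
-- the grader kernel-checks Cfsg.Agent.S1336.result against that frozen type. Keep the theorem IN THIS FILE
-- (a `result` declared elsewhere and merely imported here is not credited); helpers may live anywhere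
-- under Cfsg/Agent/.
import Cfsg.Statements.S1336
import Cfsg.Agent.Lib.Helper3.Conn1

set_option autoImplicit false
open Cfsg
open Cfsg.Agent.Lib.Helper3 Cfsg.Agent.Lib.Lead

namespace Cfsg.Agent.S1336

/-- Let G be finite and p prime. Then G has a proper subgroup H with p ∣ |H| and p ∤ |H ∩ gHg⁻¹| for every g ∉ H (a strongly p-embedded subgroup) if and only if G is not 1-connected for p. -/
theorem result {G : Type*} [Group G] [Finite G] (p : ℕ) [Fact p.Prime] : (∃ H : Subgroup G, H ≠ ⊤ ∧ p ∣ Nat.card ↥H ∧ ∀ g : G, g ∉ H → ¬ p ∣ Nat.card ↥(H ⊓ H.map (MulAut.conj g).toMonoidHom)) ↔ ¬ Cfsg.IsKConnected p 1 G := by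
  classical
  have hp : p.Prime := Fact.out
  -- a subgroup generated by an element of order `p` is a vertex
  have hvert : ∀ z : G, orderOf z = p →
      IsElementaryAbelian p (Subgroup.zpowers z) ∧ p ^ 1 ≤ Nat.card ↥(Subgroup.zpowers z) := by
    intro z hz
    refine ⟨isElementaryAbelian_zpowers (by rw [← hz, pow_orderOf_eq_one]), ?_⟩
    rw [card_zpowers_of_orderOf hz, pow_one]
  -- a vertex contains an element of order `p`
  have hvert_elt : ∀ A : Subgroup G, IsElementaryAbelian p A → p ^ 1 ≤ Nat.card ↥A →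
      ∃ a ∈ A, orderOf a = p := by
    intro A hA hcard
    have hnt : Nontrivial ↥A := by
      rw [← Finite.one_lt_card_iff_nontrivial]
      rw [pow_one] at hcard
      exact lt_of_lt_of_le hp.one_lt hcard
    obtain ⟨a, ha⟩ := exists_ne (1 : ↥A)
    refine ⟨a, a.2, ?_⟩
    have h1 : (a : G) ^ p = 1 := hA.2 a a.2
    have h2 : (a : G) ≠ 1 := fun h => ha (Subtype.ext h)
    exact orderOf_eq_prime h1 h2
  rw [isKConnected_iff_kEdge]
  constructor
  · rintro ⟨H, hHtop, hpH, hH⟩ hconn
    -- closure of `H` under edges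
    have hstep : ∀ A B : Subgroup G, kEdge p 1 A B → A ≤ H → B ≤ H := by
      rintro A B ⟨hA, hAc, hB, hBc, hcomm⟩ hAH b hb
      by_contra hbH
      obtain ⟨a, haA, hao⟩ := hvert_elt A hA hAc
      apply hH b hbH
      have hmem : a ∈ H ⊓ H.map (MulAut.conj b).toMonoidHom := by
        refine Subgroup.mem_inf.mpr ⟨hAH haA, ⟨a, hAH haA, ?_⟩⟩
        show b * a * b⁻¹ = a
        rw [← hcomm a haA b hb, mul_inv_cancel_right]
      have := orderOf_dvd_natCard (⟨a, hmem⟩ : ↥(H ⊓ H.map (MulAut.conj b).toMonoidHom))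
      rwa [← hao, ← Subgroup.orderOf_mk a hmem]
    have hclosed : ∀ A B : Subgroup G, Relation.ReflTransGen (kEdge p 1) A B → A ≤ H → B ≤ H := by
      intro A B h
      induction h with
      | refl => exact id
      | tail _ hbc ih => exact fun hA => hstep _ _ hbc (ih hA)
    obtain ⟨h, hh⟩ := exists_prime_orderOf_dvd_card' p hpH
    obtain ⟨g, hg⟩ : ∃ g : G, g ∉ H := by
      by_contra hall
      simp only [not_exists, not_not] at hall
      exact hHtop (eq_top_iff.mpr fun x _ => hall x)
    have hho : orderOf (h : G) = p := by rw [Subgroup.orderOf_coe, hh]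
    have hgo : orderOf (g * (h : G) * g⁻¹) = p := by
      rw [← hho]
      exact orderOf_injective (MulAut.conj g).toMonoidHom (MulAut.conj g).injective (h : G)
    obtain ⟨hE1, hE2⟩ := hvert (h : G) hho
    obtain ⟨hE1', hE2'⟩ := hvert (g * (h : G) * g⁻¹) hgo
    have hc := hconn _ _ hE1 hE2 hE1' hE2'
    have hle : Subgroup.zpowers (g * (h : G) * g⁻¹) ≤ H :=
      hclosed _ _ hc (by rw [Subgroup.zpowers_le]; exact h.2)
    have hmem : g * (h : G) * g⁻¹ ∈ H ⊓ H.map (MulAut.conj g).toMonoidHom :=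
      Subgroup.mem_inf.mpr ⟨hle (Subgroup.mem_zpowers _), ⟨h, h.2, rfl⟩⟩
    apply hH g hg
    have := orderOf_dvd_natCard (⟨_, hmem⟩ : ↥(H ⊓ H.map (MulAut.conj g).toMonoidHom))
    rwa [← hgo, ← Subgroup.orderOf_mk _ hmem]
  · intro hnot
    simp only [not_forall] at hnot
    obtain ⟨E, E', hE, hEc, hE', hEc', hnc⟩ := hnot
    -- the stabilizer of the connected component of `E`
    let Δ : Set (Subgroup G) := {A | Relation.ReflTransGen (kEdge p 1) E A}
    let H : Subgroup G :=
      { carrier := {g | ∀ A, A ∈ Δ ↔ A.map (MulAut.conj g).toMonoidHom ∈ Δ}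
        one_mem' := by
          intro A
          have : A.map (MulAut.conj (1 : G)).toMonoidHom = A := by
            rw [map_one]; exact Subgroup.map_id A
          show A ∈ Δ ↔ A.map (MulAut.conj (1 : G)).toMonoidHom ∈ Δ
          rw [this]
        mul_mem' := by
          intro a b ha hb A
          show A ∈ Δ ↔ A.map (MulAut.conj (a * b)).toMonoidHom ∈ Δ
          rw [map_conj_mul, hb A, ha]
        inv_mem' := by
          intro a ha A
          show A ∈ Δ ↔ A.map (MulAut.conj a⁻¹).toMonoidHom ∈ Δ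
          rw [ha (A.map (MulAut.conj a⁻¹).toMonoidHom), map_conj_inv_map_conj] }
    have hHmem : ∀ g, g ∈ H ↔ ∀ A, A ∈ Δ ↔ A.map (MulAut.conj g).toMonoidHom ∈ Δ := fun g => Iff.rfl
    have hΔ : ∀ A, A ∈ Δ ↔ Relation.ReflTransGen (kEdge p 1) E A := fun A => Iff.rfl
    -- key: if `g` moves one member of `Δ` into `Δ` then `g ∈ H`
    have hkey : ∀ g : G, ∀ A, A ∈ Δ → A.map (MulAut.conj g).toMonoidHom ∈ Δ → g ∈ H := by
      intro g A hA hAg
      rw [hHmem]
      intro B
      rw [hΔ] at hA hAg ⊢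
      rw [hΔ]
      constructor
      · intro hB
        exact hAg.trans (kConn_map_conj g ((kConn_symm hA).trans hB))
      · intro hB
        have h1 := kConn_map_conj g⁻¹ ((kConn_symm hAg).trans hB)
        rw [Sig.map_conj_map_conj_inv, Sig.map_conj_map_conj_inv] at h1
        exact hA.trans h1
    -- a Sylow subgroup containing `E`
    obtain ⟨P, hEP⟩ := (IsElementaryAbelian.isPGroup hE).exists_le_sylow
    -- a central subgroup of order `p` in `P`
    obtain ⟨z, hzP, hzo, hzc⟩ : ∃ z : G, z ∈ (P : Subgroup G) ∧ orderOf z = p ∧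
        ∀ x ∈ (P : Subgroup G), x * z = z * x := by
      obtain ⟨e, heE, heo⟩ := hvert_elt E hE hEc
      have : Nontrivial ↥(P : Subgroup G) := by
        refine ⟨⟨⟨e, hEP heE⟩, 1, ?_⟩⟩
        intro h
        have : e = 1 := congrArg Subtype.val h
        rw [this, orderOf_one] at heo
        exact hp.one_lt.ne heo
      have := P.2.center_nontrivial
      have hcp : IsPGroup p ↥(Subgroup.center ↥(P : Subgroup G)) := P.2.to_subgroup _
      obtain ⟨k, hk⟩ := IsPGroup.iff_card.mp hcp
      have hk0 : k ≠ 0 := by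
        rintro rfl
        have h1 : 1 < Nat.card ↥(Subgroup.center ↥(P : Subgroup G)) :=
          Finite.one_lt_card_iff_nontrivial.mpr inferInstance
        rw [hk, pow_zero] at h1
        exact lt_irrefl _ h1
      have hdvd : p ∣ Nat.card ↥(Subgroup.center ↥(P : Subgroup G)) := by
        rw [hk]; exact dvd_pow_self p hk0
      obtain ⟨c, hc⟩ := exists_prime_orderOf_dvd_card' p hdvd
      refine ⟨((c : ↥(P : Subgroup G)) : G), (c : ↥(P : Subgroup G)).2, ?_, ?_⟩
      · rw [Subgroup.orderOf_coe, Subgroup.orderOf_coe, hc]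
      · intro x hx
        have := Subgroup.mem_center_iff.mp c.2 ⟨x, hx⟩
        exact congrArg Subtype.val this
    obtain ⟨hZ1, hZ2⟩ := hvert z hzo
    -- every vertex inside `P` is joined to `Z`
    have hPZ : ∀ A : Subgroup G, IsElementaryAbelian p A → p ^ 1 ≤ Nat.card ↥A →
        A ≤ (P : Subgroup G) → kEdge p 1 A (Subgroup.zpowers z) := by
      intro A hA hAc hAP
      refine ⟨hA, hAc, hZ1, hZ2, ?_⟩
      rintro a ha _ ⟨k, rfl⟩
      exact ((Commute.zpow_right (hzc a (hAP ha)) k)).eq
    have hZΔ : Subgroup.zpowers z ∈ Δ := Relation.ReflTransGen.single (hPZ E hE hEc hEP)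
    have hPΔ : ∀ A : Subgroup G, IsElementaryAbelian p A → p ^ 1 ≤ Nat.card ↥A →
        A ≤ (P : Subgroup G) → A ∈ Δ := by
      intro A hA hAc hAP
      exact Relation.ReflTransGen.tail hZΔ (kEdge_symm (hPZ A hA hAc hAP))
    -- `P ≤ H`
    have hPH : (P : Subgroup G) ≤ H := by
      intro x hx
      apply hkey x _ hZΔ
      rw [map_conj_zpowers]
      have : x * z * x⁻¹ = z := by rw [hzc x hx, mul_inv_cancel_right]
      rw [this]
      exact hZΔ
    -- vertices inside `H` lie in `Δ`
    have hHΔ : ∀ A : Subgroup G, IsElementaryAbelian p A → p ^ 1 ≤ Nat.card ↥A →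
        A ≤ H → A ∈ Δ := by
      intro A hA hAc hAH
      obtain ⟨n, hn, hAn⟩ := pgroup_le_conj_sylow_in_subgroup P H A hPH hAH
        (IsElementaryAbelian.isPGroup hA)
      have h1 : A.map (MulAut.conj n⁻¹).toMonoidHom ≤ (P : Subgroup G) := by
        rintro _ ⟨a, ha, rfl⟩
        have h2 := hAn ha
        rw [Subgroup.mem_pointwise_smul_iff_inv_smul_mem] at h2
        simpa [MulAut.smul_def] using h2
      have h3 := hPΔ _ (isElementaryAbelian_map_conj n⁻¹ hA) (by rwa [card_map_conj']) h1
      have h4 := ((hHmem n).mp hn _).mp h3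
      rwa [map_conj_inv_map_conj] at h4
    refine ⟨H, ?_, ?_, ?_⟩
    · intro htop
      apply hnc
      have hE'H : E' ≤ H := htop ▸ le_top
      exact hHΔ E' hE' hEc' hE'H
    · have h1 : Subgroup.zpowers z ≤ H := by
        rw [Subgroup.zpowers_le]; exact hPH hzP
      have h2 := Subgroup.card_dvd_of_le h1
      rwa [card_zpowers_of_orderOf hzo] at h2
    · intro g hg hdvd
      apply hg
      obtain ⟨b, hb⟩ := exists_prime_orderOf_dvd_card' p hdvd
      have hbo : orderOf (b : G) = p := by rw [Subgroup.orderOf_coe, hb]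
      obtain ⟨hbH, hbHg⟩ := Subgroup.mem_inf.mp b.2
      obtain ⟨hB1, hB2⟩ := hvert (b : G) hbo
      have hBΔ : Subgroup.zpowers (b : G) ∈ Δ :=
        hHΔ _ hB1 hB2 (by rw [Subgroup.zpowers_le]; exact hbH)
      have hB'Δ : (Subgroup.zpowers (b : G)).map (MulAut.conj g⁻¹).toMonoidHom ∈ Δ := by
        apply hHΔ _ (isElementaryAbelian_map_conj g⁻¹ hB1) (by rwa [card_map_conj'])
        rw [map_conj_zpowers, Subgroup.zpowers_le]
        obtain ⟨c, hc, hcb⟩ := hbHg
        rw [← hcb]
        show g⁻¹ * (g * c * g⁻¹) * g⁻¹⁻¹ ∈ H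
        have : g⁻¹ * (g * c * g⁻¹) * g⁻¹⁻¹ = c := by group
        rw [this]; exact hc
      have := hkey g⁻¹ _ hBΔ hB'Δ
      simpa using H.inv_mem this

end Cfsg.Agent.S1336
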