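import Cfsg.Statements.S1340
import Mathlib
import Cfsg.Agent.Lib.Helper2.GLInv3

set_option autoImplicit false
open Cfsg

namespace Cfsg.Agent.S1340

open Cfsg.Agent.Lib.Helper2.GLInv Cfsg.Agent.Lib.Helper3 in
theorem main {F : Type*} [Field F] [Fintype F] (hF : Odd (Fintype.card F)) (m : ℕ) (hm : 2 ≤ m)
    (h33 : ¬ (m = 2 ∧ Fintype.card F = 3)) :
    ∃ t : Matrix.GeneralLinearGroup (Fin (1 + m)) F, orderOf t = 2 ∧
      t ∉ Subgroup.center (Matrix.GeneralLinearGroup (Fin (1 + m)) F) ∧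
      Cfsg.HasComponent (↥(Subgroup.centralizer ({t} : Set (Matrix.GeneralLinearGroup (Fin (1 + m)) F))) ⧸
        Cfsg.oddCore ↥(Subgroup.centralizer ({t} : Set (Matrix.GeneralLinearGroup (Fin (1 + m)) F)))) := by
  classical
  have h2 : (2 : F) ≠ 0 := by
    intro h
    have h' : ((2 : ℕ) : F) = 0 := by exact_mod_cast h
    have hdvd : ringChar F ∣ 2 := (ringChar.spec F 2).mp h'
    have hp : (ringChar F).Prime := CharP.char_is_prime F (ringChar F)
    have h2' : ringChar F = 2 := (Nat.prime_dvd_prime_iff_eq hp Nat.prime_two).mp hdvd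
    have := FiniteField.even_card_iff_char_two.mp h2'
    obtain ⟨k, hk⟩ := hF
    omega
  have hcard : m = 2 → 4 ≤ Fintype.card F := by
    intro hm2
    have h1 : 1 < Fintype.card F := Fintype.one_lt_card
    have h3 : Fintype.card F ≠ 3 := fun h => h33 ⟨hm2, h⟩
    obtain ⟨k, hk⟩ := hF
    omega
  refine ⟨tG F m, orderOf_tG h2, tG_not_mem_center h2 (by omega), ?_⟩
  let L : Subgroup ↥(Subgroup.centralizer ({tG F m} : Set (Matrix.GeneralLinearGroup (Fin (1 + m)) F))) :=
    (iota F m).range.subgroupOf _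
  have hLn : L.Normal :=
    (Subgroup.normal_subgroupOf_iff_le_normalizer range_iota_le).mpr (centralizer_le_normalizer h2)
  have hLq : Cfsg.IsQuasisimple ↥L := by
    have e1 : ↥L ≃* ↥(iota F m).range := Subgroup.subgroupOfEquivOfLe range_iota_le
    have e2 : Matrix.SpecialLinearGroup (Fin m) F ≃* ↥(iota F m).range :=
      MonoidHom.ofInjective iota_injective
    exact isQuasisimple_of_mulEquiv (e2.trans e1.symm) (isQuasisimple_SL hm hcard)
  have hcomp : Cfsg.IsComponent L := ⟨hLn.isSubnormal, hLq⟩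
  rcases IsComponent.map_mk'_eq_bot_or (Cfsg.oddCore _) hcomp with h | h
  · exfalso
    rw [Subgroup.map_eq_bot_iff, QuotientGroup.ker_mk'] at h
    obtain ⟨x, hx⟩ := exists_involution_SL (F := F) h2 hm
    let y : ↥(Subgroup.centralizer ({tG F m} : Set (Matrix.GeneralLinearGroup (Fin (1 + m)) F))) :=
      ⟨iota F m x, iota_mem_centralizer x⟩
    have hyL : y ∈ L := by
      rw [Subgroup.mem_subgroupOf]
      exact ⟨x, rfl⟩
    have hy2 : orderOf y = 2 := by
      have h1 : orderOf (iota F m x) = 2 := by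
        rw [orderOf_injective (iota F m) iota_injective x, hx]
      rw [← h1]
      exact (Subgroup.orderOf_mk _ _).trans rfl
    have hyO := h hyL
    have hdvd : orderOf (⟨y, hyO⟩ : ↥(Cfsg.oddCore _)) ∣ Nat.card ↥(Cfsg.oddCore
        ↥(Subgroup.centralizer ({tG F m} : Set (Matrix.GeneralLinearGroup (Fin (1 + m)) F)))) :=
      orderOf_dvd_natCard _
    rw [Subgroup.orderOf_mk, hy2] at hdvd
    have hcop := Cfsg.Agent.Lib.Helper6.pPrimeCore_coprime (G := ↥(Subgroup.centralizer
      ({tG F m} : Set (Matrix.GeneralLinearGroup (Fin (1 + m)) F)))) 2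
    have := Nat.Coprime.eq_one_of_dvd hcop.symm hdvd
    omega
  · exact ⟨_, h⟩

/-- Let F be a finite field of odd order and n ≥ 3 with (n, |F|) ≠ (3, 3). Then GL(n, F) has a non-central involution t such that C(t) / O(C(t)) has a component. -/
theorem result {F : Type*} [Field F] [Fintype F] [DecidableEq F] (hF : Odd (Fintype.card F)) (n : ℕ) (hn : 3 ≤ n) (h33 : ¬ (n = 3 ∧ Fintype.card F = 3)) : ∃ t : Matrix.GeneralLinearGroup (Fin n) F, orderOf t = 2 ∧ t ∉ Subgroup.center (Matrix.GeneralLinearGroup (Fin n) F) ∧ Cfsg.HasComponent (↥(Subgroup.centralizer ({t} : Set (Matrix.GeneralLinearGroup (Fin n) F))) ⧸ Cfsg.oddCore ↥(Subgroup.centralizer ({t} : Set (Matrix.GeneralLinearGroup (Fin n) F)))) := by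
  obtain ⟨m, rfl⟩ : ∃ m, n = 1 + m := ⟨n - 1, by omega⟩
  exact main hF m (by omega) (fun h => h33 ⟨by omega, h.2⟩)

end Cfsg.Agent.S1340
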