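import Mathlib
-- Template for statement S1343 (row 1343; see /opt/grader/pristine/manifest.json for weights).
-- Copy to Cfsg/Agent/S1343.lean and replace the sorry. The statement below is byte-identical to the frozen
-- statement Cfsg.CfsgFrozen.S1343 (Cfsg/Statements/S1343.lean; the theorem Cfsg.extended_two_layer_odd_complement);
-- the grader kernel-checks Cfsg.Agent.S1343.result against that frozen type. Keep the theorem IN THIS FILE
-- (a `result` declared elsewhere and merely imported here is not credited); helpers may live anywhere
-- under Cfsg/Agent/.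
import Cfsg.Statements.S1343
import Cfsg.Agent.Lib.Helper3.ExtLayer3

set_option autoImplicit false
open Cfsg
open Cfsg.Agent.Lib.Helper3 Cfsg.Agent.Lib.Lead

namespace Cfsg.Agent.S1343

/-- Let X be finite. Then L*_{2'}(X) = L_{2'}(X) ⊔ F for some subgroup F of odd order normalized by a Sylow 2-subgroup of X. -/
theorem result {X : Type*} [Group X] [Finite X] : ∃ F : Subgroup X, Odd (Nat.card ↥F) ∧ (∃ S : Sylow 2 X, (S : Subgroup X) ≤ Subgroup.normalizer (F : Set X)) ∧ Cfsg.extendedTwoLayer X = Cfsg.pLayer 2 X ⊔ F := by
  exact extendedTwoLayer_odd_complement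

end Cfsg.Agent.S1343
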