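import Mathlib
-- Template for statement S1348 (row 1348; see /opt/grader/pristine/manifest.json for weights).
-- Copy to Cfsg/Agent/S1348.lean and replace the sorry. The statement below is byte-identical to the frozen
-- statement Cfsg.CfsgFrozen.S1348 (Cfsg/Statements/S1348.lean; the theorem Cfsg.special_linear_hyperplane_involution_component_standard);
-- the grader kernel-checks Cfsg.Agent.S1348.result against that frozen type. Keep the theorem IN THIS FILE
-- (a `result` declared elsewhere and merely imported here is not credited); helpers may live anywhere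
-- under Cfsg/Agent/.
import Cfsg.Statements.S1348
import Cfsg.Agent.Lib.Helper3.SLStd3
import Cfsg.Agent.Lib.Helper3.StdCrit

set_option autoImplicit false
open Cfsg

namespace Cfsg.Agent.S1348

/-- Let F be a finite field of odd order, n ≥ 7 odd, and t ∈ SL(n, F) the diagonal matrix with entries −1, …, −1, 1. Then E(C(t)) is a standard subgroup of SL(n, F). -/
theorem result {F : Type*} [Field F] [Fintype F] [DecidableEq F] (hF : Odd (Fintype.card F)) (n : ℕ) (hn : 7 ≤ n) (hodd : Odd n) (t : Matrix.SpecialLinearGroup (Fin n) F) (ht : (t : Matrix (Fin n) (Fin n) F) = Matrix.diagonal (fun i : Fin n => if (i : ℕ) + 1 = n then (1 : F) else -1)) : Cfsg.IsStandardSubgroup ((Cfsg.layer ↥(Subgroup.centralizer ({t} : Set (Matrix.SpecialLinearGroup (Fin n) F)))).map (Subgroup.centralizer ({t} : Set (Matrix.SpecialLinearGroup (Fin n) F))).subtype) := by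
  classical
  obtain ⟨m, rfl⟩ : ∃ m, n = m + 1 := ⟨n - 1, by omega⟩
  have hm : Even m := by
    obtain ⟨k, hk⟩ := hodd
    exact ⟨k, by omega⟩
  have h2 : (2 : F) ≠ 0 := by
    have hc : ringChar F ≠ 2 := by
      intro h
      have := FiniteField.even_card_iff_char_two.mp h
      rcases hF with ⟨k, hk⟩
      omega
    exact Ring.two_ne_zero hc
  have ht' : (t : Matrix (Fin (m + 1)) (Fin (m + 1)) F) =
      Cfsg.Agent.Lib.Helper3.SLStd.blk (-1) 1 := by
    rw [ht, Cfsg.Agent.Lib.Helper3.SLStd.blk_neg_one_eq_diagonal]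
  have hto : orderOf t = 2 := by
    haveI : Fact (Nat.Prime 2) := ⟨Nat.prime_two⟩
    apply orderOf_eq_prime
    · apply Matrix.SpecialLinearGroup.ext
      intro i j
      rw [pow_two, Matrix.SpecialLinearGroup.coe_mul, ht', Cfsg.Agent.Lib.Helper3.SLStd.blk_mul,
        Matrix.SpecialLinearGroup.coe_one]
      simp [Cfsg.Agent.Lib.Helper3.SLStd.blk_one]
    · intro h
      have h1 := congrArg (fun x : Matrix.SpecialLinearGroup (Fin (m + 1)) F =>
        (x : Matrix (Fin (m + 1)) (Fin (m + 1)) F)) h
      simp only [Matrix.SpecialLinearGroup.coe_one] at h1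
      rw [ht', ← Cfsg.Agent.Lib.Helper3.SLStd.blk_one] at h1
      have h3 := (Cfsg.Agent.Lib.Helper3.SLStd.blk_inj h1).1
      have h4 := congrFun (congrFun h3 ⟨0, by omega⟩) ⟨0, by omega⟩
      simp only [Matrix.neg_apply, Matrix.one_apply_eq] at h4
      apply h2
      have : (1 : F) + 1 = 0 := by
        nth_rewrite 1 [← h4]; ring
      rw [← one_add_one_eq_two]; exact this
  set M := (Cfsg.Agent.Lib.Helper3.SLStd.phi F m).range with hM
  have hMC := Cfsg.Agent.Lib.Helper3.SLStd.range_le_centralizer t ht'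
  have hMn := Cfsg.Agent.Lib.Helper3.SLStd.conj_mem_range t ht' h2
  have hMq : Cfsg.IsQuasisimple ↥M := Cfsg.Agent.Lib.Helper3.SLStd.isQuasisimple_range (by omega)
  have hab := Cfsg.Agent.Lib.Helper3.SLStd.comm_mem_range t ht' h2
  rw [Cfsg.Agent.Lib.Helper3.StdCrit.layer_eq t M hMC hMn hMq hab]
  have htM : t ∈ M := Cfsg.Agent.Lib.Helper3.SLStd.t_mem_range t ht' hm
  have htK : t ∈ Subgroup.centralizer (M : Set (Matrix.SpecialLinearGroup (Fin (m + 1)) F)) := by
    rw [Subgroup.mem_centralizer_iff]
    intro x hx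
    have := hMC hx
    rw [Subgroup.mem_centralizer_iff] at this
    exact (this t rfl).symm
  exact Cfsg.Agent.Lib.Helper3.StdCrit.isStandard t hto M hMn hMq htK
    (fun s hs ho => Cfsg.Agent.Lib.Helper3.SLStd.eq_of_involution t ht' h2 hm (by omega) s hs ho)
    (Cfsg.Agent.Lib.Helper3.SLStd.centralizer_comm t ht' h2 hm)

end Cfsg.Agent.S1348
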