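import Mathlib
-- Template for statement S1349 (row 1349; see /opt/grader/pristine/manifest.json for weights).
-- Copy to Cfsg/Agent/S1349.lean and replace the sorry. The statement below is byte-identical to the frozen
-- statement Cfsg.CfsgFrozen.S1349 (Cfsg/Statements/S1349.lean; the theorem Cfsg.thompson_dihedral_lemma);
-- the grader kernel-checks Cfsg.Agent.S1349.result against that frozen type. Keep the theorem IN THIS FILE
-- (a `result` declared elsewhere and merely imported here is not credited); helpers may live anywhere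
-- under Cfsg/Agent/.
import Cfsg.Statements.S1349
import Cfsg.Agent.Lib.Helper3.TD5

set_option autoImplicit false
open Cfsg
open Cfsg.Agent.Lib.Lead Cfsg.Agent.Lib.Helper3.TD

namespace Cfsg.Agent.S1349

/-- Let G be finite, L ≤ G solvable of odd order, and A an elementary abelian 2-subgroup of order 2^d (d ≥ 1) normalizing L with C_A(L) = 1. Then there are subgroups A_1, …, A_d of A of order 2 generating A and subgroups L_1, …, L_d of L such that each A_i ⊔ L_i is dihedral of order 2 n_i with n_i odd and at least 3, and A_i ⊔ L_i commutes elementwise with A_j ⊔ L_j for i ≠ j. -/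
theorem result {G : Type*} [Group G] [Finite G] (L A : Subgroup G) (hLs : Group.IsSolvable ↥L) (hLodd : Odd (Nat.card ↥L)) (hA : Cfsg.IsElementaryAbelian 2 A) (d : ℕ) (hd : 1 ≤ d) (hAd : Nat.card ↥A = 2 ^ d) (hAL : A ≤ Subgroup.normalizer (L : Set G)) (hfaith : A ⊓ Subgroup.centralizer (L : Set G) = ⊥) : ∃ (Ai : Fin d → Subgroup G) (Li : Fin d → Subgroup G) (n : Fin d → ℕ), (∀ i, Ai i ≤ A ∧ Nat.card ↥(Ai i) = 2 ∧ Li i ≤ L ∧ Odd (n i) ∧ 3 ≤ n i ∧ Nonempty (↥(Ai i ⊔ Li i) ≃* DihedralGroup (n i))) ∧ (⨆ i, Ai i) = A ∧ ∀ i j, i ≠ j → ∀ x ∈ Ai i ⊔ Li i, ∀ y ∈ Ai j ⊔ Li j, x * y = y * x := by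
  set F : Subgroup G := (Cfsg.fittingSubgroup ↥L).map L.subtype with hF
  have hFL : F ≤ L := by
    rintro _ ⟨y, _, rfl⟩; exact y.2
  have hFnil : Group.IsNilpotent F :=
    (Group.isNilpotent_congr (Subgroup.equivMapOfInjective _ _
      (Subgroup.subtype_injective _))).mp Cfsg.Agent.Lib.Lead.fittingSubgroup_isNilpotent
  have hFodd : Odd (Nat.card F) := Odd.of_dvd_nat hLodd (Subgroup.card_dvd_of_le hFL)
  have hAF : A ≤ Subgroup.normalizer (F : Set G) := hAL.trans (normalizer_le_normalizer_fitting L)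
  have hfaithF : A ⊓ Subgroup.centralizer (F : Set G) = ⊥ :=
    faithful_fitting L A hLs hLodd hA hAL hfaith
  obtain ⟨a, x, h1, h2, h3⟩ := main_nilpotent d A F hA hAd hFnil hFodd hAF hfaithF
  have hcomm : ∀ g ∈ A, ∀ h ∈ A, g * h = h * g := by
    intro g hg h hh
    have := hA.1.is_comm.comm (⟨g, hg⟩ : A) ⟨h, hh⟩
    exact congrArg Subtype.val this
  have hxodd : ∀ i, Odd (orderOf (x i)) := by
    intro i
    have hxL : x i ∈ L := hFL (h1 i).2.1
    have hdvd : orderOf (x i) ∣ Nat.card L := by
      have := orderOf_dvd_natCard (⟨x i, hxL⟩ : L)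
      rwa [Subgroup.orderOf_mk] at this
    exact Odd.of_dvd_nat hLodd hdvd
  have ha2 : ∀ i, orderOf (a i) = 2 := by
    intro i
    obtain ⟨haA, hxF, hx1, hinv⟩ := h1 i
    apply orderOf_eq_prime (hA.2 _ haA)
    intro ha1
    rw [ha1, one_mul, inv_one, mul_one] at hinv
    exact hx1 (eq_one_of_odd_card hLodd (hFL hxF) hinv)
  refine ⟨fun i => Subgroup.zpowers (a i), fun i => Subgroup.zpowers (x i),
    fun i => orderOf (x i), ?_, h3, ?_⟩
  · intro i
    obtain ⟨haA, hxF, hx1, hinv⟩ := h1 i
    refine ⟨Subgroup.zpowers_le.mpr haA, ?_, Subgroup.zpowers_le.mpr (hFL hxF), hxodd i, ?_,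
      dihedral_of_inverts (ha2 i) hinv (hxodd i)⟩
    · rw [Nat.card_zpowers, ha2 i]
    · show 3 ≤ orderOf (x i)
      have h0 : orderOf (x i) ≠ 1 := fun h => hx1 (orderOf_eq_one_iff.mp h)
      obtain ⟨k, hk⟩ := hxodd i
      omega
  · intro i j hij u hu v hv
    have hv_a : v * a i = a i * v ∧ v * x i = x i * v := by
      have hle : Subgroup.zpowers (a j) ⊔ Subgroup.zpowers (x j) ≤
          Subgroup.centralizer {a i} ⊓ Subgroup.centralizer {x i} := by
        apply sup_le
        · rw [Subgroup.zpowers_le]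
          refine Subgroup.mem_inf.mpr ⟨?_, ?_⟩
          · rw [Subgroup.mem_centralizer_singleton_iff]
            exact hcomm _ (h1 j).1 _ (h1 i).1
          · rw [Subgroup.mem_centralizer_singleton_iff]
            exact (h2 j i (Ne.symm hij)).1
        · rw [Subgroup.zpowers_le]
          refine Subgroup.mem_inf.mpr ⟨?_, ?_⟩
          · rw [Subgroup.mem_centralizer_singleton_iff]
            exact ((h2 i j hij).1).symm
          · rw [Subgroup.mem_centralizer_singleton_iff]
            exact (h2 j i (Ne.symm hij)).2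
      have := hle hv
      exact ⟨Subgroup.mem_centralizer_singleton_iff.mp (Subgroup.mem_inf.mp this).1,
        Subgroup.mem_centralizer_singleton_iff.mp (Subgroup.mem_inf.mp this).2⟩
    have hle2 : Subgroup.zpowers (a i) ⊔ Subgroup.zpowers (x i) ≤ Subgroup.centralizer {v} := by
      apply sup_le
      · rw [Subgroup.zpowers_le, Subgroup.mem_centralizer_singleton_iff]
        exact hv_a.1.symm
      · rw [Subgroup.zpowers_le, Subgroup.mem_centralizer_singleton_iff]
        exact hv_a.2.symm
    exact Subgroup.mem_centralizer_singleton_iff.mp (hle2 hu)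

end Cfsg.Agent.S1349
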