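import Mathlib
import Cfsg.Statements.S1386
import Cfsg.Agent.Lib.Helper4.CyclicTI
import Cfsg.Agent.Lib.Helper4.CyclicUnique
import Cfsg.Agent.Lib.Lead.CoprimeTools

set_option autoImplicit false
open Cfsg

namespace Cfsg.Agent.S1386

open Cfsg.Agent.Lib.Helper4 Cfsg.Agent.Lib.Lead

theorem card_sup_snc {G : Type*} [Group G] [Finite G] {W₁ W₂ : Subgroup G}
    (hW : Cfsg.IsSelfNormalizingCyclic W₁ W₂) :
    Nat.card (W₁ ⊔ W₂ : Subgroup G) = Nat.card W₁ * Nat.card W₂ := by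
  apply card_sup_of_disjoint W₁ W₂ _ hW.2.2.1
  intro a ha
  rw [Subgroup.mem_normalizer_iff]
  intro b
  constructor
  · intro hb
    have : a * b * a⁻¹ = b := by rw [hW.2.2.2.1 a ha b hb]; group
    rw [this]; exact hb
  · intro hb
    have h1 := hW.2.2.2.1 a ha _ hb
    have : b = a * b * a⁻¹ := by
      have h2 : a * (a * b * a⁻¹) = a * b := by rw [h1]; group
      exact (mul_left_cancel h2).symm
    rw [this]; exact hb

/-- Let G be a finite group, W₁, W₂ subgroups forming a self-normalizing cyclic pair, S a subgroup with W₂ ≤ S and W₁ a complement to S' in S, and (W₁, U, W₂') type-P data for S. Then W₂' = W₂ (that is, C_{S'}(W₁) = W₂). -/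
theorem result {G : Type*} [Group G] [Finite G] (W₁ W₂ S U W₂' : Subgroup G) (hW : Cfsg.IsSelfNormalizingCyclic W₁ W₂)
    (hSW : Cfsg.IsComplIn ⁅S, S⁆ W₁ S) (hW₂S : W₂ ≤ S) (hP : Cfsg.IsTypePWith S W₁ U W₂') :
    W₂' = W₂ := by
  have hW' := hP.selfNormalizing
  -- nontrivial elements
  obtain ⟨w₁, hw₁, hw₁ne⟩ : ∃ w ∈ W₁, w ≠ 1 := by
    by_contra h
    push Not at h
    exact hW.1 ((Subgroup.eq_bot_iff_forall _).mpr h)
  obtain ⟨w₂, hw₂, hw₂ne⟩ : ∃ w ∈ W₂, w ≠ 1 := by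
    by_contra h
    push Not at h
    exact hW.2.1 ((Subgroup.eq_bot_iff_forall _).mpr h)
  have hcen := hP.W₂_centralizer w₁ hw₁ hw₁ne
  -- W₂ ≤ W₁ ⊔ W₂'
  have h1 : W₂ ≤ W₁ ⊔ W₂' := by
    intro y hy
    obtain ⟨a, ha, b, hb, hyab⟩ := hSW.2.2.2 y (hW₂S hy)
    have hyc : w₁ * y = y * w₁ := hW.2.2.2.1 w₁ hw₁ y hy
    have hbc : w₁ * b = b * w₁ :=
      snc_comm hW (le_sup_left (a := W₁) hw₁) (le_sup_left (a := W₁) hb)
    have hac : a ∈ Subgroup.centralizer ({w₁} : Set G) := by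
      rw [Subgroup.mem_centralizer_iff]
      intro z hz
      rw [Set.mem_singleton_iff] at hz
      subst hz
      have ha' : a = y * b⁻¹ := by rw [hyab]; group
      rw [ha']
      have hbinv : z * b⁻¹ = b⁻¹ * z := by
        have : b⁻¹ * (z * b) * b⁻¹ = b⁻¹ * (b * z) * b⁻¹ := by rw [hbc]
        simpa [mul_assoc] using this.symm
      calc z * (y * b⁻¹) = (z * y) * b⁻¹ := by group
        _ = y * (z * b⁻¹) := by rw [hyc]; group
        _ = y * b⁻¹ * z := by rw [hbinv]; group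
    have haW : a ∈ W₂' := by rw [← hcen]; exact ⟨ha, hac⟩
    rw [hyab]
    exact Subgroup.mul_mem _ (Subgroup.mem_sup_right haW) (Subgroup.mem_sup_left hb)
  have hle : W₁ ⊔ W₂ ≤ W₁ ⊔ W₂' := sup_le le_sup_left h1
  -- the element w = w₁ w₂
  have hwW : w₁ * w₂ ∈ W₁ ⊔ W₂ :=
    Subgroup.mul_mem _ (Subgroup.mem_sup_left hw₁) (Subgroup.mem_sup_right hw₂)
  have hwn1 : w₁ * w₂ ∉ W₁ := by
    intro h
    have : w₂ ∈ W₁ := by
      have h2 : w₂ = w₁⁻¹ * (w₁ * w₂) := by group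
      rw [h2]; exact W₁.mul_mem (W₁.inv_mem hw₁) h
    have h3 : w₂ ∈ W₁ ⊓ W₂ := ⟨this, hw₂⟩
    rw [hW.2.2.1, Subgroup.mem_bot] at h3
    exact hw₂ne h3
  have hwn2 : w₁ * w₂ ∉ W₂ := by
    intro h
    have : w₁ ∈ W₂ := by
      have h2 : w₁ = (w₁ * w₂) * w₂⁻¹ := by group
      rw [h2]; exact W₂.mul_mem h (W₂.inv_mem hw₂)
    have h3 : w₁ ∈ W₁ ⊓ W₂ := ⟨hw₁, this⟩
    rw [hW.2.2.1, Subgroup.mem_bot] at h3
    exact hw₁ne h3
  have hN := snc_normalizer_singleton hW hwW hwn1 hwn2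
  have hge : W₁ ⊔ W₂' ≤ W₁ ⊔ W₂ := by
    intro z hz
    rw [← hN, Subgroup.mem_set_normalizer_iff]
    have hzc : z * (w₁ * w₂) * z⁻¹ = w₁ * w₂ := by
      rw [snc_comm hW' hz (hle hwW)]; group
    intro n
    simp only [Set.mem_singleton_iff]
    constructor
    · rintro rfl; exact hzc
    · intro hn
      have : z * n * z⁻¹ = z * (w₁ * w₂) * z⁻¹ := by rw [hn, hzc]
      exact mul_left_cancel (mul_right_cancel this)
  have heq : W₁ ⊔ W₂ = W₁ ⊔ W₂' := le_antisymm hle hge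
  have hcard : Nat.card W₂' = Nat.card W₂ := by
    have e1 := card_sup_snc hW
    have e2 := card_sup_snc hW'
    rw [heq, e2] at e1
    exact Nat.eq_of_mul_eq_mul_left Nat.card_pos e1
  exact subgroup_eq_of_card_eq_of_le_cyclic (W₁ ⊔ W₂) W₂' W₂ hW.2.2.2.2.1
    (by rw [heq]; exact le_sup_right) le_sup_right hcard

end Cfsg.Agent.S1386
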