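import Mathlib
import Cfsg.Statements.S1387
import Cfsg.Agent.Lib.Helper4.TypeP

set_option autoImplicit false
open Cfsg

namespace Cfsg.Agent.S1387

open Cfsg.Agent.Lib.Helper4

/-- Let M be a subgroup of a finite group G with type-P data (W₁, U, W₂) and H = M_F. Then the Fitting subgroup F(M) is generated by H and the centralizer of H in U. -/
theorem result {G : Type*} [Group G] [Finite G] (M W₁ U W₂ : Subgroup G) (hP : Cfsg.IsTypePWith M W₁ U W₂) :
    Cfsg.fittingOf M = Cfsg.fittingHallOf M ⊔ (U ⊓ Subgroup.centralizer (Cfsg.fittingHallOf M : Set G)) := by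
  have hHF : Cfsg.fittingHallOf M ≤ Cfsg.fittingOf M := by
    rw [← hP.fitting_eq]; exact le_sup_left
  apply le_antisymm
  · intro x hx
    obtain ⟨h, hh, u, hu, rfl⟩ := hP.U_compl.2.2.2 x (hP.fitting_le hx)
    have huF : u ∈ Cfsg.fittingOf M := by
      have : u = h⁻¹ * (h * u) := by group
      rw [this]
      exact Subgroup.mul_mem _ (Subgroup.inv_mem _ (hHF hh)) hx
    have huC := typeP_U_inf_fitting hP ⟨hu, huF⟩
    exact Subgroup.mul_mem _ (Subgroup.mem_sup_left hh) (Subgroup.mem_sup_right ⟨hu, huC⟩)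
  · apply sup_le hHF
    rw [← hP.fitting_eq]
    exact le_trans (inf_le_inf_right _ (typeP_U_le hP)) le_sup_right

end Cfsg.Agent.S1387
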