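import Mathlib
import Cfsg.Statements.S1388
import Cfsg.Agent.Lib.Helper4.TypeP

set_option autoImplicit false
open Cfsg

namespace Cfsg.Agent.S1388

open Cfsg.Agent.Lib.Helper4 Cfsg.Agent.Lib.Lead
open scoped commutatorElement

/-- Let M be a subgroup of a finite group G with type-P data (W₁, U, W₂) and H = M_F. Then the derived subgroup of U centralizes H, and if U ≠ 1 then U does not centralize H. -/
theorem result {G : Type*} [Group G] [Finite G] (M W₁ U W₂ : Subgroup G) (hP : Cfsg.IsTypePWith M W₁ U W₂) :
    ⁅U, U⁆ ≤ Subgroup.centralizer (Cfsg.fittingHallOf M : Set G) ∧ (U ≠ ⊥ → ¬ U ≤ Subgroup.centralizer (Cfsg.fittingHallOf M : Set G)) := by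
  set H := Cfsg.fittingHallOf M with hH
  constructor
  · refine le_trans ?_ (typeP_U_inf_fitting hP)
    apply le_inf
    · exact Subgroup.commutator_le_self U
    · rw [← hP.fitting_eq]
      exact le_trans (Subgroup.commutator_mono hP.U_compl.2.1 hP.U_compl.2.1) hP.derived_two_le
  · intro hUne hUc
    apply hUne
    -- U is a normal nilpotent Hall subgroup of M
    have hUM : U ≤ M := typeP_U_le hP
    have hHcU : H ≤ Subgroup.centralizer (U : Set G) := Subgroup.le_centralizer_iff.mp hUc
    have hM'N : ⁅M, M⁆ ≤ Subgroup.normalizer (U : Set G) := by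
      rw [← sup_eq_of_isComplIn hP.U_compl]
      exact sup_le (hHcU.trans (Subgroup.centralizer_le_normalizer _)) Subgroup.le_normalizer
    have hMN : M ≤ Subgroup.normalizer (U : Set G) := by
      rw [← sup_eq_of_isComplIn hP.W₁_compl]
      exact sup_le hM'N hP.U_normal
    -- cardinalities
    have hW₁N : W₁ ≤ Subgroup.normalizer ((⁅M, M⁆ : Subgroup G) : Set G) := by
      refine hP.W₁_compl.2.1.trans ?_
      intro m hm
      rw [Subgroup.mem_normalizer_iff]
      intro x
      have key : ∀ g ∈ M, ∀ y ∈ ⁅M, M⁆, g * y * g⁻¹ ∈ ⁅M, M⁆ := by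
        intro g hg y hy
        have hyM : y ∈ M := typeP_derived_le hP hy
        have : g * y * g⁻¹ = ⁅g, y⁆ * y := by
          rw [commutatorElement_def]; group
        rw [this]
        exact Subgroup.mul_mem _ (Subgroup.commutator_mem_commutator hg hyM) hy
      constructor
      · exact key m hm x
      · intro hx
        have := key m⁻¹ (M.inv_mem hm) _ hx
        simpa [mul_assoc] using this
    have hcardM : Nat.card M = Nat.card ↥⁅M, M⁆ * Nat.card W₁ := card_of_isComplIn hP.W₁_compl hW₁N
    have hcardM' := typeP_card_derived hP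
    have h1 := card_mul_relIndex_of_le hUM
    have h2 := card_mul_relIndex_of_le hP.W₁_compl.2.1
    have hUpos : 0 < Nat.card U := Nat.card_pos
    have hW₁pos : 0 < Nat.card W₁ := Nat.card_pos
    have hUrel : U.relIndex M = Nat.card H * Nat.card W₁ := by
      apply Nat.eq_of_mul_eq_mul_left hUpos
      rw [h1, hcardM, hcardM']; ring
    have hW₁rel : W₁.relIndex M = Nat.card H * Nat.card U := by
      apply Nat.eq_of_mul_eq_mul_left hW₁pos
      rw [h2, hcardM, hcardM']; ring
    have hc1 : (Nat.card U).Coprime (Nat.card H) := typeP_coprime_U_H hP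
    have hc2 : (Nat.card U).Coprime (Nat.card W₁) := by
      have := hP.W₁_hall
      rw [hW₁rel] at this
      exact (Nat.Coprime.coprime_mul_left_right this).symm
    have hcop : (Nat.card U).Coprime (U.relIndex M) := by
      rw [hUrel]; exact Nat.Coprime.mul_right hc1 hc2
    have hUH : U ≤ H := le_fittingHallOf M hUM hMN hP.U_nilpotent hcop
    rw [eq_bot_iff, ← hP.U_compl.2.2.1]
    exact le_inf hUH le_rfl

end Cfsg.Agent.S1388
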