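import Mathlib
import Cfsg.Statements.S1441
-- import your own Cfsg.Agent.* helpers here

set_option autoImplicit false
open Cfsg

namespace Cfsg.Agent.S1441

open scoped commutatorElement

theorem pow_card_of_mem {L : Type*} [Group L] [Finite L] (W : Subgroup L) {y : L} (hy : y ∈ W) :
    y ^ Nat.card W = 1 := by
  have h1 : (⟨y, hy⟩ : W) ^ Nat.card W = 1 := pow_card_eq_one'
  have h2 : (((⟨y, hy⟩ : W) ^ Nat.card W : W) : L) = ((1 : W) : L) := by rw [h1]
  rw [Subgroup.coe_pow, Subgroup.coe_one] at h2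
  exact h2

/-- an element of `A` of order coprime to `|H|` stabilising the series centralises every term -/
theorem centralizes {G : Type*} [Group G] [Finite G] (H A : Subgroup G)
    (n : ℕ) (c : Fin (n + 1) → Subgroup G) (hc0 : c 0 = H) (hcn : c (Fin.last n) = ⊥) (hanti : Antitone c)
    (htriv : ∀ i : Fin n, ⁅c i.castSucc, A⁆ ≤ c i.succ)
    (a : G) (ha : a ∈ A) (hcop : Nat.Coprime (orderOf a) (Nat.card H)) :
    ∀ i, a ∈ Subgroup.centralizer ((c i : Subgroup G) : Set G) := by
  intro i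
  induction i using Fin.reverseInduction with
  | last =>
    rw [hcn, Subgroup.mem_centralizer_iff]
    intro h hh
    rw [Subgroup.coe_bot, Set.mem_singleton_iff] at hh
    subst hh; simp
  | cast i ih =>
    rw [Subgroup.mem_centralizer_iff] at ih ⊢
    intro h hh
    -- z = ⁅h, a⁆ ∈ c i.succ
    have hz : ⁅h, a⁆ ∈ c i.succ := htriv i (Subgroup.commutator_mem_commutator hh ha)
    have hzH : ⁅h, a⁆ ∈ H := by
      rw [← hc0]; exact hanti (Fin.zero_le _) hz
    have hza : Commute ⁅h, a⁆ a := ih _ hz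
    have e1 : h * a * h⁻¹ = ⁅h, a⁆ * a := by rw [commutatorElement_def]; group
    have e2 : (h * a * h⁻¹) ^ orderOf a = 1 := by
      rw [conj_pow, pow_orderOf_eq_one]; group
    rw [e1, hza.mul_pow, pow_orderOf_eq_one, mul_one] at e2
    have e3 : ⁅h, a⁆ ^ Nat.card H = 1 := pow_card_of_mem H hzH
    have h1 : orderOf ⁅h, a⁆ ∣ orderOf a := orderOf_dvd_of_pow_eq_one e2
    have h2 : orderOf ⁅h, a⁆ ∣ Nat.card H := orderOf_dvd_of_pow_eq_one e3
    have h3 := Nat.dvd_gcd h1 h2
    rw [hcop.gcd_eq_one] at h3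
    have hz1 : ⁅h, a⁆ = 1 := orderOf_eq_one_iff.mp (Nat.dvd_one.mp h3)
    rw [hz1, one_mul] at e1
    calc h * a = (h * a * h⁻¹) * h := by group
      _ = a * h := by rw [e1]

/-- Let G be a finite group, H a solvable subgroup and A a subgroup normalizing H. Suppose there is a chain H = H₀ ≥ H₁ ≥ ⋯ ≥ H_n = 1 of subgroups normal in H and normalized by A such that A acts trivially on each factor H_{i-1}/H_i (that is, [H_{i-1}, A] ≤ H_i). Then every prime dividing the index of C_A(H) in A divides the order of H. -/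
theorem result {G : Type*} [Group G] [Finite G] (H A : Subgroup G) (hH : Group.IsSolvable H) (hA : (A ≤ Subgroup.normalizer (H : Set G)))
    (n : ℕ) (c : Fin (n + 1) → Subgroup G) (hc0 : c 0 = H) (hcn : c (Fin.last n) = ⊥) (hanti : Antitone c)
    (hcN : ∀ i, H ≤ Subgroup.normalizer ((c i : Subgroup G) : Set G)) (hcA : ∀ i, A ≤ Subgroup.normalizer ((c i : Subgroup G) : Set G))
    (htriv : ∀ i : Fin n, ⁅c i.castSucc, A⁆ ≤ c i.succ) :
    ∀ p : ℕ, p.Prime → p ∣ (A ⊓ Subgroup.centralizer (H : Set G)).relIndex A → p ∣ Nat.card H := by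
  intro p hp hdvd
  by_contra hpH
  haveI : Fact p.Prime := ⟨hp⟩
  obtain ⟨P⟩ : Nonempty (Sylow p A) := inferInstance
  have hle : (P : Subgroup A) ≤ (A ⊓ Subgroup.centralizer (H : Set G)).subgroupOf A := by
    intro x hx
    rw [Subgroup.mem_subgroupOf]
    refine Subgroup.mem_inf.mpr ⟨x.2, ?_⟩
    -- order of x is a power of p
    obtain ⟨k, hk⟩ := P.2 ⟨x, hx⟩
    have hxk : (x : G) ^ (p ^ k) = 1 := by
      have := congrArg (fun y : (P : Subgroup A) => ((y : A) : G)) hk
      simpa using this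
    have hcop : Nat.Coprime (orderOf (x : G)) (Nat.card H) :=
      Nat.Coprime.coprime_dvd_left (orderOf_dvd_of_pow_eq_one hxk)
        (Nat.Coprime.pow_left k ((Nat.Prime.coprime_iff_not_dvd hp).mpr hpH))
    have := centralizes H A n c hc0 hcn hanti htriv (x : G) x.2 hcop 0
    rw [hc0] at this
    exact this
  have h1 : ((A ⊓ Subgroup.centralizer (H : Set G)).subgroupOf A).index ∣ (P : Subgroup A).index :=
    Subgroup.index_dvd_of_le hle
  exact P.not_dvd_index (hdvd.trans h1)

end Cfsg.Agent.S1441
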