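import Mathlib
import Cfsg.Statements.S1442
import Cfsg.Agent.S1441

set_option autoImplicit false
open Cfsg

namespace Cfsg.Agent.S1442

open scoped commutatorElement

/-- In a nilpotent subgroup `H`, a subgroup `C ≤ H` with `N_H(C) ≤ C` is all of `H`. -/
theorem le_of_normalizer_le {G : Type*} [Group G] (H C : Subgroup G) (hH : Group.IsNilpotent H)
    (hCH : C ≤ H) (hN : H ⊓ Subgroup.normalizer (C : Set G) ≤ C) : H ≤ C := by
  by_contra hcon
  have hlt : C.subgroupOf H < ⊤ := by
    rw [lt_top_iff_ne_top]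
    intro h
    apply hcon
    intro x hx
    have : (⟨x, hx⟩ : H) ∈ C.subgroupOf H := by rw [h]; exact Subgroup.mem_top _
    exact Subgroup.mem_subgroupOf.mp this
  have hnc := normalizerCondition_of_isNilpotent (G := H) (C.subgroupOf H) hlt
  obtain ⟨x, hxN, hxC⟩ := SetLike.exists_of_lt hnc
  apply hxC
  rw [Subgroup.mem_subgroupOf]
  apply hN
  refine Subgroup.mem_inf.mpr ⟨x.2, ?_⟩
  rw [Subgroup.mem_normalizer_iff] at hxN ⊢
  intro c
  constructor
  · intro hc
    have := (hxN ⟨c, hCH hc⟩).mp (Subgroup.mem_subgroupOf.mpr hc)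
    exact Subgroup.mem_subgroupOf.mp this
  · intro hc
    have hcH : c ∈ H := by
      have : c = (x : G)⁻¹ * ((x : G) * c * (x : G)⁻¹) * (x : G) := by group
      rw [this]
      exact H.mul_mem (H.mul_mem (H.inv_mem x.2) (hCH hc)) x.2
    have := (hxN ⟨c, hcH⟩).mpr (Subgroup.mem_subgroupOf.mpr hc)
    exact Subgroup.mem_subgroupOf.mp this

/-- Let G be a finite group, H a nilpotent subgroup and A a subgroup normalizing H with the orders of A and H coprime. Put C = H ∩ C_G(A). If H ∩ C_G(C) ≤ C then A centralizes H. -/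
theorem result {G : Type*} [Group G] [Finite G] (H A : Subgroup G) (hH : Group.IsNilpotent H) (hA : (A ≤ Subgroup.normalizer (H : Set G))) (hcop : (Nat.card A).Coprime (Nat.card H))
    (hC : H ⊓ Subgroup.centralizer (((H ⊓ Subgroup.centralizer (A : Set G)) : Subgroup G) : Set G) ≤ (H ⊓ Subgroup.centralizer (A : Set G))) :
    A ≤ Subgroup.centralizer (H : Set G) := by
  set C := H ⊓ Subgroup.centralizer (A : Set G) with hCdef
  set N := H ⊓ Subgroup.normalizer (C : Set G) with hNdef
  have hCH : C ≤ H := inf_le_left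
  have hCN : C ≤ N := le_inf hCH Subgroup.le_normalizer
  -- [C, A] = 1
  have hCA : ⁅C, A⁆ = ⊥ := by
    rw [Subgroup.commutator_eq_bot_iff_le_centralizer]
    exact inf_le_right
  have hAC : ⁅A, C⁆ = ⊥ := by rw [Subgroup.commutator_comm]; exact hCA
  -- [C, N] ≤ C
  have hCNC : ⁅C, N⁆ ≤ C := by
    rw [Subgroup.commutator_le]
    intro c hc n hn
    have hn' : n ∈ Subgroup.normalizer (C : Set G) := (Subgroup.mem_inf.mp hn).2
    have h1 : n * c⁻¹ * n⁻¹ ∈ C := (Subgroup.mem_normalizer_iff.mp hn' _).mp (C.inv_mem hc)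
    have : ⁅c, n⁆ = c * (n * c⁻¹ * n⁻¹) := by rw [commutatorElement_def]; group
    rw [this]
    exact C.mul_mem hc h1
  have h1 : ⁅⁅A, C⁆, N⁆ = ⊥ := by rw [hAC]; exact Subgroup.commutator_bot_left N
  have h2 : ⁅⁅C, N⁆, A⁆ = ⊥ := by
    rw [eq_bot_iff, ← hCA]
    exact Subgroup.commutator_mono hCNC le_rfl
  have h3 : ⁅⁅N, A⁆, C⁆ = ⊥ := Subgroup.commutator_commutator_eq_bot_of_rotate h1 h2
  have h4 : ⁅N, A⁆ ≤ Subgroup.centralizer (C : Set G) := by
    rw [← Subgroup.commutator_eq_bot_iff_le_centralizer]; exact h3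
  have h5 : ⁅N, A⁆ ≤ H := by
    rw [Subgroup.commutator_le]
    intro n hn a ha
    have hnH : n ∈ H := (Subgroup.mem_inf.mp hn).1
    have h6 : a * n⁻¹ * a⁻¹ ∈ H := (Subgroup.mem_normalizer_iff.mp (hA ha) _).mp (H.inv_mem hnH)
    have : ⁅n, a⁆ = n * (a * n⁻¹ * a⁻¹) := by rw [commutatorElement_def]; group
    rw [this]
    exact H.mul_mem hnH h6
  have h6 : ⁅N, A⁆ ≤ C := (le_inf h5 h4).trans hC
  -- every a ∈ A centralises N
  have h7 : N ≤ Subgroup.centralizer (A : Set G) := by
    rw [Subgroup.le_centralizer_iff]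
    intro a ha
    let c : Fin 3 → Subgroup G := ![N, C, ⊥]
    have hanti : Antitone c := by
      intro i j hij
      fin_cases i <;> fin_cases j <;> simp [c] at hij ⊢ <;> first | exact hCN | exact le_rfl | omega
    have htriv : ∀ i : Fin 2, ⁅c i.castSucc, A⁆ ≤ c i.succ := by
      intro i
      fin_cases i
      · exact h6
      · show ⁅C, A⁆ ≤ ⊥
        rw [hCA]
    have hcopa : Nat.Coprime (orderOf a) (Nat.card N) := by
      have h8 : orderOf a ∣ Nat.card A := Subgroup.orderOf_dvd_natCard A ha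
      have h9 : Nat.card N ∣ Nat.card H := Subgroup.card_dvd_of_le inf_le_left
      exact Nat.Coprime.coprime_dvd_left h8 (Nat.Coprime.coprime_dvd_right h9 hcop)
    exact Cfsg.Agent.S1441.centralizes N A 2 c rfl rfl hanti htriv a ha hcopa 0
  have h8 : N ≤ C := le_inf inf_le_left h7
  have h9 : H ≤ C := le_of_normalizer_le H C hH hCH h8
  rw [Subgroup.le_centralizer_iff]
  exact h9.trans inf_le_right

end Cfsg.Agent.S1442
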