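import Mathlib
import Cfsg.Agent.Lib.Helper4.Rk2g
import Cfsg.Statements.S1449
-- import your own Cfsg.Agent.* helpers here

set_option autoImplicit false
open Cfsg

namespace Cfsg.Agent.S1449

/-- Let G be a finite group, p an odd prime, R a p-subgroup with no elementary abelian subgroup of order p ^ 3, and A a solvable subgroup of odd order normalizing R with A ∩ C_G(R) = 1. Then the derived subgroup [A, A] is a p-group. -/
theorem result {G : Type*} [Group G] [Finite G] (p : ℕ) [Fact p.Prime] (hp : p ≠ 2) (R A : Subgroup G) (hR : IsPGroup p R) (hr : Cfsg.PRankLE p 2 R)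
    (hA : (A ≤ Subgroup.normalizer (R : Set G))) (hAs : Group.IsSolvable A) (hAodd : Odd (Nat.card A)) (hfaith : A ⊓ Subgroup.centralizer (R : Set G) = ⊥) :
    IsPGroup p ↥⁅A, A⁆ := by
  classical
  have hAA : ⁅A, A⁆ ≤ A := by
    rw [Subgroup.commutator_le]
    intro a ha b hb
    exact A.mul_mem (A.mul_mem (A.mul_mem ha hb) (A.inv_mem ha)) (A.inv_mem hb)
  rintro ⟨g, hg⟩
  have hpos : 0 < orderOf g := orderOf_pos g
  obtain ⟨k, m, hm, hkm⟩ := Nat.exists_eq_pow_mul_and_not_dvd hpos.ne' p (Fact.out : p.Prime).ne_one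
  refine ⟨k, ?_⟩
  apply Subtype.ext
  rw [Subgroup.coe_pow, Subgroup.coe_one]
  have hy : g ^ p ^ k ∈ ⁅A, A⁆ := Subgroup.pow_mem _ hg _
  have hyo : (orderOf (g ^ p ^ k)).Coprime p := by
    have h1 : (g ^ p ^ k) ^ m = 1 := by
      rw [← pow_mul, ← hkm, pow_orderOf_eq_one]
    have h2 : orderOf (g ^ p ^ k) ∣ m := orderOf_dvd_of_pow_eq_one h1
    have h3 : m.Coprime p := ((Nat.Prime.coprime_iff_not_dvd (Fact.out : p.Prime)).mpr hm).symm
    exact Nat.Coprime.coprime_dvd_left h2 h3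
  have hc := Cfsg.Agent.Lib.Helper4.Rk2.centralizes_of_mem_commutator hp R A hR hr hA hAs hAodd _ hy hyo
  have : g ^ p ^ k ∈ A ⊓ Subgroup.centralizer (R : Set G) := ⟨hAA hy, hc⟩
  rw [hfaith, Subgroup.mem_bot] at this
  exact this

end Cfsg.Agent.S1449
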