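import Cfsg.Statements.S1454
import Mathlib
import Cfsg.Agent.Lib.Helper4.NR6
import Cfsg.Agent.S1449
-- import your own Cfsg.Agent.* helpers here

set_option autoImplicit false
open Cfsg

namespace Cfsg.Agent.S1454

/-- Let G be a finite group, p an odd prime, R a narrow p-subgroup and A a solvable subgroup of odd order normalizing R with A ∩ C_G(R) = 1. Then [A, A] ≤ O_p(A) and the index of O_p(A) in A is coprime to p; if R has an elementary abelian subgroup of order p ^ 3 then the order of every element of A of order coprime to p divides p − 1; and if the order of A is a prime not dividing p(p − 1), then 2·#A divides p + 1, and if in addition [R, A] = R and R is non-abelian then #R = p ^ 3. -/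
theorem result {G : Type*} [Group G] [Finite G] (p : ℕ) [Fact p.Prime] (hp : p ≠ 2) (R A : Subgroup G) (hR : IsPGroup p R) (hRn : Cfsg.IsNarrow p R)
    (hA : (A ≤ Subgroup.normalizer (R : Set G))) (hAs : Group.IsSolvable A) (hAodd : Odd (Nat.card A)) (hfaith : A ⊓ Subgroup.centralizer (R : Set G) = ⊥) :
    (commutator ↥A ≤ Cfsg.pCore p ↥A ∧ ((Cfsg.pCore p ↥A).index).Coprime p) ∧
      (¬ Cfsg.PRankLE p 2 R → ∀ a ∈ A, (orderOf a).Coprime p → orderOf a ∣ p - 1) ∧
      ((Nat.card A).Prime → ¬ Nat.card A ∣ p * (p - 1) →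
        2 * Nat.card A ∣ p + 1 ∧ (⁅R, A⁆ = R → ¬ IsMulCommutative R → Nat.card R = p ^ 3)) := by
  have hpp : p.Prime := Fact.out
  by_cases hr : Cfsg.PRankLE p 2 R
  · have hP := Cfsg.Agent.S1449.result p hp R A hR hr hA hAs hAodd hfaith
    refine ⟨Cfsg.Agent.Lib.Helper4.NR.pCore_facts A hP, fun h => absurd hr h, fun hq hqp => ⟨?_, ?_⟩⟩
    · have hqp' : Nat.card A ≠ p := by
        intro h
        apply hqp
        rw [h]
        exact Dvd.intro _ rfl
      have h1 := Cfsg.Agent.Lib.Helper4.NR.dvd_sq_sub_one hp R A hR hr hA hfaith hq hqp'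
      have h2 : p ^ 2 - 1 = (p + 1) * (p - 1) := by
        have := Nat.sq_sub_sq p 1
        rwa [one_pow] at this
      rw [h2] at h1
      have h3 : Nat.card A ∣ p + 1 := by
        rcases (Nat.Prime.dvd_mul hq).mp h1 with h | h
        · exact h
        · exact absurd (h.mul_left p) hqp
      have h4 : 2 ∣ p + 1 := by
        rcases hpp.eq_two_or_odd with h | h
        · exact absurd h hp
        · omega
      have h5 : Nat.Coprime 2 (Nat.card A) := by
        rw [Nat.coprime_two_left]
        exact hAodd
      exact Nat.Coprime.mul_dvd_of_dvd_of_dvd h5 h4 h3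
    · intro hRA hnc
      exact Cfsg.Agent.Lib.Helper4.NR.card_eq_cube hp R A hR hr hA hq hqp hAodd hRA hnc
  · rcases hRn with h | h
    · exact absurd h hr
    obtain ⟨hP, hb⟩ := Cfsg.Agent.Lib.Helper4.NR.rank3_main hp R A hR hr h hA hfaith
    refine ⟨Cfsg.Agent.Lib.Helper4.NR.pCore_facts A hP, fun _ => hb, fun hq hqp => ?_⟩
    exfalso
    haveI : Nontrivial ↥A := by
      rw [← Finite.one_lt_card_iff_nontrivial]
      exact hq.one_lt
    obtain ⟨a, ha1⟩ := exists_ne (1 : ↥A)
    have hord : orderOf (a : G) = Nat.card A := by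
      have h1 : orderOf (a : G) ∣ Nat.card A := by
        rw [Subgroup.orderOf_coe]
        exact orderOf_dvd_natCard a
      rcases (Nat.dvd_prime hq).mp h1 with h2 | h2
      · exfalso
        apply ha1
        apply Subtype.ext
        exact orderOf_eq_one_iff.mp h2
      · exact h2
    have hqp' : ¬ Nat.card A ∣ p := fun h => hqp (h.mul_right _)
    have hcop : (orderOf (a : G)).Coprime p := by
      rw [hord]
      exact (Nat.Prime.coprime_iff_not_dvd hq).mpr hqp'
    have := hb (a : G) a.2 hcop
    rw [hord] at this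
    exact hqp (this.mul_left p)

end Cfsg.Agent.S1454
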