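import Cfsg.Statements.S1457
import Mathlib
import Cfsg.Agent.Lib.Lead.OddStable

set_option autoImplicit false
open Cfsg

namespace Cfsg.Agent.S1457

/-- Let G be a solvable group of odd order, p a prime, S a Sylow p-subgroup of G and A an abelian subgroup of S normal in S. Then A ≤ O_{p',p}(G). -/
theorem result {G : Type*} [Group G] [Finite G] [Group.IsSolvable G] (hodd : Odd (Nat.card G)) (p : ℕ) [Fact p.Prime] (S : Sylow p G) (A : Subgroup G) (hA : A ≤ (S : Subgroup G)) (hAc : IsMulCommutative A)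
    (hAn : (S : Subgroup G) ≤ Subgroup.normalizer (A : Set G)) :
    A ≤ Cfsg.pPrimePCore p G := by
  classical
  have hSp : IsPGroup p (S : Subgroup G) := S.isPGroup'
  by_cases hp : p = 2
  · -- trivial Sylow subgroup
    have h1 : Nat.card (S : Subgroup G) ∣ Nat.card G := Subgroup.card_subgroup_dvd_card _
    obtain ⟨k, hk⟩ := IsPGroup.iff_card.mp hSp
    have h2 : Nat.card (S : Subgroup G) = 1 := by
      rcases Nat.eq_zero_or_pos k with h0 | hpos
      · rw [hk, h0, pow_zero]
      · exfalso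
        have h3 : 2 ∣ Nat.card G := by
          refine Dvd.dvd.trans ?_ h1
          rw [hk, hp]
          exact dvd_pow_self 2 hpos.ne'
        rw [← even_iff_two_dvd] at h3
        exact (Nat.not_even_iff_odd.mpr hodd) h3
    have h4 : (S : Subgroup G) = ⊥ := Subgroup.card_eq_one.mp h2
    rw [h4] at hA
    exact hA.trans bot_le
  · haveI hKn : (Cfsg.pPrimeCore p G).Normal := inferInstance
    set π := QuotientGroup.mk' (Cfsg.pPrimeCore p G) with hπ
    have hπs : Function.Surjective π := QuotientGroup.mk'_surjective _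
    have hodd' : Odd (Nat.card (G ⧸ Cfsg.pPrimeCore p G)) := by
      have h1 : Nat.card (G ⧸ Cfsg.pPrimeCore p G) ∣ Nat.card G :=
        Subgroup.card_quotient_dvd_card _
      exact Odd.of_dvd_nat hodd h1
    have hred : Cfsg.pPrimeCore p (G ⧸ Cfsg.pPrimeCore p G) = ⊥ :=
      Cfsg.Agent.Lib.Helper4.pPrimeCore_quotient_self p
    have hc := Cfsg.Agent.Lib.Lead.OddStable.centralizer_pCore_le_of_solvable (p := p) hred
    have hst := Cfsg.Agent.Lib.Lead.OddStable.isNormalizerPStable_of_odd (p := p) hodd' hp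
    intro a ha
    show π a ∈ Cfsg.pCore p (G ⧸ Cfsg.pPrimeCore p G)
    apply Cfsg.Agent.Lib.Lead.OddStable.mem_pCore_of_quadratic hst hc
    have hPS : Cfsg.pCore p (G ⧸ Cfsg.pPrimeCore p G) ≤ (S : Subgroup G).map π := by
      have := Cfsg.Agent.Lib.Helper9.pCore_le_sylow (S.mapSurjective hπs)
      rwa [Sylow.coe_mapSurjective] at this
    have hz : Subgroup.zpowers (π a) ≤ A.map π := by
      rw [Subgroup.zpowers_le]; exact ⟨a, ha, rfl⟩
    have h1 : ⁅Cfsg.pCore p (G ⧸ Cfsg.pPrimeCore p G), Subgroup.zpowers (π a)⁆ ≤ A.map π := by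
      rw [Subgroup.commutator_le]
      intro x hx y hy
      obtain ⟨s, hs, rfl⟩ := hPS hx
      obtain ⟨b, hb, rfl⟩ := hz hy
      have hsb : s * b * s⁻¹ ∈ A := (Subgroup.mem_normalizer_iff.mp (hAn hs) b).mp hb
      refine ⟨s * b * s⁻¹ * b⁻¹, A.mul_mem hsb (A.inv_mem hb), ?_⟩
      rw [commutatorElement_def]
      simp only [map_mul, map_inv]
    have hAc' : ⁅A.map π, A.map π⁆ = ⊥ := by
      rw [← Subgroup.map_commutator, Subgroup.commutator_self_eq_bot_iff.mpr hAc, Subgroup.map_bot]
    rw [eq_bot_iff, ← hAc']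
    exact Subgroup.commutator_mono h1 hz

end Cfsg.Agent.S1457
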