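import Cfsg.Statements.S1458
import Mathlib
import Cfsg.Agent.Lib.Helper8.ZE5
import Cfsg.Agent.Lib.Lead.OddStable

set_option autoImplicit false
open Cfsg

namespace Cfsg.Agent.S1458

/-- Let G be a solvable group of odd order, p a prime and S a Sylow p-subgroup of G. Then the subgroup generated by the centre of the Thompson subgroup of S and O_{p'}(G) is normal in G. -/
theorem result {G : Type*} [Group G] [Finite G] [Group.IsSolvable G] (hodd : Odd (Nat.card G)) (p : ℕ) [Fact p.Prime] (S : Sylow p G) :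
    (Cfsg.centerThompsonOf p (S : Subgroup G) ⊔ Cfsg.pPrimeCore p G).Normal := by
  classical
  have hSp : IsPGroup p (S : Subgroup G) := S.isPGroup'
  by_cases hp : p = 2
  · -- trivial Sylow subgroup
    have h1 : Nat.card (S : Subgroup G) ∣ Nat.card G := Subgroup.card_subgroup_dvd_card _
    obtain ⟨k, hk⟩ := IsPGroup.iff_card.mp hSp
    have h2 : Nat.card (S : Subgroup G) = 1 := by
      rcases Nat.eq_zero_or_pos k with h0 | hpos
      · rw [hk, h0, pow_zero]
      · exfalso
        have h3 : 2 ∣ Nat.card G := by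
          refine Dvd.dvd.trans ?_ h1
          rw [hk, hp]
          exact dvd_pow_self 2 hpos.ne'
        rw [← even_iff_two_dvd] at h3
        exact (Nat.not_even_iff_odd.mpr hodd) h3
    have h4 : (S : Subgroup G) = ⊥ := Subgroup.card_eq_one.mp h2
    have h5 : Cfsg.centerThompsonOf p (S : Subgroup G) = ⊥ := by
      rw [Cfsg.Agent.Lib.Helper8.ZE.centerThompsonOf_eq, eq_bot_iff, ← h4]
      exact le_trans (Cfsg.Agent.Lib.Lead.Thom.Zc_le _) (Cfsg.Agent.Lib.Lead.Thom.Jn_le p _)
    rw [h5, bot_sup_eq]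
    infer_instance
  · haveI hKn : (Cfsg.pPrimeCore p G).Normal := inferInstance
    set π := QuotientGroup.mk' (Cfsg.pPrimeCore p G) with hπ
    have hπs : Function.Surjective π := QuotientGroup.mk'_surjective _
    have hodd' : Odd (Nat.card (G ⧸ Cfsg.pPrimeCore p G)) := by
      have h1 : Nat.card (G ⧸ Cfsg.pPrimeCore p G) ∣ Nat.card G :=
        Subgroup.card_quotient_dvd_card _
      exact Odd.of_dvd_nat hodd h1
    have hred : Cfsg.pPrimeCore p (G ⧸ Cfsg.pPrimeCore p G) = ⊥ :=
      Cfsg.Agent.Lib.Helper4.pPrimeCore_quotient_self p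
    have hc := Cfsg.Agent.Lib.Lead.OddStable.centralizer_pCore_le_of_solvable (p := p) hred
    have hst := Cfsg.Agent.Lib.Lead.OddStable.isNormalizerPStable_of_odd (p := p) hodd' hp
    have hq := Cfsg.Agent.Lib.Lead.ZJ.quadHyp_of_isNormalizerPStable hst
    have hn := Cfsg.Agent.Lib.Helper8.ZE.zc_normal hp p (dvd_refl p) hc (S.mapSurjective hπs) hq
    rw [Sylow.coe_mapSurjective] at hn
    have hinj : Set.InjOn π ((S : Subgroup G) : Set G) :=
      Cfsg.Agent.Lib.Lead.ZJ.injOn_mk_of_isPGroup hSp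
    have hmap := (Cfsg.Agent.Lib.Helper8.ZE.isSecFunctor_zc (p := p) p (dvd_refl p)).map G
      (G ⧸ Cfsg.pPrimeCore p G) π (S : Subgroup G) hSp hinj
    rw [hmap] at hn
    rw [Cfsg.Agent.Lib.Helper8.ZE.centerThompsonOf_eq]
    have hcm := Subgroup.comap_map_eq π
      (Cfsg.Agent.Lib.Lead.Thom.Zc (Cfsg.Agent.Lib.Lead.Thom.Jn p G (S : Subgroup G)))
    rw [hπ, QuotientGroup.ker_mk'] at hcm
    rw [← hcm]
    exact hn.comap _

end Cfsg.Agent.S1458
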