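import Mathlib
import Cfsg.Statements.S1459
import Cfsg.Agent.Lib.Lead.Hall
import Cfsg.Agent.Lib.Lead.Frattini2
import Cfsg.Agent.Lib.Helper4.PiCore

set_option autoImplicit false
open Cfsg
open scoped commutatorElement

namespace Cfsg.Agent.S1459

variable {G : Type*} [Group G]

theorem conj_mem_comm (H K : Subgroup G) [H.Normal] (x : G) (hx : x ∈ H ∨ x ∈ K) (n : G)
    (hn : n ∈ ⁅H, K⁆) : x * n * x⁻¹ ∈ ⁅H, K⁆ := by
  rw [Subgroup.commutator_def] at hn
  induction hn using Subgroup.closure_induction with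
  | mem y hy =>
    obtain ⟨h, hh, k, hk, rfl⟩ := hy
    rcases hx with hx | hx
    · have e : x * ⁅h, k⁆ * x⁻¹ = ⁅x * h, k⁆ * ⁅x, k⁆⁻¹ := by
        simp only [commutatorElement_def]; group
      rw [e]
      exact Subgroup.mul_mem _ (Subgroup.commutator_mem_commutator (H.mul_mem hx hh) hk)
        (Subgroup.inv_mem _ (Subgroup.commutator_mem_commutator hx hk))
    · have e : x * ⁅h, k⁆ * x⁻¹ = ⁅x * h * x⁻¹, x * k * x⁻¹⁆ := by
        simp only [commutatorElement_def]; group
      rw [e]
      exact Subgroup.commutator_mem_commutator (Subgroup.Normal.conj_mem inferInstance h hh x)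
        (K.mul_mem (K.mul_mem hx hk) (K.inv_mem hx))
  | one => simp
  | mul a b _ _ ha hb =>
    have e : x * (a * b) * x⁻¹ = (x * a * x⁻¹) * (x * b * x⁻¹) := by group
    rw [e]; exact Subgroup.mul_mem _ ha hb
  | inv a _ ha =>
    have e : x * a⁻¹ * x⁻¹ = (x * a * x⁻¹)⁻¹ := by group
    rw [e]; exact Subgroup.inv_mem _ ha

theorem comm_normal (H K : Subgroup G) [H.Normal] (hHK : H ⊔ K = ⊤) : (⁅H, K⁆).Normal := by
  refine ⟨fun n hn g => ?_⟩
  have hg : g ∈ H ⊔ K := hHK ▸ Subgroup.mem_top g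
  rw [← SetLike.mem_coe, Subgroup.normal_mul] at hg
  obtain ⟨h, hh, k, hk, rfl⟩ := hg
  have e : h * k * n * (h * k)⁻¹ = h * (k * n * k⁻¹) * h⁻¹ := by group
  rw [e]
  exact conj_mem_comm H K h (Or.inl hh) _ (conj_mem_comm H K k (Or.inr hk) n hn)

theorem map_mk_self (N : Subgroup G) [N.Normal] : N.map (QuotientGroup.mk' N) = ⊥ := by
  rw [eq_bot_iff]
  rintro _ ⟨y, hy, rfl⟩
  rw [Subgroup.mem_bot]
  exact (QuotientGroup.eq_one_iff y).mpr hy

theorem map_mk_le (N A : Subgroup G) [N.Normal] (h : A ≤ N) : A.map (QuotientGroup.mk' N) = ⊥ := by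
  rw [eq_bot_iff, ← map_mk_self N]
  exact Subgroup.map_mono h

theorem commutator_sup_le (N D : Subgroup G) [N.Normal] : ⁅N ⊔ D, N ⊔ D⁆ ≤ N ⊔ ⁅D, D⁆ := by
  have h1 : (⁅N ⊔ D, N ⊔ D⁆).map (QuotientGroup.mk' N) = (⁅D, D⁆).map (QuotientGroup.mk' N) := by
    rw [Subgroup.map_commutator, Subgroup.map_commutator, Subgroup.map_sup, map_mk_self, bot_sup_eq]
  have h2 := Subgroup.le_comap_map (QuotientGroup.mk' N) ⁅N ⊔ D, N ⊔ D⁆
  rw [h1, Subgroup.comap_map_eq, QuotientGroup.ker_mk'] at h2
  rw [sup_comm ⁅D, D⁆ N] at h2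
  exact h2

theorem le_of_le_sup_commutator [Group.IsSolvable G] (A N : Subgroup G) [N.Normal]
    (h : A ≤ N ⊔ ⁅A, A⁆) : A ≤ N := by
  have key : ∀ n : ℕ, ∃ D : Subgroup G, D ≤ derivedSeries G n ∧ A ≤ N ⊔ D := by
    intro n
    induction n with
    | zero => exact ⟨A, le_top, le_sup_right⟩
    | succ n ih =>
      obtain ⟨D, hD1, hD2⟩ := ih
      refine ⟨⁅D, D⁆, Subgroup.commutator_mono hD1 hD1, ?_⟩
      calc A ≤ N ⊔ ⁅A, A⁆ := h
        _ ≤ N ⊔ ⁅N ⊔ D, N ⊔ D⁆ := sup_le_sup_left (Subgroup.commutator_mono hD2 hD2) N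
        _ ≤ N ⊔ (N ⊔ ⁅D, D⁆) := sup_le_sup_left (commutator_sup_le N D) N
        _ = N ⊔ ⁅D, D⁆ := by rw [← sup_assoc, sup_idem]
  obtain ⟨n, hn⟩ := Group.IsSolvable.solvable (G := G)
  obtain ⟨D, hD1, hD2⟩ := key n
  rw [hn, le_bot_iff] at hD1
  rw [hD1, sup_bot_eq] at hD2
  exact hD2

theorem key [Finite G] (H K M X : Subgroup G) [H.Normal] [M.Normal]
    (hHall : (Nat.card H).Coprime H.index) (hHK : H ⊔ K = ⊤) (hHG : H ≤ commutator G)
    (hM : ⁅H, H⁆ ≤ M) (hXH : X ≤ H) (hXK : ⁅X, K⁆ ≤ M) : X ≤ M := by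
  have hπ : Function.Surjective (QuotientGroup.mk' M) := QuotientGroup.mk'_surjective M
  have hcomm : ⁅H.map (QuotientGroup.mk' M), H.map (QuotientGroup.mk' M)⁆ = ⊥ := by
    rw [← Subgroup.map_commutator]
    exact map_mk_le M _ hM
  have hcent := Subgroup.commutator_eq_bot_iff_le_centralizer.mp hcomm
  have hc : IsMulCommutative (H.map (QuotientGroup.mk' M)) :=
    ⟨⟨fun a b => Subtype.ext ((hcent a.2 b b.2).symm)⟩⟩
  have hHall' : (Nat.card (H.map (QuotientGroup.mk' M))).Coprime
      (H.map (QuotientGroup.mk' M)).index :=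
    Nat.Coprime.coprime_dvd_left (Subgroup.card_map_dvd _ _)
      (Nat.Coprime.coprime_dvd_right (Subgroup.index_map_dvd _ hπ) hHall)
  have h0 := Cfsg.Agent.Lib.Lead.hall_inf_commutator_inf_center _ hc hHall'
  have hXK' : ⁅X.map (QuotientGroup.mk' M), K.map (QuotientGroup.mk' M)⁆ = ⊥ := by
    rw [← Subgroup.map_commutator]
    exact map_mk_le M _ hXK
  have hXH' : ⁅X.map (QuotientGroup.mk' M), H.map (QuotientGroup.mk' M)⁆ = ⊥ := by
    rw [eq_bot_iff, ← hcomm]
    exact Subgroup.commutator_mono (Subgroup.map_mono hXH) le_rfl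
  have htop : H.map (QuotientGroup.mk' M) ⊔ K.map (QuotientGroup.mk' M) = ⊤ := by
    rw [← Subgroup.map_sup, hHK]
    exact Subgroup.map_top_of_surjective _ hπ
  have hcen : H.map (QuotientGroup.mk' M) ⊔ K.map (QuotientGroup.mk' M) ≤
      Subgroup.centralizer (X.map (QuotientGroup.mk' M) : Set (G ⧸ M)) := by
    apply sup_le
    · rw [← Subgroup.commutator_eq_bot_iff_le_centralizer, Subgroup.commutator_comm]; exact hXH'
    · rw [← Subgroup.commutator_eq_bot_iff_le_centralizer, Subgroup.commutator_comm]; exact hXK'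
  rw [htop] at hcen
  have hX : X.map (QuotientGroup.mk' M) ≤ ⊥ := by
    rw [← h0]
    refine le_inf (le_inf (Subgroup.map_mono hXH) ?_) ?_
    · calc X.map (QuotientGroup.mk' M) ≤ (commutator G).map (QuotientGroup.mk' M) :=
          Subgroup.map_mono (hXH.trans hHG)
        _ ≤ commutator (G ⧸ M) := by
          rw [commutator_def, commutator_def, Subgroup.map_commutator]
          exact Subgroup.commutator_mono le_top le_top
    · intro x hx
      rw [Subgroup.mem_center_iff]
      intro g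
      have := hcen (Subgroup.mem_top g)
      rw [Subgroup.mem_centralizer_iff] at this
      exact (this x hx).symm
  intro x hx
  have : (QuotientGroup.mk' M) x ∈ X.map (QuotientGroup.mk' M) := Subgroup.mem_map_of_mem _ hx
  have := hX this
  rw [Subgroup.mem_bot] at this
  exact (QuotientGroup.eq_one_iff x).mp this

theorem partA [Finite G] [Group.IsSolvable G] (H K : Subgroup G) (hHn : H.Normal)
    (hHall : (Nat.card H).Coprime H.index) (hc : Subgroup.IsComplement' H K) (hHG : H ≤ commutator G) :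
    H = ⁅H, K⁆ ∧ H ⊓ Subgroup.centralizer (K : Set G) ≤ ⁅H, H⁆ := by
  have hHK : H ⊔ K = ⊤ := hc.sup_eq_top
  have hN : (⁅H, K⁆).Normal := comm_normal H K hHK
  have hH' : (⁅H, H⁆).Normal := Subgroup.commutator_normal H H
  have hNH : ⁅H, K⁆ ≤ H := Subgroup.commutator_le_left H K
  have hL : (⁅H, K⁆ ⊔ ⁅H, H⁆).Normal := inferInstance
  have h1 : H ≤ ⁅H, K⁆ ⊔ ⁅H, H⁆ :=
    key H K (⁅H, K⁆ ⊔ ⁅H, H⁆) H hHall hHK hHG le_sup_right le_rfl le_sup_left
  have h2 : H ≤ ⁅H, K⁆ := le_of_le_sup_commutator H ⁅H, K⁆ h1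
  refine ⟨le_antisymm h2 hNH, ?_⟩
  refine key H K ⁅H, H⁆ (H ⊓ Subgroup.centralizer (K : Set G)) hHall hHK hHG le_rfl inf_le_left ?_
  have : ⁅H ⊓ Subgroup.centralizer (K : Set G), K⁆ = ⊥ := by
    rw [Subgroup.commutator_eq_bot_iff_le_centralizer]
    exact inf_le_right
  rw [this]; exact bot_le


open Cfsg.Agent.Lib.Helper4 in
theorem card_eq_of_commutator_index_prime {T : Type*} [Group T] [Finite T] {p : ℕ} [Fact p.Prime]
    (hT : IsPGroup p T) (h : (commutator T).index = p) : Nat.card T = p := by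
  have hco : IsCoatom (commutator T) :=
    Cfsg.Agent.Lib.Lead.isCoatom_of_index_prime (h ▸ (Fact.out : p.Prime))
  have hne : commutator T ≠ ⊤ := hco.1
  obtain ⟨x, hx⟩ : ∃ x, x ∉ commutator T := by
    by_contra hcon
    push Not at hcon
    exact hne (eq_top_iff.mpr fun y _ => hcon y)
  have h1 : Subgroup.zpowers x ⊔ commutator T = ⊤ := by
    have : commutator T < Subgroup.zpowers x ⊔ commutator T := by
      refine lt_of_le_of_ne le_sup_right ?_
      intro heq
      apply hx
      rw [heq]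
      exact (le_sup_left : Subgroup.zpowers x ≤ _) (Subgroup.mem_zpowers x)
    exact hco.2 _ this
  have h2 : Subgroup.zpowers x ⊔ frattini T = ⊤ := by
    rw [eq_top_iff, ← h1]
    exact sup_le_sup_left (Cfsg.Agent.Lib.Lead.commutator_le_frattini_of_isPGroup hT) _
  have h3 : Subgroup.zpowers x = ⊤ := frattini_nongenerating h2
  have h4 : commutator T = ⊥ := by
    rw [commutator_def, Subgroup.commutator_eq_bot_iff_le_centralizer]
    intro a _
    rw [Subgroup.mem_centralizer_iff]
    intro b _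
    have ha : a ∈ Subgroup.zpowers x := h3 ▸ Subgroup.mem_top a
    have hb : b ∈ Subgroup.zpowers x := h3 ▸ Subgroup.mem_top b
    obtain ⟨i, rfl⟩ := ha
    obtain ⟨j, rfl⟩ := hb
    exact (Commute.zpow_zpow_self x j i).eq
  rw [h4, Subgroup.index_bot] at h
  exact h

theorem commutator_quot (Q : Subgroup G) [Q.Normal] :
    commutator (G ⧸ Q) = (commutator G).map (QuotientGroup.mk' Q) := by
  rw [commutator_def, commutator_def, Subgroup.map_commutator,
    Subgroup.map_top_of_surjective _ (QuotientGroup.mk'_surjective _)]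

open Cfsg.Agent.Lib.Helper4 in
theorem coprime_of_nilpotent [Finite G] (hnil : Group.IsNilpotent ↥(commutator G)) {p : ℕ}
    (hp : p.Prime) (hidx : (commutator G).index = p) : (Nat.card ↥(commutator G)).Coprime p := by
  haveI : Fact p.Prime := ⟨hp⟩
  have hQ₀ : ∀ q : ℕ, q.Prime → q ∣ (Cfsg.piCore {q | q ≠ p} ↥(commutator G)).index → q = p := by
    intro q hq hdvd
    by_contra hne
    haveI : Fact q.Prime := ⟨hq⟩
    obtain ⟨R⟩ : Nonempty (Sylow q ↥(commutator G)) := inferInstance
    have hRn : (R : Subgroup ↥(commutator G)).Normal := inferInstance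
    have hRle : (R : Subgroup ↥(commutator G)) ≤ Cfsg.piCore {q | q ≠ p} ↥(commutator G) := by
      apply le_piCore hRn
      rw [Sylow.card_eq_multiplicity]
      exact IsPiNum.pow hne hq _
    exact Sylow.not_dvd_index R (hdvd.trans (Subgroup.index_dvd_of_le hRle))
  have hchar : (Cfsg.piCore {q | q ≠ p} ↥(commutator G)).Characteristic :=
    Subgroup.characteristic_iff_map_eq.mpr (fun ϕ => piCore_map_equiv _ ϕ)
  have hQn : ((Cfsg.piCore {q | q ≠ p} ↥(commutator G)).map (commutator G).subtype).Normal :=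
    inferInstance
  have hQle : (Cfsg.piCore {q | q ≠ p} ↥(commutator G)).map (commutator G).subtype ≤ commutator G :=
    Subgroup.map_subtype_le _
  have hQidx : ((Cfsg.piCore {q | q ≠ p} ↥(commutator G)).map (commutator G).subtype).index =
      (Cfsg.piCore {q | q ≠ p} ↥(commutator G)).index * p := by
    rw [Subgroup.index_map_subtype, hidx]
  have hpos : (Cfsg.piCore {q | q ≠ p} ↥(commutator G)).index ≠ 0 := Subgroup.index_ne_zero_of_finite
  have hpow := Nat.eq_prime_pow_of_unique_prime_dvd hpos (fun {d} hd hdd => hQ₀ d hd hdd)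
  have hT : IsPGroup p (G ⧸ (Cfsg.piCore {q | q ≠ p} ↥(commutator G)).map (commutator G).subtype) := by
    apply IsPGroup.of_card (n := (Cfsg.piCore {q | q ≠ p} ↥(commutator G)).index.primeFactorsList.length + 1)
    rw [← Subgroup.index_eq_card, hQidx, pow_succ, ← hpow]
  have hTc : (commutator (G ⧸ (Cfsg.piCore {q | q ≠ p} ↥(commutator G)).map
      (commutator G).subtype)).index = p := by
    rw [commutator_quot, Subgroup.index_map_eq _ (QuotientGroup.mk'_surjective _)
      (by rw [QuotientGroup.ker_mk']; exact hQle)]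
    exact hidx
  have hcard := card_eq_of_commutator_index_prime hT hTc
  have h1 : (Cfsg.piCore {q | q ≠ p} ↥(commutator G)).index = 1 := by
    rw [← Subgroup.index_eq_card, hQidx] at hcard
    exact Nat.eq_of_mul_eq_mul_right hp.pos (by rw [hcard, one_mul])
  have hQtop : Cfsg.piCore {q | q ≠ p} ↥(commutator G) = ⊤ := Subgroup.index_eq_one.mp h1
  have hpi := isPiNum_card_piCore (G := ↥(commutator G)) {q | q ≠ p}
  rw [hQtop, Subgroup.card_top] at hpi
  rw [Nat.coprime_comm, Nat.Prime.coprime_iff_not_dvd hp]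
  intro hd
  exact hpi p hp hd rfl

theorem partB [Finite G] [Group.IsSolvable G] (hnil : Group.IsNilpotent ↥(commutator G))
    (hidx : (commutator G).index.Prime) :
    (Nat.card ↥(commutator G)).Coprime (commutator G).index ∧
      ∀ K : Subgroup G, Subgroup.IsComplement' (commutator G) K →
        commutator G = ⁅(⊤ : Subgroup G), K⁆ := by
  have hcop := coprime_of_nilpotent hnil hidx rfl
  refine ⟨hcop, fun K hK => ?_⟩
  have h := (partA (commutator G) K inferInstance hcop hK le_rfl).1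
  apply le_antisymm
  · exact h.le.trans (Subgroup.commutator_mono le_top le_rfl)
  · rw [commutator_def]; exact Subgroup.commutator_mono le_rfl le_top

/-- Let G be a finite solvable group. (a) If H is a normal subgroup of order coprime to its index, K is a complement to H, and H ≤ G', then H = [H, K] and H ∩ C_G(K) ≤ [H, H]. (b) If G' is nilpotent and has prime index in G, then the order of G' is coprime to its index and G' = [G, K] (the subgroup generated by commutators of elements of G with elements of K) for every complement K of G'. -/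
theorem result {G : Type*} [Group G] [Finite G] [Group.IsSolvable G] :
    (∀ (H K : Subgroup G), H.Normal → (Nat.card H).Coprime H.index → Subgroup.IsComplement' H K → H ≤ commutator G →
        H = ⁅H, K⁆ ∧ H ⊓ Subgroup.centralizer (K : Set G) ≤ ⁅H, H⁆) ∧
      (Group.IsNilpotent ↥(commutator G) → (commutator G).index.Prime →
        (Nat.card ↥(commutator G)).Coprime (commutator G).index ∧
        ∀ K : Subgroup G, Subgroup.IsComplement' (commutator G) K → commutator G = ⁅(⊤ : Subgroup G), K⁆) := by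
  exact ⟨fun H K hHn hHall hc hHG => partA H K hHn hHall hc hHG, fun hnil hidx => partB hnil hidx⟩

end Cfsg.Agent.S1459
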