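import Mathlib
import Cfsg.Statements.S1460
import Cfsg.Agent.Lib.Lead.CoprimeTools2
import Cfsg.Agent.Lib.Lead.CoprimeAction
import Cfsg.Agent.S1459

set_option autoImplicit false
open Cfsg
open scoped Pointwise
open Cfsg.Agent.Lib.Lead

namespace Cfsg.Agent.S1460

variable {G : Type*} [Group G]

theorem commutator_self_le (U : Subgroup G) : ⁅U, U⁆ ≤ U := by
  rw [Subgroup.commutator_le]
  intro a ha b hb
  rw [commutatorElement_def]
  exact U.mul_mem (U.mul_mem (U.mul_mem ha hb) (U.inv_mem ha)) (U.inv_mem hb)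

theorem part3 [Finite G] [Group.IsSolvable G] (K U H : Subgroup G) [K.Normal] (hKU : K ⊔ U = ⊤)
    (hH : H ≤ U) (hcop : (Nat.card H).Coprime (Nat.card K)) (g : G)
    (hg : H.map (MulAut.conj g).toMonoidHom ≤ U) :
    ∃ u ∈ U, ∃ c ∈ K ⊓ Subgroup.centralizer (H : Set G), g = u * c := by
  have hgtop : g ∈ U ⊔ K := by rw [sup_comm, hKU]; trivial
  rw [← SetLike.mem_coe, Subgroup.mul_normal] at hgtop
  obtain ⟨u, hu, k, hk, rfl⟩ := hgtop
  have hHK : H ⊓ K = ⊥ := Subgroup.inf_eq_bot_of_coprime hcop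
  have hBU : MulAut.conj k • H ≤ U := by
    intro x hx
    rw [mem_conj_smul_iff'] at hx
    have h1 : u * x * u⁻¹ ∈ H.map (MulAut.conj (u * k)).toMonoidHom := by
      refine ⟨k⁻¹ * x * k, hx, ?_⟩
      simp only [MulEquiv.coe_toMonoidHom, MulAut.conj_apply]
      group
    have h2 := hg h1
    have := U.mul_mem (U.mul_mem (U.inv_mem hu) h2) hu
    have e : u⁻¹ * (u * x * u⁻¹) * u = x := by group
    rw [e] at this
    exact this
  have hHnM : H ≤ Subgroup.normalizer ((K ⊓ U : Subgroup G) : Set G) := by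
    intro h hh
    rw [Subgroup.mem_normalizer_iff]
    intro x
    constructor
    · rintro ⟨hxK, hxU⟩
      exact ⟨Subgroup.Normal.conj_mem inferInstance x hxK h,
        U.mul_mem (U.mul_mem (hH hh) hxU) (U.inv_mem (hH hh))⟩
    · rintro ⟨hxK, hxU⟩
      have e : x = h⁻¹ * (h * x * h⁻¹) * h⁻¹⁻¹ := by group
      rw [e]
      exact ⟨Subgroup.Normal.conj_mem inferInstance _ hxK h⁻¹,
        U.mul_mem (U.mul_mem (U.inv_mem (hH hh)) hxU) (U.inv_mem (U.inv_mem (hH hh)))⟩
  have hLM : H ⊔ (K ⊓ U) ≤ Subgroup.normalizer ((K ⊓ U : Subgroup G) : Set G) :=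
    sup_le hHnM Subgroup.le_normalizer
  have hBL : MulAut.conj k • H ≤ H ⊔ (K ⊓ U) := by
    intro x hx
    have hxU := hBU hx
    rw [mem_conj_smul_iff'] at hx
    have hhU := hH hx
    have e : x = (x * (k⁻¹ * x * k)⁻¹) * (k⁻¹ * x * k) := by group
    rw [e]
    refine Subgroup.mul_mem _ ((le_sup_right : K ⊓ U ≤ H ⊔ (K ⊓ U)) ⟨?_, ?_⟩) ((le_sup_left : H ≤ _) hx)
    · have e2 : x * (k⁻¹ * x * k)⁻¹ = (x * k⁻¹ * x⁻¹) * k := by group
      rw [e2]
      exact K.mul_mem (Subgroup.Normal.conj_mem inferInstance _ (K.inv_mem hk) x) hk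
    · exact U.mul_mem hxU (U.inv_mem hhU)
  have hHM : H ⊓ (K ⊓ U) = ⊥ := by
    rw [eq_bot_iff, ← hHK]
    exact inf_le_inf_left H inf_le_left
  have hcard : Nat.card H * Nat.card (K ⊓ U : Subgroup G) = Nat.card (H ⊔ (K ⊓ U) : Subgroup G) :=
    (card_sup_of_disjoint H (K ⊓ U) hHnM hHM).symm
  have hcop' : (Nat.card H).Coprime (Nat.card (K ⊓ U : Subgroup G)) :=
    Nat.Coprime.coprime_dvd_right (Subgroup.card_dvd_of_le inf_le_left) hcop
  obtain ⟨x, hxM, hx⟩ := sz_conj_internal (K ⊓ U) (H ⊔ (K ⊓ U)) H (MulAut.conj k • H) le_sup_right hLM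
    le_sup_left hBL hcard (card_conj_smul k H) hcop' (Or.inl inferInstance)
  have hcK : x⁻¹ * k ∈ K := K.mul_mem (K.inv_mem hxM.1) hk
  have hnorm : ∀ a ∈ H, (x⁻¹ * k) * a * (x⁻¹ * k)⁻¹ ∈ H := by
    intro a ha
    have h1 : k * a * k⁻¹ ∈ MulAut.conj k • H := by
      rw [mem_conj_smul_iff']
      have e : k⁻¹ * (k * a * k⁻¹) * k = a := by group
      rw [e]; exact ha
    rw [← hx, mem_conj_smul_iff'] at h1
    have e : x⁻¹ * k * a * (x⁻¹ * k)⁻¹ = x⁻¹ * (k * a * k⁻¹) * x := by group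
    rw [e]; exact h1
  have hHnK : H ≤ Subgroup.normalizer (K : Set G) := by
    rw [Subgroup.normalizer_eq_top]; exact le_top
  have hcC := mem_centralizer_of_mem_normalizer H K hHnK hHK (x⁻¹ * k) hcK hnorm
  refine ⟨u * x, U.mul_mem hu hxM.2, x⁻¹ * k, ⟨hcK, hcC⟩, ?_⟩
  group

theorem part2 [Finite G] [Group.IsSolvable G] (K U H : Subgroup G) [K.Normal] (hKU : K ⊔ U = ⊤)
    (hH : H ≤ U) (hcop : (Nat.card H).Coprime (Nat.card K)) :
    Subgroup.normalizer (H : Set G) =
      (K ⊓ Subgroup.centralizer (H : Set G)) ⊔ (U ⊓ Subgroup.normalizer (H : Set G)) := by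
  apply le_antisymm
  · intro g hg
    have hmap : H.map (MulAut.conj g).toMonoidHom = H := by
      have := (Subgroup.mem_normalizer_iff_map_conj_eq (H := H)).mp hg
      exact this
    obtain ⟨u, hu, c, hc, rfl⟩ := part3 K U H hKU hH hcop g (by rw [hmap]; exact hH)
    have hcN : c ∈ Subgroup.normalizer (H : Set G) := Subgroup.centralizer_le_normalizer _ hc.2
    have huN : u ∈ Subgroup.normalizer (H : Set G) := by
      have := Subgroup.mul_mem _ hg (Subgroup.inv_mem _ hcN)
      simpa using this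
    exact Subgroup.mul_mem _ ((le_sup_right : U ⊓ Subgroup.normalizer (H : Set G) ≤ _) ⟨hu, huN⟩)
      ((le_sup_left : K ⊓ Subgroup.centralizer (H : Set G) ≤ _) hc)
  · apply sup_le
    · exact inf_le_right.trans (Subgroup.centralizer_le_normalizer _)
    · exact inf_le_right

theorem part1 [Finite G] [Group.IsSolvable G] (K U H : Subgroup G) [K.Normal] (hKU : K ⊔ U = ⊤)
    (hH : H ≤ U) (hcop : (Nat.card H).Coprime (Nat.card K)) :
    H ⊓ commutator G = H ⊓ ⁅U, U⁆ := by
  apply le_antisymm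
  · have h1 : commutator G ≤ K ⊔ ⁅U, U⁆ := by
      rw [commutator_def, ← hKU]
      exact Cfsg.Agent.S1459.commutator_sup_le K U
    rintro x ⟨hxH, hxG⟩
    refine ⟨hxH, ?_⟩
    have hx := h1 hxG
    rw [← SetLike.mem_coe, Subgroup.normal_mul] at hx
    obtain ⟨k, hk, c, hc, rfl⟩ := hx
    have hcU : c ∈ U := commutator_self_le U hc
    have hxU : k * c ∈ U := hH hxH
    have hkU : k ∈ U := by
      have := U.mul_mem hxU (U.inv_mem hcU)
      simpa using this
    -- work in the abelianization of U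
    have hc' : (⟨c, hcU⟩ : U) ∈ commutator U := by
      have : c ∈ (commutator U).map U.subtype := by
        rw [Subgroup.map_subtype_commutator]; exact hc
      obtain ⟨c', hc', hcc⟩ := this
      have : c' = ⟨c, hcU⟩ := Subtype.ext hcc
      rw [← this]; exact hc'
    have hπc : Abelianization.of (⟨c, hcU⟩ : U) = 1 := by
      rw [← MonoidHom.mem_ker, Abelianization.ker_of]; exact hc'
    have hπ : Abelianization.of (⟨k * c, hxU⟩ : U) = Abelianization.of (⟨k, hkU⟩ : U) := by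
      have : (⟨k * c, hxU⟩ : U) = ⟨k, hkU⟩ * ⟨c, hcU⟩ := rfl
      rw [this, map_mul, hπc, mul_one]
    have hpowK : (Abelianization.of (⟨k * c, hxU⟩ : U)) ^ Nat.card K = 1 := by
      rw [hπ, ← map_pow]
      have : (⟨k, hkU⟩ : U) ^ Nat.card K = 1 := by
        apply Subtype.ext
        rw [Subgroup.coe_pow, Subgroup.coe_one]
        have h0 := pow_card_eq_one' (G := K) (x := ⟨k, hk⟩)
        have h2 := congrArg Subtype.val h0
        rw [Subgroup.coe_pow, Subgroup.coe_one] at h2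
        exact h2
      rw [this, map_one]
    have hpowH : (Abelianization.of (⟨k * c, hxU⟩ : U)) ^ Nat.card H = 1 := by
      rw [← map_pow]
      have : (⟨k * c, hxU⟩ : U) ^ Nat.card H = 1 := by
        apply Subtype.ext
        rw [Subgroup.coe_pow, Subgroup.coe_one]
        have h0 := pow_card_eq_one' (G := H) (x := ⟨k * c, hxH⟩)
        have h2 := congrArg Subtype.val h0
        rw [Subgroup.coe_pow, Subgroup.coe_one] at h2
        exact h2
      rw [this, map_one]
    have hone : Abelianization.of (⟨k * c, hxU⟩ : U) = 1 := by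
      have h1 := orderOf_dvd_of_pow_eq_one hpowK
      have h2 := orderOf_dvd_of_pow_eq_one hpowH
      have := Nat.eq_one_of_dvd_coprimes hcop h2 h1
      exact orderOf_eq_one_iff.mp this
    rw [← MonoidHom.mem_ker, Abelianization.ker_of] at hone
    rw [← Subgroup.map_subtype_commutator]
    exact ⟨_, hone, rfl⟩
  · apply inf_le_inf_left
    rw [commutator_def]
    exact Subgroup.commutator_mono le_top le_top

/-- Let G be a finite solvable group, K a normal subgroup and U a subgroup with G = KU, and H ≤ U a subgroup whose order is coprime to that of K. Then H ∩ G' = H ∩ U'; N_G(H) is generated by K ∩ C_G(H) and U ∩ N_G(H); and if gHg⁻¹ ≤ U for some g ∈ G then g = u c with u ∈ U and c ∈ K ∩ C_G(H). -/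
theorem result {G : Type*} [Group G] [Finite G] [Group.IsSolvable G] (K U H : Subgroup G) [K.Normal] (hKU : K ⊔ U = ⊤) (hH : H ≤ U) (hcop : (Nat.card H).Coprime (Nat.card K)) :
    H ⊓ commutator G = H ⊓ ⁅U, U⁆ ∧
      Subgroup.normalizer (H : Set G) = (K ⊓ Subgroup.centralizer (H : Set G)) ⊔ (U ⊓ Subgroup.normalizer (H : Set G)) ∧
      ∀ g : G, H.map (MulAut.conj g).toMonoidHom ≤ U → ∃ u ∈ U, ∃ c ∈ K ⊓ Subgroup.centralizer (H : Set G), g = u * c :=
  ⟨part1 K U H hKU hH hcop, part2 K U H hKU hH hcop, fun g hg => part3 K U H hKU hH hcop g hg⟩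

end Cfsg.Agent.S1460
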