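import Mathlib
import Cfsg.Statements.S1461
import Cfsg.Agent.S1460
import Cfsg.Agent.Lib.Helper4.PLength

set_option autoImplicit false
open Cfsg
open scoped Pointwise
open Cfsg.Agent.Lib.Helper4

namespace Cfsg.Agent.S1461

variable {G : Type*} [Group G]

theorem coprime_of_le_sylow [Finite G] {p : ℕ} [Fact p.Prime] (S : Sylow p G) (K H : Subgroup G)
    (hK : (Nat.card K).Coprime p) (hH : H ≤ (S : Subgroup G)) : (Nat.card H).Coprime (Nat.card K) := by
  have hHp : IsPGroup p H := S.isPGroup'.to_le hH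
  obtain ⟨j, hj⟩ := IsPGroup.iff_card.mp hHp
  rw [hj]
  exact Nat.Coprime.pow_left j hK.symm

/-- Let G be a finite solvable group, p a prime with G = O_{p',p,p'}(G), and S a Sylow p-subgroup. Then: if S ≤ G' then S ≤ [N_G(S), N_G(S)]; if Y ⊆ S and xYx⁻¹ ⊆ S then x = g c for some g ∈ N_G(S) and c centralizing Y; and for every p-subgroup Q there is x ∈ C_G(Q ∩ S) with xQx⁻¹ ≤ S. -/
theorem result {G : Type*} [Group G] [Finite G] [Group.IsSolvable G] (p : ℕ) [Fact p.Prime] (hpl : Cfsg.PLengthLE p 1 G) (S : Sylow p G) :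
    ((S : Subgroup G) ≤ commutator G → (S : Subgroup G) ≤ ⁅Subgroup.normalizer ((S : Subgroup G) : Set G), Subgroup.normalizer ((S : Subgroup G) : Set G)⁆) ∧
      (∀ (Y : Set G) (x : G), Y ⊆ (S : Subgroup G) → (fun y => x * y * x⁻¹) '' Y ⊆ (S : Subgroup G) →
        ∃ g ∈ Subgroup.normalizer ((S : Subgroup G) : Set G), ∃ c ∈ Subgroup.centralizer Y, g * c = x) ∧
      ∀ Q : Subgroup G, IsPGroup p Q → ∃ x ∈ Subgroup.centralizer ((Q ⊓ (S : Subgroup G) : Subgroup G) : Set G), Q.map (MulAut.conj x).toMonoidHom ≤ (S : Subgroup G) := by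
  obtain ⟨hKp, _, hKU⟩ := plength_one_frattini p hpl S
  have hSU : (S : Subgroup G) ≤ Subgroup.normalizer ((S : Subgroup G) : Set G) := Subgroup.le_normalizer
  refine ⟨?_, ?_, ?_⟩
  · intro hSG
    have h1 := Cfsg.Agent.S1460.part1 (upperPSeries p G 1).1 (Subgroup.normalizer ((S : Subgroup G) : Set G))
      (S : Subgroup G) hKU hSU (coprime_of_le_sylow S _ _ hKp le_rfl)
    have h2 : (S : Subgroup G) ≤ (S : Subgroup G) ⊓ commutator G := le_inf le_rfl hSG
    rw [h1] at h2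
    exact h2.trans inf_le_right
  · intro Y x hY hYx
    have hH : Subgroup.closure Y ≤ (S : Subgroup G) := (Subgroup.closure_le _).mpr hY
    have hmap : (Subgroup.closure Y).map (MulAut.conj x).toMonoidHom ≤
        Subgroup.normalizer ((S : Subgroup G) : Set G) := by
      rw [MonoidHom.map_closure]
      refine ((Subgroup.closure_le _).mpr ?_).trans hSU
      rintro _ ⟨y, hy, rfl⟩
      exact hYx ⟨y, hy, by simp [MulAut.conj_apply]⟩
    obtain ⟨u, hu, c, hc, rfl⟩ := Cfsg.Agent.S1460.part3 (upperPSeries p G 1).1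
      (Subgroup.normalizer ((S : Subgroup G) : Set G)) (Subgroup.closure Y) hKU (hH.trans hSU)
      (coprime_of_le_sylow S _ _ hKp hH) x hmap
    refine ⟨u, hu, c, ?_, rfl⟩
    exact Subgroup.centralizer_le Subgroup.subset_closure hc.2
  · intro Q hQ
    obtain ⟨P', hP'⟩ := hQ.exists_le_sylow
    obtain ⟨g, rfl⟩ := MulAction.exists_smul_eq G S P'
    have hg : g ∈ (upperPSeries p G 1).1 ⊔ Subgroup.normalizer ((S : Subgroup G) : Set G) := by
      rw [hKU]; trivial
    rw [← SetLike.mem_coe, Subgroup.normal_mul] at hg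
    obtain ⟨k, hk, n, hn, rfl⟩ := hg
    -- k⁻¹ q k ∈ S for q ∈ Q
    have hconj : ∀ q ∈ Q, k⁻¹ * q * k ∈ (S : Subgroup G) := by
      intro q hq
      have h1 := hP' hq
      rw [Sylow.smul_def, Sylow.pointwise_smul_def, Subgroup.mem_pointwise_smul_iff_inv_smul_mem] at h1
      simp only [MulAut.smul_def, map_inv, MulAut.inv_apply, MulAut.conj_symm_apply] at h1
      -- h1 : (k*n)⁻¹ * q * (k*n) ∈ S
      have h2 := (Subgroup.mem_normalizer_iff.mp hn ((k * n)⁻¹ * q * (k * n))).mp h1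
      have e : n * ((k * n)⁻¹ * q * (k * n)) * n⁻¹ = k⁻¹ * q * k := by group
      rw [e] at h2
      exact h2
    have hR : (Q ⊓ (S : Subgroup G)) ≤ (S : Subgroup G) := inf_le_right
    have hmap : (Q ⊓ (S : Subgroup G)).map (MulAut.conj k⁻¹).toMonoidHom ≤
        Subgroup.normalizer ((S : Subgroup G) : Set G) := by
      rintro _ ⟨r, hr, rfl⟩
      apply hSU
      have := hconj r hr.1
      simpa [MulAut.conj_apply] using this
    obtain ⟨u, hu, c, hc, huc⟩ := Cfsg.Agent.S1460.part3 (upperPSeries p G 1).1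
      (Subgroup.normalizer ((S : Subgroup G) : Set G)) (Q ⊓ (S : Subgroup G)) hKU (hR.trans hSU)
      (coprime_of_le_sylow S _ _ hKp hR) k⁻¹ hmap
    refine ⟨c, hc.2, ?_⟩
    rintro _ ⟨q, hq, rfl⟩
    have h1 := hconj q hq
    have hu' : u⁻¹ ∈ Subgroup.normalizer ((S : Subgroup G) : Set G) := Subgroup.inv_mem _ hu
    have h2 := (Subgroup.mem_normalizer_iff.mp hu' (k⁻¹ * q * k)).mp h1
    have hc' : c = u⁻¹ * k⁻¹ := by rw [huc]; group
    have e : u⁻¹ * (k⁻¹ * q * k) * u⁻¹⁻¹ = c * q * c⁻¹ := by rw [hc']; group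
    rw [e] at h2
    simpa [MulAut.conj_apply] using h2

end Cfsg.Agent.S1461
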