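import Cfsg.Statements.S1472
import Cfsg.Agent.Lib.Helper1.AppCDefs
import Cfsg.Agent.Lib.Helper7.AppCFinal

set_option autoImplicit false
open Cfsg

namespace Cfsg.Agent.S1472

/-- Let p, q be primes with (p^q − 1)/(p − 1) coprime to p − 1, G a finite group, F a field with p ^ q elements, and P, U, Q subgroups of G with: f : G → F bijective from P onto F and additive on P; U normalizing P and acting through ψ : G → F, injective and multiplicative on U with ψ(u) ≠ 0 and f(uxu⁻¹) = ψ(u) f(x); #U · (p − 1) = p^q − 1; Q abelian of order coprime to p, normalized by every x ∈ P with f(x) in the prime field; and some y ∈ Q such that y x y⁻¹ normalizes U for every such x. Then p ≤ q. -/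
theorem result {G : Type*} [Group G] [Finite G] (p q : ℕ) [Fact p.Prime] [Fact q.Prime] (hA : Nat.Coprime ((p ^ q - 1) / (p - 1)) (p - 1))
    (F : Type*) [Field F] [Fintype F] (hF : Fintype.card F = p ^ q) (P U Q : Subgroup G) (f ψ : G → F)
    (hf : Set.BijOn f (P : Set G) Set.univ) (hfadd : ∀ x ∈ P, ∀ z ∈ P, f (x * z) = f x + f z)
    (hUP : U ≤ Subgroup.normalizer (P : Set G)) (hψ : ∀ u ∈ U, ψ u ≠ 0 ∧ ∀ x ∈ P, f (u * x * u⁻¹) = ψ u * f x)
    (hψmul : ∀ u ∈ U, ∀ v ∈ U, ψ (u * v) = ψ u * ψ v) (hψinj : Set.InjOn ψ (U : Set G)) (hUcard : Nat.card U * (p - 1) = p ^ q - 1)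
    (hQ : IsMulCommutative Q) (hQp : (Nat.card Q).Coprime p) (hP0Q : ∀ x ∈ P, f x ^ p = f x → x ∈ Subgroup.normalizer (Q : Set G))
    (y : G) (hy : y ∈ Q) (hP0U : ∀ x ∈ P, f x ^ p = f x → y * x * y⁻¹ ∈ Subgroup.normalizer (U : Set G)) :
    p ≤ q := by
  by_contra hlt
  have hqp : q < p := not_le.1 hlt
  have hp : p.Prime := Fact.out
  have hq : q.Prime := Fact.out
  -- `q = 2` is impossible
  have hq2 : q ≠ 2 := by
    rintro rfl
    have hp3 : 3 ≤ p := hqp
    have hodd : Odd p := hp.odd_of_ne_two (by omega)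
    have hdiv : (p ^ 2 - 1) / (p - 1) = p + 1 := by
      have h1 : p ^ 2 - 1 = (p + 1) * (p - 1) := by
        obtain ⟨k, rfl⟩ : ∃ k, p = k + 1 := ⟨p - 1, by omega⟩
        simp only [Nat.add_sub_cancel]
        ring_nf
        omega
      rw [h1, Nat.mul_div_cancel _ (by omega)]
    rw [hdiv] at hA
    obtain ⟨k, hk⟩ := hodd
    have h2a : 2 ∣ p + 1 := ⟨k + 1, by omega⟩
    have h2b : 2 ∣ p - 1 := ⟨k, by omega⟩
    have := Nat.dvd_gcd h2a h2b
    rw [hA] at this
    omega
  let c : Cfsg.Agent.Lib.AppC.Cfg G F p q :=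
    { P := P, U := U, Q := Q, f := f, ψ := ψ, y := y, hA := hA, hF := hF, hf := hf, hfadd := hfadd,
      hUP := hUP, hψ := hψ, hψmul := hψmul, hψinj := hψinj, hUcard := hUcard, hQ := hQ, hQp := hQp,
      hP0Q := hP0Q, hy := hy, hP0U := hP0U, hqp := hqp, hq2 := hq2 }
  exact c.contradiction

end Cfsg.Agent.S1472
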