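import Mathlib
import Cfsg.Statements.S1475
import Cfsg.Agent.Lib.Lead.HallThm
import Cfsg.Agent.Lib.Lead.HallThm4
import Cfsg.Agent.Lib.Lead.FpfCyclic
import Cfsg.Agent.Lib.Lead.CoprimeTools
-- import your own Cfsg.Agent.* helpers here

set_option autoImplicit false
open Cfsg Cfsg.Agent.Lib.Lead

namespace Cfsg.Agent.S1475

theorem not_isPrimePow_mul {s t : ℕ} (hs : s.Prime) (ht : t.Prime) (hst : s ≠ t) :
    ¬ IsPrimePow (s * t) := by
  intro h
  obtain ⟨l, k, hl, hk, hlk⟩ := (isPrimePow_nat_iff _).mp h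
  have h1 : s ∣ l ^ k := by rw [hlk]; exact dvd_mul_right s t
  have h2 : t ∣ l ^ k := by rw [hlk]; exact dvd_mul_left t s
  have h3 := (Nat.prime_dvd_prime_iff_eq hs hl).mp (hs.dvd_of_dvd_pow h1)
  have h4 := (Nat.prime_dvd_prime_iff_eq ht hl).mp (ht.dvd_of_dvd_pow h2)
  exact hst (h3.trans h4.symm)

theorem fpf_of_eppo {G : Type*} [Group G] [Finite G]
    (h : ∀ g : G, IsPrimePow (orderOf g) ∨ g = 1) (p : ℕ) (hp : p.Prime) (V : Subgroup G)
    (hVexp : ∀ x ∈ V, x ^ p = 1) (a : G) (ha : a ≠ 1) (hap : (orderOf a).Coprime p) :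
    V ⊓ Subgroup.centralizer ({a} : Set G) = ⊥ := by
  haveI : Fact p.Prime := ⟨hp⟩
  rw [Subgroup.eq_bot_iff_forall]
  intro v hv
  by_contra hv1
  have hov : orderOf v = p := orderOf_eq_prime (hVexp v hv.1) hv1
  have hcomm : Commute a v := by
    have := Subgroup.mem_centralizer_iff.mp hv.2 a (Set.mem_singleton a)
    exact this
  have hord : orderOf (a * v) = orderOf a * p := by
    rw [hcomm.orderOf_mul_eq_mul_orderOf_of_coprime (by rw [hov]; exact hap), hov]
  have hoa : orderOf a ≠ 1 := fun h1 => ha (orderOf_eq_one_iff.mp h1)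
  rcases h (a * v) with hpp | h1
  · rw [hord] at hpp
    obtain ⟨l, k, hl, hk, hlk⟩ := (isPrimePow_nat_iff _).mp hpp
    have h1 : p ∣ l ^ k := by rw [hlk]; exact dvd_mul_left p _
    have h3 := (Nat.prime_dvd_prime_iff_eq hp hl).mp (hp.dvd_of_dvd_pow h1)
    rw [← h3] at hlk
    have h4 : orderOf a ∣ p ^ k := by rw [hlk]; exact dvd_mul_right _ _
    exact hoa (Nat.Coprime.eq_one_of_dvd (Nat.Coprime.pow_right k hap) h4)
  · rw [h1, orderOf_one] at hord
    have := hp.two_le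
    have h5 : 0 < orderOf a := orderOf_pos a
    nlinarith

/-- Let G be a finite solvable group such that the order of every element is a prime power (1 included). Then at most two distinct primes divide the order of G. -/
theorem result {G : Type*} [Group G] [Finite G] [Group.IsSolvable G] (h : ∀ g : G, IsPrimePow (orderOf g) ∨ g = 1) :
    (Nat.card G).primeFactors.card ≤ 2 := by
  classical
  rcases subsingleton_or_nontrivial G with hsub | hnt
  · have hc : Nat.card G = 1 := Nat.card_eq_one_iff_unique.mpr ⟨hsub, ⟨1⟩⟩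
    rw [hc]; simp
  obtain ⟨p, V, hp, hVn, hVc, hVp, hV1, hVexp⟩ := exists_normal_abelian_pgroup (G := G)
  haveI : Fact p.Prime := ⟨hp⟩
  have hfpf := fpf_of_eppo h p hp V hVexp
  by_contra hcon
  push Not at hcon
  have hn0 : Nat.card G ≠ 0 := Nat.card_pos.ne'
  have hpG : p ∣ Nat.card G := by
    have h1 : p ∣ Nat.card V := by
      obtain ⟨k, hk⟩ := IsPGroup.iff_card.mp hVp
      rcases Nat.eq_zero_or_pos k with h0 | hpos
      · exfalso
        rw [h0, pow_zero] at hk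
        exact hV1 (Subgroup.card_eq_one.mp hk)
      · rw [hk]; exact dvd_pow_self p hpos.ne'
    exact h1.trans (Subgroup.card_subgroup_dvd_card V)
  have hpmem : p ∈ (Nat.card G).primeFactors := Nat.mem_primeFactors.mpr ⟨hp, hpG, hn0⟩
  have h2 : 1 < ((Nat.card G).primeFactors.erase p).card := by
    rw [Finset.card_erase_of_mem hpmem]; omega
  obtain ⟨q, hq, r, hr, hqr⟩ := Finset.one_lt_card.mp h2
  obtain ⟨hqp, hqmem⟩ := Finset.mem_erase.mp hq
  obtain ⟨hrp, hrmem⟩ := Finset.mem_erase.mp hr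
  have hqP : q.Prime := (Nat.mem_primeFactors.mp hqmem).1
  have hrP : r.Prime := (Nat.mem_primeFactors.mp hrmem).1
  have hqG : q ∣ Nat.card G := (Nat.mem_primeFactors.mp hqmem).2.1
  have hrG : r ∣ Nat.card G := (Nat.mem_primeFactors.mp hrmem).2.1
  -- Hall p'-subgroup
  have hHall := hallProp_of_solvable G
  have hfac : Nat.card G = ordCompl[p] (Nat.card G) * ordProj[p] (Nat.card G) := by
    rw [mul_comm]; exact (Nat.ordProj_mul_ordCompl_eq_self _ p).symm
  have hcop : (ordCompl[p] (Nat.card G)).Coprime (ordProj[p] (Nat.card G)) :=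
    Nat.Coprime.pow_right _ (Nat.coprime_ordCompl hp hn0).symm
  obtain ⟨Q, hQcard, -⟩ := (hHall _ _ hfac hcop).2 ⊥ (by rw [Subgroup.card_bot]; exact Nat.coprime_one_left _)
  have hQp : (Nat.card Q).Coprime p := by
    rw [hQcard]; exact (Nat.coprime_ordCompl hp hn0).symm
  have hdvdQ : ∀ l : ℕ, l.Prime → l ≠ p → l ∣ Nat.card G → l ∣ Nat.card Q := by
    intro l hl hlp hlG
    rw [hQcard]
    rw [hfac] at hlG
    have hc : l.Coprime (ordProj[p] (Nat.card G)) :=
      Nat.Coprime.pow_right _ ((Nat.coprime_primes hl hp).mpr hlp)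
    exact hc.dvd_of_dvd_mul_right hlG
  have hqQ := hdvdQ q hqP hqp hqG
  have hrQ := hdvdQ r hrP hrp hrG
  have hQfpf : ∀ a ∈ Q, a ≠ 1 → V ⊓ Subgroup.centralizer ({a} : Set G) = ⊥ := by
    intro a ha ha1
    apply hfpf a ha1
    have h1 : orderOf a ∣ Nat.card Q := by
      have := orderOf_dvd_natCard (⟨a, ha⟩ : Q)
      rwa [Subgroup.orderOf_mk] at this
    exact Nat.Coprime.coprime_dvd_left h1 hQp
  haveI hQnt : Nontrivial Q := by
    rw [← Finite.one_lt_card_iff_nontrivial]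
    exact lt_of_lt_of_le hqP.one_lt (Nat.le_of_dvd Nat.card_pos hqQ)
  obtain ⟨s, M', hs, hM'n, hM'c, hM'p, hM'1, hM'exp⟩ := exists_normal_abelian_pgroup (G := ↥Q)
  haveI : Fact s.Prime := ⟨hs⟩
  obtain ⟨N, hNdef⟩ : ∃ N : Subgroup G, N = M'.map Q.subtype := ⟨_, rfl⟩
  have hNQ : N ≤ Q := by rw [hNdef]; exact Subgroup.map_subtype_le _
  have hN1 : N ≠ ⊥ := by
    rw [hNdef]
    intro h0
    apply hM'1
    rwa [Subgroup.map_eq_bot_iff_of_injective _ Q.subtype_injective] at h0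
  have hNexp : ∀ x ∈ N, x ^ s = 1 := by
    rw [hNdef]
    rintro _ ⟨x, hx, rfl⟩
    have := hM'exp x hx
    rw [← map_pow, this, map_one]
  have hNcomm : IsMulCommutative N := by
    rw [hNdef]
    constructor
    constructor
    rintro ⟨_, ⟨a, ha, rfl⟩⟩ ⟨_, ⟨b, hb, rfl⟩⟩
    apply Subtype.ext
    have := hM'c.is_comm.comm ⟨a, ha⟩ ⟨b, hb⟩
    have h1 : a * b = b * a := congrArg Subtype.val this
    show Q.subtype a * Q.subtype b = Q.subtype b * Q.subtype a
    rw [← map_mul, ← map_mul, h1]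
  have hQN : Q ≤ Subgroup.normalizer (N : Set G) := by
    intro y hy
    rw [Subgroup.mem_normalizer_iff]
    intro x
    rw [hNdef]
    constructor
    · rintro ⟨a, ha, rfl⟩
      exact ⟨⟨y, hy⟩ * a * ⟨y, hy⟩⁻¹, hM'n.conj_mem a ha ⟨y, hy⟩, rfl⟩
    · rintro ⟨a, ha, hax⟩
      refine ⟨⟨y, hy⟩⁻¹ * a * ⟨y, hy⟩, ?_, ?_⟩
      · have := hM'n.conj_mem a ha ⟨y, hy⟩⁻¹
        simpa using this
      · have h1 : (a : G) = y * x * y⁻¹ := hax
        simp [h1, mul_assoc]
  have hVnorm : ∀ X : Subgroup G, X ≤ Subgroup.normalizer (V : Set G) := by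
    intro X
    rw [Subgroup.normalizer_eq_top]; exact le_top
  -- N is cyclic of order s
  have hNcyc : IsCyclic N := isCyclic_of_fpf_abelian N V hV1 (hVnorm N)
    (fun a ha ha1 => hQfpf a (hNQ ha) ha1) hNcomm
  have hNcard : Nat.card N = s := by
    obtain ⟨g, hg⟩ := hNcyc.exists_generator
    have h1 : orderOf g = Nat.card N := orderOf_eq_card_of_forall_mem_zpowers hg
    have h2 : g ^ s = 1 := by
      apply Subtype.ext
      rw [Subgroup.coe_pow]
      exact hNexp g g.2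
    have h3 : Nat.card N ∣ s := by rw [← h1]; exact orderOf_dvd_of_pow_eq_one h2
    rcases (Nat.dvd_prime hs).mp h3 with h4 | h4
    · exact absurd (Subgroup.card_eq_one.mp h4) hN1
    · exact h4
  have hsQ : s ∣ Nat.card Q := by rw [← hNcard]; exact Subgroup.card_dvd_of_le hNQ
  -- the other prime
  obtain ⟨t, ht, hts, htQ⟩ : ∃ t : ℕ, t.Prime ∧ t ≠ s ∧ t ∣ Nat.card Q := by
    by_cases hsq : q = s
    · exact ⟨r, hrP, fun h0 => hqr (hsq.trans h0.symm), hrQ⟩
    · exact ⟨q, hqP, hsq, hqQ⟩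
  haveI : Fact t.Prime := ⟨ht⟩
  obtain ⟨y', hy'⟩ := exists_prime_orderOf_dvd_card' (G := ↥Q) t htQ
  obtain ⟨y, hydef⟩ : ∃ y : G, y = (y' : G) := ⟨_, rfl⟩
  have hyQ : y ∈ Q := by rw [hydef]; exact y'.2
  have hyord : orderOf y = t := by rw [hydef, Subgroup.orderOf_coe]; exact hy'
  obtain ⟨A, hAdef⟩ : ∃ A : Subgroup G, A = Subgroup.zpowers y ⊔ N := ⟨_, rfl⟩
  have hAQ : A ≤ Q := by
    rw [hAdef]; exact sup_le (Subgroup.zpowers_le.mpr hyQ) hNQ
  have hdisj : Subgroup.zpowers y ⊓ N = ⊥ := by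
    apply Subgroup.inf_eq_bot_of_coprime
    rw [Nat.card_zpowers, hyord, hNcard]
    exact (Nat.coprime_primes ht hs).mpr hts
  have hAcard : Nat.card A = t * s := by
    rw [hAdef, card_sup_of_disjoint _ _ ((Subgroup.zpowers_le.mpr hyQ).trans hQN) hdisj,
      Nat.card_zpowers, hyord, hNcard]
  haveI := hVc
  have hAcyc : IsCyclic A := isCyclic_of_fpf_pq A V hV1 (hVnorm A)
    (fun a ha ha1 => hQfpf a (hAQ ha) ha1) t s ht hs hAcard
  obtain ⟨g, hg⟩ := hAcyc.exists_generator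
  have h1 : orderOf g = Nat.card A := orderOf_eq_card_of_forall_mem_zpowers hg
  have h3 : orderOf (g : G) = t * s := by rw [Subgroup.orderOf_coe, h1, hAcard]
  rcases h (g : G) with hpp | hg1
  · rw [h3] at hpp
    exact not_isPrimePow_mul ht hs hts hpp
  · rw [hg1, orderOf_one] at h3
    have := ht.two_le
    have := hs.two_le
    nlinarith

end Cfsg.Agent.S1475
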