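import Mathlib
import Cfsg.Statements.S1483
import Cfsg.Agent.Lib.Helper4.CNMax6
-- import your own Cfsg.Agent.* helpers here

set_option autoImplicit false
open Cfsg Cfsg.Agent.Lib.Helper4 Cfsg.Agent.Lib.Helper4.CNMax Cfsg.Agent.Lib.Helper7

namespace Cfsg.Agent.S1483

/-- Let G be a minimal simple group of odd order in which every non-identity element has nilpotent centralizer. Then any two nilpotent subgroups each contained in no larger nilpotent subgroup are either conjugate or of coprime orders; and for primes p, q, r: if some elements x, y ≠ 1 of p-power and q-power order commute, and some elements y', z ≠ 1 of q-power and r-power order commute, then some elements of p-power and r-power order, both ≠ 1, commute. -/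
theorem result {G : Type*} [Group G] [Finite G] (hG : Cfsg.IsMinSimpleOddOrder G) (hCN : Cfsg.IsCNGroup G) :
    (∀ H₁ H₂ : Subgroup G, (Group.IsNilpotent ↥H₁ ∧ ∀ L : Subgroup G, Group.IsNilpotent L → H₁ ≤ L → L = H₁) → (Group.IsNilpotent ↥H₂ ∧ ∀ L : Subgroup G, Group.IsNilpotent L → H₂ ≤ L → L = H₂) → (∃ g : G, H₂ = H₁.map (MulAut.conj g).toMonoidHom) ∨ (Nat.card H₁).Coprime (Nat.card H₂)) ∧
      ∀ (p q r : ℕ), p.Prime → q.Prime → r.Prime → ∀ (x y y' z : G), x ≠ 1 → y ≠ 1 → y' ≠ 1 → z ≠ 1 →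
        IsPGroup p (Subgroup.zpowers x) → IsPGroup q (Subgroup.zpowers y) → IsPGroup q (Subgroup.zpowers y') → IsPGroup r (Subgroup.zpowers z) →
        x * y = y * x → y' * z = z * y' →
        ∃ x' z' : G, x' ≠ 1 ∧ z' ≠ 1 ∧ IsPGroup p (Subgroup.zpowers x') ∧ IsPGroup r (Subgroup.zpowers z') ∧ x' * z' = z' * x' := by
  classical
  have hfin : Finite G := by
    apply Nat.finite_of_card_ne_zero
    intro h0
    rcases hG.1 with ⟨m, hm⟩
    omega
  constructor
  · intro H₁ H₂ h₁ h₂
    exact maxNilp_conj_or_coprime hCN (H₁ := H₁) (H₂ := H₂) h₁ h₂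
  · intro p q r hp hq hr x y y' z hx1 hy1 hy'1 hz1 hxp hyq hy'q hzr hxy hy'z
    haveI : Fact p.Prime := ⟨hp⟩
    haveI : Fact q.Prime := ⟨hq⟩
    haveI : Fact r.Prime := ⟨hr⟩
    -- a maximal nilpotent subgroup containing x, y
    have key : ∀ (a b : G), a ≠ 1 → a * b = b * a → ∃ H : Subgroup G, MaxNilp H ∧ a ∈ H ∧ b ∈ H := by
      intro a b ha1 hab
      obtain ⟨H, hle, hH⟩ := exists_maxNilp_ge (hCN a ha1)
      refine ⟨H, hH, hle ?_, hle ?_⟩
      · exact Subgroup.mem_centralizer_singleton_iff.mpr rfl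
      · exact Subgroup.mem_centralizer_singleton_iff.mpr hab.symm
    obtain ⟨H₁, h₁, hyH₁, hxH₁⟩ := key y x hy1 hxy.symm
    obtain ⟨H₂, h₂, hy'H₂, hzH₂⟩ := key y' z hy'1 hy'z
    have hdvd : ∀ (s : ℕ) [Fact s.Prime] (a : G) (H : Subgroup G), a ≠ 1 → a ∈ H →
        IsPGroup s (Subgroup.zpowers a) → s ∣ Nat.card H := by
      intro s _ a H ha1 haH has
      rcases has.card_eq_or_dvd with h | h
      · rw [Subgroup.card_eq_one, Subgroup.zpowers_eq_bot] at h
        exact absurd h ha1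
      · exact h.trans (Subgroup.card_dvd_of_le (Subgroup.zpowers_le.mpr haH))
    have hq1 := hdvd q y H₁ hy1 hyH₁ hyq
    have hq2 := hdvd q y' H₂ hy'1 hy'H₂ hy'q
    have hp1 := hdvd p x H₁ hx1 hxH₁ hxp
    have hr2 := hdvd r z H₂ hz1 hzH₂ hzr
    rcases maxNilp_conj_or_coprime hCN h₁ h₂ with ⟨g, hg⟩ | hc
    · -- conjugate: r divides |H₁|
      have hr1 : r ∣ Nat.card H₁ := by
        rw [hg, Subgroup.card_map_of_injective (MulAut.conj g).injective] at hr2
        exact hr2
      by_cases hpr : p = r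
      · subst hpr
        exact ⟨x, x, hx1, hx1, hxp, hxp, rfl⟩
      · obtain ⟨z', hz'H, hz'1, hz'r, -⟩ := exists_central_pElement (p := r) h₁.1 hr1
        refine ⟨x, z', hx1, hz'1, hxp, hz'r, ?_⟩
        apply commute_of_isNilpotent h₁.1 hxH₁ hz'H hxp
        obtain ⟨k, hk⟩ := IsPGroup.iff_card.mp hz'r
        rw [Nat.card_zpowers] at hk
        rw [hk]
        apply Nat.Coprime.pow_left
        exact (Nat.coprime_primes hr hp).mpr (Ne.symm hpr)
    · exfalso
      have := Nat.dvd_gcd hq1 hq2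
      rw [hc] at this
      exact hq.one_lt.ne' (Nat.dvd_one.mp this)

end Cfsg.Agent.S1483
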