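import Mathlib
import Cfsg.Statements.S1484
import Cfsg.Agent.Lib.Helper4.CNMax6
import Cfsg.Agent.Lib.Helper7.Wielandt1
-- import your own Cfsg.Agent.* helpers here

set_option autoImplicit false
open Cfsg Cfsg.Agent.Lib.Helper4 Cfsg.Agent.Lib.Helper4.CNMax Cfsg.Agent.Lib.Helper7

namespace Cfsg.Agent.S1484

/-- Let G be a minimal simple group of odd order in which every non-identity element has nilpotent centralizer, and M₁, …, M_k maximal subgroups, pairwise non-conjugate, such that every maximal subgroup is conjugate to some M_i. Let H_i be the largest normal nilpotent Hall subgroup of M_i. Then the orders of the H_i are pairwise coprime, their product is the order of G, and every element of G is conjugate to an element of some H_i. -/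
theorem result {G : Type*} [Group G] [Finite G] (hG : Cfsg.IsMinSimpleOddOrder G) (hCN : Cfsg.IsCNGroup G) (k : ℕ) (Mrep : Fin k → Subgroup G) (hmax : ∀ i, IsCoatom (Mrep i))
    (hnc : ∀ i j, i ≠ j → ∀ g : G, Mrep j ≠ (Mrep i).map (MulAut.conj g).toMonoidHom) (hall : ∀ M : Subgroup G, IsCoatom M → ∃ i, ∃ g : G, M = (Mrep i).map (MulAut.conj g).toMonoidHom) :
    (∀ i j, i ≠ j → (Nat.card (Cfsg.fittingHallOf (Mrep i))).Coprime (Nat.card (Cfsg.fittingHallOf (Mrep j)))) ∧
      ∏ i, Nat.card (Cfsg.fittingHallOf (Mrep i)) = Nat.card G ∧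
      ∀ x : G, ∃ i, ∃ g : G, g * x * g⁻¹ ∈ Cfsg.fittingHallOf (Mrep i) := by
  classical
  have hfin : Finite G := by
    apply Nat.finite_of_card_ne_zero
    intro h0
    rcases hG.1 with ⟨m, hm⟩
    omega
  have hmn : ∀ i, MaxNilp (Cfsg.fittingHallOf (Mrep i)) ∧
      Subgroup.normalizer (Cfsg.fittingHallOf (Mrep i) : Set G) = Mrep i :=
    fun i => fittingHallOf_maxNilp hG hCN (hmax i)
  -- every maximal nilpotent subgroup is conjugate to some `H_i`
  have hconj : ∀ H : Subgroup G, MaxNilp H → ∃ i, ∃ g : G, Cfsg.fittingHallOf (Mrep i) = cj g H := by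
    intro H hH
    obtain ⟨i, g₀, hg₀⟩ := hall _ (MaxNilp.normalizer_isCoatom hG hCN hH)
    refine ⟨i, g₀⁻¹, ?_⟩
    have h1 : Subgroup.normalizer ((cj g₀⁻¹ H : Subgroup G) : Set G) = Mrep i := by
      rw [normalizer_cj, hg₀]
      exact cj_inv_cj g₀ (Mrep i)
    have h2 := MaxNilp.eq_fittingHallOf hG hCN (hH.cj g₀⁻¹)
    rw [h1] at h2
    exact h2
  have hcop : ∀ i j, i ≠ j → (Nat.card (Cfsg.fittingHallOf (Mrep i))).Coprime
      (Nat.card (Cfsg.fittingHallOf (Mrep j))) := by
    intro i j hij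
    rcases maxNilp_conj_or_coprime hCN (hmn i).1 (hmn j).1 with ⟨g, hg⟩ | hc
    · exfalso
      apply hnc i j hij g
      have h1 : Subgroup.normalizer ((Cfsg.fittingHallOf (Mrep j) : Subgroup G) : Set G) =
          Subgroup.normalizer ((cj g (Cfsg.fittingHallOf (Mrep i)) : Subgroup G) : Set G) := by
        rw [hg]
      rw [normalizer_cj, (hmn i).2, (hmn j).2] at h1
      exact h1
    · exact hc
  -- every prime divisor of |G| divides some |H_i|
  have hprime : ∀ p : ℕ, p.Prime → p ∣ Nat.card G → ∃ i, p ∣ Nat.card (Cfsg.fittingHallOf (Mrep i)) := by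
    intro p hp hpG
    haveI : Fact p.Prime := ⟨hp⟩
    obtain ⟨P⟩ : Nonempty (Sylow p G) := inferInstance
    have hP1 : (P : Subgroup G) ≠ ⊥ := P.ne_bot_of_dvd_card hpG
    obtain ⟨H, hPH, hH⟩ := exists_maxNilp_ge P.isPGroup'.isNilpotent
    obtain ⟨i, g, hg⟩ := hconj H hH
    refine ⟨i, ?_⟩
    rw [hg, Subgroup.card_map_of_injective (MulAut.conj g).injective]
    have h1 : p ∣ Nat.card (P : Subgroup G) := by
      rcases P.isPGroup'.card_eq_or_dvd with h | h
      · exact absurd (Subgroup.card_eq_one.mp h) hP1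
      · exact h
    exact h1.trans (Subgroup.card_dvd_of_le hPH)
  refine ⟨hcop, ?_, ?_⟩
  · have hdvd : ∏ i, Nat.card (Cfsg.fittingHallOf (Mrep i)) ∣ Nat.card G := by
      apply Finset.prod_dvd_of_isRelPrime
      · intro i _ j _ hij
        exact Nat.coprime_iff_isRelPrime.mp (hcop i j hij)
      · intro i _
        exact Subgroup.card_subgroup_dvd_card _
    obtain ⟨c, hc⟩ := hdvd
    by_cases hc1 : c = 1
    · rw [hc, hc1, mul_one]
    exfalso
    obtain ⟨p, hp, hpc⟩ := Nat.exists_prime_and_dvd hc1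
    have hpG : p ∣ Nat.card G := by rw [hc]; exact Dvd.dvd.mul_left hpc _
    obtain ⟨i, hi⟩ := hprime p hp hpG
    have h1 : Nat.card (Cfsg.fittingHallOf (Mrep i)) ∣ ∏ i, Nat.card (Cfsg.fittingHallOf (Mrep i)) :=
      Finset.dvd_prod_of_mem _ (Finset.mem_univ i)
    obtain ⟨m', hm'⟩ := h1
    have h2 := Subgroup.card_mul_index (Cfsg.fittingHallOf (Mrep i))
    have h3 : (Cfsg.fittingHallOf (Mrep i)).index = m' * c := by
      rw [hc, hm', mul_assoc] at h2
      have hpos : 0 < Nat.card (Cfsg.fittingHallOf (Mrep i)) := Nat.card_pos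
      exact Nat.eq_of_mul_eq_mul_left hpos h2
    have h4 : p ∣ (Cfsg.fittingHallOf (Mrep i)).index := by
      rw [h3]; exact Dvd.dvd.mul_left hpc _
    have h5 := Nat.dvd_gcd hi h4
    rw [(hmn i).1.coprime_index hCN] at h5
    exact hp.one_lt.ne' (Nat.dvd_one.mp h5)
  · intro x
    by_cases hx1 : x = 1
    · have := hG.2.1
      obtain h | ⟨M, hM, -⟩ := IsCoatomic.eq_top_or_exists_le_coatom (⊥ : Subgroup G)
      · exact absurd h bot_ne_top
      · obtain ⟨i, -, -⟩ := hall M hM
        refine ⟨i, 1, ?_⟩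
        rw [hx1]
        simp only [mul_one, inv_one]
        exact Subgroup.one_mem _
    · obtain ⟨H, hle, hH⟩ := exists_maxNilp_ge (hCN x hx1)
      have hxH : x ∈ H := hle (Subgroup.mem_centralizer_singleton_iff.mpr rfl)
      obtain ⟨i, g, hg⟩ := hconj H hH
      refine ⟨i, g, ?_⟩
      rw [hg]
      exact ⟨x, hxH, rfl⟩

end Cfsg.Agent.S1484
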