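import Mathlib
import Cfsg.Statements.S1488
import Cfsg.Agent.Lib.Helper1.IndFun
import Cfsg.Agent.Lib.Lead.HallTools

set_option autoImplicit false
open Cfsg

namespace Cfsg.Agent.S1488

open Cfsg.Agent.Lib.Helper1

theorem sum_comp_mk {G : Type*} [Group G] [Fintype G] (A : Subgroup G) [A.Normal]
    [Fintype (G ⧸ A)] (F : G ⧸ A → ℂ) :
    ∑ x : G, F (QuotientGroup.mk' A x) = (Nat.card A : ℂ) * ∑ y : G ⧸ A, F y := by
  classical
  rw [← Finset.sum_fiberwise (s := (Finset.univ : Finset G)) (g := fun x => QuotientGroup.mk' A x)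
    (f := fun x => F (QuotientGroup.mk' A x)), Finset.mul_sum]
  refine Finset.sum_congr rfl fun y _ => ?_
  have h1 : ∀ x ∈ Finset.univ.filter (fun x : G => QuotientGroup.mk' A x = y),
      F (QuotientGroup.mk' A x) = F y := by
    intro x hx
    rw [(Finset.mem_filter.mp hx).2]
  rw [Finset.sum_congr rfl h1, Finset.sum_const, nsmul_eq_mul]
  congr 2
  have := QuotientGroup.card_preimage_mk A ({y} : Set (G ⧸ A))
  have hy : Nat.card ({y} : Set (G ⧸ A)) = 1 := by simp
  rw [hy, mul_one] at this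
  rw [← this, Nat.card_eq_fintype_card, Fintype.card_subtype]
  congr 1
  ext x
  rw [Finset.mem_filter, Finset.mem_filter]
  simp

theorem ext_eq {G : Type*} [Group G] (A H : Subgroup G) [A.Normal] (hAH : A ≤ H)
    (θ : H → ℂ) (θ₁ : ↥(H.map (QuotientGroup.mk' A)) → ℂ)
    (hθ : ∀ x : H, θ₁ ⟨QuotientGroup.mk' A x, Subgroup.mem_map_of_mem _ x.2⟩ = θ x) (z : G) :
    Cfsg.extendByZero (H.map (QuotientGroup.mk' A)) θ₁ (QuotientGroup.mk' A z)
      = Cfsg.extendByZero H θ z := by
  by_cases hz : z ∈ H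
  · rw [extendByZero_of_mem H θ hz, extendByZero_of_mem _ θ₁ (Subgroup.mem_map_of_mem _ hz)]
    exact hθ ⟨z, hz⟩
  · rw [extendByZero_of_notMem H θ hz, extendByZero_of_notMem]
    rintro ⟨h, hh, he⟩
    apply hz
    have : h⁻¹ * z ∈ A := by
      have := QuotientGroup.eq.mp he
      exact this
    have h2 : z = h * (h⁻¹ * z) := by group
    rw [h2]
    exact H.mul_mem hh (hAH this)

/-- Let A be a normal subgroup of the finite group G contained in the subgroup H, let θ be a function on H and θ₁ a function on the image of H in G ⧸ A whose composite with the projection is θ. Then the function induced from θ₁ to G ⧸ A, composed with the projection G → G ⧸ A, equals the function induced from θ to G. -/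
theorem result {G : Type*} [Group G] [Fintype G] (A H : Subgroup G) [A.Normal] (hAH : A ≤ H) [Fintype (G ⧸ A)] [Fintype ↥(H.map (QuotientGroup.mk' A))] (θ : H → ℂ) (θ₁ : ↥(H.map (QuotientGroup.mk' A)) → ℂ) (hθ : ∀ x : H, θ₁ ⟨QuotientGroup.mk' A x, Subgroup.mem_map_of_mem _ x.2⟩ = θ x) (g : G) : Cfsg.indFun (H.map (QuotientGroup.mk' A)) θ₁ (QuotientGroup.mk' A g) = Cfsg.indFun H θ g := by
  classical
  rw [indFun_apply, indFun_apply]
  have h1 : ∑ x : G, Cfsg.extendByZero H θ (x⁻¹ * g * x)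
      = ∑ x : G, (fun y : G ⧸ A => Cfsg.extendByZero (H.map (QuotientGroup.mk' A)) θ₁
          (y⁻¹ * QuotientGroup.mk' A g * y)) (QuotientGroup.mk' A x) := by
    refine Finset.sum_congr rfl fun x _ => ?_
    rw [← ext_eq A H hAH θ θ₁ hθ]
    simp
  rw [h1, sum_comp_mk A (fun y : G ⧸ A => Cfsg.extendByZero (H.map (QuotientGroup.mk' A)) θ₁
          (y⁻¹ * QuotientGroup.mk' A g * y))]
  have h2 := Cfsg.Agent.Lib.Lead.card_map_mk_mul A H
  rw [inf_eq_right.mpr hAH] at h2
  have hA0 : (Nat.card A : ℂ) ≠ 0 := Nat.cast_ne_zero.mpr Nat.card_pos.ne'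
  have hM0 : (Nat.card (H.map (QuotientGroup.mk' A)) : ℂ) ≠ 0 := Nat.cast_ne_zero.mpr Nat.card_pos.ne'
  rw [← h2]
  push_cast
  field_simp

end Cfsg.Agent.S1488
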