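import Mathlib
import Cfsg.Statements.S1491
import Cfsg.Agent.Lib.Helper4.Gallagher2
-- import your own Cfsg.Agent.* helpers here

set_option autoImplicit false
open Cfsg

namespace Cfsg.Agent.S1491

/-- Let H be a normal subgroup of the finite group G and θ an irreducible character of H with inertia group T, where T/H is abelian (commutators of T lie in H) and the index of H in T is coprime to the order of H. Then the function induced from θ is the sum of a set of exactly [T:H] irreducible characters of G, each of degree [G:T] * θ(1). -/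
theorem result {G : Type*} [Group G] [Fintype G] (H T : Subgroup G) [hN : H.Normal] (θ : H → ℂ) (hθ : Cfsg.IsIrrCharacter H θ) (hT : ∀ g : G, g ∈ T ↔ ∀ h : H, θ ⟨g * h * g⁻¹, hN.conj_mem h h.2 g⟩ = θ h) (hab : ∀ x ∈ T, ∀ y ∈ T, x * y * x⁻¹ * y⁻¹ ∈ H) (hcop : Nat.Coprime (Nat.card H) (H.relIndex T)) : ∃ C : Finset (G → ℂ), (∀ χ ∈ C, Cfsg.IsIrrCharacter G χ) ∧ C.card = H.relIndex T ∧ Cfsg.indFun H θ = ∑ χ ∈ C, χ ∧ ∀ χ ∈ C, χ 1 = (T.index : ℂ) * θ 1 := by
  classical
  have hTi : T = Cfsg.Agent.Lib.Helper1.inertia H θ := by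
    ext g
    rw [hT g, Cfsg.Agent.Lib.Helper1.mem_inertia]
    constructor
    · intro h
      funext x
      exact h x
    · intro h x
      exact congrFun h x
  have : Fintype T := Fintype.ofFinite T
  have hNT : H ≤ T := by
    rw [hTi]
    exact Cfsg.Agent.Lib.Helper1.le_inertia H (Cfsg.Agent.Lib.Helper1.isClassFunction_irr hθ)
  have hθ'irr : Cfsg.IsIrrCharacter (H.subgroupOf T)
      (fun x : H.subgroupOf T => θ ⟨((x : T) : G), Subgroup.mem_subgroupOf.mp x.2⟩) :=
    Cfsg.Agent.Lib.Helper1.isIrrCharacter_comp_mulEquiv hθ (Subgroup.subgroupOfEquivOfLe hNT)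
  have hab' : ∀ x y : T, x * y * x⁻¹ * y⁻¹ ∈ H.subgroupOf T := by
    intro x y
    rw [Subgroup.mem_subgroupOf]
    exact hab x x.2 y y.2
  obtain ⟨e, he0, hgal⟩ := Cfsg.Agent.Lib.Helper4.gallagher_abelian (H.subgroupOf T) hab' _ hθ'irr
    (Cfsg.Agent.Lib.Helper4.inertia_fix H θ T hTi)
  obtain ⟨C, hC1, hC2, hC3, hC4⟩ :=
    Cfsg.Agent.Lib.Helper4.induced_inertia_of_uniform H θ hθ T hTi e he0 hgal
  have hcardN : Nat.card (H.subgroupOf T) = Nat.card H :=
    Nat.card_congr (Subgroup.subgroupOfEquivOfLe hNT).toEquiv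
  have hrel : H.relIndex T * Nat.card H = Nat.card T := by
    have h1 := Subgroup.index_mul_card (H.subgroupOf T)
    rw [hcardN] at h1
    exact h1
  -- e divides the relative index
  have he_rel : e ∣ H.relIndex T := by
    have h1 : e ^ 2 * C.card * Nat.card H = H.relIndex T * Nat.card H := by rw [hC2, hrel]
    have h2 := Nat.eq_of_mul_eq_mul_right Nat.card_pos h1
    exact ⟨e * C.card, by rw [← h2]; ring⟩
  -- e divides the order of H
  have he_H : e ∣ Nat.card H := by
    have hcop' : Nat.Coprime (Nat.card (H.subgroupOf T)) (H.subgroupOf T).index := by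
      rw [hcardN]
      exact hcop
    obtain ⟨A, hA⟩ := Subgroup.exists_right_complement'_of_coprime hcop'
    obtain ⟨hk, hk0⟩ := Cfsg.Agent.Lib.Helper8.irr_apply_one_eq_charDegree hθ'irr
    have hdvd := Cfsg.Agent.Lib.Helper8.charDegree_dvd_card hθ'irr
    rw [hcardN] at hdvd
    refine dvd_trans ?_ hdvd
    refine Cfsg.Agent.Lib.Helper4.uniform_mult_dvd_degree (H.subgroupOf T) _ hθ'irr e
      (fun ψ hψ hc => (hgal ψ hψ hc).1) A ?_ ?_ _ hk
    · rw [inf_comm]
      exact hA.disjoint.eq_bot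
    · rw [mul_comm]
      exact hA.card_mul_card
  have he1 : e = 1 := Nat.eq_one_of_dvd_coprimes hcop he_H he_rel
  subst he1
  refine ⟨C, hC1, ?_, ?_, ?_⟩
  · have h1 : 1 ^ 2 * C.card * Nat.card H = H.relIndex T * Nat.card H := by rw [hC2, hrel]
    have h2 := Nat.eq_of_mul_eq_mul_right Nat.card_pos h1
    simpa using h2
  · rw [hC3]
    simp
  · intro χ hχ
    rw [hC4 χ hχ]
    simp

end Cfsg.Agent.S1491
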