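import Mathlib
import Cfsg.Statements.S1493
import Cfsg.Agent.Lib.Helper4.GaloisTwist
-- import your own Cfsg.Agent.* helpers here

set_option autoImplicit false
open Cfsg

namespace Cfsg.Agent.S1493

/-- Let G be a finite group of order a * b with a and b coprime, let k be coprime to a, and let χ be a character of G. Then there is a character χ' of G such that χ'(g) = χ(g ^ k) whenever the order of g divides a and χ'(g) = χ(g) whenever the order of g is coprime to a; moreover χ' is irreducible if χ is. -/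
theorem result {G : Type*} [Group G] [Finite G] (a b k : ℕ) (hab : Nat.card G = a * b) (hcop : Nat.Coprime a b) (hk : Nat.Coprime k a) (χ : G → ℂ) (hχ : Cfsg.IsCharacter G χ) : ∃ χ' : G → ℂ, Cfsg.IsCharacter G χ' ∧ (Cfsg.IsIrrCharacter G χ → Cfsg.IsIrrCharacter G χ') ∧ (∀ g : G, orderOf g ∣ a → χ' g = χ (g ^ k)) ∧ (∀ g : G, Nat.Coprime (orderOf g) a → χ' g = χ g) := by
  classical
  have : Fintype G := Fintype.ofFinite G
  have hn0 : NeZero (a * b) := ⟨by rw [← hab]; exact Nat.card_pos.ne'⟩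
  obtain ⟨m, hma, hmb⟩ := Nat.chineseRemainder hcop k 1
  have hca : Nat.Coprime m a := by
    have h1 := hma.gcd_eq
    unfold Nat.Coprime
    rw [h1]
    exact hk
  have hcb : Nat.Coprime m b := by
    have h1 := hmb.gcd_eq
    unfold Nat.Coprime
    rw [h1]
    exact Nat.gcd_one_left b
  have hcn : Nat.Coprime m (a * b) := Nat.Coprime.mul_right hca hcb
  obtain ⟨τ, hτ⟩ := Cfsg.Agent.Lib.Helper4.exists_complex_aut_pow (a * b) m hcn
  have hgn : ∀ g : G, g ^ (a * b) = 1 := by
    intro g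
    rw [← hab]
    exact pow_card_eq_one'
  have hval : ∀ g : G, (τ : ℂ →+* ℂ) (χ g) = χ (g ^ m) := fun g =>
    Cfsg.Agent.Lib.Helper4.twist_apply (τ : ℂ →+* ℂ) (a * b) m hτ hχ g (hgn g)
  refine ⟨fun g => (τ : ℂ →+* ℂ) (χ g),
    Cfsg.Agent.Lib.Helper4.isCharacter_twist (τ : ℂ →+* ℂ) hχ,
    fun hirr => Cfsg.Agent.Lib.Helper4.isIrrCharacter_twist (τ : ℂ →+* ℂ) hirr, ?_, ?_⟩
  · intro g hg
    show (τ : ℂ →+* ℂ) (χ g) = _
    rw [hval g]
    congr 1
    rw [pow_eq_pow_iff_modEq]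
    exact hma.of_dvd hg
  · intro g hg
    show (τ : ℂ →+* ℂ) (χ g) = _
    rw [hval g]
    congr 1
    have hdvd : orderOf g ∣ b := by
      have h1 : orderOf g ∣ a * b := orderOf_dvd_of_pow_eq_one (hgn g)
      exact hg.dvd_of_dvd_mul_left h1
    conv_rhs => rw [← pow_one g]
    rw [pow_eq_pow_iff_modEq]
    exact hmb.of_dvd hdvd

end Cfsg.Agent.S1493
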