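import Mathlib
import Cfsg.Statements.S1495
-- import your own Cfsg.Agent.* helpers here

set_option autoImplicit false
open Cfsg

namespace Cfsg.Agent.S1495

open Finset in
/-- Let p be a prime, ε = exp(2πi/p), and n an integer such that n = (1 − ε) * ω for some algebraic integer ω. Then p divides n. -/
theorem result (p : ℕ) (hp : p.Prime) (n : ℤ) (ω : ℂ) (hω : IsIntegral ℤ ω) (h : (n : ℂ) = (1 - Complex.exp (2 * Real.pi * Complex.I / p)) * ω) : (p : ℤ) ∣ n := by
  set ε : ℂ := Complex.exp (2 * Real.pi * Complex.I / p) with hε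
  have hprim : IsPrimitiveRoot ε p := Complex.isPrimitiveRoot_exp p hp.ne_zero
  have hεint : IsIntegral ℤ ε := hprim.isIntegral hp.pos
  have hp1 : p - 1 + 1 = p := Nat.sub_add_cancel hp.one_le
  have hprod : ∏ k ∈ range (p - 1), (1 - ε ^ (k + 1)) = (p : ℂ) := by
    have hprim' : IsPrimitiveRoot ε (p - 1 + 1) := by rw [hp1]; exact hprim
    have := IsPrimitiveRoot.prod_one_sub_pow_eq_order hprim'
    rw [this]
    have : ((p - 1 : ℕ) : ℂ) + 1 = ((p - 1 + 1 : ℕ) : ℂ) := by push_cast; ring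
    rw [this, hp1]
  -- for each k, 1 - ε = (1 - ε^(k+1)) * γ with γ integral
  have hγ : ∀ k ∈ range (p - 1), ∃ γ : ℂ, IsIntegral ℤ γ ∧ (1 - ε) = (1 - ε ^ (k + 1)) * γ := by
    intro k hk
    have hk' : k + 1 < p := by
      have := mem_range.mp hk; omega
    have hcop : Nat.Coprime (k + 1) p := by
      apply Nat.Coprime.symm
      apply (Nat.Prime.coprime_iff_not_dvd hp).mpr
      intro hd
      have := Nat.le_of_dvd (Nat.succ_pos k) hd
      omega
    -- m with (k+1) * m ≡ 1 mod p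
    obtain ⟨m, -, hm⟩ := Nat.exists_mul_mod_eq_one_of_coprime hcop hp.one_lt
    refine ⟨∑ j ∈ range m, (ε ^ (k + 1)) ^ j, ?_, ?_⟩
    · apply IsIntegral.sum
      intro j _
      exact (hεint.pow _).pow _
    · rw [mul_neg_geom_sum, ← pow_mul]
      congr 1
      have : ε ^ ((k + 1) * m) = ε ^ (((k + 1) * m) % p) := by
        conv_lhs => rw [← Nat.div_add_mod ((k + 1) * m) p]
        rw [pow_add, pow_mul, hprim.pow_eq_one, one_pow, one_mul]
      rw [this, hm, pow_one]
  choose! γ hγint hγeq using hγ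
  have key : ((n : ℂ)) ^ (p - 1) = (p : ℂ) * ∏ k ∈ range (p - 1), (γ k * ω) := by
    rw [← hprod, ← prod_mul_distrib]
    have : ((n : ℂ)) ^ (p - 1) = ∏ _k ∈ range (p - 1), (n : ℂ) := by
      rw [prod_const, card_range]
    rw [this]
    apply prod_congr rfl
    intro k hk
    rw [h, hγeq k hk]
    ring
  set δ : ℂ := ∏ k ∈ range (p - 1), (γ k * ω) with hδ
  have hδint : IsIntegral ℤ δ := by
    apply IsIntegral.prod
    intro k hk
    exact (hγint k hk).mul hω
  have hpne : (p : ℂ) ≠ 0 := Nat.cast_ne_zero.mpr hp.ne_zero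
  have hδq : δ = algebraMap ℚ ℂ ((n : ℚ) ^ (p - 1) / p) := by
    have : δ = (n : ℂ) ^ (p - 1) / p := by
      rw [key]; field_simp
    rw [this]
    simp
  rw [hδq] at hδint
  have hint : IsIntegral ℤ ((n : ℚ) ^ (p - 1) / p) :=
    (isIntegral_algebraMap_iff (algebraMap ℚ ℂ).injective).mp hδint
  obtain ⟨y, hy⟩ := IsIntegrallyClosed.isIntegral_iff.mp hint
  have hpq : (p : ℚ) ≠ 0 := Nat.cast_ne_zero.mpr hp.ne_zero
  have hy' : (n : ℚ) ^ (p - 1) = p * y := by
    have : (y : ℚ) = (n : ℚ) ^ (p - 1) / p := by simpa using hy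
    rw [this]; field_simp
  have hz : n ^ (p - 1) = (p : ℤ) * y := by
    exact_mod_cast hy'
  have hpi : Prime (p : ℤ) := Nat.prime_iff_prime_int.mp hp
  exact hpi.dvd_of_dvd_pow ⟨y, hz⟩

end Cfsg.Agent.S1495
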