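import Mathlib
import Cfsg.Statements.S1496
import Cfsg.Agent.Lib.Helper4.CyclicSZ

set_option autoImplicit false
open Cfsg

namespace Cfsg.Agent.S1496

open Cfsg.Agent.Lib.Helper4

/-- Let H be a subgroup of the finite group G and g an element normalising H whose order is coprime to the order of H. Then for every h ∈ H there are x ∈ H and c ∈ H commuting with g such that x * (h * g) * x⁻¹ = c * g. -/
theorem result {G : Type*} [Group G] [Finite G] (H : Subgroup G) (g : G) (hg : g ∈ Subgroup.normalizer (H : Set G)) (hcop : Nat.Coprime (orderOf g) (Nat.card H)) (h : G) (hh : h ∈ H) : ∃ x ∈ H, ∃ c ∈ H, c * g = g * c ∧ x * (h * g) * x⁻¹ = c * g := by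
  set n := orderOf g with hn
  have hnpos : 0 < n := orderOf_pos g
  set m := Nat.card H with hm
  set y := h * g with hy
  have hyg : y * g⁻¹ ∈ H := by
    have : y * g⁻¹ = h := by rw [hy]; group
    rw [this]; exact hh
  obtain ⟨α, β, hαβ⟩ := Nat.isCoprime_iff_coprime.mpr hcop
  -- α n + β m = 1 ; z = y ^ (β m)
  set z := y ^ (β * (m : ℤ)) with hz
  have hgn : g ^ n = 1 := pow_orderOf_eq_one g
  have hynH : y ^ n ∈ H := by
    have := zpow_mul_inv_mem H g y hg hyg (n : ℤ)
    rw [zpow_natCast, zpow_natCast, hgn, inv_one, mul_one] at this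
    exact this
  have hynm : (y ^ n) ^ m = 1 := by
    have h1 : (⟨y ^ n, hynH⟩ : H) ^ Nat.card H = 1 := pow_card_eq_one'
    have h2 : (((⟨y ^ n, hynH⟩ : H) ^ Nat.card H : H) : G) = ((1 : H) : G) := by rw [h1]
    rw [Subgroup.coe_pow, Subgroup.coe_one] at h2
    exact h2
  have hzn : z ^ n = 1 := by
    rw [hz, ← zpow_natCast, ← zpow_mul]
    have : β * (m : ℤ) * (n : ℤ) = ((n * m : ℕ) : ℤ) * β := by push_cast; ring
    rw [this, zpow_mul, zpow_natCast, pow_mul, hynm, one_zpow]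
  have hzg : z * g⁻¹ ∈ H := by
    have h1 := zpow_mul_inv_mem H g y hg hyg (β * (m : ℤ))
    have h2 : g ^ (β * (m : ℤ)) = g := by
      have : β * (m : ℤ) = 1 - α * n := by rw [← hαβ]; ring
      rw [this, zpow_sub, zpow_one, zpow_mul', zpow_natCast, hgn, one_zpow, inv_one, mul_one]
    rw [h2] at h1
    exact h1
  obtain ⟨x, hx, hxe⟩ := conj_of_cyclic_complement n hnpos H g z hg hcop hgn hzn hzg
  have hyz : y * z⁻¹ ∈ H := by
    have : y * z⁻¹ = (y * g⁻¹) * (z * g⁻¹)⁻¹ := by group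
    rw [this]
    exact H.mul_mem hyg (H.inv_mem hzg)
  have hcomm : (y * z⁻¹) * z = z * (y * z⁻¹) := by
    have h1 : y * z = z * y := by
      rw [hz]
      rw [← zpow_one_add, ← zpow_add_one, add_comm]
    calc (y * z⁻¹) * z = y := by group
      _ = z * y * z⁻¹ := by rw [← h1]; group
      _ = z * (y * z⁻¹) := by group
  refine ⟨x, hx, x * (y * z⁻¹) * x⁻¹, ?_, ?_, ?_⟩
  · -- x normalises H
    exact H.mul_mem (H.mul_mem hx hyz) (H.inv_mem hx)
  · rw [← hxe]
    calc x * (y * z⁻¹) * x⁻¹ * (x * z * x⁻¹) = x * ((y * z⁻¹) * z) * x⁻¹ := by group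
      _ = x * (z * (y * z⁻¹)) * x⁻¹ := by rw [hcomm]
      _ = x * z * x⁻¹ * (x * (y * z⁻¹) * x⁻¹) := by group
  · rw [← hxe]
    group

end Cfsg.Agent.S1496
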