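import Mathlib
import Cfsg.Statements.S1497

set_option autoImplicit false
open Cfsg

namespace Cfsg.Agent.S1497

/-- Let A be a nonempty subset of the finite group G not containing 1 and L a subgroup. Then A is a TI-subset whose normaliser is L if and only if the Dade hypothesis holds for A, L and the constant choice H(a) = ⊥. -/
theorem result {G : Type*} [Group G] [Finite G] (A : Set G) (hA : A.Nonempty) (h1 : (1 : G) ∉ A) (L : Subgroup G) : (Cfsg.IsTISubset A ∧ Subgroup.normalizer A = L) ↔ Cfsg.DadeHypothesis A L (fun _ => ⊥) := by
  constructor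
  · rintro ⟨hTI, rfl⟩
    have hAN : ∀ a ∈ A, ∀ c : G, c * a * c⁻¹ ∈ A → c ∈ Subgroup.normalizer A := by
      intro a ha c hc
      by_contra hcn
      have := hTI c hcn a ha hc
      rw [this] at ha
      exact h1 ha
    refine
      { one_not_mem := h1
        subset := ?_
        conj_mem := ?_
        fusion := ?_
        le_centralizer := fun a _ => bot_le
        conj_mem_H := ?_
        inf_eq_bot := fun a _ => bot_inf_eq _
        sup_eq := ?_
        coprime := ?_ }
    · intro a ha
      apply hAN a ha a
      simpa using ha
    · intro x hx a ha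
      exact ((Subgroup.mem_set_normalizer_iff.mp hx) a).mp ha
    · intro a ha g hg
      exact ⟨g, hAN a ha g hg, rfl⟩
    · intro a _ c _ u hu
      rw [Subgroup.mem_bot] at hu ⊢
      rw [hu]; group
    · intro a ha
      rw [bot_sup_eq, inf_eq_right]
      intro c hc
      apply hAN a ha c
      have : c * a = a * c := by
        rw [Subgroup.mem_centralizer_iff] at hc
        exact (hc a rfl).symm
      have e : c * a * c⁻¹ = a := by rw [this]; group
      rwa [e]
    · intro a _ b _
      simp
  · intro hD
    have hcent : ∀ a ∈ A, Subgroup.centralizer ({a} : Set G) ≤ L := by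
      intro a ha
      have := hD.sup_eq a ha
      rw [bot_sup_eq] at this
      exact inf_eq_right.mp this
    have hkey : ∀ a ∈ A, ∀ g : G, g * a * g⁻¹ ∈ A → g ∈ L := by
      intro a ha g hg
      obtain ⟨x, hx, hxa⟩ := hD.fusion a ha g hg
      have hc : x⁻¹ * g ∈ Subgroup.centralizer ({a} : Set G) := by
        rw [Subgroup.mem_centralizer_iff]
        intro y hy
        rw [Set.mem_singleton_iff] at hy
        subst hy
        calc y * (x⁻¹ * g) = x⁻¹ * (x * y * x⁻¹) * g := by group
          _ = x⁻¹ * (g * y * g⁻¹) * g := by rw [hxa]
          _ = x⁻¹ * g * y := by group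
      have := L.mul_mem hx (hcent a ha hc)
      have e : x * (x⁻¹ * g) = g := by group
      rwa [e] at this
    have hLN : L ≤ Subgroup.normalizer A := by
      intro x hx
      rw [Subgroup.mem_set_normalizer_iff]
      intro n
      constructor
      · intro hn; exact hD.conj_mem x hx n hn
      · intro hn
        have := hD.conj_mem x⁻¹ (L.inv_mem hx) _ hn
        have e : x⁻¹ * (x * n * x⁻¹) * x⁻¹⁻¹ = n := by group
        rwa [e] at this
    have hNL : Subgroup.normalizer A ≤ L := by
      intro g hg
      obtain ⟨a, ha⟩ := hA
      exact hkey a ha g (((Subgroup.mem_set_normalizer_iff.mp hg) a).mp ha)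
    refine ⟨?_, le_antisymm hNL hLN⟩
    intro g hg x hx hgx
    exact absurd (hLN (hkey x hx g hgx)) hg

end Cfsg.Agent.S1497
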