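import Mathlib
import Cfsg.Statements.S1498
-- import your own Cfsg.Agent.* helpers here

set_option autoImplicit false
open Cfsg

namespace Cfsg.Agent.S1498

/-- If `Q` normalises `N`, `N ⊓ Q = ⊥`, `K ≤ N ⊔ Q` and `|K|` is coprime to `|Q|` then `K ≤ N`. -/
theorem le_of_coprime {G : Type*} [Group G] [Finite G] (N Q K : Subgroup G)
    (hQN : Q ≤ Subgroup.normalizer (N : Set G)) (hNQ : N ⊓ Q = ⊥) (hK : K ≤ N ⊔ Q)
    (hcop : (Nat.card K).Coprime (Nat.card Q)) : K ≤ N := by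
  intro k hk
  have hk' : k ∈ ((N ⊔ Q : Subgroup G) : Set G) := hK hk
  rw [Subgroup.coe_mul_of_right_le_normalizer_left N Q hQN] at hk'
  obtain ⟨n, hn, q, hq, rfl⟩ := hk'
  have hn : n ∈ N := hn
  have hq : q ∈ Q := hq
  have claim : ∀ j : ℕ, ∃ n' ∈ N, (n * q) ^ j = n' * q ^ j := by
    intro j
    induction j with
    | zero => exact ⟨1, N.one_mem, by simp⟩
    | succ j ih =>
      obtain ⟨n', hn', h⟩ := ih
      have hqj : q ^ j ∈ Subgroup.normalizer (N : Set G) := hQN (Q.pow_mem hq j)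
      have h2 : q ^ j * n * (q ^ j)⁻¹ ∈ N := (Subgroup.mem_normalizer_iff.mp hqj n).mp hn
      refine ⟨n' * (q ^ j * n * (q ^ j)⁻¹), N.mul_mem hn' h2, ?_⟩
      rw [pow_succ, h, pow_succ]
      group
  obtain ⟨n', hn', h⟩ := claim (Nat.card K)
  have hpow : (n * q) ^ Nat.card K = 1 := by
    have h1 : (⟨n * q, hk⟩ : K) ^ Nat.card K = 1 := pow_card_eq_one'
    have h2 : (((⟨n * q, hk⟩ : K) ^ Nat.card K : K) : G) = ((1 : K) : G) := by rw [h1]
    rw [Subgroup.coe_pow, Subgroup.coe_one] at h2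
    exact h2
  rw [hpow] at h
  have hqm : q ^ Nat.card K ∈ N ⊓ Q := by
    refine ⟨?_, Q.pow_mem hq _⟩
    have : q ^ Nat.card K = n'⁻¹ := by
      rw [eq_comm, inv_eq_iff_mul_eq_one]; exact h.symm
    rw [this]; exact N.inv_mem hn'
  rw [hNQ, Subgroup.mem_bot] at hqm
  have h1 : orderOf q ∣ Nat.card K := orderOf_dvd_of_pow_eq_one hqm
  have h2 : orderOf q ∣ Nat.card Q := Subgroup.orderOf_dvd_natCard Q hq
  have h3 := Nat.dvd_gcd h1 h2
  rw [hcop.gcd_eq_one] at h3
  have hq1 : q = 1 := orderOf_eq_one_iff.mp (Nat.dvd_one.mp h3)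
  subst hq1
  simpa using hn

theorem key {G : Type*} [Group G] [Finite G] (A : Set G) (L : Subgroup G) (H : G → Subgroup G)
    (hD : Cfsg.DadeHypothesis A L H) (a : G) (ha : a ∈ A) (x : G) (hx : x ∈ L) :
    (H a).map (MulAut.conj x).toMonoidHom ≤ H (x * a * x⁻¹) := by
  have ha' : x * a * x⁻¹ ∈ A := hD.conj_mem x hx a ha
  set a' := x * a * x⁻¹ with ha'def
  apply le_of_coprime (H a') (L ⊓ Subgroup.centralizer ({a'} : Set G))
  · intro q hq
    rw [Subgroup.mem_normalizer_iff]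
    intro u
    constructor
    · intro hu; exact hD.conj_mem_H a' ha' q hq.2 u hu
    · intro hu
      have := hD.conj_mem_H a' ha' q⁻¹ (Subgroup.inv_mem _ hq.2) _ hu
      have h2 : q⁻¹ * (q * u * q⁻¹) * q⁻¹⁻¹ = u := by group
      rw [h2] at this; exact this
  · exact hD.inf_eq_bot a' ha'
  · rw [hD.sup_eq a' ha']
    rintro _ ⟨u, hu, rfl⟩
    have huc : u ∈ Subgroup.centralizer ({a} : Set G) := hD.le_centralizer a ha hu
    rw [Subgroup.mem_centralizer_iff] at huc ⊢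
    intro y hy
    rw [Set.mem_singleton_iff] at hy
    subst hy
    have h1 := huc a rfl
    simp only [MulEquiv.coe_toMonoidHom, MulAut.conj_apply, ha'def]
    calc x * a * x⁻¹ * (x * u * x⁻¹) = x * (a * u) * x⁻¹ := by group
      _ = x * (u * a) * x⁻¹ := by rw [h1]
      _ = x * u * x⁻¹ * (x * a * x⁻¹) := by group
  · have hcard : Nat.card ((H a).map (MulAut.conj x).toMonoidHom) = Nat.card (H a) :=
      Subgroup.card_map_of_injective (MulAut.conj x).injective
    rw [hcard]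
    exact hD.coprime a ha a' ha'

/-- Under the Dade hypothesis for (A, L, H): for a ∈ A and x ∈ L, the subgroup attached to x * a * x⁻¹ is the conjugate of H a by x. -/
theorem result {G : Type*} [Group G] [Finite G] (A : Set G) (L : Subgroup G) (H : G → Subgroup G) (hD : Cfsg.DadeHypothesis A L H) (a : G) (ha : a ∈ A) (x : G) (hx : x ∈ L) : H (x * a * x⁻¹) = (H a).map (MulAut.conj x).toMonoidHom := by
  apply le_antisymm _ (key A L H hD a ha x hx)
  have ha' : x * a * x⁻¹ ∈ A := hD.conj_mem x hx a ha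
  have h := key A L H hD (x * a * x⁻¹) ha' x⁻¹ (L.inv_mem hx)
  have h2 : x⁻¹ * (x * a * x⁻¹) * x⁻¹⁻¹ = a := by group
  rw [h2] at h
  intro u hu
  refine ⟨x⁻¹ * u * x, ?_, ?_⟩
  · apply h
    refine ⟨u, hu, ?_⟩
    simp [MulAut.conj_apply]
  · simp only [MulEquiv.coe_toMonoidHom, MulAut.conj_apply]
    group

end Cfsg.Agent.S1498
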