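import Mathlib
import Cfsg.Statements.S1499
import Cfsg.Agent.Lib.Helper4.Dade
-- import your own Cfsg.Agent.* helpers here

set_option autoImplicit false
open Cfsg

namespace Cfsg.Agent.S1499

/-- Under the Dade hypothesis for (A, L, H), let a, b ∈ A. If an element of the coset a·H(a) is conjugate in G to an element of b·H(b), then a and b are conjugate by an element of L. Moreover the set normaliser of the coset a·H(a) is the centraliser of a. -/
theorem result {G : Type*} [Group G] [Finite G] (A : Set G) (L : Subgroup G) (H : G → Subgroup G) (hD : Cfsg.DadeHypothesis A L H) (a b : G) (ha : a ∈ A) (hb : b ∈ A) : ((∃ u ∈ H a, ∃ v ∈ H b, ∃ g : G, g * (a * u) * g⁻¹ = b * v) → ∃ x ∈ L, x * a * x⁻¹ = b) ∧ Subgroup.normalizer ((fun u : G => a * u) '' (H a : Set G)) = Subgroup.centralizer ({a} : Set G) := by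
  constructor
  · rintro ⟨u, hu, v, hv, g, hg⟩
    have h1 := Cfsg.Agent.Lib.Helper4.dade_key hD ha hb hu hv hg
    obtain ⟨x, hx, hxa⟩ := hD.fusion a ha g (by rw [h1]; exact hb)
    exact ⟨x, hx, hxa.trans h1⟩
  · ext g
    rw [Subgroup.mem_set_normalizer_iff, Subgroup.mem_centralizer_iff]
    constructor
    · intro hg y hy
      rw [Set.mem_singleton_iff] at hy
      subst hy
      have h1 : y ∈ (fun u : G => y * u) '' (H y : Set G) := ⟨1, (H y).one_mem, mul_one y⟩
      obtain ⟨v, hv, hv'⟩ := (hg y).1 h1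
      have h2 : g * (y * 1) * g⁻¹ = y * v := by
        rw [mul_one]
        exact hv'.symm
      have h3 := Cfsg.Agent.Lib.Helper4.dade_key hD ha ha (H y).one_mem hv h2
      calc y * g = (g * y * g⁻¹) * g := by rw [h3]
        _ = g * y := by group
    · intro hg
      have hgc : g ∈ Subgroup.centralizer ({a} : Set G) := by
        rw [Subgroup.mem_centralizer_iff]
        exact hg
      have hga : g * a = a * g := (hg a rfl).symm
      have hga' : g⁻¹ * a = a * g⁻¹ := by
        have := (Subgroup.mem_centralizer_iff.1 (inv_mem hgc)) a rfl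
        exact this.symm
      intro h
      constructor
      · rintro ⟨u, hu, rfl⟩
        refine ⟨g * u * g⁻¹, hD.conj_mem_H a ha g hgc u hu, ?_⟩
        show a * (g * u * g⁻¹) = g * (a * u) * g⁻¹
        calc a * (g * u * g⁻¹) = (a * g) * u * g⁻¹ := by group
          _ = (g * a) * u * g⁻¹ := by rw [hga]
          _ = g * (a * u) * g⁻¹ := by group
      · rintro ⟨w, hw, hw'⟩
        refine ⟨g⁻¹ * w * g⁻¹⁻¹, hD.conj_mem_H a ha g⁻¹ (inv_mem hgc) w hw, ?_⟩
        show a * (g⁻¹ * w * g⁻¹⁻¹) = h
        have hw'' : a * w = g * h * g⁻¹ := hw'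
        calc a * (g⁻¹ * w * g⁻¹⁻¹) = (a * g⁻¹) * w * g := by group
          _ = (g⁻¹ * a) * w * g := by rw [hga']
          _ = g⁻¹ * (a * w) * g := by group
          _ = g⁻¹ * (g * h * g⁻¹) * g := by rw [hw'']
          _ = h := by group

end Cfsg.Agent.S1499
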