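import Mathlib
import Cfsg.Statements.S1503
import Cfsg.Agent.Lib.Helper4.CyclicTI
import Cfsg.Agent.Lib.Helper4.DualSum
import Cfsg.Agent.S0146

set_option autoImplicit false
open Cfsg

namespace Cfsg.Agent.S1503

open Cfsg.Agent.Lib.Helper4 Cfsg.Agent.Lib.Helper1
open scoped ComplexConjugate

/-- Let W₁, W₂ ≤ G with W = W₁ ⊔ W₂ and let χ an orthonormal family of irreducible characters of G up to sign, indexed by the linear characters ω of W, with χ_1 = 1, χ_ω = ω on W outside W₁ ∪ W₂, and the induction identity for (1 − φ)(1 − ψ). If θ is an irreducible character of G orthogonal to χ ω for every linear character ω of W, then θ vanishes at every element of W lying outside W₁ ∪ W₂. -/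
theorem result {G : Type*} [Group G] [Fintype G] (W₁ W₂ : Subgroup G) (hW : Cfsg.IsSelfNormalizingCyclic W₁ W₂) (χ : (↥(W₁ ⊔ W₂) →* ℂˣ) → (G → ℂ)) (hχ : Cfsg.IsCyclicTIFamily W₁ W₂ χ) (θ : G → ℂ) (hθ : Cfsg.IsIrrCharacter G θ) (horth : ∀ ω, Cfsg.classInner θ (χ ω) = 0) (w : ↥(W₁ ⊔ W₂)) (hw₁ : (w : G) ∉ W₁) (hw₂ : (w : G) ∉ W₂) : θ w = 0 := by
  classical
  haveI : Fintype ↥(W₁ ⊔ W₂) := Fintype.ofFinite _
  have hcomm : ∀ a b : ↥(W₁ ⊔ W₂), a * b = b * a := by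
    intro a b
    apply Subtype.ext
    exact snc_comm hW a.2 b.2
  set H₁ : Subgroup ↥(W₁ ⊔ W₂) := W₁.subgroupOf (W₁ ⊔ W₂) with hH₁
  set H₂ : Subgroup ↥(W₁ ⊔ W₂) := W₂.subgroupOf (W₁ ⊔ W₂) with hH₂
  have hd : H₁ ⊓ H₂ = ⊥ := by
    rw [eq_bot_iff]
    intro v hv
    have h1 : (v : G) ∈ W₁ := hv.1
    have h2 : (v : G) ∈ W₂ := hv.2
    have : (v : G) ∈ W₁ ⊓ W₂ := ⟨h1, h2⟩
    rw [hW.2.2.1, Subgroup.mem_bot] at this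
    rw [Subgroup.mem_bot]
    exact Subtype.ext this
  haveI : Fintype (trivOn H₁) := Fintype.ofFinite _
  haveI : Fintype (trivOn H₂) := Fintype.ofFinite _
  have hclass : Cfsg.IsClassFunction G θ := isClassFunction_of_isCharacter (isCharacter_of_irr hθ)
  -- the vanishing of the pairings
  have hZ : ∀ (φ : trivOn H₂) (ψ : trivOn H₁),
      ∑ v : ↥(W₁ ⊔ W₂), ((1 - (((φ : ↥(W₁ ⊔ W₂) →* ℂˣ) v : ℂˣ) : ℂ)) *
        (1 - (((ψ : ↥(W₁ ⊔ W₂) →* ℂˣ) v : ℂˣ) : ℂ))) * conj (θ v) = 0 := by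
    rintro ⟨φ, hφ⟩ ⟨ψ, hψ⟩
    simp only
    by_cases h1 : φ = 1
    · subst h1; simp
    by_cases h2 : ψ = 1
    · subst h2; simp
    have hφ₂ : ∀ v : ↥(W₁ ⊔ W₂), (v : G) ∈ W₂ → φ v = 1 := fun v hv => hφ v hv
    have hψ₁ : ∀ v : ↥(W₁ ⊔ W₂), (v : G) ∈ W₁ → ψ v = 1 := fun v hv => hψ v hv
    have hind := hχ.induced_eq φ ψ h1 h2 hφ₂ hψ₁
    have hfun : (fun g => 1 - χ φ g - χ ψ g + χ (φ * ψ) g) = χ 1 - χ φ - χ ψ + χ (φ * ψ) := by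
      funext g
      simp [hχ.map_one]
    rw [hfun] at hind
    have h0 : Cfsg.classInner (Cfsg.indFun (W₁ ⊔ W₂)
        (fun v => 1 - (φ v : ℂ) - (ψ v : ℂ) + (φ v : ℂ) * (ψ v : ℂ))) θ = 0 := by
      rw [hind, classInner_add_left, classInner_sub_left, classInner_sub_left,
        classInner_eq_zero_symm (horth 1), classInner_eq_zero_symm (horth φ),
        classInner_eq_zero_symm (horth ψ), classInner_eq_zero_symm (horth (φ * ψ))]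
      ring
    rw [Cfsg.Agent.S0146.result _ _ _ hclass, classInner_def] at h0
    have hcard : (Nat.card ↥(W₁ ⊔ W₂) : ℂ)⁻¹ ≠ 0 :=
      inv_ne_zero (Nat.cast_ne_zero.mpr Nat.card_pos.ne')
    have h3 := (mul_eq_zero.mp h0).resolve_left hcard
    rw [← h3]
    refine Finset.sum_congr rfl fun v _ => ?_
    ring
  -- combine
  have hw₁' : w ∉ H₁ := hw₁
  have hw₂' : w ∉ H₂ := hw₂
  have hsum : ∑ v : ↥(W₁ ⊔ W₂), (∑ φ : trivOn H₂, ∑ ψ : trivOn H₁,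
      ((((φ : ↥(W₁ ⊔ W₂) →* ℂˣ) w)⁻¹ : ℂˣ) : ℂ) * ((((ψ : ↥(W₁ ⊔ W₂) →* ℂˣ) w)⁻¹ : ℂˣ) : ℂ) *
        ((1 - (((φ : ↥(W₁ ⊔ W₂) →* ℂˣ) v : ℂˣ) : ℂ)) * (1 - (((ψ : ↥(W₁ ⊔ W₂) →* ℂˣ) v : ℂˣ) : ℂ))))
        * conj (θ v) = 0 := by
    simp_rw [Finset.sum_mul]
    rw [Finset.sum_comm]
    apply Finset.sum_eq_zero
    intro φ _
    rw [Finset.sum_comm]
    apply Finset.sum_eq_zero
    intro ψ _
    have := hZ φ ψ
    have e : ∀ v : ↥(W₁ ⊔ W₂),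
        ((((φ : ↥(W₁ ⊔ W₂) →* ℂˣ) w)⁻¹ : ℂˣ) : ℂ) * ((((ψ : ↥(W₁ ⊔ W₂) →* ℂˣ) w)⁻¹ : ℂˣ) : ℂ) *
        ((1 - (((φ : ↥(W₁ ⊔ W₂) →* ℂˣ) v : ℂˣ) : ℂ)) * (1 - (((ψ : ↥(W₁ ⊔ W₂) →* ℂˣ) v : ℂˣ) : ℂ)))
        * conj (θ v)
        = (((((φ : ↥(W₁ ⊔ W₂) →* ℂˣ) w)⁻¹ : ℂˣ) : ℂ) * ((((ψ : ↥(W₁ ⊔ W₂) →* ℂˣ) w)⁻¹ : ℂˣ) : ℂ)) *
        (((1 - (((φ : ↥(W₁ ⊔ W₂) →* ℂˣ) v : ℂˣ) : ℂ)) * (1 - (((ψ : ↥(W₁ ⊔ W₂) →* ℂˣ) v : ℂˣ) : ℂ)))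
        * conj (θ v)) := by
      intro v; ring
    rw [Finset.sum_congr rfl fun v _ => e v, ← Finset.mul_sum, this, mul_zero]
  rw [Finset.sum_eq_single w] at hsum
  · rw [delta_sum_eq hcomm H₁ H₂ w hw₁' hw₂'] at hsum
    have hc1 : (Fintype.card (trivOn H₂) : ℂ) ≠ 0 := Nat.cast_ne_zero.mpr Fintype.card_ne_zero
    have hc2 : (Fintype.card (trivOn H₁) : ℂ) ≠ 0 := Nat.cast_ne_zero.mpr Fintype.card_ne_zero
    have := (mul_eq_zero.mp hsum).resolve_left (mul_ne_zero hc1 hc2)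
    simpa using this
  · intro v _ hv
    rw [delta_sum_ne hcomm H₁ H₂ hd w v hw₁' hw₂' hv, zero_mul]
  · intro h; exact absurd (Finset.mem_univ w) h

end Cfsg.Agent.S1503
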