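import Mathlib
import Cfsg.Statements.S1504
-- import your own Cfsg.Agent.* helpers here

set_option autoImplicit false
open Cfsg

namespace Cfsg.Agent.S1504

section
variable {W : Type*} [Group W] [Fintype W]

/-- the pairing `Σ_w F(w) χ(w)⁻¹` -/
noncomputable def ell (χ : W →* ℂˣ) (F : W → ℂ) : ℂ := ∑ w : W, F w * ((χ⁻¹ w : ℂˣ) : ℂ)

theorem ell_add (χ : W →* ℂˣ) (F F' : W → ℂ) : ell χ (F + F') = ell χ F + ell χ F' := by
  simp only [ell, Pi.add_apply, add_mul, Finset.sum_add_distrib]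

theorem ell_sub (χ : W →* ℂˣ) (F F' : W → ℂ) : ell χ (F - F') = ell χ F - ell χ F' := by
  simp only [ell, Pi.sub_apply, sub_mul, Finset.sum_sub_distrib]

theorem ell_smul (χ : W →* ℂˣ) (c : ℂ) (F : W → ℂ) : ell χ (c • F) = c * ell χ F := by
  simp only [ell, Pi.smul_apply, smul_eq_mul, Finset.mul_sum, mul_assoc]

theorem ell_sum {ι : Type*} (χ : W →* ℂˣ) (s : Finset ι) (F : ι → W → ℂ) :
    ell χ (∑ i ∈ s, F i) = ∑ i ∈ s, ell χ (F i) := by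
  classical
  induction s using Finset.induction_on with
  | empty => simp [ell]
  | insert i s hi ih => rw [Finset.sum_insert hi, Finset.sum_insert hi, ell_add, ih]

theorem ell_hom (χ χ' : W →* ℂˣ) :
    ell χ (fun w => ((χ' w : ℂˣ) : ℂ)) = if χ' = χ then (Fintype.card W : ℂ) else 0 := by
  classical
  have h1 : ell χ (fun w => ((χ' w : ℂˣ) : ℂ)) = ∑ w : W, ((Units.coeHom ℂ).comp (χ' * χ⁻¹)) w := by
    simp only [ell]
    apply Finset.sum_congr rfl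
    intro w _
    simp
  rw [h1]
  split_ifs with h
  · subst h
    simp
  · apply sum_hom_units_eq_zero
    intro h2
    apply h
    have h3 : χ' * χ⁻¹ = 1 := by
      ext w
      have := DFunLike.congr_fun h2 w
      simpa using this
    exact mul_inv_eq_one.mp h3

end

/-- Let W₁, W₂ be subgroups of a finite group with W₁ ⊓ W₂ = ⊥ whose elements commute, and W = W₁ ⊔ W₂. For linear characters φ, ψ of W with φ trivial on W₂ and ψ trivial on W₁, the function (1 − φ)(1 − ψ) vanishes on W₁ ∪ W₂; and the family of these functions, indexed by pairs (φ, ψ) with φ ≠ 1 ≠ ψ, is linearly independent over ℂ. -/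
theorem result {G : Type*} [Group G] [Finite G] (W₁ W₂ : Subgroup G) (hdisj : W₁ ⊓ W₂ = ⊥) (hcomm : ∀ a ∈ W₁, ∀ b ∈ W₂, a * b = b * a) : (∀ φ ψ : ↥(W₁ ⊔ W₂) →* ℂˣ, (∀ w : ↥(W₁ ⊔ W₂), (w : G) ∈ W₂ → φ w = 1) → (∀ w : ↥(W₁ ⊔ W₂), (w : G) ∈ W₁ → ψ w = 1) → ∀ w : ↥(W₁ ⊔ W₂), ((w : G) ∈ W₁ ∨ (w : G) ∈ W₂) → (1 - (φ w : ℂ) - (ψ w : ℂ) + (φ w : ℂ) * (ψ w : ℂ)) = 0) ∧ LinearIndependent ℂ (fun p : {p : (↥(W₁ ⊔ W₂) →* ℂˣ) × (↥(W₁ ⊔ W₂) →* ℂˣ) // p.1 ≠ 1 ∧ p.2 ≠ 1 ∧ (∀ w : ↥(W₁ ⊔ W₂), (w : G) ∈ W₂ → p.1 w = 1) ∧ (∀ w : ↥(W₁ ⊔ W₂), (w : G) ∈ W₁ → p.2 w = 1)} => fun w : ↥(W₁ ⊔ W₂) => 1 - (p.1.1 w : ℂ) - (p.1.2 w : ℂ) + (p.1.1 w : ℂ) * (p.1.2 w : ℂ)) := by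
  classical
  haveI : Fintype ↥(W₁ ⊔ W₂) := Fintype.ofFinite _
  constructor
  · intro φ ψ hφ hψ w hw
    rcases hw with hw | hw
    · rw [hψ w hw]; simp
    · rw [hφ w hw]; simp
  · -- decomposition
    have hdecomp : ∀ w : ↥(W₁ ⊔ W₂), ∃ w₁ : ↥(W₁ ⊔ W₂), ∃ w₂ : ↥(W₁ ⊔ W₂),
        (w₁ : G) ∈ W₁ ∧ (w₂ : G) ∈ W₂ ∧ w = w₁ * w₂ := by
      intro w
      have hnorm : W₂ ≤ Subgroup.normalizer (W₁ : Set G) := by
        intro b hb
        rw [Subgroup.mem_normalizer_iff]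
        intro a
        constructor
        · intro ha
          have : b * a * b⁻¹ = a := by rw [← hcomm a ha b hb]; group
          rw [this]; exact ha
        · intro ha
          have h1 : b * a * b⁻¹ * b = b * (b * a * b⁻¹) := hcomm _ ha b hb
          have : a = b * a * b⁻¹ := by
            have h2 : b * a = b * (b * a * b⁻¹) := by rw [← h1]; group
            have h3 := mul_left_cancel h2
            exact h3
          rw [this]; exact ha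
      have hw : (w : G) ∈ ((W₁ ⊔ W₂ : Subgroup G) : Set G) := w.2
      rw [Subgroup.coe_mul_of_right_le_normalizer_left W₁ W₂ hnorm] at hw
      obtain ⟨a, ha, b, hb, hab⟩ := hw
      refine ⟨⟨a, le_sup_left (a := W₁) ha⟩, ⟨b, le_sup_right (a := W₁) hb⟩, ha, hb, ?_⟩
      apply Subtype.ext
      exact hab.symm
    rw [linearIndependent_iff']
    intro s g hsum p₀ hp₀
    obtain ⟨⟨φ₀, ψ₀⟩, hφ₀, hψ₀, hφ₀t, hψ₀t⟩ := p₀
    simp only at hφ₀ hψ₀ hφ₀t hψ₀t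
    -- witnesses
    have hw₁ : ∃ w₁ : ↥(W₁ ⊔ W₂), (w₁ : G) ∈ W₁ ∧ φ₀ w₁ ≠ 1 := by
      by_contra hcon
      push Not at hcon
      apply hφ₀
      ext w
      obtain ⟨w₁, w₂, h1, h2, rfl⟩ := hdecomp w
      rw [map_mul, hcon w₁ h1, hφ₀t w₂ h2]
      simp
    have hw₂ : ∃ w₂ : ↥(W₁ ⊔ W₂), (w₂ : G) ∈ W₂ ∧ ψ₀ w₂ ≠ 1 := by
      by_contra hcon
      push Not at hcon
      apply hψ₀
      ext w
      obtain ⟨w₁, w₂, h1, h2, rfl⟩ := hdecomp w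
      rw [map_mul, hcon w₂ h2, hψ₀t w₁ h1]
      simp
    obtain ⟨w₁, hw₁W, hw₁ne⟩ := hw₁
    obtain ⟨w₂, hw₂W, hw₂ne⟩ := hw₂
    have hm1 : (φ₀ * ψ₀) w₁ ≠ 1 := by
      rw [MonoidHom.mul_apply, hψ₀t w₁ hw₁W, mul_one]; exact hw₁ne
    have hm2 : (φ₀ * ψ₀) w₂ ≠ 1 := by
      rw [MonoidHom.mul_apply, hφ₀t w₂ hw₂W, one_mul]; exact hw₂ne
    -- apply ell
    have hℓ := congrArg (ell (φ₀ * ψ₀)) hsum
    rw [ell_sum] at hℓ
    have hzero : ell (φ₀ * ψ₀) (0 : ↥(W₁ ⊔ W₂) → ℂ) = 0 := by simp [ell]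
    rw [hzero] at hℓ
    have hterm : ∀ p : {p : (↥(W₁ ⊔ W₂) →* ℂˣ) × (↥(W₁ ⊔ W₂) →* ℂˣ) // p.1 ≠ 1 ∧ p.2 ≠ 1 ∧ (∀ w : ↥(W₁ ⊔ W₂), (w : G) ∈ W₂ → p.1 w = 1) ∧ (∀ w : ↥(W₁ ⊔ W₂), (w : G) ∈ W₁ → p.2 w = 1)},
        ell (φ₀ * ψ₀) (g p • fun w : ↥(W₁ ⊔ W₂) => 1 - (p.1.1 w : ℂ) - (p.1.2 w : ℂ) + (p.1.1 w : ℂ) * (p.1.2 w : ℂ)) =
          if p.1 = (φ₀, ψ₀) then g p * (Fintype.card ↥(W₁ ⊔ W₂) : ℂ) else 0 := by
      rintro ⟨⟨φ, ψ⟩, hφ, hψ, hφt, hψt⟩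
      simp only
      rw [ell_smul]
      have e : (fun w : ↥(W₁ ⊔ W₂) => 1 - (φ w : ℂ) - (ψ w : ℂ) + (φ w : ℂ) * (ψ w : ℂ)) =
          (fun w => (((1 : ↥(W₁ ⊔ W₂) →* ℂˣ) w : ℂˣ) : ℂ)) - (fun w => ((φ w : ℂˣ) : ℂ))
            - (fun w => ((ψ w : ℂˣ) : ℂ)) + (fun w => (((φ * ψ) w : ℂˣ) : ℂ)) := by
        ext w
        simp
      rw [e, ell_add, ell_sub, ell_sub, ell_hom, ell_hom, ell_hom, ell_hom]
      have n1 : (1 : ↥(W₁ ⊔ W₂) →* ℂˣ) ≠ φ₀ * ψ₀ := by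
        intro h
        apply hm1
        rw [← h]; rfl
      have n2 : φ ≠ φ₀ * ψ₀ := by
        intro h
        apply hm2
        rw [← h]; exact hφt w₂ hw₂W
      have n3 : ψ ≠ φ₀ * ψ₀ := by
        intro h
        apply hm1
        rw [← h]; exact hψt w₁ hw₁W
      rw [if_neg n1, if_neg n2, if_neg n3]
      by_cases hpp : (φ, ψ) = (φ₀, ψ₀)
      · rw [if_pos hpp]
        have h1 : φ = φ₀ := (Prod.mk.inj hpp).1
        have h2 : ψ = ψ₀ := (Prod.mk.inj hpp).2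
        have h3 : φ * ψ = φ₀ * ψ₀ := by rw [h1, h2]
        rw [if_pos h3]
        ring
      · rw [if_neg hpp]
        have : φ * ψ ≠ φ₀ * ψ₀ := by
          intro h
          apply hpp
          have hφeq : φ = φ₀ := by
            ext w
            obtain ⟨u₁, u₂, h1, h2, rfl⟩ := hdecomp w
            rw [map_mul, map_mul, hφt u₂ h2, hφ₀t u₂ h2, mul_one, mul_one]
            have := DFunLike.congr_fun h u₁
            rw [MonoidHom.mul_apply, MonoidHom.mul_apply, hψt u₁ h1, hψ₀t u₁ h1, mul_one, mul_one] at this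
            rw [this]
          have hψeq : ψ = ψ₀ := by
            ext w
            obtain ⟨u₁, u₂, h1, h2, rfl⟩ := hdecomp w
            rw [map_mul, map_mul, hψt u₁ h1, hψ₀t u₁ h1, one_mul, one_mul]
            have := DFunLike.congr_fun h u₂
            rw [MonoidHom.mul_apply, MonoidHom.mul_apply, hφt u₂ h2, hφ₀t u₂ h2, one_mul, one_mul] at this
            rw [this]
          rw [hφeq, hψeq]
        rw [if_neg this]
        ring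
    simp only [hterm] at hℓ
    rw [Finset.sum_ite, Finset.sum_const_zero, add_zero] at hℓ
    have hfilter : s.filter (fun p => p.1 = (φ₀, ψ₀)) = {⟨(φ₀, ψ₀), hφ₀, hψ₀, hφ₀t, hψ₀t⟩} := by
      ext p
      simp only [Finset.mem_filter, Finset.mem_singleton]
      constructor
      · rintro ⟨_, h⟩
        exact Subtype.ext h
      · intro h
        subst h
        exact ⟨hp₀, rfl⟩
    rw [hfilter, Finset.sum_singleton] at hℓ
    have hcard : (Fintype.card ↥(W₁ ⊔ W₂) : ℂ) ≠ 0 := by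
      exact Nat.cast_ne_zero.mpr Fintype.card_ne_zero
    exact (mul_eq_zero.mp hℓ).resolve_right hcard

end Cfsg.Agent.S1504
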