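import Mathlib
import Cfsg.Statements.S1505
import Cfsg.Agent.Lib.Helper4.CyclicTI
import Cfsg.Agent.S0146

set_option autoImplicit false
open Cfsg

namespace Cfsg.Agent.S1505

open Cfsg.Agent.Lib.Helper4 Cfsg.Agent.Lib.Helper1
open scoped ComplexConjugate

section
variable {G : Type*} [Group G] (W₁ W₂ : Subgroup G)

/-- linear characters of `W` trivial on `W₂` -/
def T2 (φ : ↥(W₁ ⊔ W₂) →* ℂˣ) : Prop := ∀ w : ↥(W₁ ⊔ W₂), (w : G) ∈ W₂ → φ w = 1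
/-- linear characters of `W` trivial on `W₁` -/
def T1 (ψ : ↥(W₁ ⊔ W₂) →* ℂˣ) : Prop := ∀ w : ↥(W₁ ⊔ W₂), (w : G) ∈ W₁ → ψ w = 1

theorem T2_one : T2 W₁ W₂ 1 := fun _ _ => rfl
theorem T1_one : T1 W₁ W₂ 1 := fun _ _ => rfl

/-- the function `(1 - φ)(1 - ψ)` -/
def alpha (φ ψ : ↥(W₁ ⊔ W₂) →* ℂˣ) : ↥(W₁ ⊔ W₂) → ℂ :=
  fun w => 1 - (φ w : ℂ) - (ψ w : ℂ) + (φ w : ℂ) * (ψ w : ℂ)

theorem alpha_eq (φ ψ : ↥(W₁ ⊔ W₂) →* ℂˣ) :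
    alpha W₁ W₂ φ ψ = linFn (1 * 1) - linFn (φ * 1) - linFn (1 * ψ) + linFn (φ * ψ) := by
  funext w
  simp [alpha, linFn]

theorem alpha_zero {φ ψ : ↥(W₁ ⊔ W₂) →* ℂˣ} (hφ : T2 W₁ W₂ φ) (hψ : T1 W₁ W₂ ψ)
    (w : ↥(W₁ ⊔ W₂)) (hw : (w : G) ∈ W₁ ∨ (w : G) ∈ W₂) : alpha W₁ W₂ φ ψ w = 0 := by
  rcases hw with hw | hw
  · simp [alpha, hψ w hw]
  · simp [alpha, hφ w hw]

theorem inner_g [Fintype ↥(W₁ ⊔ W₂)] {φ₁ φ₂ ψ₁ ψ₂ : ↥(W₁ ⊔ W₂) →* ℂˣ} (h1 : T2 W₁ W₂ φ₁)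
    (h2 : T2 W₁ W₂ φ₂) (h3 : T1 W₁ W₂ ψ₁) (h4 : T1 W₁ W₂ ψ₂) :
    Cfsg.classInner (linFn (φ₁ * ψ₁)) (linFn (φ₂ * ψ₂))
      = (if φ₁ = φ₂ then 1 else 0) * (if ψ₁ = ψ₂ then 1 else 0) := by
  classical
  rw [classInner_linFn]
  have := hom_mul_eq_mul_iff W₁ W₂ φ₁ φ₂ ψ₁ ψ₂ h1 h2 h3 h4
  by_cases ha : φ₁ = φ₂ <;> by_cases hb : ψ₁ = ψ₂ <;> simp [this, ha, hb]

theorem inner_alpha [Fintype ↥(W₁ ⊔ W₂)] {φ φ' ψ ψ' : ↥(W₁ ⊔ W₂) →* ℂˣ}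
    [Decidable (φ = φ')] [Decidable (ψ = ψ')]
    (hφ : φ ≠ 1) (hφ' : φ' ≠ 1) (hψ : ψ ≠ 1) (hψ' : ψ' ≠ 1)
    (h1 : T2 W₁ W₂ φ) (h2 : T2 W₁ W₂ φ') (h3 : T1 W₁ W₂ ψ) (h4 : T1 W₁ W₂ ψ') :
    Cfsg.classInner (alpha W₁ W₂ φ ψ) (alpha W₁ W₂ φ' ψ')
      = 1 + (if φ = φ' then 1 else 0) + (if ψ = ψ' then 1 else 0)
        + (if φ = φ' then 1 else 0) * (if ψ = ψ' then 1 else 0) := by
  classical
  have o2 := T2_one W₁ W₂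
  have o1 := T1_one W₁ W₂
  rw [alpha_eq, alpha_eq]
  simp only [classInner_add_left, classInner_sub_left, classInner_add_right, classInner_sub_right]
  rw [inner_g W₁ W₂ o2 o2 o1 o1, inner_g W₁ W₂ o2 h2 o1 o1, inner_g W₁ W₂ o2 o2 o1 h4,
    inner_g W₁ W₂ o2 h2 o1 h4, inner_g W₁ W₂ h1 o2 o1 o1, inner_g W₁ W₂ h1 h2 o1 o1,
    inner_g W₁ W₂ h1 o2 o1 h4, inner_g W₁ W₂ h1 h2 o1 h4, inner_g W₁ W₂ o2 o2 h3 o1,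
    inner_g W₁ W₂ o2 h2 h3 o1, inner_g W₁ W₂ o2 o2 h3 h4, inner_g W₁ W₂ o2 h2 h3 h4,
    inner_g W₁ W₂ h1 o2 h3 o1, inner_g W₁ W₂ h1 h2 h3 o1, inner_g W₁ W₂ h1 o2 h3 h4,
    inner_g W₁ W₂ h1 h2 h3 h4]
  simp only [hφ, hφ', hψ, hψ', Ne.symm hφ, Ne.symm hφ', Ne.symm hψ, Ne.symm hψ', if_true, if_false]
  by_cases ha : φ = φ' <;> by_cases hb : ψ = ψ' <;> simp [ha, hb] <;> ring

theorem inner_alpha_one [Fintype ↥(W₁ ⊔ W₂)] {φ ψ : ↥(W₁ ⊔ W₂) →* ℂˣ}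
    (hφ : φ ≠ 1) (hψ : ψ ≠ 1) (h1 : T2 W₁ W₂ φ) (h3 : T1 W₁ W₂ ψ) :
    Cfsg.classInner (alpha W₁ W₂ φ ψ) (fun _ => 1) = 1 := by
  classical
  have o2 := T2_one W₁ W₂
  have o1 := T1_one W₁ W₂
  have e : (fun _ : ↥(W₁ ⊔ W₂) => (1 : ℂ)) = linFn (1 * 1) := by
    funext w; simp [linFn]
  rw [e, alpha_eq]
  simp only [classInner_add_left, classInner_sub_left]
  rw [inner_g W₁ W₂ o2 o2 o1 o1, inner_g W₁ W₂ h1 o2 o1 o1, inner_g W₁ W₂ o2 o2 h3 o1,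
    inner_g W₁ W₂ h1 o2 h3 o1]
  simp [hφ, hψ]

end

open Classical in
/-- Let W₁, W₂ ≤ G form a self-normalising cyclic subgroup W = W₁ ⊔ W₂. For nontrivial linear characters φ, φ' of W trivial on W₂ and ψ, ψ' trivial on W₁, put α = (1 − φ)(1 − ψ) and α' = (1 − φ')(1 − ψ'). Then the function induced from α to G has inner product 1 with the principal character, and the inner product of the functions induced from α and α' is 1 + a + b + ab where a = 1 if φ = φ' (else 0) and b = 1 if ψ = ψ' (else 0). -/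
theorem result {G : Type*} [Group G] [Fintype G] (W₁ W₂ : Subgroup G) (hW : Cfsg.IsSelfNormalizingCyclic W₁ W₂) (φ φ' ψ ψ' : ↥(W₁ ⊔ W₂) →* ℂˣ) (hφ : φ ≠ 1) (hφ' : φ' ≠ 1) (hψ : ψ ≠ 1) (hψ' : ψ' ≠ 1) (hφ₂ : ∀ w : ↥(W₁ ⊔ W₂), (w : G) ∈ W₂ → φ w = 1 ∧ φ' w = 1) (hψ₁ : ∀ w : ↥(W₁ ⊔ W₂), (w : G) ∈ W₁ → ψ w = 1 ∧ ψ' w = 1) : Cfsg.classInner (Cfsg.indFun (W₁ ⊔ W₂) (fun w => 1 - (φ w : ℂ) - (ψ w : ℂ) + (φ w : ℂ) * (ψ w : ℂ))) (fun _ => 1) = 1 ∧ Cfsg.classInner (Cfsg.indFun (W₁ ⊔ W₂) (fun w => 1 - (φ w : ℂ) - (ψ w : ℂ) + (φ w : ℂ) * (ψ w : ℂ))) (Cfsg.indFun (W₁ ⊔ W₂) (fun w => 1 - (φ' w : ℂ) - (ψ' w : ℂ) + (φ' w : ℂ) * (ψ' w : ℂ))) = 1 + (if φ = φ' then 1 else 0) + (if ψ = ψ' then 1 else 0) + (if φ = φ' then 1 else 0) * (if ψ = ψ' then 1 else 0) := by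
  classical
  haveI : Fintype ↥(W₁ ⊔ W₂) := Fintype.ofFinite _
  have h1 : T2 W₁ W₂ φ := fun w hw => (hφ₂ w hw).1
  have h2 : T2 W₁ W₂ φ' := fun w hw => (hφ₂ w hw).2
  have h3 : T1 W₁ W₂ ψ := fun w hw => (hψ₁ w hw).1
  have h4 : T1 W₁ W₂ ψ' := fun w hw => (hψ₁ w hw).2
  change Cfsg.classInner (Cfsg.indFun (W₁ ⊔ W₂) (alpha W₁ W₂ φ ψ)) (fun _ => 1) = 1 ∧
    Cfsg.classInner (Cfsg.indFun (W₁ ⊔ W₂) (alpha W₁ W₂ φ ψ))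
      (Cfsg.indFun (W₁ ⊔ W₂) (alpha W₁ W₂ φ' ψ')) = _
  constructor
  · rw [Cfsg.Agent.S0146.result _ _ _ (fun _ _ => rfl)]
    exact inner_alpha_one W₁ W₂ hφ hψ h1 h3
  · rw [Cfsg.Agent.S0146.result _ _ _ (indFun_isClassFunction _ _)]
    have e : Cfsg.classInner (alpha W₁ W₂ φ ψ)
        (fun h : ↥(W₁ ⊔ W₂) => Cfsg.indFun (W₁ ⊔ W₂) (alpha W₁ W₂ φ' ψ') h)
        = Cfsg.classInner (alpha W₁ W₂ φ ψ) (alpha W₁ W₂ φ' ψ') := by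
      rw [classInner_def, classInner_def]
      congr 1
      refine Finset.sum_congr rfl fun w _ => ?_
      by_cases hw : (w : G) ∈ W₁ ∨ (w : G) ∈ W₂
      · rw [alpha_zero W₁ W₂ h1 h3 w hw]; simp
      · push Not at hw
        rw [snc_indFun_apply hW _ (alpha_zero W₁ W₂ h2 h4) w hw.1 hw.2]
    rw [e]
    convert inner_alpha W₁ W₂ hφ hφ' hψ hψ' h1 h2 h3 h4

end Cfsg.Agent.S1505
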