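import Mathlib
import Cfsg.Statements.S1507
import Cfsg.Agent.Lib.Helper4.CyclicTI2
import Cfsg.Agent.Lib.Helper4.RectRule
import Cfsg.Agent.S1506
-- import your own Cfsg.Agent.* helpers here

set_option autoImplicit false
open Cfsg

namespace Cfsg.Agent.S1507

open Classical in
/-- Let W₁, W₂ ≤ G form a self-normalising cyclic subgroup W = W₁ ⊔ W₂ of odd order with Nat.card W₁ < Nat.card W₂, and χ an orthonormal family of irreducible characters of G up to sign, indexed by the linear characters ω of W, with χ_1 = 1, χ_ω = ω on W outside W₁ ∪ W₂, and the induction identity for (1 − φ)(1 − ψ). Let θ be a class function of G vanishing on W outside W₁ ∪ W₂, and suppose fewer than 2 · Nat.card W₁ linear characters ω of W have ⟨θ, χ ω⟩ ≠ 0. Then one of: all ⟨θ, χ ω⟩ vanish; or there are ψ₀ and a with ⟨θ, χ ω⟩ = a when ω ψ₀⁻¹ is trivial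 on W₂ and 0 otherwise; or there are φ₀ and a with ⟨θ, χ ω⟩ = a when ω φ₀⁻¹ is trivial on W₁ and 0 otherwise. -/
theorem result {G : Type*} [Group G] [Fintype G] (W₁ W₂ : Subgroup G) (hW : Cfsg.IsSelfNormalizingCyclic W₁ W₂) (hodd : Odd (Nat.card ↥(W₁ ⊔ W₂))) (χ : (↥(W₁ ⊔ W₂) →* ℂˣ) → (G → ℂ)) (hχ : Cfsg.IsCyclicTIFamily W₁ W₂ χ) (hlt : Nat.card W₁ < Nat.card W₂) (θ : G → ℂ) (hθ : Cfsg.IsClassFunction G θ) (hθV : ∀ w : ↥(W₁ ⊔ W₂), (w : G) ∉ W₁ → (w : G) ∉ W₂ → θ w = 0) (hfew : Nat.card {ω : ↥(W₁ ⊔ W₂) →* ℂˣ // Cfsg.classInner θ (χ ω) ≠ 0} < 2 * Nat.card W₁) : (∀ ω, Cfsg.classInner θ (χ ω) = 0) ∨ (∃ (ψ₀ : ↥(W₁ ⊔ W₂) →* ℂˣ) (a : ℂ), ∀ ω, Cfsg.classInner θ (χ ω) = if (∀ w : ↥(W₁ ⊔ W₂), (w : G) ∈ W₂ → (ω * ψ₀⁻¹) w = 1) then a else 0) ∨ (∃ (φ₀ : ↥(W₁ ⊔ W₂) →* ℂˣ) (a : ℂ), ∀ ω, Cfsg.classInner θ (χ ω) = if (∀ w : ↥(W₁ ⊔ W₂), (w : G) ∈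 W₁ → (ω * φ₀⁻¹) w = 1) then a else 0) := by
  classical
  have hfin : Finite (↥(W₁ ⊔ W₂) →* ℂˣ) := inferInstance
  have : Fintype (↥(W₁ ⊔ W₂) →* ℂˣ) := Fintype.ofFinite _
  have : Fintype {φ : ↥(W₁ ⊔ W₂) →* ℂˣ // ∀ w : ↥(W₁ ⊔ W₂), (w : G) ∈ W₂ → φ w = 1} :=
    Fintype.ofFinite _
  have : Fintype {ψ : ↥(W₁ ⊔ W₂) →* ℂˣ // ∀ w : ↥(W₁ ⊔ W₂), (w : G) ∈ W₁ → ψ w = 1} :=
    Fintype.ofFinite _
  set A : {φ : ↥(W₁ ⊔ W₂) →* ℂˣ // ∀ w : ↥(W₁ ⊔ W₂), (w : G) ∈ W₂ → φ w = 1} →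
      {ψ : ↥(W₁ ⊔ W₂) →* ℂˣ // ∀ w : ↥(W₁ ⊔ W₂), (w : G) ∈ W₁ → ψ w = 1} → ℂ :=
    fun φ ψ => Cfsg.classInner θ (χ (φ.1 * ψ.1)) with hA
  have hrect : ∀ i i' j j', A i j + A i' j' = A i j' + A i' j := fun i i' j j' =>
    Cfsg.Agent.S1506.result W₁ W₂ hW χ hχ θ hθ hθV i.1 i'.1 j.1 j'.1
      (fun w hw => ⟨i.2 w hw, i'.2 w hw⟩) (fun w hw => ⟨j.2 w hw, j'.2 w hw⟩)
  obtain ⟨hc1, hc2⟩ := Cfsg.Agent.Lib.Helper4.snc_card_triv hW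
  rw [Nat.card_eq_fintype_card] at hc1 hc2
  have hcard := Cfsg.Agent.Lib.Helper4.snc_card_sup hW
  have hodd12 : Odd (Nat.card W₁) ∧ Odd (Nat.card W₂) := by
    rw [hcard] at hodd
    exact Nat.odd_mul.1 hodd
  have hIJ : Fintype.card {φ : ↥(W₁ ⊔ W₂) →* ℂˣ // ∀ w : ↥(W₁ ⊔ W₂), (w : G) ∈ W₂ → φ w = 1} + 2
      ≤ Fintype.card {ψ : ↥(W₁ ⊔ W₂) →* ℂˣ // ∀ w : ↥(W₁ ⊔ W₂), (w : G) ∈ W₁ → ψ w = 1} := by
    rw [hc1, hc2]
    obtain ⟨k₁, hk₁⟩ := hodd12.1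
    obtain ⟨k₂, hk₂⟩ := hodd12.2
    omega
  have hfew' : ((Finset.univ : Finset
      ({φ : ↥(W₁ ⊔ W₂) →* ℂˣ // ∀ w : ↥(W₁ ⊔ W₂), (w : G) ∈ W₂ → φ w = 1} ×
      {ψ : ↥(W₁ ⊔ W₂) →* ℂˣ // ∀ w : ↥(W₁ ⊔ W₂), (w : G) ∈ W₁ → ψ w = 1})).filter
        (fun p => A p.1 p.2 ≠ 0)).card
      < 2 * Fintype.card {φ : ↥(W₁ ⊔ W₂) →* ℂˣ // ∀ w : ↥(W₁ ⊔ W₂), (w : G) ∈ W₂ → φ w = 1} := by
    rw [hc1, ← Fintype.card_subtype, ← Nat.card_eq_fintype_card]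
    refine lt_of_eq_of_lt ?_ hfew
    apply Nat.card_congr
    refine Equiv.subtypeEquiv (Cfsg.Agent.Lib.Helper4.sncEquiv hW) ?_
    intro p
    rw [Cfsg.Agent.Lib.Helper4.sncEquiv_apply]
  have hdec : ∀ ω : ↥(W₁ ⊔ W₂) →* ℂˣ, ∃ φ ψ, ω = φ.1 * ψ.1 ∧ Cfsg.classInner θ (χ ω) = A φ ψ := by
    intro ω
    obtain ⟨φ, ψ, h1, h2, rfl⟩ := Cfsg.Agent.Lib.Helper4.snc_hom_decomp hW ω
    exact ⟨⟨φ, h1⟩, ⟨ψ, h2⟩, rfl, rfl⟩
  rcases Cfsg.Agent.Lib.Helper4.rect_trichotomy A hrect hIJ hfew' with h | ⟨j₀, c, h⟩ | ⟨i₀, c, h⟩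
  · left
    intro ω
    obtain ⟨φ, ψ, _, hω⟩ := hdec ω
    rw [hω, h φ ψ]
  · right; left
    refine ⟨j₀.1, c, fun ω => ?_⟩
    obtain ⟨φ, ψ, hω1, hω⟩ := hdec ω
    rw [hω, h φ ψ]
    have hiff : ψ = j₀ ↔ ∀ w : ↥(W₁ ⊔ W₂), (w : G) ∈ W₂ → (ω * j₀.1⁻¹) w = 1 := by
      constructor
      · rintro rfl w hw
        rw [hω1, MonoidHom.mul_apply, MonoidHom.mul_apply, MonoidHom.inv_apply, φ.2 w hw]
        simp
      · intro hall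
        apply Subtype.ext
        have hone : ψ.1 * j₀.1⁻¹ = 1 := by
          apply Cfsg.Agent.Lib.Helper4.hom_eq_one_of_trivial
          · intro w hw
            rw [MonoidHom.mul_apply, MonoidHom.inv_apply, ψ.2 w hw, j₀.2 w hw]
            simp
          · intro w hw
            have := hall w hw
            rw [hω1, MonoidHom.mul_apply, MonoidHom.mul_apply, φ.2 w hw, one_mul] at this
            rw [MonoidHom.mul_apply]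
            exact this
        exact mul_inv_eq_one.1 hone
    by_cases hψ : ψ = j₀
    · rw [if_pos hψ, if_pos (hiff.1 hψ)]
    · rw [if_neg hψ, if_neg (fun hh => hψ (hiff.2 hh))]
  · right; right
    refine ⟨i₀.1, c, fun ω => ?_⟩
    obtain ⟨φ, ψ, hω1, hω⟩ := hdec ω
    rw [hω, h φ ψ]
    have hiff : φ = i₀ ↔ ∀ w : ↥(W₁ ⊔ W₂), (w : G) ∈ W₁ → (ω * i₀.1⁻¹) w = 1 := by
      constructor
      · rintro rfl w hw
        rw [hω1, MonoidHom.mul_apply, MonoidHom.mul_apply, MonoidHom.inv_apply, ψ.2 w hw]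
        simp
      · intro hall
        apply Subtype.ext
        have hone : φ.1 * i₀.1⁻¹ = 1 := by
          apply Cfsg.Agent.Lib.Helper4.hom_eq_one_of_trivial
          · intro w hw
            have := hall w hw
            rw [hω1, MonoidHom.mul_apply, MonoidHom.mul_apply, ψ.2 w hw, mul_one] at this
            rw [MonoidHom.mul_apply]
            exact this
          · intro w hw
            rw [MonoidHom.mul_apply, MonoidHom.inv_apply, φ.2 w hw, i₀.2 w hw]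
            simp
        exact mul_inv_eq_one.1 hone
    by_cases hφ : φ = i₀
    · rw [if_pos hφ, if_pos (hiff.1 hφ)]
    · rw [if_neg hφ, if_neg (fun hh => hφ (hiff.2 hh))]

end Cfsg.Agent.S1507
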