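import Mathlib
import Cfsg.Statements.S1508
import Cfsg.Agent.Lib.Helper4.CyclicTI3
import Cfsg.Agent.Lib.Helper4.CoprimeLift
-- import your own Cfsg.Agent.* helpers here

set_option autoImplicit false
open Cfsg

namespace Cfsg.Agent.S1508

/-- Let W₁, W₂ ≤ G form a self-normalising cyclic subgroup W = W₁ ⊔ W₂ of odd order and χ an orthonormal family of irreducible characters of G up to sign, indexed by the linear characters ω of W, with χ_1 = 1, χ_ω = ω on W outside W₁ ∪ W₂, and the induction identity for (1 − φ)(1 − ψ). Let ω be a linear character of W and g an element of G whose order is coprime to the order of ω. Then χ ω g is an integer. -/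
theorem result {G : Type*} [Group G] [Fintype G] (W₁ W₂ : Subgroup G) (hW : Cfsg.IsSelfNormalizingCyclic W₁ W₂) (hodd : Odd (Nat.card ↥(W₁ ⊔ W₂))) (χ : (↥(W₁ ⊔ W₂) →* ℂˣ) → (G → ℂ)) (hχ : Cfsg.IsCyclicTIFamily W₁ W₂ χ) (ω : ↥(W₁ ⊔ W₂) →* ℂˣ) (g : G) (hg : Nat.Coprime (orderOf g) (orderOf ω)) : ∃ n : ℤ, χ ω g = n := by
  classical
  set N := Nat.card G with hN
  have hN0 : NeZero N := ⟨Nat.card_pos.ne'⟩
  have hgN : g ^ N = 1 := pow_card_eq_one'
  -- invariance under all Galois power maps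
  have hinv : ∀ k : ℕ, k.Coprime N → χ ω (g ^ k) = χ ω g := by
    intro k hk
    have ha : orderOf g ∣ N := orderOf_dvd_natCard g
    have hb : orderOf ω ∣ N := by
      have h1 : orderOf ω ∣ Nat.card (↥(W₁ ⊔ W₂) →* ℂˣ) := orderOf_dvd_natCard ω
      rw [Cfsg.Agent.Lib.Helper4.snc_card_hom hW, ← Cfsg.Agent.Lib.Helper4.snc_card_sup hW] at h1
      exact h1.trans (Subgroup.card_subgroup_dvd_card _)
    have hd : orderOf g * orderOf ω ∣ N := Nat.Coprime.mul_dvd_of_dvd_of_dvd hg ha hb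
    obtain ⟨c, hc1, hc2⟩ := Nat.chineseRemainder hg k 1
    have hcc : c.Coprime (orderOf g * orderOf ω) := by
      apply Nat.Coprime.mul_right
      · have h1 := hc1.gcd_eq
        unfold Nat.Coprime
        rw [h1]
        exact Nat.Coprime.coprime_dvd_right ha hk
      · have h1 := hc2.gcd_eq
        unfold Nat.Coprime
        rw [h1]
        exact Nat.gcd_one_left _
    obtain ⟨m, hm, hmc⟩ := Cfsg.Agent.Lib.Helper4.exists_coprime_lift N _ c hd hcc
    have hm1 : m ≡ k [MOD orderOf g] := (hmc.of_dvd (dvd_mul_right _ _)).trans hc1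
    have hm2 : m ≡ 1 [MOD orderOf ω] := (hmc.of_dvd (dvd_mul_left _ _)).trans hc2
    obtain ⟨τ, hτ⟩ := Cfsg.Agent.Lib.Helper4.exists_complex_aut_pow N m hm
    have h1 := Cfsg.Agent.Lib.Helper4.cyclicTI_twist hW hodd χ hχ (τ : ℂ →+* ℂ) m hm hτ ω g
    have hωm : ω ^ m = ω := by
      have h3 : ω ^ m = ω ^ 1 := (pow_eq_pow_iff_modEq (x := ω) (n := m) (m := 1)).2 hm2
      have h4 : ω ^ 1 = ω := pow_one ω
      exact h3.trans h4
    rw [hωm] at h1
    have hgm : g ^ m = g ^ k := by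
      rw [pow_eq_pow_iff_modEq]
      exact hm1
    have h2 : (τ : ℂ →+* ℂ) (χ ω g) = χ ω (g ^ m) := by
      rcases hχ.irr_or_neg ω with h | h
      · exact Cfsg.Agent.Lib.Helper4.twist_apply (τ : ℂ →+* ℂ) N m hτ
          (Cfsg.Agent.Lib.Helper4.isCharacter_of_irr h) g hgN
      · have := Cfsg.Agent.Lib.Helper4.twist_apply (τ : ℂ →+* ℂ) N m hτ
          (Cfsg.Agent.Lib.Helper4.isCharacter_of_irr h) g hgN
        simp only [Pi.neg_apply, map_neg, neg_inj] at this
        exact this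
    rw [← hgm, ← h2, h1]
  -- rationality via the cyclotomic field
  have key : ∀ ψ : G → ℂ, Cfsg.IsCharacter G ψ → (∀ k : ℕ, k.Coprime N → ψ (g ^ k) = ψ g) →
      ∃ n : ℤ, ψ g = n := by
    intro ψ hψ hψinv
    let K := CyclotomicField N ℚ
    have hcyc : IsCyclotomicExtension {N} ℚ K :=
      CyclotomicField.instIsCyclotomicExtensionSingletonNatSetOfCharZero N ℚ
    let ι : K →+* ℂ := ((IsAlgClosed.lift : K →ₐ[ℚ] ℂ) : K →+* ℂ)
    have hfd : FiniteDimensional ℚ K := IsCyclotomicExtension.finiteDimensional {N} ℚ K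
    have hgal : IsGalois ℚ K := IsCyclotomicExtension.isGalois {N} ℚ K
    obtain ⟨x, hxint, hx⟩ := Cfsg.Agent.Lib.Helper1.exists_cyclo_of_character N ι hψ g hgN
    have h1 : ι x = ψ g := by
      have := hx 1 1 (fun z _ => by simp)
      simpa using this
    have hfix : ∀ σ : K ≃ₐ[ℚ] K, σ x = x := by
      intro σ
      obtain ⟨k, hk, hσ⟩ := Cfsg.Agent.Lib.Helper1.aut_pow N σ
      apply ι.injective
      rw [hx σ k hσ, h1, hψinv k hk]
    have hbot := (IsGalois.mem_bot_iff_fixed (F := ℚ) (E := K) x).2 hfix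
    rw [IntermediateField.mem_bot] at hbot
    obtain ⟨q, hq⟩ := hbot
    have hqint : IsIntegral ℤ q := by
      rw [← hq] at hxint
      exact (isIntegral_algebraMap_iff (algebraMap ℚ K).injective).1 hxint
    obtain ⟨n, hn⟩ := IsIntegrallyClosed.isIntegral_iff.1 hqint
    refine ⟨n, ?_⟩
    rw [← h1, ← hq, ← hn]
    simp
  rcases hχ.irr_or_neg ω with h | h
  · exact key (χ ω) (Cfsg.Agent.Lib.Helper4.isCharacter_of_irr h) hinv
  · obtain ⟨n, hn⟩ := key (-χ ω) (Cfsg.Agent.Lib.Helper4.isCharacter_of_irr h) (by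
      intro k hk
      simp only [Pi.neg_apply]
      rw [hinv k hk])
    refine ⟨-n, ?_⟩
    simp only [Pi.neg_apply] at hn
    push_cast
    rw [← hn, neg_neg]

end Cfsg.Agent.S1508
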