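import Mathlib
import Cfsg.Statements.S1509
import Cfsg.Agent.Lib.Helper4.Characters

set_option autoImplicit false
open Cfsg

namespace Cfsg.Agent.S1509

open Cfsg.Agent.Lib.Helper4
open scoped ComplexConjugate

variable {X : Type*} [Group X] [Fintype X]

/-- a signed irreducible character -/
def SignedIrr (a : X → ℂ) : Prop := IsIrrCharacter X a ∨ IsIrrCharacter X (-a)

theorem signed_self {a : X → ℂ} (ha : SignedIrr a) : classInner a a = 1 := by
  rcases ha with h | h
  · exact classInner_irr_self h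
  · have := classInner_irr_self h
    rwa [classInner_neg_left, classInner_neg_right, neg_neg] at this

theorem signed_one_ne {a : X → ℂ} (ha : SignedIrr a) : a 1 ≠ 0 := by
  rcases ha with h | h
  · exact irr_apply_one_ne_zero h
  · have := irr_apply_one_ne_zero h
    simpa using this

/-- two signed irreducibles with nonzero inner product are equal up to sign -/
theorem signed_eq_of_ne {a c : X → ℂ} (ha : SignedIrr a) (hc : SignedIrr c)
    (h : classInner a c ≠ 0) : a = c ∨ a = -c := by
  rcases ha with ha | ha <;> rcases hc with hc | hc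
  · left
    by_contra hne
    exact h (classInner_irr_ne ha hc hne)
  · right
    by_contra hne
    apply h
    have := classInner_irr_ne ha hc hne
    rw [classInner_neg_right] at this
    simpa using this
  · right
    by_contra hne
    apply h
    have hne' : -a ≠ c := fun e => hne (by rw [← e, neg_neg])
    have := classInner_irr_ne ha hc hne'
    rw [classInner_neg_left] at this
    simpa using this
  · left
    by_contra hne
    apply h
    have hne' : -a ≠ -c := fun e => hne (neg_injective e)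
    have := classInner_irr_ne ha hc hne'
    rw [classInner_neg_left, classInner_neg_right] at this
    simpa using this

theorem key (a b c d : X → ℂ) (ha : SignedIrr a) (hb : SignedIrr b) (hc : SignedIrr c)
    (hd : SignedIrr d) (u v : ℝ) (hu : u ≠ 0) (hv : v ≠ 0)
    (hab : classInner a b = 0) (hcd : classInner c d = 0)
    (hmix : (u : ℂ) * classInner a c - (v : ℂ) * classInner a d - (u : ℂ) * classInner b c
        + (v : ℂ) * classInner b d = 0)
    (h1 : a 1 = b 1) (h2 : (u : ℂ) * c 1 = (v : ℂ) * d 1) : classInner a c = 0 := by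
  by_contra hne
  have huC : (u : ℂ) ≠ 0 := Complex.ofReal_ne_zero.mpr hu
  have hvC : (v : ℂ) ≠ 0 := Complex.ofReal_ne_zero.mpr hv
  have hba : classInner b a = 0 := classInner_eq_zero_symm hab
  -- a = ε c
  obtain ⟨ε, hε, hac⟩ : ∃ ε : ℂ, (ε = 1 ∨ ε = -1) ∧ a = ε • c := by
    rcases signed_eq_of_ne ha hc hne with h | h
    · exact ⟨1, Or.inl rfl, by rw [one_smul]; exact h⟩
    · exact ⟨-1, Or.inr rfl, by rw [neg_one_smul]; exact h⟩
  have hεconj : conj ε = ε := by
    rcases hε with rfl | rfl <;> simp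
  have hεsq : ε * ε = 1 := by
    rcases hε with rfl | rfl <;> simp
  have hc_eq : c = ε • a := by
    rw [hac, smul_smul, hεsq, one_smul]
  have hacv : classInner a c = ε := by
    rw [hac, classInner_smul_left, signed_self hc, mul_one]
  have had : classInner a d = 0 := by
    rw [hac, classInner_smul_left, hcd, mul_zero]
  have hbc : classInner b c = 0 := by
    rw [hc_eq, classInner_smul_right, hba, mul_zero]
  rw [hacv, had, hbc, mul_zero, mul_zero, sub_zero, sub_zero] at hmix
  have hbd_ne : classInner b d ≠ 0 := by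
    intro h0
    rw [h0, mul_zero, add_zero] at hmix
    rcases mul_eq_zero.mp hmix with h | h
    · exact huC h
    · rcases hε with rfl | rfl <;> simp at h
  obtain ⟨ε', hε', hbd⟩ : ∃ ε' : ℂ, (ε' = 1 ∨ ε' = -1) ∧ b = ε' • d := by
    rcases signed_eq_of_ne hb hd hbd_ne with h | h
    · exact ⟨1, Or.inl rfl, by rw [one_smul]; exact h⟩
    · exact ⟨-1, Or.inr rfl, by rw [neg_one_smul]; exact h⟩
  have hε'sq : ε' * ε' = 1 := by
    rcases hε' with rfl | rfl <;> simp
  have hbdv : classInner b d = ε' := by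
    rw [hbd, classInner_smul_left, signed_self hd, mul_one]
  rw [hbdv] at hmix
  -- degrees
  have e1 : ε * c 1 = ε' * d 1 := by
    have := h1
    rw [hac, hbd] at this
    simpa using this
  have hd1 : d 1 ≠ 0 := signed_one_ne hd
  -- from hmix: u ε = - v ε'
  have e2 : (u : ℂ) * ε = -((v : ℂ) * ε') := eq_neg_of_add_eq_zero_left hmix
  -- u c1 = u ε (ε c1) = u ε ε' d1 = -v ε' ε' d1 = -v d1
  have e3 : (u : ℂ) * c 1 = -((v : ℂ) * d 1) := by
    calc (u : ℂ) * c 1 = (u : ℂ) * ((ε * ε) * c 1) := by rw [hεsq, one_mul]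
      _ = ((u : ℂ) * ε) * (ε * c 1) := by ring
      _ = -((v : ℂ) * ε') * (ε' * d 1) := by rw [e2, e1]
      _ = -((v : ℂ) * ((ε' * ε') * d 1)) := by ring
      _ = -((v : ℂ) * d 1) := by rw [hε'sq, one_mul]
  rw [h2] at e3
  have : (v : ℂ) * d 1 = 0 := by
    have h4 : (2 : ℂ) * ((v : ℂ) * d 1) = 0 := by
      calc (2 : ℂ) * ((v : ℂ) * d 1) = (v : ℂ) * d 1 + (v : ℂ) * d 1 := by ring
        _ = -((v : ℂ) * d 1) + (v : ℂ) * d 1 := by rw [← e3]
        _ = 0 := by ring
    rcases mul_eq_zero.mp h4 with h | h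
    · norm_num at h
    · exact h
  rcases mul_eq_zero.mp this with h | h
  · exact hvC h
  · exact hd1 h

/-- Let α, β, γ, δ be functions on a finite group X each of which is an irreducible character or the negative of one, and u, v nonzero real numbers. Suppose ⟨α, β⟩ = ⟨γ, δ⟩ = 0, ⟨α − β, uγ − vδ⟩ = 0, α 1 = β 1 and u γ 1 = v δ 1. Then also ⟨α, γ⟩ = ⟨α, δ⟩ = ⟨β, γ⟩ = ⟨β, δ⟩ = 0. -/
theorem result {X : Type*} [Group X] [Fintype X] (α β γ δ : X → ℂ) (hα : Cfsg.IsIrrCharacter X α ∨ Cfsg.IsIrrCharacter X (-α)) (hβ : Cfsg.IsIrrCharacter X β ∨ Cfsg.IsIrrCharacter X (-β)) (hγ : Cfsg.IsIrrCharacter X γ ∨ Cfsg.IsIrrCharacter X (-γ)) (hδ : Cfsg.IsIrrCharacter X δ ∨ Cfsg.IsIrrCharacter X (-δ)) (u v : ℝ) (hu : u ≠ 0) (hv : v ≠ 0) (hab : Cfsg.classInner α β = 0) (hcd : Cfsg.classInner γ δ = 0) (hmix : Cfsg.classInner (α - β) ((u : ℂ) • γ - (v : ℂ) • δ) = 0) (h1 : α 1 = β 1) (h2 : (u : ℂ) * γ 1 = (v : ℂ) * δ 1) : Cfsg.classInner α γ = 0 ∧ Cfsg.classInner α δ = 0 ∧ Cfsg.classInner β γ = 0 ∧ Cfsg.classInner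 β δ = 0 := by
  have hmix' : (u : ℂ) * classInner α γ - (v : ℂ) * classInner α δ - (u : ℂ) * classInner β γ
        + (v : ℂ) * classInner β δ = 0 := by
    rw [classInner_sub_left, classInner_sub_right, classInner_sub_right,
      classInner_smul_right, classInner_smul_right, classInner_smul_right, classInner_smul_right,
      Complex.conj_ofReal, Complex.conj_ofReal] at hmix
    rw [← hmix]; ring
  have hba : classInner β α = 0 := classInner_eq_zero_symm hab
  have hdc : classInner δ γ = 0 := classInner_eq_zero_symm hcd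
  refine ⟨?_, ?_, ?_, ?_⟩
  · exact key α β γ δ hα hβ hγ hδ u v hu hv hab hcd hmix' h1 h2
  · refine key α β δ γ hα hβ hδ hγ v u hv hu hab hdc ?_ h1 h2.symm
    rw [← neg_eq_zero, ← hmix']; ring
  · refine key β α γ δ hβ hα hγ hδ u v hu hv hba hcd ?_ h1.symm h2
    rw [← neg_eq_zero, ← hmix']; ring
  · refine key β α δ γ hβ hα hδ hγ v u hv hu hba hdc ?_ h1.symm h2.symm
    rw [← hmix']; ring

end Cfsg.Agent.S1509
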