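import Mathlib
import Cfsg.Statements.S1510
-- import your own Cfsg.Agent.* helpers here

set_option autoImplicit false
open Cfsg

namespace Cfsg.Agent.S1510

theorem exists_gen {L : Type*} [Group L] (W : Subgroup L) (h : IsCyclic W) :
    ∃ a ∈ W, ∀ y ∈ W, ∃ i : ℤ, a ^ i = y := by
  obtain ⟨a₀, ha₀⟩ := h.exists_generator
  refine ⟨(a₀ : L), a₀.2, fun y hy => ?_⟩
  obtain ⟨i, hi⟩ := Subgroup.mem_zpowers_iff.mp (ha₀ ⟨y, hy⟩)
  refine ⟨i, ?_⟩
  have := congrArg Subtype.val hi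
  simpa using this

theorem pow_card_of_mem {L : Type*} [Group L] [Finite L] (W : Subgroup L) {y : L} (hy : y ∈ W) :
    y ^ Nat.card W = 1 := by
  have h1 : (⟨y, hy⟩ : W) ^ Nat.card W = 1 := pow_card_eq_one'
  have h2 : (((⟨y, hy⟩ : W) ^ Nat.card W : W) : L) = ((1 : W) : L) := by rw [h1]
  rw [Subgroup.coe_pow, Subgroup.coe_one] at h2
  exact h2

/-- Let L be a finite group with a normal subgroup K and a nontrivial cyclic subgroup W₁ of order coprime to its index, K ⊓ W₁ = ⊥ and K ⊔ W₁ = ⊤; let W₂ ≠ ⊥ be a cyclic subgroup of K with K ⊓ C_L(x) = W₂ for every non-identity x ∈ W₁, and suppose W₁ ⊔ W₂ has odd order. Then (W₁, W₂) is a self-normalising cyclic pair in L. -/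
theorem result {L : Type*} [Group L] [Fintype L] (K W₁ W₂ : Subgroup L) [hK : K.Normal] (hKW₁ : K ⊓ W₁ = ⊥) (hKW₁' : K ⊔ W₁ = ⊤) (hW₁ : W₁ ≠ ⊥) (hW₁c : IsCyclic W₁) (hHall : Nat.Coprime (Nat.card W₁) W₁.index) (hW₂ : W₂ ≠ ⊥) (hW₂c : IsCyclic W₂) (hW₂K : W₂ ≤ K) (hC : ∀ x ∈ W₁, x ≠ 1 → K ⊓ Subgroup.centralizer ({x} : Set L) = W₂) (hodd : Odd (Nat.card ↥(W₁ ⊔ W₂))) : Cfsg.IsSelfNormalizingCyclic W₁ W₂ := by
  have hcomm : ∀ a ∈ W₁, ∀ b ∈ W₂, a * b = b * a := by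
    intro a ha b hb
    by_cases ha1 : a = 1
    · subst ha1; simp
    · have hb' : b ∈ K ⊓ Subgroup.centralizer ({a} : Set L) := by rw [hC a ha ha1]; exact hb
      have := (Subgroup.mem_inf.mp hb').2
      rw [Subgroup.mem_centralizer_iff] at this
      exact this a rfl
  -- generators
  obtain ⟨a, haW, hagen⟩ := exists_gen W₁ hW₁c
  obtain ⟨b, hbW, hbgen⟩ := exists_gen W₂ hW₂c
  have hab : Commute a b := hcomm a haW b hbW
  -- coprime orders
  have hcompl : Subgroup.IsComplement' K W₁ := by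
    apply Subgroup.isComplement'_of_disjoint_and_mul_eq_univ (disjoint_iff.mpr hKW₁)
    rw [← Subgroup.normal_mul, hKW₁', Subgroup.coe_top]
  have hidx : W₁.index = Nat.card K := hcompl.index_eq_card
  have hcop : Nat.Coprime (Nat.card W₁) (Nat.card W₂) := by
    rw [hidx] at hHall
    exact Nat.Coprime.coprime_dvd_right (Subgroup.card_dvd_of_le hW₂K) hHall
  obtain ⟨α, β, hαβ⟩ := Nat.isCoprime_iff_coprime.mpr hcop
  -- the projection lemma: for y₁ ∈ W₁, y₂ ∈ W₂, (y₁ y₂)^(β |W₂|) = y₁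
  have hproj : ∀ y₁ ∈ W₁, ∀ y₂ ∈ W₂, (y₁ * y₂) ^ (β * (Nat.card W₂ : ℤ)) = y₁ := by
    intro y₁ h₁ y₂ h₂
    have hc : Commute y₁ y₂ := hcomm y₁ h₁ y₂ h₂
    rw [hc.mul_zpow]
    have e1 : y₂ ^ (β * (Nat.card W₂ : ℤ)) = 1 := by
      rw [mul_comm, zpow_mul, zpow_natCast, pow_card_of_mem W₂ h₂, one_zpow]
    have e2 : y₁ ^ (β * (Nat.card W₂ : ℤ)) = y₁ := by
      have : β * (Nat.card W₂ : ℤ) = 1 - α * (Nat.card W₁ : ℤ) := by rw [← hαβ]; ring
      rw [this, zpow_sub, zpow_one, zpow_mul', zpow_natCast, pow_card_of_mem W₁ h₁, one_zpow,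
        inv_one, mul_one]
    rw [e1, e2, mul_one]
  have hproj2 : ∀ y₁ ∈ W₁, ∀ y₂ ∈ W₂, (y₁ * y₂) ^ (α * (Nat.card W₁ : ℤ)) = y₂ := by
    intro y₁ h₁ y₂ h₂
    have hc : Commute y₁ y₂ := hcomm y₁ h₁ y₂ h₂
    rw [hc.mul_zpow]
    have e1 : y₁ ^ (α * (Nat.card W₁ : ℤ)) = 1 := by
      rw [mul_comm, zpow_mul, zpow_natCast, pow_card_of_mem W₁ h₁, one_zpow]
    have e2 : y₂ ^ (α * (Nat.card W₁ : ℤ)) = y₂ := by
      have : α * (Nat.card W₁ : ℤ) = 1 - β * (Nat.card W₂ : ℤ) := by rw [← hαβ]; ring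
      rw [this, zpow_sub, zpow_one, zpow_mul', zpow_natCast, pow_card_of_mem W₂ h₂, one_zpow,
        inv_one, mul_one]
    rw [e1, e2, one_mul]
  -- W₁ ⊔ W₂ = zpowers (a b)
  have hWeq : W₁ ⊔ W₂ = Subgroup.zpowers (a * b) := by
    apply le_antisymm
    · apply sup_le
      · intro y hy
        obtain ⟨i, rfl⟩ := hagen y hy
        apply Subgroup.zpow_mem
        have := Subgroup.zpow_mem_zpowers (a * b) (β * (Nat.card W₂ : ℤ))
        rw [hproj a haW b hbW] at this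
        exact this
      · intro y hy
        obtain ⟨i, rfl⟩ := hbgen y hy
        apply Subgroup.zpow_mem
        have := Subgroup.zpow_mem_zpowers (a * b) (α * (Nat.card W₁ : ℤ))
        rw [hproj2 a haW b hbW] at this
        exact this
    · rw [Subgroup.zpowers_le]
      exact Subgroup.mul_mem _ (le_sup_left (a := W₁) haW) (le_sup_right (a := W₁) hbW)
  -- decomposition of elements of W
  have hdecomp : ∀ w ∈ W₁ ⊔ W₂, ∃ y₁ ∈ W₁, ∃ y₂ ∈ W₂, w = y₁ * y₂ := by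
    intro w hw
    rw [hWeq] at hw
    obtain ⟨i, rfl⟩ := Subgroup.mem_zpowers_iff.mp hw
    exact ⟨a ^ i, W₁.zpow_mem haW i, b ^ i, W₂.zpow_mem hbW i, hab.mul_zpow i⟩
  have hWcomm : ∀ w ∈ W₁ ⊔ W₂, ∀ w' ∈ W₁ ⊔ W₂, w * w' = w' * w := by
    intro w hw w' hw'
    rw [hWeq] at hw hw'
    obtain ⟨i, rfl⟩ := Subgroup.mem_zpowers_iff.mp hw
    obtain ⟨j, rfl⟩ := Subgroup.mem_zpowers_iff.mp hw'
    rw [← zpow_add, ← zpow_add, add_comm]
  have hW₁comm : ∀ y ∈ W₁, ∀ y' ∈ W₁, y * y' = y' * y := fun y hy y' hy' =>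
    hWcomm y (le_sup_left (a := W₁) hy) y' (le_sup_left (a := W₁) hy')
  refine ⟨hW₁, hW₂, ?_, hcomm, ?_, ?_⟩
  · rw [eq_bot_iff, ← hKW₁]
    exact fun y hy => ⟨hW₂K hy.2, hy.1⟩
  · refine ⟨⟨⟨a * b, by rw [hWeq]; exact Subgroup.mem_zpowers _⟩, ?_⟩⟩
    rintro ⟨y, hy⟩
    have hy' := hy
    rw [hWeq] at hy'
    obtain ⟨i, hi⟩ := Subgroup.mem_zpowers_iff.mp hy'
    refine ⟨i, ?_⟩
    apply Subtype.ext
    simpa using hi
  · intro X hX hXne
    -- quotient is commutative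
    have hquot : ∀ s t : L ⧸ K, s * t = t * s := by
      intro s t
      obtain ⟨s', rfl⟩ := QuotientGroup.mk_surjective s
      obtain ⟨t', rfl⟩ := QuotientGroup.mk_surjective t
      have hs : s' ∈ K ⊔ W₁ := by rw [hKW₁']; exact Subgroup.mem_top _
      have ht : t' ∈ K ⊔ W₁ := by rw [hKW₁']; exact Subgroup.mem_top _
      rw [Subgroup.mem_sup_of_normal_left] at hs ht
      obtain ⟨k, hk, u, hu, rfl⟩ := hs
      obtain ⟨k', hk', u', hu', rfl⟩ := ht
      have e1 : ((k * u : L) : L ⧸ K) = (u : L ⧸ K) := by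
        rw [QuotientGroup.mk_mul, (QuotientGroup.eq_one_iff k).mpr hk, one_mul]
      have e2 : ((k' * u' : L) : L ⧸ K) = (u' : L ⧸ K) := by
        rw [QuotientGroup.mk_mul, (QuotientGroup.eq_one_iff k').mpr hk', one_mul]
      rw [e1, e2, ← QuotientGroup.mk_mul, ← QuotientGroup.mk_mul, hW₁comm u hu u' hu']
    apply le_antisymm
    · intro g hg
      obtain ⟨w, hwX⟩ := hXne
      have hwW : w ∈ W₁ ⊔ W₂ := (hX hwX).1
      have hwn : w ∉ (W₁ : Set L) ∪ W₂ := (hX hwX).2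
      have hw'X : g * w * g⁻¹ ∈ X := (Subgroup.mem_set_normalizer_iff.mp hg w).mp hwX
      have hw'W : g * w * g⁻¹ ∈ W₁ ⊔ W₂ := (hX hw'X).1
      obtain ⟨a₁, ha₁, b₁, hb₁, hw⟩ := hdecomp w hwW
      obtain ⟨a₂, ha₂, b₂, hb₂, hw'⟩ := hdecomp _ hw'W
      have ha₁ne : a₁ ≠ 1 := by
        intro h
        apply hwn
        right
        rw [hw, h, one_mul]; exact hb₁
      -- a₂ = a₁
      have hmk : ((g * w * g⁻¹ : L) : L ⧸ K) = ((w : L) : L ⧸ K) := by
        rw [QuotientGroup.mk_mul, QuotientGroup.mk_mul, hquot (g : L ⧸ K) _, QuotientGroup.mk_inv,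
          mul_inv_cancel_right]
      have hmk1 : ((w : L) : L ⧸ K) = (a₁ : L ⧸ K) := by
        rw [hw, QuotientGroup.mk_mul, (QuotientGroup.eq_one_iff b₁).mpr (hW₂K hb₁), mul_one]
      have hmk2 : ((g * w * g⁻¹ : L) : L ⧸ K) = (a₂ : L ⧸ K) := by
        rw [hw', QuotientGroup.mk_mul, (QuotientGroup.eq_one_iff b₂).mpr (hW₂K hb₂), mul_one]
      have ha₂₁ : a₂ = a₁ := by
        have h1 : (a₂ : L ⧸ K) = (a₁ : L ⧸ K) := by rw [← hmk2, hmk, hmk1]
        have h2 : a₂⁻¹ * a₁ ∈ K := QuotientGroup.eq.mp h1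
        have h3 : a₂⁻¹ * a₁ ∈ K ⊓ W₁ := ⟨h2, W₁.mul_mem (W₁.inv_mem ha₂) ha₁⟩
        rw [hKW₁, Subgroup.mem_bot] at h3
        exact (inv_mul_eq_one.mp h3)
      -- g commutes with a₁
      have hga : g * a₁ * g⁻¹ = a₁ := by
        have e1 : a₁ = w ^ (β * (Nat.card W₂ : ℤ)) := by rw [hw]; exact (hproj a₁ ha₁ b₁ hb₁).symm
        have e2 : a₂ = (g * w * g⁻¹) ^ (β * (Nat.card W₂ : ℤ)) := by
          rw [hw']; exact (hproj a₂ ha₂ b₂ hb₂).symm
        rw [conj_zpow] at e2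
        conv_lhs => rw [e1]
        rw [← e2, ha₂₁]
      -- g = k u
      have hgs : g ∈ K ⊔ W₁ := by rw [hKW₁']; exact Subgroup.mem_top _
      rw [Subgroup.mem_sup_of_normal_left] at hgs
      obtain ⟨k, hk, u, hu, rfl⟩ := hgs
      have hua : u * a₁ = a₁ * u := hW₁comm u hu a₁ ha₁
      have hka : k * a₁ = a₁ * k := by
        have e : k * u * a₁ * (k * u)⁻¹ = k * (u * a₁) * u⁻¹ * k⁻¹ := by group
        rw [e, hua] at hga
        have e2 : k * (a₁ * u) * u⁻¹ * k⁻¹ = k * a₁ * k⁻¹ := by group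
        rw [e2] at hga
        calc k * a₁ = (k * a₁ * k⁻¹) * k := by group
          _ = a₁ * k := by rw [hga]
      have hkW₂ : k ∈ W₂ := by
        rw [← hC a₁ ha₁ ha₁ne]
        refine Subgroup.mem_inf.mpr ⟨hk, ?_⟩
        rw [Subgroup.mem_centralizer_iff]
        intro y hy
        rw [Set.mem_singleton_iff] at hy
        subst hy
        exact hka.symm
      exact Subgroup.mul_mem _ (le_sup_right (a := W₁) hkW₂) (le_sup_left (a := W₁) hu)
    · intro w hw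
      rw [Subgroup.mem_set_normalizer_iff]
      intro n
      constructor
      · intro hn
        have : w * n * w⁻¹ = n := by
          rw [hWcomm w hw n (hX hn).1]; group
        rw [this]; exact hn
      · intro hn
        have hnW : n ∈ W₁ ⊔ W₂ := by
          have : n = w⁻¹ * (w * n * w⁻¹) * w := by group
          rw [this]
          exact Subgroup.mul_mem _ (Subgroup.mul_mem _ (Subgroup.inv_mem _ hw) (hX hn).1) hw
        have : w * n * w⁻¹ = n := by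
          rw [hWcomm w hw n hnW]; group
        rw [this] at hn; exact hn

end Cfsg.Agent.S1510
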