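import Mathlib
import Cfsg.Statements.S1512
import Cfsg.Agent.S1496

set_option autoImplicit false
open Cfsg

namespace Cfsg.Agent.S1512

/-- every invariant class contains an element commuting with `x` -/
theorem exists_fixed {L : Type*} [Group L] [Finite L] (K : Subgroup L) [hK : K.Normal] (x : L)
    (hx : Nat.Coprime (orderOf x) (Nat.card K)) (C : ConjClasses K)
    (hC : ConjClasses.map (MulEquiv.toMonoidHom ((MulAut.conjNormal x : MulAut K))) C = C) :
    ∃ k : K, ConjClasses.mk k = C ∧ x * (k : L) = (k : L) * x := by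
  obtain ⟨k₀, rfl⟩ := ConjClasses.mk_surjective C
  have h1 : ConjClasses.mk ((MulAut.conjNormal x : MulAut K) k₀) = ConjClasses.mk k₀ := hC
  rw [ConjClasses.mk_eq_mk_iff_isConj, isConj_iff] at h1
  obtain ⟨c, hc⟩ := h1
  have hc' : (c : L) * (x * (k₀ : L) * x⁻¹) * (c : L)⁻¹ = (k₀ : L) := by
    have := congrArg Subtype.val hc
    simpa [MulAut.conjNormal_apply] using this
  have hxN : x ∈ Subgroup.normalizer (K : Set L) := by
    rw [Subgroup.normalizer_eq_top]; exact Subgroup.mem_top x
  obtain ⟨u, hu, d, hd, hdx, hud⟩ := Cfsg.Agent.S1496.result K x hxN hx (c : L) c.2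
  refine ⟨⟨u * (k₀ : L) * u⁻¹, hK.conj_mem _ k₀.2 u⟩, ?_, ?_⟩
  · rw [ConjClasses.mk_eq_mk_iff_isConj, isConj_iff]
    exact ⟨⟨u⁻¹, K.inv_mem hu⟩, by apply Subtype.ext; simp; group⟩
  · -- k₁ commutes with d x
    set k₁ := u * (k₀ : L) * u⁻¹ with hk₁
    have hcomm : Commute (d * x) k₁ := by
      show d * x * k₁ = k₁ * (d * x)
      have e1 : (c : L) * x * (k₀ : L) = (k₀ : L) * ((c : L) * x) := by
        calc (c : L) * x * (k₀ : L) = ((c : L) * (x * (k₀ : L) * x⁻¹) * (c : L)⁻¹) * ((c : L) * x) := by group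
          _ = (k₀ : L) * ((c : L) * x) := by rw [hc']
      rw [← hud, hk₁]
      calc u * ((c : L) * x) * u⁻¹ * (u * (k₀ : L) * u⁻¹) = u * ((c : L) * x * (k₀ : L)) * u⁻¹ := by group
        _ = u * ((k₀ : L) * ((c : L) * x)) * u⁻¹ := by rw [e1]
        _ = u * (k₀ : L) * u⁻¹ * (u * ((c : L) * x) * u⁻¹) := by group
    -- x is a power of d x
    obtain ⟨α, β, hαβ⟩ := Nat.isCoprime_iff_coprime.mpr hx
    have hdK : d ^ (Nat.card K) = 1 := by
      have h1 : (⟨d, hd⟩ : K) ^ Nat.card K = 1 := pow_card_eq_one'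
      have h2 : (((⟨d, hd⟩ : K) ^ Nat.card K : K) : L) = ((1 : K) : L) := by rw [h1]
      rw [Subgroup.coe_pow, Subgroup.coe_one] at h2
      exact h2
    have hpow : (d * x) ^ (β * (Nat.card K : ℤ)) = x := by
      have hcd : Commute d x := hdx
      rw [hcd.mul_zpow]
      have h1 : d ^ (β * (Nat.card K : ℤ)) = 1 := by
        rw [mul_comm, zpow_mul, zpow_natCast, hdK, one_zpow]
      have h2 : x ^ (β * (Nat.card K : ℤ)) = x := by
        have : β * (Nat.card K : ℤ) = 1 - α * (orderOf x : ℤ) := by rw [← hαβ]; ring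
        rw [this, zpow_sub, zpow_one, zpow_mul', zpow_natCast, pow_orderOf_eq_one, one_zpow,
          inv_one, mul_one]
      rw [h1, h2, one_mul]
    have := hcomm.zpow_left (β * (Nat.card K : ℤ))
    rw [hpow] at this
    exact this

/-- Let K be a normal subgroup of the finite group L and x a non-identity element whose order is coprime to the order of K, such that K ⊓ C_L(y) = W₂ for every non-identity element y of the cyclic group generated by x. Then the number of conjugacy classes of K mapped to themselves by conjugation by x is at most Nat.card W₂. -/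
theorem result {L : Type*} [Group L] [Finite L] (K W₂ : Subgroup L) [hK : K.Normal] (x : L) (hx1 : x ≠ 1) (hx : Nat.Coprime (orderOf x) (Nat.card K)) (hC : ∀ y ∈ Subgroup.zpowers x, y ≠ 1 → K ⊓ Subgroup.centralizer ({y} : Set L) = W₂) : Nat.card {C : ConjClasses K // ConjClasses.map (MulEquiv.toMonoidHom ((MulAut.conjNormal x : MulAut K))) C = C} ≤ Nat.card W₂ := by
  classical
  have hW : K ⊓ Subgroup.centralizer ({x} : Set L) = W₂ := hC x (Subgroup.mem_zpowers x) hx1
  choose k hk1 hk2 using fun C : {C : ConjClasses K // ConjClasses.map (MulEquiv.toMonoidHom ((MulAut.conjNormal x : MulAut K))) C = C} =>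
    exists_fixed K x hx C.1 C.2
  have hmem : ∀ C, ((k C : K) : L) ∈ W₂ := by
    intro C
    rw [← hW]
    refine Subgroup.mem_inf.mpr ⟨(k C).2, ?_⟩
    rw [Subgroup.mem_centralizer_iff]
    intro y hy
    rw [Set.mem_singleton_iff] at hy
    subst hy
    exact hk2 C
  apply Nat.card_le_card_of_injective (fun C => (⟨((k C : K) : L), hmem C⟩ : W₂))
  intro C C' h
  have h1 : ((k C : K) : L) = ((k C' : K) : L) := by
    have := congrArg (fun w : W₂ => (w : L)) h
    exact this
  have h2 : k C = k C' := Subtype.ext h1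
  apply Subtype.ext
  rw [← hk1 C, ← hk1 C', h2]

end Cfsg.Agent.S1512
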