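import Mathlib
import Cfsg.Statements.S1515
import Cfsg.Agent.Lib.Helper4.Coherence

set_option autoImplicit false
open Cfsg

namespace Cfsg.Agent.S1515

open Cfsg.Agent.Lib.Helper4 Cfsg.Agent.Lib.Helper1
open scoped ComplexConjugate

/-- Let (S, τ, R) be a coherence system from L to G, χ ∈ S, and ψ an integer combination of S with ⟨χ, ψ⟩ = ⟨conj χ, ψ⟩ = 0. Let τ₁ be a linear isometry on the integer combinations of χ − ψ and χ − conj χ, with virtual-character values, agreeing with τ on integer multiples of χ − conj χ. Then the sum over α ∈ R χ of the squared absolute values of ⟨τ₁(χ − ψ), α⟩ is at least ⟨χ, χ⟩; and if ⟨τ₁(χ − ψ), τ₁(χ − ψ)⟩ minus that sum is at least ⟨ψ, ψ⟩, then the sum equals ⟨χ, χ⟩ and every ⟨τ₁(χ − ψ), α⟩ with α ∈ R χ is 0 or 1. -/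
theorem result {L : Type*} [Group L] [Fintype L] {G : Type*} [Group G] [Fintype G] (S : Set (L → ℂ)) (τ : (L → ℂ) → (G → ℂ)) (R : (L → ℂ) → Finset (G → ℂ)) (hS : Cfsg.IsCoherenceSystem S τ R) (χ : L → ℂ) (hχ : χ ∈ S) (ψ : L → ℂ) (hψ : ψ ∈ Cfsg.zspan S) (h1 : Cfsg.classInner χ ψ = 0) (h2 : Cfsg.classInner (Cfsg.conjFun χ) ψ = 0) (τ₁ : (L → ℂ) → (G → ℂ)) (hτ₁ : Cfsg.IsLinearIsometryOn (Cfsg.zspan {χ - ψ, χ - Cfsg.conjFun χ}) τ₁) (hagree : ∀ n : ℤ, τ₁ (n • (χ - Cfsg.conjFun χ)) = τ (n • (χ - Cfsg.conjFun χ))) : (Cfsg.classInner χ χ).re ≤ ∑ α ∈ R χ, ‖Cfsg.classInner (τ₁ (χ - ψ)) α‖ ^ 2 ∧ ((Cfsg.classInner ψ ψ).re ≤ (Cfsg.classInner (τ₁ (χ - ψ)) (τ₁ (χ - ψ))).re - ∑ α ∈ R χ, ‖Cfsg.classInner (τ₁ (χ - ψ)) α‖ ^ 2 → (∑ α ∈ R χ, ‖Cfsg.classInner (τ₁ (χ - ψ)) α‖ ^ 2 = (Cfsg.classInner χ χ).re ∧ ∀ α ∈ R χ, Cfsg.classInner (τ₁ (χ - ψ)) α = 0 ∨ Cfsg.classInner (τ₁ (χ - ψ)) α = 1)) := by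
  classical
  set X := τ₁ (χ - ψ) with hX
  have hm1 : χ - ψ ∈ Cfsg.zspan ({χ - ψ, χ - Cfsg.conjFun χ} : Set (L → ℂ)) :=
    mem_zspan_of_mem (by simp)
  have hm2 : χ - Cfsg.conjFun χ ∈ Cfsg.zspan ({χ - ψ, χ - Cfsg.conjFun χ} : Set (L → ℂ)) :=
    mem_zspan_of_mem (by simp)
  have hXg : Cfsg.IsGeneralizedCharacter G X := lio_genChar hτ₁ hm1
  -- integrality
  have hint : ∀ α ∈ R χ, ∃ z : ℤ, Cfsg.classInner X α = z := fun α hα =>
    classInner_genChar_int hXg (hS.virtual χ hχ α hα)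
  -- orthogonality facts
  have hcc : Cfsg.classInner χ (Cfsg.conjFun χ) = 0 :=
    hS.orthogonal χ hχ _ (hS.conj_mem χ hχ) (hS.conj_ne χ hχ).symm
  have h1' : Cfsg.classInner ψ χ = 0 := classInner_eq_zero_symm h1
  have h2' : Cfsg.classInner ψ (Cfsg.conjFun χ) = 0 := classInner_eq_zero_symm h2
  -- the sum of the inner products
  have hsum : ∑ α ∈ R χ, Cfsg.classInner X α = Cfsg.classInner χ χ := by
    have e1 : τ₁ (χ - Cfsg.conjFun χ) = τ (χ - Cfsg.conjFun χ) := by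
      have := hagree 1
      simpa using this
    have e2 : ∑ α ∈ R χ, Cfsg.classInner X α = Cfsg.classInner X (∑ α ∈ R χ, α) := by
      rw [classInner_sum_right]
    rw [e2, ← hS.sum_eq χ hχ, ← e1, hX, lio_inner hτ₁ hm1 hm2, classInner_sub_left,
      classInner_sub_right, classInner_sub_right, hcc, h1', h2']
    ring
  have hnorm : Cfsg.classInner X X = Cfsg.classInner χ χ + Cfsg.classInner ψ ψ := by
    rw [hX, lio_inner hτ₁ hm1 hm1, classInner_sub_left, classInner_sub_right, classInner_sub_right,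
      h1, h1']
    ring
  -- real versions
  have hre : ∀ α ∈ R χ, ‖Cfsg.classInner X α‖ ^ 2 = (Cfsg.classInner X α).re ^ 2 ∧
      (Cfsg.classInner X α).re ≤ (Cfsg.classInner X α).re ^ 2 := by
    intro α hα
    obtain ⟨z, hz⟩ := hint α hα
    rw [hz]
    constructor
    · rw [Complex.norm_intCast, Complex.intCast_re, sq_abs]
    · rw [Complex.intCast_re]
      have : z ≤ z ^ 2 := by nlinarith [sq_nonneg (z - 1), sq_nonneg z]
      exact_mod_cast this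
  have hsumre : ∑ α ∈ R χ, (Cfsg.classInner X α).re = (Cfsg.classInner χ χ).re := by
    rw [← hsum, Complex.re_sum]
  have hsq : ∑ α ∈ R χ, ‖Cfsg.classInner X α‖ ^ 2 = ∑ α ∈ R χ, (Cfsg.classInner X α).re ^ 2 :=
    Finset.sum_congr rfl fun α hα => (hre α hα).1
  have hle : ∑ α ∈ R χ, (Cfsg.classInner X α).re ≤ ∑ α ∈ R χ, (Cfsg.classInner X α).re ^ 2 :=
    Finset.sum_le_sum fun α hα => (hre α hα).2
  refine ⟨by rw [hsq, ← hsumre]; exact hle, ?_⟩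
  intro hyp
  rw [hnorm, Complex.add_re] at hyp
  have hge : ∑ α ∈ R χ, (Cfsg.classInner X α).re ^ 2 ≤ ∑ α ∈ R χ, (Cfsg.classInner X α).re := by
    rw [hsumre, ← hsq]; linarith
  have heq : ∑ α ∈ R χ, (Cfsg.classInner X α).re = ∑ α ∈ R χ, (Cfsg.classInner X α).re ^ 2 :=
    le_antisymm hle hge
  refine ⟨by rw [hsq, ← heq, hsumre], ?_⟩
  intro α hα
  have hterm := (Finset.sum_eq_sum_iff_of_le (fun α hα => (hre α hα).2)).mp heq α hα
  obtain ⟨z, hz⟩ := hint α hα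
  rw [hz, Complex.intCast_re] at hterm
  have hz2 : z = z ^ 2 := by exact_mod_cast hterm
  have hz3 : z * (z - 1) = 0 := by linear_combination -hz2
  rw [hz]
  rcases mul_eq_zero.mp hz3 with h | h
  · left; rw [h]; simp
  · right
    have : z = 1 := by omega
    rw [this]; simp

end Cfsg.Agent.S1515
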