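import Cfsg.Statements.S1518
import Mathlib
import Cfsg.Agent.S1501
import Cfsg.Agent.S1500
import Cfsg.Agent.Lib.Helper4.Coherence
import Cfsg.Agent.Lib.Helper4.FrobTI4

set_option autoImplicit false
open Cfsg

namespace Cfsg.Agent.S1518

open Cfsg.Agent.Lib.Helper1 Cfsg.Agent.Lib.Helper4 Cfsg.Agent.Lib.Helper4.FrobTI
open scoped ComplexConjugate

theorem dade_conjFun {G : Type*} [Group G] (A : Set G) (L : Subgroup G) (H : G → Subgroup G)
    (α : L → ℂ) :
    Cfsg.dadeIsometry A L H (Cfsg.conjFun α) = Cfsg.conjFun (Cfsg.dadeIsometry A L H α) := by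
  classical
  funext g
  show Cfsg.dadeIsometry A L H (Cfsg.conjFun α) g = conj (Cfsg.dadeIsometry A L H α g)
  unfold Cfsg.dadeIsometry
  beta_reduce
  by_cases h : ∃ a : ↥L, (a : G) ∈ A ∧ ∃ x : G, ∃ u ∈ H (a : G), x * g * x⁻¹ = (a : G) * u
  · rw [dif_pos h, dif_pos h]
    rfl
  · rw [dif_neg h, dif_neg h, map_zero]

theorem dade_neg {G : Type*} [Group G] (A : Set G) (L : Subgroup G) (H : G → Subgroup G)
    (α : L → ℂ) :
    Cfsg.dadeIsometry A L H (-α) = - Cfsg.dadeIsometry A L H α := by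
  classical
  funext g
  show Cfsg.dadeIsometry A L H (-α) g = - (Cfsg.dadeIsometry A L H α g)
  unfold Cfsg.dadeIsometry
  beta_reduce
  by_cases h : ∃ a : ↥L, (a : G) ∈ A ∧ ∃ x : G, ∃ u ∈ H (a : G), x * g * x⁻¹ = (a : G) * u
  · rw [dif_pos h, dif_pos h]
    rfl
  · rw [dif_neg h, dif_neg h, neg_zero]

theorem dade_apply_one {G : Type*} [Group G] {A : Set G} {L : Subgroup G} {H : G → Subgroup G}
    (hD : Cfsg.DadeHypothesis A L H) (α : L → ℂ) : Cfsg.dadeIsometry A L H α 1 = 0 := by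
  apply dade_apply_of_not
  rintro ⟨a, ha, u, hu, x, hx⟩
  rw [mul_one, mul_inv_cancel] at hx
  have h1 : u = (a : G)⁻¹ := eq_inv_of_mul_eq_one_right hx.symm
  have h2 : u ∈ H a ⊓ (L ⊓ Subgroup.centralizer ({(a : G)} : Set G)) := by
    refine Subgroup.mem_inf.mpr ⟨hu, ?_⟩
    rw [h1]
    exact Subgroup.inv_mem _ (dade_mem_inf hD ha)
  rw [hD.inf_eq_bot a ha, Subgroup.mem_bot] at h2
  rw [h2, one_eq_inv] at h1
  exact hD.one_not_mem (h1 ▸ ha)

/-- Under the Dade hypothesis for (A, L, H): if χ is an irreducible character of L vanishing at every non-identity element of L outside A, then the Dade image of χ − conj χ equals μ − conj μ for some irreducible character μ of G. -/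
theorem result {G : Type*} [Group G] [Fintype G] (A : Set G) (L : Subgroup G) [Fintype L] (H : G → Subgroup G) (hD : Cfsg.DadeHypothesis A L H) (χ : L → ℂ) (hχ : Cfsg.IsIrrCharacter L χ) (hsupp : ∀ x : L, x ≠ 1 → (x : G) ∉ A → χ x = 0) : ∃ μ : G → ℂ, Cfsg.IsIrrCharacter G μ ∧ Cfsg.dadeIsometry A L H (χ - Cfsg.conjFun χ) = μ - Cfsg.conjFun μ := by
  classical
  have hχc : Cfsg.IsIrrCharacter L (Cfsg.conjFun χ) := isIrrCharacter_conj hχ
  by_cases hreal : Cfsg.conjFun χ = χ
  · refine ⟨fun _ => 1, Cfsg.Agent.S0161.isIrrCharacter_one, ?_⟩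
    rw [hreal, sub_self]
    funext g
    have h0 : Cfsg.dadeIsometry A L H (0 : L → ℂ) g = 0 := by
      unfold Cfsg.dadeIsometry
      split_ifs <;> rfl
    rw [h0]
    simp [Cfsg.conjFun]
  · set α : L → ℂ := χ - Cfsg.conjFun χ with hαdef
    have hα : Cfsg.IsGeneralizedCharacter L α :=
      isGenChar_sub (isGenChar_of_irr hχ) (isGenChar_of_irr hχc)
    have hαc : Cfsg.IsClassFunction L α := isGenChar_isClassFunction hα
    have hαA : ∀ x : L, (x : G) ∉ A → α x = 0 := by
      intro x hx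
      by_cases h1 : x = 1
      · subst h1
        show χ 1 - conj (χ 1) = 0
        obtain ⟨n, hn⟩ := isCharacter_apply_one (isCharacter_of_irr hχ)
        rw [hn]
        simp
      · show χ x - conj (χ x) = 0
        rw [hsupp x h1 hx]
        simp
    have hθ := Cfsg.Agent.S1501.result A L H hD α hα hαA
    have hnorm : Cfsg.classInner (Cfsg.dadeIsometry A L H α) (Cfsg.dadeIsometry A L H α) = 2 := by
      rw [(Cfsg.Agent.S1500.result A L H hD α hαc hαA).1 α hαc hαA, hαdef,
        classInner_sub_left, classInner_sub_right, classInner_sub_right,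
        classInner_irr_self hχ, classInner_irr_self hχc,
        classInner_irr_ne hχ hχc (fun h => hreal h.symm),
        classInner_irr_ne hχc hχ hreal]
      norm_num
    have h1 : Cfsg.dadeIsometry A L H α 1 = 0 := dade_apply_one hD α
    obtain ⟨ψ₁, ψ₂, hψ₁, hψ₂, hne, a, ha, hθeq⟩ := genChar_norm_two_vanish hθ hnorm h1
    have hconj : Cfsg.conjFun (Cfsg.dadeIsometry A L H α) = - Cfsg.dadeIsometry A L H α := by
      rw [← dade_conjFun]
      have h2 : Cfsg.conjFun α = -α := by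
        funext x
        simp [hαdef, Cfsg.conjFun]
      rw [h2, dade_neg]
    rcases ha with rfl | rfl
    · refine ⟨ψ₁, hψ₁, ?_⟩
      rw [one_smul, one_smul] at hθeq
      have h3 : Cfsg.conjFun ψ₁ - Cfsg.conjFun ψ₂ = ψ₂ - ψ₁ := by
        rw [hθeq] at hconj
        rw [← neg_sub ψ₁ ψ₂, ← hconj]
        funext g
        simp [Cfsg.conjFun]
      rw [conj_pair hψ₁ hψ₂ hne h3]
      exact hθeq
    · refine ⟨ψ₂, hψ₂, ?_⟩
      have hθeq' : Cfsg.dadeIsometry A L H α = ψ₂ - ψ₁ := by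
        rw [hθeq]
        funext g
        simp
        ring
      have h3 : Cfsg.conjFun ψ₂ - Cfsg.conjFun ψ₁ = ψ₁ - ψ₂ := by
        rw [hθeq'] at hconj
        rw [← neg_sub ψ₂ ψ₁, ← hconj]
        funext g
        simp [Cfsg.conjFun]
      rw [conj_pair hψ₂ hψ₁ (Ne.symm hne) h3]
      exact hθeq'

end Cfsg.Agent.S1518
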