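import Mathlib
import Cfsg.Statements.S1524
import Cfsg.Agent.Lib.Helper4.PF8g
-- import your own Cfsg.Agent.* helpers here

set_option autoImplicit false
open Cfsg

namespace Cfsg.Agent.S1524

/-- Let G be a finite group and H ≤ L subgroups with L of odd order, H ≠ ⊥ nilpotent and normal in L with a nontrivial complement W₁ in L (H ⊓ W₁ = ⊥, H ⊔ W₁ = L) acting on H without non-identity fixed points (L is a Frobenius group with kernel H), and suppose the underlying set of H is a TI-subset of G whose normaliser is L. Let S be the set of functions on L induced from the non-principal irreducible characters of H. Then (S, L minus 1, induction to G) is coherent. -/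
theorem result {G : Type*} [Group G] [Fintype G] (H L W₁ : Subgroup G) [Fintype L] (hodd : Odd (Nat.card L)) (hHL : H ≤ L) (hW₁L : W₁ ≤ L) (hH1 : H ≠ ⊥) (hW1 : W₁ ≠ ⊥) (hnil : Group.IsNilpotent H) (hHn : ∀ x ∈ L, ∀ h ∈ H, x * h * x⁻¹ ∈ H) (hinf : H ⊓ W₁ = ⊥) (hsup : H ⊔ W₁ = L) (hfpf : ∀ w ∈ W₁, w ≠ 1 → ∀ h ∈ H, w * h = h * w → h = 1) (hTI : Cfsg.IsTISubset (H : Set G)) (hN : Subgroup.normalizer (H : Set G) = L) : Cfsg.IsCoherent (Cfsg.inducedIrrAbove (H.subgroupOf L) ⊥) {1}ᶜ (fun α : L → ℂ => Cfsg.indFun L α) := by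
  classical
  subst hN
  haveI hKn : (H.subgroupOf (Subgroup.normalizer (H : Set G))).Normal :=
    Subgroup.normal_in_normalizer
  haveI : Fintype (H.subgroupOf (Subgroup.normalizer (H : Set G))) := Fintype.ofFinite _
  have hsupN : H.subgroupOf (Subgroup.normalizer (H : Set G)) ⊔
      W₁.subgroupOf (Subgroup.normalizer (H : Set G)) = ⊤ := by
    rw [← Subgroup.subgroupOf_sup hHL hW₁L, hsup, Subgroup.subgroupOf_self]
  have hfpfN : ∀ w ∈ W₁.subgroupOf (Subgroup.normalizer (H : Set G)), w ≠ 1 →
      ∀ k ∈ H.subgroupOf (Subgroup.normalizer (H : Set G)), w * k = k * w → k = 1 := by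
    intro w hw hw1 k hk hcomm
    rw [Subgroup.mem_subgroupOf] at hw hk
    apply Subtype.ext
    exact hfpf w.1 hw (fun h => hw1 (Subtype.ext h)) k.1 hk (congrArg Subtype.val hcomm)
  have hCN := Cfsg.Agent.Lib.Helper4.PF8.frob_of_fpf _ _ hsupN hfpfN
  have hK1 : H.subgroupOf (Subgroup.normalizer (H : Set G)) ≠ ⊥ := by
    intro h
    apply hH1
    rw [Subgroup.eq_bot_iff_forall]
    intro x hx
    have h1 : (⟨x, hHL hx⟩ : ↥(Subgroup.normalizer (H : Set G))) ∈
        H.subgroupOf (Subgroup.normalizer (H : Set G)) := Subgroup.mem_subgroupOf.mpr hx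
    rw [h, Subgroup.mem_bot] at h1
    exact congrArg Subtype.val h1
  have hK2 : H.subgroupOf (Subgroup.normalizer (H : Set G)) ≠ ⊤ := by
    intro h
    apply hW1
    rw [Subgroup.eq_bot_iff_forall]
    intro x hx
    have h1 : (⟨x, hW₁L hx⟩ : ↥(Subgroup.normalizer (H : Set G))) ∈
        H.subgroupOf (Subgroup.normalizer (H : Set G)) := by rw [h]; exact Subgroup.mem_top _
    have h2 : x ∈ H ⊓ W₁ := ⟨Subgroup.mem_subgroupOf.mp h1, hx⟩
    rw [hinf, Subgroup.mem_bot] at h2
    exact h2
  obtain ⟨hiso, hone⟩ := Cfsg.Agent.Lib.Helper4.PF6.ti_isometry H hTI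
  have hKodd : Odd (Nat.card (H.subgroupOf (Subgroup.normalizer (H : Set G)))) :=
    Odd.of_dvd_nat hodd (Subgroup.card_subgroup_dvd_card _)
  have heodd : Odd (H.subgroupOf (Subgroup.normalizer (H : Set G))).index :=
    Odd.of_dvd_nat hodd (Subgroup.index_dvd_card _)
  have he : Nat.card (H.subgroupOf (Subgroup.normalizer (H : Set G))) ≠
      (H.subgroupOf (Subgroup.normalizer (H : Set G))).index + 1 := by
    intro h
    rw [h] at hKodd
    obtain ⟨a, ha⟩ := hKodd
    obtain ⟨b, hb⟩ := heodd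
    omega
  have hcardK : Nat.card (H.subgroupOf (Subgroup.normalizer (H : Set G))) = Nat.card H :=
    Nat.card_congr (Subgroup.subgroupOfEquivOfLe hHL).toEquiv
  rcases Cfsg.Agent.Lib.Helper4.PF7.feit_frobenius _ hK1 hK2 hCN he
    (fun α => Cfsg.indFun (Subgroup.normalizer (H : Set G)) α) hiso hone with
    hcoh | ⟨⟨p, hp, m, hm⟩, hnab, -⟩
  · exact hcoh
  · haveI : Fact p.Prime := ⟨hp⟩
    have hHp : IsPGroup p H := IsPGroup.of_card (n := m) (by rw [← hcardK, hm])
    have hm0 : m ≠ 0 := by
      intro h0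
      rw [h0, pow_zero] at hm
      exact hK1 ((Subgroup.eq_bot_iff_card _).mpr hm)
    have hcop : ¬ p ∣ (H.subgroupOf (Subgroup.normalizer (H : Set G))).index := by
      intro hdvd
      have h1 := Cfsg.Agent.Lib.Helper4.FrobTI.coprime_card_index _ hCN
      rw [hm] at h1
      have h2 : p ∣ Nat.gcd (p ^ m) (H.subgroupOf (Subgroup.normalizer (H : Set G))).index :=
        Nat.dvd_gcd (dvd_pow_self p hm0) hdvd
      rw [h1] at h2
      exact hp.one_lt.ne' (Nat.dvd_one.mp h2)
    have hp2 : p ≠ 2 := by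
      intro h2
      rw [hm, h2] at hKodd
      have : Even (2 ^ m) := (Nat.even_pow.mpr ⟨even_two, hm0⟩)
      exact (Nat.not_odd_iff_even.mpr this) hKodd
    have hCG : ∀ k ∈ H, k ≠ 1 → Subgroup.centralizer ({k} : Set G) ≤ H := by
      intro k hk hk1 x hx
      have hxk : k * x = x * k := by
        rw [Subgroup.mem_centralizer_iff] at hx
        exact hx k rfl
      have hxN : x ∈ Subgroup.normalizer (H : Set G) := by
        by_contra hno
        apply hk1
        apply hTI x hno k hk
        have : x * k * x⁻¹ = k := by rw [← hxk]; group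
        rw [this]; exact hk
      have h1 : (⟨x, hxN⟩ : ↥(Subgroup.normalizer (H : Set G))) ∈
          Subgroup.centralizer ({(⟨k, hHL hk⟩ : ↥(Subgroup.normalizer (H : Set G)))} :
            Set ↥(Subgroup.normalizer (H : Set G))) := by
        rw [Subgroup.mem_centralizer_iff]
        intro y hy
        rw [Set.mem_singleton_iff] at hy
        subst hy
        exact Subtype.ext hxk
      have h2 := hCN ⟨k, hHL hk⟩ (Subgroup.mem_subgroupOf.mpr hk)
        (fun h => hk1 (congrArg Subtype.val h)) h1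
      exact Subgroup.mem_subgroupOf.mp h2
    have hlt : H < Subgroup.normalizer (H : Set G) := by
      refine lt_of_le_of_ne hHL ?_
      intro h
      apply hK2
      rw [Subgroup.subgroupOf_eq_top]
      exact h.ge
    have hna : ¬ IsMulCommutative H := by
      intro hc
      apply hnab
      rw [Subgroup.commutator_eq_bot_iff_le_centralizer]
      intro a ha
      rw [Subgroup.mem_subgroupOf] at ha
      rw [Subgroup.mem_centralizer_iff]
      intro b hb
      have hb' : (b : G) ∈ H := Subgroup.mem_subgroupOf.mp hb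
      have := hc.is_comm.comm (⟨b.1, hb'⟩ : ↥H) ⟨a.1, ha⟩
      have h2 : (b : G) * (a : G) = (a : G) * (b : G) := congrArg Subtype.val this
      exact Subtype.ext h2
    obtain ⟨P, hP⟩ := Cfsg.Agent.Lib.Helper4.PF8.sylow_of_normalizer p H hHp hcop
    subst hP
    exact Cfsg.Agent.Lib.Helper4.PF8.sibley_sylow p hp2 P hna hTI hlt hCG

end Cfsg.Agent.S1524
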