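import Mathlib
import Cfsg.Statements.S1525
import Cfsg.Agent.Lib.Helper4.Dade4
-- import your own Cfsg.Agent.* helpers here

set_option autoImplicit false
open Cfsg

namespace Cfsg.Agent.S1525

/-- Under the Dade hypothesis for (A, L, H), let χ be a class function of G and let ψ be a function on L whose value at each a ∈ A is the average of χ over the coset a·H(a). Then (1/|G|) Σ |χ g|² over the elements g of G conjugate into some coset a·H(a) with a ∈ A is at least (1/|L|) Σ_{a ∈ A ∩ L} |ψ a|². -/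
theorem result {G : Type*} [Group G] [Fintype G] (A : Set G) (L : Subgroup G) [Fintype L] (H : G → Subgroup G) (hD : Cfsg.DadeHypothesis A L H) (χ : G → ℂ) (hχ : Cfsg.IsClassFunction G χ) (ψ : L → ℂ) (hψ : ∀ a : L, (a : G) ∈ A → ψ a = (Nat.card (H a) : ℂ)⁻¹ * ∑ᶠ u ∈ (H a : Set G), χ (a * u)) : (Nat.card L : ℝ)⁻¹ * ∑ᶠ a ∈ {a : L | (a : G) ∈ A}, ‖ψ a‖ ^ 2 ≤ (Nat.card G : ℝ)⁻¹ * ∑ᶠ g ∈ {g : G | ∃ a ∈ A, ∃ u ∈ H a, ∃ x : G, x * g * x⁻¹ = a * u}, ‖χ g‖ ^ 2 := by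
  classical
  have hL0 : (0 : ℝ) < (Nat.card L : ℝ) := Nat.cast_pos.2 Nat.card_pos
  have hG0 : (0 : ℝ) < (Nat.card G : ℝ) := Nat.cast_pos.2 Nat.card_pos
  set F : G → ℝ := fun g => ‖χ g‖ ^ 2 with hF
  have hFc : ∀ g x : G, F (x * g * x⁻¹) = F g := by
    intro g x
    simp only [hF]
    rw [hχ g x]
  have hsum := Cfsg.Agent.Lib.Helper4.dade_sum (K := ℝ) hD F hFc
  -- convert the finsums
  have hsetD : {g : G | ∃ a ∈ A, ∃ u ∈ H a, ∃ x : G, x * g * x⁻¹ = a * u}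
      = ↑((Finset.univ : Finset G).filter
        (fun g => ∃ a : L, (a : G) ∈ A ∧ ∃ u ∈ H a, ∃ x : G, x * g * x⁻¹ = (a : G) * u)) := by
    ext g
    simp only [Set.mem_ofPred_eq, Finset.coe_filter, Finset.mem_univ, true_and]
    constructor
    · rintro ⟨a, ha, u, hu, x, hx⟩
      exact ⟨⟨a, hD.subset ha⟩, ha, u, hu, x, hx⟩
    · rintro ⟨a, ha, u, hu, x, hx⟩
      exact ⟨a, ha, u, hu, x, hx⟩
  have hsetA : {a : L | (a : G) ∈ A}
      = ↑((Finset.univ : Finset L).filter (fun a : L => (a : G) ∈ A)) := by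
    ext a
    simp
  rw [hsetD, hsetA, finsum_mem_coe_finset, finsum_mem_coe_finset]
  have h1 : (Nat.card G : ℝ)⁻¹ * ∑ g ∈ (Finset.univ : Finset G).filter
        (fun g => ∃ a : L, (a : G) ∈ A ∧ ∃ u ∈ H a, ∃ x : G, x * g * x⁻¹ = (a : G) * u), ‖χ g‖ ^ 2
      = (Nat.card L : ℝ)⁻¹ * ∑ a ∈ (Finset.univ : Finset L).filter (fun a : L => (a : G) ∈ A),
          (fun a : L => ((Nat.card (H (a : G)) : ℝ))⁻¹ *
            ∑ u ∈ (Finset.univ : Finset G).filter (fun u => u ∈ H (a : G)), F ((a : G) * u)) a := by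
    have h2 : ∑ g ∈ (Finset.univ : Finset G).filter
        (fun g => ∃ a : L, (a : G) ∈ A ∧ ∃ u ∈ H a, ∃ x : G, x * g * x⁻¹ = (a : G) * u), ‖χ g‖ ^ 2
        = (Nat.card L : ℝ)⁻¹ * ((Nat.card G : ℝ) *
          ∑ a ∈ (Finset.univ : Finset L).filter (fun a : L => (a : G) ∈ A),
          (fun a : L => ((Nat.card (H (a : G)) : ℝ))⁻¹ *
            ∑ u ∈ (Finset.univ : Finset G).filter (fun u => u ∈ H (a : G)), F ((a : G) * u)) a) := by
      rw [← hsum]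
      field_simp
      rfl
    rw [h2]
    field_simp
  rw [h1]
  apply mul_le_mul_of_nonneg_left _ (inv_nonneg.2 hL0.le)
  refine Finset.sum_le_sum fun a ha => ?_
  have haA : (a : G) ∈ A := (Finset.mem_filter.1 ha).2
  have hset : ((H (a : G) : Subgroup G) : Set G)
      = ↑((Finset.univ : Finset G).filter (fun u => u ∈ H (a : G))) := by
    ext u
    simp
  rw [hψ a haA, hset, finsum_mem_coe_finset]
  set S := (Finset.univ : Finset G).filter (fun u => u ∈ H (a : G)) with hS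
  have hcard : (S.card : ℝ) = (Nat.card (H (a : G)) : ℝ) := by
    rw [hS, Nat.card_eq_fintype_card, Fintype.card_subtype]
  have hH0 : (0 : ℝ) < (Nat.card (H (a : G)) : ℝ) := Nat.cast_pos.2 Nat.card_pos
  show ‖(Nat.card (H (a : G)) : ℂ)⁻¹ * ∑ u ∈ S, χ ((a : G) * u)‖ ^ 2
    ≤ ((Nat.card (H (a : G)) : ℝ))⁻¹ * ∑ u ∈ S, ‖χ ((a : G) * u)‖ ^ 2
  rw [norm_mul, norm_inv, Complex.norm_natCast, mul_pow]
  have h3 : ‖∑ u ∈ S, χ ((a : G) * u)‖ ^ 2 ≤ (S.card : ℝ) * ∑ u ∈ S, ‖χ ((a : G) * u)‖ ^ 2 := by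
    have h4 : ‖∑ u ∈ S, χ ((a : G) * u)‖ ≤ ∑ u ∈ S, ‖χ ((a : G) * u)‖ := norm_sum_le _ _
    have h5 := sq_sum_le_card_mul_sum_sq (s := S) (f := fun u => ‖χ ((a : G) * u)‖)
    calc ‖∑ u ∈ S, χ ((a : G) * u)‖ ^ 2 ≤ (∑ u ∈ S, ‖χ ((a : G) * u)‖) ^ 2 :=
          pow_le_pow_left₀ (norm_nonneg _) h4 2
      _ ≤ _ := h5
  rw [hcard] at h3
  calc ((Nat.card (H (a : G)) : ℝ))⁻¹ ^ 2 * ‖∑ u ∈ S, χ ((a : G) * u)‖ ^ 2
      ≤ ((Nat.card (H (a : G)) : ℝ))⁻¹ ^ 2 *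
          ((Nat.card (H (a : G)) : ℝ) * ∑ u ∈ S, ‖χ ((a : G) * u)‖ ^ 2) :=
        mul_le_mul_of_nonneg_left h3 (by positivity)
    _ = ((Nat.card (H (a : G)) : ℝ))⁻¹ * ∑ u ∈ S, ‖χ ((a : G) * u)‖ ^ 2 := by
        field_simp

end Cfsg.Agent.S1525
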