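import Mathlib
import Cfsg.Statements.S1528
import Cfsg.Agent.Lib.Helper4.IndNormal
import Cfsg.Agent.Lib.Helper1.CharFound8
import Cfsg.Agent.Lib.Helper1.LinearChar
import Cfsg.Agent.S0148

set_option autoImplicit false
open Cfsg

namespace Cfsg.Agent.S1528

open Cfsg.Agent.Lib.Helper4 Cfsg.Agent.Lib.Helper1
open scoped ComplexConjugate

/-- the principal character is irreducible -/
theorem isIrr_one {N : Type*} [Group N] : Cfsg.IsIrrCharacter N (fun _ => (1 : ℂ)) := by
  have := isIrrCharacter_of_hom (1 : N →* ℂˣ)
  simpa using this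

/-- In a "Frobenius kernel" `N`, an element outside `N` fixes no nonprincipal irreducible
character of `N`. -/
theorem not_fixed {G : Type*} [Group G] [Fintype G] (N : Subgroup G) [hN : N.Normal]
    (hC : ∀ n ∈ N, n ≠ 1 → Subgroup.centralizer ({n} : Set G) ≤ N) (g : G) (hg : g ∉ N)
    (φ : N → ℂ) (hφ : Cfsg.IsIrrCharacter N φ) (hφ1 : φ ≠ fun _ => 1) :
    conjFn N φ g ≠ φ := by
  classical
  intro hfix
  haveI : Fintype N := Fintype.ofFinite _
  haveI : Fintype (Cfsg.IrrCharacter N) := Fintype.ofFinite _
  haveI : Fintype (ConjClasses N) := Fintype.ofFinite _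
  let β : N → N := fun n => ⟨g * n * g⁻¹, hN.conj_mem n n.2 g⟩
  have hβ : ∀ χ : N → ℂ, Cfsg.IsIrrCharacter N χ → Cfsg.IsIrrCharacter N (fun n => χ (β n)) :=
    fun χ hχ => isIrrCharacter_conjFn N hχ g
  have hbr := brauer_perm_generic β hβ
  -- the right hand side is 1
  have hR : (Finset.univ.filter (fun c : ConjClasses N =>
        IsConj (β (Quotient.out c)) (Quotient.out c))) = {ConjClasses.mk 1} := by
    ext c
    simp only [Finset.mem_filter, Finset.mem_univ, true_and, Finset.mem_singleton]
    have hc : ConjClasses.mk (Quotient.out c) = c := Quotient.out_eq c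
    constructor
    · intro h
      by_cases h1 : Quotient.out c = 1
      · rw [← hc, h1]
      · exfalso
        obtain ⟨m, hm⟩ := isConj_iff.mp h
        have hm' : (m : G) * (g * (Quotient.out c : N) * g⁻¹) * (m : G)⁻¹ = (Quotient.out c : N) := by
          have := congrArg Subtype.val hm
          simpa [β] using this
        have hne : ((Quotient.out c : N) : G) ≠ 1 := fun h => h1 (Subtype.ext h)
        have hcen : (m : G) * g ∈ Subgroup.centralizer ({((Quotient.out c : N) : G)} : Set G) := by
          rw [Subgroup.mem_centralizer_iff]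
          intro y hy
          rw [Set.mem_singleton_iff] at hy
          subst hy
          have : (m : G) * g * (Quotient.out c : N) * ((m : G) * g)⁻¹ = (Quotient.out c : N) := by
            calc (m : G) * g * (Quotient.out c : N) * ((m : G) * g)⁻¹
                = (m : G) * (g * (Quotient.out c : N) * g⁻¹) * (m : G)⁻¹ := by group
              _ = (Quotient.out c : N) := hm'
          calc ((Quotient.out c : N) : G) * ((m : G) * g)
              = ((m : G) * g * (Quotient.out c : N) * ((m : G) * g)⁻¹) * ((m : G) * g) := by rw [this]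
            _ = (m : G) * g * (Quotient.out c : N) := by group
        have hmem := hC _ (Quotient.out c).2 hne hcen
        apply hg
        have : g = (m : G)⁻¹ * ((m : G) * g) := by group
        rw [this]
        exact N.mul_mem (N.inv_mem m.2) hmem
    · intro h
      have h1 : Quotient.out c = 1 := by
        rw [← hc] at h
        have := ConjClasses.mk_eq_mk_iff_isConj.mp h
        exact isConj_one_left.mp this
      rw [h1]
      have : β 1 = 1 := by
        apply Subtype.ext
        simp [β]
      rw [this]
  rw [hR, Finset.card_singleton] at hbr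
  -- the left hand side is at least 2
  have hL : ({⟨fun _ => 1, isIrr_one⟩, ⟨φ, hφ⟩} : Finset (Cfsg.IrrCharacter N)) ⊆
      Finset.univ.filter (fun χ : Cfsg.IrrCharacter N =>
        (fun n => (χ : N → ℂ) (β n)) = (χ : N → ℂ)) := by
    intro χ hχ
    simp only [Finset.mem_insert, Finset.mem_singleton] at hχ
    simp only [Finset.mem_filter, Finset.mem_univ, true_and]
    rcases hχ with rfl | rfl
    · rfl
    · exact hfix
  have hcard := Finset.card_le_card hL
  rw [Finset.card_pair (by
    intro h
    apply hφ1
    have := congrArg Subtype.val h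
    exact this.symm)] at hcard
  have h1 : (Finset.univ.filter (fun χ : Cfsg.IrrCharacter N =>
        (fun n => (χ : N → ℂ) (β n)) = (χ : N → ℂ))).card = 1 := by
    exact_mod_cast hbr
  omega

/-- Let N be a normal subgroup of the finite group G such that every element of G commuting with a non-identity element of N lies in N. If χ is an irreducible character of G with χ n ≠ χ 1 for some n ∈ N, then χ is the function induced from some irreducible character of N. -/
theorem result {G : Type*} [Group G] [Fintype G] (N : Subgroup G) [N.Normal] (hC : ∀ n ∈ N, n ≠ 1 → Subgroup.centralizer ({n} : Set G) ≤ N) (χ : G → ℂ) (hχ : Cfsg.IsIrrCharacter G χ) (hker : ∃ n ∈ N, χ n ≠ χ 1) : ∃ φ : N → ℂ, Cfsg.IsIrrCharacter N φ ∧ χ = Cfsg.indFun N φ := by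
  classical
  haveI : Fintype N := Fintype.ofFinite _
  haveI : Fintype (Cfsg.IrrCharacter N) := Fintype.ofFinite _
  set ρ : N → ℂ := fun n => χ n with hρ
  have hρc : Cfsg.IsCharacter N ρ := Cfsg.Agent.S0148.isCharacter_restrict N (isCharacter_of_irr hχ)
  -- a nonprincipal constituent
  have hex : ∃ φ : N → ℂ, Cfsg.IsIrrCharacter N φ ∧ φ ≠ (fun _ => 1) ∧ Cfsg.classInner ρ φ ≠ 0 := by
    by_contra hcon
    push Not at hcon
    obtain ⟨n, hn, hne⟩ := hker
    apply hne
    have hexp := class_function_expansion ρ (isClassFunction_of_isCharacter hρc)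
    rw [Finset.sum_eq_single (⟨fun _ => 1, isIrr_one⟩ : Cfsg.IrrCharacter N)] at hexp
    · have e1 := congrFun hexp ⟨n, hn⟩
      have e2 := congrFun hexp 1
      simp only [Pi.smul_apply, smul_eq_mul, mul_one] at e1 e2
      have : χ n = ρ ⟨n, hn⟩ := rfl
      rw [this, e1]
      have : χ 1 = ρ 1 := rfl
      rw [this, ← e2]
    · intro ψ _ hψ
      have hψ1 : (ψ : N → ℂ) ≠ fun _ => 1 := fun h => hψ (Subtype.ext h)
      rw [hcon ψ ψ.2 hψ1, zero_smul]
    · intro h; exact absurd (Finset.mem_univ _) h
  obtain ⟨φ, hφ, hφ1, hφne⟩ := hex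
  refine ⟨φ, hφ, ?_⟩
  -- the induced character has norm one
  have hnorm : Cfsg.classInner (Cfsg.indFun N φ) (Cfsg.indFun N φ) = 1 := by
    rw [classInner_indFun_normal]
    have hterm : ∀ g : G, Cfsg.classInner φ (conjFn N φ g) = if g ∈ N then 1 else 0 := by
      intro g
      split_ifs with hg
      · have : conjFn N φ g = φ := by
          funext n
          rw [conjFn_apply]
          have := isClassFunction_irr hφ n ⟨g, hg⟩
          exact this
        rw [this, classInner_irr_self hφ]
      · exact classInner_irr_ne hφ (isIrrCharacter_conjFn N hφ g)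
          (not_fixed N hC g hg φ hφ hφ1).symm
    rw [Finset.sum_congr rfl fun g _ => hterm g, Finset.sum_ite, Finset.sum_const_zero, add_zero,
      Finset.sum_const, nsmul_eq_mul, mul_one]
    have hc : (Finset.univ.filter (fun x : G => x ∈ N)).card = Nat.card N := by
      rw [Nat.card_eq_fintype_card, Fintype.card_subtype]
    rw [hc]
    have h0 : (Nat.card N : ℂ) ≠ 0 := Nat.cast_ne_zero.mpr Nat.card_pos.ne'
    field_simp
  have hirr : Cfsg.IsIrrCharacter G (Cfsg.indFun N φ) :=
    isIrrCharacter_of_norm_one (Cfsg.Agent.S0148.result N φ (isCharacter_of_irr hφ)) hnorm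
  by_contra hne
  have h0 := classInner_irr_ne hirr hχ (fun h => hne h.symm)
  rw [Cfsg.Agent.S0146.result N φ χ (isClassFunction_irr hχ)] at h0
  exact hφne (classInner_eq_zero_symm h0)

end Cfsg.Agent.S1528
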