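import Mathlib
import Cfsg.Statements.S1529
import Cfsg.Agent.Lib.Helper4.Coherence

set_option autoImplicit false
open Cfsg

namespace Cfsg.Agent.S1529

open Cfsg.Agent.Lib.Helper4 Cfsg.Agent.Lib.Helper1
open scoped ComplexConjugate

/-- Let N be a subgroup of the finite group G, S a set of irreducible characters of N with at least two members, and τ₁ a linear isometry on the integer combinations of S with virtual-character values such that τ₁ α vanishes at 1 whenever α ∈ ℤ[S] does. Then there is ε ∈ {1, −1} such that ε • τ₁ χ is an irreducible character of G for every χ ∈ S, and distinct members of S give distinct characters. -/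
theorem result {G : Type*} [Group G] [Fintype G] (N : Subgroup G) [Fintype N] (S : Set (N → ℂ)) (hirr : ∀ χ ∈ S, Cfsg.IsIrrCharacter N χ) (htwo : ∃ χ ∈ S, ∃ ψ ∈ S, χ ≠ ψ) (τ₁ : (N → ℂ) → (G → ℂ)) (hτ₁ : Cfsg.IsLinearIsometryOn (Cfsg.zspan S) τ₁) (h0 : ∀ α ∈ Cfsg.zspan S, α 1 = 0 → τ₁ α 1 = 0) : ∃ ε : ℂ, (ε = 1 ∨ ε = -1) ∧ (∀ χ ∈ S, Cfsg.IsIrrCharacter G (ε • τ₁ χ)) ∧ (∀ χ ∈ S, ∀ ψ ∈ S, τ₁ χ = τ₁ ψ → χ = ψ) := by
  classical
  -- each τ₁ χ is ± irreducible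
  have hpm : ∀ χ ∈ S, Cfsg.IsIrrCharacter G (τ₁ χ) ∨ Cfsg.IsIrrCharacter G (-τ₁ χ) := by
    intro χ hχ
    have hmem := mem_zspan_of_mem hχ
    have hn : Cfsg.classInner (τ₁ χ) (τ₁ χ) = 1 := by
      rw [lio_inner hτ₁ hmem hmem, classInner_irr_self (hirr χ hχ)]
    obtain ⟨ψ, hψ, h | h⟩ := genChar_norm_one (lio_genChar hτ₁ hmem) hn
    · left; rw [h]; exact hψ
    · right; rw [h, neg_neg]; exact hψ
  -- signs are uniform
  have hcompat : ∀ χ ∈ S, ∀ χ₀ ∈ S, Cfsg.IsIrrCharacter G (τ₁ χ) →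
      Cfsg.IsIrrCharacter G (-τ₁ χ₀) → False := by
    intro χ hχ χ₀ hχ₀ h1 h2
    obtain ⟨n, hn, hn1⟩ := irr_apply_one_pos (hirr χ hχ)
    obtain ⟨n₀, hn₀, hn₀1⟩ := irr_apply_one_pos (hirr χ₀ hχ₀)
    obtain ⟨k, hk, hk1⟩ := irr_apply_one_pos h1
    obtain ⟨k₀, hk₀, hk₀1⟩ := irr_apply_one_pos h2
    have hmem := mem_zspan_of_mem hχ
    have hmem₀ := mem_zspan_of_mem hχ₀
    have ha1 : ((n₀ : ℤ) • χ - (n : ℤ) • χ₀) 1 = 0 := by
      simp [hn1, hn₀1]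
      ring
    have hmemα : (n₀ : ℤ) • χ - (n : ℤ) • χ₀ ∈ Cfsg.zspan S :=
      zspan_sub (zspan_zsmul _ hmem) (zspan_zsmul _ hmem₀)
    have h3 := h0 _ hmemα ha1
    rw [lio_sub hτ₁ (zspan_zsmul _ hmem) (zspan_zsmul _ hmem₀) (zspan_neg (zspan_zsmul _ hmem₀)),
      lio_zsmul hτ₁ hmem, lio_zsmul hτ₁ hmem₀] at h3
    simp only [Pi.sub_apply, Pi.smul_apply, Pi.neg_apply] at h3 hk₀1
    rw [hk1] at h3
    have h4 : τ₁ χ₀ 1 = -(k₀ : ℂ) := by rw [← hk₀1, neg_neg]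
    rw [h4] at h3
    have h5 : ((n₀ * k + n * k₀ : ℕ) : ℂ) = 0 := by
      push_cast
      simp only [zsmul_eq_mul, Int.cast_natCast] at h3
      linear_combination h3
    have h6 : n₀ * k + n * k₀ = 0 := by exact_mod_cast h5
    have : 0 < n₀ * k := Nat.mul_pos hn₀ hk
    omega
  obtain ⟨χ₀, hχ₀, -⟩ := htwo
  have hinj : ∀ χ ∈ S, ∀ ψ ∈ S, τ₁ χ = τ₁ ψ → χ = ψ := by
    intro χ hχ ψ hψ h
    by_contra hne
    have h1 := lio_inner hτ₁ (mem_zspan_of_mem hχ) (mem_zspan_of_mem hψ)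
    rw [← h, lio_inner hτ₁ (mem_zspan_of_mem hχ) (mem_zspan_of_mem hχ),
      classInner_irr_self (hirr χ hχ), classInner_irr_ne (hirr χ hχ) (hirr ψ hψ) hne] at h1
    exact one_ne_zero h1
  rcases hpm χ₀ hχ₀ with h | h
  · refine ⟨1, Or.inl rfl, ?_, hinj⟩
    intro χ hχ
    rw [one_smul]
    rcases hpm χ hχ with h' | h'
    · exact h'
    · exact absurd (hcompat χ₀ hχ₀ χ hχ h h') id
  · refine ⟨-1, Or.inr rfl, ?_, hinj⟩
    intro χ hχ
    rw [neg_smul, one_smul]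
    rcases hpm χ hχ with h' | h'
    · exact absurd (hcompat χ hχ χ₀ hχ₀ h' h) id
    · exact h'

end Cfsg.Agent.S1529
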