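import Mathlib
import Cfsg.Statements.S1530
import Cfsg.Agent.Lib.Helper4.Coh8
-- import your own Cfsg.Agent.* helpers here

set_option autoImplicit false
open Cfsg
open Cfsg.Agent.Lib.Helper4 Cfsg.Agent.Lib.Helper4.Coh Cfsg.Agent.Lib.Helper1

namespace Cfsg.Agent.S1530

/-- Let N be a subgroup of the finite group G and S₀ a finite set of irreducible characters of N, χ an irreducible character of N not in S₀, with degrees ξ 1 = d ξ. Let τ be a linear isometry on the integer combinations of S₀ ∪ {χ} vanishing at 1, with values virtual characters of G vanishing at 1, such that (S₀, N minus 1, τ) is coherent. If some ψ ∈ S₀ has d ψ dividing d χ and 2 · d ψ · d χ < Σ_{ξ ∈ S₀} (d ξ)², then (S₀ ∪ {χ}, N minus 1, τ) is coherent. -/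
theorem result {G : Type*} [Group G] [Fintype G] (N : Subgroup G) [Fintype N] (S₀ : Finset (N → ℂ)) (χ : N → ℂ) (hirr : ∀ ξ ∈ S₀, Cfsg.IsIrrCharacter N ξ) (hχ : Cfsg.IsIrrCharacter N χ) (hχS : χ ∉ S₀) (d : (N → ℂ) → ℕ) (hd : ∀ ξ ∈ insert χ S₀, ξ 1 = (d ξ : ℂ)) (τ : (N → ℂ) → (G → ℂ)) (hτ : Cfsg.IsLinearIsometryOn (Cfsg.zspanOn (↑(insert χ S₀) : Set (N → ℂ)) {1}ᶜ) τ) (hτ1 : ∀ α ∈ Cfsg.zspanOn (↑(insert χ S₀) : Set (N → ℂ)) {1}ᶜ, τ α 1 = 0) (hcoh : Cfsg.IsCoherent (↑S₀ : Set (N → ℂ)) {1}ᶜ τ) (ψ : N → ℂ) (hψ : ψ ∈ S₀) (hdvd : d ψ ∣ d χ) (hlt : 2 * d ψ * d χ < ∑ ξ ∈ S₀, d ξ ^ 2) : Cfsg.IsCoherent (↑(insert χ S₀) : Set (N → ℂ)) {1}ᶜ τ := by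
  classical
  obtain ⟨-, τ₁, hτ₁, hagree⟩ := hcoh
  obtain ⟨a, ha⟩ := hdvd
  obtain ⟨Y, hYg, hYe, hYY, hYφ⟩ :=
    feit_main S₀ χ hirr hχ hχS d hd τ hτ hτ1 hτ₁ hagree hψ ha hlt
  have hsub : (↑S₀ : Set (N → ℂ)) ⊆ ↑(insert χ S₀) :=
    Finset.coe_subset.2 (Finset.subset_insert χ S₀)
  have hd' : ∀ φ ∈ (↑(insert χ S₀) : Set (N → ℂ)), φ 1 = (d φ : ℂ) := fun φ hφ =>
    hd φ (Finset.mem_coe.1 hφ)
  have hχF : χ ∈ (↑(insert χ S₀) : Set (N → ℂ)) := Finset.mem_coe.2 (Finset.mem_insert_self _ _)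
  have hψF : ψ ∈ (↑(insert χ S₀) : Set (N → ℂ)) := hsub hψ
  have hirrF : ∀ ξ ∈ (↑(insert χ S₀) : Set (N → ℂ)), Cfsg.IsIrrCharacter N ξ := by
    intro ξ hξ
    rw [Finset.mem_coe, Finset.mem_insert] at hξ
    rcases hξ with rfl | hξ
    · exact hχ
    · exact hirr ξ hξ
  have hFo : OrthoSet (↑(insert χ S₀) : Set (N → ℂ)) := orthoSet_of_irr hirrF
  have hβ₀m := feit_beta0_mem d hd' hχF hψF ha
  set T : (N → ℂ) → (G → ℂ) := fun φ => if φ = χ then Y else τ₁ φ with hT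
  have hTχ : T χ = Y := if_pos rfl
  have hTφ : ∀ φ ∈ S₀, T φ = τ₁ φ := by
    intro φ hφ
    have h1 : φ ≠ χ := fun h => hχS (h ▸ hφ)
    show (if φ = χ then Y else τ₁ φ) = _
    rw [if_neg h1]
  have hT1 : ∀ φ ∈ insert χ S₀, ∀ η ∈ insert χ S₀,
      Cfsg.classInner (T φ) (T η) = Cfsg.classInner φ η := by
    intro φ hφ η hη
    rw [Finset.mem_insert] at hφ hη
    rcases hφ with rfl | hφ <;> rcases hη with rfl | hη
    · rw [hTχ, hYY, classInner_irr_self hχ]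
    · rw [hTχ, hTφ η hη, hYφ η hη,
        classInner_irr_ne hχ (hirr η hη) (fun h => hχS (h ▸ hη))]
    · rw [hTχ, hTφ φ hφ, classInner_eq_zero_symm (hYφ φ hφ),
        classInner_irr_ne (hirr φ hφ) hχ (fun h => hχS (h ▸ hφ))]
    · rw [hTφ φ hφ, hTφ η hη,
        lio_inner hτ₁ (mem_zspan_of_mem hφ) (mem_zspan_of_mem hη)]
  have hT2 : ∀ φ ∈ insert χ S₀, Cfsg.IsGeneralizedCharacter G (T φ) := by
    intro φ hφ
    rw [Finset.mem_insert] at hφ
    rcases hφ with rfl | hφ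
    · rw [hTχ]; exact hYg
    · rw [hTφ φ hφ]
      exact lio_genChar hτ₁ (mem_zspan_of_mem hφ)
  refine ⟨⟨χ - (a : ℤ) • ψ, hβ₀m, ?_⟩, extend (insert χ S₀) T, ?_, ?_⟩
  · intro h
    have h1 : Cfsg.classInner (χ - (a : ℤ) • ψ) χ = 1 := by
      rw [classInner_sub_left, classInner_zsmul_left, classInner_irr_self hχ,
        classInner_irr_ne (hirr ψ hψ) hχ (fun h => hχS (h ▸ hψ))]
      ring
    rw [h, classInner_zero_left] at h1
    exact zero_ne_one h1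
  · exact extend_isometry (insert χ S₀) hFo T hT1 hT2
  · intro α hα
    obtain ⟨c, rfl⟩ := exists_coeff (insert χ S₀) hα.1
    rw [extend_sum_zsmul (insert χ S₀) hFo]
    rw [Finset.sum_insert hχS, Finset.sum_insert hχS, hTχ]
    set x := c χ with hx
    set β : N → ℂ := ∑ φ ∈ S₀, c φ • φ with hβ
    have hβm : β ∈ Cfsg.zspan (↑S₀ : Set (N → ℂ)) := sum_zsmul_mem_zspan S₀ c
    have hsumT : ∑ φ ∈ S₀, c φ • T φ = τ₁ β := by
      rw [hβ, lio_sum_zsmul' hτ₁ S₀ c (fun φ => φ) (fun φ hφ => mem_zspan_of_mem hφ)]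
      exact Finset.sum_congr rfl fun φ hφ => by rw [hTφ φ hφ]
    rw [hsumT]
    have hα1 : (x • χ + β) 1 = 0 := by
      have := hα.2 1 (by simp)
      rw [Finset.sum_insert hχS] at this
      exact this
    set γ : N → ℂ := β + (x * a) • ψ with hγ
    have hγm : γ ∈ Cfsg.zspanOn (↑S₀ : Set (N → ℂ)) {1}ᶜ := by
      refine ⟨zspan_add hβm (zspan_zsmul _ (mem_zspan_of_mem hψ)), ?_⟩
      intro z hz
      have : z = 1 := by
        by_contra h
        exact hz h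
      rw [this, hγ]
      simp only [Pi.add_apply, Pi.smul_apply] at hα1 ⊢
      rw [hd' χ hχF, ha] at hα1
      rw [hd' ψ hψF]
      simp only [zsmul_eq_mul] at hα1 ⊢
      push_cast at hα1 ⊢
      linear_combination hα1
    have hdec : x • χ + β = x • (χ - (a : ℤ) • ψ) + γ := by
      rw [hγ]
      funext z
      simp only [Pi.add_apply, Pi.smul_apply, Pi.sub_apply]
      simp only [zsmul_eq_mul]
      push_cast
      ring
    have hγm' : γ ∈ Cfsg.zspanOn (↑(insert χ S₀) : Set (N → ℂ)) {1}ᶜ := zspanOn_mono hsub hγm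
    rw [hdec, lio_add hτ (zspanOn_zsmul _ hβ₀m) hγm', lio_zsmul hτ hβ₀m, ← hagree γ hγm, hγ,
      lio_add hτ₁ hβm (zspan_zsmul _ (mem_zspan_of_mem hψ)),
      lio_zsmul hτ₁ (mem_zspan_of_mem hψ), hYe]
    funext z
    simp only [Pi.add_apply, Pi.smul_apply, Pi.sub_apply]
    simp only [zsmul_eq_mul]
    push_cast
    ring

end Cfsg.Agent.S1530
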