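import Mathlib
import Cfsg.Statements.S1532
import Cfsg.Agent.Lib.Helper4.PF6l
import Cfsg.Agent.S1522
-- import your own Cfsg.Agent.* helpers here

set_option autoImplicit false
open Cfsg

namespace Cfsg.Agent.S1532

/-- Let G be a finite group, p an odd prime and P a Sylow p-subgroup that is non-abelian, whose underlying set is a TI-subset of G, with P properly contained in its set normaliser N and C_G(x) ≤ P for every non-identity x ∈ P. Let Z be a nontrivial subgroup of the centre of P normalised by N. Then the set of irreducible characters χ of N with χ z ≠ χ 1 for some z ∈ Z is coherent for the map induced by induction from N to G. -/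
theorem result {G : Type*} [Group G] [Fintype G] (p : ℕ) [Fact p.Prime] (hp : p ≠ 2) (P : Sylow p G) (hna : ¬ IsMulCommutative (P : Subgroup G)) (hTI : Cfsg.IsTISubset ((P : Subgroup G) : Set G)) (hlt : (P : Subgroup G) < Subgroup.normalizer ((P : Subgroup G) : Set G)) (hC : ∀ k ∈ (P : Subgroup G), k ≠ 1 → Subgroup.centralizer ({k} : Set G) ≤ (P : Subgroup G)) [Fintype ↥(Subgroup.normalizer ((P : Subgroup G) : Set G))] (Z : Subgroup G) (hZ1 : Z ≠ ⊥) (hZP : ∀ z ∈ Z, z ∈ (P : Subgroup G) ∧ ∀ y ∈ (P : Subgroup G), z * y = y * z) (hZn : ∀ x ∈ Subgroup.normalizer ((P : Subgroup G) : Set G), ∀ z ∈ Z, x * z * x⁻¹ ∈ Z) : Cfsg.IsCoherent {χ : ↥(Subgroup.normalizer ((P : Subgroup G) : Set G)) → ℂ | Cfsg.IsIrrCharacter ↥(Subgroup.normalizer ((P : Subgroup G) : Set G)) χ ∧ ∃ z : ↥(Subgroup.normalizer ((P : Subgroup G) : Set G)), (z : G) ∈ Z ∧ χ z ≠ χ 1} {1}ᶜ (fun α => Cfsg.indFun (Subgroup.normalizer ((P : Subgroup G) : Set G)) α) := by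
  classical
  haveI hKn : ((P : Subgroup G).subgroupOf
      (Subgroup.normalizer ((P : Subgroup G) : Set G))).Normal := Subgroup.normal_in_normalizer
  haveI : Fintype ((P : Subgroup G).subgroupOf
      (Subgroup.normalizer ((P : Subgroup G) : Set G))) := Fintype.ofFinite _
  have hPN : (P : Subgroup G) ≤ Subgroup.normalizer ((P : Subgroup G) : Set G) :=
    Subgroup.le_normalizer
  have hyp := Cfsg.Agent.Lib.Helper2.TIFN.hyp_of_TI (P : Subgroup G)
    (fun g hg k hk h => hTI g hg k hk h) hlt hC
  have hCN := hyp.cent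
  -- `K` is a `p`-group
  have hKp : IsPGroup p ((P : Subgroup G).subgroupOf
      (Subgroup.normalizer ((P : Subgroup G) : Set G))) :=
    P.isPGroup'.of_equiv (Subgroup.subgroupOfEquivOfLe hPN).symm
  have hnil : Group.IsNilpotent ((P : Subgroup G).subgroupOf
      (Subgroup.normalizer ((P : Subgroup G) : Set G))) := hKp.isNilpotent
  have hsolv : Group.IsSolvable ((P : Subgroup G).subgroupOf
      (Subgroup.normalizer ((P : Subgroup G) : Set G))) := by
    haveI := hnil
    infer_instance
  have hcardK : Nat.card ((P : Subgroup G).subgroupOf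
      (Subgroup.normalizer ((P : Subgroup G) : Set G))) = Nat.card (P : Subgroup G) :=
    Nat.card_congr (Subgroup.subgroupOfEquivOfLe hPN).toEquiv
  have hKodd : Odd (Nat.card ((P : Subgroup G).subgroupOf
      (Subgroup.normalizer ((P : Subgroup G) : Set G)))) := by
    obtain ⟨n, hn⟩ := hKp.exists_card_eq
    rw [hn]
    exact ((Fact.out : p.Prime).odd_of_ne_two hp).pow
  have hna' : ¬ ∀ a ∈ ((P : Subgroup G).subgroupOf
      (Subgroup.normalizer ((P : Subgroup G) : Set G))), ∀ b ∈ ((P : Subgroup G).subgroupOf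
      (Subgroup.normalizer ((P : Subgroup G) : Set G))), a * b = b * a := by
    intro h
    apply hna
    refine ⟨⟨fun a b => ?_⟩⟩
    apply Subtype.ext
    have := h ⟨a.1, hPN a.2⟩ (Subgroup.mem_subgroupOf.mpr a.2) ⟨b.1, hPN b.2⟩
      (Subgroup.mem_subgroupOf.mpr b.2)
    have h2 : (a : G) * (b : G) = (b : G) * (a : G) := congrArg Subtype.val this
    exact h2
  have hodd : Odd (Nat.card ↥(Subgroup.normalizer ((P : Subgroup G) : Set G))) :=
    Cfsg.Agent.Lib.Helper4.PF6.odd_card_of_nonabelian_kernel _ hCN hKodd hna'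
  have hcop : Nat.Coprime (Nat.card ((P : Subgroup G).subgroupOf
      (Subgroup.normalizer ((P : Subgroup G) : Set G))))
      ((P : Subgroup G).subgroupOf (Subgroup.normalizer ((P : Subgroup G) : Set G))).index := by
    rw [hcardK]
    have h1 := P.card_coprime_index
    have h2 : ((P : Subgroup G).subgroupOf
        (Subgroup.normalizer ((P : Subgroup G) : Set G))).index ∣ (P : Subgroup G).index := by
      have := Subgroup.relIndex_mul_index hPN
      exact Dvd.intro _ this
    exact Nat.Coprime.coprime_dvd_right h2 h1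
  have hcomm_le := Cfsg.Agent.Lib.Helper4.PF6.commutator_self_le ((P : Subgroup G).subgroupOf
      (Subgroup.normalizer ((P : Subgroup G) : Set G)))
  have hfrob := Cfsg.Agent.Lib.Helper4.PF6.frob_quotient _ hCN hcop
    ⁅(P : Subgroup G).subgroupOf (Subgroup.normalizer ((P : Subgroup G) : Set G)),
      (P : Subgroup G).subgroupOf (Subgroup.normalizer ((P : Subgroup G) : Set G))⁆ hcomm_le
  -- `K` is nontrivial
  have hKne : ((P : Subgroup G).subgroupOf
      (Subgroup.normalizer ((P : Subgroup G) : Set G))) ≠ ⊥ := by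
    intro h
    apply hna'
    intro a ha b hb
    rw [h, Subgroup.mem_bot] at ha hb
    rw [ha, hb]
  have hH₁K : ⁅(P : Subgroup G).subgroupOf (Subgroup.normalizer ((P : Subgroup G) : Set G)),
      (P : Subgroup G).subgroupOf (Subgroup.normalizer ((P : Subgroup G) : Set G))⁆ <
      (P : Subgroup G).subgroupOf (Subgroup.normalizer ((P : Subgroup G) : Set G)) := by
    refine lt_of_le_of_ne hcomm_le ?_
    intro heq
    haveI := hnil
    have htop : (⊤ : Subgroup ((P : Subgroup G).subgroupOf
        (Subgroup.normalizer ((P : Subgroup G) : Set G)))) = ⊥ := by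
      apply Cfsg.Agent.Lib.Helper4.PF6.eq_bot_of_le_commutator_top
      intro k _
      have hk : (k : ↥(Subgroup.normalizer ((P : Subgroup G) : Set G))) ∈
          ⁅(P : Subgroup G).subgroupOf (Subgroup.normalizer ((P : Subgroup G) : Set G)),
          (P : Subgroup G).subgroupOf (Subgroup.normalizer ((P : Subgroup G) : Set G))⁆ := by
        rw [heq]
        exact k.2
      rw [← Subgroup.map_subtype_commutator] at hk
      obtain ⟨c, hc, hck⟩ := hk
      have : c = k := Subtype.ext hck
      rw [← this]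
      rwa [commutator_def] at hc
    apply hKne
    rw [Subgroup.eq_bot_iff_forall]
    intro x hx
    have h1 : (⟨x, hx⟩ : (P : Subgroup G).subgroupOf
        (Subgroup.normalizer ((P : Subgroup G) : Set G))) ∈ (⊤ : Subgroup _) := Subgroup.mem_top _
    rw [htop, Subgroup.mem_bot] at h1
    exact congrArg Subtype.val h1
  have hKL : (P : Subgroup G).subgroupOf (Subgroup.normalizer ((P : Subgroup G) : Set G)) < ⊤ := by
    rw [lt_top_iff_ne_top]
    intro h
    obtain ⟨x, hxN, hxP⟩ := SetLike.exists_of_lt hlt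
    apply hxP
    have : (⟨x, hxN⟩ : ↥(Subgroup.normalizer ((P : Subgroup G) : Set G))) ∈
        (P : Subgroup G).subgroupOf (Subgroup.normalizer ((P : Subgroup G) : Set G)) := by
      rw [h]
      exact Subgroup.mem_top _
    exact Subgroup.mem_subgroupOf.mp this
  -- all of `S` is irreducible
  have hSirr : ∀ χ ∈ Cfsg.inducedIrrAbove ((P : Subgroup G).subgroupOf
      (Subgroup.normalizer ((P : Subgroup G) : Set G))) ⊥,
      Cfsg.IsIrrCharacter ↥(Subgroup.normalizer ((P : Subgroup G) : Set G)) χ := by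
    rintro χ ⟨θ, hθ, hθ1, -, rfl⟩
    exact Cfsg.Agent.Lib.Helper2.FrobKer.isIrr_indFun _ hCN hθ hθ1
  -- the coherence system
  obtain ⟨hiso, hone⟩ := Cfsg.Agent.Lib.Helper4.PF6.ti_isometry (P : Subgroup G) hTI
  have hbotlt : (⊥ : Subgroup ↥(Subgroup.normalizer ((P : Subgroup G) : Set G))) <
      (P : Subgroup G).subgroupOf (Subgroup.normalizer ((P : Subgroup G) : Set G)) :=
    bot_lt_iff_ne_bot.mpr hKne
  obtain ⟨R, hR⟩ := Cfsg.Agent.S1514.result
    (Cfsg.inducedIrrAbove ((P : Subgroup G).subgroupOf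
      (Subgroup.normalizer ((P : Subgroup G) : Set G))) ⊥)
    (Cfsg.Agent.Lib.Helper4.PF6.induced_nonempty hsolv hbotlt) hSirr
    (fun χ hχ => ⟨Cfsg.Agent.Lib.Helper4.PF6.conjFun_mem_induced hχ, by
      intro heq
      have hirr := hSirr χ hχ
      obtain ⟨θ, hθ, hθ1, -, rfl⟩ := hχ
      have h1 := Cfsg.Agent.S0194.result hodd _ θ hθ hθ1
      have h2 : (fun g => (starRingEnd ℂ) (Cfsg.indFun ((P : Subgroup G).subgroupOf
        (Subgroup.normalizer ((P : Subgroup G) : Set G))) θ g)) =
          Cfsg.conjFun (Cfsg.indFun _ θ) := rfl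
      rw [h2, heq, Cfsg.Agent.Lib.Helper4.classInner_irr_self hirr] at h1
      exact one_ne_zero h1⟩)
    (fun α => Cfsg.indFun (Subgroup.normalizer ((P : Subgroup G) : Set G)) α) hiso hone
  -- the central subgroup
  haveI hZn' : (Z.subgroupOf (Subgroup.normalizer ((P : Subgroup G) : Set G))).Normal := by
    refine ⟨fun z hz x => ?_⟩
    rw [Subgroup.mem_subgroupOf] at hz ⊢
    exact hZn x.1 x.2 z.1 hz
  have hZ1' : Z.subgroupOf (Subgroup.normalizer ((P : Subgroup G) : Set G)) ≠ ⊥ := by
    intro h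
    apply hZ1
    rw [Subgroup.eq_bot_iff_forall]
    intro z hz
    have h1 : (⟨z, hPN (hZP z hz).1⟩ : ↥(Subgroup.normalizer ((P : Subgroup G) : Set G))) ∈
        Z.subgroupOf (Subgroup.normalizer ((P : Subgroup G) : Set G)) :=
      Subgroup.mem_subgroupOf.mpr hz
    rw [h, Subgroup.mem_bot] at h1
    exact congrArg Subtype.val h1
  have hZK : Z.subgroupOf (Subgroup.normalizer ((P : Subgroup G) : Set G)) ≤
      (P : Subgroup G).subgroupOf (Subgroup.normalizer ((P : Subgroup G) : Set G)) := by
    intro z hz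
    rw [Subgroup.mem_subgroupOf] at hz ⊢
    exact (hZP z.1 hz).1
  have hZc : ∀ z ∈ Z.subgroupOf (Subgroup.normalizer ((P : Subgroup G) : Set G)),
      ∀ k ∈ (P : Subgroup G).subgroupOf (Subgroup.normalizer ((P : Subgroup G) : Set G)),
      z * k = k * z := by
    intro z hz k hk
    rw [Subgroup.mem_subgroupOf] at hz hk
    exact Subtype.ext ((hZP z.1 hz).2 k.1 hk)
  obtain ⟨hset, hcoh⟩ := Cfsg.Agent.S1522.result
    ((P : Subgroup G).subgroupOf (Subgroup.normalizer ((P : Subgroup G) : Set G))) hsolv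
    (fun α => Cfsg.indFun (Subgroup.normalizer ((P : Subgroup G) : Set G)) α) R hR hodd hnil
    hH₁K hKL hfrob (Z.subgroupOf (Subgroup.normalizer ((P : Subgroup G) : Set G))) hZ1' hZK hZc
    (fun χ hχ => hSirr χ hχ.1)
  rw [hset] at hcoh
  exact hcoh

end Cfsg.Agent.S1532
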