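import Mathlib
import Cfsg.Statements.S1533
import Cfsg.Agent.Lib.Helper4.PF8g
-- import your own Cfsg.Agent.* helpers here

set_option autoImplicit false
open Cfsg

namespace Cfsg.Agent.S1533

/-- Let G be a finite group, p an odd prime, and P a nontrivial Sylow p-subgroup whose underlying set is a TI-subset of G, with P properly contained in its set normaliser N and C_G(x) ≤ P for every non-identity x ∈ P. Let S be the set of irreducible characters χ of N with χ x ≠ χ 1 for some x ∈ P. Then either S has exactly one member, P is elementary abelian and Nat.card P = [N:P] + 1; or (S, N minus 1, induction to G) is coherent. -/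
theorem result {G : Type*} [Group G] [Fintype G] (p : ℕ) [Fact p.Prime] (hp : p ≠ 2) (P : Sylow p G) (hP1 : (P : Subgroup G) ≠ ⊥) (hTI : Cfsg.IsTISubset ((P : Subgroup G) : Set G)) (hlt : (P : Subgroup G) < Subgroup.normalizer ((P : Subgroup G) : Set G)) (hC : ∀ k ∈ (P : Subgroup G), k ≠ 1 → Subgroup.centralizer ({k} : Set G) ≤ (P : Subgroup G)) [Fintype ↥(Subgroup.normalizer ((P : Subgroup G) : Set G))] : (Nat.card {χ : ↥(Subgroup.normalizer ((P : Subgroup G) : Set G)) → ℂ // Cfsg.IsIrrCharacter ↥(Subgroup.normalizer ((P : Subgroup G) : Set G)) χ ∧ ∃ x : ↥(Subgroup.normalizer ((P : Subgroup G) : Set G)), (x : G) ∈ (P : Subgroup G) ∧ χ x ≠ χ 1} = 1 ∧ Cfsg.IsElementaryAbelian p (P : Subgroup G) ∧ Nat.card (P : Subgroup G) = ((P : Subgroup G).subgroupOf (Subgroup.normalizer ((P : Subgroup G) : Set G))).index + 1) ∨ Cfsg.IsCoherent {χ : ↥(Subgroup.normalizer ((P : Subgroup G) : Set G)) → ℂ | Cfsg.IsIrrCharacter ↥(Subgroup.normalizer ((P : Subgroup G) : Set G)) χ ∧ ∃ x : ↥(Subgroup.normalizer ((P : Subgroup G)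 : Set G)), (x : G) ∈ (P : Subgroup G) ∧ χ x ≠ χ 1} {1}ᶜ (fun α => Cfsg.indFun (Subgroup.normalizer ((P : Subgroup G) : Set G)) α) := by
  classical
  haveI hKn : ((P : Subgroup G).subgroupOf
      (Subgroup.normalizer ((P : Subgroup G) : Set G))).Normal := Subgroup.normal_in_normalizer
  haveI : Fintype ((P : Subgroup G).subgroupOf
      (Subgroup.normalizer ((P : Subgroup G) : Set G))) := Fintype.ofFinite _
  have hPN : (P : Subgroup G) ≤ Subgroup.normalizer ((P : Subgroup G) : Set G) :=
    Subgroup.le_normalizer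
  have hyp := Cfsg.Agent.Lib.Helper2.TIFN.hyp_of_TI (P : Subgroup G)
    (fun g hg k hk h => hTI g hg k hk h) hlt hC
  have hCN := hyp.cent
  have hSeq : {χ : ↥(Subgroup.normalizer ((P : Subgroup G) : Set G)) → ℂ |
      Cfsg.IsIrrCharacter ↥(Subgroup.normalizer ((P : Subgroup G) : Set G)) χ ∧
        ∃ x : ↥(Subgroup.normalizer ((P : Subgroup G) : Set G)),
          (x : G) ∈ (P : Subgroup G) ∧ χ x ≠ χ 1}
      = Cfsg.inducedIrrAbove ((P : Subgroup G).subgroupOf
        (Subgroup.normalizer ((P : Subgroup G) : Set G))) ⊥ := by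
    rw [← Cfsg.Agent.Lib.Helper4.PF7.frob_set_eq _ hCN]
    ext χ
    constructor
    · rintro ⟨h1, x, hx, h2⟩
      exact ⟨h1, x, Subgroup.mem_subgroupOf.mpr hx, h2⟩
    · rintro ⟨h1, x, hx, h2⟩
      exact ⟨h1, x, Subgroup.mem_subgroupOf.mp hx, h2⟩
  by_cases hna : IsMulCommutative (P : Subgroup G)
  · -- the abelian case
    have hKne : ((P : Subgroup G).subgroupOf
        (Subgroup.normalizer ((P : Subgroup G) : Set G))) ≠ ⊥ := by
      intro h
      apply hP1
      rw [Subgroup.eq_bot_iff_forall]
      intro x hx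
      have h1 : (⟨x, hPN hx⟩ : ↥(Subgroup.normalizer ((P : Subgroup G) : Set G))) ∈
          (P : Subgroup G).subgroupOf (Subgroup.normalizer ((P : Subgroup G) : Set G)) :=
        Subgroup.mem_subgroupOf.mpr hx
      rw [h, Subgroup.mem_bot] at h1
      exact congrArg Subtype.val h1
    have hab : ∀ a ∈ (P : Subgroup G).subgroupOf
        (Subgroup.normalizer ((P : Subgroup G) : Set G)), ∀ b ∈ (P : Subgroup G).subgroupOf
        (Subgroup.normalizer ((P : Subgroup G) : Set G)), a * b = b * a := by
      intro a ha b hb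
      rw [Subgroup.mem_subgroupOf] at ha hb
      apply Subtype.ext
      have := hna.is_comm.comm (⟨a.1, ha⟩ : ↥(P : Subgroup G)) ⟨b.1, hb⟩
      have h2 : (a : G) * (b : G) = (b : G) * (a : G) := congrArg Subtype.val this
      exact h2
    obtain ⟨hiso, hone⟩ := Cfsg.Agent.Lib.Helper4.PF6.ti_isometry (P : Subgroup G) hTI
    have hcardK : Nat.card ((P : Subgroup G).subgroupOf
        (Subgroup.normalizer ((P : Subgroup G) : Set G))) = Nat.card (P : Subgroup G) :=
      Nat.card_congr (Subgroup.subgroupOfEquivOfLe hPN).toEquiv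
    rcases Cfsg.Agent.Lib.Helper4.PF8.frob_abelian_coh _ hKne hCN hab
      (fun α => Cfsg.indFun (Subgroup.normalizer ((P : Subgroup G) : Set G)) α) hiso hone
      with ⟨h1, h2⟩ | hcoh
    · left
      refine ⟨?_, ⟨hna, ?_⟩, ?_⟩
      · rw [← h1]
        apply Nat.card_congr
        apply Equiv.subtypeEquivRight
        intro χ
        have := Set.ext_iff.mp hSeq χ
        exact this
      · intro a ha
        have hpK : p ∣ Nat.card ((P : Subgroup G).subgroupOf
            (Subgroup.normalizer ((P : Subgroup G) : Set G))) := by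
          rw [hcardK]
          obtain ⟨n, hn⟩ := P.isPGroup'.exists_card_eq
          rw [hn]
          have hn0 : n ≠ 0 := by
            intro h0
            rw [h0, pow_zero] at hn
            exact hP1 ((Subgroup.eq_bot_iff_card _).mpr hn)
          exact dvd_pow_self p hn0
        have := Cfsg.Agent.Lib.Helper4.PF8.frob_small_exp _ hCN hab h2 p Fact.out hpK
          (⟨a, hPN ha⟩ : ↥(Subgroup.normalizer ((P : Subgroup G) : Set G)))
          (Subgroup.mem_subgroupOf.mpr ha)
        have h3 := congrArg Subtype.val this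
        simpa using h3
      · rw [← hcardK]; exact h2
    · right
      rw [hSeq]; exact hcoh
  · right
    rw [hSeq]
    exact Cfsg.Agent.Lib.Helper4.PF8.sibley_sylow p hp P hna hTI hlt hC

end Cfsg.Agent.S1533
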