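import Mathlib
import Cfsg.Statements.S1536
import Cfsg.Agent.Lib.Helper4.IndNormal
import Cfsg.Agent.Lib.Helper4.CoprimeClass
import Cfsg.Agent.Lib.Helper1.CharFound8
import Cfsg.Agent.Lib.Helper1.LinearChar

set_option autoImplicit false
open Cfsg

namespace Cfsg.Agent.S1536

open Cfsg.Agent.Lib.Helper4 Cfsg.Agent.Lib.Helper1
open scoped ComplexConjugate

/-- the principal character is irreducible -/
theorem isIrr_one {N : Type*} [Group N] : Cfsg.IsIrrCharacter N (fun _ => (1 : ℂ)) := by
  have := isIrrCharacter_of_hom (1 : N →* ℂˣ)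
  simpa using this

/-- Brauer's permutation lemma for conjugation by `x` on a normal subgroup `H`: there is a
nonprincipal `x`-invariant irreducible character iff there is a nontrivial `x`-invariant class. -/
theorem brauer_conj {M : Type*} [Group M] [Finite M] (H : Subgroup M) [hN : H.Normal] (x : M) :
    (∃ θ : H → ℂ, Cfsg.IsIrrCharacter H θ ∧ θ ≠ (fun _ => 1) ∧ conjFn H θ x = θ) ↔
    ∃ k : H, k ≠ 1 ∧ ∃ m : H, (x : M) * k * x⁻¹ = m * k * m⁻¹ := by
  classical
  haveI : Fintype M := Fintype.ofFinite _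
  haveI : Fintype H := Fintype.ofFinite _
  haveI : Fintype (Cfsg.IrrCharacter H) := Fintype.ofFinite _
  haveI : Fintype (ConjClasses H) := Fintype.ofFinite _
  let β : H → H := fun n => ⟨x * n * x⁻¹, hN.conj_mem n n.2 x⟩
  have hβ : ∀ χ : H → ℂ, Cfsg.IsIrrCharacter H χ → Cfsg.IsIrrCharacter H (fun n => χ (β n)) :=
    fun χ hχ => isIrrCharacter_conjFn H hχ x
  have hβmul : ∀ a b : H, β (a * b * a⁻¹) = β a * β b * (β a)⁻¹ := by
    intro a b
    apply Subtype.ext
    simp only [β, Subgroup.coe_mul, Subgroup.coe_inv]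
    group
  have hbr := brauer_perm_generic β hβ
  have hbr' : (Finset.univ.filter (fun χ : Cfsg.IrrCharacter H =>
        (fun g => (χ : H → ℂ) (β g)) = (χ : H → ℂ))).card
      = (Finset.univ.filter (fun c : ConjClasses H =>
        IsConj (β (Quotient.out c)) (Quotient.out c))).card := by exact_mod_cast hbr
  have hone_mem : (⟨fun _ => 1, isIrr_one⟩ : Cfsg.IrrCharacter H) ∈
      Finset.univ.filter (fun χ : Cfsg.IrrCharacter H =>
        (fun g => (χ : H → ℂ) (β g)) = (χ : H → ℂ)) := by
    simp
  have hβ1 : β 1 = 1 := by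
    apply Subtype.ext
    simp [β]
  have hout1 : Quotient.out (ConjClasses.mk (1 : H)) = 1 := by
    have hc : ConjClasses.mk (Quotient.out (ConjClasses.mk (1 : H))) = ConjClasses.mk 1 :=
      Quotient.out_eq _
    exact isConj_one_left.mp (ConjClasses.mk_eq_mk_iff_isConj.mp hc)
  have hmk1_mem : ConjClasses.mk (1 : H) ∈ Finset.univ.filter (fun c : ConjClasses H =>
        IsConj (β (Quotient.out c)) (Quotient.out c)) := by
    simp only [Finset.mem_filter, Finset.mem_univ, true_and]
    rw [hout1, hβ1]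
  constructor
  · rintro ⟨θ, hθ, hθ1, hfix⟩
    have hθmem : (⟨θ, hθ⟩ : Cfsg.IrrCharacter H) ∈
        Finset.univ.filter (fun χ : Cfsg.IrrCharacter H =>
          (fun g => (χ : H → ℂ) (β g)) = (χ : H → ℂ)) := by
      simp only [Finset.mem_filter, Finset.mem_univ, true_and]
      exact hfix
    have hne : (⟨fun _ => 1, isIrr_one⟩ : Cfsg.IrrCharacter H) ≠ ⟨θ, hθ⟩ := by
      intro h
      exact hθ1 (congrArg Subtype.val h).symm
    have h2 : 1 < (Finset.univ.filter (fun c : ConjClasses H =>
        IsConj (β (Quotient.out c)) (Quotient.out c))).card := by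
      rw [← hbr']
      exact Finset.one_lt_card.mpr ⟨_, hone_mem, _, hθmem, hne⟩
    obtain ⟨c, hc, hcne⟩ := Finset.exists_mem_ne h2 (ConjClasses.mk (1 : H))
    simp only [Finset.mem_filter, Finset.mem_univ, true_and] at hc
    have hcout : ConjClasses.mk (Quotient.out c) = c := Quotient.out_eq c
    refine ⟨Quotient.out c, ?_, ?_⟩
    · intro h
      apply hcne
      rw [← hcout, h]
    · obtain ⟨m, hm⟩ := isConj_iff.mp hc
      refine ⟨m⁻¹, ?_⟩
      have := congrArg Subtype.val hm
      simp only [β, Subgroup.coe_mul, Subgroup.coe_inv] at this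
      simp only [Subgroup.coe_inv, inv_inv]
      calc x * ((Quotient.out c : H) : M) * x⁻¹
          = (m : M)⁻¹ * ((m : M) * (x * ((Quotient.out c : H) : M) * x⁻¹) * (m : M)⁻¹) * (m : M) := by
            group
        _ = (m : M)⁻¹ * ((Quotient.out c : H) : M) * (m : M) := by rw [this]
  · rintro ⟨k, hk1, m, hm⟩
    have hkmem : ConjClasses.mk k ∈ Finset.univ.filter (fun c : ConjClasses H =>
        IsConj (β (Quotient.out c)) (Quotient.out c)) := by
      simp only [Finset.mem_filter, Finset.mem_univ, true_and]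
      have hc : ConjClasses.mk (Quotient.out (ConjClasses.mk k)) = ConjClasses.mk k :=
        Quotient.out_eq _
      have h1 : IsConj (Quotient.out (ConjClasses.mk k)) k := ConjClasses.mk_eq_mk_iff_isConj.mp hc
      obtain ⟨a, ha⟩ := isConj_iff.mp h1
      -- β (out) ~ β k ~ k ~ out
      have h2 : IsConj (β (Quotient.out (ConjClasses.mk k))) (β k) := by
        rw [isConj_iff]
        refine ⟨β a, ?_⟩
        rw [← hβmul, ha]
      have h3 : IsConj (β k) k := by
        rw [isConj_iff]
        refine ⟨m⁻¹, ?_⟩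
        have hβk : β k = m * k * m⁻¹ := by
          apply Subtype.ext
          simpa [β] using hm
        rw [hβk]
        group
      exact (h2.trans h3).trans h1.symm
    have hne : ConjClasses.mk (1 : H) ≠ ConjClasses.mk k := by
      intro h
      have := ConjClasses.mk_eq_mk_iff_isConj.mp h
      exact hk1 (isConj_one_left.mp this.symm)
    have h2 : 1 < (Finset.univ.filter (fun χ : Cfsg.IrrCharacter H =>
        (fun g => (χ : H → ℂ) (β g)) = (χ : H → ℂ))).card := by
      rw [hbr']
      exact Finset.one_lt_card.mpr ⟨_, hmk1_mem, _, hkmem, hne⟩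
    obtain ⟨ψ, hψ, hψne⟩ := Finset.exists_mem_ne h2 (⟨fun _ => 1, isIrr_one⟩ : Cfsg.IrrCharacter H)
    simp only [Finset.mem_filter, Finset.mem_univ, true_and] at hψ
    refine ⟨ψ, ψ.2, ?_, hψ⟩
    intro h
    exact hψne (Subtype.ext h)

/-- Let H be a normal subgroup of the finite group M whose order is coprime to its index. For x ∈ M: some non-principal irreducible character of H is unchanged under h ↦ θ(x h x⁻¹) if and only if some non-identity element of H commutes with x. -/
theorem result {M : Type*} [Group M] [Finite M] (H : Subgroup M) [hN : H.Normal] (hHall : Nat.Coprime (Nat.card H) H.index) (x : M) : (∃ θ : H → ℂ, Cfsg.IsIrrCharacter H θ ∧ θ ≠ (fun _ => 1) ∧ (fun h : H => θ ⟨x * h * x⁻¹, hN.conj_mem h h.2 x⟩) = θ) ↔ ∃ h ∈ H, h ≠ 1 ∧ x * h = h * x := by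
  have hbr := brauer_conj H x
  constructor
  · intro hθ
    obtain ⟨k, hk1, m, hm⟩ := hbr.mp hθ
    -- the H-part of x
    obtain ⟨u, v, huv⟩ : ∃ u v : ℤ, u * (Nat.card H : ℤ) + v * (H.index : ℤ) = 1 := by
      have := Nat.isCoprime_iff_coprime.mpr hHall
      obtain ⟨u, v, h⟩ := this
      exact ⟨u, v, h⟩
    have hxb : x ^ H.index ∈ H := Subgroup.pow_index_mem H x
    by_cases hh : x ^ (v * (H.index : ℤ)) = 1
    · -- x has order coprime to |H|
      have hdvd : (orderOf x : ℤ) ∣ v * (H.index : ℤ) := orderOf_dvd_iff_zpow_eq_one.mpr hh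
      have hcopZ : IsCoprime (v * (H.index : ℤ)) (Nat.card H : ℤ) := ⟨1, u, by linarith⟩
      have hcop : (orderOf x).Coprime (Nat.card H) :=
        Nat.isCoprime_iff_coprime.mp (IsCoprime.of_isCoprime_of_dvd_left hcopZ hdvd)
      obtain ⟨w, hwH, hw⟩ := coprime_fixed_class_elt H x
        (Subgroup.le_normalizer_of_normal (Subgroup.mem_top x)) hcop k k.2 m m.2 hm
      refine ⟨w * k * w⁻¹, H.mul_mem (H.mul_mem hwH k.2) (H.inv_mem hwH), ?_, ?_⟩
      · intro h
        apply hk1
        have : (k : M) = 1 := by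
          have h2 : (k : M) = w⁻¹ * (w * k * w⁻¹) * w := by group
          rw [h2, h]; group
        exact Subtype.ext this
      · calc x * (w * k * w⁻¹) = (x * (w * k * w⁻¹) * x⁻¹) * x := by group
          _ = (w * k * w⁻¹) * x := by rw [hw]
    · refine ⟨x ^ (v * (H.index : ℤ)), ?_, hh, ?_⟩
      · rw [mul_comm, zpow_mul, zpow_natCast]
        exact H.zpow_mem hxb v
      · exact ((Commute.refl x).zpow_right _).eq
  · rintro ⟨h, hhH, hh1, hcomm⟩
    apply hbr.mpr
    refine ⟨⟨h, hhH⟩, fun e => hh1 (congrArg Subtype.val e), 1, ?_⟩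
    simp only [OneMemClass.coe_one, one_mul, inv_one, mul_one]
    rw [hcomm]; group

end Cfsg.Agent.S1536
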