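import Cfsg.Statements.S1538
import Mathlib
import Cfsg.Agent.Lib.Helper4.BG24a
-- import your own Cfsg.Agent.* helpers here

set_option autoImplicit false
open Cfsg

namespace Cfsg.Agent.S1538

/-- Let G be a minimal simple group of odd order and M a maximal subgroup of Type II. Then each of A₀(M), A(M), A₁(M) is a TI-subset of G whose set normaliser is M. -/
theorem result {G : Type*} [Group G] [Finite G] (hG : Cfsg.IsMinSimpleOddOrder G) (M : Subgroup G) (hM : IsCoatom M) (hII : Cfsg.IsOfTypeII M) : (Cfsg.IsTISubset (Cfsg.typeA0 M) ∧ Subgroup.normalizer (Cfsg.typeA0 M) = M) ∧ (Cfsg.IsTISubset (Cfsg.typeA M) ∧ Subgroup.normalizer (Cfsg.typeA M) = M) ∧ (Cfsg.IsTISubset (Cfsg.typeA1 M) ∧ Subgroup.normalizer (Cfsg.typeA1 M) = M) := by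
  obtain ⟨K, U, t⟩ := Cfsg.Agent.Lib.Helper4.BG24.exists_t2 hG hM hII
  -- generic argument
  have key : ∀ S : Set G, S ⊆ typeA0 M → S.Nonempty →
      (∀ m ∈ M, ∀ n ∈ S, m * n * m⁻¹ ∈ S) →
      IsTISubset S ∧ Subgroup.normalizer S = M := by
    intro S hS hne hinv
    have hN : Subgroup.normalizer S = M := by
      apply le_antisymm
      · intro g hg
        obtain ⟨a, ha⟩ := hne
        have hga : g * a * g⁻¹ ∈ S := (Subgroup.mem_set_normalizer_iff.mp hg a).mp ha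
        exact t.mem_of_conj_mem hG hM (hS ha) (hS hga)
      · exact Cfsg.Agent.Lib.Helper4.BG24.le_setNormalizer hinv
    refine ⟨?_, hN⟩
    intro g hg x hx hgx
    exfalso
    apply hg
    rw [hN]
    exact t.mem_of_conj_mem hG hM (hS hx) (hS hgx)
  have hσn := Cfsg.Agent.Lib.Lead.BG10.le_normalizer_sigmaCore M
  have hσinv : ∀ m ∈ M, ∀ x ∈ sigmaCore M, m * x * m⁻¹ ∈ sigmaCore M := by
    intro m hm x hx
    exact ((Subgroup.mem_normalizer_iff.mp (hσn hm)) x).mp hx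
  have hDinv : ∀ m ∈ M, ∀ x ∈ U ⊔ sigmaCore M, m * x * m⁻¹ ∈ U ⊔ sigmaCore M := by
    intro m hm x hx
    have hn := Cfsg.Agent.Lib.Lead.BG14n.sd_le_normalizer t.hKU
    exact ((Subgroup.mem_normalizer_iff.mp (hn hm)) x).mp hx
  have hAinv : ∀ m ∈ M, ∀ n ∈ typeA M, m * n * m⁻¹ ∈ typeA M := by
    intro m hm n hn
    rw [t.typeA_eq] at hn ⊢
    obtain ⟨h1, h2, x, hx, hx1, hax⟩ := hn
    refine ⟨hDinv m hm n h1, ?_, m * x * m⁻¹, hσinv m hm x hx, ?_, ?_⟩
    · intro h
      apply h2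
      have : n = m⁻¹ * (m * n * m⁻¹) * m := by group
      rw [this, h]; group
    · intro h
      apply hx1
      have : x = m⁻¹ * (m * x * m⁻¹) * m := by group
      rw [this, h]; group
    · have e1 : m * n * m⁻¹ * (m * x * m⁻¹) = m * (n * x) * m⁻¹ := by group
      have e2 : m * x * m⁻¹ * (m * n * m⁻¹) = m * (x * n) * m⁻¹ := by group
      rw [e1, e2, hax]
  refine ⟨?_, ?_, ?_⟩
  · apply key _ (fun _ h => h)
      ((t.typeA1_nonempty hG hM).mono (t.typeA1_subset.trans Cfsg.Agent.Lib.Helper4.BG24.T2.typeA_subset))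
    rintro m hm n (hn | ⟨hI, W₁, U', W₂, hP, m', hm', w, hw, hw1, hw2, rfl⟩)
    · exact Or.inl (hAinv m hm n hn)
    · refine Or.inr ⟨hI, W₁, U', W₂, hP, m * m', M.mul_mem hm hm', w, hw, hw1, hw2, ?_⟩
      group
  · exact key _ Cfsg.Agent.Lib.Helper4.BG24.T2.typeA_subset
      ((t.typeA1_nonempty hG hM).mono t.typeA1_subset) hAinv
  · apply key _ (t.typeA1_subset.trans Cfsg.Agent.Lib.Helper4.BG24.T2.typeA_subset)
      (t.typeA1_nonempty hG hM)
    intro m hm n hn
    rw [t.typeA1_eq] at hn ⊢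
    refine ⟨hσinv m hm n hn.1, ?_⟩
    intro h
    apply hn.2
    have h' : m * n * m⁻¹ = 1 := h
    have : n = m⁻¹ * (m * n * m⁻¹) * m := by group
    rw [Set.mem_singleton_iff, this, h']; group

end Cfsg.Agent.S1538
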