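import Mathlib
import Cfsg.Statements.S1546

set_option autoImplicit false
open Cfsg

namespace Cfsg.Agent.S1546

theorem cast_geom (p q r : ℕ) (hp : 2 ≤ p) (h1 : (p : ZMod r) = 1) :
    (((p ^ q - 1) / (p - 1) : ℕ) : ZMod r) = (q : ZMod r) := by
  rw [← Nat.geomSum_eq hp q]
  push_cast
  rw [h1]
  simp

theorem cast_one_iff (p q : ℕ) (hq : 1 < q) : (p : ZMod q) = 1 ↔ p % q = 1 := by
  have : ((1 : ℕ) : ZMod q) = 1 := Nat.cast_one
  rw [← this, ZMod.natCast_eq_natCast_iff', Nat.mod_eq_of_lt hq]

/-- Let p and q be odd primes and N = (p ^ q − 1) / (p − 1) = 1 + p + ⋯ + p^(q−1). Then N is odd; if p ≡ 1 (mod q) then q ∣ N; and if p is not ≡ 1 (mod q) then N is coprime to p − 1 and every divisor of N is ≡ 1 (mod q). -/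
theorem result (p q : ℕ) (hp : p.Prime) (hq : q.Prime) (hp2 : p ≠ 2) (hq2 : q ≠ 2) : Odd ((p ^ q - 1) / (p - 1)) ∧ (p % q = 1 → q ∣ (p ^ q - 1) / (p - 1)) ∧ (p % q ≠ 1 → Nat.Coprime ((p ^ q - 1) / (p - 1)) (p - 1) ∧ ∀ x : ℕ, x ∣ (p ^ q - 1) / (p - 1) → x % q = 1) := by
  have hp2' : 2 ≤ p := hp.two_le
  have hpodd : Odd p := hp.odd_of_ne_two hp2
  have hqodd : Odd q := hq.odd_of_ne_two hq2
  set N := (p ^ q - 1) / (p - 1) with hN
  have hNsum : N = ∑ k ∈ Finset.range q, p ^ k := (Nat.geomSum_eq hp2' q).symm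
  have hNpos : 0 < N := by
    rw [hNsum]
    apply Finset.sum_pos
    · intro i _; positivity
    · exact ⟨0, Finset.mem_range.mpr hq.pos⟩
  -- key: if a prime r divides N and p ≡ 1 mod r then r = q
  have key : ∀ r : ℕ, r.Prime → r ∣ N → (p : ZMod r) = 1 → r = q := by
    intro r hr hrN h1
    have h2 := cast_geom p q r hp2' h1
    rw [← hN] at h2
    have h3 : (N : ZMod r) = 0 := (ZMod.natCast_eq_zero_iff N r).mpr hrN
    rw [h3] at h2
    have h4 : r ∣ q := (ZMod.natCast_eq_zero_iff q r).mp h2.symm
    exact (Nat.prime_dvd_prime_iff_eq hr hq).mp h4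
  refine ⟨?_, ?_, ?_⟩
  · have h1 : (p : ZMod 2) = 1 := ZMod.natCast_eq_one_iff_odd.mpr hpodd
    have h2 := cast_geom p q 2 hp2' h1
    rw [← hN, ZMod.natCast_eq_one_iff_odd.mpr hqodd] at h2
    exact ZMod.natCast_eq_one_iff_odd.mp h2
  · intro h
    have h1 : (p : ZMod q) = 1 := (cast_one_iff p q hq.one_lt).mpr h
    have h2 := cast_geom p q q hp2' h1
    rw [← hN, ZMod.natCast_self] at h2
    exact (ZMod.natCast_eq_zero_iff N q).mp h2
  · intro hne
    have hne' : (p : ZMod q) ≠ 1 := fun h => hne ((cast_one_iff p q hq.one_lt).mp h)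
    constructor
    · apply Nat.coprime_of_dvd
      intro r hr hrN hrp
      have h1 : (p : ZMod r) = 1 := by
        have : p = (p - 1) + 1 := by omega
        rw [this]
        push_cast
        rw [(ZMod.natCast_eq_zero_iff (p - 1) r).mpr hrp, zero_add]
      have := key r hr hrN h1
      subst this
      exact hne' h1
    · intro x
      induction x using Nat.recOnMul with
      | zero =>
        intro h
        rw [zero_dvd_iff] at h
        omega
      | one =>
        intro _
        exact Nat.mod_eq_of_lt hq.one_lt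
      | prime r hr =>
        intro hrN
        haveI : Fact r.Prime := ⟨hr⟩
        have hpq : (p : ZMod r) ^ q = 1 := by
          have h1 : r ∣ p ^ q - 1 := by
            have : N ∣ p ^ q - 1 := by
              rw [hN]
              apply Nat.div_dvd_of_dvd
              exact Nat.sub_one_dvd_pow_sub_one p q |> fun h => by simpa using h
            exact hrN.trans this
          have h2 : ((p ^ q - 1 : ℕ) : ZMod r) = 0 := (ZMod.natCast_eq_zero_iff _ r).mpr h1
          have h3 : 1 ≤ p ^ q := Nat.one_le_pow _ _ hp.pos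
          rw [Nat.cast_sub h3] at h2
          push_cast at h2
          exact sub_eq_zero.mp h2
        have hord : orderOf (p : ZMod r) ∣ q := orderOf_dvd_of_pow_eq_one hpq
        rcases (Nat.dvd_prime hq).mp hord with h1 | hq'
        · exfalso
          have h1' : (p : ZMod r) = 1 := orderOf_eq_one_iff.mp h1
          have := key r hr hrN h1'
          subst this
          exact hne' h1'
        · have hp0 : (p : ZMod r) ≠ 0 := by
            intro h0
            rw [h0, zero_pow hq.ne_zero] at hpq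
            exact zero_ne_one hpq
          have h2 : (p : ZMod r) ^ (r - 1) = 1 := ZMod.pow_card_sub_one_eq_one hp0
          have h3 : q ∣ r - 1 := hq' ▸ orderOf_dvd_of_pow_eq_one h2
          obtain ⟨k, hk⟩ := h3
          have hr1 : r = q * k + 1 := by have := hr.one_lt; omega
          rw [hr1, Nat.mul_add_mod]
          exact Nat.mod_eq_of_lt hq.one_lt
      | mul a b iha ihb =>
        intro hab
        have ha := iha (Dvd.dvd.trans (Dvd.intro b rfl) hab)
        have hb := ihb (Dvd.dvd.trans (Dvd.intro_left a rfl) hab)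
        rw [Nat.mul_mod, ha, hb]
        exact Nat.mod_eq_of_lt hq.one_lt

end Cfsg.Agent.S1546
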