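import Cfsg.Statements.S1552
import Cfsg.Agent.Lib.Helper1.SextetOrb

set_option autoImplicit false
open scoped Pointwise
open Cfsg

namespace Cfsg.Agent.S1552

open Cfsg.Agent.Lib.Helper1 Cfsg.Agent.Lib.Helper1.M24

theorem cls_std : clsF sx0fam sx0fam = 96 := by
  have h := clsF_repSx 96 (by decide)
  rwa [show famL (repSx 96) = sx0fam from rfl] at h

theorem orbit_std : MulAction.orbit (MulAction.stabilizer M24 sx0fam) sx0fam = {sx0fam} := by
  ext x
  rw [Set.mem_singleton_iff]
  constructor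
  · rintro ⟨h, rfl⟩
    exact h.2
  · rintro rfl
    exact MulAction.mem_orbit_self _

theorem eq_std_of_cls (x : Finset (Finset GolayPt)) (hx : x ∈ sextets)
    (hc : clsF sx0fam x = 96) : x = sx0fam := by
  have h := suborbitsSx.2.1 96 (by decide)
  have hx' : x ∈ MulAction.orbit (MulAction.stabilizer M24 sx0fam) (famL (repSx 96)) := by
    rw [h]; exact ⟨hx, hc⟩
  rw [show famL (repSx 96) = sx0fam from rfl, orbit_std] at hx'
  exact hx'

theorem arith : ∀ I ∈ vSx.powerset, 96 ∈ I →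
    (∑ k ∈ I, nSx k) ∣ (∑ k ∈ vSx, nSx k) → I = {96} ∨ I = vSx := by
  decide +kernel

theorem trans_std (x y : Finset (Finset GolayPt)) (hx : x ∈ sextets) (hy : y ∈ sextets)
    (h : clsF sx0fam x = clsF sx0fam y) :
    ∃ h ∈ MulAction.stabilizer M24 sx0fam, h • x = y := by
  obtain ⟨k, hkx⟩ : ∃ k, clsF sx0fam x = k := ⟨_, rfl⟩
  have hk : k ∈ vSx := hkx ▸ suborbitsSx.1 x hx
  have ho := suborbitsSx.2.1 k hk
  have hx' : x ∈ MulAction.orbit (MulAction.stabilizer M24 sx0fam) (famL (repSx k)) := by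
    rw [ho]; exact ⟨hx, hkx⟩
  have hy' : y ∈ MulAction.orbit (MulAction.stabilizer M24 sx0fam) (famL (repSx k)) := by
    rw [ho]; exact ⟨hy, h ▸ hkx⟩
  obtain ⟨h₁, hh₁⟩ := hx'
  obtain ⟨h₂, hh₂⟩ := hy'
  refine ⟨((h₂ * h₁⁻¹ : MulAction.stabilizer M24 sx0fam) : M24), (h₂ * h₁⁻¹).2, ?_⟩
  rw [← hh₁, ← hh₂]
  show (h₂ * h₁⁻¹) • h₁ • famL (repSx k) = h₂ • famL (repSx k)
  rw [mul_smul, inv_smul_smul]

theorem std : IsCoatom (MulAction.stabilizer M24 sx0fam) := by
  apply CoatomOrbits.isCoatom_stabilizer (G := M24) sx0fam (clsF sx0fam) vSx nSx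
  · intro x hx
    rw [sextets_orbit] at hx
    exact suborbitsSx.1 x hx
  · intro x hx y hy h
    rw [sextets_orbit] at hx hy
    exact trans_std x y hx hy h
  · intro k hk
    rw [sextets_orbit]
    exact suborbitsSx.2.2 k hk
  · intro x hx hc
    rw [sextets_orbit] at hx
    rw [cls_std] at hc
    exact eq_std_of_cls x hx hc
  · intro htop
    have h48 : famL (repSx 48) ∈ sextets := famL_mem_sextets (repSx_ok 48 (by decide)).1
    rw [← sextets_orbit] at h48
    obtain ⟨g, hg⟩ := MulAction.mem_orbit_iff.mp h48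
    have : g ∈ MulAction.stabilizer M24 sx0fam := by rw [htop]; trivial
    have h1 : famL (repSx 48) = sx0fam := hg.symm.trans this
    have h2 := clsF_repSx 48 (by decide)
    rw [h1, cls_std] at h2
    exact absurd h2 (by decide)
  · rw [cls_std]
    exact arith

/-- A sextet stabiliser has four orbits on the 1771 sextets, of sizes 1, 90, 240, 1440; and the stabiliser is a maximal proper subgroup. -/
theorem result (S : Finset (Finset Cfsg.GolayPt)) (hS : S ∈ Cfsg.sextets) : ∃ X₁ ∈ Cfsg.sextets, ∃ X₂ ∈ Cfsg.sextets, ∃ X₃ ∈ Cfsg.sextets, (MulAction.orbit ↥(MulAction.stabilizer Cfsg.M24 S) X₁).ncard = 90 ∧ (MulAction.orbit ↥(MulAction.stabilizer Cfsg.M24 S) X₂).ncard = 240 ∧ (MulAction.orbit ↥(MulAction.stabilizer Cfsg.M24 S) X₃).ncard = 1440 ∧ Cfsg.sextets = {S} ∪ MulAction.orbit ↥(MulAction.stabilizer Cfsg.M24 S) X₁ ∪ MulAction.orbit ↥(MulAction.stabilizer Cfsg.M24 S) X₂ ∪ MulAction.orbit ↥(MulAction.stabilizer Cfsg.M24 S) X₃ ∧ IsCoatom (MulAction.stabilizer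 Cfsg.M24 S) := by
  obtain ⟨g, hg, rfl⟩ := sextet_trans S hS
  have hS' : g • sx0fam = (⟨g, hg⟩ : M24) • sx0fam := rfl
  rw [hS']
  generalize (⟨g, hg⟩ : M24) = g'
  have hmem : ∀ k ∈ vSx, g' • famL (repSx k) ∈ sextets := fun k hk =>
    Cfsg.Agent.Lib.Helper9.M24.sextets_smul g'.2 (famL_mem_sextets (repSx_ok k hk).1)
  have hcard : ∀ k ∈ vSx, (MulAction.orbit (MulAction.stabilizer M24 (g' • sx0fam))
      (g' • famL (repSx k))).ncard = nSx k := by
    intro k hk
    rw [SubOrbits.ncard_orbit_stabilizer_smul, suborbitsSx.2.1 k hk, suborbitsSx.2.2 k hk]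
  refine ⟨g' • famL (repSx 48), hmem 48 (by decide), g' • famL (repSx 36), hmem 36 (by decide),
    g' • famL (repSx 32), hmem 32 (by decide), hcard 48 (by decide), hcard 36 (by decide),
    hcard 32 (by decide), ?_, CoatomOrbits.isCoatom_stabilizer_smul g' sx0fam std⟩
  ext x
  simp only [Set.mem_union, Set.mem_singleton_iff]
  constructor
  · intro hx
    have hx' : g'⁻¹ • x ∈ sextets := Cfsg.Agent.Lib.Helper9.M24.sextets_smul (g'⁻¹).2 hx
    have hk := suborbitsSx.1 _ hx'
    have key : ∀ k ∈ vSx, clsF sx0fam (g'⁻¹ • x) = k →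
        x ∈ MulAction.orbit (MulAction.stabilizer M24 (g' • sx0fam)) (g' • famL (repSx k)) := by
      intro k hk hc
      rw [SubOrbits.mem_orbit_stabilizer_smul, suborbitsSx.2.1 k hk]
      exact ⟨hx', hc⟩
    unfold vSx at hk
    simp only [Finset.mem_insert, Finset.mem_singleton] at hk
    rcases hk with h | h | h | h
    · left; left; left
      have := eq_std_of_cls _ hx' h
      rw [← this, smul_inv_smul]
    · left; left; right
      exact key 48 (by decide) h
    · left; right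
      exact key 36 (by decide) h
    · right
      exact key 32 (by decide) h
  · have horb : ∀ k ∈ vSx, x ∈ MulAction.orbit (MulAction.stabilizer M24 (g' • sx0fam))
        (g' • famL (repSx k)) → x ∈ sextets := by
      intro k hk h
      rw [SubOrbits.mem_orbit_stabilizer_smul, suborbitsSx.2.1 k hk] at h
      have : g' • g'⁻¹ • x ∈ sextets := Cfsg.Agent.Lib.Helper9.M24.sextets_smul g'.2 h.1
      rwa [smul_inv_smul] at this
    rintro (((rfl | h) | h) | h)
    · exact Cfsg.Agent.Lib.Helper9.M24.sextets_smul g'.2 sx0fam_mem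
    · exact horb 48 (by decide) h
    · exact horb 36 (by decide) h
    · exact horb 32 (by decide) h

end Cfsg.Agent.S1552
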