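import Cfsg.Statements.S1554
import Cfsg.Agent.Lib.Helper1.M24Oct

set_option autoImplicit false
open Cfsg

namespace Cfsg.Agent.S1554

open Cfsg.Agent.Lib.Helper1 Cfsg.Agent.Lib.Helper1.M24
open scoped Pointwise

/-- the pointwise stabilizer of an octad is transitive on the complement -/
theorem pointwise_trans (o : Finset GolayPt) (ho : o ∈ octads) (x y : GolayPt) (hx : x ∉ o)
    (hy : y ∉ o) : ∃ n ∈ M24 ⊓ fixingSubgroup P24 (o : Set GolayPt), n x = y := by
  obtain ⟨τ, hτ, hτo, -, hτx⟩ := octad_list_out_trans o ho [] [] List.nodup_nil List.nodup_nil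
    (by simp) (by simp) rfl (by simp) x hx
  have hy₁ : gIdx (τ y) ∉ fxO := by
    rw [← mem_O₀fin_iff, ← hτo, apply_mem_smul_iff]
    exact hy
  obtain ⟨σ, hσ, hσfix, hσ4⟩ := reachO (gIdx (τ y)) (gIdx_lt _) hy₁
  rw [gUnidx_gIdx] at hσ4
  have hσ' : σ ∈ M24 ⊓ fixingSubgroup P24 (O₀fin : Set GolayPt) := by
    rw [fixing_O₀fin_eq]
    exact ⟨K_le hσ, hσfix⟩
  have h1 : τ⁻¹ * σ * τ ∈ M24 ⊓ fixingSubgroup P24 ((τ⁻¹ • O₀fin : Finset GolayPt) : Set GolayPt) := by
    rw [conj_mem_fixing (M24.inv_mem hτ)]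
    have : τ⁻¹⁻¹ * (τ⁻¹ * σ * τ) * τ⁻¹ = σ := by group
    rw [this]
    exact hσ'
  have h2 : τ⁻¹ • O₀fin = o := by rw [← hτo, inv_smul_smul]
  rw [h2] at h1
  refine ⟨τ⁻¹ * σ * τ, h1, ?_⟩
  rw [Equiv.Perm.mul_apply, Equiv.Perm.mul_apply, hτx, hσ4]
  simp

/-- an element of the group fixing an octad pointwise and a further point is trivial -/
theorem trivial_of_fix (o : Finset GolayPt) (ho : o ∈ octads) (p : GolayPt) (hp : p ∉ o)
    (g : P24) (hg : g ∈ M24) (hgo : ∀ x ∈ o, g x = x) (hgp : g p = p) : g = 1 := by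
  obtain ⟨τ, hτ, hτo, -, hτp⟩ := octad_list_out_trans o ho [] [] List.nodup_nil List.nodup_nil
    (by simp) (by simp) rfl (by simp) p hp
  have h1 : τ * g * τ⁻¹ = 1 := by
    apply stabO_trivial (M24.mul_mem (M24.mul_mem hτ hg) (M24.inv_mem hτ))
    intro j hj
    rw [List.mem_append, List.mem_singleton] at hj
    rcases hj with hj | rfl
    · have hmem : τ⁻¹ (gUnidx j) ∈ o := by
        rw [← apply_mem_smul_iff τ, hτo, mem_O₀fin_iff]
        have e : τ (τ⁻¹ (gUnidx j)) = gUnidx j := by simp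
        rw [e, gIdx_gUnidx j (fxO_lt j hj)]
        exact hj
      rw [Equiv.Perm.mul_apply, Equiv.Perm.mul_apply, hgo _ hmem]
      simp
    · rw [Equiv.Perm.mul_apply, Equiv.Perm.mul_apply, ← hτp]
      simp [hgp]
  have : g = τ⁻¹ * (τ * g * τ⁻¹) * τ := by group
  rw [this, h1]
  group

/-- An octad stabiliser is a split extension: the joint stabiliser of the octad and a point outside it is a complement to the pointwise stabiliser of the octad, and is isomorphic to the alternating group of degree 8. -/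
theorem result (o : Finset Cfsg.GolayPt) (ho : o ∈ Cfsg.octads) (p : Cfsg.GolayPt) (hp : p ∉ o) : (Cfsg.M24 ⊓ fixingSubgroup (Equiv.Perm Cfsg.GolayPt) (o : Set Cfsg.GolayPt)) ⊓ (Cfsg.M24 ⊓ MulAction.stabilizer (Equiv.Perm Cfsg.GolayPt) o ⊓ MulAction.stabilizer (Equiv.Perm Cfsg.GolayPt) p) = ⊥ ∧ (Cfsg.M24 ⊓ fixingSubgroup (Equiv.Perm Cfsg.GolayPt) (o : Set Cfsg.GolayPt)) ⊔ (Cfsg.M24 ⊓ MulAction.stabilizer (Equiv.Perm Cfsg.GolayPt) o ⊓ MulAction.stabilizer (Equiv.Perm Cfsg.GolayPt) p) = (Cfsg.M24 ⊓ MulAction.stabilizer (Equiv.Perm Cfsg.GolayPt) o) ∧ Nonempty (↥(Cfsg.M24 ⊓ MulAction.stabilizer (Equiv.Perm Cfsg.GolayPt) o ⊓ MulAction.stabilizer (Equiv.Perm Cfsg.GolayPt) p) ≃* alternatingGroup (Fin 8)) := by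
  have hN : ∀ g : P24, g ∈ M24 ⊓ fixingSubgroup P24 (o : Set GolayPt) ↔
      g ∈ M24 ∧ ∀ x ∈ o, g x = x := by
    intro g
    rw [Subgroup.mem_inf, mem_fixingSubgroup_iff]
    rfl
  have hNS : M24 ⊓ fixingSubgroup P24 (o : Set GolayPt) ≤ stabO o := by
    intro g hg
    rw [hN] at hg
    refine ⟨hg.1, ?_⟩
    show g • o = o
    apply smul_eq_of_mem_iff
    intro x
    constructor
    · intro hx
      have h3 : g (g x) = g x := hg.2 _ hx
      have e : g x = x := g.injective h3
      rw [e] at hx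
      exact hx
    · intro hx
      rw [hg.2 x hx]; exact hx
  have hbot : (M24 ⊓ fixingSubgroup P24 (o : Set GolayPt)) ⊓
      (M24 ⊓ MulAction.stabilizer P24 o ⊓ MulAction.stabilizer P24 p) = ⊥ := by
    rw [eq_bot_iff]
    intro g hg
    rw [Subgroup.mem_bot]
    have h1 := (hN g).mp hg.1
    exact trivial_of_fix o ho p hp g h1.1 h1.2 hg.2.2
  refine ⟨hbot, ?_, ?_⟩
  · apply le_antisymm
    · exact sup_le hNS inf_le_left
    · intro g hg
      have hgp : g p ∉ o := by
        rw [stab_mem_iff (MulAction.mem_stabilizer_iff.mp hg.2)]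
        exact hp
      obtain ⟨n, hn, hnp⟩ := pointwise_trans o ho p (g p) hp hgp
      have hA : n⁻¹ * g ∈ M24 ⊓ MulAction.stabilizer P24 o ⊓ MulAction.stabilizer P24 p := by
        refine ⟨(stabO o).mul_mem ((stabO o).inv_mem (hNS hn)) hg, ?_⟩
        show (n⁻¹ * g) p = p
        rw [Equiv.Perm.mul_apply, Equiv.Perm.inv_eq_iff_eq, hnp]
      have : g = n * (n⁻¹ * g) := by group
      rw [this]
      exact Subgroup.mul_mem_sup hn hA
  · -- the isomorphism with the alternating group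
    set A : Subgroup P24 := M24 ⊓ MulAction.stabilizer P24 o ⊓ MulAction.stabilizer P24 p with hA
    have hAS : A ≤ stabO o := inf_le_left
    let f : A →* Equiv.Perm ↥o := (resO o).comp (Subgroup.inclusion hAS)
    have hinj : Function.Injective f := by
      rw [← MonoidHom.ker_eq_bot_iff, eq_bot_iff]
      intro g hg
      rw [MonoidHom.mem_ker] at hg
      have h1 : (Subgroup.inclusion hAS g) ∈ (resO o).ker := hg
      rw [mem_ker_resO] at h1
      rw [Subgroup.mem_bot]
      apply Subtype.ext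
      exact trivial_of_fix o ho p hp g.1 g.2.1.1 h1 g.2.2
    -- the order of `A`
    have hcardA : Nat.card A = 20160 := by
      have h := StabCard.card_subgroup_eq_orbit_mul (G := P24) (stabO o) p ((o : Set GolayPt)ᶜ) (by
        intro r
        constructor
        · intro hr
          obtain ⟨n, hn, hnp⟩ := pointwise_trans o ho p r hp hr
          exact ⟨n, hNS hn, hnp⟩
        · rintro ⟨g, hg, rfl⟩
          show g p ∉ o
          rw [stab_mem_iff (MulAction.mem_stabilizer_iff.mp hg.2)]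
          exact hp)
      have hc : ((o : Set GolayPt)ᶜ).ncard = 16 := by
        rw [← Finset.coe_compl, Set.ncard_coe_finset, Finset.card_compl, ho.2]
        rfl
      rw [hc, card_stabO o ho] at h
      exact Nat.eq_of_mul_eq_mul_left (by norm_num : 0 < 16) (h.symm.trans (by norm_num))
    have hrange : f.range = alternatingGroup ↥o := by
      have hle : f.range ≤ (resO o).range := by
        rintro e ⟨g, rfl⟩
        exact ⟨Subgroup.inclusion hAS g, rfl⟩
      rw [range_resO o ho] at hle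
      apply Subgroup.eq_of_le_of_card_ge hle
      rw [← range_resO o ho, card_range_resO o ho, ← hcardA]
      exact (Nat.card_congr (MonoidHom.ofInjective hinj).toEquiv).le
    have e1 : A ≃* f.range := MonoidHom.ofInjective hinj
    have e2 : f.range ≃* alternatingGroup ↥o := MulEquiv.subgroupCongr hrange
    have e3 : ↥o ≃ Fin 8 := Fintype.equivFinOfCardEq (by rw [Fintype.card_coe, ho.2])
    exact ⟨(e1.trans e2).trans (Equiv.altCongrHom e3)⟩

end Cfsg.Agent.S1554
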