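import Cfsg.Statements.S1555
import Cfsg.Agent.Lib.Helper1.M24X

set_option autoImplicit false
open scoped Pointwise
open Cfsg

namespace Cfsg.Agent.S1555

open Cfsg.Agent.Lib.Helper1 Cfsg.Agent.Lib.Helper1.M24

set_option maxRecDepth 1000000 in
theorem count2 : octList.countP (fun m => O₀ &&& m == 8388609) = 16 := by
  decide +kernel

set_option maxRecDepth 1000000 in
theorem count4 : octList.countP (fun m => O₀ &&& m == 8388615) = 4 := by
  decide +kernel

theorem std_count (m : ℕ) (hm : m < 2 ^ 24) :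
    {o' | o' ∈ octads ∧ O₀fin ∩ o' = sp m}.ncard = octList.countP (fun x => O₀ &&& x == m) := by
  apply ncard_octads_countP (fun o' => O₀fin ∩ o' = sp m) (fun x => O₀ &&& x == m)
  intro c hc
  unfold O₀fin
  rw [sp_inter, beq_iff_eq]
  constructor
  · intro h
    exact sp_injOn (lt_of_le_of_lt Nat.and_le_left (by unfold O₀; norm_num)) hm h
  · intro h
    rw [h]

theorem general_count (o : Finset GolayPt) (ho : o ∈ octads) (s : Finset GolayPt) (hs : s ⊆ o)
    (m : ℕ) (hm : m < 2 ^ 24) (hsub : sp m ⊆ O₀fin) (hc : s.card = (sp m).card)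
    (h5 : s.card ≤ 5) :
    {o' | o' ∈ octads ∧ o ∩ o' = s}.ncard =
      octList.countP (fun x => O₀ &&& x == m) := by
  obtain ⟨g, hg, h1, h2⟩ := octad_sub_trans o O₀fin ho O₀fin_mem s (sp m) hs hsub hc h5
  rw [← std_count m hm]
  apply ncard_transport g
  intro o'
  rw [smul_mem_octads_iff hg, ← h1, ← h2, ← Finset.smul_finset_inter]
  constructor
  · rintro ⟨h3, h4⟩
    exact ⟨h3, MulAction.injective g h4⟩
  · rintro ⟨h3, h4⟩
    exact ⟨h3, by rw [h4]⟩

theorem sub2 : sp 8388609 ⊆ O₀fin := by
  intro p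
  unfold O₀fin
  rw [mem_sp, mem_sp]
  revert p
  decide +kernel

theorem sub4 : sp 8388615 ⊆ O₀fin := by
  intro p
  unfold O₀fin
  rw [mem_sp, mem_sp]
  revert p
  decide +kernel

/-- Bottom row of the Leech triangle: an octad is met in a prescribed pair of its points by exactly 16 octads and in a prescribed 4-subset by exactly 4 octads. -/
theorem result (o : Finset Cfsg.GolayPt) (ho : o ∈ Cfsg.octads) (s : Finset Cfsg.GolayPt) (hs : s ⊆ o) : (s.card = 2 → {o' : Finset Cfsg.GolayPt | o' ∈ Cfsg.octads ∧ o ∩ o' = s}.ncard = 16) ∧ (s.card = 4 → {o' : Finset Cfsg.GolayPt | o' ∈ Cfsg.octads ∧ o ∩ o' = s}.ncard = 4) := by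
  constructor
  · intro h2
    rw [general_count o ho s hs 8388609 (by norm_num) sub2
      (by rw [h2, card_sp]; decide +kernel) (by omega), count2]
  · intro h4
    rw [general_count o ho s hs 8388615 (by norm_num) sub4
      (by rw [h4, card_sp]; decide +kernel) (by omega), count4]

end Cfsg.Agent.S1555
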