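import Cfsg.Statements.S1559
import Cfsg.Agent.Lib.Helper1.TrioOrb

set_option autoImplicit false
open scoped Pointwise
open Cfsg

namespace Cfsg.Agent.S1559

open Cfsg.Agent.Lib.Helper1 Cfsg.Agent.Lib.Helper1.M24

theorem cls_std : clsF tr0fam tr0fam = 192 := by
  have h := clsF_repTr 192 (by decide)
  rwa [show famL (repTr 192) = tr0fam from rfl] at h

theorem orbit_std : MulAction.orbit (MulAction.stabilizer M24 tr0fam) tr0fam = {tr0fam} := by
  ext x
  rw [Set.mem_singleton_iff]
  constructor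
  · rintro ⟨h, rfl⟩
    exact h.2
  · rintro rfl
    exact MulAction.mem_orbit_self _

theorem eq_std_of_cls (x : Finset (Finset GolayPt)) (hx : x ∈ trios)
    (hc : clsF tr0fam x = 192) : x = tr0fam := by
  have h := suborbitsTr.2.1 192 (by decide)
  have hx' : x ∈ MulAction.orbit (MulAction.stabilizer M24 tr0fam) (famL (repTr 192)) := by
    rw [h]; exact ⟨hx, hc⟩
  rw [show famL (repTr 192) = tr0fam from rfl, orbit_std] at hx'
  exact hx'

theorem arith : ∀ I ∈ vTr.powerset, 192 ∈ I →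
    (∑ k ∈ I, nTr k) ∣ (∑ k ∈ vTr, nTr k) → I = {192} ∨ I = vTr := by
  decide +kernel

theorem trans_std (x y : Finset (Finset GolayPt)) (hx : x ∈ trios) (hy : y ∈ trios)
    (h : clsF tr0fam x = clsF tr0fam y) :
    ∃ h ∈ MulAction.stabilizer M24 tr0fam, h • x = y := by
  obtain ⟨k, hkx⟩ : ∃ k, clsF tr0fam x = k := ⟨_, rfl⟩
  have hk : k ∈ vTr := hkx ▸ suborbitsTr.1 x hx
  have ho := suborbitsTr.2.1 k hk
  have hx' : x ∈ MulAction.orbit (MulAction.stabilizer M24 tr0fam) (famL (repTr k)) := by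
    rw [ho]; exact ⟨hx, hkx⟩
  have hy' : y ∈ MulAction.orbit (MulAction.stabilizer M24 tr0fam) (famL (repTr k)) := by
    rw [ho]; exact ⟨hy, h ▸ hkx⟩
  obtain ⟨h₁, hh₁⟩ := hx'
  obtain ⟨h₂, hh₂⟩ := hy'
  refine ⟨((h₂ * h₁⁻¹ : MulAction.stabilizer M24 tr0fam) : M24), (h₂ * h₁⁻¹).2, ?_⟩
  rw [← hh₁, ← hh₂]
  show (h₂ * h₁⁻¹) • h₁ • famL (repTr k) = h₂ • famL (repTr k)
  rw [mul_smul, inv_smul_smul]

theorem std : IsCoatom (MulAction.stabilizer M24 tr0fam) := by
  apply CoatomOrbits.isCoatom_stabilizer (G := M24) tr0fam (clsF tr0fam) vTr nTr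
  · intro x hx
    rw [trios_orbit] at hx
    exact suborbitsTr.1 x hx
  · intro x hx y hy h
    rw [trios_orbit] at hx hy
    exact trans_std x y hx hy h
  · intro k hk
    rw [trios_orbit]
    exact suborbitsTr.2.2 k hk
  · intro x hx hc
    rw [trios_orbit] at hx
    rw [cls_std] at hc
    exact eq_std_of_cls x hx hc
  · intro htop
    have h48 : famL (repTr 128) ∈ trios := famL_mem_trios (repTr_ok 128 (by decide)).1
    rw [← trios_orbit] at h48
    obtain ⟨g, hg⟩ := MulAction.mem_orbit_iff.mp h48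
    have : g ∈ MulAction.stabilizer M24 tr0fam := by rw [htop]; trivial
    have h1 : famL (repTr 128) = tr0fam := hg.symm.trans this
    have h2 := clsF_repTr 128 (by decide)
    rw [h1, cls_std] at h2
    exact absurd h2 (by decide)
  · rw [cls_std]
    exact arith

/-- A trio stabiliser has five orbits on the 3795 trios, of sizes 1, 42, 56, 1008, 2688; and the stabiliser is a maximal proper subgroup. -/
theorem result (T : Finset (Finset Cfsg.GolayPt)) (hT : T ∈ Cfsg.trios) : ∃ X₁ ∈ Cfsg.trios, ∃ X₂ ∈ Cfsg.trios, ∃ X₃ ∈ Cfsg.trios, ∃ X₄ ∈ Cfsg.trios, (MulAction.orbit ↥(MulAction.stabilizer Cfsg.M24 T) X₁).ncard = 42 ∧ (MulAction.orbit ↥(MulAction.stabilizer Cfsg.M24 T) X₂).ncard = 56 ∧ (MulAction.orbit ↥(MulAction.stabilizer Cfsg.M24 T) X₃).ncard = 1008 ∧ (MulAction.orbit ↥(MulAction.stabilizer Cfsg.M24 T) X₄).ncard = 2688 ∧ Cfsg.trios = {T} ∪ MulAction.orbit ↥(MulAction.stabilizer Cfsg.M24 T) X₁ ∪ MulAction.orbit ↥(MulAction.stabilizer Cfsg.M24 T) X₂ ∪ MulAction.orbit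 ↥(MulAction.stabilizer Cfsg.M24 T) X₃ ∪ MulAction.orbit ↥(MulAction.stabilizer Cfsg.M24 T) X₄ ∧ IsCoatom (MulAction.stabilizer Cfsg.M24 T) := by
  obtain ⟨g, hg, rfl⟩ := trio_trans T hT
  have hS' : g • tr0fam = (⟨g, hg⟩ : M24) • tr0fam := rfl
  rw [hS']
  generalize (⟨g, hg⟩ : M24) = g'
  have hmem : ∀ k ∈ vTr, g' • famL (repTr k) ∈ trios := fun k hk =>
    Cfsg.Agent.Lib.Helper9.M24.trios_smul g'.2 (famL_mem_trios (repTr_ok k hk).1)
  have hcard : ∀ k ∈ vTr, (MulAction.orbit (MulAction.stabilizer M24 (g' • tr0fam))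
      (g' • famL (repTr k))).ncard = nTr k := by
    intro k hk
    rw [SubOrbits.ncard_orbit_stabilizer_smul, suborbitsTr.2.1 k hk, suborbitsTr.2.2 k hk]
  refine ⟨g' • famL (repTr 128), hmem 128 (by decide), g' • famL (repTr 96), hmem 96 (by decide),
    g' • famL (repTr 80), hmem 80 (by decide), g' • famL (repTr 72), hmem 72 (by decide),
    hcard 128 (by decide), hcard 96 (by decide), hcard 80 (by decide), hcard 72 (by decide),
    ?_, CoatomOrbits.isCoatom_stabilizer_smul g' tr0fam std⟩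
  ext x
  simp only [Set.mem_union, Set.mem_singleton_iff]
  constructor
  · intro hx
    have hx' : g'⁻¹ • x ∈ trios := Cfsg.Agent.Lib.Helper9.M24.trios_smul (g'⁻¹).2 hx
    have hk := suborbitsTr.1 _ hx'
    have key : ∀ k ∈ vTr, clsF tr0fam (g'⁻¹ • x) = k →
        x ∈ MulAction.orbit (MulAction.stabilizer M24 (g' • tr0fam)) (g' • famL (repTr k)) := by
      intro k hk hc
      rw [SubOrbits.mem_orbit_stabilizer_smul, suborbitsTr.2.1 k hk]
      exact ⟨hx', hc⟩
    unfold vTr at hk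
    simp only [Finset.mem_insert, Finset.mem_singleton] at hk
    rcases hk with h | h | h | h | h
    · left; left; left; left
      have := eq_std_of_cls _ hx' h
      rw [← this, smul_inv_smul]
    · left; left; left; right
      exact key 128 (by decide) h
    · left; left; right
      exact key 96 (by decide) h
    · left; right
      exact key 80 (by decide) h
    · right
      exact key 72 (by decide) h
  · have horb : ∀ k ∈ vTr, x ∈ MulAction.orbit (MulAction.stabilizer M24 (g' • tr0fam))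
        (g' • famL (repTr k)) → x ∈ trios := by
      intro k hk h
      rw [SubOrbits.mem_orbit_stabilizer_smul, suborbitsTr.2.1 k hk] at h
      have : g' • g'⁻¹ • x ∈ trios := Cfsg.Agent.Lib.Helper9.M24.trios_smul g'.2 h.1
      rwa [smul_inv_smul] at this
    rintro ((((rfl | h) | h) | h) | h)
    · exact Cfsg.Agent.Lib.Helper9.M24.trios_smul g'.2 tr0fam_mem
    · exact horb 128 (by decide) h
    · exact horb 96 (by decide) h
    · exact horb 80 (by decide) h
    · exact horb 72 (by decide) h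

end Cfsg.Agent.S1559
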