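import Cfsg.Statements.S1560
import Cfsg.Agent.Lib.Helper1.M24Z

set_option autoImplicit false
open Cfsg

namespace Cfsg.Agent.S1560

open Cfsg.Agent.Lib.Helper1 Cfsg.Agent.Lib.Helper1.M24
open scoped Pointwise

set_option maxRecDepth 1000000 in
theorem count4 : dodList.countP (fun m => popcN 24 (28637 &&& m) == 4) = 495 := by
  decide +kernel

set_option maxRecDepth 1000000 in
theorem count6 : dodList.countP (fun m => popcN 24 (28637 &&& m) == 6) = 1584 := by
  decide +kernel

set_option maxRecDepth 1000000 in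
theorem count8 : dodList.countP (fun m => popcN 24 (28637 &&& m) == 8) = 495 := by
  decide +kernel

set_option maxRecDepth 1000000 in
theorem vals : dodList.all (fun m => m == 28637 || popcN 24 (28637 &&& m) == 0 ||
    popcN 24 (28637 &&& m) == 4 || popcN 24 (28637 &&& m) == 6 ||
    popcN 24 (28637 &&& m) == 8) = true := by
  decide +kernel

theorem count_k (d : Finset GolayPt) {g : P24} (hg : g ∈ M24) (hgd : g • d = d₀fin) (k : ℕ) :
    {d' | d' ∈ dodecads ∧ (d ∩ d').card = k}.ncard =
      dodList.countP (fun m => popcN 24 (28637 &&& m) == k) := by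
  apply flag_count_transportD (fun d' => (d ∩ d').card = k) (fun x => (d₀fin ∩ x).card = k) _ hg
  · intro d'
    rw [← hgd, card_inter_smul]
  · intro m _
    rw [card_d₀fin_inter, beq_iff_eq]

/-- Intersection numbers of dodecads: a dodecad meets every other dodecad in 0, 4, 6 or 8 points, meeting 495 of them in 4 points, 1584 in 6 points and 495 in 8 points. -/
theorem result (d : Finset Cfsg.GolayPt) (hd : d ∈ Cfsg.dodecads) : (∀ d' ∈ Cfsg.dodecads, d' ≠ d → (d ∩ d').card = 0 ∨ (d ∩ d').card = 4 ∨ (d ∩ d').card = 6 ∨ (d ∩ d').card = 8) ∧ {d' : Finset Cfsg.GolayPt | d' ∈ Cfsg.dodecads ∧ (d ∩ d').card = 4}.ncard = 495 ∧ {d' : Finset Cfsg.GolayPt | d' ∈ Cfsg.dodecads ∧ (d ∩ d').card = 6}.ncard = 1584 ∧ {d' : Finset Cfsg.GolayPt | d' ∈ Cfsg.dodecads ∧ (d ∩ d').card = 8}.ncard = 495 := by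
  obtain ⟨g, hg, hgd⟩ := dodecad_trans d d₀fin hd d₀fin_mem
  refine ⟨?_, ?_, ?_, ?_⟩
  · intro d' hd' hne
    obtain ⟨m, hm, e⟩ := exists_mask_of_mem_dodecads (smul_mem_dodecads hg hd')
    have h1 : (d ∩ d').card = popcN 24 (28637 &&& m) := by
      rw [← card_inter_smul g, hgd, e, card_d₀fin_inter]
    have h2 := List.all_eq_true.mp vals m hm
    simp only [Bool.or_eq_true, beq_iff_eq] at h2
    rw [h1]
    rcases h2 with (((h2 | h2) | h2) | h2) | h2
    · exfalso
      apply hne
      have : g • d' = g • d := by rw [e, hgd, d₀fin_eq, h2]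
      exact MulAction.injective g this
    · exact Or.inl h2
    · exact Or.inr (Or.inl h2)
    · exact Or.inr (Or.inr (Or.inl h2))
    · exact Or.inr (Or.inr (Or.inr h2))
  · rw [count_k d hg hgd 4, count4]
  · rw [count_k d hg hgd 6, count6]
  · rw [count_k d hg hgd 8, count8]

end Cfsg.Agent.S1560
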