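import Cfsg.Statements.S1562
import Cfsg.Agent.Lib.Helper1.M24X3

set_option autoImplicit false
open scoped Pointwise
open Cfsg

namespace Cfsg.Agent.S1562

open Cfsg.Agent.Lib.Helper1 Cfsg.Agent.Lib.Helper1.M24

set_option maxRecDepth 1000000 in
theorem count1 : (subMasks 24 3).countP (fun m => famT m && invT m == 1) = 210 := by
  decide +kernel

set_option maxRecDepth 1000000 in
theorem count0 : (subMasks 24 3).countP (fun m => famT m && invT m == 0) = 1120 := by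
  decide +kernel

theorem invT_iff (m : ℕ) (hm : m ∈ subMasks 24 3) :
    (∃ o ∈ octads, sp 8388611 ∪ sp m ⊆ o) ↔ invT m = 1 := by
  rw [inOct_iff m ((mem_subMasks _ _ _).mp hm).1]
  unfold invT
  split_ifs with hc
  · simp [hc]
  · simp [hc]

theorem invT_iff' (m : ℕ) (hm : m ∈ subMasks 24 3) :
    (¬ ∃ o ∈ octads, sp 8388611 ∪ sp m ⊆ o) ↔ invT m = 0 := by
  rw [invT_iff m hm]
  unfold invT
  split_ifs <;> simp

/-- Orbits of a triad stabiliser on the triads disjoint from it: the 210 triads inside a common octad with it form one orbit and the remaining 1120 another. -/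
theorem result (T : Finset Cfsg.GolayPt) (hT : T.card = 3) : {U : Finset Cfsg.GolayPt | U.card = 3 ∧ Disjoint T U ∧ (∃ o ∈ Cfsg.octads, T ∪ U ⊆ o)}.ncard = 210 ∧ {U : Finset Cfsg.GolayPt | U.card = 3 ∧ Disjoint T U ∧ ¬ (∃ o ∈ Cfsg.octads, T ∪ U ⊆ o)}.ncard = 1120 ∧ ∀ U U' : Finset Cfsg.GolayPt, U.card = 3 → U'.card = 3 → Disjoint T U → Disjoint T U' → ((∃ o ∈ Cfsg.octads, T ∪ U ⊆ o) ↔ (∃ o ∈ Cfsg.octads, T ∪ U' ⊆ o)) → ∃ g : Equiv.Perm Cfsg.GolayPt, g ∈ Cfsg.M24 ∧ g • T = T ∧ g • U = U' := by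
  obtain ⟨τ, hτ, hτT⟩ := triad_to_std T hT
  have key : ∀ U : Finset GolayPt, (Disjoint (sp 8388611) (τ • U) ↔ Disjoint T U) ∧
      ((∃ o ∈ octads, sp 8388611 ∪ τ • U ⊆ o) ↔ (∃ o ∈ octads, T ∪ U ⊆ o)) := by
    intro U
    rw [← hτT, smul_disjoint_iff, ← Finset.smul_finset_union, smul_inOct_iff hτ]
    exact ⟨Iff.rfl, Iff.rfl⟩
  refine ⟨?_, ?_, ?_⟩
  · rw [← count1]
    rw [ncard_transport τ (fun U => U.card = 3 ∧ Disjoint T U ∧ (∃ o ∈ octads, T ∪ U ⊆ o))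
      (fun X => X.card = 3 ∧ Disjoint (sp 8388611) X ∧ (∃ o ∈ octads, sp 8388611 ∪ X ⊆ o))
      (fun U => by rw [Finset.card_smul_finset, (key U).1, (key U).2])]
    apply ncard_subsets_countP 3 (fun X => Disjoint (sp 8388611) X ∧
      (∃ o ∈ octads, sp 8388611 ∪ X ⊆ o)) (fun m => famT m && invT m == 1)
    intro m hm
    rw [← famT_iff, invT_iff m hm, Bool.and_eq_true, beq_iff_eq]
  · rw [← count0]
    rw [ncard_transport τ (fun U => U.card = 3 ∧ Disjoint T U ∧ ¬ (∃ o ∈ octads, T ∪ U ⊆ o))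
      (fun X => X.card = 3 ∧ Disjoint (sp 8388611) X ∧ ¬ (∃ o ∈ octads, sp 8388611 ∪ X ⊆ o))
      (fun U => by rw [Finset.card_smul_finset, (key U).1, (key U).2])]
    apply ncard_subsets_countP 3 (fun X => Disjoint (sp 8388611) X ∧
      ¬ (∃ o ∈ octads, sp 8388611 ∪ X ⊆ o)) (fun m => famT m && invT m == 0)
    intro m hm
    rw [← famT_iff, invT_iff' m hm, Bool.and_eq_true, beq_iff_eq]
  · intro U U' hU hU' hd hd' h
    exact triad_orbits T U U' hT hU hU' hd hd' h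

end Cfsg.Agent.S1562
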