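import Cfsg.Statements.S1563
import Cfsg.Agent.Lib.Helper1.M24X3
import Cfsg.Agent.Lib.Helper1.CoatomOrbits

set_option autoImplicit false
open scoped Pointwise
open Cfsg

namespace Cfsg.Agent.S1563

open Cfsg.Agent.Lib.Helper1 Cfsg.Agent.Lib.Helper1.M24

/-- sizes of the suborbits -/
def nS (k : ℕ) : ℕ := (subMasks 24 2).countP (fun m => popcN 24 (8388609 &&& m) == k)

theorem mk_smul (g : P24) (hg : g ∈ M24) (s : Finset GolayPt) : (⟨g, hg⟩ : M24) • s = g • s := rfl

theorem orbit_eq (s : Finset GolayPt) (hs : s.card = 2) :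
    MulAction.orbit M24 s = {t | t.card = 2} := by
  ext t
  rw [MulAction.mem_orbit_iff]
  constructor
  · rintro ⟨g, rfl⟩
    show (g • s).card = 2
    rw [← hs]
    exact Finset.card_smul_finset g s
  · intro ht
    obtain ⟨g, hg, -, h⟩ := set_pair_trans ∅ s t (by rw [hs]; exact ht.symm) (by simp)
      (by rw [Finset.empty_union, hs]; norm_num)
    exact ⟨⟨g, hg⟩, h⟩

set_option maxRecDepth 1000000 in
theorem arith : ∀ I ∈ ({2, 1, 0} : Finset ℕ).powerset, 2 ∈ I →
    (∑ k ∈ I, nS k) ∣ (∑ k ∈ ({2, 1, 0} : Finset ℕ), nS k) → I = {2} ∨ I = {2, 1, 0} := by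
  decide +kernel

/-- The stabiliser of a pair of points (setwise) is a maximal proper subgroup of the group of the length-24 code. -/
theorem result (s : Finset Cfsg.GolayPt) (hs : s.card = 2) : IsCoatom (MulAction.stabilizer Cfsg.M24 s) := by
  have hss : (s ∩ s).card = 2 := by rw [Finset.inter_self, hs]
  apply CoatomOrbits.isCoatom_stabilizer (G := M24) s (fun t => (s ∩ t).card) {2, 1, 0} nS
  · intro t _
    have : (s ∩ t).card ≤ 2 := by rw [← hs]; exact Finset.card_le_card Finset.inter_subset_left
    simp only [Finset.mem_insert, Finset.mem_singleton]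
    omega
  · intro t ht t' ht' h
    rw [orbit_eq s hs] at ht ht'
    obtain ⟨g, hg, h1, h2⟩ := set_pair_trans s t t' (by rw [ht, ht']) h (by
      have := Finset.card_union_le s t
      rw [hs, ht] at this
      omega)
    exact ⟨⟨g, hg⟩, h1, h2⟩
  · intro k _
    rw [orbit_eq s hs]
    obtain ⟨τ, hτ, -, hτs⟩ := set_pair_trans ∅ s (sp 8388609)
      (by rw [hs, card_sp]; decide +kernel) (by simp) (by rw [Finset.empty_union, hs]; norm_num)
    show {t : Finset GolayPt | t.card = 2 ∧ (s ∩ t).card = k}.ncard = nS k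
    rw [ncard_transport τ (fun t => t.card = 2 ∧ (s ∩ t).card = k)
      (fun t => t.card = 2 ∧ (sp 8388609 ∩ t).card = k)
      (fun t => by rw [Finset.card_smul_finset, ← hτs, card_inter_smul])]
    apply ncard_subsets_countP 2 (fun t => (sp 8388609 ∩ t).card = k)
    intro m _
    rw [card_sp_inter, beq_iff_eq]
  · intro t ht hc
    rw [orbit_eq s hs] at ht
    simp only [hss] at hc
    have h1 : s ∩ t = s :=
      Finset.eq_of_subset_of_card_le Finset.inter_subset_left (by rw [hc, hs])
    have h2 : s ⊆ t := by rw [← h1]; exact Finset.inter_subset_right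
    exact (Finset.eq_of_subset_of_card_le h2 (by rw [hs, ht])).symm
  · intro htop
    obtain ⟨t, ht, hne⟩ : ∃ t : Finset GolayPt, t.card = 2 ∧ t ≠ s := by
      by_cases h : s = sp 8388609
      · refine ⟨sp 3, by rw [card_sp]; decide +kernel, ?_⟩
        rw [h]
        intro h2
        have := sp_injOn (by norm_num) (by norm_num) h2
        omega
      · exact ⟨sp 8388609, by rw [card_sp]; decide +kernel, fun h2 => h h2.symm⟩
    have hmem : t ∈ MulAction.orbit M24 s := by rw [orbit_eq s hs]; exact ht
    obtain ⟨g, hg⟩ := MulAction.mem_orbit_iff.mp hmem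
    have : g ∈ MulAction.stabilizer M24 s := by rw [htop]; trivial
    exact hne (hg.symm.trans this)
  · simp only [hss]
    exact arith

end Cfsg.Agent.S1563
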