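import Cfsg.Statements.S1564
import Cfsg.Agent.Lib.Helper1.M24X3
import Cfsg.Agent.Lib.Helper1.CoatomOrbits

set_option autoImplicit false
open scoped Pointwise
open Cfsg

namespace Cfsg.Agent.S1564

open Cfsg.Agent.Lib.Helper1 Cfsg.Agent.Lib.Helper1.M24

open Classical in
/-- the class of a triad relative to a triad -/
noncomputable def clsT (s t : Finset GolayPt) : ℕ :=
  if (s ∩ t).card = 0 then (if ∃ o ∈ octads, s ∪ t ⊆ o then 10 else 11) else (s ∩ t).card

/-- the class on masks -/
def clsM (m : ℕ) : ℕ :=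
  if popcN 24 (8388611 &&& m) = 0 then (if invT m = 1 then 10 else 11)
  else popcN 24 (8388611 &&& m)

/-- sizes of the suborbits -/
def nT (k : ℕ) : ℕ := (subMasks 24 3).countP (fun m => clsM m == k)

theorem invT_iff (m : ℕ) (hm : m ∈ subMasks 24 3) :
    (∃ o ∈ octads, sp 8388611 ∪ sp m ⊆ o) ↔ invT m = 1 := by
  rw [inOct_iff m ((mem_subMasks _ _ _).mp hm).1]
  unfold invT
  split_ifs with hc
  · simp [hc]
  · simp [hc]

theorem clsT_sp (m : ℕ) (hm : m ∈ subMasks 24 3) : clsT (sp 8388611) (sp m) = clsM m := by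
  unfold clsT clsM
  rw [card_sp_inter]
  have h := invT_iff m hm
  by_cases hc : ∃ o ∈ octads, sp 8388611 ∪ sp m ⊆ o
  · rw [if_pos hc, if_pos (h.mp hc)]
  · rw [if_neg hc, if_neg (fun h2 => hc (h.mpr h2))]

theorem clsT_smul {τ : P24} (hτ : τ ∈ M24) (s t : Finset GolayPt) :
    clsT (τ • s) (τ • t) = clsT s t := by
  unfold clsT
  rw [card_inter_smul, ← Finset.smul_finset_union]
  have h := smul_inOct_iff hτ (s ∪ t)
  by_cases hc : ∃ o ∈ octads, s ∪ t ⊆ o
  · rw [if_pos hc, if_pos (h.mpr hc)]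
  · rw [if_neg hc, if_neg (fun h2 => hc (h.mp h2))]

theorem orbit_eq (s : Finset GolayPt) (hs : s.card = 3) :
    MulAction.orbit M24 s = {t | t.card = 3} := by
  ext t
  rw [MulAction.mem_orbit_iff]
  constructor
  · rintro ⟨g, rfl⟩
    show (g • s).card = 3
    rw [← hs]
    exact Finset.card_smul_finset g s
  · intro ht
    obtain ⟨g, hg, -, h⟩ := set_pair_trans ∅ s t (by rw [hs]; exact ht.symm) (by simp)
      (by rw [Finset.empty_union, hs]; norm_num)
    exact ⟨⟨g, hg⟩, h⟩

set_option maxRecDepth 1000000 in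
theorem arith : ∀ I ∈ ({3, 2, 1, 10, 11} : Finset ℕ).powerset, 3 ∈ I →
    (∑ k ∈ I, nT k) ∣ (∑ k ∈ ({3, 2, 1, 10, 11} : Finset ℕ), nT k) →
      I = {3} ∨ I = {3, 2, 1, 10, 11} := by
  decide +kernel

theorem clsT_cases (s t : Finset GolayPt) (hs : s.card = 3) :
    ((s ∩ t).card = 0 ∧ (clsT s t = 10 ∨ clsT s t = 11)) ∨
      ((s ∩ t).card ≠ 0 ∧ clsT s t = (s ∩ t).card ∧ (s ∩ t).card ≤ 3) := by
  unfold clsT
  by_cases h : (s ∩ t).card = 0
  · left
    rw [if_pos h]
    refine ⟨h, ?_⟩
    split_ifs <;> simp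
  · right
    rw [if_neg h]
    exact ⟨h, rfl, by rw [← hs]; exact Finset.card_le_card Finset.inter_subset_left⟩

theorem clsT_ten (s t : Finset GolayPt) (h : (s ∩ t).card = 0) :
    clsT s t = 10 ↔ ∃ o ∈ octads, s ∪ t ⊆ o := by
  unfold clsT
  rw [if_pos h]
  split_ifs with hc
  · simp [hc]
  · simp [hc]

/-- The stabiliser of a set of three points (setwise) is a maximal proper subgroup of the group of the length-24 code. -/
theorem result (s : Finset Cfsg.GolayPt) (hs : s.card = 3) : IsCoatom (MulAction.stabilizer Cfsg.M24 s) := by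
  have hss : clsT s s = 3 := by
    unfold clsT
    rw [Finset.inter_self, hs]
    simp
  apply CoatomOrbits.isCoatom_stabilizer (G := M24) s (clsT s) {3, 2, 1, 10, 11} nT
  · intro t _
    simp only [Finset.mem_insert, Finset.mem_singleton]
    rcases clsT_cases s t hs with ⟨_, h | h⟩ | ⟨h1, h2, h3⟩
    · omega
    · omega
    · omega
  · intro t ht t' ht' h
    rw [orbit_eq s hs] at ht ht'
    have key : (∃ g ∈ M24, g • s = s ∧ g • t = t') := by
      rcases clsT_cases s t hs with ⟨h0, hv⟩ | ⟨h1, h2, h3⟩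
      · rcases clsT_cases s t' hs with ⟨h0', hv'⟩ | ⟨h1', h2', h3'⟩
        · apply triad_orbits s t t' hs ht ht'
            (Finset.disjoint_iff_inter_eq_empty.mpr (Finset.card_eq_zero.mp h0))
            (Finset.disjoint_iff_inter_eq_empty.mpr (Finset.card_eq_zero.mp h0'))
          rw [← clsT_ten s t h0, ← clsT_ten s t' h0', h]
        · omega
      · rcases clsT_cases s t' hs with ⟨h0', hv'⟩ | ⟨h1', h2', h3'⟩
        · omega
        · apply set_pair_trans s t t' (by rw [ht, ht']) (by omega)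
          have := Finset.card_union_add_card_inter s t
          rw [hs, ht] at this
          omega
    obtain ⟨g, hg, h1, h2⟩ := key
    exact ⟨⟨g, hg⟩, h1, h2⟩
  · intro k _
    rw [orbit_eq s hs]
    obtain ⟨τ, hτ, hτs⟩ := triad_to_std s hs
    show {t : Finset GolayPt | t.card = 3 ∧ clsT s t = k}.ncard = nT k
    rw [ncard_transport τ (fun t => t.card = 3 ∧ clsT s t = k)
      (fun t => t.card = 3 ∧ clsT (sp 8388611) t = k)
      (fun t => by rw [Finset.card_smul_finset, ← hτs, clsT_smul hτ])]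
    apply ncard_subsets_countP 3 (fun t => clsT (sp 8388611) t = k)
    intro m hm
    rw [clsT_sp m hm, beq_iff_eq]
  · intro t ht hc
    rw [orbit_eq s hs] at ht
    rw [hss] at hc
    rcases clsT_cases s t hs with ⟨_, h | h⟩ | ⟨h1, h2, h3⟩
    · omega
    · omega
    · have h1 : s ∩ t = s :=
        Finset.eq_of_subset_of_card_le Finset.inter_subset_left (by omega)
      have h2 : s ⊆ t := by rw [← h1]; exact Finset.inter_subset_right
      exact (Finset.eq_of_subset_of_card_le h2 (by rw [hs, ht])).symm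
  · intro htop
    obtain ⟨t, ht, hne⟩ : ∃ t : Finset GolayPt, t.card = 3 ∧ t ≠ s := by
      by_cases h : s = sp 8388611
      · refine ⟨sp 7, by rw [card_sp]; decide +kernel, ?_⟩
        rw [h]
        intro h2
        have := sp_injOn (by norm_num) (by norm_num) h2
        omega
      · exact ⟨sp 8388611, by rw [card_sp]; decide +kernel, fun h2 => h h2.symm⟩
    have hmem : t ∈ MulAction.orbit M24 s := by rw [orbit_eq s hs]; exact ht
    obtain ⟨g, hg⟩ := MulAction.mem_orbit_iff.mp hmem
    have : g ∈ MulAction.stabilizer M24 s := by rw [htop]; trivial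
    exact hne (hg.symm.trans this)
  · rw [hss]
    exact arith

end Cfsg.Agent.S1564
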