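import Cfsg.Statements.S1565
import Cfsg.Agent.Lib.Helper1.M24X
import Cfsg.Agent.Lib.Helper1.CoatomOrbits

set_option autoImplicit false
open scoped Pointwise
open Cfsg

namespace Cfsg.Agent.S1565

open Cfsg.Agent.Lib.Helper1 Cfsg.Agent.Lib.Helper1.M24

/-- sizes of the suborbits -/
def nO (k : ℕ) : ℕ := octList.countP (fun m => invO m == k)

theorem orbit_eq : MulAction.orbit M24 O₀fin = octads := by
  ext x
  rw [MulAction.mem_orbit_iff]
  constructor
  · rintro ⟨g, rfl⟩
    exact smul_mem_octads g.2 O₀fin_mem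
  · intro hx
    obtain ⟨g, hg, h⟩ := octad_trans O₀fin x O₀fin_mem hx
    exact ⟨⟨g, hg⟩, h⟩

theorem cls_eq (m : ℕ) : (O₀fin ∩ sp m).card = invO m := by
  unfold O₀fin invO
  rw [card_sp_inter]

set_option maxRecDepth 1000000 in
theorem vals : octList.all (fun m => decide (invO m ∈ ({8, 4, 2, 0} : Finset ℕ))) = true := by
  decide +kernel

set_option maxRecDepth 1000000 in
theorem arith : ∀ I ∈ ({8, 4, 2, 0} : Finset ℕ).powerset, 8 ∈ I →
    (∑ k ∈ I, nO k) ∣ (∑ k ∈ ({8, 4, 2, 0} : Finset ℕ), nO k) → I = {8} ∨ I = {8, 4, 2, 0} := by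
  decide +kernel

theorem std : IsCoatom (MulAction.stabilizer M24 O₀fin) := by
  have h8 : (O₀fin ∩ O₀fin).card = 8 := by rw [Finset.inter_self]; exact O₀fin_mem.2
  apply CoatomOrbits.isCoatom_stabilizer (G := M24) O₀fin (fun x => (O₀fin ∩ x).card)
    {8, 4, 2, 0} nO
  · intro x hx
    rw [orbit_eq] at hx
    obtain ⟨m, hm, rfl⟩ := exists_mask_of_mem_octads hx
    have := List.all_eq_true.mp vals m hm
    rw [cls_eq]
    exact of_decide_eq_true this
  · intro x hx y hy hxy
    rw [orbit_eq] at hx hy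
    obtain ⟨σ, hσ, h⟩ := octad_orbits_std x y hx hy hxy
    exact ⟨⟨σ, hσ.1⟩, hσ.2, h⟩
  · intro k _
    rw [orbit_eq]
    apply ncard_octads_countP (fun x => (O₀fin ∩ x).card = k) (fun m => invO m == k)
    intro m _
    rw [cls_eq, beq_iff_eq]
  · intro x hx hc
    rw [orbit_eq] at hx
    rw [h8] at hc
    have h1 : O₀fin ∩ x = O₀fin :=
      Finset.eq_of_subset_of_card_le Finset.inter_subset_left (by rw [hc, O₀fin_mem.2])
    have h2 : O₀fin ⊆ x := by rw [← h1]; exact Finset.inter_subset_right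
    exact (Finset.eq_of_subset_of_card_le h2 (by rw [hx.2, O₀fin_mem.2])).symm
  · intro htop
    obtain ⟨m, hm, hne⟩ : ∃ m ∈ octList, sp m ≠ O₀fin := by
      refine ⟨cw 1, (mem_octList_iff _).mpr ⟨1, by norm_num, by decide +kernel, rfl⟩, ?_⟩
      intro h
      have := congrArg (fun s => (O₀fin ∩ s).card) h
      rw [cls_eq, h8] at this
      revert this
      decide +kernel
    obtain ⟨g, hg, h⟩ := octad_trans O₀fin (sp m) O₀fin_mem (sp_mem_octads hm)
    have : (⟨g, hg⟩ : M24) ∈ MulAction.stabilizer M24 O₀fin := by rw [htop]; trivial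
    exact hne (h.symm.trans this)
  · rw [h8]
    exact arith

/-- The stabiliser of an octad is a maximal proper subgroup of the group of the length-24 code. -/
theorem result (o : Finset Cfsg.GolayPt) (ho : o ∈ Cfsg.octads) : IsCoatom (MulAction.stabilizer Cfsg.M24 o) := by
  obtain ⟨g, hg, rfl⟩ := octad_trans O₀fin o O₀fin_mem ho
  exact CoatomOrbits.isCoatom_stabilizer_smul (G := M24) ⟨g, hg⟩ O₀fin std

end Cfsg.Agent.S1565
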