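import Cfsg.Statements.S1566
import Cfsg.Agent.Lib.Helper1.M24Z
import Cfsg.Agent.Lib.Helper1.CoatomOrbits

set_option autoImplicit false
open scoped Pointwise
open Cfsg

namespace Cfsg.Agent.S1566

open Cfsg.Agent.Lib.Helper1 Cfsg.Agent.Lib.Helper1.M24

theorem smul_compl (g : P24) (s : Finset GolayPt) : g • sᶜ = (g • s)ᶜ := by
  ext p
  rw [mem_smul_iff', Finset.mem_compl, Finset.mem_compl, mem_smul_iff']

theorem compl_mem {d : Finset GolayPt} (hd : d ∈ dodecads) : dᶜ ∈ dodecads := by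
  refine ⟨gC_compl hd.1, ?_⟩
  rw [Finset.card_compl, hd.2]
  rfl

theorem card_inter_compl (a d : Finset GolayPt) :
    (a ∩ dᶜ).card + (a ∩ d).card = a.card := by
  have : a ∩ dᶜ = a \ d := by
    ext p; simp [Finset.mem_sdiff]
  rw [this, Finset.card_sdiff_add_card_inter]

/-- the pair of a dodecad and its complement -/
def pr (d : Finset GolayPt) : Finset (Finset GolayPt) := {d, dᶜ}

theorem smul_pr (g : M24) (d : Finset GolayPt) : g • pr d = pr (g • d) := by
  unfold pr
  rw [Finset.smul_finset_insert, Finset.smul_finset_singleton]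
  congr 2
  exact smul_compl g.1 d

theorem mk_smul (g : P24) (hg : g ∈ M24) (s : Finset GolayPt) : (⟨g, hg⟩ : M24) • s = g • s := rfl

theorem pr_compl (d : Finset GolayPt) : pr dᶜ = pr d := by
  unfold pr
  rw [compl_compl, Finset.pair_comm]

/-- the class function -/
def cls (x : Finset (Finset GolayPt)) : ℕ := ∑ s ∈ x, (d₀fin ∩ s).card ^ 2

theorem ne_compl (d : Finset GolayPt) : d ≠ dᶜ := by
  intro h
  have h1 : gUnidx 0 ∈ d ↔ gUnidx 0 ∈ dᶜ := by rw [← h]
  rw [Finset.mem_compl] at h1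
  tauto

theorem cls_pr (d : Finset GolayPt) :
    cls (pr d) = (d₀fin ∩ d).card ^ 2 + (12 - (d₀fin ∩ d).card) ^ 2 := by
  unfold cls pr
  rw [Finset.sum_pair (ne_compl d)]
  have := card_inter_compl d₀fin d
  rw [d₀fin_mem.2] at this
  have e : (d₀fin ∩ dᶜ).card = 12 - (d₀fin ∩ d).card := by omega
  rw [e]

/-- the invariant on masks -/
def ci (m : ℕ) : ℕ := popcN 24 (28637 &&& m) ^ 2 + (12 - popcN 24 (28637 &&& m)) ^ 2

theorem cls_pr_sp (m : ℕ) : cls (pr (sp m)) = ci m := by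
  rw [cls_pr, card_d₀fin_inter]
  rfl

/-- sizes of the suborbits -/
def nD (k : ℕ) : ℕ := dodList.countP (fun m => m.testBit 23 && ci m == k)

theorem orbit_eq : MulAction.orbit M24 (pr d₀fin) = {x | ∃ d ∈ dodecads, x = pr d} := by
  ext x
  rw [MulAction.mem_orbit_iff]
  constructor
  · rintro ⟨g, rfl⟩
    exact ⟨g • d₀fin, smul_mem_dodecads g.2 d₀fin_mem, smul_pr g d₀fin⟩
  · rintro ⟨d, hd, rfl⟩
    obtain ⟨g, hg, h⟩ := dodecad_trans d₀fin d d₀fin_mem hd
    refine ⟨⟨g, hg⟩, ?_⟩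
    rw [smul_pr, mk_smul, h]

theorem pr_inj {d e : Finset GolayPt} (p : GolayPt) (hd : p ∈ d) (he : p ∈ e)
    (h : pr d = pr e) : d = e := by
  have h1 : d ∈ pr e := by rw [← h]; unfold pr; simp
  unfold pr at h1
  rw [Finset.mem_insert, Finset.mem_singleton] at h1
  rcases h1 with h1 | h1
  · exact h1
  · exfalso
    rw [h1, Finset.mem_compl] at hd
    exact hd he

theorem count_cls (k : ℕ) :
    {x | x ∈ MulAction.orbit M24 (pr d₀fin) ∧ cls x = k}.ncard = nD k := by
  have e : {x | x ∈ MulAction.orbit M24 (pr d₀fin) ∧ cls x = k} =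
      pr '' {d | d ∈ dodecads ∧ (gUnidx 23 ∈ d ∧ cls (pr d) = k)} := by
    ext x
    rw [orbit_eq]
    simp only [Set.mem_ofPred_eq, Set.mem_image]
    constructor
    · rintro ⟨⟨d, hd, rfl⟩, hk⟩
      by_cases hp : gUnidx 23 ∈ d
      · exact ⟨d, ⟨hd, hp, hk⟩, rfl⟩
      · refine ⟨dᶜ, ⟨compl_mem hd, Finset.mem_compl.mpr hp, ?_⟩, pr_compl d⟩
        rw [pr_compl]; exact hk
    · rintro ⟨d, ⟨hd, _, hk⟩, rfl⟩
      exact ⟨⟨d, hd, rfl⟩, hk⟩
  rw [e, Set.InjOn.ncard_image]
  · apply ncard_dodecads_countP (fun d => gUnidx 23 ∈ d ∧ cls (pr d) = k)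
      (fun m => m.testBit 23 && ci m == k)
    intro m _
    rw [mem_sp, gIdx_gUnidx 23 (by norm_num), cls_pr_sp, Bool.and_eq_true, beq_iff_eq]
  · rintro d ⟨_, hd, _⟩ e ⟨_, he, _⟩ h
    exact pr_inj _ hd he h

set_option maxRecDepth 1000000 in
theorem vals : dodList.all (fun m => decide (ci m ∈ ({144, 80, 72} : Finset ℕ))) = true := by
  decide +kernel

set_option maxRecDepth 1000000 in
theorem vals144 : dodList.all (fun m => ci m != 144 || m == 28637 || m == 16748578) = true := by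
  decide +kernel

set_option maxRecDepth 1000000 in
theorem arith : ∀ I ∈ ({144, 80, 72} : Finset ℕ).powerset, 144 ∈ I →
    (∑ k ∈ I, nD k) ∣ (∑ k ∈ ({144, 80, 72} : Finset ℕ), nD k) →
      I = {144} ∨ I = {144, 80, 72} := by
  decide +kernel

theorem ci_eq_iff (a b : ℕ) (ha : a ≤ 12) (hb : b ≤ 12)
    (h : a ^ 2 + (12 - a) ^ 2 = b ^ 2 + (12 - b) ^ 2) : a = b ∨ a = 12 - b := by
  interval_cases a <;> interval_cases b <;> simp_all

theorem compl_mask : sp 16748578 = d₀finᶜ := by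
  ext p
  rw [Finset.mem_compl, d₀fin_eq, mem_sp, mem_sp]
  revert p
  decide +kernel

theorem std : IsCoatom (MulAction.stabilizer M24 (pr d₀fin)) := by
  have h144 : cls (pr d₀fin) = 144 := by
    rw [cls_pr, Finset.inter_self, d₀fin_mem.2]
    rfl
  apply CoatomOrbits.isCoatom_stabilizer (G := M24) (pr d₀fin) cls {144, 80, 72} nD
  · intro x hx
    rw [orbit_eq] at hx
    obtain ⟨d, hd, rfl⟩ := hx
    obtain ⟨m, hm, rfl⟩ := exists_mask_of_mem_dodecads hd
    rw [cls_pr_sp]
    exact of_decide_eq_true (List.all_eq_true.mp vals m hm)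
  · intro x hx y hy hxy
    rw [orbit_eq] at hx hy
    obtain ⟨d, hd, rfl⟩ := hx
    obtain ⟨e, he, rfl⟩ := hy
    rw [cls_pr, cls_pr] at hxy
    have hle : ∀ s : Finset GolayPt, (d₀fin ∩ s).card ≤ 12 := by
      intro s
      rw [← d₀fin_mem.2]
      exact Finset.card_le_card Finset.inter_subset_left
    have key : ∀ e' : Finset GolayPt, e' ∈ dodecads → (d₀fin ∩ d).card = (d₀fin ∩ e').card →
        pr e' = pr e → ∃ h ∈ MulAction.stabilizer M24 (pr d₀fin), h • pr d = pr e := by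
      intro e' he' hc hpr
      obtain ⟨g, hg, h1, h2⟩ := dodecad_orbits d₀fin d e' d₀fin_mem hd he' hc
      refine ⟨⟨g, hg⟩, ?_, ?_⟩
      · rw [MulAction.mem_stabilizer_iff, smul_pr, mk_smul, h1]
      · rw [smul_pr, ← hpr, mk_smul, h2]
    rcases ci_eq_iff _ _ (hle d) (hle e) hxy with h | h
    · exact key e he h rfl
    · refine key eᶜ (compl_mem he) ?_ (pr_compl e)
      have := card_inter_compl d₀fin e
      rw [d₀fin_mem.2] at this
      omega
  · intro k _
    exact count_cls k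
  · intro x hx hc
    rw [orbit_eq] at hx
    obtain ⟨d, hd, rfl⟩ := hx
    obtain ⟨m, hm, rfl⟩ := exists_mask_of_mem_dodecads hd
    rw [h144, cls_pr_sp] at hc
    have := List.all_eq_true.mp vals144 m hm
    simp only [Bool.or_eq_true, bne_iff_ne, ne_eq, beq_iff_eq] at this
    rcases this with (h | h) | h
    · exact absurd hc h
    · rw [h, ← d₀fin_eq]
    · rw [h, compl_mask, pr_compl]
  · intro htop
    obtain ⟨g, hg, h⟩ := dodecad_trans d₀fin (sp 57274) d₀fin_mem
      (sp_mem_dodecads (by decide +kernel))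
    have : (⟨g, hg⟩ : M24) ∈ MulAction.stabilizer M24 (pr d₀fin) := by rw [htop]; trivial
    rw [MulAction.mem_stabilizer_iff, smul_pr] at this
    have h2 : cls (pr (sp 57274)) = 144 := by
      rw [← h144, ← this, mk_smul, h]
    rw [cls_pr_sp] at h2
    revert h2
    decide +kernel
  · rw [h144]
    exact arith

/-- The setwise stabiliser of a dodecad together with its complement is a maximal proper subgroup of the group of the length-24 code. -/
theorem result (d : Finset Cfsg.GolayPt) (hd : d ∈ Cfsg.dodecads) : IsCoatom (MulAction.stabilizer Cfsg.M24 ({d, dᶜ} : Finset (Finset Cfsg.GolayPt))) := by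
  obtain ⟨g, hg, rfl⟩ := dodecad_trans d₀fin d d₀fin_mem hd
  have := CoatomOrbits.isCoatom_stabilizer_smul (G := M24) ⟨g, hg⟩ (pr d₀fin) std
  rw [smul_pr, mk_smul] at this
  exact this

end Cfsg.Agent.S1566
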