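import Cfsg.Statements.S1568
import Cfsg.Agent.Lib.Helper1.LeechGF5

set_option autoImplicit false
open Cfsg

namespace Cfsg.Agent.S1568

open Cfsg.Agent.Lib.Helper1 Cfsg.Agent.Lib.Helper1.LeechGF

theorem set1 : {x : Cfsg.GolayPt → ℤ | x ∈ Cfsg.leechLattice ∧ Cfsg.sqNorm x = 48 ∧
      ∀ i, x i = 0 ∨ x i = 2 ∨ x i = -2} =
    {x : GolayPt → ℤ | x ∈ leechLattice ∧ sqNorm x = (48 : ℕ) ∧ ∀ i, x i ∈ evL} := by
  ext x
  simp only [Set.mem_ofPred_eq, evL, List.mem_cons, List.not_mem_nil, or_false, Nat.cast_ofNat]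

theorem set3 : {x : Cfsg.GolayPt → ℤ | x ∈ Cfsg.leechLattice ∧ Cfsg.sqNorm x = 48 ∧
      ∃ i, |x i| = 4} =
    {x : GolayPt → ℤ | x ∈ leechLattice ∧ sqNorm x = (48 : ℕ) ∧ ∃ i, x i ∉ no4L} := by
  ext x
  simp only [Set.mem_ofPred_eq, Nat.cast_ofNat]
  constructor
  · rintro ⟨h1, h2, i, h3⟩
    refine ⟨h1, h2, i, ?_⟩
    simp only [no4L, List.mem_cons, List.not_mem_nil, or_false]
    rcases abs_cases (x i) with h | h <;> omega
  · rintro ⟨h1, h2, i, h3⟩
    refine ⟨h1, h2, i, ?_⟩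
    have hb := coord_bound (N := 48) (by simpa using h2) (by norm_num) i
    simp only [no4L, List.mem_cons, List.not_mem_nil, or_false] at h3
    rcases abs_cases (x i) with h | h <;> omega

theorem set4 : {x : Cfsg.GolayPt → ℤ | x ∈ Cfsg.leechLattice ∧ Cfsg.sqNorm x = 48 ∧
      ∃ i, |x i| = 5} =
    {x : GolayPt → ℤ | x ∈ leechLattice ∧ sqNorm x = (48 : ℕ) ∧ ∃ i, x i ∉ no5L} := by
  ext x
  simp only [Set.mem_ofPred_eq, Nat.cast_ofNat]
  constructor
  · rintro ⟨h1, h2, i, h3⟩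
    refine ⟨h1, h2, i, ?_⟩
    simp only [no5L, List.mem_cons, List.not_mem_nil, or_false]
    rcases abs_cases (x i) with h | h <;> omega
  · rintro ⟨h1, h2, i, h3⟩
    refine ⟨h1, h2, i, ?_⟩
    have hb := coord_bound (N := 48) (by simpa using h2) (by norm_num) i
    simp only [no5L, List.mem_cons, List.not_mem_nil, or_false] at h3
    rcases abs_cases (x i) with h | h <;> omega

theorem mem_oddL (v : ℤ) : v ∈ oddL ↔ (v = 1 ∨ v = -1 ∨ v = 3 ∨ v = -3) := by
  simp only [oddL, List.mem_cons, List.not_mem_nil, or_false]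

theorem set2 : {x : Cfsg.GolayPt → ℤ | x ∈ Cfsg.leechLattice ∧ Cfsg.sqNorm x = 48 ∧
      ∃ i j k, i ≠ j ∧ j ≠ k ∧ i ≠ k ∧ |x i| = 3 ∧ |x j| = 3 ∧ |x k| = 3} =
    {x : GolayPt → ℤ | x ∈ leechLattice ∧ sqNorm x = (48 : ℕ) ∧ ∀ i, x i ∈ oddL} := by
  ext x
  simp only [Set.mem_ofPred_eq, Nat.cast_ofNat]
  constructor
  · rintro ⟨h1, h2, i, j, k, hij, hjk, hik, hi, hj, hk⟩
    refine ⟨h1, h2, ?_⟩
    -- all coordinates are odd
    obtain ⟨m, hm1, _, _⟩ := (mem_leechLattice_iff x).mp h1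
    simp only [Int.ModEq] at hm1
    have hodd : ∀ l, x l % 2 = 1 := by
      intro l
      have a1 := hm1 l
      have a2 := hm1 i
      rcases abs_cases (x i) with h | h <;> omega
    have hge : ∀ l, 1 ≤ x l ^ 2 := by
      intro l
      have := hodd l
      have h0 : x l ≠ 0 := by intro e; rw [e] at this; omega
      have : 0 < x l ^ 2 := by positivity
      omega
    -- split the sum
    have hs : ({i, j, k} : Finset GolayPt).card = 3 := Finset.card_eq_three.mpr ⟨i, j, k, hij, hik, hjk, rfl⟩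
    have hsq : ∀ l, |x l| = 3 → x l ^ 2 = 9 := by
      intro l hl
      rw [← sq_abs, hl]; norm_num
    have hsum1 : ∑ l ∈ ({i, j, k} : Finset GolayPt), x l ^ 2 = 27 := by
      rw [Finset.sum_insert (by simp [hij, hik]), Finset.sum_insert (by simp [hjk]),
        Finset.sum_singleton, hsq i hi, hsq j hj, hsq k hk]
      norm_num
    have hsplit := Finset.sum_add_sum_compl ({i, j, k} : Finset GolayPt) (fun l => x l ^ 2)
    have htot : ∑ l, x l ^ 2 = 48 := h2
    rw [htot, hsum1] at hsplit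
    have hcc : (({i, j, k} : Finset GolayPt)ᶜ).card = 21 := by
      rw [Finset.card_compl, hs, card_golayPt]
    have hsum2 : ∑ l ∈ ({i, j, k} : Finset GolayPt)ᶜ, x l ^ 2 =
        ∑ _l ∈ ({i, j, k} : Finset GolayPt)ᶜ, (1 : ℤ) := by
      rw [Finset.sum_const, hcc]
      simp only [nsmul_eq_mul, Nat.cast_ofNat, mul_one]
      omega
    have hall := (Finset.sum_eq_sum_iff_of_le (fun l _ => hge l)).mp hsum2.symm
    intro l
    rw [mem_oddL]
    by_cases hl : l ∈ ({i, j, k} : Finset GolayPt)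
    · simp only [Finset.mem_insert, Finset.mem_singleton] at hl
      rcases hl with rfl | rfl | rfl
      · rcases abs_cases (x l) with h | h <;> omega
      · rcases abs_cases (x l) with h | h <;> omega
      · rcases abs_cases (x l) with h | h <;> omega
    · have h1' := hall l (Finset.mem_compl.mpr hl)
      have : (x l - 1) * (x l + 1) = 0 := by nlinarith
      rcases mul_eq_zero.mp this with h | h
      · left; omega
      · right; left; omega
  · rintro ⟨h1, h2, h3⟩
    refine ⟨h1, h2, ?_⟩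
    -- count the coordinates of absolute value 3
    have hval : ∀ l, x l ^ 2 = 1 + if |x l| = 3 then 8 else 0 := by
      intro l
      have := (mem_oddL _).mp (h3 l)
      rcases this with h | h | h | h <;> rw [h] <;> norm_num
    have htot : ∑ l, x l ^ 2 = 48 := h2
    simp only [hval] at htot
    rw [Finset.sum_add_distrib, Finset.sum_const, Finset.card_univ, card_golayPt,
      ← Finset.sum_filter, Finset.sum_const] at htot
    simp only [nsmul_eq_mul, Nat.cast_ofNat, mul_one] at htot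
    have hc : (Finset.univ.filter (fun l => |x l| = 3)).card = 3 := by
      have : ((Finset.univ.filter (fun l => |x l| = 3)).card : ℤ) * 8 = 24 := by linarith
      omega
    obtain ⟨i, j, k, hij, hik, hjk, he⟩ := Finset.card_eq_three.mp hc
    have hmem : ∀ l, l ∈ ({i, j, k} : Finset GolayPt) → |x l| = 3 := by
      intro l hl
      rw [← he] at hl
      exact (Finset.mem_filter.mp hl).2
    exact ⟨i, j, k, hij, hjk, hik, hmem i (by simp), hmem j (by simp), hmem k (by simp)⟩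

/-- Shape census of the lattice vectors of sum of squares 48 (customary norm 6): the four families (2^12, 0^12), (±3^3, ±1^21), (±4, ±2^8, 0^15) and (±5, ±1^23) have 5275648, 8290304, 3108864 and 98304 members. -/
theorem result : {x : Cfsg.GolayPt → ℤ | x ∈ Cfsg.leechLattice ∧ Cfsg.sqNorm x = 48 ∧ ∀ i, x i = 0 ∨ x i = 2 ∨ x i = -2}.ncard = 5275648 ∧ {x : Cfsg.GolayPt → ℤ | x ∈ Cfsg.leechLattice ∧ Cfsg.sqNorm x = 48 ∧ ∃ i j k, i ≠ j ∧ j ≠ k ∧ i ≠ k ∧ |x i| = 3 ∧ |x j| = 3 ∧ |x k| = 3}.ncard = 8290304 ∧ {x : Cfsg.GolayPt → ℤ | x ∈ Cfsg.leechLattice ∧ Cfsg.sqNorm x = 48 ∧ ∃ i, |x i| = 4}.ncard = 3108864 ∧ {x : Cfsg.GolayPt → ℤ | x ∈ Cfsg.leechLattice ∧ Cfsg.sqNorm x = 48 ∧ ∃ i, |x i| = 5}.ncard = 98304 := by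
  refine ⟨?_, ?_, ?_, ?_⟩
  · rw [set1, ncard_SN_list, card_ev]
  · rw [set2, ncard_SN_list, card_odd]
  · rw [set3, ncard_exists fullL no4L (by decide) 48 (by norm_num)
      (fun v hv => (mem_fullL v).mpr hv), card_full48, card_no4]
  · rw [set4, ncard_exists fullL no5L (by decide) 48 (by norm_num)
      (fun v hv => (mem_fullL v).mpr hv), card_full48, card_no5]

end Cfsg.Agent.S1568
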