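import Cfsg.Statements.S1569
import Cfsg.Agent.Lib.Helper1.LeechCross4

set_option autoImplicit false
open scoped Pointwise
open Cfsg

namespace Cfsg.Agent.S1569

open Cfsg.Agent.Lib.Helper1.LeechCross Cfsg.Agent.Lib.Helper1.LeechIndex

theorem two_smul_eq (z : Cfsg.GolayPt → ℤ) : (2 • z : Cfsg.GolayPt → ℤ) = dbl z := by
  ext i
  rw [dbl_apply]
  simp

set_option maxRecDepth 100000 in
set_option linter.constructorNameAsVariable false in
/-- The cross through a lattice vector of customary norm 8 has exactly 48 members. -/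
theorem result (x : Cfsg.GolayPt → ℤ) (hx : x ∈ Cfsg.leechLattice) (hxn : Cfsg.sqNorm x = 64) : (Cfsg.cross x).ncard = 48 := by
  classical
  obtain ⟨hcard, hall⟩ := class_card hx hxn
  have hset : Cfsg.cross x = ((SS.filter (fun y => cl y = cl x) : Finset (GolayPt → ℤ)) :
      Set (GolayPt → ℤ)) := by
    ext y
    rw [Finset.mem_coe, Finset.mem_filter, mem_SS]
    show (y ∈ leechLattice ∧ sqNorm y = sqNorm x ∧ ∃ z ∈ leechLattice, x - y = 2 • z) ↔ _
    constructor
    · rintro ⟨h1, h2, z, hz, hzd⟩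
      refine ⟨⟨h1, by rw [h2, hxn]⟩, ?_⟩
      rw [eq_comm, cl_eq_iff, mem_twoL]
      exact ⟨z, hz, by rw [hzd, two_smul_eq]⟩
    · rintro ⟨⟨h1, h2⟩, h3⟩
      have hy : y ∈ SS.filter (fun y => cl y = cl x) := by
        rw [Finset.mem_filter, mem_SS]
        exact ⟨⟨h1, h2⟩, h3⟩
      refine ⟨h1, by rw [hall y hy, hxn], ?_⟩
      rw [eq_comm, cl_eq_iff, mem_twoL] at h3
      obtain ⟨z, hz, hzd⟩ := h3
      exact ⟨z, hz, by rw [two_smul_eq, hzd]⟩
  rw [hset, Set.ncard_coe_finset, hcard]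

end Cfsg.Agent.S1569
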