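import Cfsg.Statements.S1578
import Cfsg.Agent.Lib.Helper1.EnC1
import Cfsg.Agent.Lib.Helper1.LeechEnum10

set_option autoImplicit false
open Cfsg

namespace Cfsg.Agent.S1578

open Cfsg.Agent.Lib.Helper1 Cfsg.Agent.Lib.Helper1.LeechEnum Cfsg.Agent.Lib.Helper1.LeechConn
  Cfsg.Agent.Lib.Helper1.LeechAut

/-- A lattice vector of customary norm 6 is the sum of an unordered pair of minimal vectors in exactly 276 ways (552 ordered summands). -/
theorem result (u : ↥Cfsg.leechLattice) (hu : Cfsg.sqNorm (u : Cfsg.GolayPt → ℤ) = 48) : {v : ↥Cfsg.leechLattice | Cfsg.sqNorm (v : Cfsg.GolayPt → ℤ) = 32 ∧ Cfsg.sqNorm ((u - v) : Cfsg.GolayPt → ℤ) = 32}.ncard = 552 := by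
  obtain ⟨h, hh⟩ := trans48 u ⟨d₀, d0_mem⟩ hu d0_norm
  have hh' : ((h • u : leechLattice) : GolayPt → ℤ) = d₀ := congrArg Subtype.val hh
  -- transport to the standard vector
  have e1 : {v : ↥Cfsg.leechLattice | Cfsg.sqNorm (v : Cfsg.GolayPt → ℤ) = 32 ∧
      Cfsg.sqNorm ((u - v) : Cfsg.GolayPt → ℤ) = 32} =
      {v : leechLattice | (fun w : leechLattice => sqNorm (w : GolayPt → ℤ) = 32 ∧
        dotInt d₀ (w : GolayPt → ℤ) = 24) (h • v)} := by
    ext v
    simp only [Set.mem_ofPred_eq]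
    have h1 : sqNorm ((h • v : leechLattice) : GolayPt → ℤ) = sqNorm (v : GolayPt → ℤ) := smul_norm h v
    have h2 : dotInt d₀ ((h • v : leechLattice) : GolayPt → ℤ) = dotInt (u : GolayPt → ℤ) v := by
      rw [← hh', smul_dot]
    have h3 := dot_of_norms (u : GolayPt → ℤ) v
    rw [h1, h2, h3, hu]
    constructor
    · rintro ⟨a, b⟩; rw [a] at b; exact ⟨a, by omega⟩
    · rintro ⟨a, b⟩; rw [a, b]; exact ⟨rfl, by norm_num⟩
  rw [e1, ncard_smul h (fun w : leechLattice => sqNorm (w : GolayPt → ℤ) = 32 ∧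
        dotInt d₀ (w : GolayPt → ℤ) = 24), ncard_subtype (fun z => sqNorm z = 32 ∧ dotInt d₀ z = 24)]
  have e2 : {z : GolayPt → ℤ | z ∈ leechLattice ∧ (sqNorm z = 32 ∧ dotInt d₀ z = 24)} =
      {z : GolayPt → ℤ | z ∈ leechLattice ∧ sqNorm z = 32 ∧ dotInt d₀ z = 24} := rfl
  rw [e2]
  apply EnC1.census (fun z => dotInt d₀ z = 24)
  intro v hv hg
  have h2 := dot_d0 v
  rw [sum_flds hv hg] at h2
  show Nat.beq (v % 65535 + 4 * fld 23 v) 7192 = true ↔ _
  rw [nbeq_iff, h2]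
  omega

end Cfsg.Agent.S1578
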