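import Cfsg.Statements.S1581
import Cfsg.Agent.S1580
import Cfsg.Agent.Lib.Helper1.EnP8aAll
import Cfsg.Agent.Lib.Helper1.EnC8a
import Cfsg.Agent.Lib.Helper1.EnP8bAll
import Cfsg.Agent.Lib.Helper1.EnC8b
import Cfsg.Agent.Lib.Helper1.LeechEnum13

set_option autoImplicit false
open Cfsg

namespace Cfsg.Agent.S1581

open Cfsg.Agent.Lib.Helper1 Cfsg.Agent.Lib.Helper1.LeechEnum Cfsg.Agent.Lib.Helper1.LeechConn
  Cfsg.Agent.Lib.Helper1.LeechAut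

theorem hYa : ∀ y ∈ EnP8a.prob.Y, Good y := by
  intro y hy
  have h : y ∈ [pD0, pU, pX1] := hy
  have : y = pD0 ∨ y = pU ∨ y = pX1 := by simpa using h
  rcases this with rfl | rfl | rfl
  · exact good_pD0
  · exact good_pU
  · exact good_pX1

theorem hYb : ∀ y ∈ EnP8b.prob.Y, Good y := hYa

theorem cond_iff_a (v : ℕ) (hv : v < 65536 ^ 24) (hg : Good v) :
    EnP8a.prob.cond v = true ↔
      (dotInt d₀ (vec v) = 24 ∧ dotInt Cfsg.Spor.vecU (vec v) = 16 ∧ dotInt vecX1 (vec v) = 8) := by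
  have h2 := dot_d0 v
  rw [sum_flds hv hg] at h2
  have h3 := dot_vecU v
  have h4 := dot_vecX1 v
  show ((Nat.beq (v % 65535 + 4 * fld 23 v) 7192 && Nat.beq (fld 23 v + fld 0 v) 516) &&
    Nat.beq (fld 23 v + fld 1 v) 514) = true ↔ _
  rw [Bool.and_eq_true, Bool.and_eq_true, nbeq_iff, nbeq_iff, nbeq_iff, h2, h3, h4]
  omega

theorem cond_iff_b (v : ℕ) (hv : v < 65536 ^ 24) (hg : Good v) :
    EnP8b.prob.cond v = true ↔
      (dotInt d₀ (vec v) = 24 ∧ dotInt Cfsg.Spor.vecU (vec v) = 16 ∧ dotInt vecX1 (vec v) = 16) := by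
  have h2 := dot_d0 v
  rw [sum_flds hv hg] at h2
  have h3 := dot_vecU v
  have h4 := dot_vecX1 v
  show ((Nat.beq (v % 65535 + 4 * fld 23 v) 7192 && Nat.beq (fld 23 v + fld 0 v) 516) &&
    Nat.beq (fld 23 v + fld 1 v) 516) = true ↔ _
  rw [Bool.and_eq_true, Bool.and_eq_true, nbeq_iff, nbeq_iff, nbeq_iff, h2, h3, h4]
  omega

theorem reach_a (z : GolayPt → ℤ) (hz : z ∈ leechLattice)
    (hc : sqNorm z = 32 ∧ dotInt d₀ z = 24 ∧ dotInt Cfsg.Spor.vecU z = 16 ∧ dotInt vecX1 z = 8) :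
    ReachG [d₀, Cfsg.Spor.vecU, vecX1] z (vec EnP8a.prob.z0) := by
  have h := (reach_of_checks hYa EnP8a.gens_ok ⟨_, EnP8a.chkA_ok⟩ EnP8a.all_ok hz hc.1
    (fun v hv hvz => (cond_iff_a v hv (good_of hvz hz (by rw [hc.1]; norm_num))).2
      (by rw [hvz]; exact hc.2))).toG
  have e1 : EnP8a.prob.Y.map vec = [d₀, Cfsg.Spor.vecU, vecX1] := by
    show [vec pD0, vec pU, vec pX1] = _
    rw [vec_pD0, vec_pU, vec_pX1]
  rwa [e1] at h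

theorem reach_b (z : GolayPt → ℤ) (hz : z ∈ leechLattice)
    (hc : sqNorm z = 32 ∧ dotInt d₀ z = 24 ∧ dotInt Cfsg.Spor.vecU z = 16 ∧ dotInt vecX1 z = 16) :
    ReachG [d₀, Cfsg.Spor.vecU, vecX1] z (vec EnP8b.prob.z0) := by
  have h := (reach_of_checks hYb EnP8b.gens_ok ⟨_, EnP8b.chkA_ok⟩ EnP8b.all_ok hz hc.1
    (fun v hv hvz => (cond_iff_b v hv (good_of hvz hz (by rw [hc.1]; norm_num))).2
      (by rw [hvz]; exact hc.2))).toG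
  have e1 : EnP8b.prob.Y.map vec = [d₀, Cfsg.Spor.vecU, vecX1] := by
    show [vec pD0, vec pU, vec pX1] = _
    rw [vec_pD0, vec_pU, vec_pX1]
  rwa [e1] at h

theorem d0_sub_vecX1_norm : sqNorm (d₀ - vecX1) = 32 := by decide +kernel

theorem vecU_dot_vecX1 : dotInt Cfsg.Spor.vecU vecX1 = 16 := by decide +kernel

/-- a norm 48 vector, one of its 552 summands and one of the 275 can be moved to standard
position -/
theorem std_triple (u v x : leechLattice) (hu : sqNorm (u : GolayPt → ℤ) = 48)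
    (hv : sqNorm (v : GolayPt → ℤ) = 32 ∧ sqNorm ((u - v) : GolayPt → ℤ) = 32)
    (hx : sqNorm (x : GolayPt → ℤ) = 32 ∧ sqNorm ((u - x) : GolayPt → ℤ) = 32 ∧
      dotInt (v : GolayPt → ℤ) (x : GolayPt → ℤ) = 16) :
    ∃ h : Co0, ((h • u : leechLattice) : GolayPt → ℤ) = d₀ ∧
      ((h • v : leechLattice) : GolayPt → ℤ) = Cfsg.Spor.vecU ∧
      ((h • x : leechLattice) : GolayPt → ℤ) = vecX1 := by
  obtain ⟨h1, a1, a2⟩ := std_pair_A u v hu hv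
  have n0 : sqNorm ((h1 • u : leechLattice) : GolayPt → ℤ) = 48 := by rw [smul_norm, hu]
  have n1 : sqNorm ((h1 • v : leechLattice) : GolayPt → ℤ) = 32 := by rw [smul_norm, hv.1]
  have n2 : sqNorm (((h1 • u : leechLattice) : GolayPt → ℤ) -
      ((h1 • v : leechLattice) : GolayPt → ℤ)) = 32 := by
    rw [← coe_sub', ← LeechEnum.smul_sub, smul_norm]
    exact hv.2
  have n3 : sqNorm ((h1 • x : leechLattice) : GolayPt → ℤ) = 32 := by rw [smul_norm, hx.1]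
  have n4 : sqNorm (((h1 • u : leechLattice) : GolayPt → ℤ) -
      ((h1 • x : leechLattice) : GolayPt → ℤ)) = 32 := by
    rw [← coe_sub', ← LeechEnum.smul_sub, smul_norm]
    exact hx.2.1
  have n5 : dotInt ((h1 • v : leechLattice) : GolayPt → ℤ)
      ((h1 • x : leechLattice) : GolayPt → ℤ) = 16 := by
    rw [smul_dot]; exact hx.2.2
  obtain ⟨g, hg1, hg2, hg3⟩ := (Cfsg.Agent.S1580.result (h1 • u) (h1 • v) n0 ⟨n1, n2⟩).2
    (h1 • x) ⟨n3, n4, n5⟩ ⟨vecX1, vecX1_mem⟩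
    ⟨vecX1_norm, by rw [a1]; exact d0_sub_vecX1_norm, by rw [a2]; exact vecU_dot_vecX1⟩
  refine ⟨g * h1, ?_, ?_, ?_⟩
  · rw [mul_smul, hg1, a1]
  · rw [mul_smul, hg2, a2]
  · rw [mul_smul, hg3]

/-- The McLaughlin group acts with rank 3 and subdegrees 1, 112, 162 on its 275 points: the point stabiliser has two orbits on the remaining points, distinguished by customary inner product 1 or 2 with the fixed point. -/
theorem result (u v x : ↥Cfsg.leechLattice) (hu : Cfsg.sqNorm (u : Cfsg.GolayPt → ℤ) = 48) (hv : Cfsg.sqNorm (v : Cfsg.GolayPt → ℤ) = 32 ∧ Cfsg.sqNorm ((u - v) : Cfsg.GolayPt → ℤ) = 32) (hx : x ∈ {x : ↥Cfsg.leechLattice | Cfsg.sqNorm (x : Cfsg.GolayPt → ℤ) = 32 ∧ Cfsg.sqNorm ((u - x) : Cfsg.GolayPt → ℤ) = 32 ∧ Cfsg.dotInt (v : Cfsg.GolayPt → ℤ) (x : Cfsg.GolayPt → ℤ) = 16}) : {y : ↥Cfsg.leechLattice | y ∈ {x : ↥Cfsg.leechLattice | Cfsg.sqNorm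 (x : Cfsg.GolayPt → ℤ) = 32 ∧ Cfsg.sqNorm ((u - x) : Cfsg.GolayPt → ℤ) = 32 ∧ Cfsg.dotInt (v : Cfsg.GolayPt → ℤ) (x : Cfsg.GolayPt → ℤ) = 16} ∧ Cfsg.dotInt (x : Cfsg.GolayPt → ℤ) (y : Cfsg.GolayPt → ℤ) = 8}.ncard = 112 ∧ {y : ↥Cfsg.leechLattice | y ∈ {x : ↥Cfsg.leechLattice | Cfsg.sqNorm (x : Cfsg.GolayPt → ℤ) = 32 ∧ Cfsg.sqNorm ((u - x) : Cfsg.GolayPt → ℤ) = 32 ∧ Cfsg.dotInt (v : Cfsg.GolayPt → ℤ) (x : Cfsg.GolayPt → ℤ) = 16} ∧ y ≠ x ∧ Cfsg.dotInt (x : Cfsg.GolayPt → ℤ) (y : Cfsg.GolayPt → ℤ) = 16}.ncard = 162 ∧ ∀ y ∈ {x : ↥Cfsg.leechLattice | Cfsg.sqNorm (x : Cfsg.GolayPt → ℤ) = 32 ∧ Cfsg.sqNorm ((u - x) : Cfsg.GolayPt → ℤ) = 32 ∧ Cfsg.dotInt (v : Cfsg.GolayPt → ℤ) (x : Cfsg.GolayPt → ℤ) = 16}, ∀ y' ∈ {x : ↥Cfsg.leechLattice | Cfsg.sqNorm (x : Cfsg.GolayPt → ℤ) = 32 ∧ Cfsg.sqNorm ((u - x) : Cfsg.GolayPt → ℤ) = 32 ∧ Cfsg.dotInt (v : Cfsg.GolayPt → ℤ)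 (x : Cfsg.GolayPt → ℤ) = 16}, y ≠ x → y' ≠ x → Cfsg.dotInt (x : Cfsg.GolayPt → ℤ) (y : Cfsg.GolayPt → ℤ) = Cfsg.dotInt (x : Cfsg.GolayPt → ℤ) (y' : Cfsg.GolayPt → ℤ) → ∃ g : ↥Cfsg.Co0, g • u = u ∧ g • v = v ∧ g • x = x ∧ g • y = y' := by
  obtain ⟨h, hh1, hh2, hh3⟩ := std_triple u v x hu hv hx
  have keyA : ∀ y : leechLattice,
      (sqNorm (y : GolayPt → ℤ) = 32 ∧ sqNorm ((u - y) : GolayPt → ℤ) = 32 ∧
        dotInt (v : GolayPt → ℤ) (y : GolayPt → ℤ) = 16) ↔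
      (sqNorm ((h • y : leechLattice) : GolayPt → ℤ) = 32 ∧
        dotInt d₀ ((h • y : leechLattice) : GolayPt → ℤ) = 24 ∧
        dotInt Cfsg.Spor.vecU ((h • y : leechLattice) : GolayPt → ℤ) = 16) := by
    intro y
    have h3 := dot_of_norms (u : GolayPt → ℤ) y
    rw [smul_norm h y, ← hh1, ← hh2, smul_dot, smul_dot, h3, hu]
    constructor
    · rintro ⟨a, b, c⟩; rw [a] at b; exact ⟨a, by omega, c⟩
    · rintro ⟨a, b, c⟩; rw [a, b]; exact ⟨rfl, by norm_num, c⟩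
  have keyX : ∀ y : leechLattice, dotInt (x : GolayPt → ℤ) (y : GolayPt → ℤ) =
      dotInt vecX1 ((h • y : leechLattice) : GolayPt → ℤ) := by
    intro y; rw [← hh3, smul_dot]
  have hxx : dotInt (x : GolayPt → ℤ) (x : GolayPt → ℤ) = 32 := by
    rw [dot_self']; exact hx.1
  have hA := (Cfsg.Agent.S1580.result u v hu hv).1
  have c8 : {y : ↥Cfsg.leechLattice | y ∈ {x : ↥Cfsg.leechLattice |
      Cfsg.sqNorm (x : Cfsg.GolayPt → ℤ) = 32 ∧ Cfsg.sqNorm ((u - x) : Cfsg.GolayPt → ℤ) = 32 ∧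
      Cfsg.dotInt (v : Cfsg.GolayPt → ℤ) (x : Cfsg.GolayPt → ℤ) = 16} ∧
      Cfsg.dotInt (x : Cfsg.GolayPt → ℤ) (y : Cfsg.GolayPt → ℤ) = 8}.ncard = 112 := by
    refine count_via h _ (fun z => dotInt d₀ z = 24 ∧ dotInt Cfsg.Spor.vecU z = 16 ∧
      dotInt vecX1 z = 8) 112 (fun y => ?_) (EnC8a.census _ cond_iff_a)
    show (_ ∧ _) ↔ _
    rw [keyX y]
    constructor
    · rintro ⟨a, b⟩
      obtain ⟨a1, a2, a3⟩ := (keyA y).1 a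
      exact ⟨a1, a2, a3, b⟩
    · rintro ⟨a1, a2, a3, b⟩
      exact ⟨(keyA y).2 ⟨a1, a2, a3⟩, b⟩
  have c16 : {y : ↥Cfsg.leechLattice | y ∈ {x : ↥Cfsg.leechLattice |
      Cfsg.sqNorm (x : Cfsg.GolayPt → ℤ) = 32 ∧ Cfsg.sqNorm ((u - x) : Cfsg.GolayPt → ℤ) = 32 ∧
      Cfsg.dotInt (v : Cfsg.GolayPt → ℤ) (x : Cfsg.GolayPt → ℤ) = 16} ∧ y ≠ x ∧
      Cfsg.dotInt (x : Cfsg.GolayPt → ℤ) (y : Cfsg.GolayPt → ℤ) = 16}.ncard = 162 := by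
    refine count_via h _ (fun z => dotInt d₀ z = 24 ∧ dotInt Cfsg.Spor.vecU z = 16 ∧
      dotInt vecX1 z = 16) 162 (fun y => ?_) (EnC8b.census _ cond_iff_b)
    show (_ ∧ _ ∧ _) ↔ _
    constructor
    · rintro ⟨a, _, b⟩
      obtain ⟨a1, a2, a3⟩ := (keyA y).1 a
      exact ⟨a1, a2, a3, by rw [← keyX y]; exact b⟩
    · rintro ⟨a1, a2, a3, b⟩
      rw [← keyX y] at b
      refine ⟨(keyA y).2 ⟨a1, a2, a3⟩, ?_, b⟩
      rintro rfl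
      rw [hxx] at b
      norm_num at b
  refine ⟨c8, c16, ?_⟩
  intro y hy y' hy' hyx hyx' hdot
  have hcov := cover3 _ _ _ x 112 162 (by rw [hA]) hx
    (fun z hz => hz.1) (fun z hz => hz.1)
    (fun hz => by have := hz.2; rw [hxx] at this; norm_num at this)
    (fun hz => hz.2.1 rfl)
    (Set.disjoint_left.mpr (fun z hz1 hz2 => by
      have a := hz1.2; have b := hz2.2.2; rw [a] at b; norm_num at b))
    c8 c16
  have fix : ∀ g : Co0, (∀ u' : leechLattice, ((h • u' : leechLattice) : GolayPt → ℤ) ∈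
      [d₀, Cfsg.Spor.vecU, vecX1] → g • u' = u') → g • u = u ∧ g • v = v ∧ g • x = x :=
    fun g hg => ⟨hg u (by rw [hh1]; simp), hg v (by rw [hh2]; simp), hg x (by rw [hh3]; simp)⟩
  rcases hcov y hy with h0 | h8 | h16
  · exact absurd h0 hyx
  · have b : dotInt (x : GolayPt → ℤ) (y : GolayPt → ℤ) = 8 := h8.2
    have b' : dotInt (x : GolayPt → ℤ) (y' : GolayPt → ℤ) = 8 := by rw [← hdot]; exact b
    obtain ⟨a1, a2, a3⟩ := (keyA y).1 hy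
    obtain ⟨a1', a2', a3'⟩ := (keyA y').1 hy'
    obtain ⟨g, hg1, hg2⟩ := stab_trans reach_a h y y'
      ⟨a1, a2, a3, by rw [← keyX y]; exact b⟩ ⟨a1', a2', a3', by rw [← keyX y']; exact b'⟩
    obtain ⟨f1, f2, f3⟩ := fix g hg1
    exact ⟨g, f1, f2, f3, hg2⟩
  · have b : dotInt (x : GolayPt → ℤ) (y : GolayPt → ℤ) = 16 := h16.2.2
    have b' : dotInt (x : GolayPt → ℤ) (y' : GolayPt → ℤ) = 16 := by rw [← hdot]; exact b
    obtain ⟨a1, a2, a3⟩ := (keyA y).1 hy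
    obtain ⟨a1', a2', a3'⟩ := (keyA y').1 hy'
    obtain ⟨g, hg1, hg2⟩ := stab_trans reach_b h y y'
      ⟨a1, a2, a3, by rw [← keyX y]; exact b⟩ ⟨a1', a2', a3', by rw [← keyX y']; exact b'⟩
    obtain ⟨f1, f2, f3⟩ := fix g hg1
    exact ⟨g, f1, f2, f3, hg2⟩

end Cfsg.Agent.S1581
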