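import Cfsg.Statements.S1585
import Cfsg.Agent.S1640

set_option autoImplicit false
open Cfsg

namespace Cfsg.Agent.S1585

open Cfsg.Agent.Lib.Helper1 Cfsg.Agent.Lib.Helper1.LeechEnum Cfsg.Agent.Lib.Helper1.LeechConn
  Cfsg.Agent.Lib.Helper1.LeechAut

theorem norm_neg_add (x y : GolayPt → ℤ) :
    sqNorm (-(x + y)) = sqNorm x + sqNorm y + 2 * dotInt x y := by
  unfold sqNorm dotInt
  rw [Finset.mul_sum, ← Finset.sum_add_distrib, ← Finset.sum_add_distrib]
  apply Finset.sum_congr rfl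
  intro i _
  simp only [Pi.add_apply, Pi.neg_apply]
  ring

theorem dot_neg_add (x y z : GolayPt → ℤ) :
    dotInt x (-(y + z)) = -(dotInt x y + dotInt x z) := by
  unfold dotInt
  rw [← Finset.sum_add_distrib, ← Finset.sum_neg_distrib]
  apply Finset.sum_congr rfl
  intro i _
  simp only [Pi.add_apply, Pi.neg_apply]
  ring

theorem dot_self (x : GolayPt → ℤ) : dotInt x x = sqNorm x := by
  unfold sqNorm dotInt
  apply Finset.sum_congr rfl
  intro i _
  ring

/-- Two vectors of customary norm 6 with inner product −4 are exchanged by some automorphism of the lattice. -/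
theorem result (v w : ↥Cfsg.leechLattice) (hv : Cfsg.sqNorm (v : Cfsg.GolayPt → ℤ) = 48) (hw : Cfsg.sqNorm (w : Cfsg.GolayPt → ℤ) = 48) (hvw : Cfsg.dotInt (v : Cfsg.GolayPt → ℤ) (w : Cfsg.GolayPt → ℤ) = -32) : ∃ g : ↥Cfsg.Co0, g • v = w ∧ g • w = v := by
  obtain ⟨h, hh⟩ := trans48 v w hv hw
  -- the minimal vector `x = -(v + w)`
  have hx1 : sqNorm ((-(v + w) : leechLattice) : GolayPt → ℤ) = 32 := by
    show sqNorm (-((v : GolayPt → ℤ) + (w : GolayPt → ℤ))) = 32
    rw [norm_neg_add, hv, hw, hvw]; norm_num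
  have hx2 : dotInt (v : GolayPt → ℤ) ((-(v + w) : leechLattice) : GolayPt → ℤ) = -16 := by
    show dotInt (v : GolayPt → ℤ) (-((v : GolayPt → ℤ) + (w : GolayPt → ℤ))) = -16
    rw [dot_neg_add, dot_self, hv, hvw]; norm_num
  have hx3 : dotInt (w : GolayPt → ℤ) ((-(v + w) : leechLattice) : GolayPt → ℤ) = -16 := by
    show dotInt (w : GolayPt → ℤ) (-((v : GolayPt → ℤ) + (w : GolayPt → ℤ))) = -16
    rw [dot_neg_add, dot_self, hw, dotInt_comm', hvw]; norm_num
  obtain ⟨g, hg1, hg2⟩ := (Cfsg.Agent.S1640.result w hw).2 (h • (-(v + w)))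
    ⟨by rw [smul_norm]; exact hx1,
      by have := smul_dot h v (-(v + w)); rw [hh] at this; rw [this]; exact hx2⟩ (-(v + w)) ⟨hx1, hx3⟩
  have e1 : (g * h) • v = w := by rw [mul_smul, hh, hg1]
  have e2 : (g * h) • (-(v + w)) = -(v + w) := by rw [mul_smul, hg2]
  refine ⟨g * h, e1, ?_⟩
  have e3 : w = -(-(v + w)) - v := by abel
  have e4 : (g * h) • w = (g * h) • (-(-(v + w)) - v) := by rw [← e3]
  rw [e4, LeechEnum.smul_sub, smul_neg', e2, e1]
  abel

end Cfsg.Agent.S1585
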