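import Mathlib
import Cfsg.Statements.S1587

set_option autoImplicit false
open Matrix
open Cfsg

namespace Cfsg.Agent.S1587

theorem bsymm (B : Matrix (Fin 24) (Fin 24) ℤ) (hsymm : B.IsSymm) (u v : Fin 24 → ℤ) :
    u ⬝ᵥ (B *ᵥ v) = v ⬝ᵥ (B *ᵥ u) := by
  rw [dotProduct_mulVec, ← mulVec_transpose, hsymm.eq, dotProduct_comm]

theorem qsub (B : Matrix (Fin 24) (Fin 24) ℤ) (hsymm : B.IsSymm) (u v : Fin 24 → ℤ) :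
    (u - v) ⬝ᵥ (B *ᵥ (u - v)) = u ⬝ᵥ (B *ᵥ u) + v ⬝ᵥ (B *ᵥ v) - 2 * (u ⬝ᵥ (B *ᵥ v)) := by
  rw [mulVec_sub, dotProduct_sub, sub_dotProduct, sub_dotProduct, bsymm B hsymm v u]
  ring

theorem qadd (B : Matrix (Fin 24) (Fin 24) ℤ) (hsymm : B.IsSymm) (u v : Fin 24 → ℤ) :
    (u + v) ⬝ᵥ (B *ᵥ (u + v)) = u ⬝ᵥ (B *ᵥ u) + v ⬝ᵥ (B *ᵥ v) + 2 * (u ⬝ᵥ (B *ᵥ v)) := by
  rw [mulVec_add, dotProduct_add, add_dotProduct, add_dotProduct, bsymm B hsymm v u]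
  ring

theorem qsmul (B : Matrix (Fin 24) (Fin 24) ℤ) (c : ℤ) (u : Fin 24 → ℤ) :
    (c • u) ⬝ᵥ (B *ᵥ (c • u)) = c * c * (u ⬝ᵥ (B *ᵥ u)) := by
  rw [mulVec_smul, dotProduct_smul, smul_dotProduct, smul_eq_mul, smul_eq_mul]
  ring

theorem qge (B : Matrix (Fin 24) (Fin 24) ℤ)
    (hpos : ∀ x : Fin 24 → ℤ, x ≠ 0 → 0 < x ⬝ᵥ (B *ᵥ x)) (heven : ∀ x : Fin 24 → ℤ, (2 : ℤ) ∣ x ⬝ᵥ (B *ᵥ x))
    (h2 : ∀ x : Fin 24 → ℤ, x ⬝ᵥ (B *ᵥ x) ≠ 2) (z : Fin 24 → ℤ) (hz : z ≠ 0) : 4 ≤ z ⬝ᵥ (B *ᵥ z) := by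
  have h1 := hpos z hz
  have h3 := heven z
  have h4 := h2 z
  omega

/-- First step of the characterisation of the rank-24 lattice: in an even lattice without roots, norm-8 vectors congruent modulo 2 are equal, opposite or orthogonal. -/
theorem result (B : Matrix (Fin 24) (Fin 24) ℤ) (hsymm : B.IsSymm) (hpos : ∀ x : Fin 24 → ℤ, x ≠ 0 → 0 < x ⬝ᵥ (B *ᵥ x)) (heven : ∀ x : Fin 24 → ℤ, (2 : ℤ) ∣ x ⬝ᵥ (B *ᵥ x)) (h2 : ∀ x : Fin 24 → ℤ, x ⬝ᵥ (B *ᵥ x) ≠ 2) (x y : Fin 24 → ℤ) (hx : x ⬝ᵥ (B *ᵥ x) = 8) (hy : y ⬝ᵥ (B *ᵥ y) = 8) (hc : ∀ i, (2 : ℤ) ∣ (x - y) i) : y = x ∨ y = -x ∨ x ⬝ᵥ (B *ᵥ y) = 0 := by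
  choose z hz using hc
  have hxy : x - y = (2 : ℤ) • z := by
    funext i
    rw [hz i]
    simp
  have hxy' : x + y = (2 : ℤ) • (z + y) := by
    have : x + y = (x - y) + (2 : ℤ) • y := by
      funext i; simp; ring
    rw [this, hxy, smul_add]
  by_cases hz0 : z = 0
  · left
    rw [hz0, smul_zero, sub_eq_zero] at hxy
    exact hxy.symm
  by_cases hw0 : z + y = 0
  · right; left
    rw [hw0, smul_zero] at hxy'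
    exact (eq_neg_of_add_eq_zero_right hxy')
  right; right
  have e1 := qsub B hsymm x y
  rw [hxy, qsmul, hx, hy] at e1
  have e2 := qadd B hsymm x y
  rw [hxy', qsmul, hx, hy] at e2
  have g1 := qge B hpos heven h2 z hz0
  have g2 := qge B hpos heven h2 (z + y) hw0
  omega

end Cfsg.Agent.S1587
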