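import Cfsg.Statements.S1589
import Cfsg.Agent.Lib.Helper6.M24Idx.Main

set_option autoImplicit false
open scoped Pointwise
open Cfsg

namespace Cfsg.Agent.S1589

/-- Subgroups of the group of the length-24 code of index 759, 276 and 1771 are exactly the octad, duad and sextet stabilisers, and no subgroup has index 253. -/
theorem result : (∀ H : Subgroup ↥Cfsg.M24, H.index = 759 → ∃ o ∈ Cfsg.octads, H = MulAction.stabilizer Cfsg.M24 o) ∧ (∀ H : Subgroup ↥Cfsg.M24, H.index = 276 → ∃ s : Finset Cfsg.GolayPt, s.card = 2 ∧ H = MulAction.stabilizer Cfsg.M24 s) ∧ (∀ H : Subgroup ↥Cfsg.M24, H.index = 1771 → ∃ S ∈ Cfsg.sextets, H = MulAction.stabilizer Cfsg.M24 S) ∧ ∀ H : Subgroup ↥Cfsg.M24, H.index ≠ 253 := by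
  refine ⟨?_, ?_, ?_, ?_⟩
  · intro H hH
    obtain ⟨o, ho, heq⟩ := Cfsg.Agent.Lib.Helper6.M24Idx.octad_case _ (Cfsg.Agent.Lib.Helper6.M24Idx.map_subtype_le H)
      (Cfsg.Agent.Lib.Helper6.M24Idx.card_of_index H hH (m := 322560) (by norm_num) (by norm_num))
    exact ⟨o, ho, Cfsg.Agent.Lib.Helper6.M24Idx.eq_stabilizer_of_map H o heq⟩
  · intro H hH
    obtain ⟨s, hs, heq⟩ := Cfsg.Agent.Lib.Helper6.M24Idx.pair_case _ (Cfsg.Agent.Lib.Helper6.M24Idx.map_subtype_le H)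
      (Cfsg.Agent.Lib.Helper6.M24Idx.card_of_index H hH (m := 887040) (by norm_num) (by norm_num))
    exact ⟨s, hs, Cfsg.Agent.Lib.Helper6.M24Idx.eq_stabilizer_of_map H s heq⟩
  · intro H hH
    obtain ⟨S, hS, heq⟩ := Cfsg.Agent.Lib.Helper6.M24Idx.sextet_case' _ (Cfsg.Agent.Lib.Helper6.M24Idx.map_subtype_le H)
      (Cfsg.Agent.Lib.Helper6.M24Idx.card_of_index H hH (m := 138240) (by norm_num) (by norm_num))
    exact ⟨S, hS, Cfsg.Agent.Lib.Helper6.M24Idx.eq_stabilizer_of_map H S heq⟩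
  · intro H hH
    exact Cfsg.Agent.Lib.Helper6.M24Idx.no_index_253 _ (Cfsg.Agent.Lib.Helper6.M24Idx.map_subtype_le H)
      (Cfsg.Agent.Lib.Helper6.M24Idx.card_of_index H hH (m := 967680) (by norm_num) (by norm_num))

end Cfsg.Agent.S1589
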