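import Cfsg.Statements.S1591
import Cfsg.Agent.Lib.Helper1.TernaryGolay

set_option autoImplicit false
open Cfsg

namespace Cfsg.Agent.S1591

open Cfsg.Agent.Lib.Helper1.TG

set_option maxRecDepth 100000 in
theorem basis_orth : ∀ j ∈ ({0, 1, 2, 3, 4, 5} : Finset ℕ), ∀ b : P,
    ∑ p : ArrayPt, gw j p * enc b p = 0 := by decide +kernel

/-- Any two words of the length-12 ternary code have dot product zero. -/
theorem result (x y : Cfsg.ArrayPt → ZMod 3) (hx : x ∈ Cfsg.ternaryGolayCode) (hy : y ∈ Cfsg.ternaryGolayCode) : ∑ p, x p * y p = 0 := by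
  obtain ⟨a, rfl⟩ := (mem_code_iff x).mp hx
  obtain ⟨b, rfl⟩ := (mem_code_iff y).mp hy
  have h := fun j hj => basis_orth j hj b
  have e : ∀ p : ArrayPt, enc a p * enc b p =
      a.1 * (gw 0 p * enc b p) + a.2.1 * (gw 1 p * enc b p) + a.2.2.1 * (gw 2 p * enc b p) +
        a.2.2.2.1 * (gw 3 p * enc b p) + a.2.2.2.2.1 * (gw 4 p * enc b p) +
          a.2.2.2.2.2 * (gw 5 p * enc b p) := by
    intro p
    show (a.1 * gw 0 p + a.2.1 * gw 1 p + a.2.2.1 * gw 2 p + a.2.2.2.1 * gw 3 p +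
      a.2.2.2.2.1 * gw 4 p + a.2.2.2.2.2 * gw 5 p) * enc b p = _
    ring
  simp only [e, Finset.sum_add_distrib, ← Finset.mul_sum]
  rw [h 0 (by decide), h 1 (by decide), h 2 (by decide), h 3 (by decide), h 4 (by decide),
    h 5 (by decide)]
  simp

end Cfsg.Agent.S1591
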