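import Cfsg.Statements.S1593
import Cfsg.Agent.Lib.Helper1.TernaryGolay

set_option autoImplicit false
open Cfsg

namespace Cfsg.Agent.S1593

open Cfsg.Agent.Lib.Helper1.TG

/-- the positions of the information set -/
def info (k : ℕ) : ArrayPt :=
  match k with
  | 0 => (0, 0)
  | 1 => (0, 1)
  | 2 => (0, 2)
  | 3 => (1, 0)
  | 4 => (1, 1)
  | _ => (2, 0)

theorem dec_eq_of (x y : ArrayPt → ZMod 3) (h : ∀ k < 6, x (info k) = y (info k)) :
    dec x = dec y := by
  have h0 := h 0 (by norm_num)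
  have h1 := h 1 (by norm_num)
  have h2 := h 2 (by norm_num)
  have h3 := h 3 (by norm_num)
  have h4 := h 4 (by norm_num)
  have h5 := h 5 (by norm_num)
  simp only [info] at h0 h1 h2 h3 h4 h5
  unfold dec
  rw [h0, h1, h2, h3, h4, h5]

theorem eq_of_dec_eq {x y : ArrayPt → ZMod 3} (hx : x ∈ ternaryGolayCode)
    (hy : y ∈ ternaryGolayCode) (h : dec x = dec y) : x = y := by
  obtain ⟨a, rfl⟩ := (mem_code_iff x).mp hx
  obtain ⟨b, rfl⟩ := (mem_code_iff y).mp hy
  rw [dec_enc, dec_enc] at h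
  rw [h]

theorem gw_info : ∀ j < 6, ∀ k < 6, gw j (info k) = if j = k then 1 else 0 := by decide

theorem gw_mem : ∀ j < 6, gw j ∈ ternaryGolayCode := by
  have h : ∀ j < 6, ∃ a : P, ∀ p, enc a p = gw j p := by decide +kernel
  intro j hj
  obtain ⟨a, ha⟩ := h j hj
  rw [mem_code_iff]
  exact ⟨a, funext ha⟩

theorem connect : ∀ p : ArrayPt, ∃ j < 6, gw j p ≠ 0 ∧ ∃ q, gw j q ≠ 0 ∧ gw 0 q ≠ 0 := by
  decide +kernel

theorem units_cases : ∀ u : (ZMod 3)ˣ, u = 1 ∨ u = -1 := by decide

/-- The only sign changes preserving the length-12 ternary code are the identity and negation of all coordinates. -/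
theorem result (c : Cfsg.ArrayPt → (ZMod 3)ˣ) (h : (∀ x ∈ Cfsg.ternaryGolayCode, Cfsg.monomialMap 1 c x ∈ Cfsg.ternaryGolayCode)) : (∀ p, c p = 1) ∨ (∀ p, c p = -1) := by
  set cz : ArrayPt → ZMod 3 := fun p => ((c p : (ZMod 3)ˣ) : ZMod 3) with hcz
  have hmap : ∀ x : ArrayPt → ZMod 3, monomialMap 1 c x = fun p => cz p * x p := by
    intro x
    funext p
    show (c p : ZMod 3) * x ((Equiv.symm (1 : Equiv.Perm ArrayPt)) p) = cz p * x p
    rw [show (Equiv.symm (1 : Equiv.Perm ArrayPt)) p = p from rfl]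
  have key : ∀ j < 6, ∀ p, gw j p ≠ 0 → cz p = cz (info j) := by
    intro j hj p hp
    have h1 : (fun p => cz p * gw j p) ∈ ternaryGolayCode := by
      rw [← hmap]
      exact h _ (gw_mem j hj)
    have h2 : (cz (info j) • gw j) ∈ ternaryGolayCode :=
      ternaryGolayCode.smul_mem _ (gw_mem j hj)
    have h3 := eq_of_dec_eq h1 h2 (dec_eq_of _ _ (fun k hk => by
      show cz (info k) * gw j (info k) = cz (info j) * gw j (info k)
      rw [gw_info j hj k hk]
      split_ifs with hjk
      · rw [hjk]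
      · simp))
    have h4 := congrFun h3 p
    simp only [Pi.smul_apply, smul_eq_mul] at h4
    exact mul_right_cancel₀ hp h4
  have hall : ∀ p, cz p = cz (info 0) := by
    intro p
    obtain ⟨j, hj, hp, q, hq, hq0⟩ := connect p
    rw [key j hj p hp, ← key j hj q hq, key 0 (by norm_num) q hq0]
  have hall' : ∀ p, c p = c (info 0) := fun p => Units.ext (hall p)
  rcases units_cases (c (info 0)) with h0 | h0
  · left
    intro p
    rw [hall' p, h0]
  · right
    intro p
    rw [hall' p, h0]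

end Cfsg.Agent.S1593
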