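import Cfsg.Statements.S1594
import Cfsg.Agent.Lib.Helper1.TernaryMono
import Cfsg.Agent.S0425
import Cfsg.Agent.S1593

set_option autoImplicit false
open Cfsg

namespace Cfsg.Agent.S1594

open Cfsg.Agent.Lib.Helper1.TG

/-- the permutation parts of the monomial maps preserving the code -/
def PP : Set (Equiv.Perm ArrayPt) := {σ | ∃ c, Pres σ c}

theorem pp_mul {σ τ : Equiv.Perm ArrayPt} (hσ : σ ∈ PP) (hτ : τ ∈ PP) : σ * τ ∈ PP := by
  obtain ⟨c, hc⟩ := hσ
  obtain ⟨d, hd⟩ := hτ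
  exact ⟨_, pres_mul hc hd⟩

theorem chain_gen (n : ℕ) (b x : ℕ → ArrayPt) (hx : ∀ i < n, ∀ j < n, x i = x j → i = j)
    (hlvl : ∀ k < n, ∀ y, (∀ i < k, y ≠ b i) →
      ∃ τ ∈ PP, (∀ i < k, τ (b i) = b i) ∧ τ (b k) = y) :
    ∀ k ≤ n, ∃ σ ∈ PP, ∀ i < k, σ (b i) = x i := by
  intro k
  induction k with
  | zero =>
    intro _
    exact ⟨1, ⟨_, pres_one⟩, fun i hi => absurd hi (Nat.not_lt_zero i)⟩
  | succ k ih =>
    intro hk
    obtain ⟨σ, hσ, hfix⟩ := ih (by omega)
    have hy : ∀ i < k, σ.symm (x k) ≠ b i := by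
      intro i hi h
      have h1 : x k = σ (b i) := by rw [← h, Equiv.apply_symm_apply]
      rw [hfix i hi] at h1
      have := hx k (by omega) i (by omega) h1
      omega
    obtain ⟨τ, hτ, hτfix, hτk⟩ := hlvl k (by omega) _ hy
    refine ⟨σ * τ, pp_mul hσ hτ, ?_⟩
    intro i hi
    rcases Nat.lt_succ_iff_lt_or_eq.mp hi with hlt | rfl
    · rw [Equiv.Perm.mul_apply, hτfix i hlt, hfix i hlt]
    · rw [Equiv.Perm.mul_apply, hτk, Equiv.apply_symm_apply]

theorem levels : ∀ k < 5, ∀ y, (∀ i < k, y ≠ bpt i) →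
    ∃ τ ∈ PP, (∀ i < k, τ (bpt i) = bpt i) ∧ τ (bpt k) = y := by
  intro k hk y hy
  interval_cases k
  · obtain ⟨w, -, h0⟩ := lvl0_spec y
    refine ⟨wordPerm w, word_pres w, fun i hi => absurd hi (Nat.not_lt_zero i), ?_⟩
    rw [wordPerm_apply, h0]
  · obtain ⟨w, -, h0, h1⟩ := lvl1_spec y (hy 0 (by norm_num))
    refine ⟨wordPerm w, word_pres w, ?_, ?_⟩
    · intro i hi
      interval_cases i
      · rw [wordPerm_apply, h0]
    · rw [wordPerm_apply, h1]
  · obtain ⟨w, -, h0, h1, h2⟩ := lvl2_spec y (hy 0 (by norm_num)) (hy 1 (by norm_num))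
    refine ⟨wordPerm w, word_pres w, ?_, ?_⟩
    · intro i hi
      interval_cases i
      · rw [wordPerm_apply, h0]
      · rw [wordPerm_apply, h1]
    · rw [wordPerm_apply, h2]
  · obtain ⟨w, -, h0, h1, h2, h3⟩ := lvl3_spec y (hy 0 (by norm_num)) (hy 1 (by norm_num))
      (hy 2 (by norm_num))
    refine ⟨wordPerm w, word_pres w, ?_, ?_⟩
    · intro i hi
      interval_cases i
      · rw [wordPerm_apply, h0]
      · rw [wordPerm_apply, h1]
      · rw [wordPerm_apply, h2]
    · rw [wordPerm_apply, h3]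
  · obtain ⟨w, -, h0, h1, h2, h3, h4⟩ := lvl4_spec y (hy 0 (by norm_num)) (hy 1 (by norm_num))
      (hy 2 (by norm_num)) (hy 3 (by norm_num))
    refine ⟨wordPerm w, word_pres w, ?_, ?_⟩
    · intro i hi
      interval_cases i
      · rw [wordPerm_apply, h0]
      · rw [wordPerm_apply, h1]
      · rw [wordPerm_apply, h2]
      · rw [wordPerm_apply, h3]
    · rw [wordPerm_apply, h4]

theorem bpt_inj : ∀ i < 5, ∀ j < 5, bpt i = bpt j → i = j := by decide

theorem card_arrayPt : Fintype.card ArrayPt = 12 := by decide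

theorem pp_eq : PP = (setSystemAut hexadsT : Set (Equiv.Perm ArrayPt)) := by
  apply Set.Subset.antisymm
  · rintro σ ⟨c, hc⟩
    exact pres_aut hc
  · intro a ha
    have ha' : a ∈ setSystemAut hexadsT := ha
    obtain ⟨σ, hσ, hfix⟩ := chain_gen 5 bpt (fun i => a (bpt i))
      (fun i hi j hj h => bpt_inj i hi j hj (a.injective h)) levels 5 le_rfl
    have hσ' : σ ∈ setSystemAut hexadsT := by
      obtain ⟨c, hc⟩ := hσ
      exact pres_aut hc
    obtain ⟨-, -, hstab⟩ := Cfsg.Agent.S0425.result card_arrayPt isSteiner_hexadsT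
    let x0 : Fin 5 ↪ ArrayPt := ⟨fun i => bpt i, fun i j h =>
      Fin.ext (bpt_inj i i.2 j j.2 h)⟩
    have hg : σ⁻¹ * a ∈ setSystemAut hexadsT := mul_mem (inv_mem hσ') ha'
    have hmem : (⟨σ⁻¹ * a, hg⟩ : setSystemAut hexadsT) ∈
        MulAction.stabilizer (setSystemAut hexadsT) x0 := by
      rw [MulAction.mem_stabilizer_iff]
      refine DFunLike.ext _ _ (fun i => ?_)
      show (σ⁻¹ * a) (bpt i) = bpt i
      rw [Equiv.Perm.mul_apply, ← hfix i i.2]
      exact σ.symm_apply_apply _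
    rw [hstab x0, Subgroup.mem_bot] at hmem
    have h1 : σ⁻¹ * a = 1 := congrArg Subtype.val hmem
    have h2 : a = σ := by
      rw [inv_mul_eq_one] at h1
      exact h1.symm
    rw [h2]
    exact hσ

theorem pres_neg {σ : Equiv.Perm ArrayPt} {c : ArrayPt → (ZMod 3)ˣ} (h : Pres σ c) :
    Pres σ (-c) := by
  intro x hx
  have : monomialMap σ (-c) x = -monomialMap σ c x := by
    funext i
    show (((-c) i : (ZMod 3)ˣ) : ZMod 3) * x (σ.symm i) = -((c i : ZMod 3) * x (σ.symm i))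
    rw [Pi.neg_apply, Units.val_neg, neg_mul]
  rw [this]
  exact ternaryGolayCode.neg_mem (h x hx)

theorem monomialMap_injective (σ : Equiv.Perm ArrayPt) (c : ArrayPt → (ZMod 3)ˣ) :
    Function.Injective (monomialMap σ c) := by
  intro x y h
  funext i
  have h1 := congrFun h (σ i)
  change (c (σ i) : ZMod 3) * x (σ.symm (σ i)) = (c (σ i) : ZMod 3) * y (σ.symm (σ i)) at h1
  rw [Equiv.symm_apply_apply] at h1
  exact mul_left_cancel₀ (Units.ne_zero _) h1

theorem pres_surj {σ : Equiv.Perm ArrayPt} {c : ArrayPt → (ZMod 3)ˣ} (h : Pres σ c)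
    (x : ArrayPt → ZMod 3) (hx : x ∈ ternaryGolayCode) :
    ∃ z ∈ ternaryGolayCode, monomialMap σ c z = x := by
  let f : ternaryGolayCode → ternaryGolayCode := fun z => ⟨monomialMap σ c z.1, h z.1 z.2⟩
  have hf : Function.Injective f := by
    intro z w hzw
    exact Subtype.ext (monomialMap_injective σ c (congrArg Subtype.val hzw))
  obtain ⟨z, hz⟩ := (Finite.injective_iff_surjective.mp hf) ⟨x, hx⟩
  exact ⟨z.1, z.2, congrArg Subtype.val hz⟩

theorem two_signs {σ : Equiv.Perm ArrayPt} {c c' : ArrayPt → (ZMod 3)ˣ} (h : Pres σ c)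
    (h' : Pres σ c') : c' = c ∨ c' = -c := by
  have hd : ∀ x ∈ ternaryGolayCode,
      monomialMap 1 (fun i => c' i * (c i)⁻¹) x ∈ ternaryGolayCode := by
    intro x hx
    obtain ⟨z, hz, rfl⟩ := pres_surj h x hx
    have : monomialMap 1 (fun i => c' i * (c i)⁻¹) (monomialMap σ c z) = monomialMap σ c' z := by
      funext i
      show ((c' i * (c i)⁻¹ : (ZMod 3)ˣ) : ZMod 3) * ((c i : ZMod 3) * z (σ.symm i)) =
        (c' i : ZMod 3) * z (σ.symm i)
      rw [← mul_assoc, ← Units.val_mul, inv_mul_cancel_right]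
    rw [this]
    exact h' z hz
  rcases Cfsg.Agent.S1593.result _ hd with h1 | h1
  · left
    funext i
    have := h1 i
    rwa [mul_inv_eq_one] at this
  · right
    funext i
    have := h1 i
    rw [mul_inv_eq_iff_eq_mul] at this
    rw [this, Pi.neg_apply, neg_one_mul]

theorem neg_ne_self (c : ArrayPt → (ZMod 3)ˣ) : -c ≠ c := by
  intro h
  have h1 := congrFun h (bpt 0)
  rw [Pi.neg_apply] at h1
  have : ∀ u : (ZMod 3)ˣ, -u ≠ u := by decide
  exact this _ h1

/-- The monomial automorphism group of the length-12 ternary code has order 190080 and its permutation parts are exactly the automorphisms of its hexad system. -/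
theorem result : Nat.card {f : Equiv.Perm Cfsg.ArrayPt × (Cfsg.ArrayPt → (ZMod 3)ˣ) // (∀ x ∈ Cfsg.ternaryGolayCode, Cfsg.monomialMap f.1 f.2 x ∈ Cfsg.ternaryGolayCode)} = 190080 ∧ {σ : Equiv.Perm Cfsg.ArrayPt | ∃ c : Cfsg.ArrayPt → (ZMod 3)ˣ, (∀ x ∈ Cfsg.ternaryGolayCode, Cfsg.monomialMap σ c x ∈ Cfsg.ternaryGolayCode)} = (Cfsg.setSystemAut {h : Finset Cfsg.ArrayPt | ∃ x ∈ Cfsg.ternaryGolayCode, Cfsg.ternarySupport x = h ∧ h.card = 6} : Set (Equiv.Perm Cfsg.ArrayPt)) := by
  refine ⟨?_, pp_eq⟩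
  classical
  have hch : ∀ a : setSystemAut hexadsT, ∃ c, Pres a.1 c := fun a => by
    have : a.1 ∈ PP := by rw [pp_eq]; exact a.2
    exact this
  choose ch hch using hch
  let e : {f : Equiv.Perm ArrayPt × (ArrayPt → (ZMod 3)ˣ) // Pres f.1 f.2} ≃
      (setSystemAut hexadsT) × Bool :=
    { toFun := fun f => (⟨f.1.1, pres_aut f.2⟩, decide (f.1.2 = ch ⟨f.1.1, pres_aut f.2⟩))
      invFun := fun ab => ⟨(ab.1.1, if ab.2 = true then ch ab.1 else -ch ab.1), by
        show Pres ab.1.1 (if ab.2 = true then ch ab.1 else -ch ab.1)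
        split_ifs
        · exact hch ab.1
        · exact pres_neg (hch ab.1)⟩
      left_inv := by
        rintro ⟨⟨σ, c⟩, hf⟩
        apply Subtype.ext
        show (σ, if decide (c = ch ⟨σ, pres_aut hf⟩) = true then ch ⟨σ, pres_aut hf⟩
          else -ch ⟨σ, pres_aut hf⟩) = (σ, c)
        by_cases hc : c = ch ⟨σ, pres_aut hf⟩
        · rw [if_pos (decide_eq_true hc), ← hc]
        · rw [if_neg (by rw [decide_eq_true_eq]; exact hc)]
          rcases two_signs (hch ⟨σ, pres_aut hf⟩) hf with h1 | h1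
          · exact absurd h1 hc
          · exact congrArg (Prod.mk σ) h1.symm
      right_inv := by
        rintro ⟨a, b⟩
        cases b
        · show (a, decide (-ch a = ch a)) = (a, false)
          rw [decide_eq_false (neg_ne_self _)]
        · show (a, decide (ch a = ch a)) = (a, true)
          rw [decide_eq_true rfl] }
  obtain ⟨⟨-, hcard⟩, -, -⟩ := Cfsg.Agent.S0425.result card_arrayPt isSteiner_hexadsT
  show Nat.card {f : Equiv.Perm ArrayPt × (ArrayPt → (ZMod 3)ˣ) // Pres f.1 f.2} = 190080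
  rw [Nat.card_congr e, Nat.card_prod, hcard, Nat.card_eq_fintype_card, Fintype.card_bool]

end Cfsg.Agent.S1594
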