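import Mathlib
import Cfsg.Statements.S1595
import Cfsg.Agent.Lib.Helper9.Steiner2

set_option autoImplicit false
open Cfsg

namespace Cfsg.Agent.S1595

open Cfsg.Agent.Lib.Helper9 Finset

section
variable {α : Type*} [Fintype α] [DecidableEq α] {B : Set (Finset α)}

theorem eq_of_five_le_inter (hB : Cfsg.IsSteinerSystem 5 6 B) {b c : Finset α} (hb : b ∈ B)
    (hc : c ∈ B) (h : 5 ≤ (b ∩ c).card) : b = c := by
  obtain ⟨Z, hZsub, hZcard⟩ := Finset.exists_subset_card_eq h
  obtain ⟨d, -, huniq⟩ := hB.2 Z hZcard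
  have h1 := huniq b ⟨hb, hZsub.trans Finset.inter_subset_left⟩
  have h2 := huniq c ⟨hc, hZsub.trans Finset.inter_subset_right⟩
  rw [h1, h2]

/-- Relative binomial moments. -/
theorem rel_moment (Bf : Finset (Finset α)) (s Y : Finset α) (i : ℕ) :
    ∑ c ∈ Bf.filter (fun c => s ⊆ c), ((c ∩ Y).card).choose i =
      ∑ Z ∈ Y.powersetCard i, (Bf.filter (fun c => s ∪ Z ⊆ c)).card := by
  rw [steiner_moment_eq]
  apply Finset.sum_congr rfl
  intro Z _
  rw [Finset.filter_filter]
  apply congrArg Finset.card
  apply Finset.filter_congr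
  intro c _
  rw [Finset.union_subset_iff]

theorem lam_val (hα : Fintype.card α = 12) (hB : Cfsg.IsSteinerSystem 5 6 B) (I : Finset α)
    (hI : I.card ≤ 5) :
    ((blocksFinset B).filter (fun c => I ⊆ c)).card * (6 - I.card).choose (5 - I.card) =
      (12 - I.card).choose (5 - I.card) := by
  have := steiner_lambda 5 6 B hB I hI
  rwa [hα] at this

/-- The moment equations relative to a subset `s` of a block `b`. -/
theorem moment_val (hα : Fintype.card α = 12) (hB : Cfsg.IsSteinerSystem 5 6 B) {b : Finset α}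
    (hb : b ∈ B) {s : Finset α} (hs : s ⊆ b) (k : ℕ) (hk : s.card = k) (j : ℕ) (hj : k + j ≤ 5)
    (lam : ℕ) (hl : lam * (6 - (k + j)).choose (5 - (k + j)) = (12 - (k + j)).choose (5 - (k + j)))
    (hpos : 0 < (6 - (k + j)).choose (5 - (k + j))) :
    ∑ c ∈ (blocksFinset B).filter (fun c => s ⊆ c), ((c ∩ (b \ s)).card).choose j =
      (6 - k).choose j * lam := by
  have hbcard : b.card = 6 := hB.1 b hb
  rw [rel_moment, Finset.sum_congr rfl (g := fun _ => lam)]
  · rw [Finset.sum_const, Finset.card_powersetCard, Finset.card_sdiff_of_subset hs, hbcard, hk,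
      smul_eq_mul]
  · intro Z hZ
    rw [mem_powersetCard] at hZ
    have hdisj : Disjoint s Z := by
      rw [Finset.disjoint_left]
      intro x hx hxZ
      exact (Finset.mem_sdiff.1 (hZ.1 hxZ)).2 hx
    have hcard : (s ∪ Z).card = k + j := by
      rw [Finset.card_union_of_disjoint hdisj, hk, hZ.2]
    have := lam_val hα hB (s ∪ Z) (by omega)
    rw [hcard, ← hl] at this
    exact Nat.eq_of_mul_eq_mul_right hpos this

/-- Blocks through `s` meeting `b \ s` in many points. -/
theorem top_val (hB : Cfsg.IsSteinerSystem 5 6 B) {b : Finset α}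
    (hb : b ∈ B) {s : Finset α} (hs : s ⊆ b) (k : ℕ) (hk : s.card = k) (i : ℕ) (hi : 5 ≤ k + i) :
    (((blocksFinset B).filter (fun c => s ⊆ c)).filter (fun c => (c ∩ (b \ s)).card = i)).card =
      if i = 6 - k then 1 else 0 := by
  have hbcard : b.card = 6 := hB.1 b hb
  have hYcard : (b \ s).card = 6 - k := by
    rw [Finset.card_sdiff_of_subset hs, hbcard, hk]
  have hk6 : k ≤ 6 := by
    rw [← hk, ← hbcard]
    exact Finset.card_le_card hs
  have hsub : ((blocksFinset B).filter (fun c => s ⊆ c)).filter (fun c => (c ∩ (b \ s)).card = i) ⊆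
      {b} := by
    intro c hc
    rw [mem_filter, mem_filter, mem_blocksFinset] at hc
    rw [Finset.mem_singleton]
    symm
    apply eq_of_five_le_inter hB hb hc.1.1
    have hsub2 : s ∪ (c ∩ (b \ s)) ⊆ b ∩ c := by
      intro x hx
      rw [Finset.mem_union] at hx
      rw [Finset.mem_inter]
      rcases hx with hx | hx
      · exact ⟨hs hx, hc.1.2 hx⟩
      · rw [Finset.mem_inter, Finset.mem_sdiff] at hx
        exact ⟨hx.2.1, hx.1⟩
    have hdisj : Disjoint s (c ∩ (b \ s)) := by
      rw [Finset.disjoint_left]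
      intro x hx hx2
      rw [Finset.mem_inter, Finset.mem_sdiff] at hx2
      exact hx2.2.2 hx
    have := Finset.card_le_card hsub2
    rw [Finset.card_union_of_disjoint hdisj, hk, hc.2] at this
    omega
  by_cases hik : i = 6 - k
  · rw [if_pos hik]
    have : ((blocksFinset B).filter (fun c => s ⊆ c)).filter (fun c => (c ∩ (b \ s)).card = i) =
        {b} := by
      apply Finset.Subset.antisymm hsub
      intro c hc
      rw [Finset.mem_singleton] at hc
      subst hc
      rw [mem_filter, mem_filter, mem_blocksFinset]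
      refine ⟨⟨hb, hs⟩, ?_⟩
      rw [Finset.inter_eq_right.2 Finset.sdiff_subset, hYcard, hik]
    rw [this, Finset.card_singleton]
  · rw [if_neg hik, Finset.card_eq_zero, Finset.eq_empty_iff_forall_notMem]
    intro c hc
    have hcb := hsub hc
    rw [Finset.mem_singleton] at hcb
    subst hcb
    rw [mem_filter, Finset.inter_eq_right.2 Finset.sdiff_subset, hYcard] at hc
    exact hik hc.2.symm

theorem set_eq_filter {b s : Finset α} (hs : s ⊆ b) :
    {c : Finset α | c ∈ B ∧ b ∩ c = s} =
      ↑(((blocksFinset B).filter (fun c => s ⊆ c)).filter (fun c => (c ∩ (b \ s)).card = 0)) := by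
  ext c
  rw [Set.mem_setOf_eq, Finset.mem_coe, mem_filter, mem_filter, mem_blocksFinset, and_assoc]
  apply and_congr Iff.rfl
  rw [Finset.card_eq_zero]
  constructor
  · intro h
    refine ⟨?_, ?_⟩
    · rw [← h]
      exact Finset.inter_subset_right
    · rw [Finset.eq_empty_iff_forall_notMem]
      intro x hx
      rw [Finset.mem_inter, Finset.mem_sdiff] at hx
      apply hx.2.2
      rw [← h, Finset.mem_inter]
      exact ⟨hx.2.1, hx.1⟩
  · rintro ⟨h1, h2⟩
    ext x
    rw [Finset.mem_inter]
    constructor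
    · rintro ⟨hxb, hxc⟩
      by_contra hxs
      have : x ∈ c ∩ (b \ s) := by
        rw [Finset.mem_inter, Finset.mem_sdiff]
        exact ⟨hxc, hxb, hxs⟩
      rw [h2] at this
      exact Finset.notMem_empty _ this
    · intro hx
      exact ⟨hs hx, h1 hx⟩

/-- The counts of blocks meeting `b` exactly in `s`. -/
theorem leech_counts (hα : Fintype.card α = 12) (hB : Cfsg.IsSteinerSystem 5 6 B) {b : Finset α}
    (hb : b ∈ B) {s : Finset α} (hs : s ⊆ b) :
    (s.card = 1 → {c : Finset α | c ∈ B ∧ b ∩ c = s}.ncard = 0) ∧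
    (s.card = 2 → {c : Finset α | c ∈ B ∧ b ∩ c = s}.ncard = 3) ∧
    (s.card = 3 → {c : Finset α | c ∈ B ∧ b ∩ c = s}.ncard = 2) ∧
    (s.card = 4 → {c : Finset α | c ∈ B ∧ b ∩ c = s}.ncard = 3) := by
  have hbcard : b.card = 6 := hB.1 b hb
  rw [set_eq_filter hs, Set.ncard_coe_finset]
  set Bs := (blocksFinset B).filter (fun c => s ⊆ c) with hBs
  have hfib : ∀ j, ∑ c ∈ Bs, ((c ∩ (b \ s)).card).choose j =
      ∑ i ∈ range 7, (Bs.filter (fun c => (c ∩ (b \ s)).card = i)).card * i.choose j := by
    intro j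
    apply steiner_moment_fiber Bs (b \ s) 7
    have := Finset.card_le_card (Finset.sdiff_subset (s := b) (t := s))
    omega
  have hlarge : ∀ i, 6 - s.card < i → (Bs.filter (fun c => (c ∩ (b \ s)).card = i)).card = 0 := by
    intro i hi
    rw [Finset.card_eq_zero, Finset.eq_empty_iff_forall_notMem]
    intro c hc
    rw [mem_filter] at hc
    have h1 := Finset.card_le_card (Finset.inter_subset_right (s₁ := c) (s₂ := b \ s))
    rw [Finset.card_sdiff_of_subset hs, hbcard, hc.2] at h1
    omega
  refine ⟨?_, ?_, ?_, ?_⟩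
  · intro hk
    have hm0 := moment_val hα hB hb hs 1 hk 0 (by norm_num) 66 (by norm_num [Nat.choose])
      (by norm_num [Nat.choose])
    have hm1 := moment_val hα hB hb hs 1 hk 1 (by norm_num) 30 (by norm_num [Nat.choose])
      (by norm_num [Nat.choose])
    have hm2 := moment_val hα hB hb hs 1 hk 2 (by norm_num) 12 (by norm_num [Nat.choose])
      (by norm_num [Nat.choose])
    have hm3 := moment_val hα hB hb hs 1 hk 3 (by norm_num) 4 (by norm_num [Nat.choose])
      (by norm_num [Nat.choose])
    rw [hfib] at hm0 hm1 hm2 hm3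
    simp only [Finset.sum_range_succ, Finset.sum_range_zero] at hm0 hm1 hm2 hm3
    have h4 := top_val hB hb hs 1 hk 4 (by norm_num)
    have h5 := top_val hB hb hs 1 hk 5 (by norm_num)
    have h6 := hlarge 6 (by omega)
    rw [← hBs] at h4 h5
    generalize (Bs.filter (fun c => (c ∩ (b \ s)).card = 0)).card = n0 at *
    generalize (Bs.filter (fun c => (c ∩ (b \ s)).card = 1)).card = n1 at *
    generalize (Bs.filter (fun c => (c ∩ (b \ s)).card = 2)).card = n2 at *
    generalize (Bs.filter (fun c => (c ∩ (b \ s)).card = 3)).card = n3 at *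
    generalize (Bs.filter (fun c => (c ∩ (b \ s)).card = 4)).card = n4 at *
    generalize (Bs.filter (fun c => (c ∩ (b \ s)).card = 5)).card = n5 at *
    generalize (Bs.filter (fun c => (c ∩ (b \ s)).card = 6)).card = n6 at *
    norm_num at h4 h5
    norm_num [Nat.choose] at hm0 hm1 hm2 hm3
    omega
  · intro hk
    have hm0 := moment_val hα hB hb hs 2 hk 0 (by norm_num) 30 (by norm_num [Nat.choose])
      (by norm_num [Nat.choose])
    have hm1 := moment_val hα hB hb hs 2 hk 1 (by norm_num) 12 (by norm_num [Nat.choose])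
      (by norm_num [Nat.choose])
    have hm2 := moment_val hα hB hb hs 2 hk 2 (by norm_num) 4 (by norm_num [Nat.choose])
      (by norm_num [Nat.choose])
    rw [hfib] at hm0 hm1 hm2
    simp only [Finset.sum_range_succ, Finset.sum_range_zero] at hm0 hm1 hm2
    have h3 := top_val hB hb hs 2 hk 3 (by norm_num)
    have h4 := top_val hB hb hs 2 hk 4 (by norm_num)
    have h5 := hlarge 5 (by omega)
    have h6 := hlarge 6 (by omega)
    rw [← hBs] at h3 h4
    generalize (Bs.filter (fun c => (c ∩ (b \ s)).card = 0)).card = n0 at *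
    generalize (Bs.filter (fun c => (c ∩ (b \ s)).card = 1)).card = n1 at *
    generalize (Bs.filter (fun c => (c ∩ (b \ s)).card = 2)).card = n2 at *
    generalize (Bs.filter (fun c => (c ∩ (b \ s)).card = 3)).card = n3 at *
    generalize (Bs.filter (fun c => (c ∩ (b \ s)).card = 4)).card = n4 at *
    generalize (Bs.filter (fun c => (c ∩ (b \ s)).card = 5)).card = n5 at *
    generalize (Bs.filter (fun c => (c ∩ (b \ s)).card = 6)).card = n6 at *
    norm_num at h3 h4
    norm_num [Nat.choose] at hm0 hm1 hm2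
    omega
  · intro hk
    have hm0 := moment_val hα hB hb hs 3 hk 0 (by norm_num) 12 (by norm_num [Nat.choose])
      (by norm_num [Nat.choose])
    have hm1 := moment_val hα hB hb hs 3 hk 1 (by norm_num) 4 (by norm_num [Nat.choose])
      (by norm_num [Nat.choose])
    rw [hfib] at hm0 hm1
    simp only [Finset.sum_range_succ, Finset.sum_range_zero] at hm0 hm1
    have h2 := top_val hB hb hs 3 hk 2 (by norm_num)
    have h3 := top_val hB hb hs 3 hk 3 (by norm_num)
    have h4 := hlarge 4 (by omega)
    have h5 := hlarge 5 (by omega)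
    have h6 := hlarge 6 (by omega)
    rw [← hBs] at h2 h3
    generalize (Bs.filter (fun c => (c ∩ (b \ s)).card = 0)).card = n0 at *
    generalize (Bs.filter (fun c => (c ∩ (b \ s)).card = 1)).card = n1 at *
    generalize (Bs.filter (fun c => (c ∩ (b \ s)).card = 2)).card = n2 at *
    generalize (Bs.filter (fun c => (c ∩ (b \ s)).card = 3)).card = n3 at *
    generalize (Bs.filter (fun c => (c ∩ (b \ s)).card = 4)).card = n4 at *
    generalize (Bs.filter (fun c => (c ∩ (b \ s)).card = 5)).card = n5 at *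
    generalize (Bs.filter (fun c => (c ∩ (b \ s)).card = 6)).card = n6 at *
    norm_num at h2 h3
    norm_num [Nat.choose] at hm0 hm1
    omega
  · intro hk
    have hm0 := moment_val hα hB hb hs 4 hk 0 (by norm_num) 4 (by norm_num [Nat.choose])
      (by norm_num [Nat.choose])
    rw [hfib] at hm0
    simp only [Finset.sum_range_succ, Finset.sum_range_zero] at hm0
    have h1 := top_val hB hb hs 4 hk 1 (by norm_num)
    have h2 := top_val hB hb hs 4 hk 2 (by norm_num)
    have h3 := hlarge 3 (by omega)
    have h4 := hlarge 4 (by omega)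
    have h5 := hlarge 5 (by omega)
    have h6 := hlarge 6 (by omega)
    rw [← hBs] at h1 h2
    generalize (Bs.filter (fun c => (c ∩ (b \ s)).card = 0)).card = n0 at *
    generalize (Bs.filter (fun c => (c ∩ (b \ s)).card = 1)).card = n1 at *
    generalize (Bs.filter (fun c => (c ∩ (b \ s)).card = 2)).card = n2 at *
    generalize (Bs.filter (fun c => (c ∩ (b \ s)).card = 3)).card = n3 at *
    generalize (Bs.filter (fun c => (c ∩ (b \ s)).card = 4)).card = n4 at *
    generalize (Bs.filter (fun c => (c ∩ (b \ s)).card = 5)).card = n5 at *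
    generalize (Bs.filter (fun c => (c ∩ (b \ s)).card = 6)).card = n6 at *
    norm_num at h1 h2
    norm_num [Nat.choose] at hm0
    omega

end

/-- Leech triangle of S(5, 6, 12): blocks meet in 0, 2, 3 or 4 points, and a block is met exactly in a given 2-, 3- or 4-subset by 3, 2, 3 blocks respectively. -/
theorem result {α : Type*} [Fintype α] [DecidableEq α] (hα : Fintype.card α = 12) {B : Set (Finset α)} (hB : Cfsg.IsSteinerSystem 5 6 B) (b : Finset α) (hb : b ∈ B) : (∀ c ∈ B, c ≠ b → (b ∩ c).card = 0 ∨ (b ∩ c).card = 2 ∨ (b ∩ c).card = 3 ∨ (b ∩ c).card = 4) ∧ ∀ s ⊆ b, (s.card = 2 → {c : Finset α | c ∈ B ∧ b ∩ c = s}.ncard = 3) ∧ (s.card = 3 → {c : Finset α | c ∈ B ∧ b ∩ c = s}.ncard = 2) ∧ (s.card = 4 → {c : Finset α | c ∈ B ∧ b ∩ c = s}.ncard = 3) := by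
  refine ⟨?_, ?_⟩
  · intro c hc hne
    have h5 : (b ∩ c).card < 5 := by
      by_contra hcon
      exact hne (eq_of_five_le_inter hB hb hc (by omega)).symm
    have h1 : (b ∩ c).card ≠ 1 := by
      intro h
      have h0 := (leech_counts hα hB hb (s := b ∩ c) Finset.inter_subset_left).1 h
      have hfin : {c' : Finset α | c' ∈ B ∧ b ∩ c' = b ∩ c}.Finite := Set.toFinite _
      rw [Set.ncard_eq_zero hfin] at h0
      have : c ∈ {c' : Finset α | c' ∈ B ∧ b ∩ c' = b ∩ c} := ⟨hc, rfl⟩
      rw [h0] at this
      exact this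
    omega
  · intro s hs
    exact (leech_counts hα hB hb hs).2

end Cfsg.Agent.S1595
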