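import Cfsg.Statements.S1596
import Cfsg.Agent.Lib.Helper1.QuartStd

set_option autoImplicit false
open scoped Pointwise
open Cfsg

namespace Cfsg.Agent.S1596

open Cfsg.Agent.Lib.Helper1 Cfsg.Agent.Lib.Helper1.M24

/-- A quartet of a dodecad is determined by any two of its triples: two disjoint triples uniting to a hexad extend to exactly one quartet. -/
theorem result (d : Finset Cfsg.GolayPt) (hd : d ∈ Cfsg.dodecads) (t u : Finset Cfsg.GolayPt) (ht : t.card = 3) (hu : u.card = 3) (htu : Disjoint t u) (hh : t ∪ u ∈ Cfsg.hexadsOn d) : ∃! Q : Finset (Finset Cfsg.GolayPt), Q ∈ Cfsg.quartets d ∧ t ∈ Q ∧ u ∈ Q := by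
  obtain ⟨g, hg, rfl⟩ := dodecad_reach d hd
  have hgi := M24.inv_mem hg
  have hne : t ≠ u := by
    rintro rfl
    rw [disjoint_self, Finset.bot_eq_empty] at htu
    rw [htu] at ht
    simp at ht
  have hh' : g⁻¹ • t ∪ g⁻¹ • u ∈ hexadsOn d₀fin := by
    have := hexadsOn_smul hgi hh
    rwa [inv_smul_smul, Finset.smul_finset_union] at this
  obtain ⟨l, hl, htl, hul⟩ := quartet_exists_std (g⁻¹ • t) (g⁻¹ • u)
    (by rw [Finset.card_smul_finset]; exact ht) (by rw [Finset.card_smul_finset]; exact hu)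
    ((smul_disjoint_iff g⁻¹ t u).mpr htu) hh'
  have hQ : g • famL l ∈ quartets (g • d₀fin) :=
    quartets_smul hg (famL_mem_quartets (List.all_eq_true.mp quartList_ok l hl))
  have htQ : t ∈ g • famL l := by
    have := Finset.smul_mem_smul_finset (a := g) htl
    rwa [smul_inv_smul] at this
  have huQ : u ∈ g • famL l := by
    have := Finset.smul_mem_smul_finset (a := g) hul
    rwa [smul_inv_smul] at this
  refine ⟨g • famL l, ⟨hQ, htQ, huQ⟩, ?_⟩
  rintro Q' ⟨hQ', htQ', huQ'⟩
  exact quartet_unique (by rw [Finset.card_smul_finset]; exact d₀fin_card) hQ' hQ hne htQ' huQ'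
    htQ huQ

end Cfsg.Agent.S1596
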