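import Cfsg.Statements.S1597
import Cfsg.Agent.Lib.Helper1.QuartTrans

set_option autoImplicit false
open scoped Pointwise
open Cfsg

namespace Cfsg.Agent.S1597

open Cfsg.Agent.Lib.Helper1 Cfsg.Agent.Lib.Helper1.M24

/-- A dodecad has 220 quartets and its stabiliser is transitive on them. -/
theorem result (d : Finset Cfsg.GolayPt) (hd : d ∈ Cfsg.dodecads) : (Cfsg.quartets d).ncard = 220 ∧ ∀ Q ∈ Cfsg.quartets d, ∀ Q' ∈ Cfsg.quartets d, ∃ g : Equiv.Perm Cfsg.GolayPt, g ∈ Cfsg.M24 ∧ g • d = d ∧ g • Q = Q' := by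
  refine ⟨ncard_quartets d hd, ?_⟩
  intro Q hQ Q' hQ'
  obtain ⟨g, hg, hgd, hgQ⟩ := quartet_reach d hd Q hQ
  obtain ⟨g', hg', hgd', hgQ'⟩ := quartet_reach d hd Q' hQ'
  refine ⟨g' * g⁻¹, M24.mul_mem hg' (M24.inv_mem hg), ?_, ?_⟩
  · rw [mul_smul, ← hgd, inv_smul_smul, hgd, hgd']
  · rw [mul_smul, ← hgQ, inv_smul_smul, hgQ']

end Cfsg.Agent.S1597
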