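import Cfsg.Statements.S1599
import Cfsg.Agent.Lib.Helper1.QuartOrb

set_option autoImplicit false
open scoped Pointwise
open Cfsg

namespace Cfsg.Agent.S1599

open Cfsg.Agent.Lib.Helper1 Cfsg.Agent.Lib.Helper1.M24

theorem orbit_std : MulAction.orbit SQ q0fam = {q0fam} := by
  ext x
  rw [Set.mem_singleton_iff]
  constructor
  · rintro ⟨h, rfl⟩
    exact h.2.2
  · rintro rfl
    exact MulAction.mem_orbit_self _

theorem eq_std_of_cls (x : Finset (Finset GolayPt)) (hx : x ∈ quartets d₀fin)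
    (hc : clsW wQ q0fam x = 36108) : x = q0fam := by
  have h := suborbitsQ.2.1 36108 (by decide)
  have hx' : x ∈ MulAction.orbit SQ (famL (repQ 36108)) := by
    rw [h]; exact ⟨hx, hc⟩
  rw [show famL (repQ 36108) = q0fam from rfl, orbit_std] at hx'
  exact hx'

/-- A quartet stabiliser has five orbits on the quartets of its dodecad, of sizes 1, 12, 27, 72, 108. -/
theorem result (d : Finset Cfsg.GolayPt) (hd : d ∈ Cfsg.dodecads) (Q : Finset (Finset Cfsg.GolayPt)) (hQ : Q ∈ Cfsg.quartets d) : ∃ X₁ ∈ Cfsg.quartets d, ∃ X₂ ∈ Cfsg.quartets d, ∃ X₃ ∈ Cfsg.quartets d, ∃ X₄ ∈ Cfsg.quartets d, (MulAction.orbit ↥(MulAction.stabilizer Cfsg.M24 d ⊓ MulAction.stabilizer Cfsg.M24 Q) X₁).ncard = 12 ∧ (MulAction.orbit ↥(MulAction.stabilizer Cfsg.M24 d ⊓ MulAction.stabilizer Cfsg.M24 Q) X₂).ncard = 27 ∧ (MulAction.orbit ↥(MulAction.stabilizer Cfsg.M24 d ⊓ MulAction.stabilizer Cfsg.M24 Q) X₃).ncard = 72 ∧ (MulAction.orbit ↥(MulAction.stabilizer Cfsg.M24 d ⊓ MulAction.stabilizer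 Cfsg.M24 Q) X₄).ncard = 108 ∧ Cfsg.quartets d = {Q} ∪ MulAction.orbit ↥(MulAction.stabilizer Cfsg.M24 d ⊓ MulAction.stabilizer Cfsg.M24 Q) X₁ ∪ MulAction.orbit ↥(MulAction.stabilizer Cfsg.M24 d ⊓ MulAction.stabilizer Cfsg.M24 Q) X₂ ∪ MulAction.orbit ↥(MulAction.stabilizer Cfsg.M24 d ⊓ MulAction.stabilizer Cfsg.M24 Q) X₃ ∪ MulAction.orbit ↥(MulAction.stabilizer Cfsg.M24 d ⊓ MulAction.stabilizer Cfsg.M24 Q) X₄ := by
  obtain ⟨g, hg, rfl, rfl⟩ := quartet_reach d hd Q hQ
  have hd' : g • d₀fin = (⟨g, hg⟩ : M24) • d₀fin := rfl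
  have hQ' : g • q0fam = (⟨g, hg⟩ : M24) • q0fam := rfl
  rw [hd', hQ']
  generalize (⟨g, hg⟩ : M24) = g'
  rw [SubOrbits.stabilizer_inf_smul g' d₀fin q0fam]
  have hmem : ∀ k ∈ vQ, g' • famL (repQ k) ∈ quartets (g' • d₀fin) := fun k hk =>
    quartets_smul g'.2 (famL_mem_quartets (repQ_ok k hk).1)
  have hcard : ∀ k ∈ vQ, (MulAction.orbit (SQ.map (MulAut.conj g').toMonoidHom)
      (g' • famL (repQ k))).ncard = nQ k := by
    intro k hk
    rw [SubOrbits.ncard_orbit_map_conj, suborbitsQ.2.1 k hk, suborbitsQ.2.2 k hk]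
  refine ⟨g' • famL (repQ 18036), hmem _ (by decide), g' • famL (repQ 20036), hmem _ (by decide),
    g' • famL (repQ 18030), hmem _ (by decide), g' • famL (repQ 14018), hmem _ (by decide),
    hcard _ (by decide), hcard _ (by decide), hcard _ (by decide), hcard _ (by decide), ?_⟩
  have hback : ∀ x, x ∈ quartets (g' • d₀fin) ↔ g'⁻¹ • x ∈ quartets d₀fin := by
    intro x
    constructor
    · intro hx
      have := quartets_smul (g'⁻¹).2 hx
      rwa [show ((g'⁻¹ : M24) : P24) • (g' • d₀fin) = d₀fin from inv_smul_smul g' d₀fin] at this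
    · intro hx
      have := quartets_smul g'.2 hx
      rwa [show (g' : P24) • (g'⁻¹ • x) = x from smul_inv_smul g' x] at this
  ext x
  simp only [Set.mem_union, Set.mem_singleton_iff]
  constructor
  · intro hx
    have hx' := (hback x).mp hx
    have hk := suborbitsQ.1 _ hx'
    have key : ∀ k ∈ vQ, clsW wQ q0fam (g'⁻¹ • x) = k →
        x ∈ MulAction.orbit (SQ.map (MulAut.conj g').toMonoidHom) (g' • famL (repQ k)) := by
      intro k hk hc
      rw [SubOrbits.mem_orbit_map_conj, suborbitsQ.2.1 k hk]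
      exact ⟨hx', hc⟩
    unfold vQ at hk
    simp only [Finset.mem_insert, Finset.mem_singleton] at hk
    rcases hk with h | h | h | h | h
    · left; left; left; left
      have := eq_std_of_cls _ hx' h
      rw [← this, smul_inv_smul]
    · left; left; left; right
      exact key _ (by decide) h
    · left; left; right
      exact key _ (by decide) h
    · left; right
      exact key _ (by decide) h
    · right
      exact key _ (by decide) h
  · have horb : ∀ k ∈ vQ, x ∈ MulAction.orbit (SQ.map (MulAut.conj g').toMonoidHom)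
        (g' • famL (repQ k)) → x ∈ quartets (g' • d₀fin) := by
      intro k hk h
      rw [SubOrbits.mem_orbit_map_conj, suborbitsQ.2.1 k hk] at h
      exact (hback x).mpr h.1
    rintro ((((rfl | h) | h) | h) | h)
    · exact quartets_smul g'.2 q0fam_mem
    · exact horb _ (by decide) h
    · exact horb _ (by decide) h
    · exact horb _ (by decide) h
    · exact horb _ (by decide) h

end Cfsg.Agent.S1599
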