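import Cfsg.Statements.S1600
import Cfsg.Agent.Lib.Helper1.M24D3

set_option autoImplicit false
open scoped Pointwise
open Cfsg

namespace Cfsg.Agent.S1600

open Cfsg.Agent.Lib.Helper1 Cfsg.Agent.Lib.Helper1.M24

/-- The pointwise stabiliser of three points of a dodecad inside the dodecad stabiliser (order 72) is transitive on the complementary dodecad. -/
theorem result (d : Finset Cfsg.GolayPt) (hd : d ∈ Cfsg.dodecads) (p q r : Cfsg.GolayPt) (hp : p ∈ d) (hq : q ∈ d) (hr : r ∈ d) (hpq : p ≠ q) (hpr : p ≠ r) (hqr : q ≠ r) : Nat.card ↥(MulAction.stabilizer Cfsg.M24 d ⊓ MulAction.stabilizer Cfsg.M24 p ⊓ MulAction.stabilizer Cfsg.M24 q ⊓ MulAction.stabilizer Cfsg.M24 r) = 72 ∧ ∀ x ∉ d, ∀ y ∉ d, ∃ g ∈ (MulAction.stabilizer Cfsg.M24 d ⊓ MulAction.stabilizer Cfsg.M24 p ⊓ MulAction.stabilizer Cfsg.M24 q ⊓ MulAction.stabilizer Cfsg.M24 r), ((g : ↥Cfsg.M24) : Equiv.Perm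 Cfsg.GolayPt) x = y := by
  obtain ⟨g, hg, hgd, hgp, hgq, hgr⟩ := dodecad_three_trans d hd p q r hp hq hr hpq hpr hqr
  -- membership in the big stabilizer, unfolded
  have hmem : ∀ h : M24, h ∈ (MulAction.stabilizer M24 d ⊓ MulAction.stabilizer M24 p ⊓
      MulAction.stabilizer M24 q ⊓ MulAction.stabilizer M24 r) ↔
      (h.1 • d = d ∧ h.1 p = p ∧ h.1 q = q ∧ h.1 r = r) := by
    intro h
    simp only [Subgroup.mem_inf, MulAction.mem_stabilizer_iff, and_assoc]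
    rfl
  -- conjugation into the standard group
  have hconj : ∀ h : P24, h ∈ M24 → (h • d = d ∧ h p = p ∧ h q = q ∧ h r = r) →
      g * h * g⁻¹ ∈ H12 ⊓ FixL [0, 2, 3] := by
    rintro h hh ⟨h1, h2, h3, h4⟩
    refine ⟨⟨M24.mul_mem (M24.mul_mem hg hh) (M24.inv_mem hg), ?_⟩, ?_⟩
    · show (g * h * g⁻¹) • d₀fin = d₀fin
      rw [mul_smul, mul_smul, ← hgd, inv_smul_smul, h1]
    · intro j hj
      simp only [List.mem_cons, List.not_mem_nil, or_false] at hj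
      rcases hj with rfl | rfl | rfl
      · rw [← hgp]; simp [h2]
      · rw [← hgq]; simp [h3]
      · rw [← hgr]; simp [h4]
  have hconj' : ∀ k : P24, k ∈ H12 ⊓ FixL [0, 2, 3] →
      g⁻¹ * k * g ∈ M24 ∧ ((g⁻¹ * k * g) • d = d ∧ (g⁻¹ * k * g) p = p ∧ (g⁻¹ * k * g) q = q ∧
        (g⁻¹ * k * g) r = r) := by
    rintro k ⟨⟨hk1, hk2⟩, hk3⟩
    have hk2' : k • d₀fin = d₀fin := hk2
    refine ⟨M24.mul_mem (M24.mul_mem (M24.inv_mem hg) hk1) hg, ?_, ?_, ?_, ?_⟩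
    · rw [mul_smul, mul_smul, hgd, hk2', ← hgd, inv_smul_smul]
    · rw [Equiv.Perm.mul_apply, Equiv.Perm.mul_apply, hgp, hk3 0 (by simp), ← hgp]; simp
    · rw [Equiv.Perm.mul_apply, Equiv.Perm.mul_apply, hgq, hk3 2 (by simp), ← hgq]; simp
    · rw [Equiv.Perm.mul_apply, Equiv.Perm.mul_apply, hgr, hk3 3 (by simp), ← hgr]; simp
  constructor
  · rw [← card_H12_fix3]
    apply Nat.card_congr
    refine ⟨fun h => ⟨g * h.1.1 * g⁻¹, hconj h.1.1 h.1.2 ((hmem h.1).mp h.2)⟩,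
      fun k => ⟨⟨g⁻¹ * k.1 * g, (hconj' k.1 k.2).1⟩, (hmem _).mpr (hconj' k.1 k.2).2⟩, ?_, ?_⟩
    · intro h
      apply Subtype.ext
      apply Subtype.ext
      simp only
      group
    · intro k
      apply Subtype.ext
      simp only
      group
  · intro x hx y hy
    have hx' : gIdx (g x) ∉ d₀pts := by
      rw [← mem_d₀fin_iff, ← hgd, apply_mem_smul_iff]; exact hx
    have hy' : gIdx (g y) ∉ d₀pts := by
      rw [← mem_d₀fin_iff, ← hgd, apply_mem_smul_iff]; exact hy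
    obtain ⟨σ₁, hσ₁, hf₁, h1⟩ := lvlF _ (gIdx_lt _) hx'
    obtain ⟨σ₂, hσ₂, hf₂, h2⟩ := lvlF _ (gIdx_lt _) hy'
    rw [gUnidx_gIdx] at h1 h2
    have hk : σ₂ * σ₁⁻¹ ∈ H12 ⊓ FixL [0, 2, 3] :=
      (H12 ⊓ FixL [0, 2, 3]).mul_mem ⟨hσ₂, hf₂⟩ ((H12 ⊓ FixL [0, 2, 3]).inv_mem ⟨hσ₁, hf₁⟩)
    refine ⟨⟨g⁻¹ * (σ₂ * σ₁⁻¹) * g, (hconj' _ hk).1⟩, (hmem _).mpr (hconj' _ hk).2, ?_⟩
    show (g⁻¹ * (σ₂ * σ₁⁻¹) * g) x = y
    rw [Equiv.Perm.mul_apply, Equiv.Perm.mul_apply, Equiv.Perm.mul_apply, ← h1]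
    simp [h2]

end Cfsg.Agent.S1600
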