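import Cfsg.Statements.S1601
import Cfsg.Agent.Lib.Helper1.M11PSL

set_option autoImplicit false
open scoped Pointwise
open Cfsg

namespace Cfsg.Agent.S1601

/-- In the 3-transitive action of the smallest Mathieu group on the complementary dodecad, a point stabiliser is isomorphic to PSL(2, 11). -/
theorem result (d : Finset Cfsg.GolayPt) (hd : d ∈ Cfsg.dodecads) (p q : Cfsg.GolayPt) (hp : p ∈ d) (hq : q ∉ d) : Nonempty (↥(MulAction.stabilizer Cfsg.M24 d ⊓ MulAction.stabilizer Cfsg.M24 p ⊓ MulAction.stabilizer Cfsg.M24 q) ≃* Matrix.ProjectiveSpecialLinearGroup (Fin 2) (ZMod 11)) := by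
  open Cfsg.Agent.Lib.Helper1.M11PSL Cfsg.Agent.Lib.Helper1.PSL2Rec in
  have := faithful d p q hd hp
  have := fact_prime_11
  obtain ⟨e1⟩ := iso_L11_of_degree (G := Y d p q) (α := A d p) (card_A d p hd hp) (card_Y d p q hd hp hq)
  obtain ⟨e2⟩ := psl_iso_L11 (F := ZMod 11) (ZMod.card 11)
  exact ⟨e1.trans e2.symm⟩

end Cfsg.Agent.S1601
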