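import Cfsg.Statements.S1604
import Cfsg.Agent.Lib.Helper1.M24Y

set_option autoImplicit false
open scoped Pointwise
open Cfsg

namespace Cfsg.Agent.S1604

open Cfsg.Agent.Lib.Helper1 Cfsg.Agent.Lib.Helper1.M24

set_option maxRecDepth 1000000 in
theorem count2 :
    octList.countP (fun m => (m.testBit 23 && m.testBit 0) && popcN 24 (O₀ &&& m) == 2) = 16 := by
  decide +kernel

set_option maxRecDepth 1000000 in
theorem count4 :
    octList.countP (fun m => (m.testBit 23 && m.testBit 0) && popcN 24 (O₀ &&& m) == 4) = 60 := by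
  decide +kernel

theorem count_k (p q : GolayPt) (o : Finset GolayPt) {g : P24} (hg : g ∈ M24)
    (hgo : g • o = O₀fin) (hgp : g p = gUnidx 23) (hgq : g q = gUnidx 0) (k : ℕ) :
    {x | x ∈ octads ∧ p ∈ x ∧ q ∈ x ∧ (o ∩ x).card = k}.ncard =
      octList.countP (fun m => (m.testBit 23 && m.testBit 0) && popcN 24 (O₀ &&& m) == k) := by
  apply flag_count_transport (fun x => p ∈ x ∧ q ∈ x ∧ (o ∩ x).card = k)
    (fun x => gUnidx 23 ∈ x ∧ gUnidx 0 ∈ x ∧ (O₀fin ∩ x).card = k) _ hg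
  · intro o'
    rw [← hgp, ← hgq, apply_mem_smul_iff, apply_mem_smul_iff, ← hgo, card_inter_smul]
  · intro m _
    rw [mem_sp, mem_sp, gIdx_gUnidx 23 (by norm_num), gIdx_gUnidx 0 (by norm_num),
      card_O₀fin_inter, Bool.and_eq_true, Bool.and_eq_true, beq_iff_eq, and_assoc]

/-- A hexad stabiliser in the two-point stabiliser has orbits of sizes 1, 16, 60 on the 77 hexads: the 16 hexads disjoint from it and the 60 meeting it in two points. -/
theorem result (p q : Cfsg.GolayPt) (hpq : p ≠ q) (o o' o'' : Finset Cfsg.GolayPt) (ho : o ∈ Cfsg.octads) (ho' : o' ∈ Cfsg.octads) (ho'' : o'' ∈ Cfsg.octads) (hp : p ∈ o ∧ p ∈ o' ∧ p ∈ o'') (hq : q ∈ o ∧ q ∈ o' ∧ q ∈ o'') (h : (o ∩ o').card = (o ∩ o'').card) : {x : Finset Cfsg.GolayPt | x ∈ Cfsg.octads ∧ p ∈ x ∧ q ∈ x ∧ (o ∩ x).card = 2}.ncard = 16 ∧ {x : Finset Cfsg.GolayPt | x ∈ Cfsg.octads ∧ p ∈ x ∧ q ∈ x ∧ (o ∩ x).card = 4}.ncard = 60 ∧ ∃ g : Equiv.Perm Cfsg.GolayPt,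 g ∈ Cfsg.M24 ∧ g p = p ∧ g q = q ∧ g • o = o ∧ g • o' = o'' := by
  obtain ⟨g, hg, hgo, hgl⟩ := octad_list_trans o O₀fin ho O₀fin_mem [p, q] [gUnidx 23, gUnidx 0]
    (by simpa using hpq) (by decide) (by simpa using ⟨hp.1, hq.1⟩)
    (by
      intro x hx
      rw [mem_O₀fin_iff]
      revert x
      decide) rfl (by simp)
  have hgp : g p = gUnidx 23 := by simpa using (List.cons_eq_cons.mp hgl).1
  have hgq : g q = gUnidx 0 := by
    simpa using (List.cons_eq_cons.mp (List.cons_eq_cons.mp hgl).2).1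
  refine ⟨?_, ?_, ?_⟩
  · rw [count_k p q o hg hgo hgp hgq 2, count2]
  · rw [count_k p q o hg hgo hgp hgq 4, count4]
  · have hfam : ∀ (x : Finset GolayPt), p ∈ x → q ∈ x → ∀ m, g • x = sp m → famPQO m = true := by
      intro x hpx hqx m hm
      unfold famPQO
      rw [Bool.and_eq_true, ← gIdx_gUnidx 23 (by norm_num), ← mem_sp, ← hm, ← hgp,
        apply_mem_smul_iff]
      refine ⟨hpx, ?_⟩
      have : (0 : ℕ) = gIdx (gUnidx 0) := (gIdx_gUnidx 0 (by norm_num)).symm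
      rw [this, ← mem_sp, ← hm, ← hgq, apply_mem_smul_iff]
      exact hqx
    obtain ⟨τ, hτ, h1, h2, h3⟩ := flag_trans_transport (fx := [23, 0]) famPQO
      (fun m m' hm hm' hf hf' hi => transPQO gensPQO_mem m m' hm hm' hf hf' hi) hg hgo ho' ho''
      (hfam o' hp.2.1 hq.2.1) (hfam o'' hp.2.2 hq.2.2) h
    exact ⟨τ, hτ, h3 p ⟨23, by simp, hgp⟩, h3 q ⟨0, by simp, hgq⟩, h1, h2⟩

end Cfsg.Agent.S1604
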