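import Cfsg.Statements.S1605
import Cfsg.Agent.Lib.Helper1.M24Y

set_option autoImplicit false
open scoped Pointwise
open Cfsg

namespace Cfsg.Agent.S1605

open Cfsg.Agent.Lib.Helper1 Cfsg.Agent.Lib.Helper1.M24

set_option maxRecDepth 1000000 in
theorem count_all : octList.countP (fun m => m.testBit 23 && !m.testBit 4) = 176 := by
  decide +kernel

set_option maxRecDepth 1000000 in
theorem count2 :
    octList.countP (fun m => (m.testBit 23 && !m.testBit 4) && popcN 24 (O₀ &&& m) == 2) = 70 := by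
  decide +kernel

set_option maxRecDepth 1000000 in
theorem count4 :
    octList.countP (fun m => (m.testBit 23 && !m.testBit 4) && popcN 24 (O₀ &&& m) == 4) = 105 := by
  decide +kernel

theorem fam_iff (m : ℕ) :
    (gUnidx 23 ∈ sp m ∧ gUnidx 4 ∉ sp m) ↔ (m.testBit 23 && !m.testBit 4) = true := by
  rw [mem_sp, mem_sp, gIdx_gUnidx 23 (by norm_num), gIdx_gUnidx 4 (by norm_num),
    Bool.and_eq_true, Bool.not_eq_true', Bool.not_eq_true]

theorem count_k (p q : GolayPt) (o : Finset GolayPt) {g : P24} (hg : g ∈ M24)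
    (hgo : g • o = O₀fin) (hgp : g p = gUnidx 23) (hgq : g q = gUnidx 4) (k : ℕ) :
    {x | (x ∈ octads ∧ p ∈ x ∧ q ∉ x) ∧ (o ∩ x).card = k}.ncard =
      octList.countP (fun m => (m.testBit 23 && !m.testBit 4) && popcN 24 (O₀ &&& m) == k) := by
  have e : {x | (x ∈ octads ∧ p ∈ x ∧ q ∉ x) ∧ (o ∩ x).card = k} =
      {x | x ∈ octads ∧ ((p ∈ x ∧ q ∉ x) ∧ (o ∩ x).card = k)} := by
    ext x
    simp only [Set.mem_ofPred_eq, and_assoc]
  rw [e]
  apply flag_count_transport (fun x => (p ∈ x ∧ q ∉ x) ∧ (o ∩ x).card = k)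
    (fun x => (gUnidx 23 ∈ x ∧ gUnidx 4 ∉ x) ∧ (O₀fin ∩ x).card = k) _ hg
  · intro o'
    rw [← hgp, ← hgq, apply_mem_smul_iff, apply_mem_smul_iff, ← hgo, card_inter_smul]
  · intro m _
    rw [fam_iff, card_O₀fin_inter, Bool.and_eq_true (_ && _), beq_iff_eq]

theorem flag (p q : GolayPt) (o : Finset GolayPt) (ho : o ∈ octads) (hp : p ∈ o) (hq : q ∉ o) :
    ∃ g ∈ M24, g • o = O₀fin ∧ g p = gUnidx 23 ∧ g q = gUnidx 4 := by
  obtain ⟨g, hg, hgo, hgl, hgq⟩ := octad_list_out_trans o ho [p] [gUnidx 23]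
    (List.nodup_singleton _) (List.nodup_singleton _) (by simpa using hp)
    (by
      intro x hx
      rw [mem_O₀fin_iff]
      revert x
      decide) rfl (by simp) q hq
  exact ⟨g, hg, hgo, by simpa using hgl, hgq⟩

/-- The two-point stabiliser acts on the 176 octads through the first point avoiding the second with rank 3 and subdegrees 1, 70, 105 (intersections 8, 2, 4). -/
theorem result (p q : Cfsg.GolayPt) (hpq : p ≠ q) : {x : Finset Cfsg.GolayPt | (x ∈ Cfsg.octads ∧ p ∈ x ∧ q ∉ x)}.ncard = 176 ∧ (∀ o o' : Finset Cfsg.GolayPt, (o ∈ Cfsg.octads ∧ p ∈ o ∧ q ∉ o) → (o' ∈ Cfsg.octads ∧ p ∈ o' ∧ q ∉ o') → ∃ g : Equiv.Perm Cfsg.GolayPt, g ∈ Cfsg.M24 ∧ g p = p ∧ g q = q ∧ g • o = o') ∧ ∀ o : Finset Cfsg.GolayPt, (o ∈ Cfsg.octads ∧ p ∈ o ∧ q ∉ o) → {x : Finset Cfsg.GolayPt | (x ∈ Cfsg.octads ∧ p ∈ x ∧ q ∉ x) ∧ (o ∩ x).card = 2}.ncard = 70 ∧ {x : Finset Cfsg.GolayPt | (x ∈ Cfsg.octads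 ∧ p ∈ x ∧ q ∉ x) ∧ (o ∩ x).card = 4}.ncard = 105 ∧ ∀ o' o'' : Finset Cfsg.GolayPt, (o' ∈ Cfsg.octads ∧ p ∈ o' ∧ q ∉ o') → (o'' ∈ Cfsg.octads ∧ p ∈ o'' ∧ q ∉ o'') → (o ∩ o').card = (o ∩ o'').card → ∃ g : Equiv.Perm Cfsg.GolayPt, g ∈ Cfsg.M24 ∧ g p = p ∧ g q = q ∧ g • o = o ∧ g • o' = o'' := by
  refine ⟨?_, ?_, ?_⟩
  · -- the count of all such octads
    have h2 := two_transitive
    rw [MulAction.is_two_pretransitive_iff] at h2
    obtain ⟨g, hgp, hgq⟩ := h2 (a := p) (b := q) (c := gUnidx 23) (d := gUnidx 4) hpq (by decide)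
    rw [← count_all]
    apply flag_count_transport (fun x => p ∈ x ∧ q ∉ x)
      (fun x => gUnidx 23 ∈ x ∧ gUnidx 4 ∉ x) _ g.2
    · intro o'
      rw [← hgp, ← hgq]
      exact and_congr (apply_mem_smul_iff g.1 o' p) (not_congr (apply_mem_smul_iff g.1 o' q))
    · intro m _
      exact fam_iff m
  · rintro o o' ⟨ho, hp, hq⟩ ⟨ho', hp', hq'⟩
    obtain ⟨g₁, hg₁, h1, h1p, h1q⟩ := flag p q o ho hp hq
    obtain ⟨g₂, hg₂, h2, h2p, h2q⟩ := flag p q o' ho' hp' hq'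
    refine ⟨g₂⁻¹ * g₁, M24.mul_mem (M24.inv_mem hg₂) hg₁, ?_, ?_, ?_⟩
    · rw [Equiv.Perm.mul_apply, Equiv.Perm.inv_eq_iff_eq, h1p, h2p]
    · rw [Equiv.Perm.mul_apply, Equiv.Perm.inv_eq_iff_eq, h1q, h2q]
    · rw [mul_smul, h1, ← h2, inv_smul_smul]
  · rintro o ⟨ho, hp, hq⟩
    obtain ⟨g, hg, hgo, hgp, hgq⟩ := flag p q o ho hp hq
    refine ⟨?_, ?_, ?_⟩
    · rw [count_k p q o hg hgo hgp hgq 2, count2]
    · rw [count_k p q o hg hgo hgp hgq 4, count4]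
    · rintro o' o'' ⟨ho', hp', hq'⟩ ⟨ho'', hp'', hq''⟩ h
      have hfam : ∀ (x : Finset GolayPt), p ∈ x → q ∉ x → ∀ m, g • x = sp m → famPYO m = true := by
        intro x hpx hqx m hm
        unfold famPYO
        rw [← fam_iff, ← hm, ← hgp, ← hgq, apply_mem_smul_iff, apply_mem_smul_iff]
        exact ⟨hpx, hqx⟩
      obtain ⟨τ, hτ, h1, h2, h3⟩ := flag_trans_transport (fx := [23, 4]) famPYO
        (fun m m' hm hm' hf hf' hi => transPYO gensPYO_mem m m' hm hm' hf hf' hi) hg hgo ho' ho''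
        (hfam o' hp' hq') (hfam o'' hp'' hq'') h
      exact ⟨τ, hτ, h3 p ⟨23, by simp, hgp⟩, h3 q ⟨4, by simp, hgq⟩, h1, h2⟩

end Cfsg.Agent.S1605
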