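import Cfsg.Statements.S1606
import Cfsg.Agent.Lib.Helper1.M22Sub1
import Cfsg.Agent.Lib.Helper1.M24E

set_option autoImplicit false
open scoped Pointwise
open Cfsg

namespace Cfsg.Agent.S1606

open Cfsg.Agent.Lib.Helper1

theorem mem_M22_iff (x : Equiv.Perm GolayPt) :
    x ∈ Spor.M22 ↔ x ∈ M24 ∧ x none = none ∧ x (some 0) = some 0 := by
  unfold Spor.M22 Spor.M23
  simp only [Subgroup.mem_inf, MulAction.mem_stabilizer_iff, Equiv.Perm.smul_def, and_assoc]

theorem mem_stab_iff (p q : GolayPt) (g : ↥Cfsg.M24) :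
    g ∈ MulAction.stabilizer Cfsg.M24 p ⊓ MulAction.stabilizer Cfsg.M24 q ↔ g.1 p = p ∧ g.1 q = q := by
  rw [Subgroup.mem_inf, MulAction.mem_stabilizer_iff, MulAction.mem_stabilizer_iff]
  rfl

/-- conjugation to the standard two points -/
def stabEquiv (p q : GolayPt) (τ : Equiv.Perm GolayPt) (hτ : τ ∈ M24) (hτp : τ none = p)
    (hτq : τ (some 0) = q) :
    ↥(MulAction.stabilizer Cfsg.M24 p ⊓ MulAction.stabilizer Cfsg.M24 q) ≃* ↥Spor.M22 where
  toFun g := ⟨τ⁻¹ * g.1.1 * τ, by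
    obtain ⟨h1, h2⟩ := (mem_stab_iff p q g.1).mp g.2
    rw [mem_M22_iff]
    refine ⟨M24.mul_mem (M24.mul_mem (M24.inv_mem hτ) g.1.2) hτ, ?_, ?_⟩
    · rw [Equiv.Perm.mul_apply, Equiv.Perm.mul_apply, hτp, h1, ← hτp]; simp
    · rw [Equiv.Perm.mul_apply, Equiv.Perm.mul_apply, hτq, h2, ← hτq]; simp⟩
  invFun k := ⟨⟨τ * k.1 * τ⁻¹, by
      have hk := (mem_M22_iff k.1).mp k.2
      exact M24.mul_mem (M24.mul_mem hτ hk.1) (M24.inv_mem hτ)⟩, by
    have hk := (mem_M22_iff k.1).mp k.2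
    rw [mem_stab_iff]
    constructor
    · show (τ * k.1 * τ⁻¹) p = p
      rw [Equiv.Perm.mul_apply, Equiv.Perm.mul_apply, ← hτp]; simp [hk.2.1]
    · show (τ * k.1 * τ⁻¹) q = q
      rw [Equiv.Perm.mul_apply, Equiv.Perm.mul_apply, ← hτq]; simp [hk.2.2]⟩
  left_inv := by
    intro g
    apply Subtype.ext
    apply Subtype.ext
    simp only
    group
  right_inv := by
    intro k
    apply Subtype.ext
    simp only
    group
  map_mul' := by
    intro a b
    apply Subtype.ext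
    simp only [Subgroup.coe_mul]
    group

/-- The stabiliser of two points in the group of the length-24 code has no subgroups of index 56 or 210. -/
theorem result (p q : Cfsg.GolayPt) (hpq : p ≠ q) (H : Subgroup ↥(MulAction.stabilizer Cfsg.M24 p ⊓ MulAction.stabilizer Cfsg.M24 q)) : H.index ≠ 56 ∧ H.index ≠ 210 := by
  obtain ⟨τ, hτ, hτp, hτq⟩ : ∃ τ ∈ M24, τ none = p ∧ τ (some 0) = q := by
    have h2 := Cfsg.Agent.Lib.Helper1.M24.two_transitive
    rw [MulAction.is_two_pretransitive_iff] at h2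
    obtain ⟨g, h1, h2⟩ := h2 (a := (none : GolayPt)) (b := some 0) (c := p) (d := q) (by decide) hpq
    exact ⟨g.1, g.2, h1, h2⟩
  have h := M22S.index_ne (H.map ((stabEquiv p q τ hτ hτp hτq : _ ≃* _) : _ →* _))
  rwa [Subgroup.index_map_equiv] at h

end Cfsg.Agent.S1606
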