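import Cfsg.Statements.S1608
import Cfsg.Agent.Lib.Helper1.M24Y

set_option autoImplicit false
open scoped Pointwise
open Cfsg

namespace Cfsg.Agent.S1608

open Cfsg.Agent.Lib.Helper1 Cfsg.Agent.Lib.Helper1.M24

set_option maxRecDepth 1000000 in
theorem count0 : octList.countP (fun m => !m.testBit 4 && popcN 24 (O₀ &&& m) == 0) = 15 := by
  decide +kernel

set_option maxRecDepth 1000000 in
theorem count4 : octList.countP (fun m => !m.testBit 4 && popcN 24 (O₀ &&& m) == 4) = 210 := by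
  decide +kernel

set_option maxRecDepth 1000000 in
theorem count2 : octList.countP (fun m => !m.testBit 4 && popcN 24 (O₀ &&& m) == 2) = 280 := by
  decide +kernel

theorem count_k (x : GolayPt) (o : Finset GolayPt) {g : P24} (hg : g ∈ M24)
    (hgo : g • o = O₀fin) (hgx : g x = gUnidx 4) (k : ℕ) :
    {o' | o' ∈ octads ∧ x ∉ o' ∧ (o ∩ o').card = k}.ncard =
      octList.countP (fun m => !m.testBit 4 && popcN 24 (O₀ &&& m) == k) := by
  apply flag_count_transport (fun o' => x ∉ o' ∧ (o ∩ o').card = k)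
    (fun p => gUnidx 4 ∉ p ∧ (O₀fin ∩ p).card = k) _ hg
  · intro o'
    rw [← hgx, apply_mem_smul_iff, ← hgo, card_inter_smul]
  · intro m _
    rw [mem_sp, gIdx_gUnidx 4 (by norm_num), card_O₀fin_inter, Bool.and_eq_true, beq_iff_eq,
      Bool.not_eq_true', Bool.not_eq_true]

/-- The point stabiliser acts on the 506 octads avoiding the point with rank 4 and subdegrees 1, 15, 210, 280, the suborbits being given by intersection size with the fixed octad. -/
theorem result (x : Cfsg.GolayPt) (o : Finset Cfsg.GolayPt) (ho : o ∈ Cfsg.octads) (hx : x ∉ o) : {o' : Finset Cfsg.GolayPt | o' ∈ Cfsg.octads ∧ x ∉ o' ∧ (o ∩ o').card = 0}.ncard = 15 ∧ {o' : Finset Cfsg.GolayPt | o' ∈ Cfsg.octads ∧ x ∉ o' ∧ (o ∩ o').card = 4}.ncard = 210 ∧ {o' : Finset Cfsg.GolayPt | o' ∈ Cfsg.octads ∧ x ∉ o' ∧ (o ∩ o').card = 2}.ncard = 280 ∧ ∀ o' o'' : Finset Cfsg.GolayPt, o' ∈ Cfsg.octads → o'' ∈ Cfsg.octads → x ∉ o' → x ∉ o'' → (o ∩ o').card = (o ∩ o'').card → ∃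 g : Equiv.Perm Cfsg.GolayPt, g ∈ Cfsg.M24 ∧ g x = x ∧ g • o = o ∧ g • o' = o'' := by
  obtain ⟨g, hg, hgo, -, hgx⟩ := octad_list_out_trans o ho [] [] List.nodup_nil List.nodup_nil
    (by simp) (by simp) rfl (by simp) x hx
  refine ⟨?_, ?_, ?_, ?_⟩
  · rw [count_k x o hg hgo hgx 0, count0]
  · rw [count_k x o hg hgo hgx 4, count4]
  · rw [count_k x o hg hgo hgx 2, count2]
  · intro o' o'' ho' ho'' hxo' hxo'' h
    have hfam : ∀ (p : Finset GolayPt), x ∉ p → ∀ m, g • p = sp m → famYO m = true := by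
      intro p hxp m hm
      unfold famYO
      rw [Bool.not_eq_true', ← Bool.not_eq_true, ← gIdx_gUnidx 4 (by norm_num), ← mem_sp, ← hm,
        ← hgx, apply_mem_smul_iff]
      exact hxp
    obtain ⟨τ, hτ, h1, h2, h3⟩ := flag_trans_transport (fx := [4]) famYO
      (fun m m' hm hm' hf hf' hi => transYO gensYO_mem m m' hm hm' hf hf' hi) hg hgo ho' ho''
      (hfam o' hxo') (hfam o'' hxo'') h
    exact ⟨τ, hτ, h3 x ⟨4, List.mem_singleton_self _, hgx⟩, h1, h2⟩

end Cfsg.Agent.S1608
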