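import Mathlib
import Cfsg.Statements.S1618
import Cfsg.Agent.Lib.Lead.InvProdP
import Cfsg.Agent.Lib.Helper6.PCore
import Cfsg.Agent.Lib.Helper9.PCore

set_option autoImplicit false
open Cfsg

namespace Cfsg.Agent.S1618

/-- If a finite group is generated by a conjugacy class D of involutions such that the product of any two distinct members of D has order a power of a fixed odd prime p, then the derived subgroup is nilpotent. -/
theorem result {G : Type*} [Group G] [Finite G] (p : ℕ) (hp : p.Prime) (hodd : p ≠ 2) {D : Set G} (hinv : ∀ d ∈ D, orderOf d = 2) (hconj : ∃ d ∈ D, D = conjugatesOf d) (hgen : Subgroup.closure D = ⊤) (hprod : ∀ x ∈ D, ∀ y ∈ D, x ≠ y → ∃ k : ℕ, orderOf (x * y) = p ^ k) : Group.IsNilpotent ↥(commutator G) := by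
  classical
  obtain ⟨d, hdD, hD⟩ := hconj
  haveI : Fact p.Prime := ⟨hp⟩
  have hd := hinv d hdD
  have hprod' : ∀ a ∈ conjugatesOf d, ∀ b ∈ conjugatesOf d, ∃ k : ℕ, orderOf (a * b) = p ^ k := by
    intro a ha b hb
    by_cases hab : a = b
    · subst hab
      refine ⟨0, ?_⟩
      have h2 : orderOf a = 2 := hinv a (hD ▸ ha)
      have h3 : a * a = 1 := by rw [← pow_two, ← h2, pow_orderOf_eq_one]
      rw [h3, orderOf_one, pow_zero]
    · exact hprod a (hD ▸ ha) b (hD ▸ hb) hab
  have hmain := Cfsg.Agent.Lib.Lead.InvProdP.main hp hodd d hd hprod'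
  haveI hN : (pCore p G).Normal := Cfsg.Agent.Lib.Helper9.pCore_normal' p
  have hdd : d * d = 1 := by rw [← pow_two, ← hd, pow_orderOf_eq_one]
  have hdself : d ∈ conjugatesOf d := mem_conjugatesOf_self
  have hpow : ∀ g : G, (QuotientGroup.mk' (pCore p G)) g ∈
      Subgroup.zpowers ((QuotientGroup.mk' (pCore p G)) d) := by
    have hle : Subgroup.closure D ≤
        (Subgroup.zpowers ((QuotientGroup.mk' (pCore p G)) d)).comap (QuotientGroup.mk' (pCore p G)) := by
      rw [Subgroup.closure_le]
      intro x hx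
      rw [hD] at hx
      have h1 := hmain x hx d hdself
      show (QuotientGroup.mk' (pCore p G)) x ∈ Subgroup.zpowers ((QuotientGroup.mk' (pCore p G)) d)
      have h2 : (QuotientGroup.mk' (pCore p G)) x = (QuotientGroup.mk' (pCore p G)) d := by
        have h3 : (QuotientGroup.mk' (pCore p G)) (x * d) = 1 := by
          rw [QuotientGroup.mk'_apply, QuotientGroup.eq_one_iff]; exact h1
        have h4 : (QuotientGroup.mk' (pCore p G)) (d * d) = 1 := by rw [hdd, map_one]
        rw [map_mul] at h3 h4
        have h5 : (QuotientGroup.mk' (pCore p G)) x = ((QuotientGroup.mk' (pCore p G)) d)⁻¹ :=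
          eq_inv_of_mul_eq_one_left h3
        have h6 : (QuotientGroup.mk' (pCore p G)) d = ((QuotientGroup.mk' (pCore p G)) d)⁻¹ :=
          eq_inv_of_mul_eq_one_left h4
        rw [h5, ← h6]
      rw [h2]
      exact Subgroup.mem_zpowers _
    intro g
    have : g ∈ Subgroup.closure D := by rw [hgen]; trivial
    exact hle this
  have hle : commutator G ≤ pCore p G := by
    rw [commutator_def, Subgroup.commutator_le]
    intro g _ h _
    rw [← QuotientGroup.eq_one_iff, ← QuotientGroup.mk'_apply, map_commutatorElement,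
      commutatorElement_eq_one_iff_commute]
    obtain ⟨i, hi⟩ := hpow g
    obtain ⟨j, hj⟩ := hpow h
    rw [← hi, ← hj]
    exact Commute.zpow_zpow_self _ i j
  have hpg : IsPGroup p (commutator G) :=
    (Cfsg.Agent.Lib.Helper6.pCore_isPGroup (G := G) p).to_le hle
  exact hpg.isNilpotent

end Cfsg.Agent.S1618
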