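import Cfsg.Statements.S1623
import Cfsg.Agent.Lib.Helper4.J2C.C5

set_option autoImplicit false
open Quaternion
open Cfsg

namespace Cfsg.Agent.S1623

/-- A reflection centraliser in the Hall–Janko group is an extension of an extraspecial group of order 32 by the alternating group of degree 5. -/
theorem result (f : Equiv.Perm ↥Cfsg.Spor.icoLeech) (hf : Cfsg.Spor.IsIcoReflection f) (hfm : f ∈ Cfsg.Spor.twoJ2) : ∃ (Q : Subgroup ↥(Subgroup.centralizer {(QuotientGroup.mk ⟨f, hfm⟩ : Cfsg.Spor.J2)})) (_ : Q.Normal), Nat.card Q = 32 ∧ Cfsg.IsExtraspecial 2 Q ∧ Nonempty (↥(Subgroup.centralizer {(QuotientGroup.mk ⟨f, hfm⟩ : Cfsg.Spor.J2)}) ⧸ Q ≃* alternatingGroup (Fin 5)) := by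
  open Cfsg.Agent.Lib.Helper4.J2 Cfsg.Agent.Lib.Helper4.J2C Cfsg.Spor in
  have h0 : IsIcoReflection (gen 0) := by
    rw [gen_zero, reflOf_eq (rl_good (by norm_num))]
    exact reflP_isIcoReflection _ _ _
  obtain ⟨g, hg, e⟩ := conj_refl h0 hf
  have hz : (QuotientGroup.mk ⟨f, hfm⟩ : J2) =
      QuotientGroup.mk ⟨g, hg⟩ * QuotientGroup.mk (genT 0) * (QuotientGroup.mk ⟨g, hg⟩)⁻¹ := by
    rw [← QuotientGroup.mk_mul, ← QuotientGroup.mk_inv, ← QuotientGroup.mk_mul]
    congr 1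
    exact Subtype.ext e.symm
  have h1 : CentProp J2 (QuotientGroup.mk (genT 0)) := by
    apply centProp_of_equiv isoJ2
    have : isoJ2 (QuotientGroup.mk (genT 0)) = a0 := by
      unfold isoJ2
      rw [MulEquiv.trans_apply, MulEquiv.symm_apply_eq]
      unfold j2Equiv
      rw [QuotientGroup.quotientMulEquivOfEq_mk]
      exact (psi_of 0).symm
    rw [this]
    exact centProp_a0
  have h2 := centProp_conj (QuotientGroup.mk ⟨g, hg⟩ : J2) _ h1
  rw [← hz] at h2
  exact h2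

end Cfsg.Agent.S1623
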