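import Cfsg.Statements.S1624
import Cfsg.Agent.Lib.Helper4.J2U.U3
import Cfsg.Agent.Lib.Helper4.J2U.U4
import Cfsg.Agent.Lib.Helper4.J2.H10

set_option autoImplicit false
open Quaternion
open Cfsg

namespace Cfsg.Agent.S1624

/-- The Hall–Janko group contains PSU(3, 3) with index 100 and acts on the 100 cosets with rank 3 and subdegrees 1, 36, 63. -/
theorem result : ∃ H : Subgroup Cfsg.Spor.J2, H.index = 100 ∧ (∃ (F : Type) (_ : Field F) (_ : Fintype F), Fintype.card F = 9 ∧ Nonempty (↥H ≃* Cfsg.PSU 3 F 3)) ∧ ∃ c₁ c₂ : Cfsg.Spor.J2 ⧸ H, (MulAction.orbit ↥H c₁).ncard = 36 ∧ (MulAction.orbit ↥H c₂).ncard = 63 := by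
  open Cfsg.Agent.Lib.Helper4.J2 Cfsg.Agent.Lib.Helper4.J2U in
  obtain ⟨hidx, q1, q2, h1, h2⟩ := Cfsg.Agent.Lib.Helper6.J2Idx.orbits_thm
  obtain ⟨c1, hc1⟩ := exists_orbit_ncard isoJ2 St 36 q1 h1
  obtain ⟨c2, hc2⟩ := exists_orbit_ncard isoJ2 St 63 q2 h2
  refine ⟨St.comap isoJ2.toMonoidHom, ?_, ?_, c1, c2, hc1, hc2⟩
  · rw [index_comap_equiv]
    exact hidx
  · obtain ⟨e⟩ := St_equiv
    exact ⟨Cfsg.Agent.Lib.Helper1.U43.F9c, inferInstance, inferInstance, rfl,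
      ⟨(comapEquiv isoJ2 St).trans e⟩⟩

end Cfsg.Agent.S1624
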