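import Cfsg.Statements.S1626
import Cfsg.Agent.Lib.Helper6.Spor.J3Orb3

set_option autoImplicit false
open scoped MatrixGroups
open Matrix
open Cfsg

namespace Cfsg.Agent.S1626

open Cfsg.Spor Cfsg.Agent.Lib.Helper1.Hexa
open Cfsg.Agent.Lib.Helper6.J3GL Cfsg.Agent.Lib.Helper6.J3Orb

section transfer
variable {F : Type} [Field F] (σ : F4 ≃+* F)

/-- the vector with the images of the coordinates -/
def mapV (v : F9 → F4) : F9 → F := fun z => σ (v z)

theorem mapV_injective : Function.Injective (mapV σ) := by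
  intro v v' h
  funext z
  exact σ.injective (congrFun h z)

theorem mapV_smul (c : F4) (v : F9 → F4) : mapV σ (c • v) = σ c • mapV σ v := by
  funext z
  show σ (c * v z) = σ c * σ (v z)
  exact map_mul σ _ _

theorem mapV_single : mapV σ (Pi.single (0 : F9) (1 : F4)) = Pi.single (0 : F9) (1 : F) := by
  funext z
  unfold mapV
  by_cases hz : z = 0
  · subst hz
    rw [Pi.single_eq_same, Pi.single_eq_same, map_one]
  · rw [Pi.single_eq_of_ne hz, Pi.single_eq_of_ne hz, map_zero]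

theorem mapV_mulVec (g : GL9) (v : F9 → F4) :
    (theta σ g).val *ᵥ mapV σ v = mapV σ (g.val *ᵥ v) := by
  funext i
  rw [theta_val]
  exact (RingHom.map_mulVec (σ : F4 →+* F) g.val v i).symm

theorem mapV_symm (v : F9 → F) : mapV σ (fun z => σ.symm (v z)) = v := by
  funext z
  exact σ.apply_symm_apply _

variable (ω : F)

theorem theta_mem (hσ : σ F4.w = ω) {g : GL9} (hg : g ∈ M4) : theta σ g ∈ threeJ3 F ω := by
  rw [← map_threeJ3 σ ω hσ]
  exact Subgroup.mem_map_of_mem _ hg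

theorem exists_theta (hσ : σ F4.w = ω) {g : GL F9 F} (hg : g ∈ threeJ3 F ω) :
    ∃ g' ∈ M4, theta σ g' = g := by
  rw [← map_threeJ3 σ ω hσ] at hg
  obtain ⟨g', hg', rfl⟩ := hg
  exact ⟨g', hg', rfl⟩

theorem part2 (hσ : σ F4.w = ω) (v w : F9 → F) (hv : v ≠ 0) (hw : w ≠ 0)
    (hv3 : ∑ z, (v z) ^ 3 = 0) (hw3 : ∑ z, (w z) ^ 3 = 0) :
    ∃ g ∈ threeJ3 F ω, ∃ c : F, c ≠ 0 ∧ (g : Matrix F9 F9 F) *ᵥ v = c • w := by
  have key : ∀ u : F9 → F, u ≠ 0 → ∑ z, (u z) ^ 3 = 0 →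
      (fun z => σ.symm (u z)) ≠ 0 ∧ ∑ z, ((fun z => σ.symm (u z)) z) ^ 3 = 0 := by
    intro u hu hu3
    constructor
    · intro h0
      apply hu
      rw [← mapV_symm σ u, h0]
      funext z
      exact map_zero σ
    · have : ∑ z, (σ.symm (u z)) ^ 3 = σ.symm (∑ z, (u z) ^ 3) := by
        rw [map_sum]
        apply Finset.sum_congr rfl
        intro z _
        rw [map_pow]
      rw [this, hu3, map_zero]
  obtain ⟨hv', hv3'⟩ := key v hv hv3
  obtain ⟨hw', hw3'⟩ := key w hw hw3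
  obtain ⟨g', hg', e⟩ := iso_transitive _ _ hv' hw' hv3' hw3'
  refine ⟨theta σ g', theta_mem σ ω hσ hg', 1, one_ne_zero, ?_⟩
  rw [one_smul]
  conv_lhs => rw [← mapV_symm σ v]
  rw [mapV_mulVec, e, mapV_symm]

theorem part1 (hσ : σ F4.w = ω) :
    {L : Submodule F (F9 → F) | ∃ g ∈ threeJ3 F ω,
      L = F ∙ ((g : Matrix F9 F9 F) *ᵥ (Pi.single (0 : F9) (1 : F) : F9 → F))}.ncard = 23256 := by
  have himg : {L : Submodule F (F9 → F) | ∃ g ∈ threeJ3 F ω,
      L = F ∙ ((g : Matrix F9 F9 F) *ᵥ (Pi.single (0 : F9) (1 : F) : F9 → F))} =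
      (fun x => F ∙ mapV σ (vecOf x)) '' (NF : Set ℕ) := by
    ext L
    constructor
    · rintro ⟨g, hg, rfl⟩
      obtain ⟨g', hg', rfl⟩ := exists_theta σ ω hσ hg
      obtain ⟨x, hx, c, hc, e⟩ := line_rep g' hg'
      refine ⟨x, hx, ?_⟩
      show F ∙ mapV σ (vecOf x) = _
      rw [← mapV_single σ, mapV_mulVec, e, mapV_smul]
      have hu : IsUnit (σ c) := by
        rw [isUnit_iff_ne_zero]
        intro h0
        apply hc
        exact σ.injective (by rw [h0, map_zero])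
      exact (Submodule.span_singleton_smul_eq hu _).symm
    · rintro ⟨x, hx, rfl⟩
      obtain ⟨g', hg', e⟩ := rep_reach x hx
      refine ⟨theta σ g', theta_mem σ ω hσ hg', ?_⟩
      show F ∙ mapV σ (vecOf x) = _
      rw [← mapV_single σ, mapV_mulVec, e]
  rw [himg, Set.ncard_image_of_injOn, Set.ncard_coe_finset, card_NF]
  intro x hx y hy hxy
  have hxy' : F ∙ mapV σ (vecOf x) = F ∙ mapV σ (vecOf y) := hxy
  rw [Submodule.span_singleton_eq_span_singleton] at hxy'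
  obtain ⟨u, hu⟩ := hxy'
  have hc : σ.symm u.val ≠ 0 := by
    intro h0
    have : u.val = 0 := by
      have := congrArg σ h0
      rw [σ.apply_symm_apply, map_zero] at this
      exact this
    exact u.ne_zero this
  apply rep_inj x y hx hy (σ.symm u.val) hc
  apply mapV_injective σ
  rw [mapV_smul, σ.apply_symm_apply, ← hu]
  rfl

end transfer

/-- Orbits of the triple cover of the third Janko group on lines of its 9-space over the field with 4 elements: the line through the first basis vector has exactly 23256 images, and the isotropic lines (nonzero v with Σ v_z³ = 0) form a single orbit. -/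
theorem result (F : Type) [Field F] [Fintype F] (hF : Fintype.card F = 4) (ω : F) (hω : ω ^ 2 + ω + 1 = 0) : {L : Submodule F (Cfsg.Spor.F9 → F) | ∃ g ∈ Cfsg.Spor.threeJ3 F ω, L = F ∙ ((g : Matrix Cfsg.Spor.F9 Cfsg.Spor.F9 F) *ᵥ (Pi.single (0 : Cfsg.Spor.F9) (1 : F) : Cfsg.Spor.F9 → F))}.ncard = 23256 ∧ ∀ v w : Cfsg.Spor.F9 → F, v ≠ 0 → w ≠ 0 → ∑ z, (v z) ^ 3 = 0 → ∑ z, (w z) ^ 3 = 0 → ∃ g ∈ Cfsg.Spor.threeJ3 F ω, ∃ c : F, c ≠ 0 ∧ (g : Matrix Cfsg.Spor.F9 Cfsg.Spor.F9 F) *ᵥ v = c • w := by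
  obtain ⟨σ, hσ⟩ := exists_sigma hF ω hω
  exact ⟨part1 σ ω hσ, fun v w hv hw hv3 hw3 => part2 σ ω hσ v w hv hw hv3 hw3⟩

end Cfsg.Agent.S1626
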