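import Cfsg.Statements.S1628
import Cfsg.Agent.Lib.Helper1.RuL13

set_option autoImplicit false
open Cfsg

namespace Cfsg.Agent.S1628

open Cfsg.Agent.Lib.Helper1.RuLat in
/-- The Conway–Wales lattice as stored is even with no vectors of true norm 2: stored norms are multiples of 8, never equal to 8, and the minimum over nonzero vectors is 16. -/
theorem result : (∀ x ∈ Cfsg.Spor.ruLattice, (8 : ℤ) ∣ Cfsg.Spor.ruNorm x) ∧ (∀ x ∈ Cfsg.Spor.ruLattice, Cfsg.Spor.ruNorm x ≠ 8) ∧ (∀ x ∈ Cfsg.Spor.ruLattice, x ≠ 0 → 16 ≤ Cfsg.Spor.ruNorm x) ∧ ∃ x ∈ Cfsg.Spor.ruLattice, Cfsg.Spor.ruNorm x = 16 := by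
  refine ⟨eight_dvd_norm, norm_ne_eight, ?_, ?_⟩
  · intro x hx hne
    obtain ⟨m, hm⟩ := eight_dvd_norm x hx
    have h1 := norm_ne_eight x hx
    have h2 := ruNorm_nonneg x
    have h3 : ¬ Cfsg.Spor.ruNorm x ≤ 0 := fun h => hne (eq_zero_of_norm x h)
    omega
  · refine ⟨gen 37, gen_mem_ruLattice 37 (by norm_num), ?_⟩
    rw [ruNorm_eq_dotV, dotV_gen]
    have hl : (genTbl.getD 37 []).length = 56 := by decide
    unfold genF
    rw [dotF_decF _ _ hl hl]
    decide +kernel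

end Cfsg.Agent.S1628
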