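import Cfsg.Statements.S1632
import Cfsg.Agent.Lib.Lead.Th24_EIS
import Cfsg.Agent.Lib.Lead.Th24_S
import Cfsg.Agent.Lib.Lead.Th24_Q
import Cfsg.Agent.Lib.Helper5.Th24_MF

set_option autoImplicit false
open Matrix
open Cfsg

namespace Cfsg.Agent.S1632

open Cfsg.Agent.Lib.Helper6.Theta24 in
/-- An even unimodular lattice of rank 24 without roots has 196560, 16773120 and 398034000 vectors of norms 4, 6 and 8. -/
theorem result (B : Matrix (Fin 24) (Fin 24) ℤ) (hsymm : B.IsSymm) (hpos : ∀ x : Fin 24 → ℤ, x ≠ 0 → 0 < x ⬝ᵥ (B *ᵥ x)) (heven : ∀ x : Fin 24 → ℤ, (2 : ℤ) ∣ x ⬝ᵥ (B *ᵥ x)) (hdet : B.det = 1) (h2 : ∀ x : Fin 24 → ℤ, x ⬝ᵥ (B *ᵥ x) ≠ 2) : {x : Fin 24 → ℤ | x ⬝ᵥ (B *ᵥ x) = 4}.ncard = 196560 ∧ {x : Fin 24 → ℤ | x ⬝ᵥ (B *ᵥ x) = 6}.ncard = 16773120 ∧ {x : Fin 24 → ℤ | x ⬝ᵥ (B *ᵥ x) = 8}.ncard = 398034000 := by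
  have hB : Hyp B := ⟨hsymm, hpos, heven, hdet⟩
  obtain ⟨f, _, hc⟩ := PkMF.exists_thetaMF_of B (theta_S B hB) (theta_hasSum B hB)
  have h1 : cnt B 1 = 0 := by
    unfold cnt
    have : {x : Fin 24 → ℤ | qz B x = 2 * ((1 : ℕ) : ℤ)} = ∅ := by
      apply Set.eq_empty_of_forall_notMem
      intro x h
      exact h2 x (by simpa [qz] using h)
    rw [this, Set.ncard_empty]
  obtain ⟨c2, c3, c4⟩ := PkEIS.final_of_mf B f hc (cnt_zero B hB) h1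
  refine ⟨?_, ?_, ?_⟩
  · rw [← c2]; unfold cnt; congr 1
  · rw [← c3]; unfold cnt; congr 1
  · rw [← c4]; unfold cnt; congr 1

end Cfsg.Agent.S1632
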