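import Mathlib
import Cfsg.Statements.S1635
import Cfsg.Agent.Lib.Helper9.GolayConcrete

set_option autoImplicit false
open Cfsg

namespace Cfsg.Agent.S1635

open Cfsg.Agent.Lib.Helper9 Cfsg.Agent.Lib.Helper9.GolayG Finset

section
variable {α : Type*} [Fintype α] [DecidableEq α] {C : Submodule (ZMod 2) (α → ZMod 2)}

theorem sub_mem_comm (w v : α → ZMod 2) : w - v ∈ C ↔ v - w ∈ C := by
  rw [← neg_sub v w, Submodule.neg_mem_iff]

theorem light_set_eq (w : α → ZMod 2) :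
    {v : α → ZMod 2 | hammingNorm v ≤ 4 ∧ w - v ∈ C} = ↑(cosetT3 C w ∪ cosetT4 C w) := by
  ext v
  rw [Set.mem_setOf_eq, Finset.mem_coe, Finset.mem_union, mem_cosetT3, mem_cosetT4, sub_mem_comm]
  constructor
  · rintro ⟨h1, h2⟩
    by_cases h : hammingNorm v ≤ 3
    · exact Or.inl ⟨h, h2⟩
    · exact Or.inr ⟨by omega, h2⟩
  · rintro (⟨h1, h2⟩ | ⟨h1, h2⟩)
    · exact ⟨by omega, h2⟩
    · exact ⟨by omega, h2⟩

theorem light_ncard (w : α → ZMod 2) :
    {v : α → ZMod 2 | hammingNorm v ≤ 4 ∧ w - v ∈ C}.ncard =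
      (cosetT3 C w).card + (cosetT4 C w).card := by
  rw [light_set_eq, Set.ncard_coe_finset, Finset.card_union_of_disjoint]
  rw [Finset.disjoint_left]
  intro v h3 h4
  rw [mem_cosetT3] at h3
  rw [mem_cosetT4] at h4
  omega

theorem coset_leaders (hC : IsAbsGolay C) (w : α → ZMod 2) :
    ({v : α → ZMod 2 | hammingNorm v ≤ 4 ∧ w - v ∈ C}.ncard = 1 ∧
      ∃ v : α → ZMod 2, hammingNorm v ≤ 3 ∧ w - v ∈ C) ∨
    ({v : α → ZMod 2 | hammingNorm v ≤ 4 ∧ w - v ∈ C}.ncard = 6 ∧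
      ∀ v : α → ZMod 2, w - v ∈ C → hammingNorm v ≤ 4 → hammingNorm v = 4) := by
  rw [light_ncard]
  rcases coset_dichotomy hC w with ⟨h3, h4⟩ | ⟨h3, h4⟩
  · left
    refine ⟨by omega, ?_⟩
    have hne : (cosetT3 C w).Nonempty := by
      rw [← Finset.card_pos]
      omega
    obtain ⟨v, hv⟩ := hne
    rw [mem_cosetT3] at hv
    exact ⟨v, hv.1, (sub_mem_comm w v).2 hv.2⟩
  · right
    refine ⟨by omega, ?_⟩
    intro v hv h4'
    by_contra hne
    have : v ∈ cosetT3 C w := by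
      rw [mem_cosetT3]
      exact ⟨by omega, (sub_mem_comm w v).1 hv⟩
    rw [Finset.card_eq_zero] at h3
    rw [h3] at this
    exact Finset.notMem_empty _ this

end

/-- Coset leaders of the length-24 code: a coset contains a unique word of weight ≤ 3, or else exactly six words of weight 4 and none lighter. -/
theorem result (w : Cfsg.GolayPt → ZMod 2) : ({v : Cfsg.GolayPt → ZMod 2 | hammingNorm v ≤ 4 ∧ w - v ∈ Cfsg.golayCode}.ncard = 1 ∧ ∃ v : Cfsg.GolayPt → ZMod 2, hammingNorm v ≤ 3 ∧ w - v ∈ Cfsg.golayCode) ∨ ({v : Cfsg.GolayPt → ZMod 2 | hammingNorm v ≤ 4 ∧ w - v ∈ Cfsg.golayCode}.ncard = 6 ∧ ∀ v : Cfsg.GolayPt → ZMod 2, w - v ∈ Cfsg.golayCode → hammingNorm v ≤ 4 → hammingNorm v = 4) :=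
  coset_leaders golayCode_isAbsGolay w

end Cfsg.Agent.S1635
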