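import Cfsg.Statements.S1638
import Cfsg.Agent.Lib.Helper1.M24X3
import Cfsg.Agent.Lib.Helper1.M24W8

set_option autoImplicit false
open scoped Pointwise
open Cfsg

namespace Cfsg.Agent.S1638

open Cfsg.Agent.Lib.Helper1 Cfsg.Agent.Lib.Helper1.M24

/-- the stabilizer of the standard flag -/
abbrev HPQS : Subgroup P24 := M24 ⊓ FixL [23, 0] ⊓ MulAction.stabilizer P24 (sp 6)

theorem gensPQS_mem : ∀ e ∈ gensPQS, e.σ ∈ HPQS := by
  have h : ∀ e ∈ gensPQS, pm e.t 6 = 6 ∧ ∀ j ∈ [23, 0], j < 24 ∧ tg e.t j = j := by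
    decide +kernel
  intro e he
  refine ⟨⟨K_le e.mem, ?_⟩, ?_⟩
  · intro j hj
    rw [e.tab j ((h e he).2 j hj).1, ((h e he).2 j hj).2]
  · show e.σ • sp 6 = sp 6
    have := smul_support_eq_pm e 6
    rw [(h e he).1] at this
    exact this

set_option maxRecDepth 1000000 in
theorem octPQS_eq : octPQS = octList.filter (fun o => 8388615 &&& o == 8388615) := by
  decide +kernel

theorem sp_std : sp 8388615 = {gUnidx 23, gUnidx 0} ∪ sp 6 := by
  ext p
  rw [Finset.mem_union, Finset.mem_insert, Finset.mem_singleton, mem_sp, mem_sp]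
  revert p
  decide +kernel

theorem std_subset_iff (o : Finset GolayPt) :
    sp 8388615 ⊆ o ↔ gUnidx 23 ∈ o ∧ gUnidx 0 ∈ o ∧ sp 6 ⊆ o := by
  rw [sp_std, Finset.union_subset_iff, Finset.insert_subset_iff, Finset.singleton_subset_iff,
    and_assoc]

theorem std_disjoint_iff (t : Finset GolayPt) :
    Disjoint (sp 8388615) t ↔ (gUnidx 23 ∉ t ∧ gUnidx 0 ∉ t) ∧ Disjoint (sp 6) t := by
  rw [sp_std, Finset.disjoint_union_left, Finset.disjoint_insert_left,
    Finset.disjoint_singleton_left, and_assoc]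

theorem inOct_iff' (m : ℕ) (hm : m < 2 ^ 24) :
    (∃ o ∈ octads, gUnidx 23 ∈ o ∧ gUnidx 0 ∈ o ∧ sp 6 ∪ sp m ⊆ o) ↔ invPQS m = 1 := by
  have hlt : 6 ||| m < 2 ^ 24 := Nat.or_lt_two_pow (by norm_num) hm
  have e : invPQS m = 1 ↔ octPQS.any (fun o => (6 ||| m) &&& o == (6 ||| m)) = true := by
    unfold invPQS
    split_ifs with hc
    · simp [hc]
    · simp [hc]
  rw [e, List.any_eq_true, sp_union]
  constructor
  · rintro ⟨o, ho, h23, h0, h⟩
    obtain ⟨mo, hmo, rfl⟩ := exists_mask_of_mem_octads ho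
    have h6 : sp 6 ⊆ sp mo := by
      refine subset_trans ?_ h
      rw [← sp_union]
      exact Finset.subset_union_left
    have h1 := (std_subset_iff (sp mo)).mpr ⟨h23, h0, h6⟩
    rw [sp_subset_iff (by norm_num)] at h1
    rw [sp_subset_iff hlt] at h
    refine ⟨mo, ?_, by rw [beq_iff_eq]; exact h⟩
    rw [octPQS_eq, List.mem_filter, beq_iff_eq]
    exact ⟨hmo, h1⟩
  · rintro ⟨mo, hmo, h⟩
    rw [beq_iff_eq] at h
    rw [octPQS_eq, List.mem_filter, beq_iff_eq] at hmo
    have h1 := (std_subset_iff (sp mo)).mp ((sp_subset_iff (by norm_num)).mpr hmo.2)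
    exact ⟨sp mo, sp_mem_octads hmo.1, h1.1, h1.2.1, (sp_subset_iff hlt).mpr h⟩

theorem fam_iff (m : ℕ) :
    famPQS m = true ↔ (gUnidx 23 ∉ sp m ∧ gUnidx 0 ∉ sp m) ∧ Disjoint (sp 6) (sp m) := by
  unfold famPQS
  rw [beq_iff_eq, ← std_disjoint_iff, sp_disjoint_iff (by norm_num), Nat.land_comm]

set_option maxRecDepth 1000000 in
theorem count1 : (subMasks 24 2).countP (fun m => famPQS m && invPQS m == 1) = 30 := by
  decide +kernel

set_option maxRecDepth 1000000 in
theorem count0 : (subMasks 24 2).countP (fun m => famPQS m && invPQS m == 0) = 160 := by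
  decide +kernel

theorem inv01 (m : ℕ) : invPQS m = 0 ∨ invPQS m = 1 := by
  unfold invPQS
  split_ifs <;> simp

theorem flag (p q : GolayPt) (hpq : p ≠ q) (s : Finset GolayPt) (hs : s.card = 2) (hp : p ∉ s)
    (hq : q ∉ s) : ∃ g ∈ M24, g p = gUnidx 23 ∧ g q = gUnidx 0 ∧ g • s = sp 6 := by
  obtain ⟨g, hg, hmap⟩ := tuple_trans ([p, q] ++ s.toList) ([gUnidx 23, gUnidx 0] ++ (sp 6).toList)
    (by
      rw [List.nodup_append]
      refine ⟨by simpa using hpq, Finset.nodup_toList _, ?_⟩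
      intro a ha b hb hab
      subst hab
      rw [Finset.mem_toList] at hb
      simp only [List.mem_cons, List.not_mem_nil, or_false] at ha
      rcases ha with rfl | rfl
      · exact hp hb
      · exact hq hb)
    (by
      rw [List.nodup_append]
      refine ⟨by decide, Finset.nodup_toList _, ?_⟩
      intro a ha b hb hab
      subst hab
      rw [Finset.mem_toList, mem_sp] at hb
      simp only [List.mem_cons, List.not_mem_nil, or_false] at ha
      rcases ha with rfl | rfl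
      · revert hb; decide +kernel
      · revert hb; decide +kernel)
    (by
      have : popcN 24 6 = 2 := by decide +kernel
      simp only [List.length_append, Finset.length_toList, hs, card_sp, List.length_cons,
        List.length_nil, this])
    (by simp only [List.length_append, Finset.length_toList, hs, List.length_cons,
        List.length_nil]; norm_num)
  rw [List.map_append] at hmap
  have h0 := List.append_inj hmap (by simp)
  have h1 : g p = gUnidx 23 ∧ g q = gUnidx 0 := by simpa using h0.1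
  exact ⟨g, hg, h1.1, h1.2, smul_eq_of_map_toList h0.2⟩

/-- Fix two points p ≠ q and a pair s of two further points. Among the pairs avoiding p, q and disjoint from s, exactly 30 lie in an octad together with p, q and s and exactly 160 do not; and any two pairs other than s that meet s in equally many points and agree on that octad property are carried to one another by an element of the group of the length-24 code fixing p, q and s. -/
theorem result (p q : Cfsg.GolayPt) (hpq : p ≠ q) (s : Finset Cfsg.GolayPt) (hs : (s.card = 2 ∧ p ∉ s ∧ q ∉ s)) : {t : Finset Cfsg.GolayPt | (t.card = 2 ∧ p ∉ t ∧ q ∉ t) ∧ Disjoint s t ∧ (∃ o ∈ Cfsg.octads, p ∈ o ∧ q ∈ o ∧ s ∪ t ⊆ o)}.ncard = 30 ∧ {t : Finset Cfsg.GolayPt | (t.card = 2 ∧ p ∉ t ∧ q ∉ t) ∧ Disjoint s t ∧ ¬ (∃ o ∈ Cfsg.octads, p ∈ o ∧ q ∈ o ∧ s ∪ t ⊆ o)}.ncard = 160 ∧ ∀ t t' : Finset Cfsg.GolayPt, (t.card = 2 ∧ p ∉ t ∧ q ∉ t) → (t'.card = 2 ∧ p ∉ t' ∧ q ∉ t') → t ≠ s → t' ≠ s → (s ∩ t).card = (s ∩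 t').card → ((∃ o ∈ Cfsg.octads, p ∈ o ∧ q ∈ o ∧ s ∪ t ⊆ o) ↔ (∃ o ∈ Cfsg.octads, p ∈ o ∧ q ∈ o ∧ s ∪ t' ⊆ o)) → ∃ g : Equiv.Perm Cfsg.GolayPt, g ∈ Cfsg.M24 ∧ g p = p ∧ g q = q ∧ g • s = s ∧ g • t = t' := by
  obtain ⟨hs2, hps, hqs⟩ := hs
  obtain ⟨τ, hτ, hτp, hτq, hτs⟩ := flag p q hpq s hs2 hps hqs
  -- transport of the basic predicates
  have kmem : ∀ t : Finset GolayPt, (gUnidx 23 ∉ τ • t ∧ gUnidx 0 ∉ τ • t) ↔ (p ∉ t ∧ q ∉ t) := by
    intro t
    rw [← hτp, ← hτq, apply_mem_smul_iff, apply_mem_smul_iff]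
  have kdis : ∀ t : Finset GolayPt, Disjoint (sp 6) (τ • t) ↔ Disjoint s t := by
    intro t
    rw [← hτs, smul_disjoint_iff]
  have koct : ∀ t : Finset GolayPt,
      (∃ o ∈ octads, gUnidx 23 ∈ o ∧ gUnidx 0 ∈ o ∧ sp 6 ∪ τ • t ⊆ o) ↔
        (∃ o ∈ octads, p ∈ o ∧ q ∈ o ∧ s ∪ t ⊆ o) := by
    intro t
    constructor
    · rintro ⟨o, ho, h1, h2, h3⟩
      refine ⟨τ⁻¹ • o, smul_mem_octads (M24.inv_mem hτ) ho, ?_, ?_, ?_⟩
      · rw [mem_smul_iff', inv_inv, hτp]; exact h1
      · rw [mem_smul_iff', inv_inv, hτq]; exact h2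
      · rw [← Finset.smul_finset_subset_smul_finset_iff (a := τ), smul_inv_smul,
          Finset.smul_finset_union, hτs]
        exact h3
    · rintro ⟨o, ho, h1, h2, h3⟩
      refine ⟨τ • o, smul_mem_octads hτ ho, ?_, ?_, ?_⟩
      · rw [← hτp, apply_mem_smul_iff]; exact h1
      · rw [← hτq, apply_mem_smul_iff]; exact h2
      · rw [← hτs, ← Finset.smul_finset_union]
        exact Finset.smul_finset_subset_smul_finset h3
  refine ⟨?_, ?_, ?_⟩
  · rw [← count1]
    have e : {t : Finset GolayPt | (t.card = 2 ∧ p ∉ t ∧ q ∉ t) ∧ Disjoint s t ∧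
        (∃ o ∈ octads, p ∈ o ∧ q ∈ o ∧ s ∪ t ⊆ o)} =
        {t | t.card = 2 ∧ ((p ∉ t ∧ q ∉ t) ∧ Disjoint s t ∧
          (∃ o ∈ octads, p ∈ o ∧ q ∈ o ∧ s ∪ t ⊆ o))} := by
      ext t; simp only [Set.mem_ofPred_eq, and_assoc]
    rw [e, ncard_transport τ _
      (fun t => t.card = 2 ∧ ((gUnidx 23 ∉ t ∧ gUnidx 0 ∉ t) ∧ Disjoint (sp 6) t ∧
        (∃ o ∈ octads, gUnidx 23 ∈ o ∧ gUnidx 0 ∈ o ∧ sp 6 ∪ t ⊆ o)))
      (fun t => by rw [Finset.card_smul_finset, kmem, kdis, koct])]
    apply ncard_subsets_countP 2 (fun t => (gUnidx 23 ∉ t ∧ gUnidx 0 ∉ t) ∧ Disjoint (sp 6) t ∧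
        (∃ o ∈ octads, gUnidx 23 ∈ o ∧ gUnidx 0 ∈ o ∧ sp 6 ∪ t ⊆ o))
    intro m hm
    rw [← and_assoc, ← fam_iff, inOct_iff' m ((mem_subMasks _ _ _).mp hm).1, Bool.and_eq_true,
      beq_iff_eq]
  · rw [← count0]
    have e : {t : Finset GolayPt | (t.card = 2 ∧ p ∉ t ∧ q ∉ t) ∧ Disjoint s t ∧
        ¬ (∃ o ∈ octads, p ∈ o ∧ q ∈ o ∧ s ∪ t ⊆ o)} =
        {t | t.card = 2 ∧ ((p ∉ t ∧ q ∉ t) ∧ Disjoint s t ∧
          ¬ (∃ o ∈ octads, p ∈ o ∧ q ∈ o ∧ s ∪ t ⊆ o))} := by
      ext t; simp only [Set.mem_ofPred_eq, and_assoc]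
    rw [e, ncard_transport τ _
      (fun t => t.card = 2 ∧ ((gUnidx 23 ∉ t ∧ gUnidx 0 ∉ t) ∧ Disjoint (sp 6) t ∧
        ¬ (∃ o ∈ octads, gUnidx 23 ∈ o ∧ gUnidx 0 ∈ o ∧ sp 6 ∪ t ⊆ o)))
      (fun t => by rw [Finset.card_smul_finset, kmem, kdis, koct])]
    apply ncard_subsets_countP 2 (fun t => (gUnidx 23 ∉ t ∧ gUnidx 0 ∉ t) ∧ Disjoint (sp 6) t ∧
        ¬ (∃ o ∈ octads, gUnidx 23 ∈ o ∧ gUnidx 0 ∈ o ∧ sp 6 ∪ t ⊆ o))
    intro m hm
    rw [← and_assoc, ← fam_iff, inOct_iff' m ((mem_subMasks _ _ _).mp hm).1, Bool.and_eq_true,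
      beq_iff_eq]
    rcases inv01 m with h | h <;> simp [h]
  · rintro t t' ⟨ht2, hpt, hqt⟩ ⟨ht2', hpt', hqt'⟩ hts hts' hi hoct
    have hle : (s ∩ t).card ≤ 2 := by rw [← hs2]; exact Finset.card_le_card Finset.inter_subset_left
    have h2 : (s ∩ t).card ≠ 2 := by
      intro h
      apply hts
      have h1 : s ∩ t = s := Finset.eq_of_subset_of_card_le Finset.inter_subset_left (by omega)
      have h3 : s ⊆ t := by rw [← h1]; exact Finset.inter_subset_right
      exact (Finset.eq_of_subset_of_card_le h3 (by omega)).symm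
    by_cases h0 : (s ∩ t).card = 0
    · -- disjoint pairs: use the certificate
      have hd : Disjoint s t :=
        Finset.disjoint_iff_inter_eq_empty.mpr (Finset.card_eq_zero.mp h0)
      have hd' : Disjoint s t' :=
        Finset.disjoint_iff_inter_eq_empty.mpr (Finset.card_eq_zero.mp (hi ▸ h0))
      obtain ⟨m, hm, e⟩ := exists_mask_of_card (t := τ • t) (k := 2)
        (by rw [Finset.card_smul_finset, ht2])
      obtain ⟨m', hm', e'⟩ := exists_mask_of_card (t := τ • t') (k := 2)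
        (by rw [Finset.card_smul_finset, ht2'])
      have hf : famPQS m = true := by
        rw [fam_iff, ← e, kmem, kdis]; exact ⟨⟨hpt, hqt⟩, hd⟩
      have hf' : famPQS m' = true := by
        rw [fam_iff, ← e', kmem, kdis]; exact ⟨⟨hpt', hqt'⟩, hd'⟩
      have hinv : invPQS m = invPQS m' := by
        have h1 := inOct_iff' m ((mem_subMasks _ _ _).mp hm).1
        have h1' := inOct_iff' m' ((mem_subMasks _ _ _).mp hm').1
        rw [← e, koct] at h1
        rw [← e', koct] at h1'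
        rcases inv01 m with a | a <;> rcases inv01 m' with b | b
        · rw [a, b]
        · exfalso
          have := h1.mp (hoct.mpr (h1'.mpr b))
          omega
        · exfalso
          have := h1'.mp (hoct.mp (h1.mpr a))
          omega
        · rw [a, b]
      obtain ⟨σ, hσ, hσe⟩ := transPQS gensPQS_mem m m' hm hm' hf hf' hinv
      refine ⟨τ⁻¹ * σ * τ, M24.mul_mem (M24.mul_mem (M24.inv_mem hτ) hσ.1.1) hτ, ?_, ?_, ?_, ?_⟩
      · rw [Equiv.Perm.mul_apply, Equiv.Perm.mul_apply, hτp, hσ.1.2 23 (by simp), ← hτp]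
        simp
      · rw [Equiv.Perm.mul_apply, Equiv.Perm.mul_apply, hτq, hσ.1.2 0 (by simp), ← hτq]
        simp
      · rw [mul_smul, mul_smul, hτs, MulAction.mem_stabilizer_iff.mp hσ.2, ← hτs, inv_smul_smul]
      · rw [mul_smul, mul_smul, e, hσe, ← e', inv_smul_smul]
    · -- pairs meeting in one point: five-fold transitivity
      have hu : ∀ x : Finset GolayPt, x.card = 2 → (s ∩ x).card = 1 → (s ∪ x).card = 3 := by
        intro x hx h1
        have := Finset.card_union_add_card_inter s x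
        omega
      have h1 : (s ∩ t).card = 1 := by omega
      obtain ⟨g, hg, hfix, hgs, hgt⟩ := set_pair_trans_fix [p, q] (by simpa using hpq) s t t'
        (by
          intro x hx
          simp only [List.mem_cons, List.not_mem_nil, or_false] at hx
          rw [Finset.mem_union]
          rcases hx with rfl | rfl
          · exact fun h => h.elim hps hpt
          · exact fun h => h.elim hqs hqt)
        (by
          intro x hx
          simp only [List.mem_cons, List.not_mem_nil, or_false] at hx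
          rw [Finset.mem_union]
          rcases hx with rfl | rfl
          · exact fun h => h.elim hps hpt'
          · exact fun h => h.elim hqs hqt')
        (by rw [ht2, ht2']) hi (by rw [hu t ht2 h1]; rfl)
      have hfix' : g p = p ∧ g q = q := by simpa using hfix
      exact ⟨g, hg, hfix'.1, hfix'.2, hgs, hgt⟩

end Cfsg.Agent.S1638
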