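import Cfsg.Statements.S1639
import Cfsg.Agent.Lib.Helper1.M24Z

set_option autoImplicit false
open scoped Pointwise
open Cfsg

namespace Cfsg.Agent.S1639

open Cfsg.Agent.Lib.Helper1 Cfsg.Agent.Lib.Helper1.M24

set_option maxRecDepth 1000000 in
theorem count4 : dodList.countP (fun m => m.testBit 0 && popcN 24 (28637 &&& m) == 4) = 165 := by
  decide +kernel

set_option maxRecDepth 1000000 in
theorem count8 : dodList.countP (fun m => m.testBit 0 && popcN 24 (28637 &&& m) == 8) = 330 := by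
  decide +kernel

set_option maxRecDepth 1000000 in
theorem count6 : dodList.countP (fun m => m.testBit 0 && popcN 24 (28637 &&& m) == 6) = 792 := by
  decide +kernel

theorem count_k (x : GolayPt) (d : Finset GolayPt) {g : P24} (hg : g ∈ M24)
    (hgd : g • d = d₀fin) (hgx : g x = gUnidx 0) (k : ℕ) :
    {d' | d' ∈ dodecads ∧ x ∈ d' ∧ (d ∩ d').card = k}.ncard =
      dodList.countP (fun m => m.testBit 0 && popcN 24 (28637 &&& m) == k) := by
  apply flag_count_transportD (fun d' => x ∈ d' ∧ (d ∩ d').card = k)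
    (fun p => gUnidx 0 ∈ p ∧ (d₀fin ∩ p).card = k) _ hg
  · intro d'
    rw [← hgx, apply_mem_smul_iff, ← hgd, card_inter_smul]
  · intro m _
    rw [mem_sp, gIdx_gUnidx 0 (by norm_num), card_d₀fin_inter, Bool.and_eq_true, beq_iff_eq]

/-- The point stabiliser acts on the 1288 dodecads through the point with rank 4 and subdegrees 1, 165, 330, 792, distinguished by intersection 4, 8, 6 with the fixed dodecad. -/
theorem result (x : Cfsg.GolayPt) (d : Finset Cfsg.GolayPt) (hd : d ∈ Cfsg.dodecads) (hx : x ∈ d) : {d' : Finset Cfsg.GolayPt | d' ∈ Cfsg.dodecads ∧ x ∈ d' ∧ (d ∩ d').card = 4}.ncard = 165 ∧ {d' : Finset Cfsg.GolayPt | d' ∈ Cfsg.dodecads ∧ x ∈ d' ∧ (d ∩ d').card = 8}.ncard = 330 ∧ {d' : Finset Cfsg.GolayPt | d' ∈ Cfsg.dodecads ∧ x ∈ d' ∧ (d ∩ d').card = 6}.ncard = 792 ∧ ∀ d' d'' : Finset Cfsg.GolayPt, d' ∈ Cfsg.dodecads → d'' ∈ Cfsg.dodecads → x ∈ d' → x ∈ d'' → (d ∩ d').card = (d ∩ d'').card → ∃ g : Equiv.Perm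 Cfsg.GolayPt, g ∈ Cfsg.M24 ∧ g x = x ∧ g • d = d ∧ g • d' = d'' := by
  obtain ⟨τ, hτ, hτd, hτx⟩ := flag_trans d hd x hx
  have hg : τ⁻¹ ∈ M24 := M24.inv_mem hτ
  have hgd : τ⁻¹ • d = d₀fin := by rw [← hτd, inv_smul_smul]
  have hgx : τ⁻¹ x = gUnidx 0 := by rw [← hτx]; simp
  refine ⟨?_, ?_, ?_, ?_⟩
  · rw [count_k x d hg hgd hgx 4, count4]
  · rw [count_k x d hg hgd hgx 8, count8]
  · rw [count_k x d hg hgd hgx 6, count6]
  · intro d' d'' hd' hd'' hxd' hxd'' h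
    have hfam : ∀ (p : Finset GolayPt), x ∈ p → ∀ m, τ⁻¹ • p = sp m → famXD m = true := by
      intro p hxp m hm
      unfold famXD
      have : (0 : ℕ) = gIdx (gUnidx 0) := (gIdx_gUnidx 0 (by norm_num)).symm
      rw [this, ← mem_sp, ← hm, ← hgx, apply_mem_smul_iff]
      exact hxp
    obtain ⟨g, hg', h1, h2, h3⟩ := flag_trans_transportD (fx := [0]) famXD
      (fun m m' hm hm' hf hf' hi => transXD gensXD_mem m m' hm hm' hf hf' hi) hg hgd hd' hd''
      (hfam d' hxd') (hfam d'' hxd'') h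
    exact ⟨g, hg', h3 x ⟨0, List.mem_singleton_self _, hgx⟩, h1, h2⟩

end Cfsg.Agent.S1639
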