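import Cfsg.Statements.S1642
import Cfsg.Agent.Lib.Helper1.LeechHS2B

set_option autoImplicit false
open Cfsg

namespace Cfsg.Agent.S1642

open Cfsg.Agent.Lib.Helper1 Cfsg.Agent.Lib.Helper1.LeechEnum Cfsg.Agent.Lib.Helper1.LeechConn
  Cfsg.Agent.Lib.Helper1.LeechAut

theorem norm_add' (x y : GolayPt → ℤ) :
    sqNorm (x + y) = sqNorm x + sqNorm y + 2 * dotInt x y := by
  unfold sqNorm dotInt
  rw [Finset.mul_sum, ← Finset.sum_add_distrib, ← Finset.sum_add_distrib]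
  apply Finset.sum_congr rfl
  intro i _
  simp only [Pi.add_apply]
  ring

/-- Some involution of the Higman–Sims group acts without fixed points on its 100 points. -/
theorem result (v w : ↥Cfsg.leechLattice) (hv : Cfsg.sqNorm (v : Cfsg.GolayPt → ℤ) = 48) (hw : Cfsg.sqNorm (w : Cfsg.GolayPt → ℤ) = 48) (hvw : Cfsg.dotInt (v : Cfsg.GolayPt → ℤ) (w : Cfsg.GolayPt → ℤ) = -32) : ∃ g : ↥Cfsg.Co0, g • v = v ∧ g • w = w ∧ orderOf g = 2 ∧ ∀ x ∈ {x : ↥Cfsg.leechLattice | Cfsg.sqNorm (x : Cfsg.GolayPt → ℤ) = 32 ∧ Cfsg.dotInt (v : Cfsg.GolayPt → ℤ) (x : Cfsg.GolayPt → ℤ) = 24 ∧ Cfsg.dotInt (w : Cfsg.GolayPt → ℤ) (x : Cfsg.GolayPt → ℤ) = -24}, g • x ≠ x := by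
  have hm1 : sqNorm ((v + w : leechLattice) : GolayPt → ℤ) = 32 := by
    rw [coe_add', norm_add', hv, hw, hvw]; norm_num
  have hm2 : dotInt (v : GolayPt → ℤ) ((v + w : leechLattice) : GolayPt → ℤ) = 16 := by
    rw [coe_add', dot_add_right, dot_self', hv, hvw]; norm_num
  obtain ⟨h1, a1, a2⟩ := std_pair_B v (v + w) hv hm1 hm2
  obtain ⟨h2, b1, b2⟩ := std_pair_B ⟨vecV', vecV'_mem⟩ ⟨vecM', vecM'_mem⟩ vecV'_norm vecM'_norm
    vecV'_dot
  have c1 : (h2⁻¹ * h1) • v = ⟨vecV', vecV'_mem⟩ := by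
    rw [mul_smul, inv_smul_eq_iff]
    exact Subtype.ext (a1.trans b1.symm)
  have c2 : (h2⁻¹ * h1) • (v + w) = ⟨vecM', vecM'_mem⟩ := by
    rw [mul_smul, inv_smul_eq_iff]
    exact Subtype.ext (a2.trans b2.symm)
  obtain ⟨h, hdef⟩ : ∃ h : Co0, h = h2⁻¹ * h1 := ⟨_, rfl⟩
  rw [← hdef] at c1 c2
  have g0v : invD • (⟨vecV', vecV'_mem⟩ : leechLattice) = ⟨vecV', vecV'_mem⟩ :=
    Subtype.ext (by rw [invD_apply]; exact eps_vecV')
  have g0m : invD • (⟨vecM', vecM'_mem⟩ : leechLattice) = ⟨vecM', vecM'_mem⟩ :=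
    Subtype.ext (by rw [invD_apply]; exact eps_vecM')
  have gv : (h⁻¹ * invD * h) • v = v := by
    rw [mul_smul, mul_smul, c1, g0v, ← c1, inv_smul_smul]
  have gm : (h⁻¹ * invD * h) • (v + w) = v + w := by
    rw [mul_smul, mul_smul, c2, g0m, ← c2, inv_smul_smul]
  have gw : (h⁻¹ * invD * h) • w = w := by
    have e3 : w = (v + w) - v := by abel
    have e4 : (h⁻¹ * invD * h) • w = (h⁻¹ * invD * h) • ((v + w) - v) := by rw [← e3]
    rw [e4, LeechEnum.smul_sub, gm, gv]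
    abel
  have hfree : ∀ x ∈ {x : ↥Cfsg.leechLattice | Cfsg.sqNorm (x : Cfsg.GolayPt → ℤ) = 32 ∧
      Cfsg.dotInt (v : Cfsg.GolayPt → ℤ) (x : Cfsg.GolayPt → ℤ) = 24 ∧
      Cfsg.dotInt (w : Cfsg.GolayPt → ℤ) (x : Cfsg.GolayPt → ℤ) = -24},
      (h⁻¹ * invD * h) • x ≠ x := by
    intro x hx hgx
    rw [mul_smul, mul_smul, inv_smul_eq_iff] at hgx
    have hd : dotInt vecV' ((h • x : leechLattice) : GolayPt → ℤ) = 24 := by
      have := smul_dot h v x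
      rw [c1] at this
      rw [← hx.2.1, ← this]
    exact no_fixed (h • x) (by rw [smul_norm]; exact hx.1) hd hgx
  have hsq : (h⁻¹ * invD * h) ^ 2 = 1 := by
    rw [pow_two]
    have : h⁻¹ * invD * h * (h⁻¹ * invD * h) = h⁻¹ * (invD * invD) * h := by group
    rw [this, invD_sq]
    group
  have hne : (h⁻¹ * invD * h) ≠ 1 := by
    intro h1'
    apply invD_ne_one
    have h3 : h * (h⁻¹ * invD * h) * h⁻¹ = invD := by group
    rw [← h3, h1']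
    group
  haveI : Fact (Nat.Prime 2) := ⟨Nat.prime_two⟩
  exact ⟨h⁻¹ * invD * h, gv, gw, orderOf_eq_prime hsq hne, hfree⟩

end Cfsg.Agent.S1642
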