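import Mathlib
import Cfsg.Agent.Lib.Helper6.TCP.Fi24
import Cfsg.Agent.Lib.Helper6.TC14
import Cfsg.Agent.Lib.Helper6.TCD.Fi24a.All
import Cfsg.Statements.S1690

set_option autoImplicit false
open Cfsg

namespace Cfsg.Agent.S1690
open Cfsg.Spor Cfsg.Agent.Lib.Helper6.TC Cfsg.Agent.Lib.Helper6.TCP.Fi24 Cfsg.Agent.Lib.Helper6.TCD.Fi24a

section helpers
set_option maxRecDepth 100000
set_option linter.unusedSimpArgs false

/-- the generating set of the subgroup -/
abbrev S : Set (FreeGroup Fi24.Gen) :=
  {Fi24.a, Fi24.b, Fi24.c, Fi24.d, Fi24.e, Fi24.f, Fi24.g, Fi24.h, Fi24.i, Fi24.j, Fi24.l}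

/-- the words of the generators of the subgroup -/
def subw : List (List ℕ) := [[2], [3], [4], [5], [6], [7], [8], [10], [11], [9], [0]]

theorem wordElt_single2 : wordElt gc [2] = FreeGroup.of Fi24.Gen.a := by
  rw [wordElt_cons, wordElt_nil, mul_one]
  rfl

theorem wordElt_single3 : wordElt gc [3] = FreeGroup.of Fi24.Gen.b := by
  rw [wordElt_cons, wordElt_nil, mul_one]
  rfl

theorem wordElt_single4 : wordElt gc [4] = FreeGroup.of Fi24.Gen.c := by
  rw [wordElt_cons, wordElt_nil, mul_one]
  rfl

theorem wordElt_single5 : wordElt gc [5] = FreeGroup.of Fi24.Gen.d := by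
  rw [wordElt_cons, wordElt_nil, mul_one]
  rfl

theorem wordElt_single6 : wordElt gc [6] = FreeGroup.of Fi24.Gen.e := by
  rw [wordElt_cons, wordElt_nil, mul_one]
  rfl

theorem wordElt_single7 : wordElt gc [7] = FreeGroup.of Fi24.Gen.f := by
  rw [wordElt_cons, wordElt_nil, mul_one]
  rfl

theorem wordElt_single8 : wordElt gc [8] = FreeGroup.of Fi24.Gen.g := by
  rw [wordElt_cons, wordElt_nil, mul_one]
  rfl

theorem wordElt_single10 : wordElt gc [10] = FreeGroup.of Fi24.Gen.h := by
  rw [wordElt_cons, wordElt_nil, mul_one]
  rfl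

theorem wordElt_single11 : wordElt gc [11] = FreeGroup.of Fi24.Gen.i := by
  rw [wordElt_cons, wordElt_nil, mul_one]
  rfl

theorem wordElt_single9 : wordElt gc [9] = FreeGroup.of Fi24.Gen.j := by
  rw [wordElt_cons, wordElt_nil, mul_one]
  rfl

theorem wordElt_single0 : wordElt gc [0] = FreeGroup.of Fi24.Gen.l := by
  rw [wordElt_cons, wordElt_nil, mul_one]
  rfl

theorem hsw : ∀ s ∈ S, ∃ w ∈ subw, s = wordElt gc w := by
  intro s hs
  simp only [S, Set.mem_insert_iff, Set.mem_singleton_iff] at hs
  rcases hs with rfl | rfl | rfl | rfl | rfl | rfl | rfl | rfl | rfl | rfl | rfl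
  · exact ⟨[2], by simp [subw], (wordElt_single2).symm⟩
  · exact ⟨[3], by simp [subw], (wordElt_single3).symm⟩
  · exact ⟨[4], by simp [subw], (wordElt_single4).symm⟩
  · exact ⟨[5], by simp [subw], (wordElt_single5).symm⟩
  · exact ⟨[6], by simp [subw], (wordElt_single6).symm⟩
  · exact ⟨[7], by simp [subw], (wordElt_single7).symm⟩
  · exact ⟨[8], by simp [subw], (wordElt_single8).symm⟩
  · exact ⟨[10], by simp [subw], (wordElt_single10).symm⟩
  · exact ⟨[11], by simp [subw], (wordElt_single11).symm⟩
  · exact ⟨[9], by simp [subw], (wordElt_single9).symm⟩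
  · exact ⟨[0], by simp [subw], (wordElt_single0).symm⟩

theorem hsw' : ∀ w ∈ subw, (∀ c ∈ w, c < 12) ∧ wordElt gc w ∈ S := by
  intro w hw
  simp only [subw, List.mem_cons, List.mem_nil_iff, or_false] at hw
  rcases hw with rfl | rfl | rfl | rfl | rfl | rfl | rfl | rfl | rfl | rfl | rfl
  · exact ⟨by decide, by rw [wordElt_single2]; show FreeGroup.of Fi24.Gen.a ∈ S; simp [S]⟩
  · exact ⟨by decide, by rw [wordElt_single3]; show FreeGroup.of Fi24.Gen.b ∈ S; simp [S]⟩
  · exact ⟨by decide, by rw [wordElt_single4]; show FreeGroup.of Fi24.Gen.c ∈ S; simp [S]⟩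
  · exact ⟨by decide, by rw [wordElt_single5]; show FreeGroup.of Fi24.Gen.d ∈ S; simp [S]⟩
  · exact ⟨by decide, by rw [wordElt_single6]; show FreeGroup.of Fi24.Gen.e ∈ S; simp [S]⟩
  · exact ⟨by decide, by rw [wordElt_single7]; show FreeGroup.of Fi24.Gen.f ∈ S; simp [S]⟩
  · exact ⟨by decide, by rw [wordElt_single8]; show FreeGroup.of Fi24.Gen.g ∈ S; simp [S]⟩
  · exact ⟨by decide, by rw [wordElt_single10]; show FreeGroup.of Fi24.Gen.h ∈ S; simp [S]⟩
  · exact ⟨by decide, by rw [wordElt_single11]; show FreeGroup.of Fi24.Gen.i ∈ S; simp [S]⟩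
  · exact ⟨by decide, by rw [wordElt_single9]; show FreeGroup.of Fi24.Gen.j ∈ S; simp [S]⟩
  · exact ⟨by decide, by rw [wordElt_single0]; show FreeGroup.of Fi24.Gen.l ∈ S; simp [S]⟩

theorem chkW : allB (chkWord WD WI base subw Cfsg.Agent.Lib.Helper6.TCD.Fi24a.INV ncol nrw) nw = true := by
  decide +kernel

theorem hS : ∀ s < n * ncol, chkSlot SH SC NH NC WD n ncol nrw nw tmax Cfsg.Agent.Lib.Helper6.TCD.Fi24a.INV s = true := by
  intro s hs
  have hs' : s < 4733448 := hs
  by_cases h0 : s < 8000
  · exact allR_spec chkS0 s (by omega) (by omega)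
  by_cases h1 : s < 16000
  · exact allR_spec chkS1 s (by omega) (by omega)
  by_cases h2 : s < 24000
  · exact allR_spec chkS2 s (by omega) (by omega)
  by_cases h3 : s < 32000
  · exact allR_spec chkS3 s (by omega) (by omega)
  by_cases h4 : s < 40000
  · exact allR_spec chkS4 s (by omega) (by omega)
  by_cases h5 : s < 48000
  · exact allR_spec chkS5 s (by omega) (by omega)
  by_cases h6 : s < 56000
  · exact allR_spec chkS6 s (by omega) (by omega)
  by_cases h7 : s < 64000
  · exact allR_spec chkS7 s (by omega) (by omega)
  by_cases h8 : s < 72000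
  · exact allR_spec chkS8 s (by omega) (by omega)
  by_cases h9 : s < 80000
  · exact allR_spec chkS9 s (by omega) (by omega)
  by_cases h10 : s < 88000
  · exact allR_spec chkS10 s (by omega) (by omega)
  by_cases h11 : s < 96000
  · exact allR_spec chkS11 s (by omega) (by omega)
  by_cases h12 : s < 104000
  · exact allR_spec chkS12 s (by omega) (by omega)
  by_cases h13 : s < 112000
  · exact allR_spec chkS13 s (by omega) (by omega)
  by_cases h14 : s < 120000
  · exact allR_spec chkS14 s (by omega) (by omega)
  by_cases h15 : s < 128000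
  · exact allR_spec chkS15 s (by omega) (by omega)
  by_cases h16 : s < 136000
  · exact allR_spec chkS16 s (by omega) (by omega)
  by_cases h17 : s < 144000
  · exact allR_spec chkS17 s (by omega) (by omega)
  by_cases h18 : s < 152000
  · exact allR_spec chkS18 s (by omega) (by omega)
  by_cases h19 : s < 160000
  · exact allR_spec chkS19 s (by omega) (by omega)
  by_cases h20 : s < 168000
  · exact allR_spec chkS20 s (by omega) (by omega)
  by_cases h21 : s < 176000
  · exact allR_spec chkS21 s (by omega) (by omega)
  by_cases h22 : s < 184000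
  · exact allR_spec chkS22 s (by omega) (by omega)
  by_cases h23 : s < 192000
  · exact allR_spec chkS23 s (by omega) (by omega)
  by_cases h24 : s < 200000
  · exact allR_spec chkS24 s (by omega) (by omega)
  by_cases h25 : s < 208000
  · exact allR_spec chkS25 s (by omega) (by omega)
  by_cases h26 : s < 216000
  · exact allR_spec chkS26 s (by omega) (by omega)
  by_cases h27 : s < 224000
  · exact allR_spec chkS27 s (by omega) (by omega)
  by_cases h28 : s < 232000
  · exact allR_spec chkS28 s (by omega) (by omega)
  by_cases h29 : s < 240000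
  · exact allR_spec chkS29 s (by omega) (by omega)
  by_cases h30 : s < 248000
  · exact allR_spec chkS30 s (by omega) (by omega)
  by_cases h31 : s < 256000
  · exact allR_spec chkS31 s (by omega) (by omega)
  by_cases h32 : s < 264000
  · exact allR_spec chkS32 s (by omega) (by omega)
  by_cases h33 : s < 272000
  · exact allR_spec chkS33 s (by omega) (by omega)
  by_cases h34 : s < 280000
  · exact allR_spec chkS34 s (by omega) (by omega)
  by_cases h35 : s < 288000
  · exact allR_spec chkS35 s (by omega) (by omega)
  by_cases h36 : s < 296000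
  · exact allR_spec chkS36 s (by omega) (by omega)
  by_cases h37 : s < 304000
  · exact allR_spec chkS37 s (by omega) (by omega)
  by_cases h38 : s < 312000
  · exact allR_spec chkS38 s (by omega) (by omega)
  by_cases h39 : s < 320000
  · exact allR_spec chkS39 s (by omega) (by omega)
  by_cases h40 : s < 328000
  · exact allR_spec chkS40 s (by omega) (by omega)
  by_cases h41 : s < 336000
  · exact allR_spec chkS41 s (by omega) (by omega)
  by_cases h42 : s < 344000
  · exact allR_spec chkS42 s (by omega) (by omega)
  by_cases h43 : s < 352000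
  · exact allR_spec chkS43 s (by omega) (by omega)
  by_cases h44 : s < 360000
  · exact allR_spec chkS44 s (by omega) (by omega)
  by_cases h45 : s < 368000
  · exact allR_spec chkS45 s (by omega) (by omega)
  by_cases h46 : s < 376000
  · exact allR_spec chkS46 s (by omega) (by omega)
  by_cases h47 : s < 384000
  · exact allR_spec chkS47 s (by omega) (by omega)
  by_cases h48 : s < 392000
  · exact allR_spec chkS48 s (by omega) (by omega)
  by_cases h49 : s < 400000
  · exact allR_spec chkS49 s (by omega) (by omega)
  by_cases h50 : s < 408000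
  · exact allR_spec chkS50 s (by omega) (by omega)
  by_cases h51 : s < 416000
  · exact allR_spec chkS51 s (by omega) (by omega)
  by_cases h52 : s < 424000
  · exact allR_spec chkS52 s (by omega) (by omega)
  by_cases h53 : s < 432000
  · exact allR_spec chkS53 s (by omega) (by omega)
  by_cases h54 : s < 440000
  · exact allR_spec chkS54 s (by omega) (by omega)
  by_cases h55 : s < 448000
  · exact allR_spec chkS55 s (by omega) (by omega)
  by_cases h56 : s < 456000
  · exact allR_spec chkS56 s (by omega) (by omega)
  by_cases h57 : s < 464000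
  · exact allR_spec chkS57 s (by omega) (by omega)
  by_cases h58 : s < 472000
  · exact allR_spec chkS58 s (by omega) (by omega)
  by_cases h59 : s < 480000
  · exact allR_spec chkS59 s (by omega) (by omega)
  by_cases h60 : s < 488000
  · exact allR_spec chkS60 s (by omega) (by omega)
  by_cases h61 : s < 496000
  · exact allR_spec chkS61 s (by omega) (by omega)
  by_cases h62 : s < 504000
  · exact allR_spec chkS62 s (by omega) (by omega)
  by_cases h63 : s < 512000
  · exact allR_spec chkS63 s (by omega) (by omega)
  by_cases h64 : s < 520000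
  · exact allR_spec chkS64 s (by omega) (by omega)
  by_cases h65 : s < 528000
  · exact allR_spec chkS65 s (by omega) (by omega)
  by_cases h66 : s < 536000
  · exact allR_spec chkS66 s (by omega) (by omega)
  by_cases h67 : s < 544000
  · exact allR_spec chkS67 s (by omega) (by omega)
  by_cases h68 : s < 552000
  · exact allR_spec chkS68 s (by omega) (by omega)
  by_cases h69 : s < 560000
  · exact allR_spec chkS69 s (by omega) (by omega)
  by_cases h70 : s < 568000
  · exact allR_spec chkS70 s (by omega) (by omega)
  by_cases h71 : s < 576000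
  · exact allR_spec chkS71 s (by omega) (by omega)
  by_cases h72 : s < 584000
  · exact allR_spec chkS72 s (by omega) (by omega)
  by_cases h73 : s < 592000
  · exact allR_spec chkS73 s (by omega) (by omega)
  by_cases h74 : s < 600000
  · exact allR_spec chkS74 s (by omega) (by omega)
  by_cases h75 : s < 608000
  · exact allR_spec chkS75 s (by omega) (by omega)
  by_cases h76 : s < 616000
  · exact allR_spec chkS76 s (by omega) (by omega)
  by_cases h77 : s < 624000
  · exact allR_spec chkS77 s (by omega) (by omega)
  by_cases h78 : s < 632000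
  · exact allR_spec chkS78 s (by omega) (by omega)
  by_cases h79 : s < 640000
  · exact allR_spec chkS79 s (by omega) (by omega)
  by_cases h80 : s < 648000
  · exact allR_spec chkS80 s (by omega) (by omega)
  by_cases h81 : s < 656000
  · exact allR_spec chkS81 s (by omega) (by omega)
  by_cases h82 : s < 664000
  · exact allR_spec chkS82 s (by omega) (by omega)
  by_cases h83 : s < 672000
  · exact allR_spec chkS83 s (by omega) (by omega)
  by_cases h84 : s < 680000
  · exact allR_spec chkS84 s (by omega) (by omega)
  by_cases h85 : s < 688000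
  · exact allR_spec chkS85 s (by omega) (by omega)
  by_cases h86 : s < 696000
  · exact allR_spec chkS86 s (by omega) (by omega)
  by_cases h87 : s < 704000
  · exact allR_spec chkS87 s (by omega) (by omega)
  by_cases h88 : s < 712000
  · exact allR_spec chkS88 s (by omega) (by omega)
  by_cases h89 : s < 720000
  · exact allR_spec chkS89 s (by omega) (by omega)
  by_cases h90 : s < 728000
  · exact allR_spec chkS90 s (by omega) (by omega)
  by_cases h91 : s < 736000
  · exact allR_spec chkS91 s (by omega) (by omega)
  by_cases h92 : s < 744000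
  · exact allR_spec chkS92 s (by omega) (by omega)
  by_cases h93 : s < 752000
  · exact allR_spec chkS93 s (by omega) (by omega)
  by_cases h94 : s < 760000
  · exact allR_spec chkS94 s (by omega) (by omega)
  by_cases h95 : s < 768000
  · exact allR_spec chkS95 s (by omega) (by omega)
  by_cases h96 : s < 776000
  · exact allR_spec chkS96 s (by omega) (by omega)
  by_cases h97 : s < 784000
  · exact allR_spec chkS97 s (by omega) (by omega)
  by_cases h98 : s < 792000
  · exact allR_spec chkS98 s (by omega) (by omega)
  by_cases h99 : s < 800000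
  · exact allR_spec chkS99 s (by omega) (by omega)
  by_cases h100 : s < 808000
  · exact allR_spec chkS100 s (by omega) (by omega)
  by_cases h101 : s < 816000
  · exact allR_spec chkS101 s (by omega) (by omega)
  by_cases h102 : s < 824000
  · exact allR_spec chkS102 s (by omega) (by omega)
  by_cases h103 : s < 832000
  · exact allR_spec chkS103 s (by omega) (by omega)
  by_cases h104 : s < 840000
  · exact allR_spec chkS104 s (by omega) (by omega)
  by_cases h105 : s < 848000
  · exact allR_spec chkS105 s (by omega) (by omega)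
  by_cases h106 : s < 856000
  · exact allR_spec chkS106 s (by omega) (by omega)
  by_cases h107 : s < 864000
  · exact allR_spec chkS107 s (by omega) (by omega)
  by_cases h108 : s < 872000
  · exact allR_spec chkS108 s (by omega) (by omega)
  by_cases h109 : s < 880000
  · exact allR_spec chkS109 s (by omega) (by omega)
  by_cases h110 : s < 888000
  · exact allR_spec chkS110 s (by omega) (by omega)
  by_cases h111 : s < 896000
  · exact allR_spec chkS111 s (by omega) (by omega)
  by_cases h112 : s < 904000
  · exact allR_spec chkS112 s (by omega) (by omega)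
  by_cases h113 : s < 912000
  · exact allR_spec chkS113 s (by omega) (by omega)
  by_cases h114 : s < 920000
  · exact allR_spec chkS114 s (by omega) (by omega)
  by_cases h115 : s < 928000
  · exact allR_spec chkS115 s (by omega) (by omega)
  by_cases h116 : s < 936000
  · exact allR_spec chkS116 s (by omega) (by omega)
  by_cases h117 : s < 944000
  · exact allR_spec chkS117 s (by omega) (by omega)
  by_cases h118 : s < 952000
  · exact allR_spec chkS118 s (by omega) (by omega)
  by_cases h119 : s < 960000
  · exact allR_spec chkS119 s (by omega) (by omega)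
  by_cases h120 : s < 968000
  · exact allR_spec chkS120 s (by omega) (by omega)
  by_cases h121 : s < 976000
  · exact allR_spec chkS121 s (by omega) (by omega)
  by_cases h122 : s < 984000
  · exact allR_spec chkS122 s (by omega) (by omega)
  by_cases h123 : s < 992000
  · exact allR_spec chkS123 s (by omega) (by omega)
  by_cases h124 : s < 1000000
  · exact allR_spec chkS124 s (by omega) (by omega)
  by_cases h125 : s < 1008000
  · exact allR_spec chkS125 s (by omega) (by omega)
  by_cases h126 : s < 1016000
  · exact allR_spec chkS126 s (by omega) (by omega)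
  by_cases h127 : s < 1024000
  · exact allR_spec chkS127 s (by omega) (by omega)
  by_cases h128 : s < 1032000
  · exact allR_spec chkS128 s (by omega) (by omega)
  by_cases h129 : s < 1040000
  · exact allR_spec chkS129 s (by omega) (by omega)
  by_cases h130 : s < 1048000
  · exact allR_spec chkS130 s (by omega) (by omega)
  by_cases h131 : s < 1056000
  · exact allR_spec chkS131 s (by omega) (by omega)
  by_cases h132 : s < 1064000
  · exact allR_spec chkS132 s (by omega) (by omega)
  by_cases h133 : s < 1072000
  · exact allR_spec chkS133 s (by omega) (by omega)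
  by_cases h134 : s < 1080000
  · exact allR_spec chkS134 s (by omega) (by omega)
  by_cases h135 : s < 1088000
  · exact allR_spec chkS135 s (by omega) (by omega)
  by_cases h136 : s < 1096000
  · exact allR_spec chkS136 s (by omega) (by omega)
  by_cases h137 : s < 1104000
  · exact allR_spec chkS137 s (by omega) (by omega)
  by_cases h138 : s < 1112000
  · exact allR_spec chkS138 s (by omega) (by omega)
  by_cases h139 : s < 1120000
  · exact allR_spec chkS139 s (by omega) (by omega)
  by_cases h140 : s < 1128000
  · exact allR_spec chkS140 s (by omega) (by omega)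
  by_cases h141 : s < 1136000
  · exact allR_spec chkS141 s (by omega) (by omega)
  by_cases h142 : s < 1144000
  · exact allR_spec chkS142 s (by omega) (by omega)
  by_cases h143 : s < 1152000
  · exact allR_spec chkS143 s (by omega) (by omega)
  by_cases h144 : s < 1160000
  · exact allR_spec chkS144 s (by omega) (by omega)
  by_cases h145 : s < 1168000
  · exact allR_spec chkS145 s (by omega) (by omega)
  by_cases h146 : s < 1176000
  · exact allR_spec chkS146 s (by omega) (by omega)
  by_cases h147 : s < 1184000
  · exact allR_spec chkS147 s (by omega) (by omega)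
  by_cases h148 : s < 1192000
  · exact allR_spec chkS148 s (by omega) (by omega)
  by_cases h149 : s < 1200000
  · exact allR_spec chkS149 s (by omega) (by omega)
  by_cases h150 : s < 1208000
  · exact allR_spec chkS150 s (by omega) (by omega)
  by_cases h151 : s < 1216000
  · exact allR_spec chkS151 s (by omega) (by omega)
  by_cases h152 : s < 1224000
  · exact allR_spec chkS152 s (by omega) (by omega)
  by_cases h153 : s < 1232000
  · exact allR_spec chkS153 s (by omega) (by omega)
  by_cases h154 : s < 1240000
  · exact allR_spec chkS154 s (by omega) (by omega)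
  by_cases h155 : s < 1248000
  · exact allR_spec chkS155 s (by omega) (by omega)
  by_cases h156 : s < 1256000
  · exact allR_spec chkS156 s (by omega) (by omega)
  by_cases h157 : s < 1264000
  · exact allR_spec chkS157 s (by omega) (by omega)
  by_cases h158 : s < 1272000
  · exact allR_spec chkS158 s (by omega) (by omega)
  by_cases h159 : s < 1280000
  · exact allR_spec chkS159 s (by omega) (by omega)
  by_cases h160 : s < 1288000
  · exact allR_spec chkS160 s (by omega) (by omega)
  by_cases h161 : s < 1296000
  · exact allR_spec chkS161 s (by omega) (by omega)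
  by_cases h162 : s < 1304000
  · exact allR_spec chkS162 s (by omega) (by omega)
  by_cases h163 : s < 1312000
  · exact allR_spec chkS163 s (by omega) (by omega)
  by_cases h164 : s < 1320000
  · exact allR_spec chkS164 s (by omega) (by omega)
  by_cases h165 : s < 1328000
  · exact allR_spec chkS165 s (by omega) (by omega)
  by_cases h166 : s < 1336000
  · exact allR_spec chkS166 s (by omega) (by omega)
  by_cases h167 : s < 1344000
  · exact allR_spec chkS167 s (by omega) (by omega)
  by_cases h168 : s < 1352000
  · exact allR_spec chkS168 s (by omega) (by omega)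
  by_cases h169 : s < 1360000
  · exact allR_spec chkS169 s (by omega) (by omega)
  by_cases h170 : s < 1368000
  · exact allR_spec chkS170 s (by omega) (by omega)
  by_cases h171 : s < 1376000
  · exact allR_spec chkS171 s (by omega) (by omega)
  by_cases h172 : s < 1384000
  · exact allR_spec chkS172 s (by omega) (by omega)
  by_cases h173 : s < 1392000
  · exact allR_spec chkS173 s (by omega) (by omega)
  by_cases h174 : s < 1400000
  · exact allR_spec chkS174 s (by omega) (by omega)
  by_cases h175 : s < 1408000
  · exact allR_spec chkS175 s (by omega) (by omega)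
  by_cases h176 : s < 1416000
  · exact allR_spec chkS176 s (by omega) (by omega)
  by_cases h177 : s < 1424000
  · exact allR_spec chkS177 s (by omega) (by omega)
  by_cases h178 : s < 1432000
  · exact allR_spec chkS178 s (by omega) (by omega)
  by_cases h179 : s < 1440000
  · exact allR_spec chkS179 s (by omega) (by omega)
  by_cases h180 : s < 1448000
  · exact allR_spec chkS180 s (by omega) (by omega)
  by_cases h181 : s < 1456000
  · exact allR_spec chkS181 s (by omega) (by omega)
  by_cases h182 : s < 1464000
  · exact allR_spec chkS182 s (by omega) (by omega)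
  by_cases h183 : s < 1472000
  · exact allR_spec chkS183 s (by omega) (by omega)
  by_cases h184 : s < 1480000
  · exact allR_spec chkS184 s (by omega) (by omega)
  by_cases h185 : s < 1488000
  · exact allR_spec chkS185 s (by omega) (by omega)
  by_cases h186 : s < 1496000
  · exact allR_spec chkS186 s (by omega) (by omega)
  by_cases h187 : s < 1504000
  · exact allR_spec chkS187 s (by omega) (by omega)
  by_cases h188 : s < 1512000
  · exact allR_spec chkS188 s (by omega) (by omega)
  by_cases h189 : s < 1520000
  · exact allR_spec chkS189 s (by omega) (by omega)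
  by_cases h190 : s < 1528000
  · exact allR_spec chkS190 s (by omega) (by omega)
  by_cases h191 : s < 1536000
  · exact allR_spec chkS191 s (by omega) (by omega)
  by_cases h192 : s < 1544000
  · exact allR_spec chkS192 s (by omega) (by omega)
  by_cases h193 : s < 1552000
  · exact allR_spec chkS193 s (by omega) (by omega)
  by_cases h194 : s < 1560000
  · exact allR_spec chkS194 s (by omega) (by omega)
  by_cases h195 : s < 1568000
  · exact allR_spec chkS195 s (by omega) (by omega)
  by_cases h196 : s < 1576000
  · exact allR_spec chkS196 s (by omega) (by omega)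
  by_cases h197 : s < 1584000
  · exact allR_spec chkS197 s (by omega) (by omega)
  by_cases h198 : s < 1592000
  · exact allR_spec chkS198 s (by omega) (by omega)
  by_cases h199 : s < 1600000
  · exact allR_spec chkS199 s (by omega) (by omega)
  by_cases h200 : s < 1608000
  · exact allR_spec chkS200 s (by omega) (by omega)
  by_cases h201 : s < 1616000
  · exact allR_spec chkS201 s (by omega) (by omega)
  by_cases h202 : s < 1624000
  · exact allR_spec chkS202 s (by omega) (by omega)
  by_cases h203 : s < 1632000
  · exact allR_spec chkS203 s (by omega) (by omega)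
  by_cases h204 : s < 1640000
  · exact allR_spec chkS204 s (by omega) (by omega)
  by_cases h205 : s < 1648000
  · exact allR_spec chkS205 s (by omega) (by omega)
  by_cases h206 : s < 1656000
  · exact allR_spec chkS206 s (by omega) (by omega)
  by_cases h207 : s < 1664000
  · exact allR_spec chkS207 s (by omega) (by omega)
  by_cases h208 : s < 1672000
  · exact allR_spec chkS208 s (by omega) (by omega)
  by_cases h209 : s < 1680000
  · exact allR_spec chkS209 s (by omega) (by omega)
  by_cases h210 : s < 1688000
  · exact allR_spec chkS210 s (by omega) (by omega)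
  by_cases h211 : s < 1696000
  · exact allR_spec chkS211 s (by omega) (by omega)
  by_cases h212 : s < 1704000
  · exact allR_spec chkS212 s (by omega) (by omega)
  by_cases h213 : s < 1712000
  · exact allR_spec chkS213 s (by omega) (by omega)
  by_cases h214 : s < 1720000
  · exact allR_spec chkS214 s (by omega) (by omega)
  by_cases h215 : s < 1728000
  · exact allR_spec chkS215 s (by omega) (by omega)
  by_cases h216 : s < 1736000
  · exact allR_spec chkS216 s (by omega) (by omega)
  by_cases h217 : s < 1744000
  · exact allR_spec chkS217 s (by omega) (by omega)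
  by_cases h218 : s < 1752000
  · exact allR_spec chkS218 s (by omega) (by omega)
  by_cases h219 : s < 1760000
  · exact allR_spec chkS219 s (by omega) (by omega)
  by_cases h220 : s < 1768000
  · exact allR_spec chkS220 s (by omega) (by omega)
  by_cases h221 : s < 1776000
  · exact allR_spec chkS221 s (by omega) (by omega)
  by_cases h222 : s < 1784000
  · exact allR_spec chkS222 s (by omega) (by omega)
  by_cases h223 : s < 1792000
  · exact allR_spec chkS223 s (by omega) (by omega)
  by_cases h224 : s < 1800000
  · exact allR_spec chkS224 s (by omega) (by omega)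
  by_cases h225 : s < 1808000
  · exact allR_spec chkS225 s (by omega) (by omega)
  by_cases h226 : s < 1816000
  · exact allR_spec chkS226 s (by omega) (by omega)
  by_cases h227 : s < 1824000
  · exact allR_spec chkS227 s (by omega) (by omega)
  by_cases h228 : s < 1832000
  · exact allR_spec chkS228 s (by omega) (by omega)
  by_cases h229 : s < 1840000
  · exact allR_spec chkS229 s (by omega) (by omega)
  by_cases h230 : s < 1848000
  · exact allR_spec chkS230 s (by omega) (by omega)
  by_cases h231 : s < 1856000
  · exact allR_spec chkS231 s (by omega) (by omega)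
  by_cases h232 : s < 1864000
  · exact allR_spec chkS232 s (by omega) (by omega)
  by_cases h233 : s < 1872000
  · exact allR_spec chkS233 s (by omega) (by omega)
  by_cases h234 : s < 1880000
  · exact allR_spec chkS234 s (by omega) (by omega)
  by_cases h235 : s < 1888000
  · exact allR_spec chkS235 s (by omega) (by omega)
  by_cases h236 : s < 1896000
  · exact allR_spec chkS236 s (by omega) (by omega)
  by_cases h237 : s < 1904000
  · exact allR_spec chkS237 s (by omega) (by omega)
  by_cases h238 : s < 1912000
  · exact allR_spec chkS238 s (by omega) (by omega)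
  by_cases h239 : s < 1920000
  · exact allR_spec chkS239 s (by omega) (by omega)
  by_cases h240 : s < 1928000
  · exact allR_spec chkS240 s (by omega) (by omega)
  by_cases h241 : s < 1936000
  · exact allR_spec chkS241 s (by omega) (by omega)
  by_cases h242 : s < 1944000
  · exact allR_spec chkS242 s (by omega) (by omega)
  by_cases h243 : s < 1952000
  · exact allR_spec chkS243 s (by omega) (by omega)
  by_cases h244 : s < 1960000
  · exact allR_spec chkS244 s (by omega) (by omega)
  by_cases h245 : s < 1968000
  · exact allR_spec chkS245 s (by omega) (by omega)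
  by_cases h246 : s < 1976000
  · exact allR_spec chkS246 s (by omega) (by omega)
  by_cases h247 : s < 1984000
  · exact allR_spec chkS247 s (by omega) (by omega)
  by_cases h248 : s < 1992000
  · exact allR_spec chkS248 s (by omega) (by omega)
  by_cases h249 : s < 2000000
  · exact allR_spec chkS249 s (by omega) (by omega)
  by_cases h250 : s < 2008000
  · exact allR_spec chkS250 s (by omega) (by omega)
  by_cases h251 : s < 2016000
  · exact allR_spec chkS251 s (by omega) (by omega)
  by_cases h252 : s < 2024000
  · exact allR_spec chkS252 s (by omega) (by omega)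
  by_cases h253 : s < 2032000
  · exact allR_spec chkS253 s (by omega) (by omega)
  by_cases h254 : s < 2040000
  · exact allR_spec chkS254 s (by omega) (by omega)
  by_cases h255 : s < 2048000
  · exact allR_spec chkS255 s (by omega) (by omega)
  by_cases h256 : s < 2056000
  · exact allR_spec chkS256 s (by omega) (by omega)
  by_cases h257 : s < 2064000
  · exact allR_spec chkS257 s (by omega) (by omega)
  by_cases h258 : s < 2072000
  · exact allR_spec chkS258 s (by omega) (by omega)
  by_cases h259 : s < 2080000
  · exact allR_spec chkS259 s (by omega) (by omega)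
  by_cases h260 : s < 2088000
  · exact allR_spec chkS260 s (by omega) (by omega)
  by_cases h261 : s < 2096000
  · exact allR_spec chkS261 s (by omega) (by omega)
  by_cases h262 : s < 2104000
  · exact allR_spec chkS262 s (by omega) (by omega)
  by_cases h263 : s < 2112000
  · exact allR_spec chkS263 s (by omega) (by omega)
  by_cases h264 : s < 2120000
  · exact allR_spec chkS264 s (by omega) (by omega)
  by_cases h265 : s < 2128000
  · exact allR_spec chkS265 s (by omega) (by omega)
  by_cases h266 : s < 2136000
  · exact allR_spec chkS266 s (by omega) (by omega)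
  by_cases h267 : s < 2144000
  · exact allR_spec chkS267 s (by omega) (by omega)
  by_cases h268 : s < 2152000
  · exact allR_spec chkS268 s (by omega) (by omega)
  by_cases h269 : s < 2160000
  · exact allR_spec chkS269 s (by omega) (by omega)
  by_cases h270 : s < 2168000
  · exact allR_spec chkS270 s (by omega) (by omega)
  by_cases h271 : s < 2176000
  · exact allR_spec chkS271 s (by omega) (by omega)
  by_cases h272 : s < 2184000
  · exact allR_spec chkS272 s (by omega) (by omega)
  by_cases h273 : s < 2192000
  · exact allR_spec chkS273 s (by omega) (by omega)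
  by_cases h274 : s < 2200000
  · exact allR_spec chkS274 s (by omega) (by omega)
  by_cases h275 : s < 2208000
  · exact allR_spec chkS275 s (by omega) (by omega)
  by_cases h276 : s < 2216000
  · exact allR_spec chkS276 s (by omega) (by omega)
  by_cases h277 : s < 2224000
  · exact allR_spec chkS277 s (by omega) (by omega)
  by_cases h278 : s < 2232000
  · exact allR_spec chkS278 s (by omega) (by omega)
  by_cases h279 : s < 2240000
  · exact allR_spec chkS279 s (by omega) (by omega)
  by_cases h280 : s < 2248000
  · exact allR_spec chkS280 s (by omega) (by omega)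
  by_cases h281 : s < 2256000
  · exact allR_spec chkS281 s (by omega) (by omega)
  by_cases h282 : s < 2264000
  · exact allR_spec chkS282 s (by omega) (by omega)
  by_cases h283 : s < 2272000
  · exact allR_spec chkS283 s (by omega) (by omega)
  by_cases h284 : s < 2280000
  · exact allR_spec chkS284 s (by omega) (by omega)
  by_cases h285 : s < 2288000
  · exact allR_spec chkS285 s (by omega) (by omega)
  by_cases h286 : s < 2296000
  · exact allR_spec chkS286 s (by omega) (by omega)
  by_cases h287 : s < 2304000
  · exact allR_spec chkS287 s (by omega) (by omega)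
  by_cases h288 : s < 2312000
  · exact allR_spec chkS288 s (by omega) (by omega)
  by_cases h289 : s < 2320000
  · exact allR_spec chkS289 s (by omega) (by omega)
  by_cases h290 : s < 2328000
  · exact allR_spec chkS290 s (by omega) (by omega)
  by_cases h291 : s < 2336000
  · exact allR_spec chkS291 s (by omega) (by omega)
  by_cases h292 : s < 2344000
  · exact allR_spec chkS292 s (by omega) (by omega)
  by_cases h293 : s < 2352000
  · exact allR_spec chkS293 s (by omega) (by omega)
  by_cases h294 : s < 2360000
  · exact allR_spec chkS294 s (by omega) (by omega)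
  by_cases h295 : s < 2368000
  · exact allR_spec chkS295 s (by omega) (by omega)
  by_cases h296 : s < 2376000
  · exact allR_spec chkS296 s (by omega) (by omega)
  by_cases h297 : s < 2384000
  · exact allR_spec chkS297 s (by omega) (by omega)
  by_cases h298 : s < 2392000
  · exact allR_spec chkS298 s (by omega) (by omega)
  by_cases h299 : s < 2400000
  · exact allR_spec chkS299 s (by omega) (by omega)
  by_cases h300 : s < 2408000
  · exact allR_spec chkS300 s (by omega) (by omega)
  by_cases h301 : s < 2416000
  · exact allR_spec chkS301 s (by omega) (by omega)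
  by_cases h302 : s < 2424000
  · exact allR_spec chkS302 s (by omega) (by omega)
  by_cases h303 : s < 2432000
  · exact allR_spec chkS303 s (by omega) (by omega)
  by_cases h304 : s < 2440000
  · exact allR_spec chkS304 s (by omega) (by omega)
  by_cases h305 : s < 2448000
  · exact allR_spec chkS305 s (by omega) (by omega)
  by_cases h306 : s < 2456000
  · exact allR_spec chkS306 s (by omega) (by omega)
  by_cases h307 : s < 2464000
  · exact allR_spec chkS307 s (by omega) (by omega)
  by_cases h308 : s < 2472000
  · exact allR_spec chkS308 s (by omega) (by omega)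
  by_cases h309 : s < 2480000
  · exact allR_spec chkS309 s (by omega) (by omega)
  by_cases h310 : s < 2488000
  · exact allR_spec chkS310 s (by omega) (by omega)
  by_cases h311 : s < 2496000
  · exact allR_spec chkS311 s (by omega) (by omega)
  by_cases h312 : s < 2504000
  · exact allR_spec chkS312 s (by omega) (by omega)
  by_cases h313 : s < 2512000
  · exact allR_spec chkS313 s (by omega) (by omega)
  by_cases h314 : s < 2520000
  · exact allR_spec chkS314 s (by omega) (by omega)
  by_cases h315 : s < 2528000
  · exact allR_spec chkS315 s (by omega) (by omega)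
  by_cases h316 : s < 2536000
  · exact allR_spec chkS316 s (by omega) (by omega)
  by_cases h317 : s < 2544000
  · exact allR_spec chkS317 s (by omega) (by omega)
  by_cases h318 : s < 2552000
  · exact allR_spec chkS318 s (by omega) (by omega)
  by_cases h319 : s < 2560000
  · exact allR_spec chkS319 s (by omega) (by omega)
  by_cases h320 : s < 2568000
  · exact allR_spec chkS320 s (by omega) (by omega)
  by_cases h321 : s < 2576000
  · exact allR_spec chkS321 s (by omega) (by omega)
  by_cases h322 : s < 2584000
  · exact allR_spec chkS322 s (by omega) (by omega)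
  by_cases h323 : s < 2592000
  · exact allR_spec chkS323 s (by omega) (by omega)
  by_cases h324 : s < 2600000
  · exact allR_spec chkS324 s (by omega) (by omega)
  by_cases h325 : s < 2608000
  · exact allR_spec chkS325 s (by omega) (by omega)
  by_cases h326 : s < 2616000
  · exact allR_spec chkS326 s (by omega) (by omega)
  by_cases h327 : s < 2624000
  · exact allR_spec chkS327 s (by omega) (by omega)
  by_cases h328 : s < 2632000
  · exact allR_spec chkS328 s (by omega) (by omega)
  by_cases h329 : s < 2640000
  · exact allR_spec chkS329 s (by omega) (by omega)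
  by_cases h330 : s < 2648000
  · exact allR_spec chkS330 s (by omega) (by omega)
  by_cases h331 : s < 2656000
  · exact allR_spec chkS331 s (by omega) (by omega)
  by_cases h332 : s < 2664000
  · exact allR_spec chkS332 s (by omega) (by omega)
  by_cases h333 : s < 2672000
  · exact allR_spec chkS333 s (by omega) (by omega)
  by_cases h334 : s < 2680000
  · exact allR_spec chkS334 s (by omega) (by omega)
  by_cases h335 : s < 2688000
  · exact allR_spec chkS335 s (by omega) (by omega)
  by_cases h336 : s < 2696000
  · exact allR_spec chkS336 s (by omega) (by omega)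
  by_cases h337 : s < 2704000
  · exact allR_spec chkS337 s (by omega) (by omega)
  by_cases h338 : s < 2712000
  · exact allR_spec chkS338 s (by omega) (by omega)
  by_cases h339 : s < 2720000
  · exact allR_spec chkS339 s (by omega) (by omega)
  by_cases h340 : s < 2728000
  · exact allR_spec chkS340 s (by omega) (by omega)
  by_cases h341 : s < 2736000
  · exact allR_spec chkS341 s (by omega) (by omega)
  by_cases h342 : s < 2744000
  · exact allR_spec chkS342 s (by omega) (by omega)
  by_cases h343 : s < 2752000
  · exact allR_spec chkS343 s (by omega) (by omega)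
  by_cases h344 : s < 2760000
  · exact allR_spec chkS344 s (by omega) (by omega)
  by_cases h345 : s < 2768000
  · exact allR_spec chkS345 s (by omega) (by omega)
  by_cases h346 : s < 2776000
  · exact allR_spec chkS346 s (by omega) (by omega)
  by_cases h347 : s < 2784000
  · exact allR_spec chkS347 s (by omega) (by omega)
  by_cases h348 : s < 2792000
  · exact allR_spec chkS348 s (by omega) (by omega)
  by_cases h349 : s < 2800000
  · exact allR_spec chkS349 s (by omega) (by omega)
  by_cases h350 : s < 2808000
  · exact allR_spec chkS350 s (by omega) (by omega)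
  by_cases h351 : s < 2816000
  · exact allR_spec chkS351 s (by omega) (by omega)
  by_cases h352 : s < 2824000
  · exact allR_spec chkS352 s (by omega) (by omega)
  by_cases h353 : s < 2832000
  · exact allR_spec chkS353 s (by omega) (by omega)
  by_cases h354 : s < 2840000
  · exact allR_spec chkS354 s (by omega) (by omega)
  by_cases h355 : s < 2848000
  · exact allR_spec chkS355 s (by omega) (by omega)
  by_cases h356 : s < 2856000
  · exact allR_spec chkS356 s (by omega) (by omega)
  by_cases h357 : s < 2864000
  · exact allR_spec chkS357 s (by omega) (by omega)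
  by_cases h358 : s < 2872000
  · exact allR_spec chkS358 s (by omega) (by omega)
  by_cases h359 : s < 2880000
  · exact allR_spec chkS359 s (by omega) (by omega)
  by_cases h360 : s < 2888000
  · exact allR_spec chkS360 s (by omega) (by omega)
  by_cases h361 : s < 2896000
  · exact allR_spec chkS361 s (by omega) (by omega)
  by_cases h362 : s < 2904000
  · exact allR_spec chkS362 s (by omega) (by omega)
  by_cases h363 : s < 2912000
  · exact allR_spec chkS363 s (by omega) (by omega)
  by_cases h364 : s < 2920000
  · exact allR_spec chkS364 s (by omega) (by omega)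
  by_cases h365 : s < 2928000
  · exact allR_spec chkS365 s (by omega) (by omega)
  by_cases h366 : s < 2936000
  · exact allR_spec chkS366 s (by omega) (by omega)
  by_cases h367 : s < 2944000
  · exact allR_spec chkS367 s (by omega) (by omega)
  by_cases h368 : s < 2952000
  · exact allR_spec chkS368 s (by omega) (by omega)
  by_cases h369 : s < 2960000
  · exact allR_spec chkS369 s (by omega) (by omega)
  by_cases h370 : s < 2968000
  · exact allR_spec chkS370 s (by omega) (by omega)
  by_cases h371 : s < 2976000
  · exact allR_spec chkS371 s (by omega) (by omega)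
  by_cases h372 : s < 2984000
  · exact allR_spec chkS372 s (by omega) (by omega)
  by_cases h373 : s < 2992000
  · exact allR_spec chkS373 s (by omega) (by omega)
  by_cases h374 : s < 3000000
  · exact allR_spec chkS374 s (by omega) (by omega)
  by_cases h375 : s < 3008000
  · exact allR_spec chkS375 s (by omega) (by omega)
  by_cases h376 : s < 3016000
  · exact allR_spec chkS376 s (by omega) (by omega)
  by_cases h377 : s < 3024000
  · exact allR_spec chkS377 s (by omega) (by omega)
  by_cases h378 : s < 3032000
  · exact allR_spec chkS378 s (by omega) (by omega)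
  by_cases h379 : s < 3040000
  · exact allR_spec chkS379 s (by omega) (by omega)
  by_cases h380 : s < 3048000
  · exact allR_spec chkS380 s (by omega) (by omega)
  by_cases h381 : s < 3056000
  · exact allR_spec chkS381 s (by omega) (by omega)
  by_cases h382 : s < 3064000
  · exact allR_spec chkS382 s (by omega) (by omega)
  by_cases h383 : s < 3072000
  · exact allR_spec chkS383 s (by omega) (by omega)
  by_cases h384 : s < 3080000
  · exact allR_spec chkS384 s (by omega) (by omega)
  by_cases h385 : s < 3088000
  · exact allR_spec chkS385 s (by omega) (by omega)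
  by_cases h386 : s < 3096000
  · exact allR_spec chkS386 s (by omega) (by omega)
  by_cases h387 : s < 3104000
  · exact allR_spec chkS387 s (by omega) (by omega)
  by_cases h388 : s < 3112000
  · exact allR_spec chkS388 s (by omega) (by omega)
  by_cases h389 : s < 3120000
  · exact allR_spec chkS389 s (by omega) (by omega)
  by_cases h390 : s < 3128000
  · exact allR_spec chkS390 s (by omega) (by omega)
  by_cases h391 : s < 3136000
  · exact allR_spec chkS391 s (by omega) (by omega)
  by_cases h392 : s < 3144000
  · exact allR_spec chkS392 s (by omega) (by omega)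
  by_cases h393 : s < 3152000
  · exact allR_spec chkS393 s (by omega) (by omega)
  by_cases h394 : s < 3160000
  · exact allR_spec chkS394 s (by omega) (by omega)
  by_cases h395 : s < 3168000
  · exact allR_spec chkS395 s (by omega) (by omega)
  by_cases h396 : s < 3176000
  · exact allR_spec chkS396 s (by omega) (by omega)
  by_cases h397 : s < 3184000
  · exact allR_spec chkS397 s (by omega) (by omega)
  by_cases h398 : s < 3192000
  · exact allR_spec chkS398 s (by omega) (by omega)
  by_cases h399 : s < 3200000
  · exact allR_spec chkS399 s (by omega) (by omega)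
  by_cases h400 : s < 3208000
  · exact allR_spec chkS400 s (by omega) (by omega)
  by_cases h401 : s < 3216000
  · exact allR_spec chkS401 s (by omega) (by omega)
  by_cases h402 : s < 3224000
  · exact allR_spec chkS402 s (by omega) (by omega)
  by_cases h403 : s < 3232000
  · exact allR_spec chkS403 s (by omega) (by omega)
  by_cases h404 : s < 3240000
  · exact allR_spec chkS404 s (by omega) (by omega)
  by_cases h405 : s < 3248000
  · exact allR_spec chkS405 s (by omega) (by omega)
  by_cases h406 : s < 3256000
  · exact allR_spec chkS406 s (by omega) (by omega)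
  by_cases h407 : s < 3264000
  · exact allR_spec chkS407 s (by omega) (by omega)
  by_cases h408 : s < 3272000
  · exact allR_spec chkS408 s (by omega) (by omega)
  by_cases h409 : s < 3280000
  · exact allR_spec chkS409 s (by omega) (by omega)
  by_cases h410 : s < 3288000
  · exact allR_spec chkS410 s (by omega) (by omega)
  by_cases h411 : s < 3296000
  · exact allR_spec chkS411 s (by omega) (by omega)
  by_cases h412 : s < 3304000
  · exact allR_spec chkS412 s (by omega) (by omega)
  by_cases h413 : s < 3312000
  · exact allR_spec chkS413 s (by omega) (by omega)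
  by_cases h414 : s < 3320000
  · exact allR_spec chkS414 s (by omega) (by omega)
  by_cases h415 : s < 3328000
  · exact allR_spec chkS415 s (by omega) (by omega)
  by_cases h416 : s < 3336000
  · exact allR_spec chkS416 s (by omega) (by omega)
  by_cases h417 : s < 3344000
  · exact allR_spec chkS417 s (by omega) (by omega)
  by_cases h418 : s < 3352000
  · exact allR_spec chkS418 s (by omega) (by omega)
  by_cases h419 : s < 3360000
  · exact allR_spec chkS419 s (by omega) (by omega)
  by_cases h420 : s < 3368000
  · exact allR_spec chkS420 s (by omega) (by omega)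
  by_cases h421 : s < 3376000
  · exact allR_spec chkS421 s (by omega) (by omega)
  by_cases h422 : s < 3384000
  · exact allR_spec chkS422 s (by omega) (by omega)
  by_cases h423 : s < 3392000
  · exact allR_spec chkS423 s (by omega) (by omega)
  by_cases h424 : s < 3400000
  · exact allR_spec chkS424 s (by omega) (by omega)
  by_cases h425 : s < 3408000
  · exact allR_spec chkS425 s (by omega) (by omega)
  by_cases h426 : s < 3416000
  · exact allR_spec chkS426 s (by omega) (by omega)
  by_cases h427 : s < 3424000
  · exact allR_spec chkS427 s (by omega) (by omega)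
  by_cases h428 : s < 3432000
  · exact allR_spec chkS428 s (by omega) (by omega)
  by_cases h429 : s < 3440000
  · exact allR_spec chkS429 s (by omega) (by omega)
  by_cases h430 : s < 3448000
  · exact allR_spec chkS430 s (by omega) (by omega)
  by_cases h431 : s < 3456000
  · exact allR_spec chkS431 s (by omega) (by omega)
  by_cases h432 : s < 3464000
  · exact allR_spec chkS432 s (by omega) (by omega)
  by_cases h433 : s < 3472000
  · exact allR_spec chkS433 s (by omega) (by omega)
  by_cases h434 : s < 3480000
  · exact allR_spec chkS434 s (by omega) (by omega)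
  by_cases h435 : s < 3488000
  · exact allR_spec chkS435 s (by omega) (by omega)
  by_cases h436 : s < 3496000
  · exact allR_spec chkS436 s (by omega) (by omega)
  by_cases h437 : s < 3504000
  · exact allR_spec chkS437 s (by omega) (by omega)
  by_cases h438 : s < 3512000
  · exact allR_spec chkS438 s (by omega) (by omega)
  by_cases h439 : s < 3520000
  · exact allR_spec chkS439 s (by omega) (by omega)
  by_cases h440 : s < 3528000
  · exact allR_spec chkS440 s (by omega) (by omega)
  by_cases h441 : s < 3536000
  · exact allR_spec chkS441 s (by omega) (by omega)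
  by_cases h442 : s < 3544000
  · exact allR_spec chkS442 s (by omega) (by omega)
  by_cases h443 : s < 3552000
  · exact allR_spec chkS443 s (by omega) (by omega)
  by_cases h444 : s < 3560000
  · exact allR_spec chkS444 s (by omega) (by omega)
  by_cases h445 : s < 3568000
  · exact allR_spec chkS445 s (by omega) (by omega)
  by_cases h446 : s < 3576000
  · exact allR_spec chkS446 s (by omega) (by omega)
  by_cases h447 : s < 3584000
  · exact allR_spec chkS447 s (by omega) (by omega)
  by_cases h448 : s < 3592000
  · exact allR_spec chkS448 s (by omega) (by omega)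
  by_cases h449 : s < 3600000
  · exact allR_spec chkS449 s (by omega) (by omega)
  by_cases h450 : s < 3608000
  · exact allR_spec chkS450 s (by omega) (by omega)
  by_cases h451 : s < 3616000
  · exact allR_spec chkS451 s (by omega) (by omega)
  by_cases h452 : s < 3624000
  · exact allR_spec chkS452 s (by omega) (by omega)
  by_cases h453 : s < 3632000
  · exact allR_spec chkS453 s (by omega) (by omega)
  by_cases h454 : s < 3640000
  · exact allR_spec chkS454 s (by omega) (by omega)
  by_cases h455 : s < 3648000
  · exact allR_spec chkS455 s (by omega) (by omega)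
  by_cases h456 : s < 3656000
  · exact allR_spec chkS456 s (by omega) (by omega)
  by_cases h457 : s < 3664000
  · exact allR_spec chkS457 s (by omega) (by omega)
  by_cases h458 : s < 3672000
  · exact allR_spec chkS458 s (by omega) (by omega)
  by_cases h459 : s < 3680000
  · exact allR_spec chkS459 s (by omega) (by omega)
  by_cases h460 : s < 3688000
  · exact allR_spec chkS460 s (by omega) (by omega)
  by_cases h461 : s < 3696000
  · exact allR_spec chkS461 s (by omega) (by omega)
  by_cases h462 : s < 3704000
  · exact allR_spec chkS462 s (by omega) (by omega)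
  by_cases h463 : s < 3712000
  · exact allR_spec chkS463 s (by omega) (by omega)
  by_cases h464 : s < 3720000
  · exact allR_spec chkS464 s (by omega) (by omega)
  by_cases h465 : s < 3728000
  · exact allR_spec chkS465 s (by omega) (by omega)
  by_cases h466 : s < 3736000
  · exact allR_spec chkS466 s (by omega) (by omega)
  by_cases h467 : s < 3744000
  · exact allR_spec chkS467 s (by omega) (by omega)
  by_cases h468 : s < 3752000
  · exact allR_spec chkS468 s (by omega) (by omega)
  by_cases h469 : s < 3760000
  · exact allR_spec chkS469 s (by omega) (by omega)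
  by_cases h470 : s < 3768000
  · exact allR_spec chkS470 s (by omega) (by omega)
  by_cases h471 : s < 3776000
  · exact allR_spec chkS471 s (by omega) (by omega)
  by_cases h472 : s < 3784000
  · exact allR_spec chkS472 s (by omega) (by omega)
  by_cases h473 : s < 3792000
  · exact allR_spec chkS473 s (by omega) (by omega)
  by_cases h474 : s < 3800000
  · exact allR_spec chkS474 s (by omega) (by omega)
  by_cases h475 : s < 3808000
  · exact allR_spec chkS475 s (by omega) (by omega)
  by_cases h476 : s < 3816000
  · exact allR_spec chkS476 s (by omega) (by omega)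
  by_cases h477 : s < 3824000
  · exact allR_spec chkS477 s (by omega) (by omega)
  by_cases h478 : s < 3832000
  · exact allR_spec chkS478 s (by omega) (by omega)
  by_cases h479 : s < 3840000
  · exact allR_spec chkS479 s (by omega) (by omega)
  by_cases h480 : s < 3848000
  · exact allR_spec chkS480 s (by omega) (by omega)
  by_cases h481 : s < 3856000
  · exact allR_spec chkS481 s (by omega) (by omega)
  by_cases h482 : s < 3864000
  · exact allR_spec chkS482 s (by omega) (by omega)
  by_cases h483 : s < 3872000
  · exact allR_spec chkS483 s (by omega) (by omega)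
  by_cases h484 : s < 3880000
  · exact allR_spec chkS484 s (by omega) (by omega)
  by_cases h485 : s < 3888000
  · exact allR_spec chkS485 s (by omega) (by omega)
  by_cases h486 : s < 3896000
  · exact allR_spec chkS486 s (by omega) (by omega)
  by_cases h487 : s < 3904000
  · exact allR_spec chkS487 s (by omega) (by omega)
  by_cases h488 : s < 3912000
  · exact allR_spec chkS488 s (by omega) (by omega)
  by_cases h489 : s < 3920000
  · exact allR_spec chkS489 s (by omega) (by omega)
  by_cases h490 : s < 3928000
  · exact allR_spec chkS490 s (by omega) (by omega)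
  by_cases h491 : s < 3936000
  · exact allR_spec chkS491 s (by omega) (by omega)
  by_cases h492 : s < 3944000
  · exact allR_spec chkS492 s (by omega) (by omega)
  by_cases h493 : s < 3952000
  · exact allR_spec chkS493 s (by omega) (by omega)
  by_cases h494 : s < 3960000
  · exact allR_spec chkS494 s (by omega) (by omega)
  by_cases h495 : s < 3968000
  · exact allR_spec chkS495 s (by omega) (by omega)
  by_cases h496 : s < 3976000
  · exact allR_spec chkS496 s (by omega) (by omega)
  by_cases h497 : s < 3984000
  · exact allR_spec chkS497 s (by omega) (by omega)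
  by_cases h498 : s < 3992000
  · exact allR_spec chkS498 s (by omega) (by omega)
  by_cases h499 : s < 4000000
  · exact allR_spec chkS499 s (by omega) (by omega)
  by_cases h500 : s < 4008000
  · exact allR_spec chkS500 s (by omega) (by omega)
  by_cases h501 : s < 4016000
  · exact allR_spec chkS501 s (by omega) (by omega)
  by_cases h502 : s < 4024000
  · exact allR_spec chkS502 s (by omega) (by omega)
  by_cases h503 : s < 4032000
  · exact allR_spec chkS503 s (by omega) (by omega)
  by_cases h504 : s < 4040000
  · exact allR_spec chkS504 s (by omega) (by omega)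
  by_cases h505 : s < 4048000
  · exact allR_spec chkS505 s (by omega) (by omega)
  by_cases h506 : s < 4056000
  · exact allR_spec chkS506 s (by omega) (by omega)
  by_cases h507 : s < 4064000
  · exact allR_spec chkS507 s (by omega) (by omega)
  by_cases h508 : s < 4072000
  · exact allR_spec chkS508 s (by omega) (by omega)
  by_cases h509 : s < 4080000
  · exact allR_spec chkS509 s (by omega) (by omega)
  by_cases h510 : s < 4088000
  · exact allR_spec chkS510 s (by omega) (by omega)
  by_cases h511 : s < 4096000
  · exact allR_spec chkS511 s (by omega) (by omega)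
  by_cases h512 : s < 4104000
  · exact allR_spec chkS512 s (by omega) (by omega)
  by_cases h513 : s < 4112000
  · exact allR_spec chkS513 s (by omega) (by omega)
  by_cases h514 : s < 4120000
  · exact allR_spec chkS514 s (by omega) (by omega)
  by_cases h515 : s < 4128000
  · exact allR_spec chkS515 s (by omega) (by omega)
  by_cases h516 : s < 4136000
  · exact allR_spec chkS516 s (by omega) (by omega)
  by_cases h517 : s < 4144000
  · exact allR_spec chkS517 s (by omega) (by omega)
  by_cases h518 : s < 4152000
  · exact allR_spec chkS518 s (by omega) (by omega)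
  by_cases h519 : s < 4160000
  · exact allR_spec chkS519 s (by omega) (by omega)
  by_cases h520 : s < 4168000
  · exact allR_spec chkS520 s (by omega) (by omega)
  by_cases h521 : s < 4176000
  · exact allR_spec chkS521 s (by omega) (by omega)
  by_cases h522 : s < 4184000
  · exact allR_spec chkS522 s (by omega) (by omega)
  by_cases h523 : s < 4192000
  · exact allR_spec chkS523 s (by omega) (by omega)
  by_cases h524 : s < 4200000
  · exact allR_spec chkS524 s (by omega) (by omega)
  by_cases h525 : s < 4208000
  · exact allR_spec chkS525 s (by omega) (by omega)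
  by_cases h526 : s < 4216000
  · exact allR_spec chkS526 s (by omega) (by omega)
  by_cases h527 : s < 4224000
  · exact allR_spec chkS527 s (by omega) (by omega)
  by_cases h528 : s < 4232000
  · exact allR_spec chkS528 s (by omega) (by omega)
  by_cases h529 : s < 4240000
  · exact allR_spec chkS529 s (by omega) (by omega)
  by_cases h530 : s < 4248000
  · exact allR_spec chkS530 s (by omega) (by omega)
  by_cases h531 : s < 4256000
  · exact allR_spec chkS531 s (by omega) (by omega)
  by_cases h532 : s < 4264000
  · exact allR_spec chkS532 s (by omega) (by omega)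
  by_cases h533 : s < 4272000
  · exact allR_spec chkS533 s (by omega) (by omega)
  by_cases h534 : s < 4280000
  · exact allR_spec chkS534 s (by omega) (by omega)
  by_cases h535 : s < 4288000
  · exact allR_spec chkS535 s (by omega) (by omega)
  by_cases h536 : s < 4296000
  · exact allR_spec chkS536 s (by omega) (by omega)
  by_cases h537 : s < 4304000
  · exact allR_spec chkS537 s (by omega) (by omega)
  by_cases h538 : s < 4312000
  · exact allR_spec chkS538 s (by omega) (by omega)
  by_cases h539 : s < 4320000
  · exact allR_spec chkS539 s (by omega) (by omega)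
  by_cases h540 : s < 4328000
  · exact allR_spec chkS540 s (by omega) (by omega)
  by_cases h541 : s < 4336000
  · exact allR_spec chkS541 s (by omega) (by omega)
  by_cases h542 : s < 4344000
  · exact allR_spec chkS542 s (by omega) (by omega)
  by_cases h543 : s < 4352000
  · exact allR_spec chkS543 s (by omega) (by omega)
  by_cases h544 : s < 4360000
  · exact allR_spec chkS544 s (by omega) (by omega)
  by_cases h545 : s < 4368000
  · exact allR_spec chkS545 s (by omega) (by omega)
  by_cases h546 : s < 4376000
  · exact allR_spec chkS546 s (by omega) (by omega)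
  by_cases h547 : s < 4384000
  · exact allR_spec chkS547 s (by omega) (by omega)
  by_cases h548 : s < 4392000
  · exact allR_spec chkS548 s (by omega) (by omega)
  by_cases h549 : s < 4400000
  · exact allR_spec chkS549 s (by omega) (by omega)
  by_cases h550 : s < 4408000
  · exact allR_spec chkS550 s (by omega) (by omega)
  by_cases h551 : s < 4416000
  · exact allR_spec chkS551 s (by omega) (by omega)
  by_cases h552 : s < 4424000
  · exact allR_spec chkS552 s (by omega) (by omega)
  by_cases h553 : s < 4432000
  · exact allR_spec chkS553 s (by omega) (by omega)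
  by_cases h554 : s < 4440000
  · exact allR_spec chkS554 s (by omega) (by omega)
  by_cases h555 : s < 4448000
  · exact allR_spec chkS555 s (by omega) (by omega)
  by_cases h556 : s < 4456000
  · exact allR_spec chkS556 s (by omega) (by omega)
  by_cases h557 : s < 4464000
  · exact allR_spec chkS557 s (by omega) (by omega)
  by_cases h558 : s < 4472000
  · exact allR_spec chkS558 s (by omega) (by omega)
  by_cases h559 : s < 4480000
  · exact allR_spec chkS559 s (by omega) (by omega)
  by_cases h560 : s < 4488000
  · exact allR_spec chkS560 s (by omega) (by omega)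
  by_cases h561 : s < 4496000
  · exact allR_spec chkS561 s (by omega) (by omega)
  by_cases h562 : s < 4504000
  · exact allR_spec chkS562 s (by omega) (by omega)
  by_cases h563 : s < 4512000
  · exact allR_spec chkS563 s (by omega) (by omega)
  by_cases h564 : s < 4520000
  · exact allR_spec chkS564 s (by omega) (by omega)
  by_cases h565 : s < 4528000
  · exact allR_spec chkS565 s (by omega) (by omega)
  by_cases h566 : s < 4536000
  · exact allR_spec chkS566 s (by omega) (by omega)
  by_cases h567 : s < 4544000
  · exact allR_spec chkS567 s (by omega) (by omega)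
  by_cases h568 : s < 4552000
  · exact allR_spec chkS568 s (by omega) (by omega)
  by_cases h569 : s < 4560000
  · exact allR_spec chkS569 s (by omega) (by omega)
  by_cases h570 : s < 4568000
  · exact allR_spec chkS570 s (by omega) (by omega)
  by_cases h571 : s < 4576000
  · exact allR_spec chkS571 s (by omega) (by omega)
  by_cases h572 : s < 4584000
  · exact allR_spec chkS572 s (by omega) (by omega)
  by_cases h573 : s < 4592000
  · exact allR_spec chkS573 s (by omega) (by omega)
  by_cases h574 : s < 4600000
  · exact allR_spec chkS574 s (by omega) (by omega)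
  by_cases h575 : s < 4608000
  · exact allR_spec chkS575 s (by omega) (by omega)
  by_cases h576 : s < 4616000
  · exact allR_spec chkS576 s (by omega) (by omega)
  by_cases h577 : s < 4624000
  · exact allR_spec chkS577 s (by omega) (by omega)
  by_cases h578 : s < 4632000
  · exact allR_spec chkS578 s (by omega) (by omega)
  by_cases h579 : s < 4640000
  · exact allR_spec chkS579 s (by omega) (by omega)
  by_cases h580 : s < 4648000
  · exact allR_spec chkS580 s (by omega) (by omega)
  by_cases h581 : s < 4656000
  · exact allR_spec chkS581 s (by omega) (by omega)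
  by_cases h582 : s < 4664000
  · exact allR_spec chkS582 s (by omega) (by omega)
  by_cases h583 : s < 4672000
  · exact allR_spec chkS583 s (by omega) (by omega)
  by_cases h584 : s < 4680000
  · exact allR_spec chkS584 s (by omega) (by omega)
  by_cases h585 : s < 4688000
  · exact allR_spec chkS585 s (by omega) (by omega)
  by_cases h586 : s < 4696000
  · exact allR_spec chkS586 s (by omega) (by omega)
  by_cases h587 : s < 4704000
  · exact allR_spec chkS587 s (by omega) (by omega)
  by_cases h588 : s < 4712000
  · exact allR_spec chkS588 s (by omega) (by omega)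
  by_cases h589 : s < 4720000
  · exact allR_spec chkS589 s (by omega) (by omega)
  by_cases h590 : s < 4728000
  · exact allR_spec chkS590 s (by omega) (by omega)
  by_cases h591 : s < 4733448
  · exact allR_spec chkS591 s (by omega) (by omega)
  omega

theorem hN : ∀ ν < n, chkName SH NH NC WD n ncol nrw nw tmax ν = true := by
  intro ν hν
  have hν' : ν < 394454 := hν
  by_cases h0 : ν < 6000
  · exact allR_spec chkN0 ν (by omega) (by omega)
  by_cases h1 : ν < 12000
  · exact allR_spec chkN1 ν (by omega) (by omega)
  by_cases h2 : ν < 18000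
  · exact allR_spec chkN2 ν (by omega) (by omega)
  by_cases h3 : ν < 24000
  · exact allR_spec chkN3 ν (by omega) (by omega)
  by_cases h4 : ν < 30000
  · exact allR_spec chkN4 ν (by omega) (by omega)
  by_cases h5 : ν < 36000
  · exact allR_spec chkN5 ν (by omega) (by omega)
  by_cases h6 : ν < 42000
  · exact allR_spec chkN6 ν (by omega) (by omega)
  by_cases h7 : ν < 48000
  · exact allR_spec chkN7 ν (by omega) (by omega)
  by_cases h8 : ν < 54000
  · exact allR_spec chkN8 ν (by omega) (by omega)
  by_cases h9 : ν < 60000
  · exact allR_spec chkN9 ν (by omega) (by omega)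
  by_cases h10 : ν < 66000
  · exact allR_spec chkN10 ν (by omega) (by omega)
  by_cases h11 : ν < 72000
  · exact allR_spec chkN11 ν (by omega) (by omega)
  by_cases h12 : ν < 78000
  · exact allR_spec chkN12 ν (by omega) (by omega)
  by_cases h13 : ν < 84000
  · exact allR_spec chkN13 ν (by omega) (by omega)
  by_cases h14 : ν < 90000
  · exact allR_spec chkN14 ν (by omega) (by omega)
  by_cases h15 : ν < 96000
  · exact allR_spec chkN15 ν (by omega) (by omega)
  by_cases h16 : ν < 102000
  · exact allR_spec chkN16 ν (by omega) (by omega)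
  by_cases h17 : ν < 108000
  · exact allR_spec chkN17 ν (by omega) (by omega)
  by_cases h18 : ν < 114000
  · exact allR_spec chkN18 ν (by omega) (by omega)
  by_cases h19 : ν < 120000
  · exact allR_spec chkN19 ν (by omega) (by omega)
  by_cases h20 : ν < 126000
  · exact allR_spec chkN20 ν (by omega) (by omega)
  by_cases h21 : ν < 132000
  · exact allR_spec chkN21 ν (by omega) (by omega)
  by_cases h22 : ν < 138000
  · exact allR_spec chkN22 ν (by omega) (by omega)
  by_cases h23 : ν < 144000
  · exact allR_spec chkN23 ν (by omega) (by omega)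
  by_cases h24 : ν < 150000
  · exact allR_spec chkN24 ν (by omega) (by omega)
  by_cases h25 : ν < 156000
  · exact allR_spec chkN25 ν (by omega) (by omega)
  by_cases h26 : ν < 162000
  · exact allR_spec chkN26 ν (by omega) (by omega)
  by_cases h27 : ν < 168000
  · exact allR_spec chkN27 ν (by omega) (by omega)
  by_cases h28 : ν < 174000
  · exact allR_spec chkN28 ν (by omega) (by omega)
  by_cases h29 : ν < 180000
  · exact allR_spec chkN29 ν (by omega) (by omega)
  by_cases h30 : ν < 186000
  · exact allR_spec chkN30 ν (by omega) (by omega)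
  by_cases h31 : ν < 192000
  · exact allR_spec chkN31 ν (by omega) (by omega)
  by_cases h32 : ν < 198000
  · exact allR_spec chkN32 ν (by omega) (by omega)
  by_cases h33 : ν < 204000
  · exact allR_spec chkN33 ν (by omega) (by omega)
  by_cases h34 : ν < 210000
  · exact allR_spec chkN34 ν (by omega) (by omega)
  by_cases h35 : ν < 216000
  · exact allR_spec chkN35 ν (by omega) (by omega)
  by_cases h36 : ν < 222000
  · exact allR_spec chkN36 ν (by omega) (by omega)
  by_cases h37 : ν < 228000
  · exact allR_spec chkN37 ν (by omega) (by omega)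
  by_cases h38 : ν < 234000
  · exact allR_spec chkN38 ν (by omega) (by omega)
  by_cases h39 : ν < 240000
  · exact allR_spec chkN39 ν (by omega) (by omega)
  by_cases h40 : ν < 246000
  · exact allR_spec chkN40 ν (by omega) (by omega)
  by_cases h41 : ν < 252000
  · exact allR_spec chkN41 ν (by omega) (by omega)
  by_cases h42 : ν < 258000
  · exact allR_spec chkN42 ν (by omega) (by omega)
  by_cases h43 : ν < 264000
  · exact allR_spec chkN43 ν (by omega) (by omega)
  by_cases h44 : ν < 270000
  · exact allR_spec chkN44 ν (by omega) (by omega)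
  by_cases h45 : ν < 276000
  · exact allR_spec chkN45 ν (by omega) (by omega)
  by_cases h46 : ν < 282000
  · exact allR_spec chkN46 ν (by omega) (by omega)
  by_cases h47 : ν < 288000
  · exact allR_spec chkN47 ν (by omega) (by omega)
  by_cases h48 : ν < 294000
  · exact allR_spec chkN48 ν (by omega) (by omega)
  by_cases h49 : ν < 300000
  · exact allR_spec chkN49 ν (by omega) (by omega)
  by_cases h50 : ν < 306000
  · exact allR_spec chkN50 ν (by omega) (by omega)
  by_cases h51 : ν < 312000
  · exact allR_spec chkN51 ν (by omega) (by omega)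
  by_cases h52 : ν < 318000
  · exact allR_spec chkN52 ν (by omega) (by omega)
  by_cases h53 : ν < 324000
  · exact allR_spec chkN53 ν (by omega) (by omega)
  by_cases h54 : ν < 330000
  · exact allR_spec chkN54 ν (by omega) (by omega)
  by_cases h55 : ν < 336000
  · exact allR_spec chkN55 ν (by omega) (by omega)
  by_cases h56 : ν < 342000
  · exact allR_spec chkN56 ν (by omega) (by omega)
  by_cases h57 : ν < 348000
  · exact allR_spec chkN57 ν (by omega) (by omega)
  by_cases h58 : ν < 354000
  · exact allR_spec chkN58 ν (by omega) (by omega)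
  by_cases h59 : ν < 360000
  · exact allR_spec chkN59 ν (by omega) (by omega)
  by_cases h60 : ν < 366000
  · exact allR_spec chkN60 ν (by omega) (by omega)
  by_cases h61 : ν < 372000
  · exact allR_spec chkN61 ν (by omega) (by omega)
  by_cases h62 : ν < 378000
  · exact allR_spec chkN62 ν (by omega) (by omega)
  by_cases h63 : ν < 384000
  · exact allR_spec chkN63 ν (by omega) (by omega)
  by_cases h64 : ν < 390000
  · exact allR_spec chkN64 ν (by omega) (by omega)
  by_cases h65 : ν < 394454
  · exact allR_spec chkN65 ν (by omega) (by omega)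
  omega

theorem hL : ∀ ν < n, chkLive SH NH n ncol tmax ν = true := by
  intro ν hν
  have hν' : ν < 394454 := hν
  by_cases h0 : ν < 6000
  · exact allR_spec chkL0 ν (by omega) (by omega)
  by_cases h1 : ν < 12000
  · exact allR_spec chkL1 ν (by omega) (by omega)
  by_cases h2 : ν < 18000
  · exact allR_spec chkL2 ν (by omega) (by omega)
  by_cases h3 : ν < 24000
  · exact allR_spec chkL3 ν (by omega) (by omega)
  by_cases h4 : ν < 30000
  · exact allR_spec chkL4 ν (by omega) (by omega)
  by_cases h5 : ν < 36000
  · exact allR_spec chkL5 ν (by omega) (by omega)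
  by_cases h6 : ν < 42000
  · exact allR_spec chkL6 ν (by omega) (by omega)
  by_cases h7 : ν < 48000
  · exact allR_spec chkL7 ν (by omega) (by omega)
  by_cases h8 : ν < 54000
  · exact allR_spec chkL8 ν (by omega) (by omega)
  by_cases h9 : ν < 60000
  · exact allR_spec chkL9 ν (by omega) (by omega)
  by_cases h10 : ν < 66000
  · exact allR_spec chkL10 ν (by omega) (by omega)
  by_cases h11 : ν < 72000
  · exact allR_spec chkL11 ν (by omega) (by omega)
  by_cases h12 : ν < 78000
  · exact allR_spec chkL12 ν (by omega) (by omega)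
  by_cases h13 : ν < 84000
  · exact allR_spec chkL13 ν (by omega) (by omega)
  by_cases h14 : ν < 90000
  · exact allR_spec chkL14 ν (by omega) (by omega)
  by_cases h15 : ν < 96000
  · exact allR_spec chkL15 ν (by omega) (by omega)
  by_cases h16 : ν < 102000
  · exact allR_spec chkL16 ν (by omega) (by omega)
  by_cases h17 : ν < 108000
  · exact allR_spec chkL17 ν (by omega) (by omega)
  by_cases h18 : ν < 114000
  · exact allR_spec chkL18 ν (by omega) (by omega)
  by_cases h19 : ν < 120000
  · exact allR_spec chkL19 ν (by omega) (by omega)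
  by_cases h20 : ν < 126000
  · exact allR_spec chkL20 ν (by omega) (by omega)
  by_cases h21 : ν < 132000
  · exact allR_spec chkL21 ν (by omega) (by omega)
  by_cases h22 : ν < 138000
  · exact allR_spec chkL22 ν (by omega) (by omega)
  by_cases h23 : ν < 144000
  · exact allR_spec chkL23 ν (by omega) (by omega)
  by_cases h24 : ν < 150000
  · exact allR_spec chkL24 ν (by omega) (by omega)
  by_cases h25 : ν < 156000
  · exact allR_spec chkL25 ν (by omega) (by omega)
  by_cases h26 : ν < 162000
  · exact allR_spec chkL26 ν (by omega) (by omega)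
  by_cases h27 : ν < 168000
  · exact allR_spec chkL27 ν (by omega) (by omega)
  by_cases h28 : ν < 174000
  · exact allR_spec chkL28 ν (by omega) (by omega)
  by_cases h29 : ν < 180000
  · exact allR_spec chkL29 ν (by omega) (by omega)
  by_cases h30 : ν < 186000
  · exact allR_spec chkL30 ν (by omega) (by omega)
  by_cases h31 : ν < 192000
  · exact allR_spec chkL31 ν (by omega) (by omega)
  by_cases h32 : ν < 198000
  · exact allR_spec chkL32 ν (by omega) (by omega)
  by_cases h33 : ν < 204000
  · exact allR_spec chkL33 ν (by omega) (by omega)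
  by_cases h34 : ν < 210000
  · exact allR_spec chkL34 ν (by omega) (by omega)
  by_cases h35 : ν < 216000
  · exact allR_spec chkL35 ν (by omega) (by omega)
  by_cases h36 : ν < 222000
  · exact allR_spec chkL36 ν (by omega) (by omega)
  by_cases h37 : ν < 228000
  · exact allR_spec chkL37 ν (by omega) (by omega)
  by_cases h38 : ν < 234000
  · exact allR_spec chkL38 ν (by omega) (by omega)
  by_cases h39 : ν < 240000
  · exact allR_spec chkL39 ν (by omega) (by omega)
  by_cases h40 : ν < 246000
  · exact allR_spec chkL40 ν (by omega) (by omega)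
  by_cases h41 : ν < 252000
  · exact allR_spec chkL41 ν (by omega) (by omega)
  by_cases h42 : ν < 258000
  · exact allR_spec chkL42 ν (by omega) (by omega)
  by_cases h43 : ν < 264000
  · exact allR_spec chkL43 ν (by omega) (by omega)
  by_cases h44 : ν < 270000
  · exact allR_spec chkL44 ν (by omega) (by omega)
  by_cases h45 : ν < 276000
  · exact allR_spec chkL45 ν (by omega) (by omega)
  by_cases h46 : ν < 282000
  · exact allR_spec chkL46 ν (by omega) (by omega)
  by_cases h47 : ν < 288000
  · exact allR_spec chkL47 ν (by omega) (by omega)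
  by_cases h48 : ν < 294000
  · exact allR_spec chkL48 ν (by omega) (by omega)
  by_cases h49 : ν < 300000
  · exact allR_spec chkL49 ν (by omega) (by omega)
  by_cases h50 : ν < 306000
  · exact allR_spec chkL50 ν (by omega) (by omega)
  by_cases h51 : ν < 312000
  · exact allR_spec chkL51 ν (by omega) (by omega)
  by_cases h52 : ν < 318000
  · exact allR_spec chkL52 ν (by omega) (by omega)
  by_cases h53 : ν < 324000
  · exact allR_spec chkL53 ν (by omega) (by omega)
  by_cases h54 : ν < 330000
  · exact allR_spec chkL54 ν (by omega) (by omega)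
  by_cases h55 : ν < 336000
  · exact allR_spec chkL55 ν (by omega) (by omega)
  by_cases h56 : ν < 342000
  · exact allR_spec chkL56 ν (by omega) (by omega)
  by_cases h57 : ν < 348000
  · exact allR_spec chkL57 ν (by omega) (by omega)
  by_cases h58 : ν < 354000
  · exact allR_spec chkL58 ν (by omega) (by omega)
  by_cases h59 : ν < 360000
  · exact allR_spec chkL59 ν (by omega) (by omega)
  by_cases h60 : ν < 366000
  · exact allR_spec chkL60 ν (by omega) (by omega)
  by_cases h61 : ν < 372000
  · exact allR_spec chkL61 ν (by omega) (by omega)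
  by_cases h62 : ν < 378000
  · exact allR_spec chkL62 ν (by omega) (by omega)
  by_cases h63 : ν < 384000
  · exact allR_spec chkL63 ν (by omega) (by omega)
  by_cases h64 : ν < 390000
  · exact allR_spec chkL64 ν (by omega) (by omega)
  by_cases h65 : ν < 394454
  · exact allR_spec chkL65 ν (by omega) (by omega)
  omega

theorem hwords :
    (∀ j < nrw, j < nw → PresentedGroup.mk Rels (wordElt gc (wordL WD j)) = 1) ∧
    (∀ j, nrw ≤ j → j < nw → wordElt gc (wordL WD j) ∈ Subgroup.closure S) ∧
    (∀ j < nw, ∀ c ∈ wordL WD j, c < ncol) :=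
  words_ok (S := S) (nw := nw) hinvG hbl hbase
    (fun w hw => Subgroup.subset_closure (hsw' w hw).2) (fun j hj => allB_spec chkW j hj)

theorem idx_le : (subH Rels S).index ≤ N ∧ (subH Rels S).index ≠ 0 := by
  have h := index_le (rels := Rels) (S := S) (gc := gc) (n := n) (ncol := ncol) (nrw := nrw) (nw := nw)
    (tmax := tmax) (INV := Cfsg.Agent.Lib.Helper6.TCD.Fi24a.INV) (SH := SH) (SC := SC) (NH := NH) (NC := NC) (WD := WD)
    (by decide) hgen hinv1 hinvG (fun j hj => hwords.1 j hj (by unfold nrw nw at *; omega)) hwords.2.1 hwords.2.2 hS hN hL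
  have e : cntLive NH n tmax n = N := chkC
  rw [e] at h
  exact h

theorem hP : PHyp px N 12 Cfsg.Agent.Lib.Helper6.TCP.Fi24.INV where
  Npos := by decide
  hinv1 := hinv1
  hinvinv := by
    intro c hc
    rw [invc_eq c hc, invc_eq c hc]
  hlt := by
    intro c hc p hp
    interval_cases c
    · exact (chkCol_spec chkP0 p hp).1
    · exact (chkCol_spec chkP1 p hp).1
    · exact (chkCol_spec chkP2 p hp).1
    · exact (chkCol_spec chkP3 p hp).1
    · exact (chkCol_spec chkP4 p hp).1
    · exact (chkCol_spec chkP5 p hp).1
    · exact (chkCol_spec chkP6 p hp).1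
    · exact (chkCol_spec chkP7 p hp).1
    · exact (chkCol_spec chkP8 p hp).1
    · exact (chkCol_spec chkP9 p hp).1
    · exact (chkCol_spec chkP10 p hp).1
    · exact (chkCol_spec chkP11 p hp).1
  hpx := by
    intro c hc p hp
    interval_cases c
    · exact (chkCol_spec chkP0 p hp).2
    · exact (chkCol_spec chkP1 p hp).2
    · exact (chkCol_spec chkP2 p hp).2
    · exact (chkCol_spec chkP3 p hp).2
    · exact (chkCol_spec chkP4 p hp).2
    · exact (chkCol_spec chkP5 p hp).2
    · exact (chkCol_spec chkP6 p hp).2
    · exact (chkCol_spec chkP7 p hp).2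
    · exact (chkCol_spec chkP8 p hp).2
    · exact (chkCol_spec chkP9 p hp).2
    · exact (chkCol_spec chkP10 p hp).2
    · exact (chkCol_spec chkP11 p hp).2

theorem px_c0 (p : ℕ) : px 0 p = P0 p := rfl
theorem px_c1 (p : ℕ) : px 1 p = P1 p := rfl
theorem px_c2 (p : ℕ) : px 2 p = P2 p := rfl
theorem px_c3 (p : ℕ) : px 3 p = P3 p := rfl
theorem px_c4 (p : ℕ) : px 4 p = P4 p := rfl
theorem px_c5 (p : ℕ) : px 5 p = P5 p := rfl
theorem px_c6 (p : ℕ) : px 6 p = P6 p := rfl
theorem px_c7 (p : ℕ) : px 7 p = P7 p := rfl
theorem px_c8 (p : ℕ) : px 8 p = P8 p := rfl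
theorem px_c9 (p : ℕ) : px 9 p = P9 p := rfl
theorem px_c10 (p : ℕ) : px 10 p = P10 p := rfl
theorem px_c11 (p : ℕ) : px 11 p = P11 p := rfl

theorem hfixk_0 : ∀ p < N, P0 (P0 p) = p := fun p hp => (chkCol_spec chkP0 p hp).2

theorem hfixw_0 (p : ℕ) : wapp px (base.getD 0 []) p = P0 (P0 p) := by
  show wapp px [0, 0] p = _
  simp only [wapp_cons, wapp_nil, px_c0]

theorem hfixk_1 : ∀ p < N, P1 (P1 p) = p := fun p hp => (chkCol_spec chkP1 p hp).2

theorem hfixw_1 (p : ℕ) : wapp px (base.getD 1 []) p = P1 (P1 p) := by
  show wapp px [1, 1] p = _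
  simp only [wapp_cons, wapp_nil, px_c1]

theorem hfixk_2 : ∀ p < N, P2 (P2 p) = p := fun p hp => (chkCol_spec chkP2 p hp).2

theorem hfixw_2 (p : ℕ) : wapp px (base.getD 2 []) p = P2 (P2 p) := by
  show wapp px [2, 2] p = _
  simp only [wapp_cons, wapp_nil, px_c2]

theorem hfixk_3 : ∀ p < N, P3 (P3 p) = p := fun p hp => (chkCol_spec chkP3 p hp).2

theorem hfixw_3 (p : ℕ) : wapp px (base.getD 3 []) p = P3 (P3 p) := by
  show wapp px [3, 3] p = _
  simp only [wapp_cons, wapp_nil, px_c3]

theorem hfixk_4 : ∀ p < N, P4 (P4 p) = p := fun p hp => (chkCol_spec chkP4 p hp).2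

theorem hfixw_4 (p : ℕ) : wapp px (base.getD 4 []) p = P4 (P4 p) := by
  show wapp px [4, 4] p = _
  simp only [wapp_cons, wapp_nil, px_c4]

theorem hfixk_5 : ∀ p < N, P5 (P5 p) = p := fun p hp => (chkCol_spec chkP5 p hp).2

theorem hfixw_5 (p : ℕ) : wapp px (base.getD 5 []) p = P5 (P5 p) := by
  show wapp px [5, 5] p = _
  simp only [wapp_cons, wapp_nil, px_c5]

theorem hfixk_6 : ∀ p < N, P6 (P6 p) = p := fun p hp => (chkCol_spec chkP6 p hp).2

theorem hfixw_6 (p : ℕ) : wapp px (base.getD 6 []) p = P6 (P6 p) := by
  show wapp px [6, 6] p = _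
  simp only [wapp_cons, wapp_nil, px_c6]

theorem hfixk_7 : ∀ p < N, P7 (P7 p) = p := fun p hp => (chkCol_spec chkP7 p hp).2

theorem hfixw_7 (p : ℕ) : wapp px (base.getD 7 []) p = P7 (P7 p) := by
  show wapp px [7, 7] p = _
  simp only [wapp_cons, wapp_nil, px_c7]

theorem hfixk_8 : ∀ p < N, P8 (P8 p) = p := fun p hp => (chkCol_spec chkP8 p hp).2

theorem hfixw_8 (p : ℕ) : wapp px (base.getD 8 []) p = P8 (P8 p) := by
  show wapp px [8, 8] p = _
  simp only [wapp_cons, wapp_nil, px_c8]

theorem hfixk_9 : ∀ p < N, P9 (P9 p) = p := fun p hp => (chkCol_spec chkP9 p hp).2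

theorem hfixw_9 (p : ℕ) : wapp px (base.getD 9 []) p = P9 (P9 p) := by
  show wapp px [9, 9] p = _
  simp only [wapp_cons, wapp_nil, px_c9]

theorem hfixk_10 : ∀ p < N, P10 (P10 p) = p := fun p hp => (chkCol_spec chkP10 p hp).2

theorem hfixw_10 (p : ℕ) : wapp px (base.getD 10 []) p = P10 (P10 p) := by
  show wapp px [10, 10] p = _
  simp only [wapp_cons, wapp_nil, px_c10]

theorem hfixk_11 : ∀ p < N, P11 (P11 p) = p := fun p hp => (chkCol_spec chkP11 p hp).2

theorem hfixw_11 (p : ℕ) : wapp px (base.getD 11 []) p = P11 (P11 p) := by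
  show wapp px [11, 11] p = _
  simp only [wapp_cons, wapp_nil, px_c11]

theorem hfixk_12 : ∀ p < N, R12 p = p := by
  intro p hp
  have hp' : p < 306936 := hp
  by_cases g0 : p < 41666
  · exact chkFix_spec chkR12_0 p (by omega) (by omega)
  by_cases g1 : p < 83332
  · exact chkFix_spec chkR12_1 p (by omega) (by omega)
  by_cases g2 : p < 124998
  · exact chkFix_spec chkR12_2 p (by omega) (by omega)
  by_cases g3 : p < 166664
  · exact chkFix_spec chkR12_3 p (by omega) (by omega)
  by_cases g4 : p < 208330
  · exact chkFix_spec chkR12_4 p (by omega) (by omega)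
  by_cases g5 : p < 249996
  · exact chkFix_spec chkR12_5 p (by omega) (by omega)
  by_cases g6 : p < 291662
  · exact chkFix_spec chkR12_6 p (by omega) (by omega)
  exact chkFix_spec chkR12_7 p (by omega) (by omega)

theorem hfixw_12 (p : ℕ) : wapp px (base.getD 12 []) p = R12 p := by
  show wapp px [0, 1, 0, 1, 0, 1] p = _
  simp only [wapp_cons, wapp_nil, px_c0, px_c1, px_c2, px_c3, px_c4, px_c5, px_c6, px_c7, px_c8, px_c9, px_c10, px_c11]
  rfl

theorem hfixk_13 : ∀ p < N, R13 p = p := by
  intro p hp
  have hp' : p < 306936 := hp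
  by_cases g0 : p < 39589
  · exact chkFix_spec chkR13_0 p (by omega) (by omega)
  by_cases g1 : p < 102089
  · exact chkFix_spec chkR13_1 p (by omega) (by omega)
  by_cases g2 : p < 164589
  · exact chkFix_spec chkR13_2 p (by omega) (by omega)
  by_cases g3 : p < 227089
  · exact chkFix_spec chkR13_3 p (by omega) (by omega)
  by_cases g4 : p < 289589
  · exact chkFix_spec chkR13_4 p (by omega) (by omega)
  exact chkFix_spec chkR13_5 p (by omega) (by omega)

theorem hfixw_13 (p : ℕ) : wapp px (base.getD 13 []) p = R13 p := by
  show wapp px [0, 2, 0, 2] p = _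
  simp only [wapp_cons, wapp_nil, px_c0, px_c1, px_c2, px_c3, px_c4, px_c5, px_c6, px_c7, px_c8, px_c9, px_c10, px_c11]
  rfl

theorem hfixk_14 : ∀ p < N, R14 p = p := by
  intro p hp
  have hp' : p < 306936 := hp
  by_cases g0 : p < 45153
  · exact chkFix_spec chkR14_0 p (by omega) (by omega)
  by_cases g1 : p < 107653
  · exact chkFix_spec chkR14_1 p (by omega) (by omega)
  by_cases g2 : p < 170153
  · exact chkFix_spec chkR14_2 p (by omega) (by omega)
  by_cases g3 : p < 232653
  · exact chkFix_spec chkR14_3 p (by omega) (by omega)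
  by_cases g4 : p < 295153
  · exact chkFix_spec chkR14_4 p (by omega) (by omega)
  exact chkFix_spec chkR14_5 p (by omega) (by omega)

theorem hfixw_14 (p : ℕ) : wapp px (base.getD 14 []) p = R14 p := by
  show wapp px [0, 3, 0, 3] p = _
  simp only [wapp_cons, wapp_nil, px_c0, px_c1, px_c2, px_c3, px_c4, px_c5, px_c6, px_c7, px_c8, px_c9, px_c10, px_c11]
  rfl

theorem hfixk_15 : ∀ p < N, R15 p = p := by
  intro p hp
  have hp' : p < 306936 := hp
  by_cases g0 : p < 50717
  · exact chkFix_spec chkR15_0 p (by omega) (by omega)
  by_cases g1 : p < 113217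
  · exact chkFix_spec chkR15_1 p (by omega) (by omega)
  by_cases g2 : p < 175717
  · exact chkFix_spec chkR15_2 p (by omega) (by omega)
  by_cases g3 : p < 238217
  · exact chkFix_spec chkR15_3 p (by omega) (by omega)
  by_cases g4 : p < 300717
  · exact chkFix_spec chkR15_4 p (by omega) (by omega)
  exact chkFix_spec chkR15_5 p (by omega) (by omega)

theorem hfixw_15 (p : ℕ) : wapp px (base.getD 15 []) p = R15 p := by
  show wapp px [0, 4, 0, 4] p = _
  simp only [wapp_cons, wapp_nil, px_c0, px_c1, px_c2, px_c3, px_c4, px_c5, px_c6, px_c7, px_c8, px_c9, px_c10, px_c11]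
  rfl

theorem hfixk_16 : ∀ p < N, R16 p = p := by
  intro p hp
  have hp' : p < 306936 := hp
  by_cases g0 : p < 56281
  · exact chkFix_spec chkR16_0 p (by omega) (by omega)
  by_cases g1 : p < 118781
  · exact chkFix_spec chkR16_1 p (by omega) (by omega)
  by_cases g2 : p < 181281
  · exact chkFix_spec chkR16_2 p (by omega) (by omega)
  by_cases g3 : p < 243781
  · exact chkFix_spec chkR16_3 p (by omega) (by omega)
  by_cases g4 : p < 306281
  · exact chkFix_spec chkR16_4 p (by omega) (by omega)
  exact chkFix_spec chkR16_5 p (by omega) (by omega)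

theorem hfixw_16 (p : ℕ) : wapp px (base.getD 16 []) p = R16 p := by
  show wapp px [0, 5, 0, 5] p = _
  simp only [wapp_cons, wapp_nil, px_c0, px_c1, px_c2, px_c3, px_c4, px_c5, px_c6, px_c7, px_c8, px_c9, px_c10, px_c11]
  rfl

theorem hfixk_17 : ∀ p < N, R17 p = p := by
  intro p hp
  have hp' : p < 306936 := hp
  by_cases g0 : p < 61845
  · exact chkFix_spec chkR17_0 p (by omega) (by omega)
  by_cases g1 : p < 124345
  · exact chkFix_spec chkR17_1 p (by omega) (by omega)
  by_cases g2 : p < 186845
  · exact chkFix_spec chkR17_2 p (by omega) (by omega)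
  by_cases g3 : p < 249345
  · exact chkFix_spec chkR17_3 p (by omega) (by omega)
  exact chkFix_spec chkR17_4 p (by omega) (by omega)

theorem hfixw_17 (p : ℕ) : wapp px (base.getD 17 []) p = R17 p := by
  show wapp px [0, 6, 0, 6] p = _
  simp only [wapp_cons, wapp_nil, px_c0, px_c1, px_c2, px_c3, px_c4, px_c5, px_c6, px_c7, px_c8, px_c9, px_c10, px_c11]
  rfl

theorem hfixk_18 : ∀ p < N, R18 p = p := by
  intro p hp
  have hp' : p < 306936 := hp
  by_cases g0 : p < 4909
  · exact chkFix_spec chkR18_0 p (by omega) (by omega)
  by_cases g1 : p < 67409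
  · exact chkFix_spec chkR18_1 p (by omega) (by omega)
  by_cases g2 : p < 129909
  · exact chkFix_spec chkR18_2 p (by omega) (by omega)
  by_cases g3 : p < 192409
  · exact chkFix_spec chkR18_3 p (by omega) (by omega)
  by_cases g4 : p < 254909
  · exact chkFix_spec chkR18_4 p (by omega) (by omega)
  exact chkFix_spec chkR18_5 p (by omega) (by omega)

theorem hfixw_18 (p : ℕ) : wapp px (base.getD 18 []) p = R18 p := by
  show wapp px [0, 7, 0, 7] p = _
  simp only [wapp_cons, wapp_nil, px_c0, px_c1, px_c2, px_c3, px_c4, px_c5, px_c6, px_c7, px_c8, px_c9, px_c10, px_c11]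
  rfl

theorem hfixk_19 : ∀ p < N, R19 p = p := by
  intro p hp
  have hp' : p < 306936 := hp
  by_cases g0 : p < 10473
  · exact chkFix_spec chkR19_0 p (by omega) (by omega)
  by_cases g1 : p < 72973
  · exact chkFix_spec chkR19_1 p (by omega) (by omega)
  by_cases g2 : p < 135473
  · exact chkFix_spec chkR19_2 p (by omega) (by omega)
  by_cases g3 : p < 197973
  · exact chkFix_spec chkR19_3 p (by omega) (by omega)
  by_cases g4 : p < 260473
  · exact chkFix_spec chkR19_4 p (by omega) (by omega)
  exact chkFix_spec chkR19_5 p (by omega) (by omega)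

theorem hfixw_19 (p : ℕ) : wapp px (base.getD 19 []) p = R19 p := by
  show wapp px [0, 8, 0, 8] p = _
  simp only [wapp_cons, wapp_nil, px_c0, px_c1, px_c2, px_c3, px_c4, px_c5, px_c6, px_c7, px_c8, px_c9, px_c10, px_c11]
  rfl

theorem hfixk_20 : ∀ p < N, R20 p = p := by
  intro p hp
  have hp' : p < 306936 := hp
  by_cases g0 : p < 16037
  · exact chkFix_spec chkR20_0 p (by omega) (by omega)
  by_cases g1 : p < 78537
  · exact chkFix_spec chkR20_1 p (by omega) (by omega)
  by_cases g2 : p < 141037
  · exact chkFix_spec chkR20_2 p (by omega) (by omega)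
  by_cases g3 : p < 203537
  · exact chkFix_spec chkR20_3 p (by omega) (by omega)
  by_cases g4 : p < 266037
  · exact chkFix_spec chkR20_4 p (by omega) (by omega)
  exact chkFix_spec chkR20_5 p (by omega) (by omega)

theorem hfixw_20 (p : ℕ) : wapp px (base.getD 20 []) p = R20 p := by
  show wapp px [0, 9, 0, 9] p = _
  simp only [wapp_cons, wapp_nil, px_c0, px_c1, px_c2, px_c3, px_c4, px_c5, px_c6, px_c7, px_c8, px_c9, px_c10, px_c11]
  rfl

theorem hfixk_21 : ∀ p < N, R21 p = p := by
  intro p hp
  have hp' : p < 306936 := hp
  by_cases g0 : p < 21601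
  · exact chkFix_spec chkR21_0 p (by omega) (by omega)
  by_cases g1 : p < 84101
  · exact chkFix_spec chkR21_1 p (by omega) (by omega)
  by_cases g2 : p < 146601
  · exact chkFix_spec chkR21_2 p (by omega) (by omega)
  by_cases g3 : p < 209101
  · exact chkFix_spec chkR21_3 p (by omega) (by omega)
  by_cases g4 : p < 271601
  · exact chkFix_spec chkR21_4 p (by omega) (by omega)
  exact chkFix_spec chkR21_5 p (by omega) (by omega)

theorem hfixw_21 (p : ℕ) : wapp px (base.getD 21 []) p = R21 p := by
  show wapp px [0, 10, 0, 10] p = _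
  simp only [wapp_cons, wapp_nil, px_c0, px_c1, px_c2, px_c3, px_c4, px_c5, px_c6, px_c7, px_c8, px_c9, px_c10, px_c11]
  rfl

theorem hfixk_22 : ∀ p < N, R22 p = p := by
  intro p hp
  have hp' : p < 306936 := hp
  by_cases g0 : p < 27165
  · exact chkFix_spec chkR22_0 p (by omega) (by omega)
  by_cases g1 : p < 89665
  · exact chkFix_spec chkR22_1 p (by omega) (by omega)
  by_cases g2 : p < 152165
  · exact chkFix_spec chkR22_2 p (by omega) (by omega)
  by_cases g3 : p < 214665
  · exact chkFix_spec chkR22_3 p (by omega) (by omega)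
  by_cases g4 : p < 277165
  · exact chkFix_spec chkR22_4 p (by omega) (by omega)
  exact chkFix_spec chkR22_5 p (by omega) (by omega)

theorem hfixw_22 (p : ℕ) : wapp px (base.getD 22 []) p = R22 p := by
  show wapp px [0, 11, 0, 11] p = _
  simp only [wapp_cons, wapp_nil, px_c0, px_c1, px_c2, px_c3, px_c4, px_c5, px_c6, px_c7, px_c8, px_c9, px_c10, px_c11]
  rfl

theorem hfixk_23 : ∀ p < N, R23 p = p := by
  intro p hp
  have hp' : p < 306936 := hp
  by_cases g0 : p < 21819
  · exact chkFix_spec chkR23_0 p (by omega) (by omega)
  by_cases g1 : p < 63485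
  · exact chkFix_spec chkR23_1 p (by omega) (by omega)
  by_cases g2 : p < 105151
  · exact chkFix_spec chkR23_2 p (by omega) (by omega)
  by_cases g3 : p < 146817
  · exact chkFix_spec chkR23_3 p (by omega) (by omega)
  by_cases g4 : p < 188483
  · exact chkFix_spec chkR23_4 p (by omega) (by omega)
  by_cases g5 : p < 230149
  · exact chkFix_spec chkR23_5 p (by omega) (by omega)
  by_cases g6 : p < 271815
  · exact chkFix_spec chkR23_6 p (by omega) (by omega)
  exact chkFix_spec chkR23_7 p (by omega) (by omega)

theorem hfixw_23 (p : ℕ) : wapp px (base.getD 23 []) p = R23 p := by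
  show wapp px [1, 2, 1, 2, 1, 2] p = _
  simp only [wapp_cons, wapp_nil, px_c0, px_c1, px_c2, px_c3, px_c4, px_c5, px_c6, px_c7, px_c8, px_c9, px_c10, px_c11]
  rfl

theorem hfixk_24 : ∀ p < N, R24 p = p := by
  intro p hp
  have hp' : p < 306936 := hp
  by_cases g0 : p < 9818
  · exact chkFix_spec chkR24_0 p (by omega) (by omega)
  by_cases g1 : p < 72318
  · exact chkFix_spec chkR24_1 p (by omega) (by omega)
  by_cases g2 : p < 134818
  · exact chkFix_spec chkR24_2 p (by omega) (by omega)
  by_cases g3 : p < 197318
  · exact chkFix_spec chkR24_3 p (by omega) (by omega)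
  by_cases g4 : p < 259818
  · exact chkFix_spec chkR24_4 p (by omega) (by omega)
  exact chkFix_spec chkR24_5 p (by omega) (by omega)

theorem hfixw_24 (p : ℕ) : wapp px (base.getD 24 []) p = R24 p := by
  show wapp px [1, 3, 1, 3] p = _
  simp only [wapp_cons, wapp_nil, px_c0, px_c1, px_c2, px_c3, px_c4, px_c5, px_c6, px_c7, px_c8, px_c9, px_c10, px_c11]
  rfl

theorem hfixk_25 : ∀ p < N, R25 p = p := by
  intro p hp
  have hp' : p < 306936 := hp
  by_cases g0 : p < 15382
  · exact chkFix_spec chkR25_0 p (by omega) (by omega)
  by_cases g1 : p < 77882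
  · exact chkFix_spec chkR25_1 p (by omega) (by omega)
  by_cases g2 : p < 140382
  · exact chkFix_spec chkR25_2 p (by omega) (by omega)
  by_cases g3 : p < 202882
  · exact chkFix_spec chkR25_3 p (by omega) (by omega)
  by_cases g4 : p < 265382
  · exact chkFix_spec chkR25_4 p (by omega) (by omega)
  exact chkFix_spec chkR25_5 p (by omega) (by omega)

theorem hfixw_25 (p : ℕ) : wapp px (base.getD 25 []) p = R25 p := by
  show wapp px [1, 4, 1, 4] p = _
  simp only [wapp_cons, wapp_nil, px_c0, px_c1, px_c2, px_c3, px_c4, px_c5, px_c6, px_c7, px_c8, px_c9, px_c10, px_c11]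
  rfl

theorem hfixk_26 : ∀ p < N, R26 p = p := by
  intro p hp
  have hp' : p < 306936 := hp
  by_cases g0 : p < 20946
  · exact chkFix_spec chkR26_0 p (by omega) (by omega)
  by_cases g1 : p < 83446
  · exact chkFix_spec chkR26_1 p (by omega) (by omega)
  by_cases g2 : p < 145946
  · exact chkFix_spec chkR26_2 p (by omega) (by omega)
  by_cases g3 : p < 208446
  · exact chkFix_spec chkR26_3 p (by omega) (by omega)
  by_cases g4 : p < 270946
  · exact chkFix_spec chkR26_4 p (by omega) (by omega)
  exact chkFix_spec chkR26_5 p (by omega) (by omega)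

theorem hfixw_26 (p : ℕ) : wapp px (base.getD 26 []) p = R26 p := by
  show wapp px [1, 5, 1, 5] p = _
  simp only [wapp_cons, wapp_nil, px_c0, px_c1, px_c2, px_c3, px_c4, px_c5, px_c6, px_c7, px_c8, px_c9, px_c10, px_c11]
  rfl

theorem hfixk_27 : ∀ p < N, R27 p = p := by
  intro p hp
  have hp' : p < 306936 := hp
  by_cases g0 : p < 26510
  · exact chkFix_spec chkR27_0 p (by omega) (by omega)
  by_cases g1 : p < 89010
  · exact chkFix_spec chkR27_1 p (by omega) (by omega)
  by_cases g2 : p < 151510
  · exact chkFix_spec chkR27_2 p (by omega) (by omega)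
  by_cases g3 : p < 214010
  · exact chkFix_spec chkR27_3 p (by omega) (by omega)
  by_cases g4 : p < 276510
  · exact chkFix_spec chkR27_4 p (by omega) (by omega)
  exact chkFix_spec chkR27_5 p (by omega) (by omega)

theorem hfixw_27 (p : ℕ) : wapp px (base.getD 27 []) p = R27 p := by
  show wapp px [1, 6, 1, 6] p = _
  simp only [wapp_cons, wapp_nil, px_c0, px_c1, px_c2, px_c3, px_c4, px_c5, px_c6, px_c7, px_c8, px_c9, px_c10, px_c11]
  rfl

theorem hfixk_28 : ∀ p < N, R28 p = p := by
  intro p hp
  have hp' : p < 306936 := hp
  by_cases g0 : p < 32074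
  · exact chkFix_spec chkR28_0 p (by omega) (by omega)
  by_cases g1 : p < 94574
  · exact chkFix_spec chkR28_1 p (by omega) (by omega)
  by_cases g2 : p < 157074
  · exact chkFix_spec chkR28_2 p (by omega) (by omega)
  by_cases g3 : p < 219574
  · exact chkFix_spec chkR28_3 p (by omega) (by omega)
  by_cases g4 : p < 282074
  · exact chkFix_spec chkR28_4 p (by omega) (by omega)
  exact chkFix_spec chkR28_5 p (by omega) (by omega)

theorem hfixw_28 (p : ℕ) : wapp px (base.getD 28 []) p = R28 p := by
  show wapp px [1, 7, 1, 7] p = _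
  simp only [wapp_cons, wapp_nil, px_c0, px_c1, px_c2, px_c3, px_c4, px_c5, px_c6, px_c7, px_c8, px_c9, px_c10, px_c11]
  rfl

theorem hfixk_29 : ∀ p < N, R29 p = p := by
  intro p hp
  have hp' : p < 306936 := hp
  by_cases g0 : p < 37638
  · exact chkFix_spec chkR29_0 p (by omega) (by omega)
  by_cases g1 : p < 100138
  · exact chkFix_spec chkR29_1 p (by omega) (by omega)
  by_cases g2 : p < 162638
  · exact chkFix_spec chkR29_2 p (by omega) (by omega)
  by_cases g3 : p < 225138
  · exact chkFix_spec chkR29_3 p (by omega) (by omega)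
  by_cases g4 : p < 287638
  · exact chkFix_spec chkR29_4 p (by omega) (by omega)
  exact chkFix_spec chkR29_5 p (by omega) (by omega)

theorem hfixw_29 (p : ℕ) : wapp px (base.getD 29 []) p = R29 p := by
  show wapp px [1, 8, 1, 8] p = _
  simp only [wapp_cons, wapp_nil, px_c0, px_c1, px_c2, px_c3, px_c4, px_c5, px_c6, px_c7, px_c8, px_c9, px_c10, px_c11]
  rfl

theorem hfixk_30 : ∀ p < N, R30 p = p := by
  intro p hp
  have hp' : p < 306936 := hp
  by_cases g0 : p < 43202
  · exact chkFix_spec chkR30_0 p (by omega) (by omega)
  by_cases g1 : p < 105702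
  · exact chkFix_spec chkR30_1 p (by omega) (by omega)
  by_cases g2 : p < 168202
  · exact chkFix_spec chkR30_2 p (by omega) (by omega)
  by_cases g3 : p < 230702
  · exact chkFix_spec chkR30_3 p (by omega) (by omega)
  by_cases g4 : p < 293202
  · exact chkFix_spec chkR30_4 p (by omega) (by omega)
  exact chkFix_spec chkR30_5 p (by omega) (by omega)

theorem hfixw_30 (p : ℕ) : wapp px (base.getD 30 []) p = R30 p := by
  show wapp px [1, 9, 1, 9] p = _
  simp only [wapp_cons, wapp_nil, px_c0, px_c1, px_c2, px_c3, px_c4, px_c5, px_c6, px_c7, px_c8, px_c9, px_c10, px_c11]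
  rfl

theorem hfixk_31 : ∀ p < N, R31 p = p := by
  intro p hp
  have hp' : p < 306936 := hp
  by_cases g0 : p < 48766
  · exact chkFix_spec chkR31_0 p (by omega) (by omega)
  by_cases g1 : p < 111266
  · exact chkFix_spec chkR31_1 p (by omega) (by omega)
  by_cases g2 : p < 173766
  · exact chkFix_spec chkR31_2 p (by omega) (by omega)
  by_cases g3 : p < 236266
  · exact chkFix_spec chkR31_3 p (by omega) (by omega)
  by_cases g4 : p < 298766
  · exact chkFix_spec chkR31_4 p (by omega) (by omega)
  exact chkFix_spec chkR31_5 p (by omega) (by omega)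

theorem hfixw_31 (p : ℕ) : wapp px (base.getD 31 []) p = R31 p := by
  show wapp px [1, 10, 1, 10] p = _
  simp only [wapp_cons, wapp_nil, px_c0, px_c1, px_c2, px_c3, px_c4, px_c5, px_c6, px_c7, px_c8, px_c9, px_c10, px_c11]
  rfl

theorem hfixk_32 : ∀ p < N, R32 p = p := by
  intro p hp
  have hp' : p < 306936 := hp
  by_cases g0 : p < 54330
  · exact chkFix_spec chkR32_0 p (by omega) (by omega)
  by_cases g1 : p < 116830
  · exact chkFix_spec chkR32_1 p (by omega) (by omega)
  by_cases g2 : p < 179330
  · exact chkFix_spec chkR32_2 p (by omega) (by omega)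
  by_cases g3 : p < 241830
  · exact chkFix_spec chkR32_3 p (by omega) (by omega)
  by_cases g4 : p < 304330
  · exact chkFix_spec chkR32_4 p (by omega) (by omega)
  exact chkFix_spec chkR32_5 p (by omega) (by omega)

theorem hfixw_32 (p : ℕ) : wapp px (base.getD 32 []) p = R32 p := by
  show wapp px [1, 11, 1, 11] p = _
  simp only [wapp_cons, wapp_nil, px_c0, px_c1, px_c2, px_c3, px_c4, px_c5, px_c6, px_c7, px_c8, px_c9, px_c10, px_c11]
  rfl

theorem hfixk_33 : ∀ p < N, R33 p = p := by
  intro p hp
  have hp' : p < 306936 := hp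
  by_cases g0 : p < 39929
  · exact chkFix_spec chkR33_0 p (by omega) (by omega)
  by_cases g1 : p < 81595
  · exact chkFix_spec chkR33_1 p (by omega) (by omega)
  by_cases g2 : p < 123261
  · exact chkFix_spec chkR33_2 p (by omega) (by omega)
  by_cases g3 : p < 164927
  · exact chkFix_spec chkR33_3 p (by omega) (by omega)
  by_cases g4 : p < 206593
  · exact chkFix_spec chkR33_4 p (by omega) (by omega)
  by_cases g5 : p < 248259
  · exact chkFix_spec chkR33_5 p (by omega) (by omega)
  by_cases g6 : p < 289925
  · exact chkFix_spec chkR33_6 p (by omega) (by omega)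
  exact chkFix_spec chkR33_7 p (by omega) (by omega)

theorem hfixw_33 (p : ℕ) : wapp px (base.getD 33 []) p = R33 p := by
  show wapp px [2, 3, 2, 3, 2, 3] p = _
  simp only [wapp_cons, wapp_nil, px_c0, px_c1, px_c2, px_c3, px_c4, px_c5, px_c6, px_c7, px_c8, px_c9, px_c10, px_c11]
  rfl

theorem hfixk_34 : ∀ p < N, R34 p = p := by
  intro p hp
  have hp' : p < 306936 := hp
  by_cases g0 : p < 36983
  · exact chkFix_spec chkR34_0 p (by omega) (by omega)
  by_cases g1 : p < 99483
  · exact chkFix_spec chkR34_1 p (by omega) (by omega)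
  by_cases g2 : p < 161983
  · exact chkFix_spec chkR34_2 p (by omega) (by omega)
  by_cases g3 : p < 224483
  · exact chkFix_spec chkR34_3 p (by omega) (by omega)
  by_cases g4 : p < 286983
  · exact chkFix_spec chkR34_4 p (by omega) (by omega)
  exact chkFix_spec chkR34_5 p (by omega) (by omega)

theorem hfixw_34 (p : ℕ) : wapp px (base.getD 34 []) p = R34 p := by
  show wapp px [2, 4, 2, 4] p = _
  simp only [wapp_cons, wapp_nil, px_c0, px_c1, px_c2, px_c3, px_c4, px_c5, px_c6, px_c7, px_c8, px_c9, px_c10, px_c11]
  rfl

theorem hfixk_35 : ∀ p < N, R35 p = p := by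
  intro p hp
  have hp' : p < 306936 := hp
  by_cases g0 : p < 42547
  · exact chkFix_spec chkR35_0 p (by omega) (by omega)
  by_cases g1 : p < 105047
  · exact chkFix_spec chkR35_1 p (by omega) (by omega)
  by_cases g2 : p < 167547
  · exact chkFix_spec chkR35_2 p (by omega) (by omega)
  by_cases g3 : p < 230047
  · exact chkFix_spec chkR35_3 p (by omega) (by omega)
  by_cases g4 : p < 292547
  · exact chkFix_spec chkR35_4 p (by omega) (by omega)
  exact chkFix_spec chkR35_5 p (by omega) (by omega)

theorem hfixw_35 (p : ℕ) : wapp px (base.getD 35 []) p = R35 p := by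
  show wapp px [2, 5, 2, 5] p = _
  simp only [wapp_cons, wapp_nil, px_c0, px_c1, px_c2, px_c3, px_c4, px_c5, px_c6, px_c7, px_c8, px_c9, px_c10, px_c11]
  rfl

theorem hfixk_36 : ∀ p < N, R36 p = p := by
  intro p hp
  have hp' : p < 306936 := hp
  by_cases g0 : p < 48111
  · exact chkFix_spec chkR36_0 p (by omega) (by omega)
  by_cases g1 : p < 110611
  · exact chkFix_spec chkR36_1 p (by omega) (by omega)
  by_cases g2 : p < 173111
  · exact chkFix_spec chkR36_2 p (by omega) (by omega)
  by_cases g3 : p < 235611
  · exact chkFix_spec chkR36_3 p (by omega) (by omega)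
  by_cases g4 : p < 298111
  · exact chkFix_spec chkR36_4 p (by omega) (by omega)
  exact chkFix_spec chkR36_5 p (by omega) (by omega)

theorem hfixw_36 (p : ℕ) : wapp px (base.getD 36 []) p = R36 p := by
  show wapp px [2, 6, 2, 6] p = _
  simp only [wapp_cons, wapp_nil, px_c0, px_c1, px_c2, px_c3, px_c4, px_c5, px_c6, px_c7, px_c8, px_c9, px_c10, px_c11]
  rfl

theorem hfixk_37 : ∀ p < N, R37 p = p := by
  intro p hp
  have hp' : p < 306936 := hp
  by_cases g0 : p < 53675
  · exact chkFix_spec chkR37_0 p (by omega) (by omega)
  by_cases g1 : p < 116175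
  · exact chkFix_spec chkR37_1 p (by omega) (by omega)
  by_cases g2 : p < 178675
  · exact chkFix_spec chkR37_2 p (by omega) (by omega)
  by_cases g3 : p < 241175
  · exact chkFix_spec chkR37_3 p (by omega) (by omega)
  by_cases g4 : p < 303675
  · exact chkFix_spec chkR37_4 p (by omega) (by omega)
  exact chkFix_spec chkR37_5 p (by omega) (by omega)

theorem hfixw_37 (p : ℕ) : wapp px (base.getD 37 []) p = R37 p := by
  show wapp px [2, 7, 2, 7] p = _
  simp only [wapp_cons, wapp_nil, px_c0, px_c1, px_c2, px_c3, px_c4, px_c5, px_c6, px_c7, px_c8, px_c9, px_c10, px_c11]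
  rfl

theorem hfixk_38 : ∀ p < N, R38 p = p := by
  intro p hp
  have hp' : p < 306936 := hp
  by_cases g0 : p < 59239
  · exact chkFix_spec chkR38_0 p (by omega) (by omega)
  by_cases g1 : p < 121739
  · exact chkFix_spec chkR38_1 p (by omega) (by omega)
  by_cases g2 : p < 184239
  · exact chkFix_spec chkR38_2 p (by omega) (by omega)
  by_cases g3 : p < 246739
  · exact chkFix_spec chkR38_3 p (by omega) (by omega)
  exact chkFix_spec chkR38_4 p (by omega) (by omega)

theorem hfixw_38 (p : ℕ) : wapp px (base.getD 38 []) p = R38 p := by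
  show wapp px [2, 8, 2, 8] p = _
  simp only [wapp_cons, wapp_nil, px_c0, px_c1, px_c2, px_c3, px_c4, px_c5, px_c6, px_c7, px_c8, px_c9, px_c10, px_c11]
  rfl

theorem hfixk_39 : ∀ p < N, R39 p = p := by
  intro p hp
  have hp' : p < 306936 := hp
  by_cases g0 : p < 2303
  · exact chkFix_spec chkR39_0 p (by omega) (by omega)
  by_cases g1 : p < 64803
  · exact chkFix_spec chkR39_1 p (by omega) (by omega)
  by_cases g2 : p < 127303
  · exact chkFix_spec chkR39_2 p (by omega) (by omega)
  by_cases g3 : p < 189803
  · exact chkFix_spec chkR39_3 p (by omega) (by omega)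
  by_cases g4 : p < 252303
  · exact chkFix_spec chkR39_4 p (by omega) (by omega)
  exact chkFix_spec chkR39_5 p (by omega) (by omega)

theorem hfixw_39 (p : ℕ) : wapp px (base.getD 39 []) p = R39 p := by
  show wapp px [2, 9, 2, 9] p = _
  simp only [wapp_cons, wapp_nil, px_c0, px_c1, px_c2, px_c3, px_c4, px_c5, px_c6, px_c7, px_c8, px_c9, px_c10, px_c11]
  rfl

theorem hfixk_40 : ∀ p < N, R40 p = p := by
  intro p hp
  have hp' : p < 306936 := hp
  by_cases g0 : p < 7867
  · exact chkFix_spec chkR40_0 p (by omega) (by omega)
  by_cases g1 : p < 70367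
  · exact chkFix_spec chkR40_1 p (by omega) (by omega)
  by_cases g2 : p < 132867
  · exact chkFix_spec chkR40_2 p (by omega) (by omega)
  by_cases g3 : p < 195367
  · exact chkFix_spec chkR40_3 p (by omega) (by omega)
  by_cases g4 : p < 257867
  · exact chkFix_spec chkR40_4 p (by omega) (by omega)
  exact chkFix_spec chkR40_5 p (by omega) (by omega)

theorem hfixw_40 (p : ℕ) : wapp px (base.getD 40 []) p = R40 p := by
  show wapp px [2, 10, 2, 10] p = _
  simp only [wapp_cons, wapp_nil, px_c0, px_c1, px_c2, px_c3, px_c4, px_c5, px_c6, px_c7, px_c8, px_c9, px_c10, px_c11]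
  rfl

theorem hfixk_41 : ∀ p < N, R41 p = p := by
  intro p hp
  have hp' : p < 306936 := hp
  by_cases g0 : p < 13431
  · exact chkFix_spec chkR41_0 p (by omega) (by omega)
  by_cases g1 : p < 75931
  · exact chkFix_spec chkR41_1 p (by omega) (by omega)
  by_cases g2 : p < 138431
  · exact chkFix_spec chkR41_2 p (by omega) (by omega)
  by_cases g3 : p < 200931
  · exact chkFix_spec chkR41_3 p (by omega) (by omega)
  by_cases g4 : p < 263431
  · exact chkFix_spec chkR41_4 p (by omega) (by omega)
  exact chkFix_spec chkR41_5 p (by omega) (by omega)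

theorem hfixw_41 (p : ℕ) : wapp px (base.getD 41 []) p = R41 p := by
  show wapp px [2, 11, 2, 11] p = _
  simp only [wapp_cons, wapp_nil, px_c0, px_c1, px_c2, px_c3, px_c4, px_c5, px_c6, px_c7, px_c8, px_c9, px_c10, px_c11]
  rfl

theorem hfixk_42 : ∀ p < N, R42 p = p := by
  intro p hp
  have hp' : p < 306936 := hp
  by_cases g0 : p < 12663
  · exact chkFix_spec chkR42_0 p (by omega) (by omega)
  by_cases g1 : p < 54329
  · exact chkFix_spec chkR42_1 p (by omega) (by omega)
  by_cases g2 : p < 95995
  · exact chkFix_spec chkR42_2 p (by omega) (by omega)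
  by_cases g3 : p < 137661
  · exact chkFix_spec chkR42_3 p (by omega) (by omega)
  by_cases g4 : p < 179327
  · exact chkFix_spec chkR42_4 p (by omega) (by omega)
  by_cases g5 : p < 220993
  · exact chkFix_spec chkR42_5 p (by omega) (by omega)
  by_cases g6 : p < 262659
  · exact chkFix_spec chkR42_6 p (by omega) (by omega)
  by_cases g7 : p < 304325
  · exact chkFix_spec chkR42_7 p (by omega) (by omega)
  exact chkFix_spec chkR42_8 p (by omega) (by omega)

theorem hfixw_42 (p : ℕ) : wapp px (base.getD 42 []) p = R42 p := by
  show wapp px [3, 4, 3, 4, 3, 4] p = _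
  simp only [wapp_cons, wapp_nil, px_c0, px_c1, px_c2, px_c3, px_c4, px_c5, px_c6, px_c7, px_c8, px_c9, px_c10, px_c11]
  rfl

theorem hfixk_43 : ∀ p < N, R43 p = p := by
  intro p hp
  have hp' : p < 306936 := hp
  by_cases g0 : p < 58583
  · exact chkFix_spec chkR43_0 p (by omega) (by omega)
  by_cases g1 : p < 121083
  · exact chkFix_spec chkR43_1 p (by omega) (by omega)
  by_cases g2 : p < 183583
  · exact chkFix_spec chkR43_2 p (by omega) (by omega)
  by_cases g3 : p < 246083
  · exact chkFix_spec chkR43_3 p (by omega) (by omega)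
  exact chkFix_spec chkR43_4 p (by omega) (by omega)

theorem hfixw_43 (p : ℕ) : wapp px (base.getD 43 []) p = R43 p := by
  show wapp px [3, 5, 3, 5] p = _
  simp only [wapp_cons, wapp_nil, px_c0, px_c1, px_c2, px_c3, px_c4, px_c5, px_c6, px_c7, px_c8, px_c9, px_c10, px_c11]
  rfl

theorem hfixk_44 : ∀ p < N, R44 p = p := by
  intro p hp
  have hp' : p < 306936 := hp
  by_cases g0 : p < 1647
  · exact chkFix_spec chkR44_0 p (by omega) (by omega)
  by_cases g1 : p < 64147
  · exact chkFix_spec chkR44_1 p (by omega) (by omega)
  by_cases g2 : p < 126647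
  · exact chkFix_spec chkR44_2 p (by omega) (by omega)
  by_cases g3 : p < 189147
  · exact chkFix_spec chkR44_3 p (by omega) (by omega)
  by_cases g4 : p < 251647
  · exact chkFix_spec chkR44_4 p (by omega) (by omega)
  exact chkFix_spec chkR44_5 p (by omega) (by omega)

theorem hfixw_44 (p : ℕ) : wapp px (base.getD 44 []) p = R44 p := by
  show wapp px [3, 6, 3, 6] p = _
  simp only [wapp_cons, wapp_nil, px_c0, px_c1, px_c2, px_c3, px_c4, px_c5, px_c6, px_c7, px_c8, px_c9, px_c10, px_c11]
  rfl

theorem hfixk_45 : ∀ p < N, R45 p = p := by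
  intro p hp
  have hp' : p < 306936 := hp
  by_cases g0 : p < 7211
  · exact chkFix_spec chkR45_0 p (by omega) (by omega)
  by_cases g1 : p < 69711
  · exact chkFix_spec chkR45_1 p (by omega) (by omega)
  by_cases g2 : p < 132211
  · exact chkFix_spec chkR45_2 p (by omega) (by omega)
  by_cases g3 : p < 194711
  · exact chkFix_spec chkR45_3 p (by omega) (by omega)
  by_cases g4 : p < 257211
  · exact chkFix_spec chkR45_4 p (by omega) (by omega)
  exact chkFix_spec chkR45_5 p (by omega) (by omega)

theorem hfixw_45 (p : ℕ) : wapp px (base.getD 45 []) p = R45 p := by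
  show wapp px [3, 7, 3, 7] p = _
  simp only [wapp_cons, wapp_nil, px_c0, px_c1, px_c2, px_c3, px_c4, px_c5, px_c6, px_c7, px_c8, px_c9, px_c10, px_c11]
  rfl

theorem hfixk_46 : ∀ p < N, R46 p = p := by
  intro p hp
  have hp' : p < 306936 := hp
  by_cases g0 : p < 12775
  · exact chkFix_spec chkR46_0 p (by omega) (by omega)
  by_cases g1 : p < 75275
  · exact chkFix_spec chkR46_1 p (by omega) (by omega)
  by_cases g2 : p < 137775
  · exact chkFix_spec chkR46_2 p (by omega) (by omega)
  by_cases g3 : p < 200275
  · exact chkFix_spec chkR46_3 p (by omega) (by omega)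
  by_cases g4 : p < 262775
  · exact chkFix_spec chkR46_4 p (by omega) (by omega)
  exact chkFix_spec chkR46_5 p (by omega) (by omega)

theorem hfixw_46 (p : ℕ) : wapp px (base.getD 46 []) p = R46 p := by
  show wapp px [3, 8, 3, 8] p = _
  simp only [wapp_cons, wapp_nil, px_c0, px_c1, px_c2, px_c3, px_c4, px_c5, px_c6, px_c7, px_c8, px_c9, px_c10, px_c11]
  rfl

theorem hfixk_47 : ∀ p < N, R47 p = p := by
  intro p hp
  have hp' : p < 306936 := hp
  by_cases g0 : p < 18339
  · exact chkFix_spec chkR47_0 p (by omega) (by omega)
  by_cases g1 : p < 80839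
  · exact chkFix_spec chkR47_1 p (by omega) (by omega)
  by_cases g2 : p < 143339
  · exact chkFix_spec chkR47_2 p (by omega) (by omega)
  by_cases g3 : p < 205839
  · exact chkFix_spec chkR47_3 p (by omega) (by omega)
  by_cases g4 : p < 268339
  · exact chkFix_spec chkR47_4 p (by omega) (by omega)
  exact chkFix_spec chkR47_5 p (by omega) (by omega)

theorem hfixw_47 (p : ℕ) : wapp px (base.getD 47 []) p = R47 p := by
  show wapp px [3, 9, 3, 9] p = _
  simp only [wapp_cons, wapp_nil, px_c0, px_c1, px_c2, px_c3, px_c4, px_c5, px_c6, px_c7, px_c8, px_c9, px_c10, px_c11]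
  rfl

theorem hfixk_48 : ∀ p < N, R48 p = p := by
  intro p hp
  have hp' : p < 306936 := hp
  by_cases g0 : p < 23903
  · exact chkFix_spec chkR48_0 p (by omega) (by omega)
  by_cases g1 : p < 86403
  · exact chkFix_spec chkR48_1 p (by omega) (by omega)
  by_cases g2 : p < 148903
  · exact chkFix_spec chkR48_2 p (by omega) (by omega)
  by_cases g3 : p < 211403
  · exact chkFix_spec chkR48_3 p (by omega) (by omega)
  by_cases g4 : p < 273903
  · exact chkFix_spec chkR48_4 p (by omega) (by omega)
  exact chkFix_spec chkR48_5 p (by omega) (by omega)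

theorem hfixw_48 (p : ℕ) : wapp px (base.getD 48 []) p = R48 p := by
  show wapp px [3, 10, 3, 10] p = _
  simp only [wapp_cons, wapp_nil, px_c0, px_c1, px_c2, px_c3, px_c4, px_c5, px_c6, px_c7, px_c8, px_c9, px_c10, px_c11]
  rfl

theorem hfixk_49 : ∀ p < N, R49 p = p := by
  intro p hp
  have hp' : p < 306936 := hp
  by_cases g0 : p < 29467
  · exact chkFix_spec chkR49_0 p (by omega) (by omega)
  by_cases g1 : p < 91967
  · exact chkFix_spec chkR49_1 p (by omega) (by omega)
  by_cases g2 : p < 154467
  · exact chkFix_spec chkR49_2 p (by omega) (by omega)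
  by_cases g3 : p < 216967
  · exact chkFix_spec chkR49_3 p (by omega) (by omega)
  by_cases g4 : p < 279467
  · exact chkFix_spec chkR49_4 p (by omega) (by omega)
  exact chkFix_spec chkR49_5 p (by omega) (by omega)

theorem hfixw_49 (p : ℕ) : wapp px (base.getD 49 []) p = R49 p := by
  show wapp px [3, 11, 3, 11] p = _
  simp only [wapp_cons, wapp_nil, px_c0, px_c1, px_c2, px_c3, px_c4, px_c5, px_c6, px_c7, px_c8, px_c9, px_c10, px_c11]
  rfl

theorem hfixk_50 : ∀ p < N, R50 p = p := by
  intro p hp
  have hp' : p < 306936 := hp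
  by_cases g0 : p < 23354
  · exact chkFix_spec chkR50_0 p (by omega) (by omega)
  by_cases g1 : p < 65020
  · exact chkFix_spec chkR50_1 p (by omega) (by omega)
  by_cases g2 : p < 106686
  · exact chkFix_spec chkR50_2 p (by omega) (by omega)
  by_cases g3 : p < 148352
  · exact chkFix_spec chkR50_3 p (by omega) (by omega)
  by_cases g4 : p < 190018
  · exact chkFix_spec chkR50_4 p (by omega) (by omega)
  by_cases g5 : p < 231684
  · exact chkFix_spec chkR50_5 p (by omega) (by omega)
  by_cases g6 : p < 273350
  · exact chkFix_spec chkR50_6 p (by omega) (by omega)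
  exact chkFix_spec chkR50_7 p (by omega) (by omega)

theorem hfixw_50 (p : ℕ) : wapp px (base.getD 50 []) p = R50 p := by
  show wapp px [4, 5, 4, 5, 4, 5] p = _
  simp only [wapp_cons, wapp_nil, px_c0, px_c1, px_c2, px_c3, px_c4, px_c5, px_c6, px_c7, px_c8, px_c9, px_c10, px_c11]
  rfl

theorem hfixk_51 : ∀ p < N, R51 p = p := by
  intro p hp
  have hp' : p < 306936 := hp
  by_cases g0 : p < 12121
  · exact chkFix_spec chkR51_0 p (by omega) (by omega)
  by_cases g1 : p < 74621
  · exact chkFix_spec chkR51_1 p (by omega) (by omega)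
  by_cases g2 : p < 137121
  · exact chkFix_spec chkR51_2 p (by omega) (by omega)
  by_cases g3 : p < 199621
  · exact chkFix_spec chkR51_3 p (by omega) (by omega)
  by_cases g4 : p < 262121
  · exact chkFix_spec chkR51_4 p (by omega) (by omega)
  exact chkFix_spec chkR51_5 p (by omega) (by omega)

theorem hfixw_51 (p : ℕ) : wapp px (base.getD 51 []) p = R51 p := by
  show wapp px [4, 6, 4, 6] p = _
  simp only [wapp_cons, wapp_nil, px_c0, px_c1, px_c2, px_c3, px_c4, px_c5, px_c6, px_c7, px_c8, px_c9, px_c10, px_c11]
  rfl

theorem hfixk_52 : ∀ p < N, R52 p = p := by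
  intro p hp
  have hp' : p < 306936 := hp
  by_cases g0 : p < 17685
  · exact chkFix_spec chkR52_0 p (by omega) (by omega)
  by_cases g1 : p < 80185
  · exact chkFix_spec chkR52_1 p (by omega) (by omega)
  by_cases g2 : p < 142685
  · exact chkFix_spec chkR52_2 p (by omega) (by omega)
  by_cases g3 : p < 205185
  · exact chkFix_spec chkR52_3 p (by omega) (by omega)
  by_cases g4 : p < 267685
  · exact chkFix_spec chkR52_4 p (by omega) (by omega)
  exact chkFix_spec chkR52_5 p (by omega) (by omega)

theorem hfixw_52 (p : ℕ) : wapp px (base.getD 52 []) p = R52 p := by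
  show wapp px [4, 7, 4, 7] p = _
  simp only [wapp_cons, wapp_nil, px_c0, px_c1, px_c2, px_c3, px_c4, px_c5, px_c6, px_c7, px_c8, px_c9, px_c10, px_c11]
  rfl

theorem hfixk_53 : ∀ p < N, R53 p = p := by
  intro p hp
  have hp' : p < 306936 := hp
  by_cases g0 : p < 23249
  · exact chkFix_spec chkR53_0 p (by omega) (by omega)
  by_cases g1 : p < 85749
  · exact chkFix_spec chkR53_1 p (by omega) (by omega)
  by_cases g2 : p < 148249
  · exact chkFix_spec chkR53_2 p (by omega) (by omega)
  by_cases g3 : p < 210749
  · exact chkFix_spec chkR53_3 p (by omega) (by omega)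
  by_cases g4 : p < 273249
  · exact chkFix_spec chkR53_4 p (by omega) (by omega)
  exact chkFix_spec chkR53_5 p (by omega) (by omega)

theorem hfixw_53 (p : ℕ) : wapp px (base.getD 53 []) p = R53 p := by
  show wapp px [4, 8, 4, 8] p = _
  simp only [wapp_cons, wapp_nil, px_c0, px_c1, px_c2, px_c3, px_c4, px_c5, px_c6, px_c7, px_c8, px_c9, px_c10, px_c11]
  rfl

theorem hfixk_54 : ∀ p < N, R54 p = p := by
  intro p hp
  have hp' : p < 306936 := hp
  by_cases g0 : p < 28813
  · exact chkFix_spec chkR54_0 p (by omega) (by omega)
  by_cases g1 : p < 91313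
  · exact chkFix_spec chkR54_1 p (by omega) (by omega)
  by_cases g2 : p < 153813
  · exact chkFix_spec chkR54_2 p (by omega) (by omega)
  by_cases g3 : p < 216313
  · exact chkFix_spec chkR54_3 p (by omega) (by omega)
  by_cases g4 : p < 278813
  · exact chkFix_spec chkR54_4 p (by omega) (by omega)
  exact chkFix_spec chkR54_5 p (by omega) (by omega)

theorem hfixw_54 (p : ℕ) : wapp px (base.getD 54 []) p = R54 p := by
  show wapp px [4, 9, 4, 9] p = _
  simp only [wapp_cons, wapp_nil, px_c0, px_c1, px_c2, px_c3, px_c4, px_c5, px_c6, px_c7, px_c8, px_c9, px_c10, px_c11]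
  rfl

theorem hfixk_55 : ∀ p < N, R55 p = p := by
  intro p hp
  have hp' : p < 306936 := hp
  by_cases g0 : p < 34377
  · exact chkFix_spec chkR55_0 p (by omega) (by omega)
  by_cases g1 : p < 96877
  · exact chkFix_spec chkR55_1 p (by omega) (by omega)
  by_cases g2 : p < 159377
  · exact chkFix_spec chkR55_2 p (by omega) (by omega)
  by_cases g3 : p < 221877
  · exact chkFix_spec chkR55_3 p (by omega) (by omega)
  by_cases g4 : p < 284377
  · exact chkFix_spec chkR55_4 p (by omega) (by omega)
  exact chkFix_spec chkR55_5 p (by omega) (by omega)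

theorem hfixw_55 (p : ℕ) : wapp px (base.getD 55 []) p = R55 p := by
  show wapp px [4, 10, 4, 10] p = _
  simp only [wapp_cons, wapp_nil, px_c0, px_c1, px_c2, px_c3, px_c4, px_c5, px_c6, px_c7, px_c8, px_c9, px_c10, px_c11]
  rfl

theorem hfixk_56 : ∀ p < N, R56 p = p := by
  intro p hp
  have hp' : p < 306936 := hp
  by_cases g0 : p < 39941
  · exact chkFix_spec chkR56_0 p (by omega) (by omega)
  by_cases g1 : p < 102441
  · exact chkFix_spec chkR56_1 p (by omega) (by omega)
  by_cases g2 : p < 164941
  · exact chkFix_spec chkR56_2 p (by omega) (by omega)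
  by_cases g3 : p < 227441
  · exact chkFix_spec chkR56_3 p (by omega) (by omega)
  by_cases g4 : p < 289941
  · exact chkFix_spec chkR56_4 p (by omega) (by omega)
  exact chkFix_spec chkR56_5 p (by omega) (by omega)

theorem hfixw_56 (p : ℕ) : wapp px (base.getD 56 []) p = R56 p := by
  show wapp px [4, 11, 4, 11] p = _
  simp only [wapp_cons, wapp_nil, px_c0, px_c1, px_c2, px_c3, px_c4, px_c5, px_c6, px_c7, px_c8, px_c9, px_c10, px_c11]
  rfl

theorem hfixk_57 : ∀ p < N, R57 p = p := by
  intro p hp
  have hp' : p < 306936 := hp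
  by_cases g0 : p < 30336
  · exact chkFix_spec chkR57_0 p (by omega) (by omega)
  by_cases g1 : p < 72002
  · exact chkFix_spec chkR57_1 p (by omega) (by omega)
  by_cases g2 : p < 113668
  · exact chkFix_spec chkR57_2 p (by omega) (by omega)
  by_cases g3 : p < 155334
  · exact chkFix_spec chkR57_3 p (by omega) (by omega)
  by_cases g4 : p < 197000
  · exact chkFix_spec chkR57_4 p (by omega) (by omega)
  by_cases g5 : p < 238666
  · exact chkFix_spec chkR57_5 p (by omega) (by omega)
  by_cases g6 : p < 280332
  · exact chkFix_spec chkR57_6 p (by omega) (by omega)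
  exact chkFix_spec chkR57_7 p (by omega) (by omega)

theorem hfixw_57 (p : ℕ) : wapp px (base.getD 57 []) p = R57 p := by
  show wapp px [5, 6, 5, 6, 5, 6] p = _
  simp only [wapp_cons, wapp_nil, px_c0, px_c1, px_c2, px_c3, px_c4, px_c5, px_c6, px_c7, px_c8, px_c9, px_c10, px_c11]
  rfl

theorem hfixk_58 : ∀ p < N, R58 p = p := by
  intro p hp
  have hp' : p < 306936 := hp
  by_cases g0 : p < 22594
  · exact chkFix_spec chkR58_0 p (by omega) (by omega)
  by_cases g1 : p < 85094
  · exact chkFix_spec chkR58_1 p (by omega) (by omega)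
  by_cases g2 : p < 147594
  · exact chkFix_spec chkR58_2 p (by omega) (by omega)
  by_cases g3 : p < 210094
  · exact chkFix_spec chkR58_3 p (by omega) (by omega)
  by_cases g4 : p < 272594
  · exact chkFix_spec chkR58_4 p (by omega) (by omega)
  exact chkFix_spec chkR58_5 p (by omega) (by omega)

theorem hfixw_58 (p : ℕ) : wapp px (base.getD 58 []) p = R58 p := by
  show wapp px [5, 7, 5, 7] p = _
  simp only [wapp_cons, wapp_nil, px_c0, px_c1, px_c2, px_c3, px_c4, px_c5, px_c6, px_c7, px_c8, px_c9, px_c10, px_c11]
  rfl

theorem hfixk_59 : ∀ p < N, R59 p = p := by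
  intro p hp
  have hp' : p < 306936 := hp
  by_cases g0 : p < 28158
  · exact chkFix_spec chkR59_0 p (by omega) (by omega)
  by_cases g1 : p < 90658
  · exact chkFix_spec chkR59_1 p (by omega) (by omega)
  by_cases g2 : p < 153158
  · exact chkFix_spec chkR59_2 p (by omega) (by omega)
  by_cases g3 : p < 215658
  · exact chkFix_spec chkR59_3 p (by omega) (by omega)
  by_cases g4 : p < 278158
  · exact chkFix_spec chkR59_4 p (by omega) (by omega)
  exact chkFix_spec chkR59_5 p (by omega) (by omega)

theorem hfixw_59 (p : ℕ) : wapp px (base.getD 59 []) p = R59 p := by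
  show wapp px [5, 8, 5, 8] p = _
  simp only [wapp_cons, wapp_nil, px_c0, px_c1, px_c2, px_c3, px_c4, px_c5, px_c6, px_c7, px_c8, px_c9, px_c10, px_c11]
  rfl

theorem hfixk_60 : ∀ p < N, R60 p = p := by
  intro p hp
  have hp' : p < 306936 := hp
  by_cases g0 : p < 33722
  · exact chkFix_spec chkR60_0 p (by omega) (by omega)
  by_cases g1 : p < 96222
  · exact chkFix_spec chkR60_1 p (by omega) (by omega)
  by_cases g2 : p < 158722
  · exact chkFix_spec chkR60_2 p (by omega) (by omega)
  by_cases g3 : p < 221222
  · exact chkFix_spec chkR60_3 p (by omega) (by omega)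
  by_cases g4 : p < 283722
  · exact chkFix_spec chkR60_4 p (by omega) (by omega)
  exact chkFix_spec chkR60_5 p (by omega) (by omega)

theorem hfixw_60 (p : ℕ) : wapp px (base.getD 60 []) p = R60 p := by
  show wapp px [5, 9, 5, 9] p = _
  simp only [wapp_cons, wapp_nil, px_c0, px_c1, px_c2, px_c3, px_c4, px_c5, px_c6, px_c7, px_c8, px_c9, px_c10, px_c11]
  rfl

theorem hfixk_61 : ∀ p < N, R61 p = p := by
  intro p hp
  have hp' : p < 306936 := hp
  by_cases g0 : p < 26190
  · exact chkFix_spec chkR61_0 p (by omega) (by omega)
  by_cases g1 : p < 67856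
  · exact chkFix_spec chkR61_1 p (by omega) (by omega)
  by_cases g2 : p < 109522
  · exact chkFix_spec chkR61_2 p (by omega) (by omega)
  by_cases g3 : p < 151188
  · exact chkFix_spec chkR61_3 p (by omega) (by omega)
  by_cases g4 : p < 192854
  · exact chkFix_spec chkR61_4 p (by omega) (by omega)
  by_cases g5 : p < 234520
  · exact chkFix_spec chkR61_5 p (by omega) (by omega)
  by_cases g6 : p < 276186
  · exact chkFix_spec chkR61_6 p (by omega) (by omega)
  exact chkFix_spec chkR61_7 p (by omega) (by omega)

theorem hfixw_61 (p : ℕ) : wapp px (base.getD 61 []) p = R61 p := by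
  show wapp px [5, 10, 5, 10, 5, 10] p = _
  simp only [wapp_cons, wapp_nil, px_c0, px_c1, px_c2, px_c3, px_c4, px_c5, px_c6, px_c7, px_c8, px_c9, px_c10, px_c11]
  rfl

theorem hfixk_62 : ∀ p < N, R62 p = p := by
  intro p hp
  have hp' : p < 306936 := hp
  by_cases g0 : p < 16375
  · exact chkFix_spec chkR62_0 p (by omega) (by omega)
  by_cases g1 : p < 78875
  · exact chkFix_spec chkR62_1 p (by omega) (by omega)
  by_cases g2 : p < 141375
  · exact chkFix_spec chkR62_2 p (by omega) (by omega)
  by_cases g3 : p < 203875
  · exact chkFix_spec chkR62_3 p (by omega) (by omega)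
  by_cases g4 : p < 266375
  · exact chkFix_spec chkR62_4 p (by omega) (by omega)
  exact chkFix_spec chkR62_5 p (by omega) (by omega)

theorem hfixw_62 (p : ℕ) : wapp px (base.getD 62 []) p = R62 p := by
  show wapp px [5, 11, 5, 11] p = _
  simp only [wapp_cons, wapp_nil, px_c0, px_c1, px_c2, px_c3, px_c4, px_c5, px_c6, px_c7, px_c8, px_c9, px_c10, px_c11]
  rfl

theorem hfixk_63 : ∀ p < N, R63 p = p := by
  intro p hp
  have hp' : p < 306936 := hp
  by_cases g0 : p < 14626
  · exact chkFix_spec chkR63_0 p (by omega) (by omega)
  by_cases g1 : p < 56292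
  · exact chkFix_spec chkR63_1 p (by omega) (by omega)
  by_cases g2 : p < 97958
  · exact chkFix_spec chkR63_2 p (by omega) (by omega)
  by_cases g3 : p < 139624
  · exact chkFix_spec chkR63_3 p (by omega) (by omega)
  by_cases g4 : p < 181290
  · exact chkFix_spec chkR63_4 p (by omega) (by omega)
  by_cases g5 : p < 222956
  · exact chkFix_spec chkR63_5 p (by omega) (by omega)
  by_cases g6 : p < 264622
  · exact chkFix_spec chkR63_6 p (by omega) (by omega)
  by_cases g7 : p < 306288
  · exact chkFix_spec chkR63_7 p (by omega) (by omega)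
  exact chkFix_spec chkR63_8 p (by omega) (by omega)

theorem hfixw_63 (p : ℕ) : wapp px (base.getD 63 []) p = R63 p := by
  show wapp px [6, 7, 6, 7, 6, 7] p = _
  simp only [wapp_cons, wapp_nil, px_c0, px_c1, px_c2, px_c3, px_c4, px_c5, px_c6, px_c7, px_c8, px_c9, px_c10, px_c11]
  rfl

theorem hfixk_64 : ∀ p < N, R64 p = p := by
  intro p hp
  have hp' : p < 306936 := hp
  by_cases g0 : p < 61528
  · exact chkFix_spec chkR64_0 p (by omega) (by omega)
  by_cases g1 : p < 124028
  · exact chkFix_spec chkR64_1 p (by omega) (by omega)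
  by_cases g2 : p < 186528
  · exact chkFix_spec chkR64_2 p (by omega) (by omega)
  by_cases g3 : p < 249028
  · exact chkFix_spec chkR64_3 p (by omega) (by omega)
  exact chkFix_spec chkR64_4 p (by omega) (by omega)

theorem hfixw_64 (p : ℕ) : wapp px (base.getD 64 []) p = R64 p := by
  show wapp px [6, 8, 6, 8] p = _
  simp only [wapp_cons, wapp_nil, px_c0, px_c1, px_c2, px_c3, px_c4, px_c5, px_c6, px_c7, px_c8, px_c9, px_c10, px_c11]
  rfl

theorem hfixk_65 : ∀ p < N, R65 p = p := by
  intro p hp
  have hp' : p < 306936 := hp
  by_cases g0 : p < 4592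
  · exact chkFix_spec chkR65_0 p (by omega) (by omega)
  by_cases g1 : p < 67092
  · exact chkFix_spec chkR65_1 p (by omega) (by omega)
  by_cases g2 : p < 129592
  · exact chkFix_spec chkR65_2 p (by omega) (by omega)
  by_cases g3 : p < 192092
  · exact chkFix_spec chkR65_3 p (by omega) (by omega)
  by_cases g4 : p < 254592
  · exact chkFix_spec chkR65_4 p (by omega) (by omega)
  exact chkFix_spec chkR65_5 p (by omega) (by omega)

theorem hfixw_65 (p : ℕ) : wapp px (base.getD 65 []) p = R65 p := by
  show wapp px [6, 9, 6, 9] p = _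
  simp only [wapp_cons, wapp_nil, px_c0, px_c1, px_c2, px_c3, px_c4, px_c5, px_c6, px_c7, px_c8, px_c9, px_c10, px_c11]
  rfl

theorem hfixk_66 : ∀ p < N, R66 p = p := by
  intro p hp
  have hp' : p < 306936 := hp
  by_cases g0 : p < 10156
  · exact chkFix_spec chkR66_0 p (by omega) (by omega)
  by_cases g1 : p < 72656
  · exact chkFix_spec chkR66_1 p (by omega) (by omega)
  by_cases g2 : p < 135156
  · exact chkFix_spec chkR66_2 p (by omega) (by omega)
  by_cases g3 : p < 197656
  · exact chkFix_spec chkR66_3 p (by omega) (by omega)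
  by_cases g4 : p < 260156
  · exact chkFix_spec chkR66_4 p (by omega) (by omega)
  exact chkFix_spec chkR66_5 p (by omega) (by omega)

theorem hfixw_66 (p : ℕ) : wapp px (base.getD 66 []) p = R66 p := by
  show wapp px [6, 10, 6, 10] p = _
  simp only [wapp_cons, wapp_nil, px_c0, px_c1, px_c2, px_c3, px_c4, px_c5, px_c6, px_c7, px_c8, px_c9, px_c10, px_c11]
  rfl

theorem hfixk_67 : ∀ p < N, R67 p = p := by
  intro p hp
  have hp' : p < 306936 := hp
  by_cases g0 : p < 15720
  · exact chkFix_spec chkR67_0 p (by omega) (by omega)
  by_cases g1 : p < 78220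
  · exact chkFix_spec chkR67_1 p (by omega) (by omega)
  by_cases g2 : p < 140720
  · exact chkFix_spec chkR67_2 p (by omega) (by omega)
  by_cases g3 : p < 203220
  · exact chkFix_spec chkR67_3 p (by omega) (by omega)
  by_cases g4 : p < 265720
  · exact chkFix_spec chkR67_4 p (by omega) (by omega)
  exact chkFix_spec chkR67_5 p (by omega) (by omega)

theorem hfixw_67 (p : ℕ) : wapp px (base.getD 67 []) p = R67 p := by
  show wapp px [6, 11, 6, 11] p = _
  simp only [wapp_cons, wapp_nil, px_c0, px_c1, px_c2, px_c3, px_c4, px_c5, px_c6, px_c7, px_c8, px_c9, px_c10, px_c11]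
  rfl

theorem hfixk_68 : ∀ p < N, R68 p = p := by
  intro p hp
  have hp' : p < 306936 := hp
  by_cases g0 : p < 14189
  · exact chkFix_spec chkR68_0 p (by omega) (by omega)
  by_cases g1 : p < 55855
  · exact chkFix_spec chkR68_1 p (by omega) (by omega)
  by_cases g2 : p < 97521
  · exact chkFix_spec chkR68_2 p (by omega) (by omega)
  by_cases g3 : p < 139187
  · exact chkFix_spec chkR68_3 p (by omega) (by omega)
  by_cases g4 : p < 180853
  · exact chkFix_spec chkR68_4 p (by omega) (by omega)
  by_cases g5 : p < 222519
  · exact chkFix_spec chkR68_5 p (by omega) (by omega)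
  by_cases g6 : p < 264185
  · exact chkFix_spec chkR68_6 p (by omega) (by omega)
  by_cases g7 : p < 305851
  · exact chkFix_spec chkR68_7 p (by omega) (by omega)
  exact chkFix_spec chkR68_8 p (by omega) (by omega)

theorem hfixw_68 (p : ℕ) : wapp px (base.getD 68 []) p = R68 p := by
  show wapp px [7, 8, 7, 8, 7, 8] p = _
  simp only [wapp_cons, wapp_nil, px_c0, px_c1, px_c2, px_c3, px_c4, px_c5, px_c6, px_c7, px_c8, px_c9, px_c10, px_c11]
  rfl

theorem hfixk_69 : ∀ p < N, R69 p = p := by
  intro p hp
  have hp' : p < 306936 := hp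
  by_cases g0 : p < 60872
  · exact chkFix_spec chkR69_0 p (by omega) (by omega)
  by_cases g1 : p < 123372
  · exact chkFix_spec chkR69_1 p (by omega) (by omega)
  by_cases g2 : p < 185872
  · exact chkFix_spec chkR69_2 p (by omega) (by omega)
  by_cases g3 : p < 248372
  · exact chkFix_spec chkR69_3 p (by omega) (by omega)
  exact chkFix_spec chkR69_4 p (by omega) (by omega)

theorem hfixw_69 (p : ℕ) : wapp px (base.getD 69 []) p = R69 p := by
  show wapp px [7, 9, 7, 9] p = _
  simp only [wapp_cons, wapp_nil, px_c0, px_c1, px_c2, px_c3, px_c4, px_c5, px_c6, px_c7, px_c8, px_c9, px_c10, px_c11]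
  rfl

theorem hfixk_70 : ∀ p < N, R70 p = p := by
  intro p hp
  have hp' : p < 306936 := hp
  by_cases g0 : p < 3936
  · exact chkFix_spec chkR70_0 p (by omega) (by omega)
  by_cases g1 : p < 66436
  · exact chkFix_spec chkR70_1 p (by omega) (by omega)
  by_cases g2 : p < 128936
  · exact chkFix_spec chkR70_2 p (by omega) (by omega)
  by_cases g3 : p < 191436
  · exact chkFix_spec chkR70_3 p (by omega) (by omega)
  by_cases g4 : p < 253936
  · exact chkFix_spec chkR70_4 p (by omega) (by omega)
  exact chkFix_spec chkR70_5 p (by omega) (by omega)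

theorem hfixw_70 (p : ℕ) : wapp px (base.getD 70 []) p = R70 p := by
  show wapp px [7, 10, 7, 10] p = _
  simp only [wapp_cons, wapp_nil, px_c0, px_c1, px_c2, px_c3, px_c4, px_c5, px_c6, px_c7, px_c8, px_c9, px_c10, px_c11]
  rfl

theorem hfixk_71 : ∀ p < N, R71 p = p := by
  intro p hp
  have hp' : p < 306936 := hp
  by_cases g0 : p < 9500
  · exact chkFix_spec chkR71_0 p (by omega) (by omega)
  by_cases g1 : p < 72000
  · exact chkFix_spec chkR71_1 p (by omega) (by omega)
  by_cases g2 : p < 134500
  · exact chkFix_spec chkR71_2 p (by omega) (by omega)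
  by_cases g3 : p < 197000
  · exact chkFix_spec chkR71_3 p (by omega) (by omega)
  by_cases g4 : p < 259500
  · exact chkFix_spec chkR71_4 p (by omega) (by omega)
  exact chkFix_spec chkR71_5 p (by omega) (by omega)

theorem hfixw_71 (p : ℕ) : wapp px (base.getD 71 []) p = R71 p := by
  show wapp px [7, 11, 7, 11] p = _
  simp only [wapp_cons, wapp_nil, px_c0, px_c1, px_c2, px_c3, px_c4, px_c5, px_c6, px_c7, px_c8, px_c9, px_c10, px_c11]
  rfl

theorem hfixk_72 : ∀ p < N, R72 p = p := by
  intro p hp
  have hp' : p < 306936 := hp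
  by_cases g0 : p < 10042
  · exact chkFix_spec chkR72_0 p (by omega) (by omega)
  by_cases g1 : p < 51708
  · exact chkFix_spec chkR72_1 p (by omega) (by omega)
  by_cases g2 : p < 93374
  · exact chkFix_spec chkR72_2 p (by omega) (by omega)
  by_cases g3 : p < 135040
  · exact chkFix_spec chkR72_3 p (by omega) (by omega)
  by_cases g4 : p < 176706
  · exact chkFix_spec chkR72_4 p (by omega) (by omega)
  by_cases g5 : p < 218372
  · exact chkFix_spec chkR72_5 p (by omega) (by omega)
  by_cases g6 : p < 260038
  · exact chkFix_spec chkR72_6 p (by omega) (by omega)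
  by_cases g7 : p < 301704
  · exact chkFix_spec chkR72_7 p (by omega) (by omega)
  exact chkFix_spec chkR72_8 p (by omega) (by omega)

theorem hfixw_72 (p : ℕ) : wapp px (base.getD 72 []) p = R72 p := by
  show wapp px [8, 9, 8, 9, 8, 9] p = _
  simp only [wapp_cons, wapp_nil, px_c0, px_c1, px_c2, px_c3, px_c4, px_c5, px_c6, px_c7, px_c8, px_c9, px_c10, px_c11]
  rfl

theorem hfixk_73 : ∀ p < N, R73 p = p := by
  intro p hp
  have hp' : p < 306936 := hp
  by_cases g0 : p < 54652
  · exact chkFix_spec chkR73_0 p (by omega) (by omega)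
  by_cases g1 : p < 117152
  · exact chkFix_spec chkR73_1 p (by omega) (by omega)
  by_cases g2 : p < 179652
  · exact chkFix_spec chkR73_2 p (by omega) (by omega)
  by_cases g3 : p < 242152
  · exact chkFix_spec chkR73_3 p (by omega) (by omega)
  by_cases g4 : p < 304652
  · exact chkFix_spec chkR73_4 p (by omega) (by omega)
  exact chkFix_spec chkR73_5 p (by omega) (by omega)

theorem hfixw_73 (p : ℕ) : wapp px (base.getD 73 []) p = R73 p := by
  show wapp px [8, 10, 8, 10] p = _
  simp only [wapp_cons, wapp_nil, px_c0, px_c1, px_c2, px_c3, px_c4, px_c5, px_c6, px_c7, px_c8, px_c9, px_c10, px_c11]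
  rfl

theorem hfixk_74 : ∀ p < N, R74 p = p := by
  intro p hp
  have hp' : p < 306936 := hp
  by_cases g0 : p < 60216
  · exact chkFix_spec chkR74_0 p (by omega) (by omega)
  by_cases g1 : p < 122716
  · exact chkFix_spec chkR74_1 p (by omega) (by omega)
  by_cases g2 : p < 185216
  · exact chkFix_spec chkR74_2 p (by omega) (by omega)
  by_cases g3 : p < 247716
  · exact chkFix_spec chkR74_3 p (by omega) (by omega)
  exact chkFix_spec chkR74_4 p (by omega) (by omega)

theorem hfixw_74 (p : ℕ) : wapp px (base.getD 74 []) p = R74 p := by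
  show wapp px [8, 11, 8, 11] p = _
  simp only [wapp_cons, wapp_nil, px_c0, px_c1, px_c2, px_c3, px_c4, px_c5, px_c6, px_c7, px_c8, px_c9, px_c10, px_c11]
  rfl

theorem hfixk_75 : ∀ p < N, R75 p = p := by
  intro p hp
  have hp' : p < 306936 := hp
  by_cases g0 : p < 3280
  · exact chkFix_spec chkR75_0 p (by omega) (by omega)
  by_cases g1 : p < 65780
  · exact chkFix_spec chkR75_1 p (by omega) (by omega)
  by_cases g2 : p < 128280
  · exact chkFix_spec chkR75_2 p (by omega) (by omega)
  by_cases g3 : p < 190780
  · exact chkFix_spec chkR75_3 p (by omega) (by omega)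
  by_cases g4 : p < 253280
  · exact chkFix_spec chkR75_4 p (by omega) (by omega)
  exact chkFix_spec chkR75_5 p (by omega) (by omega)

theorem hfixw_75 (p : ℕ) : wapp px (base.getD 75 []) p = R75 p := by
  show wapp px [9, 10, 9, 10] p = _
  simp only [wapp_cons, wapp_nil, px_c0, px_c1, px_c2, px_c3, px_c4, px_c5, px_c6, px_c7, px_c8, px_c9, px_c10, px_c11]
  rfl

theorem hfixk_76 : ∀ p < N, R76 p = p := by
  intro p hp
  have hp' : p < 306936 := hp
  by_cases g0 : p < 8844
  · exact chkFix_spec chkR76_0 p (by omega) (by omega)
  by_cases g1 : p < 71344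
  · exact chkFix_spec chkR76_1 p (by omega) (by omega)
  by_cases g2 : p < 133844
  · exact chkFix_spec chkR76_2 p (by omega) (by omega)
  by_cases g3 : p < 196344
  · exact chkFix_spec chkR76_3 p (by omega) (by omega)
  by_cases g4 : p < 258844
  · exact chkFix_spec chkR76_4 p (by omega) (by omega)
  exact chkFix_spec chkR76_5 p (by omega) (by omega)

theorem hfixw_76 (p : ℕ) : wapp px (base.getD 76 []) p = R76 p := by
  show wapp px [9, 11, 9, 11] p = _
  simp only [wapp_cons, wapp_nil, px_c0, px_c1, px_c2, px_c3, px_c4, px_c5, px_c6, px_c7, px_c8, px_c9, px_c10, px_c11]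
  rfl

theorem hfixk_77 : ∀ p < N, R77 p = p := by
  intro p hp
  have hp' : p < 306936 := hp
  by_cases g0 : p < 9605
  · exact chkFix_spec chkR77_0 p (by omega) (by omega)
  by_cases g1 : p < 51271
  · exact chkFix_spec chkR77_1 p (by omega) (by omega)
  by_cases g2 : p < 92937
  · exact chkFix_spec chkR77_2 p (by omega) (by omega)
  by_cases g3 : p < 134603
  · exact chkFix_spec chkR77_3 p (by omega) (by omega)
  by_cases g4 : p < 176269
  · exact chkFix_spec chkR77_4 p (by omega) (by omega)
  by_cases g5 : p < 217935
  · exact chkFix_spec chkR77_5 p (by omega) (by omega)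
  by_cases g6 : p < 259601
  · exact chkFix_spec chkR77_6 p (by omega) (by omega)
  by_cases g7 : p < 301267
  · exact chkFix_spec chkR77_7 p (by omega) (by omega)
  exact chkFix_spec chkR77_8 p (by omega) (by omega)

theorem hfixw_77 (p : ℕ) : wapp px (base.getD 77 []) p = R77 p := by
  show wapp px [10, 11, 10, 11, 10, 11] p = _
  simp only [wapp_cons, wapp_nil, px_c0, px_c1, px_c2, px_c3, px_c4, px_c5, px_c6, px_c7, px_c8, px_c9, px_c10, px_c11]
  rfl

theorem hfixk_78 : ∀ p < N, R78 p = p := by
  intro p hp
  have hp' : p < 306936 := hp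
  by_cases g0 : p < 3374
  · exact chkFix_spec chkR78_0 p (by omega) (by omega)
  by_cases g1 : p < 7280
  · exact chkFix_spec chkR78_1 p (by omega) (by omega)
  by_cases g2 : p < 11186
  · exact chkFix_spec chkR78_2 p (by omega) (by omega)
  by_cases g3 : p < 15092
  · exact chkFix_spec chkR78_3 p (by omega) (by omega)
  by_cases g4 : p < 18998
  · exact chkFix_spec chkR78_4 p (by omega) (by omega)
  by_cases g5 : p < 22904
  · exact chkFix_spec chkR78_5 p (by omega) (by omega)
  by_cases g6 : p < 26810
  · exact chkFix_spec chkR78_6 p (by omega) (by omega)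
  by_cases g7 : p < 30716
  · exact chkFix_spec chkR78_7 p (by omega) (by omega)
  by_cases g8 : p < 34622
  · exact chkFix_spec chkR78_8 p (by omega) (by omega)
  by_cases g9 : p < 38528
  · exact chkFix_spec chkR78_9 p (by omega) (by omega)
  by_cases g10 : p < 42434
  · exact chkFix_spec chkR78_10 p (by omega) (by omega)
  by_cases g11 : p < 46340
  · exact chkFix_spec chkR78_11 p (by omega) (by omega)
  by_cases g12 : p < 50246
  · exact chkFix_spec chkR78_12 p (by omega) (by omega)
  by_cases g13 : p < 54152
  · exact chkFix_spec chkR78_13 p (by omega) (by omega)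
  by_cases g14 : p < 58058
  · exact chkFix_spec chkR78_14 p (by omega) (by omega)
  by_cases g15 : p < 61964
  · exact chkFix_spec chkR78_15 p (by omega) (by omega)
  by_cases g16 : p < 65870
  · exact chkFix_spec chkR78_16 p (by omega) (by omega)
  by_cases g17 : p < 69776
  · exact chkFix_spec chkR78_17 p (by omega) (by omega)
  by_cases g18 : p < 73682
  · exact chkFix_spec chkR78_18 p (by omega) (by omega)
  by_cases g19 : p < 77588
  · exact chkFix_spec chkR78_19 p (by omega) (by omega)
  by_cases g20 : p < 81494
  · exact chkFix_spec chkR78_20 p (by omega) (by omega)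
  by_cases g21 : p < 85400
  · exact chkFix_spec chkR78_21 p (by omega) (by omega)
  by_cases g22 : p < 89306
  · exact chkFix_spec chkR78_22 p (by omega) (by omega)
  by_cases g23 : p < 93212
  · exact chkFix_spec chkR78_23 p (by omega) (by omega)
  by_cases g24 : p < 97118
  · exact chkFix_spec chkR78_24 p (by omega) (by omega)
  by_cases g25 : p < 101024
  · exact chkFix_spec chkR78_25 p (by omega) (by omega)
  by_cases g26 : p < 104930
  · exact chkFix_spec chkR78_26 p (by omega) (by omega)
  by_cases g27 : p < 108836
  · exact chkFix_spec chkR78_27 p (by omega) (by omega)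
  by_cases g28 : p < 112742
  · exact chkFix_spec chkR78_28 p (by omega) (by omega)
  by_cases g29 : p < 116648
  · exact chkFix_spec chkR78_29 p (by omega) (by omega)
  by_cases g30 : p < 120554
  · exact chkFix_spec chkR78_30 p (by omega) (by omega)
  by_cases g31 : p < 124460
  · exact chkFix_spec chkR78_31 p (by omega) (by omega)
  by_cases g32 : p < 128366
  · exact chkFix_spec chkR78_32 p (by omega) (by omega)
  by_cases g33 : p < 132272
  · exact chkFix_spec chkR78_33 p (by omega) (by omega)
  by_cases g34 : p < 136178
  · exact chkFix_spec chkR78_34 p (by omega) (by omega)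
  by_cases g35 : p < 140084
  · exact chkFix_spec chkR78_35 p (by omega) (by omega)
  by_cases g36 : p < 143990
  · exact chkFix_spec chkR78_36 p (by omega) (by omega)
  by_cases g37 : p < 147896
  · exact chkFix_spec chkR78_37 p (by omega) (by omega)
  by_cases g38 : p < 151802
  · exact chkFix_spec chkR78_38 p (by omega) (by omega)
  by_cases g39 : p < 155708
  · exact chkFix_spec chkR78_39 p (by omega) (by omega)
  by_cases g40 : p < 159614
  · exact chkFix_spec chkR78_40 p (by omega) (by omega)
  by_cases g41 : p < 163520
  · exact chkFix_spec chkR78_41 p (by omega) (by omega)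
  by_cases g42 : p < 167426
  · exact chkFix_spec chkR78_42 p (by omega) (by omega)
  by_cases g43 : p < 171332
  · exact chkFix_spec chkR78_43 p (by omega) (by omega)
  by_cases g44 : p < 175238
  · exact chkFix_spec chkR78_44 p (by omega) (by omega)
  by_cases g45 : p < 179144
  · exact chkFix_spec chkR78_45 p (by omega) (by omega)
  by_cases g46 : p < 183050
  · exact chkFix_spec chkR78_46 p (by omega) (by omega)
  by_cases g47 : p < 186956
  · exact chkFix_spec chkR78_47 p (by omega) (by omega)
  by_cases g48 : p < 190862
  · exact chkFix_spec chkR78_48 p (by omega) (by omega)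
  by_cases g49 : p < 194768
  · exact chkFix_spec chkR78_49 p (by omega) (by omega)
  by_cases g50 : p < 198674
  · exact chkFix_spec chkR78_50 p (by omega) (by omega)
  by_cases g51 : p < 202580
  · exact chkFix_spec chkR78_51 p (by omega) (by omega)
  by_cases g52 : p < 206486
  · exact chkFix_spec chkR78_52 p (by omega) (by omega)
  by_cases g53 : p < 210392
  · exact chkFix_spec chkR78_53 p (by omega) (by omega)
  by_cases g54 : p < 214298
  · exact chkFix_spec chkR78_54 p (by omega) (by omega)
  by_cases g55 : p < 218204
  · exact chkFix_spec chkR78_55 p (by omega) (by omega)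
  by_cases g56 : p < 222110
  · exact chkFix_spec chkR78_56 p (by omega) (by omega)
  by_cases g57 : p < 226016
  · exact chkFix_spec chkR78_57 p (by omega) (by omega)
  by_cases g58 : p < 229922
  · exact chkFix_spec chkR78_58 p (by omega) (by omega)
  by_cases g59 : p < 233828
  · exact chkFix_spec chkR78_59 p (by omega) (by omega)
  by_cases g60 : p < 237734
  · exact chkFix_spec chkR78_60 p (by omega) (by omega)
  by_cases g61 : p < 241640
  · exact chkFix_spec chkR78_61 p (by omega) (by omega)
  by_cases g62 : p < 245546
  · exact chkFix_spec chkR78_62 p (by omega) (by omega)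
  by_cases g63 : p < 249452
  · exact chkFix_spec chkR78_63 p (by omega) (by omega)
  by_cases g64 : p < 253358
  · exact chkFix_spec chkR78_64 p (by omega) (by omega)
  by_cases g65 : p < 257264
  · exact chkFix_spec chkR78_65 p (by omega) (by omega)
  by_cases g66 : p < 261170
  · exact chkFix_spec chkR78_66 p (by omega) (by omega)
  by_cases g67 : p < 265076
  · exact chkFix_spec chkR78_67 p (by omega) (by omega)
  by_cases g68 : p < 268982
  · exact chkFix_spec chkR78_68 p (by omega) (by omega)
  by_cases g69 : p < 272888
  · exact chkFix_spec chkR78_69 p (by omega) (by omega)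
  by_cases g70 : p < 276794
  · exact chkFix_spec chkR78_70 p (by omega) (by omega)
  by_cases g71 : p < 280700
  · exact chkFix_spec chkR78_71 p (by omega) (by omega)
  by_cases g72 : p < 284606
  · exact chkFix_spec chkR78_72 p (by omega) (by omega)
  by_cases g73 : p < 288512
  · exact chkFix_spec chkR78_73 p (by omega) (by omega)
  by_cases g74 : p < 292418
  · exact chkFix_spec chkR78_74 p (by omega) (by omega)
  by_cases g75 : p < 296324
  · exact chkFix_spec chkR78_75 p (by omega) (by omega)
  by_cases g76 : p < 300230
  · exact chkFix_spec chkR78_76 p (by omega) (by omega)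
  by_cases g77 : p < 304136
  · exact chkFix_spec chkR78_77 p (by omega) (by omega)
  exact chkFix_spec chkR78_78 p (by omega) (by omega)

theorem hfixw_78 (p : ℕ) : wapp px (base.getD 78 []) p = R78 p := by
  show wapp px [0, 10, 7, 6, 5, 4, 3, 2, 10, 7, 6, 5, 4, 3, 2, 10, 7, 6, 5, 4, 3, 2, 10, 7, 6, 5, 4, 3, 2, 10, 7, 6, 5, 4, 3, 2, 10, 7, 6, 5, 4, 3, 2, 10, 7, 6, 5, 4, 3, 2, 10, 7, 6, 5, 4, 3, 2, 10, 7, 6, 5, 4, 3, 2] p = _
  simp only [wapp_cons, wapp_nil, px_c0, px_c1, px_c2, px_c3, px_c4, px_c5, px_c6, px_c7, px_c8, px_c9, px_c10, px_c11]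
  rfl

theorem hfixk_79 : ∀ p < N, R79 p = p := by
  intro p hp
  have hp' : p < 306936 := hp
  by_cases g0 : p < 12740
  · exact chkFix_spec chkR79_0 p (by omega) (by omega)
  by_cases g1 : p < 27445
  · exact chkFix_spec chkR79_1 p (by omega) (by omega)
  by_cases g2 : p < 42150
  · exact chkFix_spec chkR79_2 p (by omega) (by omega)
  by_cases g3 : p < 56855
  · exact chkFix_spec chkR79_3 p (by omega) (by omega)
  by_cases g4 : p < 71560
  · exact chkFix_spec chkR79_4 p (by omega) (by omega)
  by_cases g5 : p < 86265
  · exact chkFix_spec chkR79_5 p (by omega) (by omega)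
  by_cases g6 : p < 100970
  · exact chkFix_spec chkR79_6 p (by omega) (by omega)
  by_cases g7 : p < 115675
  · exact chkFix_spec chkR79_7 p (by omega) (by omega)
  by_cases g8 : p < 130380
  · exact chkFix_spec chkR79_8 p (by omega) (by omega)
  by_cases g9 : p < 145085
  · exact chkFix_spec chkR79_9 p (by omega) (by omega)
  by_cases g10 : p < 159790
  · exact chkFix_spec chkR79_10 p (by omega) (by omega)
  by_cases g11 : p < 174495
  · exact chkFix_spec chkR79_11 p (by omega) (by omega)
  by_cases g12 : p < 189200
  · exact chkFix_spec chkR79_12 p (by omega) (by omega)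
  by_cases g13 : p < 203905
  · exact chkFix_spec chkR79_13 p (by omega) (by omega)
  by_cases g14 : p < 218610
  · exact chkFix_spec chkR79_14 p (by omega) (by omega)
  by_cases g15 : p < 233315
  · exact chkFix_spec chkR79_15 p (by omega) (by omega)
  by_cases g16 : p < 248020
  · exact chkFix_spec chkR79_16 p (by omega) (by omega)
  by_cases g17 : p < 262725
  · exact chkFix_spec chkR79_17 p (by omega) (by omega)
  by_cases g18 : p < 277430
  · exact chkFix_spec chkR79_18 p (by omega) (by omega)
  by_cases g19 : p < 292135
  · exact chkFix_spec chkR79_19 p (by omega) (by omega)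
  by_cases g20 : p < 306840
  · exact chkFix_spec chkR79_20 p (by omega) (by omega)
  exact chkFix_spec chkR79_21 p (by omega) (by omega)

theorem hQU_79 : ∀ p < N, Q79 p = U79 p := by
  intro p hp
  have hp' : p < 306936 := hp
  by_cases g0 : p < 4720
  · exact chkEqF_spec chkQ79_0 p (by omega) (by omega)
  by_cases g1 : p < 21386
  · exact chkEqF_spec chkQ79_1 p (by omega) (by omega)
  by_cases g2 : p < 38052
  · exact chkEqF_spec chkQ79_2 p (by omega) (by omega)
  by_cases g3 : p < 54718
  · exact chkEqF_spec chkQ79_3 p (by omega) (by omega)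
  by_cases g4 : p < 71384
  · exact chkEqF_spec chkQ79_4 p (by omega) (by omega)
  by_cases g5 : p < 88050
  · exact chkEqF_spec chkQ79_5 p (by omega) (by omega)
  by_cases g6 : p < 104716
  · exact chkEqF_spec chkQ79_6 p (by omega) (by omega)
  by_cases g7 : p < 121382
  · exact chkEqF_spec chkQ79_7 p (by omega) (by omega)
  by_cases g8 : p < 138048
  · exact chkEqF_spec chkQ79_8 p (by omega) (by omega)
  by_cases g9 : p < 154714
  · exact chkEqF_spec chkQ79_9 p (by omega) (by omega)
  by_cases g10 : p < 171380
  · exact chkEqF_spec chkQ79_10 p (by omega) (by omega)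
  by_cases g11 : p < 188046
  · exact chkEqF_spec chkQ79_11 p (by omega) (by omega)
  by_cases g12 : p < 204712
  · exact chkEqF_spec chkQ79_12 p (by omega) (by omega)
  by_cases g13 : p < 221378
  · exact chkEqF_spec chkQ79_13 p (by omega) (by omega)
  by_cases g14 : p < 238044
  · exact chkEqF_spec chkQ79_14 p (by omega) (by omega)
  by_cases g15 : p < 254710
  · exact chkEqF_spec chkQ79_15 p (by omega) (by omega)
  by_cases g16 : p < 271376
  · exact chkEqF_spec chkQ79_16 p (by omega) (by omega)
  by_cases g17 : p < 288042
  · exact chkEqF_spec chkQ79_17 p (by omega) (by omega)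
  by_cases g18 : p < 304708
  · exact chkEqF_spec chkQ79_18 p (by omega) (by omega)
  exact chkEqF_spec chkQ79_19 p (by omega) (by omega)

theorem hUw_79 (p : ℕ) : wapp px [5, 4, 3, 2, 1, 0, 5, 6, 7, 8, 9, 5, 10, 11] p = U79 p := by
  simp only [wapp_cons, wapp_nil, px_c0, px_c1, px_c2, px_c3, px_c4, px_c5, px_c6, px_c7, px_c8, px_c9, px_c10, px_c11]
  rfl

theorem hfixw_79 (p : ℕ) (hp : p < N) : wapp px (base.getD 79 []) p = R79 p := by
  have e : base.getD 79 [] = (List.replicate 17 [5, 4, 3, 2, 1, 0, 5, 6, 7, 8, 9, 5, 10, 11]).flatten := by decide +kernel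
  rw [e, wapp_pow hP (by decide) (fun q hq => (hQU_79 q hq).trans (hUw_79 q).symm) 17 p hp]
  unfold R79
  simp only [Function.iterate_succ_apply, Function.iterate_zero_apply]

theorem hfix_k : ∀ k < 80, ∀ p < N, wapp px (base.getD k []) p = p := by
  intro k hk
  interval_cases k
  · intro p hp
    rw [hfixw_0]
    exact hfixk_0 p hp
  · intro p hp
    rw [hfixw_1]
    exact hfixk_1 p hp
  · intro p hp
    rw [hfixw_2]
    exact hfixk_2 p hp
  · intro p hp
    rw [hfixw_3]
    exact hfixk_3 p hp
  · intro p hp
    rw [hfixw_4]
    exact hfixk_4 p hp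
  · intro p hp
    rw [hfixw_5]
    exact hfixk_5 p hp
  · intro p hp
    rw [hfixw_6]
    exact hfixk_6 p hp
  · intro p hp
    rw [hfixw_7]
    exact hfixk_7 p hp
  · intro p hp
    rw [hfixw_8]
    exact hfixk_8 p hp
  · intro p hp
    rw [hfixw_9]
    exact hfixk_9 p hp
  · intro p hp
    rw [hfixw_10]
    exact hfixk_10 p hp
  · intro p hp
    rw [hfixw_11]
    exact hfixk_11 p hp
  · intro p hp
    rw [hfixw_12]
    exact hfixk_12 p hp
  · intro p hp
    rw [hfixw_13]
    exact hfixk_13 p hp
  · intro p hp
    rw [hfixw_14]
    exact hfixk_14 p hp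
  · intro p hp
    rw [hfixw_15]
    exact hfixk_15 p hp
  · intro p hp
    rw [hfixw_16]
    exact hfixk_16 p hp
  · intro p hp
    rw [hfixw_17]
    exact hfixk_17 p hp
  · intro p hp
    rw [hfixw_18]
    exact hfixk_18 p hp
  · intro p hp
    rw [hfixw_19]
    exact hfixk_19 p hp
  · intro p hp
    rw [hfixw_20]
    exact hfixk_20 p hp
  · intro p hp
    rw [hfixw_21]
    exact hfixk_21 p hp
  · intro p hp
    rw [hfixw_22]
    exact hfixk_22 p hp
  · intro p hp
    rw [hfixw_23]
    exact hfixk_23 p hp
  · intro p hp
    rw [hfixw_24]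
    exact hfixk_24 p hp
  · intro p hp
    rw [hfixw_25]
    exact hfixk_25 p hp
  · intro p hp
    rw [hfixw_26]
    exact hfixk_26 p hp
  · intro p hp
    rw [hfixw_27]
    exact hfixk_27 p hp
  · intro p hp
    rw [hfixw_28]
    exact hfixk_28 p hp
  · intro p hp
    rw [hfixw_29]
    exact hfixk_29 p hp
  · intro p hp
    rw [hfixw_30]
    exact hfixk_30 p hp
  · intro p hp
    rw [hfixw_31]
    exact hfixk_31 p hp
  · intro p hp
    rw [hfixw_32]
    exact hfixk_32 p hp
  · intro p hp
    rw [hfixw_33]
    exact hfixk_33 p hp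
  · intro p hp
    rw [hfixw_34]
    exact hfixk_34 p hp
  · intro p hp
    rw [hfixw_35]
    exact hfixk_35 p hp
  · intro p hp
    rw [hfixw_36]
    exact hfixk_36 p hp
  · intro p hp
    rw [hfixw_37]
    exact hfixk_37 p hp
  · intro p hp
    rw [hfixw_38]
    exact hfixk_38 p hp
  · intro p hp
    rw [hfixw_39]
    exact hfixk_39 p hp
  · intro p hp
    rw [hfixw_40]
    exact hfixk_40 p hp
  · intro p hp
    rw [hfixw_41]
    exact hfixk_41 p hp
  · intro p hp
    rw [hfixw_42]
    exact hfixk_42 p hp
  · intro p hp
    rw [hfixw_43]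
    exact hfixk_43 p hp
  · intro p hp
    rw [hfixw_44]
    exact hfixk_44 p hp
  · intro p hp
    rw [hfixw_45]
    exact hfixk_45 p hp
  · intro p hp
    rw [hfixw_46]
    exact hfixk_46 p hp
  · intro p hp
    rw [hfixw_47]
    exact hfixk_47 p hp
  · intro p hp
    rw [hfixw_48]
    exact hfixk_48 p hp
  · intro p hp
    rw [hfixw_49]
    exact hfixk_49 p hp
  · intro p hp
    rw [hfixw_50]
    exact hfixk_50 p hp
  · intro p hp
    rw [hfixw_51]
    exact hfixk_51 p hp
  · intro p hp
    rw [hfixw_52]
    exact hfixk_52 p hp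
  · intro p hp
    rw [hfixw_53]
    exact hfixk_53 p hp
  · intro p hp
    rw [hfixw_54]
    exact hfixk_54 p hp
  · intro p hp
    rw [hfixw_55]
    exact hfixk_55 p hp
  · intro p hp
    rw [hfixw_56]
    exact hfixk_56 p hp
  · intro p hp
    rw [hfixw_57]
    exact hfixk_57 p hp
  · intro p hp
    rw [hfixw_58]
    exact hfixk_58 p hp
  · intro p hp
    rw [hfixw_59]
    exact hfixk_59 p hp
  · intro p hp
    rw [hfixw_60]
    exact hfixk_60 p hp
  · intro p hp
    rw [hfixw_61]
    exact hfixk_61 p hp
  · intro p hp
    rw [hfixw_62]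
    exact hfixk_62 p hp
  · intro p hp
    rw [hfixw_63]
    exact hfixk_63 p hp
  · intro p hp
    rw [hfixw_64]
    exact hfixk_64 p hp
  · intro p hp
    rw [hfixw_65]
    exact hfixk_65 p hp
  · intro p hp
    rw [hfixw_66]
    exact hfixk_66 p hp
  · intro p hp
    rw [hfixw_67]
    exact hfixk_67 p hp
  · intro p hp
    rw [hfixw_68]
    exact hfixk_68 p hp
  · intro p hp
    rw [hfixw_69]
    exact hfixk_69 p hp
  · intro p hp
    rw [hfixw_70]
    exact hfixk_70 p hp
  · intro p hp
    rw [hfixw_71]
    exact hfixk_71 p hp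
  · intro p hp
    rw [hfixw_72]
    exact hfixk_72 p hp
  · intro p hp
    rw [hfixw_73]
    exact hfixk_73 p hp
  · intro p hp
    rw [hfixw_74]
    exact hfixk_74 p hp
  · intro p hp
    rw [hfixw_75]
    exact hfixk_75 p hp
  · intro p hp
    rw [hfixw_76]
    exact hfixk_76 p hp
  · intro p hp
    rw [hfixw_77]
    exact hfixk_77 p hp
  · intro p hp
    rw [hfixw_78]
    exact hfixk_78 p hp
  · intro p hp
    rw [hfixw_79 p hp]
    exact hfixk_79 p hp


theorem hfix : ∀ b ∈ base, ∀ p < N, wapp px b p = p := by
  intro b hb
  obtain ⟨k, hk, rfl⟩ := List.mem_iff_getElem.mp hb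
  have hk' : k < 80 := hk
  have := hfix_k k hk'
  rw [List.getD_eq_getElem _ _ hk] at this
  exact this

theorem htree : ∀ p, 0 < p → p < N → ∃ c < 12, ∃ q < p, px c q = p := chkTree_spec chkT

theorem hsubP : ∀ s ∈ S, ∃ w, (∀ c ∈ w, c < 12) ∧ s = wordElt gc w ∧ wapp px w 0 = 0 := by
  intro s hs
  obtain ⟨w, hw, rfl⟩ := hsw s hs
  refine ⟨w, (hsw' w hw).1, rfl, ?_⟩
  simp only [subw, List.mem_cons, List.mem_nil_iff, or_false] at hw
  rcases hw with rfl | rfl | rfl | rfl | rfl | rfl | rfl | rfl | rfl | rfl | rfl
  · exact Nat.eq_of_beq_eq_true chkH0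
  · exact Nat.eq_of_beq_eq_true chkH1
  · exact Nat.eq_of_beq_eq_true chkH2
  · exact Nat.eq_of_beq_eq_true chkH3
  · exact Nat.eq_of_beq_eq_true chkH4
  · exact Nat.eq_of_beq_eq_true chkH5
  · exact Nat.eq_of_beq_eq_true chkH6
  · exact Nat.eq_of_beq_eq_true chkH7
  · exact Nat.eq_of_beq_eq_true chkH8
  · exact Nat.eq_of_beq_eq_true chkH9
  · exact Nat.eq_of_beq_eq_true chkH10

theorem main : (((Subgroup.closure ({Cfsg.Spor.Fi24.a, Cfsg.Spor.Fi24.b, Cfsg.Spor.Fi24.c, Cfsg.Spor.Fi24.d, Cfsg.Spor.Fi24.e, Cfsg.Spor.Fi24.f, Cfsg.Spor.Fi24.g, Cfsg.Spor.Fi24.h, Cfsg.Spor.Fi24.i, Cfsg.Spor.Fi24.j, Cfsg.Spor.Fi24.l} : Set (FreeGroup Cfsg.Spor.Fi24.Gen))).map (PresentedGroup.mk (Cfsg.Spor.coxRelators Cfsg.Spor.Fi24.edges ∪ {r | r ∈ Cfsg.Spor.Fi24.extra})))).index = 306936 := by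
  obtain ⟨φ, hw, hfixH, htrans⟩ := perm_rep (rels := Rels) (S := S) hP hC (rel_cover hP hfix) hsubP htree
  obtain ⟨hidx, F, hF⟩ := index_eq hP.Npos hfixH htrans idx_le.1 idx_le.2
  exact hidx

end helpers

/-- In the presented group Fi₂₄ = Fi₂₄′:2, the subgroup generated by the images of a, b, c, d, e, f, g, h, i, j and l (every generator but k) has index 306936. -/
theorem result : (((Subgroup.closure ({Cfsg.Spor.Fi24.a, Cfsg.Spor.Fi24.b, Cfsg.Spor.Fi24.c, Cfsg.Spor.Fi24.d, Cfsg.Spor.Fi24.e, Cfsg.Spor.Fi24.f, Cfsg.Spor.Fi24.g, Cfsg.Spor.Fi24.h, Cfsg.Spor.Fi24.i, Cfsg.Spor.Fi24.j, Cfsg.Spor.Fi24.l} : Set (FreeGroup Cfsg.Spor.Fi24.Gen))).map (PresentedGroup.mk (Cfsg.Spor.coxRelators Cfsg.Spor.Fi24.edges ∪ {r | r ∈ Cfsg.Spor.Fi24.extra})))).index = 306936 := by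
  exact main

end Cfsg.Agent.S1690
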