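import Cfsg.Statements.S1693
import Cfsg.Agent.Lib.Helper6.Spor.ONL37
import Cfsg.Agent.Lib.Helper6.Spor.L37Mat

set_option autoImplicit false
set_option maxRecDepth 100000
open Cfsg

namespace Cfsg.Agent.S1693

open Cfsg.Spor Cfsg.Agent.Lib.Helper6 Cfsg.Agent.Lib.Helper6.TC

/-- In the presented O'Nan group, the subgroup H generated by the images of a, …, f has a normal subgroup of index 2 isomorphic to PSL(3, 7). -/
theorem result : ∃ N : Subgroup (((Subgroup.closure ({Cfsg.Spor.ON.a, Cfsg.Spor.ON.b, Cfsg.Spor.ON.c, Cfsg.Spor.ON.d, Cfsg.Spor.ON.e, Cfsg.Spor.ON.f} : Set (FreeGroup Cfsg.Spor.ON.Gen))).map (PresentedGroup.mk (Cfsg.Spor.coxRelators Cfsg.Spor.ON.edges ∪ {r | r ∈ Cfsg.Spor.ON.extra})))), N.Normal ∧ N.index = 2 ∧ Nonempty (N ≃* Matrix.ProjectiveSpecialLinearGroup (Fin 3) (ZMod 7)) := by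
  show ∃ N : Subgroup (subH TCP.ON.Rels Cfsg.Agent.S1692.S), N.Normal ∧ N.index = 2 ∧
    Nonempty (N ≃* L37Mat.PSL37)
  let N : Subgroup (subH TCP.ON.Rels Cfsg.Agent.S1692.S) :=
    ONL37.psi.range.subgroupOf (subH TCP.ON.Rels Cfsg.Agent.S1692.S)
  have e1 : N ≃* ONL37.psi.range := Subgroup.subgroupOfEquivOfLe ONL37.psi_range_le
  have e2 : TCP.L37.G ≃* ONL37.psi.range := MonoidHom.ofInjective ONL37.psi_injective
  have e : N ≃* L37Mat.PSL37 := e1.trans (e2.symm.trans L37Mat.iso)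
  have hcN : Nat.card N = 1876896 := by
    rw [Nat.card_congr e.toEquiv, L37Mat.card_PSL37]
  have hcH : Nat.card (subH TCP.ON.Rels Cfsg.Agent.S1692.S) = 3753792 := by
    have hcard : Nat.card ON = 460815505920 := by
      obtain ⟨_, _, _, _, hcard, _⟩ := ONOrd.rep
      exact hcard
    have h1 := Subgroup.card_mul_index (subH TCP.ON.Rels Cfsg.Agent.S1692.S)
    have h2 : (subH TCP.ON.Rels Cfsg.Agent.S1692.S).index = 122760 := Cfsg.Agent.S1692.result
    rw [h2, hcard] at h1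
    exact Nat.eq_of_mul_eq_mul_right (by norm_num : 0 < 122760) (h1.trans (by norm_num))
  have hidx : N.index = 2 := by
    have h1 := Subgroup.card_mul_index N
    rw [hcN, hcH] at h1
    exact Nat.eq_of_mul_eq_mul_left (by norm_num : 0 < 1876896) (h1.trans (by norm_num))
  exact ⟨N, Subgroup.normal_of_index_eq_two hidx, hidx, ⟨e⟩⟩

end Cfsg.Agent.S1693
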