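import Cfsg.Statements.S1707
import Cfsg.Agent.Lib.Helper2.HNS.Iota
import Cfsg.Agent.Lib.Helper2.HNS.Asm2
import Cfsg.Agent.Lib.Helper2.HNBig.Main

set_option autoImplicit false
open Cfsg

namespace Cfsg.Agent.S1707

open Cfsg.Spor Cfsg.Agent.Lib.Helper6.TC Cfsg.Agent.Lib.Helper6.TCP Cfsg.Agent.Lib.Helper2

theorem main : (subH HN.Rels HNBig.S).index = 1539000 := by
  obtain ⟨φ, _, hfixH, htrans⟩ := HNBig.rep_exists
  have : Finite HNP2W.G := HNS.finite7
  have hle := HNS.index_le_main HNS.iota7 HNS.iota7_word HNS.card7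
  rw [HNS.iota7_range] at hle
  obtain ⟨hidx, -⟩ := index_eq (S := HNBig.S) HNBig.hP.Npos hfixH htrans hle.1 hle.2
  exact hidx

/-- In the presented Harada–Norton group (generators x, y, z, t), the subgroup generated by the images of x, y, z has index 1539000. -/
theorem result : (((Subgroup.closure ({Cfsg.Spor.HN.x, Cfsg.Spor.HN.y, Cfsg.Spor.HN.z} : Set (FreeGroup Cfsg.Spor.HN.Gen))).map (PresentedGroup.mk (Cfsg.Spor.coxRelators Cfsg.Spor.HN.edges ∪ {r | r ∈ Cfsg.Spor.HN.extra})))).index = 1539000 := by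
  exact main

end Cfsg.Agent.S1707
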