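import Mathlib
import Cfsg.Statements.S1717
import Cfsg.Agent.Lib.Helper4.TransvCent3
-- import your own Cfsg.Agent.* helpers here

set_option autoImplicit false
open Cfsg
open Cfsg.Agent.Lib.Helper4.TransvCent

namespace Cfsg.Agent.S1717

/-- Let G be a finite group with an involution z whose centraliser C is isomorphic to the centraliser of a transvection of SL(5, 2). Then a Sylow 2-subgroup of C, viewed in G, is a Sylow 2-subgroup of G (its index in G is odd). -/
theorem result {G : Type*} [Group G] [Finite G] (s : Matrix.SpecialLinearGroup (Fin 5) (ZMod 2)) (hs : (s : Matrix (Fin 5) (Fin 5) (ZMod 2)) = Matrix.transvection 0 1 1) (z : G) (hz : orderOf z = 2) (e : (Subgroup.centralizer ({z} : Set G)) ≃* Subgroup.centralizer ({s} : Set (Matrix.SpecialLinearGroup (Fin 5) (ZMod 2)))) (T : Sylow 2 (Subgroup.centralizer ({z} : Set G))) : ¬ 2 ∣ ((T : Subgroup (Subgroup.centralizer ({z} : Set G))).map (Subgroup.subtype (Subgroup.centralizer ({z} : Set G)))).index := by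
  have hFact : Fact (Nat.Prime 2) := ⟨Nat.prime_two⟩
  apply sylow_of_center z hz T
  intro y hy
  -- transport to the matrix side
  have hsurj : (T : Subgroup ↥(Subgroup.centralizer ({z} : Set G))) ≤
      (e.symm.toMonoidHom).range := by
    intro t _
    exact ⟨e t, e.symm_apply_apply t⟩
  let TH : Sylow 2 ↥(Subgroup.centralizer ({s} : Set (Matrix.SpecialLinearGroup (Fin 5) (ZMod 2)))) :=
    T.comapOfInjective e.symm.toMonoidHom e.symm.injective hsurj
  have hmemTH : ∀ h, h ∈ TH ↔ e.symm h ∈ T := fun h => Iff.rfl
  have key : ∀ y : ↥(Subgroup.centralizer ({z} : Set G)), (∀ t ∈ T, t * y = y * t) →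
      e y = 1 ∨ ((e y : ↥(Subgroup.centralizer ({s} : Set (Matrix.SpecialLinearGroup (Fin 5) (ZMod 2))))) :
        Matrix.SpecialLinearGroup (Fin 5) (ZMod 2)) = s := by
    intro y hy
    apply center_sylow s hs TH (e y)
    intro t ht
    have h1 := hy (e.symm t) ((hmemTH t).mp ht)
    have h2 := congrArg e h1
    rw [map_mul, map_mul, e.apply_symm_apply] at h2
    exact h2
  -- `z` itself
  let zC : ↥(Subgroup.centralizer ({z} : Set G)) := ⟨z, self_mem_centralizer z⟩
  have hzc : ∀ t ∈ T, t * zC = zC * t := by
    intro t _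
    apply Subtype.ext
    have := Subgroup.mem_centralizer_iff.mp t.2 z (Set.mem_singleton z)
    simpa [zC] using this.symm
  have hz1 : zC ≠ 1 := by
    intro h
    have h1 : z = 1 := congrArg Subtype.val h
    rw [h1, orderOf_one] at hz
    exact absurd hz (by norm_num)
  have hez : ((e zC : ↥(Subgroup.centralizer ({s} : Set (Matrix.SpecialLinearGroup (Fin 5) (ZMod 2))))) :
      Matrix.SpecialLinearGroup (Fin 5) (ZMod 2)) = s := by
    rcases key zC hzc with h | h
    · exfalso
      apply hz1
      apply e.injective
      rw [h, map_one]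
    · exact h
  rcases key y hy with h | h
  · left
    apply e.injective
    rw [h, map_one]
  · right
    have h3 : e y = e zC := Subtype.ext (h.trans hez.symm)
    have h4 : y = zC := e.injective h3
    rw [h4]

end Cfsg.Agent.S1717
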