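import Mathlib
import Cfsg.Statements.S1754
import Cfsg.Agent.Lib.Helper3.Components1

set_option autoImplicit false
open Cfsg

namespace Cfsg.Agent.S1754

open Cfsg.Agent.Lib.Helper3

/-- Let A be a standard subgroup of the finite group G (A quasisimple, C_G(A) tightly embedded of even order, A commuting elementwise with no other conjugate of itself, and N_G(A) = N_G(C_G(A))), and let t be an involution of G centralizing A. Then the centralizer of t lies in the normalizer of A; in particular A, viewed inside C_G(t), is a component of C_G(t). -/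
theorem result {G : Type*} [Group G] [Finite G]
    (A : Subgroup G) (hA : Cfsg.IsStandardSubgroup A) (t : G) (ht : orderOf t = 2) (htA : t ∈ Subgroup.centralizer (A : Set G)) :
    Subgroup.centralizer ({t} : Set G) ≤ Subgroup.normalizer (A : Set G) ∧
      Cfsg.IsComponent (A.subgroupOf (Subgroup.centralizer ({t} : Set G))) := by
  obtain ⟨hqs, htight, -, hnorm⟩ := hA
  set K := Subgroup.centralizer (A : Set G) with hK
  have h1 : Subgroup.centralizer ({t} : Set G) ≤ Subgroup.normalizer (A : Set G) := by
    rw [hnorm]
    intro g hg
    by_contra hgn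
    have hodd := htight.2 g hgn
    have htg : g * t * g⁻¹ = t := by
      rw [Subgroup.mem_centralizer_iff] at hg
      have := hg t rfl
      rw [← this]; group
    have htmem : t ∈ K ⊓ K.map (MulAut.conj g).toMonoidHom := by
      refine ⟨htA, t, htA, ?_⟩
      simpa [MulAut.conj_apply] using htg
    have hdvd : 2 ∣ Nat.card ↥(K ⊓ K.map (MulAut.conj g).toMonoidHom) := by
      have h2 : orderOf (⟨t, htmem⟩ : ↥(K ⊓ K.map (MulAut.conj g).toMonoidHom)) = 2 := by
        rw [Subgroup.orderOf_mk]; exact ht
      rw [← h2]; exact orderOf_dvd_natCard _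
    exact (Nat.not_even_iff_odd.mpr hodd) (even_iff_two_dvd.mpr hdvd)
  refine ⟨h1, ?_, ?_⟩
  · apply Subgroup.Normal.isSubnormal
    exact Subgroup.normal_subgroupOf_of_le_normalizer h1
  · have hle : A ≤ Subgroup.centralizer ({t} : Set G) := by
      intro a ha
      rw [Subgroup.mem_centralizer_iff]
      intro y hy
      rw [Set.mem_singleton_iff] at hy
      subst hy
      exact (Subgroup.mem_centralizer_iff.mp htA a ha).symm
    exact isQuasisimple_of_mulEquiv (Subgroup.subgroupOfEquivOfLe hle).symm hqs

end Cfsg.Agent.S1754
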