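import Mathlib
import Cfsg.Statements.S1755
import Cfsg.Agent.Lib.Helper4.CyclicTwo
import Cfsg.Agent.Lib.Helper3.Components5
import Cfsg.Agent.Lib.Lead.Nilpotent
import Cfsg.Agent.Lib.Lead.CoprimeFrattini

set_option autoImplicit false
open Cfsg

namespace Cfsg.Agent.S1755

open Cfsg.Agent.Lib.Helper4 Cfsg.Agent.Lib.Helper3 Cfsg.Agent.Lib.Lead

theorem aux {G : Type*} [Group G] [Finite G] (z : G) (hz : orderOf z = 2) (C : Subgroup G)
    (hC : C = Subgroup.centralizer ({z} : Set G)) (Q : Subgroup C)
    (hQdef : Q = Cfsg.generalizedFittingSubgroup C) (hQ : Cfsg.IsOfSymplecticType Q)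
    (B : Subgroup Q) (hBc : B.Characteristic) (hBa : IsMulCommutative B) (g : G) :
    ((B.map Q.subtype).map C.subtype).map (MulAut.conj g).toMonoidHom =
        (B.map Q.subtype).map C.subtype ∨
      ((B.map Q.subtype).map C.subtype).map (MulAut.conj g).toMonoidHom ⊓
        (B.map Q.subtype).map C.subtype = ⊥ := by
  classical
  set N : Subgroup C := B.map Q.subtype with hN
  set Bt : Subgroup G := N.map C.subtype with hBt
  -- z as an element of C, central
  have hzC : z ∈ C := by
    rw [hC, Subgroup.mem_centralizer_iff]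
    intro y hy
    rw [Set.mem_singleton_iff] at hy
    rw [hy]
  set zC : C := ⟨z, hzC⟩ with hzCdef
  have hzcen : zC ∈ Subgroup.center C := by
    rw [Subgroup.mem_center_iff]
    intro c
    apply Subtype.ext
    have hc : (c : G) ∈ Subgroup.centralizer ({z} : Set G) := by rw [← hC]; exact c.2
    have := Subgroup.mem_centralizer_iff.mp hc z rfl
    simpa using this.symm
  haveI hQn : Q.Normal := by rw [hQdef]; infer_instance
  -- z lies in Q
  have hzQ : zC ∈ Q := by
    haveI : (Subgroup.zpowers zC).Normal := zpowers_normal_of_mem_center hzcen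
    have hnil : Group.IsNilpotent (Subgroup.zpowers zC) := by
      letI : CommGroup (Subgroup.zpowers zC) := { (inferInstance : Group (Subgroup.zpowers zC)) with
        mul_comm := fun a b => mul_comm' a b }
      infer_instance
    have h1 : Subgroup.zpowers zC ≤ Cfsg.fittingSubgroup C := le_fittingSubgroup inferInstance hnil
    rw [hQdef]
    exact fittingSubgroup_le_generalizedFittingSubgroup (h1 (Subgroup.mem_zpowers zC))
  set zQ : Q := ⟨zC, hzQ⟩ with hzQdef
  have hzQord : orderOf zQ = 2 := by
    rw [hzQdef, Subgroup.orderOf_mk, hzCdef, Subgroup.orderOf_mk]; exact hz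
  have hzQcen : zQ ∈ Subgroup.center Q := by
    rw [Subgroup.mem_center_iff]
    intro q
    apply Subtype.ext
    have := Subgroup.mem_center_iff.mp hzcen (q : C)
    simpa using this
  -- N is normal in C
  have hNnormal : N.Normal := by
    have h1 := le_normalizer_map_characteristic Q B
    have h2 : Subgroup.normalizer (Q : Set C) = ⊤ := Subgroup.normalizer_eq_top Q
    rw [h2] at h1
    exact Subgroup.normalizer_eq_top_iff.mp (top_le_iff.mp h1)
  by_cases hB : B = ⊥
  · left
    have : Bt = ⊥ := by
      rw [hBt, hN, hB, Subgroup.map_bot, Subgroup.map_bot]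
    rw [this, Subgroup.map_bot]
  -- B is cyclic and contains z
  have hBcyc : IsCyclic B := hQ.2 B hBc hBa
  haveI hQnil : Group.IsNilpotent Q := hQ.1.isNilpotent
  haveI : B.Normal := Subgroup.normal_of_characteristic B
  have hZcyc : IsCyclic (Subgroup.center Q) :=
    hQ.2 (Subgroup.center Q) inferInstance inferInstance
  have hzB : zQ ∈ B := by
    have h1 := inf_center_ne_bot B hB
    obtain ⟨y, hy1⟩ := (Subgroup.ne_bot_iff_exists_ne_one).mp h1
    have hyord : (y : Q) ≠ 1 := fun h => hy1 (Subtype.ext h)
    have h2 := involution_mem_zpowers (T := Subgroup.center Q) hZcyc (hQ.1.to_subgroup _) hzQcen hzQord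
      y.2.2 hyord
    exact (Subgroup.zpowers_le.mpr y.2.1) h2
  -- Bt is a cyclic 2-group containing z
  have hzBt : z ∈ Bt := ⟨zC, ⟨zQ, hzB, rfl⟩, rfl⟩
  have e1 : B ≃* N := B.equivMapOfInjective Q.subtype Q.subtype_injective
  have e2 : N ≃* Bt := N.equivMapOfInjective C.subtype C.subtype_injective
  have hBtcyc : IsCyclic Bt := by
    haveI := hBcyc
    exact isCyclic_of_surjective (e1.trans e2) (e1.trans e2).surjective
  have hBt2 : IsPGroup 2 Bt := by
    have h1 : IsPGroup 2 B := hQ.1.to_subgroup B
    exact h1.of_equiv (e1.trans e2)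
  by_cases hg : g ∈ C
  · left
    have key : ∀ c ∈ C, ∀ x ∈ Bt, c * x * c⁻¹ ∈ Bt := by
      intro c hc x hx
      obtain ⟨y, hy, rfl⟩ := hx
      exact ⟨⟨c, hc⟩ * y * ⟨c, hc⟩⁻¹, hNnormal.conj_mem y hy _, rfl⟩
    apply le_antisymm
    · rintro _ ⟨x, hx, rfl⟩
      exact key g hg x hx
    · intro x hx
      refine ⟨g⁻¹ * x * g, ?_, ?_⟩
      · have := key g⁻¹ (C.inv_mem hg) x hx
        simpa using this
      · simp [MulAut.conj_apply, mul_assoc]
  · right
    by_contra hne
    obtain ⟨x0, hx1⟩ := (Subgroup.ne_bot_iff_exists_ne_one).mp hne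
    obtain ⟨x, hxmem⟩ := x0
    have hx1' : (x : G) ≠ 1 := fun h => hx1 (Subtype.ext h)
    have hxg : (x : G) ∈ Bt.map (MulAut.conj g).toMonoidHom := hxmem.1
    have hxB : (x : G) ∈ Bt := hxmem.2
    clear hx1 hne
    -- z ∈ zpowers x
    have hz1 := involution_mem_zpowers hBtcyc hBt2 hzBt hz hxB hx1'
    -- g z g⁻¹ ∈ zpowers x
    set Btg : Subgroup G := Bt.map (MulAut.conj g).toMonoidHom with hBtg
    have e3 : Bt ≃* Btg := Bt.equivMapOfInjective _ (MulAut.conj g).injective
    have hBtgcyc : IsCyclic Btg := by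
      haveI := hBtcyc
      exact isCyclic_of_surjective e3 e3.surjective
    have hBtg2 : IsPGroup 2 Btg := hBt2.of_equiv e3
    have hzg : g * z * g⁻¹ ∈ Btg := ⟨z, hzBt, by simp [MulAut.conj_apply]⟩
    have hzgord : orderOf (g * z * g⁻¹) = 2 := by
      have : g * z * g⁻¹ = MulAut.conj g z := by simp [MulAut.conj_apply]
      rw [this, MulEquiv.orderOf_eq]; exact hz
    have hz2 := involution_mem_zpowers hBtgcyc hBtg2 hzg hzgord hxg hx1'
    -- unique involution in zpowers x
    have heq : (⟨z, hz1⟩ : Subgroup.zpowers (x : G)) = ⟨g * z * g⁻¹, hz2⟩ := by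
      apply cyclic_involution_unique
      · rw [Subgroup.orderOf_mk]; exact hz
      · rw [Subgroup.orderOf_mk]; exact hzgord
    have heq' : z = g * z * g⁻¹ := congrArg Subtype.val heq
    apply hg
    rw [hC, Subgroup.mem_centralizer_iff]
    intro y hy
    rw [Set.mem_singleton_iff] at hy
    subst hy
    calc y * g = (g * y * g⁻¹) * g := by rw [← heq']
      _ = g * y := by group

/-- Let G be a finite group and let z be an involution of G such that Q, the generalized Fitting subgroup of the centralizer C of z, is a 2-group of symplectic type (every characteristic abelian subgroup of Q is cyclic). Let B be a characteristic abelian subgroup of Q, viewed as a subgroup of G. Then for every g in G, the conjugate of B by g either equals B or meets B trivially. -/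
theorem result {G : Type*} [Group G] [Finite G] (z : G) (hz : orderOf z = 2) (hQ : Cfsg.IsOfSymplecticType ↥(Cfsg.generalizedFittingSubgroup ↥(Subgroup.centralizer ({z} : Set G))))
    (B : Subgroup ↥(Cfsg.generalizedFittingSubgroup ↥(Subgroup.centralizer ({z} : Set G)))) (hBc : B.Characteristic) (hBa : IsMulCommutative ↥B) (g : G) :
    ((B.map (Cfsg.generalizedFittingSubgroup ↥(Subgroup.centralizer ({z} : Set G))).subtype).map (Subgroup.centralizer ({z} : Set G)).subtype).map (MulAut.conj g).toMonoidHom =
        (B.map (Cfsg.generalizedFittingSubgroup ↥(Subgroup.centralizer ({z} : Set G))).subtype).map (Subgroup.centralizer ({z} : Set G)).subtype ∨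
      ((B.map (Cfsg.generalizedFittingSubgroup ↥(Subgroup.centralizer ({z} : Set G))).subtype).map (Subgroup.centralizer ({z} : Set G)).subtype).map (MulAut.conj g).toMonoidHom ⊓
        (B.map (Cfsg.generalizedFittingSubgroup ↥(Subgroup.centralizer ({z} : Set G))).subtype).map (Subgroup.centralizer ({z} : Set G)).subtype = ⊥ :=
  aux z hz _ rfl _ rfl hQ B hBc hBa g

end Cfsg.Agent.S1755
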