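import Mathlib
import Cfsg.Statements.S1756
import Cfsg.Agent.Lib.Helper4.Extraspecial2
import Cfsg.Agent.Lib.Helper6.CharSub
-- import your own Cfsg.Agent.* helpers here

set_option autoImplicit false
open Cfsg Cfsg.Agent.Lib.Helper4 Cfsg.Agent.Lib.Helper6

namespace Cfsg.Agent.S1756

/-- Let Q be an extraspecial 2-subgroup of the finite group G (special with centre of order 2) and t an involution of G normalizing Q such that the centralizer of t in Q has index at most 2 in Q. Then t lies in the product of Q with the centralizer of Q. -/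
theorem result {G : Type*} [Group G] [Finite G] (Q : Subgroup G)
    (hQ : Cfsg.IsExtraspecial 2 ↥Q) (t : G) (ht : orderOf t = 2) (htN : t ∈ Subgroup.normalizer (Q : Set G))
    (hi : (Subgroup.centralizer ({t} : Set G) ⊓ Q).relIndex Q ≤ 2) :
    t ∈ Q ⊔ Subgroup.centralizer (Q : Set G) := by
  set τ := normalizerConjEquiv Q t htN with hτ
  have ht2 : t * t = 1 := by rw [← sq, ← ht]; exact pow_orderOf_eq_one t
  have htinv : t⁻¹ = t := inv_eq_of_mul_eq_one_left ht2
  have hτ2 : ∀ x, τ (τ x) = x := by
    intro x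
    apply Subtype.ext
    rw [hτ, normalizerConjEquiv_apply_coe, normalizerConjEquiv_apply_coe]
    calc t * (t * (x : G) * t⁻¹) * t⁻¹ = (t * t) * (x : G) * (t * t)⁻¹ := by group
      _ = (x : G) := by rw [ht2]; group
  -- the fixed subgroup
  set F : Subgroup ↥Q := (Subgroup.centralizer ({t} : Set G) ⊓ Q).subgroupOf Q with hF
  have hFdef : ∀ x : ↥Q, x ∈ F ↔ τ x = x := by
    intro x
    rw [hF, Subgroup.mem_subgroupOf, Subgroup.mem_inf, Subgroup.mem_centralizer_iff]
    constructor
    · rintro ⟨h1, _⟩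
      apply Subtype.ext
      rw [hτ, normalizerConjEquiv_apply_coe]
      have := h1 t rfl
      rw [this]; group
    · intro h
      refine ⟨?_, x.2⟩
      intro y hy
      rw [Set.mem_singleton_iff] at hy
      rw [hy]
      have h1 := congrArg Subtype.val h
      rw [hτ, normalizerConjEquiv_apply_coe] at h1
      calc t * (x : G) = (t * (x : G) * t⁻¹) * t := by group
        _ = (x : G) * t := by rw [h1]
  have hFi : F.index ≤ 2 := hi
  obtain ⟨v, hv⟩ := inner_of_involutory_aut hQ τ hτ2 F hFdef hFi
  have hc : (v : G)⁻¹ * t ∈ Subgroup.centralizer (Q : Set G) := by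
    rw [Subgroup.mem_centralizer_iff]
    intro x hx
    have h1 := congrArg Subtype.val (hv ⟨x, hx⟩)
    rw [hτ, normalizerConjEquiv_apply_coe] at h1
    simp only [Subgroup.coe_mul, Subgroup.coe_inv] at h1
    calc x * ((v : G)⁻¹ * t) = (v : G)⁻¹ * ((v : G) * x * (v : G)⁻¹) * (v : G) * ((v : G)⁻¹ * t) := by group
      _ = (v : G)⁻¹ * (t * x * t⁻¹) * (v : G) * ((v : G)⁻¹ * t) := by rw [h1]
      _ = (v : G)⁻¹ * t * x := by group
  have : t = (v : G) * ((v : G)⁻¹ * t) := by group
  rw [this]
  exact Subgroup.mul_mem_sup v.2 hc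

end Cfsg.Agent.S1756
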