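import Mathlib
import Cfsg.Statements.S1757

set_option autoImplicit false
open Cfsg

namespace Cfsg.Agent.S1757

/-- The core of the argument: only finiteness, the orders, and the TI property of `B` under conjugation by
elements of `A` are used. -/
theorem core {G : Type*} [Group G] [Finite G] (A B : Subgroup G)
    (hBti : ∀ g ∈ A, B.map (MulAut.conj g).toMonoidHom = B ∨ B.map (MulAut.conj g).toMonoidHom ⊓ B = ⊥)
    (hle : Nat.card ↥A ≤ Nat.card ↥B) (hAB : A ⊓ B = ⊥) (hN : B ≤ Subgroup.normalizer (A : Set G)) : ⁅A, B⁆ = ⊥ := by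
  classical
  rw [Subgroup.commutator_eq_bot_iff_le_centralizer]
  intro a ha
  rw [Subgroup.mem_centralizer_iff]
  by_contra hcon
  push_neg at hcon
  obtain ⟨b₀, hb₀, hne⟩ := hcon
  have hnorm : ∀ b ∈ B, ∀ x ∈ A, b * x * b⁻¹ ∈ A := by
    intro b hb x hx
    exact ((Subgroup.mem_set_normalizer_iff.mp (hN hb)) x).mp hx
  rcases hBti a ha with h | h
  · -- a normalizes B
    apply hne
    have h1 : a * b₀ * a⁻¹ ∈ B := by
      rw [← h]
      exact ⟨b₀, hb₀, rfl⟩
    have h2 : a * b₀ * a⁻¹ * b₀⁻¹ ∈ B := B.mul_mem h1 (B.inv_mem hb₀)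
    have h3 : a * b₀ * a⁻¹ * b₀⁻¹ ∈ A := by
      have := hnorm b₀ hb₀ a⁻¹ (A.inv_mem ha)
      have h4 := A.mul_mem ha this
      have e : a * (b₀ * a⁻¹ * b₀⁻¹) = a * b₀ * a⁻¹ * b₀⁻¹ := by group
      rwa [e] at h4
    have h5 : a * b₀ * a⁻¹ * b₀⁻¹ ∈ A ⊓ B := ⟨h3, h2⟩
    rw [hAB, Subgroup.mem_bot] at h5
    calc b₀ * a = (a * b₀ * a⁻¹ * b₀⁻¹)⁻¹ * (a * b₀) := by group
      _ = a * b₀ := by rw [h5]; group
  · -- free orbit
    have ha1 : a ≠ 1 := by
      rintro rfl
      apply hne
      simp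
    let f : Option B → A := fun o => match o with
      | none => 1
      | some b => ⟨b.1 * a * b.1⁻¹, hnorm b.1 b.2 a ha⟩
    have hf : Function.Injective f := by
      intro o o' hoo
      match o, o' with
      | none, none => rfl
      | none, some b =>
        exfalso
        have : (1 : G) = b.1 * a * b.1⁻¹ := congrArg Subtype.val hoo
        apply ha1
        calc a = b.1⁻¹ * (b.1 * a * b.1⁻¹) * b.1 := by group
          _ = 1 := by rw [← this]; group
      | some b, none =>
        exfalso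
        have : b.1 * a * b.1⁻¹ = (1 : G) := congrArg Subtype.val hoo
        apply ha1
        calc a = b.1⁻¹ * (b.1 * a * b.1⁻¹) * b.1 := by group
          _ = 1 := by rw [this]; group
      | some b, some b' =>
        have e : b.1 * a * b.1⁻¹ = b'.1 * a * b'.1⁻¹ := congrArg Subtype.val hoo
        have hc : a * (b'.1⁻¹ * b.1) * a⁻¹ = b'.1⁻¹ * b.1 := by
          calc a * (b'.1⁻¹ * b.1) * a⁻¹ = b'.1⁻¹ * (b'.1 * a * b'.1⁻¹) * b.1 * a⁻¹ := by group
            _ = b'.1⁻¹ * (b.1 * a * b.1⁻¹) * b.1 * a⁻¹ := by rw [e]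
            _ = b'.1⁻¹ * b.1 := by group
        have hmemB : b'.1⁻¹ * b.1 ∈ B := B.mul_mem (B.inv_mem b'.2) b.2
        have hmem : b'.1⁻¹ * b.1 ∈ B.map (MulAut.conj a).toMonoidHom ⊓ B := by
          refine ⟨⟨b'.1⁻¹ * b.1, hmemB, ?_⟩, hmemB⟩
          simpa using hc
        rw [h, Subgroup.mem_bot] at hmem
        have : b.1 = b'.1 := by
          calc b.1 = b'.1 * (b'.1⁻¹ * b.1) := by group
            _ = b'.1 := by rw [hmem, mul_one]
        exact congrArg some (Subtype.ext this)
    have hcard := Nat.card_le_card_of_injective f hf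
    rw [Finite.card_option] at hcard
    omega

/-- Let p be a prime and A, B p-subgroups of the finite group G, each of which meets every conjugate of itself other than itself trivially. Suppose the order of A is at most that of B, A and B intersect trivially, and B normalizes A. Then A and B commute elementwise. -/
theorem result {G : Type*} [Group G] [Finite G] (p : ℕ) [Fact p.Prime] (A B : Subgroup G)
    (hA : IsPGroup p ↥A) (hB : IsPGroup p ↥B)
    (hAti : ∀ g : G, A.map (MulAut.conj g).toMonoidHom = A ∨ A.map (MulAut.conj g).toMonoidHom ⊓ A = ⊥)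
    (hBti : ∀ g : G, B.map (MulAut.conj g).toMonoidHom = B ∨ B.map (MulAut.conj g).toMonoidHom ⊓ B = ⊥)
    (hle : Nat.card ↥A ≤ Nat.card ↥B) (hAB : A ⊓ B = ⊥) (hN : B ≤ Subgroup.normalizer (A : Set G)) : ⁅A, B⁆ = ⊥ := by
  exact core A B (fun g _ => hBti g) hle hAB hN

end Cfsg.Agent.S1757
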