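import Mathlib
-- Template for statement S1774 (row 1774; see /opt/grader/pristine/manifest.json for weights).
-- Copy to Cfsg/Agent/S1774.lean and replace the sorry. The statement below is byte-identical to the frozen
-- statement Cfsg.CfsgFrozen.S1774 (Cfsg/Statements/S1774.lean; the theorem Cfsg.symplectic_type_exponent_four_conjugate_central_involution);
-- the grader kernel-checks Cfsg.Agent.S1774.result against that frozen type. Keep the theorem IN THIS FILE
-- (a `result` declared elsewhere and merely imported here is not credited); helpers may live anywhere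
-- under Cfsg/Agent/.
import Cfsg.Statements.S1774
import Cfsg.Agent.Lib.Helper3.SympT2
import Cfsg.Agent.Lib.Helper3.SympT3
import Cfsg.Agent.Lib.Helper3.Components7

set_option autoImplicit false
open Cfsg

namespace Cfsg.Agent.S1774

/-- Let G be a finite group and let z be an involution of G such that Q, the generalized Fitting subgroup of the centralizer C of z, is a 2-group of symplectic type (every characteristic abelian subgroup of Q is cyclic); suppose every element of Q has order dividing 4. Let g ∈ G with z' = g z g⁻¹ ≠ z and z' ∈ Q. Then z lies in the conjugate g Q g⁻¹, and the subgroup X generated by Q and g Q g⁻¹ induces every automorphism of the four-group generated by z and z': for any two distinct non-identity elements u, v of that four-group there is x ∈ X with x z x⁻¹ = u and x z' x⁻¹ = v. -/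
theorem result {G : Type*} [Group G] [Finite G] (z : G) (hz : orderOf z = 2) (hQ : Cfsg.IsOfSymplecticType ↥(Cfsg.generalizedFittingSubgroup ↥(Subgroup.centralizer ({z} : Set G))))
    (h4 : ∀ q ∈ (Cfsg.generalizedFittingSubgroup ↥(Subgroup.centralizer ({z} : Set G))).map (Subgroup.centralizer ({z} : Set G)).subtype, q ^ 4 = 1) (g : G) (hne : g * z * g⁻¹ ≠ z) (hin : g * z * g⁻¹ ∈ (Cfsg.generalizedFittingSubgroup ↥(Subgroup.centralizer ({z} : Set G))).map (Subgroup.centralizer ({z} : Set G)).subtype) :
    z ∈ ((Cfsg.generalizedFittingSubgroup ↥(Subgroup.centralizer ({z} : Set G))).map (Subgroup.centralizer ({z} : Set G)).subtype).map (MulAut.conj g).toMonoidHom ∧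
      ∀ u ∈ Subgroup.closure ({z, g * z * g⁻¹} : Set G), ∀ v ∈ Subgroup.closure ({z, g * z * g⁻¹} : Set G),
        u ≠ 1 → v ≠ 1 → u ≠ v →
          ∃ x ∈ (Cfsg.generalizedFittingSubgroup ↥(Subgroup.centralizer ({z} : Set G))).map (Subgroup.centralizer ({z} : Set G)).subtype ⊔ ((Cfsg.generalizedFittingSubgroup ↥(Subgroup.centralizer ({z} : Set G))).map (Subgroup.centralizer ({z} : Set G)).subtype).map (MulAut.conj g).toMonoidHom, x * z * x⁻¹ = u ∧ x * (g * z * g⁻¹) * x⁻¹ = v := by
  classical
  set C : Subgroup G := Subgroup.centralizer ({z} : Set G) with hC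
  set F : Subgroup ↥C := Cfsg.generalizedFittingSubgroup ↥C with hFdef
  set Q : Subgroup G := F.map C.subtype with hQdef
  have hz1 : z ≠ 1 := by
    intro h1
    rw [h1, orderOf_one] at hz
    omega
  have hzz : z * z = 1 := by
    have := pow_orderOf_eq_one z
    rw [hz, pow_two] at this
    exact this
  have hmemC : ∀ c, c ∈ C ↔ c * z = z * c := by
    intro c
    rw [hC, Subgroup.mem_centralizer_iff]
    constructor
    · intro h1; exact (h1 z rfl).symm
    · intro h1 x hx
      rw [Set.mem_singleton_iff] at hx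
      rw [hx]; exact h1.symm
  have hbender : Subgroup.centralizer (F : Set ↥C) ≤ F :=
    Cfsg.Agent.Lib.Helper3.centralizer_generalizedFittingSubgroup_le (G := ↥C)
  have hmemQ : ∀ x, x ∈ Q ↔ ∃ hx : x ∈ C, (⟨x, hx⟩ : ↥C) ∈ F := by
    intro x
    rw [hQdef, Subgroup.mem_map]
    constructor
    · rintro ⟨y, hy, rfl⟩
      exact ⟨y.2, hy⟩
    · rintro ⟨hx, hy⟩
      exact ⟨⟨x, hx⟩, hy, rfl⟩
  have hQC : Q ≤ C := by
    intro x hx
    obtain ⟨hx', _⟩ := (hmemQ x).mp hx
    exact hx'
  have hzC : z ∈ C := (hmemC z).mpr rfl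
  have hzF : (⟨z, hzC⟩ : ↥C) ∈ F := by
    apply hbender
    rw [Subgroup.mem_centralizer_iff]
    intro f _
    apply Subtype.ext
    exact ((hmemC f).mp f.2)
  have hzQ : z ∈ Q := (hmemQ z).mpr ⟨hzC, hzF⟩
  -- the central involution of ↥F
  set w : ↥F := ⟨⟨z, hzC⟩, hzF⟩ with hw
  have hwcen : w ∈ Subgroup.center ↥F := by
    rw [Subgroup.mem_center_iff]
    intro f
    apply Subtype.ext
    apply Subtype.ext
    exact (hmemC ((f : ↥C) : G)).mp (f : ↥C).2
  have hw1 : w ≠ 1 := by
    intro h1
    apply hz1
    have h2 : ((w : ↥C) : G) = 1 := by rw [h1]; rfl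
    exact h2
  have hww : w * w = 1 := by
    apply Subtype.ext
    apply Subtype.ext
    exact hzz
  have h4F : ∀ t : ↥F, t ^ 4 = 1 := by
    intro t
    apply Subtype.ext
    apply Subtype.ext
    have := h4 ((t : ↥C) : G) ((hmemQ _).mpr ⟨(t : ↥C).2, t.2⟩)
    simpa using this
  have hcore : Cfsg.Agent.Lib.Helper3.SympT.SCore Q z := by
    refine ⟨hz1, hzz, hzQ, ?_, ?_, ?_, ?_, hQ.1.map C.subtype⟩
    · intro q hq
      exact (hmemC q).mp (hQC hq)
    · intro q hq r hr
      obtain ⟨hqC, hqF⟩ := (hmemQ q).mp hq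
      obtain ⟨hrC, hrF⟩ := (hmemQ r).mp hr
      have := Cfsg.Agent.Lib.Helper3.SympT.comm_cases hQ h4F hwcen hw1 hww
        (⟨⟨q, hqC⟩, hqF⟩ : ↥F) (⟨⟨r, hrC⟩, hrF⟩ : ↥F)
      rcases this with h1 | h1
      · left
        have := congrArg (fun u : ↥F => ((u : ↥C) : G)) h1
        simpa using this
      · right
        have := congrArg (fun u : ↥F => ((u : ↥C) : G)) h1
        simpa using this
    · intro c hc hcc
      have hcC : c ∈ C := (hmemC c).mpr (hc z hzQ)
      have hcF : (⟨c, hcC⟩ : ↥C) ∈ F := by
        apply hbender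
        rw [Subgroup.mem_centralizer_iff]
        intro f hf
        apply Subtype.ext
        have hfQ : (f : G) ∈ Q := (hmemQ f).mpr ⟨f.2, hf⟩
        exact (hc f hfQ).symm
      have hccen : (⟨⟨c, hcC⟩, hcF⟩ : ↥F) ∈ Subgroup.center ↥F := by
        rw [Subgroup.mem_center_iff]
        intro f
        apply Subtype.ext
        apply Subtype.ext
        have hfQ : ((f : ↥C) : G) ∈ Q := (hmemQ _).mpr ⟨(f : ↥C).2, f.2⟩
        exact (hc _ hfQ).symm
      have hcc' : (⟨⟨c, hcC⟩, hcF⟩ : ↥F) * ⟨⟨c, hcC⟩, hcF⟩ = 1 := by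
        apply Subtype.ext
        apply Subtype.ext
        exact hcc
      rcases Cfsg.Agent.Lib.Helper3.SympT.central_invol_unique hQ hwcen hw1 hww hccen hcc'
        with h1 | h1
      · left
        have := congrArg (fun u : ↥F => ((u : ↥C) : G)) h1
        simpa using this
      · right
        have := congrArg (fun u : ↥F => ((u : ↥C) : G)) h1
        simpa using this
    · intro c hc q hq
      have hcC : c ∈ C := (hmemC c).mpr hc
      haveI hFn : F.Normal := Cfsg.Agent.Lib.Helper3.generalizedFittingSubgroup_normal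
      obtain ⟨hqC, hqF⟩ := (hmemQ q).mp hq
      rw [hmemQ]
      refine ⟨C.mul_mem (C.mul_mem hcC hqC) (C.inv_mem hcC), ?_⟩
      have := hFn.conj_mem _ hqF ⟨c, hcC⟩
      exact this
  exact hcore.main g hin hne

end Cfsg.Agent.S1774
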