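import Cfsg.Statements.S1775
import Cfsg.Agent.Lib.Helper7.S1775Main

set_option autoImplicit false
open Cfsg

namespace Cfsg.Agent.S1775

/-- Let G be a finite group whose generalized Fitting subgroup is a non-abelian simple group and in which every proper section (every quotient H/N of a proper subgroup H, or of G by a nontrivial normal subgroup) has the B-property. Let x, y be commuting involutions, let D be the intersection of the 2-layer of C_G(x) with C_G(y), and let J be a 2-component of D. Write Q for the quotient of C_G(y) by its largest normal odd-order subgroup. Then (i) the image of J in Q is a component of the centralizer in Q of the image of x; and (ii) for every J-invariant subgroup E of odd order of C_G(x) ∩ C_G(y), the commutator subgroup [J, E] lies in the largest normal odd-order subgroup of C_G(y). -/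
theorem result {G : Type*} [Group G] [Finite G]
    (hF : IsSimpleGroup ↥(Cfsg.generalizedFittingSubgroup G)) (hF' : ¬ IsMulCommutative ↥(Cfsg.generalizedFittingSubgroup G))
    (hsec : ∀ (H : Subgroup G) (N : Subgroup ↥H) [N.Normal], (H ≠ ⊤ ∨ N ≠ ⊥) → Cfsg.HasBProperty (↥H ⧸ N))
    (x y : G) (hx : orderOf x = 2) (hy : orderOf y = 2) (hxy : x * y = y * x)
    (J : Subgroup ↥((Cfsg.pLayer 2 ↥(Subgroup.centralizer ({x} : Set G))).map (Subgroup.centralizer ({x} : Set G)).subtype ⊓ Subgroup.centralizer ({y} : Set G)))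
    (hJ : Cfsg.IsPComponent 2 J) :
    Cfsg.IsComponent
        ((((J.map (Subgroup.subtype _)).subgroupOf (Subgroup.centralizer ({y} : Set G))).map (QuotientGroup.mk' (Cfsg.oddCore ↥(Subgroup.centralizer ({y} : Set G))))).subgroupOf
          (Subgroup.centralizer ({(QuotientGroup.mk' (Cfsg.oddCore ↥(Subgroup.centralizer ({y} : Set G))) ⟨x, Subgroup.mem_centralizer_singleton_iff.mpr hxy⟩ : ↥(Subgroup.centralizer ({y} : Set G)) ⧸ Cfsg.oddCore ↥(Subgroup.centralizer ({y} : Set G)))} : Set _))) ∧
      ∀ E : Subgroup G, E ≤ Subgroup.centralizer ({x} : Set G) ⊓ Subgroup.centralizer ({y} : Set G) → Odd (Nat.card ↥E) →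
        (∀ j ∈ J.map (Subgroup.subtype _), ∀ e ∈ E, j * e * j⁻¹ ∈ E) →
          ⁅J.map (Subgroup.subtype _), E⁆ ≤ (Cfsg.oddCore ↥(Subgroup.centralizer ({y} : Set G))).map (Subgroup.centralizer ({y} : Set G)).subtype := by
  have hne : Subgroup.centralizer ({y} : Set G) ≠ ⊤ :=
    Cfsg.Agent.Lib.Helper7.S1775Main.centralizer_ne_top_of_simple_fstar hF hF' y hy
  have hB := hsec (Subgroup.centralizer ({y} : Set G))
    (Cfsg.oddCore ↥(Subgroup.centralizer ({y} : Set G))) (Or.inl hne)
  refine Cfsg.Agent.Lib.Helper7.S1775Main.core (Subgroup.centralizer ({y} : Set G))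
    ((Cfsg.pLayer 2 ↥(Subgroup.centralizer ({x} : Set G))).map (Subgroup.centralizer ({x} : Set G)).subtype ⊓
      Subgroup.centralizer ({y} : Set G)) x hx (Subgroup.mem_centralizer_singleton_iff.mpr hxy)
    ?_ inf_le_right ?_ hB J hJ
  · refine le_trans inf_le_left ?_
    rintro _ ⟨l, _, rfl⟩
    exact l.2
  · intro g hg d hd
    refine ⟨?_, ?_⟩
    · obtain ⟨l, hl, rfl⟩ := hd.1
      haveI : Fact (Nat.Prime 2) := ⟨Nat.prime_two⟩
      have hn : (Cfsg.pLayer 2 ↥(Subgroup.centralizer ({x} : Set G))).Normal :=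
        Cfsg.Agent.Lib.Helper3.pLayer_normal
      exact ⟨(⟨g, hg.1⟩ : ↥(Subgroup.centralizer ({x} : Set G))) * l *
        (⟨g, hg.1⟩ : ↥(Subgroup.centralizer ({x} : Set G)))⁻¹, hn.conj_mem l hl _, rfl⟩
    · exact Subgroup.mul_mem _ (Subgroup.mul_mem _ hg.2 hd.2) (Subgroup.inv_mem _ hg.2)

end Cfsg.Agent.S1775
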