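import Mathlib
import Cfsg.Statements.S1780

set_option autoImplicit false
open Cfsg

namespace Cfsg.Agent.S1780

/-- The subgroup of elements `a⁻¹ * t a` of order dividing 2. -/
def delSub {A : Type*} [CommGroup A] (t : MulAut A) : Subgroup A where
  carrier := {w | w ^ 2 = 1 ∧ ∃ a, w = a⁻¹ * t a}
  one_mem' := ⟨one_pow 2, 1, by simp⟩
  mul_mem' := by
    rintro x y ⟨hx, a, rfl⟩ ⟨hy, b, rfl⟩
    refine ⟨by rw [mul_pow, hx, hy, one_mul], a * b, ?_⟩
    rw [map_mul, mul_inv]
    exact mul_mul_mul_comm _ _ _ _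
  inv_mem' := by
    rintro x ⟨hx, a, rfl⟩
    refine ⟨by rw [inv_pow, hx, inv_one], a⁻¹, ?_⟩
    rw [map_inv, mul_inv]

theorem delSub_smul {A : Type*} [CommGroup A] (t : MulAut A) (s : MulAut A) (hs : s ∈ Subgroup.zpowers t)
    (w : A) (hw : w ∈ delSub t) : s w ∈ delSub t := by
  obtain ⟨hw2, a, rfl⟩ := hw
  have hcomm : s * t = t * s := by
    obtain ⟨n, rfl⟩ := hs
    exact (Commute.zpow_left (Commute.refl t) n).eq
  refine ⟨by rw [← map_pow, hw2, map_one], s a, ?_⟩
  rw [map_mul, map_inv]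
  congr 1
  have := DFunLike.congr_fun hcomm a
  simpa using this

/-- Let A be a finite abelian 2-group and t an automorphism of A whose order is a power of 2. If every element of A fixed by t² is fixed by t, then t fixes every element of A. -/
theorem result {A : Type*} [CommGroup A] [Finite A]
    (hA : IsPGroup 2 A) (t : MulAut A) (ht : ∃ k : ℕ, orderOf t = 2 ^ k) (hC : ∀ a : A, t (t a) = a → t a = a) :
    ∀ a : A, t a = a := by
  classical
  by_contra hne
  push_neg at hne
  obtain ⟨a0, ha0⟩ := hne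
  obtain ⟨k, hk⟩ := ht
  haveI : Fact (Nat.Prime 2) := ⟨Nat.prime_two⟩
  -- the acting group
  let T : Subgroup (MulAut A) := Subgroup.zpowers t
  have hT : IsPGroup 2 T := IsPGroup.of_card (n := k) (by rw [Nat.card_zpowers, hk])
  -- the action on delSub
  let act : MulAction T (delSub t) :=
    { smul := fun s w => ⟨s.1 w.1, delSub_smul t s.1 s.2 w.1 w.2⟩
      one_smul := fun w => Subtype.ext (by
        show (1 : T).1 w.1 = w.1
        simp)
      mul_smul := fun s s' w => Subtype.ext (by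
        show (s * s').1 w.1 = s.1 (s'.1 w.1)
        simp [MulAut.mul_apply]) }
  -- delSub is nontrivial
  have hc : a0⁻¹ * t a0 ≠ 1 := by
    intro h
    apply ha0
    have : t a0 = a0 * (a0⁻¹ * t a0) := by group
    rw [this, h, mul_one]
  obtain ⟨j, hj⟩ := (IsPGroup.iff_orderOf.mp hA) (a0⁻¹ * t a0)
  have hj0 : j ≠ 0 := by
    rintro rfl
    rw [pow_zero, orderOf_eq_one_iff] at hj
    exact hc hj
  obtain ⟨i, rfl⟩ := Nat.exists_eq_succ_of_ne_zero hj0
  have hmem : (a0⁻¹ * t a0) ^ (2 ^ i) ∈ delSub t := by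
    refine ⟨?_, a0 ^ (2 ^ i), ?_⟩
    · rw [← pow_mul, ← pow_succ, ← hj, pow_orderOf_eq_one]
    · rw [map_pow, ← inv_pow, ← mul_pow]
  have hne1 : (a0⁻¹ * t a0) ^ (2 ^ i) ≠ 1 := by
    intro h
    have := orderOf_dvd_of_pow_eq_one h
    rw [hj] at this
    have h2 := Nat.le_of_dvd (by positivity) this
    have : 2 ^ i < 2 ^ (i + 1) := Nat.pow_lt_pow_right (by norm_num) (Nat.lt_succ_self i)
    omega
  have hW : IsPGroup 2 (delSub t) := hA.to_subgroup _
  have hdvd : 2 ∣ Nat.card (delSub t) := by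
    rcases hW.card_eq_or_dvd with h | h
    · exfalso
      have : Subsingleton (delSub t) := (Nat.card_eq_one_iff_unique.mp h).1
      apply hne1
      have := Subsingleton.elim (⟨_, hmem⟩ : delSub t) 1
      exact congrArg Subtype.val this
    · exact h
  have hfix1 : (1 : delSub t) ∈ MulAction.fixedPoints T (delSub t) := by
    intro s
    apply Subtype.ext
    show s.1 1 = 1
    exact map_one _
  obtain ⟨b, hb, hb1⟩ := hT.exists_fixed_point_of_prime_dvd_card_of_fixed_point (delSub t) hdvd hfix1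
  have htb : t b.1 = b.1 := by
    have := hb ⟨t, Subgroup.mem_zpowers t⟩
    exact congrArg Subtype.val this
  obtain ⟨hb2, a, hba⟩ := b.2
  have hta : t a = a * b.1 := by rw [hba]; group
  have : t (t a) = a := by
    rw [hta, map_mul, htb, hta, mul_assoc, ← pow_two, hb2, mul_one]
  have h3 := hC a this
  apply hb1
  apply Subtype.ext
  rw [hba, h3]
  simp

end Cfsg.Agent.S1780
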