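import Mathlib
import Cfsg.Statements.S1781
import Cfsg.Agent.S1757
import Cfsg.Agent.S1780

set_option autoImplicit false
open Cfsg

namespace Cfsg.Agent.S1781

/-- S1780 for a group that is commutative by hypothesis rather than by instance. -/
theorem aut_trivial {B : Type*} [Group B] [Finite B] (hc : ∀ x y : B, x * y = y * x)
    (hB : IsPGroup 2 B) (t : MulAut B) (ht : ∃ k : ℕ, orderOf t = 2 ^ k) (hC : ∀ a : B, t (t a) = a → t a = a) :
    ∀ a : B, t a = a := by
  letI : CommGroup B := { (inferInstance : Group B) with mul_comm := hc }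
  exact Cfsg.Agent.S1780.result hB t ht hC

theorem map_conj_mul {G : Type*} [Group G] (A : Subgroup G) (x y : G) :
    (A.map (MulAut.conj y).toMonoidHom).map (MulAut.conj x).toMonoidHom = A.map (MulAut.conj (x * y)).toMonoidHom := by
  rw [Subgroup.map_map]
  congr 1
  ext z
  simp [mul_assoc]

theorem mem_map_conj {G : Type*} [Group G] (A : Subgroup G) (x z : G) :
    z ∈ A.map (MulAut.conj x).toMonoidHom ↔ x⁻¹ * z * x ∈ A := by
  constructor
  · rintro ⟨w, hw, rfl⟩
    have : x⁻¹ * ((MulAut.conj x).toMonoidHom w) * x = w := by simp [mul_assoc]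
    rwa [this]
  · intro h
    refine ⟨x⁻¹ * z * x, h, ?_⟩
    simp [mul_assoc]

/-- Let A be an abelian 2-subgroup of the finite group G such that every conjugate of A equals A or meets A trivially, and let g ∈ G with g A g⁻¹ ≠ A. Then either the subgroup of those elements of A that normalize g A g⁻¹ is an elementary abelian 2-group, or A and g A g⁻¹ commute elementwise. -/
theorem result {G : Type*} [Group G] [Finite G] (A : Subgroup G)
    (hA2 : IsPGroup 2 ↥A) (hAa : IsMulCommutative ↥A)
    (hti : ∀ h : G, A.map (MulAut.conj h).toMonoidHom = A ∨ A.map (MulAut.conj h).toMonoidHom ⊓ A = ⊥)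
    (g : G) (hg : A.map (MulAut.conj g).toMonoidHom ≠ A) :
    Cfsg.IsElementaryAbelian 2 (A ⊓ Subgroup.normalizer ((A.map (MulAut.conj g).toMonoidHom : Subgroup G) : Set G)) ∨
      ⁅A, A.map (MulAut.conj g).toMonoidHom⁆ = ⊥ := by
  classical
  set B := A.map (MulAut.conj g).toMonoidHom with hBdef
  set D := A ⊓ Subgroup.normalizer ((B : Subgroup G) : Set G) with hDdef
  by_cases hall : ∀ a ∈ D, a ^ 2 = 1
  · left
    refine ⟨?_, hall⟩
    refine ⟨⟨?_⟩⟩
    rintro ⟨x, hx⟩ ⟨y, hy⟩
    apply Subtype.ext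
    have h := congrArg Subtype.val (mul_comm' (⟨x, hx.1⟩ : A) ⟨y, hy.1⟩)
    exact h
  right
  push_neg at hall
  obtain ⟨a, haD, ha2⟩ := hall
  have haA : a ∈ A := haD.1
  have haN : a ∈ Subgroup.normalizer ((B : Subgroup G) : Set G) := haD.2
  -- basic facts
  have hBA : B ⊓ A = ⊥ := (hti g).resolve_left hg
  have hAB : A ⊓ B = ⊥ := by rw [inf_comm]; exact hBA
  have hBcomm : ∀ x y : B, x * y = y * x := by
    rintro ⟨x, hx⟩ ⟨y, hy⟩
    apply Subtype.ext
    rw [hBdef, mem_map_conj] at hx hy
    have := congrArg Subtype.val (mul_comm' (⟨_, hx⟩ : A) ⟨_, hy⟩)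
    simp only [Subgroup.coe_mul] at this ⊢
    calc x * y = g * ((g⁻¹ * x * g) * (g⁻¹ * y * g)) * g⁻¹ := by group
      _ = g * ((g⁻¹ * y * g) * (g⁻¹ * x * g)) * g⁻¹ := by rw [this]
      _ = y * x := by group
  have hB2 : IsPGroup 2 B := by
    rw [hBdef]
    exact hA2.map _
  -- an element of B commuting with a nonidentity element of A normalizes A
  have hF3 : ∀ x ∈ A, x ≠ 1 → ∀ b : G, b * x = x * b → b ∈ Subgroup.normalizer (A : Set G) := by
    intro x hx hx1 b hbx
    rw [Subgroup.mem_normalizer_iff_map_conj_eq]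
    rcases hti b with h | h
    · exact h
    · exfalso
      apply hx1
      have hmem : x ∈ A.map (MulAut.conj b).toMonoidHom ⊓ A := by
        refine Subgroup.mem_inf.mpr ⟨?_, hx⟩
        rw [mem_map_conj]
        have : b⁻¹ * x * b = x := by
          calc b⁻¹ * x * b = b⁻¹ * (x * b) := by group
            _ = b⁻¹ * (b * x) := by rw [hbx]
            _ = x := by group
        rwa [this]
      rw [h, Subgroup.mem_bot] at hmem
      exact hmem
  -- an element of B normalizing A commutes with every element of D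
  have hF4 : ∀ x ∈ D, ∀ b ∈ B, b ∈ Subgroup.normalizer (A : Set G) → b * x = x * b := by
    intro x hx b hb hbN
    have h1 : x * b * x⁻¹ ∈ B := ((Subgroup.mem_set_normalizer_iff.mp hx.2) b).mp hb
    have h2 : b * x⁻¹ * b⁻¹ ∈ A := ((Subgroup.mem_set_normalizer_iff.mp hbN) x⁻¹).mp (A.inv_mem hx.1)
    have h3 : x * b * x⁻¹ * b⁻¹ ∈ A ⊓ B := by
      refine ⟨?_, B.mul_mem h1 (B.inv_mem hb)⟩
      have := A.mul_mem hx.1 h2
      have e : x * (b * x⁻¹ * b⁻¹) = x * b * x⁻¹ * b⁻¹ := by group
      rwa [e] at this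
    rw [hAB, Subgroup.mem_bot] at h3
    calc b * x = (x * b * x⁻¹ * b⁻¹)⁻¹ * (x * b) := by group
      _ = x * b := by rw [h3]; group
  -- the automorphism of B induced by a
  let t : MulAut B := Subgroup.normalizerMonoidHom B ⟨a, haN⟩
  have ht_apply : ∀ b : B, ((t b : B) : G) = a * b * a⁻¹ := fun b => rfl
  have ht : ∃ k : ℕ, orderOf t = 2 ^ k := by
    obtain ⟨k, hk⟩ := hA2 ⟨a, haA⟩
    have hk' : a ^ 2 ^ k = 1 := by simpa using congrArg Subtype.val hk
    have : t ^ 2 ^ k = 1 := by
      show (Subgroup.normalizerMonoidHom B ⟨a, haN⟩) ^ 2 ^ k = 1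
      rw [← map_pow]
      have : (⟨a, haN⟩ : Subgroup.normalizer ((B : Subgroup G) : Set G)) ^ 2 ^ k = 1 := by
        apply Subtype.ext
        simpa using hk'
      rw [this, map_one]
    obtain ⟨j, -, hj⟩ := (Nat.dvd_prime_pow Nat.prime_two).mp (orderOf_dvd_of_pow_eq_one this)
    exact ⟨j, hj⟩
  have ha1 : a ≠ 1 := by
    rintro rfl
    exact ha2 (one_pow 2)
  have ha2D : a ^ 2 ∈ D := D.pow_mem haD 2
  have hC : ∀ b : B, t (t b) = b → t b = b := by
    intro b hb
    apply Subtype.ext
    rw [ht_apply]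
    have h1 : a * (a * b * a⁻¹) * a⁻¹ = b := by
      have := congrArg Subtype.val hb
      rw [ht_apply, ht_apply] at this
      exact this
    have h2 : (b : G) * a ^ 2 = a ^ 2 * b := by
      calc (b : G) * a ^ 2 = (a * (a * b * a⁻¹) * a⁻¹) * a ^ 2 := by rw [h1]
        _ = a ^ 2 * b := by rw [pow_two]; group
    have h3 := hF3 (a ^ 2) ha2D.1 ha2 b h2
    have h4 := hF4 a haD b b.2 h3
    calc a * b * a⁻¹ = (a * b) * a⁻¹ := by group
      _ = (b * a) * a⁻¹ := by rw [h4]
      _ = b := by group
  have htriv := aut_trivial hBcomm hB2 t ht hC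
  -- so B normalizes A
  have hBN : B ≤ Subgroup.normalizer (A : Set G) := by
    intro b hb
    apply hF3 a haA ha1 b
    have := congrArg Subtype.val (htriv ⟨b, hb⟩)
    rw [ht_apply] at this
    calc b * a = (a * b * a⁻¹) * a := by rw [this]
      _ = a * b := by group
  -- now apply the core lemma of S1757
  apply Cfsg.Agent.S1757.core A B _ _ hAB hBN
  · intro x _
    rw [hBdef, map_conj_mul]
    rcases hti (g⁻¹ * x * g) with h | h
    · left
      have := congrArg (fun K : Subgroup G => K.map (MulAut.conj g).toMonoidHom) h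
      simp only [map_conj_mul] at this
      have e : g * (g⁻¹ * x * g) = x * g := by group
      rwa [e] at this
    · right
      have := congrArg (fun K : Subgroup G => K.map (MulAut.conj g).toMonoidHom) h
      beta_reduce at this
      rw [Subgroup.map_inf_eq _ _ _ (MulAut.conj g).injective, map_conj_mul, Subgroup.map_bot] at this
      have e : g * (g⁻¹ * x * g) = x * g := by group
      rwa [e] at this
  · rw [hBdef]
    exact le_of_eq (Nat.card_congr (A.equivMapOfInjective _ (MulAut.conj g).injective).toEquiv)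

end Cfsg.Agent.S1781
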