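import Mathlib
import Cfsg.Agent.Lib.Helper4.TIFamily6
import Cfsg.Statements.S1783
-- import your own Cfsg.Agent.* helpers here

set_option autoImplicit false
open Cfsg

namespace Cfsg.Agent.S1783

/-- Let X be a finite group whose generalized Fitting subgroup equals its largest normal 2-subgroup Q, and let A be an abelian 2-subgroup of X such that every conjugate of A equals A or meets A trivially. Let B be the subgroup generated by the squares of the elements of A. Then B lies in Q, and if B is not an elementary abelian 2-group then the normal closure of B in X is commutative. -/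
theorem result {X : Type*} [Group X] [Finite X]
    (hX : Cfsg.generalizedFittingSubgroup X = Cfsg.pCore 2 X) (A : Subgroup X) (hA2 : IsPGroup 2 ↥A) (hAa : IsMulCommutative ↥A)
    (hti : ∀ h : X, A.map (MulAut.conj h).toMonoidHom = A ∨ A.map (MulAut.conj h).toMonoidHom ⊓ A = ⊥) :
    Subgroup.closure ((fun a : X => a ^ 2) '' (A : Set X)) ≤ Cfsg.pCore 2 X ∧
      (¬ Cfsg.IsElementaryAbelian 2 (Subgroup.closure ((fun a : X => a ^ 2) '' (A : Set X))) →
        IsMulCommutative ↥(Subgroup.normalClosure ((fun a : X => a ^ 2) '' (A : Set X)))) := by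
  have hti' : ∀ h : X, Cfsg.Agent.Lib.Helper4.TIFamily.cj h A = A ∨
      Cfsg.Agent.Lib.Helper4.TIFamily.cj h A ⊓ A = ⊥ := hti
  refine ⟨?_, ?_⟩
  · rw [Subgroup.closure_le]
    rintro _ ⟨a, ha, rfl⟩
    exact Cfsg.Agent.Lib.Helper4.TIFamily.sq_mem_pCore hX A hA2 hAa hti' a ha
  · intro hne
    have hBA : Subgroup.closure ((fun a : X => a ^ 2) '' (A : Set X)) ≤ A :=
      Cfsg.Agent.Lib.Helper4.TIFamily.sqSub_le A
    have hBc : IsMulCommutative ↥(Subgroup.closure ((fun a : X => a ^ 2) '' (A : Set X))) := by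
      refine ⟨⟨?_⟩⟩
      rintro ⟨u, hu⟩ ⟨v, hv⟩
      apply Subtype.ext
      exact Cfsg.Agent.Lib.Helper4.TIFamily.comm_of_abelian hAa (hBA hu) (hBA hv)
    have hex : ∃ b ∈ Subgroup.closure ((fun a : X => a ^ 2) '' (A : Set X)), b ^ 2 ≠ 1 := by
      by_contra hcon
      push Not at hcon
      exact hne ⟨hBc, hcon⟩
    obtain ⟨b₁, hb₁, hb₁2⟩ := hex
    exact Cfsg.Agent.Lib.Helper4.TIFamily.normalClosure_comm hX A hA2 hAa hti' b₁ hb₁ hb₁2

end Cfsg.Agent.S1783
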