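import Mathlib
import Cfsg.Statements.S1784
import Cfsg.Agent.Lib.Helper4.Extraspecial4
import Cfsg.Agent.Lib.Helper3.Components8
-- import your own Cfsg.Agent.* helpers here

set_option autoImplicit false
open Cfsg
open Cfsg.Agent.Lib.Helper4 Cfsg.Agent.Lib.Helper3
open scoped commutatorElement

namespace Cfsg.Agent.S1784

theorem mem_zpowers_of_orderOf_two {G : Type*} [Group G] {z g : G} (hz : orderOf z = 2) :
    g ∈ Subgroup.zpowers z ↔ g = 1 ∨ g = z := by
  constructor
  · rintro ⟨k, rfl⟩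
    dsimp only
    rw [← zpow_mod_orderOf, hz]
    have h1 : (0:ℤ) ≤ k % 2 := Int.emod_nonneg k (by norm_num)
    have h2 : k % 2 < 2 := Int.emod_lt_of_pos k (by norm_num)
    have h3 : k % 2 = 0 ∨ k % 2 = 1 := by omega
    rcases h3 with h | h
    · left; rw [Nat.cast_ofNat, h]; simp
    · right; rw [Nat.cast_ofNat, h]; simp
  · rintro (rfl | rfl)
    · exact Subgroup.one_mem _
    · exact Subgroup.mem_zpowers _

theorem aux {G : Type*} [Group G] [Finite G] (Q : Subgroup G)
    (hcl : commutator ↥Q ≤ Subgroup.center ↥Q) (hZ : Nat.card (Subgroup.center ↥Q) = 2)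
    (z : G) (hz2 : orderOf z = 2) (hzQ : z ∈ Q) (hzc : ∀ q ∈ Q, q * z = z * q)
    (α : G) (hα2 : α * α = 1) (hαN : ∀ q ∈ Q, α * q * α⁻¹ ∈ Q) (hαC : ∃ q ∈ Q, α * q * α⁻¹ ≠ q)
    (Q₀ : Subgroup G) (hQ₀ : ∀ q, q ∈ Q₀ ↔ q ∈ Q ∧ α * q * α⁻¹ * q⁻¹ ∈ Subgroup.zpowers z) :
    Subgroup.closure ((fun q : G => α * q * α⁻¹ * q⁻¹) '' (Q : Set G)) =
      (Subgroup.center ↥Q₀).map Q₀.subtype := by
  have hαinv : α⁻¹ = α := inv_eq_of_mul_eq_one_left hα2
  have hinvol : ∀ x : G, α * (α * x * α⁻¹) * α⁻¹ = x := by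
    intro x
    calc α * (α * x * α⁻¹) * α⁻¹ = (α * α) * x * (α⁻¹ * α⁻¹) := by group
      _ = x := by rw [hαinv, hα2, one_mul, mul_one]
  let τ : ↥Q ≃* ↥Q :=
    { toFun := fun q => ⟨α * q * α⁻¹, hαN q q.2⟩
      invFun := fun q => ⟨α * q * α⁻¹, hαN q q.2⟩
      left_inv := fun q => Subtype.ext (hinvol q)
      right_inv := fun q => Subtype.ext (hinvol q)
      map_mul' := fun a b => Subtype.ext (by
        show α * (a * b : G) * α⁻¹ = (α * a * α⁻¹) * (α * b * α⁻¹)
        group) }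
  have hτval : ∀ q : ↥Q, ((τ q : ↥Q) : G) = α * q * α⁻¹ := fun q => rfl
  have hτ2 : ∀ x, τ (τ x) = x := fun x => Subtype.ext (hinvol x)
  have hτne : ∃ x, τ x ≠ x := by
    obtain ⟨q, hq, hne⟩ := hαC
    exact ⟨⟨q, hq⟩, fun h => hne (congrArg Subtype.val h)⟩
  -- the centre of Q
  have hz1 : z ≠ 1 := by
    intro h
    rw [h, orderOf_one] at hz2
    omega
  have hz'c : (⟨z, hzQ⟩ : ↥Q) ∈ Subgroup.center ↥Q := by
    rw [Subgroup.mem_center_iff]
    intro g
    exact Subtype.ext (hzc g g.2)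
  have hz'1 : (⟨z, hzQ⟩ : ↥Q) ≠ 1 := fun h => hz1 (congrArg Subtype.val h)
  have hcen : ∀ q : ↥Q, q ∈ Subgroup.center ↥Q ↔ (q : G) ∈ Subgroup.zpowers z := by
    intro q
    rw [mem_zpowers_of_orderOf_two hz2]
    constructor
    · intro hq
      by_cases hq1 : q = 1
      · left; rw [hq1]; rfl
      · right
        exact congrArg Subtype.val (center_eq_of_ne_one hZ hq hz'c hq1 hz'1)
    · rintro (h | h)
      · have : q = 1 := Subtype.ext h
        rw [this]; exact Subgroup.one_mem _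
      · have : q = ⟨z, hzQ⟩ := Subtype.ext h
        rw [this]; exact hz'c
  have hQ₀le : Q₀ ≤ Q := fun q hq => ((hQ₀ q).mp hq).1
  have hQ₀' : ∀ q : ↥Q, q ∈ Q₀.subgroupOf Q ↔ τ q * q⁻¹ ∈ Subgroup.center ↥Q := by
    intro q
    rw [Subgroup.mem_subgroupOf, hQ₀, hcen]
    constructor
    · rintro ⟨_, h⟩
      exact h
    · intro h
      exact ⟨q.2, h⟩
  obtain ⟨h1, h2⟩ := closure_autComm_eq_centralizer hcl hZ τ hτ2 hτne (Q₀.subgroupOf Q) hQ₀'
  have hL : Subgroup.closure ((fun q : G => α * q * α⁻¹ * q⁻¹) '' (Q : Set G)) =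
      (Subgroup.closure {c : ↥Q | ∃ q, c = τ q * q⁻¹}).map Q.subtype := by
    rw [MonoidHom.map_closure]
    congr 1
    ext g
    constructor
    · rintro ⟨q, hq, rfl⟩
      exact ⟨τ ⟨q, hq⟩ * (⟨q, hq⟩ : ↥Q)⁻¹, ⟨⟨q, hq⟩, rfl⟩, rfl⟩
    · rintro ⟨c, ⟨q, rfl⟩, rfl⟩
      exact ⟨q, q.2, rfl⟩
  rw [hL, h1, center_map_subtype]
  ext g
  rw [Subgroup.mem_map, Subgroup.mem_inf]
  constructor
  · rintro ⟨c, hc, rfl⟩
    have hc0 : c ∈ Q₀.subgroupOf Q := h2 hc
    refine ⟨hc0, ?_⟩
    rw [Subgroup.mem_centralizer_iff]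
    intro h hh
    have := Subgroup.mem_centralizer_iff.mp hc ⟨h, hQ₀le hh⟩ (by
      show (⟨h, hQ₀le hh⟩ : ↥Q) ∈ Q₀.subgroupOf Q
      rw [Subgroup.mem_subgroupOf]; exact hh)
    exact congrArg Subtype.val this
  · rintro ⟨hg0, hgc⟩
    refine ⟨⟨g, hQ₀le hg0⟩, ?_, rfl⟩
    rw [Subgroup.mem_centralizer_iff]
    intro h hh
    have hh' : (h : G) ∈ Q₀ := Subgroup.mem_subgroupOf.mp hh
    exact Subtype.ext (Subgroup.mem_centralizer_iff.mp hgc h hh')

/-- Let G be a finite group and let z be an involution of G such that Q, the generalized Fitting subgroup of the centralizer C of z, is a 2-group of symplectic type (every characteristic abelian subgroup of Q is cyclic); suppose Q is extraspecial, and view Q inside G. Let α be an involution of C that is not in Q, and let Q₀ be the subgroup of those q ∈ Q whose commutator with α lies in the subgroup generated by z. Then (a) the subgroup generated by the commutators α q α⁻¹ q⁻¹, q ∈ Q, equals the centre of Q₀;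 and (b) if Q₀ is not contained in the product of the centralizer of α in Q with the subgroup generated by z, then some element of Q conjugates α to α z. -/
theorem result {G : Type*} [Group G] [Finite G] (z : G) (hz : orderOf z = 2) (hQ : Cfsg.IsOfSymplecticType ↥(Cfsg.generalizedFittingSubgroup ↥(Subgroup.centralizer ({z} : Set G)))) (hE : Cfsg.IsExtraspecial 2 ↥(Cfsg.generalizedFittingSubgroup ↥(Subgroup.centralizer ({z} : Set G))))
    (α : G) (hα : orderOf α = 2) (hαC : α ∈ Subgroup.centralizer ({z} : Set G)) (hαQ : α ∉ (Cfsg.generalizedFittingSubgroup ↥(Subgroup.centralizer ({z} : Set G))).map (Subgroup.centralizer ({z} : Set G)).subtype)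
    (Q₀ : Subgroup G) (hQ₀ : ∀ q : G, q ∈ Q₀ ↔ (q ∈ (Cfsg.generalizedFittingSubgroup ↥(Subgroup.centralizer ({z} : Set G))).map (Subgroup.centralizer ({z} : Set G)).subtype ∧ α * q * α⁻¹ * q⁻¹ ∈ Subgroup.zpowers z)) :
    Subgroup.closure ((fun q : G => α * q * α⁻¹ * q⁻¹) '' ((Cfsg.generalizedFittingSubgroup ↥(Subgroup.centralizer ({z} : Set G))).map (Subgroup.centralizer ({z} : Set G)).subtype : Set G)) = (Subgroup.center ↥Q₀).map Q₀.subtype ∧
      (¬ Q₀ ≤ ((Cfsg.generalizedFittingSubgroup ↥(Subgroup.centralizer ({z} : Set G))).map (Subgroup.centralizer ({z} : Set G)).subtype ⊓ Subgroup.centralizer ({α} : Set G)) ⊔ Subgroup.zpowers z →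
        ∃ q ∈ (Cfsg.generalizedFittingSubgroup ↥(Subgroup.centralizer ({z} : Set G))).map (Subgroup.centralizer ({z} : Set G)).subtype, q * α * q⁻¹ = α * z) := by
  obtain ⟨C, hCdef⟩ : ∃ C : Subgroup G, C = Subgroup.centralizer ({z} : Set G) := ⟨_, rfl⟩
  rw [← hCdef] at hQ hE hαC hαQ hQ₀ ⊢
  obtain ⟨F, hFdef⟩ : ∃ F : Subgroup ↥C, F = Cfsg.generalizedFittingSubgroup ↥C := ⟨_, rfl⟩
  rw [← hFdef] at hQ hE hαQ hQ₀ ⊢
  haveI hFn : F.Normal := by rw [hFdef]; infer_instance
  obtain ⟨Q, hQdef⟩ : ∃ Q : Subgroup G, Q = F.map C.subtype := ⟨_, rfl⟩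
  rw [← hQdef] at hαQ hQ₀ ⊢
  have hQC : Q ≤ C := by
    rw [hQdef]; rintro _ ⟨c, _, rfl⟩; exact c.2
  have hmemQ : ∀ (g : G) (hg : g ∈ C), g ∈ Q ↔ (⟨g, hg⟩ : ↥C) ∈ F := by
    intro g hg
    rw [hQdef]
    constructor
    · rintro ⟨c, hc, hcg⟩
      have : c = ⟨g, hg⟩ := Subtype.ext hcg
      rw [← this]; exact hc
    · intro h
      exact ⟨⟨g, hg⟩, h, rfl⟩
  -- z central in C
  have hzC : z ∈ C := by
    rw [hCdef, Subgroup.mem_centralizer_iff]
    intro h hh
    rw [Set.mem_singleton_iff] at hh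
    rw [hh]
  have hzcomm : ∀ g ∈ C, g * z = z * g := by
    intro g hg
    rw [hCdef, Subgroup.mem_centralizer_iff] at hg
    exact (hg z rfl).symm
  have hBender : Subgroup.centralizer (F : Set ↥C) ≤ F := by
    rw [hFdef]; exact centralizer_generalizedFittingSubgroup_le
  have hzQ : z ∈ Q := by
    rw [hmemQ z hzC]
    apply hBender
    rw [Subgroup.mem_centralizer_iff]
    intro h _
    exact Subtype.ext (hzcomm h h.2)
  -- α
  have hα2 : α * α = 1 := by
    have := pow_orderOf_eq_one α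
    rw [hα, sq] at this
    exact this
  have hαinv : α⁻¹ = α := inv_eq_of_mul_eq_one_left hα2
  have hαN : ∀ q ∈ Q, α * q * α⁻¹ ∈ Q := by
    intro q hq
    have hqC := hQC hq
    have hc : α * q * α⁻¹ ∈ C := C.mul_mem (C.mul_mem hαC hqC) (C.inv_mem hαC)
    rw [hmemQ _ hc]
    have := hFn.conj_mem ⟨q, hqC⟩ ((hmemQ q hqC).mp hq) ⟨α, hαC⟩
    exact this
  have hαne : ∃ q ∈ Q, α * q * α⁻¹ ≠ q := by
    by_contra hcon
    push Not at hcon
    apply hαQ
    rw [hmemQ α hαC]
    apply hBender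
    rw [Subgroup.mem_centralizer_iff]
    intro h hh
    apply Subtype.ext
    have hq : (h : G) ∈ Q := (hmemQ h h.2).mpr hh
    have := hcon h hq
    show (h : G) * α = α * h
    calc (h : G) * α = (α * h * α⁻¹) * α := by rw [this]
      _ = α * h := by group
  -- transfer of the extraspecial structure
  let e : ↥F ≃* ↥Q := (Subgroup.equivMapOfInjective F C.subtype C.subtype_injective).trans
    (MulEquiv.subgroupCongr hQdef.symm)
  obtain ⟨⟨_, _, hcomm⟩, hZcard⟩ := hE
  have hcen_e : ∀ x : ↥F, x ∈ Subgroup.center ↥F → e x ∈ Subgroup.center ↥Q := by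
    intro x hx
    rw [Subgroup.mem_center_iff]
    intro g
    obtain ⟨g', rfl⟩ := e.surjective g
    rw [← map_mul, ← map_mul, Subgroup.mem_center_iff.mp hx g']
  have hcl : commutator ↥Q ≤ Subgroup.center ↥Q := by
    rw [commutator_def, Subgroup.commutator_le]
    intro a _ b _
    obtain ⟨a', rfl⟩ := e.surjective a
    obtain ⟨b', rfl⟩ := e.surjective b
    rw [← map_commutatorElement]
    apply hcen_e
    rw [← hcomm, commutator_def]
    exact Subgroup.commutator_mem_commutator (Subgroup.mem_top _) (Subgroup.mem_top _)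
  have hZ : Nat.card (Subgroup.center ↥Q) = 2 := by
    rw [← hZcard]
    exact (Nat.card_congr (Subgroup.centerCongr e).toEquiv).symm
  refine ⟨?_, ?_⟩
  · exact aux Q hcl hZ z hz hzQ (fun q hq => hzcomm q (hQC hq)) α hα2 hαN hαne Q₀ hQ₀
  · intro hnot
    obtain ⟨h, hh0, hhn⟩ := SetLike.not_le_iff_exists.mp hnot
    obtain ⟨hhQ, hhz⟩ := (hQ₀ h).mp hh0
    rw [mem_zpowers_of_orderOf_two hz] at hhz
    rcases hhz with h1 | h1
    · exfalso
      apply hhn
      apply Subgroup.mem_sup_left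
      refine Subgroup.mem_inf.mpr ⟨hhQ, ?_⟩
      rw [Subgroup.mem_centralizer_iff]
      intro x hx
      rw [Set.mem_singleton_iff] at hx
      rw [hx]
      have : α * h * α⁻¹ = h := by
        calc α * h * α⁻¹ = (α * h * α⁻¹ * h⁻¹) * h := by group
          _ = h := by rw [h1, one_mul]
      calc α * h = (α * h * α⁻¹) * α := by group
        _ = h * α := by rw [this]
    · refine ⟨h, hhQ, ?_⟩
      have e1 : α * h * α⁻¹ = z * h := by
        calc α * h * α⁻¹ = (α * h * α⁻¹ * h⁻¹) * h := by group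
          _ = z * h := by rw [h1]
      have e2 : α * h = z * h * α := by
        calc α * h = (α * h * α⁻¹) * α := by group
          _ = z * h * α := by rw [e1]
      have hzα : α * z = z * α := hzcomm α hαC
      have hz2 : z * z = 1 := by
        have := pow_orderOf_eq_one z
        rw [hz, sq] at this
        exact this
      -- h α h⁻¹ = α z
      have e3 : h * α = α * z * h := by
        calc h * α = z * (z * h * α) := by rw [← mul_assoc, ← mul_assoc, hz2, one_mul]
          _ = z * (α * h) := by rw [e2]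
          _ = (z * α) * h := by group
          _ = α * z * h := by rw [hzα]
      calc h * α * h⁻¹ = (α * z * h) * h⁻¹ := by rw [e3]
        _ = α * z := by group

end Cfsg.Agent.S1784
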