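import Mathlib
import Cfsg.Statements.S1850
import Cfsg.Agent.Lib.Helper3.CharP5
-- import your own Cfsg.Agent.* helpers here

set_option autoImplicit false
open Cfsg Cfsg.Agent.Lib.Helper3 Cfsg.Agent.Lib.Lead

namespace Cfsg.Agent.S1850

/-- `C_H(O_2(H)) ≤ O_2(H)` gives `F*(H)` a 2-group -/
theorem isPGroup_gfs_of_char2 {H : Type*} [Group H] [Finite H] (h : Cfsg.IsOfCharacteristicTwo H) :
    IsPGroup 2 (Cfsg.generalizedFittingSubgroup H) := by
  haveI : Fact (Nat.Prime 2) := ⟨Nat.prime_two⟩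
  have hF : IsPGroup 2 (Cfsg.generalizedFittingSubgroup ↥(Cfsg.pCore 2 H)) :=
    (pCore_isPGroup (G := H) 2).to_subgroup _
  rw [generalizedFittingSubgroup_eq_pCore_of_centralizer_le (Cfsg.pCore 2 H) h hF]
  exact pCore_isPGroup 2

/-- if `F*(C_G(U))` is a 2-group then `N_G(U) ∈ ℋ^e` -/
theorem normalizer_mem_calHe {G : Type*} [Group G] [Finite G] (U : Subgroup G) (hU : IsPGroup 2 ↥U)
    (hC : IsPGroup 2 (Cfsg.generalizedFittingSubgroup ↥(Subgroup.centralizer (U : Set G)))) :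
    Subgroup.normalizer (U : Set G) ∈ Cfsg.calHe G := by
  haveI : Fact (Nat.Prime 2) := ⟨Nat.prime_two⟩
  obtain ⟨N, hNdef⟩ : ∃ N : Subgroup G, N = Subgroup.normalizer (U : Set G) := ⟨_, rfl⟩
  rw [← hNdef]
  show Cfsg.generalizedFittingSubgroup ↥N = Cfsg.pCore 2 ↥N
  have hUN : U ≤ N := by rw [hNdef]; exact Subgroup.le_normalizer
  have hCN : Subgroup.centralizer (U : Set G) ≤ N := by
    rw [hNdef]; exact Subgroup.centralizer_le_normalizer _
  have hUR : U.subgroupOf N ≤ Cfsg.pCore 2 ↥N := by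
    apply le_pCore _ hU.comap_subtype
    rw [hNdef]; exact Subgroup.normal_in_normalizer
  apply generalizedFittingSubgroup_eq_pCore_of_centralizer_le
    ((Subgroup.centralizer (U : Set G)).subgroupOf N)
  · intro c hc
    rw [Subgroup.mem_subgroupOf, Subgroup.mem_centralizer_iff]
    intro u hu
    have h1 := Subgroup.mem_centralizer_iff.mp hc ⟨u, hUN hu⟩ (hUR (Subgroup.mem_subgroupOf.mpr hu))
    exact congrArg Subtype.val h1
  · exact isPGroup_generalizedFittingSubgroup_of_mulEquiv (Subgroup.subgroupOfEquivOfLe hCN).symm hC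

/-- Let G be a non-abelian finite simple QTKE-group and T a Sylow 2-subgroup of G. If U is a nontrivial 2-subgroup of G with U ∩ Z(T) ≠ 1, then F*(N_G(U)) = O₂(N_G(U)). -/
theorem result {G : Type*} [Group G] [Finite G] [IsSimpleGroup G]
    (hG : ¬ IsMulCommutative G) (hQ : Cfsg.IsQTKE G) (T : Sylow 2 G) (U : Subgroup G)
    (hU : IsPGroup 2 ↥U) (hZ : U ⊓ ((T : Subgroup G) ⊓ Subgroup.centralizer ((T : Subgroup G) : Set G)) ≠ ⊥) :
    Subgroup.normalizer (U : Set G) ∈ Cfsg.calHe G := by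
  haveI : Fact (Nat.Prime 2) := ⟨Nat.prime_two⟩
  obtain ⟨⟨z, hz⟩, hz1⟩ := (Subgroup.ne_bot_iff_exists_ne_one).mp hZ
  have hz1' : z ≠ 1 := fun h => hz1 (Subtype.ext h)
  obtain ⟨hzU, hzT, hzC⟩ := hz
  obtain ⟨V, hVdef⟩ : ∃ V : Subgroup G, V = Subgroup.zpowers z := ⟨_, rfl⟩
  have hVU : V ≤ U := by rw [hVdef, Subgroup.zpowers_le]; exact hzU
  have hV2 : IsPGroup 2 ↥V := hU.to_le hVU
  have hVne : V ≠ ⊥ := by
    rw [hVdef, Ne, Subgroup.zpowers_eq_bot]; exact hz1'
  -- the 2-local N_G(V) contains T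
  have hTV : (T : Subgroup G) ≤ Subgroup.normalizer (V : Set G) := by
    intro t ht
    have hcomm : t * z = z * t := (Subgroup.mem_centralizer_iff.mp hzC t ht)
    have hpow : ∀ v ∈ V, t * v * t⁻¹ = v := by
      intro v hv
      rw [hVdef] at hv
      obtain ⟨i, rfl⟩ := Subgroup.mem_zpowers_iff.mp hv
      have : Commute t (z ^ i) := (show Commute t z from hcomm).zpow_right i
      rw [this.eq, mul_inv_cancel_right]
    rw [Subgroup.mem_normalizer_iff]
    intro v
    constructor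
    · intro hv; rw [hpow v hv]; exact hv
    · intro hv
      have h2 := hpow _ hv
      have h3 : t⁻¹ * (t * v * t⁻¹) * t = v := by group
      have h4 : t⁻¹ * (t * (t * v * t⁻¹) * t⁻¹) * t = t * v * t⁻¹ := by group
      rw [h2] at h4
      rw [← h3, h4]; exact hv
  have hchar := hQ.2.2 (Subgroup.normalizer (V : Set G)) ⟨V, hV2, hVne, rfl⟩ ⟨T, hTV⟩
  have hFM := isPGroup_gfs_of_char2 hchar
  -- C_G(V) is normal in N_G(V)
  have hCn : ((Subgroup.centralizer (V : Set G)).subgroupOf (Subgroup.normalizer (V : Set G))).Normal :=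
    Subgroup.normal_subgroupOf_of_le_normalizer
      (Cfsg.Agent.Lib.Helper2.normalizer_le_normalizer_centralizer V)
  have hFC' := isPGroup_generalizedFittingSubgroup_of_isSubnormal hCn.isSubnormal hFM
  have hFC : IsPGroup 2 (Cfsg.generalizedFittingSubgroup ↥(Subgroup.centralizer (V : Set G))) :=
    isPGroup_generalizedFittingSubgroup_of_mulEquiv
      (Subgroup.subgroupOfEquivOfLe (Subgroup.centralizer_le_normalizer (V : Set G))) hFC'
  have hFU := isPGroup_generalizedFittingSubgroup_centralizer_mono hU (Nat.card U) V hVU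
    (Nat.sub_le _ _) hFC
  exact normalizer_mem_calHe U hU hFU

end Cfsg.Agent.S1850
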