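import Mathlib
import Cfsg.Statements.S1892
import Cfsg.Agent.Lib.Helper4.HallHigman
-- import your own Cfsg.Agent.* helpers here

set_option autoImplicit false
open Cfsg
open scoped Pointwise commutatorElement
open Cfsg.Agent.Lib.Helper4 Cfsg.Agent.Lib.Helper7

namespace Cfsg.Agent.S1892

/-- Let S be a finite p-solvable group with no nontrivial normal subgroup of order prime to p, A a p-subgroup of S, and Q a nontrivial A-invariant subgroup of order prime to p with [A, Q] = Q. Then the commutator [O_p(S), A, Q] is nontrivial. -/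
theorem result {S : Type*} [Group S] [Finite S] {p : ℕ} [Fact p.Prime]
    (hS : Cfsg.IsPSolvable p S) (hred : Cfsg.pPrimeCore p S = ⊥)
    (A Q : Subgroup S) (hA : IsPGroup p A) (hQ : ¬ p ∣ Nat.card Q) (hQ1 : Q ≠ ⊥)
    (hinv : ∀ a ∈ A, ∀ x ∈ Q, a * x * a⁻¹ ∈ Q) (hAQ : ⁅A, Q⁆ = Q) :
    ⁅⁅Cfsg.pCore p S, A⁆, Q⁆ ≠ ⊥ := by
  classical
  intro hbot
  have hp : p.Prime := Fact.out
  obtain ⟨R, hRdef⟩ : ∃ R : Subgroup S, R = Cfsg.pCore p S := ⟨_, rfl⟩
  rw [← hRdef] at hbot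
  have hRn : R.Normal := by rw [hRdef]; exact Cfsg.Agent.Lib.Lead.pCore_normal p
  have hRp : IsPGroup p R := by rw [hRdef]; exact Cfsg.Agent.Lib.Lead.pCore_isPGroup p
  have hHH : Subgroup.centralizer (R : Set S) ≤ R := by
    rw [hRdef]; exact centralizer_pCore_le_of_isPSolvable hS hred
  obtain ⟨W, hWdef⟩ : ∃ W : Subgroup S, W = ⁅R, A⁆ := ⟨_, rfl⟩
  rw [← hWdef] at hbot
  have hWR : W ≤ R := by rw [hWdef]; exact Subgroup.commutator_le_left R A
  have hQW : ∀ w ∈ W, ∀ q ∈ Q, q * w = w * q := by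
    intro w hw q hq
    have h1 : ⁅w, q⁆ ∈ ⁅W, Q⁆ := Subgroup.commutator_mem_commutator hw hq
    rw [hbot, Subgroup.mem_bot, commutatorElement_def] at h1
    have : q * w = (w * q * w⁻¹ * q⁻¹)⁻¹ * (w * q) := by group
    rw [this, h1]; group
  have hcommW : ∀ r ∈ R, ∀ a ∈ A, ⁅r, a⁆ ∈ W := by
    intro r hr a ha
    rw [hWdef]; exact Subgroup.commutator_mem_commutator hr ha
  -- R and A normalize W
  have hRW : ∀ r' ∈ R, ∀ w ∈ W, r' * w * r'⁻¹ ∈ W := by
    intro r' hr' w hw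
    rw [hWdef] at hw
    induction hw using Subgroup.closure_induction with
    | mem x hx =>
      obtain ⟨r, hr, a, ha, rfl⟩ := hx
      have h1 : r' * ⁅r, a⁆ * r'⁻¹ = ⁅r' * r, a⁆ * ⁅r', a⁆⁻¹ := by
        simp only [commutatorElement_def]; group
      rw [h1]
      exact W.mul_mem (hcommW _ (R.mul_mem hr' hr) a ha) (W.inv_mem (hcommW _ hr' a ha))
    | one => simp
    | mul x y _ _ hx hy =>
      have : r' * (x * y) * r'⁻¹ = (r' * x * r'⁻¹) * (r' * y * r'⁻¹) := by group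
      rw [this]; exact W.mul_mem hx hy
    | inv x _ hx =>
      have : r' * x⁻¹ * r'⁻¹ = (r' * x * r'⁻¹)⁻¹ := by group
      rw [this]; exact W.inv_mem hx
  have hAW : ∀ a' ∈ A, ∀ w ∈ W, a' * w * a'⁻¹ ∈ W := by
    intro a' ha' w hw
    rw [hWdef] at hw
    induction hw using Subgroup.closure_induction with
    | mem x hx =>
      obtain ⟨r, hr, a, ha, rfl⟩ := hx
      have h1 : a' * ⁅r, a⁆ * a'⁻¹ = ⁅a' * r * a'⁻¹, a' * a * a'⁻¹⁆ := by
        simp only [commutatorElement_def]; group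
      rw [h1]
      exact hcommW _ (hRn.conj_mem r hr a') _ (A.mul_mem (A.mul_mem ha' ha) (A.inv_mem ha'))
    | one => simp
    | mul x y _ _ hx hy =>
      have : a' * (x * y) * a'⁻¹ = (a' * x * a'⁻¹) * (a' * y * a'⁻¹) := by group
      rw [this]; exact W.mul_mem hx hy
    | inv x _ hx =>
      have : a' * x⁻¹ * a'⁻¹ = (a' * x * a'⁻¹)⁻¹ := by group
      rw [this]; exact W.inv_mem hx
  -- the subgroup Y
  let Y : Subgroup S :=
    { carrier := {g | (∀ w ∈ W, g * w * g⁻¹ ∈ W) ∧ (∀ w ∈ W, g⁻¹ * w * g ∈ W) ∧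
        (∀ r ∈ R, ⁅g, r⁆ ∈ W) ∧ (∀ r ∈ R, ⁅g⁻¹, r⁆ ∈ W)}
      one_mem' := by
        refine ⟨fun w hw => by simpa using hw, fun w hw => by simpa using hw,
          fun r _ => by simp, fun r _ => by simp⟩
      mul_mem' := by
        rintro g h ⟨hg1, hg2, hg3, hg4⟩ ⟨hh1, hh2, hh3, hh4⟩
        refine ⟨?_, ?_, ?_, ?_⟩
        · intro w hw
          have : g * h * w * (g * h)⁻¹ = g * (h * w * h⁻¹) * g⁻¹ := by group
          rw [this]; exact hg1 _ (hh1 w hw)
        · intro w hw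
          have : (g * h)⁻¹ * w * (g * h) = h⁻¹ * (g⁻¹ * w * g) * h := by group
          rw [this]; exact hh2 _ (hg2 w hw)
        · intro r hr
          have : ⁅g * h, r⁆ = (g * ⁅h, r⁆ * g⁻¹) * ⁅g, r⁆ := by
            simp only [commutatorElement_def]; group
          rw [this]; exact W.mul_mem (hg1 _ (hh3 r hr)) (hg3 r hr)
        · intro r hr
          have : ⁅(g * h)⁻¹, r⁆ = (h⁻¹ * ⁅g⁻¹, r⁆ * h) * ⁅h⁻¹, r⁆ := by
            simp only [commutatorElement_def]; group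
          rw [this]; exact W.mul_mem (hh2 _ (hg4 r hr)) (hh4 r hr)
      inv_mem' := by
        rintro g ⟨hg1, hg2, hg3, hg4⟩
        refine ⟨?_, ?_, hg4, ?_⟩
        · intro w hw
          have := hg2 w hw
          simpa using this
        · intro w hw
          have := hg1 w hw
          simpa using this
        · intro r hr
          rw [inv_inv]; exact hg3 r hr }
  have hYmem : ∀ g : S, g ∈ Y ↔ ((∀ w ∈ W, g * w * g⁻¹ ∈ W) ∧ (∀ w ∈ W, g⁻¹ * w * g ∈ W) ∧
        (∀ r ∈ R, ⁅g, r⁆ ∈ W) ∧ (∀ r ∈ R, ⁅g⁻¹, r⁆ ∈ W)) := fun g => Iff.rfl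
  have hAY : A ≤ Y := by
    intro a ha
    rw [hYmem]
    refine ⟨hAW a ha, ?_, ?_, ?_⟩
    · intro w hw
      have := hAW a⁻¹ (A.inv_mem ha) w hw
      simpa using this
    · intro r hr
      have : ⁅a, r⁆ = ⁅r, a⁆⁻¹ := by simp only [commutatorElement_def]; group
      rw [this]; exact W.inv_mem (hcommW r hr a ha)
    · intro r hr
      have : ⁅a⁻¹, r⁆ = ⁅r, a⁻¹⁆⁻¹ := by simp only [commutatorElement_def]; group
      rw [this]; exact W.inv_mem (hcommW r hr a⁻¹ (A.inv_mem ha))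
  have hQconj : ∀ q ∈ Q, ∀ w ∈ W, q * w * q⁻¹ = w := by
    intro q hq w hw
    rw [hQW w hw q hq]; group
  have hQY : ∀ q ∈ Q, ∀ g ∈ Y, q * g * q⁻¹ ∈ Y := by
    intro q hq g hg
    rw [hYmem] at hg ⊢
    obtain ⟨hg1, hg2, hg3, hg4⟩ := hg
    have hqi : ∀ w ∈ W, q⁻¹ * w * q = w := by
      intro w hw
      have := hQconj q⁻¹ (Q.inv_mem hq) w hw
      simpa using this
    refine ⟨?_, ?_, ?_, ?_⟩
    · intro w hw
      have : q * g * q⁻¹ * w * (q * g * q⁻¹)⁻¹ = q * (g * (q⁻¹ * w * q) * g⁻¹) * q⁻¹ := by group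
      rw [this, hqi w hw, hQconj q hq _ (hg1 w hw)]
      exact hg1 w hw
    · intro w hw
      have : (q * g * q⁻¹)⁻¹ * w * (q * g * q⁻¹) = q * (g⁻¹ * (q⁻¹ * w * q) * g) * q⁻¹ := by group
      rw [this, hqi w hw, hQconj q hq _ (hg2 w hw)]
      exact hg2 w hw
    · intro r hr
      have : ⁅q * g * q⁻¹, r⁆ = q * ⁅g, q⁻¹ * r * q⁆ * q⁻¹ := by
        simp only [commutatorElement_def]; group
      have hr' : q⁻¹ * r * q ∈ R := by
        have := hRn.conj_mem r hr q⁻¹
        simpa using this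
      rw [this, hQconj q hq _ (hg3 _ hr')]
      exact hg3 _ hr'
    · intro r hr
      have : ⁅(q * g * q⁻¹)⁻¹, r⁆ = q * ⁅g⁻¹, q⁻¹ * r * q⁆ * q⁻¹ := by
        simp only [commutatorElement_def]; group
      have hr' : q⁻¹ * r * q ∈ R := by
        have := hRn.conj_mem r hr q⁻¹
        simpa using this
      rw [this, hQconj q hq _ (hg4 _ hr')]
      exact hg4 _ hr'
  have hQleY : Q ≤ Y := by
    rw [← hAQ, Subgroup.commutator_le]
    intro a ha q hq
    have : ⁅a, q⁆ = a * (q * a⁻¹ * q⁻¹) := by simp only [commutatorElement_def]; group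
    rw [this]
    exact Y.mul_mem (hAY ha) (hQY q hq _ (Y.inv_mem (hAY ha)))
  -- Q centralizes R
  have hQR : Q ≤ Subgroup.centralizer (R : Set S) := by
    intro q hq
    rw [Subgroup.mem_centralizer_iff]
    intro r hr
    obtain ⟨w, hwdef⟩ : ∃ w : S, w = ⁅q, r⁆ := ⟨_, rfl⟩
    have hwW : w ∈ W := by rw [hwdef]; exact ((hYmem q).mp (hQleY hq)).2.2.1 r hr
    have hqr : q * r * q⁻¹ = w * r := by rw [hwdef, commutatorElement_def]; group
    have hqw : q * w = w * q := hQW w hwW q hq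
    have hpow : ∀ n : ℕ, q ^ n * r * (q ^ n)⁻¹ = w ^ n * r := by
      intro n
      induction n with
      | zero => simp
      | succ n ih =>
        have hqwn : q * w ^ n * q⁻¹ = w ^ n := by
          have h1 : Commute q w := hqw
          have h2 : q * w ^ n = w ^ n * q := h1.pow_right n
          rw [h2]; group
        calc q ^ (n + 1) * r * (q ^ (n + 1))⁻¹ = q * (q ^ n * r * (q ^ n)⁻¹) * q⁻¹ := by
              rw [pow_succ']; group
          _ = q * (w ^ n * r) * q⁻¹ := by rw [ih]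
          _ = (q * w ^ n * q⁻¹) * (q * r * q⁻¹) := by group
          _ = w ^ n * (w * r) := by rw [hqwn, hqr]
          _ = w ^ (n + 1) * r := by rw [pow_succ]; group
    have h1 := hpow (orderOf q)
    rw [pow_orderOf_eq_one] at h1
    have h2 : w ^ orderOf q = 1 := by
      have : r = w ^ orderOf q * r := by simpa using h1
      exact (mul_eq_right.mp this.symm)
    have h3 : orderOf w ∣ orderOf q := orderOf_dvd_of_pow_eq_one h2
    have h4 : orderOf q ∣ Nat.card Q := by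
      have := orderOf_dvd_natCard (⟨q, hq⟩ : Q)
      rwa [Subgroup.orderOf_mk] at this
    obtain ⟨j, hj⟩ := IsPGroup.iff_orderOf.mp hRp ⟨w, hWR hwW⟩
    rw [Subgroup.orderOf_mk] at hj
    have hQcop : (Nat.card Q).Coprime p := by
      rw [Nat.coprime_comm]; exact (Nat.Prime.coprime_iff_not_dvd hp).mpr hQ
    have h5 : (orderOf w).Coprime (orderOf w) := by
      apply Nat.Coprime.coprime_dvd_left (h3.trans h4)
      rw [hj]; exact Nat.Coprime.pow_right j hQcop
    rw [Nat.coprime_self] at h5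
    have hw1 : w = 1 := orderOf_eq_one_iff.mp h5
    rw [hw1, one_mul] at hqr
    calc r * q = (q * r * q⁻¹) * q := by rw [hqr]
      _ = q * r := by group
  -- contradiction
  apply hQ1
  have hQR' : Q ≤ R := hQR.trans hHH
  have hQcop : (Nat.card Q).Coprime p := by
    rw [Nat.coprime_comm]; exact (Nat.Prime.coprime_iff_not_dvd hp).mpr hQ
  have h1 : R ⊓ Q = ⊥ := Cfsg.Agent.Lib.Helper6.isPGroup_inf_coprime_eq_bot hQcop hRp
  rw [eq_bot_iff, ← h1]
  exact le_inf hQR' le_rfl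

end Cfsg.Agent.S1892
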