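import Mathlib
import Cfsg.Statements.S1894
import Cfsg.Agent.Lib.Lead.Nilpotent

set_option autoImplicit false
open Cfsg

namespace Cfsg.Agent.S1894

open Cfsg.Agent.Lib.Lead

/-- Let P be a finite p-group, A a normal subgroup of P and B an abelian subgroup of A that is normal in P. Then some subgroup C of A containing B is normal in P and is self-centralizing and normal in A (C ∈ SCN(A)). -/
theorem result {P : Type*} [Group P] [Finite P] {p : ℕ} [Fact p.Prime] (hP : IsPGroup p P)
    (A : Subgroup P) [A.Normal] (B : Subgroup P) [B.Normal] (hBA : B ≤ A) (hB : IsMulCommutative B) :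
    ∃ C : Subgroup P, C.Normal ∧ B ≤ C ∧ Cfsg.IsSCN A C := by
  haveI hnil : Group.IsNilpotent P := hP.isNilpotent
  have hfin : Set.Finite {C : Subgroup P | C.Normal ∧ IsMulCommutative C ∧ B ≤ C ∧ C ≤ A} :=
    Set.toFinite _
  have hne : Set.Nonempty {C : Subgroup P | C.Normal ∧ IsMulCommutative C ∧ B ≤ C ∧ C ≤ A} :=
    ⟨B, inferInstance, hB, le_rfl, hBA⟩
  obtain ⟨C, hCmax⟩ := hfin.exists_maximal hne
  obtain ⟨hCn, hCc, hBC, hCA⟩ := hCmax.prop
  haveI := hCn
  haveI := hCc
  refine ⟨C, hCn, hBC, hCA, ?_, ?_⟩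
  · rw [Subgroup.normalizer_eq_top]; exact le_top
  · set D := A ⊓ Subgroup.centralizer (C : Set P) with hD
    have hCD : C ≤ D := le_inf hCA (Subgroup.le_centralizer C)
    by_contra hne'
    have hlt : C < D := lt_of_le_of_ne hCD (Ne.symm hne')
    have hCentn : (Subgroup.centralizer (C : Set P)).Normal := Subgroup.normal_centralizer
    have hDn : D.Normal := inferInstance
    have hsurj := QuotientGroup.mk'_surjective C
    have hDbarN : (D.map (QuotientGroup.mk' C)).Normal := hDn.map _ hsurj
    have hDbar : D.map (QuotientGroup.mk' C) ≠ ⊥ := by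
      intro h
      rw [Subgroup.map_eq_bot_iff, QuotientGroup.ker_mk'] at h
      exact not_le_of_gt hlt h
    obtain ⟨⟨xbar, hx⟩, hx1⟩ :=
      (Subgroup.ne_bot_iff_exists_ne_one).mp (inf_center_ne_bot _ hDbar)
    obtain ⟨x, hxD, hxx⟩ := hx.1
    have hxc : (QuotientGroup.mk' C x) ∈ Subgroup.center (P ⧸ C) := hxx ▸ hx.2
    have hxC : x ∉ C := by
      intro h
      apply hx1
      apply Subtype.ext
      show xbar = 1
      rw [← hxx]
      exact (QuotientGroup.eq_one_iff x).mpr h
    have hM : C ⊔ Subgroup.zpowers x =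
        (Subgroup.zpowers (QuotientGroup.mk' C x)).comap (QuotientGroup.mk' C) := by
      rw [← MonoidHom.map_zpowers, Subgroup.comap_map_eq, QuotientGroup.ker_mk', sup_comm]
    have hMn : (C ⊔ Subgroup.zpowers x).Normal := by
      rw [hM]
      exact (zpowers_normal_of_mem_center hxc).comap _
    have hMc := sup_zpowers_comm C hxD.2
    have hMA : C ⊔ Subgroup.zpowers x ≤ A := sup_le hCA (Subgroup.zpowers_le.mpr hxD.1)
    have hle := hCmax.le_of_ge ⟨hMn, hMc, hBC.trans le_sup_left, hMA⟩ le_sup_left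
    exact hxC (hle (le_sup_right (a := C) (Subgroup.mem_zpowers x)))

end Cfsg.Agent.S1894
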