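import Cfsg.Statements.S1895
import Mathlib
import Cfsg.Agent.Lib.Helper4.PCh5
-- import your own Cfsg.Agent.* helpers here

set_option autoImplicit false
open Cfsg

namespace Cfsg.Agent.S1895

/-- Let p be an odd prime and G a finite p-solvable group with no elementary abelian subgroup of order p³. Then every chief factor H/K of G (H, K normal in G with no normal subgroup of G strictly between them) whose order is a power of p has order p or p². -/
theorem result {G : Type*} [Group G] [Finite G] {p : ℕ} [Fact p.Prime] (hp : p ≠ 2)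
    (hG : Cfsg.IsPSolvable p G) (hr : Cfsg.PRankLE p 2 G)
    (H K : Subgroup G) [H.Normal] [K.Normal] (hKH : K < H) (hpow : ∃ n : ℕ, K.relIndex H = p ^ n)
    (hchief : ∀ L : Subgroup G, L.Normal → K ≤ L → L ≤ H → L = K ∨ L = H) :
    K.relIndex H = p ∨ K.relIndex H = p ^ 2 := by
  classical
  obtain ⟨n, hn⟩ := hpow
  have P : Sylow p ↥H := default
  set S : Subgroup G := (P : Subgroup ↥H).map H.subtype with hSdef
  set N : Subgroup G := Subgroup.normalizer (S : Set G) with hNdef
  have hfrat : N ⊔ H = ⊤ := Sylow.normalizer_sup_eq_top P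
  have hSH : S ≤ H := Subgroup.map_subtype_le _
  have hSp : IsPGroup p ↥S := P.isPGroup'.map H.subtype
  -- the index of `S` in `H` is prime to `p`
  have hSsub : S.subgroupOf H = (P : Subgroup ↥H) := by
    ext x
    rw [Subgroup.mem_subgroupOf]
    constructor
    · rintro ⟨y, hy, hyx⟩
      have : y = x := Subtype.ext hyx
      rw [← this]; exact hy
    · intro hx
      exact ⟨x, hx, rfl⟩
  have hSidx : ¬ p ∣ S.relIndex H := by
    unfold Subgroup.relIndex
    rw [hSsub]
    exact P.not_dvd_index
  -- `S ⊔ K = H`
  have hSK : S ⊔ K = H := by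
    apply le_antisymm (sup_le hSH hKH.le)
    have h1 := Subgroup.relIndex_mul_relIndex K (S ⊔ K) H le_sup_right (sup_le hSH hKH.le)
    have h2 : (S ⊔ K).relIndex H ∣ S.relIndex H :=
      Subgroup.relIndex_dvd_of_le_left H le_sup_left
    have h3 : (S ⊔ K).relIndex H ∣ p ^ n := by
      rw [← hn, ← h1]; exact Dvd.intro_left _ rfl
    obtain ⟨j, -, hj⟩ := (Nat.dvd_prime_pow (Fact.out : p.Prime)).mp h3
    have hj0 : j = 0 := by
      by_contra hne
      apply hSidx
      refine dvd_trans ?_ h2
      rw [hj]
      exact dvd_pow_self p hne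
    rw [hj0, pow_zero] at hj
    exact Subgroup.relIndex_eq_one.mp hj
  -- the main lemma
  have hNK : N ≤ Subgroup.normalizer (((S ⊓ K : Subgroup G)) : Set G) := by
    refine le_trans (le_inf le_rfl ?_) Subgroup.inf_normalizer_le_normalizer_inf
    rw [Subgroup.normalizer_eq_top_iff.mpr (inferInstance : K.Normal)]
    exact le_top
  have hmain := Cfsg.Agent.Lib.Helper4.PCh.main hp hr N S (S ⊓ K) hSp Subgroup.le_normalizer le_rfl
    inf_le_left hNK ?_
  · have e : (S ⊓ K).relIndex S = K.relIndex H := by
      rw [Subgroup.inf_relIndex_left, ← Subgroup.relIndex_sup_right (K := K) (H := S), hSK]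
    rw [e, hn] at hmain
    have hn2 : n ≤ 2 := by
      by_contra hcon
      have h3 : 3 ≤ n := by omega
      have h4 : p ^ 3 ≤ p ^ n := Nat.pow_le_pow_right (Fact.out : p.Prime).pos h3
      have h5 : p ^ 2 < p ^ 3 := Nat.pow_lt_pow_right (Fact.out : p.Prime).one_lt (by norm_num)
      omega
    have hn0 : n ≠ 0 := by
      intro h0
      rw [h0, pow_zero] at hn
      exact hKH.not_ge (Subgroup.relIndex_eq_one.mp hn)
    rw [hn]
    have : n = 1 ∨ n = 2 := by omega
    rcases this with h | h
    · left; rw [h, pow_one]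
    · right; rw [h]
  · -- irreducibility
    intro L hL1 hL2 hNL
    have hKL : (K ⊔ L).Normal := by
      rw [← Subgroup.normalizer_eq_top_iff, eq_top_iff, ← hfrat]
      apply sup_le
      · apply Cfsg.Agent.Lib.Helper4.PCh.le_normalizer_sup'' _ hNL
        rw [Subgroup.normalizer_eq_top_iff.mpr (inferInstance : K.Normal)]
        exact le_top
      · rw [← hSK]
        apply sup_le
        · refine le_trans (Subgroup.le_normalizer (H := S)) ?_
          apply Cfsg.Agent.Lib.Helper4.PCh.le_normalizer_sup'' _ hNL
          rw [Subgroup.normalizer_eq_top_iff.mpr (inferInstance : K.Normal)]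
          exact le_top
        · exact le_trans le_sup_left Subgroup.le_normalizer
    rcases hchief (K ⊔ L) hKL le_sup_left (sup_le hKH.le (hL2.trans hSH)) with h | h
    · left
      apply le_antisymm _ hL1
      exact le_inf hL2 (by rw [← h]; exact le_sup_right)
    · right
      apply le_antisymm hL2
      intro x hx
      have hxH : x ∈ K ⊔ L := by rw [h]; exact hSH hx
      rw [← SetLike.mem_coe, Subgroup.normal_mul, Set.mem_mul] at hxH
      obtain ⟨k, hk, l, hl, rfl⟩ := hxH
      have hkS : k ∈ S := by
        have : k = (k * l) * l⁻¹ := by group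
        rw [this]; exact S.mul_mem hx (S.inv_mem (hL2 hl))
      exact L.mul_mem (hL1 ⟨hkS, hk⟩) hl

end Cfsg.Agent.S1895
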