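import Cfsg.Statements.S1897
import Cfsg.Agent.Lib.Helper5.L27U33b
import Cfsg.Agent.Lib.Helper1.SUCongr
import Cfsg.Agent.S0279

set_option autoImplicit false
open Cfsg

namespace Cfsg.Agent.S1897

open Cfsg.Agent.Lib.Helper5.L27U33 Cfsg.Agent.Lib.Helper1.U43

theorem center_eq_bot : Subgroup.center (Cfsg.SU 3 F9c 3) = ⊥ := by
  have h := Cfsg.Agent.S0279.result (F := F9c) (q := 3) F9c.card 3 le_rfl
  have h1 : Nat.gcd 3 (3 + 1) = 1 := by norm_num
  rw [h1] at h
  exact Subgroup.card_eq_one.1 h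

theorem mk_injective :
    Function.Injective (QuotientGroup.mk' (Subgroup.center (Cfsg.SU 3 F9c 3))) := by
  rw [← MonoidHom.ker_eq_bot_iff, QuotientGroup.ker_mk', center_eq_bot]


/-- The projective special unitary group PSU₃(3) (realised over the field with 9 elements) has a subgroup isomorphic to PSL₂(7). -/
theorem result {F : Type*} [Field F] [Fintype F] (hF : Fintype.card F = 9)
    {K : Type*} [Field K] [Fintype K] (hK : Fintype.card K = 7) :
    ∃ H : Subgroup (Cfsg.PSU 3 F 3), Nonempty (H ≃* Matrix.ProjectiveSpecialLinearGroup (Fin 2) K) := by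
  classical
  have e : F9c ≃+* F := FiniteField.ringEquivOfCardEq (by rw [F9c.card, hF]; norm_num)
  let Ψ : Cfsg.Agent.Lib.Helper5.L27U33.K →* Cfsg.PSU 3 F 3 :=
    (Cfsg.Agent.Lib.Helper1.SUCongr.psuCongr (n := 3) (q := 3) e).toMonoidHom.comp
      ((QuotientGroup.mk' (Subgroup.center (Cfsg.SU 3 F9c 3))).comp
        (Cfsg.Agent.Lib.Helper5.L27U33.K).subtype)
  have hΨ : Function.Injective Ψ := by
    intro x y hxy
    have h1 := (Cfsg.Agent.Lib.Helper1.SUCongr.psuCongr (n := 3) (q := 3) e).injective hxy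
    exact Subtype.ext (mk_injective h1)
  let H0 : Subgroup Cfsg.Agent.Lib.Helper5.L27U33.K := Subgroup.closure {kA, kB}
  have hmap : H0.map φ = G7 := by
    show (Subgroup.closure {kA, kB}).map φ = G7
    rw [MonoidHom.map_closure, Set.image_pair, φ_kA, φ_kB]
    rfl
  obtain ⟨e7⟩ := G7_iso hK
  refine ⟨H0.map Ψ, ⟨?_⟩⟩
  exact ((H0.equivMapOfInjective Ψ hΨ).symm.trans
    ((H0.equivMapOfInjective φ φ_injective).trans (MulEquiv.subgroupCongr hmap))).trans e7

end Cfsg.Agent.S1897
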