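import Mathlib
import Cfsg.Statements.S1898
import Cfsg.Agent.Lib.Helper4.OmegaGen
import Cfsg.Agent.Lib.Lead.OmegaAut
-- import your own Cfsg.Agent.* helpers here

set_option autoImplicit false
open Cfsg
open scoped Pointwise commutatorElement
open Cfsg.Agent.Lib.Helper4 Cfsg.Agent.Lib.Lead

namespace Cfsg.Agent.S1898

/-- Let X be a finite 2-group whose derived subgroup is elementary abelian and central. Then the subgroup generated by the elements of order dividing 4 has exponent dividing 4, and every automorphism of X fixing each element of order dividing 4 has 2-power order. -/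
theorem result {X : Type*} [Group X] [Finite X] (hX : IsPGroup 2 X)
    (hel : Cfsg.IsElementaryAbelian 2 (commutator X)) (hcen : commutator X ≤ Subgroup.center X) :
    (∀ x ∈ Subgroup.closure {g : X | g ^ 4 = 1}, x ^ 4 = 1) ∧
      ∀ φ : MulAut X, (∀ g : X, g ^ 4 = 1 → φ g = g) → ∃ k : ℕ, φ ^ (2 ^ k) = 1 := by
  classical
  have hcomm_mem : ∀ a b : X, ⁅a, b⁆ ∈ commutator X := by
    intro a b
    rw [commutator_def]
    exact Subgroup.commutator_mem_commutator (Subgroup.mem_top a) (Subgroup.mem_top b)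
  have hc : ∀ a b : X, ⁅a, b⁆ ∈ Subgroup.center X := fun a b => hcen (hcomm_mem a b)
  have hc2 : ∀ a b : X, ⁅a, b⁆ ^ 2 = 1 := fun a b => hel.2 _ (hcomm_mem a b)
  have hsq : ∀ x : X, x ^ 2 ∈ Subgroup.center X := by
    intro x
    rw [Subgroup.mem_center_iff]
    intro y
    have h1 : ⁅x, y⁆ * y = y * ⁅x, y⁆ := (Subgroup.mem_center_iff.mp (hc x y) y).symm
    have h2 : x * y = ⁅x, y⁆ * y * x := by rw [commutatorElement_def]; group
    have h0 : ∀ z : X, ⁅x, y⁆ * z = z * ⁅x, y⁆ := fun z => (Subgroup.mem_center_iff.mp (hc x y) z).symm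
    have h3 : ⁅x, y⁆ * ⁅x, y⁆ = 1 := by rw [← pow_two]; exact hc2 x y
    calc y * x ^ 2 = y * x * x := by rw [pow_two]; group
      _ = (⁅x, y⁆ * ⁅x, y⁆) * (y * x * x) := by rw [h3, one_mul]
      _ = ⁅x, y⁆ * (⁅x, y⁆ * y * x) * x := by group
      _ = ⁅x, y⁆ * (x * y) * x := by rw [← h2]
      _ = x * (⁅x, y⁆ * y * x) := by rw [h0 (x * y), h1]; simp only [mul_assoc]
      _ = x * (x * y) := by rw [← h2]
      _ = x ^ 2 * y := by rw [pow_two]; group
  have hA : ∀ x ∈ Subgroup.closure {g : X | g ^ 4 = 1}, x ^ 4 = 1 := by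
    intro x hx
    induction hx using Subgroup.closure_induction with
    | mem g hg => exact hg
    | one => simp
    | mul u v _ _ hu hv => rw [mul_pow_four_of_central hc hsq, hu, hv, one_mul]
    | inv u _ hu => rw [inv_pow, hu, inv_one]
  refine ⟨hA, ?_⟩
  intro φ hφ
  have : Finite (MulAut X) := Finite.of_injective (fun a : MulAut X => (a : X → X))
    (fun a b h => MulEquiv.ext (congrFun h))
  have hord : orderOf φ ≠ 0 := (orderOf_pos φ).ne'
  obtain ⟨k, m, hm, hkm⟩ := Nat.exists_eq_two_pow_mul_odd hord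
  refine ⟨k, ?_⟩
  obtain ⟨ψ, hψdef⟩ : ∃ ψ : MulAut X, ψ = φ ^ (2 ^ k) := ⟨_, rfl⟩
  rw [← hψdef]
  have hψm : ψ ^ m = 1 := by
    rw [hψdef, ← pow_mul, ← hkm]; exact pow_orderOf_eq_one φ
  have hmcop : m.Coprime 2 := Nat.Coprime.symm (Nat.coprime_two_left.mpr hm)
  have hφpow : ∀ n : ℕ, ∀ g : X, g ^ 4 = 1 → (φ ^ n) g = g := by
    intro n
    induction n with
    | zero => intro g _; simp
    | succ n ih =>
      intro g hg
      rw [pow_succ, MulAut.mul_apply, hφ g hg, ih g hg]
  have hψfix : ∀ g : X, g ^ 4 = 1 → ψ g = g := by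
    intro g hg; rw [hψdef]; exact hφpow _ g hg
  have hmain : ∀ n : ℕ, ∀ x : X, x ^ (2 ^ n) = 1 → ψ x = x := by
    intro n
    induction n with
    | zero =>
      intro x hx
      apply hψfix
      have : x = 1 := by simpa using hx
      rw [this]; simp
    | succ n ih =>
      intro x hx
      have hx2 : ψ (x ^ 2) = x ^ 2 := by
        apply ih
        rw [← pow_mul, ← pow_succ']; exact hx
      obtain ⟨c, hcdef⟩ : ∃ c : X, c = x⁻¹ * ψ x := ⟨_, rfl⟩
      have hψx : ψ x = x * c := by rw [hcdef]; group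
      have h1 : (x * c) * (x * c) = x * x := by
        rw [← hψx, ← map_mul, ← pow_two, hx2, pow_two]
      have h2 : c * x * c = x := by
        have : x * (c * x * c) = x * x := by rw [← h1]; group
        exact mul_left_cancel this
      have h3 : ⁅c, x⁆ = c ^ 2 := by
        rw [commutatorElement_def, pow_two]
        have : x * c⁻¹ * x⁻¹ = c := by
          have h4 : x = c * x * c := h2.symm
          calc x * c⁻¹ * x⁻¹ = (c * x * c) * c⁻¹ * x⁻¹ := by rw [← h4]
            _ = c := by group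
        calc c * x * c⁻¹ * x⁻¹ = c * (x * c⁻¹ * x⁻¹) := by group
          _ = c * c := by rw [this]
      have hc4 : c ^ 4 = 1 := by
        have : c ^ 4 = (c ^ 2) ^ 2 := by rw [← pow_mul]
        rw [this, ← h3]; exact hc2 c x
      have hψc : ψ c = c := hψfix c hc4
      have hc1 : c = 1 := eq_one_of_aut_pow (p := 2) ψ m hψm hmcop x c hψx hψc ⟨2, by simpa using hc4⟩
      rw [hψx, hc1, mul_one]
  apply MulEquiv.ext
  intro x
  obtain ⟨n, hn⟩ := hX x
  rw [MulAut.one_apply]
  exact hmain n x hn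

end Cfsg.Agent.S1898
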