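import Mathlib
import Cfsg.Statements.S1899

set_option autoImplicit false
open Cfsg

namespace Cfsg.Agent.S1899

variable {A : Type*} [CommGroup A]

theorem mulMap_injective (H K : Subgroup A) (h : H ⊓ K = ⊥) :
    Function.Injective (fun p : H × K => (p.1 : A) * (p.2 : A)) := by
  rintro ⟨x, y⟩ ⟨x', y'⟩ hxy
  simp only at hxy
  have h1 : (x' : A)⁻¹ * x = y' * (y : A)⁻¹ := by
    have : (x : A) = x' * y' * (y : A)⁻¹ := by rw [← hxy]; group
    rw [this]; group
  have h2 : (x' : A)⁻¹ * x ∈ H ⊓ K := by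
    refine ⟨H.mul_mem (H.inv_mem x'.2) x.2, ?_⟩
    rw [h1]; exact K.mul_mem y'.2 (K.inv_mem y.2)
  rw [h, Subgroup.mem_bot] at h2
  have hx : (x : A) = x' := by
    have := congrArg (fun z => (x' : A) * z) h2
    simpa using this
  have hy : (y : A) = y' := by
    rw [hx] at hxy
    exact mul_left_cancel hxy
  exact Prod.ext (Subtype.ext hx) (Subtype.ext hy)

theorem card_mul_le [Finite A] (H K : Subgroup A) (h : H ⊓ K = ⊥) :
    Nat.card H * Nat.card K ≤ Nat.card A := by
  rw [← Nat.card_prod]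
  exact Nat.card_le_card_of_injective _ (mulMap_injective H K h)

theorem sup_eq_top_of_card [Finite A] (H K : Subgroup A) (h : H ⊓ K = ⊥)
    (hc : Nat.card A ≤ Nat.card H * Nat.card K) : H ⊔ K = ⊤ := by
  rw [← Nat.card_prod] at hc
  have hb := (mulMap_injective H K h).bijective_of_nat_card_le hc
  rw [eq_top_iff]
  intro a _
  obtain ⟨⟨x, y⟩, rfl⟩ := hb.2 a
  exact Subgroup.mul_mem_sup x.2 y.2

/-- if `e^n = 1` with `n` odd, fixed points of `e^2` are fixed points of `e` -/
theorem fixed_of_sq_fixed {n : ℕ} (hn : Odd n) (e : MulAut A) (he : e ^ n = 1) (a : A)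
    (h : e (e a) = a) : e a = a := by
  obtain ⟨m, rfl⟩ := hn
  have h2 : ∀ k : ℕ, (e ^ (2 * k)) a = a := by
    intro k
    induction k with
    | zero => simp
    | succ k ih =>
      have : e ^ (2 * (k + 1)) = e ^ (2 * k) * (e * e) := by
        rw [mul_add, mul_one, pow_add, pow_two]
      rw [this, MulAut.mul_apply, MulAut.mul_apply, h, ih]
  have h3 : e ^ (2 * (m + 1)) = e := by
    have : 2 * (m + 1) = (2 * m + 1) + 1 := by ring
    rw [this, pow_succ, he, one_mul]
  have := h2 (m + 1)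
  rw [h3] at this
  exact this

/-- Let a dihedral group of order 2n, n odd and n > 1, act on a finite abelian 2-group A through automorphisms d and t with d^n = 1, t² = 1 and t d t⁻¹ = d⁻¹, and suppose that d fixes only the identity. Then A is the internal direct product of C_A(t) and its image under d. -/
theorem result {A : Type*} [CommGroup A] [Finite A] (hA : IsPGroup 2 A)
    {n : ℕ} (hn : Odd n) (hn1 : 1 < n) (d t : MulAut A) (hd : d ^ n = 1) (ht : t ^ 2 = 1) (hdt : t * d * t⁻¹ = d⁻¹)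
    (hfix : ∀ a : A, d a = a → a = 1) :
    (MulEquiv.toMonoidHom t).eqLocus (MonoidHom.id A) ⊓ ((MulEquiv.toMonoidHom t).eqLocus (MonoidHom.id A)).map d.toMonoidHom = ⊥ ∧
      (MulEquiv.toMonoidHom t).eqLocus (MonoidHom.id A) ⊔ ((MulEquiv.toMonoidHom t).eqLocus (MonoidHom.id A)).map d.toMonoidHom = ⊤ := by
  -- basic identities
  have F1 : ∀ a, t (t a) = a := by
    intro a
    have := congrArg (fun f : MulAut A => f a) ht
    simpa [pow_two, MulAut.mul_apply] using this
  have F2 : ∀ a, t (d a) = d⁻¹ (t a) := by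
    intro a
    have h1 : t * d = d⁻¹ * t := by
      rw [← hdt]; group
    have := congrArg (fun f : MulAut A => f a) h1
    simpa [MulAut.mul_apply] using this
  have F2' : ∀ a, t (d⁻¹ a) = d (t a) := by
    intro a
    have h1 : t * d⁻¹ = d * t := by
      have : d = (t * d * t⁻¹)⁻¹ := by rw [hdt, inv_inv]
      calc t * d⁻¹ = (t * d * t⁻¹)⁻¹ * t := by group
        _ = d * t := by rw [← this]
    have := congrArg (fun f : MulAut A => f a) h1
    simpa [MulAut.mul_apply] using this
  have Fdd : ∀ a, d (d⁻¹ a) = a := fun a => by simp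
  have Fdd' : ∀ a, d⁻¹ (d a) = a := fun a => by simp
  have F3 : ∀ a, d (d a) = a → a = 1 := fun a h => hfix a (fixed_of_sq_fixed hn d hd a h)
  have hd2 : (d * d) ^ n = 1 := by
    rw [← pow_two, ← pow_mul, mul_comm, pow_mul, hd, one_pow]
  have F4 : ∀ a, d (d (d (d a))) = a → a = 1 := by
    intro a h
    apply F3
    have := fixed_of_sq_fixed hn (d * d) hd2 a (by simpa [MulAut.mul_apply] using h)
    simpa [MulAut.mul_apply] using this
  have memC : ∀ a, a ∈ (MulEquiv.toMonoidHom t).eqLocus (MonoidHom.id A) ↔ t a = a := fun a => Iff.rfl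
  -- Step 1
  have h1 : (MulEquiv.toMonoidHom t).eqLocus (MonoidHom.id A) ⊓
      ((MulEquiv.toMonoidHom t).eqLocus (MonoidHom.id A)).map d.toMonoidHom = ⊥ := by
    rw [eq_bot_iff]
    intro a ha
    rw [Subgroup.mem_inf, Subgroup.mem_map] at ha
    obtain ⟨ha, c, hc, rfl⟩ := ha
    rw [memC] at ha hc
    change t (d c) = d c at ha
    rw [F2, hc] at ha
    have : d (d c) = c := by rw [← ha, Fdd]
    rw [Subgroup.mem_bot, F3 c this]
    exact map_one _
  refine ⟨h1, ?_⟩
  -- the subgroup I of inverted elements, as kernel of φ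
  let φ : A →* A := MonoidHom.id A * t.toMonoidHom
  have hφ : ∀ a, φ a = a * t a := fun a => rfl
  have hker : ∀ a, a ∈ φ.ker ↔ t a = a⁻¹ := by
    intro a
    rw [MonoidHom.mem_ker, hφ, mul_eq_one_iff_eq_inv']
  have hrange : φ.range ≤ (MulEquiv.toMonoidHom t).eqLocus (MonoidHom.id A) := by
    rintro _ ⟨a, rfl⟩
    rw [memC, hφ, map_mul, F1, mul_comm]
  have hcard1 : Nat.card A ≤ Nat.card φ.ker * Nat.card ((MulEquiv.toMonoidHom t).eqLocus (MonoidHom.id A)) := by
    have := Subgroup.card_mul_index φ.ker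
    rw [Subgroup.index_ker] at this
    rw [← this]
    exact Nat.mul_le_mul_left _ (Subgroup.card_le_of_le hrange)
  -- Step 3
  have h3 : φ.ker ⊓ ((MulEquiv.toMonoidHom t).eqLocus (MonoidHom.id A)).map d.toMonoidHom = ⊥ := by
    rw [eq_bot_iff]
    intro a ha
    rw [Subgroup.mem_inf, Subgroup.mem_map] at ha
    obtain ⟨ha, c, hc, rfl⟩ := ha
    rw [hker] at ha
    rw [memC] at hc
    change t (d c) = (d c)⁻¹ at ha
    rw [F2, hc] at ha
    -- d⁻¹ c = (d c)⁻¹
    have e1 : c = d ((d c)⁻¹) := by rw [← ha, Fdd]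
    have e2 : d (d c) = c⁻¹ := by
      rw [map_inv] at e1
      exact inv_eq_iff_eq_inv.mp e1.symm
    have e3 : d (d (d (d c))) = c := by rw [e2, map_inv, map_inv, e2, inv_inv]
    rw [Subgroup.mem_bot, F4 c e3]
    exact map_one _
  have hdinj : Function.Injective d.toMonoidHom := d.injective
  have hcardD : Nat.card (((MulEquiv.toMonoidHom t).eqLocus (MonoidHom.id A)).map d.toMonoidHom) =
      Nat.card ((MulEquiv.toMonoidHom t).eqLocus (MonoidHom.id A)) :=
    Subgroup.card_map_of_injective hdinj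
  have hcard2 : Nat.card φ.ker * Nat.card ((MulEquiv.toMonoidHom t).eqLocus (MonoidHom.id A)) ≤ Nat.card A := by
    rw [← hcardD]; exact card_mul_le _ _ h3
  -- Step 4: δ
  let δ : A →* A := d.toMonoidHom / (d⁻¹).toMonoidHom
  have hδ : ∀ a, δ a = d a / d⁻¹ a := fun a => rfl
  have hδinj : Function.Injective δ := by
    rw [injective_iff_map_eq_one]
    intro a ha
    rw [hδ, div_eq_one] at ha
    apply F3
    rw [ha, Fdd]
  have hδC : ((MulEquiv.toMonoidHom t).eqLocus (MonoidHom.id A)).map δ ≤ φ.ker := by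
    intro x hx
    rw [Subgroup.mem_map] at hx
    obtain ⟨a, ha, rfl⟩ := hx
    rw [memC] at ha
    rw [hker, hδ, map_div, F2, F2', ha, inv_div]
  have hδI : φ.ker.map δ ≤ (MulEquiv.toMonoidHom t).eqLocus (MonoidHom.id A) := by
    intro x hx
    rw [Subgroup.mem_map] at hx
    obtain ⟨a, ha, rfl⟩ := hx
    rw [hker] at ha
    rw [memC, hδ, map_div, F2, F2', ha, map_inv, map_inv, inv_div_inv]
  have hle1 : Nat.card ((MulEquiv.toMonoidHom t).eqLocus (MonoidHom.id A)) ≤ Nat.card φ.ker := by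
    rw [← Subgroup.card_map_of_injective (f := δ) (K := (MulEquiv.toMonoidHom t).eqLocus (MonoidHom.id A)) hδinj]
    exact Subgroup.card_le_of_le hδC
  have hle2 : Nat.card φ.ker ≤ Nat.card ((MulEquiv.toMonoidHom t).eqLocus (MonoidHom.id A)) := by
    rw [← Subgroup.card_map_of_injective (f := δ) (K := φ.ker) hδinj]
    exact Subgroup.card_le_of_le hδI
  have heq : Nat.card φ.ker = Nat.card ((MulEquiv.toMonoidHom t).eqLocus (MonoidHom.id A)) :=
    le_antisymm hle2 hle1
  apply sup_eq_top_of_card _ _ h1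
  rw [hcardD]
  rw [heq] at hcard1
  exact hcard1

end Cfsg.Agent.S1899
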