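import Mathlib
import Cfsg.Statements.S1900
import Cfsg.Agent.Lib.Helper4.FpfCommStep
import Cfsg.Agent.Lib.Helper4.SmallFusion
import Cfsg.Agent.Lib.Lead.GenCentralizers
import Cfsg.Agent.Lib.Lead.CoprimeAction3
-- import your own Cfsg.Agent.* helpers here

set_option autoImplicit false
open Cfsg
open scoped Pointwise commutatorElement
open Cfsg.Agent.Lib.Helper4

namespace Cfsg.Agent.S1900


theorem mem_centralizer_zpowers {G : Type*} [Group G] {g a : G} (h : a * g = g * a) :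
    g ∈ Subgroup.centralizer ((Subgroup.zpowers a : Subgroup G) : Set G) := by
  rw [Subgroup.mem_centralizer_iff]
  intro y hy
  obtain ⟨k, rfl⟩ := Subgroup.mem_zpowers_iff.mp hy
  have h1 : Commute a g := h
  exact (h1.zpow_left k)

theorem zpowers_eq_of_card_prime {G : Type*} [Group G] [Finite G] {q : ℕ} (hq : q.Prime) {X : Subgroup G}
    (hX : Nat.card X = q) {a : G} (ha : a ∈ X) (ha1 : a ≠ 1) : Subgroup.zpowers a = X := by
  have hle : Subgroup.zpowers a ≤ X := Subgroup.zpowers_le.mpr ha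
  apply Subgroup.eq_of_le_of_card_ge hle
  rw [hX, Nat.card_zpowers]
  have h1 : orderOf a ∣ q := by
    have := orderOf_dvd_natCard (⟨a, ha⟩ : X)
    rwa [Subgroup.orderOf_mk, hX] at this
  rcases (Nat.dvd_prime hq).mp h1 with h | h
  · exact absurd (orderOf_eq_one_iff.mp h) ha1
  · rw [h]

/-- Let S = PQ be a finite group with P a normal Sylow p-subgroup and Q elementary abelian of order q², q a prime different from p. If exactly two subgroups X₁, X₂ of order q in Q have a nontrivial centralizer in P, then P is the internal direct product of C_P(X₁) and C_P(X₂): they commute elementwise, meet trivially and generate P. -/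
theorem result {S : Type*} [Group S] [Finite S] {p q : ℕ} [Fact p.Prime] [Fact q.Prime] (hpq : p ≠ q)
    (P : Sylow p S) [(P : Subgroup S).Normal] (Q : Subgroup S) (hQ : Cfsg.IsElementaryAbelian q Q) (hQc : Nat.card Q = q ^ 2)
    (hS : (P : Subgroup S) ⊔ Q = ⊤)
    (X₁ X₂ : Subgroup S) (h₁ : X₁ ≤ Q) (h₂ : X₂ ≤ Q) (h₁₂ : X₁ ≠ X₂) (hc₁ : Nat.card X₁ = q) (hc₂ : Nat.card X₂ = q)
    (hf₁ : (P : Subgroup S) ⊓ Subgroup.centralizer (X₁ : Set S) ≠ ⊥)
    (hf₂ : (P : Subgroup S) ⊓ Subgroup.centralizer (X₂ : Set S) ≠ ⊥)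
    (honly : ∀ X : Subgroup S, X ≤ Q → Nat.card X = q →
      (P : Subgroup S) ⊓ Subgroup.centralizer (X : Set S) ≠ ⊥ → X = X₁ ∨ X = X₂) :
    ⁅(P : Subgroup S) ⊓ Subgroup.centralizer (X₁ : Set S), (P : Subgroup S) ⊓ Subgroup.centralizer (X₂ : Set S)⁆ = ⊥ ∧
      ((P : Subgroup S) ⊓ Subgroup.centralizer (X₁ : Set S)) ⊓ ((P : Subgroup S) ⊓ Subgroup.centralizer (X₂ : Set S)) = ⊥ ∧
      ((P : Subgroup S) ⊓ Subgroup.centralizer (X₁ : Set S)) ⊔ ((P : Subgroup S) ⊓ Subgroup.centralizer (X₂ : Set S)) = P := by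
  classical
  have hp : p.Prime := Fact.out
  have hq : q.Prime := Fact.out
  obtain ⟨Pg, hPg⟩ : ∃ Pg : Subgroup S, Pg = (P : Subgroup S) := ⟨_, rfl⟩
  rw [← hPg] at hS hf₁ hf₂ honly ⊢
  haveI hPn : Pg.Normal := by rw [hPg]; infer_instance
  have hPp : IsPGroup p Pg := by rw [hPg]; exact P.isPGroup'
  have hQab : ∀ x ∈ Q, ∀ y ∈ Q, x * y = y * x := by
    intro x hx y hy
    have := hQ.1.is_comm.comm (⟨x, hx⟩ : Q) ⟨y, hy⟩
    exact congrArg Subtype.val this
  haveI hQcomm : IsMulCommutative Q := hQ.1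
  -- generators
  have hX₁ne : X₁ ≠ ⊥ := by
    intro h; rw [h, Subgroup.card_bot] at hc₁; exact hq.one_lt.ne hc₁
  have hX₂ne : X₂ ≠ ⊥ := by
    intro h; rw [h, Subgroup.card_bot] at hc₂; exact hq.one_lt.ne hc₂
  obtain ⟨a₁, ha₁, ha₁1⟩ : ∃ a₁ : S, a₁ ∈ X₁ ∧ a₁ ≠ 1 := by
    obtain ⟨a, ha⟩ := (Subgroup.ne_bot_iff_exists_ne_one (H := X₁)).mp hX₁ne
    exact ⟨(a : S), a.2, fun h => ha (Subtype.ext h)⟩
  obtain ⟨a₂, ha₂, ha₂1⟩ : ∃ a₂ : S, a₂ ∈ X₂ ∧ a₂ ≠ 1 := by
    obtain ⟨a, ha⟩ := (Subgroup.ne_bot_iff_exists_ne_one (H := X₂)).mp hX₂ne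
    exact ⟨(a : S), a.2, fun h => ha (Subtype.ext h)⟩
  have hz₁ : Subgroup.zpowers a₁ = X₁ := zpowers_eq_of_card_prime hq hc₁ ha₁ ha₁1
  have hz₂ : Subgroup.zpowers a₂ = X₂ := zpowers_eq_of_card_prime hq hc₂ ha₂ ha₂1
  have ha₁Q : a₁ ∈ Q := h₁ ha₁
  have ha₂Q : a₂ ∈ Q := h₂ ha₂
  have ha₂X₁ : a₂ ∉ X₁ := by
    intro h
    apply h₁₂
    have h1 : X₂ ≤ X₁ := by rw [← hz₂]; exact Subgroup.zpowers_le.mpr h
    exact (Subgroup.eq_of_le_of_card_ge h1 (by rw [hc₁, hc₂])).symm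
  have ha₁X₂ : a₁ ∉ X₂ := by
    intro h
    apply h₁₂
    have h1 : X₁ ≤ X₂ := by rw [← hz₁]; exact Subgroup.zpowers_le.mpr h
    exact Subgroup.eq_of_le_of_card_ge h1 (by rw [hc₁, hc₂])
  -- the third subgroup
  have ha₃1 : a₁ * a₂ ≠ 1 := by
    intro h
    apply ha₂X₁
    have : a₂ = a₁⁻¹ := by
      have : a₂ = a₁⁻¹ * (a₁ * a₂) := by group
      rw [this, h, mul_one]
    rw [this]; exact X₁.inv_mem ha₁
  have ha₃Q : a₁ * a₂ ∈ Q := Q.mul_mem ha₁Q ha₂Q
  have hc₃ : Nat.card (Subgroup.zpowers (a₁ * a₂)) = q := by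
    rw [Nat.card_zpowers]
    have h1 : orderOf (a₁ * a₂) ∣ q := orderOf_dvd_of_pow_eq_one (hQ.2 _ ha₃Q)
    rcases (Nat.dvd_prime hq).mp h1 with h | h
    · exact absurd (orderOf_eq_one_iff.mp h) ha₃1
    · exact h
  have hP₃ : Pg ⊓ Subgroup.centralizer ((Subgroup.zpowers (a₁ * a₂) : Subgroup S) : Set S) = ⊥ := by
    by_contra hne
    rcases honly _ (Subgroup.zpowers_le.mpr ha₃Q) hc₃ hne with h | h
    · apply ha₂X₁
      have h1 : a₁ * a₂ ∈ X₁ := by rw [← h]; exact Subgroup.mem_zpowers _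
      have : a₂ = a₁⁻¹ * (a₁ * a₂) := by group
      rw [this]; exact X₁.mul_mem (X₁.inv_mem ha₁) h1
    · apply ha₁X₂
      have h1 : a₁ * a₂ ∈ X₂ := by rw [← h]; exact Subgroup.mem_zpowers _
      have : a₁ = (a₁ * a₂) * a₂⁻¹ := by group
      rw [this]; exact X₂.mul_mem h1 (X₂.inv_mem ha₂)
  have hfix : ∀ g ∈ Pg, a₁ * g = g * a₁ → a₂ * g = g * a₂ → g = 1 := by
    intro g hg h1 h2
    have h3 : g ∈ Pg ⊓ Subgroup.centralizer ((Subgroup.zpowers (a₁ * a₂) : Subgroup S) : Set S) := by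
      refine Subgroup.mem_inf.mpr ⟨hg, mem_centralizer_zpowers ?_⟩
      calc a₁ * a₂ * g = a₁ * (a₂ * g) := by group
        _ = a₁ * (g * a₂) := by rw [h2]
        _ = (a₁ * g) * a₂ := by group
        _ = g * a₁ * a₂ := by rw [h1]
        _ = g * (a₁ * a₂) := by group
    rw [hP₃, Subgroup.mem_bot] at h3
    exact h3
  obtain ⟨P₁, hP₁def⟩ : ∃ P₁ : Subgroup S, P₁ = Pg ⊓ Subgroup.centralizer (X₁ : Set S) := ⟨_, rfl⟩
  obtain ⟨P₂, hP₂def⟩ : ∃ P₂ : Subgroup S, P₂ = Pg ⊓ Subgroup.centralizer (X₂ : Set S) := ⟨_, rfl⟩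
  rw [← hP₁def, ← hP₂def]
  have hP₁a : ∀ g ∈ P₁, a₁ * g = g * a₁ := by
    intro g hg
    rw [hP₁def] at hg
    exact Subgroup.mem_centralizer_iff.mp hg.2 a₁ ha₁
  have hP₂a : ∀ g ∈ P₂, a₂ * g = g * a₂ := by
    intro g hg
    rw [hP₂def] at hg
    exact Subgroup.mem_centralizer_iff.mp hg.2 a₂ ha₂
  have hP₁P : P₁ ≤ Pg := by rw [hP₁def]; exact inf_le_left
  have hP₂P : P₂ ≤ Pg := by rw [hP₂def]; exact inf_le_left
  -- Q normalizes centralizers of its subgroups
  have hQcent : ∀ (X : Subgroup S), X ≤ Q → ∀ u ∈ Q, ∀ g ∈ Subgroup.centralizer (X : Set S),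
      u * g * u⁻¹ ∈ Subgroup.centralizer (X : Set S) := by
    intro X hXQ u hu g hg
    rw [Subgroup.mem_centralizer_iff] at hg ⊢
    intro x hx
    have h1 := hQab u hu x (hXQ hx)
    have h2 := hg x hx
    calc x * (u * g * u⁻¹) = (x * u) * g * u⁻¹ := by group
      _ = (u * x) * g * u⁻¹ := by rw [h1]
      _ = u * (x * g) * u⁻¹ := by group
      _ = u * (g * x) * u⁻¹ := by rw [h2]
      _ = u * g * (x * u⁻¹) := by group
      _ = u * g * (u⁻¹ * x) := by
          have h3 : x * u⁻¹ = u⁻¹ * x := by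
            have : x * u⁻¹ = u⁻¹ * (u * x) * u⁻¹ := by group
            rw [this, h1]; group
          rw [h3]
      _ = u * g * u⁻¹ * x := by group
  have hQP₁ : ∀ u ∈ Q, ∀ g ∈ P₁, u * g * u⁻¹ ∈ P₁ := by
    intro u hu g hg
    rw [hP₁def] at hg ⊢
    exact Subgroup.mem_inf.mpr ⟨hPn.conj_mem g hg.1 u, hQcent X₁ h₁ u hu g hg.2⟩
  have hQP₂ : ∀ u ∈ Q, ∀ g ∈ P₂, u * g * u⁻¹ ∈ P₂ := by
    intro u hu g hg
    rw [hP₂def] at hg ⊢
    exact Subgroup.mem_inf.mpr ⟨hPn.conj_mem g hg.1 u, hQcent X₂ h₂ u hu g hg.2⟩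
  -- Q is not cyclic
  have hQnc : ¬ IsCyclic Q := by
    intro hcyc
    obtain ⟨g, hg⟩ := IsCyclic.exists_ofOrder_eq_natCard (α := Q)
    have h1 : g ^ q = 1 := Subtype.ext (by simpa using hQ.2 g g.2)
    have h2 : orderOf g ∣ q := orderOf_dvd_of_pow_eq_one h1
    rw [hg, hQc] at h2
    have h3 : q ^ 2 ≤ q := Nat.le_of_dvd hq.pos h2
    have h4 : 2 ≤ q := hq.two_le
    nlinarith
  -- generation
  have hcopQ : ∀ N : Subgroup S, N ≤ Pg → (Nat.card Q).Coprime (Nat.card N) := by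
    intro N hN
    obtain ⟨k, hk⟩ := IsPGroup.iff_card.mp (hPp.to_le hN)
    rw [hQc, hk]
    apply Nat.Coprime.pow
    exact (Nat.coprime_primes hq hp).mpr (Ne.symm hpq)
  have hgen : ∀ N : Subgroup S, N ≤ Pg → Q ≤ Subgroup.normalizer (N : Set S) →
      N ≤ (N ⊓ Subgroup.centralizer (X₁ : Set S)) ⊔ (N ⊓ Subgroup.centralizer (X₂ : Set S)) := by
    intro N hNP hQN
    have h1 := Cfsg.Agent.Lib.Lead.generated_by_centralizers Q N hQnc hQN (hcopQ N hNP)
    conv_lhs => rw [← h1]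
    refine iSup₂_le ?_
    intro a ha
    by_cases hbot : N ⊓ Subgroup.centralizer ({a} : Set S) = ⊥
    · rw [hbot]; exact bot_le
    · have haQ : a ∈ Q := ha.1
      have ha1 : a ≠ 1 := ha.2
      have hle : N ⊓ Subgroup.centralizer ({a} : Set S) ≤
          N ⊓ Subgroup.centralizer ((Subgroup.zpowers a : Subgroup S) : Set S) := by
        intro g hg
        refine Subgroup.mem_inf.mpr ⟨hg.1, mem_centralizer_zpowers ?_⟩
        exact Subgroup.mem_centralizer_iff.mp hg.2 a (Set.mem_singleton a)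
      have hcz : Nat.card (Subgroup.zpowers a) = q := by
        rw [Nat.card_zpowers]
        have h2 : orderOf a ∣ q := orderOf_dvd_of_pow_eq_one (hQ.2 _ haQ)
        rcases (Nat.dvd_prime hq).mp h2 with h | h
        · exact absurd (orderOf_eq_one_iff.mp h) ha1
        · exact h
      have hne : Pg ⊓ Subgroup.centralizer ((Subgroup.zpowers a : Subgroup S) : Set S) ≠ ⊥ := by
        intro h
        apply hbot
        rw [eq_bot_iff, ← h]
        exact hle.trans (inf_le_inf_right _ hNP)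
      rcases honly _ (Subgroup.zpowers_le.mpr haQ) hcz hne with h | h
      · rw [h] at hle; exact hle.trans le_sup_left
      · rw [h] at hle; exact hle.trans le_sup_right
  have hQP : Q ≤ Subgroup.normalizer (Pg : Set S) := by
    rw [Subgroup.normalizer_eq_top]; exact le_top
  -- the induction
  have hind : ∀ n : ℕ, ∀ N : Subgroup S, Nat.card N = n → N.Normal → N ≤ Pg →
      (∀ a ∈ P₁, ∀ b ∈ P₂, ⁅a, b⁆ ∈ N) → ∀ a ∈ P₁, ∀ b ∈ P₂, ⁅a, b⁆ = 1 := by
    intro n
    induction n using Nat.strong_induction_on with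
    | _ n ih =>
    intro N hn hNn hNP hcomm
    by_cases hNbot : N = ⊥
    · intro a ha b hb
      have := hcomm a ha b hb
      rw [hNbot, Subgroup.mem_bot] at this
      exact this
    haveI := hNn
    have hNp : IsPGroup p N := hPp.to_le hNP
    obtain ⟨M, hMdef⟩ : ∃ M : Subgroup S, M = ⁅N, Pg⁆ := ⟨_, rfl⟩
    haveI hMn : M.Normal := by rw [hMdef]; exact Subgroup.commutator_normal N Pg
    have hMN : M ≤ N := by rw [hMdef]; exact Subgroup.commutator_le_left N Pg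
    have hMne : M ≠ N := by
      rw [hMdef]
      exact Cfsg.Agent.Lib.Lead.commutator_ne_of_pgroups p N Pg hNp hPp
        (by rw [Subgroup.normalizer_eq_top]; exact le_top) hNbot
    have hMlt : Nat.card M < Nat.card N := by
      by_contra hge
      push Not at hge
      exact hMne (Subgroup.eq_of_le_of_card_ge hMN hge)
    obtain ⟨N₁, hN₁def⟩ : ∃ N₁ : Subgroup S, N₁ = N ⊓ Subgroup.centralizer (X₁ : Set S) := ⟨_, rfl⟩
    obtain ⟨N₂, hN₂def⟩ : ∃ N₂ : Subgroup S, N₂ = N ⊓ Subgroup.centralizer (X₂ : Set S) := ⟨_, rfl⟩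
    have hNgen : N ≤ N₁ ⊔ N₂ := by
      rw [hN₁def, hN₂def]
      exact hgen N hNP (by rw [Subgroup.normalizer_eq_top]; exact le_top)
    obtain ⟨N', hN'def⟩ : ∃ N' : Subgroup S, N' = M ⊔ N₂ := ⟨_, rfl⟩
    have hN₂N : N₂ ≤ N := by rw [hN₂def]; exact inf_le_left
    have hN'N : N' ≤ N := by rw [hN'def]; exact sup_le hMN hN₂N
    have hN₂N' : N₂ ≤ N' := by rw [hN'def]; exact le_sup_right
    have hMN' : M ≤ N' := by rw [hN'def]; exact le_sup_left
    haveI hN'n : N'.Normal := by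
      rw [← Subgroup.normalizer_eq_top_iff, eq_top_iff, ← hS]
      refine sup_le ?_ ?_
      · apply le_normalizer_of_conj_mem
        intro g hg y hy
        rw [hN'def] at hy
        obtain ⟨m, hm, c, hc, rfl⟩ := Subgroup.mem_sup_of_normal_left.mp hy
        have h1 : g * (m * c) * g⁻¹ = (g * m * g⁻¹) * (⁅g, c⁆ * c) := by
          rw [commutatorElement_def]; group
        rw [h1]
        refine N'.mul_mem (hMN' (hMn.conj_mem m hm g)) (N'.mul_mem (hMN' ?_) (hN₂N' hc))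
        have h2 : ⁅g, c⁆ = ⁅c, g⁆⁻¹ := by simp only [commutatorElement_def]; group
        rw [h2, hMdef]
        exact Subgroup.inv_mem _ (Subgroup.commutator_mem_commutator (hN₂N hc) hg)
      · apply le_normalizer_of_conj_mem
        intro u hu y hy
        rw [hN'def] at hy
        obtain ⟨m, hm, c, hc, rfl⟩ := Subgroup.mem_sup_of_normal_left.mp hy
        have h1 : u * (m * c) * u⁻¹ = (u * m * u⁻¹) * (u * c * u⁻¹) := by group
        rw [h1]
        refine N'.mul_mem (hMN' (hMn.conj_mem m hm u)) (hN₂N' ?_)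
        rw [hN₂def] at hc ⊢
        exact Subgroup.mem_inf.mpr ⟨hNn.conj_mem c hc.1 u, hQcent X₂ h₂ u hu c hc.2⟩
    by_cases hN'eq : N' = N
    · -- X₂ acts trivially on N / M
      have hstep := fpf_comm_step N M P₂ P₁ a₂
        (by
          intro b hb a ha
          have : ⁅b, a⁆ = ⁅a, b⁆⁻¹ := by simp only [commutatorElement_def]; group
          rw [this]; exact N.inv_mem (hcomm a ha b hb))
        (fun n _ m hm => hMn.conj_mem m hm n)
        (fun b _ m hm => hMn.conj_mem m hm b)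
        hP₂a
        (fun a ha => hQP₁ a₂ ha₂Q a ha)
        (by
          intro n hn
          rw [← hN'eq, hN'def] at hn
          obtain ⟨m, hm, c, hc, rfl⟩ := Subgroup.mem_sup_of_normal_left.mp hn
          have hca : a₂ * c = c * a₂ := by
            rw [hN₂def] at hc
            exact Subgroup.mem_centralizer_iff.mp hc.2 a₂ ha₂
          have h1 : a₂ * (m * c) * a₂⁻¹ * (m * c)⁻¹ = (a₂ * m * a₂⁻¹) * ((a₂ * c) * a₂⁻¹ * c⁻¹) * m⁻¹ := by
            group
          rw [h1, hca]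
          have h2 : c * a₂ * a₂⁻¹ * c⁻¹ = 1 := by group
          rw [h2, mul_one]
          exact M.mul_mem (hMn.conj_mem m hm a₂) (M.inv_mem hm))
        (by
          intro a ha hfx
          apply hfix a (hP₁P ha) (hP₁a a ha)
          calc a₂ * a = (a₂ * a * a₂⁻¹) * a₂ := by group
            _ = a * a₂ := by rw [hfx])
      apply ih (Nat.card M) (by rw [← hn]; exact hMlt) M rfl hMn (hMN.trans hNP)
      intro a ha b hb
      have : ⁅a, b⁆ = ⁅b, a⁆⁻¹ := by simp only [commutatorElement_def]; group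
      rw [this]; exact M.inv_mem (hstep b hb a ha)
    · -- X₁ acts trivially on N / N'
      have hN'lt : Nat.card N' < Nat.card N := by
        by_contra hge
        push Not at hge
        exact hN'eq (Subgroup.eq_of_le_of_card_ge hN'N hge)
      have hstep := fpf_comm_step N N' P₁ P₂ a₁ hcomm
        (fun n _ m hm => hN'n.conj_mem m hm n)
        (fun b _ m hm => hN'n.conj_mem m hm b)
        hP₁a
        (fun b hb => hQP₂ a₁ ha₁Q b hb)
        (by
          intro n hn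
          have hn' : n ∈ N₁ ⊔ N' := (sup_le_sup_left hN₂N' N₁) (hNgen hn)
          obtain ⟨c, hc, m, hm, rfl⟩ := Subgroup.mem_sup_of_normal_right.mp hn'
          have hca : a₁ * c = c * a₁ := by
            rw [hN₁def] at hc
            exact Subgroup.mem_centralizer_iff.mp hc.2 a₁ ha₁
          have h1 : a₁ * (c * m) * a₁⁻¹ * (c * m)⁻¹ = (a₁ * c) * (a₁⁻¹ * (a₁ * m * a₁⁻¹ * m⁻¹) * a₁) * a₁⁻¹ * c⁻¹ := by
            group
          rw [h1, hca]
          have h2 : c * a₁ * (a₁⁻¹ * (a₁ * m * a₁⁻¹ * m⁻¹) * a₁) * a₁⁻¹ * c⁻¹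
              = c * (a₁ * m * a₁⁻¹ * m⁻¹) * c⁻¹ := by group
          rw [h2]
          exact hN'n.conj_mem _ (N'.mul_mem (hN'n.conj_mem m hm a₁) (N'.inv_mem hm)) c)
        (by
          intro b hb hfx
          apply hfix b (hP₂P hb) ?_ (hP₂a b hb)
          calc a₁ * b = (a₁ * b * a₁⁻¹) * a₁ := by group
            _ = b * a₁ := by rw [hfx])
      exact ih (Nat.card N') (by rw [← hn]; exact hN'lt) N' rfl hN'n (hN'N.trans hNP) hstep
  refine ⟨?_, ?_, ?_⟩
  · rw [eq_bot_iff, Subgroup.commutator_le]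
    intro a ha b hb
    rw [Subgroup.mem_bot]
    refine hind _ Pg rfl hPn le_rfl ?_ a ha b hb
    intro a' ha' b' hb'
    rw [commutatorElement_def]
    exact Pg.mul_mem (Pg.mul_mem (Pg.mul_mem (hP₁P ha') (hP₂P hb')) (Pg.inv_mem (hP₁P ha')))
      (Pg.inv_mem (hP₂P hb'))
  · rw [eq_bot_iff]
    intro g hg
    rw [Subgroup.mem_bot]
    exact hfix g (hP₁P hg.1) (hP₁a g hg.1) (hP₂a g hg.2)
  · apply le_antisymm (sup_le hP₁P hP₂P)
    have := hgen Pg le_rfl hQP
    rw [← hP₁def, ← hP₂def] at this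
    exact this

end Cfsg.Agent.S1900
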