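import Mathlib
import Cfsg.Statements.S1901
import Cfsg.Agent.Lib.Helper7.PSolvable
import Cfsg.Agent.Lib.Helper4.FusionLift2
import Cfsg.Agent.Lib.Helper6.PPrimeCore
-- import your own Cfsg.Agent.* helpers here

set_option autoImplicit false
open Cfsg
open scoped Pointwise
open Cfsg.Agent.Lib.Helper4 Cfsg.Agent.Lib.Helper7

namespace Cfsg.Agent.S1901


universe u

/-- if `x⁻¹ q x = q c` with `x c = c x`, `x` a `p`-element and `c` a `p'`-element then `c = 1` -/
theorem comm_trivial_aux {G : Type*} [Group G] {p : ℕ} [Fact p.Prime] {x q c : G} {k : ℕ}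
    (hx : orderOf x = p ^ k) (hqc : x⁻¹ * q * x = q * c) (hxc : x * c = c * x)
    (hc : (orderOf c).Coprime p) : c = 1 := by
  have hpow : ∀ n : ℕ, (x ^ n)⁻¹ * q * x ^ n = q * c ^ n := by
    intro n
    induction n with
    | zero => simp
    | succ n ih =>
      have hcomm : ∀ m : ℕ, x⁻¹ * c ^ m * x = c ^ m := by
        intro m
        have h1 : Commute x c := hxc
        have h2 : Commute x (c ^ m) := h1.pow_right m
        have h3 : x * c ^ m = c ^ m * x := h2
        calc x⁻¹ * c ^ m * x = x⁻¹ * (c ^ m * x) := by group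
          _ = x⁻¹ * (x * c ^ m) := by rw [h3]
          _ = c ^ m := by group
      calc (x ^ (n + 1))⁻¹ * q * x ^ (n + 1) = x⁻¹ * ((x ^ n)⁻¹ * q * x ^ n) * x := by
            rw [pow_succ]; group
        _ = x⁻¹ * (q * c ^ n) * x := by rw [ih]
        _ = (x⁻¹ * q * x) * (x⁻¹ * c ^ n * x) := by group
        _ = q * c * c ^ n := by rw [hqc, hcomm n]
        _ = q * c ^ (n + 1) := by rw [pow_succ']; group
  have h1 := hpow (p ^ k)
  rw [← hx, pow_orderOf_eq_one] at h1
  have h2 : c ^ orderOf x = 1 := by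
    have : q = q * c ^ orderOf x := by simpa using h1
    exact (mul_eq_left.mp this.symm)
  have h3 : orderOf c ∣ p ^ k := by rw [← hx]; exact orderOf_dvd_of_pow_eq_one h2
  have h4 : (orderOf c).Coprime (orderOf c) :=
    Nat.Coprime.coprime_dvd_right h3 (Nat.Coprime.pow_right k hc)
  rw [Nat.coprime_self] at h4
  exact orderOf_eq_one_iff.mp h4

theorem main_aux (p : ℕ) [hp : Fact p.Prime] (n : ℕ) :
    ∀ (G : Type u) [Group G] [Finite G], Nat.card G = n → Cfsg.IsPSolvable p G →
      ∀ (P : Sylow p G) (Q : Subgroup G), (Nat.card Q).Coprime p →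
        Q ≤ Subgroup.normalizer ((P : Subgroup G) : Set G) →
        ∀ x ∈ Subgroup.normalizer (Q : Set G), (∃ k : ℕ, orderOf x = p ^ k) →
          x ∈ Subgroup.centralizer (Q : Set G) := by
  induction n using Nat.strong_induction_on with
  | _ n ih =>
    intro G _ _ hn hG P Q hQ hQP x hxQ hxp
    rcases subsingleton_or_nontrivial G with hs | hnt
    · have : x = 1 := Subsingleton.elim _ _
      rw [this]; exact Subgroup.one_mem _
    obtain ⟨N, hNn, hNne, hN⟩ := exists_normal_of_isPSolvable hG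
    haveI := hNn
    have hlt : Nat.card (G ⧸ N) < n := by
      have h1 := Cfsg.Agent.Lib.Lead.card_quotient_mul N
      have h2 : 1 < Nat.card N := by
        have hnt : Nontrivial N := (Subgroup.nontrivial_iff_ne_bot N).mpr hNne
        exact Finite.one_lt_card
      have h3 : 0 < Nat.card (G ⧸ N) := Nat.card_pos
      rw [← hn, ← h1]
      nlinarith
    obtain ⟨k, hk⟩ := hxp
    have hπs : Function.Surjective (QuotientGroup.mk' N) := QuotientGroup.mk'_surjective N
    -- the quotient
    have hquot : QuotientGroup.mk' N x ∈ Subgroup.centralizer ((Q.map (QuotientGroup.mk' N) : Subgroup (G ⧸ N)) : Set (G ⧸ N)) := by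
      apply ih _ hlt (G ⧸ N) rfl (isPSolvable_quotient hG N) (P.mapSurjective hπs) (Q.map (QuotientGroup.mk' N))
      · exact Nat.Coprime.coprime_dvd_left (Subgroup.card_map_dvd _ _) hQ
      · rw [Sylow.coe_mapSurjective]
        exact (Subgroup.map_mono hQP).trans (Subgroup.le_normalizer_map _)
      · exact Subgroup.le_normalizer_map _ ⟨x, hxQ, rfl⟩
      · have h1 : orderOf (QuotientGroup.mk' N x) ∣ p ^ k := by
          rw [← hk]; exact orderOf_map_dvd _ x
        obtain ⟨j, -, hj⟩ := (Nat.dvd_prime_pow hp.out).mp h1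
        exact ⟨j, hj⟩
    -- commutators lie in N ∩ Q
    have hcomm : ∀ q ∈ Q, q⁻¹ * (x⁻¹ * q * x) ∈ Q ⊓ N := by
      intro q hq
      refine Subgroup.mem_inf.mpr ⟨?_, ?_⟩
      · have h1 : x⁻¹ * q * x⁻¹⁻¹ ∈ Q := (Subgroup.mem_normalizer_iff.mp (Subgroup.inv_mem _ hxQ) q).mp hq
        rw [inv_inv] at h1
        exact Q.mul_mem (Q.inv_mem hq) h1
      · have h1 := Subgroup.mem_centralizer_iff.mp hquot (QuotientGroup.mk' N q) ⟨q, hq, rfl⟩
        rw [← QuotientGroup.eq_one_iff, ← QuotientGroup.mk'_apply]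
        simp only [map_mul, map_inv]
        rw [mul_assoc, h1]
        group
    -- it suffices that the commutators are trivial
    suffices hsuff : ∀ q ∈ Q, q⁻¹ * (x⁻¹ * q * x) = 1 by
      rw [Subgroup.mem_centralizer_iff]
      intro q hq
      have h1 := hsuff q hq
      have h2 : x⁻¹ * q * x = q := by
        have : x⁻¹ * q * x = q * (q⁻¹ * (x⁻¹ * q * x)) := by group
        rw [this, h1, mul_one]
      calc q * x = x * (x⁻¹ * q * x) := by group
        _ = x * q := by rw [h2]
    rcases hN with ⟨m, hm⟩ | hcop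
    · -- N is a p-group
      intro q hq
      have hNp : IsPGroup p N := IsPGroup.of_card hm
      have h1 : N ⊓ Q = ⊥ := Cfsg.Agent.Lib.Helper6.isPGroup_inf_coprime_eq_bot hQ hNp
      have h2 := hcomm q hq
      rw [inf_comm, h1, Subgroup.mem_bot] at h2
      exact h2
    · -- N is a p'-group
      obtain ⟨Q₀, hQ₀def⟩ : ∃ Q₀ : Subgroup G, Q₀ = Q ⊓ N := ⟨_, rfl⟩
      have hPN : (P : Subgroup G) ⊓ N = ⊥ :=
        Cfsg.Agent.Lib.Helper6.isPGroup_inf_coprime_eq_bot hcop P.isPGroup'
      have hQ₀P : (P : Subgroup G) ≤ Subgroup.centralizer (Q₀ : Set G) := by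
        intro g hg
        rw [Subgroup.mem_centralizer_iff]
        intro u hu
        rw [hQ₀def] at hu
        have huP : u ∈ Subgroup.normalizer ((P : Subgroup G) : Set G) := hQP hu.1
        have h1 : u * g * u⁻¹ ∈ (P : Subgroup G) := (Subgroup.mem_normalizer_iff.mp huP g).mp hg
        have h2 : u * g * u⁻¹ * g⁻¹ ∈ (P : Subgroup G) ⊓ N := by
          refine Subgroup.mem_inf.mpr ⟨Subgroup.mul_mem _ h1 (Subgroup.inv_mem _ hg), ?_⟩
          have : u * g * u⁻¹ * g⁻¹ = u * (g * u⁻¹ * g⁻¹) := by group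
          rw [this]
          exact N.mul_mem hu.2 (hNn.conj_mem _ (N.inv_mem hu.2) g)
        rw [hPN, Subgroup.mem_bot] at h2
        have : u * g = (u * g * u⁻¹ * g⁻¹) * (g * u) := by group
        rw [this, h2, one_mul]
      have hxQ₀ : x ∈ Subgroup.normalizer (Q₀ : Set G) := by
        have h1 : Subgroup.zpowers x ≤ Subgroup.normalizer (Q₀ : Set G) := by
          apply le_normalizer_of_conj_mem
          intro y hy u hu
          rw [hQ₀def] at hu ⊢
          have hyQ : y ∈ Subgroup.normalizer (Q : Set G) := (Subgroup.zpowers_le.mpr hxQ) hy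
          exact Subgroup.mem_inf.mpr ⟨(Subgroup.mem_normalizer_iff.mp hyQ u).mp hu.1, hNn.conj_mem u hu.2 y⟩
        exact h1 (Subgroup.mem_zpowers x)
      have hPsyl : SylIn p (Subgroup.normalizer (Q₀ : Set G)) (P : Subgroup G) := by
        refine ⟨hQ₀P.trans (Subgroup.centralizer_le_normalizer _), P.isPGroup', ?_⟩
        intro hdvd
        exact P.not_dvd_index (hdvd.trans (Subgroup.relIndex_dvd_index_of_le
          (hQ₀P.trans (Subgroup.centralizer_le_normalizer _))))
      have hxzp : IsPGroup p (Subgroup.zpowers x) := by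
        apply IsPGroup.of_card (n := k)
        rw [Nat.card_zpowers, hk]
      obtain ⟨c, hc, hcx⟩ := hPsyl.exists_conj_le (Subgroup.zpowers_le.mpr hxQ₀) hxzp
      have h1 : c * x * c⁻¹ ∈ Subgroup.centralizer (Q₀ : Set G) :=
        hQ₀P (hcx ⟨x, Subgroup.mem_zpowers x, rfl⟩)
      have h2 := centralizer_conj_mem (Subgroup.inv_mem _ hc) h1
      have h3 : c⁻¹ * (c * x * c⁻¹) * c⁻¹⁻¹ = x := by group
      rw [h3] at h2
      intro q hq
      have hcq := hcomm q hq
      rw [← hQ₀def] at hcq
      apply comm_trivial_aux (x := x) (q := q) hk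
      · group
      · exact (Subgroup.mem_centralizer_iff.mp h2 _ hcq).symm
      · have h4 : orderOf (q⁻¹ * (x⁻¹ * q * x)) ∣ Nat.card Q := by
          rw [hQ₀def] at hcq
          have := orderOf_dvd_natCard (⟨_, hcq.1⟩ : Q)
          rwa [Subgroup.orderOf_mk] at this
        exact Nat.Coprime.coprime_dvd_left h4 hQ

/-- Let G be a finite p-solvable group and Q a subgroup of order prime to p such that p divides the index of C_G(Q) in N_G(Q). Then Q normalizes no Sylow p-subgroup of G. -/
theorem result {G : Type*} [Group G] [Finite G] {p : ℕ} [Fact p.Prime]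
    (hG : Cfsg.IsPSolvable p G) (Q : Subgroup G) (hQ : ¬ p ∣ Nat.card Q)
    (hA : p ∣ (Subgroup.centralizer (Q : Set G)).relIndex (Subgroup.normalizer (Q : Set G)))
    (P : Sylow p G) : ¬ Q ≤ Subgroup.normalizer ((P : Subgroup G) : Set G) := by
  intro hQP
  have hp : p.Prime := Fact.out
  have hQcop : (Nat.card Q).Coprime p := by
    rw [Nat.coprime_comm]; exact (Nat.Prime.coprime_iff_not_dvd hp).mpr hQ
  have hmain := main_aux p _ G rfl hG P Q hQcop hQP
  obtain ⟨S, -, hS⟩ := exists_sylIn_ge (p := p) (bot_le : (⊥ : Subgroup G) ≤ Subgroup.normalizer (Q : Set G))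
    IsPGroup.of_bot
  have hSC : S ≤ Subgroup.centralizer (Q : Set G) := by
    intro s hs
    apply hmain s (hS.1 hs)
    obtain ⟨k, hk⟩ := IsPGroup.iff_orderOf.mp hS.2.1 ⟨s, hs⟩
    rw [Subgroup.orderOf_mk] at hk
    exact ⟨k, hk⟩
  apply hS.2.2
  exact hA.trans (Subgroup.relIndex_dvd_of_le_left _ hSC)

end Cfsg.Agent.S1901
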