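import Mathlib
import Cfsg.Statements.S1907
import Cfsg.Agent.Lib.Helper4.CoprimeConj
import Cfsg.Agent.Lib.Helper4.FusionLift2
import Cfsg.Agent.Lib.Lead.Core
-- import your own Cfsg.Agent.* helpers here

set_option autoImplicit false
open Cfsg
open scoped Pointwise
open Cfsg.Agent.Lib.Helper4 Cfsg.Agent.Lib.Helper7

namespace Cfsg.Agent.S1907

/-- Let P be a Sylow p-subgroup of a finite group G, H = P ∩ O_{p',p}(G), N = N_G(H) and D = O_{p'}(G). (a) If y is an element of p-power order of N and d ∈ D with d⁻¹ y d ∈ N, then d = d₁ d₂ with d₁ ∈ C_D(y) and d₂ ∈ C_D(H). (b) Two elements of P that are conjugate in G are conjugate in N. -/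
theorem result {G : Type*} [Group G] [Finite G] {p : ℕ} [Fact p.Prime] (P : Sylow p G) :
    (∀ y ∈ Subgroup.normalizer (((P : Subgroup G) ⊓ Cfsg.pPrimePCore p G : Subgroup G) : Set G), (∃ k : ℕ, orderOf y = p ^ k) →
      ∀ d ∈ Cfsg.pPrimeCore p G, d⁻¹ * y * d ∈ Subgroup.normalizer (((P : Subgroup G) ⊓ Cfsg.pPrimePCore p G : Subgroup G) : Set G) →
        ∃ d₁ ∈ Cfsg.pPrimeCore p G ⊓ Subgroup.centralizer ({y} : Set G),
          ∃ d₂ ∈ Cfsg.pPrimeCore p G ⊓ Subgroup.centralizer (((P : Subgroup G) ⊓ Cfsg.pPrimePCore p G : Subgroup G) : Set G), d = d₁ * d₂) ∧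
    ∀ x y : G, x ∈ (P : Subgroup G) → y ∈ (P : Subgroup G) → IsConj x y →
      ∃ n ∈ Subgroup.normalizer (((P : Subgroup G) ⊓ Cfsg.pPrimePCore p G : Subgroup G) : Set G), n * x * n⁻¹ = y := by
  classical
  have hp : p.Prime := Fact.out
  obtain ⟨D, hDdef⟩ : ∃ D : Subgroup G, D = Cfsg.pPrimeCore p G := ⟨_, rfl⟩
  haveI hDn : D.Normal := by rw [hDdef]; exact (Cfsg.Agent.Lib.Helper6.pPrimeCore_mem_set p).1
  have hDcop : (Nat.card D).Coprime p := by rw [hDdef]; exact Cfsg.Agent.Lib.Helper6.pPrimeCore_coprime p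
  obtain ⟨K, hKdef⟩ : ∃ K : Subgroup G, K = Cfsg.pPrimePCore p G := ⟨_, rfl⟩
  have hKmem : ∀ x : G, x ∈ K ↔ (QuotientGroup.mk' D x) ∈ Cfsg.pCore p (G ⧸ D) := by
    intro x
    subst hDdef
    subst hKdef
    exact Iff.rfl
  haveI hQn : (Cfsg.pCore p (G ⧸ D)).Normal := Cfsg.Agent.Lib.Lead.pCore_normal p
  have hQp : IsPGroup p (Cfsg.pCore p (G ⧸ D)) := Cfsg.Agent.Lib.Lead.pCore_isPGroup p
  have hKconj : ∀ k ∈ K, ∀ g : G, g * k * g⁻¹ ∈ K := by
    intro k hk g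
    rw [hKmem] at hk ⊢
    rw [map_mul, map_mul, map_inv]
    exact hQn.conj_mem _ hk _
  have hDK : D ≤ K := by
    intro d hd
    rw [hKmem]
    have : QuotientGroup.mk' D d = 1 := by
      rw [QuotientGroup.mk'_apply, QuotientGroup.eq_one_iff]; exact hd
    rw [this]; exact Subgroup.one_mem _
  rw [← hDdef, ← hKdef]
  obtain ⟨H, hHdef⟩ : ∃ H : Subgroup G, H = (P : Subgroup G) ⊓ K := ⟨_, rfl⟩
  rw [← hHdef]
  have hHP : H ≤ (P : Subgroup G) := by rw [hHdef]; exact inf_le_left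
  have hHK : H ≤ K := by rw [hHdef]; exact inf_le_right
  have hHp : IsPGroup p H := P.isPGroup'.to_le hHP
  have hKnorm : (⊤ : Subgroup G) ≤ Subgroup.normalizer (K : Set G) := by
    apply le_normalizer_of_conj_mem
    intro g _ k hk
    exact hKconj k hk g
  have hPtop : SylIn p (⊤ : Subgroup G) (P : Subgroup G) := by
    refine ⟨le_top, P.isPGroup', ?_⟩
    rw [Subgroup.relIndex_top_right]
    exact P.not_dvd_index
  have hHsyl : SylIn p K H := by
    rw [hHdef]; exact sylIn_inf_normal le_top hKnorm hPtop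
  have hPN : (P : Subgroup G) ≤ Subgroup.normalizer (H : Set G) := by
    apply le_normalizer_of_conj_mem
    intro x hx h hh
    rw [hHdef] at hh ⊢
    exact Subgroup.mem_inf.mpr ⟨Subgroup.mul_mem _ (Subgroup.mul_mem _ hx hh.1) (Subgroup.inv_mem _ hx),
      hKconj h hh.2 x⟩
  -- D ∩ H = 1
  have hDH : H ⊓ D = ⊥ := Cfsg.Agent.Lib.Helper6.isPGroup_inf_coprime_eq_bot hDcop hHp
  -- N_D(H) = C_D(H)
  obtain ⟨E, hEdef⟩ : ∃ E : Subgroup G, E = D ⊓ Subgroup.centralizer (H : Set G) := ⟨_, rfl⟩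
  have hED : E ≤ D := by rw [hEdef]; exact inf_le_left
  have hEcop : (Nat.card E).Coprime p :=
    Nat.Coprime.coprime_dvd_left (Subgroup.card_dvd_of_le hED) hDcop
  have hDNE : ∀ a ∈ D, a ∈ Subgroup.normalizer (H : Set G) → a ∈ E := by
    intro a haD haN
    rw [hEdef]
    refine Subgroup.mem_inf.mpr ⟨haD, ?_⟩
    rw [Subgroup.mem_centralizer_iff]
    intro h hh
    have h1 : a * h * a⁻¹ ∈ H := (Subgroup.mem_normalizer_iff.mp haN h).mp hh
    have h2 : a * h * a⁻¹ * h⁻¹ ∈ H ⊓ D := by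
      refine Subgroup.mem_inf.mpr ⟨H.mul_mem h1 (H.inv_mem hh), ?_⟩
      have : a * h * a⁻¹ * h⁻¹ = a * (h * a⁻¹ * h⁻¹) := by group
      rw [this]
      exact D.mul_mem haD (hDn.conj_mem _ (D.inv_mem haD) h)
    rw [hDH, Subgroup.mem_bot] at h2
    have : a * h = (a * h * a⁻¹ * h⁻¹) * (h * a) := by group
    rw [this, h2, one_mul]
  have hNE : Subgroup.normalizer (H : Set G) ≤ Subgroup.normalizer (E : Set G) := by
    apply le_normalizer_of_conj_mem
    intro n hn a ha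
    rw [hEdef] at ha ⊢
    exact Subgroup.mem_inf.mpr ⟨hDn.conj_mem a ha.1 n, centralizer_conj_mem hn ha.2⟩
  -- part (a)
  have hA : ∀ y ∈ Subgroup.normalizer (H : Set G), (∃ k : ℕ, orderOf y = p ^ k) →
      ∀ d ∈ D, d⁻¹ * y * d ∈ Subgroup.normalizer (H : Set G) →
        ∃ d₁ ∈ D ⊓ Subgroup.centralizer ({y} : Set G),
          ∃ d₂ ∈ D ⊓ Subgroup.centralizer (H : Set G), d = d₁ * d₂ := by
    intro y hyN hyp d hdD hy₁N
    obtain ⟨k, hk⟩ := hyp
    have hyzp : IsPGroup p (Subgroup.zpowers y) := by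
      apply IsPGroup.of_card (n := k)
      rw [Nat.card_zpowers, hk]
    have hy₁zp : IsPGroup p (Subgroup.zpowers (d⁻¹ * y * d)) := by
      apply IsPGroup.of_card (n := k)
      rw [Nat.card_zpowers]
      have : d⁻¹ * y * d = MulAut.conj d⁻¹ y := by simp [MulAut.conj_apply]
      rw [this, MulEquiv.orderOf_eq, hk]
    have he₀ : y⁻¹ * (d⁻¹ * y * d) ∈ E := by
      apply hDNE
      · have : y⁻¹ * (d⁻¹ * y * d) = (y⁻¹ * d⁻¹ * y⁻¹⁻¹) * d := by group
        rw [this]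
        exact D.mul_mem (hDn.conj_mem _ (D.inv_mem hdD) _) hdD
      · exact Subgroup.mul_mem _ (Subgroup.inv_mem _ hyN) hy₁N
    obtain ⟨e, he, hey⟩ := coprime_conj_of_mem_coset hEcop (hNE hyN) hyzp hy₁zp he₀
    refine ⟨d * e, Subgroup.mem_inf.mpr ⟨D.mul_mem hdD (hED he), ?_⟩, e⁻¹, ?_, by group⟩
    · rw [Subgroup.mem_centralizer_iff]
      intro h hh
      rw [Set.mem_singleton_iff] at hh
      rw [hh]
      have h1 : d * e * y = d * (e * y * e⁻¹) * e := by group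
      rw [h1, hey]; group
    · rw [← hEdef]; exact E.inv_mem he
  refine ⟨hA, ?_⟩
  -- part (b)
  intro x y' hxP hy'P hconj
  obtain ⟨g, hg⟩ := isConj_iff.mp hconj
  -- p'-elements of K lie in D
  have hp'K : ∀ v ∈ K, (orderOf v).Coprime p → v ∈ D := by
    intro v hv hcop
    rw [hKmem] at hv
    obtain ⟨j, hj⟩ := IsPGroup.iff_orderOf.mp hQp ⟨_, hv⟩
    rw [Subgroup.orderOf_mk] at hj
    have h1 : orderOf (QuotientGroup.mk' D v) ∣ orderOf v := orderOf_map_dvd _ v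
    have h2 : (orderOf (QuotientGroup.mk' D v)).Coprime (orderOf (QuotientGroup.mk' D v)) := by
      apply Nat.Coprime.coprime_dvd_left h1
      rw [hj]
      exact Nat.Coprime.pow_right j hcop
    rw [Nat.coprime_self] at h2
    have h3 := orderOf_eq_one_iff.mp h2
    rw [QuotientGroup.mk'_apply, QuotientGroup.eq_one_iff] at h3
    exact h3
  have hKD : K ≤ Subgroup.normalizer (D : Set G) := fun k _ => by
    rw [Subgroup.normalizer_eq_top]; exact Subgroup.mem_top k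
  obtain ⟨l, hl, n', hn', hgln⟩ := frattini_rel (le_top : K ≤ ⊤) hKnorm hHsyl (Subgroup.mem_top g)
  obtain ⟨d, hd, h, hh, hldh⟩ := exists_mul_of_pPrime_le hDK hKD hHsyl hp'K hl
  have hn'N : n' ∈ Subgroup.normalizer (H : Set G) := hn'.2
  have hhN : h ∈ Subgroup.normalizer (H : Set G) := Subgroup.le_normalizer hh
  -- g = d * (h * n')
  obtain ⟨n₁, hn₁def⟩ : ∃ n₁ : G, n₁ = h * n' := ⟨_, rfl⟩
  have hn₁N : n₁ ∈ Subgroup.normalizer (H : Set G) := by
    rw [hn₁def]; exact Subgroup.mul_mem _ hhN hn'N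
  have hgd : g = d * n₁ := by rw [hgln, hldh, hn₁def]; group
  have hy'N : y' ∈ Subgroup.normalizer (H : Set G) := hPN hy'P
  have hxN : x ∈ Subgroup.normalizer (H : Set G) := hPN hxP
  have hy'p : ∃ k : ℕ, orderOf y' = p ^ k := by
    obtain ⟨k, hk⟩ := IsPGroup.iff_orderOf.mp P.isPGroup' ⟨y', hy'P⟩
    rw [Subgroup.orderOf_mk] at hk
    exact ⟨k, hk⟩
  have h1 : d⁻¹ * y' * d = n₁ * x * n₁⁻¹ := by
    rw [← hg, hgd]; group
  have h2 : d⁻¹ * y' * d ∈ Subgroup.normalizer (H : Set G) := by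
    rw [h1]
    exact Subgroup.mul_mem _ (Subgroup.mul_mem _ hn₁N hxN) (Subgroup.inv_mem _ hn₁N)
  obtain ⟨d₁, hd₁, d₂, hd₂, hdd⟩ := hA y' hy'N hy'p d hd h2
  have hd₁y : y' * d₁ = d₁ * y' := by
    have := Subgroup.mem_centralizer_iff.mp hd₁.2 y' (Set.mem_singleton y')
    exact this
  have hd₂N : d₂ ∈ Subgroup.normalizer (H : Set G) := Subgroup.centralizer_le_normalizer _ hd₂.2
  refine ⟨d₂ * n₁, Subgroup.mul_mem _ hd₂N hn₁N, ?_⟩
  have h3 : d₂ * n₁ * x * (d₂ * n₁)⁻¹ = d₂ * (n₁ * x * n₁⁻¹) * d₂⁻¹ := by group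
  rw [h3, ← h1, hdd]
  have h4 : d₂ * ((d₁ * d₂)⁻¹ * y' * (d₁ * d₂)) * d₂⁻¹ = d₁⁻¹ * (y' * d₁) := by group
  rw [h4, hd₁y]; group

end Cfsg.Agent.S1907
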