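import Mathlib
import Cfsg.Statements.S1910
import Cfsg.Agent.Lib.Helper4.TightEmb
-- import your own Cfsg.Agent.* helpers here

set_option autoImplicit false
open Cfsg Cfsg.Agent.Lib.Helper4 Cfsg.Agent.Lib.Helper7

namespace Cfsg.Agent.S1910

/-- Let Q be a tightly embedded subgroup of a finite group G, g an element outside N_G(Q), T a nontrivial Sylow 2-subgroup of Q^g ∩ N_G(Q), and S a Sylow 2-subgroup of QT containing T. Then T ∩ Q = 1, and N_S(T) is the direct product of T and N_S(T) ∩ Q, with N_S(T) ∩ Q isomorphic to T. -/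
theorem result {G : Type*} [Group G] [Finite G] (Q : Subgroup G) (hQ : Cfsg.IsTightlyEmbedded Q)
    (g : G) (hg : g ∉ Subgroup.normalizer (Q : Set G))
    (T : Subgroup G) (hT1 : T ≠ ⊥) (hT : T ≤ Q.map (MulAut.conj g).toMonoidHom ⊓ Subgroup.normalizer (Q : Set G))
    (hTsyl : IsPGroup 2 T ∧ ¬ 2 ∣ T.relIndex (Q.map (MulAut.conj g).toMonoidHom ⊓ Subgroup.normalizer (Q : Set G)))
    (S : Subgroup G) (hTS : T ≤ S) (hS : S ≤ Q ⊔ T) (hSsyl : IsPGroup 2 S ∧ ¬ 2 ∣ S.relIndex (Q ⊔ T)) :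
    T ⊓ Q = ⊥ ∧
      T ⊓ (S ⊓ Subgroup.normalizer (T : Set G) ⊓ Q) = ⊥ ∧
      ⁅T, S ⊓ Subgroup.normalizer (T : Set G) ⊓ Q⁆ = ⊥ ∧
      T ⊔ (S ⊓ Subgroup.normalizer (T : Set G) ⊓ Q) = S ⊓ Subgroup.normalizer (T : Set G) ∧
      Nonempty (↥(S ⊓ Subgroup.normalizer (T : Set G) ⊓ Q) ≃* T) := by
  classical
  haveI : Fact (Nat.Prime 2) := ⟨Nat.prime_two⟩
  obtain ⟨hTQ, hcomm, hsup, hU1, f, hf⟩ := te_inj Q hQ g hg T hT1 hT hTsyl S hTS hS hSsyl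
  obtain ⟨U, hUdef⟩ : ∃ U : Subgroup G, U = S ⊓ Subgroup.normalizer (T : Set G) ⊓ Q := ⟨_, rfl⟩
  have hUQ : U ≤ Q := by rw [hUdef]; exact inf_le_right
  have hUS : U ≤ S := by rw [hUdef]; exact inf_le_left.trans inf_le_left
  have hU2 : IsPGroup 2 U := hSsyl.1.to_le hUS
  have hTgQ : T ≤ cj g Q := hT.trans inf_le_left
  have hQ₂ : Cfsg.IsTightlyEmbedded (cj g Q) := te_conj hQ g
  have hg₂ : g⁻¹ ∉ Subgroup.normalizer ((cj g Q : Subgroup G) : Set G) := by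
    intro h
    apply hg
    rw [normalizer_cj, mem_cj] at h
    have h2 : g⁻¹ * g⁻¹ * g = g⁻¹ := by group
    rw [h2] at h
    have := Subgroup.inv_mem _ h
    rwa [inv_inv] at this
  -- U centralizes T hence normalizes cj g Q
  have hUNT : U ≤ Subgroup.normalizer (T : Set G) := by rw [hUdef]; exact inf_le_left.trans inf_le_right
  have hUN₂ : U ≤ Subgroup.normalizer ((cj g Q : Subgroup G) : Set G) :=
    hUNT.trans (te_normalizer_le hQ₂ hTgQ hTsyl.1 hT1)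
  have hUY₂ : U ≤ cj g⁻¹ (cj g Q) ⊓ Subgroup.normalizer ((cj g Q : Subgroup G) : Set G) := by
    rw [cj_inv_cj]; exact le_inf hUQ hUN₂
  obtain ⟨T₂, hUT₂, hT₂syl⟩ := exists_sylIn_ge (p := 2) hUY₂ hU2
  have hT₂1 : T₂ ≠ ⊥ := by
    intro h
    apply hU1
    rw [← hUdef, eq_bot_iff, ← h]
    exact hUT₂
  obtain ⟨S₂, hTS₂, hS₂syl⟩ := exists_sylIn_ge (p := 2) (le_sup_right : T₂ ≤ cj g Q ⊔ T₂) hT₂syl.2.1
  obtain ⟨-, hcomm₂, -, -, f₂, hf₂⟩ := te_inj (cj g Q) hQ₂ g⁻¹ hg₂ T₂ hT₂1 hT₂syl.1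
    ⟨hT₂syl.2.1, hT₂syl.2.2⟩ S₂ hTS₂ hS₂syl.1 ⟨hS₂syl.2.1, hS₂syl.2.2⟩
  obtain ⟨U₂, hU₂def⟩ : ∃ U₂ : Subgroup G,
    U₂ = S₂ ⊓ Subgroup.normalizer (T₂ : Set G) ⊓ cj g Q := ⟨_, rfl⟩
  have hU₂2 : IsPGroup 2 U₂ := by
    rw [hU₂def]; exact hS₂syl.2.1.to_le (inf_le_left.trans inf_le_left)
  have hT₂Q : T₂ ≤ Q := by
    have := hT₂syl.1.trans inf_le_left
    rwa [cj_inv_cj] at this
  have hU₂Y : U₂ ≤ cj g Q ⊓ Subgroup.normalizer (Q : Set G) := by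
    refine le_inf (by rw [hU₂def]; exact inf_le_right) ?_
    refine le_trans ?_ (te_normalizer_le hQ hT₂Q hT₂syl.2.1 hT₂1)
    rw [hU₂def]; exact inf_le_left.trans inf_le_right
  have hTsyl' : SylIn 2 (cj g Q ⊓ Subgroup.normalizer (Q : Set G)) T := ⟨hT, hTsyl.1, hTsyl.2⟩
  obtain ⟨c, -, hc⟩ := hTsyl'.exists_conj_le hU₂Y hU₂2
  have hcard1 : Nat.card U₂ ≤ Nat.card T := by
    rw [← card_cj c U₂]
    exact Nat.card_mono (Set.toFinite _) hc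
  have hcard2 : Nat.card T₂ ≤ Nat.card U₂ := by
    rw [hU₂def]
    exact Nat.card_le_card_of_injective f₂ hf₂
  have hcard3 : Nat.card U ≤ Nat.card T₂ := Nat.card_mono (Set.toFinite _) hUT₂
  have hcard : Nat.card ↥(S ⊓ Subgroup.normalizer (T : Set G) ⊓ Q) ≤ Nat.card T := by
    rw [← hUdef]
    exact hcard3.trans (hcard2.trans hcard1)
  have hbij : Function.Bijective f := hf.bijective_of_nat_card_le hcard
  refine ⟨hTQ, ?_, ?_, hsup, ⟨(MulEquiv.ofBijective f hbij).symm⟩⟩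
  · rw [eq_bot_iff, ← hTQ]
    exact inf_le_inf_left T inf_le_right
  · rw [eq_bot_iff, Subgroup.commutator_le]
    intro t ht u hu
    rw [Subgroup.mem_bot, commutatorElement_def, hcomm t ht u hu]
    group

end Cfsg.Agent.S1910
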