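import Mathlib
import Cfsg.Statements.S1921
import Cfsg.Agent.Lib.Helper3.Components1
import Cfsg.Agent.Lib.Helper3.Components2
import Cfsg.Agent.Lib.Helper3.Components4
import Cfsg.Agent.Lib.Helper3.Components9
-- import your own Cfsg.Agent.* helpers here

set_option autoImplicit false
open Cfsg Cfsg.Agent.Lib.Helper3

namespace Cfsg.Agent.S1921

/-- Let a be an involution of a finite group H and L a component of H with a L a⁻¹ ≠ L; put M = ⟨L, aLa⁻¹⟩ and let J be the subgroup generated by the elements x · a x a⁻¹ with x ∈ L (the diagonal). Then every element of M outside J·Z(M) generates M together with J. -/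
theorem result {H : Type*} [Group H] [Finite H] (a : H) (ha : orderOf a = 2) (L : Subgroup H) (hL : Cfsg.IsComponent L)
    (hLa : L.map (MulAut.conj a).toMonoidHom ≠ L) (x : H) (hxM : x ∈ L ⊔ L.map (MulAut.conj a).toMonoidHom)
    (hxJ : x ∉ Subgroup.closure {y : H | ∃ l ∈ L, y = l * (a * l * a⁻¹)} ⊔
      ((L ⊔ L.map (MulAut.conj a).toMonoidHom) ⊓ Subgroup.centralizer ((L ⊔ L.map (MulAut.conj a).toMonoidHom : Subgroup H) : Set H))) :
    Subgroup.closure {y : H | ∃ l ∈ L, y = l * (a * l * a⁻¹)} ⊔ Subgroup.zpowers x = L ⊔ L.map (MulAut.conj a).toMonoidHom := by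
  classical
  obtain ⟨La, hLadef⟩ : ∃ La : Subgroup H, La = L.map (MulAut.conj a).toMonoidHom := ⟨_, rfl⟩
  rw [← hLadef] at hLa hxM hxJ ⊢
  have hLac : Cfsg.IsComponent La := by rw [hLadef]; exact IsComponent.map_conj hL a
  have hcomm : ⁅L, La⁆ = ⊥ := IsComponent.commutator_eq_bot_of_ne hL hLac hLa.symm
  have hcomm' : ∀ l ∈ L, ∀ m ∈ La, m * l = l * m := by
    intro l hl m hm
    have h1 := Subgroup.commutator_eq_bot_iff_le_centralizer.mp hcomm hl
    exact Subgroup.mem_centralizer_iff.mp h1 m hm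
  have hconj : ∀ l ∈ L, a * l * a⁻¹ ∈ La := by
    intro l hl
    rw [hLadef]
    exact ⟨l, hl, rfl⟩
  obtain ⟨J, hJdef⟩ : ∃ J : Subgroup H, J = Subgroup.closure {y : H | ∃ l ∈ L, y = l * (a * l * a⁻¹)} := ⟨_, rfl⟩
  rw [← hJdef] at hxJ ⊢
  have hJmem : ∀ l ∈ L, l * (a * l * a⁻¹) ∈ J := by
    intro l hl
    rw [hJdef]
    exact Subgroup.subset_closure ⟨l, hl, rfl⟩
  have hJM : J ≤ L ⊔ La := by
    rw [hJdef, Subgroup.closure_le]
    rintro y ⟨l, hl, rfl⟩
    exact Subgroup.mul_mem _ (Subgroup.mem_sup_left hl) (Subgroup.mem_sup_right (hconj l hl))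
  apply le_antisymm
  · exact sup_le hJM (by rw [Subgroup.zpowers_le]; exact hxM)
  obtain ⟨K, hKdef⟩ : ∃ K : Subgroup H, K = J ⊔ Subgroup.zpowers x := ⟨_, rfl⟩
  rw [← hKdef]
  have hJK : J ≤ K := by rw [hKdef]; exact le_sup_left
  have hxK : x ∈ K := by rw [hKdef]; exact Subgroup.mem_sup_right (Subgroup.mem_zpowers x)
  obtain ⟨u, hu, w, hw, hxuw⟩ := exists_mul_of_mem_sup_of_commutator_eq_bot hcomm hxM
  obtain ⟨v, hv, hvw⟩ : ∃ v ∈ L, a * v * a⁻¹ = w := by
    rw [hLadef] at hw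
    obtain ⟨v, hv, hvw⟩ := hw
    exact ⟨v, hv, hvw⟩
  have hw'eq : u * v⁻¹ = x * (v * (a * v * a⁻¹))⁻¹ := by
    rw [hxuw, ← hvw]
    have h1 := hcomm' v hv (a * v * a⁻¹) (hconj v hv)
    have h2 : (v * (a * v * a⁻¹))⁻¹ = (a * v * a⁻¹)⁻¹ * v⁻¹ := by rw [mul_inv_rev]
    rw [h2]
    group
  have hw'K : u * v⁻¹ ∈ K := by
    rw [hw'eq]
    exact K.mul_mem hxK (K.inv_mem (hJK (hJmem v hv)))
  have hw'L : u * v⁻¹ ∈ L := L.mul_mem hu (L.inv_mem hv)
  -- the normal subgroup K ⊓ L of L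
  have hnorm : ((K ⊓ L).subgroupOf L).Normal := by
    constructor
    intro n hn l
    rw [Subgroup.mem_subgroupOf] at hn ⊢
    have hn' : (n : H) ∈ K ⊓ L := hn
    refine Subgroup.mem_inf.mpr ⟨?_, ?_⟩
    · have h1 : ((l * n * l⁻¹ : L) : H) = ((l : H) * (a * (l : H) * a⁻¹)) * (n : H) * ((l : H) * (a * (l : H) * a⁻¹))⁻¹ := by
        have h2 := hcomm' (n : H) n.2 (a * (l : H) * a⁻¹) (hconj l l.2)
        have h3 : ((l : H) * (a * (l : H) * a⁻¹)) * (n : H) * ((l : H) * (a * (l : H) * a⁻¹))⁻¹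
            = (l : H) * ((a * (l : H) * a⁻¹) * (n : H)) * (a * (l : H) * a⁻¹)⁻¹ * (l : H)⁻¹ := by
          rw [mul_inv_rev]; simp only [mul_assoc]
        rw [h3, h2]
        simp only [Subgroup.coe_mul, Subgroup.coe_inv]
        group
      rw [h1]
      exact K.mul_mem (K.mul_mem (hJK (hJmem l l.2)) hn'.1) (K.inv_mem (hJK (hJmem l l.2)))
    · exact (l * n * l⁻¹).2
  rcases IsQuasisimple.normal_eq_top_or_le_center hL.2 ((K ⊓ L).subgroupOf L) with htop | hcen
  · -- L ≤ K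
    have hLK : L ≤ K := by
      rw [Subgroup.subgroupOf_eq_top] at htop
      exact htop.trans inf_le_left
    refine sup_le hLK ?_
    rw [hLadef]
    rintro _ ⟨l, hl, rfl⟩
    have h1 : (MulAut.conj a).toMonoidHom l = l⁻¹ * (l * (a * l * a⁻¹)) := by
      simp [MulAut.conj_apply]
    rw [h1]
    exact K.mul_mem (K.inv_mem (hLK hl)) (hJK (hJmem l hl))
  · exfalso
    apply hxJ
    have hw'cen : (⟨u * v⁻¹, hw'L⟩ : L) ∈ Subgroup.center L := by
      apply hcen
      rw [Subgroup.mem_subgroupOf]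
      exact Subgroup.mem_inf.mpr ⟨hw'K, hw'L⟩
    have hw'Z : u * v⁻¹ ∈ (L ⊔ La) ⊓ Subgroup.centralizer ((L ⊔ La : Subgroup H) : Set H) := by
      refine Subgroup.mem_inf.mpr ⟨Subgroup.mem_sup_left hw'L, ?_⟩
      rw [Subgroup.mem_centralizer_iff]
      intro h hh
      obtain ⟨l, hl, m, hm, rfl⟩ := exists_mul_of_mem_sup_of_commutator_eq_bot hcomm hh
      have h1 : l * (u * v⁻¹) = (u * v⁻¹) * l := by
        have := Subgroup.mem_center_iff.mp hw'cen ⟨l, hl⟩
        exact congrArg Subtype.val this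
      have h2 := hcomm' (u * v⁻¹) hw'L m hm
      calc l * m * (u * v⁻¹) = l * (m * (u * v⁻¹)) := by rw [mul_assoc]
        _ = l * ((u * v⁻¹) * m) := by rw [h2]
        _ = (l * (u * v⁻¹)) * m := by simp only [mul_assoc]
        _ = ((u * v⁻¹) * l) * m := by rw [h1]
        _ = u * v⁻¹ * (l * m) := by simp only [mul_assoc]
    have hxeq : x = (v * (a * v * a⁻¹)) * (u * v⁻¹) := by
      have h0 : x = (u * v⁻¹) * (v * (a * v * a⁻¹)) := by
        rw [hw'eq]; group
      rw [h0]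
      have := Subgroup.mem_centralizer_iff.mp hw'Z.2 (v * (a * v * a⁻¹))
        (Subgroup.mul_mem _ (Subgroup.mem_sup_left hv) (Subgroup.mem_sup_right (hconj v hv)))
      exact this.symm
    rw [hxeq]
    exact Subgroup.mul_mem _ (Subgroup.mem_sup_left (hJmem v hv)) (Subgroup.mem_sup_right hw'Z)

end Cfsg.Agent.S1921
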