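import Mathlib
import Cfsg.Statements.S1922
import Cfsg.Agent.Lib.Helper4.IsolatedInv3
import Cfsg.Agent.Lib.Helper4.AlperinTame
import Cfsg.Agent.Lib.Helper7.PElements
-- import your own Cfsg.Agent.* helpers here

set_option autoImplicit false
open Cfsg
open scoped Pointwise
open Cfsg.Agent.Lib.Helper4 Cfsg.Agent.Lib.Helper7

namespace Cfsg.Agent.S1922


theorem smul_eq_of_mem_zpowers' {G α : Type*} [Group G] [MulAction G α] {y : G} {x : α}
    (h : y • x = x) : ∀ g ∈ Subgroup.zpowers y, g • x = x := by
  intro g hg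
  have h1 : Subgroup.zpowers y ≤ MulAction.stabilizer G x :=
    Subgroup.zpowers_le.mpr (MulAction.mem_stabilizer_iff.mpr h)
  exact MulAction.mem_stabilizer_iff.mp (h1 hg)

/-- `(1) ⇒` the centralizer of `z` has odd index -/
theorem centralizer_index_odd {G : Type*} [Group G] [Finite G] (z : G) (hz : orderOf z = 2)
    (H : Subgroup G) (hH : H ≠ ⊤) (h0 : IsoPt H z)
    (h1 : ∀ t : G, IsConj z t → t ≠ z → t * z = z * t → IsoPt H (z * t)) :
    ¬ 2 ∣ (Subgroup.centralizer ({z} : Set G)).index := by
  classical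
  haveI : Fintype G := Fintype.ofFinite G
  have hodd := card_class_inter_odd hz hH h0 h1
  -- the class of z in H
  have hset : (Finset.univ.filter (fun d : G => IsConj z d ∧ d ∈ H) : Set G) = nClass H z := by
    ext d
    simp only [Finset.coe_filter, Finset.mem_univ, true_and, Set.mem_setOf_eq]
    constructor
    · rintro ⟨hd, hdH⟩
      obtain ⟨k, hk⟩ := isConj_iff.mp hd
      refine ⟨k, ?_, hk.symm⟩
      rw [← hk, h0.conj_mem_iff] at hdH
      exact hdH
    · rintro ⟨n, hn, rfl⟩
      exact ⟨isConj_iff.mpr ⟨n, rfl⟩, (h0.conj_mem_iff n).mpr hn⟩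
  have hcard : (Finset.univ.filter (fun d : G => IsConj z d ∧ d ∈ H)).card =
      (Subgroup.centralizer ({z} : Set G)).relIndex H := by
    have h2 := card_nClass H z
    rw [← hset] at h2
    rw [Subgroup.relIndex, ← h2]
    simp
  rw [hcard] at hodd
  -- the index of H is odd
  have hHodd : ¬ 2 ∣ H.index := by
    have hzp : IsPGroup 2 (Subgroup.zpowers z) := by
      apply IsPGroup.of_card (n := 1)
      rw [Nat.card_zpowers, hz, pow_one]
    have h2 := hzp.card_modEq_card_fixedPoints (G ⧸ H)
    have h3 : (MulAction.fixedPoints (Subgroup.zpowers z) (G ⧸ H)) = {((1 : G) : G ⧸ H)} := by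
      ext x
      rw [MulAction.mem_fixedPoints, Set.mem_singleton_iff]
      induction x using QuotientGroup.induction_on with
      | H g =>
        constructor
        · intro h
          have h4 : z • (g : G ⧸ H) = (g : G ⧸ H) := h ⟨z, Subgroup.mem_zpowers z⟩
          have h5 : ((z * g : G) : G ⧸ H) = (g : G ⧸ H) := h4
          have h6 := QuotientGroup.eq.mp h5
          have h7 : z ∈ cj g H := by
            rw [mem_cj]
            have : g⁻¹ * z * g = (z * g)⁻¹ * g := by
              have hzi : z⁻¹ = z := inv_eq_of_mul_eq_one_left (sq_eq_one_of_orderOf_two hz)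
              calc g⁻¹ * z * g = g⁻¹ * z⁻¹ * g := by rw [hzi]
                _ = (z * g)⁻¹ * g := by group
            rw [this]; exact h6
          have h8 := (h0 g).mp h7
          rw [QuotientGroup.eq]
          simpa using H.inv_mem h8
        · intro h y
          have hgH : g ∈ H := by
            have := QuotientGroup.eq.mp h
            simpa using H.inv_mem this
          have hsm : y • (g : G ⧸ H) = (y : G) • (g : G ⧸ H) := rfl
          rw [hsm]
          apply smul_eq_of_mem_zpowers' _ y.1 y.2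
          show ((z * g : G) : G ⧸ H) = (g : G ⧸ H)
          rw [QuotientGroup.eq]
          have : (z * g)⁻¹ * g = g⁻¹ * z⁻¹ * g := by group
          rw [this]
          exact H.mul_mem (H.mul_mem (H.inv_mem hgH) (H.inv_mem h0.mem)) hgH
    rw [h3] at h2
    have h4 : Nat.card ({((1 : G) : G ⧸ H)} : Set (G ⧸ H)) = 1 := by simp
    rw [h4, ← Subgroup.index_eq_card] at h2
    intro hdvd
    have := (Nat.modEq_zero_iff_dvd.mpr hdvd).symm.trans h2
    have h5 : (0 : ℕ) % 2 = 1 % 2 := this
    norm_num at h5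
  have hCH : Subgroup.centralizer ({z} : Set G) ≤ H := by
    intro c hc
    apply h0.comm_mem
    exact (Subgroup.mem_centralizer_iff.mp hc z (Set.mem_singleton z)).symm
  rw [← Subgroup.relIndex_mul_index hCH]
  intro hdvd
  rcases (Nat.Prime.dvd_mul Nat.prime_two).mp hdvd with h | h
  · exact (Nat.not_even_iff_odd.mpr hodd) (even_iff_two_dvd.mpr h)
  · exact hHodd h

/-- Let z be an involution of a finite group G and H a proper subgroup such that z lies in gHg⁻¹ exactly when g ∈ H. Then the following are equivalent: (1) for every conjugate t ≠ z of z commuting with z, the product zt lies in gHg⁻¹ exactly when g ∈ H; (2) z lies in the centre of some Sylow 2-subgroup of G, and for every conjugate t ≠ z of z commuting with z, the centralizer of zt is contained in H. -/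
theorem result {G : Type*} [Group G] [Finite G] (z : G) (hz : orderOf z = 2) (H : Subgroup G) (hH : H ≠ ⊤)
    (h0 : ∀ g : G, z ∈ H.map (MulAut.conj g).toMonoidHom ↔ g ∈ H) :
    (∀ t : G, IsConj z t → t ≠ z → t * z = z * t → ∀ g : G, z * t ∈ H.map (MulAut.conj g).toMonoidHom ↔ g ∈ H) ↔
      ((∃ P : Sylow 2 G, z ∈ (Subgroup.center ↥(P : Subgroup G)).map (P : Subgroup G).subtype) ∧
        ∀ t : G, IsConj z t → t ≠ z → t * z = z * t → Subgroup.centralizer ({z * t} : Set G) ≤ H) := by
  classical
  have h0' : IsoPt H z := h0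
  have hzz : z * z = 1 := sq_eq_one_of_orderOf_two hz
  have hzi : z⁻¹ = z := inv_eq_of_mul_eq_one_left hzz
  constructor
  · -- (1) ⇒ (2)
    intro h1
    have h1' : ∀ t : G, IsConj z t → t ≠ z → t * z = z * t → IsoPt H (z * t) := h1
    refine ⟨?_, ?_⟩
    · have hidx := centralizer_index_odd z hz H hH h0' h1'
      obtain ⟨C, hCdef⟩ : ∃ C : Subgroup G, C = Subgroup.centralizer ({z} : Set G) := ⟨_, rfl⟩
      rw [← hCdef] at hidx
      have hzC : Subgroup.zpowers z ≤ C := by
        rw [Subgroup.zpowers_le, hCdef, Subgroup.mem_centralizer_iff]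
        intro h hh
        rw [Set.mem_singleton_iff] at hh
        rw [hh]
      have hzp : IsPGroup 2 (Subgroup.zpowers z) := by
        apply IsPGroup.of_card (n := 1)
        rw [Nat.card_zpowers, hz, pow_one]
      obtain ⟨P₀, hzP₀, hP₀⟩ := exists_sylIn_ge hzC hzp
      have hP₀idx : ¬ 2 ∣ P₀.index := by
        rw [← Subgroup.relIndex_mul_index hP₀.1]
        intro hdvd
        rcases (Nat.Prime.dvd_mul Nat.prime_two).mp hdvd with h | h
        · exact hP₀.2.2 h
        · exact hidx h
      refine ⟨hP₀.2.1.toSylow hP₀idx, ?_⟩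
      rw [IsPGroup.toSylow_coe]
      have hzP : z ∈ P₀ := hzP₀ (Subgroup.mem_zpowers z)
      refine ⟨⟨z, hzP⟩, ?_, rfl⟩
      rw [SetLike.mem_coe, Subgroup.mem_center_iff]
      intro g
      apply Subtype.ext
      have hgC : (g : G) ∈ Subgroup.centralizer ({z} : Set G) := by rw [← hCdef]; exact hP₀.1 g.2
      have := Subgroup.mem_centralizer_iff.mp hgC z (Set.mem_singleton z)
      exact this.symm
    · intro t ht htz hcomm c hc
      have hiso := h1' t ht htz hcomm
      apply hiso.comm_mem
      exact (Subgroup.mem_centralizer_iff.mp hc (z * t) (Set.mem_singleton _)).symm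
  · -- (2) ⇒ (1)
    rintro ⟨⟨P, hzP⟩, hcent⟩ t ht htz hcomm g
    obtain ⟨⟨zc, hzc⟩, hzcen, hzeq⟩ := hzP
    have hzeq' : zc = z := hzeq
    subst hzeq'
    rw [SetLike.mem_coe, Subgroup.mem_center_iff] at hzcen
    have hPcomm : ∀ x ∈ (P : Subgroup G), x * zc = zc * x := by
      intro x hx
      have := hzcen ⟨x, hx⟩
      exact congrArg Subtype.val this
    have hPH : (P : Subgroup G) ≤ H := by
      intro x hx
      exact h0'.comm_mem (hPcomm x hx)
    have htH : t ∈ H := h0'.comm_mem hcomm
    constructor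
    · intro hu
      obtain ⟨h, hh, hhu⟩ := hu
      have hhu' : g * h * g⁻¹ = zc * t := hhu
      -- h is a 2-element of H
      have htt : t * t = 1 := by
        obtain ⟨k, rfl⟩ := isConj_iff.mp ht
        exact conj_sq_eq_one hzz k
      have huu : (zc * t) * (zc * t) = 1 := by
        calc (zc * t) * (zc * t) = zc * (t * zc) * t := by group
          _ = zc * (zc * t) * t := by rw [hcomm]
          _ = (zc * zc) * (t * t) := by group
          _ = 1 := by rw [hzz, htt, one_mul]
      have hhh : h * h = 1 := by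
        have : h = g⁻¹ * (zc * t) * g := by rw [← hhu']; group
        rw [this]
        calc g⁻¹ * (zc * t) * g * (g⁻¹ * (zc * t) * g) = g⁻¹ * ((zc * t) * (zc * t)) * g := by group
          _ = 1 := by rw [huu]; group
      have hhzp : IsPGroup 2 (Subgroup.zpowers h) := by
        have h2 : orderOf h ∣ 2 := orderOf_dvd_of_pow_eq_one (by rw [pow_two]; exact hhh)
        rcases (Nat.dvd_prime Nat.prime_two).mp h2 with h3 | h3
        · apply IsPGroup.of_card (n := 0)
          rw [Nat.card_zpowers, h3, pow_zero]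
        · apply IsPGroup.of_card (n := 1)
          rw [Nat.card_zpowers, h3, pow_one]
      have hPsyl : SylIn 2 H (P : Subgroup G) := by
        refine ⟨hPH, P.isPGroup', ?_⟩
        intro hdvd
        exact P.not_dvd_index (hdvd.trans (Subgroup.relIndex_dvd_index_of_le hPH))
      obtain ⟨k, hk, hkh⟩ := hPsyl.exists_conj_le (Subgroup.zpowers_le.mpr hh) hhzp
      have hkhP : k * h * k⁻¹ ∈ (P : Subgroup G) := hkh ⟨h, Subgroup.mem_zpowers h, rfl⟩
      have h3 := hPcomm _ hkhP
      -- z commutes with (k g⁻¹) u (k g⁻¹)⁻¹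
      have h4 : k * h * k⁻¹ = (k * g⁻¹) * (zc * t) * (k * g⁻¹)⁻¹ := by rw [← hhu']; group
      rw [h4] at h3
      have h5 : (k * g⁻¹)⁻¹ * zc * (k * g⁻¹) ∈ Subgroup.centralizer ({zc * t} : Set G) := by
        rw [Subgroup.mem_centralizer_iff]
        intro x hx
        rw [Set.mem_singleton_iff] at hx
        rw [hx]
        calc zc * t * ((k * g⁻¹)⁻¹ * zc * (k * g⁻¹))
            = (k * g⁻¹)⁻¹ * (((k * g⁻¹) * (zc * t) * (k * g⁻¹)⁻¹) * zc) * (k * g⁻¹) := by group
          _ = (k * g⁻¹)⁻¹ * (zc * ((k * g⁻¹) * (zc * t) * (k * g⁻¹)⁻¹)) * (k * g⁻¹) := by rw [h3]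
          _ = (k * g⁻¹)⁻¹ * zc * (k * g⁻¹) * (zc * t) := by group
      have h6 := hcent t ht htz hcomm h5
      have h7 : zc ∈ cj (k * g⁻¹) H := by rw [mem_cj]; exact h6
      have h8 := (h0' (k * g⁻¹)).mp h7
      have : g = (k * g⁻¹)⁻¹ * k := by group
      rw [this]
      exact H.mul_mem (H.inv_mem h8) hk
    · intro hg
      refine ⟨g⁻¹ * (zc * t) * g, ?_, ?_⟩
      · exact H.mul_mem (H.mul_mem (H.inv_mem hg) (H.mul_mem h0'.mem htH)) hg
      · show g * (g⁻¹ * (zc * t) * g) * g⁻¹ = zc * t
        group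

end Cfsg.Agent.S1922
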