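import Mathlib
import Cfsg.Statements.S1939

set_option autoImplicit false
open Cfsg

namespace Cfsg.Agent.S1939

/-- Let S be a Sylow p-subgroup of the finite group G and a an element of S that is the only G-conjugate of a lying in S. Then every power of a has the same property: for every n, the only G-conjugate of a^n lying in S is a^n. -/
theorem result {G : Type*} [Group G] [Finite G] {p : ℕ} [Fact p.Prime] (S : Sylow p G) (a : G)
    (haS : a ∈ (S : Subgroup G)) (hwc : ∀ g : G, g * a * g⁻¹ ∈ (S : Subgroup G) → g * a * g⁻¹ = a) (n : ℕ) :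
    ∀ g : G, g * a ^ n * g⁻¹ ∈ (S : Subgroup G) → g * a ^ n * g⁻¹ = a ^ n := by
  intro g hg
  -- a commutes with S
  have hcen : ∀ s ∈ (S : Subgroup G), s * a = a * s := by
    intro s hs
    have h1 := hwc s ((S : Subgroup G).mul_mem ((S : Subgroup G).mul_mem hs haS) ((S : Subgroup G).inv_mem hs))
    calc s * a = (s * a * s⁻¹) * s := by group
      _ = a * s := by rw [h1]
  set c := g * a ^ n * g⁻¹ with hc
  let C : Subgroup G := Subgroup.centralizer {c}
  have haC : a ∈ C := by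
    rw [Subgroup.mem_centralizer_iff]
    intro x hx
    rw [Set.mem_singleton_iff] at hx
    subst hx
    exact hcen _ hg
  have h2 : ((g • S : Sylow p G) : Subgroup G) ≤ C := by
    intro x hx
    rw [Sylow.coe_subgroup_smul, Subgroup.mem_pointwise_smul_iff_inv_smul_mem] at hx
    rw [Subgroup.mem_centralizer_iff]
    intro y hy
    rw [Set.mem_singleton_iff] at hy
    subst hy
    have hx' : g⁻¹ * x * g ∈ (S : Subgroup G) := by simpa [MulAut.smul_def] using hx
    have h3 := hcen _ hx'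
    have h4 : (g⁻¹ * x * g) * a ^ n = a ^ n * (g⁻¹ * x * g) := by
      have : Commute (g⁻¹ * x * g) a := h3
      exact (this.pow_right n).eq
    rw [hc]
    calc g * a ^ n * g⁻¹ * x = g * (a ^ n * (g⁻¹ * x * g)) * g⁻¹ := by group
      _ = g * ((g⁻¹ * x * g) * a ^ n) * g⁻¹ := by rw [h4]
      _ = x * (g * a ^ n * g⁻¹) := by group
  -- a p-subgroup of C containing a
  have hpa : IsPGroup p (Subgroup.zpowers (⟨a, haC⟩ : C)) := by
    obtain ⟨m, hm⟩ := S.2 ⟨a, haS⟩
    have hm' : a ^ p ^ m = 1 := by simpa using congrArg Subtype.val hm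
    rintro ⟨x, hx⟩
    obtain ⟨k, rfl⟩ := Subgroup.mem_zpowers_iff.mp hx
    refine ⟨m, ?_⟩
    apply Subtype.ext
    apply Subtype.ext
    simp only [Subgroup.coe_pow, Subgroup.coe_zpow, Subgroup.coe_one]
    rw [← zpow_natCast, ← zpow_mul, mul_comm, zpow_mul, zpow_natCast, hm', one_zpow]
  obtain ⟨Q, hQ⟩ := hpa.exists_le_sylow
  obtain ⟨h, hh⟩ := MulAction.exists_smul_eq C Q ((g • S).subtype h2)
  have haQ : (⟨a, haC⟩ : C) ∈ Q := hQ (Subgroup.mem_zpowers _)
  have h5 : h * (⟨a, haC⟩ : C) * h⁻¹ ∈ ((h • Q : Sylow p C) : Subgroup C) := by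
    rw [Sylow.coe_subgroup_smul, Subgroup.mem_pointwise_smul_iff_inv_smul_mem]
    have : (MulAut.conj h)⁻¹ • (h * (⟨a, haC⟩ : C) * h⁻¹) = ⟨a, haC⟩ := by
      simp [MulAut.smul_def, mul_assoc]
    rw [this]
    exact haQ
  rw [hh] at h5
  have h6 : (h : G) * a * (h : G)⁻¹ ∈ ((g • S : Sylow p G) : Subgroup G) := by
    have := h5
    rw [Sylow.coe_subtype, Subgroup.mem_subgroupOf] at this
    simpa using this
  rw [Sylow.coe_subgroup_smul, Subgroup.mem_pointwise_smul_iff_inv_smul_mem] at h6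
  have h7 : (g⁻¹ * (h : G)) * a * (g⁻¹ * (h : G))⁻¹ ∈ (S : Subgroup G) := by
    have : (MulAut.conj g)⁻¹ • ((h : G) * a * (h : G)⁻¹) = (g⁻¹ * (h : G)) * a * (g⁻¹ * (h : G))⁻¹ := by
      simp [MulAut.smul_def, mul_assoc]
    rwa [this] at h6
  have h8 := hwc _ h7
  -- h commutes with c
  have h9 : (h : G) * c = c * (h : G) := by
    have := h.2
    rw [Subgroup.mem_centralizer_iff] at this
    exact (this c rfl).symm
  have h10 : (g⁻¹ * (h : G)) * a ^ n * (g⁻¹ * (h : G))⁻¹ = a ^ n := by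
    have : ((g⁻¹ * (h : G)) * a * (g⁻¹ * (h : G))⁻¹) ^ n = a ^ n := by rw [h8]
    rw [conj_pow] at this
    exact this
  have h11 : c = (h : G) * a ^ n * (h : G)⁻¹ := by
    rw [hc]
    calc g * a ^ n * g⁻¹ = g * ((g⁻¹ * (h : G)) * a ^ n * (g⁻¹ * (h : G))⁻¹) * g⁻¹ := by rw [h10]
      _ = (h : G) * a ^ n * (h : G)⁻¹ := by group
  calc c = (h : G)⁻¹ * ((h : G) * c) := by group
    _ = (h : G)⁻¹ * (c * (h : G)) := by rw [h9]
    _ = (h : G)⁻¹ * (((h : G) * a ^ n * (h : G)⁻¹) * (h : G)) := by rw [← h11]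
    _ = a ^ n := by group

end Cfsg.Agent.S1939
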