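import Mathlib
import Cfsg.Statements.S1940
-- import your own Cfsg.Agent.* helpers here

set_option autoImplicit false
open Cfsg

namespace Cfsg.Agent.S1940

/-- Let the finite group L act by automorphisms on the finite abelian group M, and let N be an L-invariant subgroup of M such that M/N is a p-group on which L acts trivially (every l • m lies in the coset mN). If every element of M is a product of an element of N and an element fixed by a Sylow p-subgroup T of L, then every element of M is a product of an element of N and an element fixed by all of L. -/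
theorem result {L : Type*} [Group L] [Finite L] {M : Type*} [CommGroup M] [Finite M] [MulDistribMulAction L M]
    {p : ℕ} [Fact p.Prime] (N : Subgroup M) (hN : ∀ (l : L) (m : M), m ∈ N → l • m ∈ N)
    (hquot : IsPGroup p (M ⧸ N)) (htriv : ∀ (l : L) (m : M), (l • m) * m⁻¹ ∈ N) (T : Sylow p L)
    (hT : ∀ m : M, ∃ n ∈ N, ∃ c : M, (∀ t ∈ (T : Subgroup L), t • c = c) ∧ m = n * c) :
    ∀ m : M, ∃ n ∈ N, ∃ c : M, (∀ l : L, l • c = c) ∧ m = n * c := by
  classical
  intro m
  obtain ⟨n, hn, c, hc, rfl⟩ := hT m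
  haveI : Fintype (L ⧸ (T : Subgroup L)) := Fintype.ofFinite _
  -- the function on cosets
  let f : L ⧸ (T : Subgroup L) → M := fun q => Quotient.liftOn' q (fun l => l • c) (by
    intro a b hab
    rw [QuotientGroup.leftRel_apply] at hab
    have : b = a * (a⁻¹ * b) := by group
    show a • c = b • c
    rw [this, mul_smul, hc _ hab])
  have hf_mk : ∀ l : L, f (QuotientGroup.mk l) = l • c := fun l => rfl
  set c' : M := ∏ q : L ⧸ (T : Subgroup L), f q with hc'
  have hfix : ∀ l : L, l • c' = c' := by
    intro l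
    have h1 : l • c' = ∏ q : L ⧸ (T : Subgroup L), l • f q := by
      rw [hc']
      exact map_prod (MulDistribMulAction.toMonoidHom M l) _ _
    rw [h1]
    have h2 : ∀ q : L ⧸ (T : Subgroup L), l • f q = f (l • q) := by
      intro q
      induction q using QuotientGroup.induction_on with
      | H a =>
        rw [hf_mk, MulAction.Quotient.smul_mk, hf_mk, smul_eq_mul, mul_smul]
    simp only [h2]
    exact Fintype.prod_equiv (MulAction.toPerm l) _ _ (fun _ => rfl)
  set k := Fintype.card (L ⧸ (T : Subgroup L)) with hk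
  have hkidx : k = (T : Subgroup L).index := by
    rw [hk, Subgroup.index, Nat.card_eq_fintype_card]
  -- c' ≡ c^k mod N
  have hck : c' * (c ^ k)⁻¹ ∈ N := by
    have : c' * (c ^ k)⁻¹ = ∏ q : L ⧸ (T : Subgroup L), (f q * c⁻¹) := by
      rw [Finset.prod_mul_distrib, Finset.prod_const, Finset.card_univ, inv_pow]
    rw [this]
    apply Subgroup.prod_mem
    intro q _
    induction q using QuotientGroup.induction_on with
    | H a => rw [hf_mk]; exact htriv a c
  obtain ⟨e, he⟩ := IsPGroup.iff_card.mp hquot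
  have hpow : ∀ x : M, x ^ (p ^ e) ∈ N := by
    intro x
    rw [← QuotientGroup.eq_one_iff, QuotientGroup.mk_pow, ← he]
    exact pow_card_eq_one'
  have hcop : Nat.Coprime k (p ^ e) := by
    apply Nat.Coprime.pow_right
    rw [Nat.coprime_comm, Nat.Prime.coprime_iff_not_dvd Fact.out, hkidx]
    exact T.not_dvd_index
  obtain ⟨a, b, hab⟩ := Nat.isCoprime_iff_coprime.mpr hcop
  refine ⟨n * (c * (c' ^ a)⁻¹), ?_, c' ^ a, ?_, ?_⟩
  · apply N.mul_mem hn
    have h1 : c = (c ^ k) ^ a * (c ^ (p ^ e)) ^ b := by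
      rw [← zpow_natCast, ← zpow_natCast c (p ^ e), ← zpow_mul, ← zpow_mul, ← zpow_add]
      have : (k : ℤ) * a + ((p ^ e : ℕ) : ℤ) * b = 1 := by
        rw [← hab]; ring
      rw [this, zpow_one]
    have h2 : c * (c' ^ a)⁻¹ = ((c' * (c ^ k)⁻¹) ^ a)⁻¹ * (c ^ (p ^ e)) ^ b := by
      rw [mul_zpow, inv_zpow, mul_inv, inv_inv]
      generalize hX : (c ^ k) ^ a = X at h1
      generalize hY : (c ^ (p ^ e)) ^ b = Y at h1
      generalize hZ : c' ^ a = Z
      rw [h1]
      calc X * Y * Z⁻¹ = Z⁻¹ * (X * Y) := mul_comm _ _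
        _ = Z⁻¹ * X * Y := (mul_assoc _ _ _).symm
    rw [h2]
    exact N.mul_mem (N.inv_mem (N.zpow_mem hck a)) (N.zpow_mem (hpow c) b)
  · intro l
    rw [smul_zpow', hfix l]
  · simp [mul_assoc]

end Cfsg.Agent.S1940
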