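import Mathlib
import Cfsg.Statements.S1941
import Cfsg.Agent.Lib.Helper4.AutSylowFix
import Cfsg.Agent.Lib.Helper3.Components8
-- import your own Cfsg.Agent.* helpers here

set_option autoImplicit false
open Cfsg

namespace Cfsg.Agent.S1941

/-- Let G be a finite group with no nontrivial normal subgroup of order prime to p, T a Sylow p-subgroup of G and E(G) the layer of G (the subgroup generated by its components). An automorphism of G of p-power order that fixes T and E(G) elementwise is inner. -/
theorem result {G : Type*} [Group G] [Finite G] {p : ℕ} [Fact p.Prime] (hcore : Cfsg.pPrimeCore p G = ⊥)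
    (T : Sylow p G) (α : MulAut G) (hα : ∃ j : ℕ, orderOf α = p ^ j) (hfixT : ∀ x ∈ (T : Subgroup G), α x = x)
    (hfixE : ∀ x ∈ Cfsg.layer G, α x = x) : ∃ g : G, ∀ x : G, α x = g * x * g⁻¹ := by
  classical
  have hp : p.Prime := Fact.out
  -- F(G) ≤ T
  have hF : Cfsg.fittingSubgroup G ≤ (T : Subgroup G) := by
    rw [Cfsg.Agent.Lib.Lead.fittingSubgroup_eq_iSup_pCore]
    apply iSup_le
    intro q
    by_cases hq : (q : ℕ) = p
    · rw [hq, Cfsg.Agent.Lib.Lead.pCore_eq_iInf_sylow]
      exact iInf_le _ T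
    · haveI : Fact (q : ℕ).Prime := ⟨q.2⟩
      have hle : Cfsg.pCore (q : ℕ) G ≤ Cfsg.pPrimeCore p G := by
        apply le_sSup
        refine ⟨Cfsg.Agent.Lib.Lead.pCore_normal (q : ℕ), ?_⟩
        obtain ⟨k, hk⟩ := IsPGroup.iff_card.mp (Cfsg.Agent.Lib.Lead.pCore_isPGroup (G := G) (q : ℕ))
        rw [hk]
        exact Nat.Coprime.pow_left k ((Nat.coprime_primes q.2 hp).mpr hq)
      rw [hcore] at hle
      exact hle.trans bot_le
  set Y : Subgroup G := Cfsg.generalizedFittingSubgroup G with hY
  haveI hYn : Y.Normal := Cfsg.Agent.Lib.Helper3.generalizedFittingSubgroup_normal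
  have hcent : Subgroup.centralizer (Y : Set G) ≤ Y :=
    Cfsg.Agent.Lib.Helper3.centralizer_generalizedFittingSubgroup_le
  have hCn : (Subgroup.centralizer (Y : Set G)).Normal := inferInstance
  have hCnil : Group.IsNilpotent (Subgroup.centralizer (Y : Set G)) := by
    apply Cfsg.Agent.Lib.Helper3.isNilpotent_of_le_centralizer
    intro a ha
    exact Subgroup.centralizer_le (show ((Subgroup.centralizer (Y : Set G) : Subgroup G) : Set G) ⊆ (Y : Set G) from hcent) ha
  have hCT : Subgroup.centralizer (Y : Set G) ≤ (T : Subgroup G) :=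
    (Cfsg.Agent.Lib.Lead.le_fittingSubgroup hCn hCnil).trans hF
  have hψY : ∀ y ∈ Y, α y = y := by
    intro y hy
    have hle : Y ≤ (MulEquiv.toMonoidHom α).eqLocus (MonoidHom.id G) := by
      rw [hY]
      unfold Cfsg.generalizedFittingSubgroup
      apply sup_le
      · intro x hx
        exact hfixE x hx
      · intro x hx
        exact hfixT x (hF hx)
    exact hle hy
  obtain ⟨z, _, hz⟩ := Cfsg.Agent.Lib.Helper4.aut_eq_conj_of_fixes_sylow_gen T Y hcent hCT α hfixT hψY
  exact ⟨z, hz⟩

end Cfsg.Agent.S1941
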