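import Mathlib
import Cfsg.Statements.S1944
import Cfsg.Agent.Lib.Helper4.NormSplit
import Cfsg.Agent.Lib.Helper6.PPrimeCore
import Cfsg.Agent.Lib.Lead.Core
-- import your own Cfsg.Agent.* helpers here

set_option autoImplicit false
open Cfsg
open scoped Pointwise

namespace Cfsg.Agent.S1944

theorem conj_into_sylow_aux {G : Type*} [Group G] [Finite G] {p : ℕ} [Fact p.Prime] (S : Sylow p G)
    (N : Subgroup G) [hN : N.Normal] (y : G) (hy : y ∈ (S : Subgroup G) ⊔ N)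
    (hyp : ∃ k : ℕ, orderOf y = p ^ k) : ∃ n ∈ N, n * y * n⁻¹ ∈ (S : Subgroup G) := by
  classical
  set X : Subgroup G := (S : Subgroup G) ⊔ N with hX
  have hSX : (S : Subgroup G) ≤ X := le_sup_left
  have hSXp : IsPGroup p ((S : Subgroup G).subgroupOf X) := S.isPGroup'.comap_subtype
  have hidx : ¬ p ∣ ((S : Subgroup G).subgroupOf X).index := by
    intro h
    exact S.not_dvd_index (h.trans (Subgroup.relIndex_dvd_index_of_le hSX))
  set SX : Sylow p X := hSXp.toSylow hidx with hSXdef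
  set yX : X := ⟨y, hy⟩ with hyX
  have hzp : IsPGroup p (Subgroup.zpowers yX) := by
    obtain ⟨k, hk⟩ := hyp
    apply IsPGroup.of_card (n := k)
    rw [Nat.card_zpowers, hyX, Subgroup.orderOf_mk, hk]
  obtain ⟨P', hP'⟩ := hzp.exists_le_sylow
  obtain ⟨c, hc⟩ := MulAction.exists_smul_eq X P' SX
  have h1 : yX ∈ (P' : Subgroup X) := hP' (Subgroup.mem_zpowers yX)
  have h2 : MulAut.conj c • yX ∈ MulAut.conj c • (P' : Subgroup X) :=
    Subgroup.smul_mem_pointwise_smul _ _ _ h1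
  rw [← Sylow.coe_subgroup_smul, hc, hSXdef, IsPGroup.toSylow_coe, Subgroup.mem_subgroupOf] at h2
  have h3 : (c : G) * y * (c : G)⁻¹ ∈ (S : Subgroup G) := by
    simpa [MulAut.smul_def] using h2
  obtain ⟨s, hs, n, hn, hsn⟩ := Subgroup.mem_sup_of_normal_right.mp c.2
  refine ⟨n, hn, ?_⟩
  have h4 : n * y * n⁻¹ = s⁻¹ * ((c : G) * y * (c : G)⁻¹) * s := by
    rw [← hsn]; group
  rw [h4]
  exact Subgroup.mul_mem _ (Subgroup.mul_mem _ (Subgroup.inv_mem _ hs) h3) hs

theorem exists_mul_of_mem_sup_aux {G : Type*} [Group G] (A B : Subgroup G)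
    (hcomm : ∀ a ∈ A, ∀ b ∈ B, a * b = b * a) (x : G) (hx : x ∈ A ⊔ B) :
    ∃ a ∈ A, ∃ b ∈ B, x = a * b := by
  let M : Subgroup G :=
    { carrier := {x | ∃ a ∈ A, ∃ b ∈ B, x = a * b}
      one_mem' := ⟨1, A.one_mem, 1, B.one_mem, by simp⟩
      mul_mem' := by
        rintro _ _ ⟨a, ha, b, hb, rfl⟩ ⟨a', ha', b', hb', rfl⟩
        refine ⟨a * a', A.mul_mem ha ha', b * b', B.mul_mem hb hb', ?_⟩
        have := hcomm a' ha' b hb
        calc a * b * (a' * b') = a * (b * a') * b' := by group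
          _ = a * (a' * b) * b' := by rw [this]
          _ = a * a' * (b * b') := by group
      inv_mem' := by
        rintro _ ⟨a, ha, b, hb, rfl⟩
        refine ⟨a⁻¹, A.inv_mem ha, b⁻¹, B.inv_mem hb, ?_⟩
        have := hcomm a ha b hb
        calc (a * b)⁻¹ = (b * a)⁻¹ := by rw [this]
          _ = a⁻¹ * b⁻¹ := by group }
  have h1 : A ≤ M := fun a ha => ⟨a, ha, 1, B.one_mem, by simp⟩
  have h2 : B ≤ M := fun b hb => ⟨1, A.one_mem, b, hb, by simp⟩
  exact (sup_le h1 h2) hx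


/-- Let S be a Sylow p-subgroup of the finite group G and suppose that the centre Z(S) lies in O_{p',p}(G). The elements of S each of which is its only G-conjugate in S form a subgroup W of Z(S); W is then a direct factor of Z(S): there is a subgroup K of Z(S) with W ∩ K = 1 and WK = Z(S). -/
theorem result {G : Type*} [Group G] [Finite G] {p : ℕ} [Fact p.Prime] (S : Sylow p G)
    (hZ : ((S : Subgroup G) ⊓ Subgroup.centralizer ((S : Subgroup G) : Set G)) ≤ Cfsg.pPrimePCore p G) :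
    ∃ W K : Subgroup G, (∀ x : G, x ∈ W ↔ (x ∈ (S : Subgroup G) ∧ ∀ g : G, g * x * g⁻¹ ∈ (S : Subgroup G) → g * x * g⁻¹ = x)) ∧
      K ≤ ((S : Subgroup G) ⊓ Subgroup.centralizer ((S : Subgroup G) : Set G)) ∧ W ⊓ K = ⊥ ∧ W ⊔ K = ((S : Subgroup G) ⊓ Subgroup.centralizer ((S : Subgroup G) : Set G)) := by
  classical
  have hp : p.Prime := Fact.out
  set K₀ : Subgroup G := Cfsg.pPrimeCore p G with hK₀
  haveI hK₀n : K₀.Normal := (Cfsg.Agent.Lib.Helper6.pPrimeCore_mem_set p).1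
  have hK₀cop : (Nat.card K₀).Coprime p := Cfsg.Agent.Lib.Helper6.pPrimeCore_coprime p
  set π : G →* G ⧸ K₀ := QuotientGroup.mk' K₀ with hπ
  have hπsurj : Function.Surjective π := QuotientGroup.mk'_surjective K₀
  have hker : ∀ x : G, π x = 1 ↔ x ∈ K₀ := fun x => by
    rw [hπ, QuotientGroup.mk'_apply, QuotientGroup.eq_one_iff]
  set ZS : Subgroup G := (S : Subgroup G) ⊓ Subgroup.centralizer ((S : Subgroup G) : Set G) with hZS
  have hSp : IsPGroup p (S : Subgroup G) := S.isPGroup'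
  -- F1
  have hF1 : K₀ ⊓ (S : Subgroup G) = ⊥ := by
    apply Subgroup.inf_eq_bot_of_coprime
    obtain ⟨k, hk⟩ := IsPGroup.iff_card.mp hSp
    rw [hk]
    exact Nat.Coprime.pow_right k hK₀cop
  have hF1' : ∀ x : G, x ∈ K₀ → x ∈ (S : Subgroup G) → x = 1 := by
    intro x h1 h2
    have : x ∈ K₀ ⊓ (S : Subgroup G) := Subgroup.mem_inf.mpr ⟨h1, h2⟩
    rw [hF1, Subgroup.mem_bot] at this
    exact this
  -- the image of S
  set Sb : Subgroup (G ⧸ K₀) := (S : Subgroup G).map π with hSb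
  have hSbp : IsPGroup p Sb := hSp.map π
  have hSbidx : ¬ p ∣ Sb.index := by
    intro h
    exact S.not_dvd_index (h.trans (Subgroup.index_map_dvd _ hπsurj))
  set Qb : Subgroup (G ⧸ K₀) := Cfsg.pCore p (G ⧸ K₀) with hQb
  haveI hQbn : Qb.Normal := Cfsg.Agent.Lib.Lead.pCore_normal p
  have hQbp : IsPGroup p Qb := Cfsg.Agent.Lib.Lead.pCore_isPGroup p
  have hQbSb : Qb ≤ Sb := by
    rw [hQb, Cfsg.Agent.Lib.Lead.pCore_eq_iInf_sylow]
    have := iInf_le (fun P : Sylow p (G ⧸ K₀) => (P : Subgroup (G ⧸ K₀))) (hSbp.toSylow hSbidx)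
    rwa [IsPGroup.toSylow_coe] at this
  set B : Subgroup (G ⧸ K₀) := Qb ⊓ Subgroup.centralizer (Qb : Set (G ⧸ K₀)) with hB
  haveI hCn : (Subgroup.centralizer (Qb : Set (G ⧸ K₀))).Normal := Subgroup.normal_centralizer
  haveI hBn : B.Normal := inferInstance
  have hBc : ∀ a ∈ B, ∀ b ∈ B, a * b = b * a := by
    intro a ha b hb
    exact Subgroup.mem_centralizer_iff.mp hb.2 a ha.1
  have hBp : IsPGroup p B := hQbp.to_le inf_le_left
  have hTidx : (Sb.index).Coprime p := by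
    rw [Nat.coprime_comm]
    exact (Nat.Prime.coprime_iff_not_dvd hp).mpr hSbidx
  obtain ⟨Kb, hKbA, hKbdisj, hKbsup⟩ := Cfsg.Agent.Lib.Helper4.norm_split Sb B hBc hBp hTidx
  -- F3
  have hF3 : ∀ a ∈ ZS, π a ∈ B ⊓ Subgroup.centralizer (Sb : Set (G ⧸ K₀)) := by
    intro a ha
    have haQ : π a ∈ Qb := by
      have := hZ ha
      unfold Cfsg.pPrimePCore at this
      exact this
    have haC : π a ∈ Subgroup.centralizer (Sb : Set (G ⧸ K₀)) := by
      rw [Subgroup.mem_centralizer_iff]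
      rintro _ ⟨s, hs, rfl⟩
      have := Subgroup.mem_centralizer_iff.mp ha.2 s hs
      rw [← map_mul, ← map_mul, this]
    refine Subgroup.mem_inf.mpr ⟨Subgroup.mem_inf.mpr ⟨haQ, ?_⟩, haC⟩
    exact Subgroup.centralizer_le (show (Qb : Set (G ⧸ K₀)) ⊆ Sb from hQbSb) haC
  -- F4
  have hF4 : ∀ s ∈ (S : Subgroup G), π s ∈ Subgroup.centralizer (Sb : Set (G ⧸ K₀)) → s ∈ ZS := by
    intro s hs hc
    refine Subgroup.mem_inf.mpr ⟨hs, ?_⟩
    rw [Subgroup.mem_centralizer_iff]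
    intro s' hs'
    have h1 := Subgroup.mem_centralizer_iff.mp hc (π s') ⟨s', hs', rfl⟩
    have h2 : π (s' * s * s'⁻¹ * s⁻¹) = 1 := by
      rw [map_mul, map_mul, map_mul, h1, map_inv, map_inv]; group
    have h3 := hF1' _ ((hker _).mp h2)
      (Subgroup.mul_mem _ (Subgroup.mul_mem _ (Subgroup.mul_mem _ hs' hs) (Subgroup.inv_mem _ hs')) (Subgroup.inv_mem _ hs))
    calc s' * s = (s' * s * s'⁻¹ * s⁻¹) * (s * s') := by group
      _ = s * s' := by rw [h3, one_mul]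
  have hcenC : ∀ z : G ⧸ K₀, z ∈ Subgroup.center (G ⧸ K₀) → z ∈ Subgroup.centralizer (Sb : Set (G ⧸ K₀)) := by
    intro z hz
    rw [Subgroup.mem_centralizer_iff]
    intro t _
    exact Subgroup.mem_center_iff.mp hz t
  set W : Subgroup G := (S : Subgroup G) ⊓ (Subgroup.center (G ⧸ K₀)).comap π with hW
  set K : Subgroup G := ZS ⊓ Kb.comap π with hK
  have hWZS : W ≤ ZS := by
    intro x hx
    exact hF4 x hx.1 (hcenC _ hx.2)
  refine ⟨W, K, ?_, inf_le_left, ?_, ?_⟩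
  · intro x
    constructor
    · rintro ⟨hxS, hxc⟩
      refine ⟨hxS, ?_⟩
      intro g hg
      have hxc' : π x ∈ Subgroup.center (G ⧸ K₀) := hxc
      have h1 : π (g * x * g⁻¹ * x⁻¹) = 1 := by
        have := Subgroup.mem_center_iff.mp hxc' (π g)
        rw [map_mul, map_mul, map_mul, this, map_inv, map_inv]; group
      have h2 := hF1' _ ((hker _).mp h1) (Subgroup.mul_mem _ hg (Subgroup.inv_mem _ hxS))
      calc g * x * g⁻¹ = (g * x * g⁻¹ * x⁻¹) * x := by group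
        _ = x := by rw [h2, one_mul]
    · rintro ⟨hxS, hxw⟩
      refine Subgroup.mem_inf.mpr ⟨hxS, ?_⟩
      have hxZS : x ∈ ZS := by
        refine Subgroup.mem_inf.mpr ⟨hxS, ?_⟩
        rw [Subgroup.mem_centralizer_iff]
        intro s hs
        have h1 := hxw s (Subgroup.mul_mem _ (Subgroup.mul_mem _ hs hxS) (Subgroup.inv_mem _ hs))
        calc s * x = (s * x * s⁻¹) * s := by group
          _ = x * s := by rw [h1]
      have hxQ : π x ∈ Qb := (hF3 x hxZS).1.1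
      show π x ∈ Subgroup.center (G ⧸ K₀)
      rw [Subgroup.mem_center_iff]
      intro gb
      obtain ⟨g, rfl⟩ := hπsurj gb
      have h1 : π (g * x * g⁻¹) ∈ Sb := by
        apply hQbSb
        rw [map_mul, map_mul, map_inv]
        exact hQbn.conj_mem _ hxQ _
      obtain ⟨s, hs, hsy⟩ := h1
      have h2 : g * x * g⁻¹ ∈ (S : Subgroup G) ⊔ K₀ := by
        have h3 : s⁻¹ * (g * x * g⁻¹) ∈ K₀ := by
          rw [← hker, map_mul, map_inv, hsy, inv_mul_cancel]
        have h4 : g * x * g⁻¹ = s * (s⁻¹ * (g * x * g⁻¹)) := by group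
        rw [h4]
        exact Subgroup.mul_mem _ (Subgroup.mem_sup_left hs) (Subgroup.mem_sup_right h3)
      have h5 : ∃ k : ℕ, orderOf (g * x * g⁻¹) = p ^ k := by
        obtain ⟨k, hk⟩ := (IsPGroup.iff_orderOf.mp hSp) ⟨x, hxS⟩
        refine ⟨k, ?_⟩
        have hconj : g * x * g⁻¹ = MulAut.conj g x := rfl
        rw [hconj, MulEquiv.orderOf_eq, ← hk, Subgroup.orderOf_mk]
      obtain ⟨n, hn, hnS⟩ := conj_into_sylow_aux S K₀ _ h2 h5
      have h6 : (n * g) * x * (n * g)⁻¹ = x := by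
        apply hxw
        have : (n * g) * x * (n * g)⁻¹ = n * (g * x * g⁻¹) * n⁻¹ := by group
        rw [this]; exact hnS
      have h7 : π n = 1 := (hker n).mpr hn
      have h8 := congrArg π h6
      rw [map_mul, map_mul, map_inv, map_mul, h7, one_mul] at h8
      calc π g * π x = (π g * π x * (π g)⁻¹) * π g := by group
        _ = π x * π g := by rw [h8]
  · rw [eq_bot_iff]
    intro x hx
    obtain ⟨hxW, hxK⟩ := Subgroup.mem_inf.mp hx
    have h1 : π x ∈ (B ⊓ Subgroup.center (G ⧸ K₀)) ⊓ Kb :=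
      Subgroup.mem_inf.mpr ⟨Subgroup.mem_inf.mpr ⟨(hF3 x hxK.1).1, hxW.2⟩, hxK.2⟩
    rw [hKbdisj, Subgroup.mem_bot] at h1
    rw [Subgroup.mem_bot]
    exact hF1' x ((hker x).mp h1) hxW.1
  · apply le_antisymm
    · exact sup_le hWZS inf_le_left
    · intro x hx
      have h1 : π x ∈ (B ⊓ Subgroup.center (G ⧸ K₀)) ⊔ Kb := by
        rw [hKbsup]; exact hF3 x hx
      have hcomm : ∀ a ∈ (B ⊓ Subgroup.center (G ⧸ K₀)), ∀ b ∈ Kb, a * b = b * a :=
        fun a ha b hb => hBc a ha.1 b (hKbA hb).1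
      obtain ⟨w, hw, k, hk, hwk⟩ := exists_mul_of_mem_sup_aux _ _ hcomm _ h1
      obtain ⟨w₀, hw₀S, hw₀⟩ := hQbSb hw.1.1
      have hw₀W : w₀ ∈ W := Subgroup.mem_inf.mpr ⟨hw₀S, by
        show π w₀ ∈ Subgroup.center (G ⧸ K₀)
        rw [hw₀]; exact hw.2⟩
      have hk₀ : w₀⁻¹ * x ∈ K := by
        refine Subgroup.mem_inf.mpr ⟨ZS.mul_mem (ZS.inv_mem (hWZS hw₀W)) hx, ?_⟩
        show π (w₀⁻¹ * x) ∈ Kb
        rw [map_mul, map_inv, hw₀, hwk, inv_mul_cancel_left]
        exact hk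
      have : x = w₀ * (w₀⁻¹ * x) := by group
      rw [this]
      exact Subgroup.mul_mem _ (Subgroup.mem_sup_left hw₀W) (Subgroup.mem_sup_right hk₀)

end Cfsg.Agent.S1944
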