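import Mathlib
import Cfsg.Statements.S5294
import Cfsg.Agent.Lib.Helper9.Trace3
import Cfsg.Agent.Lib.Helper9.FusionSat2

set_option autoImplicit false
open Cfsg

universe u

namespace Cfsg.Agent.S5294

open Cfsg.FusionSystem Cfsg.Agent.Lib.Helper9
open scoped IsMulCommutative

/-- Let F be a saturated fusion system over a finite p-group S whose centre Z(S) lies in the largest subgroup O_p(F) normal in F. Then the centre Z(F) of F is a direct factor of Z(S): there is a subgroup K of Z(S) with Z(F) ∩ K = 1 and Z(F)K = Z(S). -/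
theorem result {Ω : Type u} [Group Ω] {S : Subgroup Ω} [Finite S] (p : ℕ) [Fact p.Prime] (hS : IsPGroup p S)
    (F : Cfsg.FusionSystem S) (hF : F.IsSaturated p) (hZ : (S ⊓ Subgroup.centralizer (S : Set Ω)) ≤ F.core) :
    ∃ K : Subgroup Ω, K ≤ (S ⊓ Subgroup.centralizer (S : Set Ω)) ∧ F.center ⊓ K = ⊥ ∧ F.center ⊔ K = (S ⊓ Subgroup.centralizer (S : Set Ω)) := by
  have hQn : F.IsNormal F.core := Cfsg.Agent.S5145.result F
  have hQS : F.core ≤ S := hQn.1
  have hSN : S ≤ Subgroup.normalizer (F.core : Set Ω) :=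
    fs_stronglyClosed_le_normalizer F (fs_stronglyClosed_of_isNormal F hQn)
  haveI : Finite F.core := fs_finite_of_le hQS
  haveI : Finite (MulAut F.core) := inferInstanceAs (Finite (F.core ≃* F.core))
  have hfn : F.IsFullyNormalized F.core :=
    fs_fullyNormalized_of_weaklyClosed F (fs_weaklyClosed_of_isNormal F hQn)
  obtain ⟨-, -, R, hR⟩ := fs_sylow_axiom p hS F hF hfn
  have hp : ¬ p ∣ ((autInducedBy S F.core).subgroupOf (F.autGroup F.core)).index := by
    rw [← hR]
    exact R.not_dvd_index
  have hM : ∀ v ∈ fixedSub (M := Subgroup.center F.core) (autCenterRep F F.core)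
      ((autInducedBy S F.core).subgroupOf (F.autGroup F.core)), ∃ k : ℕ, v ^ p ^ k = 1 := by
    intro v _
    exact ((hS.to_le hQS).to_subgroup (Subgroup.center F.core)) v
  obtain ⟨K, hK1, hK2, hK3⟩ := exists_fixed_complement (M := Subgroup.center F.core)
    (autCenterRep F F.core) ((autInducedBy S F.core).subgroupOf (F.autGroup F.core)) p hp hM
  have hZeq := center_eq_map_fixedSub F hQS hSN hZ
  have hCeq := fcenter_eq_map_fixedSub p hS F hF hQn hZ
  have hinj := centerIncl_injective F.core
  refine ⟨K.map (centerIncl F.core), ?_, ?_, ?_⟩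
  · rw [hZeq]
    exact Subgroup.map_mono hK1
  · rw [hCeq, ← Subgroup.map_inf _ _ _ hinj, hK2, Subgroup.map_bot]
  · rw [hCeq, hZeq, ← Subgroup.map_sup]
    congr 1
    apply le_antisymm
    · apply sup_le _ hK1
      intro v hv g _
      exact hv g (Subgroup.mem_top _)
    · intro v hv
      obtain ⟨u, hu, k, hk, rfl⟩ := hK3 v hv
      exact Subgroup.mul_mem_sup hu hk

end Cfsg.Agent.S5294
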