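import Cfsg.Statements.S5295
import Cfsg.Agent.Lib.Helper9.CFP6
import Cfsg.Agent.S5294
import Cfsg.Agent.S5096

set_option autoImplicit false
universe u
open Cfsg

namespace Cfsg.Agent.S5295

/-- Let F be a saturated fusion system over a finite p-group S with p odd. Then the centre Z(F) of F is a direct factor of Z(S): there is a subgroup K of Z(S) with Z(F) ∩ K = 1 and Z(F)K = Z(S). (At the prime 2 this can fail.) -/
theorem result {Ω : Type u} [Group Ω] {S : Subgroup Ω} [Finite S] (p : ℕ) [Fact p.Prime] (hp : p ≠ 2) (hS : IsPGroup p S)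
    (F : Cfsg.FusionSystem S) (hF : F.IsSaturated p) :
    ∃ K : Subgroup Ω, K ≤ (S ⊓ Subgroup.centralizer (S : Set Ω)) ∧ F.center ⊓ K = ⊥ ∧ F.center ⊔ K = (S ⊓ Subgroup.centralizer (S : Set Ω)) := by
  open Cfsg.FusionSystem Cfsg.Agent.Lib.Helper9 Cfsg.Agent.H9CFP in
  have hJS : Cfsg.thompsonSubgroupAOf S ≤ S := Cfsg.Agent.H9ZW.Wof_le Cfsg.Agent.Lib.Lead.QuadJ.WJ S
  have hSN : S ≤ Subgroup.normalizer ((Cfsg.thompsonSubgroupAOf S : Subgroup Ω) : Set Ω) :=
    (Subgroup.le_normalizer).trans (Cfsg.Agent.H9ZW.normalizer_le_normalizer_Wof (isGF_WJ (p := p)) hS)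
  have hT : normalizerIn S (Cfsg.thompsonSubgroupAOf S) = S := le_antisymm inf_le_left (le_inf le_rfl hSN)
  have hTS : normalizerIn S (Cfsg.thompsonSubgroupAOf S) ≤ S := inf_le_left
  haveI : Finite ↥(normalizerIn S (Cfsg.thompsonSubgroupAOf S)) := fs_finite_of_le hTS
  have hTp : IsPGroup p ↥(normalizerIn S (Cfsg.thompsonSubgroupAOf S)) := hS.to_le hTS
  obtain ⟨N, hN⟩ := Cfsg.Agent.S5096.result F (Cfsg.thompsonSubgroupAOf S) hJS
  have hNsat : N.IsSaturated p :=
    normalizerSystem_saturated p hS F hF (Cfsg.Agent.H9ZW.fullyNormalized_of_le_normalizer F hJS hSN) N hN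
  have hJn : N.IsNormal (Cfsg.thompsonSubgroupAOf S) := normalizerSystem_isNormal F hJS N hN
  have hcen : N.center = F.center := thompson_center_eq_odd hp hS F hF N hN
  have hZJ : (S ⊓ Subgroup.centralizer (S : Set Ω)) ≤ Cfsg.thompsonSubgroupAOf S := by
    intro x hx
    have hxc := Subgroup.mem_centralizer_iff.mp hx.2
    have h1 : (⟨x, hx.1⟩ : S) ∈ Subgroup.center S := by
      apply Subgroup.mem_center_iff.mpr
      intro s
      apply Subtype.ext
      exact hxc s s.2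
    exact ⟨⟨x, hx.1⟩, center_le_thompsonSubgroupA S h1, rfl⟩
  have hZeq : (normalizerIn S (Cfsg.thompsonSubgroupAOf S) ⊓
      Subgroup.centralizer ((normalizerIn S (Cfsg.thompsonSubgroupAOf S) : Subgroup Ω) : Set Ω)) =
      S ⊓ Subgroup.centralizer (S : Set Ω) := by rw [hT]
  have hZ : (normalizerIn S (Cfsg.thompsonSubgroupAOf S) ⊓
      Subgroup.centralizer ((normalizerIn S (Cfsg.thompsonSubgroupAOf S) : Subgroup Ω) : Set Ω)) ≤ N.core := by
    rw [hZeq]
    exact hZJ.trans (le_sSup hJn)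
  obtain ⟨K, hK1, hK2, hK3⟩ := Cfsg.Agent.S5294.result p hTp N hNsat hZ
  rw [hZeq] at hK1 hK3
  rw [hcen] at hK2 hK3
  exact ⟨K, hK1, hK2, hK3⟩

end Cfsg.Agent.S5295
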