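import Cfsg.Statements.S1945
import Cfsg.Agent.Lib.Helper9.WeakCl1
import Cfsg.Agent.Lib.Helper9.WeakCl2
import Cfsg.Agent.Lib.Lead.SolvPSolv
import Cfsg.Agent.S5295
import Cfsg.Agent.S1944

set_option autoImplicit false
open Cfsg

namespace Cfsg.Agent.S1945

/-- Let S be a Sylow p-subgroup of the finite group G, and assume that p is odd or that G is solvable. The elements of S each of which is its only G-conjugate in S form a subgroup W of Z(S); W is then a direct factor of Z(S): there is a subgroup K of Z(S) with W ∩ K = 1 and WK = Z(S). (For p = 2 and G not solvable this can fail.) -/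
theorem result {G : Type*} [Group G] [Finite G] {p : ℕ} [Fact p.Prime] (S : Sylow p G) (h : p ≠ 2 ∨ Group.IsSolvable G) :
    ∃ W K : Subgroup G, (∀ x : G, x ∈ W ↔ (x ∈ (S : Subgroup G) ∧ ∀ g : G, g * x * g⁻¹ ∈ (S : Subgroup G) → g * x * g⁻¹ = x)) ∧
      K ≤ ((S : Subgroup G) ⊓ Subgroup.centralizer ((S : Subgroup G) : Set G)) ∧ W ⊓ K = ⊥ ∧ W ⊔ K = ((S : Subgroup G) ⊓ Subgroup.centralizer ((S : Subgroup G) : Set G)) := by
  rcases h with hp | hsolv
  · have hS : IsPGroup p (S : Subgroup G) := S.2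
    have hF := Cfsg.Agent.S5076.result p S
    obtain ⟨K, hK1, hK2, hK3⟩ := Cfsg.Agent.S5295.result p hp hS (Cfsg.groupFusionSystem (S : Subgroup G)) hF
    exact ⟨(Cfsg.groupFusionSystem (S : Subgroup G)).center, K,
      Cfsg.Agent.H9WC.mem_center_groupFusionSystem_iff S, hK1, hK2, hK3⟩
  · haveI := hsolv
    have hG : Cfsg.IsPSolvable p G := Cfsg.Agent.Lib.Lead.SolvPSolv.isPSolvable_of_isSolvable' p G
    exact Cfsg.Agent.S1944.result S (Cfsg.Agent.H9WC.center_sylow_le_pPrimePCore hG S)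

end Cfsg.Agent.S1945
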