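import Mathlib
import Cfsg.Statements.S1947
import Cfsg.Agent.Lib.Helper4.OmegaGen
import Cfsg.Agent.Lib.Lead.FrobNPC5
-- import your own Cfsg.Agent.* helpers here

set_option autoImplicit false
open Cfsg

namespace Cfsg.Agent.S1947

/-- Let G be a finite group and p a prime. If every element of G of order dividing p (dividing 4 when p = 2) lies in some fixed term Z_n(G) of the upper central series, then G has a normal p-complement. -/
theorem result {G : Type*} [Group G] [Finite G] {p : ℕ} [Fact p.Prime] (n : ℕ)
    (h : ∀ a : G, (a ^ p = 1 ∨ (p = 2 ∧ a ^ 4 = 1)) → a ∈ Subgroup.upperCentralSeries G n) : Cfsg.HasNormalPComplement p G := by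
  classical
  rw [Cfsg.Agent.Lib.Lead.hasNormalPComplement_iff_plocalCentral]
  intro D hD g hg hcop
  set A : Subgroup G := Subgroup.zpowers g with hA
  have hcardA : (Nat.card A).Coprime p := by rw [hA, Nat.card_zpowers]; exact hcop
  have hAD : A ≤ Subgroup.normalizer (D : Set G) := by
    rw [hA, Subgroup.zpowers_le]; exact hg
  have hcopD : (Nat.card A).Coprime (Nat.card D) := by
    obtain ⟨k, hk⟩ := (IsPGroup.iff_card).mp hD
    rw [hk]; exact Nat.Coprime.pow_right _ hcardA
  -- A centralizes D ⊓ Z_k(G) for every k
  have hZ : ∀ k : ℕ, A ≤ Subgroup.centralizer ((D ⊓ Subgroup.upperCentralSeries G k : Subgroup G) : Set G) := by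
    intro k
    induction k with
    | zero =>
      intro a _
      rw [Subgroup.mem_centralizer_iff]
      intro x hx
      have hx' : x ∈ D ⊓ Subgroup.upperCentralSeries G 0 := hx
      rw [Subgroup.upperCentralSeries_zero, inf_bot_eq, Subgroup.mem_bot] at hx'
      subst hx'; simp
    | succ k ih =>
      set U : Subgroup G := D ⊓ Subgroup.upperCentralSeries G (k + 1) with hU
      have hUD : U ≤ D := inf_le_left
      have hAU : A ≤ Subgroup.normalizer (U : Set G) := by
        intro a ha
        have haD := hAD ha
        rw [Subgroup.mem_normalizer_iff] at haD ⊢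
        intro x
        constructor
        · intro hx
          exact Subgroup.mem_inf.mpr ⟨(haD x).mp (Subgroup.mem_inf.mp hx).1,
            Subgroup.Normal.conj_mem inferInstance _ (Subgroup.mem_inf.mp hx).2 a⟩
        · intro hx
          refine Subgroup.mem_inf.mpr ⟨(haD x).mpr (Subgroup.mem_inf.mp hx).1, ?_⟩
          have := Subgroup.Normal.conj_mem (inferInstance : (Subgroup.upperCentralSeries G (k+1)).Normal) _
            (Subgroup.mem_inf.mp hx).2 a⁻¹
          have h2 : a⁻¹ * (a * x * a⁻¹) * a⁻¹⁻¹ = x := by group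
          rwa [h2] at this
      have hUcop : (Nat.card A).Coprime (Nat.card U) :=
        Nat.Coprime.coprime_dvd_right (Subgroup.card_dvd_of_le hUD) hcopD
      have hUsolv : Group.IsSolvable U := Cfsg.Agent.Lib.Lead.isSolvable_of_isPGroup p U (hD.to_le hUD)
      have h1 : ⁅U, A⁆ ≤ D ⊓ Subgroup.upperCentralSeries G k := by
        rw [Subgroup.commutator_le]
        intro u hu a ha
        refine Subgroup.mem_inf.mpr ⟨?_, ?_⟩
        · have haD := hAD ha
          rw [Subgroup.mem_normalizer_iff] at haD
          have huD := hUD hu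
          rw [commutatorElement_def]
          have : u * a * u⁻¹ * a⁻¹ = u * (a * u⁻¹ * a⁻¹) := by group
          rw [this]
          exact D.mul_mem huD ((haD _).mp (D.inv_mem huD))
        · have hu2 := (Subgroup.mem_inf.mp hu).2
          rw [Subgroup.mem_upperCentralSeries_succ_iff] at hu2
          rw [commutatorElement_def]
          exact hu2 a
      have h2 : ⁅⁅U, A⁆, A⁆ = ⊥ := by
        rw [Subgroup.commutator_eq_bot_iff_le_centralizer]
        exact h1.trans (Subgroup.le_centralizer_iff.mp ih)
      rw [Cfsg.Agent.Lib.Lead.coprime_commutator_stable A U hAU hUcop (Or.inr hUsolv)] at h2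
      rw [Subgroup.commutator_eq_bot_iff_le_centralizer] at h2
      exact Subgroup.le_centralizer_iff.mp h2
  have hfix : ∀ x ∈ D, (x ^ p = 1 ∨ (p = 2 ∧ x ^ 4 = 1)) → ∀ a ∈ A, a * x = x * a := by
    intro x hx hxs a ha
    have hxZ := h x hxs
    have := Subgroup.mem_centralizer_iff.mp (hZ n ha) x (Subgroup.mem_inf.mpr ⟨hx, hxZ⟩)
    exact this.symm
  have hfin := Cfsg.Agent.Lib.Helper4.coprime_centralizes_of_omega_gen A D hcardA hD hAD hfix
  exact hfin (Subgroup.mem_zpowers g)

end Cfsg.Agent.S1947
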