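import Cfsg.Statements.S1953
import Cfsg.Agent.Lib.Helper9.SF4
import Cfsg.Agent.Lib.Helper9.SF6
import Cfsg.Agent.Lib.Helper9.SF8
import Cfsg.Agent.Lib.Helper9.SF11
import Cfsg.Agent.S5076
import Cfsg.Agent.S5145
import Cfsg.Agent.Lib.Helper9.FusionNormal2
import Cfsg.Agent.Lib.Helper9.FusionNormal4
import Cfsg.Agent.Lib.Helper9.FusionCentric

set_option autoImplicit false
open Cfsg

namespace Cfsg.Agent.S1953

open Cfsg.FusionSystem Cfsg.Agent.Lib.Helper9 Cfsg.Agent.H9SF in
/-- Let p be an odd prime and P a Sylow p-subgroup of the finite group G, and suppose that for no p-subgroup Q of G does N_G(Q)/C_G(Q) have a section isomorphic to SL₂(p). Call a subgroup Q of P centric-radical when Z(Q) is a Sylow p-subgroup of C_G(Q) and the only normal subgroup X of N_G(Q) containing Q·C_G(Q) such that the index of Q·C_G(Q) in X is a power of p is Q·C_G(Q) itself (that is, N_G(Q)/Q·C_G(Q) has no nontrivial normal p-subgroup). Then there is a centric-radical subgroup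 Q of P contained in every centric-radical subgroup of P; it is normal in P, and N_G(Q) controls strong fusion in P: whenever a subgroup A of P has g A g⁻¹ ≤ P, the element g is a product h c with h in N_G(Q) and c centralizing A. -/
theorem result {G : Type*} [Group G] [Finite G] {p : ℕ} [Fact p.Prime] (hp : p ≠ 2) (P : Sylow p G)
    (hfree : ∀ Q : Subgroup G, IsPGroup p ↥Q → ¬ ∃ (H K : Subgroup G) (_ : (K.subgroupOf H).Normal),
      Subgroup.centralizer (Q : Set G) ≤ K ∧ K ≤ H ∧ H ≤ Subgroup.normalizer (Q : Set G) ∧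
      Nonempty ((↥H ⧸ K.subgroupOf H) ≃* Matrix.SpecialLinearGroup (Fin 2) (ZMod p)))
    (cr : Subgroup G → Prop)
    (hcr : ∀ Q : Subgroup G, cr Q ↔ (Q ≤ (P : Subgroup G) ∧
      (∃ R : Sylow p ↥(Subgroup.centralizer (Q : Set G)),
        (R : Subgroup ↥(Subgroup.centralizer (Q : Set G))).map (Subgroup.centralizer (Q : Set G)).subtype = Q ⊓ Subgroup.centralizer (Q : Set G)) ∧
      ∀ X : Subgroup G, X ≤ Subgroup.normalizer (Q : Set G) →
        (∀ n ∈ Subgroup.normalizer (Q : Set G), X.map (MulAut.conj n).toMonoidHom = X) →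
        Q ⊔ Subgroup.centralizer (Q : Set G) ≤ X → (∃ k : ℕ, (Q ⊔ Subgroup.centralizer (Q : Set G)).relIndex X = p ^ k) →
        X = Q ⊔ Subgroup.centralizer (Q : Set G))) :
    ∃ Q : Subgroup G, cr Q ∧ (∀ R : Subgroup G, cr R → Q ≤ R) ∧ (∀ x ∈ (P : Subgroup G), Q.map (MulAut.conj x).toMonoidHom = Q) ∧
      ∀ A : Subgroup G, A ≤ (P : Subgroup G) → ∀ g : G, A.map (MulAut.conj g).toMonoidHom ≤ (P : Subgroup G) →
        ∃ h ∈ Subgroup.normalizer (Q : Set G), ∃ c ∈ Subgroup.centralizer (A : Set G), g = h * c := by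
  have hT : IsPGroup p (P : Subgroup G) := P.isPGroup'
  have hF : (groupFusionSystem (P : Subgroup G)).IsSaturated p := Cfsg.Agent.S5076.result p P
  have hSL := slFree_of_hfree (P : Subgroup G) hT hfree
  obtain ⟨-, Q₀, hQ₀n, hQ₀c⟩ := SLFree.constrained hp hT hF hSL
  obtain ⟨F, hFdef⟩ : ∃ F : FusionSystem (P : Subgroup G), F = groupFusionSystem (P : Subgroup G) := ⟨_, rfl⟩
  rw [← hFdef] at hF hQ₀n hQ₀c
  have hOn : F.IsNormal F.core := Cfsg.Agent.S5145.result F
  have hQ₀le : Q₀ ≤ F.core := le_sSup hQ₀n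
  have hOc : F.IsCentric F.core := fs_centric_of_le F hQ₀c hQ₀le hOn.1
  have hOr : F.IsRadical p F.core := core_isRadical p hT F hF hOc
  have hcr_iff : ∀ Q : Subgroup G, cr Q ↔ F.IsCentric Q ∧ F.IsRadical p Q := by
    intro Q
    rw [hcr Q, hFdef]
    constructor
    · rintro ⟨hQ, h1, h2⟩
      exact ⟨(gfs_isCentric_iff_sylow P hQ).mpr h1, (gfs_isRadical_iff (P : Subgroup G) hT hQ).mpr h2⟩
    · rintro ⟨h1, h2⟩
      have hQ := h1.1
      exact ⟨hQ, (gfs_isCentric_iff_sylow P hQ).mp h1, (gfs_isRadical_iff (P : Subgroup G) hT hQ).mp h2⟩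
  refine ⟨F.core, (hcr_iff _).mpr ⟨hOc, hOr⟩, ?_, ?_, ?_⟩
  · intro R hR
    obtain ⟨hRc, hRr⟩ := (hcr_iff R).mp hR
    exact fs_le_of_isNormal_of_centric_radical p hT F hOn hRc hRr
  · intro x hx
    have hsc := fs_stronglyClosed_of_isNormal F hOn
    have hN := fs_stronglyClosed_le_normalizer F hsc hx
    rw [Subgroup.mem_normalizer_iff] at hN
    ext y
    constructor
    · rintro ⟨z, hz, rfl⟩
      exact (hN z).mp hz
    · intro hy
      refine ⟨x⁻¹ * y * x, (hN _).mpr ?_, ?_⟩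
      · have h1 : x * (x⁻¹ * y * x) * x⁻¹ = y := by group
        rw [h1]; exact hy
      · show x * (x⁻¹ * y * x) * x⁻¹ = y
        group
  · intro A hA g hg
    have hOn' := hOn
    rw [hFdef] at hOn'
    have hcoreP : (groupFusionSystem (P : Subgroup G)).core ≤ (P : Subgroup G) := hOn'.1
    obtain ⟨-, hGN⟩ := (gfs_isNormal_iff (P : Subgroup G) hcoreP).mp hOn'
    obtain ⟨h, -, hAg, hQ1, hQ2⟩ := hGN A hA g (fun x hx => hg ⟨x, hx, rfl⟩)
    rw [hFdef]
    refine ⟨h, ?_, h⁻¹ * g, ?_, by group⟩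
    · rw [Subgroup.mem_normalizer_iff]
      intro y
      constructor
      · exact hQ1 y
      · intro hy
        have h1 := hQ2 _ hy
        have h2 : h⁻¹ * (h * y * h⁻¹) * h = y := by group
        rw [h2] at h1
        exact h1
    · rw [Subgroup.mem_centralizer_iff]
      intro x hx
      have h1 := hAg x hx
      calc x * (h⁻¹ * g) = h⁻¹ * (h * x * h⁻¹) * g := by group
        _ = h⁻¹ * (g * x * g⁻¹) * g := by rw [h1]
        _ = h⁻¹ * g * x := by group

end Cfsg.Agent.S1953
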