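import Mathlib
import Cfsg.Statements.S1954
import Cfsg.Agent.Lib.Helper4.FusionLift3
-- import your own Cfsg.Agent.* helpers here

set_option autoImplicit false
open Cfsg
open scoped Pointwise
open Cfsg.Agent.Lib.Helper4 Cfsg.Agent.Lib.Helper7

namespace Cfsg.Agent.S1954

/-- Let N be a normal subgroup of the finite group G, P a Sylow p-subgroup of G, and V a subgroup of P ∩ N normal in P ∩ N such that N_N(V) controls strong fusion in P ∩ N with respect to N (whenever a subgroup A of P ∩ N has n A n⁻¹ ≤ P ∩ N for some n in N, then n = h c with h in N_N(V) and c in C_N(A)). Let W be the subgroup generated by the conjugates of V under N_G(P ∩ N). Then N_G(W) controls strong fusion in P with respect to G. -/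
theorem result {G : Type*} [Group G] [Finite G] {p : ℕ} [Fact p.Prime] (N : Subgroup G) [N.Normal] (P : Sylow p G) (V : Subgroup G)
    (hV : V ≤ (P : Subgroup G) ⊓ N) (hVn : ∀ x ∈ (P : Subgroup G) ⊓ N, V.map (MulAut.conj x).toMonoidHom = V)
    (hctrl : ∀ A : Subgroup G, A ≤ (P : Subgroup G) ⊓ N → ∀ n ∈ N, A.map (MulAut.conj n).toMonoidHom ≤ (P : Subgroup G) ⊓ N →
      ∃ h ∈ N ⊓ Subgroup.normalizer (V : Set G), ∃ c ∈ N ⊓ Subgroup.centralizer (A : Set G), n = h * c)
    (W : Subgroup G) (hW : W = Subgroup.closure (⋃ x ∈ Subgroup.normalizer (((P : Subgroup G) ⊓ N : Subgroup G) : Set G),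
      ((V.map (MulAut.conj x).toMonoidHom : Subgroup G) : Set G))) :
    ∀ A : Subgroup G, A ≤ (P : Subgroup G) → ∀ g : G, A.map (MulAut.conj g).toMonoidHom ≤ (P : Subgroup G) →
        ∃ h ∈ Subgroup.normalizer (W : Set G), ∃ c ∈ Subgroup.centralizer (A : Set G), g = h * c := by
  classical
  obtain ⟨T, hTdef⟩ : ∃ T : Subgroup G, T = (P : Subgroup G) ⊓ N := ⟨_, rfl⟩
  rw [← hTdef] at hV hVn hctrl hW
  have hNn : N.Normal := inferInstance
  -- conjugates of V
  have hVx_le : ∀ x ∈ Subgroup.normalizer (T : Set G), cj x V ≤ T := by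
    intro x hx
    have h1 := cj_mono x hV
    rwa [mem_normalizer_iff_cj.mp hx] at h1
  have hctrlx : ∀ x ∈ Subgroup.normalizer (T : Set G), ∀ A : Subgroup G, A ≤ T → ∀ n ∈ N, cj n A ≤ T →
      ∃ h ∈ N ⊓ Subgroup.normalizer ((cj x V : Subgroup G) : Set G),
        ∃ c ∈ N ⊓ Subgroup.centralizer (A : Set G), n = h * c := by
    intro x hx A hAT n hn hnA
    have hxinv : x⁻¹ ∈ Subgroup.normalizer (T : Set G) := Subgroup.inv_mem _ hx
    have hA' : cj x⁻¹ A ≤ T := by
      have h1 := cj_mono x⁻¹ hAT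
      rwa [mem_normalizer_iff_cj.mp hxinv] at h1
    have hn' : x⁻¹ * n * x ∈ N := by
      have := hNn.conj_mem n hn x⁻¹
      simpa using this
    have hn'A : cj (x⁻¹ * n * x) (cj x⁻¹ A) ≤ T := by
      rw [cj_mul, cj_cj_inv, cj_mul]
      have h1 := cj_mono x⁻¹ hnA
      rwa [mem_normalizer_iff_cj.mp hxinv] at h1
    obtain ⟨h', hh', c', hc', heq⟩ := hctrl (cj x⁻¹ A) hA' _ hn' hn'A
    refine ⟨x * h' * x⁻¹, Subgroup.mem_inf.mpr ⟨hNn.conj_mem h' hh'.1 x, ?_⟩, x * c' * x⁻¹,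
      Subgroup.mem_inf.mpr ⟨hNn.conj_mem c' hc'.1 x, ?_⟩, ?_⟩
    · rw [mem_normalizer_iff_cj, cj_mul, cj_mul, cj_inv_cj, mem_normalizer_iff_cj.mp hh'.2]
    · rw [Subgroup.mem_centralizer_iff]
      intro a ha
      have h1 : x⁻¹ * a * x ∈ cj x⁻¹ A := by
        rw [mem_cj]
        have : x⁻¹⁻¹ * (x⁻¹ * a * x) * x⁻¹ = a := by group
        rw [this]; exact ha
      have h2 := Subgroup.mem_centralizer_iff.mp hc'.2 _ h1
      calc a * (x * c' * x⁻¹) = x * ((x⁻¹ * a * x) * c') * x⁻¹ := by group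
        _ = x * (c' * (x⁻¹ * a * x)) * x⁻¹ := by rw [h2]
        _ = x * c' * x⁻¹ * a := by group
    · have : n = x * (x⁻¹ * n * x) * x⁻¹ := by group
      rw [this, heq]; group
  -- induction over finite sets of conjugates
  have hind : ∀ s : Finset G, (∀ y ∈ s, y ∈ Subgroup.normalizer (T : Set G)) →
      ∀ A : Subgroup G, A ≤ T → ∀ n ∈ N, cj n A ≤ T →
      ∃ h ∈ N, (∀ y ∈ s, h ∈ Subgroup.normalizer ((cj y V : Subgroup G) : Set G)) ∧
        ∃ c ∈ N ⊓ Subgroup.centralizer (A : Set G), n = h * c := by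
    intro s
    induction s using Finset.induction_on with
    | empty =>
      intro _ A hAT n hn hnA
      exact ⟨n, hn, by simp, 1, Subgroup.one_mem _, by simp⟩
    | insert x s' hxs ih =>
      intro hs A hAT n hn hnA
      have hs' : ∀ y ∈ s', y ∈ Subgroup.normalizer (T : Set G) := fun y hy =>
        hs y (Finset.mem_insert_of_mem hy)
      have hxT : x ∈ Subgroup.normalizer (T : Set G) := hs x (Finset.mem_insert_self _ _)
      obtain ⟨h₁, hh₁N, hh₁, c₁, hc₁, hn1⟩ := ih hs' A hAT n hn hnA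
      have hh₁A : cj h₁ A = cj n A := by
        have hc₁A : cj c₁ A = A := by
          apply le_antisymm
          · rintro _ ⟨a, ha, rfl⟩
            show c₁ * a * c₁⁻¹ ∈ A
            have := Subgroup.mem_centralizer_iff.mp hc₁.2 a ha
            rw [← this]; simpa using ha
          · intro a ha
            refine ⟨a, ha, ?_⟩
            show c₁ * a * c₁⁻¹ = a
            have := Subgroup.mem_centralizer_iff.mp hc₁.2 a ha
            rw [← this]; group
        rw [hn1, cj_mul, hc₁A]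
      obtain ⟨A₂, hA₂def⟩ : ∃ A₂ : Subgroup G, A₂ = A ⊔ ⨆ y ∈ s', cj y V := ⟨_, rfl⟩
      have hA₂T : A₂ ≤ T := by
        rw [hA₂def]
        refine sup_le hAT (iSup₂_le fun y hy => hVx_le y (hs' y hy))
      have hAA₂ : A ≤ A₂ := by rw [hA₂def]; exact le_sup_left
      have hVA₂ : ∀ y ∈ s', cj y V ≤ A₂ := by
        intro y hy
        rw [hA₂def]
        exact le_trans (le_iSup₂ (f := fun y (_ : y ∈ s') => cj y V) y hy) le_sup_right
      have hh₁A₂ : cj h₁ A₂ ≤ T := by
        rw [hA₂def, cj_sup, hh₁A]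
        refine sup_le hnA ?_
        show Subgroup.map _ _ ≤ T
        rw [Subgroup.map_iSup]
        refine iSup_le fun y => ?_
        rw [Subgroup.map_iSup]
        refine iSup_le fun hy => ?_
        show cj h₁ (cj y V) ≤ T
        rw [mem_normalizer_iff_cj.mp (hh₁ y hy)]
        exact hVx_le y (hs' y hy)
      obtain ⟨h₂, hh₂, c₂, hc₂, hh12⟩ := hctrlx x hxT A₂ hA₂T h₁ hh₁N hh₁A₂
      have hh₂eq : h₂ = h₁ * c₂⁻¹ := by rw [hh12]; group
      refine ⟨h₂, hh₂.1, ?_, c₂ * c₁, Subgroup.mem_inf.mpr ⟨N.mul_mem hc₂.1 hc₁.1,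
        Subgroup.mul_mem _ (Subgroup.centralizer_le (SetLike.coe_subset_coe.mpr hAA₂) hc₂.2) hc₁.2⟩, ?_⟩
      · intro y hy
        rcases Finset.mem_insert.mp hy with rfl | hy'
        · exact hh₂.2
        · rw [hh₂eq]
          refine Subgroup.mul_mem _ (hh₁ y hy') (Subgroup.inv_mem _ ?_)
          apply Subgroup.centralizer_le_normalizer
          exact Subgroup.centralizer_le (SetLike.coe_subset_coe.mpr (hVA₂ y hy')) hc₂.2
      · rw [hn1, hh12]; group
  -- the set of all of N_G(T)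
  haveI : Fintype G := Fintype.ofFinite G
  obtain ⟨s, hsdef⟩ : ∃ s : Finset G, s = Finset.univ.filter (fun y => y ∈ Subgroup.normalizer (T : Set G)) :=
    ⟨_, rfl⟩
  have hs_mem : ∀ y, y ∈ s ↔ y ∈ Subgroup.normalizer (T : Set G) := by
    intro y; rw [hsdef]; simp
  -- the subgroup X of elements normalizing all the conjugates
  obtain ⟨X, hXdef⟩ : ∃ X : Subgroup G, X = ⨅ y ∈ Subgroup.normalizer (T : Set G),
      Subgroup.normalizer ((cj y V : Subgroup G) : Set G) := ⟨_, rfl⟩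
  have hX_mem : ∀ h : G, h ∈ X ↔ ∀ y ∈ Subgroup.normalizer (T : Set G),
      h ∈ Subgroup.normalizer ((cj y V : Subgroup G) : Set G) := by
    intro h; rw [hXdef]; simp only [Subgroup.mem_iInf]
  have hXW : X ≤ Subgroup.normalizer (W : Set G) := by
    rw [hW]
    apply le_normalizer_closure
    intro n hn v hv
    simp only [Set.mem_iUnion] at hv ⊢
    obtain ⟨x, hx, hvx⟩ := hv
    refine ⟨x, hx, ?_⟩
    have h1 := (hX_mem n).mp hn x hx
    exact (Subgroup.mem_normalizer_iff.mp h1 v).mp hvx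
  have hTW : Subgroup.normalizer (T : Set G) ≤ Subgroup.normalizer (W : Set G) := by
    rw [hW]
    apply le_normalizer_closure
    intro n hn v hv
    simp only [Set.mem_iUnion] at hv ⊢
    obtain ⟨x, hx, hvx⟩ := hv
    refine ⟨n * x, Subgroup.mul_mem _ hn hx, ?_⟩
    show n * v * n⁻¹ ∈ cj (n * x) V
    rw [cj_mul]
    exact ⟨v, hvx, rfl⟩
  -- control by N ⊓ N_G(W)
  have hctlW : ∀ A : Subgroup G, A ≤ T → ∀ n ∈ N, cj n A ≤ T →
      ∃ h ∈ N ⊓ Subgroup.normalizer (W : Set G), ∃ c ∈ N ⊓ Subgroup.centralizer (A : Set G), n = h * c := by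
    intro A hAT n hn hnA
    obtain ⟨h, hhN, hh, c, hc, hnhc⟩ := hind s (fun y hy => (hs_mem y).mp hy) A hAT n hn hnA
    refine ⟨h, Subgroup.mem_inf.mpr ⟨hhN, hXW ?_⟩, c, hc, hnhc⟩
    rw [hX_mem]
    intro y hy
    exact hh y ((hs_mem y).mpr hy)
  intro A hAP g hgA
  rw [hTdef] at hTW hctlW
  exact lift_control' N P (Subgroup.normalizer (W : Set G)) hTW hctlW A hAP g hgA

end Cfsg.Agent.S1954
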