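import Mathlib
import Cfsg.Statements.S1958
import Cfsg.Agent.Lib.Helper4.SolvBalance

set_option autoImplicit false
open Cfsg

namespace Cfsg.Agent.S1958

open Cfsg.Agent.Lib.Helper4 Cfsg.Agent.Lib.Helper6 Cfsg.Agent.Lib.Lead

theorem cpc_le {G : Type*} [Group G] (p : ℕ) (x : G) :
    Cfsg.centralizerPPrimeCore p x ≤ Subgroup.centralizer ({x} : Set G) := by
  unfold Cfsg.centralizerPPrimeCore
  rintro _ ⟨c, _, rfl⟩
  exact c.2

theorem cpc_conj {G : Type*} [Group G] (p : ℕ) (x : G) (c : G)
    (hc : c ∈ Subgroup.centralizer ({x} : Set G)) (g : G) (hg : g ∈ Cfsg.centralizerPPrimeCore p x) :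
    c * g * c⁻¹ ∈ Cfsg.centralizerPPrimeCore p x := by
  unfold Cfsg.centralizerPPrimeCore at hg ⊢
  obtain ⟨g', hg', rfl⟩ := hg
  refine ⟨⟨c, hc⟩ * g' * ⟨c, hc⟩⁻¹, ?_, rfl⟩
  exact (inferInstance : (pPrimeCore p ↥(Subgroup.centralizer ({x} : Set G))).Normal).conj_mem g' hg' _

theorem cpc_coprime {G : Type*} [Group G] [Finite G] (p : ℕ) (x : G) :
    (Nat.card (Cfsg.centralizerPPrimeCore p x)).Coprime p := by
  unfold Cfsg.centralizerPPrimeCore
  rw [card_map_subtype]
  exact pPrimeCore_coprime p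

theorem half {G : Type*} [Group G] [Finite G]
    (p : ℕ) [Fact p.Prime] (x y : G) (hx : orderOf x = p) (hxy : x * y = y * x)
    (hCy : Group.IsSolvable ↥(Subgroup.centralizer ({y} : Set G))) :
    Cfsg.centralizerPPrimeCore p x ⊓ Subgroup.centralizer {y} ≤ Cfsg.centralizerPPrimeCore p y := by
  set H := Subgroup.centralizer ({y} : Set G) with hH
  have hxH : x ∈ H := by
    rw [hH, Subgroup.mem_centralizer_iff]
    intro z hz
    rw [Set.mem_singleton_iff] at hz
    rw [hz]; exact hxy.symm
  set xH : H := ⟨x, hxH⟩ with hxHdef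
  set E := Cfsg.centralizerPPrimeCore p x ⊓ H with hE
  have hEH : E ≤ H := inf_le_right
  set D := E.subgroupOf H with hD
  have hxp : IsPGroup p (Subgroup.zpowers xH) := by
    apply IsPGroup.of_card (n := 1)
    rw [Nat.card_zpowers, hxHdef, Subgroup.orderOf_mk, hx, pow_one]
  have hDcop : (Nat.card D).Coprime p := by
    rw [hD, card_subgroupOf_of_le hEH]
    exact Nat.Coprime.coprime_dvd_left (Subgroup.card_dvd_of_le inf_le_left) (cpc_coprime p x)
  have hDx : D ≤ Subgroup.centralizer ({xH} : Set H) := by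
    intro d hd
    rw [Subgroup.mem_centralizer_iff]
    intro z hz
    rw [Set.mem_singleton_iff] at hz
    rw [hz]
    have h1 : (d : G) ∈ E := hd
    have h2 := cpc_le p x h1.1
    have h3 := Subgroup.mem_centralizer_iff.mp h2 x rfl
    apply Subtype.ext
    simpa using h3
  have hconj : ∀ c ∈ Subgroup.centralizer ({xH} : Set H), ∀ d ∈ D, c * d * c⁻¹ ∈ D := by
    intro c hc d hd
    have h1 : (d : G) ∈ E := hd
    have hcx : (c : G) ∈ Subgroup.centralizer ({x} : Set G) := by
      rw [Subgroup.mem_centralizer_iff]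
      intro z hz
      rw [Set.mem_singleton_iff] at hz
      rw [hz]
      have := Subgroup.mem_centralizer_iff.mp hc xH rfl
      have := congrArg Subtype.val this
      simpa using this
    change ((c * d * c⁻¹ : H) : G) ∈ E
    refine ⟨?_, (c * d * c⁻¹ : H).2⟩
    have := cpc_conj p x (c : G) hcx (d : G) h1.1
    simpa using this
  have hDn : Subgroup.centralizer ({xH} : Set H) ≤ Subgroup.normalizer (D : Set H) := by
    intro c hc
    rw [Subgroup.mem_normalizer_iff]
    intro d
    constructor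
    · exact hconj c hc d
    · intro h
      have := hconj c⁻¹ (Subgroup.inv_mem _ hc) _ h
      simpa [mul_assoc] using this
  have key := solvable_pprime_le p xH hxp D hDcop hDx hDn
  intro e he
  have heD : (⟨e, hEH he⟩ : H) ∈ D := he
  exact ⟨⟨e, hEH he⟩, key heD, rfl⟩

/-- Let `G` be a finite group, `p` a prime, and `x, y` commuting elements of order `p` whose centralizers `C_G(x)` and `C_G(y)` are both solvable. Then `O_{p'}(C_G(x)) ∩ C_G(y) = O_{p'}(C_G(y)) ∩ C_G(x)` (balance). -/
theorem result {G : Type*} [Group G] [Finite G]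
    (p : ℕ) [Fact p.Prime] (x y : G) (hx : orderOf x = p) (hy : orderOf y = p) (hxy : x * y = y * x)
    (hCx : Group.IsSolvable ↥(Subgroup.centralizer ({x} : Set G))) (hCy : Group.IsSolvable ↥(Subgroup.centralizer ({y} : Set G))) :
    Cfsg.centralizerPPrimeCore p x ⊓ Subgroup.centralizer {y} = Cfsg.centralizerPPrimeCore p y ⊓ Subgroup.centralizer {x} := by
  apply le_antisymm
  · exact le_inf (half p x y hx hxy hCy) (inf_le_left.trans (cpc_le p x))
  · exact le_inf (half p y x hy hxy.symm hCx) (inf_le_left.trans (cpc_le p y))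

end Cfsg.Agent.S1958
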