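import Mathlib
import Cfsg.Statements.S1962
import Cfsg.Agent.S1961
import Cfsg.Agent.Lib.Helper4.TransferControl

set_option autoImplicit false
open Cfsg
open scoped commutatorElement

namespace Cfsg.Agent.S1962

open Cfsg.Agent.Lib.Helper4 Cfsg.Agent.Lib.Helper7

variable {G : Type*} [Group G]

theorem keyKT [Finite G] {p : ℕ} [Fact p.Prime] (S : Sylow p G) (W : Subgroup G → Subgroup G)
    (hW : Cfsg.IsConjugacyFunctor p W)
    (hloc : ∀ T : Subgroup G, T ≠ ⊥ → Cfsg.IsWellPlaced p W (S : Subgroup G) T →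
      Cfsg.ControlsTransferIn p W (Subgroup.normalizer ((T : Subgroup G) : Set G)))
    (D : Subgroup G)
    (hD : D = (S : Subgroup G) ⊓ ⁅Subgroup.normalizer ((W (S : Subgroup G) : Subgroup G) : Set G),
      Subgroup.normalizer ((W (S : Subgroup G) : Subgroup G) : Set G)⁆) :
    ∀ d : ℕ, ∀ T : Subgroup G, IsWellPlaced p W (S : Subgroup G) T → T ≠ ⊥ →
      Nat.card (S : Subgroup G) - Nat.card (nS W (S : Subgroup G) T 0) = d →
      nS W (S : Subgroup G) T 0 ⊓ ⁅Subgroup.normalizer (T : Set G), Subgroup.normalizer (T : Set G)⁆ ≤ D := by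
  have hSp : IsPGroup p (S : Subgroup G) := S.isPGroup'
  intro d
  induction d using Nat.strong_induction_on with
  | _ d ih =>
  intro T hwp hT hd
  set R := nS W (S : Subgroup G) T 0 with hR
  have hRS : R ≤ (S : Subgroup G) := nS_le W _ T 0
  have hRp : IsPGroup p R := hSp.to_le hRS
  have hRN : R ≤ Subgroup.normalizer (T : Set G) := inf_le_right
  have hRi : ¬ p ∣ R.relIndex (Subgroup.normalizer (T : Set G)) := hwp.2 0
  have hct : CTWith W (Subgroup.normalizer (T : Set G)) R :=
    ctWith_of_controls hW (hloc T hT hwp) hRN hRp hRi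
  unfold CTWith at hct
  rw [hct]
  set U := functorTower W (S : Subgroup G) T 1 with hU
  have hUeq : U = W R := rfl
  rw [← hUeq]
  have hstep : R ⊓ ⁅Subgroup.normalizer (T : Set G) ⊓ Subgroup.normalizer (U : Set G),
      Subgroup.normalizer (T : Set G) ⊓ Subgroup.normalizer (U : Set G)⁆ ≤
      R ⊓ ⁅Subgroup.normalizer (U : Set G), Subgroup.normalizer (U : Set G)⁆ :=
    inf_le_inf_left _ (Subgroup.commutator_mono inf_le_right inf_le_right)
  refine hstep.trans ?_
  by_cases hRS' : R = (S : Subgroup G)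
  · rw [hD, hUeq, hRS']
  · have hTR : T ≤ R := le_inf hwp.1 Subgroup.le_normalizer
    have hRne : R ≠ ⊥ := by
      intro h0
      apply hT
      rw [eq_bot_iff, ← h0]; exact hTR
    have hUne : U ≠ ⊥ := (hW R hRp).2.1 hRne
    have hUwp : IsWellPlaced p W (S : Subgroup G) U := Cfsg.Agent.S1961.wellPlaced_shift hW hSp hwp
    have hNU : nS W (S : Subgroup G) U 0 = nS W (S : Subgroup G) T 1 := rfl
    have hlt : R < nS W (S : Subgroup G) T 1 := nS_lt_succ hW hSp T 0 hRS'
    have hcardlt : Nat.card R < Nat.card (nS W (S : Subgroup G) T 1) := by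
      by_contra hcon
      push Not at hcon
      exact hlt.ne (Subgroup.eq_of_le_of_card_ge hlt.le hcon)
    have hcardle : Nat.card (nS W (S : Subgroup G) T 1) ≤ Nat.card (S : Subgroup G) :=
      Subgroup.card_le_of_le (nS_le W _ T 1)
    have := ih (Nat.card (S : Subgroup G) - Nat.card (nS W (S : Subgroup G) U 0))
      (by rw [hNU]; omega) U hUwp hUne rfl
    rw [hNU] at this
    exact (inf_le_inf_right _ hlt.le).trans this

theorem claimVT [Finite G] {p : ℕ} [Fact p.Prime] (S : Sylow p G) (W : Subgroup G → Subgroup G)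
    (hW : Cfsg.IsConjugacyFunctor p W)
    (hloc : ∀ T : Subgroup G, T ≠ ⊥ → Cfsg.IsWellPlaced p W (S : Subgroup G) T →
      Cfsg.ControlsTransferIn p W (Subgroup.normalizer ((T : Subgroup G) : Set G)))
    (D : Subgroup G)
    (hD : D = (S : Subgroup G) ⊓ ⁅Subgroup.normalizer ((W (S : Subgroup G) : Subgroup G) : Set G),
      Subgroup.normalizer ((W (S : Subgroup G) : Subgroup G) : Set G)⁆)
    {A : Set G} {g : G}
    (hvia : Via {T : Subgroup G | IsWellPlaced p W (S : Subgroup G) T} A g) :
    ∀ a ∈ A, a⁻¹ * (g⁻¹ * a * g) ∈ D := by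
  induction hvia with
  | nil A =>
    intro a _
    simp
  | cons A T x g hT hx hA _ ih =>
    intro a ha
    have hwp : IsWellPlaced p W (S : Subgroup G) T := hT
    have h2 := ih (x⁻¹ * a * x) ⟨a, ha, rfl⟩
    have h1 : a⁻¹ * (x⁻¹ * a * x) ∈ D := by
      by_cases hTbot : T = ⊥
      · have : a ∈ T := hA ha
        rw [hTbot, Subgroup.mem_bot] at this
        rw [this]; simp
      · have hTR : T ≤ nS W (S : Subgroup G) T 0 := le_inf hwp.1 Subgroup.le_normalizer
        apply keyKT S W hW hloc D hD _ T hwp hTbot rfl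
        have haT : a ∈ T := hA ha
        have hxinv : x⁻¹ ∈ Subgroup.normalizer (T : Set G) := Subgroup.inv_mem _ hx
        have hconj : x⁻¹ * a * x ∈ T := by
          have := (Subgroup.mem_normalizer_iff.mp hxinv a).mp haT
          simpa using this
        refine ⟨hTR (T.mul_mem (T.inv_mem haT) hconj), ?_⟩
        have e : a⁻¹ * (x⁻¹ * a * x) = ⁅a⁻¹, x⁻¹⁆ := by rw [commutatorElement_def]; group
        rw [e]
        exact Subgroup.commutator_mem_commutator
          (Subgroup.inv_mem _ (Subgroup.le_normalizer haT)) hxinv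
    have e : a⁻¹ * ((x * g)⁻¹ * a * (x * g)) =
        (a⁻¹ * (x⁻¹ * a * x)) * ((x⁻¹ * a * x)⁻¹ * (g⁻¹ * (x⁻¹ * a * x) * g)) := by group
    rw [e]
    exact D.mul_mem h1 h2

/-- Local-to-global control of transfer through well-placed subgroups. Let p be a prime, G a finite group with Sylow p-subgroup S, and W a conjugacy functor for p on G. If W controls transfer in N_G(T) for every nonidentity subgroup T of S that is well placed in S with respect to W, then W controls transfer in G: S ∩ G' = S ∩ (N_G(W(S)))'. -/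
theorem result {G : Type*} [Group G] [Finite G] {p : ℕ} [Fact p.Prime] (S : Sylow p G) (W : Subgroup G → Subgroup G) (hW : Cfsg.IsConjugacyFunctor p W) (hloc : ∀ T : Subgroup G, T ≠ ⊥ → Cfsg.IsWellPlaced p W (S : Subgroup G) T → Cfsg.ControlsTransferIn p W (Subgroup.normalizer ((T : Subgroup G) : Set G))) : Cfsg.ControlsTransferIn p W ⊤ := by
  refine ⟨(S : Subgroup G), le_top, S.isPGroup', ?_, ?_⟩
  · rw [Subgroup.relIndex_top_right]; exact S.not_dvd_index
  · rw [top_inf_eq]
    apply le_antisymm
    · apply le_inf inf_le_left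
      have key := focal_le S ((S : Subgroup G) ⊓ ⁅Subgroup.normalizer ((W (S : Subgroup G) : Subgroup G) : Set G),
        Subgroup.normalizer ((W (S : Subgroup G) : Subgroup G) : Set G)⁆) (by
        intro a ha u hu
        have hvia := alperin_wellPlaced S hW {a} u⁻¹ (by
          intro x hx
          rw [Set.mem_singleton_iff.mp hx]; exact ha) (by
          rintro _ ⟨x, hx, rfl⟩
          rw [Set.mem_singleton_iff.mp hx]
          have e : u⁻¹⁻¹ * a * u⁻¹ = u * a * u⁻¹ := by rw [inv_inv]
          simp only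
          rw [e]
          exact hu)
        have := claimVT S W hW hloc _ rfl hvia a rfl
        simpa using this)
      exact key.trans inf_le_right
    · exact inf_le_inf_left _ (Subgroup.commutator_mono le_top le_top)

end Cfsg.Agent.S1962
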