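import Mathlib
import Cfsg.Statements.S1967
-- import your own Cfsg.Agent.* helpers here

set_option autoImplicit false
open Cfsg

namespace Cfsg.Agent.S1967

open Pointwise

/-- Let p be a prime, G a finite group with Sylow p-subgroup S and W a conjugacy functor for p on G. Then W controls strong fusion in G if and only if, whenever T ≤ S and g ∈ G satisfy gTg⁻¹ ≤ S, one can write g = n c with n ∈ N_G(W(S)) and c ∈ C_G(T). -/
theorem result {G : Type*} [Group G] [Finite G] {p : ℕ} [Fact p.Prime] (S : Sylow p G) (W : Subgroup G → Subgroup G) (hW : Cfsg.IsConjugacyFunctor p W) : Cfsg.ControlsStrongFusionIn p W ⊤ ↔ ∀ (T : Subgroup G) (g : G), T ≤ (S : Subgroup G) → T.map (MulAut.conj g).toMonoidHom ≤ (S : Subgroup G) → ∃ n ∈ Subgroup.normalizer ((W (S : Subgroup G) : Subgroup G) : Set G), ∃ c ∈ Subgroup.centralizer (T : Set G), g = n * c := by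
  constructor
  · rintro ⟨T₀, -, hT₀p, hT₀i, hctrl⟩ T g hTS hTg
    rw [Subgroup.relIndex_top_right] at hT₀i
    -- T₀ as a Sylow subgroup, conjugate to S
    obtain ⟨k, hk⟩ := MulAction.exists_smul_eq G (hT₀p.toSylow hT₀i) S
    have hkS : (S : Subgroup G) = T₀.map (MulAut.conj k).toMonoidHom := by
      have := congrArg (fun Q : Sylow p G => (Q : Subgroup G)) hk
      simp only [Sylow.coe_subgroup_smul, IsPGroup.toSylow_coe] at this
      rw [← this]
      rfl
    -- A = k⁻¹ T k, h = k⁻¹ g k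
    have hmemS : ∀ y, y ∈ (S : Subgroup G) → k⁻¹ * y * k ∈ T₀ := by
      intro y hy
      rw [hkS] at hy
      obtain ⟨z, hz, rfl⟩ := hy
      simp only [MulEquiv.coe_toMonoidHom, MulAut.conj_apply]
      have : k⁻¹ * (k * z * k⁻¹) * k = z := by group
      rw [this]; exact hz
    have hA : (fun t => k⁻¹ * t * k) '' (T : Set G) ⊆ T₀ := by
      rintro _ ⟨t, ht, rfl⟩
      exact hmemS t (hTS ht)
    have hAh : (fun a => (k⁻¹ * g * k) * a * (k⁻¹ * g * k)⁻¹) '' ((fun t => k⁻¹ * t * k) '' (T : Set G)) ⊆ T₀ := by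
      rintro _ ⟨_, ⟨t, ht, rfl⟩, rfl⟩
      have h1 : g * t * g⁻¹ ∈ (S : Subgroup G) := hTg ⟨t, ht, by simp [MulAut.conj_apply]⟩
      have := hmemS _ h1
      have h2 : (k⁻¹ * g * k) * (k⁻¹ * t * k) * (k⁻¹ * g * k)⁻¹ = k⁻¹ * (g * t * g⁻¹) * k := by group
      simp only [h2]
      exact this
    obtain ⟨x, hx, hxa⟩ := hctrl _ (k⁻¹ * g * k) (Subgroup.mem_top _) hA hAh
    have hxN : x ∈ Subgroup.normalizer ((W T₀ : Subgroup G) : Set G) := hx.2
    refine ⟨k * x * k⁻¹, ?_, k * (x⁻¹ * (k⁻¹ * g * k)) * k⁻¹, ?_, by group⟩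
    · -- normalizer of W S
      have hWS : W (S : Subgroup G) = (W T₀).map (MulAut.conj k).toMonoidHom := by
        rw [hkS]; exact (hW T₀ hT₀p).2.2 k
      rw [hWS]
      rw [Subgroup.mem_normalizer_iff]
      intro y
      have hiff : ∀ y, y ∈ (W T₀).map (MulAut.conj k).toMonoidHom ↔ k⁻¹ * y * k ∈ W T₀ := by
        intro y
        constructor
        · rintro ⟨z, hz, rfl⟩
          simp only [MulEquiv.coe_toMonoidHom, MulAut.conj_apply]
          have : k⁻¹ * (k * z * k⁻¹) * k = z := by group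
          rw [this]; exact hz
        · intro hy
          refine ⟨k⁻¹ * y * k, hy, ?_⟩
          simp only [MulEquiv.coe_toMonoidHom, MulAut.conj_apply]
          group
      rw [hiff, hiff]
      have h3 : k⁻¹ * (k * x * k⁻¹ * y * (k * x * k⁻¹)⁻¹) * k = x * (k⁻¹ * y * k) * x⁻¹ := by group
      rw [h3]
      exact Subgroup.mem_normalizer_iff.mp hxN _
    · rw [Subgroup.mem_centralizer_iff]
      intro t ht
      have h4 := hxa (k⁻¹ * t * k) ⟨t, ht, rfl⟩
      -- x a x⁻¹ = h a h⁻¹  ⇒  (x⁻¹ h) a = a (x⁻¹ h)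
      have h5 : (x⁻¹ * (k⁻¹ * g * k)) * (k⁻¹ * t * k) = (k⁻¹ * t * k) * (x⁻¹ * (k⁻¹ * g * k)) := by
        have : (k⁻¹ * g * k) * (k⁻¹ * t * k) = x * (k⁻¹ * t * k) * x⁻¹ * (k⁻¹ * g * k) := by
          rw [h4]; group
        calc (x⁻¹ * (k⁻¹ * g * k)) * (k⁻¹ * t * k) = x⁻¹ * ((k⁻¹ * g * k) * (k⁻¹ * t * k)) := by group
          _ = x⁻¹ * (x * (k⁻¹ * t * k) * x⁻¹ * (k⁻¹ * g * k)) := by rw [this]
          _ = (k⁻¹ * t * k) * (x⁻¹ * (k⁻¹ * g * k)) := by group
      calc t * (k * (x⁻¹ * (k⁻¹ * g * k)) * k⁻¹)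
          = k * ((k⁻¹ * t * k) * (x⁻¹ * (k⁻¹ * g * k))) * k⁻¹ := by group
        _ = k * ((x⁻¹ * (k⁻¹ * g * k)) * (k⁻¹ * t * k)) * k⁻¹ := by rw [h5]
        _ = k * (x⁻¹ * (k⁻¹ * g * k)) * k⁻¹ * t := by group
  · intro hfac
    refine ⟨(S : Subgroup G), le_top, S.2, ?_, ?_⟩
    · rw [Subgroup.relIndex_top_right]; exact S.not_dvd_index
    · intro A h _ hAS hAh
      have hT : Subgroup.closure A ≤ (S : Subgroup G) := (Subgroup.closure_le _).mpr hAS
      have hTh : (Subgroup.closure A).map (MulAut.conj h).toMonoidHom ≤ (S : Subgroup G) := by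
        rw [MonoidHom.map_closure, Subgroup.closure_le]
        rintro _ ⟨a, ha, rfl⟩
        apply hAh
        exact ⟨a, ha, by simp [MulAut.conj_apply]⟩
      obtain ⟨n, hn, c, hc, rfl⟩ := hfac _ h hT hTh
      refine ⟨n, ⟨Subgroup.mem_top _, hn⟩, ?_⟩
      intro a ha
      rw [Subgroup.mem_centralizer_iff] at hc
      have := hc a (Subgroup.subset_closure ha)
      calc n * a * n⁻¹ = n * (a * c) * c⁻¹ * n⁻¹ := by group
        _ = n * (c * a) * c⁻¹ * n⁻¹ := by rw [this]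
        _ = n * c * a * (n * c)⁻¹ := by group

end Cfsg.Agent.S1967
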