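import Mathlib
import Cfsg.Statements.S1977
import Cfsg.Agent.Lib.Helper4.KInf2

set_option autoImplicit false
open Cfsg

namespace Cfsg.Agent.S1977

open Cfsg.Agent.Lib.Helper4
open scoped commutatorElement

variable {P : Type*} [Group P]

theorem normalizer_le_normalizer_sup (B : Subgroup P) (c : P)
    (hcN : ∀ g ∈ Subgroup.normalizer (B : Set P), ⁅c, g⁆ ∈ B) :
    Subgroup.normalizer (B : Set P) ≤
      Subgroup.normalizer ((B ⊔ Subgroup.zpowers c : Subgroup P) : Set P) := by
  intro g hg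
  have hgB := Subgroup.mem_normalizer_iff_map_conj_eq.mp hg
  rw [Subgroup.mem_normalizer_iff_map_conj_eq, Subgroup.map_sup, hgB, MonoidHom.map_zpowers]
  have hconj : ((MulAut.conj g : P ≃* P) : P →* P) c = g * c * g⁻¹ := by simp [MulAut.conj_apply]
  rw [hconj]
  have h1 : ⁅c, g⁆ ∈ B := hcN g hg
  apply le_antisymm
  · apply sup_le le_sup_left
    rw [Subgroup.zpowers_le]
    have : g * c * g⁻¹ = ⁅c, g⁆⁻¹ * c := by rw [commutatorElement_def]; group
    rw [this]
    exact Subgroup.mul_mem _ (le_sup_left (a := B) (B.inv_mem h1))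
      (le_sup_right (a := B) (Subgroup.mem_zpowers c))
  · apply sup_le le_sup_left
    rw [Subgroup.zpowers_le]
    have hmem : ⁅c, g⁆ * (g * c * g⁻¹) ∈ B ⊔ Subgroup.zpowers (g * c * g⁻¹) :=
      Subgroup.mul_mem _ (le_sup_left (a := B) h1)
        (le_sup_right (a := B) (Subgroup.mem_zpowers _))
    have : ⁅c, g⁆ * (g * c * g⁻¹) = c := by rw [commutatorElement_def]; group
    rw [this] at hmem
    exact hmem

theorem le_normalizer_of_commutator_le (B Q : Subgroup P) (h : ⁅B, Q⁆ ≤ B) :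
    Q ≤ Subgroup.normalizer (B : Set P) := by
  have key : ∀ q ∈ Q, ∀ b ∈ B, q * b * q⁻¹ ∈ B := by
    intro q hq b hb
    have h1 : ⁅b⁻¹, q⁆ ∈ B := h (Subgroup.commutator_mem_commutator (B.inv_mem hb) hq)
    have h2 : q * b * q⁻¹ = b * ⁅b⁻¹, q⁆ := by rw [commutatorElement_def]; group
    rw [h2]
    exact B.mul_mem hb h1
  intro q hq
  rw [Subgroup.mem_normalizer_iff]
  intro b
  constructor
  · exact key q hq b
  · intro hb
    have := key q⁻¹ (Q.inv_mem hq) _ hb
    have h2 : q⁻¹ * (q * b * q⁻¹) * q⁻¹⁻¹ = b := by group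
    rw [h2] at this
    exact this

/-- Let P be a finite p-group. A member B that is maximal under inclusion in any one of the families used to build the K-sequence of P — the class-two family, the lower-star family relative to an odd-indexed term, or the upper-star family relative to an even-indexed term — contains its centralizer: C_P(B) ≤ B. -/
theorem result {P : Type*} [Group P] [Finite P] {p : ℕ} [Fact p.Prime] (hP : IsPGroup p P) (B : Subgroup P) (𝒦 : Set (Subgroup P)) (h𝒦 : 𝒦 = Cfsg.classTwoSubgroups P ∨ (∃ n, 𝒦 = Cfsg.kLowerStarFamily (Cfsg.kSeqOdd P n)) ∨ ∃ n, 𝒦 = Cfsg.kUpperStarFamily (Cfsg.kSeqEven P n)) (hB : B ∈ 𝒦) (hmax : ∀ C ∈ 𝒦, B ≤ C → C = B) : Subgroup.centralizer (B : Set P) ≤ B := by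
  by_contra hCB
  obtain ⟨c, hc, hcB, hcN⟩ := exists_extension_elt hP B hCB
  have hBB' : B ≤ B ⊔ Subgroup.zpowers c := le_sup_left
  suffices h : B ⊔ Subgroup.zpowers c ∈ 𝒦 by
    have h1 := hmax _ h hBB'
    apply hcB
    rw [← h1]
    exact le_sup_right (a := B) (Subgroup.mem_zpowers c)
  rcases h𝒦 with rfl | ⟨n, rfl⟩ | ⟨n, rfl⟩
  · exact sup_mem_classTwo B c hc hcN hB
  · obtain ⟨h1, h2, h3⟩ := hB
    refine ⟨sup_mem_classTwo B c hc hcN h1, h2.trans (normalizer_le_normalizer_sup B c hcN), ?_⟩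
    intro A hA hAQ hB'A hcomm1 hcomm2
    have hBA : ⁅B, A⁆ ≤ B ⊓ Subgroup.centralizer (B : Set P) := by
      apply h3 A hA hAQ (hBB'.trans hB'A)
      · rw [eq_bot_iff, ← hcomm1]
        exact Subgroup.commutator_mono hBB' le_rfl
      · rw [eq_bot_iff, ← hcomm2]
        exact Subgroup.commutator_mono
          (Subgroup.commutator_mono (zOf_le_zOf_sup B c hc) le_rfl) le_rfl
    rw [Subgroup.commutator_le]
    intro g hg a ha
    exact comm_sup_mem B c hc hcN a (h2 (hAQ ha))
      (fun b hb => hBA (Subgroup.commutator_mem_commutator hb ha)) g hg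
  · obtain ⟨h1, h2⟩ := hB
    have hQN : Cfsg.kSeqEven P n ≤ Subgroup.normalizer (B : Set P) :=
      le_normalizer_of_commutator_le B _ (h2.trans inf_le_left)
    refine ⟨sup_mem_classTwo B c hc hcN h1, ?_⟩
    rw [Subgroup.commutator_le]
    intro g hg q hq
    exact comm_sup_mem B c hc hcN q (hQN hq)
      (fun b hb => h2 (Subgroup.commutator_mem_commutator hb hq)) g hg

end Cfsg.Agent.S1977
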