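import Mathlib
import Cfsg.Statements.S1978
import Cfsg.Agent.S1977

set_option autoImplicit false
open Cfsg

namespace Cfsg.Agent.S1978

open Cfsg.Agent.Lib.Helper4

theorem centralizer_sSup_le {P : Type*} [Group P] [Finite P] {p : ℕ} [Fact p.Prime] (hP : IsPGroup p P)
    (𝒦 : Set (Subgroup P))
    (h𝒦 : 𝒦 = Cfsg.classTwoSubgroups P ∨ (∃ n, 𝒦 = Cfsg.kLowerStarFamily (Cfsg.kSeqOdd P n)) ∨
      ∃ n, 𝒦 = Cfsg.kUpperStarFamily (Cfsg.kSeqEven P n))
    (hne : 𝒦.Nonempty) : Subgroup.centralizer ((sSup 𝒦 : Subgroup P) : Set P) ≤ sSup 𝒦 := by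
  obtain ⟨B, hB⟩ := (Set.toFinite 𝒦).exists_maximal hne
  have h1 : Subgroup.centralizer (B : Set P) ≤ B :=
    Cfsg.Agent.S1977.result hP B 𝒦 h𝒦 hB.prop
      (fun C hC hBC => le_antisymm (hB.le_of_ge hC hBC) hBC)
  have h2 : B ≤ sSup 𝒦 := le_sSup hB.prop
  exact (Subgroup.centralizer_le h2).trans (h1.trans h2)

/-- Let P be a finite p-group. Each of the two K-infinity subgroups of P contains its own centralizer in P, which in turn contains Z(P); in particular both are nontrivial when P is. -/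
theorem result {P : Type*} [Group P] [Finite P] {p : ℕ} [Fact p.Prime] (hP : IsPGroup p P) : Subgroup.centralizer (Cfsg.kInfLower P : Set P) ≤ Cfsg.kInfLower P ∧ Subgroup.center P ≤ Subgroup.centralizer (Cfsg.kInfLower P : Set P) ∧ Subgroup.centralizer (Cfsg.kInfUpper P : Set P) ≤ Cfsg.kInfUpper P ∧ Subgroup.center P ≤ Subgroup.centralizer (Cfsg.kInfUpper P : Set P) := by
  obtain ⟨k, hk⟩ := kSeq_stab (P := P)
  obtain ⟨hL, hU⟩ := hk (k + 1) (Nat.le_succ k)
  refine ⟨?_, Subgroup.center_le_centralizer _, ?_, Subgroup.center_le_centralizer _⟩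
  · rw [← hL, kSeqEven_def]
    apply centralizer_sSup_le hP _ (Or.inr (Or.inl ⟨k + 1, rfl⟩))
    exact ⟨⊥, abelian_normal_mem_lower ⊥ inferInstance _⟩
  · rw [← hU, kSeqOdd_succ']
    apply centralizer_sSup_le hP _ (Or.inr (Or.inr ⟨k, rfl⟩))
    exact ⟨⊥, abelian_normal_mem_upper ⊥ inferInstance _⟩

end Cfsg.Agent.S1978
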