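import Mathlib
import Cfsg.Agent.Lib.Helper4.KInf3
-- Template for statement S1979 (row 1979; see /opt/grader/pristine/manifest.json for weights).
-- Copy to Cfsg/Agent/S1979.lean and replace the sorry. The statement below is byte-identical to the frozen
-- statement Cfsg.CfsgFrozen.S1979 (Cfsg/Statements/S1979.lean; the theorem Cfsg.kinf_of_subgroup_containing_all_terms);
-- the grader kernel-checks Cfsg.Agent.S1979.result against that frozen type. Keep the theorem IN THIS FILE
-- (a `result` declared elsewhere and merely imported here is not credited); helpers may live anywhere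
-- under Cfsg/Agent/.
import Cfsg.Statements.S1979
-- import your own Cfsg.Agent.* helpers here

set_option autoImplicit false
open Cfsg

namespace Cfsg.Agent.S1979

/-- Let P be a finite p-group and Q a subgroup of P containing every term of the K-sequence of P of nonnegative index (every even-indexed term and every odd-indexed term after the initial term P). Then the K-infinity subgroups of Q, computed in Q and viewed in P, equal those of P. -/
theorem result {P : Type*} [Group P] [Finite P] {p : ℕ} [Fact p.Prime] (hP : IsPGroup p P) (Q : Subgroup P) (hQ : ∀ n : ℕ, Cfsg.kSeqEven P n ≤ Q ∧ Cfsg.kSeqOdd P (n + 1) ≤ Q) : (Cfsg.kInfLower ↥Q).map Q.subtype = Cfsg.kInfLower P ∧ (Cfsg.kInfUpper ↥Q).map Q.subtype = Cfsg.kInfUpper P := by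
  apply Cfsg.Agent.Lib.Helper4.kInf_map_of_injective Q.subtype Q.subtype_injective
  intro n
  rw [Subgroup.range_subtype]
  exact hQ n

end Cfsg.Agent.S1979
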