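import Mathlib
import Cfsg.Agent.Lib.Helper4.KCritical
import Cfsg.Agent.Lib.Helper4.TransferSect1
import Cfsg.Agent.S1972
-- Template for statement S1984 (row 1984; see /opt/grader/pristine/manifest.json for weights).
-- Copy to Cfsg/Agent/S1984.lean and replace the sorry. The statement below is byte-identical to the frozen
-- statement Cfsg.CfsgFrozen.S1984 (Cfsg/Statements/S1984.lean; the theorem Cfsg.kinf_lower_controls_transfer_p_ge_five);
-- the grader kernel-checks Cfsg.Agent.S1984.result against that frozen type. Keep the theorem IN THIS FILE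
-- (a `result` declared elsewhere and merely imported here is not credited); helpers may live anywhere
-- under Cfsg/Agent/.
import Cfsg.Statements.S1984
-- import your own Cfsg.Agent.* helpers here

set_option autoImplicit false
universe u
open Cfsg

namespace Cfsg.Agent.S1984

/-- Let p ≥ 5 be a prime and G a finite group. Then the lower K-infinity subgroup controls transfer in G: for some (equivalently, every) Sylow p-subgroup S of G, S ∩ G' = S ∩ (N_G(K))', where K is the lower K-infinity subgroup of S. -/
theorem result {G : Type u} [Group G] [Finite G] {p : ℕ} [Fact p.Prime] (hp : 5 ≤ p) : Cfsg.ControlsTransferIn p (Cfsg.inducedFunctor (G := G) Cfsg.kInfLower) ⊤ := by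
  have hW := Cfsg.Agent.Lib.Helper4.isCharPFunctor_kInfLower.{u} p
  have hctl := Cfsg.Agent.S1972.result (G := G) (p := p) Cfsg.kInfLower hW (by
    intro K R hR _ T hn
    obtain ⟨g, hgT, hgQ, hE, -⟩ := Cfsg.Agent.Lib.Helper4.exists_quartic_of_not_normal T (Or.inl hn)
    refine ⟨g, hgT, hgQ, ?_⟩
    intro U V hch hU
    haveI : U.Normal := hch.2.1
    refine le_trans (Cfsg.Agent.Lib.Helper4.iterCommutator_antitone U _ ?_) (hE U V hch hU)
    omega)
  obtain ⟨K, R, hR, ⟨e⟩⟩ := (Cfsg.Agent.Lib.Helper4.IsSectionOf.refl G).exists_equiv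
  haveI := hR
  exact Cfsg.Agent.Lib.Helper4.ct_top_of_mulEquiv hW e.symm (hctl K R)

end Cfsg.Agent.S1984
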