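import Mathlib
import Cfsg.Agent.Lib.Helper4.KWeak
import Cfsg.Agent.S1973
-- Template for statement S1985 (row 1985; see /opt/grader/pristine/manifest.json for weights).
-- Copy to Cfsg/Agent/S1985.lean and replace the sorry. The statement below is byte-identical to the frozen
-- statement Cfsg.CfsgFrozen.S1985 (Cfsg/Statements/S1985.lean; the theorem Cfsg.kinf_lower_controls_weak_closure_of_elements_p_odd);
-- the grader kernel-checks Cfsg.Agent.S1985.result against that frozen type. Keep the theorem IN THIS FILE
-- (a `result` declared elsewhere and merely imported here is not credited); helpers may live anywhere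
-- under Cfsg/Agent/.
import Cfsg.Statements.S1985
-- import your own Cfsg.Agent.* helpers here

set_option autoImplicit false
universe u
open Cfsg

namespace Cfsg.Agent.S1985

/-- Let p be an odd prime and G a finite group. Then the lower K-infinity subgroup controls weak closure of elements in G: the lower K-infinity subgroup of every p-subgroup P of G contains Z(P), and for some (equivalently, every) Sylow p-subgroup S of G, with K the lower K-infinity subgroup of S, every element of S commuting with all of N_G(K) is weakly closed in S with respect to G (every G-conjugate of it lying in S equals it). -/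
theorem result {G : Type u} [Group G] [Finite G] {p : ℕ} [Fact p.Prime] (hp : p ≠ 2) : Cfsg.ControlsWeakClosureOfElementsIn p (Cfsg.inducedFunctor (G := G) Cfsg.kInfLower) ⊤ := by
  have hWc := Cfsg.Agent.Lib.Helper4.isCharPFunctor_kInfLower.{u} p
  have hp3 : 2 ≤ p - 1 := by
    have := (Fact.out : p.Prime).two_le
    omega
  exact Cfsg.Agent.S1973.result (G := G) (p := p) (Cfsg.inducedFunctor Cfsg.kInfLower)
    (Cfsg.Agent.Lib.Helper4.isConjugacyFunctor_inducedFunctor hWc)
    (fun P _ => Cfsg.Agent.Lib.Helper4.zOf_le_inducedFunctor_kInfLower P)
    (by
      intro H T hTH hTp hTi hnot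
      obtain ⟨g, hgT, hgQ, hq⟩ := Cfsg.Agent.Lib.Helper4.exists_quadratic_in_subgroup hWc (Or.inl rfl)
        H T hTH hTp hTi hnot
      refine ⟨g, hgT, hgQ, ?_⟩
      intro U V _ hU
      exact Cfsg.Agent.Lib.Helper4.iterCommutator_le_of_quadratic hU hq (p - 1) hp3) ⊤

end Cfsg.Agent.S1985
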