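import Mathlib
import Cfsg.Agent.Lib.Helper4.KWeak
import Cfsg.Agent.S1974
-- Template for statement S1986 (row 1986; see /opt/grader/pristine/manifest.json for weights).
-- Copy to Cfsg/Agent/S1986.lean and replace the sorry. The statement below is byte-identical to the frozen
-- statement Cfsg.CfsgFrozen.S1986 (Cfsg/Statements/S1986.lean; the theorem Cfsg.kinf_lower_normalizer_central_pth_powers_weakly_closed);
-- the grader kernel-checks Cfsg.Agent.S1986.result against that frozen type. Keep the theorem IN THIS FILE
-- (a `result` declared elsewhere and merely imported here is not credited); helpers may live anywhere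
-- under Cfsg/Agent/.
import Cfsg.Statements.S1986
-- import your own Cfsg.Agent.* helpers here

set_option autoImplicit false
universe u
open Cfsg

namespace Cfsg.Agent.S1986

/-- Let p be a prime, G a finite group with Sylow p-subgroup S, K the lower K-infinity subgroup of S, and Z the subgroup of p-th powers of elements of Z(S). Then every element of Z commuting with all of N_G(K) is weakly closed in S with respect to G, and every subgroup of Z that is normal in N_G(K) is weakly closed in S with respect to G. -/
theorem result {G : Type u} [Group G] [Finite G] {p : ℕ} [Fact p.Prime] (S : Sylow p G) (Z : Subgroup G) (hZ : Z = Subgroup.closure ((fun z : G => z ^ p) '' (((S : Subgroup G) ⊓ Subgroup.centralizer (((S : Subgroup G) : Subgroup G) : Set G) : Subgroup G) : Set G))) : (∀ x ∈ Z ⊓ Subgroup.centralizer ((Subgroup.normalizer ((Cfsg.inducedFunctor Cfsg.kInfLower (S : Subgroup G) : Subgroup G) : Set G) : Subgroup G) : Set G), ∀ g : G, g * x * g⁻¹ ∈ (S : Subgroup G) → g * x * g⁻¹ = x) ∧ ∀ A : Subgroup G, A ≤ Z → Subgroup.normalizer ((Cfsg.inducedFunctor Cfsg.kInfLower (S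 : Subgroup G) : Subgroup G) : Set G) ≤ Subgroup.normalizer ((A : Subgroup G) : Set G) → Cfsg.IsWeaklyClosed A (S : Subgroup G) := by
  have hWc := Cfsg.Agent.Lib.Helper4.isCharPFunctor_kInfLower.{u} p
  exact Cfsg.Agent.S1974.result (G := G) (p := p) S (Cfsg.inducedFunctor Cfsg.kInfLower)
    (Cfsg.Agent.Lib.Helper4.isConjugacyFunctor_inducedFunctor hWc)
    (fun P _ => Cfsg.Agent.Lib.Helper4.zOf_le_inducedFunctor_kInfLower P)
    (fun H T hTH hTp hTi hnot =>
      Cfsg.Agent.Lib.Helper4.exists_quadratic_in_subgroup hWc (Or.inl rfl) H T hTH hTp hTi hnot)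
    Z hZ

end Cfsg.Agent.S1986
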