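import Cfsg.Statements.S1990
import Cfsg.Agent.Lib.Lead.GT15

set_option autoImplicit false
universe u
open Cfsg

namespace Cfsg.Agent.S1990

/-- Let p be an odd prime, G a finite group with Sylow p-subgroup S, and W an isomorphism-invariant p-group functor (W assigns to every group Q a subgroup W(Q), nontrivial whenever Q is a nontrivial finite p-group, and every isomorphism from a finite p-group Q onto a group R carries W(Q) onto W(R)). Suppose N_G(W(S)) has a normal p-complement, and W(T) controls strong fusion in every section G* = K/R of G all of whose sections are p-stable in the normalizer form, for every Sylow p-subgroup T of G*. Then G has a normal p-complement. -/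
theorem result {G : Type u} [Group G] [Finite G] {p : ℕ} [Fact p.Prime] (hp : p ≠ 2) (W : ∀ (Q : Type u) [Group Q], Subgroup Q) (hW : Cfsg.IsCharPFunctor.{u} p W) (S : Sylow p G) (hN : Cfsg.HasNormalPComplement p ↥(Subgroup.normalizer ((Cfsg.inducedFunctor (G := G) W (S : Subgroup G) : Subgroup G) : Set G))) (hctl : ∀ (K R : Subgroup G) [hR : (R.subgroupOf K).Normal], (∀ (K' R' : Subgroup (↥K ⧸ R.subgroupOf K)) [hR' : (R'.subgroupOf K').Normal], Cfsg.IsNormalizerPStable p (↥K' ⧸ R'.subgroupOf K')) → ∀ T : Sylow p (↥K ⧸ R.subgroupOf K), Cfsg.ControlsStrongFusion p (Cfsg.inducedFunctor (G := (↥K ⧸ R.subgroupOf K)) W (T : Subgroup (↥K ⧸ R.subgroupOf K)))) : Cfsg.HasNormalPComplement p G := by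
  classical
  have hWs := Cfsg.Agent.Lib.Lead.GT.isSecFunctor_induced hW
  have key := Cfsg.Agent.Lib.Lead.GT.reduction (p := p)
    (C := fun (X : Type u) [Group X] => Cfsg.Agent.Lib.Helper4.IsSectionOf G X) (φ := True) hWs
    (fun X _ _ hX M => hX.subgroup M) (fun X _ _ hX R _ => hX.quotient R) (by
      intro X _ _ hmc T D hAdm hN hs
      have hDT : D = (T : Subgroup X) := hAdm.2 trivial
      subst hDT
      obtain ⟨K, R, hn, ⟨e⟩⟩ := hmc.mem.exists_equiv
      obtain ⟨K₀, hK₀, -⟩ := hs.shape
      have hes : Function.Surjective e.toMonoidHom := e.surjective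
      have hShY := hK₀.map e.toMonoidHom hes
      have hstab : ∀ (K' R' : Subgroup (↥K ⧸ R.subgroupOf K)) [hR' : (R'.subgroupOf K').Normal],
          Cfsg.IsNormalizerPStable p (↥K' ⧸ R'.subgroupOf K') := by
        intro K' R' hR'
        exact Cfsg.Agent.Lib.Lead.GT.isNormalizerPStable_of_shape hp _ _
          ((hShY.subgroupOf K').map (QuotientGroup.mk' (R'.subgroupOf K'))
            (QuotientGroup.mk'_surjective _))
      have hc := hctl K R hstab (T.mapSurjective hes)
      have hN' := hWs.pnilp_equiv e (T : Subgroup X) T.isPGroup' hN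
      rw [Sylow.coe_mapSurjective] at hc
      have hY := Cfsg.Agent.Lib.Lead.GT.pnilp_of_controlsStrongFusion hW (T.mapSurjective hes)
        (by rw [Sylow.coe_mapSurjective]; exact hc) (by rw [Sylow.coe_mapSurjective]; exact hN')
      exact hmc.not_nilp (hY.of_equiv e.symm))
  apply Cfsg.Agent.Lib.Lead.GT.pnilp_iff.mp
  exact key G (Cfsg.Agent.Lib.Helper4.IsSectionOf.refl G) S (S : Subgroup G)
    ⟨Cfsg.Agent.Lib.Lead.ZJ.sClosed_self _, fun _ => rfl⟩
    (Cfsg.Agent.Lib.Lead.GT.pnilp_iff.mpr hN)

end Cfsg.Agent.S1990
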