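import Mathlib
import Cfsg.Statements.S1988
import Cfsg.Agent.Lib.Helper4.PStab5
import Cfsg.Agent.Lib.Helper4.NPC
import Cfsg.Agent.S1990
import Cfsg.Agent.S1978
-- import your own Cfsg.Agent.* helpers here

set_option autoImplicit false
universe u
open Cfsg

namespace Cfsg.Agent.S1988

/-- Let p be an odd prime, G a finite group with Sylow p-subgroup S and K the lower K-infinity subgroup of S. If N_G(K) has a normal p-complement, or if N_G(K)/C_G(K) is a p-group (every element of N_G(K) of order prime to p centralizes K), then G has a normal p-complement. -/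
theorem result {G : Type u} [Group G] [Finite G] {p : ℕ} [Fact p.Prime] (hp : p ≠ 2) (S : Sylow p G) (h : Cfsg.HasNormalPComplement p ↥(Subgroup.normalizer ((Cfsg.inducedFunctor Cfsg.kInfLower (S : Subgroup G) : Subgroup G) : Set G)) ∨ ∀ g ∈ Subgroup.normalizer ((Cfsg.inducedFunctor Cfsg.kInfLower (S : Subgroup G) : Subgroup G) : Set G), (orderOf g).Coprime p → g ∈ Subgroup.centralizer ((Cfsg.inducedFunctor Cfsg.kInfLower (S : Subgroup G) : Subgroup G) : Set G)) : Cfsg.HasNormalPComplement p G := by
  have hW := Cfsg.Agent.Lib.Helper4.isCharPFunctor_kInfLower.{u} p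
  obtain ⟨K, hKdef⟩ : ∃ K, K = Cfsg.inducedFunctor Cfsg.kInfLower (S : Subgroup G) := ⟨_, rfl⟩
  rw [← hKdef] at h
  have hN : Cfsg.HasNormalPComplement p ↥(Subgroup.normalizer ((K : Subgroup G) : Set G)) := by
    rcases h with h | h
    · exact h
    · have hKS : K ≤ (S : Subgroup G) := by
        rw [hKdef]; exact Cfsg.Agent.Lib.Helper4.inducedFunctor_le _
      have hSN : (S : Subgroup G) ≤ Subgroup.normalizer ((K : Subgroup G) : Set G) := by
        rw [hKdef]
        exact Subgroup.le_normalizer.trans
          (Cfsg.Agent.Lib.Helper4.normalizer_le_normalizer_functor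
            (Cfsg.Agent.Lib.Helper4.isConjugacyFunctor_inducedFunctor (X := G) hW) S.isPGroup')
      haveI hTn : (K.subgroupOf (Subgroup.normalizer ((K : Subgroup G) : Set G))).Normal :=
        Subgroup.normal_in_normalizer
      apply Cfsg.Agent.Lib.Helper4.hasNormalPComplement_of_centralizer (S.subtype hSN)
        (K.subgroupOf (Subgroup.normalizer ((K : Subgroup G) : Set G)))
      · intro x hx
        rw [Subgroup.mem_inf] at hx
        obtain ⟨hxS, hxc⟩ := hx
        rw [Sylow.coe_subtype, Subgroup.mem_subgroupOf] at hxS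
        rw [Subgroup.mem_subgroupOf]
        have hKmem : ∀ y : G, y ∈ Cfsg.inducedFunctor Cfsg.kInfLower (S : Subgroup G) → y ∈ K := by
          intro y hy; rw [hKdef]; exact hy
        apply hKmem
        have hcen : (⟨(x : G), hxS⟩ : ↥(S : Subgroup G)) ∈
            Subgroup.centralizer (Cfsg.kInfLower ↥(S : Subgroup G) : Set ↥(S : Subgroup G)) := by
          rw [Subgroup.mem_centralizer_iff]
          intro k hk
          have hkK : (k : G) ∈ K := by
            rw [hKdef]; exact ⟨k, hk, rfl⟩
          have hkN : (k : G) ∈ Subgroup.normalizer ((K : Subgroup G) : Set G) := hSN k.2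
          have := (Subgroup.mem_centralizer_iff.mp hxc) ⟨(k : G), hkN⟩
            (by rw [SetLike.mem_coe, Subgroup.mem_subgroupOf]; exact hkK)
          apply Subtype.ext
          have h2 := congrArg Subtype.val this
          simpa using h2
        have := (Cfsg.Agent.S1978.result (P := ↥(S : Subgroup G)) S.isPGroup').1 hcen
        exact ⟨_, this, rfl⟩
      · intro g hg
        have hg' : (orderOf (g : G)).Coprime p := by
          rw [Subgroup.orderOf_coe]; exact hg
        have hc := h (g : G) g.2 hg'
        rw [Subgroup.mem_centralizer_iff]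
        intro t ht
        rw [SetLike.mem_coe, Subgroup.mem_subgroupOf] at ht
        have := (Subgroup.mem_centralizer_iff.mp hc) (t : G) ht
        apply Subtype.ext
        simpa using this
  rw [hKdef] at hN
  exact Cfsg.Agent.S1990.result hp Cfsg.kInfLower hW S hN (fun K' R' hR' hall T =>
    (Cfsg.Agent.Lib.Helper4.kInf_csf_of_pstable_sections (G := ↥K' ⧸ R'.subgroupOf K') hall _
      (Cfsg.Agent.Lib.Helper4.IsSectionOf.refl _) T).1)

end Cfsg.Agent.S1988
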