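import Mathlib
import Cfsg.Agent.Lib.Helper4.KTransfer
import Cfsg.Agent.S1971
-- Template for statement S1991 (row 1991; see /opt/grader/pristine/manifest.json for weights).
-- Copy to Cfsg/Agent/S1991.lean and replace the sorry. The statement below is byte-identical to the frozen
-- statement Cfsg.CfsgFrozen.S1991 (Cfsg/Statements/S1991.lean; the theorem Cfsg.cfun_index_p_quotient_of_sylow_automizer_p_group_p_ge_five);
-- the grader kernel-checks Cfsg.Agent.S1991.result against that frozen type. Keep the theorem IN THIS FILE
-- (a `result` declared elsewhere and merely imported here is not credited); helpers may live anywhere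
-- under Cfsg/Agent/.
import Cfsg.Statements.S1991
-- import your own Cfsg.Agent.* helpers here

set_option autoImplicit false
open Cfsg

namespace Cfsg.Agent.S1991

/-- Let p ≥ 5 be a prime and S a nontrivial Sylow p-subgroup of the finite group G. If N_G(S)/C_G(S) is a p-group (every element of N_G(S) of order prime to p centralizes S), then G has a normal subgroup of index p. -/
theorem result {G : Type*} [Group G] [Finite G] {p : ℕ} [Fact p.Prime] (hp : 5 ≤ p) (S : Sylow p G) (hS : (S : Subgroup G) ≠ ⊥) (hN : ∀ g ∈ Subgroup.normalizer (((S : Subgroup G) : Subgroup G) : Set G), (orderOf g).Coprime p → g ∈ Subgroup.centralizer (((S : Subgroup G) : Subgroup G) : Set G)) : ∃ N : Subgroup G, N.Normal ∧ N.index = p := by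
  exact Cfsg.Agent.S1971.result (G := G) Cfsg.kInfLower (Cfsg.Agent.Lib.Helper4.isCharPFunctor_kInfLower p)
    (fun K R _ => Cfsg.Agent.Lib.Helper4.kInfLower_ct_sections hp K R) S hS hN

end Cfsg.Agent.S1991
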