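import Mathlib
import Cfsg.Statements.S1992
import Cfsg.Agent.Lib.Helper4.SelfNormSylow
import Cfsg.Agent.Lib.Helper2.Schmidt2
import Cfsg.Agent.Lib.Helper3.PComp2
import Cfsg.Agent.S0144
-- import your own Cfsg.Agent.* helpers here

set_option autoImplicit false
open Cfsg

namespace Cfsg.Agent.S1992

/-- Let G be a finite group in which, for every prime q dividing the order of G, every Sylow q-subgroup is its own normalizer. Then the order of G is a power of a single prime (G is a q-group for some prime q; for G trivial any prime works). -/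
theorem result {G : Type*} [Group G] [Finite G] (h : ∀ q : ℕ, q.Prime → q ∣ Nat.card G → ∀ Q : Sylow q G, Subgroup.normalizer ((Q : Subgroup G) : Set G) = Q) : ∃ q : ℕ, q.Prime ∧ IsPGroup q G := by
  classical
  by_cases h1 : Nat.card G = 1
  · refine ⟨2, Nat.prime_two, ?_⟩
    haveI : Fact (Nat.Prime 2) := ⟨Nat.prime_two⟩
    exact IsPGroup.of_card (n := 0) (by rw [h1, pow_zero])
  have hpos : Nat.card G ≠ 0 := Nat.card_pos.ne'
  haveI hnt : Nontrivial G := by
    by_contra hnt
    rw [not_nontrivial_iff_subsingleton] at hnt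
    exact h1 Nat.card_unique
  -- a normal subgroup of prime index
  have hN : ∃ N : Subgroup G, N.Normal ∧ N.index.Prime := by
    by_cases h5 : ∃ p : ℕ, p.Prime ∧ 5 ≤ p ∧ p ∣ Nat.card G
    · obtain ⟨p, hp, hp5, hpd⟩ := h5
      haveI : Fact p.Prime := ⟨hp⟩
      obtain ⟨S⟩ : Nonempty (Sylow p G) := inferInstance
      obtain ⟨N, hNn, hNi⟩ := Cfsg.Agent.Lib.Helper4.exists_normal_index_p_of_self_normalizing hp5 S
        (S.ne_bot_of_dvd_card hpd) (h p hp hpd S)
      exact ⟨N, hNn, by rw [hNi]; exact hp⟩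
    · push Not at h5
      obtain ⟨a, m₁, hm₁, e₁⟩ := Nat.exists_eq_pow_mul_and_not_dvd hpos 2 (by norm_num)
      have hm₁0 : m₁ ≠ 0 := by
        rintro rfl
        rw [mul_zero] at e₁; exact hpos e₁
      obtain ⟨b, m₂, hm₂, e₂⟩ := Nat.exists_eq_pow_mul_and_not_dvd hm₁0 3 (by norm_num)
      have hm₂1 : m₂ = 1 := by
        rw [Nat.eq_one_iff_not_exists_prime_dvd]
        intro r hr hrd
        have hrG : r ∣ Nat.card G := by
          rw [e₁, e₂]
          exact (hrd.trans (dvd_mul_left _ _)).trans (dvd_mul_left _ _)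
        have hr5 : r < 5 := by
          by_contra hge
          push Not at hge
          exact h5 r hr hge hrG
        have hr2 := hr.two_le
        interval_cases r
        · apply hm₁
          rw [e₂]; exact hrd.trans (dvd_mul_left _ _)
        · exact hm₂ hrd
        · exact absurd hr (by norm_num)
      rw [hm₂1, mul_one] at e₂
      rw [e₂] at e₁
      haveI : Group.IsSolvable G := Cfsg.Agent.S0144.result 2 3 a b Nat.prime_two Nat.prime_three e₁
      exact Cfsg.Agent.Lib.Helper2.Schmidt.exists_normal_prime_index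
  obtain ⟨N, hNn, hNr⟩ := hN
  obtain ⟨r, hrdef⟩ : ∃ r, r = N.index := ⟨_, rfl⟩
  rw [← hrdef] at hNr
  refine ⟨r, hNr, ?_⟩
  have : Fact r.Prime := ⟨hNr⟩
  have hall : ∀ {d : ℕ}, d.Prime → d ∣ Nat.card G → d = r := by
    intro q hq hqd
    by_contra hne
    have : Fact q.Prime := ⟨hq⟩
    obtain ⟨Q⟩ : Nonempty (Sylow q G) := inferInstance
    have hcop : N.index.Coprime q := by
      rw [← hrdef]
      exact (Nat.coprime_primes hNr hq).mpr (fun h => hne h.symm)
    have hQN : (Q : Subgroup G) ≤ N :=
      Cfsg.Agent.Lib.Helper3.sylow_le_of_normal_of_coprime_index Q N hcop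
    have hF := Sylow.normalizer_sup_eq_top' Q hQN
    have hnq : Subgroup.normalizer ((Q : Subgroup G) : Set G) = Q := h q hq hqd Q
    have hF' : (Q : Subgroup G) ⊔ N = ⊤ := by
      rw [← hnq]; exact hF
    rw [sup_eq_right.mpr hQN] at hF'
    have hF := hF'
    rw [hF, Subgroup.index_top] at hrdef
    rw [hrdef] at hNr
    exact Nat.not_prime_one hNr
  have := Nat.eq_prime_pow_of_unique_prime_dvd hpos hall
  exact IsPGroup.of_card this

end Cfsg.Agent.S1992
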