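import Mathlib
import Cfsg.Statements.S1993
import Cfsg.Agent.Lib.Helper4.PStab5
import Cfsg.Agent.Lib.Helper4.KTransfer
-- import your own Cfsg.Agent.* helpers here

set_option autoImplicit false
universe u
open Cfsg

namespace Cfsg.Agent.S1993

/-- Let p be a prime, G a finite group with Sylow p-subgroup S, and K the upper K-infinity subgroup of S. If p ≥ 5 then S ∩ G' = S ∩ (N_G(K))'; and if p is odd and every section of G is p-stable in the normalizer form, then K controls strong fusion in G. -/
theorem result {G : Type u} [Group G] [Finite G] {p : ℕ} [Fact p.Prime] (S : Sylow p G) : (5 ≤ p → (S : Subgroup G) ⊓ commutator G = (S : Subgroup G) ⊓ ⁅Subgroup.normalizer ((Cfsg.inducedFunctor Cfsg.kInfUpper (S : Subgroup G) : Subgroup G) : Set G), Subgroup.normalizer ((Cfsg.inducedFunctor Cfsg.kInfUpper (S : Subgroup G) : Subgroup G) : Set G)⁆) ∧ (p ≠ 2 → (∀ (K R : Subgroup G) [hR : (R.subgroupOf K).Normal], Cfsg.IsNormalizerPStable p (↥K ⧸ R.subgroupOf K)) → Cfsg.ControlsStrongFusion p (Cfsg.inducedFunctor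 Cfsg.kInfUpper (S : Subgroup G))) := by
  constructor
  · intro hp
    have hW := Cfsg.Agent.Lib.Helper4.isCharPFunctor_kInfUpper.{u} p
    have hct := Cfsg.Agent.Lib.Helper4.kInfUpper_ct (G := G) (p := p) hp
    have hcf := Cfsg.Agent.Lib.Helper4.isConjugacyFunctor_inducedFunctor (X := G) hW
    have h1 := Cfsg.Agent.Lib.Helper4.ctWith_of_controls hcf hct (le_top : (S : Subgroup G) ≤ ⊤) S.isPGroup'
      (by rw [Subgroup.relIndex_top_right]; exact S.not_dvd_index)
    unfold Cfsg.Agent.Lib.Helper4.CTWith at h1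
    rw [top_inf_eq] at h1
    rw [commutator_def, h1]
  · intro _ hst
    exact (Cfsg.Agent.Lib.Helper4.kInf_csf_of_pstable_sections hst G
      (Cfsg.Agent.Lib.Helper4.IsSectionOf.refl G) S).2

end Cfsg.Agent.S1993
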