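import Mathlib
import Cfsg.Statements.S1995
import Cfsg.Agent.Lib.Helper4.TransferSect3
-- import your own Cfsg.Agent.* helpers here

set_option autoImplicit false
universe u
open Cfsg Cfsg.Agent.Lib.Helper4
open scoped commutatorElement

namespace Cfsg.Agent.S1995

/-- Let p be a prime, G a finite group and 𝓦 a set of isomorphism-invariant p-group functors (W assigns to every group Q a subgroup W(Q), nontrivial whenever Q is a nontrivial finite p-group, and every isomorphism from a finite p-group Q onto a group R carries W(Q) onto W(R)). If the conjugacy functors induced by 𝓦 control transfer in every section G* = K/R of G with C_{G*}(O_p(G*)) ≤ O_p(G*), then they control transfer in G: S ∩ G' is generated by the subgroups S ∩ (N_G(W(S)))', W ∈ 𝓦, for a Sylow p-subgroup S. -/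
theorem result {G : Type u} [Group G] [Finite G] {p : ℕ} [Fact p.Prime] (𝓦 : Set (∀ (Q : Type u) [Group Q], Subgroup Q)) (h𝓦 : ∀ W ∈ 𝓦, Cfsg.IsCharPFunctor.{u} p W) (hloc : ∀ (K R : Subgroup G) [hR : (R.subgroupOf K).Normal], Subgroup.centralizer ((Cfsg.pCore p (↥K ⧸ R.subgroupOf K) : Subgroup (↥K ⧸ R.subgroupOf K)) : Set (↥K ⧸ R.subgroupOf K)) ≤ Cfsg.pCore p (↥K ⧸ R.subgroupOf K) → Cfsg.FamilyControlsTransferIn p ((fun W => Cfsg.inducedFunctor (G := (↥K ⧸ R.subgroupOf K)) W) '' 𝓦) ⊤) : Cfsg.FamilyControlsTransferIn p ((fun W => Cfsg.inducedFunctor (G := G) W) '' 𝓦) ⊤ := by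
  obtain ⟨S⟩ : Nonempty (Sylow p G) := inferInstance
  refine ⟨(S : Subgroup G), le_top, S.isPGroup', ?_, ?_⟩
  · rw [Subgroup.relIndex_top_right]; exact S.not_dvd_index
  · change (S : Subgroup G) ⊓ ⁅(⊤ : Subgroup G), ⊤⁆ = ⨆ W' ∈ indFam 𝓦 G, (S : Subgroup G) ⊓
        ⁅⊤ ⊓ Subgroup.normalizer ((W' (S : Subgroup G) : Subgroup G) : Set G),
          ⊤ ⊓ Subgroup.normalizer ((W' (S : Subgroup G) : Subgroup G) : Set G)⁆
    rw [← tcTarget_eq_iSup_indFam]
    apply le_antisymm
    · have h1 := tc_of_sections h𝓦 ?_ G (IsSectionOf.refl G) S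
      · rw [commutator_def] at h1
        exact h1
      · intro K' R' hR' hc T
        have h2 : FamilyControlsTransferIn p (indFam 𝓦 (↥K' ⧸ R'.subgroupOf K')) ⊤ := hloc K' R' hc
        have hidx : ¬ p ∣ (T : Subgroup (↥K' ⧸ R'.subgroupOf K')).relIndex ⊤ := by
          rw [Subgroup.relIndex_top_right]; exact T.not_dvd_index
        have h3 := fctWith_of_controls (indFam_isConjugacyFunctor h𝓦) h2
          (le_top : (T : Subgroup (↥K' ⧸ R'.subgroupOf K')) ≤ ⊤) T.isPGroup' hidx
        rw [tcTarget_eq_iSup_indFam, ← h3, commutator_def]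
        exact inf_le_inf_right _ (Cfsg.Agent.Lib.Helper6.pCore_le_sylow T)
    · rw [← commutator_def]
      exact le_inf (tcTarget_le _) (tcTarget_le_commutator _)

end Cfsg.Agent.S1995
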