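import Mathlib
import Cfsg.Statements.S1996
import Cfsg.Agent.Lib.Helper4.Sect6
-- import your own Cfsg.Agent.* helpers here

set_option autoImplicit false
universe u
open Cfsg
open Cfsg.Agent.Lib.Helper4 Cfsg.Agent.Lib.Helper7

namespace Cfsg.Agent.S1996

universe v

theorem fcsf_of_factorization {X : Type v} [Group X] [Finite X] {p : ℕ} [Fact p.Prime]
    (W₁ W₂ : ∀ (Q : Type v) [Group Q], Subgroup Q) (hW₁ : Cfsg.IsCharPFunctor.{v} p W₁)
    (hW₂ : Cfsg.IsCharPFunctor.{v} p W₂)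
    (hfac : ∀ T : Sylow p X, ∀ x : X,
      ∃ a ∈ Subgroup.normalizer ((Cfsg.inducedFunctor W₁ (T : Subgroup X) : Subgroup X) : Set X),
      ∃ b ∈ Subgroup.normalizer ((Cfsg.inducedFunctor W₂ (T : Subgroup X) : Subgroup X) : Set X), x = a * b) :
    Cfsg.FamilyControlsStrongFusionIn p (indFam {W₁, W₂} X) ⊤ := by
  obtain ⟨T⟩ : Nonempty (Sylow p X) := inferInstance
  have hTp : IsPGroup p (T : Subgroup X) := T.isPGroup'
  apply fcsf_top_of_reach T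
  intro A h hA hhA
  obtain ⟨a, ha, b, hb, hab⟩ := hfac T h
  obtain ⟨N₁, hN₁⟩ : ∃ N₁ : Subgroup X, N₁ = Subgroup.normalizer
    ((Cfsg.inducedFunctor W₁ (T : Subgroup X) : Subgroup X) : Set X) := ⟨_, rfl⟩
  obtain ⟨N₂, hN₂⟩ : ∃ N₂ : Subgroup X, N₂ = Subgroup.normalizer
    ((Cfsg.inducedFunctor W₂ (T : Subgroup X) : Subgroup X) : Set X) := ⟨_, rfl⟩
  have hTN₁ : (T : Subgroup X) ≤ N₁ := by
    rw [hN₁]; exact le_normalizer_functor (isConjugacyFunctor_inducedFunctor hW₁) hTp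
  have hTN₂ : (T : Subgroup X) ≤ N₂ := by
    rw [hN₂]; exact le_normalizer_functor (isConjugacyFunctor_inducedFunctor hW₂) hTp
  rw [← hN₁] at ha
  rw [← hN₂] at hb
  have hbA₂ : ∀ x ∈ lc b A, x ∈ N₂ := by
    rintro _ ⟨y, hy, rfl⟩
    exact N₂.mul_mem (N₂.mul_mem hb (hTN₂ (hA hy))) (N₂.inv_mem hb)
  have hbA₁ : ∀ x ∈ lc b A, x ∈ N₁ := by
    rintro _ ⟨y, hy, rfl⟩
    have h1 : h * y * h⁻¹ ∈ (T : Subgroup X) := hhA ⟨y, hy, rfl⟩
    have e : b * y * b⁻¹ = a⁻¹ * (h * y * h⁻¹) * a := by rw [hab]; group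
    show b * y * b⁻¹ ∈ N₁
    rw [e]
    exact N₁.mul_mem (N₁.mul_mem (N₁.inv_mem ha) (hTN₁ h1)) ha
  obtain ⟨P₁, hP₁⟩ : ∃ P₁ : Subgroup X, P₁ = Subgroup.closure (lc b A) := ⟨_, rfl⟩
  have hP₁N : P₁ ≤ N₁ ⊓ N₂ := by
    rw [hP₁, Subgroup.closure_le]
    intro x hx
    exact ⟨hbA₁ x hx, hbA₂ x hx⟩
  have hP₁p : IsPGroup p P₁ := by
    have h1 : P₁ ≤ Cfsg.Agent.Lib.Helper7.cj b (T : Subgroup X) := by
      rw [hP₁, Subgroup.closure_le, ← lc_subgroup]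
      exact lc_mono b hA
    exact (isPGroup_cj b hTp).to_le h1
  have hTsyl : SylIn p (N₁ ⊓ N₂) (T : Subgroup X) := by
    refine ⟨le_inf hTN₁ hTN₂, hTp, ?_⟩
    intro hdvd
    exact T.not_dvd_index (hdvd.trans (Subgroup.relIndex_dvd_index_of_le (le_inf hTN₁ hTN₂)))
  obtain ⟨m, hm, hmP⟩ := hTsyl.exists_conj_le hP₁N hP₁p
  have hsub1 : lc (m * b) A ⊆ (T : Subgroup X) := by
    rw [lc_mul]
    intro x hx
    apply hmP
    rw [← SetLike.mem_coe, ← lc_subgroup]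
    refine lc_mono _ ?_ hx
    rw [hP₁]; exact Subgroup.subset_closure
  have f1 : FChain (indFam {W₁, W₂} X) ⊤ (T : Subgroup X) A (m * b) := by
    apply FChain.single hA ?_ hsub1
    refine ⟨Cfsg.inducedFunctor W₂, ⟨W₂, by simp, rfl⟩, ⟨Subgroup.mem_top _, ?_⟩⟩
    rw [← hN₂]; exact N₂.mul_mem hm.2 hb
  have e : a * m⁻¹ * (m * b) = h := by rw [hab]; group
  have f2 : FChain (indFam {W₁, W₂} X) ⊤ (T : Subgroup X) A (a * m⁻¹ * (m * b)) := by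
    apply FChain.step A (m * b) (a * m⁻¹) f1
    · refine ⟨Cfsg.inducedFunctor W₁, ⟨W₁, by simp, rfl⟩, ⟨Subgroup.mem_top _, ?_⟩⟩
      rw [← hN₁]; exact N₁.mul_mem ha (N₁.inv_mem hm.1)
    · rw [e]; exact hhA
  rw [e] at f2
  exact ⟨h, f2, fun _ _ => rfl⟩

/-- Let p be a prime, G a finite group and W₁, W₂ two isomorphism-invariant p-group functors (W assigns to every group Q a subgroup W(Q), nontrivial whenever Q is a nontrivial finite p-group, and every isomorphism from a finite p-group Q onto a group R carries W(Q) onto W(R)). Suppose that G* = N_{G*}(W₁(S*)) N_{G*}(W₂(S*)) whenever G* = K/R is a section of G with C_{G*}(O_p(G*)) ≤ O_p(G*) and S* is a Sylow p-subgroup of G*. Then the pair {W₁, W₂} controls strong fusion in G. -/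
theorem result {G : Type u} [Group G] [Finite G] {p : ℕ} [Fact p.Prime] (W₁ W₂ : ∀ (Q : Type u) [Group Q], Subgroup Q) (hW₁ : Cfsg.IsCharPFunctor.{u} p W₁) (hW₂ : Cfsg.IsCharPFunctor.{u} p W₂) (hfac : ∀ (K R : Subgroup G) [hR : (R.subgroupOf K).Normal], Subgroup.centralizer ((Cfsg.pCore p (↥K ⧸ R.subgroupOf K) : Subgroup (↥K ⧸ R.subgroupOf K)) : Set (↥K ⧸ R.subgroupOf K)) ≤ Cfsg.pCore p (↥K ⧸ R.subgroupOf K) → ∀ T : Sylow p (↥K ⧸ R.subgroupOf K), ∀ x : (↥K ⧸ R.subgroupOf K), ∃ a ∈ Subgroup.normalizer ((Cfsg.inducedFunctor (G := (↥K ⧸ R.subgroupOf K)) W₁ (T : Subgroup (↥K ⧸ R.subgroupOf K)) : Subgroup (↥K ⧸ R.subgroupOf K)) : Set (↥K ⧸ R.subgroupOf K)), ∃ b ∈ Subgroup.normalizer ((Cfsg.inducedFunctor (G := (↥K ⧸ R.subgroupOf K)) W₂ (T : Subgroup (↥K ⧸ R.subgroupOf K)) : Subgroup (↥K ⧸ R.subgroupOf K)) : Set (↥K ⧸ R.subgroupOf K)), x = a * b) : Cfsg.FamilyControlsStrongFusionIn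 p {Cfsg.inducedFunctor (G := G) W₁, Cfsg.inducedFunctor (G := G) W₂} ⊤ := by
  have h𝓦 : ∀ W ∈ ({W₁, W₂} : Set (∀ (Q : Type u) [Group Q], Subgroup Q)), Cfsg.IsCharPFunctor.{u} p W := by
    intro W hW
    rcases hW with rfl | rfl
    · exact hW₁
    · exact hW₂
  have hmain := fcsf_of_sections (G := G) h𝓦 (fun K R hR hc =>
    fcsf_of_factorization W₁ W₂ hW₁ hW₂ (hfac K R hc)) G (IsSectionOf.refl G)
  have e : indFam ({W₁, W₂} : Set (∀ (Q : Type u) [Group Q], Subgroup Q)) G =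
      {Cfsg.inducedFunctor (G := G) W₁, Cfsg.inducedFunctor (G := G) W₂} := by
    unfold indFam
    rw [Set.image_pair]
  rw [e] at hmain
  exact hmain

end Cfsg.Agent.S1996
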