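import Mathlib
import Cfsg.Statements.S2001
import Cfsg.Agent.Lib.Helper4.PairTransfer
-- import your own Cfsg.Agent.* helpers here

set_option autoImplicit false
open Cfsg Cfsg.Agent.Lib.Helper4 Cfsg.Agent.Lib.Helper7
open scoped commutatorElement

namespace Cfsg.Agent.S2001

/-- Let p be a prime dividing the order of the finite group G, P a Sylow p-subgroup, W a conjugacy functor for p on G with Z(H) ≤ W(H) for every nontrivial p-subgroup H, and V a central functor: a conjugacy functor with V(H) ≤ Z(H), and V(H) ≤ V(K) whenever Z(H) ≤ Z(K), for nontrivial p-subgroups H, K. Say that W with V controls transfer in a subgroup L when some Sylow p-subgroup Q of L satisfies Q ∩ L' = (Q ∩ (N_L(W(Q)))')·(Q ∩ (C_L(V(Q)))') as a product of two subgroups. If W with V controls transfer in N_G(H) for every subgroup H with Z(P) ≤ H ≤ P, then W with V controls transfer in G. -/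
theorem result {G : Type*} [Group G] [Finite G] {p : ℕ} [Fact p.Prime] (hdiv : p ∣ Nat.card G) (P : Sylow p G) (W V : Subgroup G → Subgroup G) (hW : Cfsg.IsConjugacyFunctor p W) (hV : Cfsg.IsConjugacyFunctor p V) (hWZ : ∀ H : Subgroup G, IsPGroup p ↥H → H ⊓ Subgroup.centralizer ((H : Subgroup G) : Set G) ≤ W H) (hVZ : ∀ H : Subgroup G, IsPGroup p ↥H → V H ≤ H ⊓ Subgroup.centralizer ((H : Subgroup G) : Set G)) (hVmono : ∀ H K : Subgroup G, IsPGroup p ↥H → IsPGroup p ↥K → H ≠ ⊥ → K ≠ ⊥ → H ⊓ Subgroup.centralizer ((H : Subgroup G) : Set G) ≤ K ⊓ Subgroup.centralizer ((K : Subgroup G) : Set G) → V H ≤ V K) (hloc : ∀ H : Subgroup G, (P : Subgroup G) ⊓ Subgroup.centralizer (((P : Subgroup G) : Subgroup G) : Set G) ≤ H → H ≤ (P : Subgroup G) → ∃ Q : Subgroup G, Q ≤ Subgroup.normalizer ((H : Subgroup G) : Set G) ∧ IsPGroup p ↥Q ∧ ¬ p ∣ (Q).relIndex (Subgroup.normalizer ((H : Subgroup G) : Set G)) ∧ ∀ x : G, x ∈ Q ⊓ ⁅Subgroup.normalizer ((H : Subgroup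 G) : Set G), Subgroup.normalizer ((H : Subgroup G) : Set G)⁆ ↔ ∃ a ∈ Q ⊓ ⁅Subgroup.normalizer ((H : Subgroup G) : Set G) ⊓ Subgroup.normalizer ((W Q : Subgroup G) : Set G), Subgroup.normalizer ((H : Subgroup G) : Set G) ⊓ Subgroup.normalizer ((W Q : Subgroup G) : Set G)⁆, ∃ b ∈ Q ⊓ ⁅Subgroup.normalizer ((H : Subgroup G) : Set G) ⊓ Subgroup.centralizer ((V Q : Subgroup G) : Set G), Subgroup.normalizer ((H : Subgroup G) : Set G) ⊓ Subgroup.centralizer ((V Q : Subgroup G) : Set G)⁆, x = a * b) : ∃ Q : Subgroup G, IsPGroup p ↥Q ∧ ¬ p ∣ Q.index ∧ ∀ x : G, x ∈ Q ⊓ commutator G ↔ ∃ a ∈ Q ⊓ ⁅Subgroup.normalizer ((W Q : Subgroup G) : Set G), Subgroup.normalizer ((W Q : Subgroup G) : Set G)⁆, ∃ b ∈ Q ⊓ ⁅Subgroup.centralizer ((V Q : Subgroup G) : Set G), Subgroup.centralizer ((V Q : Subgroup G) : Set G)⁆, x = a * b := by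
  have hPp : IsPGroup p (P : Subgroup G) := P.isPGroup'
  have hPne : (P : Subgroup G) ≠ ⊥ := Sylow.ne_bot_of_dvd_card P hdiv
  have hZne := inf_centralizer_ne_bot hPp hPne
  have hVmono' : ∀ R : Subgroup G, R ≤ (P : Subgroup G) →
      (P : Subgroup G) ⊓ Subgroup.centralizer ((P : Subgroup G) : Set G) ≤ R →
      V (P : Subgroup G) ≤ V R := by
    intro R hRP hZR
    apply hVmono _ _ hPp (hPp.to_le hRP) hPne
    · intro hbot
      apply hZne
      rw [hbot] at hZR
      exact le_bot_iff.mp hZR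
    · exact le_inf hZR (inf_le_right.trans (Subgroup.centralizer_le (by exact_mod_cast hRP)))
  have hloc' : ∀ H : Subgroup G, (P : Subgroup G) ⊓ Subgroup.centralizer ((P : Subgroup G) : Set G) ≤ H →
      H ≤ (P : Subgroup G) → ∀ R : Subgroup G, R ≤ Subgroup.normalizer (H : Set G) → IsPGroup p R →
      ¬ p ∣ R.relIndex (Subgroup.normalizer (H : Set G)) → PairTLocal W V H R := by
    intro H hZH hHP R hRN hRp hRi
    obtain ⟨Q, hQN, hQp, hQi, hQ⟩ := hloc H hZH hHP
    have h1 : PairTLocal W V H Q := by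
      intro x hx
      obtain ⟨a, ha, b, hb, rfl⟩ := (hQ x).mp hx
      exact Subgroup.mul_mem _ (Subgroup.mem_sup_left ha) (Subgroup.mem_sup_right hb)
    exact h1.of_sylow hW hV hQN hQp hQi hRN hRp hRi
  have hmain := pair_transfer_main P hW hV hWZ hVmono' hloc' _ rfl
  refine ⟨(P : Subgroup G), hPp, P.not_dvd_index, ?_⟩
  have hPNW : (P : Subgroup G) ≤ Subgroup.normalizer ((W (P : Subgroup G) : Subgroup G) : Set G) :=
    le_normalizer_functor hW hPp
  have hnorm : ptB V ⊤ (P : Subgroup G) ≤ Subgroup.normalizer ((ptA W ⊤ (P : Subgroup G) : Subgroup G) : Set G) := by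
    refine le_trans (inf_le_left : ptB V ⊤ (P : Subgroup G) ≤ (P : Subgroup G)) ?_
    intro s hs
    rw [mem_normalizer_iff_cj]
    unfold ptA
    rw [cj_inf, cj_commutator, top_inf_eq, cj_eq_self_of_mem hs, cj_eq_self_of_mem (hPNW hs)]
  intro x
  constructor
  · intro hx
    have h1 : x ∈ ptA W ⊤ (P : Subgroup G) ⊔ ptB V ⊤ (P : Subgroup G) := by
      have h2 := focal_goldFam P (ptA W ⊤ (P : Subgroup G) ⊔ ptB V ⊤ (P : Subgroup G)) (by
        intro T hT y hy a ha
        exact (hmain _).1 T hT rfl y hy a ha)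
      apply h2
      rw [← commutator_def]; exact hx
    obtain ⟨a, ha, b, hb, hab⟩ := exists_mul_of_mem_sup_normalizer hnorm h1
    unfold ptA at ha
    unfold ptB at hb
    rw [top_inf_eq] at ha hb
    exact ⟨a, ha, b, hb, hab⟩
  · rintro ⟨a, ha, b, hb, rfl⟩
    have hle : ∀ L : Subgroup G, ⁅L, L⁆ ≤ commutator G := by
      intro L
      rw [commutator_def]; exact Subgroup.commutator_mono le_top le_top
    exact ⟨Subgroup.mul_mem _ ha.1 hb.1, Subgroup.mul_mem _ (hle _ ha.2) (hle _ hb.2)⟩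

end Cfsg.Agent.S2001
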