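import Mathlib
import Cfsg.Statements.S2002
import Cfsg.Agent.Lib.Helper4.PairFusion2
-- import your own Cfsg.Agent.* helpers here

set_option autoImplicit false
open Cfsg Cfsg.Agent.Lib.Helper4 Cfsg.Agent.Lib.Helper7

namespace Cfsg.Agent.S2002

/-- Let p be a prime dividing the order of the finite group G, P a Sylow p-subgroup, W a conjugacy functor for p on G with Z(H) ≤ W(H) for every nontrivial p-subgroup H, and V a central functor (a conjugacy functor with V(H) ≤ Z(H), and V(H) ≤ V(K) whenever Z(H) ≤ Z(K)). Say that W with V controls strong fusion in a subgroup L when some Sylow p-subgroup Q of L has the property: whenever X ⊆ Q and a ∈ L with a⁻¹Xa ⊆ Q, then a = c b with c ∈ C_L(X) and b = b₁ ⋯ bₙ a product of elements each in N_L(W(Q)) or in C_L(V(Q)) such that every partial conjugate (b₁ ⋯ bₖ)⁻¹ X (b₁ ⋯ bₖ) lies in Q. If W with V controls strong fusion in N_G(H) for every subgroup H with Z(P) ≤ H ≤ P, then W with V controls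 strong fusion in G. -/
theorem result {G : Type*} [Group G] [Finite G] {p : ℕ} [Fact p.Prime] (hdiv : p ∣ Nat.card G) (P : Sylow p G) (W V : Subgroup G → Subgroup G) (hW : Cfsg.IsConjugacyFunctor p W) (hV : Cfsg.IsConjugacyFunctor p V) (hWZ : ∀ H : Subgroup G, IsPGroup p ↥H → H ⊓ Subgroup.centralizer ((H : Subgroup G) : Set G) ≤ W H) (hVZ : ∀ H : Subgroup G, IsPGroup p ↥H → V H ≤ H ⊓ Subgroup.centralizer ((H : Subgroup G) : Set G)) (hVmono : ∀ H K : Subgroup G, IsPGroup p ↥H → IsPGroup p ↥K → H ≠ ⊥ → K ≠ ⊥ → H ⊓ Subgroup.centralizer ((H : Subgroup G) : Set G) ≤ K ⊓ Subgroup.centralizer ((K : Subgroup G) : Set G) → V H ≤ V K) (hloc : ∀ H : Subgroup G, (P : Subgroup G) ⊓ Subgroup.centralizer (((P : Subgroup G) : Subgroup G) : Set G) ≤ H → H ≤ (P : Subgroup G) → ∃ Q : Subgroup G, Q ≤ Subgroup.normalizer ((H : Subgroup G) : Set G) ∧ IsPGroup p ↥Q ∧ ¬ p ∣ (Q).relIndex (Subgroup.normalizer ((H : Subgroup G) : Set G)) ∧ ∀ (X : Set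 G) (a : G), X ⊆ Q → a ∈ Subgroup.normalizer ((H : Subgroup G) : Set G) → (fun x => a⁻¹ * x * a) '' X ⊆ Q → ∃ c ∈ Subgroup.normalizer ((H : Subgroup G) : Set G) ⊓ Subgroup.centralizer X, ∃ (n : ℕ) (b : Fin n → G), (∀ i, b i ∈ Subgroup.normalizer ((H : Subgroup G) : Set G) ⊓ Subgroup.normalizer ((W Q : Subgroup G) : Set G) ∨ b i ∈ Subgroup.normalizer ((H : Subgroup G) : Set G) ⊓ Subgroup.centralizer ((V Q : Subgroup G) : Set G)) ∧ a = c * (List.ofFn b).prod ∧ ∀ k : ℕ, k ≤ n → (fun x => (((List.ofFn b).take k).prod)⁻¹ * x * ((List.ofFn b).take k).prod) '' ((fun x => c⁻¹ * x * c) '' X) ⊆ Q) : ∃ Q : Subgroup G, IsPGroup p ↥Q ∧ ¬ p ∣ Q.index ∧ ∀ (X : Set G) (a : G), X ⊆ Q → (fun x => a⁻¹ * x * a) '' X ⊆ Q → ∃ c ∈ Subgroup.centralizer X, ∃ (n : ℕ) (b : Fin n → G), (∀ i, b i ∈ ⊤ ⊓ Subgroup.normalizer ((W Q : Subgroup G) : Set G) ∨ b i ∈ ⊤ ⊓ Subgroup.centralizer ((V Q : Subgroup G) : Set G)) ∧ a = c * (List.ofFn b).prod ∧ ∀ k : ℕ, k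 ≤ n → (fun x => (((List.ofFn b).take k).prod)⁻¹ * x * ((List.ofFn b).take k).prod) '' ((fun x => c⁻¹ * x * c) '' X) ⊆ Q := by
  have hPp : IsPGroup p (P : Subgroup G) := P.isPGroup'
  have hPne : (P : Subgroup G) ≠ ⊥ := Sylow.ne_bot_of_dvd_card P hdiv
  have hZne := inf_centralizer_ne_bot hPp hPne
  have hVmono' : ∀ R : Subgroup G, R ≤ (P : Subgroup G) →
      (P : Subgroup G) ⊓ Subgroup.centralizer ((P : Subgroup G) : Set G) ≤ R →
      V (P : Subgroup G) ≤ V R := by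
    intro R hRP hZR
    apply hVmono _ _ hPp (hPp.to_le hRP) hPne
    · intro hbot
      apply hZne
      rw [hbot] at hZR
      exact le_bot_iff.mp hZR
    · exact le_inf hZR (inf_le_right.trans (Subgroup.centralizer_le (by exact_mod_cast hRP)))
  have hloc' : ∀ H : Subgroup G, (P : Subgroup G) ⊓ Subgroup.centralizer ((P : Subgroup G) : Set G) ≤ H →
      H ≤ (P : Subgroup G) → ∀ R : Subgroup G, R ≤ Subgroup.normalizer (H : Set G) → IsPGroup p R →
      ¬ p ∣ R.relIndex (Subgroup.normalizer (H : Set G)) → PairLocal W V H R := by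
    intro H hZH hHP R hRN hRp hRi
    obtain ⟨Q, hQN, hQp, hQi, hQ⟩ := hloc H hZH hHP
    exact (pairLocal_of_list hQ).of_sylow hW hV hQN hQp hQi hRN hRp hRi
  have hmain := pair_main P hW hV hWZ hVmono' hloc'
  refine ⟨(P : Subgroup G), hPp, P.not_dvd_index, ?_⟩
  intro X a hX haX
  apply list_of_greach
  obtain ⟨U, hUdef⟩ : ∃ U, U = Subgroup.closure X := ⟨_, rfl⟩
  have hXU : X ⊆ U := by rw [hUdef]; exact Subgroup.subset_closure
  have hUP : U ≤ (P : Subgroup G) := by rw [hUdef]; exact (Subgroup.closure_le _).mpr hX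
  have hUa : lc a⁻¹ (U : Set G) ⊆ (P : Subgroup G) := by
    rw [lc_subgroup]
    have h1 : X ⊆ ((cj a (P : Subgroup G) : Subgroup G) : Set G) := by
      intro x hx
      rw [SetLike.mem_coe, mem_cj]
      exact haX ⟨x, hx, rfl⟩
    have h2 : U ≤ cj a (P : Subgroup G) := by rw [hUdef]; exact (Subgroup.closure_le _).mpr h1
    have h3 := cj_mono a⁻¹ h2
    rw [cj_inv_cj] at h3
    exact_mod_cast h3
  have h1 := greach_of_goldFam (St := pairSteps W V (P : Subgroup G)) P U hUP a⁻¹ hUa (by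
    intro D hD _ x hx
    exact (hmain _).1 D hD rfl x hx)
  exact h1.mono hXU

end Cfsg.Agent.S2002
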