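import Cfsg.Statements.S2004
import Cfsg.Agent.Lib.Lead.Quad14

set_option autoImplicit false
open Cfsg

namespace Cfsg.Agent.S2004

/-- Let p be an odd prime and G a finite group such that SL₂(p) is not involved in N_G(P) for any nonidentity p-subgroup P of G. Then every section of G is p-stable in the normalizer form: in each section, whenever an element of the normalizer of a p-subgroup Q acts quadratically on Q, its image in N(Q)/C(Q) lies in O_p(N(Q)/C(Q)). -/
theorem result {G : Type*} [Group G] [Finite G] {p : ℕ} [Fact p.Prime] (hp : p ≠ 2) (h : ∀ P : Subgroup G, IsPGroup p ↥P → P ≠ ⊥ → ¬ Cfsg.Involves (Matrix.SpecialLinearGroup (Fin 2) (ZMod p)) ↥(Subgroup.normalizer ((P : Subgroup G) : Set G))) : ∀ (K R : Subgroup G) [hR : (R.subgroupOf K).Normal], Cfsg.IsNormalizerPStable p (↥K ⧸ R.subgroupOf K) := by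
  intro K R hR Qb hQb g hg hq
  by_cases hbot : Qb = ⊥
  · have h1 : (QuotientGroup.mk (s := (Subgroup.centralizer (Qb : Set (↥K ⧸ R.subgroupOf K))).subgroupOf
        (Subgroup.normalizer (Qb : Set (↥K ⧸ R.subgroupOf K))))
        (⟨g, hg⟩ : ↥(Subgroup.normalizer (Qb : Set (↥K ⧸ R.subgroupOf K))))) = 1 := by
      rw [QuotientGroup.eq_one_iff, Subgroup.mem_subgroupOf]
      intro v hv
      rw [hbot] at hv
      have hv1 : v = 1 := hv
      rw [hv1, mul_one, one_mul]
    rw [h1]
    exact Subgroup.one_mem _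
  · apply Cfsg.Agent.Lib.Lead.Quad.mem_pCore_of_not_hasSL2Section hp Qb hQb g hg hq
    intro hsec
    obtain ⟨T, hTp, hTmap, hTsec⟩ := Cfsg.Agent.Lib.Lead.Quad.exists_lift_isSectionOf (p := p)
      (QuotientGroup.mk' (R.subgroupOf K)) (QuotientGroup.mk'_surjective _) Qb hQb
    have h1 := ((Cfsg.Agent.Lib.Lead.Quad.hasSL2Section_iff_isSectionOf.mp hsec).trans hTsec).trans
      (Cfsg.Agent.Lib.Lead.Quad.isSectionOf_normalizer_map K T)
    apply h (T.map K.subtype) (hTp.map _) ?_ (Cfsg.Agent.Lib.Helper9.involves_of_isSectionOf h1)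
    intro h0
    apply hbot
    rw [← hTmap, (Subgroup.map_eq_bot_iff_of_injective _ K.subtype_injective).mp h0, Subgroup.map_bot]

end Cfsg.Agent.S2004
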