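import Cfsg.Statements.S2005
import Cfsg.Agent.Lib.Lead.GT14

set_option autoImplicit false
universe u
open Cfsg

namespace Cfsg.Agent.S2005

/-- Thompson's normal p-complement criterion in functor form. Let p be a prime, G a finite group with Sylow p-subgroup S, and W an isomorphism-invariant p-group functor (W assigns to every group Q a subgroup W(Q), nontrivial whenever Q is a nontrivial finite p-group, and every isomorphism from a finite p-group Q onto a group R carries W(Q) onto W(R)). Suppose N_G(W(S)) has a normal p-complement, and that W(S*) is normal in G* whenever G* = K/R is a section of G with C_{G*}(O_p(G*)) ≤ O_p(G*) such that G*/O_p(G*) has a normal p-complement, and S* is a Sylow p-subgroup of G* that is a maximal subgroup of G*. Then G has a normal p-complement. -/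
theorem result {G : Type u} [Group G] [Finite G] {p : ℕ} [Fact p.Prime] (W : ∀ (Q : Type u) [Group Q], Subgroup Q) (hW : Cfsg.IsCharPFunctor.{u} p W) (S : Sylow p G) (hN : Cfsg.HasNormalPComplement p ↥(Subgroup.normalizer ((Cfsg.inducedFunctor (G := G) W (S : Subgroup G) : Subgroup G) : Set G))) (hloc : ∀ (K R : Subgroup G) [hR : (R.subgroupOf K).Normal], Subgroup.centralizer ((Cfsg.pCore p (↥K ⧸ R.subgroupOf K) : Subgroup (↥K ⧸ R.subgroupOf K)) : Set (↥K ⧸ R.subgroupOf K)) ≤ Cfsg.pCore p (↥K ⧸ R.subgroupOf K) → Cfsg.HasNormalPComplement p ((↥K ⧸ R.subgroupOf K) ⧸ Cfsg.pCore p (↥K ⧸ R.subgroupOf K)) → ∀ T : Sylow p (↥K ⧸ R.subgroupOf K), IsCoatom (T : Subgroup (↥K ⧸ R.subgroupOf K)) → (Cfsg.inducedFunctor (G := (↥K ⧸ R.subgroupOf K)) W ((T : Subgroup (↥K ⧸ R.subgroupOf K)))).Normal) : Cfsg.HasNormalPComplement p G := by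
  classical
  have hWs := Cfsg.Agent.Lib.Lead.GT.isSecFunctor_induced hW
  have key := Cfsg.Agent.Lib.Lead.GT.reduction (p := p)
    (C := fun (X : Type u) [Group X] => Cfsg.Agent.Lib.Helper4.IsSectionOf G X) (φ := True) hWs
    (fun X _ _ hX M => hX.subgroup M) (fun X _ _ hX R _ => hX.quotient R) (by
      intro X _ _ hmc T D hAdm hN hs
      have hDT : D = (T : Subgroup X) := hAdm.2 trivial
      subst hDT
      obtain ⟨K, R, hn, ⟨e⟩⟩ := hmc.mem.exists_equiv
      have h1 := Cfsg.Agent.Lib.Helper4.centralizer_pCore_le_of_mulEquiv (p := p) e hs.cent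
      have h2 : Cfsg.HasNormalPComplement p
          ((↥K ⧸ R.subgroupOf K) ⧸ Cfsg.pCore p (↥K ⧸ R.subgroupOf K)) :=
        Cfsg.Agent.Lib.Lead.GT.pnilp_iff.mp
          (Cfsg.Agent.Lib.Lead.GT.pnilp_quot_pCore_of_equiv e hs.quotNilp)
      have hes : Function.Surjective e.toMonoidHom := e.surjective
      have h3 := hloc K R h1 h2 (T.mapSurjective hes) (by
        rw [Sylow.coe_mapSurjective]
        exact Cfsg.Agent.Lib.Lead.GT.isCoatom_map_equiv e _ hs.coatom)
      rw [Sylow.coe_mapSurjective, Cfsg.Agent.Lib.Helper4.inducedFunctor_map hW e.toMonoidHom _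
        T.isPGroup' (fun x _ hx => e.injective (by rw [map_one]; exact hx))] at h3
      have h4 := Cfsg.Agent.Lib.Lead.GT.normal_of_map_equiv e _ h3
      apply hmc.not_nilp
      exact Cfsg.Agent.Lib.Lead.GT.pnilp_of_eq_top (Subgroup.normalizer_eq_top_iff.mpr h4) hN)
  apply Cfsg.Agent.Lib.Lead.GT.pnilp_iff.mp
  exact key G (Cfsg.Agent.Lib.Helper4.IsSectionOf.refl G) S (S : Subgroup G)
    ⟨Cfsg.Agent.Lib.Lead.ZJ.sClosed_self _, fun _ => rfl⟩
    (Cfsg.Agent.Lib.Lead.GT.pnilp_iff.mpr hN)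

end Cfsg.Agent.S2005
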