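import Mathlib
import Cfsg.Statements.S2007
import Cfsg.Agent.Lib.Helper4.NPC

set_option autoImplicit false
open Cfsg

namespace Cfsg.Agent.S2007

open Cfsg.Agent.Lib.Helper4

/-- Let p be a prime, G a finite group with Sylow p-subgroup S, and T a normal subgroup of S containing C_S(T). If N_G(T)/C_G(T) is a p-group (every element of N_G(T) of order prime to p centralizes T), then N_G(T) has a normal p-complement. -/
theorem result {G : Type*} [Group G] [Finite G] {p : ℕ} [Fact p.Prime] (S : Sylow p G) (T : Subgroup G) (hTS : T ≤ (S : Subgroup G)) (hTn : (S : Subgroup G) ≤ Subgroup.normalizer ((T : Subgroup G) : Set G)) (hC : (S : Subgroup G) ⊓ Subgroup.centralizer ((T : Subgroup G) : Set G) ≤ T) (hN : ∀ g ∈ Subgroup.normalizer ((T : Subgroup G) : Set G), (orderOf g).Coprime p → g ∈ Subgroup.centralizer ((T : Subgroup G) : Set G)) : Cfsg.HasNormalPComplement p ↥(Subgroup.normalizer ((T : Subgroup G) : Set G)) := by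
  set N := Subgroup.normalizer (T : Set G) with hNdef
  have hTN : T ≤ N := Subgroup.le_normalizer
  haveI hTNn : (T.subgroupOf N).Normal := Subgroup.normal_in_normalizer
  have hmemC : ∀ x : N, x ∈ Subgroup.centralizer ((T.subgroupOf N : Subgroup N) : Set N) ↔
      (x : G) ∈ Subgroup.centralizer (T : Set G) := by
    intro x
    rw [Subgroup.mem_centralizer_iff, Subgroup.mem_centralizer_iff]
    constructor
    · intro h t ht
      have := h ⟨t, hTN ht⟩ (by
        change ((⟨t, hTN ht⟩ : N) : G) ∈ T
        exact ht)
      have := congrArg Subtype.val this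
      simpa using this
    · intro h t ht
      apply Subtype.ext
      have := h (t : G) ht
      simpa using this
  apply hasNormalPComplement_of_centralizer (S.subtype hTn) (T.subgroupOf N)
  · intro x hx
    obtain ⟨hx1, hx2⟩ := hx
    have h1 : (x : G) ∈ (S : Subgroup G) := by
      have : x ∈ (S : Subgroup G).subgroupOf N := by
        rw [← Sylow.coe_subtype]; exact hx1
      exact this
    have h2 : (x : G) ∈ Subgroup.centralizer (T : Set G) := (hmemC x).mp hx2
    exact hC ⟨h1, h2⟩
  · intro g hg
    rw [hmemC]
    apply hN (g : G) g.2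
    rw [Subgroup.orderOf_coe]; exact hg

end Cfsg.Agent.S2007
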