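import Mathlib
import Cfsg.Statements.S2009

set_option autoImplicit false
open Cfsg

namespace Cfsg.Agent.S2009

/-- An element `e` with `e² = 1` having no nonidentity fixed point on the finite normal subgroup `N` inverts `N`. -/
theorem inverts {H : Type*} [Group H] [Finite H] (N : Subgroup H) [hN : N.Normal] (e : H) (he2 : e * e = 1)
    (hfix : ∀ n ∈ N, e * n = n * e → n = 1) : ∀ n ∈ N, e * n * e⁻¹ = n⁻¹ := by
  let f : N → N := fun n => ⟨n.1⁻¹ * (e * n.1 * e⁻¹), N.mul_mem (N.inv_mem n.2) (hN.conj_mem n.1 n.2 e)⟩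
  have hf : Function.Injective f := by
    intro n m hnm
    have h1 : n.1⁻¹ * (e * n.1 * e⁻¹) = m.1⁻¹ * (e * m.1 * e⁻¹) := congrArg Subtype.val hnm
    have h2 : e * (m.1 * n.1⁻¹) = (m.1 * n.1⁻¹) * e := by
      calc e * (m.1 * n.1⁻¹) = m.1 * (m.1⁻¹ * (e * m.1 * e⁻¹)) * (e * n.1⁻¹) := by group
        _ = m.1 * (n.1⁻¹ * (e * n.1 * e⁻¹)) * (e * n.1⁻¹) := by rw [h1]
        _ = (m.1 * n.1⁻¹) * e := by group
    have h3 := hfix _ (N.mul_mem m.2 (N.inv_mem n.2)) h2
    apply Subtype.ext
    calc n.1 = (m.1 * n.1⁻¹)⁻¹ * m.1 := by group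
      _ = m.1 := by rw [h3]; group
  have hsurj : Function.Surjective f := Finite.surjective_of_injective hf
  intro n hn
  obtain ⟨m, hm⟩ := hsurj ⟨n, hn⟩
  have hm' : m.1⁻¹ * (e * m.1 * e⁻¹) = n := congrArg Subtype.val hm
  rw [← hm']
  calc e * (m.1⁻¹ * (e * m.1 * e⁻¹)) * e⁻¹ = (e * m.1⁻¹ * e⁻¹) * ((e * e) * m.1 * (e * e)⁻¹) := by group
    _ = (e * m.1⁻¹ * e⁻¹) * m.1 := by rw [he2]; group
    _ = (m.1⁻¹ * (e * m.1 * e⁻¹))⁻¹ := by group

/-- The common core of S2008 and S2009: a proper normal subgroup is trivial. -/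
theorem core {H : Type*} [Group H] [Finite H] (z : H) (hz : orderOf z = 2) (hN : ∀ N : Subgroup H, N.Normal → N ≠ ⊤ → N ⊓ Subgroup.centralizer ({z} : Set H) = ⊥) (E : Subgroup H) (hE : IsKleinFour ↥E) (hzE : z ∈ E) (hc : ∀ e ∈ E, e ≠ 1 → IsConj z e)
    (N : Subgroup H) [hNn : N.Normal] (hNtop : N ≠ ⊤) : N = ⊥ := by
  classical
  have hNz := hN N hNn hNtop
  have hz2 : z * z = 1 := by
    have := pow_orderOf_eq_one z
    rw [hz, pow_two] at this
    exact this
  have hz1 : z ≠ 1 := by
    rintro rfl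
    rw [orderOf_one] at hz
    omega
  -- squares in E
  have hsq : ∀ e ∈ E, e * e = 1 := by
    intro e he
    have h1 : (⟨e, he⟩ : E) ^ Monoid.exponent E = 1 := Monoid.pow_exponent_eq_one _
    rw [hE.exponent_two, pow_two] at h1
    exact congrArg Subtype.val h1
  -- fixed points of nonidentity elements of E on N
  have hfix : ∀ e ∈ E, e ≠ 1 → ∀ n ∈ N, e * n = n * e → n = 1 := by
    intro e he he1 n hn hen
    obtain ⟨c, rfl⟩ := isConj_iff.mp (hc e he he1)
    have h1 : c⁻¹ * n * c ∈ N ⊓ Subgroup.centralizer ({z} : Set H) := by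
      refine Subgroup.mem_inf.mpr ⟨hNn.conj_mem' n hn c, ?_⟩
      rw [Subgroup.mem_centralizer_iff]
      intro y hy
      rw [Set.mem_singleton_iff] at hy
      subst hy
      calc y * (c⁻¹ * n * c) = c⁻¹ * ((c * y * c⁻¹) * n) * c := by group
        _ = c⁻¹ * (n * (c * y * c⁻¹)) * c := by rw [hen]
        _ = c⁻¹ * n * c * y := by group
    rw [hNz, Subgroup.mem_bot] at h1
    calc n = c * (c⁻¹ * n * c) * c⁻¹ := by group
      _ = 1 := by rw [h1]; group
  -- a second nonidentity element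
  have hex : ∃ e ∈ E, e ≠ 1 ∧ e ≠ z := by
    by_contra hcon
    push_neg at hcon
    have hsub : ∀ x : E, x = 1 ∨ x = ⟨z, hzE⟩ := by
      intro x
      by_cases hx : x.1 = 1
      · left; exact Subtype.ext hx
      · right; exact Subtype.ext (hcon x.1 x.2 hx)
    have hcard : Nat.card E ≤ 2 := by
      have : Finite E := inferInstance
      have hfin := Fintype.ofFinite E
      rw [Nat.card_eq_fintype_card]
      calc Fintype.card E = (Finset.univ : Finset E).card := rfl
        _ ≤ ({1, ⟨z, hzE⟩} : Finset E).card := by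
          apply Finset.card_le_card
          intro x _
          rcases hsub x with h | h
          · simp [h]
          · simp [h]
        _ ≤ 2 := Finset.card_le_two
    rw [hE.card_four] at hcard
    omega
  obtain ⟨e, heE, he1, hez⟩ := hex
  have hze : z * e ∈ E := E.mul_mem hzE heE
  have hze1 : z * e ≠ 1 := by
    intro h
    apply hez
    calc e = z * (z * e) := by rw [← mul_assoc, hz2, one_mul]
      _ = z := by rw [h, mul_one]
  have hinvz := inverts N z hz2 (hfix z hzE hz1)
  have hinve := inverts N e (hsq e heE) (hfix e heE he1)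
  rw [eq_bot_iff]
  intro n hn
  rw [Subgroup.mem_bot]
  apply hfix (z * e) hze hze1 n hn
  have h1 := hinve n hn
  have h2 := hinvz n⁻¹ (N.inv_mem hn)
  rw [inv_inv] at h2
  calc z * e * n = z * (e * n * e⁻¹) * z⁻¹ * (z * e) := by group
    _ = z * n⁻¹ * z⁻¹ * (z * e) := by rw [h1]
    _ = n * (z * e) := by rw [h2]

/-- Let H be a finite group and z an involution such that every proper normal subgroup of H meets the centralizer of z trivially, and suppose z lies in a Klein four-subgroup E of H all three of whose involutions are conjugate to z in H. Then H is simple. -/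
theorem result {H : Type*} [Group H] [Finite H] (z : H) (hz : orderOf z = 2) (hN : ∀ N : Subgroup H, N.Normal → N ≠ ⊤ → N ⊓ Subgroup.centralizer ({z} : Set H) = ⊥) (E : Subgroup H) (hE : IsKleinFour ↥E) (hzE : z ∈ E) (hc : ∀ e ∈ E, e ≠ 1 → IsConj z e) : IsSimpleGroup H := by
  have hz1 : z ≠ 1 := by
    rintro rfl
    rw [orderOf_one] at hz
    omega
  haveI : Nontrivial H := ⟨⟨z, 1, hz1⟩⟩
  refine ⟨fun N hNn => ?_⟩
  by_cases h : N = ⊤
  · right; exact h
  · left
    haveI := hNn
    exact core z hz hN E hE hzE hc N h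

end Cfsg.Agent.S2009
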