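import Mathlib
import Cfsg.Statements.S2011
import Cfsg.Agent.Lib.Helper4.SmallFusion
import Cfsg.Agent.Lib.Helper6.PPrimeCore
-- import your own Cfsg.Agent.* helpers here

set_option autoImplicit false
open Cfsg
open scoped Pointwise

namespace Cfsg.Agent.S2011


theorem isConj_iff_aux {G : Type*} [Group G] (S Q R : Subgroup G) :
    (Cfsg.groupFusionSystem S).IsConj Q R ↔ Q ≤ S ∧ ∃ g : G, (∀ x ∈ Q, g * x * g⁻¹ ∈ S) ∧
      R = Q.map (MulAut.conj g).toMonoidHom := by
  constructor
  · rintro ⟨φ, ⟨hQS, hφS, g, hg⟩, hrange⟩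
    refine ⟨hQS, g, ?_, ?_⟩
    · intro x hx
      have := hφS ⟨x, hx⟩
      rw [hg] at this
      exact this
    · rw [← hrange]
      ext y
      constructor
      · rintro ⟨x, rfl⟩
        exact ⟨x, x.2, by rw [hg]; rfl⟩
      · rintro ⟨x, hx, rfl⟩
        exact ⟨⟨x, hx⟩, by rw [hg]; rfl⟩
  · rintro ⟨hQS, g, hgS, rfl⟩
    refine ⟨Cfsg.conjHom Q g, ⟨hQS, fun x => hgS x x.2, g, fun x => rfl⟩, ?_⟩
    ext y
    constructor
    · rintro ⟨x, rfl⟩
      exact ⟨x, x.2, rfl⟩
    · rintro ⟨x, hx, rfl⟩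
      exact ⟨⟨x, hx⟩, rfl⟩

theorem exists_mul_of_mem_sup_aux {G : Type*} [Group G] (A B : Subgroup G)
    (hcomm : ∀ a ∈ A, ∀ b ∈ B, a * b = b * a) (x : G) (hx : x ∈ A ⊔ B) :
    ∃ a ∈ A, ∃ b ∈ B, x = a * b := by
  let M : Subgroup G :=
    { carrier := {x | ∃ a ∈ A, ∃ b ∈ B, x = a * b}
      one_mem' := ⟨1, A.one_mem, 1, B.one_mem, by simp⟩
      mul_mem' := by
        rintro _ _ ⟨a, ha, b, hb, rfl⟩ ⟨a', ha', b', hb', rfl⟩
        refine ⟨a * a', A.mul_mem ha ha', b * b', B.mul_mem hb hb', ?_⟩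
        have := hcomm a' ha' b hb
        calc a * b * (a' * b') = a * (b * a') * b' := by group
          _ = a * (a' * b) * b' := by rw [this]
          _ = a * a' * (b * b') := by group
      inv_mem' := by
        rintro _ ⟨a, ha, b, hb, rfl⟩
        refine ⟨a⁻¹, A.inv_mem ha, b⁻¹, B.inv_mem hb, ?_⟩
        have := hcomm a ha b hb
        calc (a * b)⁻¹ = (b * a)⁻¹ := by rw [this]
          _ = a⁻¹ * b⁻¹ := by group }
  have h1 : A ≤ M := fun a ha => ⟨a, ha, 1, B.one_mem, by simp⟩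
  have h2 : B ≤ M := fun b hb => ⟨1, A.one_mem, b, hb, by simp⟩
  exact (sup_le h1 h2) hx

/-- Let G be a finite group with Sylow p-subgroup P and Q ≤ P. Then Q is centric in the fusion system of G on P (C_P(R) ≤ R for every G-conjugate R of Q lying in P) if and only if C_G(Q) is the internal direct product of Z(Q) = Q ∩ C_G(Q) and the largest normal subgroup of C_G(Q) of order prime to p. -/
theorem result {G : Type*} [Group G] [Finite G] (p : ℕ) [Fact p.Prime] (P : Sylow p G) (Q : Subgroup G) (hQ : Q ≤ P) : (Cfsg.groupFusionSystem (P : Subgroup G)).IsCentric Q ↔ Cfsg.IsInternalDirectProduct (Q ⊓ Subgroup.centralizer (Q : Set G)) ((Cfsg.pPrimeCore p ↥(Subgroup.centralizer (Q : Set G))).map (Subgroup.centralizer (Q : Set G)).subtype) (Subgroup.centralizer (Q : Set G)) := by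
  classical
  have hp : p.Prime := Fact.out
  set C : Subgroup G := Subgroup.centralizer (Q : Set G) with hC
  set Z : Subgroup G := Q ⊓ C with hZ
  set K : Subgroup G := (Cfsg.pPrimeCore p ↥C).map C.subtype with hK
  have hPp : IsPGroup p (P : Subgroup G) := P.isPGroup'
  have hQp : IsPGroup p Q := hPp.to_le hQ
  have hZp : IsPGroup p Z := hQp.to_le inf_le_left
  have hKC : K ≤ C := Subgroup.map_subtype_le _
  have hKcop : (Nat.card K).Coprime p := by
    rw [hK, Subgroup.card_map_of_injective (Subgroup.subtype_injective _)]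
    exact Cfsg.Agent.Lib.Helper6.pPrimeCore_coprime p
  have hcomm : ∀ a ∈ Q, ∀ b ∈ C, a * b = b * a := fun a ha b hb =>
    Subgroup.mem_centralizer_iff.mp hb a ha
  have hdisj : Z ⊓ K = ⊥ := by
    apply Subgroup.inf_eq_bot_of_coprime
    obtain ⟨k, hk⟩ := IsPGroup.iff_card.mp hZp
    rw [hk]
    exact Nat.Coprime.pow_left k hKcop.symm
  constructor
  · intro hcen
    refine ⟨inf_le_right, hKC, fun a ha b hb => hcomm a ha.1 b (hKC hb), hdisj, ?_⟩
    -- a Sylow subgroup of C containing Z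
    have hZ'p : IsPGroup p (Z.subgroupOf C) := hZp.comap_subtype
    obtain ⟨D, hZD⟩ := hZ'p.exists_le_sylow
    set DG : Subgroup G := (D : Subgroup C).map C.subtype with hDG
    have hDGp : IsPGroup p DG := D.2.map _
    have hDGC : DG ≤ C := Subgroup.map_subtype_le _
    have hnorm : Q ≤ Subgroup.normalizer (DG : Set G) := by
      apply Cfsg.Agent.Lib.Helper4.le_normalizer_of_conj_mem
      intro q hq x hx
      have := hcomm q hq x (hDGC hx)
      rw [this, mul_inv_cancel_right]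
      exact hx
    have hQDp : IsPGroup p (Q ⊔ DG : Subgroup G) := IsPGroup.to_sup_of_normal_right' hQp hDGp hnorm
    obtain ⟨P', hP'⟩ := hQDp.exists_le_sylow
    obtain ⟨g, hg⟩ := MulAction.exists_smul_eq G P' P
    have hgP : ∀ x ∈ (Q ⊔ DG : Subgroup G), g * x * g⁻¹ ∈ (P : Subgroup G) := by
      intro x hx
      have h1 : x ∈ (P' : Subgroup G) := hP' hx
      have h2 : MulAut.conj g • x ∈ MulAut.conj g • (P' : Subgroup G) :=
        Subgroup.smul_mem_pointwise_smul _ _ _ h1
      rw [← Sylow.coe_subgroup_smul, hg] at h2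
      exact h2
    have hconj : (Cfsg.groupFusionSystem (P : Subgroup G)).IsConj Q (Q.map (MulAut.conj g).toMonoidHom) := by
      rw [isConj_iff_aux]
      exact ⟨hQ, g, fun x hx => hgP x (Subgroup.mem_sup_left hx), rfl⟩
    have hcenR := hcen.2 _ hconj
    have hDGQ : DG ≤ Q := by
      intro d hd
      have h1 : g * d * g⁻¹ ∈ Cfsg.FusionSystem.centralizerIn (P : Subgroup G)
          (Q.map (MulAut.conj g).toMonoidHom) := by
        refine Subgroup.mem_inf.mpr ⟨hgP d (Subgroup.mem_sup_right hd), ?_⟩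
        rw [Subgroup.mem_centralizer_iff]
        rintro _ ⟨q, hq, rfl⟩
        have := hcomm q hq d (hDGC hd)
        show g * q * g⁻¹ * (g * d * g⁻¹) = g * d * g⁻¹ * (g * q * g⁻¹)
        calc g * q * g⁻¹ * (g * d * g⁻¹) = g * (q * d) * g⁻¹ := by group
          _ = g * (d * q) * g⁻¹ := by rw [this]
          _ = g * d * g⁻¹ * (g * q * g⁻¹) := by group
      obtain ⟨q, hq, hqd⟩ := hcenR h1
      have : q = d := by
        have h2 : g * q * g⁻¹ = g * d * g⁻¹ := hqd
        exact mul_left_cancel (mul_right_cancel h2)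
      rw [← this]; exact hq
    have hDZ : (D : Subgroup C) = Z.subgroupOf C := by
      apply le_antisymm _ hZD
      intro c hc
      rw [Subgroup.mem_subgroupOf]
      have : (c : G) ∈ DG := ⟨c, hc, rfl⟩
      exact Subgroup.mem_inf.mpr ⟨hDGQ this, c.2⟩
    have hDcen : Subgroup.normalizer ((D : Subgroup C) : Set C) ≤
        Subgroup.centralizer ((D : Subgroup C) : Set C) := by
      intro c _
      rw [Subgroup.mem_centralizer_iff]
      intro d hd
      have hdQ : (d : G) ∈ Q := hDGQ ⟨d, hd, rfl⟩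
      apply Subtype.ext
      exact hcomm _ hdQ _ c.2
    have hcompl := MonoidHom.ker_transferSylow_isComplement' D hDcen
    set N' : Subgroup C := (MonoidHom.transferSylow D hDcen).ker with hN'
    have hN'n : N'.Normal := MonoidHom.normal_ker _
    have hN'cop : (Nat.card N').Coprime p :=
      Cfsg.Agent.Lib.Lead.card_coprime_of_isComplement' D N' hcompl
    have hN'le : N' ≤ Cfsg.pPrimeCore p ↥C := Cfsg.Agent.Lib.Helper6.le_pPrimeCore hN'n hN'cop
    have htop : N' ⊔ (D : Subgroup C) = ⊤ := hcompl.sup_eq_top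
    apply le_antisymm
    · exact sup_le inf_le_right hKC
    · have h1 : C = (⊤ : Subgroup C).map C.subtype := by
        rw [← MonoidHom.range_eq_map, Subgroup.range_subtype]
      rw [h1, ← htop, Subgroup.map_sup, sup_comm]
      apply sup_le_sup
      · rw [hDZ]
        intro x hx
        obtain ⟨c, hc, rfl⟩ := hx
        exact Subgroup.mem_subgroupOf.mp hc
      · exact Subgroup.map_mono hN'le
  · rintro ⟨_, _, hZK, _, hsup⟩
    refine ⟨hQ, ?_⟩
    intro R hR
    obtain ⟨_, g, hgS, rfl⟩ := (isConj_iff_aux _ _ _).mp hR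
    intro x hx
    obtain ⟨hxP, hxC⟩ := Subgroup.mem_inf.mp hx
    set y : G := g⁻¹ * x * g with hy
    have hyC : y ∈ C := by
      rw [hC, Subgroup.mem_centralizer_iff]
      intro q hq
      have h1 := Subgroup.mem_centralizer_iff.mp hxC (g * q * g⁻¹) ⟨q, hq, rfl⟩
      calc q * y = g⁻¹ * (g * q * g⁻¹ * x) * g := by rw [hy]; group
        _ = g⁻¹ * (x * (g * q * g⁻¹)) * g := by rw [h1]
        _ = y * q := by rw [hy]; group
    rw [← hsup] at hyC
    obtain ⟨z, hz, k, hk, hyzk⟩ := exists_mul_of_mem_sup_aux Z K hZK y hyC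
    obtain ⟨m, hm⟩ := (IsPGroup.iff_orderOf.mp hPp) ⟨x, hxP⟩
    have hxm : x ^ p ^ m = 1 := by
      have := pow_orderOf_eq_one (⟨x, hxP⟩ : (P : Subgroup G))
      rw [hm] at this
      have h2 := congrArg Subtype.val this
      simpa using h2
    have hym : y ^ p ^ m = 1 := by
      rw [hy, show g⁻¹ * x * g = g⁻¹ * x * g⁻¹⁻¹ by group, conj_pow, hxm]; group
    have hczk : Commute z k := hZK z hz k hk
    have hkm : k ^ p ^ m = 1 := by
      rw [hyzk, hczk.mul_pow] at hym
      have h1 : k ^ p ^ m = (z ^ p ^ m)⁻¹ := eq_inv_of_mul_eq_one_right hym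
      have h2 : k ^ p ^ m ∈ Z ⊓ K := by
        refine Subgroup.mem_inf.mpr ⟨?_, K.pow_mem hk _⟩
        rw [h1]; exact Z.inv_mem (Z.pow_mem hz _)
      rw [hdisj, Subgroup.mem_bot] at h2
      exact h2
    have hk1 : k = 1 := by
      apply Cfsg.Agent.Lib.Helper6.eq_one_of_pElement_of_coprime_card hKcop hk
      have := orderOf_dvd_of_pow_eq_one hkm
      obtain ⟨j, _, hj⟩ := (Nat.dvd_prime_pow hp).mp this
      exact ⟨j, hj⟩
    rw [hk1, mul_one] at hyzk
    refine ⟨y, ?_, ?_⟩
    · rw [hyzk]; exact hz.1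
    · show g * y * g⁻¹ = x
      rw [hy]; group

end Cfsg.Agent.S2011
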