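import Mathlib
import Cfsg.Agent.Lib.Helper4.KTransfer
import Cfsg.Agent.Lib.Helper4.TransferControl
-- Template for statement S2015 (row 2015; see /opt/grader/pristine/manifest.json for weights).
-- Copy to Cfsg/Agent/S2015.lean and replace the sorry. The statement below is byte-identical to the frozen
-- statement Cfsg.CfsgFrozen.S2015 (Cfsg/Statements/S2015.lean; the theorem Cfsg.tech70_characteristic_subgroup_controlling_transfer_for_p_at_least_five);
-- the grader kernel-checks Cfsg.Agent.S2015.result against that frozen type. Keep the theorem IN THIS FILE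
-- (a `result` declared elsewhere and merely imported here is not credited); helpers may live anywhere
-- under Cfsg/Agent/.
import Cfsg.Statements.S2015
-- import your own Cfsg.Agent.* helpers here

set_option autoImplicit false
universe u
open Cfsg

namespace Cfsg.Agent.S2015

/-- For p ≥ 5, every finite p-group P has a characteristic subgroup K containing Z(P), depending only on P, whose normalizer controls transfer wherever P is a Sylow subgroup: for every finite group G and every embedding ι of P onto a Sylow p-subgroup of G, the intersection of ι(P) with the derived subgroup of G equals its intersection with the derived subgroup of N_G(ι(K)). -/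
theorem result (p : ℕ) [Fact p.Prime] (hp : 5 ≤ p) (P : Type u) [Group P] [Finite P] (hP : IsPGroup p P) : ∃ K : Subgroup P, K.Characteristic ∧ Subgroup.center P ≤ K ∧ ∀ (G : Type u) [Group G] [Finite G] (ι : P →* G), Function.Injective ι → (∃ T : Sylow p G, (T : Subgroup G) = ι.range) → ι.range ⊓ commutator G = ι.range ⊓ (commutator ↥(Subgroup.normalizer ((K.map ι : Subgroup G) : Set G))).map (Subgroup.normalizer ((K.map ι : Subgroup G) : Set G)).subtype := by
  have hW := Cfsg.Agent.Lib.Helper4.isCharPFunctor_kInfLower.{u} p
  refine ⟨Cfsg.kInfLower P, ?_, Cfsg.Agent.Lib.Helper4.center_le_kInfLower P, ?_⟩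
  · rw [Subgroup.characteristic_iff_map_eq]
    intro φ
    exact Cfsg.Agent.Lib.Helper4.kInfLower_map_equiv φ
  · intro G _ _ ι hι hT
    obtain ⟨T, hTι⟩ := hT
    have hct := Cfsg.Agent.Lib.Helper4.kInfLower_ct (G := G) (p := p) hp
    have hcf := Cfsg.Agent.Lib.Helper4.isConjugacyFunctor_inducedFunctor (X := G) hW
    have h1 := Cfsg.Agent.Lib.Helper4.ctWith_of_controls hcf hct (le_top : (T : Subgroup G) ≤ ⊤) T.isPGroup'
      (by rw [Subgroup.relIndex_top_right]; exact T.not_dvd_index)
    unfold Cfsg.Agent.Lib.Helper4.CTWith at h1
    rw [top_inf_eq] at h1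
    -- identify the functor value
    have hval : Cfsg.inducedFunctor Cfsg.kInfLower (T : Subgroup G) = (Cfsg.kInfLower P).map ι := by
      rw [hTι, MonoidHom.range_eq_map]
      rw [Cfsg.Agent.Lib.Helper4.inducedFunctor_map hW ι ⊤ (hP.to_subgroup ⊤)
        (fun x _ hx => hι (by rw [hx, map_one]))]
      congr 1
      unfold Cfsg.inducedFunctor
      have := Cfsg.Agent.Lib.Helper4.kInfLower_map_equiv (Subgroup.topEquiv (G := P))
      rw [← this]
      rfl
    rw [hval, hTι] at h1
    rw [commutator_def, h1]
    congr 1
    rw [commutator_def, Subgroup.map_commutator, ← MonoidHom.range_eq_map, Subgroup.range_subtype]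

end Cfsg.Agent.S2015
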