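import Cfsg.Statements.S2039
import Cfsg.Agent.Lib.Helper1.J1Main
import Cfsg.Agent.Lib.Helper1.J1Mult
import Cfsg.Agent.Lib.Helper7.StemCore

set_option autoImplicit false
open Cfsg

namespace Cfsg.Agent.S2039

/-- The Schur multiplier of the Janko group J₁ (the group generated by two explicit 7 × 7 matrices over the integers modulo 11) is trivial; here the Schur multiplier is described through stem extensions, as in the definitions: surjective homomorphisms onto the group from a finite group, whose kernel is central in that finite group and contained in that finite group's commutator subgroup. -/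
theorem result : Cfsg.HasCyclicSchurMultiplier ↥Cfsg.Spor.J1 1 := by
  open Cfsg.Agent.Lib.Helper1.J1D in
  haveI : Finite ↥Cfsg.Spor.J1 :=
    Finite.of_injective _ (phiK_injective Cfsg.Spor.jankoX Cfsg.Spor.jankoY)
  apply Cfsg.Agent.Lib.Helper7.hasCyclicSchurMultiplier_one
  intro Γ _ _ σ hσ
  open Cfsg.Agent.Lib.Helper1.J1D in
  exact ker_eq_bot (phiK Cfsg.Spor.jankoX Cfsg.Spor.jankoY) (xK Cfsg.Spor.jankoX Cfsg.Spor.jankoY)
    (yK Cfsg.Spor.jankoX Cfsg.Spor.jankoY) ((rfl : _ = Cfsg.jankoMatrixX).trans X_eq)
    ((rfl : _ = Cfsg.jankoMatrixY).trans Y_eq) (phiK_injective _ _) (closure_xK_yK _ _) σ hσ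

end Cfsg.Agent.S2039
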