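import Cfsg.Statements.S2048
import Cfsg.Agent.Lib.Helper6.Mult.SuzC
import Cfsg.Agent.Lib.Helper6.Mult.SuzE3
import Cfsg.Agent.Lib.Helper1.Stem14

set_option autoImplicit false
open Cfsg

namespace Cfsg.Agent.S2048

/-- The Schur multiplier of the Suzuki sporadic group (the finitely presented group of the definitions) is cyclic of order 6; here the Schur multiplier is described through stem extensions, as in the definitions: surjective homomorphisms onto the group from a finite group, whose kernel is central in that finite group and contained in that finite group's commutator subgroup. -/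
theorem result : Cfsg.HasCyclicSchurMultiplier Cfsg.Spor.Suz 6 :=
  Cfsg.Agent.Lib.Helper1.Stem.hasCyclicSchurMultiplier_of_equiv (MulEquiv.refl Cfsg.Spor.Suz) 6
    Cfsg.Agent.Lib.Helper6.SuzE.exists_cover
    (fun Γ _ _ σ hσ => Cfsg.Agent.Lib.Helper6.SuzMu.hub Γ σ hσ)

end Cfsg.Agent.S2048
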