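import Cfsg.Statements.S2052
import Cfsg.Agent.Lib.Helper4.ONM.Final
import Cfsg.Agent.Lib.Helper4.ONM.U3.VB
import Cfsg.Agent.Lib.Helper4.ONM.U2.VB
import Cfsg.Agent.S1699
import Cfsg.Agent.Lib.Helper6.Mult.ONL37Mu

set_option autoImplicit false
open Cfsg

namespace Cfsg.Agent.S2052

/-- The Schur multiplier of the O'Nan group (the finitely presented group of the definitions) is cyclic of order 3; here the Schur multiplier is described through stem extensions, as in the definitions: surjective homomorphisms onto the group from a finite group, whose kernel is central in that finite group and contained in that finite group's commutator subgroup. -/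
theorem result : Cfsg.HasCyclicSchurMultiplier Cfsg.Spor.ON 3 := by
  obtain ⟨φ, hw, ⟨F, hF⟩, _, hcard, _⟩ := Cfsg.Agent.Lib.Helper6.ONOrd.rep
  have hφ : Cfsg.Agent.Lib.Helper4.ONM.RepHyp φ := hw
  have hcK : Nat.card ↥Cfsg.Agent.Lib.Helper6.ONL37Mu.K =
      2 * Nat.card ↥Cfsg.Agent.Lib.Helper6.ONL37Mu.K1 := by
    rw [Cfsg.Agent.Lib.Helper6.ONL37Mu.card_K, Cfsg.Agent.Lib.Helper6.ONL37Mu.card_K1]
  exact Cfsg.Agent.Lib.Helper4.ONM.multiplier_ON (φ := φ)
    (K₁ := Cfsg.Agent.Lib.Helper6.ONL37Mu.K1)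
    { rep := hφ
      exF := ⟨F, hF⟩
      card := hcard
      simple := Cfsg.Agent.S1699.result.1
      hP := Cfsg.Agent.S1692.hP
      vb2 := Cfsg.Agent.Lib.Helper4.ONM.vb2 (Cfsg.Agent.Lib.Helper4.ONM.chkStruct_DON hφ _
        Cfsg.Agent.Lib.Helper4.ONM.rels2_lt)
      vb3 := Cfsg.Agent.Lib.Helper4.ONM.vb3 (Cfsg.Agent.Lib.Helper4.ONM.chkStruct_DON hφ _
        Cfsg.Agent.Lib.Helper4.ONM.rels3_lt)
      le := Cfsg.Agent.Lib.Helper6.ONL37Mu.K1_le_K
      cardK := hcK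
      perf := Cfsg.Agent.Lib.Helper6.ONL37Mu.K1_perfect
      b2 := fun Γ _ _ σ hσ hk => Cfsg.Agent.Lib.Helper6.ONL37Mu.bound2_K1 Γ σ hσ hk
      b7 := fun Γ _ _ σ hσ hk => Cfsg.Agent.Lib.Helper6.ONL37Mu.bound7_K1 Γ σ hσ hk
      b3 := fun Γ _ _ σ hσ hk => Cfsg.Agent.Lib.Helper6.ONL37Mu.bound3_K Γ σ hσ hk }

end Cfsg.Agent.S2052
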