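import Cfsg.Statements.S2055
import Cfsg.Agent.Lib.Helper4.F24M.Final
import Cfsg.Agent.Lib.Helper4.F24M.CWAll
import Cfsg.Agent.Lib.Helper4.F24M.U2.VB
import Cfsg.Agent.Lib.Helper4.F24M.U3.VB
import Cfsg.Agent.Lib.Helper4.F24M.U7.VB
import Cfsg.Agent.Lib.Helper6.Spor.Fi24H0
import Cfsg.Agent.S1691
import Cfsg.Agent.S1698
import Cfsg.Agent.S2054

set_option autoImplicit false
open Cfsg

namespace Cfsg.Agent.S2055

open Cfsg.Spor Cfsg.Agent.Lib.Helper6 Cfsg.Agent.Lib.Helper4.F24M Cfsg.Agent.Lib.Helper4.TCov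
open Cfsg.Agent.Lib.Helper1

/-- the number `4089470473293004800` is not a prime -/
theorem not_prime_card_S1 : ¬ (4089470473293004800 : ℕ).Prime := by
  intro h
  have h2 : (2 : ℕ) ∣ 4089470473293004800 := by norm_num
  have := (Nat.prime_dvd_prime_iff_eq Nat.prime_two h).mp h2
  norm_num at this

/-- the image of the Fischer group `Fi23` in `Fi24` has no stem extension with a kernel which
is not trivial -/
theorem bound_S1 (p : ℕ) (Γ : Type) [Group Γ] [Finite Γ] (σ : Γ →* Fi24H0.S1)
    (hσ : Cfsg.IsStemExtension σ) (hk : IsPGroup p σ.ker) : Nat.card σ.ker ≤ 1 := by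
  refine bound_of_equiv (MonoidHom.ofInjective Fi24H0.theta_injective).symm p 1 ?_ Γ σ hσ hk
  intro Γ' _ _ σ' hσ' _
  obtain ⟨π, hπ⟩ := Cfsg.Agent.S2054.result.2 Γ' σ' hσ'
  have h1 : Nat.card σ'.ker ≤ Nat.card (Multiplicative (ZMod 1)) :=
    Nat.card_le_card_of_surjective π hπ
  have h2 : Nat.card (Multiplicative (ZMod 1)) = 1 := by
    rw [Nat.card_eq_fintype_card]
    rfl
  omega

/-- The Schur multiplier of the Fischer group Fi₂₄′ (the commutator subgroup of the presented group Fi₂₄) is cyclic of order 3; here the Schur multiplier is described through stem extensions, as in the definitions: surjective homomorphisms onto the group from a finite group, whose kernel is central in that finite group and contained in that finite group's commutator subgroup. -/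
theorem result : Cfsg.HasCyclicSchurMultiplier Cfsg.Spor.Fi24' 3 := by
  obtain ⟨φ, hw, hfixH, htrans, hidx, -⟩ := Fi24Orb.rep
  have e0 : ptF 0 = (⟨0, by decide⟩ : Fin 306936) := Fin.ext (ptF_val (by norm_num))
  have hperfS : commutator Fi24H0.S1 = ⊤ := by
    haveI := Fi24H0.finite_S1
    exact commutator_eq_top_of_simple Fi24H0.S1_simple
      (by rw [Fi24H0.card_S1]; exact not_prime_card_S1)
  have H : F24Hyp φ Fi24Orb.H0 Fi24H0.S1 :=
    { rep := hw
      hidx := Cfsg.Agent.S1691.result
      card := Fi24H0.card_Fi24.2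
      simple := Cfsg.Agent.S1698.result.1
      fix := fun h hh => by rw [e0]; exact hfixH h hh
      trans := fun q => by rw [e0]; exact htrans q
      idxH0 := hidx
      S1_le := Fi24H0.S1_le
      dec := fun h hh => Fi24H0.hdec h hh
      cardS1 := Fi24H0.card_S1
      perf := hperfS
      bS := fun p Γ _ _ σ hσ hk => bound_S1 p Γ σ hσ hk
      vb2 := U2.vb (U2.chkStruct_of (piF_lt hw))
      vb3 := U3.vb (U3.chkStruct_of (piF_lt hw))
      vb7 := U7.vb (U7.chkStruct_of (piF_lt hw))
      hpt := ptOK }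
  exact multiplier_Fi24' H

end Cfsg.Agent.S2055
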