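import Cfsg.Statements.S2065
import Cfsg.Agent.Lib.Helper1.J1Main
import Cfsg.Agent.Lib.Helper1.J1Out4

set_option autoImplicit false
open Cfsg

namespace Cfsg.Agent.S2065

/-- The outer automorphism group of the Janko group J₁ (the group generated by two explicit 7 × 7 matrices over the integers modulo 11) is trivial: every automorphism is inner. -/
theorem result : Nat.card (Cfsg.Out ↥Cfsg.Spor.J1) = 1 := by
  open Cfsg.Agent.Lib.Helper1.J1D in
  exact card_out (phiK Cfsg.Spor.jankoX Cfsg.Spor.jankoY) (xK Cfsg.Spor.jankoX Cfsg.Spor.jankoY)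
    (yK Cfsg.Spor.jankoX Cfsg.Spor.jankoY) ((rfl : _ = Cfsg.jankoMatrixX).trans X_eq)
    ((rfl : _ = Cfsg.jankoMatrixY).trans Y_eq) (phiK_injective _ _) (closure_xK_yK _ _)

end Cfsg.Agent.S2065
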