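import Cfsg.Statements.S2066
import Mathlib
import Cfsg.Agent.Lib.Helper2.J2Out7
import Cfsg.Agent.Lib.Helper4.J2.H10
import Cfsg.Agent.Lib.Helper9.OutEx1

set_option autoImplicit false
open Cfsg

namespace Cfsg.Agent.S2066

/-- The outer automorphism group of the Hall–Janko group J₂ (the icosian reflection group modulo its centre) has order 2. -/
theorem result : Nat.card (Cfsg.Out Cfsg.Spor.J2) = 2 := by
  rw [Nat.card_congr (Cfsg.Agent.H9Out.outCongr Cfsg.Agent.Lib.Helper4.J2.isoJ2).toEquiv]
  exact Cfsg.Agent.Lib.Helper2.J2Out.card_out_G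

end Cfsg.Agent.S2066
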