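import Cfsg.Statements.S2094
import Cfsg.Agent.Lib.Helper3.BS6

set_option autoImplicit false
open Cfsg

namespace Cfsg.Agent.S2094

/-- Schur multipliers of the odd-dimensional orthogonal groups: for m ≥ 3 and a field F of odd order q with (m, q) ≠ (3, 3), the Schur multiplier of PΩ_(2m+1)(F) (for the form x₀² + Σ xᵢyᵢ) is cyclic of order 2 = gcd(2, q − 1); here the Schur multiplier is described through stem extensions, as in the definitions. -/
theorem result {F : Type*} [Field F] [Fintype F] {q : ℕ} (hF : Fintype.card F = q) (hq : Odd q) (m : ℕ) (hm : 3 ≤ m) (hexc : ¬ (m = 3 ∧ q = 3)) : Cfsg.HasCyclicSchurMultiplier (Cfsg.POmega F (Cfsg.quadFormOdd m F)) 2 := by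
  subst hF
  have hcoe := Cfsg.Agent.Lib.Helper5.QuadOdd.QO_coe (F := F) m
  rw [← hcoe]
  have hchar : ringChar F ≠ 2 := by
    intro h
    have h1 := FiniteField.even_card_iff_char_two.1 h
    obtain ⟨k, hk⟩ := hq
    omega
  have h2 : (2 : F) ≠ 0 := Ring.two_ne_zero hchar
  have hexc' : 4 ≤ m ∨ 4 ≤ Fintype.card F := by
    by_cases h4 : 4 ≤ m
    · exact Or.inl h4
    · right
      have hm3 : m = 3 := by omega
      have h3 : Fintype.card F ≠ 3 := fun h => hexc ⟨hm3, h⟩
      have h1 : 1 < Fintype.card F := Fintype.one_lt_card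
      obtain ⟨k, hk⟩ := hq
      omega
  exact Cfsg.Agent.Lib.Helper3.BS.multiplier_B h2 hm hexc'

end Cfsg.Agent.S2094
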