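import Cfsg.Statements.S2099
import Cfsg.Agent.Lib.Helper3.TS7
import Cfsg.Agent.Lib.Helper4.CarveA1

set_option autoImplicit false
open Cfsg

namespace Cfsg.Agent.S2099

/-- Schur multipliers of the even-dimensional orthogonal groups of minus type: for l ≥ 4 and a field F with q elements, the Schur multiplier of PΩ⁻_2l(F) (for the form Σ_{i<l−1} xᵢyᵢ + z₁² + a z₁z₂ + b z₂² with the binary part anisotropic) is cyclic of order gcd(4, q^l + 1); here the Schur multiplier is described through stem extensions, as in the definitions. -/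
theorem result {F : Type*} [Field F] [Fintype F] {q : ℕ} (hF : Fintype.card F = q) (l : ℕ) (hl : 4 ≤ l) (a b : F) (hab : ∀ z₁ z₂ : F, z₁ ^ 2 + a * z₁ * z₂ + b * z₂ ^ 2 = 0 → z₁ = 0 ∧ z₂ = 0) : Cfsg.HasCyclicSchurMultiplier (Cfsg.POmega F (Cfsg.quadFormMinus (l - 1) F a b)) (Nat.gcd 4 (q ^ l + 1)) := by
  subst hF
  obtain ⟨m, rfl⟩ : ∃ m, l = m + 1 := ⟨l - 1, by omega⟩
  have hm : 3 ≤ m := by omega
  rw [Nat.add_sub_cancel]
  have hcoe := Cfsg.Agent.Lib.Helper2.QuadStd.QM_coe (F := F) m a b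
  rw [← hcoe]
  have : Fact (Cfsg.Agent.Lib.Carve.F1.Aniso a b) := ⟨hab⟩
  obtain ⟨hA1, hA2, hA3⟩ :=
    Cfsg.Agent.Lib.Carve.A1.gcd_four_pow_add_one (Fintype.card F) (m + 1) (by omega)
  by_cases h2 : (2 : F) = 0
  · -- even characteristic
    have hchar : ringChar F = 2 := by
      by_contra h
      exact Ring.two_ne_zero h h2
    have hev : Even (Fintype.card F) := by
      have h1 := FiniteField.even_card_iff_char_two.1 hchar
      exact Nat.even_iff.2 h1
    rw [hA1 hev]
    exact Cfsg.Agent.Lib.Helper3.TS.multiplier_minus m a b hm 1 one_ne_zero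
      (Cfsg.Agent.Lib.Helper3.TS.thetaT_ker_card_one m a b hm h2)
  · have hodd : Odd (Fintype.card F) := by
      by_contra hne
      rw [Nat.not_odd_iff_even] at hne
      have h1 := FiniteField.even_card_iff_char_two.2 (Nat.even_iff.1 hne)
      apply h2
      have h3 := CharP.cast_eq_zero F (ringChar F)
      rw [h1] at h3
      exact_mod_cast h3
    by_cases h4 : 4 ∣ Fintype.card F ^ (m + 1) + 1
    · obtain ⟨hg, hoddl, -⟩ := hA3 h4
      rw [hg]
      exact Cfsg.Agent.Lib.Helper3.TS.multiplier_minus m a b hm 4 (by norm_num)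
        (Cfsg.Agent.Lib.Helper3.TS.thetaT_ker_card_four m a b hm h2 h4 hoddl)
    · rw [hA2 hodd h4]
      exact Cfsg.Agent.Lib.Helper3.TS.multiplier_minus m a b hm 2 (by norm_num)
        (Cfsg.Agent.Lib.Helper3.TS.thetaT_ker_card_two m a b hm h2 h4)

end Cfsg.Agent.S2099
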