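import Mathlib
-- Template for statement S2100 (row 2100; see /opt/grader/pristine/manifest.json for weights).
-- Copy to Cfsg/Agent/S2100.lean and replace the sorry. The statement below is byte-identical to the frozen
-- statement Cfsg.CfsgFrozen.S2100 (Cfsg/Statements/S2100.lean; the theorem Cfsg.kfact_multiplier_g2);
-- the grader kernel-checks Cfsg.Agent.S2100.result against that frozen type. Keep the theorem IN THIS FILE
-- (a `result` declared elsewhere and merely imported here is not credited); helpers may live anywhere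
-- under Cfsg/Agent/.
import Cfsg.Statements.S2100
import Cfsg.Agent.S2398
import Cfsg.Agent.S2397
import Cfsg.Agent.S1077
import Cfsg.Agent.Lib.Helper3.StB16
import Cfsg.Agent.Lib.Helper3.StU12

set_option autoImplicit false
open Cfsg
open Cfsg.Agent.Lib.Helper3.StU Cfsg.Agent.Lib.Helper3.StB

namespace Cfsg.Agent.S2100

/-- Schur multipliers of the Chevalley groups of type G₂: over a field with q ≥ 5 elements the Schur multiplier of G₂(q) is trivial (here the Schur multiplier is described through stem extensions, as in the definitions); the cases q = 3 and q = 4 are exceptional and q = 2 gives a non-simple group. -/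
theorem result {F : Type*} [Field F] [Fintype F] (hF : 5 ≤ Fintype.card F) : Cfsg.HasCyclicSchurMultiplier ↥(Cfsg.Lie.chevG2.group F) 1 := by
  have hK5 : ∃ s : Finset F, 4 < s.card := ⟨Finset.univ, by rw [Finset.card_univ]; omega⟩
  have hK : Cfsg.Lie.chevG2 ∈ [Cfsg.Lie.chevB2, Cfsg.Lie.chevG2] → ∃ x : F, x ≠ 0 ∧ x ≠ 1 := by
    intro _
    obtain ⟨v, hv0, hv1⟩ := exists_pow_ne_one (F := F) hK5 1 le_rfl (by norm_num)
    exact ⟨v, hv0, by simpa using hv1⟩
  obtain ⟨e, -⟩ := Cfsg.Agent.S2397.result (K := F) Cfsg.Lie.chevG2 (by simp) hK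
  obtain ⟨θ, hθs, hθk, -⟩ := Cfsg.Agent.S1077.result (K := F) Cfsg.Lie.chevG2 (by simp)
  have hcen := steinberg_center_trivial (F := F) Cfsg.Lie.chevG2 (by simp)
  have hinj : Function.Injective θ := by
    rw [injective_iff_map_eq_one]
    intro z hz
    have : z ∈ θ.ker := hz
    rw [hθk, hcen, Subgroup.mem_bot] at this
    exact this
  let ι : Cfsg.Lie.chevG2.SteinbergCover F ≃* ↥(Cfsg.Lie.chevG2.group F) :=
    e.trans (MulEquiv.ofBijective θ ⟨hinj, hθs⟩)
  apply hasCyclicSchurMultiplier_one
  intro Γ _ _ σ hσ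
  obtain ⟨τ, hτ, -⟩ := Cfsg.Agent.S2398.result (K := F) hK5 Cfsg.Lie.chevG2 (by simp) σ hσ.1 hσ.2.1 ι.toMonoidHom
  exact stem_ker_eq_bot ι σ hσ τ hτ

end Cfsg.Agent.S2100
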