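import Mathlib
-- Template for statement S2103 (row 2103; see /opt/grader/pristine/manifest.json for weights).
-- Copy to Cfsg/Agent/S2103.lean and replace the sorry. The statement below is byte-identical to the frozen
-- statement Cfsg.CfsgFrozen.S2103 (Cfsg/Statements/S2103.lean; the theorem Cfsg.kfact_multiplier_f4);
-- the grader kernel-checks Cfsg.Agent.S2103.result against that frozen type. Keep the theorem IN THIS FILE
-- (a `result` declared elsewhere and merely imported here is not credited); helpers may live anywhere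
-- under Cfsg/Agent/.
import Cfsg.Statements.S2103
import Cfsg.Agent.S2398
import Cfsg.Agent.S2397
import Cfsg.Agent.S2395
import Cfsg.Agent.S1077
import Cfsg.Agent.Lib.Helper3.StB16
import Cfsg.Agent.Lib.Helper3.StU12
import Cfsg.Agent.Lib.Helper3.StV12
import Cfsg.Agent.Lib.Helper3.ChevData.F4Vhyp

set_option autoImplicit false
open Cfsg
open Cfsg.Agent.Lib.Helper3.StU Cfsg.Agent.Lib.Helper3.StB Cfsg.Agent.Lib.Helper3.StV Cfsg.Agent.Lib.Helper3.ChevM

namespace Cfsg.Agent.S2103

/-- Schur multipliers of the Chevalley groups of type F₄: over a finite field with more than 2 elements the Schur multiplier of F₄(q) is trivial (here the Schur multiplier is described through stem extensions, as in the definitions); q = 2 is exceptional. -/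
theorem result {F : Type*} [Field F] [Fintype F] (hF : 3 ≤ Fintype.card F) : Cfsg.HasCyclicSchurMultiplier ↥(Cfsg.Lie.chevF4.group F) 1 := by
  have hK : Cfsg.Lie.chevF4 ∈ [Cfsg.Lie.chevB2, Cfsg.Lie.chevG2] → ∃ x : F, x ≠ 0 ∧ x ≠ 1 := by
    intro h
    exfalso
    simp only [List.mem_cons, List.not_mem_nil, or_false] at h
    rcases h with h | h <;>
    · have := congrArg Cfsg.Lie.ChevalleyDatum.rank h
      revert this
      decide
  have hperf : commutator (Cfsg.Lie.chevF4.SteinbergCover F) = ⊤ :=
    Cfsg.Agent.S2395.result Cfsg.Lie.chevF4 (by simp) hK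
  obtain ⟨e, -⟩ := Cfsg.Agent.S2397.result (K := F) Cfsg.Lie.chevF4 (by simp) hK
  obtain ⟨θ, hθs, hθk, -⟩ := Cfsg.Agent.S1077.result (K := F) Cfsg.Lie.chevF4 (by simp)
  have hcen := steinberg_center_trivial (F := F) Cfsg.Lie.chevF4 (by simp)
  have hinj : Function.Injective θ := by
    rw [injective_iff_map_eq_one]
    intro z hz
    have : z ∈ θ.ker := hz
    rw [hθk, hcen, Subgroup.mem_bot] at this
    exact this
  let ι : Cfsg.Lie.chevF4.SteinbergCover F ≃* ↥(Cfsg.Lie.chevF4.group F) :=
    e.trans (MulEquiv.ofBijective θ ⟨hinj, hθs⟩)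
  apply hasCyclicSchurMultiplier_one
  intro Γ _ _ σ hσ
  have hlift : ∃! τ : Cfsg.Lie.chevF4.SteinbergCover F →* Γ, σ.comp τ = ι.toMonoidHom := by
    by_cases h5 : 5 ≤ Fintype.card F
    · have hK5 : ∃ s : Finset F, 4 < s.card := ⟨Finset.univ, by rw [Finset.card_univ]; omega⟩
      exact Cfsg.Agent.S2398.result (K := F) hK5 Cfsg.Lie.chevF4 (by simp) σ hσ.1 hσ.2.1 ι.toMonoidHom
    · have h34 : Fintype.card F = 3 ∨ Fintype.card F = 4 := by omega
      rcases h34 with h3 | h4
      · exact existsUnique_lift hperf (fun _ _ ψ' hs' hc' =>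
          cover_split_orth commF4 orthHypF4 (elems_of_card_three h3) (three_eq_zero_of_card h3) hperf ψ' hs' hc')
          σ hσ.1 hσ.2.1 ι.toMonoidHom
      · obtain ⟨P, hP⟩ := exists_primEl_of_card_four h4
        exact existsUnique_lift hperf (fun _ _ ψ' hs' hc' =>
          cover_split_sep commF4 sepHypCF4 P hP (two_eq_zero_of_card h4) hperf ψ' hs' hc')
          σ hσ.1 hσ.2.1 ι.toMonoidHom
  obtain ⟨τ, hτ, -⟩ := hlift
  exact stem_ker_eq_bot ι σ hσ τ hτ

end Cfsg.Agent.S2103
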