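import Mathlib
-- Template for statement S2105 (row 2105; see /opt/grader/pristine/manifest.json for weights).
-- Copy to Cfsg/Agent/S2105.lean and replace the sorry. The statement below is byte-identical to the frozen
-- statement Cfsg.CfsgFrozen.S2105 (Cfsg/Statements/S2105.lean; the theorem Cfsg.kfact_multiplier_e6);
-- the grader kernel-checks Cfsg.Agent.S2105.result against that frozen type. Keep the theorem IN THIS FILE
-- (a `result` declared elsewhere and merely imported here is not credited); helpers may live anywhere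
-- under Cfsg/Agent/.
import Cfsg.Statements.S2105
import Cfsg.Agent.Lib.Helper3.StEmb3
import Cfsg.Agent.Lib.Helper3.StS4
import Cfsg.Agent.Lib.Helper3.StRk3
import Cfsg.Agent.Lib.Helper3.StB16
import Cfsg.Agent.Lib.Helper3.ChevData.E6Vec
import Cfsg.Agent.Lib.Helper3.ChevData.E6Slstein
import Cfsg.Agent.S1077
import Cfsg.Agent.S1079

set_option autoImplicit false
open Cfsg
open Cfsg.Agent.Lib.Helper3.ChevM Cfsg.Agent.Lib.Helper3.StB Cfsg.Agent.Lib.Helper3.StEmb Cfsg.Agent.Lib.Helper3.StS Cfsg.Agent.Lib.Helper3.StRk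

namespace Cfsg.Agent.S2105

/-- Schur multipliers of the (adjoint, simple) Chevalley groups of type E₆: over a field with q elements the Schur multiplier is cyclic of order gcd(3, q − 1) (here the Schur multiplier is described through stem extensions, as in the definitions). -/
theorem result {F : Type*} [Field F] [Fintype F] {q : ℕ} (hF : Fintype.card F = q) : Cfsg.HasCyclicSchurMultiplier ↥(Cfsg.Lie.chevE6.group F) (Nat.gcd 3 (q - 1)) := by
  subst hF
  have he : ∃ _ : Cfsg.Lie.chevE6.SteinbergCover F ≃* Cfsg.Lie.chevE6.SteinbergGroup F, True := by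
    obtain ⟨e, -⟩ := cover_equiv_steinberg (F := F) commE6 stHypE6 (by decide +kernel)
    exact ⟨e, trivial⟩
  obtain ⟨e, -⟩ := he
  obtain ⟨θ, hθs, hθk, -⟩ := Cfsg.Agent.S1077.result (K := F) Cfsg.Lie.chevE6 (by simp)
  have hcard : Nat.card (Subgroup.center (Cfsg.Lie.chevE6.SteinbergGroup F)) = Nat.gcd 3 (Fintype.card F - 1) :=
    Cfsg.Agent.S1079.result (K := F) rfl (Cfsg.Lie.chevE6, 3) (by simp)
  have hcyc : IsCyclic (Subgroup.center (Cfsg.Lie.chevE6.SteinbergGroup F)) :=
    center_isCyclic (F := F) relE6 commE6 stHypE6 (Cfsg.Agent.S1051.result Cfsg.Lie.chevE6 (by simp))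
      vecE6 (of_pairRange (m := 6) (n := 72) e6Vec) smPE6 smQE6 smPiE6 smQiE6 smDE6
      (by decide +kernel) (by decide +kernel) (by decide +kernel) (by decide +kernel) ⟨5, by decide⟩ (by show ∀ k : Fin 6, k ≠ ⟨5, by decide⟩ → smDE6 k = 1; decide)
  have hne : Nat.card (Subgroup.center (Cfsg.Lie.chevE6.SteinbergGroup F)) ≠ 0 := by
    rw [hcard]
    exact Nat.gcd_ne_zero_left (by norm_num)
  have hfin : Finite θ.ker := by
    rw [hθk]
    exact Nat.finite_of_card_ne_zero hne
  have hfin2 : Finite (Cfsg.Lie.chevE6.SteinbergGroup F) := finite_of_ker_finite θ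
  have hperf : commutator (Cfsg.Lie.chevE6.SteinbergGroup F) = ⊤ := by
    have h1 := cover_perfect_sl (F := F) slHypE6
    have h2 := Subgroup.map_commutator (⊤ : Subgroup (Cfsg.Lie.chevE6.SteinbergCover F)) ⊤ e.toMonoidHom
    rw [← commutator_def, h1, Subgroup.map_top_of_surjective _ e.surjective, ← commutator_def] at h2
    exact h2.symm
  have hcyc' : IsCyclic θ.ker := by rw [hθk]; exact hcyc
  refine hasCyclicSchurMultiplier_of_cover θ hθs (le_of_eq hθk) hperf _ hcyc' (by rw [hθk]; exact hcard) ?_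
  intro Γ _ _ σ hσ
  obtain ⟨τ, hτ, -⟩ := cover_lift_unique_sl (F := F) slHypE6 σ hσ.1 hσ.2.1 (θ.comp e.toMonoidHom)
  refine ⟨τ.comp e.symm.toMonoidHom, ?_⟩
  refine MonoidHom.ext fun x => ?_
  have := DFunLike.congr_fun hτ (e.symm x)
  simp only [MonoidHom.comp_apply, MulEquiv.coe_toMonoidHom, MulEquiv.apply_symm_apply] at this ⊢
  exact this

end Cfsg.Agent.S2105
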