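import Mathlib
-- Template for statement S2107 (row 2107; see /opt/grader/pristine/manifest.json for weights).
-- Copy to Cfsg/Agent/S2107.lean and replace the sorry. The statement below is byte-identical to the frozen
-- statement Cfsg.CfsgFrozen.S2107 (Cfsg/Statements/S2107.lean; the theorem Cfsg.kfact_multiplier_e8);
-- the grader kernel-checks Cfsg.Agent.S2107.result against that frozen type. Keep the theorem IN THIS FILE
-- (a `result` declared elsewhere and merely imported here is not credited); helpers may live anywhere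
-- under Cfsg/Agent/.
import Cfsg.Statements.S2107
import Cfsg.Agent.Lib.Helper3.StS5
import Cfsg.Agent.Lib.Helper3.StS4
import Cfsg.Agent.Lib.Helper3.StRk3
import Cfsg.Agent.Lib.Helper3.StB16
import Cfsg.Agent.Lib.Helper3.ChevData.E8Slstein
import Cfsg.Agent.S1077

set_option autoImplicit false
open Cfsg
open Cfsg.Agent.Lib.Helper3.ChevM Cfsg.Agent.Lib.Helper3.StB Cfsg.Agent.Lib.Helper3.StS Cfsg.Agent.Lib.Helper3.StRk

namespace Cfsg.Agent.S2107

/-- Schur multipliers of the Chevalley groups of type E₈: over every finite field the Schur multiplier of E₈(q) is trivial (here the Schur multiplier is described through stem extensions, as in the definitions). -/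
theorem result {F : Type*} [Field F] [Fintype F] : Cfsg.HasCyclicSchurMultiplier ↥(Cfsg.Lie.chevE8.group F) 1 := by
  have he : ∃ _ : Cfsg.Lie.chevE8.SteinbergCover F ≃* Cfsg.Lie.chevE8.SteinbergGroup F, True := by
    obtain ⟨e, -⟩ := cover_equiv_steinberg (F := F) commE8 stHypE8 (by decide +kernel)
    exact ⟨e, trivial⟩
  obtain ⟨e, -⟩ := he
  obtain ⟨θ, hθs, hθk, -⟩ := Cfsg.Agent.S1077.result (K := F) Cfsg.Lie.chevE8 (by simp)
  have hcen := steinberg_center_trivial (F := F) Cfsg.Lie.chevE8 (by simp)
  have hkb : θ.ker = ⊥ := by rw [hθk, hcen]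
  have hfin : Finite θ.ker := by
    rw [hkb]
    infer_instance
  have hfin2 : Finite (Cfsg.Lie.chevE8.SteinbergGroup F) := finite_of_ker_finite θ
  have hperf : commutator (Cfsg.Lie.chevE8.SteinbergGroup F) = ⊤ := by
    have h1 := cover_perfect_sl (F := F) slHypE8
    have h2 := Subgroup.map_commutator (⊤ : Subgroup (Cfsg.Lie.chevE8.SteinbergCover F)) ⊤ e.toMonoidHom
    rw [← commutator_def, h1, Subgroup.map_top_of_surjective _ e.surjective, ← commutator_def] at h2
    exact h2.symm
  have hcyc' : IsCyclic θ.ker := by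
    rw [hkb]
    infer_instance
  have hcard : Nat.card θ.ker = 1 := by
    rw [hkb]
    exact Subgroup.card_bot
  refine hasCyclicSchurMultiplier_of_cover θ hθs (le_of_eq hθk) hperf _ hcyc' hcard ?_
  intro Γ _ _ σ hσ
  obtain ⟨τ, hτ, -⟩ := cover_lift_unique_sl (F := F) slHypE8 σ hσ.1 hσ.2.1 (θ.comp e.toMonoidHom)
  refine ⟨τ.comp e.symm.toMonoidHom, ?_⟩
  refine MonoidHom.ext fun x => ?_
  have := DFunLike.congr_fun hτ (e.symm x)
  simp only [MonoidHom.comp_apply, MulEquiv.coe_toMonoidHom, MulEquiv.apply_symm_apply] at this ⊢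
  exact this

end Cfsg.Agent.S2107
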