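import Cfsg.Statements.S2111
import Cfsg.Agent.Lib.Helper3.Sz15
import Cfsg.Agent.Lib.Helper3.Sz21
import Cfsg.Agent.Lib.Helper3.Sz31
import Cfsg.Agent.Lib.Helper3.SzM1
import Cfsg.Agent.Lib.Helper3.SzM5

set_option autoImplicit false
open Cfsg

namespace Cfsg.Agent.S2111

open Cfsg.Agent.Lib.Helper3.Sz Cfsg.Agent.Lib.Helper3.SzM
open scoped commutatorElement

/-- Schur multipliers of the Suzuki groups: for q = 2^(2m+1) with m ≥ 2 the Schur multiplier of Sz(q) is trivial (here the Schur multiplier is described through stem extensions, as in the definitions); q = 8 is exceptional. -/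
theorem result {F : Type*} [Field F] [Fintype F] {m : ℕ} (hm : 2 ≤ m) (hF : Fintype.card F = 2 ^ (2 * m + 1)) : Cfsg.HasCyclicSchurMultiplier ↥(Cfsg.Lie.Sz F (2 ^ (m + 1))) 1 := by
  classical
  have : CharP F 2 := charP_two_of_card hF
  set T : Tits F := titsOfCard hF with hTdef
  have hT : T.IsPow := titsOfCard_isPow (by omega) hF
  have he : ∀ x, T.θ x = x ^ 2 ^ (m + 1) := titsOfCard_apply hF
  have hq : 2 * 2 ^ (m + 1) + 4 < Fintype.card F := by
    rw [hF]
    obtain ⟨j, rfl⟩ : ∃ j, m = j + 2 := ⟨m - 2, by omega⟩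
    have h1 : 2 ^ (2 * (j + 2) + 1) = 2 ^ (j + 2 + 1) * 2 ^ (j + 2) := by
      rw [← pow_add]
      congr 1
      ring
    have h2 : 4 ≤ 2 ^ (j + 2) := by
      have : 2 ^ (j + 2) = 4 * 2 ^ j := by ring
      have := Nat.one_le_two_pow (n := j)
      omega
    have h3 : 8 ≤ 2 ^ (j + 2 + 1) := by
      have : 2 ^ (j + 2 + 1) = 8 * 2 ^ j := by ring
      have := Nat.one_le_two_pow (n := j)
      omega
    rw [h1]
    nlinarith
  have : Finite (Gam T) := inferInstance
  have hfin : Finite ↥(Cfsg.Lie.Sz F (2 ^ (m + 1))) := inferInstance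
  obtain ⟨k0, hk0⟩ := exists_unit_ne_one T hT
  refine hasCyclicSchurMultiplier_one_of_equiv
    ((gamEquiv T).trans (MulEquiv.subgroupCongr (lieSz_eq T hT he).symm)) ?_
  intro Γ _ _ σ hσ
  have hσ' := hσ
  obtain ⟨hsurj, hcen, hcomm⟩ := hσ'
  let X : SExt T Γ := ⟨σ, hsurj, hcen⟩
  apply stem_ker_eq_bot_of_sylow σ hσ
  intro r hr
  by_cases hr2 : r = 2
  · subst hr2
    refine ⟨Usub T, not_two_dvd_index_Usub T hT, ?_⟩
    intro z hz hz' _
    exact X.eq_one_of_mem_commutator hk0 he hq hz hz'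
  · have : Fact r.Prime := ⟨hr⟩
    obtain ⟨P⟩ : Nonempty (Sylow r (Gam T)) := inferInstance
    refine ⟨(P : Subgroup (Gam T)), P.not_dvd_index, ?_⟩
    intro z hz hz' _
    have : IsCyclic (P : Subgroup (Gam T)) := isCyclic_sylow_odd T hT hr2 P
    rw [commutator_comap_eq_bot_of_isCyclic σ hcen (P : Subgroup (Gam T))] at hz'
    exact Subgroup.mem_bot.mp hz'

end Cfsg.Agent.S2111
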