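import Cfsg.Statements.S2115
import Cfsg.Agent.Lib.Helper1.TitsU
import Cfsg.Agent.Lib.Helper7.StemCore

set_option autoImplicit false
open Cfsg

namespace Cfsg.Agent.S2115

/-- The Tits group, the commutator subgroup of ²F₄(2), has trivial Schur multiplier (here the Schur multiplier is described through stem extensions, as in the definitions). -/
theorem result : Cfsg.HasCyclicSchurMultiplier Cfsg.Lie.TitsGroup 1 := by
  haveI : Finite Cfsg.Lie.TitsGroup := Cfsg.Agent.Lib.Helper1.Tits.finiteTG
  apply Cfsg.Agent.Lib.Helper7.hasCyclicSchurMultiplier_one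
  intro Γ _ _ σ hσ
  have h := Cfsg.Agent.Lib.Helper1.Tits.hub Γ σ hσ
  exact Subgroup.eq_bot_of_card_eq _ (Nat.dvd_one.mp h)

end Cfsg.Agent.S2115
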