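import Cfsg.Statements.S2118
import Cfsg.Agent.S0254
import Cfsg.Agent.Lib.Helper2.ExcIso4
import Cfsg.Agent.Lib.Helper1.SLCard
import Cfsg.Agent.Lib.Helper1.Stem14
import Cfsg.Agent.Lib.Helper1.Stem19
import Cfsg.Agent.Lib.Helper1.A6UB
import Cfsg.Agent.Lib.Helper1.A6C3

set_option autoImplicit false
open Cfsg

namespace Cfsg.Agent.S2118

/-- For the field with 9 elements, the special linear group SL₂ has Schur multiplier cyclic of order 3 (here the Schur multiplier is described through stem extensions, as in the definitions). -/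
theorem result {F : Type*} [Field F] [Fintype F] (hF : Fintype.card F = 9) : Cfsg.HasCyclicSchurMultiplier (Matrix.SpecialLinearGroup (Fin 2) F) 3 := by
  classical
  obtain ⟨e⟩ := Cfsg.Agent.S0254.result hF
  -- the homomorphism from `SL₂` to the alternating group
  let τ : Matrix.SpecialLinearGroup (Fin 2) F →* alternatingGroup (Fin 6) :=
    e.toMonoidHom.comp (QuotientGroup.mk' (Subgroup.center (Matrix.SpecialLinearGroup (Fin 2) F)))
  have hτs : Function.Surjective τ := e.surjective.comp (QuotientGroup.mk'_surjective _)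
  have hτk : τ.ker = Subgroup.center (Matrix.SpecialLinearGroup (Fin 2) F) := by
    ext x
    rw [MonoidHom.mem_ker]
    show e (QuotientGroup.mk' _ x) = 1 ↔ _
    rw [MulEquiv.map_eq_one_iff, ← MonoidHom.mem_ker, QuotientGroup.ker_mk']
  have hG : commutator (Matrix.SpecialLinearGroup (Fin 2) F) = ⊤ :=
    Cfsg.Agent.Lib.Helper2.ExcIso.SL2_perfect_of_four_le (by rw [hF]; norm_num)
  have hτc : Nat.card τ.ker = 2 := by
    rw [hτk, Cfsg.Agent.Lib.Helper1.card_center_SL_field 2 (by norm_num), hF]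
    decide
  have hτ : Cfsg.IsStemExtension τ := ⟨hτs, by rw [hτk], by rw [hG]; exact le_top⟩
  refine ⟨?_, ?_⟩
  · obtain ⟨Γ₀, i1, i2, ρ, hρ, hρc, hρn⟩ := Cfsg.Agent.Lib.Helper1.A6C3.cover
    have hcop : Nat.Coprime (Nat.card τ.ker) (Nat.card ρ.ker) := by
      rw [hτc, hρn]; decide
    refine ⟨Cfsg.Agent.Lib.Helper1.Stem.fibreProd τ ρ, inferInstance, inferInstance,
      Cfsg.Agent.Lib.Helper1.Stem.fibreFst τ ρ,
      Cfsg.Agent.Lib.Helper1.Stem.fibreFst_isStem τ ρ hτ hρ hcop, ?_⟩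
    have e1 := Cfsg.Agent.Lib.Helper1.Stem.kerFstEquiv τ ρ
    have e3 := zmodCyclicMulEquiv hρc
    rw [hρn] at e3
    exact ⟨e1.trans e3.symm⟩
  · intro Γ _ _ σ hσ
    have h1 := Cfsg.Agent.Lib.Helper1.Stem.isStem_comp σ τ hσ hτs (by rw [hτk]) hG
    have h2 := Cfsg.Agent.Lib.Helper1.A6UB.hub Γ (τ.comp σ) h1
    obtain ⟨hc, hd⟩ := Cfsg.Agent.Lib.Helper1.Stem.ub_of_quotient σ τ hσ 6 h2
    rw [hτc] at hd
    have hd' : Nat.card σ.ker ∣ 3 := by
      have h3 : Nat.card σ.ker * 2 ∣ 3 * 2 := hd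
      exact Nat.dvd_of_mul_dvd_mul_right (by norm_num) h3
    exact Cfsg.Agent.Lib.Helper1.Stem.exists_surjective_of_cyclic 3 hc hd'

end Cfsg.Agent.S2118
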