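import Mathlib
-- Template for statement S2122 (row 2122; see /opt/grader/pristine/manifest.json for weights).
-- Copy to Cfsg/Agent/S2122.lean and replace the sorry. The statement below is byte-identical to the frozen
-- statement Cfsg.CfsgFrozen.S2122 (Cfsg/Statements/S2122.lean; the theorem Cfsg.kfact_outer_automorphisms_f4);
-- the grader kernel-checks Cfsg.Agent.S2122.result against that frozen type. Keep the theorem IN THIS FILE
-- (a `result` declared elsewhere and merely imported here is not credited); helpers may live anywhere
-- under Cfsg/Agent/.
import Cfsg.Statements.S2122
import Cfsg.Agent.Lib.Helper3.ChevAutF4b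

set_option autoImplicit false
open Cfsg
open Cfsg.Agent.Lib.Helper3.ChevAut Cfsg.Agent.Lib.Helper3.ChevM

namespace Cfsg.Agent.S2122

/-- Outer automorphisms of the Chevalley groups of type F₄: over a field with q = p^f (p prime) elements, the outer automorphism group of F₄(q) has order gcd(2, p) · f (field automorphisms, and in characteristic 2 also the exceptional graph automorphism). -/
theorem result {F : Type*} [Field F] [Fintype F] (p f : ℕ) [Fact p.Prime] [CharP F p] (hF : Fintype.card F = p ^ f) : Nat.card (Cfsg.Out ↥(Cfsg.Lie.chevF4.group F)) = Nat.gcd 2 p * f := by
  exact f4_card_out p f hF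

end Cfsg.Agent.S2122
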