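import Mathlib
-- Template for statement S2124 (row 2124; see /opt/grader/pristine/manifest.json for weights).
-- Copy to Cfsg/Agent/S2124.lean and replace the sorry. The statement below is byte-identical to the frozen
-- statement Cfsg.CfsgFrozen.S2124 (Cfsg/Statements/S2124.lean; the theorem Cfsg.kfact_outer_automorphisms_e7);
-- the grader kernel-checks Cfsg.Agent.S2124.result against that frozen type. Keep the theorem IN THIS FILE
-- (a `result` declared elsewhere and merely imported here is not credited); helpers may live anywhere
-- under Cfsg/Agent/.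
import Cfsg.Statements.S2124
import Cfsg.Agent.Lib.Helper3.ChevAutE7
import Cfsg.Agent.Lib.Helper3.ChevAut18

set_option autoImplicit false
open Cfsg
open Cfsg.Agent.Lib.Helper3.ChevAut Cfsg.Agent.Lib.Helper3.ChevM

namespace Cfsg.Agent.S2124

/-- Outer automorphisms of the (adjoint, simple) Chevalley groups of type E₇: over a field with q = p^f (p prime) elements, the outer automorphism group of E₇(q) has order gcd(2, q − 1) · f (diagonal and field automorphisms). -/
theorem result {F : Type*} [Field F] [Fintype F] (p f : ℕ) [Fact p.Prime] [CharP F p] (hF : Fintype.card F = p ^ f) : Nat.card (Cfsg.Out ↥(Cfsg.Lie.chevE7.group F)) = Nat.gcd 2 (p ^ f - 1) * f := by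
  have h1 := card_out_diag (K := F) diagHypE7 p (e7_sylow (F := F) p)
  have h2 : Nat.card F = p ^ f := by rw [Nat.card_eq_fintype_card]; exact hF
  have h3 := card_ringAut_prime (F := F) p h2
  have h4 := index_range_pw (K := F) (l := cdE7.D.rank) smPE7 (cartanMat cdE7.D) smQE7 smPiE7 smQiE7 smDE7
    (by decide +kernel) (by decide +kernel) (by decide +kernel) (by decide +kernel)
  rw [h3, h4, hF] at h1
  refine h1.trans ?_
  congr 1
  show ∏ k : Fin 7, (p ^ f - 1).gcd (smDE7 k) = _
  rw [Fin.prod_univ_seven]
  have e : ∀ k : Fin 7, smDE7 k = (#[1, 1, 1, 1, 1, 1, 2] : Array ℕ).getD k.val 0 := fun k => rfl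
  simp only [e]
  simp [Nat.gcd_comm]

end Cfsg.Agent.S2124
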