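import Mathlib
-- Template for statement S2126 (row 2126; see /opt/grader/pristine/manifest.json for weights).
-- Copy to Cfsg/Agent/S2126.lean and replace the sorry. The statement below is byte-identical to the frozen
-- statement Cfsg.CfsgFrozen.S2126 (Cfsg/Statements/S2126.lean; the theorem Cfsg.kfact_outer_automorphisms_suzuki);
-- the grader kernel-checks Cfsg.Agent.S2126.result against that frozen type. Keep the theorem IN THIS FILE
-- (a `result` declared elsewhere and merely imported here is not credited); helpers may live anywhere
-- under Cfsg/Agent/.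
import Cfsg.Statements.S2126
import Cfsg.Agent.Lib.Helper3.Sz47

set_option autoImplicit false
open Cfsg
open Cfsg.Agent.Lib.Helper3.Sz

namespace Cfsg.Agent.S2126

/-- Outer automorphisms of the Suzuki groups: for q = 2^(2m+1) with m ≥ 1 the outer automorphism group of Sz(q) has order 2m + 1 (field automorphisms only). -/
theorem result {F : Type*} [Field F] [Fintype F] {m : ℕ} (hm : 1 ≤ m) (hF : Fintype.card F = 2 ^ (2 * m + 1)) : Nat.card (Cfsg.Out ↥(Cfsg.Lie.Sz F (2 ^ (m + 1)))) = 2 * m + 1 := by
  have := charP_two_of_card hF
  have hq : Nat.card F = 2 ^ (2 * m + 1) := by rw [Nat.card_eq_fintype_card, hF]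
  exact card_out_lieSz (titsOfCard_isPow hm hF) (titsOfCard_apply hF) hq

end Cfsg.Agent.S2126
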