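import Mathlib
-- Template for statement S2128 (row 2128; see /opt/grader/pristine/manifest.json for weights).
-- Copy to Cfsg/Agent/S2128.lean and replace the sorry. The statement below is byte-identical to the frozen
-- statement Cfsg.CfsgFrozen.S2128 (Cfsg/Statements/S2128.lean; the theorem Cfsg.kfact_outer_automorphisms_large_ree);
-- the grader kernel-checks Cfsg.Agent.S2128.result against that frozen type. Keep the theorem IN THIS FILE
-- (a `result` declared elsewhere and merely imported here is not credited); helpers may live anywhere
-- under Cfsg/Agent/.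
import Cfsg.Statements.S2128
import Cfsg.Agent.Lib.Helper3.F4Out9

set_option autoImplicit false
open Cfsg
open Cfsg.Agent.Lib.Helper3.RF4

namespace Cfsg.Agent.S2128

/-- Outer automorphisms of the large Ree groups: for q = 2^(2m+1) with m ≥ 1 the outer automorphism group of ²F₄(q) has order 2m + 1 (field automorphisms only). -/
theorem result {K : Type*} [Field K] [Fintype K] {m : ℕ} (hm : 1 ≤ m) (hK : Fintype.card K = 2 ^ (2 * m + 1)) : Nat.card (Cfsg.Out ↥(Cfsg.Lie.twistedF4 K (2 ^ m))) = 2 * m + 1 := by
  have : Fact (Nat.Prime 2) := ⟨by norm_num⟩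
  have : CharP K 2 := charP_of_card_eq_prime_pow hK
  exact card_out_tF4 m hm hK

end Cfsg.Agent.S2128
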