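import Mathlib
-- Template for statement S2130 (row 2130; see /opt/grader/pristine/manifest.json for weights).
-- Copy to Cfsg/Agent/S2130.lean and replace the sorry. The statement below is byte-identical to the frozen
-- statement Cfsg.CfsgFrozen.S2130 (Cfsg/Statements/S2130.lean; the theorem Cfsg.kfact_outer_automorphisms_twisted_e6);
-- the grader kernel-checks Cfsg.Agent.S2130.result against that frozen type. Keep the theorem IN THIS FILE
-- (a `result` declared elsewhere and merely imported here is not credited); helpers may live anywhere
-- under Cfsg/Agent/.
import Cfsg.Statements.S2130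
import Cfsg.Agent.Lib.Helper3.TwAutE6

set_option autoImplicit false
open Cfsg
open Cfsg.Agent.Lib.Helper3.TwAut

namespace Cfsg.Agent.S2130

/-- Outer automorphisms of the twisted groups of type ²E₆: for q = p^f (p prime), with the group realised over the field with q² elements, the outer automorphism group of ²E₆(q) has order 2 · gcd(3, q + 1) · f (diagonal automorphisms and the field automorphisms of the quadratic extension). -/
theorem result {K : Type*} [Field K] [Fintype K] (p f : ℕ) [Fact p.Prime] [CharP K p] (hK : Fintype.card K = p ^ (2 * f)) (hf : 1 ≤ f) : Nat.card (Cfsg.Out ↥(Cfsg.Lie.twistedE6 K (p ^ f))) = 2 * Nat.gcd 3 (p ^ f + 1) * f := by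
  exact e6_card_out p f hK hf

end Cfsg.Agent.S2130
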