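import Cfsg.Statements.S2134
import Cfsg.Agent.Lib.Helper6.Spor.HeZ2
import Cfsg.Agent.Lib.Helper6.SL5C2

set_option autoImplicit false
open Cfsg

namespace Cfsg.Agent.S2134

open Cfsg.Agent.Lib.Helper6 Cfsg.Agent.Lib.Helper6.TC Cfsg.Agent.Lib.Helper6.TCD

/-- The Held group (presented on seven involutions, as in the definitions) has an involution whose centraliser is isomorphic to the centraliser of a transvection in SL(5, 2) (a group of shape 2^{1+6}:GL(3, 2)). -/
theorem result (s : Matrix.SpecialLinearGroup (Fin 5) (ZMod 2)) (hs : (s : Matrix (Fin 5) (Fin 5) (ZMod 2)) = Matrix.transvection 0 1 1) : ∃ z : Cfsg.Spor.He, orderOf z = 2 ∧ Nonempty (↥(Subgroup.centralizer ({z} : Set Cfsg.Spor.He)) ≃* ↥(Subgroup.centralizer ({s} : Set (Matrix.SpecialLinearGroup (Fin 5) (ZMod 2))))) := by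
  have hbij : Function.Bijective SL5C.theta.rangeRestrict := by
    haveI := HeZ2.card_le.1
    refine Function.Surjective.bijective_of_nat_card_le SL5C.theta.rangeRestrict_surjective ?_
    rw [HeZ2.card_eq]
    exact SL5C.card_range_ge
  let e3 : WG 8 HePU.base ≃* Subgroup.centralizer ({s} : Set BM5.SL5) :=
    (MulEquiv.ofBijective _ hbij).trans (MulEquiv.subgroupCongr (SL5C.range_eq s hs))
  exact ⟨HeZ1.z, HeZ1.orderOf_z,
    ⟨(MulEquiv.subgroupCongr HeZ1.centralizer_eq).trans (HeZ2.iso.symm.trans e3)⟩⟩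

end Cfsg.Agent.S2134
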