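import Cfsg.Statements.S2149
import Mathlib
import Cfsg.Agent.Lib.Helper7.U35X2
import Cfsg.Agent.Lib.Helper1.SUCongr
-- import your own Cfsg.Agent.* helpers here

set_option autoImplicit false
open Cfsg

namespace Cfsg.Agent.S2149

/-- Minimal index of a proper subgroup of PSU₃(5), realised over the field with 25 elements: every proper subgroup has index at least 50, and that index is attained. -/
theorem result {F : Type*} [Field F] [Fintype F] (hF : Fintype.card F = 25) : (∀ H : Subgroup (Cfsg.PSU 3 F 5), H ≠ ⊤ → 50 ≤ H.index) ∧ (∃ H : Subgroup (Cfsg.PSU 3 F 5), H.index = 50) := by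
  have e25 : F ≃+* Cfsg.Agent.Lib.Helper7.U35.F25c :=
    FiniteField.ringEquivOfCardEq (by rw [hF]; rfl)
  obtain ⟨e⟩ : Nonempty (Cfsg.PSU 3 F 5 ≃* Cfsg.Agent.Lib.Helper7.U35.Ps) :=
    ⟨Cfsg.Agent.Lib.Helper1.SUCongr.psuCongr e25⟩
  constructor
  · intro H hH
    have h1 : H.map (e : Cfsg.PSU 3 F 5 →* Cfsg.Agent.Lib.Helper7.U35.Ps) ≠ ⊤ := by
      intro h
      apply hH
      have h2 := congrArg (Subgroup.comap (e : Cfsg.PSU 3 F 5 →* Cfsg.Agent.Lib.Helper7.U35.Ps)) h
      rw [Subgroup.comap_map_eq_self_of_injective e.injective, Subgroup.comap_top] at h2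
      exact h2
    have h3 := Cfsg.Agent.Lib.Helper7.U35.min_index_Ps _ h1
    rwa [Subgroup.index_map_equiv] at h3
  · obtain ⟨H, hH⟩ := Cfsg.Agent.Lib.Helper7.U35.exists_index_Ps
    refine ⟨H.map (e.symm : Cfsg.Agent.Lib.Helper7.U35.Ps →* Cfsg.PSU 3 F 5), ?_⟩
    rw [Subgroup.index_map_equiv, hH]

end Cfsg.Agent.S2149
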