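import Mathlib
-- Template for statement S2155 (row 2155; see /opt/grader/pristine/manifest.json for weights).
-- Copy to Cfsg/Agent/S2155.lean and replace the sorry. The statement below is byte-identical to the frozen
-- statement Cfsg.CfsgFrozen.S2155 (Cfsg/Statements/S2155.lean; the theorem Cfsg.kfact_parabolic_generalized_fitting_p_group);
-- the grader kernel-checks Cfsg.Agent.S2155.result against that frozen type. Keep the theorem IN THIS FILE
-- (a `result` declared elsewhere and merely imported here is not credited); helpers may live anywhere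
-- under Cfsg/Agent/.
import Cfsg.Statements.S2155
import Cfsg.Agent.Lib.Helper3.ChevAutG2
import Cfsg.Agent.Lib.Helper3.ChevAutB2
import Cfsg.Agent.Lib.Helper3.ChevAutD4
import Cfsg.Agent.Lib.Helper3.ChevAutF4
import Cfsg.Agent.Lib.Helper3.ChevAutE6
import Cfsg.Agent.Lib.Helper3.ChevAutE7
import Cfsg.Agent.Lib.Helper3.ChevAutE8
import Cfsg.Agent.Lib.Helper3.ChevData.G2Levi
import Cfsg.Agent.Lib.Helper3.ChevData.B2Levi
import Cfsg.Agent.Lib.Helper3.ChevData.D4Levi
import Cfsg.Agent.Lib.Helper3.ChevData.F4Levi
import Cfsg.Agent.Lib.Helper3.ChevData.E6Levi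
import Cfsg.Agent.Lib.Helper3.ChevData.E7Levi
import Cfsg.Agent.Lib.Helper3.ChevData.E8Levi
import Cfsg.Agent.Lib.Helper3.PJFit3
import Cfsg.Agent.S1027

set_option autoImplicit false
open Cfsg
open Cfsg.Agent.Lib.Helper3.ChevM Cfsg.Agent.Lib.Helper3.ChevAut Cfsg.Agent.Lib.Helper3.PJFit
set_option maxRecDepth 1000000

namespace Cfsg.Agent.S2155

/-- In a Chevalley group of type G₂, B₂, D₄, F₄, E₆, E₇ or E₈ over a finite field of characteristic p (for types G₂ and B₂ the field is assumed to have at least 3 elements, so that the group is simple), the generalized Fitting subgroup of every proper standard parabolic subgroup P_J is a p-group (P_J is p-constrained with trivial largest normal subgroup of order prime to p). -/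
theorem result {F : Type*} [Field F] [Fintype F] (p : ℕ) [Fact p.Prime] [CharP F p] (D : Cfsg.Lie.ChevalleyDatum) (hD : D ∈ [Cfsg.Lie.chevG2, Cfsg.Lie.chevB2, Cfsg.Lie.chevD4, Cfsg.Lie.chevF4, Cfsg.Lie.chevE6, Cfsg.Lie.chevE7, Cfsg.Lie.chevE8]) (hq : (D = Cfsg.Lie.chevG2 ∨ D = Cfsg.Lie.chevB2) → 3 ≤ Fintype.card F) (J : Set ℕ) (hJ : ∃ i, i < D.rank ∧ i ∉ J) : IsPGroup p ↥(Cfsg.generalizedFittingSubgroup ↥(D.parabolicSubgroup F J)) := by
  have hU := Cfsg.Agent.S1027.result (F := F) D (by simpa using hD)
  simp only [List.mem_cons, List.not_mem_nil, or_false] at hD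
  rcases hD with rfl | rfl | rfl | rfl | rfl | rfl | rfl
  · exact genFit_isPGroup autHypG2 leviG2 p hU (by decide +kernel) (by decide +kernel) (by decide +kernel)
      vecG2 (of_pairRange (m := 2) (n := 12) g2Vec) J hJ
  · exact genFit_isPGroup autHypB2 leviB2 p hU (by decide +kernel) (by decide +kernel) (by decide +kernel)
      vecB2 (of_pairRange (m := 2) (n := 8) b2Vec) J hJ
  · exact genFit_isPGroup autHypD4 leviD4 p hU (by decide +kernel) (by decide +kernel) (by decide +kernel)
      vecD4 (of_pairRange (m := 4) (n := 24) d4Vec) J hJ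
  · exact genFit_isPGroup autHypF4 leviF4 p hU (by decide +kernel) (by decide +kernel) (by decide +kernel)
      vecF4 (of_pairRange (m := 4) (n := 48) f4Vec) J hJ
  · exact genFit_isPGroup autHypE6 leviE6 p hU (by decide +kernel) (by decide +kernel) (by decide +kernel)
      vecE6 (of_pairRange (m := 6) (n := 72) e6Vec) J hJ
  · exact genFit_isPGroup autHypE7 leviE7 p hU (by decide +kernel) (by decide +kernel) (by decide +kernel)
      vecE7 (of_pairRange (m := 7) (n := 126) e7Vec) J hJ
  · exact genFit_isPGroup autHypE8 leviE8 p hU (by decide +kernel) (by decide +kernel) (by decide +kernel)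
      vecE8 (of_pairRange (m := 8) (n := 240) e8Vec) J hJ

end Cfsg.Agent.S2155
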