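import Cfsg.Statements.S2157
import Cfsg.Agent.Lib.Helper3.ChevM2

set_option autoImplicit false
open Cfsg

namespace Cfsg.Agent.S2157


open Cfsg.Lie Cfsg.Agent.Lib.Helper3.ChevM

/-- check of the chain table: consecutive members of a chain differ by `r` -/
def chainOK (D : ChevalleyDatum) (r : ℕ) : Bool :=
  (D.chain.getD r #[]).toList.all fun e =>
    (e.2.toList.zipIdx).all fun q =>
      (decide ((if q.2 = 0 then e.1 else (e.2.toList.getD (q.2 - 1) (0, 0)).1) < D.nroots)) &&
        (D.chainRoot r (if q.2 = 0 then e.1 else (e.2.toList.getD (q.2 - 1) (0, 0)).1) 1 == some q.1.1)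

def allOK (D : ChevalleyDatum) : Bool := (List.range D.nroots).all fun r => chainOK D r

set_option maxRecDepth 1000000 in
theorem okG2 : allOK chevG2 = true := by decide +kernel

set_option maxRecDepth 1000000 in
theorem okB2 : allOK chevB2 = true := by decide +kernel

set_option maxRecDepth 1000000 in
theorem okD4 : allOK chevD4 = true := by decide +kernel

set_option maxRecDepth 1000000 in
theorem okF4 : allOK chevF4 = true := by decide +kernel

set_option maxRecDepth 1000000 in
theorem okE6 : allOK chevE6 = true := by decide +kernel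

set_option maxRecDepth 1000000 in
theorem okE7 : allOK chevE7 = true := by decide +kernel

set_option maxRecDepth 1000000 in
theorem okE8 : allOK chevE8 = true := by decide +kernel

section
variable {F : Type*} [Field F] (D : ChevalleyDatum)

/-- value of the character on a coordinate code -/
def chiC (χ : ℕ → Fˣ) (k : ℕ) : Fˣ := if k < D.rank then 1 else χ (k - D.rank)

theorem chain_char (hok : allOK D = true) (χ : ℕ → Fˣ) (hχ : D.IsRootCharacter χ) (r : ℕ)
    (hr : r < D.nroots) (e : ℕ × Array (ℕ × ℤ)) (he : e ∈ (D.chain.getD r #[]).toList) :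
    ∀ (i : ℕ) (u : ℕ) (M : ℤ), e.2.toList[i]? = some (u, M) → χ u = χ r ^ (i + 1) * χ e.1 := by
  have h1 : chainOK D r = true := by
    unfold allOK at hok
    rw [List.all_eq_true] at hok
    exact hok r (List.mem_range.2 hr)
  unfold chainOK at h1
  rw [List.all_eq_true] at h1
  have h2 := h1 e he
  rw [List.all_eq_true] at h2
  intro i
  induction i with
  | zero =>
    intro u M hu
    have hm : ((u, M), 0) ∈ e.2.toList.zipIdx := by
      rw [List.mem_zipIdx_iff_getElem?]; exact hu
    have h3 := h2 _ hm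
    simp only [if_true, Bool.and_eq_true, decide_eq_true_eq, beq_iff_eq] at h3
    rw [hχ.2 r e.1 u hr h3.1 h3.2, zero_add, pow_one]
  | succ i ih =>
    intro u M hu
    have hm : ((u, M), i + 1) ∈ e.2.toList.zipIdx := by
      rw [List.mem_zipIdx_iff_getElem?]; exact hu
    have h3 := h2 _ hm
    have hne : ¬ (i + 1 = 0) := by omega
    simp only [hne, if_false, Bool.and_eq_true, decide_eq_true_eq, beq_iff_eq,
      Nat.add_sub_cancel] at h3
    have hlt : i + 1 < e.2.toList.length := by
      by_contra hcon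
      rw [List.getElem?_eq_none (by omega)] at hu
      exact absurd hu (by simp)
    have hi : e.2.toList[i]? = some (e.2.toList[i]'(by omega)) := List.getElem?_eq_getElem (by omega)
    have hgd : e.2.toList.getD i (0, 0) = e.2.toList[i]'(by omega) := by
      rw [List.getD_eq_getElem?_getD, hi]; rfl
    rw [hgd] at h3
    have := ih (e.2.toList[i]'(by omega)).1 (e.2.toList[i]'(by omega)).2 hi
    rw [hχ.2 r _ u hr h3.1 h3.2, this, ← mul_assoc, ← pow_succ']

theorem colList_char (hok : allOK D = true) (χ : ℕ → Fˣ) (hχ : D.IsRootCharacter χ) (r : ℕ)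
    (hr : r < D.nroots) (c : ℕ) (e : CEnt) (he : e ∈ colList D r c) :
    chiC D χ e.row = χ r ^ e.deg * chiC D χ c := by
  unfold colList at he
  split_ifs at he with h1 h2 h3
  · rw [List.mem_singleton] at he
    subst he
    simp only [chiC, h1, if_true, mul_one, pow_one]
    rw [if_neg (by omega)]
    congr 1; omega
  · simp at he
  · have hneg : χ (c - D.rank) = (χ r)⁻¹ := by
      rw [h3]; exact hχ.1 r hr
    rw [List.mem_cons] at he
    rcases he with rfl | he
    · simp only [chiC]
      rw [if_neg (by omega), if_neg h1, hneg, Nat.add_sub_cancel_left, pow_two, mul_assoc,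
        mul_inv_cancel, mul_one]
    · rw [List.mem_map] at he
      obtain ⟨k, hk, rfl⟩ := he
      rw [List.mem_range] at hk
      simp only [chiC, hk, if_true, pow_one]
      rw [if_neg h1, hneg, mul_inv_cancel]
  · rw [List.mem_flatMap] at he
    obtain ⟨ent, hent, he⟩ := he
    rw [List.mem_filter] at hent
    rw [List.mem_map] at he
    obtain ⟨q, hq, rfl⟩ := he
    have hs : ent.1 = c - D.rank := by simpa using hent.2
    rw [List.mem_zipIdx_iff_getElem?] at hq
    have := chain_char D hok χ hχ r hr ent hent.1 q.2 q.1.1 q.1.2 hq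
    simp only [chiC]
    rw [if_neg (by omega), if_neg h1, Nat.add_sub_cancel_left, this, hs]

theorem colSum_char (χr : Fˣ) (f : ℕ → Fˣ) (t : F) (c k : ℕ) (L : List CEnt)
    (hL : ∀ e ∈ L, f e.row = χr ^ e.deg * f c) :
    (f k : F) * colSum t L k * ((f c)⁻¹ : Fˣ) = colSum ((χr : F) * t) L k := by
  induction L with
  | nil => simp
  | cons e L ih =>
    rw [colSum_cons, colSum_cons, mul_add, add_mul, ih (fun e' he' => hL e' (List.mem_cons_of_mem _ he'))]
    congr 1
    by_cases h : e.row = k
    · rw [if_pos h, if_pos h]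
      have := hL e (List.mem_cons_self)
      rw [h] at this
      have hfc : (f c : F) * (((f c)⁻¹ : Fˣ) : F) = 1 := by
        rw [← Units.val_mul, mul_inv_cancel, Units.val_one]
      rw [this, Units.val_mul, Units.val_pow_eq_pow_val, mul_pow]
      linear_combination ((χr : F) ^ e.deg * (e.coef : F) * t ^ e.deg) * hfc
    · rw [if_neg h, if_neg h, mul_zero, zero_mul]

theorem charDiag_eq (χ : ℕ → Fˣ) :
    D.charDiag F χ = Matrix.diagonal (fun j : D.Idx => ((chiC D χ (code D j) : Fˣ) : F)) := by
  unfold ChevalleyDatum.charDiag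
  congr 1
  funext j
  rcases j with i | s
  · simp only [Sum.elim_inl, chiC, code, i.isLt, if_true, Units.val_one]
  · have h : ¬ (code D (Sum.inr s) < D.rank) := by simp only [code]; omega
    rw [chiC, if_neg h]
    show ((χ s.val : Fˣ) : F) = ((χ (D.rank + s.val - D.rank) : Fˣ) : F)
    rw [Nat.add_sub_cancel_left]

theorem chiC_inv (χ : ℕ → Fˣ) (k : ℕ) : chiC D (fun s => (χ s)⁻¹) k = (chiC D χ k)⁻¹ := by
  unfold chiC
  split_ifs <;> simp

theorem main (hok : allOK D = true) (χ : ℕ → Fˣ) (hχ : D.IsRootCharacter χ) (r : ℕ)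
    (hr : r < D.nroots) (t : F) :
    D.charDiag F χ * D.x F r t * D.charDiag F (fun s => (χ s)⁻¹) = D.x F r ((χ r : F) * t) := by
  rw [charDiag_eq, charDiag_eq]
  ext j col
  rw [Matrix.mul_diagonal, Matrix.diagonal_mul]
  unfold ChevalleyDatum.x
  rw [dif_pos hr, dif_pos hr, xMat_entry, xMat_entry, chiC_inv, mul_add, add_mul]
  congr 1
  · by_cases h : j = col
    · subst h
      rw [if_pos rfl, mul_one, ← Units.val_mul, mul_inv_cancel, Units.val_one]
    · rw [if_neg h, mul_zero, zero_mul]
  · exact colSum_char (χ r) (chiC D χ) t _ _ _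
      (fun e he => colList_char D hok χ hχ r hr _ e he)

end



/-- In a Chevalley group of type G₂, B₂, D₄, F₄, E₆, E₇ or E₈, for every character `χ` of the root lattice with values in `Fˣ` the diagonal matrix `ĥ(χ)` (identity on the coroot coordinates, `χ(s)` on the coordinate of `e_s`) conjugates each root element `x_r(t)` to `x_r(χ(r) t)`: `ĥ(χ) x_r(t) ĥ(χ)⁻¹ = x_r(χ(r) t)` as matrices, with `ĥ(χ)⁻¹` written as `ĥ(χ⁻¹)`. -/
theorem result {F : Type*} [Field F] (D : Cfsg.Lie.ChevalleyDatum) (hD : D ∈ [Cfsg.Lie.chevG2, Cfsg.Lie.chevB2, Cfsg.Lie.chevD4, Cfsg.Lie.chevF4, Cfsg.Lie.chevE6, Cfsg.Lie.chevE7, Cfsg.Lie.chevE8]) (χ : ℕ → Fˣ) (hχ : D.IsRootCharacter χ) (r : ℕ) (hr : r < D.nroots) (t : F) :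
    D.charDiag F χ * D.x F r t * D.charDiag F (fun s => (χ s)⁻¹) = D.x F r ((χ r : F) * t) := by
  simp only [List.mem_cons, List.not_mem_nil, or_false] at hD
  rcases hD with rfl | rfl | rfl | rfl | rfl | rfl | rfl
  · exact main _ okG2 χ hχ r hr t
  · exact main _ okB2 χ hχ r hr t
  · exact main _ okD4 χ hχ r hr t
  · exact main _ okF4 χ hχ r hr t
  · exact main _ okE6 χ hχ r hr t
  · exact main _ okE7 χ hχ r hr t
  · exact main _ okE8 χ hχ r hr t


end Cfsg.Agent.S2157
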