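import Mathlib
-- Template for statement S2158 (row 2158; see /opt/grader/pristine/manifest.json for weights).
-- Copy to Cfsg/Agent/S2158.lean and replace the sorry. The statement below is byte-identical to the frozen
-- statement Cfsg.CfsgFrozen.S2158 (Cfsg/Statements/S2158.lean; the theorem Cfsg.kfact2_chevalley_group_inf_character_diagonal);
-- the grader kernel-checks Cfsg.Agent.S2158.result against that frozen type. Keep the theorem IN THIS FILE
-- (a `result` declared elsewhere and merely imported here is not credited); helpers may live anywhere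
-- under Cfsg/Agent/.
import Cfsg.Statements.S2158
import Cfsg.Agent.Lib.Helper3.ChevData.G2UHyp
import Cfsg.Agent.Lib.Helper3.ChevData.G2Bn
import Cfsg.Agent.Lib.Helper3.ChevData.G2NegTri
import Cfsg.Agent.Lib.Helper3.ChevData.G2Sign
import Cfsg.Agent.Lib.Helper3.ChevData.B2UHyp
import Cfsg.Agent.Lib.Helper3.ChevData.B2Bn
import Cfsg.Agent.Lib.Helper3.ChevData.B2NegTri
import Cfsg.Agent.Lib.Helper3.ChevData.B2Sign
import Cfsg.Agent.Lib.Helper3.ChevData.D4UHyp
import Cfsg.Agent.Lib.Helper3.ChevData.D4Bn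
import Cfsg.Agent.Lib.Helper3.ChevData.D4NegTri
import Cfsg.Agent.Lib.Helper3.ChevData.D4Sign
import Cfsg.Agent.Lib.Helper3.ChevData.F4UHyp
import Cfsg.Agent.Lib.Helper3.ChevData.F4Bn
import Cfsg.Agent.Lib.Helper3.ChevData.F4NegTri
import Cfsg.Agent.Lib.Helper3.ChevData.F4Sign
import Cfsg.Agent.Lib.Helper3.ChevData.E6UHyp
import Cfsg.Agent.Lib.Helper3.ChevData.E6Bn
import Cfsg.Agent.Lib.Helper3.ChevData.E6NegTri
import Cfsg.Agent.Lib.Helper3.ChevData.E6Sign
import Cfsg.Agent.Lib.Helper3.ChevData.E7UHyp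
import Cfsg.Agent.Lib.Helper3.ChevData.E7Bn
import Cfsg.Agent.Lib.Helper3.ChevData.E7NegTri
import Cfsg.Agent.Lib.Helper3.ChevData.E7Sign
import Cfsg.Agent.Lib.Helper3.ChevData.E8UHyp
import Cfsg.Agent.Lib.Helper3.ChevData.E8Bn
import Cfsg.Agent.Lib.Helper3.ChevData.E8NegTri
import Cfsg.Agent.Lib.Helper3.ChevData.E8Sign
import Cfsg.Agent.Lib.Helper3.ChevDiag1
import Cfsg.Agent.Lib.Helper3.ChevO1

set_option autoImplicit false
open Cfsg
open Cfsg.Agent.Lib.Helper3.ChevM

namespace Cfsg.Agent.S2158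

/-- In a Chevalley group of type G₂, B₂, D₄, F₄, E₆, E₇ or E₈ over any field, an element of the group whose matrix is the diagonal matrix `ĥ(χ)` of a character `χ` of the root lattice already lies in the diagonal subgroup H (the non-trivial inclusion of the statement that the group meets the group of all such diagonal matrices in H). -/
theorem result {F : Type*} [Field F] (D : Cfsg.Lie.ChevalleyDatum) (hD : D ∈ [Cfsg.Lie.chevG2, Cfsg.Lie.chevB2, Cfsg.Lie.chevD4, Cfsg.Lie.chevF4, Cfsg.Lie.chevE6, Cfsg.Lie.chevE7, Cfsg.Lie.chevE8]) (χ : ℕ → Fˣ) (hχ : D.IsRootCharacter χ) (g : GL D.Idx F) (hg : g ∈ D.group F)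
    (hgχ : (g : Matrix D.Idx D.Idx F) = D.charDiag F χ) : g ∈ D.diagonalSubgroup F := by
  simp only [List.mem_cons, List.not_mem_nil, or_false] at hD
  rcases hD with rfl | rfl | rfl | rfl | rfl | rfl | rfl
  · exact uhypG2.mem_diagonal_of_diagonal bnG2 g2NegTri (fun r hr => signCheck_or (g2Sign r hr)) g hg _ hgχ
  · exact uhypB2.mem_diagonal_of_diagonal bnB2 b2NegTri (fun r hr => signCheck_or (b2Sign r hr)) g hg _ hgχ
  · exact uhypD4.mem_diagonal_of_diagonal bnD4 d4NegTri (fun r hr => signCheck_or (d4Sign r hr)) g hg _ hgχ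
  · exact uhypF4.mem_diagonal_of_diagonal bnF4 f4NegTri (fun r hr => signCheck_or (f4Sign r hr)) g hg _ hgχ
  · exact uhypE6.mem_diagonal_of_diagonal bnE6 e6NegTri (fun r hr => signCheck_or (e6Sign r hr)) g hg _ hgχ
  · exact uhypE7.mem_diagonal_of_diagonal bnE7 e7NegTri (fun r hr => signCheck_or (e7Sign r hr)) g hg _ hgχ
  · exact uhypE8.mem_diagonal_of_diagonal bnE8 e8NegTri (fun r hr => signCheck_or (e8Sign r hr)) g hg _ hgχ

end Cfsg.Agent.S2158
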