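import Cfsg.Statements.S2160
import Cfsg.Agent.Lib.Helper3.ChevData.G2Rel
import Cfsg.Agent.Lib.Helper3.ChevData.G2Srwc
import Cfsg.Agent.Lib.Helper3.ChevData.B2Rel
import Cfsg.Agent.Lib.Helper3.ChevData.B2Srwc
import Cfsg.Agent.Lib.Helper3.ChevData.D4Rel
import Cfsg.Agent.Lib.Helper3.ChevData.D4Srwc
import Cfsg.Agent.Lib.Helper3.ChevData.F4Rel
import Cfsg.Agent.Lib.Helper3.ChevData.F4Srwc
import Cfsg.Agent.Lib.Helper3.ChevData.E6Rel
import Cfsg.Agent.Lib.Helper3.ChevData.E6Srwc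
import Cfsg.Agent.Lib.Helper3.ChevData.E7Rel
import Cfsg.Agent.Lib.Helper3.ChevData.E7Srwc
import Cfsg.Agent.Lib.Helper3.ChevData.E8Rel
import Cfsg.Agent.Lib.Helper3.ChevData.E8Srwc

set_option autoImplicit false
open Cfsg

namespace Cfsg.Agent.S2160


open Cfsg.Lie Cfsg.Agent.Lib.Helper3.ChevM

section
variable {F : Type*} [Field F] {C : CDatum} (R : RelData C)

/-- the simple root elements. -/
def simpleGens (C : CDatum) (F : Type*) [Field F] : Set (GL C.D.Idx F) :=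
  {g | ∃ (i : ℕ) (t : F), i < C.D.rank ∧
    ((g : Matrix C.D.Idx C.D.Idx F) = C.D.x F (C.D.simple i) t ∨
      (g : Matrix C.D.Idx C.D.Idx F) = C.D.x F (C.D.neg (C.D.simple i)) t)}

include R in
theorem xU_mem_closure_simple (rw : ℕ → List ℕ × ℕ)
    (hrw : ∀ r < C.D.nroots, suppWordCheck C.D R.refl rw r = true) (r : ℕ) (hr : r < C.D.nroots)
    (t : F) : R.xU r t ∈ Subgroup.closure (simpleGens C F) := by
  have hc := hrw r hr
  simp only [suppWordCheck, Bool.and_eq_true, decide_eq_true_eq, List.all_eq_true] at hc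
  obtain ⟨⟨⟨hl, hj⟩, -⟩, hrefl⟩ := hc
  set l := (rw r).1
  set j := (rw r).2
  have hlr : ∀ i ∈ l, i < C.D.rank := fun i hi => (hl i hi).1
  have hw : R.nWordU (F := F) l ∈ Subgroup.closure (simpleGens C F) := by
    unfold RelData.nWordU
    apply Subgroup.list_prod_mem
    intro x hx
    simp only [List.mem_map] at hx
    obtain ⟨i, hi, rfl⟩ := hx
    rw [R.nU_eq]
    refine Subgroup.mul_mem _ (Subgroup.mul_mem _ ?_ ?_) ?_
    · exact Subgroup.subset_closure ⟨i, _, hlr i hi, Or.inl rfl⟩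
    · exact Subgroup.subset_closure ⟨i, _, hlr i hi, Or.inr rfl⟩
    · exact Subgroup.subset_closure ⟨i, _, hlr i hi, Or.inl rfl⟩
  have hrel := R.conjRel_word (F := F) l hlr
  have hsj := R.simple_lt j hj
  have hconj := R.conj_units hrel (R.nWordU l) (R.nWordU_val l) (C.D.simple j) hsj
    ((etaW R.refl R.eta l (C.D.simple j) : F) * t)
  rw [hrefl, ← mul_assoc, eta_sq (hrel.sign _ hsj), one_mul] at hconj
  rw [← hconj]
  refine Subgroup.mul_mem _ (Subgroup.mul_mem _ hw ?_) (Subgroup.inv_mem _ hw)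
  exact Subgroup.subset_closure ⟨j, _, hj, Or.inl rfl⟩

include R in
theorem group_le_closure_simple (rw : ℕ → List ℕ × ℕ)
    (hrw : ∀ r < C.D.nroots, suppWordCheck C.D R.refl rw r = true) :
    C.D.group F ≤ Subgroup.closure (simpleGens C F) := by
  unfold ChevalleyDatum.group
  rw [Subgroup.closure_le]
  rintro g ⟨r, t, hg⟩
  have : g = R.xU r.val t := by
    apply Units.ext
    rw [hg, R.xU_val]
    simp [ChevalleyDatum.x, r.2]
  rw [this]
  exact xU_mem_closure_simple R rw hrw r.val r.2 t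

include R in
theorem main (rw : ℕ → List ℕ × ℕ)
    (hrw : ∀ r < C.D.nroots, suppWordCheck C.D R.refl rw r = true)
    (f g : ↥(C.D.group F) ≃* ↥(C.D.group F))
    (hf : C.D.IsFieldAut f) (hg : C.D.IsGraphAut g) (y : ↥(C.D.group F)) : f (g y) = g (f y) := by
  obtain ⟨σ, hσ⟩ := hf
  obtain ⟨π, -, hπ⟩ := hg
  let K : Subgroup ↥(C.D.group F) :=
    MonoidHom.eqLocus (f.toMonoidHom.comp g.toMonoidHom) (g.toMonoidHom.comp f.toMonoidHom)
  have hK : ∀ z : ↥(C.D.group F), z ∈ K ↔ f (g z) = g (f z) := fun z => Iff.rfl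
  have hgen : simpleGens C F ⊆ (K.map (C.D.group F).subtype : Subgroup (GL C.D.Idx F)) := by
    rintro s ⟨i, t, hi, hs⟩
    have hsG : s ∈ C.D.group F := by
      rcases hs with hs | hs
      · have : s = R.xU (C.D.simple i) t := Units.ext hs
        rw [this]
        exact R.xU_mem_group _ (R.simple_lt i hi) t
      · have : s = R.xU (C.D.neg (C.D.simple i)) t := Units.ext hs
        rw [this]
        exact R.xU_mem_group _ (R.neg_lt _ (R.simple_lt i hi)) t
    refine ⟨⟨s, hsG⟩, ?_, rfl⟩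
    rw [SetLike.mem_coe, hK]
    apply Subtype.ext
    apply Units.ext
    rcases hs with hs | hs
    · have h1 := (hπ ⟨s, hsG⟩ ⟨i, hi⟩ t).1 hs
      have h2 := hσ (g ⟨s, hsG⟩) _ _ (R.simple_lt _ (π ⟨i, hi⟩).2) h1
      have h3 := hσ ⟨s, hsG⟩ _ _ (R.simple_lt i hi) hs
      have h4 := (hπ (f ⟨s, hsG⟩) ⟨i, hi⟩ (σ t)).1 h3
      rw [h2, h4, map_pow]
    · have h1 := (hπ ⟨s, hsG⟩ ⟨i, hi⟩ t).2 hs
      have h2 := hσ (g ⟨s, hsG⟩) _ _ (R.neg_lt _ (R.simple_lt _ (π ⟨i, hi⟩).2)) h1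
      have h3 := hσ ⟨s, hsG⟩ _ _ (R.neg_lt _ (R.simple_lt i hi)) hs
      have h4 := (hπ (f ⟨s, hsG⟩) ⟨i, hi⟩ (σ t)).2 h3
      rw [h2, h4, map_pow]
  have hle : C.D.group F ≤ K.map (C.D.group F).subtype :=
    (group_le_closure_simple R rw hrw).trans ((Subgroup.closure_le _).2 hgen)
  obtain ⟨k, hk, hky⟩ := hle y.2
  have : k = y := Subtype.ext hky
  rw [← this]
  exact (hK k).1 hk

end



/-- In a Chevalley group of type G₂, B₂, D₄, F₄, E₆, E₇ or E₈ over a finite field, every field automorphism commutes with every graph automorphism. -/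
theorem result {F : Type*} [Field F] [Finite F] (D : Cfsg.Lie.ChevalleyDatum) (hD : D ∈ [Cfsg.Lie.chevG2, Cfsg.Lie.chevB2, Cfsg.Lie.chevD4, Cfsg.Lie.chevF4, Cfsg.Lie.chevE6, Cfsg.Lie.chevE7, Cfsg.Lie.chevE8]) (f g : ↥(D.group F) ≃* ↥(D.group F))
    (hf : D.IsFieldAut f) (hg : D.IsGraphAut g) (y : ↥(D.group F)) : f (g y) = g (f y) := by
  simp only [List.mem_cons, List.not_mem_nil, or_false] at hD
  rcases hD with rfl | rfl | rfl | rfl | rfl | rfl | rfl
  · exact main relG2 srwG2 g2Srwc f g hf hg y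
  · exact main relB2 srwB2 b2Srwc f g hf hg y
  · exact main relD4 srwD4 d4Srwc f g hf hg y
  · exact main relF4 srwF4 f4Srwc f g hf hg y
  · exact main relE6 srwE6 e6Srwc f g hf hg y
  · exact main relE7 srwE7 e7Srwc f g hf hg y
  · exact main relE8 srwE8 e8Srwc f g hf hg y


end Cfsg.Agent.S2160
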