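import Mathlib
import Cfsg.Statements.S2162

set_option autoImplicit false
open Cfsg

namespace Cfsg.Agent.S2162

open Module

section adapted
variable {F : Type*} [Field F] {V : Type*} [AddCommGroup V] [Module F V] [FiniteDimensional F V]

/-- A basis adapted to a square-zero endomorphism `f` of rank `r`: `f` maps the first `r` basis vectors to the next
`r` ones and kills all the others. -/
theorem exists_adapted_basis (f : V →ₗ[F] V) (hf : ∀ x, f (f x) = 0) (r s : ℕ)
    (hr : finrank F (LinearMap.range f) = r) (hs : finrank F V = r + (r + s)) :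
    ∃ b : Module.Basis (Fin r ⊕ (Fin r ⊕ Fin s)) F V,
      (∀ i, f (b (Sum.inl i)) = b (Sum.inr (Sum.inl i))) ∧ (∀ x, f (b (Sum.inr x)) = 0) := by
  classical
  set K := LinearMap.ker f with hKdef
  set R := LinearMap.range f with hRdef
  have hRK : R ≤ K := by
    rintro _ ⟨x, rfl⟩
    exact hf x
  have hKdim : finrank F K = r + s := by
    have h0 : finrank F R + finrank F K = finrank F V := LinearMap.finrank_range_add_finrank_ker f
    omega
  obtain ⟨C, hC⟩ := Submodule.exists_isCompl K
  have hCdim : finrank F C = r := by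
    have := Submodule.finrank_add_eq_of_isCompl hC
    omega
  obtain ⟨R'', hR''⟩ := Submodule.exists_isCompl R
  set K' := R'' ⊓ K with hK'def
  have hK'K : K' ≤ K := inf_le_right
  have hRK'inf : R ⊓ K' = ⊥ := by
    apply le_antisymm _ bot_le
    calc R ⊓ K' ≤ R ⊓ R'' := inf_le_inf_left R inf_le_left
      _ = ⊥ := hR''.inf_eq_bot
  have hRK'sup : R ⊔ K' = K := by
    rw [hK'def, ← sup_inf_assoc_of_le _ hRK, hR''.sup_eq_top, top_inf_eq]
  have hK'dim : finrank F K' = s := by
    have := Submodule.finrank_sup_add_finrank_inf_eq R K'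
    rw [hRK'sup, hRK'inf, finrank_bot] at this
    omega
  have hKC : ∀ x : V, x ∈ K → x ∈ C → x = 0 := by
    intro x hxK hxC
    have : x ∈ K ⊓ C := ⟨hxK, hxC⟩
    rw [hC.inf_eq_bot] at this
    exact this
  let bC : Module.Basis (Fin r) F C := Module.finBasisOfFinrankEq F C hCdim
  let bK' : Module.Basis (Fin s) F K' := Module.finBasisOfFinrankEq F K' hK'dim
  let v : Fin r ⊕ (Fin r ⊕ Fin s) → V :=
    Sum.elim (fun i => (bC i : V)) (Sum.elim (fun i => f (bC i : V)) (fun j => (bK' j : V)))
  have hli : LinearIndependent F v := by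
    rw [Fintype.linearIndependent_iff]
    intro g hg
    rw [Fintype.sum_sum_type, Fintype.sum_sum_type] at hg
    simp only [v, Sum.elim_inl, Sum.elim_inr] at hg
    set αs : C := ∑ i, g (Sum.inl i) • bC i with hαs
    set βs : C := ∑ i, g (Sum.inr (Sum.inl i)) • bC i with hβs
    set γs : K' := ∑ j, g (Sum.inr (Sum.inr j)) • bK' j with hγs
    have e1 : (αs : V) = ∑ i, g (Sum.inl i) • (bC i : V) := by
      rw [hαs, Submodule.coe_sum]; rfl
    have e2 : f (βs : V) = ∑ i, g (Sum.inr (Sum.inl i)) • f (bC i : V) := by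
      rw [hβs, Submodule.coe_sum, map_sum]
      apply Finset.sum_congr rfl
      intro i _
      rw [Submodule.coe_smul, map_smul]
    have e3 : (γs : V) = ∑ j, g (Sum.inr (Sum.inr j)) • (bK' j : V) := by
      rw [hγs, Submodule.coe_sum]; rfl
    rw [← e1, ← e2, ← e3] at hg
    have hγK : f (γs : V) = 0 := hK'K γs.2
    have h1 : f (αs : V) = 0 := by
      have := congrArg f hg
      rw [map_add, map_add, hf, hγK, map_zero, add_zero, add_zero] at this
      exact this
    have hα0 : αs = 0 := Subtype.ext (hKC _ h1 αs.2)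
    rw [hα0, Submodule.coe_zero, zero_add] at hg
    have h2 : f (βs : V) ∈ R ⊓ K' := by
      refine ⟨LinearMap.mem_range_self f _, ?_⟩
      have : f (βs : V) = -(γs : V) := eq_neg_of_add_eq_zero_left hg
      rw [this]
      exact K'.neg_mem γs.2
    rw [hRK'inf, Submodule.mem_bot] at h2
    have hβ0 : βs = 0 := Subtype.ext (hKC _ h2 βs.2)
    have hγ0 : γs = 0 := by
      rw [h2, zero_add] at hg
      exact Subtype.ext hg
    have hαi := Fintype.linearIndependent_iff.1 bC.linearIndependent (fun i => g (Sum.inl i)) hα0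
    have hβi := Fintype.linearIndependent_iff.1 bC.linearIndependent (fun i => g (Sum.inr (Sum.inl i))) hβ0
    have hγi := Fintype.linearIndependent_iff.1 bK'.linearIndependent (fun j => g (Sum.inr (Sum.inr j))) hγ0
    rintro (i | i | j)
    · exact hαi i
    · exact hβi i
    · exact hγi j
  have hcard : Fintype.card (Fin r ⊕ (Fin r ⊕ Fin s)) = finrank F V := by
    simp [hs]
  refine ⟨basisOfLinearIndependentOfCardEqFinrank' v hli hcard, ?_, ?_⟩
  · intro i
    simp [v]
  · rintro (i | j)
    · simp [v, hf]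
    · simp only [coe_basisOfLinearIndependentOfCardEqFinrank', v, Sum.elim_inr]
      exact hK'K (bK' j).2


theorem exists_conj (fa fb : V →ₗ[F] V) (hfa : ∀ x, fa (fa x) = 0) (hfb : ∀ x, fb (fb x) = 0)
    (r s : ℕ) (hra : finrank F (LinearMap.range fa) = r) (hrb : finrank F (LinearMap.range fb) = r)
    (hs : finrank F V = r + (r + s)) (hr : 1 ≤ r) (hsq : ∀ d : F, ∃ c : F, c * c = d) :
    ∃ h : V →ₗ[F] V, LinearMap.det h = 1 ∧ h ∘ₗ fa = fb ∘ₗ h := by
  classical
  obtain ⟨ba, ha1, ha2⟩ := exists_adapted_basis fa hfa r s hra hs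
  obtain ⟨bb, hb1, hb2⟩ := exists_adapted_basis fb hfb r s hrb hs
  set g : V ≃ₗ[F] V := ba.equiv bb (Equiv.refl _) with hg
  have hgb : ∀ i, g (ba i) = bb i := by
    intro i
    rw [hg, Module.Basis.equiv_apply]; rfl
  have hgcomm : g.toLinearMap ∘ₗ fa = fb ∘ₗ g.toLinearMap := by
    apply ba.ext
    rintro (i | x)
    · simp only [LinearMap.comp_apply, LinearEquiv.coe_coe, ha1, hgb, hb1]
    · simp only [LinearMap.comp_apply, LinearEquiv.coe_coe, ha2, hgb, hb2, map_zero]
  have hdetg : LinearMap.det g.toLinearMap ≠ 0 := by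
    have := LinearEquiv.isUnit_det' g
    exact this.ne_zero
  obtain ⟨c, hc⟩ := hsq (LinearMap.det g.toLinearMap)⁻¹
  let i₀ : Fin r := ⟨0, hr⟩
  let w : Fin r ⊕ (Fin r ⊕ Fin s) → F := fun i =>
    if i = Sum.inl i₀ ∨ i = Sum.inr (Sum.inl i₀) then c else 1
  set D : V →ₗ[F] V := Matrix.toLin ba ba (Matrix.diagonal w) with hD
  have hDb : ∀ i, D (ba i) = w i • ba i := by
    intro i
    rw [hD, Matrix.toLin_self]
    rw [Finset.sum_eq_single i]
    · rw [Matrix.diagonal_apply_eq]
    · intro j _ hji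
      rw [Matrix.diagonal_apply_ne _ hji, zero_smul]
    · intro h; exact absurd (Finset.mem_univ i) h
  have hDdet : LinearMap.det D = c * c := by
    rw [hD, LinearMap.det_toLin, Matrix.det_diagonal, Fintype.prod_sum_type, Fintype.prod_sum_type]
    have h1 : ∏ a : Fin r, w (Sum.inl a) = c := by
      rw [Finset.prod_eq_single i₀]
      · simp [w]
      · intro j _ hj
        simp [w, hj]
      · intro h; exact absurd (Finset.mem_univ _) h
    have h2 : ∏ a : Fin r, w (Sum.inr (Sum.inl a)) = c := by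
      rw [Finset.prod_eq_single i₀]
      · simp [w]
      · intro j _ hj
        simp [w, hj]
      · intro h; exact absurd (Finset.mem_univ _) h
    have h3 : ∏ a : Fin s, w (Sum.inr (Sum.inr a)) = 1 := by
      apply Finset.prod_eq_one
      intro j _
      simp [w]
    rw [h1, h2, h3, mul_one]
  have hDcomm : D ∘ₗ fa = fa ∘ₗ D := by
    apply ba.ext
    rintro (i | x)
    · simp only [LinearMap.comp_apply, ha1, hDb, map_smul]
      congr 1
      by_cases hi : i = i₀
      · subst hi; simp [w]
      · simp [w, hi]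
    · simp only [LinearMap.comp_apply, ha2, hDb, map_smul, map_zero, smul_zero]
  refine ⟨g.toLinearMap ∘ₗ D, ?_, ?_⟩
  · rw [LinearMap.det_comp, hDdet, hc, mul_inv_cancel₀ hdetg]
  · rw [LinearMap.comp_assoc, hDcomm, ← LinearMap.comp_assoc, hgcomm, LinearMap.comp_assoc]

end adapted

/-- Build an element of `SL` from a matrix of determinant one. -/
def mkSL {F : Type*} [Field F] {n : ℕ} (M : Matrix (Fin n) (Fin n) F) (h : M.det = 1) :
    Matrix.SpecialLinearGroup (Fin n) F := ⟨M, h⟩

@[simp] theorem mkSL_coe {F : Type*} [Field F] {n : ℕ} (M : Matrix (Fin n) (Fin n) F) (h : M.det = 1) :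
    ((mkSL M h : Matrix.SpecialLinearGroup (Fin n) F) : Matrix (Fin n) (Fin n) F) = M := rfl

theorem sq_zero_of_involution {F : Type*} [Field F] [CharP F 2] {n : ℕ}
    (a : Matrix.SpecialLinearGroup (Fin n) F) (ha : orderOf a = 2) :
    ((a : Matrix (Fin n) (Fin n) F) - 1) * ((a : Matrix (Fin n) (Fin n) F) - 1) = 0 := by
  have h2 : a ^ 2 = 1 := by rw [← ha]; exact pow_orderOf_eq_one a
  have h3 : (a : Matrix (Fin n) (Fin n) F) * (a : Matrix (Fin n) (Fin n) F) = 1 := by
    have := congrArg (fun g : Matrix.SpecialLinearGroup (Fin n) F => (g : Matrix (Fin n) (Fin n) F)) h2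
    simpa [pow_two] using this
  have h4 : ∀ M : Matrix (Fin n) (Fin n) F, M + M = 0 := by
    intro M
    ext i j
    exact CharTwo.add_self_eq_zero _
  rw [Matrix.sub_mul, Matrix.mul_sub, Matrix.mul_sub, h3, Matrix.mul_one, Matrix.one_mul, Matrix.one_mul]
  have e1 := h4 (a : Matrix (Fin n) (Fin n) F)
  have e2 := h4 (1 : Matrix (Fin n) (Fin n) F)
  have : (1 - (a : Matrix (Fin n) (Fin n) F) - ((a : Matrix (Fin n) (Fin n) F) - 1))
      = (1 + 1) - ((a : Matrix (Fin n) (Fin n) F) + (a : Matrix (Fin n) (Fin n) F)) := by abel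
  rw [this, e1, e2, sub_zero]

theorem result {F : Type*} [Field F] [Fintype F] [CharP F 2] {n : ℕ} (hn : 3 ≤ n) (a b : Matrix.SpecialLinearGroup (Fin n) F) (ha : orderOf a = 2) (hb : orderOf b = 2) :
    IsConj a b ↔ ((a : Matrix (Fin n) (Fin n) F) - 1).rank = ((b : Matrix (Fin n) (Fin n) F) - 1).rank := by
  constructor
  · intro hab
    obtain ⟨c, hc⟩ := isConj_iff.1 hab
    have h1 : (b : Matrix (Fin n) (Fin n) F) - 1
        = (c : Matrix (Fin n) (Fin n) F) * ((a : Matrix (Fin n) (Fin n) F) - 1)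
          * ((c⁻¹ : Matrix.SpecialLinearGroup (Fin n) F) : Matrix (Fin n) (Fin n) F) := by
      rw [← hc, Matrix.SpecialLinearGroup.coe_mul, Matrix.SpecialLinearGroup.coe_mul, Matrix.mul_sub,
        Matrix.sub_mul, Matrix.mul_one]
      congr 1
      have h0 : ((c * c⁻¹ : Matrix.SpecialLinearGroup (Fin n) F) : Matrix (Fin n) (Fin n) F)
          = ((1 : Matrix.SpecialLinearGroup (Fin n) F) : Matrix (Fin n) (Fin n) F) := by
        rw [mul_inv_cancel]
      rw [Matrix.SpecialLinearGroup.coe_mul, Matrix.SpecialLinearGroup.coe_one] at h0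
      exact h0.symm
    rw [h1]
    have hu1 : IsUnit (c : Matrix (Fin n) (Fin n) F).det := by rw [c.2]; exact isUnit_one
    have hu2 : IsUnit ((c⁻¹ : Matrix.SpecialLinearGroup (Fin n) F) : Matrix (Fin n) (Fin n) F).det := by
      rw [(c⁻¹).2]; exact isUnit_one
    rw [Matrix.rank_mul_eq_left_of_isUnit_det _ _ hu2, Matrix.rank_mul_eq_right_of_isUnit_det _ _ hu1]
  · intro hrank
    set Na := (a : Matrix (Fin n) (Fin n) F) - 1 with hNa
    set Nb := (b : Matrix (Fin n) (Fin n) F) - 1 with hNb
    have hNa2 : Na * Na = 0 := sq_zero_of_involution a ha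
    have hNb2 : Nb * Nb = 0 := sq_zero_of_involution b hb
    set fa : (Fin n → F) →ₗ[F] (Fin n → F) := Matrix.toLin' Na with hfa
    set fb : (Fin n → F) →ₗ[F] (Fin n → F) := Matrix.toLin' Nb with hfb
    have hfa2 : ∀ x, fa (fa x) = 0 := by
      intro x
      rw [hfa, Matrix.toLin'_apply, Matrix.toLin'_apply, Matrix.mulVec_mulVec, hNa2, Matrix.zero_mulVec]
    have hfb2 : ∀ x, fb (fb x) = 0 := by
      intro x
      rw [hfb, Matrix.toLin'_apply, Matrix.toLin'_apply, Matrix.mulVec_mulVec, hNb2, Matrix.zero_mulVec]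
    set r := Na.rank with hr
    have hra : finrank F (LinearMap.range fa) = r := rfl
    have hrb : finrank F (LinearMap.range fb) = r := by rw [hrank]; rfl
    -- r ≥ 1
    have hr1 : 1 ≤ r := by
      by_contra hcon
      have hr0 : Na.rank = 0 := by omega
      have hNa0 : Na = 0 := by
        have h1 : finrank F (LinearMap.range fa) = 0 := hr0
        rw [Submodule.finrank_eq_zero, LinearMap.range_eq_bot] at h1
        rw [hfa] at h1
        exact (map_eq_zero_iff _ Matrix.toLin'.injective).1 h1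
      have : a = 1 := by
        apply Subtype.ext
        rw [Matrix.SpecialLinearGroup.coe_one]
        exact sub_eq_zero.1 hNa0
      rw [this, orderOf_one] at ha
      omega
    -- 2r ≤ n
    have h2r : 2 * r ≤ n := by
      have h0 := LinearMap.finrank_range_add_finrank_ker fa
      rw [Module.finrank_fin_fun] at h0
      have hle : LinearMap.range fa ≤ LinearMap.ker fa := by
        rintro _ ⟨x, rfl⟩
        exact hfa2 x
      have := Submodule.finrank_mono hle
      omega
    have hs : finrank F (Fin n → F) = r + (r + (n - 2 * r)) := by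
      rw [Module.finrank_fin_fun]; omega
    have hsq : ∀ d : F, ∃ c : F, c * c = d := by
      intro d
      obtain ⟨c, hc⟩ := isSquare_of_charTwo' d
      exact ⟨c, hc.symm⟩
    obtain ⟨h, hdet, hcomm⟩ := exists_conj fa fb hfa2 hfb2 r (n - 2 * r) hra hrb hs hr1 hsq
    set H := LinearMap.toMatrix' h with hH
    have hHdet : H.det = 1 := by rw [hH, LinearMap.det_toMatrix', hdet]
    have hHN : H * Na = Nb * H := by
      have := congrArg LinearMap.toMatrix' hcomm
      rw [LinearMap.toMatrix'_comp, LinearMap.toMatrix'_comp, hfa, hfb, LinearMap.toMatrix'_toLin',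
        LinearMap.toMatrix'_toLin'] at this
      exact this
    have hHab : mkSL H hHdet * a = b * mkSL H hHdet := by
      apply Subtype.ext
      rw [Matrix.SpecialLinearGroup.coe_mul, Matrix.SpecialLinearGroup.coe_mul, mkSL_coe]
      rw [hNa, hNb, Matrix.mul_sub, Matrix.sub_mul, Matrix.mul_one, Matrix.one_mul] at hHN
      exact sub_left_injective hHN
    rw [isConj_iff]
    refine ⟨mkSL H hHdet, ?_⟩
    rw [hHab, mul_assoc, mul_inv_cancel, mul_one]

end Cfsg.Agent.S2162
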