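import Cfsg.Statements.S2163
import Mathlib

set_option autoImplicit false
open Cfsg

namespace Cfsg.Agent.S2163

open Matrix

/-- The off-diagonal part. -/
def E (F : Type*) [Field F] (n ℓ : ℕ) : Matrix (Fin n) (Fin n) F :=
  Matrix.of (fun i j : Fin n => if j.val < ℓ ∧ i.val = j.val + (n - ℓ) then (1 : F) else 0)

/-- The diagonal projection onto the first `ℓ` coordinates. -/
def D (F : Type*) [Field F] (n ℓ : ℕ) : Matrix (Fin n) (Fin n) F :=
  Matrix.diagonal (fun j : Fin n => if j.val < ℓ then (1 : F) else 0)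

theorem E_mul_E (F : Type*) [Field F] (n ℓ : ℕ) (h2 : 2 * ℓ ≤ n) : E F n ℓ * E F n ℓ = 0 := by
  ext i j
  simp only [Matrix.mul_apply, E, Matrix.of_apply, Matrix.zero_apply]
  apply Finset.sum_eq_zero
  intro k _
  by_cases h : (k.val < ℓ ∧ i.val = k.val + (n - ℓ))
  · have : ¬ (j.val < ℓ ∧ k.val = j.val + (n - ℓ)) := by omega
    simp [this]
  · simp [h]

theorem E_mul_D (F : Type*) [Field F] (n ℓ : ℕ) : E F n ℓ * D F n ℓ = E F n ℓ := by
  ext i j
  simp only [D, Matrix.mul_diagonal, E, Matrix.of_apply]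
  by_cases h : j.val < ℓ
  · simp [h]
  · simp [h]

theorem Et_mul_E (F : Type*) [Field F] (n ℓ : ℕ) (h2 : 2 * ℓ ≤ n) :
    (E F n ℓ)ᵀ * E F n ℓ = D F n ℓ := by
  ext i j
  simp only [Matrix.mul_apply, Matrix.transpose_apply, E, Matrix.of_apply, D,
    Matrix.diagonal_apply]
  by_cases hij : i = j
  · subst hij
    by_cases hi : i.val < ℓ
    · have hk : i.val + (n - ℓ) < n := by omega
      rw [Finset.sum_eq_single ⟨i.val + (n - ℓ), hk⟩]
      · simp [hi]
      · intro b _ hb
        have : b.val ≠ i.val + (n - ℓ) := fun e => hb (Fin.ext e)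
        simp [this]
      · simp
    · simp [hi]
  · rw [if_neg hij]
    apply Finset.sum_eq_zero
    intro k _
    by_cases h : (i.val < ℓ ∧ k.val = i.val + (n - ℓ))
    · have : ¬ (j.val < ℓ ∧ k.val = j.val + (n - ℓ)) := by
        intro h'
        apply hij
        apply Fin.ext
        omega
      simp [this]
    · simp [h]

theorem rank_D (F : Type*) [Field F] (n ℓ : ℕ) (hℓ : ℓ ≤ n) : (D F n ℓ).rank = ℓ := by
  classical
  unfold D
  rw [Matrix.rank_diagonal]
  have e : {i : Fin n // (if i.val < ℓ then (1 : F) else 0) ≠ 0} ≃ Fin ℓ :=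
    { toFun := fun j => ⟨j.1.val, by
        have := j.2
        by_contra hcon
        simp [hcon] at this⟩
      invFun := fun k => ⟨⟨k.val, by omega⟩, by simp⟩
      left_inv := fun j => by simp
      right_inv := fun k => by simp }
  rw [Fintype.card_congr e, Fintype.card_fin]

theorem rank_E (F : Type*) [Field F] (n ℓ : ℕ) (h2 : 2 * ℓ ≤ n) : (E F n ℓ).rank = ℓ := by
  apply le_antisymm
  · have := Matrix.rank_mul_le_right (E F n ℓ) (D F n ℓ)
    rwa [E_mul_D, rank_D F n ℓ (by omega)] at this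
  · have := Matrix.rank_mul_le_right (E F n ℓ)ᵀ (E F n ℓ)
    rwa [Et_mul_E F n ℓ h2, rank_D F n ℓ (by omega)] at this

theorem result {F : Type*} [Field F] [Fintype F] [CharP F 2] {n : ℕ} (hn : 3 ≤ n) (ℓ : ℕ) (h1 : 1 ≤ ℓ) (h2 : 2 * ℓ ≤ n) :
    ∃ a : Matrix.SpecialLinearGroup (Fin n) F, (a : Matrix (Fin n) (Fin n) F) = 1 + Matrix.of (fun i j : Fin n => if j.val < ℓ ∧ i.val = j.val + (n - ℓ) then (1 : F) else 0) ∧ orderOf a = 2 ∧ ((a : Matrix (Fin n) (Fin n) F) - 1).rank = ℓ := by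
  have hchar : CharP (Matrix (Fin n) (Fin n) F) 2 := by
    have : Nonempty (Fin n) := ⟨⟨0, by omega⟩⟩
    infer_instance
  have h2E : E F n ℓ + E F n ℓ = 0 := CharTwo.add_self_eq_zero _
  have hsq : (1 + E F n ℓ) * (1 + E F n ℓ) = 1 := by
    rw [mul_add, add_mul, add_mul, one_mul, mul_one, one_mul, E_mul_E F n ℓ h2, add_zero,
      add_assoc, h2E, add_zero]
  have hdet : (1 + E F n ℓ).det = 1 := by
    have h := congrArg Matrix.det hsq
    rw [Matrix.det_mul, Matrix.det_one] at h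
    have h3 : ((1 + E F n ℓ).det - 1) * ((1 + E F n ℓ).det - 1) = 0 := by
      have h4 : (2 : F) = 0 := CharTwo.two_eq_zero
      linear_combination h - (1 + E F n ℓ).det * h4 + h4
    exact sub_eq_zero.1 (mul_self_eq_zero.1 h3)
  let a : SpecialLinearGroup (Fin n) F := ⟨1 + E F n ℓ, hdet⟩
  have hacoe : (a : Matrix (Fin n) (Fin n) F) = 1 + E F n ℓ := rfl
  refine ⟨a, rfl, ?_, ?_⟩
  · apply orderOf_eq_prime
    · rw [pow_two]
      apply Subtype.ext
      exact hsq
    · intro h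
      have h3 := congrArg (fun a : SpecialLinearGroup (Fin n) F =>
        (a : Matrix (Fin n) (Fin n) F) ⟨n - ℓ, by omega⟩ ⟨0, by omega⟩) h
      have hne : (⟨n - ℓ, by omega⟩ : Fin n) ≠ ⟨0, by omega⟩ := by
        intro e
        have := congrArg Fin.val e
        simp at this
        omega
      simp [hacoe, E, Matrix.one_apply_ne hne] at h3
      omega
  · show ((1 + E F n ℓ) - 1).rank = ℓ
    rw [add_sub_cancel_left]
    exact rank_E F n ℓ h2

end Cfsg.Agent.S2163
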