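import Cfsg.Statements.S2644
import Cfsg.Agent.S0751
import Cfsg.Agent.S0278
import Cfsg.Agent.Lib.Helper1.GUBasic

set_option autoImplicit false
open Cfsg

namespace Cfsg.Agent.S2644


open Matrix Cfsg.Agent.Lib.Helper2.Herm Cfsg.Agent.Lib.Helper1.HermCount
  Cfsg.Agent.Lib.Helper1.GUBasic

section witt
variable {K : Type*} [Field K] [Fintype K] {q n : ℕ}

/-- The Hermitian form as a sesquilinear map (semilinear in the first argument). -/
noncomputable def hermB (hK : Fintype.card K = q ^ 2) (n : ℕ) :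
    (Fin n → K) →ₛₗ[Cfsg.Agent.S0278.powQ hK] (Fin n → K) →ₗ[K] K :=
  LinearMap.mk₂'ₛₗ (Cfsg.Agent.S0278.powQ hK) (RingHom.id K)
    (fun x y => Cfsg.hermForm n K q y x)
    (fun x₁ x₂ y => herm_add_right hK y x₁ x₂)
    (fun c x y => herm_smul_right c y x)
    (fun x y₁ y₂ => herm_add_left y₁ y₂ x)
    (fun c x y => herm_smul_left c y x)

theorem hermB_apply (hK : Fintype.card K = q ^ 2) (x y : Fin n → K) :
    hermB hK n x y = Cfsg.hermForm n K q y x := rfl

theorem herm_span_zero (hK : Fintype.card K = q ^ 2) (u : Fin n → K)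
    (hu : Cfsg.hermForm n K q u u = 0) (a b : Fin n → K) (ha : a ∈ Submodule.span K {u})
    (hb : b ∈ Submodule.span K {u}) : Cfsg.hermForm n K q a b = 0 := by
  obtain ⟨c, rfl⟩ := Submodule.mem_span_singleton.1 ha
  obtain ⟨d, rfl⟩ := Submodule.mem_span_singleton.1 hb
  rw [herm_smul_left, herm_smul_right, hu, mul_zero, mul_zero]

theorem exists_not_fixed (hK : Fintype.card K = q ^ 2) : ∃ b : K, b ^ q ≠ b := by
  classical
  have hq := two_le_q hK
  by_contra hcon
  push Not at hcon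
  have h1 := card_fixedUnits hK
  have h2 : fixedUnits K q = (Finset.univ : Finset K).erase 0 := by
    ext c
    simp [fixedUnits, hcon c]
  rw [h2, Finset.card_erase_of_mem (Finset.mem_univ _), Finset.card_univ, hK] at h1
  have h3 : q ^ 2 = q := by
    have : 1 ≤ q ^ 2 := Nat.one_le_pow _ _ (by omega)
    omega
  nlinarith

/-- Transitivity of the isometries on non-zero isotropic vectors, from Witt's lemma. -/
theorem exists_map_isotropic (hK : Fintype.card K = q ^ 2) (v w : Fin n → K) (hv : v ≠ 0)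
    (hw : w ≠ 0) (hv0 : Cfsg.hermForm n K q v v = 0) (hw0 : Cfsg.hermForm n K q w w = 0) :
    ∃ M : Matrix (Fin n) (Fin n) K,
      (∀ x y, Cfsg.hermForm n K q (M *ᵥ x) (M *ᵥ y) = Cfsg.hermForm n K q x y) ∧ M *ᵥ v = w := by
  have hq := two_le_q hK
  have hσ : Cfsg.Agent.S0278.powQ hK ≠ RingHom.id K := by
    intro h
    obtain ⟨b, hb⟩ := exists_not_fixed hK
    apply hb
    have := congrArg (fun f : K →+* K => f b) h
    exact this
  have hσ2 : ∀ a : K, Cfsg.Agent.S0278.powQ hK (Cfsg.Agent.S0278.powQ hK a) = a :=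
    fun a => pow_q_pow_q hK a
  have hS : (hermB hK n).IsSymm := by
    refine ⟨fun x y => ?_⟩
    rw [hermB_apply, hermB_apply]
    exact herm_conj hK y x
  have hB : (hermB hK n).Nondegenerate := by
    refine ⟨fun x hx => ?_, fun y hy => ?_⟩
    · apply eq_zero_of_forall_herm hK
      intro y
      exact hx y
    · apply eq_zero_of_forall_herm_left hK
      intro x
      exact hy x
  obtain ⟨g, hg1, hg2⟩ := Cfsg.Agent.S0751.result (Cfsg.Agent.S0278.powQ hK) hσ hσ2 (hermB hK n)
    hS hB (Submodule.span K {v}) (Submodule.span K {w})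
    ((LinearEquiv.toSpanNonzeroSingleton K (Fin n → K) v hv).symm.trans
      (LinearEquiv.toSpanNonzeroSingleton K (Fin n → K) w hw)) (by
      intro x x'
      rw [hermB_apply, hermB_apply, herm_span_zero hK w hw0 _ _ (Subtype.mem _) (Subtype.mem _),
        herm_span_zero hK v hv0 _ _ x'.2 x.2])
  refine ⟨LinearMap.toMatrix' g.toLinearMap, fun x y => ?_, ?_⟩
  · rw [LinearMap.toMatrix'_mulVec, LinearMap.toMatrix'_mulVec]
    exact hg1 y x
  · rw [LinearMap.toMatrix'_mulVec]
    have h1 := hg2 ⟨v, Submodule.mem_span_singleton_self v⟩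
    rw [LinearEquiv.trans_apply] at h1
    have h2 : (LinearEquiv.toSpanNonzeroSingleton K (Fin n → K) v hv).symm
        ⟨v, Submodule.mem_span_singleton_self v⟩ = 1 := by
      rw [LinearEquiv.symm_apply_eq, LinearEquiv.toSpanNonzeroSingleton_one]
    rw [h2, LinearEquiv.toSpanNonzeroSingleton_one] at h1
    exact h1

end witt

section struct
variable {K : Type*} [Field K] [Fintype K] {q n : ℕ}

/-- A unitary matrix which is a transvection is a unitary transvection. -/
theorem transvection_structure (hK : Fintype.card K = q ^ 2) (t : Matrix (Fin n) (Fin n) K)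
    (ht : ∀ x y, Cfsg.hermForm n K q (t *ᵥ x) (t *ᵥ y) = Cfsg.hermForm n K q x y)
    (htr : Cfsg.IsTransvection t) :
    ∃ (v : Fin n → K) (a : K), v ≠ 0 ∧ Cfsg.hermForm n K q v v = 0 ∧ a ≠ 0 ∧ a ^ q = -a ∧
      t = Cfsg.unitaryTransvection n q v a := by
  have hq := two_le_q hK
  obtain ⟨hrank, hsq⟩ := htr
  set N := t - 1 with hN
  have htN : t = 1 + N := by rw [hN]; abel
  -- the range of N is a line
  have hr : Module.finrank K (LinearMap.range N.mulVecLin) = 1 := by
    rw [← Matrix.rank]; exact hrank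
  have hne : ∃ w₁, N *ᵥ w₁ ≠ 0 := by
    by_contra hcon
    push Not at hcon
    have : N = 0 := by
      ext i j
      have := congrFun (hcon (Pi.single j 1)) i
      rw [Matrix.mulVec_single_one] at this
      exact this
    rw [this, Matrix.rank_zero] at hrank
    omega
  obtain ⟨w₁, hw₁⟩ := hne
  set v := N *ᵥ w₁ with hv
  have hvmem : v ∈ LinearMap.range N.mulVecLin := ⟨w₁, rfl⟩
  have hspan : ∀ x, ∃ c : K, N *ᵥ x = c • v := by
    intro x
    have h1 := (finrank_eq_one_iff_of_nonzero' (⟨v, hvmem⟩ : LinearMap.range N.mulVecLin)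
      (by intro h; apply hw₁; exact congrArg Subtype.val h)).1 hr ⟨N *ᵥ x, ⟨x, rfl⟩⟩
    obtain ⟨c, hc⟩ := h1
    exact ⟨c, (congrArg Subtype.val hc).symm⟩
  choose c hc using hspan
  have hNv : N *ᵥ v = 0 := by
    rw [hv, Matrix.mulVec_mulVec, hsq, Matrix.zero_mulVec]
  have hcv : c v = 0 := by
    have := hc v
    rw [hNv] at this
    rcases smul_eq_zero.1 this.symm with h | h
    · exact h
    · exact absurd h hw₁
  have hcw : c w₁ = 1 := by
    have h1 := hc w₁
    rw [← hv] at h1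
    have h2 : (1 - c w₁) • v = 0 := by rw [sub_smul, one_smul, ← h1, sub_self]
    rcases smul_eq_zero.1 h2 with h | h
    · exact (sub_eq_zero.1 h).symm
    · exact absurd h hw₁
  -- unitarity
  have hU : ∀ x y, c x * Cfsg.hermForm n K q v y + c y ^ q * Cfsg.hermForm n K q x v
      + c x * c y ^ q * Cfsg.hermForm n K q v v = 0 := by
    intro x y
    have h1 := ht x y
    rw [htN, Matrix.add_mulVec, Matrix.add_mulVec, Matrix.one_mulVec, Matrix.one_mulVec,
      hc x, hc y, herm_add_left, herm_add_right hK, herm_add_right hK, herm_smul_left,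
      herm_smul_right, herm_smul_left, herm_smul_right] at h1
    linear_combination h1
  have hvv : Cfsg.hermForm n K q v v = 0 := by
    have h1 := hU v w₁
    rw [hcv, hcw, one_pow, zero_mul, zero_mul, zero_mul, add_zero, zero_add] at h1
    have h2 := hU w₁ w₁
    rw [hcw, one_pow, one_mul, one_mul, one_mul] at h2
    have h3 := hU w₁ v
    rw [hcv, hcw, zero_pow (by omega), one_mul, zero_mul, mul_zero, zero_mul, add_zero,
      add_zero] at h3
    exact h3
  set β := Cfsg.hermForm n K q v w₁ with hβ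
  have hcx : ∀ x, c x * β + Cfsg.hermForm n K q x v = 0 := by
    intro x
    have h1 := hU x w₁
    rw [hcw, one_pow, one_mul, hvv, mul_zero, add_zero] at h1
    exact h1
  have hβ0 : β ≠ 0 := by
    intro h0
    apply hw₁
    apply eq_zero_of_forall_herm hK
    intro x
    have := hcx x
    rw [h0, mul_zero, zero_add] at this
    exact this
  have hβq : β ^ q = -β := by
    have h1 := hcx w₁
    rw [hcw, one_mul, ← herm_conj hK v w₁, ← hβ] at h1
    linear_combination h1
  refine ⟨v, -β⁻¹, hw₁, hvv, neg_ne_zero.2 (inv_ne_zero hβ0), ?_, ?_⟩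
  · rw [neg_pow_q hK, inv_pow, hβq, inv_neg, neg_neg]
  · apply Matrix.toLin'.injective
    apply LinearMap.ext
    intro x
    rw [Matrix.toLin'_apply, Matrix.toLin'_apply, unitaryTransvection_mulVec, htN,
      Matrix.add_mulVec, Matrix.one_mulVec, hc x]
    congr 2
    have := hcx x
    field_simp
    linear_combination this

end struct

section conj
variable {K : Type*} [Field K] [Fintype K] {q n : ℕ}

theorem transvection_smul (hK : Fintype.card K = q ^ 2) (v : Fin n → K) (c a : K) :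
    Cfsg.unitaryTransvection n q (c • v) a = Cfsg.unitaryTransvection n q v (a * nrm q c) := by
  apply Matrix.toLin'.injective
  apply LinearMap.ext
  intro x
  rw [Matrix.toLin'_apply, Matrix.toLin'_apply, unitaryTransvection_mulVec,
    unitaryTransvection_mulVec, herm_smul_right, smul_smul]
  congr 2
  unfold nrm
  ring

/-- The standard isotropic vector `(1, ε, 0, …, 0)`. -/
def w0 (hn : 3 ≤ n) (ε : K) : Fin n → K :=
  Pi.single (⟨0, by omega⟩ : Fin n) 1 + ε • Pi.single (⟨1, by omega⟩ : Fin n) 1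

theorem w0_ne_zero (hn : 3 ≤ n) (ε : K) : w0 hn ε ≠ 0 := by
  intro h
  have := congrFun h ⟨0, by omega⟩
  unfold w0 at this
  rw [Pi.add_apply, Pi.smul_apply, Pi.single_eq_same, Pi.single_eq_of_ne (by
    intro h'; exact absurd (congrArg Fin.val h') (by norm_num))] at this
  simp at this

theorem w0_two (hn : 3 ≤ n) (ε : K) : w0 hn ε ⟨2, by omega⟩ = 0 := by
  unfold w0
  rw [Pi.add_apply, Pi.smul_apply, Pi.single_eq_of_ne (by
    intro h'; exact absurd (congrArg Fin.val h') (by norm_num)), Pi.single_eq_of_ne (by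
    intro h'; exact absurd (congrArg Fin.val h') (by norm_num))]
  simp

theorem herm_w0 (hK : Fintype.card K = q ^ 2) (hn : 3 ≤ n) (ε : K) (hε : nrm q ε = -1) :
    Cfsg.hermForm n K q (w0 hn ε) (w0 hn ε) = 0 := by
  have hq := two_le_q hK
  have h01 : (⟨0, by omega⟩ : Fin n) ≠ ⟨1, by omega⟩ := by
    intro h'; exact absurd (congrArg Fin.val h') (by norm_num)
  unfold w0
  rw [herm_add_left, herm_smul_left, herm_single_left, herm_single_left, Pi.add_apply,
    Pi.add_apply, Pi.smul_apply, Pi.smul_apply, Pi.single_eq_same, Pi.single_eq_same,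
    Pi.single_eq_of_ne h01, Pi.single_eq_of_ne h01.symm]
  unfold nrm at hε
  simp only [smul_eq_mul, mul_zero, add_zero, mul_one, zero_add, one_pow]
  rw [hε]; ring

theorem exists_conj_matrix (hK : Fintype.card K = q ^ 2) (hn : 3 ≤ n) (ε a₀ : K)
    (hε : nrm q ε = -1) (ha₀ : a₀ ≠ 0) (ha₀q : a₀ ^ q = -a₀)
    (s : Matrix (Fin n) (Fin n) K)
    (hs : ∀ x y, Cfsg.hermForm n K q (s *ᵥ x) (s *ᵥ y) = Cfsg.hermForm n K q x y)
    (htr : Cfsg.IsTransvection s) :
    ∃ g : Matrix (Fin n) (Fin n) K, g.det = 1 ∧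
      (∀ x y, Cfsg.hermForm n K q (g *ᵥ x) (g *ᵥ y) = Cfsg.hermForm n K q x y) ∧
      g * Cfsg.unitaryTransvection n q (w0 hn ε) a₀ = s * g := by
  classical
  have hq := two_le_q hK
  obtain ⟨v, a, hv, hvv, ha, haq, rfl⟩ := transvection_structure hK s hs htr
  have hmem : a / a₀ ∈ fixedUnits K q := by
    simp only [fixedUnits, Finset.mem_filter, Finset.mem_univ, true_and]
    refine ⟨div_ne_zero ha ha₀, ?_⟩
    rw [div_pow, haq, ha₀q, neg_div_neg_eq]
  obtain ⟨c, hc0, hc⟩ := exists_nrm_eq hK hmem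
  have hT : Cfsg.unitaryTransvection n q v a = Cfsg.unitaryTransvection n q (c • v) a₀ := by
    rw [transvection_smul hK, hc, mul_div_cancel₀ _ ha₀]
  have hv' : c • v ≠ 0 := smul_ne_zero hc0 hv
  have hvv' : Cfsg.hermForm n K q (c • v) (c • v) = 0 := by
    rw [herm_smul_left, herm_smul_right, hvv, mul_zero, mul_zero]
  obtain ⟨g₁, hg₁, hg₁w⟩ := exists_map_isotropic hK (w0 hn ε) (c • v) (w0_ne_zero hn ε) hv'
    (herm_w0 hK hn ε hε) hvv'
  have hdet := Cfsg.Agent.S0278.nrm_det hK g₁ hg₁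
  have hdet0 : g₁.det ≠ 0 := by
    intro h0
    rw [h0] at hdet
    unfold nrm at hdet
    rw [zero_mul] at hdet
    exact zero_ne_one hdet
  set d : Fin n → K := Function.update (fun _ => 1) (⟨2, by omega⟩ : Fin n) (g₁.det)⁻¹ with hd
  have hdn : ∀ i, nrm q (d i) = 1 := by
    intro i
    rw [hd]
    by_cases hi : i = ⟨2, by omega⟩
    · rw [hi, Function.update_self]
      unfold nrm at hdet ⊢
      rw [inv_pow, ← mul_inv, hdet, inv_one]
    · rw [Function.update_of_ne hi]
      unfold nrm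
      rw [one_pow, one_mul]
  have hdw : Matrix.diagonal d *ᵥ (w0 hn ε) = w0 hn ε := by
    funext i
    rw [Matrix.mulVec_diagonal, hd]
    by_cases hi : i = ⟨2, by omega⟩
    · rw [hi, w0_two, mul_zero]
    · rw [Function.update_of_ne hi, one_mul]
  obtain ⟨g, hg⟩ : ∃ g, g = g₁ * Matrix.diagonal d := ⟨_, rfl⟩
  have hgw : g *ᵥ (w0 hn ε) = c • v := by
    rw [hg, ← Matrix.mulVec_mulVec, hdw, hg₁w]
  have hgp : ∀ x y, Cfsg.hermForm n K q (g *ᵥ x) (g *ᵥ y) = Cfsg.hermForm n K q x y := by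
    intro x y
    rw [hg, ← Matrix.mulVec_mulVec, ← Matrix.mulVec_mulVec, hg₁,
      Cfsg.Agent.S0278.diag_preserves d hdn]
  refine ⟨g, ?_, hgp, ?_⟩
  · rw [hg, Matrix.det_mul, Matrix.det_diagonal, hd,
      Finset.prod_update_of_mem (Finset.mem_univ _)]
    simp only [Finset.prod_const_one, mul_one]
    exact mul_inv_cancel₀ hdet0
  · rw [hT]
    apply Matrix.toLin'.injective
    apply LinearMap.ext
    intro x
    rw [Matrix.toLin'_apply, Matrix.toLin'_apply, ← Matrix.mulVec_mulVec, ← Matrix.mulVec_mulVec,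
      unitaryTransvection_mulVec, unitaryTransvection_mulVec, Matrix.mulVec_add,
      Matrix.mulVec_smul, hgw]
    congr 3
    rw [← hgw, hgp]

end conj

section pack
variable {K : Type*} [Field K] [Fintype K] {q n : ℕ}

/-- The matrix of an element of `SU`. -/
noncomputable def toMat (n : ℕ) (K : Type*) [Field K] (q : ℕ) :
    ↥(Cfsg.SU n K q) →* Matrix (Fin n) (Fin n) K :=
  (Cfsg.slToMat n K).comp (Cfsg.SU n K q).subtype

theorem toMat_injective : Function.Injective (toMat n K q) := by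
  intro a b hab
  apply Subtype.ext
  apply Matrix.SpecialLinearGroup.ext
  intro i j
  exact congrFun (congrFun hab i) j

theorem toMat_preserves (s : ↥(Cfsg.SU n K q)) (x y : Fin n → K) :
    Cfsg.hermForm n K q (toMat n K q s *ᵥ x) (toMat n K q s *ᵥ y) = Cfsg.hermForm n K q x y :=
  s.2 x y

theorem exists_conj_SU (hK : Fintype.card K = q ^ 2) (hn : 3 ≤ n) (ε a₀ : K)
    (hε : nrm q ε = -1) (ha₀ : a₀ ≠ 0) (ha₀q : a₀ ^ q = -a₀) (s : ↥(Cfsg.SU n K q))
    (htr : Cfsg.IsTransvection (toMat n K q s)) :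
    ∃ G : ↥(Cfsg.SU n K q),
      toMat n K q (G⁻¹ * s * G) = Cfsg.unitaryTransvection n q (w0 hn ε) a₀ := by
  obtain ⟨g, hdet, hgp, hgT⟩ := exists_conj_matrix hK hn ε a₀ hε ha₀ ha₀q (toMat n K q s)
    (toMat_preserves s) htr
  have hmem : (⟨g, hdet⟩ : Matrix.SpecialLinearGroup (Fin n) K) ∈ Cfsg.SU n K q := by
    intro u v
    exact hgp u v
  refine ⟨⟨⟨g, hdet⟩, hmem⟩, ?_⟩
  have hG : toMat n K q ⟨⟨g, hdet⟩, hmem⟩ = g := rfl
  rw [map_mul, map_mul, mul_assoc, hG, ← hgT, ← mul_assoc]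
  nth_rewrite 2 [← hG]
  rw [← map_mul, inv_mul_cancel, map_one, one_mul]

end pack



/-- In the special unitary group SU_n(q) with n ≥ 3 (isometries of Σ u_i v_i^q of determinant one over the field with q² elements), any two transvections (elements t with t − 1 of rank one and square zero) are conjugate. -/
theorem result {K : Type*} [Field K] [Fintype K] {q n : ℕ} (hK : Fintype.card K = q ^ 2) (hn : 3 ≤ n) (s t : ↥(Cfsg.SU n K q)) (hs : Cfsg.IsTransvection (((s : GL (Fin n) K) : Matrix (Fin n) (Fin n) K))) (ht : Cfsg.IsTransvection (((t : GL (Fin n) K) : Matrix (Fin n) (Fin n) K))) : IsConj s t := by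
  classical
  have hq := two_le_q hK
  have hmem : (-1 : K) ∈ fixedUnits K q := by
    simp only [fixedUnits, Finset.mem_filter, Finset.mem_univ, true_and]
    refine ⟨neg_ne_zero.2 one_ne_zero, ?_⟩
    rw [neg_pow_q hK, one_pow]
  obtain ⟨ε, -, hε⟩ := exists_nrm_eq hK hmem
  obtain ⟨b, hb⟩ := exists_not_fixed hK
  have ha₀ : b - b ^ q ≠ 0 := by
    intro h
    exact hb (sub_eq_zero.1 h).symm
  have ha₀q : (b - b ^ q) ^ q = -(b - b ^ q) := by
    rw [sub_eq_add_neg, add_pow_q hK, neg_pow_q hK, pow_q_pow_q hK]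
    ring
  obtain ⟨Gs, hGs⟩ := exists_conj_SU hK hn ε (b - b ^ q) hε ha₀ ha₀q s hs
  obtain ⟨Gt, hGt⟩ := exists_conj_SU hK hn ε (b - b ^ q) hε ha₀ ha₀q t ht
  have h := toMat_injective (hGs.trans hGt.symm)
  rw [isConj_iff]
  refine ⟨Gt * Gs⁻¹, ?_⟩
  have h2 : t = Gt * (Gs⁻¹ * s * Gs) * Gt⁻¹ := by
    rw [h]; group
  rw [h2]; group


end Cfsg.Agent.S2644
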