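import Cfsg.Statements.S2164
import Cfsg.Agent.S2644
import Cfsg.Agent.Lib.Helper2.HermDecomp

set_option autoImplicit false
open Cfsg

namespace Cfsg.Agent.S2164


open Matrix Module Cfsg.Agent.Lib.Helper2.Herm Cfsg.Agent.Lib.Helper1.HermCount
  Cfsg.Agent.Lib.Helper1.GUBasic Cfsg.Agent.Lib.Helper5.PSLCoset Cfsg.Agent.S2644

section partI0
variable {K : Type*} [Field K] [Fintype K] {q n : ℕ}

local notation "H" => Cfsg.hermForm n K q

theorem herm_sub_left (u u' w : Fin n → K) : H (u - u') w = H u w - H u' w := by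
  have h := herm_add_left (q := q) (u - u') u' w
  rw [sub_add_cancel] at h
  rw [h]
  ring

theorem herm_sub_right (hK : Fintype.card K = q ^ 2) (u w w' : Fin n → K) :
    H u (w - w') = H u w - H u w' := by
  have h := herm_add_right hK u (w - w') w'
  rw [sub_add_cancel] at h
  rw [h]
  ring

theorem herm_zero_left (w : Fin n → K) : H 0 w = 0 := by
  have := herm_smul_left (q := q) (0 : K) (0 : Fin n → K) w
  rwa [zero_smul, zero_mul] at this

theorem herm_zero_right (hK : Fintype.card K = q ^ 2) (w : Fin n → K) : H w 0 = 0 := by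
  rw [← herm_conj hK, herm_zero_left, zero_pow]
  have := two_le_q hK
  omega

theorem herm_sum_left {ι : Type*} (s : Finset ι) (c : ι → K) (e : ι → Fin n → K) (w : Fin n → K) :
    H (∑ i ∈ s, c i • e i) w = ∑ i ∈ s, c i * H (e i) w := by
  classical
  induction s using Finset.induction_on with
  | empty => simp [herm_zero_left]
  | insert a s ha ih =>
    rw [Finset.sum_insert ha, Finset.sum_insert ha, herm_add_left, herm_smul_left, ih]

end partI0

section partI
variable {K : Type*} [Field K] [Fintype K] [CharP K 2] {q n : ℕ}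

local notation "H" => Cfsg.hermForm n K q

/-- The involution is self-adjoint. -/
theorem inv_adj (A : Matrix (Fin n) (Fin n) K) (hA2 : A * A = 1)
    (hA : ∀ x y, H (A *ᵥ x) (A *ᵥ y) = H x y) (x y : Fin n → K) :
    H (A *ᵥ x) y = H x (A *ᵥ y) := by
  have h := hA (A *ᵥ x) y
  rw [Matrix.mulVec_mulVec, hA2, Matrix.one_mulVec] at h
  exact h.symm

theorem two_eq_zero' : (2 : K) = 0 := by
  have := CharP.cast_eq_zero K 2
  exact_mod_cast this

theorem nil_adj (hK : Fintype.card K = q ^ 2) (A : Matrix (Fin n) (Fin n) K) (hA2 : A * A = 1)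
    (hA : ∀ x y, H (A *ᵥ x) (A *ᵥ y) = H x y) (x y : Fin n → K) :
    H ((A - 1) *ᵥ x) y = H x ((A - 1) *ᵥ y) := by
  rw [Matrix.sub_mulVec, Matrix.sub_mulVec, Matrix.one_mulVec, Matrix.one_mulVec, herm_sub_left,
    herm_sub_right hK, inv_adj A hA2 hA]

theorem nil_iso (hK : Fintype.card K = q ^ 2) (A : Matrix (Fin n) (Fin n) K) (hA2 : A * A = 1)
    (hA : ∀ x y, H (A *ᵥ x) (A *ᵥ y) = H x y) (x y : Fin n → K) :
    H ((A - 1) *ᵥ x) ((A - 1) *ᵥ y) = 0 := by
  rw [Matrix.sub_mulVec, Matrix.sub_mulVec, Matrix.one_mulVec, Matrix.one_mulVec, herm_sub_left,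
    herm_sub_right hK, herm_sub_right hK, hA, inv_adj A hA2 hA]
  have h2 := two_eq_zero' (K := K)
  linear_combination (H x y - H x (A *ᵥ y)) * h2


theorem normal_form (hK : Fintype.card K = q ^ 2) (A : Matrix (Fin n) (Fin n) K) (hA2 : A * A = 1)
    (hA : ∀ x y, H (A *ᵥ x) (A *ᵥ y) = H x y) {s : ℕ} (hs : (A - 1).rank = s) :
    ∃ f e : Fin s → (Fin n → K), LinearIndependent K f ∧ (∀ i j, H (f i) (f j) = 0) ∧
      (∀ i j, H (e i) (f j) = if i = j then 1 else 0) ∧
      ∀ x, A *ᵥ x = x + ∑ j, H x (f j) • f j := by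
  classical
  obtain ⟨σ, hσ, hσq⟩ := Cfsg.Agent.Lib.Helper2.HermDecomp.exists_sigma hK
  obtain ⟨Nl, hNl⟩ : ∃ Nl : (Fin n → K) →ₗ[K] (Fin n → K), Nl = (A - 1).mulVecLin := ⟨_, rfl⟩
  have hNl_apply : ∀ x, Nl x = (A - 1) *ᵥ x := by
    intro x
    rw [hNl, Matrix.mulVecLin_apply]
  obtain ⟨W, hW⟩ := Submodule.exists_isCompl (LinearMap.ker Nl)
  have hdimW : finrank K W = s := by
    have h1 := Submodule.finrank_add_eq_of_isCompl hW
    have h2 := LinearMap.finrank_range_add_finrank_ker Nl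
    have h3 : finrank K (LinearMap.range Nl) = s := by
      rw [← hs, hNl]
      rfl
    omega
  have hadj : ∀ x y, H (Nl x) y = H x (Nl y) := by
    intro x y
    rw [hNl_apply, hNl_apply]
    exact nil_adj hK A hA2 hA x y
  have hWker : ∀ x : W, Nl (x : Fin n → K) = 0 → x = 0 := by
    intro x hx
    apply Subtype.ext
    exact Submodule.disjoint_def.1 hW.disjoint x (LinearMap.mem_ker.2 hx) x.2
  have hβ : IsHerm σ (fun x y : W => H (Nl (x : Fin n → K)) (y : Fin n → K)) := by
    refine ⟨fun u v w => ?_, fun a v w => ?_, fun v w => ?_⟩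
    · show H (Nl ((u + v : W) : Fin n → K)) w = _
      rw [Submodule.coe_add, map_add, herm_add_left]
    · show H (Nl ((a • v : W) : Fin n → K)) w = _
      rw [Submodule.coe_smul, map_smul, herm_smul_left]
    · show H (Nl (w : Fin n → K)) v = σ (H (Nl (v : Fin n → K)) w)
      rw [hσq, herm_conj hK, hadj]
  have hnd : ∀ v : W, (∀ w : W, H (Nl (v : Fin n → K)) (w : Fin n → K) = 0) → v = 0 := by
    intro v hv
    apply hWker
    apply eq_zero_of_forall_herm_left hK
    intro y
    have hy : y ∈ LinearMap.ker Nl ⊔ W := by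
      rw [hW.sup_eq_top]
      trivial
    obtain ⟨k, hk, w, hw, rfl⟩ := Submodule.mem_sup.1 hy
    rw [herm_add_right hK, hv ⟨w, hw⟩, add_zero, hadj, LinearMap.mem_ker.1 hk, herm_zero_right hK]
  obtain ⟨b, hb⟩ := Cfsg.Agent.Lib.Helper2.HermDecomp.exists_onb hσ hβ hnd hdimW
  have hef : ∀ i j, H (b i : Fin n → K) (Nl (b j : Fin n → K)) = if i = j then 1 else 0 := by
    intro i j
    rw [← hadj]
    exact hb i j
  refine ⟨fun j => Nl (b j : Fin n → K), fun j => (b j : Fin n → K), ?_, ?_, hef, ?_⟩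
  · have hker : LinearMap.ker (Nl.comp W.subtype) = ⊥ := by
      rw [LinearMap.ker_eq_bot']
      intro x hx
      exact hWker x hx
    exact b.linearIndependent.map' (Nl.comp W.subtype) hker
  · intro i j
    show H (Nl (b i : Fin n → K)) (Nl (b j : Fin n → K)) = 0
    rw [hNl_apply, hNl_apply]
    exact nil_iso hK A hA2 hA _ _
  · intro x
    have hx : x ∈ LinearMap.ker Nl ⊔ W := by
      rw [hW.sup_eq_top]
      trivial
    obtain ⟨k, hk, w, hw, rfl⟩ := Submodule.mem_sup.1 hx
    have hAx : A *ᵥ (k + w) = (k + w) + Nl (k + w) := by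
      rw [hNl_apply, Matrix.sub_mulVec, Matrix.one_mulVec]
      abel
    rw [hAx]
    congr 1
    have hkf : ∀ j, H k (Nl (b j : Fin n → K)) = 0 := by
      intro j
      rw [← hadj, LinearMap.mem_ker.1 hk, herm_zero_left]
    have hwsum : w = ∑ i, b.repr ⟨w, hw⟩ i • (b i : Fin n → K) := by
      have := congrArg Subtype.val (b.sum_repr ⟨w, hw⟩)
      simp only [Submodule.coe_sum, Submodule.coe_smul] at this
      exact this.symm
    have hwf : ∀ j, H w (Nl (b j : Fin n → K)) = b.repr ⟨w, hw⟩ j := by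
      intro j
      nth_rewrite 1 [hwsum]
      rw [herm_sum_left]
      simp only [hef, mul_ite, mul_one, mul_zero]
      rw [Finset.sum_ite_eq' Finset.univ j, if_pos (Finset.mem_univ _)]
    rw [map_add, LinearMap.mem_ker.1 hk, zero_add]
    have h1 : Nl w = ∑ j, b.repr ⟨w, hw⟩ j • Nl (b j : Fin n → K) := by
      nth_rewrite 1 [hwsum]
      rw [map_sum]
      apply Finset.sum_congr rfl
      intro j _
      rw [map_smul]
    rw [h1]
    apply Finset.sum_congr rfl
    intro j _
    rw [herm_add_left, hkf, zero_add, hwf]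

end partI


section partII
variable {K : Type*} [Field K] [Fintype K] {q n : ℕ}

local notation "H" => Cfsg.hermForm n K q

/-- Witt's lemma in matrix form. -/
theorem witt_matrix (hK : Fintype.card K = q ^ 2) (X Y : Submodule K (Fin n → K)) (φ : X ≃ₗ[K] Y)
    (hφ : ∀ x x' : X, H (φ x : Fin n → K) (φ x' : Fin n → K) = H (x : Fin n → K) (x' : Fin n → K)) :
    ∃ M : Matrix (Fin n) (Fin n) K,
      (∀ x y, H (M *ᵥ x) (M *ᵥ y) = H x y) ∧ ∀ x : X, M *ᵥ (x : Fin n → K) = (φ x : Fin n → K) := by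
  have hq := two_le_q hK
  have hσ : Cfsg.Agent.S0278.powQ hK ≠ RingHom.id K := by
    intro h
    obtain ⟨b, hb⟩ := exists_not_fixed hK
    apply hb
    have := congrArg (fun f : K →+* K => f b) h
    exact this
  have hσ2 : ∀ a : K, Cfsg.Agent.S0278.powQ hK (Cfsg.Agent.S0278.powQ hK a) = a :=
    fun a => pow_q_pow_q hK a
  have hS : (hermB hK n).IsSymm := by
    refine ⟨fun x y => ?_⟩
    rw [hermB_apply, hermB_apply]
    exact herm_conj hK y x
  have hB : (hermB hK n).Nondegenerate := by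
    refine ⟨fun x hx => ?_, fun y hy => ?_⟩
    · apply eq_zero_of_forall_herm hK
      intro y
      exact hx y
    · apply eq_zero_of_forall_herm_left hK
      intro x
      exact hy x
  obtain ⟨g, hg1, hg2⟩ := Cfsg.Agent.S0751.result (Cfsg.Agent.S0278.powQ hK) hσ hσ2 (hermB hK n)
    hS hB X Y φ (by
      intro x x'
      rw [hermB_apply, hermB_apply]
      exact hφ x' x)
  refine ⟨LinearMap.toMatrix' g.toLinearMap, fun x y => ?_, fun x => ?_⟩
  · rw [LinearMap.toMatrix'_mulVec, LinearMap.toMatrix'_mulVec]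
    exact hg1 y x
  · rw [LinearMap.toMatrix'_mulVec]
    exact hg2 x

theorem herm_span_zero' (hK : Fintype.card K = q ^ 2) {ι : Type*} (f : ι → Fin n → K)
    (hf : ∀ i j, H (f i) (f j) = 0) (a b : Fin n → K) (ha : a ∈ Submodule.span K (Set.range f))
    (hb : b ∈ Submodule.span K (Set.range f)) : H a b = 0 := by
  have h1 : ∀ i, H (f i) b = 0 := by
    intro i
    induction hb using Submodule.span_induction with
    | mem x hx =>
      obtain ⟨j, rfl⟩ := hx
      exact hf i j
    | zero => exact herm_zero_right hK _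
    | add x y _ _ hx hy => rw [herm_add_right hK, hx, hy, add_zero]
    | smul c x _ hx => rw [herm_smul_right, hx, mul_zero]
  induction ha using Submodule.span_induction with
  | mem x hx =>
    obtain ⟨j, rfl⟩ := hx
    exact h1 j
  | zero => exact herm_zero_left _
  | add x y _ _ hx hy => rw [herm_add_left, hx, hy, add_zero]
  | smul c x _ hx => rw [herm_smul_left, hx, mul_zero]

theorem exists_GU_conj (hK : Fintype.card K = q ^ 2) {s : ℕ} (A B : Matrix (Fin n) (Fin n) K)
    (f f' : Fin s → Fin n → K) (hf : LinearIndependent K f) (hf' : LinearIndependent K f')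
    (hf0 : ∀ i j, H (f i) (f j) = 0) (hf0' : ∀ i j, H (f' i) (f' j) = 0)
    (hAf : ∀ x, A *ᵥ x = x + ∑ j, H x (f j) • f j)
    (hBf : ∀ x, B *ᵥ x = x + ∑ j, H x (f' j) • f' j) :
    ∃ G : Matrix (Fin n) (Fin n) K, (∀ x y, H (G *ᵥ x) (G *ᵥ y) = H x y) ∧
      G * A = B * G := by
  obtain ⟨bX, hbX⟩ : ∃ bX : Basis (Fin s) K (Submodule.span K (Set.range f)),
      ∀ j, (bX j : Fin n → K) = f j := ⟨Basis.span hf, fun j => congrArg Subtype.val (Basis.span_apply hf j)⟩
  obtain ⟨bY, hbY⟩ : ∃ bY : Basis (Fin s) K (Submodule.span K (Set.range f')),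
      ∀ j, (bY j : Fin n → K) = f' j := ⟨Basis.span hf', fun j => congrArg Subtype.val (Basis.span_apply hf' j)⟩
  obtain ⟨G, hG1, hG2⟩ := witt_matrix hK _ _ (bX.equiv bY (Equiv.refl _)) (by
    intro x x'
    rw [herm_span_zero' hK f' hf0' _ _ (Subtype.mem _) (Subtype.mem _),
      herm_span_zero' hK f hf0 _ _ x.2 x'.2])
  have hGf : ∀ j, G *ᵥ f j = f' j := by
    intro j
    have := hG2 (bX j)
    rw [Basis.equiv_apply, Equiv.refl_apply, hbX, hbY] at this
    exact this
  refine ⟨G, hG1, ?_⟩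
  apply Matrix.toLin'.injective
  apply LinearMap.ext
  intro x
  rw [Matrix.toLin'_apply, Matrix.toLin'_apply, ← Matrix.mulVec_mulVec, ← Matrix.mulVec_mulVec,
    hAf, hBf, Matrix.mulVec_add, Matrix.mulVec_sum]
  congr 1
  apply Finset.sum_congr rfl
  intro j _
  rw [Matrix.mulVec_smul, hGf, ← hG1 x (f j), hGf]

end partII


section partIII
variable {K : Type*} [Field K] [Fintype K] {q n : ℕ}

local notation "H" => Cfsg.hermForm n K q

theorem herm_eq_dot (x w : Fin n → K) : H x w = (fun i => (w i) ^ q) ⬝ᵥ x := by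
  unfold Cfsg.hermForm dotProduct
  apply Finset.sum_congr rfl
  intro i _
  exact mul_comm _ _

/-- The correcting matrix. -/
def Dmat (n : ℕ) (q : ℕ) (f₁ e₁ : Fin n → K) (γ lam : K) : Matrix (Fin n) (Fin n) K :=
  1 + (lam - 1) • (vecMulVec f₁ (fun i => (e₁ i) ^ q - γ * (f₁ i) ^ q)
    + vecMulVec e₁ (fun i => (f₁ i) ^ q))

theorem Dmat_mulVec (f₁ e₁ : Fin n → K) (γ lam : K) (x : Fin n → K) :
    Dmat n q f₁ e₁ γ lam *ᵥ x = x + (lam - 1) • ((H x e₁ - γ * H x f₁) • f₁ + H x f₁ • e₁) := by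
  unfold Dmat
  rw [Matrix.add_mulVec, Matrix.one_mulVec, Matrix.smul_mulVec, Matrix.add_mulVec,
    Matrix.vecMulVec_mulVec, Matrix.vecMulVec_mulVec, op_smul_eq_smul, op_smul_eq_smul,
    ← herm_eq_dot]
  congr 4
  rw [herm_eq_dot x e₁, herm_eq_dot x f₁]
  unfold dotProduct
  rw [Finset.mul_sum, ← Finset.sum_sub_distrib]
  apply Finset.sum_congr rfl
  intro i _
  ring

theorem det_Dmat (f₁ e₁ : Fin n → K) (lam : K) (h11 : H f₁ f₁ = 0) (h21 : H e₁ f₁ = 1)
    (h12 : H f₁ e₁ = 1) : (Dmat n q f₁ e₁ (H e₁ e₁) lam).det = lam ^ 2 := by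
  obtain ⟨U, hU⟩ : ∃ U : Matrix (Fin n) (Fin 2) K, U = Matrix.of fun i k => ![f₁ i, e₁ i] k :=
    ⟨_, rfl⟩
  obtain ⟨Wm, hWm⟩ : ∃ Wm : Matrix (Fin 2) (Fin n) K,
      Wm = Matrix.of fun k i => ![(e₁ i) ^ q - H e₁ e₁ * (f₁ i) ^ q, (f₁ i) ^ q] k := ⟨_, rfl⟩
  have h1 : Dmat n q f₁ e₁ (H e₁ e₁) lam = 1 + ((lam - 1) • U) * Wm := by
    unfold Dmat
    rw [Matrix.smul_mul]
    congr 2
    ext i j
    rw [hU, hWm, Matrix.mul_apply, Fin.sum_univ_two]
    simp [Matrix.vecMulVec_apply]
  have h2 : Wm * ((lam - 1) • U) = (lam - 1) • (1 : Matrix (Fin 2) (Fin 2) K) := by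
    rw [Matrix.mul_smul]
    congr 1
    ext k l
    rw [hU, hWm, Matrix.mul_apply]
    fin_cases k <;> fin_cases l
    · simp only [Matrix.of_apply, Matrix.cons_val_zero, Fin.zero_eta, Matrix.one_apply_eq]
      have : ∑ j, ((e₁ j) ^ q - H e₁ e₁ * (f₁ j) ^ q) * f₁ j = H f₁ e₁ - H e₁ e₁ * H f₁ f₁ := by
        unfold Cfsg.hermForm
        rw [Finset.mul_sum, ← Finset.sum_sub_distrib]
        apply Finset.sum_congr rfl
        intro j _
        ring
      rw [this, h11, h12]
      ring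
    · simp only [Matrix.of_apply, Matrix.cons_val_zero, Matrix.cons_val_one, Fin.zero_eta,
        Fin.mk_one, ne_eq, zero_ne_one, not_false_eq_true, Matrix.one_apply_ne]
      have : ∑ j, ((e₁ j) ^ q - H e₁ e₁ * (f₁ j) ^ q) * e₁ j = H e₁ e₁ - H e₁ e₁ * H e₁ f₁ := by
        unfold Cfsg.hermForm
        rw [Finset.mul_sum, ← Finset.sum_sub_distrib]
        apply Finset.sum_congr rfl
        intro j _
        ring
      rw [this, h21]
      ring
    · simp only [Matrix.of_apply, Matrix.cons_val_zero, Matrix.cons_val_one, Fin.zero_eta,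
        Fin.mk_one, ne_eq, one_ne_zero, not_false_eq_true, Matrix.one_apply_ne]
      have : ∑ j, (f₁ j) ^ q * f₁ j = H f₁ f₁ := by
        unfold Cfsg.hermForm
        apply Finset.sum_congr rfl
        intro j _
        ring
      rw [this, h11]
    · simp only [Matrix.of_apply, Matrix.cons_val_one, Matrix.cons_val_zero, Fin.mk_one,
        Matrix.one_apply_eq]
      have : ∑ j, (f₁ j) ^ q * e₁ j = H e₁ f₁ := by
        unfold Cfsg.hermForm
        apply Finset.sum_congr rfl
        intro j _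
        ring
      rw [this, h21]
  rw [h1, Matrix.det_one_add_mul_comm, h2, Matrix.det_fin_two]
  simp only [Matrix.add_apply, Matrix.smul_apply, Matrix.one_apply_eq, smul_eq_mul, mul_one,
    ne_eq, zero_ne_one, one_ne_zero, not_false_eq_true, Matrix.one_apply_ne, mul_zero, add_zero]
  ring


theorem Dmat_preserves (hK : Fintype.card K = q ^ 2) (f₁ e₁ : Fin n → K) (lam : K)
    (hlam : lam * lam ^ q = 1) (h11 : H f₁ f₁ = 0) (h21 : H e₁ f₁ = 1) (h12 : H f₁ e₁ = 1)
    (x y : Fin n → K) :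
    H (Dmat n q f₁ e₁ (H e₁ e₁) lam *ᵥ x) (Dmat n q f₁ e₁ (H e₁ e₁) lam *ᵥ y) = H x y := by
  have hγ : (H e₁ e₁) ^ q = H e₁ e₁ := herm_conj hK e₁ e₁
  have hfy : H f₁ y = (H y f₁) ^ q := (herm_conj hK y f₁).symm
  have hey : H e₁ y = (H y e₁) ^ q := (herm_conj hK y e₁).symm
  have hL : (lam - 1) ^ q = lam ^ q - 1 := by rw [sub_pow_q hK, one_pow]
  rw [Dmat_mulVec, Dmat_mulVec]
  simp only [herm_add_left, herm_add_right hK, herm_smul_left, herm_smul_right, h11, h21, h12, hfy,
    hey, hL, sub_pow_q hK, mul_pow, hγ]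
  linear_combination ((H x e₁ - H e₁ e₁ * H x f₁) * (H y f₁) ^ q + H x f₁ * (H y e₁) ^ q) * hlam

theorem Dmat_comm (hK : Fintype.card K = q ^ 2) {s : ℕ} (B : Matrix (Fin n) (Fin n) K)
    (f' e' : Fin s → Fin n → K) (i0 : Fin s) (hf0' : ∀ i j, H (f' i) (f' j) = 0)
    (hef : ∀ i j, H (e' i) (f' j) = if i = j then 1 else 0)
    (hBf : ∀ x, B *ᵥ x = x + ∑ j, H x (f' j) • f' j) (lam : K) :
    Dmat n q (f' i0) (e' i0) (H (e' i0) (e' i0)) lam * B
      = B * Dmat n q (f' i0) (e' i0) (H (e' i0) (e' i0)) lam := by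
  classical
  have hq := two_le_q hK
  have hfe : ∀ j, H (f' j) (e' i0) = if i0 = j then 1 else 0 := by
    intro j
    rw [← herm_conj hK, hef]
    split_ifs
    · exact one_pow q
    · exact zero_pow (by omega)
  apply Matrix.toLin'.injective
  apply LinearMap.ext
  intro x
  rw [Matrix.toLin'_apply, Matrix.toLin'_apply, ← Matrix.mulVec_mulVec, ← Matrix.mulVec_mulVec]
  have hBa : H (B *ᵥ x) (f' i0) = H x (f' i0) := by
    rw [hBf, herm_add_left, herm_sum_left]
    simp only [hf0', mul_zero, Finset.sum_const_zero, add_zero]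
  have hBb : H (B *ᵥ x) (e' i0) = H x (e' i0) + H x (f' i0) := by
    rw [hBf, herm_add_left, herm_sum_left]
    simp only [hfe, mul_ite, mul_one, mul_zero]
    rw [Finset.sum_ite_eq Finset.univ i0, if_pos (Finset.mem_univ _)]
  have hDf : ∀ j, H (Dmat n q (f' i0) (e' i0) (H (e' i0) (e' i0)) lam *ᵥ x) (f' j)
      = H x (f' j) + (lam - 1) * (if i0 = j then H x (f' i0) else 0) := by
    intro j
    rw [Dmat_mulVec, herm_add_left, herm_smul_left, herm_add_left, herm_smul_left, herm_smul_left,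
      hf0', hef]
    split_ifs <;> ring
  rw [Dmat_mulVec, hBa, hBb]
  nth_rewrite 2 [hBf]
  simp only [hDf]
  rw [hBf, Dmat_mulVec]
  have h1 : ∑ j, (H x (f' j) + (lam - 1) * (if i0 = j then H x (f' i0) else 0)) • f' j
      = ∑ j, H x (f' j) • f' j + ((lam - 1) * H x (f' i0)) • f' i0 := by
    simp only [add_smul, Finset.sum_add_distrib]
    congr 1
    have : ∀ j, ((lam - 1) * (if i0 = j then H x (f' i0) else 0)) • f' j
        = if i0 = j then ((lam - 1) * H x (f' i0)) • f' j else 0 := by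
      intro j
      split_ifs
      · rfl
      · rw [mul_zero, zero_smul]
    simp only [this]
    rw [Finset.sum_ite_eq Finset.univ i0, if_pos (Finset.mem_univ _)]
  rw [h1]
  module

end partIII


section partIV
variable {K : Type*} [Field K] [Fintype K] [CharP K 2] {q n : ℕ}

local notation "H" => Cfsg.hermForm n K q

theorem even_q (hK : Fintype.card K = q ^ 2) : Even q := by
  have h1 := FiniteField.even_card_of_char_two (ringChar.eq K 2)
  rw [hK, ← Nat.even_iff, Nat.even_pow] at h1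
  exact h1.1

theorem conj_of_rank_eq (hK : Fintype.card K = q ^ 2) (a b : ↥(Cfsg.SU n K q))
    (ha : orderOf a = 2) (hb : orderOf b = 2)
    (hrank : (toMat n K q a - 1).rank = (toMat n K q b - 1).rank) : IsConj a b := by
  classical
  have hq := two_le_q hK
  obtain ⟨s, hs⟩ : ∃ s, (toMat n K q a - 1).rank = s := ⟨_, rfl⟩
  have hs' : (toMat n K q b - 1).rank = s := by rw [← hrank, hs]
  have hA2 : toMat n K q a * toMat n K q a = 1 := by
    rw [← map_mul, ← pow_two, ← ha, pow_orderOf_eq_one, map_one]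
  have hB2 : toMat n K q b * toMat n K q b = 1 := by
    rw [← map_mul, ← pow_two, ← hb, pow_orderOf_eq_one, map_one]
  obtain ⟨f, e, hf, hf0, hef, hAf⟩ := normal_form hK (toMat n K q a) hA2 (toMat_preserves a) hs
  obtain ⟨f', e', hf', hf0', hef', hBf⟩ := normal_form hK (toMat n K q b) hB2 (toMat_preserves b) hs'
  have hspos : 0 < s := by
    rcases Nat.eq_zero_or_pos s with h0 | h0
    · exfalso
      subst h0
      have h1 : toMat n K q a = 1 := by
        apply Matrix.toLin'.injective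
        apply LinearMap.ext
        intro x
        rw [Matrix.toLin'_apply, hAf]
        simp
      have h2 : a = 1 := toMat_injective (by rw [h1, map_one])
      rw [h2, orderOf_one] at ha
      omega
    · exact h0
  obtain ⟨G, hG1, hG2⟩ := exists_GU_conj hK (toMat n K q a) (toMat n K q b) f f' hf hf' hf0 hf0'
    hAf hBf
  have hdet : Cfsg.Agent.Lib.Helper1.HermCount.nrm q G.det = 1 := Cfsg.Agent.S0278.nrm_det hK G hG1
  have hdet0 : G.det ≠ 0 := by
    intro h0
    rw [h0] at hdet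
    unfold Cfsg.Agent.Lib.Helper1.HermCount.nrm at hdet
    rw [zero_mul] at hdet
    exact zero_ne_one hdet
  obtain ⟨r, hr⟩ := even_q hK
  obtain ⟨ν, hν⟩ : ∃ ν : K, ν = G.det⁻¹ := ⟨_, rfl⟩
  have hν1 : ν ^ (q + 1) = 1 := by
    unfold Cfsg.Agent.Lib.Helper1.HermCount.nrm at hdet
    rw [hν, inv_pow, pow_succ', hdet, inv_one]
  obtain ⟨lam, hlam⟩ : ∃ lam : K, lam = ν ^ (r + 1) := ⟨_, rfl⟩
  have hlam2 : lam ^ 2 = ν := by
    rw [hlam, ← pow_mul]
    have : (r + 1) * 2 = (q + 1) + 1 := by omega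
    rw [this, pow_succ, hν1, one_mul]
  have hlamq : lam * lam ^ q = 1 := by
    rw [← pow_succ', hlam, ← pow_mul, mul_comm, pow_mul, hν1, one_pow]
  obtain ⟨i0⟩ : Nonempty (Fin s) := ⟨⟨0, hspos⟩⟩
  have h11 : H (f' i0) (f' i0) = 0 := hf0' i0 i0
  have h21 : H (e' i0) (f' i0) = 1 := by rw [hef', if_pos rfl]
  have h12 : H (f' i0) (e' i0) = 1 := by rw [← herm_conj hK, h21, one_pow]
  obtain ⟨D, hD⟩ : ∃ D, D = Dmat n q (f' i0) (e' i0) (H (e' i0) (e' i0)) lam := ⟨_, rfl⟩
  have hDdet : D.det = ν := by rw [hD, det_Dmat _ _ _ h11 h21 h12, hlam2]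
  have hDp : ∀ x y, H (D *ᵥ x) (D *ᵥ y) = H x y := by
    intro x y
    rw [hD]
    exact Dmat_preserves hK _ _ _ hlamq h11 h21 h12 x y
  have hDB : D * toMat n K q b = toMat n K q b * D := by
    rw [hD]
    exact Dmat_comm hK _ f' e' i0 hf0' hef' hBf lam
  have hdet' : (D * G).det = 1 := by
    rw [Matrix.det_mul, hDdet, hν, inv_mul_cancel₀ hdet0]
  have hmem : (⟨D * G, hdet'⟩ : Matrix.SpecialLinearGroup (Fin n) K) ∈ Cfsg.SU n K q := by
    intro u v
    show H ((D * G) *ᵥ u) ((D * G) *ᵥ v) = H u v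
    rw [← Matrix.mulVec_mulVec, ← Matrix.mulVec_mulVec, hDp, hG1]
  rw [isConj_iff]
  refine ⟨⟨⟨D * G, hdet'⟩, hmem⟩, ?_⟩
  rw [mul_inv_eq_iff_eq_mul]
  apply toMat_injective
  rw [map_mul, map_mul]
  show (D * G) * toMat n K q a = toMat n K q b * (D * G)
  rw [Matrix.mul_assoc, hG2, ← Matrix.mul_assoc, hDB, Matrix.mul_assoc]

end partIV



/-- Conjugacy of involutions in the special unitary group SU_n(q), q even, n ≥ 3, realised over the field F with q² elements as the matrices of determinant 1 preserving the form Σ u_i v_i^q: for two elements of order 2 of SU_n(q) the following are equivalent — they are conjugate in SU_n(q); they are conjugate in SL_n(F); the matrices a − 1 and b − 1 have the same rank. -/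
theorem result {F : Type*} [Field F] [Fintype F] [CharP F 2] {n q : ℕ} (hF : Fintype.card F = q ^ 2) (hn : 3 ≤ n) (a b : ↥(Cfsg.SU n F q)) (ha : orderOf a = 2) (hb : orderOf b = 2) :
    (IsConj a b ↔ IsConj (a : Matrix.SpecialLinearGroup (Fin n) F) (b : Matrix.SpecialLinearGroup (Fin n) F)) ∧
    (IsConj a b ↔ (((a : Matrix.SpecialLinearGroup (Fin n) F) : Matrix (Fin n) (Fin n) F) - 1).rank = (((b : Matrix.SpecialLinearGroup (Fin n) F) : Matrix (Fin n) (Fin n) F) - 1).rank) := by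
  have h1 : IsConj a b → IsConj (a : Matrix.SpecialLinearGroup (Fin n) F)
      (b : Matrix.SpecialLinearGroup (Fin n) F) := by
    intro h
    exact (Cfsg.SU n F q).subtype.map_isConj h
  have h2 : IsConj (a : Matrix.SpecialLinearGroup (Fin n) F)
      (b : Matrix.SpecialLinearGroup (Fin n) F) →
      (((a : Matrix.SpecialLinearGroup (Fin n) F) : Matrix (Fin n) (Fin n) F) - 1).rank
        = (((b : Matrix.SpecialLinearGroup (Fin n) F) : Matrix (Fin n) (Fin n) F) - 1).rank := by
    intro h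
    rw [isConj_iff] at h
    obtain ⟨c, hc⟩ := h
    have h3 : ((b : Matrix.SpecialLinearGroup (Fin n) F) : Matrix (Fin n) (Fin n) F) - 1
        = (c : Matrix (Fin n) (Fin n) F)
          * (((a : Matrix.SpecialLinearGroup (Fin n) F) : Matrix (Fin n) (Fin n) F) - 1)
          * ((c⁻¹ : Matrix.SpecialLinearGroup (Fin n) F) : Matrix (Fin n) (Fin n) F) := by
      rw [← hc, Matrix.mul_sub, Matrix.sub_mul, Matrix.mul_one,
        Matrix.SpecialLinearGroup.coe_mul, Matrix.SpecialLinearGroup.coe_mul,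
        ← Matrix.SpecialLinearGroup.coe_mul c c⁻¹, mul_inv_cancel,
        Matrix.SpecialLinearGroup.coe_one]
    rw [h3]
    have hu1 : IsUnit (c : Matrix (Fin n) (Fin n) F).det := by
      rw [c.2]
      exact isUnit_one
    have hu2 : IsUnit ((c⁻¹ : Matrix.SpecialLinearGroup (Fin n) F) :
        Matrix (Fin n) (Fin n) F).det := by
      rw [(c⁻¹).2]
      exact isUnit_one
    rw [Matrix.rank_mul_eq_left_of_isUnit_det _ _ hu2, Matrix.rank_mul_eq_right_of_isUnit_det _ _ hu1]
  have h3 : (((a : Matrix.SpecialLinearGroup (Fin n) F) : Matrix (Fin n) (Fin n) F) - 1).rank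
        = (((b : Matrix.SpecialLinearGroup (Fin n) F) : Matrix (Fin n) (Fin n) F) - 1).rank →
      IsConj a b := fun h => conj_of_rank_eq hF a b ha hb h
  exact ⟨⟨h1, fun h => h3 (h2 h)⟩, ⟨fun h => h2 (h1 h), h3⟩⟩


end Cfsg.Agent.S2164
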