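import Cfsg.Statements.S2165
import Mathlib
import Cfsg.Agent.S2163

set_option autoImplicit false
open Cfsg

namespace Cfsg.Agent.S2165

open Matrix Cfsg.Agent.S2163

/-- The permutation matrix of the statement. -/
def Pm (F : Type*) [Field F] (n ℓ : ℕ) : Matrix (Fin n) (Fin n) F :=
  Matrix.of (fun i j : Fin n => if (j.val < ℓ ∧ i.val = j.val + (n - ℓ)) ∨
    (i.val < ℓ ∧ j.val = i.val + (n - ℓ)) ∨ (i = j ∧ ℓ ≤ i.val ∧ i.val < n - ℓ) then (1 : F) else 0)

/-- The underlying involution of the index set. -/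
def sw (n ℓ : ℕ) (h2 : 2 * ℓ ≤ n) (i : Fin n) : Fin n :=
  if h : i.val < ℓ then ⟨i.val + (n - ℓ), by omega⟩
  else if h' : n - ℓ ≤ i.val then ⟨i.val - (n - ℓ), by omega⟩ else i

theorem sw_val (n ℓ : ℕ) (h2 : 2 * ℓ ≤ n) (i : Fin n) :
    (sw n ℓ h2 i).val = if i.val < ℓ then i.val + (n - ℓ)
      else if n - ℓ ≤ i.val then i.val - (n - ℓ) else i.val := by
  unfold sw
  split_ifs <;> rfl

theorem sw_sw (n ℓ : ℕ) (h2 : 2 * ℓ ≤ n) (i : Fin n) : sw n ℓ h2 (sw n ℓ h2 i) = i := by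
  apply Fin.ext
  rw [sw_val, sw_val]
  have := i.2
  split_ifs <;> omega

theorem Pm_apply (F : Type*) [Field F] (n ℓ : ℕ) (h2 : 2 * ℓ ≤ n) (i j : Fin n) :
    Pm F n ℓ i j = if j = sw n ℓ h2 i then 1 else 0 := by
  unfold Pm
  rw [Matrix.of_apply]
  have hi := i.2
  have hj := j.2
  have key : ((j.val < ℓ ∧ i.val = j.val + (n - ℓ)) ∨
      (i.val < ℓ ∧ j.val = i.val + (n - ℓ)) ∨ (i = j ∧ ℓ ≤ i.val ∧ i.val < n - ℓ))
      ↔ j = sw n ℓ h2 i := by
    rw [Fin.ext_iff, Fin.ext_iff, sw_val]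
    split_ifs <;> omega
  by_cases h : j = sw n ℓ h2 i
  · rw [if_pos h, if_pos (key.2 h)]
  · rw [if_neg h, if_neg (fun h' => h (key.1 h'))]

theorem Pm_mulVec (F : Type*) [Field F] (n ℓ : ℕ) (h2 : 2 * ℓ ≤ n) (v : Fin n → F) (i : Fin n) :
    (Pm F n ℓ).mulVec v i = v (sw n ℓ h2 i) := by
  simp only [Matrix.mulVec, dotProduct, Pm_apply F n ℓ h2]
  simp

theorem Pm_mul_self (F : Type*) [Field F] (n ℓ : ℕ) (h2 : 2 * ℓ ≤ n) :
    Pm F n ℓ * Pm F n ℓ = 1 := by
  ext i k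
  rw [Matrix.mul_apply]
  simp only [Pm_apply F n ℓ h2]
  rw [Finset.sum_eq_single (sw n ℓ h2 i)]
  · rw [if_pos rfl, one_mul, sw_sw, Matrix.one_apply]
    by_cases h : i = k
    · rw [if_pos h, if_pos h.symm]
    · rw [if_neg h, if_neg (fun h' => h h'.symm)]
  · intro b _ hb
    rw [if_neg hb, zero_mul]
  · intro h
    exact absurd (Finset.mem_univ _) h

/-- The diagonal projection onto the last `ℓ` coordinates. -/
def D' (F : Type*) [Field F] (n ℓ : ℕ) : Matrix (Fin n) (Fin n) F :=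
  Matrix.diagonal (fun j : Fin n => if n - ℓ ≤ j.val then (1 : F) else 0)

theorem E_mul_Et (F : Type*) [Field F] (n ℓ : ℕ) (h2 : 2 * ℓ ≤ n) :
    E F n ℓ * (E F n ℓ)ᵀ = D' F n ℓ := by
  ext i j
  simp only [Matrix.mul_apply, Matrix.transpose_apply, E, Matrix.of_apply, D',
    Matrix.diagonal_apply]
  have hi := i.2
  have hj := j.2
  by_cases hij : i = j
  · subst hij
    rw [if_pos rfl]
    by_cases hi' : n - ℓ ≤ i.val
    · have hk : i.val - (n - ℓ) < n := by omega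
      rw [Finset.sum_eq_single ⟨i.val - (n - ℓ), hk⟩]
      · have h1 : i.val - (n - ℓ) < ℓ ∧ i.val = i.val - (n - ℓ) + (n - ℓ) := by omega
        show (if (i.val - (n - ℓ) < ℓ ∧ i.val = i.val - (n - ℓ) + (n - ℓ)) then (1 : F) else 0)
          * (if (i.val - (n - ℓ) < ℓ ∧ i.val = i.val - (n - ℓ) + (n - ℓ)) then (1 : F) else 0)
          = if n - ℓ ≤ i.val then 1 else 0
        rw [if_pos h1, if_pos hi', mul_one]
      · intro b _ hb
        have : ¬ (b.val < ℓ ∧ i.val = b.val + (n - ℓ)) := by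
          rintro ⟨h3, h4⟩
          apply hb
          apply Fin.ext
          show b.val = i.val - (n - ℓ)
          omega
        simp [this]
      · simp
    · have : ∀ k : Fin n, ¬ (k.val < ℓ ∧ i.val = k.val + (n - ℓ)) := by
        intro k
        omega
      simp [hi', this]
  · rw [if_neg hij]
    apply Finset.sum_eq_zero
    intro k _
    by_cases h : (k.val < ℓ ∧ i.val = k.val + (n - ℓ))
    · have : ¬ (k.val < ℓ ∧ j.val = k.val + (n - ℓ)) := by
        intro h'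
        apply hij
        apply Fin.ext
        omega
      simp [this]
    · simp [h]

theorem Pm_sub_one (F : Type*) [Field F] (n ℓ : ℕ) (h2 : 2 * ℓ ≤ n) :
    Pm F n ℓ - 1 = E F n ℓ + (E F n ℓ)ᵀ - D F n ℓ - D' F n ℓ := by
  ext i j
  have hi := i.2
  have hj := j.2
  simp only [Pm, E, D, D', Matrix.sub_apply, Matrix.add_apply, Matrix.of_apply,
    Matrix.transpose_apply, Matrix.one_apply, Matrix.diagonal_apply, Fin.ext_iff]
  split_ifs <;> first | omega | ring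

theorem D_mul_D (F : Type*) [Field F] (n ℓ : ℕ) : D F n ℓ * D F n ℓ = D F n ℓ := by
  unfold D
  rw [Matrix.diagonal_mul_diagonal]
  congr 1
  funext j
  split_ifs <;> simp

theorem D_mul_Et (F : Type*) [Field F] (n ℓ : ℕ) : D F n ℓ * (E F n ℓ)ᵀ = (E F n ℓ)ᵀ := by
  have h := congrArg Matrix.transpose (E_mul_D F n ℓ)
  rw [Matrix.transpose_mul] at h
  have hD : (D F n ℓ)ᵀ = D F n ℓ := by
    unfold D
    exact Matrix.diagonal_transpose _
  rw [hD] at h
  exact h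

theorem D_mul_E (F : Type*) [Field F] (n ℓ : ℕ) (h2 : 2 * ℓ ≤ n) : D F n ℓ * E F n ℓ = 0 := by
  ext i j
  simp only [D, Matrix.diagonal_mul, E, Matrix.of_apply, Matrix.zero_apply]
  by_cases h : i.val < ℓ
  · have : ¬ (j.val < ℓ ∧ i.val = j.val + (n - ℓ)) := by omega
    simp [this]
  · simp [h]

theorem Pm_sub_one_eq (F : Type*) [Field F] (n ℓ : ℕ) (h2 : 2 * ℓ ≤ n) :
    Pm F n ℓ - 1 = (E F n ℓ - D F n ℓ) * (D F n ℓ - (E F n ℓ)ᵀ) := by
  rw [Pm_sub_one F n ℓ h2, Matrix.sub_mul, Matrix.mul_sub, Matrix.mul_sub, E_mul_D, E_mul_Et F n ℓ h2,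
    D_mul_D, D_mul_Et]
  abel

theorem rank_Pm_sub_one (F : Type*) [Field F] (n ℓ : ℕ) (h2 : 2 * ℓ ≤ n) :
    (Pm F n ℓ - 1).rank = ℓ := by
  have hℓ : ℓ ≤ n := by omega
  apply le_antisymm
  · rw [Pm_sub_one_eq F n ℓ h2]
    have h1 : E F n ℓ - D F n ℓ = (E F n ℓ - D F n ℓ) * D F n ℓ := by
      rw [Matrix.sub_mul, E_mul_D, D_mul_D]
    calc ((E F n ℓ - D F n ℓ) * (D F n ℓ - (E F n ℓ)ᵀ)).rank
        ≤ (E F n ℓ - D F n ℓ).rank := Matrix.rank_mul_le_left _ _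
      _ = ((E F n ℓ - D F n ℓ) * D F n ℓ).rank := by rw [← h1]
      _ ≤ (D F n ℓ).rank := Matrix.rank_mul_le_right _ _
      _ = ℓ := rank_D F n ℓ hℓ
  · have hD : (D F n ℓ)ᵀ = D F n ℓ := by
      unfold D
      exact Matrix.diagonal_transpose _
    have h3 : (E F n ℓ)ᵀ * D F n ℓ = 0 := by
      have h := congrArg Matrix.transpose (D_mul_E F n ℓ h2)
      rw [Matrix.transpose_mul, Matrix.transpose_zero, hD] at h
      exact h
    have ha : D F n ℓ * (E F n ℓ - D F n ℓ) = - D F n ℓ := by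
      rw [Matrix.mul_sub, D_mul_E F n ℓ h2, D_mul_D, zero_sub]
    have hb : (D F n ℓ - (E F n ℓ)ᵀ) * D F n ℓ = D F n ℓ := by
      rw [Matrix.sub_mul, D_mul_D, h3, sub_zero]
    have h1 : D F n ℓ * (Pm F n ℓ - 1) * D F n ℓ = - D F n ℓ := by
      rw [Pm_sub_one_eq F n ℓ h2, ← Matrix.mul_assoc, ha, Matrix.mul_assoc, hb, Matrix.neg_mul,
        D_mul_D]
    have h4 : D F n ℓ = (- D F n ℓ) * (-1) := by
      rw [neg_mul_neg, mul_one]
    calc ℓ = (D F n ℓ).rank := (rank_D F n ℓ hℓ).symm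
      _ = ((- D F n ℓ) * (-1)).rank := by rw [← h4]
      _ ≤ (- D F n ℓ).rank := Matrix.rank_mul_le_left _ _
      _ = (D F n ℓ * (Pm F n ℓ - 1) * D F n ℓ).rank := by rw [h1]
      _ ≤ (D F n ℓ * (Pm F n ℓ - 1)).rank := Matrix.rank_mul_le_left _ _
      _ ≤ (Pm F n ℓ - 1).rank := Matrix.rank_mul_le_right _ _


/-- In SU_n(q), q even, n ≥ 3 (matrices of determinant 1 over the field with q² elements preserving Σ u_i v_i^q): for every ℓ with 1 ≤ ℓ and 2ℓ ≤ n, the permutation matrix of the involution of {0, …, n−1} exchanging i and n − ℓ + i for each i < ℓ lies in SU_n(q), has order 2, and differs from the identity by a matrix of rank ℓ. So every rank between 1 and n/2 occurs for involutions of SU_n(q). -/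
theorem result {F : Type*} [Field F] [Fintype F] [CharP F 2] {n q : ℕ} (hF : Fintype.card F = q ^ 2) (hn : 3 ≤ n) (ℓ : ℕ) (h1 : 1 ≤ ℓ) (h2 : 2 * ℓ ≤ n) :
    ∃ a : ↥(Cfsg.SU n F q), (((a : Matrix.SpecialLinearGroup (Fin n) F) : Matrix (Fin n) (Fin n) F) = Matrix.of (fun i j : Fin n => if (j.val < ℓ ∧ i.val = j.val + (n - ℓ)) ∨ (i.val < ℓ ∧ j.val = i.val + (n - ℓ)) ∨ (i = j ∧ ℓ ≤ i.val ∧ i.val < n - ℓ) then (1 : F) else 0)) ∧ orderOf a = 2 ∧ ((((a : Matrix.SpecialLinearGroup (Fin n) F) : Matrix (Fin n) (Fin n) F)) - 1).rank = ℓ := by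
  have h4 : (2 : F) = 0 := CharTwo.two_eq_zero
  have hsq := Pm_mul_self F n ℓ h2
  have hdet : (Pm F n ℓ).det = 1 := by
    have h := congrArg Matrix.det hsq
    rw [Matrix.det_mul, Matrix.det_one] at h
    have h3 : ((Pm F n ℓ).det - 1) * ((Pm F n ℓ).det - 1) = 0 := by
      linear_combination h - (Pm F n ℓ).det * h4 + h4
    exact sub_eq_zero.1 (mul_self_eq_zero.1 h3)
  let a₀ : SpecialLinearGroup (Fin n) F := ⟨Pm F n ℓ, hdet⟩
  have ha₀ : (a₀ : Matrix (Fin n) (Fin n) F) = Pm F n ℓ := rfl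
  have hmem : a₀ ∈ Cfsg.SU n F q := by
    intro u v
    show Cfsg.hermForm n F q ((Pm F n ℓ).mulVec u) ((Pm F n ℓ).mulVec v) = Cfsg.hermForm n F q u v
    unfold Cfsg.hermForm
    simp only [Pm_mulVec F n ℓ h2]
    exact Equiv.sum_comp (Function.Involutive.toPerm (sw n ℓ h2) (sw_sw n ℓ h2))
      (fun i => u i * v i ^ q)
  refine ⟨⟨a₀, hmem⟩, rfl, ?_, ?_⟩
  · apply orderOf_eq_prime
    · rw [pow_two]
      apply Subtype.ext
      apply Subtype.ext
      exact hsq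
    · intro h
      have h3 := congrArg (fun a : ↥(Cfsg.SU n F q) =>
        ((a : SpecialLinearGroup (Fin n) F) : Matrix (Fin n) (Fin n) F) ⟨0, by omega⟩ ⟨0, by omega⟩) h
      simp only [ha₀] at h3
      rw [Pm_apply F n ℓ h2] at h3
      have hne : (⟨0, by omega⟩ : Fin n) ≠ sw n ℓ h2 ⟨0, by omega⟩ := by
        intro e
        have := congrArg Fin.val e
        rw [sw_val] at this
        simp at this
        omega
      rw [if_neg hne] at h3
      simp at h3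
  · exact rank_Pm_sub_one F n ℓ h2

end Cfsg.Agent.S2165
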