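import Cfsg.Statements.S2167
import Cfsg.Agent.Lib.Helper1.SpPoint
import Cfsg.Agent.Lib.Helper5.Char2
import Cfsg.Agent.Lib.Helper5.AltForm

set_option autoImplicit false
open Cfsg

namespace Cfsg.Agent.S2167


open Matrix Module Cfsg.Agent.Lib.Helper1.SpBasic Cfsg.Agent.Lib.Helper2.Symp
  Cfsg.Agent.Lib.Helper1.SpPoint Cfsg.Agent.Lib.Helper5.Char2 Cfsg.Agent.Lib.Helper5.AltForm

variable {F : Type*} [Field F] {m : ℕ}

/-- The function `v ↦ f(v, a v)`. -/
def phi (a : Matrix.symplecticGroup (Fin m) F) (v : Fin m ⊕ Fin m → F) : F :=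
  Cfsg.sympForm m F v ((a : Matrix (Fin m ⊕ Fin m) (Fin m ⊕ Fin m) F) *ᵥ v)

theorem sq_mulVec (a : Matrix.symplecticGroup (Fin m) F) (ha : a * a = 1) (v : Fin m ⊕ Fin m → F) :
    (a : Matrix (Fin m ⊕ Fin m) (Fin m ⊕ Fin m) F) *ᵥ
      ((a : Matrix (Fin m ⊕ Fin m) (Fin m ⊕ Fin m) F) *ᵥ v) = v := by
  rw [← coe_mul_mulVec, ha, coe_one_mulVec]

theorem cross [CharP F 2] (a : Matrix.symplecticGroup (Fin m) F) (ha : a * a = 1)
    (v w : Fin m ⊕ Fin m → F) :
    Cfsg.sympForm m F w ((a : Matrix (Fin m ⊕ Fin m) (Fin m ⊕ Fin m) F) *ᵥ v) =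
      Cfsg.sympForm m F v ((a : Matrix (Fin m ⊕ Fin m) (Fin m ⊕ Fin m) F) *ᵥ w) := by
  rw [← form_mulVec a w, sq_mulVec a ha, sympForm_swap, Cfsg.Agent.Lib.Helper5.Char2.neg_eq_self]

theorem phi_add [CharP F 2] (a : Matrix.symplecticGroup (Fin m) F) (ha : a * a = 1)
    (v w : Fin m ⊕ Fin m → F) : phi a (v + w) = phi a v + phi a w := by
  unfold phi
  rw [Matrix.mulVec_add, sympForm_add_left, sympForm_add_right, sympForm_add_right,
    cross a ha v w]
  have := add_self (Cfsg.sympForm m F v ((a : Matrix (Fin m ⊕ Fin m) (Fin m ⊕ Fin m) F) *ᵥ w))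
  linear_combination this

theorem phi_smul (a : Matrix.symplecticGroup (Fin m) F) (c : F) (v : Fin m ⊕ Fin m → F) :
    phi a (c • v) = c * c * phi a v := by
  unfold phi
  rw [Matrix.mulVec_smul, sympForm_smul_left, sympForm_smul_right]
  ring

/-- The linear functional `v ↦ sqrt (f(v, a v))`. -/
noncomputable def psi [CharP F 2] [Finite F] (a : Matrix.symplecticGroup (Fin m) F)
    (ha : a * a = 1) : (Fin m ⊕ Fin m → F) →ₗ[F] F where
  toFun v := sqrtF (phi a v)
  map_add' v w := by rw [phi_add a ha, sqrtF_add]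
  map_smul' c v := by rw [phi_smul, sqrtF_sq_mul, RingHom.id_apply, smul_eq_mul]

theorem psi_eq_zero_iff [CharP F 2] [Finite F] (a : Matrix.symplecticGroup (Fin m) F)
    (ha : a * a = 1) (v : Fin m ⊕ Fin m → F) : psi a ha v = 0 ↔ phi a v = 0 :=
  sqrtF_eq_zero_iff _

/-- The bilinear form `(u, v) ↦ f(u, (a - 1) v)`. -/
def formN (a : Matrix.symplecticGroup (Fin m) F) : LinearMap.BilinForm F (Fin m ⊕ Fin m → F) :=
  LinearMap.mk₂ F (fun u v => Cfsg.sympForm m F u
      (((a : Matrix (Fin m ⊕ Fin m) (Fin m ⊕ Fin m) F) - 1) *ᵥ v))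
    (fun u u' v => sympForm_add_left u u' _)
    (fun c u v => by rw [sympForm_smul_left, smul_eq_mul])
    (fun u v v' => by rw [Matrix.mulVec_add, sympForm_add_right])
    (fun c u v => by rw [Matrix.mulVec_smul, sympForm_smul_right, smul_eq_mul])

theorem formN_apply (a : Matrix.symplecticGroup (Fin m) F) (u v : Fin m ⊕ Fin m → F) :
    formN a u v = Cfsg.sympForm m F u
      (((a : Matrix (Fin m ⊕ Fin m) (Fin m ⊕ Fin m) F) - 1) *ᵥ v) := rfl

theorem formN_isAlt (a : Matrix.symplecticGroup (Fin m) F) (h : ∀ v, phi a v = 0) :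
    (formN a).IsAlt := by
  intro v
  rw [formN_apply, Matrix.sub_mulVec, Matrix.one_mulVec, sympForm_sub_right, sympForm_self,
    sub_zero]
  exact h v

theorem ker_formN (a : Matrix.symplecticGroup (Fin m) F) (h : ∀ v, phi a v = 0) :
    LinearMap.ker (formN a) =
      LinearMap.ker ((a : Matrix (Fin m ⊕ Fin m) (Fin m ⊕ Fin m) F) - 1).mulVecLin := by
  ext u
  rw [LinearMap.mem_ker, LinearMap.mem_ker, Matrix.mulVecLin_apply]
  constructor
  · intro hu
    apply eq_zero_of_forall_form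
    intro w
    have h1 : formN a w u = -formN a u w := alt_swap (formN_isAlt a h) w u
    rw [hu, LinearMap.zero_apply, neg_zero] at h1
    exact h1
  · intro hu
    apply LinearMap.ext
    intro w
    rw [alt_swap (formN_isAlt a h), formN_apply, hu, LinearMap.zero_apply]
    unfold Cfsg.sympForm
    simp


/-- For an involution t of the symplectic group Sp_{2m}(F), m ≥ 2, F a finite field of characteristic two (matrices A with A J Aᵀ = J acting on column vectors, alternating form f(u, v) = u ⬝ (J v)): the set V(t) of vectors v with f(v, t v) = 0 has either q^{2m} or q^{2m−1} elements, q the order of F (it is a subspace of codimension at most 1), and if it is the whole space then t − 1 has even rank. -/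
theorem result {F : Type*} [Field F] [Fintype F] [CharP F 2] {m : ℕ} (hm : 2 ≤ m) (a : ↥(Matrix.symplecticGroup (Fin m) F)) (ha : orderOf a = 2) :
    (Nat.card {v : Fin m ⊕ Fin m → F // Cfsg.sympForm m F v (Matrix.mulVec ((a : ↥(Matrix.symplecticGroup (Fin m) F)) : Matrix (Fin m ⊕ Fin m) (Fin m ⊕ Fin m) F) v) = 0} = Fintype.card F ^ (2 * m) ∨ Nat.card {v : Fin m ⊕ Fin m → F // Cfsg.sympForm m F v (Matrix.mulVec ((a : ↥(Matrix.symplecticGroup (Fin m) F)) : Matrix (Fin m ⊕ Fin m) (Fin m ⊕ Fin m) F) v) = 0} * Fintype.card F = Fintype.card F ^ (2 * m)) ∧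
    ((∀ v : Fin m ⊕ Fin m → F, Cfsg.sympForm m F v (Matrix.mulVec ((a : ↥(Matrix.symplecticGroup (Fin m) F)) : Matrix (Fin m ⊕ Fin m) (Fin m ⊕ Fin m) F) v) = 0) → Even (((a : ↥(Matrix.symplecticGroup (Fin m) F)) : Matrix (Fin m ⊕ Fin m) (Fin m ⊕ Fin m) F) - 1).rank) := by
  classical
  have haa : a * a = 1 := by
    have := pow_orderOf_eq_one a
    rw [ha, pow_two] at this
    exact this
  constructor
  · have hset : ∀ v : Fin m ⊕ Fin m → F,
        Cfsg.sympForm m F v (Matrix.mulVec ((a : ↥(Matrix.symplecticGroup (Fin m) F)) :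
          Matrix (Fin m ⊕ Fin m) (Fin m ⊕ Fin m) F) v) = 0 ↔ v ∈ LinearMap.ker (psi a haa) := by
      intro v
      rw [LinearMap.mem_ker, psi_eq_zero_iff]
      rfl
    have hcard : Nat.card {v : Fin m ⊕ Fin m → F // Cfsg.sympForm m F v
        (Matrix.mulVec ((a : ↥(Matrix.symplecticGroup (Fin m) F)) :
          Matrix (Fin m ⊕ Fin m) (Fin m ⊕ Fin m) F) v) = 0}
        = Nat.card (LinearMap.ker (psi a haa)) :=
      Nat.card_congr (Equiv.subtypeEquivRight hset)
    rw [hcard]
    have htot : Nat.card (Fin m ⊕ Fin m → F) = Fintype.card F ^ (2 * m) := by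
      rw [Nat.card_eq_fintype_card, Fintype.card_fun, Fintype.card_sum, Fintype.card_fin, two_mul]
    by_cases hψ : psi a haa = 0
    · left
      rw [hψ, LinearMap.ker_zero, ← htot]
      exact Nat.card_congr (Equiv.Set.univ _)
    · right
      have hsurj : Function.Surjective (psi a haa) := by
        have : ∃ v, psi a haa v ≠ 0 := by
          by_contra hcon
          push Not at hcon
          exact hψ (LinearMap.ext hcon)
        obtain ⟨v, hv⟩ := this
        intro c
        refine ⟨(c / psi a haa v) • v, ?_⟩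
        rw [map_smul, smul_eq_mul, div_mul_cancel₀ _ hv]
      have h1 := Submodule.card_eq_card_quotient_mul_card (LinearMap.ker (psi a haa))
      rw [htot, Nat.card_congr ((psi a haa).quotKerEquivOfSurjective hsurj).toEquiv,
        Nat.card_eq_fintype_card (α := F)] at h1
      rw [h1, mul_comm]
  · intro h
    have hphi : ∀ v, phi a v = 0 := h
    have h1 := even_finrank_sub_ker (formN_isAlt a hphi)
    rw [ker_formN a hphi] at h1
    have h2 := LinearMap.finrank_range_add_finrank_ker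
      ((a : Matrix (Fin m ⊕ Fin m) (Fin m ⊕ Fin m) F) - 1).mulVecLin
    have h3 : (((a : ↥(Matrix.symplecticGroup (Fin m) F)) :
        Matrix (Fin m ⊕ Fin m) (Fin m ⊕ Fin m) F) - 1).rank
        = finrank F (Fin m ⊕ Fin m → F) - finrank F (LinearMap.ker
          ((a : Matrix (Fin m ⊕ Fin m) (Fin m ⊕ Fin m) F) - 1).mulVecLin) := by
      unfold Matrix.rank
      omega
    rw [h3]
    exact h1

end Cfsg.Agent.S2167
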