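import Cfsg.Statements.S2172
import Cfsg.Agent.Lib.Helper5.InvSplit

set_option autoImplicit false
open Cfsg

namespace Cfsg.Agent.S2172


open Cfsg.Agent.Lib.Helper2 Cfsg.Agent.Lib.Helper2.CDG Cfsg.Agent.Lib.Helper2.Dickson
open Cfsg.Agent.Lib.Helper5.OmegaCrit Cfsg.Agent.Lib.Helper5.MaxTS Cfsg.Agent.Lib.Helper5.OmegaAdjust
open Cfsg.Agent.Lib.Helper5.InvSplit
open Cfsg.Agent.Lib.Helper5.QuadGlue Cfsg.Agent.Lib.Helper2.QuadStd Module



/-- Splitting of involution classes from O to Ω for the hyperbolic quadratic form Q = Σ x_i y_i in dimension 2m over a finite field F of characteristic two, m ≥ 4. Let t, s be involutions of the commutator subgroup Ω that are conjugate in the full isometry group O. If it is not the case that t − 1 has rank m and Q(v + t v) = 0 for every vector v, then t and s are conjugate by an element of Ω. If t − 1 has rank m and Q(v + t v) = 0 for all v, then t and s are conjugate by an element of Ω exactly when the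 intersection of the images of t − 1 and s − 1 has even dimension (so the class of t in O meets at most two classes of Ω). -/
theorem result {F : Type*} [Field F] [Fintype F] [CharP F 2] {m : ℕ} (hm : 4 ≤ m) (t s : ↥(Cfsg.isometryGroup F (Cfsg.quadFormPlus m F))) (ht : orderOf t = 2) (hs : orderOf s = 2) (htO : t ∈ Cfsg.Omega F (Cfsg.quadFormPlus m F)) (hsO : s ∈ Cfsg.Omega F (Cfsg.quadFormPlus m F)) (hconj : IsConj t s) :
    (¬ (((((t : ↥(Cfsg.isometryGroup F (Cfsg.quadFormPlus m F))) : GL (Fin m ⊕ Fin m) F) : Matrix (Fin m ⊕ Fin m) (Fin m ⊕ Fin m) F) - 1).rank = m ∧ ∀ v : Fin m ⊕ Fin m → F, Cfsg.quadFormPlus m F (v + Matrix.mulVec (((t : ↥(Cfsg.isometryGroup F (Cfsg.quadFormPlus m F))) : GL (Fin m ⊕ Fin m) F) : Matrix (Fin m ⊕ Fin m) (Fin m ⊕ Fin m) F) v) = 0) →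
      ∃ g ∈ Cfsg.Omega F (Cfsg.quadFormPlus m F), g * t * g⁻¹ = s) ∧
    ((((((t : ↥(Cfsg.isometryGroup F (Cfsg.quadFormPlus m F))) : GL (Fin m ⊕ Fin m) F) : Matrix (Fin m ⊕ Fin m) (Fin m ⊕ Fin m) F) - 1).rank = m ∧ ∀ v : Fin m ⊕ Fin m → F, Cfsg.quadFormPlus m F (v + Matrix.mulVec (((t : ↥(Cfsg.isometryGroup F (Cfsg.quadFormPlus m F))) : GL (Fin m ⊕ Fin m) F) : Matrix (Fin m ⊕ Fin m) (Fin m ⊕ Fin m) F) v) = 0) →
      ((∃ g ∈ Cfsg.Omega F (Cfsg.quadFormPlus m F), g * t * g⁻¹ = s) ↔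
        Even (Module.finrank F ↥(LinearMap.range (Matrix.toLin' ((((t : ↥(Cfsg.isometryGroup F (Cfsg.quadFormPlus m F))) : GL (Fin m ⊕ Fin m) F) : Matrix (Fin m ⊕ Fin m) (Fin m ⊕ Fin m) F) - 1)) ⊓ LinearMap.range (Matrix.toLin' ((((s : ↥(Cfsg.isometryGroup F (Cfsg.quadFormPlus m F))) : GL (Fin m ⊕ Fin m) F) : Matrix (Fin m ⊕ Fin m) (Fin m ⊕ Fin m) F) - 1)))))) := by
  have h2 : (2 : F) = 0 := CharTwo.two_eq_zero
  have hex : Fintype.card F ≠ 2 ∨ Fintype.card (Fin m ⊕ Fin m) ≠ 4 := by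
    rw [Fintype.card_sum, Fintype.card_fin]
    right; omega
  have hn : 2 ≤ Fintype.card (Fin m ⊕ Fin m) := by
    rw [Fintype.card_sum, Fintype.card_fin]; omega
  have hcard : Fintype.card (Fin m ⊕ Fin m) = 2 * m := by
    rw [Fintype.card_sum, Fintype.card_fin]; ring
  have key : ∀ (t s : ↥(Cfsg.isometryGroup F ⇑(QP m F))), orderOf t = 2 →
      t ∈ commutator ↥(Cfsg.isometryGroup F ⇑(QP m F)) → IsConj t s →
      (¬ ((((t : GL (Fin m ⊕ Fin m) F) : Matrix (Fin m ⊕ Fin m) (Fin m ⊕ Fin m) F) - 1).rank = m ∧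
          ∀ v : Fin m ⊕ Fin m → F, QP m F (v + Matrix.mulVec ((t : GL (Fin m ⊕ Fin m) F) : Matrix (Fin m ⊕ Fin m) (Fin m ⊕ Fin m) F) v) = 0) →
        ∃ g ∈ commutator ↥(Cfsg.isometryGroup F ⇑(QP m F)), g * t * g⁻¹ = s) ∧
      (((((t : GL (Fin m ⊕ Fin m) F) : Matrix (Fin m ⊕ Fin m) (Fin m ⊕ Fin m) F) - 1).rank = m ∧
          ∀ v : Fin m ⊕ Fin m → F, QP m F (v + Matrix.mulVec ((t : GL (Fin m ⊕ Fin m) F) : Matrix (Fin m ⊕ Fin m) (Fin m ⊕ Fin m) F) v) = 0) →
        ((∃ g ∈ commutator ↥(Cfsg.isometryGroup F ⇑(QP m F)), g * t * g⁻¹ = s) ↔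
          Even (Module.finrank F ↥(LinearMap.range (Matrix.toLin' (((t : GL (Fin m ⊕ Fin m) F) : Matrix (Fin m ⊕ Fin m) (Fin m ⊕ Fin m) F) - 1)) ⊓
            LinearMap.range (Matrix.toLin' (((s : GL (Fin m ⊕ Fin m) F) : Matrix (Fin m ⊕ Fin m) (Fin m ⊕ Fin m) F) - 1)))))) := by
    intro t s ht htO hconj
    have htt : t * t = 1 := by rw [← pow_two, ← ht, pow_orderOf_eq_one]
    obtain ⟨g, hg⟩ := isConj_iff.1 hconj
    constructor
    · intro hnot
      rcases fix_dichotomy h2 (QP_nondeg m) t htt with ⟨w, hw, hQw⟩ | ⟨hlag, hrange⟩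
      · exact conj_adjust h2 (QP_nondeg m) hex hn t s g hg w hQw hw
      · exfalso
        apply hnot
        constructor
        · have h1 := hlag.dim
          have h3 := finrank_Fix_add_rank t
          omega
        · intro v
          rw [add_eq_sub h2 t v]
          apply hlag.ts
          rw [← hrange]
          exact ⟨v, rfl⟩
    · rintro ⟨hrank, hQ0⟩
      set Et : Submodule F (Fin m ⊕ Fin m → F) := LinearMap.range (Matrix.mulVecLin
        (((t : GL (Fin m ⊕ Fin m) F) : Matrix (Fin m ⊕ Fin m) (Fin m ⊕ Fin m) F) - 1)) with hEt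
      set Es : Submodule F (Fin m ⊕ Fin m → F) := LinearMap.range (Matrix.mulVecLin
        (((s : GL (Fin m ⊕ Fin m) F) : Matrix (Fin m ⊕ Fin m) (Fin m ⊕ Fin m) F) - 1)) with hEs
      have hfr : finrank F ↥Et = m := hrank
      have hlag : IsLag (QP m F) Et := by
        refine ⟨?_, by rw [hfr, hcard]⟩
        rintro y ⟨v, rfl⟩
        rw [Matrix.mulVecLin_apply, ← add_eq_sub h2 t v]
        exact hQ0 v
      have hmeven : Even m := by
        rw [← hrank]
        exact (mem_commutator_iff_rank₂ h2 (QP_nondeg m) hex hn t).1 htO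
      show _ ↔ Even (finrank F ↥(Et ⊓ Es))
      have hdle : finrank F ↥(Et ⊓ Es) ≤ m :=
        le_trans (Submodule.finrank_mono inf_le_left) (le_of_eq hfr)
      constructor
      · rintro ⟨g', hg', hg't⟩
        have h1 := (mem_commutator_iff_lag h2 (QP_nondeg m) hex hn hlag g').1 hg'
        rw [act_range t s g' hg't, hfr] at h1
        rw [Nat.even_sub hdle] at h1
        exact h1.1 hmeven
      · intro hd
        refine ⟨g, ?_, hg⟩
        rw [mem_commutator_iff_lag h2 (QP_nondeg m) hex hn hlag g, act_range t s g hg, hfr,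
          Nat.even_sub hdle]
        exact ⟨fun _ => hd, fun _ => hmeven⟩
  rw [QP_coe] at key
  exact key t s ht htO hconj


end Cfsg.Agent.S2172
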