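import Cfsg.Statements.S2173
import Cfsg.Agent.Lib.Helper5.InvSplit
import Cfsg.Agent.Lib.Helper5.WittIndex
import Cfsg.Agent.Lib.Helper2.OrthCard1

set_option autoImplicit false
open Cfsg

namespace Cfsg.Agent.S2173


open Cfsg.Agent.Lib.Helper2 Cfsg.Agent.Lib.Helper2.CDG Cfsg.Agent.Lib.Helper2.Dickson
open Cfsg.Agent.Lib.Helper5.OmegaCrit Cfsg.Agent.Lib.Helper5.MaxTS Cfsg.Agent.Lib.Helper5.OmegaAdjust
open Cfsg.Agent.Lib.Helper5.InvSplit Cfsg.Agent.Lib.Helper5
open Cfsg.Agent.Lib.Helper2.OrthCard Module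

section
variable {F : Type*} [Field F]

/-- A totally singular subspace for a minus-type form in dimension `2k+2` has dimension at most `k`. -/
theorem finrank_le_of_ts_minus {k : ℕ} (a b : F)
    (hab : ∀ z₁ z₂ : F, z₁ ^ 2 + a * z₁ * z₂ + b * z₂ ^ 2 = 0 → z₁ = 0 ∧ z₂ = 0)
    (U : Submodule F ((Fin k ⊕ Fin k) ⊕ Fin 2 → F))
    (hU : ∀ u ∈ U, Cfsg.quadFormMinus k F a b u = 0) : finrank F U ≤ k := by
  have hz : ∀ u ∈ U, minusY k F u = 0 → u (Sum.inr 0) = 0 ∧ u (Sum.inr 1) = 0 := by
    intro u hu hy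
    have h1 := hU u hu
    have h2 : ∑ i : Fin k, u (Sum.inl (Sum.inl i)) * u (Sum.inl (Sum.inr i)) = 0 := by
      apply Finset.sum_eq_zero
      intro i _
      have := congrFun hy i
      rw [minusY_apply] at this
      rw [this]; simp
    rw [Cfsg.quadFormMinus, h2, zero_add] at h1
    exact hab _ _ h1
  apply finrank_le_of_isotropic_projections (minusX k F) (minusY k F) U
  · intro u hu hy hx
    obtain ⟨h0, h1⟩ := hz u hu hy
    funext i
    rcases i with (i | i) | i
    · exact congrFun hx i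
    · exact congrFun hy i
    · fin_cases i
      · exact h0
      · exact h1
  · intro u hu u' hu' hy'
    obtain ⟨h0, h1⟩ := hz u' hu' hy'
    have e1 := hU _ (U.add_mem hu hu')
    have e2 := hU _ hu
    have e3 : ∀ i, u' (Sum.inl (Sum.inr i)) = 0 := fun i => congrFun hy' i
    simp only [Cfsg.quadFormMinus, Pi.add_apply, h0, h1, e3, add_zero] at e1 e2
    have e4 : ∑ i : Fin k, (u (Sum.inl (Sum.inl i)) + u' (Sum.inl (Sum.inl i))) * u (Sum.inl (Sum.inr i))
        = ∑ i : Fin k, u (Sum.inl (Sum.inl i)) * u (Sum.inl (Sum.inr i))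
          + minusX k F u' ⬝ᵥ minusY k F u := by
      simp only [dotProduct, minusX_apply, minusY_apply, ← Finset.sum_add_distrib]
      apply Finset.sum_congr rfl
      intro i _
      ring
    rw [e4] at e1
    have : minusX k F u' ⬝ᵥ minusY k F u = 0 := by
      have := e1
      rw [add_right_comm, e2, zero_add] at this
      exact this
    exact this

end



/-- For the quadratic form Σ x_i y_i + (z₁² + c z₁ z₂ + d z₂²) in dimension 2m with anisotropic binary part over a finite field F of characteristic two, m ≥ 4 (minus type): two involutions of the commutator subgroup Ω that are conjugate in the full isometry group O are conjugate by an element of Ω (no class of involutions of O inside Ω splits). -/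
theorem result {F : Type*} [Field F] [Fintype F] [CharP F 2] {m : ℕ} (hm : 4 ≤ m) (c d : F) (hcd : ∀ z₁ z₂ : F, z₁ ^ 2 + c * z₁ * z₂ + d * z₂ ^ 2 = 0 → z₁ = 0 ∧ z₂ = 0) (t s : ↥(Cfsg.isometryGroup F (Cfsg.quadFormMinus (m - 1) F c d))) (ht : orderOf t = 2) (hs : orderOf s = 2) (htO : t ∈ Cfsg.Omega F (Cfsg.quadFormMinus (m - 1) F c d)) (hsO : s ∈ Cfsg.Omega F (Cfsg.quadFormMinus (m - 1) F c d)) (hconj : IsConj t s) :
    ∃ g ∈ Cfsg.Omega F (Cfsg.quadFormMinus (m - 1) F c d), g * t * g⁻¹ = s := by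
  have h2 : (2 : F) = 0 := CharTwo.two_eq_zero
  have hcard : Fintype.card ((Fin (m - 1) ⊕ Fin (m - 1)) ⊕ Fin 2) = 2 * (m - 1) + 2 := by
    rw [Fintype.card_sum, Fintype.card_sum, Fintype.card_fin, Fintype.card_fin]; ring
  have hex : Fintype.card F ≠ 2 ∨ Fintype.card ((Fin (m - 1) ⊕ Fin (m - 1)) ⊕ Fin 2) ≠ 4 := by
    rw [hcard]
    right; omega
  have hn : 2 ≤ Fintype.card ((Fin (m - 1) ⊕ Fin (m - 1)) ⊕ Fin 2) := by
    rw [hcard]; omega
  have hnd := QMn_nondeg (m - 1) c d hcd
  have key : ∀ (t s : ↥(Cfsg.isometryGroup F ⇑(QMn (m - 1) c d))), orderOf t = 2 → IsConj t s →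
      ∃ g ∈ commutator ↥(Cfsg.isometryGroup F ⇑(QMn (m - 1) c d)), g * t * g⁻¹ = s := by
    intro t s ht hconj
    have htt : t * t = 1 := by
      have h := pow_orderOf_eq_one t
      rw [ht, pow_two] at h
      exact h
    obtain ⟨g, hg⟩ := isConj_iff.1 hconj
    rcases fix_dichotomy h2 hnd t htt with ⟨w, hw, hQw⟩ | ⟨hlag, -⟩
    · exact conj_adjust h2 hnd hex hn t s g hg w hQw hw
    · exfalso
      have h1 := finrank_le_of_ts_minus c d hcd (Fix t) (by
        intro u hu
        have := hlag.ts u hu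
        rw [QMn_coe] at this
        exact this)
      have h3 := hlag.dim
      rw [hcard] at h3
      omega
  rw [QMn_coe] at key
  exact key t s ht hconj


end Cfsg.Agent.S2173
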