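import Mathlib
-- Template for statement S2178 (row 2178; see /opt/grader/pristine/manifest.json for weights).
-- Copy to Cfsg/Agent/S2178.lean and replace the sorry. The statement below is byte-identical to the frozen
-- statement Cfsg.CfsgFrozen.S2178 (Cfsg/Statements/S2178.lean; the theorem Cfsg.lie2_f4_char_two_root_involution_centralizers);
-- the grader kernel-checks Cfsg.Agent.S2178.result against that frozen type. Keep the theorem IN THIS FILE
-- (a `result` declared elsewhere and merely imported here is not credited); helpers may live anywhere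
-- under Cfsg/Agent/.
import Cfsg.Statements.S2178
import Cfsg.Agent.Lib.Helper3.ChevData.F4UHyp
import Cfsg.Agent.Lib.Helper3.ChevData.F4Bn
import Cfsg.Agent.Lib.Helper3.ChevData.F4NegTri
import Cfsg.Agent.Lib.Helper3.HiRoot5

set_option autoImplicit false
open Cfsg
open Cfsg.Agent.Lib.Helper3.ChevM

namespace Cfsg.Agent.S2178

/-- Centralizers of the long and the short root involutions in the Chevalley group G of type F₄ over a finite field F of characteristic two (this problem's root numbering for type F₄, from the Chevalley data module: fundamental roots p₁, p₂ short, p₃, p₄ long, with indices 33, 27, 25, 24, their negatives 14, 20, 22, 23; highest root 47, highest short root 44; U the subgroup generated by the positive root subgroups). For an element t of G with matrix x_47(1): the centralizer of t in G is the subgroup generated by U and the root subgroups X_{−p₁}, X_{−p₂}, X_{−p₃} (the unipotent radical of the maximal parabolic subgroup whose Levi factor has fundamental roots p₁, p₂, p₃, together with that Levi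 factor's root subgroups; the Levi factor is of type C₃). For an element u of G with matrix x_44(1): the centralizer of u in G is generated by U and X_{−p₂}, X_{−p₃}, X_{−p₄} (the same construction for the Levi factor with fundamental roots p₂, p₃, p₄, of type B₃). -/
theorem result {F : Type*} [Field F] [Fintype F] [CharP F 2] (t u : GL Cfsg.Lie.chevF4.Idx F) (ht : (t : Matrix Cfsg.Lie.chevF4.Idx Cfsg.Lie.chevF4.Idx F) = Cfsg.Lie.chevF4.x F 47 1) (hu : (u : Matrix Cfsg.Lie.chevF4.Idx Cfsg.Lie.chevF4.Idx F) = Cfsg.Lie.chevF4.x F 44 1) :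
    Cfsg.Lie.chevF4.group F ⊓ Subgroup.centralizer {t} = Cfsg.Lie.chevF4.posUnipotent F ⊔ Cfsg.Lie.chevF4.rootSubgroup F 14 ⊔ Cfsg.Lie.chevF4.rootSubgroup F 20 ⊔ Cfsg.Lie.chevF4.rootSubgroup F 22 ∧
    Cfsg.Lie.chevF4.group F ⊓ Subgroup.centralizer {u} = Cfsg.Lie.chevF4.posUnipotent F ⊔ Cfsg.Lie.chevF4.rootSubgroup F 20 ⊔ Cfsg.Lie.chevF4.rootSubgroup F 22 ⊔ Cfsg.Lie.chevF4.rootSubgroup F 23 := by
  refine ⟨?_, ?_⟩
  · have ht' : t = relF4.xU 47 (1 : F) := Units.ext ht
    have key := uhypF4.root_centralizer (F := F) bnF4 2 f4NegTri (by decide +kernel)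
      47 (by decide +kernel) (by decide +kernel) (by decide +kernel)
      (fun i => decide (i ≠ 3)) (by decide +kernel) (by decide +kernel) 3 (by decide +kernel) (by decide +kernel)
      (by decide +kernel)
    have key' : Cfsg.Lie.chevF4.group F ⊓ Subgroup.centralizer {relF4.xU 47 (1 : F)} =
        rootCentK Cfsg.Lie.chevF4 F (fun i => decide (i ≠ 3)) := key
    clear key
    have h1 : ∀ i < Cfsg.Lie.chevF4.rank, decide (i ≠ 3) = true →
        Cfsg.Lie.chevF4.neg (Cfsg.Lie.chevF4.simple i) ∈ [14, 20, 22] := by decide +kernel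
    have h2 : ∀ s ∈ [14, 20, 22], ∃ i < Cfsg.Lie.chevF4.rank, decide (i ≠ 3) = true ∧
        s = Cfsg.Lie.chevF4.neg (Cfsg.Lie.chevF4.simple i) := by decide +kernel
    rw [ht']
    refine key'.trans ?_
    unfold rootCentK
    rw [sup_assoc, sup_assoc]
    congr 1
    apply le_antisymm
    · rw [Subgroup.closure_le]
      rintro g ⟨i, hi, hJi, c, hg⟩
      have hm := h1 i hi hJi
      simp only [List.mem_cons, List.not_mem_nil, or_false] at hm
      have hgm : g ∈ Cfsg.Lie.chevF4.rootSubgroup F (Cfsg.Lie.chevF4.neg (Cfsg.Lie.chevF4.simple i)) :=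
        Subgroup.subset_closure ⟨c, hg⟩
      rcases hm with hm | hm | hm <;> rw [hm] at hgm
      · exact Subgroup.mem_sup_left hgm
      · exact Subgroup.mem_sup_right (Subgroup.mem_sup_left hgm)
      · exact Subgroup.mem_sup_right (Subgroup.mem_sup_right hgm)
    · have hX : ∀ s ∈ [14, 20, 22], Cfsg.Lie.chevF4.rootSubgroup F s ≤
          Subgroup.closure {g : GL Cfsg.Lie.chevF4.Idx F | ∃ i < Cfsg.Lie.chevF4.rank, decide (i ≠ 3) = true ∧
            ∃ c : F, (g : Matrix Cfsg.Lie.chevF4.Idx Cfsg.Lie.chevF4.Idx F) =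
              Cfsg.Lie.chevF4.x F (Cfsg.Lie.chevF4.neg (Cfsg.Lie.chevF4.simple i)) c} := by
        intro s hs
        obtain ⟨i, hi, hJi, hsi⟩ := h2 s hs
        unfold Cfsg.Lie.ChevalleyDatum.rootSubgroup
        apply Subgroup.closure_mono
        rintro g ⟨c, hg⟩
        rw [hsi] at hg
        exact ⟨i, hi, hJi, c, hg⟩
      exact sup_le (hX 14 (by simp)) (sup_le (hX 20 (by simp)) (hX 22 (by simp)))
  · have ht' : u = relF4.xU 44 (1 : F) := Units.ext hu
    have key := uhypF4.root_centralizer (F := F) bnF4 2 f4NegTri (by decide +kernel)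
      44 (by decide +kernel) (by decide +kernel) (by decide +kernel)
      (fun i => decide (i ≠ 0)) (by decide +kernel) (by decide +kernel) 0 (by decide +kernel) (by decide +kernel)
      (by decide +kernel)
    have key' : Cfsg.Lie.chevF4.group F ⊓ Subgroup.centralizer {relF4.xU 44 (1 : F)} =
        rootCentK Cfsg.Lie.chevF4 F (fun i => decide (i ≠ 0)) := key
    clear key
    have h1 : ∀ i < Cfsg.Lie.chevF4.rank, decide (i ≠ 0) = true →
        Cfsg.Lie.chevF4.neg (Cfsg.Lie.chevF4.simple i) ∈ [20, 22, 23] := by decide +kernel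
    have h2 : ∀ s ∈ [20, 22, 23], ∃ i < Cfsg.Lie.chevF4.rank, decide (i ≠ 0) = true ∧
        s = Cfsg.Lie.chevF4.neg (Cfsg.Lie.chevF4.simple i) := by decide +kernel
    rw [ht']
    refine key'.trans ?_
    unfold rootCentK
    rw [sup_assoc, sup_assoc]
    congr 1
    apply le_antisymm
    · rw [Subgroup.closure_le]
      rintro g ⟨i, hi, hJi, c, hg⟩
      have hm := h1 i hi hJi
      simp only [List.mem_cons, List.not_mem_nil, or_false] at hm
      have hgm : g ∈ Cfsg.Lie.chevF4.rootSubgroup F (Cfsg.Lie.chevF4.neg (Cfsg.Lie.chevF4.simple i)) :=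
        Subgroup.subset_closure ⟨c, hg⟩
      rcases hm with hm | hm | hm <;> rw [hm] at hgm
      · exact Subgroup.mem_sup_left hgm
      · exact Subgroup.mem_sup_right (Subgroup.mem_sup_left hgm)
      · exact Subgroup.mem_sup_right (Subgroup.mem_sup_right hgm)
    · have hX : ∀ s ∈ [20, 22, 23], Cfsg.Lie.chevF4.rootSubgroup F s ≤
          Subgroup.closure {g : GL Cfsg.Lie.chevF4.Idx F | ∃ i < Cfsg.Lie.chevF4.rank, decide (i ≠ 0) = true ∧
            ∃ c : F, (g : Matrix Cfsg.Lie.chevF4.Idx Cfsg.Lie.chevF4.Idx F) =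
              Cfsg.Lie.chevF4.x F (Cfsg.Lie.chevF4.neg (Cfsg.Lie.chevF4.simple i)) c} := by
        intro s hs
        obtain ⟨i, hi, hJi, hsi⟩ := h2 s hs
        unfold Cfsg.Lie.ChevalleyDatum.rootSubgroup
        apply Subgroup.closure_mono
        rintro g ⟨c, hg⟩
        rw [hsi] at hg
        exact ⟨i, hi, hJi, c, hg⟩
      exact sup_le (hX 20 (by simp)) (sup_le (hX 22 (by simp)) (hX 23 (by simp)))

end Cfsg.Agent.S2178
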