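import Mathlib
-- Template for statement S2179 (row 2179; see /opt/grader/pristine/manifest.json for weights).
-- Copy to Cfsg/Agent/S2179.lean and replace the sorry. The statement below is byte-identical to the frozen
-- statement Cfsg.CfsgFrozen.S2179 (Cfsg/Statements/S2179.lean; the theorem Cfsg.lie2_f4_char_two_mixed_involution_centralizers);
-- the grader kernel-checks Cfsg.Agent.S2179.result against that frozen type. Keep the theorem IN THIS FILE
-- (a `result` declared elsewhere and merely imported here is not credited); helpers may live anywhere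
-- under Cfsg/Agent/.
import Cfsg.Statements.S2179
import Cfsg.Agent.Lib.Helper3.F4Cen4

set_option autoImplicit false
open Cfsg
open Cfsg.Agent.Lib.Helper3.ChevM Cfsg.Agent.Lib.Helper3.DLInv

namespace Cfsg.Agent.S2179

/-- Centralizers of the two remaining classes of involutions in the Chevalley group G of type F₄ over a finite field F of characteristic two (this problem's root numbering for type F₄, from the Chevalley data module: p₁, p₂ short, p₃, p₄ long with indices 33, 27, 25, 24 and negatives 14, 20, 22, 23; U generated by the positive root subgroups). For an element of G with matrix x_47(1)x_44(1) (highest root times highest short root): its centralizer in G is generated by U, X_{−p₂} and X_{−p₃}. For an element of G with matrix x_39(1)x_45(1) (roots (1,2,2,1) and (2,4,2,1), an orthogonal short/long pair): its centralizer in G is generated by X_{p₁}, X_{−p₁}, X_{p₄}, X_{−p₄} and the root subgroups of all positive roots other than p₂ (27), p₃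 (25), p₁ + p₂ (34) and p₃ + p₄ (26). -/
theorem result {F : Type*} [Field F] [Fintype F] [CharP F 2] (w v : GL Cfsg.Lie.chevF4.Idx F) (hw : (w : Matrix Cfsg.Lie.chevF4.Idx Cfsg.Lie.chevF4.Idx F) = Cfsg.Lie.chevF4.x F 47 1 * Cfsg.Lie.chevF4.x F 44 1) (hv : (v : Matrix Cfsg.Lie.chevF4.Idx Cfsg.Lie.chevF4.Idx F) = Cfsg.Lie.chevF4.x F 39 1 * Cfsg.Lie.chevF4.x F 45 1) :
    Cfsg.Lie.chevF4.group F ⊓ Subgroup.centralizer {w} = Cfsg.Lie.chevF4.posUnipotent F ⊔ Cfsg.Lie.chevF4.rootSubgroup F 20 ⊔ Cfsg.Lie.chevF4.rootSubgroup F 22 ∧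
    Cfsg.Lie.chevF4.group F ⊓ Subgroup.centralizer {v} = Cfsg.Lie.chevF4.rootSubgroup F 33 ⊔ Cfsg.Lie.chevF4.rootSubgroup F 14 ⊔ Cfsg.Lie.chevF4.rootSubgroup F 24 ⊔ Cfsg.Lie.chevF4.rootSubgroup F 23 ⊔
      Subgroup.closure {g : GL Cfsg.Lie.chevF4.Idx F | ∃ (r : ℕ) (c : F), Cfsg.Lie.chevF4.IsPosRoot r ∧ r ∉ [27, 25, 34, 26] ∧ (g : Matrix Cfsg.Lie.chevF4.Idx Cfsg.Lie.chevF4.Idx F) = Cfsg.Lie.chevF4.x F r c} := by
  have hw' : w = relF4.xU 47 (1 : F) * relF4.xU 44 1 := Units.ext hw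
  have hv' : v = relF4.xU 39 (1 : F) * relF4.xU 45 1 := Units.ext hv
  have key1 : Cfsg.Lie.chevF4.group F ⊓ Subgroup.centralizer {relF4.xU 47 (1 : F) * relF4.xU 44 1} =
      rootCentK Cfsg.Lie.chevF4 F f4Jb1 := f4_cent_tu F
  have key2 : Cfsg.Lie.chevF4.group F ⊓ Subgroup.centralizer {relF4.xU 39 (1 : F) * relF4.xU 45 1} =
      Cfsg.Lie.chevF4.rootSubgroup F 33 ⊔ Cfsg.Lie.chevF4.rootSubgroup F 14 ⊔ Cfsg.Lie.chevF4.rootSubgroup F 24 ⊔
        Cfsg.Lie.chevF4.rootSubgroup F 23 ⊔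
      Subgroup.closure {g : GL Cfsg.Lie.chevF4.Idx F | ∃ (r : ℕ) (c : F), Cfsg.Lie.chevF4.IsPosRoot r ∧
        r ∉ [27, 25, 34, 26] ∧
        (g : Matrix Cfsg.Lie.chevF4.Idx Cfsg.Lie.chevF4.Idx F) = Cfsg.Lie.chevF4.x F r c} := f4_cent_v F
  refine ⟨?_, ?_⟩
  · rw [hw']
    refine key1.trans ?_
    have h1 : ∀ i < Cfsg.Lie.chevF4.rank, f4Jb1 i = true →
        Cfsg.Lie.chevF4.neg (Cfsg.Lie.chevF4.simple i) ∈ [20, 22] := by decide +kernel
    have h2 : ∀ s ∈ [20, 22], ∃ i < Cfsg.Lie.chevF4.rank, f4Jb1 i = true ∧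
        s = Cfsg.Lie.chevF4.neg (Cfsg.Lie.chevF4.simple i) := by decide +kernel
    unfold rootCentK
    rw [sup_assoc]
    congr 1
    apply le_antisymm
    · rw [Subgroup.closure_le]
      rintro g ⟨i, hi, hJi, c, hg⟩
      have hm := h1 i hi hJi
      simp only [List.mem_cons, List.not_mem_nil, or_false] at hm
      have hgm : g ∈ Cfsg.Lie.chevF4.rootSubgroup F (Cfsg.Lie.chevF4.neg (Cfsg.Lie.chevF4.simple i)) :=
        Subgroup.subset_closure ⟨c, hg⟩
      rcases hm with hm | hm <;> rw [hm] at hgm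
      · exact Subgroup.mem_sup_left hgm
      · exact Subgroup.mem_sup_right hgm
    · have hX : ∀ s ∈ [20, 22], Cfsg.Lie.chevF4.rootSubgroup F s ≤
          Subgroup.closure {g : GL Cfsg.Lie.chevF4.Idx F | ∃ i < Cfsg.Lie.chevF4.rank, f4Jb1 i = true ∧
            ∃ c : F, (g : Matrix Cfsg.Lie.chevF4.Idx Cfsg.Lie.chevF4.Idx F) =
              Cfsg.Lie.chevF4.x F (Cfsg.Lie.chevF4.neg (Cfsg.Lie.chevF4.simple i)) c} := by
        intro s hs
        obtain ⟨i, hi, hJi, hsi⟩ := h2 s hs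
        unfold Cfsg.Lie.ChevalleyDatum.rootSubgroup
        apply Subgroup.closure_mono
        rintro g ⟨c, hg⟩
        rw [hsi] at hg
        exact ⟨i, hi, hJi, c, hg⟩
      exact sup_le (hX 20 (by simp)) (hX 22 (by simp))
  · rw [hv']
    exact key2

end Cfsg.Agent.S2179
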