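import Mathlib
-- Template for statement S2181 (row 2181; see /opt/grader/pristine/manifest.json for weights).
-- Copy to Cfsg/Agent/S2181.lean and replace the sorry. The statement below is byte-identical to the frozen
-- statement Cfsg.CfsgFrozen.S2181 (Cfsg/Statements/S2181.lean; the theorem Cfsg.lie2_e7_char_two_involution_class_count);
-- the grader kernel-checks Cfsg.Agent.S2181.result against that frozen type. Keep the theorem IN THIS FILE
-- (a `result` declared elsewhere and merely imported here is not credited); helpers may live anywhere
-- under Cfsg/Agent/.
import Cfsg.Statements.S2181
import Cfsg.Agent.Lib.Helper3.SLE7c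

set_option autoImplicit false
open Cfsg

namespace Cfsg.Agent.S2181

/-- The Chevalley group of type E₇ over a finite field of characteristic two (the matrix group generated by the root elements) has exactly five conjugacy classes of elements of order 2. -/
theorem result {F : Type*} [Field F] [Fintype F] [CharP F 2] :
    (ConjClasses.mk '' {g : ↥(Cfsg.Lie.chevE7.group F) | orderOf g = 2}).ncard = 5 := by
  exact Cfsg.Agent.Lib.Helper3.SLInv.e7_count F

end Cfsg.Agent.S2181
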