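import Mathlib
-- Template for statement S2182 (row 2182; see /opt/grader/pristine/manifest.json for weights).
-- Copy to Cfsg/Agent/S2182.lean and replace the sorry. The statement below is byte-identical to the frozen
-- statement Cfsg.CfsgFrozen.S2182 (Cfsg/Statements/S2182.lean; the theorem Cfsg.lie2_twisted_e6_char_two_involution_class_count);
-- the grader kernel-checks Cfsg.Agent.S2182.result against that frozen type. Keep the theorem IN THIS FILE
-- (a `result` declared elsewhere and merely imported here is not credited); helpers may live anywhere
-- under Cfsg/Agent/.
import Cfsg.Statements.S2182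
import Cfsg.Agent.Lib.Helper3.TwE6b

set_option autoImplicit false
open Cfsg

namespace Cfsg.Agent.S2182

/-- The twisted group ²E₆(q), q even, realised inside the Chevalley group of type E₆ over the field K with q² elements, has exactly three conjugacy classes of elements of order 2. -/
theorem result {K : Type*} [Field K] [Fintype K] [CharP K 2] (q : ℕ) (hK : Fintype.card K = q ^ 2) :
    (ConjClasses.mk '' {g : ↥(Cfsg.Lie.twistedE6 K q) | orderOf g = 2}).ncard = 3 := by
  exact Cfsg.Agent.Lib.Helper3.SLInv.e6t_three_classes q hK

end Cfsg.Agent.S2182
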