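import Mathlib
-- Template for statement S2183 (row 2183; see /opt/grader/pristine/manifest.json for weights).
-- Copy to Cfsg/Agent/S2183.lean and replace the sorry. The statement below is byte-identical to the frozen
-- statement Cfsg.CfsgFrozen.S2183 (Cfsg/Statements/S2183.lean; the theorem Cfsg.lie2_twisted_d4_char_two_involution_class_count);
-- the grader kernel-checks Cfsg.Agent.S2183.result against that frozen type. Keep the theorem IN THIS FILE
-- (a `result` declared elsewhere and merely imported here is not credited); helpers may live anywhere
-- under Cfsg/Agent/.
import Cfsg.Statements.S2183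
import Cfsg.Agent.Lib.Helper3.D4Inv8

set_option autoImplicit false
open Cfsg

namespace Cfsg.Agent.S2183

/-- The twisted group ³D₄(q), q even, realised inside the Chevalley group of type D₄ over the field K with q³ elements, has exactly two conjugacy classes of elements of order 2. -/
theorem result {K : Type*} [Field K] [Fintype K] [CharP K 2] (q : ℕ) (hK : Fintype.card K = q ^ 3) :
    (ConjClasses.mk '' {g : ↥(Cfsg.Lie.twistedD4 K q) | orderOf g = 2}).ncard = 2 := by
  exact Cfsg.Agent.Lib.Helper3.D4Inv.d4_two_classes q hK

end Cfsg.Agent.S2183
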