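import Mathlib
-- Template for statement S2185 (row 2185; see /opt/grader/pristine/manifest.json for weights).
-- Copy to Cfsg/Agent/S2185.lean and replace the sorry. The statement below is byte-identical to the frozen
-- statement Cfsg.CfsgFrozen.S2185 (Cfsg/Statements/S2185.lean; the theorem Cfsg.lie2_twisted_f4_two_involutions_in_commutator);
-- the grader kernel-checks Cfsg.Agent.S2185.result against that frozen type. Keep the theorem IN THIS FILE
-- (a `result` declared elsewhere and merely imported here is not credited); helpers may live anywhere
-- under Cfsg/Agent/.
import Cfsg.Statements.S2185
import Cfsg.Agent.Lib.Helper3.TF2e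

set_option autoImplicit false
open Cfsg

namespace Cfsg.Agent.S2185

/-- In the group ²F₄(2) (realised inside the Chevalley group of type F₄ over the field with two elements, θ the identity) every element of order 2 lies in the commutator subgroup (the Tits group, of index 2): there are no involutions outside it. -/
theorem result (g : ↥(Cfsg.Lie.twistedF4 (ZMod 2) 1)) (hg : orderOf g = 2) :
    g ∈ commutator ↥(Cfsg.Lie.twistedF4 (ZMod 2) 1) := by
  exact Cfsg.Agent.Lib.Helper3.RF4.involution_mem_commutator g hg

end Cfsg.Agent.S2185
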