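import Mathlib
-- Template for statement S2186 (row 2186; see /opt/grader/pristine/manifest.json for weights).
-- Copy to Cfsg/Agent/S2186.lean and replace the sorry. The statement below is byte-identical to the frozen
-- statement Cfsg.CfsgFrozen.S2186 (Cfsg/Statements/S2186.lean; the theorem Cfsg.lie2_highest_root_subgroup_pairs_char_two);
-- the grader kernel-checks Cfsg.Agent.S2186.result against that frozen type. Keep the theorem IN THIS FILE
-- (a `result` declared elsewhere and merely imported here is not credited); helpers may live anywhere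
-- under Cfsg/Agent/.
import Cfsg.Statements.S2186
import Cfsg.Agent.Lib.Helper3.ChevData.G2UHyp
import Cfsg.Agent.Lib.Helper3.ChevData.G2Bn
import Cfsg.Agent.Lib.Helper3.ChevData.G2NegTri
import Cfsg.Agent.Lib.Helper3.ChevData.D4UHyp
import Cfsg.Agent.Lib.Helper3.ChevData.D4Bn
import Cfsg.Agent.Lib.Helper3.ChevData.D4NegTri
import Cfsg.Agent.Lib.Helper3.ChevData.E6UHyp
import Cfsg.Agent.Lib.Helper3.ChevData.E6Bn
import Cfsg.Agent.Lib.Helper3.ChevData.E6NegTri
import Cfsg.Agent.Lib.Helper3.ChevData.E7UHyp
import Cfsg.Agent.Lib.Helper3.ChevData.E7Bn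
import Cfsg.Agent.Lib.Helper3.ChevData.E7NegTri
import Cfsg.Agent.Lib.Helper3.ChevData.E8UHyp
import Cfsg.Agent.Lib.Helper3.ChevData.E8Bn
import Cfsg.Agent.Lib.Helper3.ChevData.E8NegTri
import Cfsg.Agent.Lib.Helper3.HiRoot1
import Cfsg.Agent.Lib.Helper3.HiRootTab

set_option autoImplicit false
open Cfsg
open Cfsg.Agent.Lib.Helper3.ChevM

namespace Cfsg.Agent.S2186

/-- Let G be the Chevalley group of type G₂ (over a field with at least four elements), D₄, E₆, E₇ or E₈ over a finite field F of characteristic two, and let X be the root subgroup of the highest root (the last root index) — a long root subgroup, of order |F|. For every g in G, the subgroup generated by X and its conjugate g X g⁻¹ is either a 2-group or is conjugate by an element of G to the subgroup generated by X and the root subgroup of the lowest root (index 0, the negative of the highest root), which is a copy of SL₂(F). -/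
theorem result {F : Type*} [Field F] [Fintype F] [CharP F 2] (D : Cfsg.Lie.ChevalleyDatum) (hD : D ∈ [Cfsg.Lie.chevG2, Cfsg.Lie.chevD4, Cfsg.Lie.chevE6, Cfsg.Lie.chevE7, Cfsg.Lie.chevE8]) (hF : D = Cfsg.Lie.chevG2 → 4 ≤ Fintype.card F) (g : GL D.Idx F) (hg : g ∈ D.group F) :
    IsPGroup 2 ↥(D.rootSubgroup F (D.nroots - 1) ⊔ (D.rootSubgroup F (D.nroots - 1)).map (MulAut.conj g).toMonoidHom) ∨
    ∃ h ∈ D.group F, (D.rootSubgroup F (D.nroots - 1) ⊔ (D.rootSubgroup F (D.nroots - 1)).map (MulAut.conj g).toMonoidHom).map (MulAut.conj h).toMonoidHom = D.rootSubgroup F (D.nroots - 1) ⊔ D.rootSubgroup F 0 := by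
  simp only [List.mem_cons, List.not_mem_nil, or_false] at hD
  rcases hD with rfl | rfl | rfl | rfl | rfl
  · have := uhypG2.highest_root_pairs (F := F) bnG2 g2NegTri (by decide +kernel) (by decide +kernel)
      (Cfsg.Lie.chevG2.nroots - 1) (by decide +kernel) (by decide +kernel) (by decide +kernel) hiOrbG2 (by decide +kernel)
      (by decide +kernel) hiPwG2 (by decide +kernel) g hg
    rwa [show cdG2.D.neg (Cfsg.Lie.chevG2.nroots - 1) = 0 from by decide +kernel] at this
  · have := uhypD4.highest_root_pairs (F := F) bnD4 d4NegTri (by decide +kernel) (by decide +kernel)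
      (Cfsg.Lie.chevD4.nroots - 1) (by decide +kernel) (by decide +kernel) (by decide +kernel) hiOrbD4 (by decide +kernel)
      (by decide +kernel) hiPwD4 (by decide +kernel) g hg
    rwa [show cdD4.D.neg (Cfsg.Lie.chevD4.nroots - 1) = 0 from by decide +kernel] at this
  · have := uhypE6.highest_root_pairs (F := F) bnE6 e6NegTri (by decide +kernel) (by decide +kernel)
      (Cfsg.Lie.chevE6.nroots - 1) (by decide +kernel) (by decide +kernel) (by decide +kernel) hiOrbE6 (by decide +kernel)
      (by decide +kernel) hiPwE6 (by decide +kernel) g hg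
    rwa [show cdE6.D.neg (Cfsg.Lie.chevE6.nroots - 1) = 0 from by decide +kernel] at this
  · have := uhypE7.highest_root_pairs (F := F) bnE7 e7NegTri (by decide +kernel) (by decide +kernel)
      (Cfsg.Lie.chevE7.nroots - 1) (by decide +kernel) (by decide +kernel) (by decide +kernel) hiOrbE7 (by decide +kernel)
      (by decide +kernel) hiPwE7 (by decide +kernel) g hg
    rwa [show cdE7.D.neg (Cfsg.Lie.chevE7.nroots - 1) = 0 from by decide +kernel] at this
  · have := uhypE8.highest_root_pairs (F := F) bnE8 e8NegTri (by decide +kernel) (by decide +kernel)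
      (Cfsg.Lie.chevE8.nroots - 1) (by decide +kernel) (by decide +kernel) (by decide +kernel) hiOrbE8 (by decide +kernel)
      (by decide +kernel) hiPwE8 (by decide +kernel) g hg
    rwa [show cdE8.D.neg (Cfsg.Lie.chevE8.nroots - 1) = 0 from by decide +kernel] at this

end Cfsg.Agent.S2186
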