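import Mathlib
-- Template for statement S2209 (row 2209; see /opt/grader/pristine/manifest.json for weights).
-- Copy to Cfsg/Agent/S2209.lean and replace the sorry. The statement below is byte-identical to the frozen
-- statement Cfsg.CfsgFrozen.S2209 (Cfsg/Statements/S2209.lean; the theorem Cfsg.lie2_e678_char_two_long_root_involution_centralizer);
-- the grader kernel-checks Cfsg.Agent.S2209.result against that frozen type. Keep the theorem IN THIS FILE
-- (a `result` declared elsewhere and merely imported here is not credited); helpers may live anywhere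
-- under Cfsg/Agent/.
import Cfsg.Statements.S2209
import Cfsg.Agent.Lib.Helper3.ChevData.E6UHyp
import Cfsg.Agent.Lib.Helper3.ChevData.E6Bn
import Cfsg.Agent.Lib.Helper3.ChevData.E6NegTri
import Cfsg.Agent.Lib.Helper3.ChevData.E7UHyp
import Cfsg.Agent.Lib.Helper3.ChevData.E7Bn
import Cfsg.Agent.Lib.Helper3.ChevData.E7NegTri
import Cfsg.Agent.Lib.Helper3.ChevData.E8UHyp
import Cfsg.Agent.Lib.Helper3.ChevData.E8Bn
import Cfsg.Agent.Lib.Helper3.ChevData.E8NegTri
import Cfsg.Agent.Lib.Helper3.HiRoot5

set_option autoImplicit false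
open Cfsg
open Cfsg.Agent.Lib.Helper3.ChevM

namespace Cfsg.Agent.S2209

/-- Centralizer of a long root involution in the Chevalley groups of type E₆, E₇, E₈ over a finite field F of characteristic two. Let G be the group generated by the root elements, U the subgroup generated by the positive root subgroups, r the highest root (the last root index: 71, 125, 239 respectively), and t the element of G with matrix x_r(1). Then the centralizer of t in G is the subgroup generated by U together with the root subgroups X_{−p} for the fundamental roots p orthogonal to r — all fundamental roots except p₂ for E₆, except p₁ for E₇, except p₈ for E₈ (numbering with p₁–p₃–p₄–…–p_l the long chain and p₂ joined to p₄); the indices of these negative fundamental roots are 15, 29, 32, 34, 35 (E₆), 47, 52, 56, 59, 61, 62 (E₇), 77, 98, 104, 109, 113, 116, 118 (E₈). (This is the unipotent radical of the corresponding maximal parabolic subgroup extended by the root subgroups of its Levi factor, of type A₅, D₆, E₇ respectively.) -/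
theorem result {F : Type*} [Field F] [Fintype F] [CharP F 2] (d : Cfsg.Lie.ChevalleyDatum × List ℕ)
    (hd : d ∈ [(Cfsg.Lie.chevE6, [15, 29, 32, 34, 35]), (Cfsg.Lie.chevE7, [47, 52, 56, 59, 61, 62]), (Cfsg.Lie.chevE8, [77, 98, 104, 109, 113, 116, 118])])
    (t : GL d.1.Idx F) (ht : (t : Matrix d.1.Idx d.1.Idx F) = d.1.x F (d.1.nroots - 1) 1) :
    d.1.group F ⊓ Subgroup.centralizer {t} = d.1.posUnipotent F ⊔ Subgroup.closure {g : GL d.1.Idx F | ∃ s ∈ d.2, ∃ c : F, (g : Matrix d.1.Idx d.1.Idx F) = d.1.x F s c} := by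
  simp only [List.mem_cons, List.not_mem_nil, or_false] at hd
  rcases hd with rfl | rfl | rfl
  · have ht' : t = relE6.xU (Cfsg.Lie.chevE6.nroots - 1) (1 : F) := Units.ext ht
    have key := uhypE6.root_centralizer (F := F) bnE6 2 e6NegTri (by decide +kernel)
      (Cfsg.Lie.chevE6.nroots - 1) (by decide +kernel) (by decide +kernel) (by decide +kernel)
      (fun i => decide (i ≠ 1)) (by decide +kernel) (by decide +kernel) 1 (by decide +kernel) (by decide +kernel)
      (by decide +kernel)
    have h1 : ∀ i < Cfsg.Lie.chevE6.rank, decide (i ≠ 1) = true →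
        Cfsg.Lie.chevE6.neg (Cfsg.Lie.chevE6.simple i) ∈ [15, 29, 32, 34, 35] := by decide +kernel
    have h2 : ∀ s ∈ [15, 29, 32, 34, 35], ∃ i < Cfsg.Lie.chevE6.rank, decide (i ≠ 1) = true ∧
        s = Cfsg.Lie.chevE6.neg (Cfsg.Lie.chevE6.simple i) := by decide +kernel
    rw [ht']
    refine key.trans ?_
    unfold rootCentK
    congr 2
    ext g
    simp only [Set.mem_ofPred_eq]
    constructor
    · rintro ⟨i, hi, hJi, c, hg⟩
      exact ⟨_, h1 i hi hJi, c, hg⟩
    · rintro ⟨s, hs, c, hg⟩
      obtain ⟨i, hi, hJi, hsi⟩ := h2 s hs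
      rw [hsi] at hg
      exact ⟨i, hi, hJi, c, hg⟩
  · have ht' : t = relE7.xU (Cfsg.Lie.chevE7.nroots - 1) (1 : F) := Units.ext ht
    have key := uhypE7.root_centralizer (F := F) bnE7 2 e7NegTri (by decide +kernel)
      (Cfsg.Lie.chevE7.nroots - 1) (by decide +kernel) (by decide +kernel) (by decide +kernel)
      (fun i => decide (i ≠ 0)) (by decide +kernel) (by decide +kernel) 0 (by decide +kernel) (by decide +kernel)
      (by decide +kernel)
    have h1 : ∀ i < Cfsg.Lie.chevE7.rank, decide (i ≠ 0) = true →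
        Cfsg.Lie.chevE7.neg (Cfsg.Lie.chevE7.simple i) ∈ [47, 52, 56, 59, 61, 62] := by decide +kernel
    have h2 : ∀ s ∈ [47, 52, 56, 59, 61, 62], ∃ i < Cfsg.Lie.chevE7.rank, decide (i ≠ 0) = true ∧
        s = Cfsg.Lie.chevE7.neg (Cfsg.Lie.chevE7.simple i) := by decide +kernel
    rw [ht']
    refine key.trans ?_
    unfold rootCentK
    congr 2
    ext g
    simp only [Set.mem_ofPred_eq]
    constructor
    · rintro ⟨i, hi, hJi, c, hg⟩
      exact ⟨_, h1 i hi hJi, c, hg⟩
    · rintro ⟨s, hs, c, hg⟩
      obtain ⟨i, hi, hJi, hsi⟩ := h2 s hs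
      rw [hsi] at hg
      exact ⟨i, hi, hJi, c, hg⟩
  · have ht' : t = relE8.xU (Cfsg.Lie.chevE8.nroots - 1) (1 : F) := Units.ext ht
    have key := uhypE8.root_centralizer (F := F) bnE8 2 e8NegTri (by decide +kernel)
      (Cfsg.Lie.chevE8.nroots - 1) (by decide +kernel) (by decide +kernel) (by decide +kernel)
      (fun i => decide (i ≠ 7)) (by decide +kernel) (by decide +kernel) 7 (by decide +kernel) (by decide +kernel)
      (by decide +kernel)
    have h1 : ∀ i < Cfsg.Lie.chevE8.rank, decide (i ≠ 7) = true →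
        Cfsg.Lie.chevE8.neg (Cfsg.Lie.chevE8.simple i) ∈ [77, 98, 104, 109, 113, 116, 118] := by decide +kernel
    have h2 : ∀ s ∈ [77, 98, 104, 109, 113, 116, 118], ∃ i < Cfsg.Lie.chevE8.rank, decide (i ≠ 7) = true ∧
        s = Cfsg.Lie.chevE8.neg (Cfsg.Lie.chevE8.simple i) := by decide +kernel
    rw [ht']
    refine key.trans ?_
    unfold rootCentK
    congr 2
    ext g
    simp only [Set.mem_ofPred_eq]
    constructor
    · rintro ⟨i, hi, hJi, c, hg⟩
      exact ⟨_, h1 i hi hJi, c, hg⟩
    · rintro ⟨s, hs, c, hg⟩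
      obtain ⟨i, hi, hJi, hsi⟩ := h2 s hs
      rw [hsi] at hg
      exact ⟨i, hi, hJi, c, hg⟩

end Cfsg.Agent.S2209
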