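import Mathlib
-- Template for statement S2214 (row 2214; see /opt/grader/pristine/manifest.json for weights).
-- Copy to Cfsg/Agent/S2214.lean and replace the sorry. The statement below is byte-identical to the frozen
-- statement Cfsg.CfsgFrozen.S2214 (Cfsg/Statements/S2214.lean; the theorem Cfsg.lie2_chevalley_subfield_group_centralizer_normalizer);
-- the grader kernel-checks Cfsg.Agent.S2214.result against that frozen type. Keep the theorem IN THIS FILE
-- (a `result` declared elsewhere and merely imported here is not credited); helpers may live anywhere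
-- under Cfsg/Agent/.
import Cfsg.Statements.S2214
import Cfsg.Agent.Lib.Helper3.ChevSub4
import Cfsg.Agent.Lib.Helper3.ChevAutG2
import Cfsg.Agent.Lib.Helper3.ChevAutB2
import Cfsg.Agent.Lib.Helper3.ChevAutD4
import Cfsg.Agent.Lib.Helper3.ChevAutF4
import Cfsg.Agent.Lib.Helper3.ChevAutE6
import Cfsg.Agent.Lib.Helper3.ChevAutE7
import Cfsg.Agent.Lib.Helper3.ChevAutE8

set_option autoImplicit false
open Cfsg
open Cfsg.Agent.Lib.Helper3.ChevSub Cfsg.Agent.Lib.Helper3.ChevAut

namespace Cfsg.Agent.S2214

/-- Let k be an algebraically closed field of prime characteristic p, G the adjoint Chevalley group of type G₂, B₂, D₄, F₄, E₆, E₇ or E₈ over k (the matrix group generated by the root elements x_s(t), t ∈ k, acting on the Lie algebra), q = p^a with a ≥ 1, and K a subgroup of G containing every root element x_s(t) with t^q = t and consisting of matrices all of whose entries c satisfy c^q = c. Then the centralizer of K in G is trivial, and the normalizer of K in G is exactly the set of elements of G all of whose entries c satisfy c^q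 = c. -/
theorem result {k : Type*} [Field k] [IsAlgClosed k] (p : ℕ) [Fact p.Prime] [CharP k p] (D : Cfsg.Lie.ChevalleyDatum) (hD : D ∈ [Cfsg.Lie.chevG2, Cfsg.Lie.chevB2, Cfsg.Lie.chevD4, Cfsg.Lie.chevF4, Cfsg.Lie.chevE6, Cfsg.Lie.chevE7, Cfsg.Lie.chevE8]) (a : ℕ) (ha : 1 ≤ a) (K : Subgroup (GL D.Idx k)) (hKG : K ≤ D.group k)
    (hLK : Subgroup.closure {g : GL D.Idx k | ∃ (s : ℕ) (t : k), t ^ (p ^ a) = t ∧ (g : Matrix D.Idx D.Idx k) = D.x k s t} ≤ K)
    (hKfix : ∀ g ∈ K, ∀ i j : D.Idx, ((g : Matrix D.Idx D.Idx k) i j) ^ (p ^ a) = (g : Matrix D.Idx D.Idx k) i j) :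
    D.group k ⊓ Subgroup.centralizer (K : Set (GL D.Idx k)) = ⊥ ∧
    ∀ g : GL D.Idx k, g ∈ D.group k → (g ∈ Subgroup.normalizer (K : Set (GL D.Idx k)) ↔ ∀ i j : D.Idx, ((g : Matrix D.Idx D.Idx k) i j) ^ (p ^ a) = (g : Matrix D.Idx D.Idx k) i j) := by
  simp only [List.mem_cons, List.not_mem_nil, or_false] at hD
  rcases hD with rfl | rfl | rfl | rfl | rfl | rfl | rfl
  · exact subfield_centralizer_normalizer autHypG2 p a K hKG hLK hKfix
  · exact subfield_centralizer_normalizer autHypB2 p a K hKG hLK hKfix
  · exact subfield_centralizer_normalizer autHypD4 p a K hKG hLK hKfix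
  · exact subfield_centralizer_normalizer autHypF4 p a K hKG hLK hKfix
  · exact subfield_centralizer_normalizer autHypE6 p a K hKG hLK hKfix
  · exact subfield_centralizer_normalizer autHypE7 p a K hKG hLK hKfix
  · exact subfield_centralizer_normalizer autHypE8 p a K hKG hLK hKfix

end Cfsg.Agent.S2214
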