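import Mathlib
import Cfsg.Statements.S2221
import Cfsg.Agent.Lib.Helper9.SylAlt_Final

set_option autoImplicit false
open Cfsg

namespace Cfsg.Agent.S2221

open Cfsg.Agent.H9SylDec

/-- Direct decomposability of the Sylow 2-subgroups of the alternating groups. Let n ≥ 4 and let P be a Sylow 2-subgroup of the alternating group of degree n. Then P is the internal direct product of two nontrivial subgroups if and only if n = 4, n = 5, or n ≡ 2, 3 (mod 4) with 4⌊n/4⌋ not a power of 2. In the remaining cases (n ≡ 0, 1 (mod 4) with n ≥ 8, or n ≡ 2, 3 (mod 4) with 4⌊n/4⌋ a power of 2) P is directly indecomposable. -/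
theorem result (n : ℕ) (hn : 4 ≤ n)
    (P : Sylow 2 (alternatingGroup (Fin n))) :
    (∃ S₁ S₂ : Subgroup (alternatingGroup (Fin n)), S₁ ≠ ⊥ ∧ S₂ ≠ ⊥ ∧
        Cfsg.IsInternalDirectProduct S₁ S₂ (P : Subgroup (alternatingGroup (Fin n)))) ↔
      (n = 4 ∨ n = 5 ∨ ((n % 4 = 2 ∨ n % 4 = 3) ∧ ∀ r : ℕ, 4 * (n / 4) ≠ 2 ^ r)) := by
  rw [exists_idp_iff]
  obtain ⟨m, c, hc, rfl⟩ : ∃ m c, c < 4 ∧ n = 4 * m + c :=
    ⟨n / 4, n % 4, Nat.mod_lt _ (by norm_num), (Nat.div_add_mod n 4).symm⟩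
  have hm : 1 ≤ m := by omega
  rw [decomp_sylow_alt m c hm hc P]
  have e1 : (4 * m + c) % 4 = c := by omega
  have e2 : (4 * m + c) / 4 = m := by omega
  rw [e1, e2]
  have hpow : (∃ k, m = 2 ^ k) ↔ ∃ r, 4 * m = 2 ^ r := by
    constructor
    · rintro ⟨k, rfl⟩
      exact ⟨k + 2, by rw [pow_add]; ring⟩
    · rintro ⟨r, hr⟩
      rcases r with _ | _ | r
      · omega
      · omega
      · refine ⟨r, ?_⟩
        rw [pow_succ, pow_succ] at hr
        omega
  constructor
  · rintro (⟨h1, rfl⟩ | ⟨h1, h2⟩)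
    · rcases Nat.eq_zero_or_pos c with rfl | h
      · left; rfl
      · right; left; omega
    · right; right
      refine ⟨by omega, fun r hr => h2 (hpow.2 ⟨r, hr⟩)⟩
  · rintro (h | h | ⟨h1, h2⟩)
    · left; omega
    · left; omega
    · right
      refine ⟨by omega, fun hk => ?_⟩
      obtain ⟨r, hr⟩ := hpow.1 hk
      exact h2 r hr

end Cfsg.Agent.S2221
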