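import Mathlib
import Cfsg.Statements.S2231

set_option autoImplicit false
open Cfsg

namespace Cfsg.Agent.S2231

open Matrix

/-- All `p`-subgroups of `G` are abelian. -/
def AbPSub (p : ℕ) (G : Type*) [Group G] : Prop :=
  ∀ S : Subgroup G, IsPGroup p S → ∀ a ∈ S, ∀ b ∈ S, a * b = b * a

theorem AbPSub.of_injective {p : ℕ} {G H : Type*} [Group G] [Group H] (f : H →* G)
    (hf : Function.Injective f) (hG : AbPSub p G) : AbPSub p H := by
  intro S hS a ha b hb
  apply hf
  rw [map_mul, map_mul]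
  exact hG (S.map f) (hS.map f) (f a) (Subgroup.mem_map_of_mem f ha) (f b) (Subgroup.mem_map_of_mem f hb)

theorem AbPSub.of_surjective {p : ℕ} [Fact p.Prime] {G H : Type*} [Group G] [Finite G] [Group H]
    (f : G →* H) (hf : Function.Surjective f) (hG : AbPSub p G) : AbPSub p H := by
  intro P hP a ha b hb
  -- the preimage of P and the surjection onto P
  let M : Subgroup G := P.comap f
  let fM : M →* P := f.subgroupComap P
  have hfM : Function.Surjective fM := f.subgroupComap_surjective_of_surjective P hf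
  let S₀ : Sylow p M := Sylow.nonempty.some
  let S₁ : Sylow p P := S₀.mapSurjective hfM
  have hS₁ : (S₁ : Subgroup P) = ⊤ := by
    have h1 : IsPGroup p (⊤ : Subgroup P) := by
      intro g
      obtain ⟨k, hk⟩ := hP g.1
      exact ⟨k, Subtype.ext hk⟩
    exact (S₁.is_maximal' h1 le_top).symm
  have hmap : (S₀ : Subgroup M).map fM = ⊤ := by
    rw [← hS₁]; rfl
  have ha' : (⟨a, ha⟩ : P) ∈ (S₀ : Subgroup M).map fM := by rw [hmap]; trivial
  have hb' : (⟨b, hb⟩ : P) ∈ (S₀ : Subgroup M).map fM := by rw [hmap]; trivial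
  obtain ⟨s, hs, hsa⟩ := ha'
  obtain ⟨t, ht, htb⟩ := hb'
  have hcomm : s * t = t * s := by
    have hM : AbPSub p M := AbPSub.of_injective M.subtype M.subtype_injective hG
    exact hM S₀ S₀.isPGroup' s hs t ht
  have h2 : fM (s * t) = fM (t * s) := by rw [hcomm]
  rw [map_mul, map_mul, hsa, htb] at h2
  exact congrArg Subtype.val h2

theorem AbPSub.of_involves {p : ℕ} [Fact p.Prime] {G H : Type*} [Group G] [Finite G] [Group H]
    (hG : AbPSub p G) (hinv : Cfsg.Involves H G) : AbPSub p H := by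
  obtain ⟨K, R, hn, ⟨e⟩⟩ := hinv
  have hK : AbPSub p K := AbPSub.of_injective K.subtype K.subtype_injective hG
  exact AbPSub.of_surjective (e.toMonoidHom.comp (QuotientGroup.mk' (R.subgroupOf K)))
    (e.surjective.comp (QuotientGroup.mk'_surjective _)) hK



section SL2
variable {K : Type*} [Field K]

/-- Two elements of `SL₂(K)` fixing a common nonzero vector commute. -/
theorem comm_of_common_fixed (g h : Matrix.SpecialLinearGroup (Fin 2) K) (v : Fin 2 → K) (hv : v ≠ 0)
    (hg : (g : Matrix (Fin 2) (Fin 2) K) *ᵥ v = v) (hh : (h : Matrix (Fin 2) (Fin 2) K) *ᵥ v = v) :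
    g * h = h * g := by
  have hgd := g.2
  have hhd := h.2
  rw [Matrix.det_fin_two] at hgd hhd
  have hg0 := congrFun hg 0
  have hg1 := congrFun hg 1
  have hh0 := congrFun hh 0
  have hh1 := congrFun hh 1
  simp only [Matrix.mulVec, dotProduct, Fin.sum_univ_two] at hg0 hg1 hh0 hh1
  set a := (g : Matrix (Fin 2) (Fin 2) K) 0 0
  set b := (g : Matrix (Fin 2) (Fin 2) K) 0 1
  set c := (g : Matrix (Fin 2) (Fin 2) K) 1 0
  set d := (g : Matrix (Fin 2) (Fin 2) K) 1 1
  set a' := (h : Matrix (Fin 2) (Fin 2) K) 0 0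
  set b' := (h : Matrix (Fin 2) (Fin 2) K) 0 1
  set c' := (h : Matrix (Fin 2) (Fin 2) K) 1 0
  set d' := (h : Matrix (Fin 2) (Fin 2) K) 1 1
  have hv' : v 0 ≠ 0 ∨ v 1 ≠ 0 := by
    by_contra hcon
    push Not at hcon
    apply hv
    funext i
    fin_cases i
    · exact hcon.1
    · exact hcon.2
  have key : a * a' + b * c' = a' * a + b' * c ∧ a * b' + b * d' = a' * b + b' * d ∧
      c * a' + d * c' = c' * a + d' * c ∧ c * b' + d * d' = c' * b + d' * d := by
    rcases hv' with h0 | h1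
    · set t := v 1 / v 0 with ht
      have hv1 : v 1 = t * v 0 := by rw [ht]; field_simp
      rw [hv1] at hg0 hg1 hh0 hh1
      have e1 : a = 1 - b * t := by
        have : (a + b * t - 1) * v 0 = 0 := by linear_combination hg0
        rcases mul_eq_zero.1 this with h | h
        · linear_combination h
        · exact absurd h h0
      have e2 : c = t - d * t := by
        have : (c + d * t - t) * v 0 = 0 := by linear_combination hg1
        rcases mul_eq_zero.1 this with h | h
        · linear_combination h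
        · exact absurd h h0
      have e3 : d = 1 + b * t := by
        rw [e1, e2] at hgd
        linear_combination hgd
      have e1' : a' = 1 - b' * t := by
        have : (a' + b' * t - 1) * v 0 = 0 := by linear_combination hh0
        rcases mul_eq_zero.1 this with h | h
        · linear_combination h
        · exact absurd h h0
      have e2' : c' = t - d' * t := by
        have : (c' + d' * t - t) * v 0 = 0 := by linear_combination hh1
        rcases mul_eq_zero.1 this with h | h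
        · linear_combination h
        · exact absurd h h0
      have e3' : d' = 1 + b' * t := by
        rw [e1', e2'] at hhd
        linear_combination hhd
      rw [e2, e2', e3, e3', e1, e1']
      refine ⟨by ring, by ring, by ring, by ring⟩
    · set t := v 0 / v 1 with ht
      have hv0 : v 0 = t * v 1 := by rw [ht]; field_simp
      rw [hv0] at hg0 hg1 hh0 hh1
      have e1 : d = 1 - c * t := by
        have : (c * t + d - 1) * v 1 = 0 := by linear_combination hg1
        rcases mul_eq_zero.1 this with h | h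
        · linear_combination h
        · exact absurd h h1
      have e2 : b = t - a * t := by
        have : (a * t + b - t) * v 1 = 0 := by linear_combination hg0
        rcases mul_eq_zero.1 this with h | h
        · linear_combination h
        · exact absurd h h1
      have e3 : a = 1 + c * t := by
        rw [e1, e2] at hgd
        linear_combination hgd
      have e1' : d' = 1 - c' * t := by
        have : (c' * t + d' - 1) * v 1 = 0 := by linear_combination hh1
        rcases mul_eq_zero.1 this with h | h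
        · linear_combination h
        · exact absurd h h1
      have e2' : b' = t - a' * t := by
        have : (a' * t + b' - t) * v 1 = 0 := by linear_combination hh0
        rcases mul_eq_zero.1 this with h | h
        · linear_combination h
        · exact absurd h h1
      have e3' : a' = 1 + c' * t := by
        rw [e1', e2'] at hhd
        linear_combination hhd
      rw [e2, e2', e3, e3', e1, e1']
      refine ⟨by ring, by ring, by ring, by ring⟩
  obtain ⟨k00, k01, k10, k11⟩ := key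
  apply Subtype.ext
  rw [Matrix.SpecialLinearGroup.coe_mul, Matrix.SpecialLinearGroup.coe_mul]
  ext i j
  fin_cases i <;> fin_cases j <;> simp only [Matrix.mul_apply, Fin.sum_univ_two, Fin.zero_eta, Fin.mk_one]
  · exact k00
  · exact k01
  · exact k10
  · exact k11

end SL2



section SL2
variable {K : Type*} [Field K]

/-- The action of a subgroup of `SL₂(K)` on column vectors. -/
@[reducible] def vecAction (S : Subgroup (Matrix.SpecialLinearGroup (Fin 2) K)) : MulAction S (Fin 2 → K) where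
  smul g v := ((g : Matrix.SpecialLinearGroup (Fin 2) K) : Matrix (Fin 2) (Fin 2) K) *ᵥ v
  one_smul v := by
    show ((1 : Matrix.SpecialLinearGroup (Fin 2) K) : Matrix (Fin 2) (Fin 2) K) *ᵥ v = v
    simp
  mul_smul g h v := by
    show ((g * h : Matrix.SpecialLinearGroup (Fin 2) K) : Matrix (Fin 2) (Fin 2) K) *ᵥ v
      = ((g : Matrix.SpecialLinearGroup (Fin 2) K) : Matrix (Fin 2) (Fin 2) K) *ᵥ
        (((h : Matrix.SpecialLinearGroup (Fin 2) K) : Matrix (Fin 2) (Fin 2) K) *ᵥ v)
    rw [Matrix.SpecialLinearGroup.coe_mul, Matrix.mulVec_mulVec]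

theorem exists_common_fixed {p : ℕ} [Fact p.Prime] [Fintype K] [CharP K p]
    (S : Subgroup (Matrix.SpecialLinearGroup (Fin 2) K)) (hS : IsPGroup p S) :
    ∃ v : Fin 2 → K, v ≠ 0 ∧ ∀ g ∈ S, (g : Matrix (Fin 2) (Fin 2) K) *ᵥ v = v := by
  let _inst := vecAction S
  have hcard : p ∣ Nat.card (Fin 2 → K) := by
    obtain ⟨n, _, hn⟩ := FiniteField.card K p
    rw [Nat.card_eq_fintype_card, Fintype.card_fun, Fintype.card_fin, hn]
    exact dvd_pow (dvd_pow_self p n.ne_zero) two_ne_zero
  have h0 : (0 : Fin 2 → K) ∈ MulAction.fixedPoints S (Fin 2 → K) := by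
    intro g
    show ((g : Matrix.SpecialLinearGroup (Fin 2) K) : Matrix (Fin 2) (Fin 2) K) *ᵥ 0 = 0
    simp
  obtain ⟨v, hv, hv0⟩ := hS.exists_fixed_point_of_prime_dvd_card_of_fixed_point (Fin 2 → K) hcard h0
  refine ⟨v, fun h => hv0 h.symm, ?_⟩
  intro g hg
  exact hv ⟨g, hg⟩

end SL2



section Heis
variable {p : ℕ} [Fact p.Prime]

/-- upper unitriangular matrices in `SL₃` -/
def IsUni (M : Matrix (Fin 3) (Fin 3) (ZMod p)) : Prop :=
  M 0 0 = 1 ∧ M 1 1 = 1 ∧ M 2 2 = 1 ∧ M 1 0 = 0 ∧ M 2 0 = 0 ∧ M 2 1 = 0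

theorem IsUni.mul {M N : Matrix (Fin 3) (Fin 3) (ZMod p)} (hM : IsUni M) (hN : IsUni N) :
    IsUni (M * N) := by
  obtain ⟨m00, m11, m22, m10, m20, m21⟩ := hM
  obtain ⟨n00, n11, n22, n10, n20, n21⟩ := hN
  refine ⟨?_, ?_, ?_, ?_, ?_, ?_⟩ <;>
    simp [Matrix.mul_apply, Fin.sum_univ_three, m00, m11, m22, m10, m20, m21, n00, n11, n22, n10, n20, n21]

theorem IsUni.one : IsUni (1 : Matrix (Fin 3) (Fin 3) (ZMod p)) := by
  refine ⟨?_, ?_, ?_, ?_, ?_, ?_⟩ <;> simp

theorem IsUni.adjugate {M : Matrix (Fin 3) (Fin 3) (ZMod p)} (hM : IsUni M) :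
    IsUni (Matrix.adjugate M) := by
  obtain ⟨m00, m11, m22, m10, m20, m21⟩ := hM
  rw [Matrix.adjugate_fin_three]
  refine ⟨?_, ?_, ?_, ?_, ?_, ?_⟩ <;>
    simp [m00, m11, m22, m10, m20, m21]

/-- The Heisenberg group as a subgroup of `SL₃(ZMod p)`. -/
def heis (p : ℕ) [Fact p.Prime] : Subgroup (Matrix.SpecialLinearGroup (Fin 3) (ZMod p)) where
  carrier := {g | IsUni (g : Matrix (Fin 3) (Fin 3) (ZMod p))}
  mul_mem' := by
    intro a b ha hb
    show IsUni ((a * b : Matrix.SpecialLinearGroup (Fin 3) (ZMod p)) : Matrix (Fin 3) (Fin 3) (ZMod p))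
    rw [Matrix.SpecialLinearGroup.coe_mul]
    exact IsUni.mul ha hb
  one_mem' := by
    show IsUni ((1 : Matrix.SpecialLinearGroup (Fin 3) (ZMod p)) : Matrix (Fin 3) (Fin 3) (ZMod p))
    rw [Matrix.SpecialLinearGroup.coe_one]
    exact IsUni.one
  inv_mem' := by
    intro a ha
    show IsUni ((a⁻¹ : Matrix.SpecialLinearGroup (Fin 3) (ZMod p)) : Matrix (Fin 3) (Fin 3) (ZMod p))
    rw [Matrix.SpecialLinearGroup.coe_inv]
    exact IsUni.adjugate ha

theorem cube_zero {M : Matrix (Fin 3) (Fin 3) (ZMod p)} (hM : IsUni M) :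
    (M - 1) * (M - 1) * (M - 1) = 0 := by
  obtain ⟨m00, m11, m22, m10, m20, m21⟩ := hM
  ext i j
  fin_cases i <;> fin_cases j <;>
    simp [Matrix.mul_apply, Fin.sum_univ_three, m00, m11, m22, m10, m20, m21, Matrix.one_apply]

theorem heis_isPGroup : IsPGroup p (heis p) := by
  intro g
  refine ⟨2, ?_⟩
  apply Subtype.ext
  apply Subtype.ext
  show (((g : Matrix.SpecialLinearGroup (Fin 3) (ZMod p)) ^ p ^ 2 :
    Matrix.SpecialLinearGroup (Fin 3) (ZMod p)) : Matrix (Fin 3) (Fin 3) (ZMod p)) = 1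
  rw [Matrix.SpecialLinearGroup.coe_pow]
  set M := ((g : Matrix.SpecialLinearGroup (Fin 3) (ZMod p)) : Matrix (Fin 3) (Fin 3) (ZMod p)) with hMdef
  have hM : IsUni M := g.2
  have h3 : (M - 1) ^ 3 = 0 := by
    rw [pow_succ, pow_two]; exact cube_zero hM
  have hp2 : 3 ≤ p ^ 2 := by
    have := (Fact.out : p.Prime).two_le
    nlinarith
  have h4 : (M - 1) ^ (p ^ 2) = 0 := pow_eq_zero_of_le hp2 h3
  have : CharP (Matrix (Fin 3) (Fin 3) (ZMod p)) p := Matrix.charP p
  have h5 : ((M - 1) + 1) ^ (p ^ 2) = (M - 1) ^ (p ^ 2) + 1 ^ (p ^ 2) :=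
    add_pow_char_pow_of_commute p 2 (Commute.one_right _)
  rw [sub_add_cancel, h4, one_pow, zero_add] at h5
  exact h5

end Heis


section final
variable {p : ℕ} [Fact p.Prime]

/-- The matrix `1 + E₀₁`. -/
def xm (p : ℕ) : Matrix (Fin 3) (Fin 3) (ZMod p) := !![1, 1, 0; 0, 1, 0; 0, 0, 1]

/-- The matrix `1 + E₁₂`. -/
def ym (p : ℕ) : Matrix (Fin 3) (Fin 3) (ZMod p) := !![1, 0, 0; 0, 1, 1; 0, 0, 1]

theorem det_xm : (xm p).det = 1 := by
  simp [Matrix.det_fin_three, xm]

theorem det_ym : (ym p).det = 1 := by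
  simp [Matrix.det_fin_three, ym]

/-- `1 + E₀₁` in `SL₃`. -/
def xs (p : ℕ) [Fact p.Prime] : Matrix.SpecialLinearGroup (Fin 3) (ZMod p) := ⟨xm p, det_xm⟩

/-- `1 + E₁₂` in `SL₃`. -/
def ys (p : ℕ) [Fact p.Prime] : Matrix.SpecialLinearGroup (Fin 3) (ZMod p) := ⟨ym p, det_ym⟩

theorem xs_coe : ((xs p : Matrix.SpecialLinearGroup (Fin 3) (ZMod p)) : Matrix (Fin 3) (Fin 3) (ZMod p)) = xm p := rfl
theorem ys_coe : ((ys p : Matrix.SpecialLinearGroup (Fin 3) (ZMod p)) : Matrix (Fin 3) (Fin 3) (ZMod p)) = ym p := rfl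

theorem xs_mem_qd : xs p ∈ Cfsg.qd p := by
  apply Subgroup.subset_closure
  refine ⟨?_, ?_, ?_⟩ <;> simp [xs_coe, xm]

theorem ys_mem_qd : ys p ∈ Cfsg.qd p := by
  apply Subgroup.subset_closure
  refine ⟨?_, ?_, ?_⟩ <;> simp [ys_coe, ym]

theorem xs_mem_heis : xs p ∈ heis p := by
  show IsUni (xm p)
  refine ⟨?_, ?_, ?_, ?_, ?_, ?_⟩ <;> simp [xm]

theorem ys_mem_heis : ys p ∈ heis p := by
  show IsUni (ym p)
  refine ⟨?_, ?_, ?_, ?_, ?_, ?_⟩ <;> simp [ym]

theorem xs_ys_ne : xs p * ys p ≠ ys p * xs p := by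
  intro h
  have h1 := congrArg (fun g : Matrix.SpecialLinearGroup (Fin 3) (ZMod p) =>
    (g : Matrix (Fin 3) (Fin 3) (ZMod p)) 0 2) h
  simp only [Matrix.SpecialLinearGroup.coe_mul, xs_coe, ys_coe] at h1
  simp [xm, ym, Matrix.mul_apply, Fin.sum_univ_three] at h1

end final

theorem result {p : ℕ} [Fact p.Prime] (hp : p ≠ 2) {K : Type*} [Field K] [Fintype K] [CharP K p] : ¬ Cfsg.Involves ↥(Cfsg.qd p) (Matrix.ProjectiveSpecialLinearGroup (Fin 2) K) := by
  intro hinv
  have hSL : AbPSub p (Matrix.SpecialLinearGroup (Fin 2) K) := by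
    intro S hS a ha b hb
    obtain ⟨v, hv, hfix⟩ := exists_common_fixed S hS
    exact comm_of_common_fixed a b v hv (hfix a ha) (hfix b hb)
  have hPSL : AbPSub p (Matrix.ProjectiveSpecialLinearGroup (Fin 2) K) :=
    AbPSub.of_surjective (QuotientGroup.mk' _) (QuotientGroup.mk'_surjective _) hSL
  have hqd : AbPSub p (Cfsg.qd p) := AbPSub.of_involves hPSL hinv
  have h1 := hqd ((heis p).subgroupOf (Cfsg.qd p)) (heis_isPGroup.comap_subtype)
    ⟨xs p, xs_mem_qd⟩ (by rw [Subgroup.mem_subgroupOf]; exact xs_mem_heis)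
    ⟨ys p, ys_mem_qd⟩ (by rw [Subgroup.mem_subgroupOf]; exact ys_mem_heis)
  exact xs_ys_ne (congrArg Subtype.val h1)

end Cfsg.Agent.S2231
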