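import Cfsg.Statements.S2232
import Cfsg.Agent.Lib.Helper5.Herm3b
import Cfsg.Agent.Lib.Helper5.PLocalSec
import Cfsg.Agent.Lib.Helper7.QdPerm2
import Cfsg.Agent.Lib.Helper4.QdR7
import Cfsg.Agent.Lib.Lead.Thom11

set_option autoImplicit false
open Cfsg

namespace Cfsg.Agent.S2232

open Cfsg.Agent.Lib.Helper5.Herm3 Cfsg.Agent.Lib.Helper5.PLocalSec Cfsg.Agent.Lib.Lead
  Cfsg.Agent.Lib.Lead.QdLib Cfsg.Agent.Lib.Helper2.GUIsom Module Matrix

/-- the product of the two standard unipotent elements of `SL₂(p)` is not a `p`-element -/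
theorem xs_mul_ys_not_ppow (p : ℕ) [hp : Fact p.Prime] (k : ℕ) :
    (SL2.xs (1 : ZMod p) * SL2.ys (1 : ZMod p)) ^ p ^ k ≠ 1 := by
  intro h
  set A : Matrix (Fin 2) (Fin 2) (ZMod p) := !![2, 1; 1, 1] with hA
  have hAval : ((SL2.xs (1 : ZMod p) * SL2.ys (1 : ZMod p) : Matrix.SpecialLinearGroup (Fin 2) (ZMod p)) :
      Matrix (Fin 2) (Fin 2) (ZMod p)) = A := by
    rw [Matrix.SpecialLinearGroup.coe_mul]
    show !![1, (1 : ZMod p); 0, 1] * !![1, 0; (1 : ZMod p), 1] = A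
    ext i j
    fin_cases i <;> fin_cases j <;> simp [hA, Matrix.mul_apply, Fin.sum_univ_two] <;> norm_num
  have h1 : A ^ p ^ k = 1 := by
    have := congrArg (fun M : Matrix.SpecialLinearGroup (Fin 2) (ZMod p) =>
      (M : Matrix (Fin 2) (Fin 2) (ZMod p))) h
    simp only [Matrix.SpecialLinearGroup.coe_pow, Matrix.SpecialLinearGroup.coe_one] at this
    rw [hAval] at this
    exact this
  have h2 : (A - 1) ^ p ^ k = 0 := by
    rw [sub_pow_char_pow_of_commute p k (Commute.one_right A), one_pow, h1, sub_self]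
  have h3 : (A - 1).det = -1 := by
    have : A - 1 = !![1, 1; 1, 0] := by
      ext i j
      fin_cases i <;> fin_cases j <;> simp [hA] <;> norm_num
    rw [this, Matrix.det_fin_two_of]
    ring
  have h4 := congrArg Matrix.det h2
  rw [Matrix.det_pow, h3, Matrix.det_zero] at h4
  have : ((-1 : ZMod p)) ^ p ^ k ≠ 0 := pow_ne_zero _ (neg_ne_zero.mpr one_ne_zero)
  exact this h4


/-- Let p be an odd prime, q a power of p and K a finite field with q² elements. Then Qd(p) (the natural semidirect product of an elementary abelian group of order p² by SL₂(p)) is not involved in the projective special unitary group PSU₃(q) realised over K. -/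
theorem result {p : ℕ} [Fact p.Prime] (hp : p ≠ 2) {K : Type*} [Field K] [Fintype K] [CharP K p] (n : ℕ) (hn : 1 ≤ n) (hK : Fintype.card K = (p ^ n) ^ 2) : ¬ Cfsg.Involves ↥(Cfsg.qd p) (Cfsg.PSU 3 K (p ^ n)) := by
  classical
  intro hinv
  have h1 : Cfsg.Involves ↥(Cfsg.qd p) ↥(Cfsg.SU 3 K (p ^ n)) :=
    Thom.involves_of_quotient (Subgroup.center _) hinv
  obtain ⟨K₁, f, hf⟩ := Cfsg.Agent.Lib.Helper9.isSectionOf_of_involves h1
  obtain ⟨σ, hσ, hσq, hH, hnd⟩ := Cfsg.Agent.Lib.Helper2.HermFrames.exists_data hK 3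
  let ρ : ↥(Cfsg.SU 3 K (p ^ n)) →* ((Fin 3 → K) ≃ₗ[K] (Fin 3 → K)) :=
    (glLin 3 K).toMonoidHom.comp
      (Matrix.SpecialLinearGroup.toGL.comp (Cfsg.SU 3 K (p ^ n)).subtype)
  have hρapp : ∀ (g : ↥(Cfsg.SU 3 K (p ^ n))) (x : Fin 3 → K),
      ρ g x = (g.1 : Matrix (Fin 3) (Fin 3) K) *ᵥ x := fun g x => rfl
  have hρ : IsSU3 ρ (Cfsg.hermForm 3 K (p ^ n)) := by
    refine ⟨?_, ?_, ?_⟩
    · intro a b hab
      apply Subtype.ext
      apply Subtype.ext
      ext i j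
      have := congrArg (fun e : (Fin 3 → K) ≃ₗ[K] (Fin 3 → K) => e (Pi.single j 1) i) hab
      simpa [hρapp] using this
    · intro g x y
      rw [hρapp, hρapp]
      exact g.2 x y
    · intro g
      have h1 : ((ρ g : (Fin 3 → K) ≃ₗ[K] (Fin 3 → K)) : (Fin 3 → K) →ₗ[K] (Fin 3 → K)) =
          Matrix.toLin' (g.1 : Matrix (Fin 3) (Fin 3) K) := by
        apply LinearMap.ext
        intro x
        rw [Matrix.toLin'_apply]
        rfl
      rw [h1, LinearMap.det_toLin']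
      exact g.1.2
  have h3 : finrank K (Fin 3 → K) = 3 := Module.finrank_fin_fun K
  refine false_of_surjective (G := ↥(Cfsg.SU 3 K (p ^ n))) p ?_ ((QdLib.beta p).ker) ?_ ?_
    (deltaQ p (SL2.xs 1)) (deltaQ p (SL2.ys 1)) ?_ ?_ ?_ K₁ f hf
  · intro T hT hT1 x hx y hy hxp hyp
    refine ⟨1, ?_⟩
    rw [pow_one]
    exact mul_pow_eq_one_of_mem_normalizer p hσ hH hnd h3 hρ hp T hT hT1 x y hx hy hxp hyp
  · intro g
    refine ⟨1, ?_⟩
    rw [pow_one]
    exact Subtype.ext (Cfsg.Agent.Lib.Helper4.QdR.exp_ker_beta g.1 g.2)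
  · intro h0
    have hmem : tauQ p (Multiplicative.ofAdd (Pi.single 0 1)) ∈ (QdLib.beta p).ker := QdLib.beta_tauQ p _
    rw [h0, Subgroup.mem_bot] at hmem
    have := tauQ_injective p (hmem.trans (map_one (tauQ p)).symm)
    have h2 := congrFun (congrArg Multiplicative.toAdd this) 0
    simp at h2
  · refine ⟨1, ?_⟩
    rw [pow_one, ← map_pow, Cfsg.Agent.Lib.Helper7.QdPerm.xs_pow_p, map_one]
  · refine ⟨1, ?_⟩
    rw [pow_one, ← map_pow, Cfsg.Agent.Lib.Helper7.QdPerm.ys_pow_p, map_one]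
  · rintro ⟨k, hk⟩
    have := congrArg (QdLib.beta p) hk
    rw [map_pow, map_mul, QdLib.beta_deltaQ, QdLib.beta_deltaQ, map_one] at this
    exact xs_mul_ys_not_ppow p k this

end Cfsg.Agent.S2232
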