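import Mathlib
-- Template for statement S2244 (row 2244; see /opt/grader/pristine/manifest.json for weights).
-- Copy to Cfsg/Agent/S2244.lean and replace the sorry. The statement below is byte-identical to the frozen
-- statement Cfsg.CfsgFrozen.S2244 (Cfsg/Statements/S2244.lean; the theorem Cfsg.kfact3_weakly_closed_unipotent_subgroup_is_unipotent_radical);
-- the grader kernel-checks Cfsg.Agent.S2244.result against that frozen type. Keep the theorem IN THIS FILE
-- (a `result` declared elsewhere and merely imported here is not credited); helpers may live anywhere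
-- under Cfsg/Agent/.
import Cfsg.Statements.S2244
import Cfsg.Agent.Lib.Helper3.WClG2b
import Cfsg.Agent.Lib.Helper3.WClB2
import Cfsg.Agent.Lib.Helper3.WClD4
import Cfsg.Agent.Lib.Helper3.WClF4
import Cfsg.Agent.Lib.Helper3.WClE6
import Cfsg.Agent.Lib.Helper3.WClE7
import Cfsg.Agent.Lib.Helper3.WClE8

set_option autoImplicit false
open Cfsg

namespace Cfsg.Agent.S2244

/-- Weakly closed unipotent subgroups of Chevalley groups: let G be the Chevalley group of type G₂, B₂, D₄, F₄, E₆, E₇ or E₈ over a finite field F (the matrix group generated by the root elements), with |F| ≠ 2, and |F| ≠ 3 as well for the types G₂, B₂, D₄, F₄. Let U be the subgroup generated by the positive root subgroups. If X ≤ U is weakly closed in U with respect to G (every G-conjugate of X lying in U equals X), then X is the unipotent radical U_J of a standard parabolic subgroup for some set J of fundamental roots. -/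
theorem result {F : Type*} [Field F] [Fintype F] (D : Cfsg.Lie.ChevalleyDatum) (hD : D ∈ [Cfsg.Lie.chevG2, Cfsg.Lie.chevB2, Cfsg.Lie.chevD4, Cfsg.Lie.chevF4, Cfsg.Lie.chevE6, Cfsg.Lie.chevE7, Cfsg.Lie.chevE8])
    (h2 : Fintype.card F ≠ 2) (h3 : D ∈ [Cfsg.Lie.chevG2, Cfsg.Lie.chevB2, Cfsg.Lie.chevD4, Cfsg.Lie.chevF4] → Fintype.card F ≠ 3)
    (X : Subgroup (GL D.Idx F)) (hXU : X ≤ D.posUnipotent F)
    (hwc : ∀ g ∈ D.group F, X.map (MulAut.conj g).toMonoidHom ≤ D.posUnipotent F → X.map (MulAut.conj g).toMonoidHom = X) :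
    ∃ J : Set ℕ, (∀ j ∈ J, j < D.rank) ∧ X = D.unipotentRadical F J := by
  simp only [List.mem_cons, List.not_mem_nil, or_false] at hD
  rcases hD with rfl | rfl | rfl | rfl | rfl | rfl | rfl
  · by_cases h4 : Fintype.card F = 4
    · exact Cfsg.Agent.Lib.Helper3.WCl.wclG2_four X h4 hXU hwc
    · exact Cfsg.Agent.Lib.Helper3.WCl.wclG2 h2 (h3 (by simp)) h4 X hXU hwc
  · exact Cfsg.Agent.Lib.Helper3.WCl.wclB2 h2 (h3 (by simp)) X hXU hwc
  · exact Cfsg.Agent.Lib.Helper3.WCl.wclD4 h2 (h3 (by simp)) X hXU hwc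
  · exact Cfsg.Agent.Lib.Helper3.WCl.wclF4 h2 (h3 (by simp)) X hXU hwc
  · exact Cfsg.Agent.Lib.Helper3.WCl.wclE6 h2 X hXU hwc
  · exact Cfsg.Agent.Lib.Helper3.WCl.wclE7 h2 X hXU hwc
  · exact Cfsg.Agent.Lib.Helper3.WCl.wclE8 h2 X hXU hwc

end Cfsg.Agent.S2244
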