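import Cfsg.Statements.S2249
import Cfsg.Agent.Lib.Helper5.WrH13

set_option autoImplicit false
open Cfsg

namespace Cfsg.Agent.S2249

/-- The normal 2-rank of the general linear group over a finite field of odd order q: for n ≥ 1 and S a Sylow 2-subgroup of GL_n(F), the largest rank of an elementary abelian subgroup of S that is normal in S equals n when q ≡ 1 (mod 4) and ⌊(n + 1)/2⌋ when q ≡ 3 (mod 4). -/
theorem result {F : Type*} [Field F] [Fintype F] {q : ℕ} (hF : Fintype.card F = q) (hodd : Odd q) (n : ℕ) (hn : 1 ≤ n) (S : Sylow 2 (Matrix.GeneralLinearGroup (Fin n) F)) :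
    (q % 4 = 1 → ((∃ E : Subgroup ↥(S : Subgroup (Matrix.GeneralLinearGroup (Fin n) F)), E.Normal ∧ Cfsg.IsElementaryAbelian 2 E ∧ 2 ^ (n) ≤ Nat.card ↥E) ∧
      ∀ E : Subgroup ↥(S : Subgroup (Matrix.GeneralLinearGroup (Fin n) F)), E.Normal → Cfsg.IsElementaryAbelian 2 E → Nat.card ↥E ≤ 2 ^ (n))) ∧
    (q % 4 = 3 → ((∃ E : Subgroup ↥(S : Subgroup (Matrix.GeneralLinearGroup (Fin n) F)), E.Normal ∧ Cfsg.IsElementaryAbelian 2 E ∧ 2 ^ ((n + 1) / 2) ≤ Nat.card ↥E) ∧
      ∀ E : Subgroup ↥(S : Subgroup (Matrix.GeneralLinearGroup (Fin n) F)), E.Normal → Cfsg.IsElementaryAbelian 2 E → Nat.card ↥E ≤ 2 ^ ((n + 1) / 2))) := by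
  subst hF
  have h2 := Cfsg.Agent.Lib.Helper5.WrP.two_ne_zero_of_odd_card hodd
  constructor
  · intro hmod
    have hsq : IsSquare (-1 : F) := by
      rw [FiniteField.isSquare_neg_one_iff]
      omega
    obtain ⟨i, hi⟩ := hsq
    have hi' : i ^ 2 = -1 := by rw [hi]; ring
    apply Cfsg.Agent.Lib.Helper5.WrH.sylow2_gl_normalRank hodd n S (2 ^ n)
    rw [Cfsg.Agent.Lib.Helper5.WrH.card_torOm_split h2 i hi', show (4 : ℕ) = 2 ^ 2 by norm_num,
      ← pow_mul, ← pow_add]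
    congr 1
    omega
  · intro hmod
    have hns : ∀ t : F, t ^ 2 ≠ -1 := by
      intro t ht
      have hsq : IsSquare (-1 : F) := ⟨t, by rw [← ht]; ring⟩
      rw [FiniteField.isSquare_neg_one_iff] at hsq
      exact hsq hmod
    apply Cfsg.Agent.Lib.Helper5.WrH.sylow2_gl_normalRank hodd n S (2 ^ ((n + 1) / 2))
    rw [Cfsg.Agent.Lib.Helper5.WrH.card_torOm_nonsplit h2 hns, ← pow_add]
    congr 1
    omega

end Cfsg.Agent.S2249
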