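import Cfsg.Statements.S2255
import Cfsg.Agent.Lib.Helper5.NilAlt3

set_option autoImplicit false
open Cfsg

namespace Cfsg.Agent.S2255

/-- Let n be a natural number not congruent to 3 modulo 4, with n ∉ {5, 6, 9}. Then every nilpotent subgroup of the alternating group on n letters has order at most the order of a Sylow 2-subgroup of the alternating group (so the nilpotent subgroups of largest order are exactly the Sylow 2-subgroups). -/
theorem result  (n : ℕ) (hn : n % 4 ≠ 3)
    (h5 : n ≠ 5) (h6 : n ≠ 6) (h9 : n ≠ 9)
    (N : Subgroup (alternatingGroup (Fin n))) (hN : Group.IsNilpotent N)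
    (P : Sylow 2 (alternatingGroup (Fin n))) :
    Nat.card N ≤ Nat.card P := by
  haveI := hN
  have hev : ∀ g : N, Equiv.Perm.sign (MulAction.toPerm g : Equiv.Perm (Fin n)) = 1 := by
    intro g
    have h1 : (MulAction.toPerm g : Equiv.Perm (Fin n)) =
        ((g : alternatingGroup (Fin n)) : Equiv.Perm (Fin n)) := by
      ext x
      rfl
    rw [h1]
    exact Equiv.Perm.mem_alternatingGroup.1 (g : alternatingGroup (Fin n)).2
  have hA := Cfsg.Agent.Lib.Helper5.NilSym.alt_bound n N (Fin n) (Fintype.card_fin n) hev
  have hNpos : 1 ≤ Nat.card N := Nat.card_pos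
  have hPpos : 1 ≤ Nat.card P := Nat.card_pos
  by_cases hn2 : n < 2
  · rcases hA with h | h
    · have hF : Cfsg.Agent.Lib.Helper5.NilSym.FF n = 1 := by
        have : n = 0 ∨ n = 1 := by omega
        rcases this with rfl | rfl
        · exact Cfsg.Agent.Lib.Helper5.NilSym.FF_zero
        · exact Cfsg.Agent.Lib.Helper5.NilSym.FF_one
      omega
    · unfold Cfsg.Agent.Lib.Helper5.NilSym.Bad at h
      omega
  · haveI : Nontrivial (Fin n) := Fin.nontrivial_iff_two_le.2 (by omega)
    have h2A : 2 * Nat.card (alternatingGroup (Fin n)) = n.factorial := by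
      rw [two_mul_nat_card_alternatingGroup, Nat.card_perm, Nat.card_eq_fintype_card,
        Fintype.card_fin]
    have hApos : Nat.card (alternatingGroup (Fin n)) ≠ 0 := Nat.card_pos.ne'
    have htt : Cfsg.Agent.Lib.Helper5.NilSym.tt n =
        1 + padicValNat 2 (Nat.card (alternatingGroup (Fin n))) := by
      unfold Cfsg.Agent.Lib.Helper5.NilSym.tt
      rw [← h2A, padicValNat.mul (by norm_num) hApos]
      simp
    have hP : Nat.card P = 2 ^ padicValNat 2 (Nat.card (alternatingGroup (Fin n))) := by
      rw [P.card_eq_multiplicity, Nat.factorization_def _ Nat.prime_two]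
    rcases hA with h | h
    · rw [Cfsg.Agent.Lib.Helper5.NilSym.FF_of_mod hn, htt, pow_add, pow_one] at h
      rw [hP]
      omega
    · unfold Cfsg.Agent.Lib.Helper5.NilSym.Bad at h
      omega

end Cfsg.Agent.S2255
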