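import Cfsg.Statements.S2256
import Cfsg.Agent.Lib.Helper5.NilAlt3
import Cfsg.Agent.Lib.Helper5.NilAlt5
import Cfsg.Agent.Lib.Helper5.NilAlt6

set_option autoImplicit false
open Cfsg

namespace Cfsg.Agent.S2256

/-- Let n ≡ 3 (mod 4) with n ≥ 7. Then every nilpotent subgroup of the alternating group on n letters has order at most 3 times the order of a Sylow 2-subgroup of the alternating group on n − 3 letters; the bound is attained by a nilpotent subgroup isomorphic to the direct product of such a Sylow 2-subgroup with a cyclic group of order 3; and any two nilpotent subgroups of the alternating group attaining the bound are conjugate in it. -/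
theorem result  (n : ℕ) (hn : n % 4 = 3) (h7 : 7 ≤ n)
    (P : Sylow 2 (alternatingGroup (Fin (n - 3)))) :
    (∀ N : Subgroup (alternatingGroup (Fin n)), Group.IsNilpotent N → Nat.card N ≤ 3 * Nat.card P) ∧
    (∃ M : Subgroup (alternatingGroup (Fin n)), Group.IsNilpotent M ∧ Nat.card M = 3 * Nat.card P ∧
      Nonempty (M ≃* (↥(P : Subgroup (alternatingGroup (Fin (n - 3)))) × Multiplicative (ZMod 3)))) ∧
    (∀ N₁ N₂ : Subgroup (alternatingGroup (Fin n)), Group.IsNilpotent N₁ → Group.IsNilpotent N₂ →
      Nat.card N₁ = 3 * Nat.card P → Nat.card N₂ = 3 * Nat.card P →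
      ∃ g : alternatingGroup (Fin n), N₂ = N₁.map (MulAut.conj g).toMonoidHom) := by
  haveI : Nontrivial (Fin (n - 3)) := Fin.nontrivial_iff_two_le.2 (by omega)
  have h2A : 2 * Nat.card (alternatingGroup (Fin (n - 3))) = (n - 3).factorial := by
    rw [two_mul_nat_card_alternatingGroup, Nat.card_perm, Nat.card_eq_fintype_card,
      Fintype.card_fin]
  have hApos : Nat.card (alternatingGroup (Fin (n - 3))) ≠ 0 := Nat.card_pos.ne'
  have htt : Cfsg.Agent.Lib.Helper5.NilSym.tt (n - 3) =
      1 + padicValNat 2 (Nat.card (alternatingGroup (Fin (n - 3)))) := by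
    unfold Cfsg.Agent.Lib.Helper5.NilSym.tt
    rw [← h2A, padicValNat.mul (by norm_num) hApos]
    simp
  have hP : Nat.card P = 2 ^ (Cfsg.Agent.Lib.Helper5.NilSym.tt (n - 3) - 1) := by
    rw [P.card_eq_multiplicity, Nat.factorization_def _ Nat.prime_two, htt, Nat.add_sub_cancel_left]
  refine ⟨?_, ?_, ?_⟩
  · intro N hN
    haveI := hN
    have hev : ∀ g : N, Equiv.Perm.sign (MulAction.toPerm g : Equiv.Perm (Fin n)) = 1 := by
      intro g
      have h1 : (MulAction.toPerm g : Equiv.Perm (Fin n)) =
          ((g : alternatingGroup (Fin n)) : Equiv.Perm (Fin n)) := by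
        ext x
        rfl
      rw [h1]
      exact Equiv.Perm.mem_alternatingGroup.1 (g : alternatingGroup (Fin n)).2
    have hA := Cfsg.Agent.Lib.Helper5.NilSym.alt_bound n N (Fin n) (Fintype.card_fin n) hev
    rcases hA with h | h
    · rw [Cfsg.Agent.Lib.Helper5.NilSym.FF_of_mod3 hn, htt, pow_add, pow_one] at h
      rw [hP, htt, Nat.add_sub_cancel_left]
      omega
    · unfold Cfsg.Agent.Lib.Helper5.NilSym.Bad at h
      omega
  · exact Cfsg.Agent.Lib.Helper5.NilSym.exists_ext_alt (n - 3) n (by omega) P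
  · intro N₁ N₂ hN₁ hN₂ h1 h2
    haveI := hN₁
    haveI := hN₂
    rw [hP] at h1 h2
    exact Cfsg.Agent.Lib.Helper5.NilSym.conj_of_max_alt hn h7 N₁ N₂ h1 h2

end Cfsg.Agent.S2256
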