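import Cfsg.Statements.S2257
import Cfsg.Agent.Lib.Helper5.SL2Char2d

set_option autoImplicit false
open Cfsg

namespace Cfsg.Agent.S2257


open Matrix Cfsg.Agent.Lib.Helper5 Cfsg.Agent.Lib.Helper5.SL2Char2

section

variable {F : Type*} [Field F]

/-- in characteristic two `SL₂ → PSL₂` is an isomorphism -/
noncomputable def pslEquiv (h2 : (2 : F) = 0) :
    SpecialLinearGroup (Fin 2) F ≃* ProjectiveSpecialLinearGroup (Fin 2) F :=
  MulEquiv.ofBijective (QuotientGroup.mk' (Subgroup.center (SpecialLinearGroup (Fin 2) F))) (by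
    refine ⟨?_, QuotientGroup.mk'_surjective _⟩
    rw [injective_iff_map_eq_one]
    intro g hg
    rw [QuotientGroup.mk'_apply, QuotientGroup.eq_one_iff,
      Matrix.SpecialLinearGroup.mem_center_iff] at hg
    obtain ⟨r, -, hr⟩ := hg
    rw [← scalar_iff_one h2]
    refine ⟨r, ?_⟩
    rw [← hr, Matrix.scalar_apply, ← Matrix.smul_one_eq_diagonal])

variable [Fintype F] [DecidableEq F]

theorem card_sol_conj (c x x₀ : SpecialLinearGroup (Fin 2) F) (hc : c * x * c⁻¹ = x₀) :
    Nat.card {y : SpecialLinearGroup (Fin 2) F //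
        Group.IsSolvable (Subgroup.closure ({x, y} : Set (SpecialLinearGroup (Fin 2) F)))} =
      Nat.card {y : SpecialLinearGroup (Fin 2) F //
        Group.IsSolvable (Subgroup.closure ({x₀, y} : Set (SpecialLinearGroup (Fin 2) F)))} := by
  have h := card_sol_congr (MulAut.conj c) x
  rw [MulAut.conj_apply, hc] at h
  exact h.symm

/-- involutions -/
theorem card_sol_involution (h2 : (2 : F) = 0) (x : SpecialLinearGroup (Fin 2) F) (hx1 : x ≠ 1)
    (hx : x * x = 1) :
    Nat.card {y : SpecialLinearGroup (Fin 2) F //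
        Group.IsSolvable (Subgroup.closure ({x, y} : Set (SpecialLinearGroup (Fin 2) F)))} =
      3 * Fintype.card F * (Fintype.card F - 1) := by
  have ht := (mul_self_eq_one_iff h2 x).1 hx
  have hconj := isConj_of_trace_zero_even h2 x u0 (not_scalar_of_ne_one h2 hx1)
    (not_scalar_of_ne_one h2 u0_ne_one) ht (trace_u0 h2)
  obtain ⟨c, hc⟩ := isConj_iff.1 hconj
  rw [card_sol_conj c x u0 hc, card_sol_u0 h2]

/-- split elements -/
theorem card_sol_split (h2 : (2 : F) = 0) (hq : Even (Fintype.card F))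
    (x : SpecialLinearGroup (Fin 2) F) (hx1 : x ≠ 1)
    (hx : x ^ (Fintype.card F - 1) = 1) :
    Nat.card {y : SpecialLinearGroup (Fin 2) F //
        Group.IsSolvable (Subgroup.closure ({x, y} : Set (SpecialLinearGroup (Fin 2) F)))} =
      2 * Fintype.card F * (Fintype.card F - 1) := by
  have hq2 : 2 ≤ Fintype.card F := Fintype.one_lt_card
  obtain ⟨k, hk⟩ := even_iff_two_dvd.1 hq
  have ht : (x : Matrix (Fin 2) (Fin 2) F).trace ≠ 0 := by
    apply trace_ne_zero_of_pow_odd h2 x hx1 (k - 1)
    have : 2 * (k - 1) + 1 = Fintype.card F - 1 := by omega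
    rw [this]
    exact hx
  have ht4 := (sq_ne_four_iff h2 _).2 ht
  -- the characteristic polynomial has a root
  obtain ⟨μ, hμ⟩ : ∃ μ : F, μ ^ 2 - (x : Matrix (Fin 2) (Fin 2) F).trace * μ + 1 = 0 := by
    by_contra hno
    push Not at hno
    have h4 : rootCount (x : Matrix (Fin 2) (Fin 2) F).trace = 0 := by
      unfold rootCount
      rw [Finset.card_eq_zero, Finset.filter_eq_empty_iff]
      intro μ _
      exact hno μ
    have h3 := card_centralizer_generic x ht4
    rw [h4, add_zero] at h3
    have hxZ : x ∈ Subgroup.centralizer ({x} : Set (SpecialLinearGroup (Fin 2) F)) := by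
      rw [Subgroup.mem_centralizer_singleton_iff]
    have h5 : (⟨x, hxZ⟩ : Subgroup.centralizer ({x} : Set (SpecialLinearGroup (Fin 2) F))) ^
        (Fintype.card F + 1) = 1 := by
      rw [← h3]
      exact pow_card_eq_one'
    have h6 : x ^ (Fintype.card F + 1) = 1 := by
      have := congrArg Subtype.val h5
      simpa using this
    have h7 : x ^ (Fintype.card F + 1) = x ^ (Fintype.card F - 1) * (x * x) := by
      rw [← pow_two, ← pow_add]
      congr 1
      omega
    rw [h6, hx, one_mul] at h7
    exact ht ((mul_self_eq_one_iff h2 x).1 h7.symm)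
  have hμ0 : μ ≠ 0 := by
    rintro rfl
    simp at hμ
  have hl : Units.mk0 μ hμ0 ≠ 1 := by
    intro h
    have h1 : μ = 1 := by
      have := congrArg Units.val h
      simpa using this
    apply ht
    rw [h1] at hμ
    linear_combination -hμ + h2
  have htr : (x : Matrix (Fin 2) (Fin 2) F).trace =
      ((dg (Units.mk0 μ hμ0) : SpecialLinearGroup (Fin 2) F) : Matrix (Fin 2) (Fin 2) F).trace := by
    rw [dg_coe, Matrix.trace_fin_two_of]
    simp only [Units.val_mk0, Units.val_inv_eq_inv_val]
    field_simp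
    linear_combination -hμ
  obtain ⟨c, hc⟩ := isConj_iff.1 (isConj_of_trace_eq x _ htr ht4)
  rw [card_sol_conj c x _ hc, card_sol_dg h2 _ hl]

end



/-- Let G = PSL_2(F) with F a field of order q = 2^p, p prime, and for x ∈ G call the solubilizer of x the set of y ∈ G such that x and y generate a solvable subgroup. Then the solubilizer of an involution has 3q(q − 1) elements; that of a non-identity element of order dividing q − 1 has 2q(q − 1) elements; and that of a non-identity element of order dividing q + 1 has 2(q + 1) elements. -/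
theorem result (p : ℕ) (hp : p.Prime) {F : Type*} [Field F] [Fintype F]
    (hF : Fintype.card F = 2 ^ p) (x : Matrix.ProjectiveSpecialLinearGroup (Fin 2) F) :
    (orderOf x = 2 → Nat.card {y : Matrix.ProjectiveSpecialLinearGroup (Fin 2) F // Group.IsSolvable ↥(Subgroup.closure ({x, y} : Set (Matrix.ProjectiveSpecialLinearGroup (Fin 2) F)))} = 3 * 2 ^ p * (2 ^ p - 1)) ∧
    (x ≠ 1 → orderOf x ∣ 2 ^ p - 1 → Nat.card {y : Matrix.ProjectiveSpecialLinearGroup (Fin 2) F // Group.IsSolvable ↥(Subgroup.closure ({x, y} : Set (Matrix.ProjectiveSpecialLinearGroup (Fin 2) F)))} = 2 * 2 ^ p * (2 ^ p - 1)) ∧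
    (x ≠ 1 → orderOf x ∣ 2 ^ p + 1 → Nat.card {y : Matrix.ProjectiveSpecialLinearGroup (Fin 2) F // Group.IsSolvable ↥(Subgroup.closure ({x, y} : Set (Matrix.ProjectiveSpecialLinearGroup (Fin 2) F)))} = 2 * (2 ^ p + 1)) := by
  classical
  have h2 : (2 : F) = 0 := by
    have h := Nat.cast_card_eq_zero F
    rw [hF] at h
    push_cast at h
    exact (pow_eq_zero_iff hp.ne_zero).1 h
  have hq : Even (Fintype.card F) := by
    rw [hF]
    exact (Nat.even_pow' hp.ne_zero).2 even_two
  obtain ⟨x', rfl⟩ := (pslEquiv h2).surjective x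
  rw [card_sol_congr (pslEquiv h2) x', MulEquiv.orderOf_eq, ← hF]
  have hne : (pslEquiv h2) x' ≠ 1 ↔ x' ≠ 1 := by
    rw [Ne, Ne, MulEquiv.map_eq_one_iff]
  rw [hne]
  refine ⟨?_, ?_, ?_⟩
  · intro ho
    apply card_sol_involution h2 x'
    · intro h
      rw [h, orderOf_one] at ho
      omega
    · rw [← pow_two]
      have := pow_orderOf_eq_one x'
      rw [ho] at this
      exact this
  · intro hx1 ho
    exact card_sol_split h2 hq x' hx1 (orderOf_dvd_iff_pow_eq_one.1 ho)
  · intro hx1 ho
    exact card_sol_nonsplit h2 hq x' hx1 (orderOf_dvd_iff_pow_eq_one.1 ho)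


end Cfsg.Agent.S2257
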