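import Cfsg.Statements.S2260
import Mathlib

set_option autoImplicit false
open Cfsg

namespace Cfsg.Agent.S2260

open Matrix

/-- A nilpotent `d × d` matrix over a field has vanishing `d`-th power. -/
theorem nilpotent_pow_card {F : Type*} [Field F] (d : ℕ) (N : Matrix (Fin d) (Fin d) F)
    (hN : IsNilpotent N) : N ^ d = 0 := by
  obtain ⟨m, hm⟩ := hN
  set f : Module.End F (Fin d → F) := Matrix.toLin' N with hf
  have hfpow : ∀ k, f ^ k = Matrix.toLin' (N ^ k) := by
    intro k
    induction k with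
    | zero => simp [Module.End.one_eq_id]
    | succ k ih => rw [pow_succ, ih, pow_succ, Matrix.toLin'_mul, hf]; rfl
  have h1 : f ^ m = 0 := by rw [hfpow, hm]; simp
  have h2 := Module.End.ker_pow_le_ker_pow_finrank f m
  rw [h1, LinearMap.ker_zero, top_le_iff, LinearMap.ker_eq_top] at h2
  simp only [Module.finrank_fin_fun] at h2
  rw [hfpow] at h2
  exact (LinearEquiv.map_eq_zero_iff Matrix.toLin').1 h2

theorem pow_eq_zero_of_le' {F : Type*} [Field F] {d : ℕ} (N : Matrix (Fin d) (Fin d) F)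
    {i j : ℕ} (hij : i ≤ j) (h : N ^ i = 0) : N ^ j = 0 := by
  obtain ⟨k, rfl⟩ := Nat.exists_eq_add_of_le hij
  rw [pow_add, h, zero_mul]

theorem result {F : Type*} [Field F] [Finite F] (p : ℕ) [Fact p.Prime] [CharP F p] (d : ℕ)
    (u : GL (Fin d) F) (hu : IsNilpotent ((u : Matrix (Fin d) (Fin d) F) - 1)) :
    orderOf u ≤ p ^ Nat.clog p d ∧
    (((u : Matrix (Fin d) (Fin d) F) - 1) ^ (d - 1) ≠ 0 → orderOf u = p ^ Nat.clog p d) := by
  have hp : p.Prime := Fact.out
  set M : Matrix (Fin d) (Fin d) F := (u : Matrix (Fin d) (Fin d) F) with hM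
  set N := M - 1 with hN
  have hNd : N ^ d = 0 := nilpotent_pow_card d N hu
  -- the key identity
  have hkey : ∀ k : ℕ, M ^ (p ^ k) = 1 + N ^ (p ^ k) := by
    intro k
    rcases isEmpty_or_nonempty (Fin d) with hd | hd
    · exact Subsingleton.elim _ _
    · have hMN : M = N + 1 := by rw [hN]; abel
      rw [hMN, add_pow_char_pow_of_commute p k (Commute.one_right _), one_pow, add_comm]
  have hupow : ∀ k : ℕ, u ^ (p ^ k) = 1 ↔ N ^ (p ^ k) = 0 := by
    intro k
    rw [← Units.val_inj, Units.val_pow_eq_pow_val, Units.val_one, ← hM, hkey]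
    constructor
    · intro h; simpa using h
    · intro h; rw [h, add_zero]
  have hle : d ≤ p ^ Nat.clog p d := Nat.le_pow_clog hp.one_lt d
  have h1 : u ^ (p ^ Nat.clog p d) = 1 := (hupow _).2 (pow_eq_zero_of_le' N hle hNd)
  have hdvd : orderOf u ∣ p ^ Nat.clog p d := orderOf_dvd_of_pow_eq_one h1
  refine ⟨Nat.le_of_dvd (pow_pos hp.pos _) hdvd, ?_⟩
  intro hne
  obtain ⟨j, hj, hoj⟩ := (Nat.dvd_prime_pow hp).1 hdvd
  rcases Nat.lt_or_ge j (Nat.clog p d) with hlt | hge
  · exfalso
    have hd1 : 1 < d := by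
      by_contra hcon
      push Not at hcon
      rw [Nat.clog_of_right_le_one hcon] at hlt
      omega
    have h2 : p ^ (Nat.clog p d).pred < d := Nat.pow_pred_clog_lt_self hp.one_lt hd1
    have h3 : p ^ j ≤ p ^ (Nat.clog p d).pred :=
      Nat.pow_le_pow_right hp.pos (by rw [Nat.pred_eq_sub_one]; omega)
    have h4 : p ^ j ≤ d - 1 := by omega
    have h5 : N ^ (p ^ j) = 0 := (hupow j).1 (by rw [← hoj]; exact pow_orderOf_eq_one u)
    exact hne (pow_eq_zero_of_le' N h4 h5)
  · have : j = Nat.clog p d := le_antisymm hj hge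
    rw [hoj, this]

end Cfsg.Agent.S2260
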