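import Mathlib
import Cfsg.Statements.S2261

set_option autoImplicit false
open Cfsg

namespace Cfsg.Agent.S2261

open Module Polynomial

section upper
variable {F : Type*} [Field F] {d : ℕ}

/-- Every power of a `d × d` matrix is a combination of the first `d` powers. -/
theorem pow_eq_sum (hd : 1 ≤ d) (M : Matrix (Fin d) (Fin d) F) (k : ℕ) :
    M ^ k = ∑ i : Fin d, ((X ^ k %ₘ M.charpoly).coeff i) • M ^ (i : ℕ) := by
  have hmonic := Matrix.charpoly_monic M
  have hne1 : M.charpoly ≠ 1 := by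
    intro h
    have := Matrix.charpoly_natDegree_eq_dim M
    rw [h, natDegree_one, Fintype.card_fin] at this
    omega
  have hdeg : (X ^ k %ₘ M.charpoly).natDegree < d := by
    have := natDegree_modByMonic_lt (X ^ k) hmonic hne1
    rwa [Matrix.charpoly_natDegree_eq_dim, Fintype.card_fin] at this
  have h1 : aeval M (X ^ k %ₘ M.charpoly) = aeval M (X ^ k : F[X]) :=
    aeval_modByMonic_eq_self_of_root (Matrix.aeval_self_charpoly M)
  rw [map_pow, aeval_X] at h1
  rw [← h1, aeval_eq_sum_range' hdeg, Fin.sum_univ_eq_sum_range (fun i => (X ^ k %ₘ M.charpoly).coeff i • M ^ i) d]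

theorem smul_one_ne_zero (hd : 1 ≤ d) (c : F) (hc : c ≠ 0) :
    (c • (1 : Matrix (Fin d) (Fin d) F)) ≠ 0 := by
  intro h
  have := congrFun (congrFun h ⟨0, hd⟩) ⟨0, hd⟩
  simp at this
  exact hc this

/-- Key injectivity statement. -/
theorem key_inj (hd : 1 ≤ d) (g : GL (Fin d) F) (o : ℕ)
    (ho : ∀ j : ℕ, (QuotientGroup.mk g : GL (Fin d) F ⧸ Subgroup.center (GL (Fin d) F)) ^ j = 1 → o ∣ j)
    (k k' : ℕ) (hkk : k ≤ k') (hk' : k' < o) (c c' : Fˣ)
    (h : (c : F) • (g : Matrix (Fin d) (Fin d) F) ^ k = (c' : F) • (g : Matrix (Fin d) (Fin d) F) ^ k') :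
    k = k' ∧ c = c' := by
  set M := (g : Matrix (Fin d) (Fin d) F) with hM
  have hMk : ∀ j, M ^ j = ((g ^ j : GL (Fin d) F) : Matrix (Fin d) (Fin d) F) := fun j => by
    rw [Units.val_pow_eq_pow_val]
  have hinv : ∀ j, ((g ^ j)⁻¹ : GL (Fin d) F).val * M ^ j = 1 := fun j => by
    rw [hMk, ← Units.val_mul, inv_mul_cancel, Units.val_one]
  -- M^(k'-k) is scalar
  have h1 : M ^ (k' - k) = ((c : F) / (c' : F)) • (1 : Matrix (Fin d) (Fin d) F) := by
    have hsplit : M ^ k' = M ^ k * M ^ (k' - k) := by rw [← pow_add]; congr 1; omega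
    rw [hsplit] at h
    have h2 := congrArg (fun N => ((g ^ k)⁻¹ : GL (Fin d) F).val * N) h
    simp only [Matrix.mul_smul, ← Matrix.mul_assoc, hinv, Matrix.one_mul] at h2
    -- h2 : c • 1 = c' • M^(k'-k)
    rw [div_eq_inv_mul, mul_smul, h2, smul_smul, inv_mul_cancel₀ c'.ne_zero, one_smul]
  have h3 : g ^ (k' - k) ∈ Subgroup.center (GL (Fin d) F) := by
    rw [Matrix.GeneralLinearGroup.mem_center_iff_val_mem_range_scalar]
    refine ⟨(c : F) / (c' : F), ?_⟩
    rw [← hMk, h1]
    rw [Matrix.smul_one_eq_diagonal]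
    rfl
  have h4 : (QuotientGroup.mk g : GL (Fin d) F ⧸ Subgroup.center (GL (Fin d) F)) ^ (k' - k) = 1 := by
    rw [← QuotientGroup.mk_pow, QuotientGroup.eq_one_iff]
    exact h3
  have h5 := ho _ h4
  have hk : k = k' := by
    have : k' - k = 0 := Nat.eq_zero_of_dvd_of_lt h5 (by omega)
    omega
  refine ⟨hk, ?_⟩
  subst hk
  have h6 := congrArg (fun N => ((g ^ k)⁻¹ : GL (Fin d) F).val * N) h
  simp only [Matrix.mul_smul, hinv] at h6
  have h7 := congrFun (congrFun h6 ⟨0, hd⟩) ⟨0, hd⟩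
  simp at h7
  exact Units.ext h7

theorem upper_bound [Fintype F] (hd : 1 ≤ d) (g : GL (Fin d) F) :
    (Fintype.card F - 1) *
      orderOf (QuotientGroup.mk g : GL (Fin d) F ⧸ Subgroup.center (GL (Fin d) F))
      ≤ Fintype.card F ^ d - 1 := by
  classical
  set gb : GL (Fin d) F ⧸ Subgroup.center (GL (Fin d) F) := QuotientGroup.mk g with hgb
  set o := orderOf gb with ho
  set M := (g : Matrix (Fin d) (Fin d) F) with hM
  have hodvd : ∀ j : ℕ, gb ^ j = 1 → o ∣ j := fun j hj => orderOf_dvd_of_pow_eq_one hj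
  let φ : Option (Fin o × Fˣ) → (Fin d → F) := fun a =>
    match a with
    | none => 0
    | some (k, c) => fun i => (c : F) * (X ^ (k : ℕ) %ₘ M.charpoly).coeff i
  let L : (Fin d → F) → Matrix (Fin d) (Fin d) F := fun v => ∑ i : Fin d, v i • M ^ (i : ℕ)
  have hL0 : L (φ none) = 0 := by simp [L, φ]
  have hLs : ∀ (k : Fin o) (c : Fˣ), L (φ (some (k, c))) = (c : F) • M ^ (k : ℕ) := by
    intro k c
    simp only [L, φ]
    rw [pow_eq_sum hd M k, Finset.smul_sum]
    apply Finset.sum_congr rfl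
    intro i _
    rw [mul_smul]
  have hne : ∀ (k : Fin o) (c : Fˣ), (c : F) • M ^ (k : ℕ) ≠ 0 := by
    intro k c h
    have h1 : M ^ (k : ℕ) = ((g ^ (k : ℕ) : GL (Fin d) F) : Matrix (Fin d) (Fin d) F) := by
      rw [Units.val_pow_eq_pow_val]
    have h2 := congrArg (fun N => ((g ^ (k : ℕ))⁻¹ : GL (Fin d) F).val * N) h
    simp only [Matrix.mul_smul, Matrix.mul_zero] at h2
    rw [h1, ← Units.val_mul, inv_mul_cancel, Units.val_one] at h2
    have h3 := congrFun (congrFun h2 ⟨0, hd⟩) ⟨0, hd⟩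
    simp at h3
  have hinj : Function.Injective φ := by
    intro a b hab
    have hL := congrArg L hab
    rcases a with _ | ⟨k, c⟩ <;> rcases b with _ | ⟨k', c'⟩
    · rfl
    · rw [hL0, hLs] at hL
      exact absurd hL.symm (hne k' c')
    · rw [hL0, hLs] at hL
      exact absurd hL (hne k c)
    · rw [hLs, hLs] at hL
      rcases le_total (k : ℕ) (k' : ℕ) with hkk | hkk
      · obtain ⟨h1, h2⟩ := key_inj hd g o hodvd k k' hkk k'.2 c c' hL
        rw [Fin.ext h1, h2]
      · obtain ⟨h1, h2⟩ := key_inj hd g o hodvd k' k hkk k.2 c' c hL.symm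
        rw [Fin.ext h1, h2]
  have hcard := Fintype.card_le_of_injective φ hinj
  rw [Fintype.card_option, Fintype.card_prod, Fintype.card_fin, Fintype.card_units,
    Fintype.card_fun, Fintype.card_fin] at hcard
  rw [Nat.mul_comm]
  omega

end upper

section singer
variable {F : Type*} [Field F] [Fintype F] {d : ℕ}

theorem exists_singer (hd : 1 ≤ d) :
    ∃ g : GL (Fin d) F, Fintype.card F ^ d - 1 ≤ (Fintype.card F - 1) *
      orderOf (QuotientGroup.mk g : GL (Fin d) F ⧸ Subgroup.center (GL (Fin d) F)) := by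
  classical
  obtain ⟨p, hp⟩ := CharP.exists F
  have := hp
  have hprime : p.Prime := CharP.char_is_prime F p
  have := Fact.mk hprime
  have : NeZero d := ⟨by omega⟩
  let E := FiniteField.Extension F p d
  have hfr : finrank F E = d := FiniteField.finrank_extension F p d
  have hcardE : Nat.card E = Fintype.card F ^ d := by
    rw [FiniteField.natCard_extension F p d, Nat.card_eq_fintype_card]
  let b : Basis (Fin d) F E := Module.finBasisOfFinrankEq F E hfr
  let ρ : E →ₐ[F] Matrix (Fin d) (Fin d) F := Algebra.leftMulMatrix b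
  have hρinj : Function.Injective ρ := Algebra.leftMulMatrix_injective b
  have : Fintype E := Fintype.ofFinite E
  obtain ⟨θ, hθ⟩ := IsCyclic.exists_generator (α := Eˣ)
  have hθord : orderOf θ = Fintype.card F ^ d - 1 := by
    rw [orderOf_eq_card_of_forall_mem_zpowers hθ, Nat.card_units, hcardE]
  let g : GL (Fin d) F := Units.map ρ.toRingHom.toMonoidHom θ
  have hgval : ∀ j : ℕ, ((g ^ j : GL (Fin d) F) : Matrix (Fin d) (Fin d) F) = ρ ((θ : E) ^ j) := by
    intro j
    rw [Units.val_pow_eq_pow_val, map_pow]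
    rfl
  refine ⟨g, ?_⟩
  set gb : GL (Fin d) F ⧸ Subgroup.center (GL (Fin d) F) := QuotientGroup.mk g with hgb
  set o := orderOf gb with ho
  have hopos : 0 < o := orderOf_pos gb
  have h1 : gb ^ o = 1 := pow_orderOf_eq_one gb
  rw [hgb, ← QuotientGroup.mk_pow, QuotientGroup.eq_one_iff,
    Matrix.GeneralLinearGroup.mem_center_iff_val_mem_range_scalar] at h1
  obtain ⟨c, hc⟩ := h1
  rw [hgval] at hc
  have hc' : ρ (algebraMap F E c) = ρ ((θ : E) ^ o) := by
    rw [← hc, AlgHom.commutes]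
    rfl
  have h2 : algebraMap F E c = (θ : E) ^ o := hρinj hc'
  have hc0 : c ≠ 0 := by
    rintro rfl
    rw [map_zero] at h2
    exact (pow_ne_zero o θ.ne_zero) h2.symm
  have h3 : (θ : E) ^ (o * (Fintype.card F - 1)) = 1 := by
    rw [pow_mul, ← h2, ← map_pow, FiniteField.pow_card_sub_one_eq_one c hc0, map_one]
  have h4 : θ ^ (o * (Fintype.card F - 1)) = 1 := by
    apply Units.ext
    rw [Units.val_pow_eq_pow_val, h3, Units.val_one]
  have h5 := orderOf_dvd_of_pow_eq_one h4
  rw [hθord] at h5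
  have hq : 1 < Fintype.card F := Fintype.one_lt_card
  have h6 : 0 < o * (Fintype.card F - 1) := Nat.mul_pos hopos (by omega)
  have := Nat.le_of_dvd h6 h5
  rw [Nat.mul_comm]
  exact this

end singer

/-- Let F be a finite field with q elements and d ≥ 1. Then every element of PGL_d(F) = GL_d(F)/Z has order at most (q^d − 1)/(q − 1), and some element (the image of a Singer cycle) has exactly this order. -/
theorem result {F : Type*} [Field F] [Fintype F] (d : ℕ) (hd : 1 ≤ d) :
    (∀ g : (GL (Fin d) F ⧸ Subgroup.center (GL (Fin d) F)), (Fintype.card F - 1) * orderOf g ≤ Fintype.card F ^ d - 1) ∧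
    (∃ g : (GL (Fin d) F ⧸ Subgroup.center (GL (Fin d) F)), (Fintype.card F - 1) * orderOf g = Fintype.card F ^ d - 1) := by
  constructor
  · intro gb
    obtain ⟨g, rfl⟩ := QuotientGroup.mk_surjective gb
    exact upper_bound hd g
  · obtain ⟨g, hg⟩ := exists_singer (F := F) hd
    exact ⟨QuotientGroup.mk g, le_antisymm (upper_bound hd g) hg⟩

end Cfsg.Agent.S2261
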