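import Cfsg.Statements.S2262
import Cfsg.Agent.S2261
import Cfsg.Agent.Lib.Helper7.MeoAutGrp
import Cfsg.Agent.Lib.Lead.MeoN1
import Cfsg.Agent.Lib.Lead.AutMeoNL
import Cfsg.Agent.Lib.Helper4.MeoF3
import Cfsg.Agent.Lib.Helper4.AutMeoD
import Cfsg.Agent.Lib.Helper4.AutMeoB
import Cfsg.Agent.Lib.Helper4.AutMeoU3

set_option autoImplicit false
open Cfsg

namespace Cfsg.Agent.S2262

/-- Let F be a finite field with q elements and d ≥ 2, with q ≥ 4 when d = 2, and (d, q) ∉ {(2, 4), (3, 2)}. Then every automorphism of the simple group PSL_d(F) has order at most (q^d − 1)/(q − 1) as an element of the automorphism group, and some automorphism has exactly this order. -/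
theorem result {F : Type*} [Field F] [Fintype F] (d : ℕ) (hd : 2 ≤ d)
    (h2 : d = 2 → 4 ≤ Fintype.card F) (h24 : ¬ (d = 2 ∧ Fintype.card F = 4)) (h32 : ¬ (d = 3 ∧ Fintype.card F = 2)) :
    (∀ φ : MulAut (Matrix.ProjectiveSpecialLinearGroup (Fin d) F),
      (Fintype.card F - 1) * orderOf φ ≤ Fintype.card F ^ d - 1) ∧
    (∃ φ : MulAut (Matrix.ProjectiveSpecialLinearGroup (Fin d) F),
      (Fintype.card F - 1) * orderOf φ = Fintype.card F ^ d - 1) := by
  refine ⟨fun φ => ?_, ?_⟩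
  · exact Cfsg.Agent.Lib.Meo.aut_upper
      (fun q hq P hP => Cfsg.Agent.Lib.MeoN1.plus_lcm_bound q hq P hP)
      (fun f hf h1 h2 h3 => Cfsg.Agent.Lib.MeoF3.sr_irreducible_dvd f hf h1 h2 h3)
      (fun K inst => by
        letI := inst
        exact fun f hf h1 h2 h3 => Cfsg.Agent.Lib.MeoF3.sr_irreducible_dvd f hf h1 h2 h3)
      (fun σ => Cfsg.Agent.Lib.AutMeoD.descent σ)
      (fun K inst => by
        letI := inst
        exact fun μ h0 hd => Cfsg.Agent.Lib.AutMeoB.poly_pgl_bound μ h0 hd)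
      (fun d Q e k a b c dd ee => Cfsg.Agent.Lib.AutMeoNL.nl1 d Q e k a b c dd ee)
      (fun d Q e k a b c dd ee => Cfsg.Agent.Lib.AutMeoNL.nl2 d Q e k a b c dd ee)
      (fun d q k a b c => Cfsg.Agent.Lib.AutMeoNL.nl3 d q k a b c)
      (fun d Q k a b c dd => Cfsg.Agent.Lib.AutMeoNL.nl4 d Q k a b c dd)
      (fun hF σ hσ μ h0 hdeg hsr => Cfsg.Agent.Lib.AutMeoU3.u3_case hF σ hσ μ h0 hdeg hsr)
      d hd h24 h32 φ
  · exact Cfsg.Agent.Lib.Meo.aut_exists d hd (Cfsg.Agent.S2261.result d (by omega)).2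

end Cfsg.Agent.S2262
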