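import Cfsg.Statements.S2263
import Cfsg.Agent.Lib.Helper2.PGUMeoAsm

set_option autoImplicit false
open Cfsg

namespace Cfsg.Agent.S2263

/-- Let q = p^f with p prime and f ≥ 1, F a field with q² elements, d ≥ 3 with (d, q) ≠ (3, 2), and PGU_d(q) the general unitary group of the standard Hermitian form modulo its centre. Then the largest order of an element of PGU_d(q) is: q^(d−1) − 1 if d is odd and f ≥ 2; (p^(d−2) + 1)p if d is odd and f = 1; q^(d−1) + 1 if d is even and q > 2; 4(2^(d−3) + 1) if d is even and q = 2. -/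
theorem result {F : Type*} [Field F] [Fintype F] (p f d : ℕ) (hp : p.Prime) (hf : 1 ≤ f) (q : ℕ) (hq : q = p ^ f)
    (hF : Fintype.card F = q ^ 2) (hd : 3 ≤ d) (h32 : ¬ (d = 3 ∧ q = 2)) :
    (Odd d → 2 ≤ f → (∀ g : (↥(Cfsg.GU d F q) ⧸ Subgroup.center ↥(Cfsg.GU d F q)), orderOf g ≤ q ^ (d - 1) - 1) ∧ ∃ g : (↥(Cfsg.GU d F q) ⧸ Subgroup.center ↥(Cfsg.GU d F q)), orderOf g = q ^ (d - 1) - 1) ∧
    (Odd d → f = 1 → (∀ g : (↥(Cfsg.GU d F q) ⧸ Subgroup.center ↥(Cfsg.GU d F q)), orderOf g ≤ (p ^ (d - 2) + 1) * p) ∧ ∃ g : (↥(Cfsg.GU d F q) ⧸ Subgroup.center ↥(Cfsg.GU d F q)), orderOf g = (p ^ (d - 2) + 1) * p) ∧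
    (Even d → 2 < q → (∀ g : (↥(Cfsg.GU d F q) ⧸ Subgroup.center ↥(Cfsg.GU d F q)), orderOf g ≤ q ^ (d - 1) + 1) ∧ ∃ g : (↥(Cfsg.GU d F q) ⧸ Subgroup.center ↥(Cfsg.GU d F q)), orderOf g = q ^ (d - 1) + 1) ∧
    (Even d → q = 2 → (∀ g : (↥(Cfsg.GU d F q) ⧸ Subgroup.center ↥(Cfsg.GU d F q)), orderOf g ≤ 4 * (2 ^ (d - 3) + 1)) ∧ ∃ g : (↥(Cfsg.GU d F q) ⧸ Subgroup.center ↥(Cfsg.GU d F q)), orderOf g = 4 * (2 ^ (d - 3) + 1)) := by
  have hup := Lib.PGUMeo.upper hF p f d hp hf hq hd h32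
  refine ⟨fun hodd h2f => ⟨fun g => ?_, Lib.PGUMeo.exists_odd_two hF d hd hodd⟩,
    fun hodd hf1 => ⟨fun g => ?_, Lib.PGUMeo.exists_odd_one hF p hp (by rw [hq, hf1, pow_one]) d hd hodd⟩,
    fun hev h2q => ⟨fun g => ?_, Lib.PGUMeo.exists_even_big hF d hd hev⟩,
    fun hev hq2 => ⟨fun g => ?_, ?_⟩⟩
  · have h := hup g
    rw [Lib.PGUMeo.Mbound_odd_two hodd h2f, ← hq] at h
    exact h
  · have h := hup g
    rw [Lib.PGUMeo.Mbound_odd_one hodd hf1] at h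
    exact h
  · have h := hup g
    rw [Lib.PGUMeo.Mbound_even_big hev (by rw [← hq]; exact h2q), ← hq] at h
    exact h
  · have h := hup g
    rw [Lib.PGUMeo.Mbound_even_two hev (by rw [← hq]; exact hq2)] at h
    exact h
  · subst hq2
    exact Lib.PGUMeo.exists_even_two hF d hd hev

end Cfsg.Agent.S2263
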