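import Cfsg.Statements.S2264
import Cfsg.Agent.Lib.Helper7.MeoSp
import Cfsg.Agent.Lib.Lead.MeoN1
import Cfsg.Agent.Lib.Helper4.MeoF3

set_option autoImplicit false
open Cfsg

namespace Cfsg.Agent.S2264

/-- Let F be a finite field with q elements and m ≥ 2. Then every element g of PSp_2m(F) satisfies (q − 1)·|g| ≤ q^(m+1), i.e. has order at most q^(m+1)/(q − 1). -/
theorem result {F : Type*} [Field F] [Fintype F] (m : ℕ) (hm : 2 ≤ m) (g : Cfsg.PSp m F) :
    (Fintype.card F - 1) * orderOf g ≤ Fintype.card F ^ (m + 1) := by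
  exact Cfsg.Agent.Lib.Meo.psp_bound
    (fun q hq P hP => Cfsg.Agent.Lib.MeoN1.plus_lcm_bound q hq P hP)
    (fun f hf h1 h2 h3 => Cfsg.Agent.Lib.MeoF3.sr_irreducible_dvd f hf h1 h2 h3) m hm g

end Cfsg.Agent.S2264
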