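import Cfsg.Statements.S2265
import Cfsg.Agent.Lib.Helper7.MeoOrth
import Cfsg.Agent.Lib.Lead.MeoN1
import Cfsg.Agent.Lib.Helper4.MeoF3
import Cfsg.Agent.Lib.Helper4.MeoPolar

set_option autoImplicit false
open Cfsg

namespace Cfsg.Agent.S2265

/-- Let F be a finite field with q elements. Every element g of PΩ_(2m+1)(F) (m ≥ 3, q odd), of PΩ⁺_2m(F) (m ≥ 4), or of PΩ⁻_2m(F) (m ≥ 4, the form having an anisotropic binary part) satisfies (q − 1)·|g| ≤ q^(m+1), i.e. has order at most q^(m+1)/(q − 1). -/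
theorem result {F : Type*} [Field F] [Fintype F] (m : ℕ) :
    (3 ≤ m → Odd (Fintype.card F) → ∀ g : Cfsg.POmega F (Cfsg.quadFormOdd m F),
      (Fintype.card F - 1) * orderOf g ≤ Fintype.card F ^ (m + 1)) ∧
    (4 ≤ m → ∀ g : Cfsg.POmega F (Cfsg.quadFormPlus m F),
      (Fintype.card F - 1) * orderOf g ≤ Fintype.card F ^ (m + 1)) ∧
    (4 ≤ m → ∀ a b : F, (∀ z₁ z₂ : F, z₁ ^ 2 + a * z₁ * z₂ + b * z₂ ^ 2 = 0 → z₁ = 0 ∧ z₂ = 0) →
      ∀ g : Cfsg.POmega F (Cfsg.quadFormMinus (m - 1) F a b),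
      (Fintype.card F - 1) * orderOf g ≤ Fintype.card F ^ (m + 1)) := by
  have hN1 : Cfsg.Agent.Lib.Meo.N1stmt :=
    fun q hq P hP => Cfsg.Agent.Lib.MeoN1.plus_lcm_bound q hq P hP
  have hF3 : Cfsg.Agent.Lib.Meo.F3stmt F :=
    fun f hf h1 h2 h3 => Cfsg.Agent.Lib.MeoF3.sr_irreducible_dvd f hf h1 h2 h3
  refine ⟨fun h3 ho g => ?_, fun h4 g => ?_, fun h4 a b hab g => ?_⟩
  · obtain ⟨B, hB, hnd⟩ := Cfsg.Agent.Lib.MeoPolar.polar_odd (F := F) m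
      (Cfsg.Agent.Lib.Meo.two_ne_zero_of_odd_card ho)
    refine Cfsg.Agent.Lib.Meo.pomega_bound hN1 hF3 _ B hB hnd m (Or.inr ⟨?_, h3, ho⟩) g
    simp only [Fintype.card_sum, Fintype.card_fin, Fintype.card_unit]
    omega
  · obtain ⟨B, hB, hnd⟩ := Cfsg.Agent.Lib.MeoPolar.polar_plus (F := F) m
    refine Cfsg.Agent.Lib.Meo.pomega_bound hN1 hF3 _ B hB hnd m (Or.inl ⟨?_, by omega⟩) g
    simp only [Fintype.card_sum, Fintype.card_fin]
    omega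
  · obtain ⟨B, hB, hnd⟩ := Cfsg.Agent.Lib.MeoPolar.polar_minus (F := F) (m - 1) a b hab
    refine Cfsg.Agent.Lib.Meo.pomega_bound hN1 hF3 _ B hB hnd m (Or.inl ⟨?_, by omega⟩) g
    simp only [Fintype.card_sum, Fintype.card_fin]
    omega

end Cfsg.Agent.S2265
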