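import Cfsg.Statements.S2268

set_option autoImplicit false
open Cfsg

namespace Cfsg.Agent.S2268

open Subgroup in
theorem key {G : Type*} [Group G] [Finite G] {p : ℕ} [Fact p.Prime]
    (P : Sylow p G) (hP : IsMulCommutative (P : Subgroup G)) (Q : Subgroup G)
    (hQ : Q ≤ (P : Subgroup G)) (g : G) (hg : g ∈ normalizer (Q : Set G)) :
    ∃ c ∈ centralizer (Q : Set G), c⁻¹ * g ∈ normalizer ((P : Subgroup G) : Set G) := by
  have hPC : (P : Subgroup G) ≤ centralizer (Q : Set G) := by
    intro x hx
    rw [mem_centralizer_iff]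
    intro q hq
    have := hP.is_comm.comm ⟨q, hQ hq⟩ ⟨x, hx⟩
    exact congrArg Subtype.val this
  have hgPC : ((g • P : Sylow p G) : Subgroup G) ≤ centralizer (Q : Set G) := by
    intro x hx
    rw [Sylow.coe_subgroup_smul] at hx
    obtain ⟨y, hy, rfl⟩ := hx
    rw [mem_centralizer_iff]
    intro q hq
    -- q * (g y g⁻¹) = (g y g⁻¹) * q
    have hq' : g⁻¹ * q * g ∈ Q := by
      have := (mem_set_normalizer_iff''.1 hg q).1 hq
      exact this
    have hc := (mem_centralizer_iff.1 (hPC hy)) _ hq'
    simp only [MulDistribMulAction.toMonoidEnd_apply, MulDistribMulAction.toMonoidHom_apply,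
      MulAut.smul_def, MulAut.conj_apply]
    calc q * (g * y * g⁻¹) = g * ((g⁻¹ * q * g) * y) * g⁻¹ := by group
      _ = g * (y * (g⁻¹ * q * g)) * g⁻¹ := by rw [hc]
      _ = g * y * g⁻¹ * q := by group
  obtain ⟨c, hc⟩ := MulAction.exists_smul_eq (centralizer (Q : Set G)) (P.subtype hPC)
    ((g • P).subtype hgPC)
  rw [Sylow.smul_subtype] at hc
  have hc' := Sylow.subtype_injective hc
  refine ⟨c, c.2, ?_⟩
  have h2 : ((c : G)⁻¹ * g) • P = P := by
    rw [mul_smul, ← hc']
    change (c : G)⁻¹ • ((c : G) • P) = P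
    rw [inv_smul_smul]
  exact Sylow.smul_eq_iff_mem_normalizer.1 h2

open Subgroup in
theorem result {G : Type*} [Group G] [Finite G] {p : ℕ} [Fact p.Prime]
    (P : Sylow p G) (hP : IsMulCommutative (P : Subgroup G)) (Q : Subgroup G) (hQ : Q ≤ (P : Subgroup G)) :
    Subgroup.normalizer (Q : Set G) =
      (Subgroup.normalizer (Q : Set G) ⊓ Subgroup.normalizer ((P : Subgroup G) : Set G)) ⊔ Subgroup.centralizer (Q : Set G) ∧
    ((Subgroup.centralizer (Q : Set G)).subgroupOf (Subgroup.normalizer (Q : Set G))).index ∣ ((Subgroup.centralizer ((P : Subgroup G) : Set G)).subgroupOf (Subgroup.normalizer ((P : Subgroup G) : Set G))).index := by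
  have hCN : centralizer (Q : Set G) ≤ normalizer (Q : Set G) := centralizer_le_normalizer _
  have h1 : Subgroup.normalizer (Q : Set G) =
      (Subgroup.normalizer (Q : Set G) ⊓ Subgroup.normalizer ((P : Subgroup G) : Set G)) ⊔ Subgroup.centralizer (Q : Set G) := by
    apply le_antisymm
    · intro g hg
      obtain ⟨c, hc, hcg⟩ := key P hP Q hQ g hg
      have : g = c * (c⁻¹ * g) := by group
      rw [this]
      apply mul_mem
      · exact mem_sup_right hc
      · apply mem_sup_left
        exact Subgroup.mem_inf.2 ⟨Subgroup.mul_mem _ (Subgroup.inv_mem _ (hCN hc)) hg, hcg⟩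
    · exact sup_le inf_le_left hCN
  refine ⟨h1, ?_⟩
  set H := Subgroup.normalizer (Q : Set G) ⊓ Subgroup.normalizer ((P : Subgroup G) : Set G) with hH
  have hNC : normalizer (Q : Set G) ≤ normalizer (centralizer (Q : Set G) : Set G) := by
    intro g hg
    rw [mem_set_normalizer_iff'']
    have hconj : ∀ g ∈ normalizer (Q : Set G), ∀ c ∈ centralizer (Q : Set G),
        g⁻¹ * c * g ∈ centralizer (Q : Set G) := by
      intro g hg c hc
      rw [mem_centralizer_iff]
      intro q hq
      have hq' : g * q * g⁻¹ ∈ Q := (mem_set_normalizer_iff.1 hg q).1 hq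
      have := mem_centralizer_iff.1 hc _ hq'
      calc q * (g⁻¹ * c * g) = g⁻¹ * ((g * q * g⁻¹) * c) * g := by group
        _ = g⁻¹ * (c * (g * q * g⁻¹)) * g := by rw [this]
        _ = g⁻¹ * c * g * q := by group
    intro c
    constructor
    · exact fun hc => hconj g hg c hc
    · intro hc
      have := hconj g⁻¹ (inv_mem hg) _ hc
      simpa [mul_assoc] using this
  have hHle : H ≤ normalizer (centralizer (Q : Set G) : Set G) := inf_le_left.trans hNC
  have e1 : (centralizer (Q : Set G)).relIndex (normalizer (Q : Set G))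
      = (centralizer (Q : Set G)).relIndex H := by
    conv_lhs => rw [h1]
    have := Subgroup.normal_subgroupOf_of_le_normalizer hHle
    have := Subgroup.normal_subgroupOf_sup_of_le_normalizer hHle
    exact (Nat.card_congr
      (QuotientGroup.quotientInfEquivProdNormalizerQuotient H _ hHle).toEquiv).symm
  change (centralizer (Q : Set G)).relIndex (normalizer (Q : Set G)) ∣
    (centralizer ((P : Subgroup G) : Set G)).relIndex (normalizer ((P : Subgroup G) : Set G))
  rw [e1]
  have hCPQ : centralizer ((P : Subgroup G) : Set G) ≤ centralizer (Q : Set G) :=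
    centralizer_le hQ
  have hCPH : centralizer ((P : Subgroup G) : Set G) ≤ H :=
    le_inf (hCPQ.trans hCN) (centralizer_le_normalizer _)
  have d1 : (centralizer (Q : Set G)).relIndex H ∣ (centralizer ((P : Subgroup G) : Set G)).relIndex H :=
    relIndex_dvd_of_le_left H hCPQ
  have d2 : (centralizer ((P : Subgroup G) : Set G)).relIndex H ∣
      (centralizer ((P : Subgroup G) : Set G)).relIndex (normalizer ((P : Subgroup G) : Set G)) :=
    Dvd.intro _ (relIndex_mul_relIndex _ H _ hCPH inf_le_right)
  exact d1.trans d2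

end Cfsg.Agent.S2268
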