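import Cfsg.Statements.S2269
import Cfsg.Agent.S0076

set_option autoImplicit false
open Cfsg

namespace Cfsg.Agent.S2269



open Equiv

section general
variable {G : Type*} [Group G]

/-- an element of the normalizer inverting an element of order `> 2` gives even automizer order. -/
theorem two_dvd_index_of_inverting [Finite G] (H : Subgroup G) (g x : G)
    (hg : g ∈ Subgroup.normalizer (H : Set G)) (hx : x ∈ H) (hinv : g * x * g⁻¹ = x⁻¹)
    (hx2 : x * x ≠ 1) :
    2 ∣ ((Subgroup.centralizer (H : Set G)).subgroupOf (Subgroup.normalizer (H : Set G))).index := by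
  classical
  rw [← Subgroup.normalizerMonoidHom_ker, Subgroup.index_ker]
  set φ := H.normalizerMonoidHom with hφ
  set γ : MulAut H := φ ⟨g, hg⟩ with hγ
  set x' : H := ⟨x, hx⟩ with hx'
  have h1 : γ x' = x'⁻¹ := by
    apply Subtype.ext
    simp only [hγ, hφ, Subgroup.normalizerMonoidHom_apply_apply_coe, hx']
    rw [hinv]
    rfl
  have h2 : γ (γ x') = x' := by rw [h1, map_inv, h1, inv_inv]
  have h3 : ∀ t : ℕ, ((γ ^ 2) ^ t) x' = x' := by
    intro t
    induction t with
    | zero => simp
    | succ t ih =>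
      rw [pow_succ, MulAut.mul_apply]
      have : (γ ^ 2) x' = x' := by rw [pow_two, MulAut.mul_apply, h2]
      rw [this, ih]
  have heven : Even (orderOf γ) := by
    by_contra hodd
    rw [Nat.not_even_iff_odd] at hodd
    obtain ⟨t, ht⟩ := hodd
    have h4 : γ ^ (2 * t + 1) = 1 := by rw [← ht, pow_orderOf_eq_one]
    have h5 : (γ ^ (2 * t + 1)) x' = x'⁻¹ := by
      rw [pow_succ, pow_mul, MulAut.mul_apply, h1, map_inv, h3 t]
    rw [h4, MulAut.one_apply] at h5
    apply hx2
    have : x' * x' = 1 := by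
      nth_rewrite 1 [h5]
      exact inv_mul_cancel x'
    exact congrArg Subtype.val this
  have hmem : γ ∈ φ.range := ⟨⟨g, hg⟩, rfl⟩
  have h6 : orderOf (⟨γ, hmem⟩ : φ.range) ∣ Nat.card φ.range := orderOf_dvd_natCard _
  rw [Subgroup.orderOf_mk] at h6
  exact (even_iff_two_dvd.1 heven).trans h6

theorem not_dvd_index_of_comm [Finite G] {p : ℕ} [Fact p.Prime] (P : Sylow p G)
    (hP : IsMulCommutative (P : Subgroup G)) :
    ¬ p ∣ ((Subgroup.centralizer ((P : Subgroup G) : Set G)).subgroupOf
      (Subgroup.normalizer ((P : Subgroup G) : Set G))).index := by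
  have hPC : (P : Subgroup G) ≤ Subgroup.centralizer ((P : Subgroup G) : Set G) := by
    intro a ha b hb
    have := hP.is_comm.comm (⟨b, hb⟩ : (P : Subgroup G)) ⟨a, ha⟩
    exact congrArg Subtype.val this
  have hCN : Subgroup.centralizer ((P : Subgroup G) : Set G) ≤
      Subgroup.normalizer ((P : Subgroup G) : Set G) := Subgroup.centralizer_le_normalizer _
  have h1 := Subgroup.relIndex_mul_relIndex _ _ _ hPC hCN
  have h2 := Subgroup.relIndex_mul_index (hPC.trans hCN)
  intro hdvd
  apply P.not_dvd_index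
  rw [← h2, ← h1]
  exact (hdvd.mul_left _).mul_right _

end general




/-- a permutation with cycle type `{p}`, `p` odd, fixing at least two points, is conjugate to its
inverse by an even permutation. -/
theorem exists_even_inverting {n p : ℕ} (hp : Odd p) (x : Perm (Fin n))
    (hx : x.cycleType = {p}) (hn : p + 2 ≤ n) :
    ∃ σ : Perm (Fin n), Perm.sign σ = 1 ∧ σ * x * σ⁻¹ = x⁻¹ := by
  classical
  have hconj : IsConj x x⁻¹ := by
    rw [Perm.isConj_iff_cycleType_eq, Perm.cycleType_inv]
  obtain ⟨σ, hσ⟩ := isConj_iff.1 hconj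
  have hsupp : x.support.card = p := by
    rw [← Perm.sum_cycleType, hx]
    simp
  have hcompl : 1 < (x.supportᶜ).card := by
    rw [Finset.card_compl, hsupp, Fintype.card_fin]
    omega
  obtain ⟨a, ha, b, hb, hab⟩ := Finset.one_lt_card.1 hcompl
  rw [Finset.mem_compl, Perm.notMem_support] at ha hb
  have hcomm : x * swap a b = swap a b * x := by
    rw [Equiv.mul_swap_eq_swap_mul, ha, hb]
  rcases Int.units_eq_one_or (Perm.sign σ) with h1 | h1
  · exact ⟨σ, h1, hσ⟩
  · refine ⟨σ * swap a b, ?_, ?_⟩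
    · rw [Perm.sign_mul, h1, Perm.sign_swap hab]
      rfl
    · rw [mul_inv_rev, swap_inv]
      calc σ * swap a b * x * (swap a b * σ⁻¹)
          = σ * (swap a b * x * swap a b) * σ⁻¹ := by group
        _ = σ * (x * swap a b * swap a b) * σ⁻¹ := by rw [hcomm]
        _ = σ * x * σ⁻¹ := by rw [mul_assoc x, swap_mul_self, mul_one]
        _ = x⁻¹ := hσ

theorem exists_inverting (n p : ℕ) [hpf : Fact p.Prime] (hp2 : p ≠ 2) (hn : p + 2 ≤ n)
    (P : Sylow p (alternatingGroup (Fin n)))
    (hP : IsMulCommutative (P : Subgroup (alternatingGroup (Fin n)))) :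
    ∃ g ∈ Subgroup.normalizer ((P : Subgroup (alternatingGroup (Fin n))) : Set (alternatingGroup (Fin n))),
      ∃ x ∈ (P : Subgroup (alternatingGroup (Fin n))), g * x * g⁻¹ = x⁻¹ ∧ x * x ≠ 1 := by
  classical
  have hpodd : Odd p := hpf.out.odd_of_ne_two hp2
  -- a p-cycle
  obtain ⟨c₀, hc₀⟩ := (Perm.exists_with_cycleType_iff (Fin n) (m := {p})).2
    ⟨by simp; omega, by simp; exact hpf.out.two_le⟩
  have hsign : ∀ y : Perm (Fin n), y.cycleType = {p} → Perm.sign y = 1 := by
    intro y hy
    rw [Perm.sign_of_cycleType, hy]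
    simp
    exact Odd.add_one hpodd |>.neg_one_pow
  have hord : ∀ y : Perm (Fin n), y.cycleType = {p} → orderOf y = p := by
    intro y hy
    rw [← Perm.lcm_cycleType, hy]
    simp
  let c : alternatingGroup (Fin n) := ⟨c₀, Perm.mem_alternatingGroup.2 (hsign c₀ hc₀)⟩
  have hcord : orderOf c = p := by
    rw [← hord c₀ hc₀]
    exact Subgroup.orderOf_mk c₀ _
  have hpg : IsPGroup p (Subgroup.zpowers c) := by
    apply IsPGroup.of_card (n := 1)
    rw [Nat.card_zpowers, hcord, pow_one]
  obtain ⟨Q, hQ⟩ := hpg.exists_le_sylow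
  obtain ⟨g, hg⟩ := MulAction.exists_smul_eq (alternatingGroup (Fin n)) Q P
  have hcQ : c ∈ (Q : Subgroup (alternatingGroup (Fin n))) := hQ (Subgroup.mem_zpowers c)
  set x := g * c * g⁻¹ with hx
  have hxP : x ∈ (P : Subgroup (alternatingGroup (Fin n))) := by
    rw [← hg, Sylow.coe_subgroup_smul]
    have := Subgroup.smul_mem_pointwise_smul c (MulAut.conj g) _ hcQ
    rwa [MulAut.smul_def, MulAut.conj_apply] at this
  have hxct : (x : Perm (Fin n)).cycleType = {p} := by
    have : (x : Perm (Fin n)) = (g : Perm (Fin n)) * c₀ * (g : Perm (Fin n))⁻¹ := rfl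
    rw [this, Perm.cycleType_conj, hc₀]
  obtain ⟨σ, hσ1, hσ2⟩ := exists_even_inverting hpodd (x : Perm (Fin n)) hxct hn
  let σ' : alternatingGroup (Fin n) := ⟨σ, Perm.mem_alternatingGroup.2 hσ1⟩
  have hσ' : σ' * x * σ'⁻¹ = x⁻¹ := Subtype.ext hσ2
  have hcomm : ∀ a ∈ (P : Subgroup (alternatingGroup (Fin n))),
      ∀ b ∈ (P : Subgroup (alternatingGroup (Fin n))), a * b = b * a := by
    intro a ha b hb
    have := hP.is_comm.comm (⟨a, ha⟩ : (P : Subgroup (alternatingGroup (Fin n)))) ⟨b, hb⟩
    exact congrArg Subtype.val this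
  have hxinvP : x⁻¹ ∈ (P : Subgroup (alternatingGroup (Fin n))) := inv_mem hxP
  obtain ⟨m, hm, hm2⟩ := Cfsg.Agent.S0076.result P {x} {x⁻¹}
    (by intro y hy; rw [Set.mem_singleton_iff] at hy; rw [hy]; exact hxP)
    (by intro y hy; rw [Set.mem_singleton_iff] at hy; rw [hy]; exact hxinvP)
    (by
      intro y hy
      rw [Set.image_singleton, hcomm y hy x hxP, mul_assoc, mul_inv_cancel, mul_one])
    (by
      intro y hy
      rw [Set.image_singleton, hcomm y hy x⁻¹ hxinvP, mul_assoc, mul_inv_cancel, mul_one])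
    σ' (by rw [Set.image_singleton, hσ'])
  rw [Set.image_singleton, Set.singleton_eq_singleton_iff] at hm2
  refine ⟨m, hm, x, hxP, hm2, ?_⟩
  intro hxx
  have hxo : orderOf x = p := by
    rw [← hord (x : Perm (Fin n)) hxct]
    exact (Subgroup.orderOf_coe x).symm
  have : orderOf x ∣ 2 := orderOf_dvd_of_pow_eq_one (by rw [pow_two]; exact hxx)
  rw [hxo] at this
  have := (Nat.prime_dvd_prime_iff_eq hpf.out Nat.prime_two).1 this
  exact hp2 this




theorem card_alt_dvd (n : ℕ) : Nat.card (alternatingGroup (Fin n)) ∣ n.factorial := by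
  have h1 : Nat.card (alternatingGroup (Fin n)) ∣ Nat.card (Perm (Fin n)) :=
    Subgroup.card_subgroup_dvd_card _
  rwa [Nat.card_perm, Nat.card_fin] at h1

/-- (B) Sylow `p`-subgroups of `A_n` are cyclic when `n < 2p`. -/
theorem cyclic_of_lt (n p : ℕ) [hpf : Fact p.Prime] (hn : n < p + 2) (hp2 : p ≠ 2)
    (P : Sylow p (alternatingGroup (Fin n))) :
    IsCyclic (P : Subgroup (alternatingGroup (Fin n))) := by
  classical
  have hp := hpf.out
  have hp3 : 3 ≤ p := by
    have := hp.two_le
    omega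
  have hnot : ¬ p ^ 2 ∣ n.factorial := by
    have hlog : Nat.log p n < 2 := by
      apply Nat.log_lt_of_lt_pow' (by norm_num)
      nlinarith
    rw [hp.pow_dvd_factorial_iff hlog]
    have : Finset.Ico 1 2 = {1} := by decide
    rw [this, Finset.sum_singleton, pow_one]
    have : n / p < 2 := by
      rw [Nat.div_lt_iff_lt_mul hp.pos]
      omega
    omega
  have hcard := P.card_eq_multiplicity
  set e := (Nat.card (alternatingGroup (Fin n))).factorization p with he
  have hdvd : p ^ e ∣ n.factorial := by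
    have : p ^ e ∣ Nat.card (alternatingGroup (Fin n)) := Nat.ordProj_dvd _ _
    exact this.trans (card_alt_dvd n)
  have he1 : e < 2 := by
    by_contra hcon
    exact hnot ((pow_dvd_pow p (by omega : 2 ≤ e)).trans hdvd)
  interval_cases e
  · rw [pow_zero] at hcard
    have : Subsingleton (P : Subgroup (alternatingGroup (Fin n))) :=
      (Nat.card_eq_one_iff_unique.1 hcard).1
    exact isCyclic_of_subsingleton
  · rw [pow_one] at hcard
    exact isCyclic_of_prime_card hcard




/-- the embedding of `Fin 6` in `Fin n`. -/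
def emb6 (n : ℕ) (hn : 6 ≤ n) : Fin 6 ≃ {i : Fin n // i.val < 6} where
  toFun i := ⟨Fin.castLE hn i, i.2⟩
  invFun j := ⟨j.1.val, j.2⟩
  left_inv i := by ext; rfl
  right_inv j := by ext; rfl

def x₀ : Perm (Fin 6) := swap 0 1 * swap 1 2 * swap 2 3 * swap 4 5
def y₀ : Perm (Fin 6) := swap 0 1 * swap 2 3

theorem sign_x₀ : Perm.sign x₀ = 1 := by decide
theorem sign_y₀ : Perm.sign y₀ = 1 := by decide
theorem conj_x₀ : y₀ * x₀ * y₀⁻¹ = x₀⁻¹ := by decide
theorem x₀_pow_four : x₀ ^ 4 = 1 := by decide
theorem y₀_pow_two : y₀ ^ 2 = 1 := by decide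
theorem x₀_sq_ne : x₀ ^ 2 ≠ 1 := by decide

theorem isPGroup_zpowers {G : Type*} [Group G] (g : G) (p k : ℕ) (h : g ^ p ^ k = 1) :
    IsPGroup p (Subgroup.zpowers g) := by
  rintro ⟨x, hx⟩
  obtain ⟨i, rfl⟩ := Subgroup.mem_zpowers_iff.1 hx
  refine ⟨k, ?_⟩
  apply Subtype.ext
  simp only [Subgroup.coe_pow, Subgroup.coe_one]
  rw [← zpow_natCast, ← zpow_mul, mul_comm, zpow_mul, zpow_natCast, h, one_zpow]

/-- (C) Sylow 2-subgroups of `A_n`, `n ≥ 6`, are not abelian. -/
theorem not_comm_of_six_le (n : ℕ) (hn : 6 ≤ n) (P : Sylow 2 (alternatingGroup (Fin n)))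
    (hP : IsMulCommutative (P : Subgroup (alternatingGroup (Fin n)))) : False := by
  classical
  let ι : Perm (Fin 6) →* Perm (Fin n) := Perm.extendDomainHom (emb6 n hn)
  have hι : Function.Injective ι := Perm.extendDomainHom_injective _
  have hsign : ∀ σ : Perm (Fin 6), Perm.sign (ι σ) = Perm.sign σ := fun σ =>
    Perm.sign_extendDomain σ (emb6 n hn)
  let xg : alternatingGroup (Fin n) :=
    ⟨ι x₀, Perm.mem_alternatingGroup.2 ((hsign x₀).trans sign_x₀)⟩
  let yg : alternatingGroup (Fin n) :=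
    ⟨ι y₀, Perm.mem_alternatingGroup.2 ((hsign y₀).trans sign_y₀)⟩
  have hconj : yg * xg * yg⁻¹ = xg⁻¹ := by
    apply Subtype.ext
    show ι y₀ * ι x₀ * (ι y₀)⁻¹ = (ι x₀)⁻¹
    rw [← map_inv, ← map_mul, ← map_mul, conj_x₀, map_inv]
  have hx4 : xg ^ 2 ^ 2 = 1 := by
    apply Subtype.ext
    show (ι x₀) ^ 2 ^ 2 = 1
    rw [← map_pow]
    have : x₀ ^ 2 ^ 2 = 1 := x₀_pow_four
    rw [this, map_one]
  have hy2 : yg ^ 2 ^ 1 = 1 := by
    apply Subtype.ext
    show (ι y₀) ^ 2 ^ 1 = 1
    rw [← map_pow]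
    have : y₀ ^ 2 ^ 1 = 1 := y₀_pow_two
    rw [this, map_one]
  have hx2 : xg ^ 2 ≠ 1 := by
    intro h
    have h' : (ι x₀) ^ 2 = 1 := congrArg Subtype.val h
    rw [← map_pow] at h'
    exact x₀_sq_ne (hι (h'.trans (map_one ι).symm))
  have hnorm : Subgroup.zpowers yg ≤ Subgroup.normalizer (Subgroup.zpowers xg : Set _) := by
    rw [Subgroup.zpowers_le]
    apply Subgroup.mem_normalizer_fintype
    intro h hh
    obtain ⟨i, rfl⟩ := Subgroup.mem_zpowers_iff.1 hh
    have : yg * xg ^ i * yg⁻¹ = (yg * xg * yg⁻¹) ^ i := by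
      rw [conj_zpow]
    rw [this, hconj]
    exact Subgroup.zpow_mem _ (Subgroup.inv_mem _ (Subgroup.mem_zpowers xg)) i
  have hD : IsPGroup 2 (Subgroup.zpowers yg ⊔ Subgroup.zpowers xg : Subgroup _) :=
    IsPGroup.to_sup_of_normal_right' (isPGroup_zpowers yg 2 1 hy2) (isPGroup_zpowers xg 2 2 hx4)
      hnorm
  obtain ⟨Q, hQ⟩ := hD.exists_le_sylow
  obtain ⟨g, hg⟩ := MulAction.exists_smul_eq (alternatingGroup (Fin n)) P Q
  have hxQ : xg ∈ (Q : Subgroup _) := hQ (Subgroup.mem_sup_right (Subgroup.mem_zpowers xg))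
  have hyQ : yg ∈ (Q : Subgroup _) := hQ (Subgroup.mem_sup_left (Subgroup.mem_zpowers yg))
  rw [← hg, Sylow.coe_subgroup_smul, Subgroup.mem_pointwise_smul_iff_inv_smul_mem] at hxQ hyQ
  have hc := hP.is_comm.comm (⟨_, hxQ⟩ : (P : Subgroup (alternatingGroup (Fin n)))) ⟨_, hyQ⟩
  have hc' := congrArg Subtype.val hc
  simp only [Subgroup.coe_mul, MulAut.smul_def, ← map_mul] at hc'
  have hcomm : xg * yg = yg * xg := (MulAut.conj g)⁻¹.injective hc'
  apply hx2
  have : xg = xg⁻¹ := by
    rw [← hconj, ← hcomm, mul_assoc, mul_inv_cancel, mul_one]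
  rw [pow_two]
  nth_rewrite 1 [this]
  exact inv_mul_cancel xg





set_option maxRecDepth 100000 in
theorem no_order_four : ∀ g : Perm (Fin 5), Perm.sign g = 1 → g ^ 4 = 1 → g ^ 2 = 1 := by
  decide +kernel

theorem card_alt_five : Nat.card (alternatingGroup (Fin 5)) = 60 := by
  have := two_mul_card_alternatingGroup (α := Fin 5)
  rw [Fintype.card_perm, Fintype.card_fin] at this
  rw [Nat.card_eq_fintype_card]
  have h5 : Nat.factorial 5 = 120 := by decide
  omega

/-- (D) -/
theorem case_five (P : Sylow 2 (alternatingGroup (Fin 5)))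
    (hP : IsMulCommutative (P : Subgroup (alternatingGroup (Fin 5)))) :
    ((Subgroup.centralizer ((P : Subgroup (alternatingGroup (Fin 5))) : Set (alternatingGroup (Fin 5)))).subgroupOf (Subgroup.normalizer ((P : Subgroup (alternatingGroup (Fin 5))) : Set (alternatingGroup (Fin 5))))).index = 3 ∧ IsKleinFour (P : Subgroup (alternatingGroup (Fin 5))) := by
  classical
  have hcardP : Nat.card (P : Subgroup (alternatingGroup (Fin 5))) = 4 := by
    obtain ⟨k, hk⟩ := IsPGroup.iff_card.1 P.isPGroup'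
    have h1 : Nat.card (P : Subgroup (alternatingGroup (Fin 5))) ∣ 60 := by
      rw [← card_alt_five]
      exact Subgroup.card_subgroup_dvd_card _
    have h2 := P.not_dvd_index
    have h3 := (P : Subgroup (alternatingGroup (Fin 5))).card_mul_index
    rw [card_alt_five] at h3
    rw [hk] at h1 h3 ⊢
    have hk6 : k < 6 := by
      by_contra hcon
      have : 2 ^ 6 ∣ 60 := (pow_dvd_pow 2 (by omega : 6 ≤ k)).trans h1
      omega
    interval_cases k
    · exfalso; apply h2; omega
    · exfalso; apply h2; omega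
    · rfl
    · omega
    · omega
    · omega
  have hexp : ∀ g : (P : Subgroup (alternatingGroup (Fin 5))), g ^ 2 = 1 := by
    intro g
    have h4 : g ^ 4 = 1 := by rw [← hcardP]; exact pow_card_eq_one'
    have h4' : ((g : alternatingGroup (Fin 5)) : Perm (Fin 5)) ^ 4 = 1 := by
      have := congrArg (fun z : (P : Subgroup (alternatingGroup (Fin 5))) =>
        ((z : alternatingGroup (Fin 5)) : Perm (Fin 5))) h4
      simpa using this
    have h2' := no_order_four _ (Perm.mem_alternatingGroup.1 (g : alternatingGroup (Fin 5)).2) h4'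
    apply Subtype.ext
    apply Subtype.ext
    simpa using h2'
  have hklein : IsKleinFour (P : Subgroup (alternatingGroup (Fin 5))) := by
    refine ⟨hcardP, ?_⟩
    have hdvd : Monoid.exponent (P : Subgroup (alternatingGroup (Fin 5))) ∣ 2 :=
      Monoid.exponent_dvd_of_forall_pow_eq_one hexp
    have hne1 : Monoid.exponent (P : Subgroup (alternatingGroup (Fin 5))) ≠ 1 := by
      intro h1
      have := Monoid.exp_eq_one_iff.1 h1
      have := Nat.card_eq_one_iff_unique.2 ⟨this, ⟨1⟩⟩
      omega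
    rcases (Nat.dvd_prime Nat.prime_two).1 hdvd with h | h
    · exact absurd h hne1
    · exact h
  refine ⟨?_, hklein⟩
  set idx := ((Subgroup.centralizer ((P : Subgroup (alternatingGroup (Fin 5))) : Set (alternatingGroup (Fin 5)))).subgroupOf (Subgroup.normalizer ((P : Subgroup (alternatingGroup (Fin 5))) : Set (alternatingGroup (Fin 5))))).index with hidx
  have hodd : ¬ 2 ∣ idx := not_dvd_index_of_comm P hP
  have h24 : idx ∣ 24 := by
    rw [hidx, ← Subgroup.normalizerMonoidHom_ker, Subgroup.index_ker]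
    have h1 : Nat.card (P : Subgroup (alternatingGroup (Fin 5))).normalizerMonoidHom.range ∣
        Nat.card (MulAut (P : Subgroup (alternatingGroup (Fin 5)))) :=
      Subgroup.card_subgroup_dvd_card _
    have h2 : Nat.card (MulAut (P : Subgroup (alternatingGroup (Fin 5)))) ∣
        Nat.card (Perm (P : Subgroup (alternatingGroup (Fin 5)))) := by
      apply Subgroup.card_dvd_of_injective (MulAut.toPerm _)
      intro a b hab
      apply MulEquiv.ext
      intro z
      exact congrArg (fun f : Perm _ => f z) hab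
    rw [Nat.card_perm, hcardP] at h2
    exact h1.trans h2
  have hne1 : idx ≠ 1 := by
    intro h1
    rw [hidx, Subgroup.index_eq_one, Subgroup.subgroupOf_eq_top] at h1
    have hcompl := MonoidHom.ker_transferSylow_isComplement' P h1
    have hmul := hcompl.card_mul
    rw [hcardP, card_alt_five] at hmul
    have hsimple : IsSimpleGroup (alternatingGroup (Fin 5)) := alternatingGroup.isSimpleGroup_five
    rcases (MonoidHom.normal_ker (MonoidHom.transferSylow P h1)).eq_bot_or_eq_top with h | h
    · rw [h, Subgroup.card_bot] at hmul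
      omega
    · rw [h, Subgroup.card_top, card_alt_five] at hmul
      omega
  have hle : idx ≤ 24 := Nat.le_of_dvd (by norm_num) h24
  have hpos : 0 < idx := Nat.pos_of_dvd_of_pos h24 (by norm_num)
  interval_cases idx <;> first | rfl | omega | (exfalso; revert h24; decide) | (exfalso; apply hodd; decide)




/-- Let n ≥ 5 and let P be an abelian Sylow p-subgroup of the alternating group A_n. Then N(P)/C(P) (taken in A_n) has even order, or P is cyclic, except when n = 5 and p = 2, where P is a four-group and N(P)/C(P) has order 3. -/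
theorem result (n : ℕ) (hn : 5 ≤ n) {p : ℕ} [Fact p.Prime]
    (P : Sylow p (alternatingGroup (Fin n))) (hP : IsMulCommutative (P : Subgroup (alternatingGroup (Fin n)))) :
    (¬ (n = 5 ∧ p = 2) → 2 ∣ ((Subgroup.centralizer ((P : Subgroup (alternatingGroup (Fin n))) : Set (alternatingGroup (Fin n)))).subgroupOf (Subgroup.normalizer ((P : Subgroup (alternatingGroup (Fin n))) : Set (alternatingGroup (Fin n))))).index ∨ IsCyclic (P : Subgroup (alternatingGroup (Fin n)))) ∧
    ((n = 5 ∧ p = 2) → ((Subgroup.centralizer ((P : Subgroup (alternatingGroup (Fin n))) : Set (alternatingGroup (Fin n)))).subgroupOf (Subgroup.normalizer ((P : Subgroup (alternatingGroup (Fin n))) : Set (alternatingGroup (Fin n))))).index = 3 ∧ IsKleinFour (P : Subgroup (alternatingGroup (Fin n)))) := by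
  constructor
  · intro hne
    by_cases hp2 : p = 2
    · subst hp2
      exfalso
      have hn6 : 6 ≤ n := by
        by_contra hcon
        exact hne ⟨by omega, rfl⟩
      exact not_comm_of_six_le n hn6 P hP
    · by_cases hnp : n < p + 2
      · exact Or.inr (cyclic_of_lt n p hnp hp2 P)
      · left
        obtain ⟨g, hg, x, hx, hinv, hx2⟩ := exists_inverting n p hp2 (by omega) P hP
        exact two_dvd_index_of_inverting _ g x hg hx hinv hx2
  · rintro ⟨rfl, rfl⟩
    exact case_five P hP


end Cfsg.Agent.S2269
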