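import Cfsg.Statements.S2270
import Mathlib

set_option autoImplicit false
open Cfsg

namespace Cfsg.Agent.S2270

/-- Iterated conjugation by an element inverting `x`. -/
theorem conj_pow_invert {G : Type*} [Group G] (x t : G) (h : t⁻¹ * x * t = x⁻¹) (j : ℕ) :
    (t ^ j)⁻¹ * x * t ^ j = if Even j then x else x⁻¹ := by
  induction j with
  | zero => simp
  | succ j ih =>
    have e : (t ^ (j + 1))⁻¹ * x * t ^ (j + 1) = t⁻¹ * ((t ^ j)⁻¹ * x * t ^ j) * t := by
      rw [pow_succ]; group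
    rw [e, ih]
    by_cases hj : Even j
    · have : ¬ Even (j + 1) := by
        rw [Nat.even_add_one]; exact not_not.2 hj
      rw [if_pos hj, if_neg this, h]
    · have : Even (j + 1) := by
        rw [Nat.even_add_one]; exact hj
      rw [if_neg hj, if_pos this]
      have : t⁻¹ * x⁻¹ * t = (t⁻¹ * x * t)⁻¹ := by group
      rw [this, h, inv_inv]

theorem result (n : ℕ) (hn : 3 ≤ n) {p : ℕ} [Fact p.Prime] (hp : p ≠ 2) (hpn : p ≤ n)
    (P : Sylow p (Equiv.Perm (Fin n))) (hP : IsMulCommutative (P : Subgroup (Equiv.Perm (Fin n)))) :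
    2 ∣ ((Subgroup.centralizer ((P : Subgroup (Equiv.Perm (Fin n))) : Set (Equiv.Perm (Fin n)))).subgroupOf (Subgroup.normalizer ((P : Subgroup (Equiv.Perm (Fin n))) : Set (Equiv.Perm (Fin n))))).index := by
  have hpp : p.Prime := Fact.out
  have hdvd : p ∣ Nat.card (Equiv.Perm (Fin n)) := by
    rw [Nat.card_eq_fintype_card, Fintype.card_perm, Fintype.card_fin]
    exact hpp.dvd_factorial.2 hpn
  have hPne : (P : Subgroup (Equiv.Perm (Fin n))) ≠ ⊥ := P.ne_bot_of_dvd_card hdvd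
  obtain ⟨x, hxP, hx1⟩ := (Subgroup.ne_bot_iff_exists_ne_one (H := (P : Subgroup (Equiv.Perm (Fin n))))).1 hPne |>.imp
    (fun a ha => ha) |> fun ⟨a, ha⟩ => (⟨a.1, a.2, fun h => ha (Subtype.ext h)⟩ :
      ∃ x : Equiv.Perm (Fin n), x ∈ (P : Subgroup (Equiv.Perm (Fin n))) ∧ x ≠ 1)
  -- x ≠ x⁻¹
  have hxx : x ≠ x⁻¹ := by
    intro h
    have h2 : x ^ 2 = 1 := by
      rw [pow_two]
      nth_rewrite 2 [h]
      exact mul_inv_cancel x
    obtain ⟨k, hk⟩ := P.isPGroup' ⟨x, hxP⟩
    have hk' : x ^ (p ^ k) = 1 := by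
      have := congrArg Subtype.val hk
      simpa using this
    have h3 : orderOf x ∣ 2 := orderOf_dvd_of_pow_eq_one h2
    have h4 : orderOf x ∣ p ^ k := orderOf_dvd_of_pow_eq_one hk'
    have hcop : Nat.Coprime 2 (p ^ k) :=
      Nat.Coprime.pow_right k ((Nat.coprime_primes Nat.prime_two hpp).2 (Ne.symm hp))
    have h5 : orderOf x = 1 := Nat.eq_one_of_dvd_coprimes hcop h3 h4
    exact hx1 (orderOf_eq_one_iff.1 h5)
  -- P ≤ C(P)
  have hPC : (P : Subgroup (Equiv.Perm (Fin n))) ≤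
      Subgroup.centralizer ((P : Subgroup (Equiv.Perm (Fin n))) : Set (Equiv.Perm (Fin n))) := by
    intro y hy
    rw [Subgroup.mem_centralizer_iff]
    intro q hq
    have := hP.is_comm.comm ⟨q, hq⟩ ⟨y, hy⟩
    exact congrArg Subtype.val this
  -- x is conjugate to its inverse
  have hconj : IsConj x x⁻¹ := by
    rw [Equiv.Perm.isConj_iff_cycleType_eq, Equiv.Perm.cycleType_inv]
  obtain ⟨g, hg⟩ := isConj_iff.1 hconj
  obtain ⟨t, htN, ht⟩ := Sylow.conj_eq_normalizer_conj_of_mem_centralizer P x g⁻¹ (hPC hxP)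
    (by rw [inv_inv, hg]; exact hPC (inv_mem hxP))
  rw [inv_inv, hg] at ht
  -- the quotient
  set N := Subgroup.normalizer ((P : Subgroup (Equiv.Perm (Fin n))) : Set (Equiv.Perm (Fin n))) with hN
  set C := (Subgroup.centralizer ((P : Subgroup (Equiv.Perm (Fin n))) : Set (Equiv.Perm (Fin n)))).subgroupOf N with hC
  have hCn : C.Normal := Subgroup.normal_subgroupOf_centralizer_normalizer _
  set t' : N := ⟨t, htN⟩ with ht'
  set m := orderOf (QuotientGroup.mk t' : N ⧸ C) with hm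
  have hm_dvd : m ∣ C.index := by
    rw [Subgroup.index_eq_card]
    exact orderOf_dvd_natCard _
  refine Dvd.dvd.trans ?_ hm_dvd
  have hpow : (QuotientGroup.mk t' : N ⧸ C) ^ m = 1 := pow_orderOf_eq_one _
  rw [← QuotientGroup.mk_pow, QuotientGroup.eq_one_iff] at hpow
  have hcent : t ^ m ∈ Subgroup.centralizer ((P : Subgroup (Equiv.Perm (Fin n))) : Set (Equiv.Perm (Fin n))) := by
    have := Subgroup.mem_subgroupOf.1 hpow
    simpa using this
  have hcomm : x * t ^ m = t ^ m * x := (Subgroup.mem_centralizer_iff.1 hcent) x hxP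
  have hinv := conj_pow_invert x t ht.symm m
  by_contra hodd
  rw [← even_iff_two_dvd] at hodd
  rw [if_neg hodd] at hinv
  apply hxx
  rw [← hinv, mul_assoc, hcomm, ← mul_assoc, inv_mul_cancel, one_mul]

end Cfsg.Agent.S2270
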