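import Cfsg.Statements.S2279
import Mathlib
import Cfsg.Agent.Lib.Helper5.RU.E1

set_option autoImplicit false
open Cfsg

namespace Cfsg.Agent.S2279

open Matrix Cfsg.Agent.H9SLRoot Cfsg.Agent.Lib.Helper2.RegUni Cfsg.Agent.Lib.Helper5.RU in
/-- conjugates of regular unipotent elements are regular unipotent -/
theorem conj_regular {F : Type*} [Field F] {n : ℕ} (g u : Matrix.SpecialLinearGroup (Fin n) F)
    (k : ℕ) (h1 : IsNilpotent ((u : Matrix (Fin n) (Fin n) F) - 1))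
    (h2 : ((u : Matrix (Fin n) (Fin n) F) - 1) ^ k ≠ 0) :
    IsNilpotent (((g * u * g⁻¹ : Matrix.SpecialLinearGroup (Fin n) F) :
      Matrix (Fin n) (Fin n) F) - 1) ∧
    (((g * u * g⁻¹ : Matrix.SpecialLinearGroup (Fin n) F) : Matrix (Fin n) (Fin n) F) - 1) ^ k
      ≠ 0 := by
  set T : Matrix (Fin n) (Fin n) F := (g : Matrix (Fin n) (Fin n) F) with hT
  set T' : Matrix (Fin n) (Fin n) F :=
    ((g⁻¹ : Matrix.SpecialLinearGroup (Fin n) F) : Matrix (Fin n) (Fin n) F) with hT'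
  set N : Matrix (Fin n) (Fin n) F := (u : Matrix (Fin n) (Fin n) F) - 1 with hN
  have hTT' : T * T' = 1 := by
    rw [hT, hT', ← Matrix.SpecialLinearGroup.coe_mul, mul_inv_cancel,
      Matrix.SpecialLinearGroup.coe_one]
  have hT'T : T' * T = 1 := by
    rw [hT, hT', ← Matrix.SpecialLinearGroup.coe_mul, inv_mul_cancel,
      Matrix.SpecialLinearGroup.coe_one]
  have e1 : ((g * u * g⁻¹ : Matrix.SpecialLinearGroup (Fin n) F) : Matrix (Fin n) (Fin n) F) - 1 =
      T * N * T' := by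
    rw [Matrix.SpecialLinearGroup.coe_mul, Matrix.SpecialLinearGroup.coe_mul, hN, mul_sub, sub_mul,
      mul_one, hTT']
  have e2 : ∀ j : ℕ, (T * N * T') ^ j = T * N ^ j * T' := by
    intro j
    induction j with
    | zero => rw [pow_zero, pow_zero, mul_one, hTT']
    | succ j ih =>
      rw [pow_succ, ih, pow_succ]
      calc T * N ^ j * T' * (T * N * T') = T * N ^ j * (T' * T) * N * T' := by
            simp only [mul_assoc]
        _ = T * (N ^ j * N) * T' := by rw [hT'T, mul_one]; simp only [mul_assoc]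
  rw [e1]
  constructor
  · obtain ⟨j, hj⟩ := h1
    exact ⟨j, by rw [e2, hj, mul_zero, zero_mul]⟩
  · rw [e2]
    intro h0
    apply h2
    have : N ^ k = T' * (T * N ^ k * T') * T := by
      calc N ^ k = (T' * T) * N ^ k * (T' * T) := by rw [hT'T, one_mul, mul_one]
        _ = T' * (T * N ^ k * T') * T := by simp only [mul_assoc]
    rw [this, h0, mul_zero, zero_mul]

open Matrix Cfsg.Agent.H9SLRoot Cfsg.Agent.Lib.Helper2.RegUni Cfsg.Agent.Lib.Helper5.RU in
theorem aux {F : Type*} [Field F] [Fintype F] (m : ℕ) (hm : 3 ≤ m) :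
    ∃ u g : Matrix.SpecialLinearGroup (Fin (m + 1)) F,
      (IsNilpotent ((u : Matrix (Fin (m + 1)) (Fin (m + 1)) F) - 1) ∧
        ((u : Matrix (Fin (m + 1)) (Fin (m + 1)) F) - 1) ^ m ≠ 0) ∧
      Subgroup.closure ({u, g * u * g⁻¹} :
        Set (Matrix.SpecialLinearGroup (Fin (m + 1)) F)) = ⊤ := by
  classical
  obtain ⟨θ, hθ⟩ := IsCyclic.exists_monoid_generator (α := Fˣ)
  have hθ0 : (θ : F) ≠ 0 := θ.ne_zero
  refine ⟨uSL m, Tm m 0 0 (θ : F), ⟨Umat_isNilpotent m, Umat_pow_ne_zero m⟩, ?_⟩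
  have := closure_uSL_vconj (F := F) hm (θ : F) hθ0 (by
    intro y hy
    obtain ⟨j, hj⟩ := (Submonoid.mem_powers_iff _ _).mp (hθ (Units.mk0 y hy))
    refine ⟨j, ?_⟩
    have := congrArg (fun x : Fˣ => (x : F)) hj
    simpa using this.symm)
  exact this

/-- Let F be a finite field with q elements and n ≥ 4. Then SL_n(F) is generated by two regular unipotent elements (elements u with u − 1 nilpotent and (u − 1)^(n−1) ≠ 0); if q is prime, the two can be taken conjugate in SL_n(F). -/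
theorem result {F : Type*} [Field F] [Fintype F] (n : ℕ) (hn : 4 ≤ n) :
    (∃ u v : Matrix.SpecialLinearGroup (Fin n) F, (IsNilpotent ((u : Matrix (Fin n) (Fin n) F) - 1) ∧ ((u : Matrix (Fin n) (Fin n) F) - 1) ^ (n - 1) ≠ 0) ∧ (IsNilpotent ((v : Matrix (Fin n) (Fin n) F) - 1) ∧ ((v : Matrix (Fin n) (Fin n) F) - 1) ^ (n - 1) ≠ 0) ∧
      Subgroup.closure ({u, v} : Set (Matrix.SpecialLinearGroup (Fin n) F)) = ⊤) ∧
    ((Fintype.card F).Prime → ∃ u g : Matrix.SpecialLinearGroup (Fin n) F, (IsNilpotent ((u : Matrix (Fin n) (Fin n) F) - 1) ∧ ((u : Matrix (Fin n) (Fin n) F) - 1) ^ (n - 1) ≠ 0) ∧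
      Subgroup.closure ({u, g * u * g⁻¹} : Set (Matrix.SpecialLinearGroup (Fin n) F)) = ⊤) := by
  obtain ⟨m, rfl⟩ : ∃ m, n = m + 1 := ⟨n - 1, by omega⟩
  have hm : 3 ≤ m := by omega
  obtain ⟨u, g, ⟨h1, h2⟩, h3⟩ := aux (F := F) m hm
  rw [Nat.add_sub_cancel]
  refine ⟨⟨u, g * u * g⁻¹, ⟨h1, h2⟩, conj_regular g u m h1 h2, h3⟩, fun _ => ⟨u, g, ⟨h1, h2⟩, h3⟩⟩

end Cfsg.Agent.S2279
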