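import Cfsg.Statements.S2280
import Mathlib
import Cfsg.Agent.Lib.Helper2.RegUni4

set_option autoImplicit false
open Cfsg

namespace Cfsg.Agent.S2280

open Matrix Cfsg.Agent.H9SLRoot Cfsg.Agent.Lib.Helper2.RegUni in
theorem aux {F : Type*} [Field F] [Fintype F] (m : ℕ) (hm : 2 ≤ m) :
    ∃ u g h : Matrix.SpecialLinearGroup (Fin (m + 1)) F,
      (IsNilpotent ((u : Matrix (Fin (m + 1)) (Fin (m + 1)) F) - 1) ∧
        ((u : Matrix (Fin (m + 1)) (Fin (m + 1)) F) - 1) ^ m ≠ 0) ∧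
      Subgroup.closure ({u, g * u * g⁻¹, h * u * h⁻¹} :
        Set (Matrix.SpecialLinearGroup (Fin (m + 1)) F)) = ⊤ := by
  classical
  obtain ⟨θ, hθ⟩ := IsCyclic.exists_monoid_generator (α := Fˣ)
  have hε : sgn (F := F) m ≠ 0 := sgn_ne_zero m
  set κ : F := (-1) ^ m * sgn m * sgn m with hκdef
  have hκ : κ ≠ 0 :=
    mul_ne_zero (mul_ne_zero (pow_ne_zero _ (neg_ne_zero.mpr one_ne_zero)) hε) hε
  set s₀ : F := (θ : F) / κ with hs₀def
  have hθ0 : (θ : F) ≠ 0 := θ.ne_zero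
  have hs₀ : s₀ ≠ 0 := div_ne_zero hθ0 hκ
  refine ⟨uSL m, tv (e (0 : Fin (m + 1))) (e (ip m)) s₀, hSL m,
    ⟨Umat_isNilpotent m, Umat_pow_ne_zero m⟩, ?_⟩
  set H := Subgroup.closure ({uSL m, tv (e (0 : Fin (m + 1))) (e (ip m)) s₀ * uSL m *
      (tv (e (0 : Fin (m + 1))) (e (ip m)) s₀)⁻¹, hSL m * uSL m * (hSL m)⁻¹} :
        Set (Matrix.SpecialLinearGroup (Fin (m + 1)) F)) with hH
  have hu : uSL m ∈ H := Subgroup.subset_closure (by simp)
  have h2 : tv (e (0 : Fin (m + 1))) (e (ip m)) s₀ * uSL m *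
      (tv (e (0 : Fin (m + 1))) (e (ip m)) s₀)⁻¹ ∈ H := Subgroup.subset_closure (by simp)
  have h3 : hSL m * uSL m * (hSL m)⁻¹ ∈ H := Subgroup.subset_closure (by simp)
  rw [hSL_conj m (by omega)] at h3
  -- index facts
  have hip0 : (ip m : Fin (m + 1)) ≠ 0 := by
    intro h
    have := congrArg Fin.val h
    simp only [Fin.val_zero] at this
    have : m - 1 = 0 := this
    omega
  have hil0 : (il m : Fin (m + 1)) ≠ 0 := by
    intro h
    have := congrArg Fin.val h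
    simp only [Fin.val_zero] at this
    have : m = 0 := this
    omega
  have hu0 : ((uSL m : Matrix.SpecialLinearGroup (Fin (m + 1)) F) :
      Matrix (Fin (m + 1)) (Fin (m + 1)) F) *ᵥ e (0 : Fin (m + 1)) = e 0 :=
    Umat_mulVec_e_zero m 0 rfl
  have hrow2 : (e (ip m) : Fin (m + 1) → F) ᵥ* Umat m = e (ip m) + e (il m) := by
    have := e_vecMul_Umat_lt (F := F) m (ip m) (by show m - 1 < m; omega)
    rw [this]
    congr 2
    apply Fin.ext
    show m - 1 + 1 = m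
    omega
  apply eq_top_of_mem hm hε hu h3 (s₀ := s₀)
  · -- the central transvection
    have hy : tv (e (0 : Fin (m + 1))) (e (il m)) s₀ = (uSL m)⁻¹ *
        (tv (e (0 : Fin (m + 1))) (e (ip m)) s₀ * uSL m *
          (tv (e (0 : Fin (m + 1))) (e (ip m)) s₀)⁻¹) := by
      have e1 : (uSL (F := F) m)⁻¹ * (tv (e (0 : Fin (m + 1))) (e (ip m)) s₀ * uSL m *
          (tv (e (0 : Fin (m + 1))) (e (ip m)) s₀)⁻¹) =
          ((uSL m)⁻¹ * tv (e (0 : Fin (m + 1))) (e (ip m)) s₀ * ((uSL m)⁻¹)⁻¹) *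
            (tv (e (0 : Fin (m + 1))) (e (ip m)) s₀)⁻¹ := by group
      rw [e1, tv_conj, inv_inv, uSL_coe, hrow2]
      have hi0 : (((uSL m)⁻¹ : Matrix.SpecialLinearGroup (Fin (m + 1)) F) :
          Matrix (Fin (m + 1)) (Fin (m + 1)) F) *ᵥ e (0 : Fin (m + 1)) = e 0 := by
        conv_lhs => rw [← hu0]
        exact inv_mulVec_mulVec _ _
      rw [hi0, tv_inv]
      have hneg : tv (e (0 : Fin (m + 1))) (e (ip m) : Fin (m + 1) → F) (-s₀) =
          tv (e (0 : Fin (m + 1))) (-(e (ip m) : Fin (m + 1) → F)) s₀ := by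
        have := tv_smul (1 : F) (-1) (e (0 : Fin (m + 1))) (e (ip m) : Fin (m + 1) → F) s₀
        rw [one_smul, neg_one_smul] at this
        rw [this]
        congr 1
        ring
      rw [hneg, tv_add_axis]
      · congr 1
        abel
      · rw [add_dotProduct, e_dot_e_ne hip0, e_dot_e_ne hil0, add_zero]
      · rw [neg_dotProduct, e_dot_e_ne hip0, neg_zero]
    rw [hy]
    exact H.mul_mem (H.inv_mem hu) h2
  · -- generation of the field
    intro a ha
    have hx : a / s₀ ≠ 0 := div_ne_zero ha hs₀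
    obtain ⟨j, hj⟩ := (Submonoid.mem_powers_iff _ _).mp (hθ (Units.mk0 (a / s₀) hx))
    refine ⟨j, ?_⟩
    have h1 : κ * s₀ = (θ : F) := by
      rw [hs₀def]
      field_simp
    have h2 : ((θ : F)) ^ j = a / s₀ := by
      have := congrArg (fun x : Fˣ => (x : F)) hj
      simpa using this
    rw [h1, h2]
    field_simp

/-- Let F be a finite field and n ≥ 3. Then SL_n(F) is generated by three conjugate regular unipotent elements: there are u with u − 1 nilpotent and (u − 1)^(n−1) ≠ 0, and g, h, such that u, g u g⁻¹ and h u h⁻¹ generate SL_n(F). -/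
theorem result {F : Type*} [Field F] [Fintype F] (n : ℕ) (hn : 3 ≤ n) :
    ∃ u g h : Matrix.SpecialLinearGroup (Fin n) F, (IsNilpotent ((u : Matrix (Fin n) (Fin n) F) - 1) ∧ ((u : Matrix (Fin n) (Fin n) F) - 1) ^ (n - 1) ≠ 0) ∧
      Subgroup.closure ({u, g * u * g⁻¹, h * u * h⁻¹} : Set (Matrix.SpecialLinearGroup (Fin n) F)) = ⊤ := by
  obtain ⟨m, rfl⟩ : ∃ m, n = m + 1 := ⟨n - 1, by omega⟩
  have hm : 2 ≤ m := by omega
  obtain ⟨u, g, h, ⟨h1, h2⟩, h3⟩ := aux (F := F) m hm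
  refine ⟨u, g, h, ⟨h1, ?_⟩, h3⟩
  rw [Nat.add_sub_cancel]
  exact h2

end Cfsg.Agent.S2280
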