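import Cfsg.Statements.S2286
import Cfsg.Agent.Lib.Helper9.SLP14

set_option autoImplicit false
open Cfsg

namespace Cfsg.Agent.S2286

open Cfsg.Agent.Lib.Helper9.SLP

/-- For every finite field F, SL_2(F) and PSL_2(F) have presentations with 3 generators and at most 9 relations; when F has characteristic 2, PSL_2(F) has a presentation with 3 generators and at most 5 relations. -/
theorem result {F : Type*} [Field F] [Fintype F] :
    (∃ rels : Finset (FreeGroup (Fin 3)), rels.card ≤ 9 ∧ Nonempty (PresentedGroup (↑rels : Set (FreeGroup (Fin 3))) ≃* Matrix.SpecialLinearGroup (Fin 2) F)) ∧ (∃ rels : Finset (FreeGroup (Fin 3)), rels.card ≤ 9 ∧ Nonempty (PresentedGroup (↑rels : Set (FreeGroup (Fin 3))) ≃* Matrix.ProjectiveSpecialLinearGroup (Fin 2) F)) ∧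
    (CharP F 2 → ∃ rels : Finset (FreeGroup (Fin 3)), rels.card ≤ 5 ∧ Nonempty (PresentedGroup (↑rels : Set (FreeGroup (Fin 3))) ≃* Matrix.ProjectiveSpecialLinearGroup (Fin 2) F)) := by
  classical
  obtain ⟨p, hp⟩ := CharP.exists F
  haveI := hp
  haveI : Fact p.Prime := ⟨CharP.char_is_prime F p⟩
  obtain ⟨ζ, hgen⟩ := IsCyclic.exists_generator (α := Fˣ)
  -- a list of relators of suitable length
  have key : ∃ L : List (FreeGroup (Fin 3)), L.length ≤ 8 ∧ (p = 2 → L.length ≤ 5) ∧
      Concl F p L := by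
    by_cases hA : ∃ c : ZMod p, ZMod.castHom (dvd_refl p) F c = (ζ : F) ^ 2
    · obtain ⟨L, hL, hc⟩ := caseA p ζ hgen hA
      exact ⟨L, by omega, fun _ => by omega, hc⟩
    · by_cases hp2 : p = 2
      · subst hp2
        obtain ⟨L, hL, hc⟩ := caseB_two ζ hgen hA
        exact ⟨L, by omega, fun _ => by omega, hc⟩
      · obtain ⟨L, hL, hc⟩ := caseB_odd p ζ hgen hA
        exact ⟨L, by omega, fun h => absurd h hp2, hc⟩
  obtain ⟨L, hL8, hL5, h1, h2, h3⟩ := key
  have hcard : L.toFinset.card ≤ L.length := List.toFinset_card_le L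
  have hcard' : (L ++ [FreeGroup.of 1 * FreeGroup.of 1]).toFinset.card ≤ L.length + 1 := by
    have := List.toFinset_card_le (L ++ [FreeGroup.of 1 * FreeGroup.of 1])
    simpa using this
  refine ⟨⟨L.toFinset, by omega, h1⟩, ?_, ?_⟩
  · by_cases hp2 : p = 2
    · exact ⟨L.toFinset, by omega, h2 hp2⟩
    · exact ⟨_, by omega, h3 hp2⟩
  · intro h2'
    have hp2 : p = 2 := CharP.eq F hp h2'
    exact ⟨L.toFinset, by have := hL5 hp2; omega, h2 hp2⟩

end Cfsg.Agent.S2286
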