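import Cfsg.Statements.S2298
import Mathlib
import Cfsg.Agent.Lib.Helper5.GL2Ident

set_option autoImplicit false
open Cfsg

namespace Cfsg.Agent.S2298

open Matrix Cfsg.Agent.Lib.Helper5 Cfsg.Agent.Lib.Helper4


/-- Over a finite field F with q elements, every irreducible complex character of GL₂ has degree 1, q − 1, q or q + 1; and when q ≥ 3 (so that these four numbers are distinct) there are exactly q − 1 irreducible characters of degree 1, exactly q − 1 of degree q, exactly (q − 1)(q − 2)/2 of degree q + 1 and exactly q(q − 1)/2 of degree q − 1. -/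
theorem result {F : Type*} [Field F] [Fintype F] :
    (∀ χ : Matrix.GeneralLinearGroup (Fin 2) F → ℂ, Cfsg.IsIrrCharacter (Matrix.GeneralLinearGroup (Fin 2) F) χ →
      χ 1 = 1 ∨ χ 1 = (Fintype.card F : ℂ) - 1 ∨ χ 1 = (Fintype.card F : ℂ) ∨ χ 1 = (Fintype.card F : ℂ) + 1) ∧
    (3 ≤ Fintype.card F →
      Nat.card {χ : Cfsg.IrrCharacter (Matrix.GeneralLinearGroup (Fin 2) F) // (χ : Matrix.GeneralLinearGroup (Fin 2) F → ℂ) 1 = 1} = Fintype.card F - 1 ∧
      Nat.card {χ : Cfsg.IrrCharacter (Matrix.GeneralLinearGroup (Fin 2) F) // (χ : Matrix.GeneralLinearGroup (Fin 2) F → ℂ) 1 = (Fintype.card F : ℂ)} = Fintype.card F - 1 ∧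
      Nat.card {χ : Cfsg.IrrCharacter (Matrix.GeneralLinearGroup (Fin 2) F) // (χ : Matrix.GeneralLinearGroup (Fin 2) F → ℂ) 1 = (Fintype.card F : ℂ) + 1} = (Fintype.card F - 1) * (Fintype.card F - 2) / 2 ∧
      Nat.card {χ : Cfsg.IrrCharacter (Matrix.GeneralLinearGroup (Fin 2) F) // (χ : Matrix.GeneralLinearGroup (Fin 2) F → ℂ) 1 = (Fintype.card F : ℂ) - 1} = Fintype.card F * (Fintype.card F - 1) / 2) := by
  classical
  refine ⟨?_, ?_⟩
  · intro χ hχ
    rcases gl2_irr_cases hχ with ⟨γ, h⟩ | ⟨γ, h⟩ | ⟨γ, δ, -, h⟩ | ⟨-, h⟩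
    · left
      rw [h, gdetFun_one]
    · right; right; left
      rw [h, gstFun_one]
    · right; right; right
      rw [h, gpsFun_one]
    · right; left
      exact h
  · intro hq
    refine ⟨?_, ?_, ?_, ?_⟩
    · rw [← card_gdet_family (F := F)]
      apply Nat.card_congr
      apply Equiv.subtypeEquivRight
      intro χ
      constructor
      · intro h
        exact eq_gdet_of_degree hq χ.2 h
      · rintro ⟨γ, h⟩
        rw [h, gdetFun_one]
    · rw [← card_gst_family (F := F)]
      apply Nat.card_congr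
      apply Equiv.subtypeEquivRight
      intro χ
      constructor
      · intro h
        exact eq_gst_of_degree χ.2 h
      · rintro ⟨γ, h⟩
        rw [h, gstFun_one]
    · have key := card_gps_family (F := F)
      have hcongr : Nat.card {χ : Cfsg.IrrCharacter (GL (Fin 2) F) //
          (χ : GL (Fin 2) F → ℂ) 1 = (Fintype.card F : ℂ) + 1}
          = Nat.card {χ : Cfsg.IrrCharacter (GL (Fin 2) F) //
            ∃ γ δ : MulChar F ℂ, γ ≠ δ ∧ (χ : GL (Fin 2) F → ℂ) = gpsFun γ δ} := by
        apply Nat.card_congr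
        apply Equiv.subtypeEquivRight
        intro χ
        constructor
        · intro h
          exact eq_gps_of_degree χ.2 h
        · rintro ⟨γ, δ, -, h⟩
          rw [h, gpsFun_one]
      rw [hcongr]
      obtain ⟨n, hn⟩ : ∃ n, Fintype.card F = n + 2 := ⟨Fintype.card F - 2, by omega⟩
      rw [hn] at key ⊢
      have e1 : n + 2 - 1 = n + 1 := by omega
      have e2 : n + 2 - 2 = n := by omega
      rw [e1] at key
      rw [e1, e2]
      symm
      apply Nat.div_eq_of_eq_mul_right two_pos
      have : (n + 1) * (n + 1) = (n + 1) * n + (n + 1) := by ring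
      omega
    · have key := (cusp_main (F := F)).2
      have hcongr : Nat.card {χ : Cfsg.IrrCharacter (GL (Fin 2) F) //
          (χ : GL (Fin 2) F → ℂ) 1 = (Fintype.card F : ℂ) - 1}
          = Nat.card {ψ : Cfsg.IrrCharacter (GL (Fin 2) F) //
            ∀ α β : MulChar F ℂ, Cfsg.classInner (gpsFun α β) (ψ : GL (Fin 2) F → ℂ) = 0} := by
        apply Nat.card_congr
        apply Equiv.subtypeEquivRight
        intro χ
        constructor
        · intro h
          rcases cusp_of_degree χ.2 h with h' | ⟨h2, -⟩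
          · exact h'
          · omega
        · intro h
          exact (cusp_main (F := F)).1 χ h
      rw [hcongr]
      exact (Nat.div_eq_of_eq_mul_right two_pos key.symm).symm

end Cfsg.Agent.S2298
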