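import Cfsg.Statements.S2300
import Cfsg.Agent.Lib.Helper5.SL2Even

set_option autoImplicit false
open Cfsg

namespace Cfsg.Agent.S2300

open Matrix Cfsg.Agent.Lib.Helper5 Cfsg.Agent.Lib.Helper1 Cfsg.Agent.Lib.Helper4

theorem even_card {F : Type*} [Field F] [Fintype F] [CharP F 2] : Even (Fintype.card F) := by
  rw [Nat.even_iff]
  exact FiniteField.even_card_of_char_two (ringChar.eq F 2)


/-- Over a finite field F with q elements, q even, every irreducible complex character of SL₂ has degree 1, q − 1, q or q + 1; and when q ≥ 4 (so that these four numbers are distinct) there are exactly one irreducible character of degree 1, one of degree q, (q − 2)/2 of degree q + 1 and q/2 of degree q − 1. -/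
theorem result {F : Type*} [Field F] [Fintype F] [CharP F 2] :
    (∀ χ : Matrix.SpecialLinearGroup (Fin 2) F → ℂ, Cfsg.IsIrrCharacter (Matrix.SpecialLinearGroup (Fin 2) F) χ →
      χ 1 = 1 ∨ χ 1 = (Fintype.card F : ℂ) - 1 ∨ χ 1 = (Fintype.card F : ℂ) ∨ χ 1 = (Fintype.card F : ℂ) + 1) ∧
    (4 ≤ Fintype.card F →
      Nat.card {χ : Cfsg.IrrCharacter (Matrix.SpecialLinearGroup (Fin 2) F) // (χ : Matrix.SpecialLinearGroup (Fin 2) F → ℂ) 1 = 1} = 1 ∧
      Nat.card {χ : Cfsg.IrrCharacter (Matrix.SpecialLinearGroup (Fin 2) F) // (χ : Matrix.SpecialLinearGroup (Fin 2) F → ℂ) 1 = (Fintype.card F : ℂ)} = 1 ∧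
      Nat.card {χ : Cfsg.IrrCharacter (Matrix.SpecialLinearGroup (Fin 2) F) // (χ : Matrix.SpecialLinearGroup (Fin 2) F → ℂ) 1 = (Fintype.card F : ℂ) + 1} = (Fintype.card F - 2) / 2 ∧
      Nat.card {χ : Cfsg.IrrCharacter (Matrix.SpecialLinearGroup (Fin 2) F) // (χ : Matrix.SpecialLinearGroup (Fin 2) F → ℂ) 1 = (Fintype.card F : ℂ) - 1} = Fintype.card F / 2) := by
  classical
  have hq := even_card (F := F)
  obtain ⟨C, hC, hcard⟩ := exists_torus (F := F)
  have hlist := fun (χ : SpecialLinearGroup (Fin 2) F → ℂ)
    (hχ : Cfsg.IsIrrCharacter (SpecialLinearGroup (Fin 2) F) χ) => irr_list_even C hq hC hcard hχ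
  refine ⟨?_, ?_⟩
  · intro χ hχ
    rcases hlist χ hχ with h | h | ⟨β, -, h⟩ | ⟨θ, -, h⟩
    · left
      rw [h]
      rfl
    · right; right; left
      rw [h, stFun_one]
    · right; right; right
      rw [h, psFun_apply_one]
    · right; left
      rw [h, cuspChar_apply_one]
  · intro hq4
    refine ⟨?_, ?_, ?_, ?_⟩
    · apply card_irr_single (fun χ => χ 1 = 1) (trivFun _) isIrrCharacter_trivFun rfl
      intro χ hχ h1
      rcases hlist χ hχ with h | h | ⟨β, -, h⟩ | ⟨θ, -, h⟩
      · exact h
      · exfalso
        rw [h, stFun_one] at h1
        have : Fintype.card F = 1 := by exact_mod_cast h1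
        omega
      · exfalso
        rw [h, psFun_apply_one] at h1
        have h2 : (Fintype.card F : ℂ) = 0 := by linear_combination h1
        have : Fintype.card F = 0 := by exact_mod_cast h2
        omega
      · exfalso
        rw [h, cuspChar_apply_one] at h1
        have h2 : (Fintype.card F : ℂ) = 2 := by linear_combination h1
        have : Fintype.card F = 2 := by exact_mod_cast h2
        omega
    · apply card_irr_single (fun χ => χ 1 = (Fintype.card F : ℂ)) stFun isIrrCharacter_stFun
        stFun_one
      intro χ hχ h1
      rcases hlist χ hχ with h | h | ⟨β, -, h⟩ | ⟨θ, -, h⟩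
      · exfalso
        rw [h, trivFun_apply_one] at h1
        have : 1 = Fintype.card F := by exact_mod_cast h1
        omega
      · exact h
      · exfalso
        rw [h, psFun_apply_one] at h1
        have h2 : (1 : ℂ) = 0 := by linear_combination h1
        exact one_ne_zero h2
      · exfalso
        rw [h, cuspChar_apply_one] at h1
        have h2 : (1 : ℂ) = 0 := by linear_combination -h1
        exact one_ne_zero h2
    · have key := card_irr_family (G := SpecialLinearGroup (Fin 2) F)
        (X := {β : MulChar F ℂ // β ≠ β⁻¹})
        (fun χ => χ 1 = (Fintype.card F : ℂ) + 1) (fun β => psFun β.1)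
        (fun β => isIrrCharacter_psFun β.2) (fun β => psFun_apply_one β.1)
        (by
          intro χ hχ h1
          rcases hlist χ hχ with h | h | ⟨β, hβ, h⟩ | ⟨θ, -, h⟩
          · exfalso
            rw [h, trivFun_apply_one] at h1
            have h2 : (Fintype.card F : ℂ) = 0 := by linear_combination -h1
            have : Fintype.card F = 0 := by exact_mod_cast h2
            omega
          · exfalso
            rw [h, stFun_one] at h1
            have h2 : (1 : ℂ) = 0 := by linear_combination -h1
            exact one_ne_zero h2
          · exact ⟨⟨β, hβ⟩, h.symm⟩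
          · exfalso
            rw [h, cuspChar_apply_one] at h1
            have h2 : (2 : ℂ) = 0 := by linear_combination -h1
            exact two_ne_zero h2)
        (fun β => ⟨β.1⁻¹, by rw [inv_inv]; exact β.2.symm⟩)
        (fun β h => β.2 (congrArg Subtype.val h).symm)
        (by
          intro x y
          rw [psFun_eq_iff x.2]
          constructor
          · rintro (h | h)
            · exact Or.inl (Subtype.ext h)
            · exact Or.inr (Subtype.ext h)
          · rintro (h | h)
            · exact Or.inl (congrArg Subtype.val h)
            · exact Or.inr (congrArg Subtype.val h))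
      rw [card_mulChar_ne_inv_even hq] at key
      omega
    · have key := card_irr_family (G := SpecialLinearGroup (Fin 2) F)
        (X := {θ : C →* ℂˣ // θ ≠ θ⁻¹})
        (fun χ => χ 1 = (Fintype.card F : ℂ) - 1) (fun θ => cuspChar C hC hcard θ.1)
        (fun θ => isIrrCharacter_cuspChar C hC hcard θ.2)
        (fun θ => cuspChar_apply_one C hC hcard θ.1)
        (by
          intro χ hχ h1
          rcases hlist χ hχ with h | h | ⟨β, hβ, h⟩ | ⟨θ, hθ, h⟩
          · exfalso
            rw [h, trivFun_apply_one] at h1
            have h2 : (Fintype.card F : ℂ) = 2 := by linear_combination -h1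
            have : Fintype.card F = 2 := by exact_mod_cast h2
            omega
          · exfalso
            rw [h, stFun_one] at h1
            have h2 : (1 : ℂ) = 0 := by linear_combination h1
            exact one_ne_zero h2
          · exfalso
            rw [h, psFun_apply_one] at h1
            have h2 : (2 : ℂ) = 0 := by linear_combination h1
            exact two_ne_zero h2
          · exact ⟨⟨θ, hθ⟩, h.symm⟩)
        (fun θ => ⟨θ.1⁻¹, by rw [monoidHom_inv_inv]; exact θ.2.symm⟩)
        (fun θ h => θ.2 (congrArg Subtype.val h).symm)
        (by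
          intro x y
          rw [cuspChar_eq_iff C hC hcard x.2]
          constructor
          · rintro (h | h)
            · exact Or.inl (Subtype.ext h)
            · exact Or.inr (Subtype.ext h)
          · rintro (h | h)
            · exact Or.inl (congrArg Subtype.val h)
            · exact Or.inr (congrArg Subtype.val h))
      rw [card_torusHom_ne_inv_even C hq hC hcard] at key
      omega

end Cfsg.Agent.S2300
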