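import Cfsg.Statements.S2302
import Mathlib

set_option autoImplicit false
open Cfsg

namespace Cfsg.Agent.S2302

open Matrix

/-- Constructor with the right type ascription. -/
def mkSL {F : Type*} [Field F] (M : Matrix (Fin 2) (Fin 2) F) (h : M.det = 1) :
    SpecialLinearGroup (Fin 2) F := ⟨M, h⟩

@[simp] theorem mkSL_coe {F : Type*} [Field F] (M : Matrix (Fin 2) (Fin 2) F) (h : M.det = 1) :
    ((mkSL M h : SpecialLinearGroup (Fin 2) F) : Matrix (Fin 2) (Fin 2) F) = M := rfl

/-- Cayley–Hamilton for 2×2 matrices, written out. -/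
theorem cayley_two {F : Type*} [Field F] (A : Matrix (Fin 2) (Fin 2) F) :
    A * A + A.det • (1 : Matrix (Fin 2) (Fin 2) F) = A.trace • A := by
  ext i j
  fin_cases i <;> fin_cases j <;>
    simp [Matrix.mul_apply, Fin.sum_univ_two, Matrix.det_fin_two, Matrix.trace_fin_two] <;> ring

theorem sq_inj {F : Type*} [Field F] [CharP F 2] {x y : F} (h : x * x = y * y) : x = y := by
  have h2 : (x - y) * (x - y) = 0 := by
    have h3 : (2 : F) = 0 := CharTwo.two_eq_zero
    linear_combination h + (y * y - x * y) * h3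
  exact sub_eq_zero.1 (mul_self_eq_zero.1 h2)

theorem exists_sqrt {F : Type*} [Field F] [Fintype F] [CharP F 2] (a : F) : ∃ x : F, x * x = a := by
  obtain ⟨x, hx⟩ := FiniteField.isSquare_of_char_two (ringChar.eq F 2) a
  exact ⟨x, hx.symm⟩

/-- Structure of involutions in `SL₂` in characteristic two. -/
theorem invol_form {F : Type*} [Field F] [CharP F 2] (g : SpecialLinearGroup (Fin 2) F)
    (hg : orderOf g = 2) :
    g 1 1 = g 0 0 ∧ g 0 0 * g 0 0 = 1 + g 0 1 * g 1 0 ∧ (g 0 1 ≠ 0 ∨ g 1 0 ≠ 0) := by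
  have h2 : (2 : F) = 0 := CharTwo.two_eq_zero
  have hsq : g ^ 2 = 1 := by
    have := pow_orderOf_eq_one g
    rw [hg] at this
    exact this
  have hne : g ≠ 1 := by
    intro h; rw [h, orderOf_one] at hg; omega
  have hM : (g : Matrix (Fin 2) (Fin 2) F) * (g : Matrix (Fin 2) (Fin 2) F) = 1 := by
    have := congrArg (fun u : SpecialLinearGroup (Fin 2) F => (u : Matrix (Fin 2) (Fin 2) F)) hsq
    simpa [pow_two] using this
  have hCH := cayley_two (g : Matrix (Fin 2) (Fin 2) F)
  rw [hM, g.det_coe, one_smul] at hCH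
  have hdet := g.det_coe
  rw [Matrix.det_fin_two] at hdet
  -- (tr g) • g = 1 + 1 = 0
  have h00 := congrFun (congrFun hCH 0) 0
  have h01 := congrFun (congrFun hCH 0) 1
  have h10 := congrFun (congrFun hCH 1) 0
  have h11 := congrFun (congrFun hCH 1) 1
  simp only [Matrix.add_apply, Matrix.one_apply_eq, Matrix.smul_apply, smul_eq_mul,
    Matrix.one_apply_ne, ne_eq, Fin.reduceEq, not_false_eq_true, add_zero,
    Matrix.trace_fin_two] at h00 h01 h10 h11
  have htr : g 0 0 + g 1 1 = 0 := by
    by_contra ht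
    have e00 : g 0 0 = 0 := by
      have : (g 0 0 + g 1 1) * g 0 0 = 0 := by linear_combination -h00 + h2
      exact (mul_eq_zero.1 this).resolve_left ht
    have e11 : g 1 1 = 0 := by
      have : (g 0 0 + g 1 1) * g 1 1 = 0 := by linear_combination -h11 + h2
      exact (mul_eq_zero.1 this).resolve_left ht
    exact ht (by rw [e00, e11, add_zero])
  have e11 : g 1 1 = g 0 0 := by linear_combination htr - g 0 0 * h2
  refine ⟨e11, ?_, ?_⟩
  · rw [e11] at hdet
    linear_combination hdet
  · by_contra hcon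
    push Not at hcon
    obtain ⟨hb, hc⟩ := hcon
    rw [e11, hb, hc] at hdet
    have hx : g 0 0 = 1 := by
      apply sq_inj
      linear_combination hdet
    apply hne
    ext i j
    fin_cases i <;> fin_cases j <;> simp [hb, hc, hx, e11]

/-- Build the involution with given off-diagonal entries. -/
theorem exists_invol {F : Type*} [Field F] [Fintype F] [CharP F 2] (b c : F)
    (hbc : b ≠ 0 ∨ c ≠ 0) : ∃ g : SpecialLinearGroup (Fin 2) F, orderOf g = 2 ∧ g 0 1 = b ∧ g 1 0 = c := by
  have h2 : (2 : F) = 0 := CharTwo.two_eq_zero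
  obtain ⟨x, hx⟩ := exists_sqrt (1 + b * c)
  refine ⟨mkSL !![x, b; c, x] (by rw [Matrix.det_fin_two_of]; linear_combination hx), ?_, by simp, by simp⟩
  apply orderOf_eq_prime
  · rw [pow_two]
    ext i j
    fin_cases i <;> fin_cases j <;>
      simp [Matrix.mul_apply, Fin.sum_univ_two] <;>
      first | linear_combination hx + b * c * h2 | linear_combination x * b * h2 | linear_combination x * c * h2 | linear_combination hx + c * b * h2
  · intro h
    have h01 := congrArg (fun u : SpecialLinearGroup (Fin 2) F => u 0 1) h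
    have h10 := congrArg (fun u : SpecialLinearGroup (Fin 2) F => u 1 0) h
    simp at h01 h10
    rcases hbc with hb | hc
    · exact hb h01
    · exact hc h10

theorem invol_ext {F : Type*} [Field F] [CharP F 2] (g h : SpecialLinearGroup (Fin 2) F)
    (hg : orderOf g = 2) (hh : orderOf h = 2) (h01 : g 0 1 = h 0 1) (h10 : g 1 0 = h 1 0) :
    g = h := by
  obtain ⟨g11, gsq, -⟩ := invol_form g hg
  obtain ⟨h11, hsq, -⟩ := invol_form h hh
  have h00 : g 0 0 = h 0 0 := by
    apply sq_inj
    rw [gsq, hsq, h01, h10]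
  ext i j
  fin_cases i <;> fin_cases j <;> simp [h00, h01, h10, g11, h11]

/-- The standard involution. -/
def J (F : Type*) [Field F] : SpecialLinearGroup (Fin 2) F :=
  mkSL !![1, 1; 0, 1] (by simp [Matrix.det_fin_two_of])

theorem conj_J {F : Type*} [Field F] [Fintype F] [CharP F 2] (g : SpecialLinearGroup (Fin 2) F)
    (hg : orderOf g = 2) : IsConj (J F) g := by
  have h2 : (2 : F) = 0 := CharTwo.two_eq_zero
  obtain ⟨e11, esq, hbc⟩ := invol_form g hg
  by_cases hc : g 1 0 = 0
  · have hb : g 0 1 ≠ 0 := by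
      rcases hbc with h | h
      · exact h
      · exact absurd hc h
    rw [hc, mul_zero, add_zero] at esq
    have h00 : g 0 0 = 1 := sq_inj (by rw [esq, one_mul])
    obtain ⟨s, hs⟩ := exists_sqrt (g 0 1)⁻¹
    have hs' : s * s * g 0 1 = 1 := by rw [hs, inv_mul_cancel₀ hb]
    refine isConj_iff.2 ⟨mkSL !![s * g 0 1, 0; 0, s] (by
      rw [Matrix.det_fin_two_of]; linear_combination hs'), ?_⟩
    rw [mul_inv_eq_iff_eq_mul]
    ext i j
    fin_cases i <;> fin_cases j <;>
      simp [J, Matrix.mul_apply, Fin.sum_univ_two, hc, h00, e11] <;> ring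
  · obtain ⟨s, hs⟩ := exists_sqrt (g 1 0)⁻¹
    have hs' : s * s * g 1 0 = 1 := by rw [hs, inv_mul_cancel₀ hc]
    refine isConj_iff.2 ⟨mkSL !![s * (g 0 0 - 1), s; s * g 1 0, 0] (by
      rw [Matrix.det_fin_two_of]; linear_combination hs' - s * s * g 1 0 * h2), ?_⟩
    rw [mul_inv_eq_iff_eq_mul]
    ext i j
    fin_cases i <;> fin_cases j <;>
      simp [J, Matrix.mul_apply, Fin.sum_univ_two, e11] <;>
      first | ring1 | linear_combination (-s) * esq - s * (1 + g 0 1 * g 1 0 - g 0 0) * h2 | linear_combination (-(s * g 1 0 * (g 0 0 - 1))) * h2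

theorem result {F : Type*} [Field F] [Fintype F] [CharP F 2] (g h : Matrix.SpecialLinearGroup (Fin 2) F) (hg : orderOf g = 2) (hh : orderOf h = 2) :
    IsConj g h ∧ Nat.card (ConjClasses.mk g).carrier = Fintype.card F ^ 2 - 1 := by
  classical
  have hconj : ∀ g h : SpecialLinearGroup (Fin 2) F, orderOf g = 2 → orderOf h = 2 → IsConj g h :=
    fun g h hg hh => (conj_J g hg).symm.trans (conj_J h hh)
  refine ⟨hconj g h hg hh, ?_⟩
  have hset : (ConjClasses.mk g).carrier = {h | orderOf h = 2} := by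
    ext k
    rw [ConjClasses.mem_carrier_iff_mk_eq, ConjClasses.mk_eq_mk_iff_isConj, Set.mem_ofPred_eq]
    constructor
    · rintro ⟨c, hc⟩
      rw [SemiconjBy.orderOf_eq _ hc, hg]
    · intro hk
      exact hconj k g hk hg
  rw [hset]
  have e : {h : SpecialLinearGroup (Fin 2) F | orderOf h = 2} ≃ {x : F × F // x ≠ 0} :=
    Equiv.ofBijective (fun k => ⟨(k.1 0 1, k.1 1 0), by
      obtain ⟨-, -, hbc⟩ := invol_form k.1 k.2
      intro h0
      rw [Prod.mk_eq_zero] at h0
      rcases hbc with h | h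
      · exact h h0.1
      · exact h h0.2⟩) (by
      constructor
      · rintro ⟨k1, hk1⟩ ⟨k2, hk2⟩ heq
        simp only [Subtype.mk.injEq, Prod.mk.injEq] at heq
        exact Subtype.ext (invol_ext k1 k2 hk1 hk2 heq.1 heq.2)
      · rintro ⟨⟨b, c⟩, hbc⟩
        have hbc' : b ≠ 0 ∨ c ≠ 0 := by
          by_contra hcon
          push Not at hcon
          exact hbc (by rw [hcon.1, hcon.2]; rfl)
        obtain ⟨k, hk, hb, hc⟩ := exists_invol b c hbc'
        exact ⟨⟨k, hk⟩, by simp [hb, hc]⟩)
  rw [Nat.card_congr e, Nat.card_eq_fintype_card, Fintype.card_subtype_compl, Fintype.card_prod]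
  simp [pow_two]

end Cfsg.Agent.S2302
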