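import Cfsg.Statements.S2303
import Mathlib

set_option autoImplicit false
open Cfsg

namespace Cfsg.Agent.S2303

open Matrix

theorem mem_centralizer_iff_mat {F : Type*} [Field F] (g h : GeneralLinearGroup (Fin 2) F) :
    h ∈ Subgroup.centralizer ({g} : Set (GeneralLinearGroup (Fin 2) F)) ↔
      (g : Matrix (Fin 2) (Fin 2) F) * (h : Matrix (Fin 2) (Fin 2) F) =
        (h : Matrix (Fin 2) (Fin 2) F) * (g : Matrix (Fin 2) (Fin 2) F) := by
  rw [Subgroup.mem_centralizer_iff]
  simp only [Set.mem_singleton_iff, forall_eq]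
  constructor
  · intro hc
    have := congrArg Units.val hc
    simpa using this
  · intro hc
    apply Units.ext
    simpa using hc

theorem part_a {F : Type*} [Field F] [Fintype F] (g : GeneralLinearGroup (Fin 2) F)
    (h01 : (g : Matrix (Fin 2) (Fin 2) F) 0 1 = 0) (h10 : (g : Matrix (Fin 2) (Fin 2) F) 1 0 = 0)
    (hne : (g : Matrix (Fin 2) (Fin 2) F) 0 0 ≠ (g : Matrix (Fin 2) (Fin 2) F) 1 1) :
    Nat.card (Subgroup.centralizer ({g} : Set (GeneralLinearGroup (Fin 2) F))) =
      (Fintype.card F - 1) ^ 2 := by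
  classical
  have hmem : ∀ h : GeneralLinearGroup (Fin 2) F,
      h ∈ Subgroup.centralizer ({g} : Set (GeneralLinearGroup (Fin 2) F)) ↔
        ((h : Matrix (Fin 2) (Fin 2) F) 0 1 = 0 ∧ (h : Matrix (Fin 2) (Fin 2) F) 1 0 = 0) := by
    intro h
    rw [mem_centralizer_iff_mat]
    constructor
    · intro hc
      have e01 := congrFun (congrFun hc 0) 1
      have e10 := congrFun (congrFun hc 1) 0
      simp only [Matrix.mul_apply, Fin.sum_univ_two, h01, h10, mul_zero, zero_mul, add_zero,
        zero_add] at e01 e10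
      have hd : (g : Matrix (Fin 2) (Fin 2) F) 0 0 - (g : Matrix (Fin 2) (Fin 2) F) 1 1 ≠ 0 :=
        sub_ne_zero.2 hne
      constructor
      · have : ((g : Matrix (Fin 2) (Fin 2) F) 0 0 - (g : Matrix (Fin 2) (Fin 2) F) 1 1) *
            (h : Matrix (Fin 2) (Fin 2) F) 0 1 = 0 := by linear_combination e01
        exact (mul_eq_zero.1 this).resolve_left hd
      · have : ((g : Matrix (Fin 2) (Fin 2) F) 0 0 - (g : Matrix (Fin 2) (Fin 2) F) 1 1) *
            (h : Matrix (Fin 2) (Fin 2) F) 1 0 = 0 := by linear_combination -e10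
        exact (mul_eq_zero.1 this).resolve_left hd
    · rintro ⟨e01, e10⟩
      ext i j
      fin_cases i <;> fin_cases j <;>
        simp [Matrix.mul_apply, Fin.sum_univ_two, h01, h10, e01, e10] <;> ring
  have hdet : ∀ h : GeneralLinearGroup (Fin 2) F,
      h ∈ Subgroup.centralizer ({g} : Set (GeneralLinearGroup (Fin 2) F)) →
      (h : Matrix (Fin 2) (Fin 2) F) 0 0 ≠ 0 ∧ (h : Matrix (Fin 2) (Fin 2) F) 1 1 ≠ 0 := by
    intro h hh
    obtain ⟨e01, e10⟩ := (hmem h).1 hh
    have := h.det_ne_zero
    rw [Matrix.det_fin_two, e01, e10, mul_zero, sub_zero] at this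
    exact ⟨left_ne_zero_of_mul this, right_ne_zero_of_mul this⟩
  let e : Subgroup.centralizer ({g} : Set (GeneralLinearGroup (Fin 2) F)) ≃ Fˣ × Fˣ :=
    { toFun := fun h => (Units.mk0 _ (hdet h.1 h.2).1, Units.mk0 _ (hdet h.1 h.2).2)
      invFun := fun uv => ⟨GeneralLinearGroup.mkOfDetNeZero !![(uv.1 : F), 0; 0, (uv.2 : F)]
        (by simp [Matrix.det_fin_two_of]), by
          rw [hmem]; simp [GeneralLinearGroup.mkOfDetNeZero]⟩
      left_inv := by
        rintro ⟨h, hh⟩
        obtain ⟨e01, e10⟩ := (hmem h).1 hh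
        apply Subtype.ext
        apply Units.ext
        ext i j
        fin_cases i <;> fin_cases j <;> simp [GeneralLinearGroup.mkOfDetNeZero, e01, e10]
      right_inv := by
        rintro ⟨u, v⟩
        simp [GeneralLinearGroup.mkOfDetNeZero] }
  rw [Nat.card_congr e, Nat.card_prod, Nat.card_eq_fintype_card, Fintype.card_units, pow_two]

theorem part_b {F : Type*} [Field F] [Fintype F] (g : GeneralLinearGroup (Fin 2) F)
    (hirr : ∀ (c : F) (v : Fin 2 → F), v ≠ 0 → (g : Matrix (Fin 2) (Fin 2) F).mulVec v ≠ c • v) :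
    Nat.card (Subgroup.centralizer ({g} : Set (GeneralLinearGroup (Fin 2) F))) =
      Fintype.card F ^ 2 - 1 := by
  classical
  set a := (g : Matrix (Fin 2) (Fin 2) F) 0 0 with ha
  set b := (g : Matrix (Fin 2) (Fin 2) F) 0 1 with hb
  set c := (g : Matrix (Fin 2) (Fin 2) F) 1 0 with hc
  set d := (g : Matrix (Fin 2) (Fin 2) F) 1 1 with hd
  have hgM : (g : Matrix (Fin 2) (Fin 2) F) = !![a, b; c, d] := by
    ext i j; fin_cases i <;> fin_cases j <;> rfl
  -- the quadratic form has no nontrivial zero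
  have hQ : ∀ p r : F, (p ≠ 0 ∨ r ≠ 0) → c * p * p + (d - a) * p * r - b * r * r ≠ 0 := by
    intro p r hpr hzero
    have hv : (![p, r] : Fin 2 → F) ≠ 0 := by
      intro h0
      have h1 := congrFun h0 0
      have h2 := congrFun h0 1
      simp at h1 h2
      rcases hpr with h | h
      · exact h h1
      · exact h h2
    by_cases hp : p = 0
    · have hr : r ≠ 0 := by
        rcases hpr with h | h
        · exact absurd hp h
        · exact h
      apply hirr d ![p, r] hv
      rw [hgM]
      subst hp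
      have hb0 : b = 0 := by
        have : b * (r * r) = 0 := by linear_combination -hzero
        exact (mul_eq_zero.1 this).resolve_right (mul_ne_zero hr hr)
      ext i
      fin_cases i <;> simp [Matrix.mulVec, dotProduct, Fin.sum_univ_two, hb0]
    · apply hirr ((a * p + b * r) / p) ![p, r] hv
      rw [hgM]
      ext i
      fin_cases i
      · simp [Matrix.mulVec, dotProduct, Fin.sum_univ_two]
        field_simp
      · simp [Matrix.mulVec, dotProduct, Fin.sum_univ_two]
        field_simp
        linear_combination hzero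
  have hc0 : c ≠ 0 := by
    have := hQ 1 0 (Or.inl one_ne_zero)
    simpa using this
  have hmem : ∀ h : GeneralLinearGroup (Fin 2) F,
      h ∈ Subgroup.centralizer ({g} : Set (GeneralLinearGroup (Fin 2) F)) ↔
        ((h : Matrix (Fin 2) (Fin 2) F) 0 1 = b * (h : Matrix (Fin 2) (Fin 2) F) 1 0 / c ∧
         (h : Matrix (Fin 2) (Fin 2) F) 1 1 = (h : Matrix (Fin 2) (Fin 2) F) 0 0 +
            (d - a) * (h : Matrix (Fin 2) (Fin 2) F) 1 0 / c) := by
    intro h
    rw [mem_centralizer_iff_mat, hgM]
    constructor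
    · intro hcomm
      have e00 := congrFun (congrFun hcomm 0) 0
      have e10 := congrFun (congrFun hcomm 1) 0
      simp [Matrix.mul_apply, Fin.sum_univ_two] at e00 e10
      constructor
      · field_simp
        linear_combination -e00
      · field_simp
        linear_combination -e10
    · rintro ⟨e01, e11⟩
      ext i j
      fin_cases i <;> fin_cases j <;>
        simp [Matrix.mul_apply, Fin.sum_univ_two, e01, e11] <;> field_simp <;> ring
  have hcol : ∀ h : GeneralLinearGroup (Fin 2) F,
      ((h : Matrix (Fin 2) (Fin 2) F) 0 0, (h : Matrix (Fin 2) (Fin 2) F) 1 0) ≠ (0 : F × F) := by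
    intro h h0
    rw [Prod.mk_eq_zero] at h0
    have := h.det_ne_zero
    rw [Matrix.det_fin_two, h0.1, h0.2] at this
    simp at this
  let e : Subgroup.centralizer ({g} : Set (GeneralLinearGroup (Fin 2) F)) ≃ {x : F × F // x ≠ 0} :=
    Equiv.ofBijective (fun h => ⟨((h.1 : Matrix (Fin 2) (Fin 2) F) 0 0,
      (h.1 : Matrix (Fin 2) (Fin 2) F) 1 0), hcol h.1⟩) (by
      constructor
      · rintro ⟨h1, hh1⟩ ⟨h2, hh2⟩ heq
        simp only [Subtype.mk.injEq, Prod.mk.injEq] at heq
        obtain ⟨e1, e1'⟩ := (hmem h1).1 hh1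
        obtain ⟨e2, e2'⟩ := (hmem h2).1 hh2
        apply Subtype.ext
        apply Units.ext
        ext i j
        fin_cases i <;> fin_cases j <;> simp [heq.1, heq.2, e1, e1', e2, e2']
      · rintro ⟨⟨p, r⟩, hpr⟩
        have hpr' : p ≠ 0 ∨ r ≠ 0 := by
          by_contra hcon
          push Not at hcon
          exact hpr (by rw [hcon.1, hcon.2]; rfl)
        have hdet : (!![p, b * r / c; r, p + (d - a) * r / c] : Matrix (Fin 2) (Fin 2) F).det ≠ 0 := by
          rw [Matrix.det_fin_two_of]
          have := hQ p r hpr'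
          intro h0
          apply this
          field_simp at h0
          linear_combination h0
        refine ⟨⟨GeneralLinearGroup.mkOfDetNeZero _ hdet, ?_⟩, ?_⟩
        · rw [hmem]
          simp [GeneralLinearGroup.mkOfDetNeZero]
        · simp [GeneralLinearGroup.mkOfDetNeZero])
  rw [Nat.card_congr e, Nat.card_eq_fintype_card, Fintype.card_subtype_compl, Fintype.card_prod]
  simp [pow_two]

theorem result {F : Type*} [Field F] [Fintype F] (g : Matrix.GeneralLinearGroup (Fin 2) F) :
    ((g : Matrix (Fin 2) (Fin 2) F) 0 1 = 0 → (g : Matrix (Fin 2) (Fin 2) F) 1 0 = 0 → (g : Matrix (Fin 2) (Fin 2) F) 0 0 ≠ (g : Matrix (Fin 2) (Fin 2) F) 1 1 →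
      Nat.card (Subgroup.centralizer ({g} : Set (Matrix.GeneralLinearGroup (Fin 2) F))) = (Fintype.card F - 1) ^ 2) ∧
    ((∀ (c : F) (v : Fin 2 → F), v ≠ 0 → (g : Matrix (Fin 2) (Fin 2) F).mulVec v ≠ c • v) →
      Nat.card (Subgroup.centralizer ({g} : Set (Matrix.GeneralLinearGroup (Fin 2) F))) = Fintype.card F ^ 2 - 1) :=
  ⟨part_a g, part_b g⟩

end Cfsg.Agent.S2303
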