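import Cfsg.Statements.S2307
import Cfsg.Agent.Lib.Helper5.SL2Odd
import Cfsg.Agent.Lib.Helper5.SL2SigmaGL

set_option autoImplicit false
open Cfsg

namespace Cfsg.Agent.S2307

open Matrix Cfsg.Agent.Lib.Helper5 Cfsg.Agent.Lib.Helper1 Cfsg.Agent.Lib.Helper4

theorem half_cast (n : ℕ) (hn : Even n) (z : ℂ) (h : z + z = (n : ℂ)) : z = ((n / 2 : ℕ) : ℂ) := by
  obtain ⟨k, hk⟩ := hn
  have h1 : n / 2 = k := by omega
  rw [h1]
  rw [hk] at h
  push_cast at h
  have h2 : (2 : ℂ) * z = 2 * k := by linear_combination h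
  exact mul_left_cancel₀ two_ne_zero h2


/-- Over a finite field F with q elements, q odd, let α be the multiplicative character of F of order 2. The character of SL₂ induced from the linear character b ↦ α(b₁₁) of the upper triangular subgroup is the sum of two distinct irreducible characters, each of degree (q + 1)/2, which are conjugate under GL₂: some fixed element of GL₂ conjugates the one into the other. -/
theorem result {F : Type*} [Field F] [Fintype F] [DecidableEq F] (hodd : Odd (Fintype.card F)) (α : MulChar F ℂ)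
    (hα : α ^ 2 = 1) (hα1 : α ≠ 1) :
    ∃ χ₁ χ₂ : Matrix.SpecialLinearGroup (Fin 2) F → ℂ, Cfsg.IsIrrCharacter (Matrix.SpecialLinearGroup (Fin 2) F) χ₁ ∧ Cfsg.IsIrrCharacter (Matrix.SpecialLinearGroup (Fin 2) F) χ₂ ∧ χ₁ ≠ χ₂ ∧
      Cfsg.indFun ((Cfsg.upperTriangularGL 2 F).comap Matrix.SpecialLinearGroup.toGL) (fun b => α (((b : Matrix.SpecialLinearGroup (Fin 2) F) : Matrix (Fin 2) (Fin 2) F) 0 0)) = χ₁ + χ₂ ∧
      χ₁ 1 = (((Fintype.card F + 1) / 2 : ℕ) : ℂ) ∧ χ₂ 1 = (((Fintype.card F + 1) / 2 : ℕ) : ℂ) ∧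
      ∃ x : Matrix.GeneralLinearGroup (Fin 2) F, ∀ g h : Matrix.SpecialLinearGroup (Fin 2) F,
        Matrix.SpecialLinearGroup.toGL h = x * Matrix.SpecialLinearGroup.toGL g * x⁻¹ → χ₂ h = χ₁ g := by
  obtain ⟨C, hC, hcard⟩ := exists_torus (F := F)
  obtain ⟨ν, hν⟩ := exists_nonsquare_unit hodd
  obtain ⟨θ₀, hθ, hθ1, -⟩ := exists_quadTorus C hodd hC hcard
  have hα' : α = α⁻¹ := by
    rw [eq_inv_iff_mul_eq_one, ← sq]
    exact hα
  obtain ⟨χp, χm, ηp, ηm, hχp, hχm, -, -, ⟨hne, -⟩, hP, -, hs1, hs2, -, -, -⟩ :=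
    odd_table C hodd hC hcard ν hν α hα' hα1 θ₀ hθ hθ1
  have hdeg : χm 1 = χp 1 := by
    rw [← hs1]
    show χp (sigmaSL ν 1) = _
    rw [map_one]
  have hsum : χp 1 + χm 1 = ((Fintype.card F + 1 : ℕ) : ℂ) := by
    have h1 := psFun_apply_one α
    rw [hP] at h1
    push_cast
    exact h1
  have heven : Even (Fintype.card F + 1) := hodd.add_one
  have hp1 : χp 1 = (((Fintype.card F + 1) / 2 : ℕ) : ℂ) := by
    apply half_cast _ heven
    rw [← hsum, hdeg]
  refine ⟨χp, χm, hχp, hχm, hne, hP, hp1, hdeg.trans hp1, diagGL ν, ?_⟩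
  intro g h hh
  rw [eq_sigmaSL_of_toGL ν g h hh]
  exact congrFun hs2 g

end Cfsg.Agent.S2307
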