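import Cfsg.Statements.S2308
import Mathlib
import Cfsg.Agent.Lib.Helper5.BorelValues
import Cfsg.Agent.Lib.Helper5.BorelGL2

set_option autoImplicit false
open Cfsg

namespace Cfsg.Agent.S2308

/-- Values of the permutation character of GL₂ over a finite field F with q elements on the cosets of its upper triangular subgroup (equivalently, the number of lines of F² that an element maps to themselves): q + 1 at a scalar matrix, 2 at a diagonal matrix with two different diagonal entries, 0 at an element with no eigenvector in F², and 1 at an upper triangular matrix with equal diagonal entries and non-zero upper right entry. -/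
theorem result {F : Type*} [Field F] [Fintype F] (g : Matrix.GeneralLinearGroup (Fin 2) F) :
    ((∃ a : F, (g : Matrix (Fin 2) (Fin 2) F) = a • (1 : Matrix (Fin 2) (Fin 2) F)) → Cfsg.fixedPointCharacter (Cfsg.upperTriangularGL 2 F) g = Fintype.card F + 1) ∧
    ((g : Matrix (Fin 2) (Fin 2) F) 0 1 = 0 → (g : Matrix (Fin 2) (Fin 2) F) 1 0 = 0 → (g : Matrix (Fin 2) (Fin 2) F) 0 0 ≠ (g : Matrix (Fin 2) (Fin 2) F) 1 1 →
      Cfsg.fixedPointCharacter (Cfsg.upperTriangularGL 2 F) g = 2) ∧
    ((∀ (c : F) (v : Fin 2 → F), v ≠ 0 → (g : Matrix (Fin 2) (Fin 2) F).mulVec v ≠ c • v) → Cfsg.fixedPointCharacter (Cfsg.upperTriangularGL 2 F) g = 0) ∧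
    ((g : Matrix (Fin 2) (Fin 2) F) 1 0 = 0 → (g : Matrix (Fin 2) (Fin 2) F) 0 0 = (g : Matrix (Fin 2) (Fin 2) F) 1 1 → (g : Matrix (Fin 2) (Fin 2) F) 0 1 ≠ 0 →
      Cfsg.fixedPointCharacter (Cfsg.upperTriangularGL 2 F) g = 1) := by
  classical
  obtain ⟨a, ha⟩ : ∃ a : F, (g : Matrix (Fin 2) (Fin 2) F) 0 0 = a := ⟨_, rfl⟩
  obtain ⟨b, hb⟩ : ∃ b : F, (g : Matrix (Fin 2) (Fin 2) F) 0 1 = b := ⟨_, rfl⟩
  obtain ⟨c, hc⟩ : ∃ c : F, (g : Matrix (Fin 2) (Fin 2) F) 1 0 = c := ⟨_, rfl⟩
  obtain ⟨d, hd⟩ : ∃ d : F, (g : Matrix (Fin 2) (Fin 2) F) 1 1 = d := ⟨_, rfl⟩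
  have key := Cfsg.Agent.Lib.Helper5.card_fixedBy_borel Cfsg.Agent.Lib.Helper5.glM
    (Cfsg.upperTriangularGL 2 F) Cfsg.Agent.Lib.Helper5.glX
    Cfsg.Agent.Lib.Helper5.mem_upperTriangularGL_two Cfsg.Agent.Lib.Helper5.glM_glX g
  simp only [Cfsg.Agent.Lib.Helper5.glM_apply] at key
  rw [ha, hb, hc, hd] at key
  have hgM : (g : Matrix (Fin 2) (Fin 2) F) = !![a, b; c, d] := by
    rw [Matrix.eta_fin_two (g : Matrix (Fin 2) (Fin 2) F), ha, hb, hc, hd]
  unfold Cfsg.fixedPointCharacter
  rw [key, hgM]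
  clear key
  simp only [Matrix.of_apply, Matrix.cons_val', Matrix.cons_val_zero, Matrix.cons_val_one,
    Matrix.empty_val', Matrix.cons_val_fin_one]
  have hunit1 : ∀ p : Prop, p → Nat.card {_u : Unit // p} = 1 := by
    intro p hp
    rw [Nat.card_eq_one_iff_unique]
    exact ⟨⟨fun x y => Subtype.ext rfl⟩, ⟨⟨(), hp⟩⟩⟩
  have hunit0 : ∀ p : Prop, ¬ p → Nat.card {_u : Unit // p} = 0 := by
    intro p hp
    have : IsEmpty {_u : Unit // p} := ⟨fun x => hp x.2⟩
    exact Nat.card_of_isEmpty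
  refine ⟨?_, ?_, ?_, ?_⟩
  · rintro ⟨e, he⟩
    have h00 := congrFun (congrFun he 0) 0
    have h01 := congrFun (congrFun he 0) 1
    have h10 := congrFun (congrFun he 1) 0
    have h11 := congrFun (congrFun he 1) 1
    simp at h00 h01 h10 h11
    rw [h00, h01, h10, h11]
    rw [hunit1 _ rfl]
    have : Nat.card {s : F // (0 : F) * s ^ 2 + (e - e) * s - 0 = 0} = Fintype.card F := by
      rw [← Nat.card_eq_fintype_card]
      apply Nat.card_congr
      exact Equiv.subtypeUnivEquiv (fun s => by simp)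
    rw [this]
    push_cast
    ring
  · intro hb0 hc0 hne
    subst hb0 hc0
    rw [hunit1 _ rfl]
    have : Nat.card {s : F // (0 : F) * s ^ 2 + (d - a) * s - 0 = 0} = 1 := by
      rw [Nat.card_eq_one_iff_unique]
      refine ⟨⟨fun x y => Subtype.ext ?_⟩, ⟨⟨0, by simp⟩⟩⟩
      have hx := x.2
      have hy := y.2
      simp only [zero_mul, zero_add, sub_zero, mul_eq_zero] at hx hy
      rw [hx.resolve_left (sub_ne_zero.2 (Ne.symm hne)), hy.resolve_left (sub_ne_zero.2 (Ne.symm hne))]
    rw [this]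
    norm_num
  · intro hno
    have hc0 : c ≠ 0 := by
      intro hc0
      apply hno a ![1, 0]
      · intro h
        have := congrFun h 0
        simp at this
      · ext i
        fin_cases i <;> simp [Matrix.mulVec, dotProduct, hc0]
    rw [hunit0 _ hc0]
    have : IsEmpty {s : F // c * s ^ 2 + (d - a) * s - b = 0} := by
      refine ⟨fun s => ?_⟩
      have hs := s.2
      apply hno (c * s.1 + d) ![s.1, 1]
      · intro h
        have := congrFun h 1
        simp at this
      · ext i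
        fin_cases i
        · simp [Matrix.mulVec, dotProduct]
          linear_combination -hs
        · simp [Matrix.mulVec, dotProduct]
    rw [Nat.card_of_isEmpty]
    simp
  · intro hc0 had hb0
    subst hc0 had
    rw [hunit1 _ rfl]
    have : IsEmpty {s : F // (0 : F) * s ^ 2 + (a - a) * s - b = 0} := by
      refine ⟨fun s => ?_⟩
      have hs := s.2
      simp only [sub_self, zero_mul, zero_add, zero_sub, neg_eq_zero] at hs
      exact hb0 hs
    rw [Nat.card_of_isEmpty]
    simp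

end Cfsg.Agent.S2308
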