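import Cfsg.Statements.S2309
import Mathlib
import Cfsg.Agent.Lib.Helper5.GL2Ident

set_option autoImplicit false
open Cfsg

namespace Cfsg.Agent.S2309

open Matrix Cfsg.Agent.Lib.Helper5 Cfsg.Agent.Lib.Helper4


/-- Over a finite field F with q elements: every irreducible complex character of GL₂ of degree q − 1 vanishes at every diagonal matrix with two distinct entries, and every irreducible complex character of degree q + 1 vanishes at every element with no eigenvector in F². -/
theorem result {F : Type*} [Field F] [Fintype F] (χ : Matrix.GeneralLinearGroup (Fin 2) F → ℂ) (hχ : Cfsg.IsIrrCharacter (Matrix.GeneralLinearGroup (Fin 2) F) χ) (g : Matrix.GeneralLinearGroup (Fin 2) F) :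
    (χ 1 = (Fintype.card F : ℂ) - 1 → (g : Matrix (Fin 2) (Fin 2) F) 0 1 = 0 → (g : Matrix (Fin 2) (Fin 2) F) 1 0 = 0 → (g : Matrix (Fin 2) (Fin 2) F) 0 0 ≠ (g : Matrix (Fin 2) (Fin 2) F) 1 1 → χ g = 0) ∧
    (χ 1 = (Fintype.card F : ℂ) + 1 → (∀ (c : F) (v : Fin 2 → F), v ≠ 0 → (g : Matrix (Fin 2) (Fin 2) F).mulVec v ≠ c • v) → χ g = 0) := by
  classical
  refine ⟨?_, ?_⟩
  · intro hdeg h01 h10 hne
    obtain ⟨a, d, ha, hd, hg⟩ := exists_gE_of_lower_zero g h10
    rcases cusp_of_degree hχ hdeg with h | ⟨h2, -⟩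
    · rw [hg]
      exact cusp_split_zero χ (isClassFunction_of_isCharacter (isCharacter_of_irr hχ)) h a d
        (by rw [ha, hd]; exact hne) _
    · exfalso
      have hu : Fintype.card Fˣ = 1 := by rw [Fintype.card_units, h2]
      have hsub : Subsingleton Fˣ := Fintype.card_le_one_iff_subsingleton.1 hu.le
      apply hne
      rw [← ha, ← hd, Subsingleton.elim a d]
  · intro hdeg hno
    obtain ⟨γ, δ, -, rfl⟩ := eq_gps_of_degree hχ hdeg
    exact gpsFun_of_no_eigenvector γ δ g hno

end Cfsg.Agent.S2309
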