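import Cfsg.Statements.S2310
import Mathlib
import Cfsg.Agent.Lib.Helper5.GL2Ident

set_option autoImplicit false
open Cfsg

namespace Cfsg.Agent.S2310

open Matrix Cfsg.Agent.Lib.Helper5


/-- Over a finite field F with q ≥ 3 elements, let u be the upper unitriangular matrix of GL₂ with off-diagonal entry 1. An irreducible complex character χ of GL₂ takes at u the value 1 if χ has degree 1 or q + 1, the value −1 if χ has degree q − 1, and the value 0 if χ has degree q. -/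
theorem result {F : Type*} [Field F] [Fintype F] (hq : 3 ≤ Fintype.card F) (χ : Matrix.GeneralLinearGroup (Fin 2) F → ℂ) (hχ : Cfsg.IsIrrCharacter (Matrix.GeneralLinearGroup (Fin 2) F) χ)
    (u : Matrix.GeneralLinearGroup (Fin 2) F) (hu : (u : Matrix (Fin 2) (Fin 2) F) = !![1, 1; 0, 1]) :
    (χ 1 = 1 → χ u = 1) ∧ (χ 1 = (Fintype.card F : ℂ) + 1 → χ u = 1) ∧
    (χ 1 = (Fintype.card F : ℂ) - 1 → χ u = -1) ∧ (χ 1 = (Fintype.card F : ℂ) → χ u = 0) := by
  classical
  have hu1 : u = gE 1 1 (1 : F) := by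
    apply Units.ext
    rw [hu, gE_coe, Units.val_one]
  have hdetu : ∀ γ : MulChar F ℂ, gdetFun γ u = 1 := by
    intro γ
    rw [gdetFun_apply γ u 1 1 0 1 (by rw [hu]; rfl) (by rw [hu]; rfl) (by rw [hu]; rfl)
      (by rw [hu]; rfl)]
    simp
  refine ⟨?_, ?_, ?_, ?_⟩
  · intro hdeg
    obtain ⟨γ, rfl⟩ := eq_gdet_of_degree hq hχ hdeg
    exact hdetu γ
  · intro hdeg
    obtain ⟨γ, δ, -, rfl⟩ := eq_gps_of_degree hχ hdeg
    exact gpsFun_unip γ δ u hu
  · intro hdeg
    rcases cusp_of_degree hχ hdeg with h | ⟨h2, -⟩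
    · rw [hu1]
      exact cusp_unip_value hχ h hdeg
    · omega
  · intro hdeg
    obtain ⟨γ, rfl⟩ := eq_gst_of_degree hχ hdeg
    unfold gstFun
    rw [Pi.sub_apply, gpsFun_unip γ γ u hu, hdetu γ, sub_self]

end Cfsg.Agent.S2310
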