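import Mathlib
-- Template for statement S2326 (row 2326; see /opt/grader/pristine/manifest.json for weights).
-- Copy to Cfsg/Agent/S2326.lean and replace the sorry. The statement below is byte-identical to the frozen
-- statement Cfsg.CfsgFrozen.S2326 (Cfsg/Statements/S2326.lean; the theorem Cfsg.lie3_chevalley_pos_unipotent_is_sylow);
-- the grader kernel-checks Cfsg.Agent.S2326.result against that frozen type. Keep the theorem IN THIS FILE
-- (a `result` declared elsewhere and merely imported here is not credited); helpers may live anywhere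
-- under Cfsg/Agent/.
import Cfsg.Statements.S2326
import Cfsg.Agent.Lib.Helper3.ChevData.G2UHyp
import Cfsg.Agent.Lib.Helper3.ChevData.G2Bn
import Cfsg.Agent.Lib.Helper3.ChevData.G2NegTri
import Cfsg.Agent.Lib.Helper3.ChevData.G2Vec
import Cfsg.Agent.Lib.Helper3.ChevData.G2Poin
import Cfsg.Agent.Lib.Helper3.ChevData.B2UHyp
import Cfsg.Agent.Lib.Helper3.ChevData.B2Bn
import Cfsg.Agent.Lib.Helper3.ChevData.B2NegTri
import Cfsg.Agent.Lib.Helper3.ChevData.B2Vec
import Cfsg.Agent.Lib.Helper3.ChevData.B2Poin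
import Cfsg.Agent.Lib.Helper3.ChevData.D4UHyp
import Cfsg.Agent.Lib.Helper3.ChevData.D4Bn
import Cfsg.Agent.Lib.Helper3.ChevData.D4NegTri
import Cfsg.Agent.Lib.Helper3.ChevData.D4Vec
import Cfsg.Agent.Lib.Helper3.ChevData.D4Poin
import Cfsg.Agent.Lib.Helper3.ChevData.F4UHyp
import Cfsg.Agent.Lib.Helper3.ChevData.F4Bn
import Cfsg.Agent.Lib.Helper3.ChevData.F4NegTri
import Cfsg.Agent.Lib.Helper3.ChevData.F4Vec
import Cfsg.Agent.Lib.Helper3.ChevData.F4Poin
import Cfsg.Agent.Lib.Helper3.ChevData.E6UHyp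
import Cfsg.Agent.Lib.Helper3.ChevData.E6Bn
import Cfsg.Agent.Lib.Helper3.ChevData.E6NegTri
import Cfsg.Agent.Lib.Helper3.ChevData.E6Vec
import Cfsg.Agent.Lib.Helper3.ChevData.E6Poin
import Cfsg.Agent.Lib.Helper3.ChevData.E7UHyp
import Cfsg.Agent.Lib.Helper3.ChevData.E7Bn
import Cfsg.Agent.Lib.Helper3.ChevData.E7NegTri
import Cfsg.Agent.Lib.Helper3.ChevData.E7Vec
import Cfsg.Agent.Lib.Helper3.ChevData.E7Poin
import Cfsg.Agent.Lib.Helper3.ChevData.E8UHyp
import Cfsg.Agent.Lib.Helper3.ChevData.E8Bn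
import Cfsg.Agent.Lib.Helper3.ChevData.E8NegTri
import Cfsg.Agent.Lib.Helper3.ChevData.E8Vec
import Cfsg.Agent.Lib.Helper3.ChevData.E8Poin
import Cfsg.Agent.Lib.Helper3.ChevSyl

set_option autoImplicit false
open Cfsg
open Cfsg.Agent.Lib.Helper3.ChevM

namespace Cfsg.Agent.S2326

/-- In a Chevalley group of type G₂, B₂, D₄, F₄, E₆, E₇ or E₈ over a finite field of characteristic p, the subgroup U generated by the positive root elements is a Sylow p-subgroup. -/
theorem result {F : Type*} [Field F] [Fintype F] (p : ℕ) [Fact p.Prime] [CharP F p] (D : Cfsg.Lie.ChevalleyDatum) (hD : D ∈ [Cfsg.Lie.chevG2, Cfsg.Lie.chevB2, Cfsg.Lie.chevD4, Cfsg.Lie.chevF4, Cfsg.Lie.chevE6, Cfsg.Lie.chevE7, Cfsg.Lie.chevE8]) :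
    ∃ P : Sylow p ↥(D.group F), (P : Subgroup ↥(D.group F)) = (D.posUnipotent F).subgroupOf (D.group F) := by
  simp only [List.mem_cons, List.not_mem_nil, or_false] at hD
  rcases hD with rfl | rfl | rfl | rfl | rfl | rfl | rfl
  · refine uhypG2.exists_sylow (F := F) bnG2 p g2NegTri g2Sign (by decide +kernel) vecG2
      (of_pairRange (m := 2) (n := 12) g2Vec) smPG2 smQG2 smPiG2 smQiG2 smDG2
      (by decide +kernel) (by decide +kernel) (by decide +kernel) (by decide +kernel) ?_
    rw [g2Poin]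
    refine mul_add_one_mul _ _ _ ?_ (sum_pow_eq_mul_add_one _ _ (by decide +kernel))
    exact sum_pow_eq_mul_add_one _ _ (by decide +kernel)
  · refine uhypB2.exists_sylow (F := F) bnB2 p b2NegTri b2Sign (by decide +kernel) vecB2
      (of_pairRange (m := 2) (n := 8) b2Vec) smPB2 smQB2 smPiB2 smQiB2 smDB2
      (by decide +kernel) (by decide +kernel) (by decide +kernel) (by decide +kernel) ?_
    rw [b2Poin]
    refine mul_add_one_mul _ _ _ ?_ (sum_pow_eq_mul_add_one _ _ (by decide +kernel))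
    exact sum_pow_eq_mul_add_one _ _ (by decide +kernel)
  · refine uhypD4.exists_sylow (F := F) bnD4 p d4NegTri d4Sign (by decide +kernel) vecD4
      (of_pairRange (m := 4) (n := 24) d4Vec) smPD4 smQD4 smPiD4 smQiD4 smDD4
      (by decide +kernel) (by decide +kernel) (by decide +kernel) (by decide +kernel) ?_
    rw [d4Poin]
    refine mul_add_one_mul _ _ _ ?_ (sum_pow_eq_mul_add_one _ _ (by decide +kernel))
    refine mul_add_one_mul _ _ _ ?_ (sum_pow_eq_mul_add_one _ _ (by decide +kernel))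
    refine mul_add_one_mul _ _ _ ?_ (sum_pow_eq_mul_add_one _ _ (by decide +kernel))
    exact sum_pow_eq_mul_add_one _ _ (by decide +kernel)
  · refine uhypF4.exists_sylow (F := F) bnF4 p f4NegTri f4Sign (by decide +kernel) vecF4
      (of_pairRange (m := 4) (n := 48) f4Vec) smPF4 smQF4 smPiF4 smQiF4 smDF4
      (by decide +kernel) (by decide +kernel) (by decide +kernel) (by decide +kernel) ?_
    rw [f4Poin]
    refine mul_add_one_mul _ _ _ ?_ (sum_pow_eq_mul_add_one _ _ (by decide +kernel))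
    refine mul_add_one_mul _ _ _ ?_ (sum_pow_eq_mul_add_one _ _ (by decide +kernel))
    refine mul_add_one_mul _ _ _ ?_ (sum_pow_eq_mul_add_one _ _ (by decide +kernel))
    exact sum_pow_eq_mul_add_one _ _ (by decide +kernel)
  · refine uhypE6.exists_sylow (F := F) bnE6 p e6NegTri e6Sign (by decide +kernel) vecE6
      (of_pairRange (m := 6) (n := 72) e6Vec) smPE6 smQE6 smPiE6 smQiE6 smDE6
      (by decide +kernel) (by decide +kernel) (by decide +kernel) (by decide +kernel) ?_
    rw [e6Poin]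
    refine mul_add_one_mul _ _ _ ?_ (sum_pow_eq_mul_add_one _ _ (by decide +kernel))
    refine mul_add_one_mul _ _ _ ?_ (sum_pow_eq_mul_add_one _ _ (by decide +kernel))
    refine mul_add_one_mul _ _ _ ?_ (sum_pow_eq_mul_add_one _ _ (by decide +kernel))
    refine mul_add_one_mul _ _ _ ?_ (sum_pow_eq_mul_add_one _ _ (by decide +kernel))
    refine mul_add_one_mul _ _ _ ?_ (sum_pow_eq_mul_add_one _ _ (by decide +kernel))
    exact sum_pow_eq_mul_add_one _ _ (by decide +kernel)
  · refine uhypE7.exists_sylow (F := F) bnE7 p e7NegTri e7Sign (by decide +kernel) vecE7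
      (of_pairRange (m := 7) (n := 126) e7Vec) smPE7 smQE7 smPiE7 smQiE7 smDE7
      (by decide +kernel) (by decide +kernel) (by decide +kernel) (by decide +kernel) ?_
    rw [e7Poin]
    refine mul_add_one_mul _ _ _ ?_ (sum_pow_eq_mul_add_one _ _ (by decide +kernel))
    refine mul_add_one_mul _ _ _ ?_ (sum_pow_eq_mul_add_one _ _ (by decide +kernel))
    refine mul_add_one_mul _ _ _ ?_ (sum_pow_eq_mul_add_one _ _ (by decide +kernel))
    refine mul_add_one_mul _ _ _ ?_ (sum_pow_eq_mul_add_one _ _ (by decide +kernel))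
    refine mul_add_one_mul _ _ _ ?_ (sum_pow_eq_mul_add_one _ _ (by decide +kernel))
    refine mul_add_one_mul _ _ _ ?_ (sum_pow_eq_mul_add_one _ _ (by decide +kernel))
    exact sum_pow_eq_mul_add_one _ _ (by decide +kernel)
  · refine uhypE8.exists_sylow (F := F) bnE8 p e8NegTri e8Sign (by decide +kernel) vecE8
      (of_pairRange (m := 8) (n := 240) e8Vec) smPE8 smQE8 smPiE8 smQiE8 smDE8
      (by decide +kernel) (by decide +kernel) (by decide +kernel) (by decide +kernel) ?_
    rw [e8Poin]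
    refine mul_add_one_mul _ _ _ ?_ (sum_pow_eq_mul_add_one _ _ (by decide +kernel))
    refine mul_add_one_mul _ _ _ ?_ (sum_pow_eq_mul_add_one _ _ (by decide +kernel))
    refine mul_add_one_mul _ _ _ ?_ (sum_pow_eq_mul_add_one _ _ (by decide +kernel))
    refine mul_add_one_mul _ _ _ ?_ (sum_pow_eq_mul_add_one _ _ (by decide +kernel))
    refine mul_add_one_mul _ _ _ ?_ (sum_pow_eq_mul_add_one _ _ (by decide +kernel))
    refine mul_add_one_mul _ _ _ ?_ (sum_pow_eq_mul_add_one _ _ (by decide +kernel))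
    refine mul_add_one_mul _ _ _ ?_ (sum_pow_eq_mul_add_one _ _ (by decide +kernel))
    exact sum_pow_eq_mul_add_one _ _ (by decide +kernel)

end Cfsg.Agent.S2326
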