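import Mathlib
-- Template for statement S2314 (row 2314; see /opt/grader/pristine/manifest.json for weights).
-- Copy to Cfsg/Agent/S2314.lean and replace the sorry. The statement below is byte-identical to the frozen
-- statement Cfsg.CfsgFrozen.S2314 (Cfsg/Statements/S2314.lean; the theorem Cfsg.lie3_chevalley_card_unipotent_elements);
-- the grader kernel-checks Cfsg.Agent.S2314.result against that frozen type. Keep the theorem IN THIS FILE
-- (a `result` declared elsewhere and merely imported here is not credited); helpers may live anywhere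
-- under Cfsg/Agent/.
import Cfsg.Statements.S2314
import Cfsg.Agent.Lib.Helper3.PUG2
import Cfsg.Agent.Lib.Helper3.PUB2
import Cfsg.Agent.Lib.Helper3.PUD4
import Cfsg.Agent.Lib.Helper3.PUF4
import Cfsg.Agent.Lib.Helper3.PUE6
import Cfsg.Agent.Lib.Helper3.PUE7
import Cfsg.Agent.Lib.Helper3.PUE8
import Cfsg.Agent.S1027
import Cfsg.Agent.S2326

set_option autoImplicit false
open Cfsg

namespace Cfsg.Agent.S2314

/-- Steinberg's count of unipotent elements: in a Chevalley group of type G₂, B₂, D₄, F₄, E₆, E₇ or E₈ over a finite field of characteristic p with q elements, the number of elements of p-power order is q^(2N), N the number of positive roots — the square of the order of a Sylow p-subgroup. -/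
theorem result {F : Type*} [Field F] [Fintype F] (p : ℕ) [Fact p.Prime] [CharP F p] (D : Cfsg.Lie.ChevalleyDatum) (hD : D ∈ [Cfsg.Lie.chevG2, Cfsg.Lie.chevB2, Cfsg.Lie.chevD4, Cfsg.Lie.chevF4, Cfsg.Lie.chevE6, Cfsg.Lie.chevE7, Cfsg.Lie.chevE8]) :
    Nat.card {g : ↥(D.group F) // ∃ k : ℕ, orderOf g = p ^ k} = Fintype.card F ^ (2 * (D.nroots / 2)) := by
  have hU := Cfsg.Agent.S1027.result (F := F) D hD
  have hsyl := Cfsg.Agent.S2326.result (F := F) p D hD
  simp only [List.mem_cons, List.not_mem_nil, or_false] at hD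
  rcases hD with rfl | rfl | rfl | rfl | rfl | rfl | rfl
  · exact Cfsg.Agent.Lib.Helper3.PU.cardPG2 p hU hsyl
  · exact Cfsg.Agent.Lib.Helper3.PU.cardPB2 p hU hsyl
  · exact Cfsg.Agent.Lib.Helper3.PU.cardPD4 p hU hsyl
  · exact Cfsg.Agent.Lib.Helper3.PU.cardPF4 p hU hsyl
  · exact Cfsg.Agent.Lib.Helper3.PU.cardPE6 p hU hsyl
  · exact Cfsg.Agent.Lib.Helper3.PU.cardPE7 p hU hsyl
  · exact Cfsg.Agent.Lib.Helper3.PU.cardPE8 p hU hsyl

end Cfsg.Agent.S2314
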