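import Cfsg.Statements.S2315
import Cfsg.Agent.Lib.Helper5.NilCount2
import Cfsg.Agent.Lib.Helper5.UnipotentGL

set_option autoImplicit false
open Cfsg

namespace Cfsg.Agent.S2315


open Cfsg.Agent.Lib.Helper5 Cfsg.Agent.Lib.Helper5.NilCount



/-- Steinberg's count of unipotent elements for the general linear group: over a finite field with q elements of characteristic p, the number of elements of GL_n of p-power order (the unipotent matrices) is q^(n(n−1)). -/
theorem result {F : Type*} [Field F] [Fintype F] (p : ℕ) [Fact p.Prime] [CharP F p] (n : ℕ) :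
    Nat.card {g : Matrix.GeneralLinearGroup (Fin n) F // ∃ k : ℕ, orderOf g = p ^ k} = Fintype.card F ^ (n * (n - 1)) := by
  classical
  rw [← nilN_eq F n]
  unfold nilN
  apply Nat.card_congr
  refine Equiv.ofBijective (fun g => ⟨g.1.val - 1, ?_⟩) ⟨?_, ?_⟩
  · obtain ⟨k, hk⟩ := g.2
    exact ⟨p ^ k, nilpotent_of_orderOf p g.1 k hk⟩
  · rintro ⟨g, hg⟩ ⟨h, hh⟩ hgh
    have h1 : g.val - 1 = h.val - 1 := congrArg Subtype.val hgh
    apply Subtype.ext
    apply Units.ext
    exact sub_left_injective h1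
  · rintro ⟨N, m, hN⟩
    obtain ⟨g, hg, j, hj⟩ := exists_unipotent_of_nilpotent p N m hN
    exact ⟨⟨g, j, hj⟩, Subtype.ext hg⟩


end Cfsg.Agent.S2315
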