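import Cfsg.Statements.S2316
import Cfsg.Agent.S0245
import Cfsg.Agent.Lib.Helper5.SpUn9
import Cfsg.Agent.Lib.Helper4.SpUnC
import Cfsg.Agent.Lib.Helper7.SpUnD1
import Cfsg.Agent.Lib.Helper7.SpUnD2
import Cfsg.Agent.Lib.Helper9.SpUnE

set_option autoImplicit false
open Cfsg

namespace Cfsg.Agent.S2316

open Cfsg.Agent.Lib.Helper5.SpUn Cfsg.Agent.Lib.Helper5.NilCount

/-- Steinberg's count of unipotent elements for the symplectic group: over a finite field with q elements of characteristic p, the number of elements of Sp_{2m} of p-power order is q^(2m²). -/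
theorem result {F : Type*} [Field F] [Fintype F] (p : ℕ) [Fact p.Prime] [CharP F p] (m : ℕ) :
    Nat.card {g : ↥(Matrix.symplecticGroup (Fin m) F) // ∃ k : ℕ, orderOf g = p ^ k} = Fintype.card F ^ (2 * m ^ 2) := by
  classical
  rw [card_unipotent_eq_uN F p m]
  obtain ⟨t1, h1, h1s⟩ := exists_t1 F
  obtain ⟨t3, h3, h3s⟩ := exists_t3 F
  exact Cfsg.Agent.Lib.Helper9.SpUnE.uN_eq_of_relations (Fintype.card F) Fintype.one_lt_card
    (sN F) (uN F) (eN F) (aN F) (iN F) (hN F) (glN F) (nilN F) t1 t3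
    (fun n => by rw [sN_eq_card]; exact Cfsg.Agent.S0245.result rfl n)
    (fun n => glN_cast F n)
    (fun n => nilN_eq F n)
    (fun n => Cfsg.Agent.Lib.Helper7.SpUnD2.aN_eq F n)
    (fun n => Cfsg.Agent.Lib.Helper7.SpUnD1.iN_eq_eN F n)
    (fun n => Cfsg.Agent.Lib.Helper4.SpUnC.hN_mul F n)
    h1 h1s h3 h3s m

end Cfsg.Agent.S2316
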