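import Mathlib
import Cfsg.Statements.S2317
import Cfsg.Agent.Lib.Helper5.UnipotentGL

set_option autoImplicit false
open Cfsg

namespace Cfsg.Agent.S2317

open Cfsg.Agent.Lib.Helper5

/-- Over a finite field of characteristic p, the conjugacy classes of GL_n consisting of elements of p-power order (the unipotent classes) are as many as the partitions of n. -/
theorem result {F : Type*} [Field F] [Fintype F] (p : ℕ) [Fact p.Prime] [CharP F p] (n : ℕ) :
    Nat.card {C : ConjClasses (Matrix.GeneralLinearGroup (Fin n) F) //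
      ∃ g : Matrix.GeneralLinearGroup (Fin n) F, (∃ k : ℕ, orderOf g = p ^ k) ∧ ConjClasses.mk g = C} =
      Fintype.card (Nat.Partition n) := by
  classical
  have hex : ∀ C : {C : ConjClasses (Matrix.GeneralLinearGroup (Fin n) F) //
      ∃ g : Matrix.GeneralLinearGroup (Fin n) F, (∃ k : ℕ, orderOf g = p ^ k) ∧ ConjClasses.mk g = C},
      ∃ μ : Nat.Partition n, ∃ g : Matrix.GeneralLinearGroup (Fin n) F,
        (∃ k : ℕ, orderOf g = p ^ k) ∧ ConjClasses.mk g = C.1 ∧ HasJType (g.val - 1) μ := by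
    rintro ⟨C, g, ⟨k, hk⟩, hgC⟩
    obtain ⟨μ, hμ⟩ := exists_hasJType (g.val - 1) (p ^ k) (nilpotent_of_orderOf p g k hk)
    exact ⟨μ, g, ⟨k, hk⟩, hgC, hμ⟩
  rw [← Nat.card_eq_fintype_card]
  apply Nat.card_eq_of_bijective (fun C => Classical.choose (hex C))
  constructor
  · intro C D hCD
    obtain ⟨g, ⟨k, hk⟩, hgC, hgμ⟩ := Classical.choose_spec (hex C)
    obtain ⟨h, ⟨k', hk'⟩, hhD, hhμ⟩ := Classical.choose_spec (hex D)
    simp only at hCD
    rw [← hCD] at hhμ
    apply Subtype.ext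
    rw [← hgC, ← hhD, ConjClasses.mk_eq_mk_iff_isConj]
    apply isConj_of_kdM_eq g h (p ^ k) (p ^ k') (nilpotent_of_orderOf p g k hk)
      (nilpotent_of_orderOf p h k' hk')
    intro j
    rw [hgμ j, hhμ j]
  · intro μ
    obtain ⟨M, hM, hMμ⟩ := exists_matrix_of_partition (F := F) μ
    obtain ⟨g, hgM, hgo⟩ := exists_unipotent_of_nilpotent p M n hM
    refine ⟨⟨ConjClasses.mk g, g, hgo, rfl⟩, ?_⟩
    obtain ⟨h, ⟨k', hk'⟩, hhD, hhμ⟩ := Classical.choose_spec (hex ⟨ConjClasses.mk g, g, hgo, rfl⟩)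
    simp only at hhD
    rw [ConjClasses.mk_eq_mk_iff_isConj] at hhD
    have h1 : HasJType (g.val - 1) (Classical.choose (hex ⟨ConjClasses.mk g, g, hgo, rfl⟩)) := by
      intro j
      rw [← kdM_eq_of_isConj hhD j]
      exact hhμ j
    rw [hgM] at h1
    exact h1.unique hMμ

end Cfsg.Agent.S2317
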