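import Cfsg.Statements.S2320
import Mathlib
import Cfsg.Agent.Lib.Helper5.GL2Ident

set_option autoImplicit false
open Cfsg

namespace Cfsg.Agent.S2320

open Matrix Cfsg.Agent.Lib.Helper5 Cfsg.Agent.Lib.Helper4


/-- Over a finite field F with q elements, every irreducible complex character of GL₂ of degree q takes a value of absolute value 1 at every diagonal matrix with two different diagonal entries and at every element with no eigenvector in F². -/
theorem result {F : Type*} [Field F] [Fintype F] (χ : Matrix.GeneralLinearGroup (Fin 2) F → ℂ) (hχ : Cfsg.IsIrrCharacter (Matrix.GeneralLinearGroup (Fin 2) F) χ) (hdeg : χ 1 = (Fintype.card F : ℂ)) (g : Matrix.GeneralLinearGroup (Fin 2) F) :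
    ((g : Matrix (Fin 2) (Fin 2) F) 0 1 = 0 → (g : Matrix (Fin 2) (Fin 2) F) 1 0 = 0 → (g : Matrix (Fin 2) (Fin 2) F) 0 0 ≠ (g : Matrix (Fin 2) (Fin 2) F) 1 1 → ‖χ g‖ = 1) ∧
    ((∀ (c : F) (v : Fin 2 → F), v ≠ 0 → (g : Matrix (Fin 2) (Fin 2) F).mulVec v ≠ c • v) → ‖χ g‖ = 1) := by
  classical
  obtain ⟨γ, rfl⟩ := eq_gst_of_degree hχ hdeg
  refine ⟨?_, ?_⟩
  · intro h01 h10 hne
    obtain ⟨a, d, ha, hd, -⟩ := exists_gE_of_lower_zero g h10
    have ha0 : (g : Matrix (Fin 2) (Fin 2) F) 0 0 ≠ 0 := by rw [← ha]; exact a.ne_zero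
    have hd0 : (g : Matrix (Fin 2) (Fin 2) F) 1 1 ≠ 0 := by rw [← hd]; exact d.ne_zero
    unfold gstFun
    rw [Pi.sub_apply, gpsFun_diag γ γ g h01 h10 hne, gdetFun_apply γ g _ _ _ _ rfl h01 h10 rfl,
      mul_zero, sub_zero, map_mul]
    have h1 : γ ((g : Matrix (Fin 2) (Fin 2) F) 0 0) * γ ((g : Matrix (Fin 2) (Fin 2) F) 1 1)
        + γ ((g : Matrix (Fin 2) (Fin 2) F) 1 1) * γ ((g : Matrix (Fin 2) (Fin 2) F) 0 0)
        - γ ((g : Matrix (Fin 2) (Fin 2) F) 0 0) * γ ((g : Matrix (Fin 2) (Fin 2) F) 1 1)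
        = γ ((g : Matrix (Fin 2) (Fin 2) F) 0 0) * γ ((g : Matrix (Fin 2) (Fin 2) F) 1 1) := by
      ring
    rw [h1, norm_mul, mulChar_norm γ ha0, mulChar_norm γ hd0, one_mul]
  · intro hno
    have hdet : (g : Matrix (Fin 2) (Fin 2) F).det ≠ 0 := by
      have h1 : (g : Matrix (Fin 2) (Fin 2) F)
          * ((g⁻¹ : GL (Fin 2) F) : Matrix (Fin 2) (Fin 2) F) = 1 := by
        rw [← Units.val_mul, mul_inv_cancel, Units.val_one]
      intro h
      have h2 := congrArg Matrix.det h1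
      rw [Matrix.det_mul, h, zero_mul, Matrix.det_one] at h2
      exact zero_ne_one h2
    unfold gstFun
    rw [Pi.sub_apply, gpsFun_of_no_eigenvector γ γ g hno, zero_sub, norm_neg]
    unfold gdetFun
    exact mulChar_norm γ hdet

end Cfsg.Agent.S2320
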