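import Cfsg.Statements.S2322
import Cfsg.Agent.Lib.Helper5.SL2OddCases
import Cfsg.Agent.Lib.Helper5.SL2Q3
import Cfsg.Agent.Lib.Helper5.SL2TorusConj

set_option autoImplicit false
open Cfsg

namespace Cfsg.Agent.S2322

open Matrix Cfsg.Agent.Lib.Helper5 Cfsg.Agent.Lib.Helper1 Cfsg.Agent.Lib.Helper4

section
variable {F : Type*} [Field F] [Fintype F] [DecidableEq F]

omit [Fintype F] [DecidableEq F] in
theorem trace_sq_ne_four_of_diag (g : SpecialLinearGroup (Fin 2) F)
    (h01 : (g : Matrix (Fin 2) (Fin 2) F) 0 1 = 0)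
    (ha : (g : Matrix (Fin 2) (Fin 2) F) 0 0 ^ 2 ≠ 1) :
    (g : Matrix (Fin 2) (Fin 2) F).trace ^ 2 ≠ 4 := by
  intro h
  have hd := g.det_coe
  rw [Matrix.det_fin_two, h01, zero_mul, sub_zero] at hd
  rw [Matrix.trace_fin_two] at h
  have h1 : ((g : Matrix (Fin 2) (Fin 2) F) 0 0 - (g : Matrix (Fin 2) (Fin 2) F) 1 1) ^ 2 = 0 := by
    linear_combination h - 4 * hd
  have h2 : (g : Matrix (Fin 2) (Fin 2) F) 0 0 = (g : Matrix (Fin 2) (Fin 2) F) 1 1 :=
    sub_eq_zero.1 ((pow_eq_zero_iff (two_ne_zero)).1 h1)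
  apply ha
  rw [sq]
  nth_rewrite 2 [h2]
  exact hd

omit [DecidableEq F] in
theorem sq_eq_one_of_card_three (hq : Fintype.card F = 3) (a : F) (ha : a ≠ 0) : a ^ 2 = 1 := by
  have := FiniteField.pow_card_sub_one_eq_one a ha
  rwa [hq] at this

end


/-- Over a finite field F with q elements, q odd: every irreducible complex character of SL₂ of degree q − 1 or (q − 1)/2 vanishes at every diagonal matrix whose diagonal entry a has a² ≠ 1, and every irreducible complex character of degree q + 1 or (q + 1)/2 vanishes at every element with no eigenvector in F². -/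
theorem result {F : Type*} [Field F] [Fintype F] (hodd : Odd (Fintype.card F)) (χ : Matrix.SpecialLinearGroup (Fin 2) F → ℂ) (hχ : Cfsg.IsIrrCharacter (Matrix.SpecialLinearGroup (Fin 2) F) χ) (g : Matrix.SpecialLinearGroup (Fin 2) F) :
    ((χ 1 = (Fintype.card F : ℂ) - 1 ∨ χ 1 = (((Fintype.card F - 1) / 2 : ℕ) : ℂ)) →
      (g : Matrix (Fin 2) (Fin 2) F) 0 1 = 0 → (g : Matrix (Fin 2) (Fin 2) F) 1 0 = 0 → (g : Matrix (Fin 2) (Fin 2) F) 0 0 ^ 2 ≠ 1 → χ g = 0) ∧
    ((χ 1 = (Fintype.card F : ℂ) + 1 ∨ χ 1 = (((Fintype.card F + 1) / 2 : ℕ) : ℂ)) →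
      (∀ (c : F) (v : Fin 2 → F), v ≠ 0 → (g : Matrix (Fin 2) (Fin 2) F).mulVec v ≠ c • v) → χ g = 0) := by
  classical
  obtain ⟨C, hC, hcard⟩ := exists_torus (F := F)
  have hq3 := three_le_card_of_odd hodd
  have h2 := two_ne_zero_of_odd hodd
  obtain ⟨ν, α₀, θ₀, χp, χm, ηp, ηm, T⟩ := exists_oddTable hodd C hC hcard
  obtain ⟨k, hk⟩ := hodd
  refine ⟨?_, ?_⟩
  · intro hdeg h01 h10 ha
    have hdeg' : χ 1 = ((Fintype.card F - 1 : ℕ) : ℂ) ∨
        χ 1 = (((Fintype.card F - 1) / 2 : ℕ) : ℂ) := by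
      rcases hdeg with h | h
      · left
        rw [card_sub_one_cast]
        exact h
      · right
        exact h
    by_cases hq : Fintype.card F = 3
    · exfalso
      apply ha
      apply sq_eq_one_of_card_three hq
      intro h0
      have hd := g.det_coe
      rw [Matrix.det_fin_two, h0, h01] at hd
      simp at hd
    · have htr := trace_sq_ne_four_of_diag g h01 ha
      obtain ⟨a, ha', -, hg⟩ := exists_slE_of_lower_zero g h10
      rcases T.cases hχ with ⟨-, h⟩ | ⟨-, h⟩ | ⟨-, h⟩ | ⟨⟨θ, hθ, h⟩, -⟩ | ⟨-, h⟩ | ⟨hpm, -⟩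
      · exfalso
        rcases hdeg' with h' | h' <;> (have := nat_of_apply h h'; omega)
      · exfalso
        rcases hdeg' with h' | h' <;> (have := nat_of_apply h h'; omega)
      · exfalso
        rcases hdeg' with h' | h' <;> (have := nat_of_apply h h'; omega)
      · rw [h, hg]
        unfold cuspChar
        exact cuspFun_slE_regular C hC hcard _ _ a _ (by rw [ha']; exact ha)
      · exfalso
        rcases hdeg' with h' | h' <;> (have := nat_of_apply h h'; omega)
      · have hhalf := T.half_η g (isConj_sigma_of_trace ν g htr)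
        have hz : cuspChar C hC hcard θ₀ g = 0 := by
          rw [hg]
          unfold cuspChar
          exact cuspFun_slE_regular C hC hcard _ _ a _ (by rw [ha']; exact ha)
        rw [hz] at hhalf
        rcases hpm with h | h
        · rw [h]
          exact (mul_eq_zero.1 hhalf.1).resolve_left two_ne_zero
        · rw [h]
          exact (mul_eq_zero.1 hhalf.2).resolve_left two_ne_zero
  · intro hdeg hno
    have hdeg' : χ 1 = ((Fintype.card F + 1 : ℕ) : ℂ) ∨
        χ 1 = (((Fintype.card F + 1) / 2 : ℕ) : ℂ) := by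
      rcases hdeg with h | h
      · left
        rw [card_add_one_cast]
        exact h
      · right
        exact h
    have hroot := no_root_of_no_eigenvector g hno
    have htr := trace_sq_ne_four_of_no_root g hroot
    rcases T.cases hχ with ⟨-, h⟩ | ⟨-, h⟩ | ⟨⟨β, -, h⟩, -⟩ | ⟨⟨θ, hθ, h'⟩, h⟩ | ⟨hpm, -⟩ | ⟨-, h⟩
    · exfalso
      rcases hdeg' with h' | h' <;> (have := nat_of_apply h h'; omega)
    · exfalso
      rcases hdeg' with h' | h' <;> (have := nat_of_apply h h'; omega)
    · rw [h]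
      exact psFun_of_no_root β g hroot
    · have hq : Fintype.card F = 3 := by
        rcases hdeg' with h'' | h'' <;> (have := nat_of_apply h h''; omega)
      obtain ⟨c, hc, hns, hconj⟩ := exists_conj_mem_torus C h2 hC hcard g hroot
      have hcf := isClassFunction_of_isCharacter (isCharacter_of_irr hχ)
      rw [classFun_of_isConj hcf hconj, h']
      unfold cuspChar
      rw [cuspFun_torus C hC hcard _ _ c hc hns,
        torus_sum_eq_zero_of_card_three C hq hC hcard θ hθ c hc hns, neg_zero]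
    · have hhalf := T.half_χ g (isConj_sigma_of_trace ν g htr)
      rw [psFun_of_no_root α₀ g hroot] at hhalf
      rcases hpm with h | h
      · rw [h]
        exact (mul_eq_zero.1 hhalf.1).resolve_left two_ne_zero
      · rw [h]
        exact (mul_eq_zero.1 hhalf.2).resolve_left two_ne_zero
    · exfalso
      rcases hdeg' with h' | h' <;> (have := nat_of_apply h h'; omega)

end Cfsg.Agent.S2322
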