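import Cfsg.Statements.S2323
import Cfsg.Agent.Lib.Helper5.SL2Degrees

set_option autoImplicit false
open Cfsg

namespace Cfsg.Agent.S2323

open Matrix Cfsg.Agent.Lib.Helper5 Cfsg.Agent.Lib.Helper1 Cfsg.Agent.Lib.Helper4


/-- Over a finite field F with q ≥ 4 elements, let u be the upper unitriangular matrix of SL₂ with off-diagonal entry 1. An irreducible complex character of SL₂ takes at u the value 1 if its degree is q + 1 and the value −1 if its degree is q − 1. -/
theorem result {F : Type*} [Field F] [Fintype F] (hq : 4 ≤ Fintype.card F) (χ : Matrix.SpecialLinearGroup (Fin 2) F → ℂ) (hχ : Cfsg.IsIrrCharacter (Matrix.SpecialLinearGroup (Fin 2) F) χ)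
    (u : Matrix.SpecialLinearGroup (Fin 2) F) (hu : (u : Matrix (Fin 2) (Fin 2) F) = !![1, 1; 0, 1]) :
    (χ 1 = (Fintype.card F : ℂ) + 1 → χ u = 1) ∧ (χ 1 = (Fintype.card F : ℂ) - 1 → χ u = -1) := by
  classical
  have hu' : u = ((slE ((1 : Fˣ), (1 : F)) : borelSL F) : SpecialLinearGroup (Fin 2) F) := by
    apply Subtype.ext
    show (u : Matrix (Fin 2) (Fin 2) F) = _
    rw [hu, slE_coe]
    simp
  have h12 : ((1 : Fˣ) : F) ^ 2 = 1 := by simp
  refine ⟨?_, ?_⟩
  · intro hdeg
    obtain ⟨β, -, h⟩ := exists_psFun_of_degree hχ hdeg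
    rw [h, hu', psFun_slE, fixCount_eq, if_pos h12, if_neg one_ne_zero]
    simp
  · intro hdeg
    obtain ⟨C, hC, hcard⟩ := exists_torus (F := F)
    obtain ⟨θ, -, h⟩ := exists_cuspChar_of_degree C hq hC hcard hχ hdeg
    rw [h, hu']
    unfold cuspChar
    rw [cuspFun_slE_unip C hC hcard _ _ 1 1 h12 one_ne_zero]
    simp

end Cfsg.Agent.S2323
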