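import Cfsg.Statements.S2324
import Cfsg.Agent.Lib.Helper5.SL2Gauss5

set_option autoImplicit false
open Cfsg

namespace Cfsg.Agent.S2324

open Matrix Cfsg.Agent.Lib.Helper5 Cfsg.Agent.Lib.Helper1 Cfsg.Agent.Lib.Helper4

section
variable {F : Type*} [Field F] [Fintype F] [DecidableEq F]

theorem psFun_uSL_one (β : MulChar F ℂ) : psFun β (uSL (1 : F)) = 1 := by
  unfold uSL
  rw [psFun_slE, fixCount_eq, if_pos (by simp), if_neg one_ne_zero]
  simp

theorem cuspChar_uSL_one (C : Subgroup (SpecialLinearGroup (Fin 2) F)) (hC : IsCyclic C)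
    (hcard : Nat.card C = Fintype.card F + 1) (θ : C →* ℂˣ) :
    cuspChar C hC hcard θ (uSL (1 : F)) = -1 := by
  unfold cuspChar uSL
  rw [cuspFun_slE_unip C hC hcard _ _ 1 1 (by simp) one_ne_zero]
  simp

end


/-- Over a finite field F with q elements, q odd and q ≥ 5, let u be the upper unitriangular matrix of SL₂ with off-diagonal entry 1 and let δ = (−1)^((q−1)/2). Every irreducible complex character χ of SL₂ of degree (q + 1)/2 satisfies (2χ(u) − 1)² = δq, and every irreducible complex character χ of degree (q − 1)/2 satisfies (2χ(u) + 1)² = δq; that is, χ(u) = (1 ± √(δq))/2 in the first case and χ(u) = (−1 ± √(δq))/2 in the second. Moreover two different irreducible characters of degree (q + 1)/2 take the two different values (their values at u add up to 1), and likewise for degree (q − 1)/2 (values adding up to −1). -/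
theorem result {F : Type*} [Field F] [Fintype F] (hodd : Odd (Fintype.card F)) (hq : 5 ≤ Fintype.card F)
    (u : Matrix.SpecialLinearGroup (Fin 2) F) (hu : (u : Matrix (Fin 2) (Fin 2) F) = !![1, 1; 0, 1]) :
    (∀ χ : Matrix.SpecialLinearGroup (Fin 2) F → ℂ, Cfsg.IsIrrCharacter (Matrix.SpecialLinearGroup (Fin 2) F) χ → χ 1 = (((Fintype.card F + 1) / 2 : ℕ) : ℂ) → (2 * χ u - 1) ^ 2 = (-1 : ℂ) ^ ((Fintype.card F - 1) / 2) * (Fintype.card F : ℂ)) ∧
    (∀ χ : Matrix.SpecialLinearGroup (Fin 2) F → ℂ, Cfsg.IsIrrCharacter (Matrix.SpecialLinearGroup (Fin 2) F) χ → χ 1 = (((Fintype.card F - 1) / 2 : ℕ) : ℂ) → (2 * χ u + 1) ^ 2 = (-1 : ℂ) ^ ((Fintype.card F - 1) / 2) * (Fintype.card F : ℂ)) ∧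
    (∀ χ₁ χ₂ : Matrix.SpecialLinearGroup (Fin 2) F → ℂ, Cfsg.IsIrrCharacter (Matrix.SpecialLinearGroup (Fin 2) F) χ₁ → Cfsg.IsIrrCharacter (Matrix.SpecialLinearGroup (Fin 2) F) χ₂ → χ₁ ≠ χ₂ →
      χ₁ 1 = (((Fintype.card F + 1) / 2 : ℕ) : ℂ) → χ₂ 1 = (((Fintype.card F + 1) / 2 : ℕ) : ℂ) → χ₁ u + χ₂ u = 1) ∧
    (∀ χ₁ χ₂ : Matrix.SpecialLinearGroup (Fin 2) F → ℂ, Cfsg.IsIrrCharacter (Matrix.SpecialLinearGroup (Fin 2) F) χ₁ → Cfsg.IsIrrCharacter (Matrix.SpecialLinearGroup (Fin 2) F) χ₂ → χ₁ ≠ χ₂ →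
      χ₁ 1 = (((Fintype.card F - 1) / 2 : ℕ) : ℂ) → χ₂ 1 = (((Fintype.card F - 1) / 2 : ℕ) : ℂ) → χ₁ u + χ₂ u = -1) := by
  classical
  obtain ⟨C, hC, hcard⟩ := exists_torus (F := F)
  obtain ⟨ν, α₀, θ₀, χp, χm, ηp, ηm, T⟩ := exists_oddTable hodd C hC hcard
  have hu' : u = uSL (1 : F) := by
    apply Subtype.ext
    show (u : Matrix (Fin 2) (Fin 2) F) = _
    rw [hu, uSL_coe]
  rw [hu']
  have hsumχ : χp (uSL (1 : F)) + χm (uSL (1 : F)) = 1 := by
    have := psFun_uSL_one α₀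
    rw [T.sum_χ] at this
    exact this
  have hsumη : ηp (uSL (1 : F)) + ηm (uSL (1 : F)) = -1 := by
    have := cuspChar_uSL_one C hC hcard θ₀
    rw [T.sum_η] at this
    exact this
  have P1 : SigmaPair ν χp χm := ⟨hodd, T.nonsq, T.irr_χp, T.irr_χm, T.ne_χ, T.σ_χp, T.σ_χm⟩
  have P2 : SigmaPair ν χm χp := ⟨hodd, T.nonsq, T.irr_χm, T.irr_χp, T.ne_χ.symm, T.σ_χm, T.σ_χp⟩
  have P3 : SigmaPair ν ηp ηm := ⟨hodd, T.nonsq, T.irr_ηp, T.irr_ηm, T.ne_η, T.σ_ηp, T.σ_ηm⟩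
  have P4 : SigmaPair ν ηm ηp := ⟨hodd, T.nonsq, T.irr_ηm, T.irr_ηp, T.ne_η.symm, T.σ_ηm, T.σ_ηp⟩
  refine ⟨?_, ?_, ?_, ?_⟩
  · intro χ hχ hdeg
    rcases T.eq_half_ps hq hχ hdeg with h | h
    · rw [h, ← P1.diff_sq]
      unfold SigmaPair.diff
      congr 1
      linear_combination hsumχ
    · rw [h, ← P2.diff_sq]
      unfold SigmaPair.diff
      congr 1
      linear_combination hsumχ
  · intro χ hχ hdeg
    rcases T.eq_half_cusp hq hχ hdeg with h | h
    · rw [h, ← P3.diff_sq]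
      unfold SigmaPair.diff
      congr 1
      linear_combination hsumη
    · rw [h, ← P4.diff_sq]
      unfold SigmaPair.diff
      congr 1
      linear_combination hsumη
  · intro χ₁ χ₂ h1 h2 hne hd1 hd2
    rcases T.eq_half_ps hq h1 hd1 with h | h <;> rcases T.eq_half_ps hq h2 hd2 with h' | h'
    · exact absurd (h.trans h'.symm) hne
    · rw [h, h']
      exact hsumχ
    · rw [h, h', add_comm]
      exact hsumχ
    · exact absurd (h.trans h'.symm) hne
  · intro χ₁ χ₂ h1 h2 hne hd1 hd2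
    rcases T.eq_half_cusp hq h1 hd1 with h | h <;> rcases T.eq_half_cusp hq h2 hd2 with h' | h'
    · exact absurd (h.trans h'.symm) hne
    · rw [h, h']
      exact hsumη
    · rw [h, h', add_comm]
      exact hsumη
    · exact absurd (h.trans h'.symm) hne

end Cfsg.Agent.S2324
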