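import Mathlib
-- Template for statement S2327 (row 2327; see /opt/grader/pristine/manifest.json for weights).
-- Copy to Cfsg/Agent/S2327.lean and replace the sorry. The statement below is byte-identical to the frozen
-- statement Cfsg.CfsgFrozen.S2327 (Cfsg/Statements/S2327.lean; the theorem Cfsg.lie3_chevalley_steinberg_character_degree);
-- the grader kernel-checks Cfsg.Agent.S2327.result against that frozen type. Keep the theorem IN THIS FILE
-- (a `result` declared elsewhere and merely imported here is not credited); helpers may live anywhere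
-- under Cfsg/Agent/.
import Cfsg.Statements.S2327
import Cfsg.Agent.Lib.Helper3.ChevAutG2
import Cfsg.Agent.Lib.Helper3.ChevAutB2
import Cfsg.Agent.Lib.Helper3.ChevAutD4
import Cfsg.Agent.Lib.Helper3.ChevAutF4
import Cfsg.Agent.Lib.Helper3.ChevAutE6
import Cfsg.Agent.Lib.Helper3.ChevAutE7
import Cfsg.Agent.Lib.Helper3.ChevAutE8
import Cfsg.Agent.Lib.Helper3.StCh8
import Cfsg.Agent.S1027

set_option autoImplicit false
open Cfsg
open Cfsg.Agent.Lib.Helper3.ChevAut Cfsg.Agent.Lib.Helper3.StCh

namespace Cfsg.Agent.S2327

/-- In a Chevalley group of type G₂, B₂, D₄, F₄, E₆, E₇ or E₈ over a finite field with q elements, the Steinberg character (the alternating sum of the permutation characters on the standard parabolic subgroups) has degree q^N, N the number of positive roots; this is the order of U and the largest power of the characteristic dividing the group order. -/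
theorem result {F : Type*} [Field F] [Fintype F] (D : Cfsg.Lie.ChevalleyDatum) (hD : D ∈ [Cfsg.Lie.chevG2, Cfsg.Lie.chevB2, Cfsg.Lie.chevD4, Cfsg.Lie.chevF4, Cfsg.Lie.chevE6, Cfsg.Lie.chevE7, Cfsg.Lie.chevE8]) :
    D.steinbergCharacter F 1 = (Fintype.card F : ℂ) ^ (D.nroots / 2) := by
  have hU := Cfsg.Agent.S1027.result (F := F) D hD
  simp only [List.mem_cons, List.not_mem_nil, or_false] at hD
  rcases hD with rfl | rfl | rfl | rfl | rfl | rfl | rfl
  · exact steinberg_one' autHypG2 _ rfl hU
  · exact steinberg_one' autHypB2 _ rfl hU
  · exact steinberg_one' autHypD4 _ rfl hU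
  · exact steinberg_one' autHypF4 _ rfl hU
  · exact steinberg_one' autHypE6 _ rfl hU
  · exact steinberg_one' autHypE7 _ rfl hU
  · exact steinberg_one' autHypE8 _ rfl hU

end Cfsg.Agent.S2327
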