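import Mathlib
-- Template for statement S2328 (row 2328; see /opt/grader/pristine/manifest.json for weights).
-- Copy to Cfsg/Agent/S2328.lean and replace the sorry. The statement below is byte-identical to the frozen
-- statement Cfsg.CfsgFrozen.S2328 (Cfsg/Statements/S2328.lean; the theorem Cfsg.lie3_chevalley_steinberg_character_vanishes_p_singular);
-- the grader kernel-checks Cfsg.Agent.S2328.result against that frozen type. Keep the theorem IN THIS FILE
-- (a `result` declared elsewhere and merely imported here is not credited); helpers may live anywhere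
-- under Cfsg/Agent/.
import Cfsg.Statements.S2328
import Cfsg.Agent.Lib.Helper3.ChevAutG2
import Cfsg.Agent.Lib.Helper3.ChevAutB2
import Cfsg.Agent.Lib.Helper3.ChevAutD4
import Cfsg.Agent.Lib.Helper3.ChevAutF4
import Cfsg.Agent.Lib.Helper3.ChevAutE6
import Cfsg.Agent.Lib.Helper3.ChevAutE7
import Cfsg.Agent.Lib.Helper3.ChevAutE8
import Cfsg.Agent.Lib.Helper3.StCh7
import Cfsg.Agent.S1027
import Cfsg.Agent.S2326

set_option autoImplicit false
open Cfsg
open Cfsg.Agent.Lib.Helper3.ChevAut Cfsg.Agent.Lib.Helper3.StCh

namespace Cfsg.Agent.S2328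

/-- In a Chevalley group of type G₂, B₂, D₄, F₄, E₆, E₇ or E₈ over a finite field of characteristic p, the Steinberg character vanishes at every element whose order is divisible by p (every element that is not semisimple). -/
theorem result {F : Type*} [Field F] [Fintype F] (p : ℕ) [Fact p.Prime] [CharP F p] (D : Cfsg.Lie.ChevalleyDatum) (hD : D ∈ [Cfsg.Lie.chevG2, Cfsg.Lie.chevB2, Cfsg.Lie.chevD4, Cfsg.Lie.chevF4, Cfsg.Lie.chevE6, Cfsg.Lie.chevE7, Cfsg.Lie.chevE8]) (g : ↥(D.group F)) (hg : p ∣ orderOf g) :
    D.steinbergCharacter F g = 0 := by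
  have hU := Cfsg.Agent.S1027.result (F := F) D hD
  have hsyl := Cfsg.Agent.S2326.result (F := F) p D hD
  simp only [List.mem_cons, List.not_mem_nil, or_false] at hD
  rcases hD with rfl | rfl | rfl | rfl | rfl | rfl | rfl
  · exact steinberg_vanish autHypG2 p hU hsyl g hg
  · exact steinberg_vanish autHypB2 p hU hsyl g hg
  · exact steinberg_vanish autHypD4 p hU hsyl g hg
  · exact steinberg_vanish autHypF4 p hU hsyl g hg
  · exact steinberg_vanish autHypE6 p hU hsyl g hg
  · exact steinberg_vanish autHypE7 p hU hsyl g hg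
  · exact steinberg_vanish autHypE8 p hU hsyl g hg

end Cfsg.Agent.S2328
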