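import Cfsg.Statements.S2329
import Mathlib.LinearAlgebra.Matrix.CharP

set_option autoImplicit false
open Cfsg

namespace Cfsg.Agent.S2329

open Matrix

/-- Cayley–Hamilton for 2×2 matrices, written out. -/
theorem cayley_two {F : Type*} [Field F] (A : Matrix (Fin 2) (Fin 2) F) :
    A * A + A.det • (1 : Matrix (Fin 2) (Fin 2) F) = A.trace • A := by
  ext i j
  fin_cases i <;> fin_cases j <;>
    simp [Matrix.mul_apply, Fin.sum_univ_two, Matrix.det_fin_two, Matrix.trace_fin_two] <;> ring

/-- A nonzero 2×2 matrix with a vanishing power has trace and determinant zero. -/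
theorem trace_det_zero {F : Type*} [Field F] (N : Matrix (Fin 2) (Fin 2) F) (k : ℕ)
    (hk : N ^ k = 0) (hN : N ≠ 0) : N.trace = 0 ∧ N.det = 0 := by
  have hdet : N.det = 0 := by
    have : N.det ^ k = 0 := by rw [← Matrix.det_pow, hk]; 
                               cases k with
                               | zero => exact absurd hk (by simp)
                               | succ k => simp
    exact pow_eq_zero_iff (by rintro rfl; simp at hk) |>.1 this
  refine ⟨?_, hdet⟩
  have hCH := cayley_two N
  rw [hdet, zero_smul, add_zero] at hCH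
  have hpow : ∀ j : ℕ, N ^ (j + 1) = N.trace ^ j • N := by
    intro j
    induction j with
    | zero => simp
    | succ j ih => rw [pow_succ, ih, smul_mul_assoc, hCH, smul_smul, pow_succ]
  cases k with
  | zero => simp at hk
  | succ k =>
    rw [hpow k] at hk
    rcases smul_eq_zero.1 hk with h | h
    · by_contra ht
      exact pow_ne_zero _ ht h
    · exact absurd h hN

/-- The standard unipotent element. -/
noncomputable def J (F : Type*) [Field F] : Matrix.GeneralLinearGroup (Fin 2) F :=
  Matrix.GeneralLinearGroup.mkOfDetNeZero !![1, 1; 0, 1] (by simp [Matrix.det_fin_two])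

theorem conj_J {F : Type*} [Field F] (p : ℕ) [Fact p.Prime] [CharP F p]
    (g : Matrix.GeneralLinearGroup (Fin 2) F) (hg : orderOf g = p) : IsConj (J F) g := by
  have hp : p.Prime := Fact.out
  set M : Matrix (Fin 2) (Fin 2) F := (g : Matrix (Fin 2) (Fin 2) F) with hM
  have hMp : M ^ p = 1 := by
    have := pow_orderOf_eq_one g
    rw [hg] at this
    have h2 := congrArg (fun u : Matrix.GeneralLinearGroup (Fin 2) F => (u : Matrix (Fin 2) (Fin 2) F)) this
    simpa using h2
  have hM1 : M ≠ 1 := by
    intro h
    have : g = 1 := Units.ext h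
    rw [this, orderOf_one] at hg
    exact hp.one_lt.ne hg
  set N := M - 1 with hN
  have hNp : N ^ p = 0 := by
    rw [hN, sub_pow_char_of_commute p (Commute.one_right _), hMp, one_pow, sub_self]
  have hN0 : N ≠ 0 := fun h => hM1 (sub_eq_zero.1 h)
  obtain ⟨htr, hdet⟩ := trace_det_zero N p hNp hN0
  rw [Matrix.trace_fin_two] at htr
  rw [Matrix.det_fin_two] at hdet
  simp only [hN, Matrix.sub_apply, Matrix.one_apply_eq, Matrix.one_apply_ne, ne_eq,
    Fin.reduceEq, not_false_eq_true, sub_zero] at htr hdet
  -- htr : M 0 0 - 1 + (M 1 1 - 1) = 0 ; hdet : (M 0 0 - 1) * (M 1 1 - 1) - M 0 1 * M 1 0 = 0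
  have h11 : M 1 1 = 2 - M 0 0 := by linear_combination htr
  rw [h11] at hdet
  by_cases hc : M 1 0 = 0
  · -- then M 0 0 = 1, M 0 1 ≠ 0
    rw [hc, mul_zero, sub_zero] at hdet
    have h00 : M 0 0 = 1 := by
      have : (M 0 0 - 1) * (M 0 0 - 1) = 0 := by linear_combination -hdet
      have := mul_self_eq_zero.1 this
      linear_combination this
    have hb : M 0 1 ≠ 0 := by
      intro hb
      apply hM1
      ext i j
      fin_cases i <;> fin_cases j <;> simp [hb, hc, h00, h11]
      norm_num
    refine isConj_iff.2 ⟨Matrix.GeneralLinearGroup.mkOfDetNeZero !![M 0 1, 0; 0, 1]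
      (by simp [Matrix.det_fin_two, hb]), ?_⟩
    rw [mul_inv_eq_iff_eq_mul]
    · apply Units.ext
      ext i j
      fin_cases i <;> fin_cases j <;>
        simp [J, Matrix.GeneralLinearGroup.mkOfDetNeZero, Matrix.mul_apply, Fin.sum_univ_two, ← hM, hc, h00, h11] <;> ring
  · refine isConj_iff.2 ⟨Matrix.GeneralLinearGroup.mkOfDetNeZero !![M 0 0 - 1, 1; M 1 0, 0]
      (by simp [Matrix.det_fin_two, hc]), ?_⟩
    rw [mul_inv_eq_iff_eq_mul]
    · apply Units.ext
      ext i j
      fin_cases i <;> fin_cases j <;>
        simp [J, Matrix.GeneralLinearGroup.mkOfDetNeZero, Matrix.mul_apply, Fin.sum_univ_two, ← hM, h11] <;>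
        first | ring1 | linear_combination hdet | linear_combination -hdet

theorem result {F : Type*} [Field F] [Fintype F] (p : ℕ) [Fact p.Prime] [CharP F p] (g h : Matrix.GeneralLinearGroup (Fin 2) F)
    (hg : orderOf g = p) (hh : orderOf h = p) : IsConj g h :=
  (conj_J p g hg).symm.trans (conj_J p h hh)

end Cfsg.Agent.S2329
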