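import Mathlib
import Cfsg.Statements.S2331
import Cfsg.Agent.S2330

set_option autoImplicit false
open Cfsg

namespace Cfsg.Agent.S2331

open Cfsg.Agent.S2330

variable {F : Type*} [Field F]

/-- the companion matrix of determinant one in `SL₂` -/
def compSL (t : F) : Matrix.SpecialLinearGroup (Fin 2) F := ⟨comp t 1, comp_det t 1⟩

theorem trace_eq_of_isConj {g h : Matrix.SpecialLinearGroup (Fin 2) F} (hgh : IsConj g h) :
    (g : Matrix (Fin 2) (Fin 2) F).trace = (h : Matrix (Fin 2) (Fin 2) F).trace := by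
  rw [isConj_iff] at hgh
  obtain ⟨c, rfl⟩ := hgh
  have h1 : ((c * g * c⁻¹ : Matrix.SpecialLinearGroup (Fin 2) F) : Matrix (Fin 2) (Fin 2) F) =
      c.1 * g.1 * (c⁻¹).1 := by
    rw [Matrix.SpecialLinearGroup.coe_mul, Matrix.SpecialLinearGroup.coe_mul]
  rw [h1, Matrix.trace_mul_comm, ← Matrix.mul_assoc]
  have : (c⁻¹).1 * c.1 = 1 := by
    rw [← Matrix.SpecialLinearGroup.coe_mul, inv_mul_cancel]; rfl
  rw [this, Matrix.one_mul]

theorem isConj_compSL [Fintype F] [CharP F 2] (g : Matrix.SpecialLinearGroup (Fin 2) F)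
    (hg : ¬ ∃ a : F, (g : Matrix (Fin 2) (Fin 2) F) = a • (1 : Matrix (Fin 2) (Fin 2) F)) :
    IsConj (compSL (g : Matrix (Fin 2) (Fin 2) F).trace) g := by
  obtain ⟨P, hP, hAP⟩ := exists_conj_comp g.1 hg
  rw [g.2] at hAP
  obtain ⟨l, hl⟩ := FiniteField.isSquare_of_char_two (F := F) (CharP.ringChar_of_prime_eq_zero Nat.prime_two (CharP.cast_eq_zero F 2)) (P.det)⁻¹
  have hdet : (l • P).det = 1 := by
    rw [Matrix.det_smul, Fintype.card_fin, pow_two, ← hl, inv_mul_cancel₀ hP]
  rw [isConj_iff]
  let Ps : Matrix.SpecialLinearGroup (Fin 2) F := ⟨l • P, hdet⟩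
  refine ⟨Ps, ?_⟩
  rw [mul_inv_eq_iff_eq_mul]
  apply Subtype.ext
  rw [Matrix.SpecialLinearGroup.coe_mul, Matrix.SpecialLinearGroup.coe_mul]
  show (l • P) * comp _ 1 = g.1 * (l • P)
  rw [Matrix.smul_mul, Matrix.mul_smul, hAP]

/-- the parametrisation of classes -/
def classOf : Option F → ConjClasses (Matrix.SpecialLinearGroup (Fin 2) F)
  | none => ConjClasses.mk 1
  | some t => ConjClasses.mk (compSL t)

theorem classOf_bijective [Fintype F] [CharP F 2] : Function.Bijective (classOf (F := F)) := by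
  constructor
  · rintro (_ | t) (_ | t') h
    · rfl
    · exfalso
      simp only [classOf, ConjClasses.mk_eq_mk_iff_isConj] at h
      rw [isConj_iff] at h
      obtain ⟨c, hc⟩ := h
      rw [mul_one, mul_inv_cancel] at hc
      have := congrArg (fun g : Matrix.SpecialLinearGroup (Fin 2) F =>
        (g : Matrix (Fin 2) (Fin 2) F) 1 0) hc
      simp [compSL, comp] at this
    · exfalso
      simp only [classOf, ConjClasses.mk_eq_mk_iff_isConj] at h
      have h' := h.symm
      rw [isConj_iff] at h'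
      obtain ⟨c, hc⟩ := h'
      rw [mul_one, mul_inv_cancel] at hc
      have := congrArg (fun g : Matrix.SpecialLinearGroup (Fin 2) F =>
        (g : Matrix (Fin 2) (Fin 2) F) 1 0) hc
      simp [compSL, comp] at this
    · simp only [classOf, ConjClasses.mk_eq_mk_iff_isConj] at h
      have h1 := trace_eq_of_isConj h
      simp only [compSL, comp_trace] at h1
      rw [h1]
  · intro c
    obtain ⟨g, rfl⟩ := ConjClasses.exists_rep c
    by_cases hg : ∃ a : F, (g : Matrix (Fin 2) (Fin 2) F) = a • (1 : Matrix (Fin 2) (Fin 2) F)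
    · obtain ⟨a, ha⟩ := hg
      have hdet := g.2
      rw [ha, Matrix.det_smul, Matrix.det_one, mul_one, Fintype.card_fin] at hdet
      have ha1 : a = 1 := by
        have h2 : (a - 1) ^ 2 = 0 := by
          have h3 : (2 : F) = 0 := CharP.cast_eq_zero F 2
          have : (a - 1) ^ 2 = a ^ 2 - 2 * a + 1 := by ring
          rw [this, hdet]
          linear_combination (1 - a) * h3
        have := pow_eq_zero_iff (two_ne_zero) |>.1 h2
        exact sub_eq_zero.1 this
      refine ⟨none, ?_⟩
      simp only [classOf]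
      congr 1
      apply Subtype.ext
      rw [ha, ha1, one_smul]
      rfl
    · refine ⟨some (g : Matrix (Fin 2) (Fin 2) F).trace, ?_⟩
      simp only [classOf]
      rw [ConjClasses.mk_eq_mk_iff_isConj]
      exact isConj_compSL g hg

theorem result {F : Type*} [Field F] [Fintype F] [CharP F 2] :
    Nat.card (ConjClasses (Matrix.SpecialLinearGroup (Fin 2) F)) = Fintype.card F + 1 := by
  classical
  rw [← Nat.card_congr (Equiv.ofBijective _ (classOf_bijective (F := F))), Nat.card_eq_fintype_card,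
    Fintype.card_option]

end Cfsg.Agent.S2331
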