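import Mathlib
-- Template for statement S2337 (row 2337; see /opt/grader/pristine/manifest.json for weights).
-- Copy to Cfsg/Agent/S2337.lean and replace the sorry. The statement below is byte-identical to the frozen
-- statement Cfsg.CfsgFrozen.S2337 (Cfsg/Statements/S2337.lean; the theorem Cfsg.cmax4_suzuki_group_min_irreducible_degree);
-- the grader kernel-checks Cfsg.Agent.S2337.result against that frozen type. Keep the theorem IN THIS FILE
-- (a `result` declared elsewhere and merely imported here is not credited); helpers may live anywhere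
-- under Cfsg/Agent/.
import Cfsg.Statements.S2337
import Cfsg.Agent.Lib.Helper3.SzRep5

set_option autoImplicit false
open Cfsg
open Cfsg.Agent.Lib.Helper3.Sz Cfsg.Agent.Lib.Helper3.SzRep

namespace Cfsg.Agent.S2337

/-- For the Suzuki group Sz(q), q = 2^(2m+1) with m ≥ 1 (realised inside Sp₄ over the field with q elements), every irreducible complex representation of degree at least 2 has degree at least 2^m·(q − 1). -/
theorem result {F : Type*} [Field F] [Fintype F] (m : ℕ) (hm : 1 ≤ m) (hF : Fintype.card F = 2 ^ (2 * m + 1)) :
    (∀ (k : ℕ) (ρ : Representation ℂ (Cfsg.Lie.Sz F (2 ^ (m + 1))) (Fin k → ℂ)), ρ.IsIrreducible → 2 ≤ k → 2 ^ m * (2 ^ (2 * m + 1) - 1) ≤ k) := by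
  have := charP_two_of_card hF
  intro k ρ hρ hk
  exact min_degree_lieSz m hm hF k ρ hρ hk

end Cfsg.Agent.S2337
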