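import Cfsg.Statements.S2347
import Cfsg.Agent.Lib.Helper1.SiegelOddLower
import Cfsg.Agent.Lib.Helper7.SiegelK
import Cfsg.Agent.Lib.Helper4.SymOrbit
import Cfsg.Agent.Lib.Lead.WeilW9

set_option autoImplicit false
open Cfsg

namespace Cfsg.Agent.S2347

/-- Smallest degree of a non-linear irreducible complex representation of the symplectic group Sp_{2n} over a finite field of odd order q, n ≥ 2: every irreducible complex representation of degree at least 2 has degree at least (q^n − 1)/2, and there is an irreducible complex representation of exactly that degree (a Weil representation). -/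
theorem result {F : Type*} [Field F] [Fintype F] [DecidableEq F] (n : ℕ) (hn : 2 ≤ n) (hodd : Odd (Fintype.card F)) :
    (∀ (k : ℕ) (ρ : Representation ℂ (Matrix.symplecticGroup (Fin n) F) (Fin k → ℂ)), ρ.IsIrreducible → 2 ≤ k → (Fintype.card F ^ n - 1) / 2 ≤ k) ∧
    (∃ ρ : Representation ℂ (Matrix.symplecticGroup (Fin n) F) (Fin ((Fintype.card F ^ n - 1) / 2) → ℂ), ρ.IsIrreducible) := by
  refine ⟨?_, Cfsg.Agent.Lib.Lead.Weil.exists_weil hodd (by omega)⟩
  have h3 : 3 ≤ Fintype.card F := by
    have h1 : 1 < Fintype.card F := Fintype.one_lt_card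
    rcases hodd with ⟨t, ht⟩
    omega
  exact Cfsg.Agent.Lib.Helper6.Siegel.sp_odd_lower_of n hn hodd
    (fun k ρ hρ hk S0 hS0 =>
      Cfsg.Agent.Lib.Helper6.Siegel.sieg_not_in_kernel n hn (fun _ => h3) k ρ hρ hk S0 hS0)
    (fun M hM hM0 => Cfsg.Agent.Lib.Helper4.SymOrbit.ncard_congr_orbit_ge hodd n M hM hM0)

end Cfsg.Agent.S2347
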