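import Mathlib
import Cfsg.Statements.S2352

set_option autoImplicit false
open Cfsg

namespace Cfsg.Agent.S2352

open Equiv

section perms
variable {G : Type*} [Group G] (S : Finset G)

noncomputable def leftPerm (g : G) : Perm S := by
  classical
  exact Equiv.extendSubtype (p := fun s : S => g * s.1 ∈ S) (q := fun t : S => g⁻¹ * t.1 ∈ S)
    { toFun := fun s => ⟨⟨g * s.1.1, s.2⟩, by simp⟩
      invFun := fun t => ⟨⟨g⁻¹ * t.1.1, t.2⟩, by simp⟩
      left_inv := fun s => by simp
      right_inv := fun t => by simp }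

theorem leftPerm_apply (g : G) (s : S) (h : g * s.1 ∈ S) : leftPerm S g s = ⟨g * s.1, h⟩ := by
  classical
  unfold leftPerm
  rw [Equiv.extendSubtype_apply_of_mem _ s h]
  rfl

end perms

section word

/-- The finite set of suffixes of the reduced word of `w`, as elements of the free group. -/
noncomputable def suffixSet (w : FreeGroup ℕ) : Finset (FreeGroup ℕ) := by
  classical
  exact (w.toWord.tails.map FreeGroup.mk).toFinset

theorem mem_suffixSet {w : FreeGroup ℕ} {M : List (ℕ × Bool)} (h : M <:+ w.toWord) :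
    FreeGroup.mk M ∈ suffixSet w := by
  classical
  unfold suffixSet
  rw [List.mem_toFinset, List.mem_map]
  exact ⟨M, (List.mem_tails _ _).2 h, rfl⟩

theorem card_suffixSet_le (w : FreeGroup ℕ) : (suffixSet w).card ≤ w.toWord.length + 1 := by
  classical
  unfold suffixSet
  refine le_trans (List.toFinset_card_le _) ?_
  rw [List.length_map, List.length_tails]

/-- The permutation attached to the generator `i`. -/
noncomputable def genPerm (w : FreeGroup ℕ) (i : ℕ) : Perm (suffixSet w) :=
  leftPerm (suffixSet w) (FreeGroup.of i)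

theorem lift_letter (w : FreeGroup ℕ) (a : ℕ × Bool) (s t : FreeGroup ℕ) (hs : s ∈ suffixSet w)
    (ht : t ∈ suffixSet w) (hst : t = FreeGroup.mk [a] * s) :
    FreeGroup.lift (genPerm w) (FreeGroup.mk [a]) ⟨s, hs⟩ = ⟨t, ht⟩ := by
  obtain ⟨i, b⟩ := a
  cases b
  · -- inverse letter
    have h1 : FreeGroup.mk [(i, false)] = (FreeGroup.of i)⁻¹ := by
      rw [FreeGroup.of, FreeGroup.inv_mk]; rfl
    rw [h1] at hst ⊢
    rw [map_inv, FreeGroup.lift_apply_of, Equiv.Perm.inv_eq_iff_eq]
    have h2 : FreeGroup.of i * t = s := by rw [hst, mul_inv_cancel_left]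
    have h3 : FreeGroup.of i * (⟨t, ht⟩ : suffixSet w).1 ∈ suffixSet w := by rw [h2]; exact hs
    rw [genPerm, leftPerm_apply _ _ _ h3]
    exact Subtype.ext h2.symm
  · have h1 : FreeGroup.mk [(i, true)] = FreeGroup.of i := rfl
    rw [h1] at hst ⊢
    rw [FreeGroup.lift_apply_of]
    have h3 : FreeGroup.of i * (⟨s, hs⟩ : suffixSet w).1 ∈ suffixSet w := by rw [← hst]; exact ht
    rw [genPerm, leftPerm_apply _ _ _ h3]
    exact Subtype.ext hst.symm

theorem lift_suffix (w : FreeGroup ℕ) : ∀ (M : List (ℕ × Bool)) (hM : M <:+ w.toWord),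
    FreeGroup.lift (genPerm w) (FreeGroup.mk M) ⟨1, mem_suffixSet List.nil_suffix⟩
      = ⟨FreeGroup.mk M, mem_suffixSet hM⟩ := by
  intro M
  induction M with
  | nil =>
    intro hM
    have : (FreeGroup.mk ([] : List (ℕ × Bool))) = 1 := rfl
    simp only [this, map_one, Equiv.Perm.coe_one, id_eq]
  | cons a M' ih =>
    intro hM
    have hM' : M' <:+ w.toWord := (List.suffix_cons a M').trans hM
    have hmul : FreeGroup.mk (a :: M') = FreeGroup.mk [a] * FreeGroup.mk M' := by
      rw [FreeGroup.mul_mk]; rfl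
    have h1 : FreeGroup.lift (genPerm w) (FreeGroup.mk (a :: M'))
        = FreeGroup.lift (genPerm w) (FreeGroup.mk [a]) * FreeGroup.lift (genPerm w) (FreeGroup.mk M') := by
      rw [hmul, map_mul]
    rw [h1, Equiv.Perm.mul_apply, ih hM']
    exact lift_letter w a _ _ (mem_suffixSet hM') (mem_suffixSet hM) hmul

theorem lift_genPerm_ne_one (w : FreeGroup ℕ) (hw : w ≠ 1) : FreeGroup.lift (genPerm w) w ≠ 1 := by
  intro h
  have h1 := lift_suffix w w.toWord (List.suffix_refl _)
  have h2 : FreeGroup.mk w.toWord = w := FreeGroup.mk_toWord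
  have h3 := congrArg Subtype.val h1
  simp only [h2, h, Equiv.Perm.coe_one, id_eq] at h3
  exact hw h3.symm

end word


theorem exists_embedding_alt {α : Type*} [Fintype α] [DecidableEq α] (n : ℕ)
    (h : 2 * Fintype.card α ≤ n) :
    ∃ Φ : Perm α →* alternatingGroup (Fin n), Function.Injective Φ := by
  classical
  have hcard : Fintype.card (α ⊕ α) ≤ Fintype.card (Fin n) := by
    rw [Fintype.card_sum, Fintype.card_fin]; omega
  obtain ⟨ι⟩ := Function.Embedding.nonempty_of_card_le hcard
  let dbl : Perm α →* Perm (α ⊕ α) :=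
    (Equiv.Perm.sumCongrHom α α).comp (MonoidHom.prod (MonoidHom.id _) (MonoidHom.id _))
  have hdbl : ∀ τ, dbl τ = Equiv.sumCongr τ τ := fun τ => rfl
  let Ψ : Perm α →* Perm (Fin n) := (Equiv.Perm.viaEmbeddingHom ι).comp dbl
  have hsign : ∀ τ, Equiv.Perm.sign (Ψ τ) = 1 := by
    intro τ
    show Equiv.Perm.sign (Equiv.Perm.viaEmbedding (dbl τ) ι) = 1
    unfold Equiv.Perm.viaEmbedding
    rw [Equiv.Perm.sign_extendDomain, hdbl, Equiv.Perm.sign_sumCongr, Int.units_mul_self]
  have hinj : Function.Injective Ψ := by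
    apply (Equiv.Perm.viaEmbeddingHom_injective ι).comp
    intro σ τ hστ
    rw [hdbl, hdbl] at hστ
    ext x
    have := congrArg (fun e : Perm (α ⊕ α) => e (Sum.inl x)) hστ
    simpa using this
  refine ⟨Ψ.codRestrict (alternatingGroup (Fin n))
    (fun τ => Equiv.Perm.mem_alternatingGroup.2 (hsign τ)), ?_⟩
  intro σ τ hστ
  apply hinj
  exact congrArg Subtype.val hστ


/-- A non-trivial law holds in only finitely many alternating groups: for every non-trivial element w of the free group on countably many generators there is N such that for all n ≥ N some substitution of elements of the alternating group of degree n into w is not the identity. -/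
theorem result (w : FreeGroup ℕ) (hw : w ≠ 1) :
    ∃ N : ℕ, ∀ n : ℕ, N ≤ n → ∃ f : ℕ → alternatingGroup (Fin n), FreeGroup.lift f w ≠ 1 := by
  classical
  refine ⟨2 * (w.toWord.length + 1), fun n hn => ?_⟩
  have hcard : 2 * Fintype.card (suffixSet w) ≤ n := by
    rw [Fintype.card_coe]
    have := card_suffixSet_le w
    omega
  obtain ⟨Φ, hΦ⟩ := exists_embedding_alt (α := suffixSet w) n hcard
  refine ⟨fun i => Φ (genPerm w i), ?_⟩
  have hcomp : FreeGroup.lift (fun i => Φ (genPerm w i)) = Φ.comp (FreeGroup.lift (genPerm w)) := by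
    apply FreeGroup.ext_hom
    intro i
    simp
  rw [hcomp, MonoidHom.comp_apply]
  intro h
  rw [← map_one Φ] at h
  exact lift_genPerm_ne_one w hw (hΦ h)

end Cfsg.Agent.S2352
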