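import Cfsg.Statements.S2353


set_option autoImplicit false
open Cfsg

namespace Cfsg.Agent.S2353


open Polynomial Matrix

section mats
variable {R : Type*} [CommRing R]

/-- upper elementary matrix. -/
def matU (t : R) : Matrix (Fin 2) (Fin 2) R := !![1, t; 0, 1]
/-- lower elementary matrix. -/
def matL (t : R) : Matrix (Fin 2) (Fin 2) R := !![1, 0; t, 1]

/-- the matrix attached to a letter. -/
def letterMat (T : R) (x : ℕ × Bool) : Matrix (Fin 2) (Fin 2) R :=
  if x.2 then matU (T ^ (x.1 + 1)) * matL (T ^ (x.1 + 1))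
  else matL (-T ^ (x.1 + 1)) * matU (-T ^ (x.1 + 1))

/-- the matrix attached to a word. -/
def wordMat (T : R) (L : List (ℕ × Bool)) : Matrix (Fin 2) (Fin 2) R :=
  (L.map (letterMat T)).prod

theorem matU_mulVec (t : R) (c : Fin 2 → R) : matU t *ᵥ c = ![c 0 + t * c 1, c 1] := by
  funext i
  fin_cases i <;> simp [matU, Matrix.mulVec, dotProduct, Fin.sum_univ_two]

theorem matL_mulVec (t : R) (c : Fin 2 → R) : matL t *ᵥ c = ![c 0, t * c 0 + c 1] := by
  funext i
  fin_cases i <;> simp [matL, Matrix.mulVec, dotProduct, Fin.sum_univ_two]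

theorem matU_mul_matU (s t : R) : matU s * matU t = matU (s + t) := by
  ext i j
  fin_cases i <;> fin_cases j <;> simp [matU, Matrix.mul_apply, Fin.sum_univ_two, add_comm]

theorem matL_mul_matL (s t : R) : matL s * matL t = matL (s + t) := by
  ext i j
  fin_cases i <;> fin_cases j <;> simp [matL, Matrix.mul_apply, Fin.sum_univ_two, add_comm]

theorem matU_zero : matU (0 : R) = 1 := by
  ext i j
  fin_cases i <;> fin_cases j <;> simp [matU]

theorem matL_zero : matL (0 : R) = 1 := by
  ext i j
  fin_cases i <;> fin_cases j <;> simp [matL]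

theorem det_matU (t : R) : (matU t).det = 1 := by simp [matU, Matrix.det_fin_two]
theorem det_matL (t : R) : (matL t).det = 1 := by simp [matL, Matrix.det_fin_two]

theorem det_letterMat (T : R) (x : ℕ × Bool) : (letterMat T x).det = 1 := by
  unfold letterMat
  split_ifs <;> simp [det_matU, det_matL]

theorem map_matU {S : Type*} [CommRing S] (φ : R →+* S) (t : R) :
    (matU t).map φ = matU (φ t) := by
  ext i j
  fin_cases i <;> fin_cases j <;> simp [matU]

theorem map_matL {S : Type*} [CommRing S] (φ : R →+* S) (t : R) :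
    (matL t).map φ = matL (φ t) := by
  ext i j
  fin_cases i <;> fin_cases j <;> simp [matL]

theorem map_letterMat {S : Type*} [CommRing S] (φ : R →+* S) (T : R) (x : ℕ × Bool) :
    (letterMat T x).map φ = letterMat (φ T) x := by
  unfold letterMat
  split_ifs <;> simp [Matrix.map_mul, map_matU, map_matL]

theorem map_wordMat {S : Type*} [CommRing S] (φ : R →+* S) (T : R) (L : List (ℕ × Bool)) :
    (wordMat T L).map φ = wordMat (φ T) L := by
  induction L with
  | nil => simp [wordMat]
  | cons x L ih =>
    unfold wordMat at ih ⊢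
    rw [List.map_cons, List.prod_cons, List.map_cons, List.prod_cons, Matrix.map_mul, ih,
      map_letterMat]

end mats

section deg
variable {F : Type*} [Field F]

/-- first coordinate has larger degree. -/
def Big1 (c : Fin 2 → F[X]) : Prop := degree (c 1) < degree (c 0)
/-- second coordinate has larger degree. -/
def Big2 (c : Fin 2 → F[X]) : Prop := degree (c 0) < degree (c 1)

theorem deg_aux {a b t : F[X]} (h : degree b < degree a) (ht : 0 < degree t) :
    degree a < degree (t * a + b) := by
  have ha : a ≠ 0 := by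
    rintro rfl
    rw [degree_zero] at h
    exact not_lt_bot h
  have ht0 : t ≠ 0 := by
    rintro rfl
    rw [degree_zero] at ht
    exact not_lt_bot ht
  have htn : 0 < natDegree t := natDegree_pos_iff_degree_pos.2 ht
  have h1 : degree a < degree (t * a) := by
    rw [degree_eq_natDegree ha, degree_eq_natDegree (mul_ne_zero ht0 ha), natDegree_mul ht0 ha]
    exact_mod_cast (by omega : natDegree a < natDegree t + natDegree a)
  have h2 : degree b < degree (t * a) := h.trans h1
  rw [degree_add_eq_left_of_degree_lt h2]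
  exact h1

theorem big2_matL {c : Fin 2 → F[X]} {t : F[X]} (hc : Big1 c) (ht : 0 < degree t) :
    Big2 (matL t *ᵥ c) := by
  rw [matL_mulVec]
  unfold Big2
  simp only [Matrix.cons_val_zero, Matrix.cons_val_one]
  exact deg_aux hc ht

theorem big1_matU {c : Fin 2 → F[X]} {t : F[X]} (hc : Big2 c) (ht : 0 < degree t) :
    Big1 (matU t *ᵥ c) := by
  rw [matU_mulVec]
  unfold Big1
  simp only [Matrix.cons_val_zero, Matrix.cons_val_one]
  rw [add_comm]
  exact deg_aux hc ht

theorem deg_X_pow (i : ℕ) : 0 < degree ((X : F[X]) ^ (i + 1)) := by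
  rw [degree_X_pow]
  exact_mod_cast Nat.succ_pos i

theorem deg_neg_X_pow (i : ℕ) : 0 < degree (-(X : F[X]) ^ (i + 1)) := by
  rw [degree_neg]
  exact deg_X_pow i

theorem deg_sub_X_pow {i j : ℕ} (hij : i ≠ j) :
    0 < degree ((X : F[X]) ^ (i + 1) + -X ^ (j + 1)) := by
  rw [← sub_eq_add_neg]
  rcases lt_or_gt_of_ne hij with h | h
  · have : degree ((X : F[X]) ^ (i + 1)) < degree ((X : F[X]) ^ (j + 1)) := by
      rw [degree_X_pow, degree_X_pow]
      exact_mod_cast (by omega : i + 1 < j + 1)
    rw [degree_sub_eq_right_of_degree_lt this]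
    exact deg_X_pow j
  · have : degree ((X : F[X]) ^ (j + 1)) < degree ((X : F[X]) ^ (i + 1)) := by
      rw [degree_X_pow, degree_X_pow]
      exact_mod_cast (by omega : j + 1 < i + 1)
    rw [degree_sub_eq_left_of_degree_lt this]
    exact deg_X_pow i

/-- the invariant. -/
def Inv : List (ℕ × Bool) → (Fin 2 → F[X]) → Prop
  | [], v => v = ![1, 0]
  | (j, true) :: _, v => ∃ w, Big2 w ∧ v = matU (X ^ (j + 1)) *ᵥ w
  | (j, false) :: _, v => ∃ w, Big1 w ∧ v = matL (-X ^ (j + 1)) *ᵥ w

theorem inv_cons_true (j : ℕ) (L : List (ℕ × Bool)) (v : Fin 2 → F[X]) :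
    Inv ((j, true) :: L) v ↔ ∃ w, Big2 w ∧ v = matU (X ^ (j + 1)) *ᵥ w := Iff.rfl

theorem inv_cons_false (j : ℕ) (L : List (ℕ × Bool)) (v : Fin 2 → F[X]) :
    Inv ((j, false) :: L) v ↔ ∃ w, Big1 w ∧ v = matL (-X ^ (j + 1)) *ᵥ w := Iff.rfl

theorem inv_nil (v : Fin 2 → F[X]) : Inv [] v ↔ v = ![1, 0] := Iff.rfl

theorem big1_e : Big1 (![1, 0] : Fin 2 → F[X]) := by
  unfold Big1
  simp

theorem step_true (i : ℕ) (L : List (ℕ × Bool)) (v' : Fin 2 → F[X]) (ih : Inv L v')
    (hL : FreeGroup.IsReduced ((i, true) :: L)) : Big2 (matL (X ^ (i + 1)) *ᵥ v') := by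
  rcases L with _ | ⟨⟨j, b⟩, L''⟩
  · rw [inv_nil] at ih
    rw [ih]
    exact big2_matL big1_e (deg_X_pow i)
  · cases b with
    | true =>
      rw [inv_cons_true] at ih
      obtain ⟨w, hw1, hw2⟩ := ih
      rw [hw2]
      exact big2_matL (big1_matU hw1 (deg_X_pow j)) (deg_X_pow i)
    | false =>
      rw [inv_cons_false] at ih
      obtain ⟨w, hw1, hw2⟩ := ih
      have hij : i ≠ j := by
        intro hij
        unfold FreeGroup.IsReduced at hL
        have := (List.isChain_cons_cons.1 hL).1 hij
        simp at this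
      rw [hw2, Matrix.mulVec_mulVec, matL_mul_matL]
      exact big2_matL hw1 (deg_sub_X_pow hij)

theorem step_false (i : ℕ) (L : List (ℕ × Bool)) (v' : Fin 2 → F[X]) (ih : Inv L v')
    (hL : FreeGroup.IsReduced ((i, false) :: L)) : Big1 (matU (-X ^ (i + 1)) *ᵥ v') := by
  rcases L with _ | ⟨⟨j, b⟩, L''⟩
  · rw [inv_nil] at ih
    rw [ih, matU_mulVec]
    simp only [Matrix.cons_val_zero, Matrix.cons_val_one, mul_zero, add_zero]
    exact big1_e
  · cases b with
    | false =>
      rw [inv_cons_false] at ih
      obtain ⟨w, hw1, hw2⟩ := ih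
      rw [hw2]
      exact big1_matU (big2_matL hw1 (deg_neg_X_pow j)) (deg_neg_X_pow i)
    | true =>
      rw [inv_cons_true] at ih
      obtain ⟨w, hw1, hw2⟩ := ih
      have hij : i ≠ j := by
        intro hij
        unfold FreeGroup.IsReduced at hL
        have := (List.isChain_cons_cons.1 hL).1 hij
        simp at this
      rw [hw2, Matrix.mulVec_mulVec, matU_mul_matU, add_comm]
      exact big1_matU hw1 (deg_sub_X_pow hij.symm)

theorem inv_wordMat (L : List (ℕ × Bool)) (hL : FreeGroup.IsReduced L) :
    Inv L (wordMat (X : F[X]) L *ᵥ ![1, 0]) := by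
  induction L with
  | nil =>
    rw [inv_nil]
    simp [wordMat]
  | cons x L ih =>
    have hL' : FreeGroup.IsReduced L := by
      unfold FreeGroup.IsReduced at hL ⊢
      exact hL.tail
    have ih := ih hL'
    have hw : wordMat (X : F[X]) (x :: L) = letterMat X x * wordMat X L := by
      unfold wordMat
      rw [List.map_cons, List.prod_cons]
    rw [hw, ← Matrix.mulVec_mulVec]
    obtain ⟨i, b⟩ := x
    cases b with
    | true =>
      have hl : letterMat (X : F[X]) (i, true) = matU (X ^ (i + 1)) * matL (X ^ (i + 1)) := by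
        simp [letterMat]
      rw [hl, ← Matrix.mulVec_mulVec, inv_cons_true]
      exact ⟨_, step_true i L _ ih hL, rfl⟩
    | false =>
      have hl : letterMat (X : F[X]) (i, false) =
          matL (-X ^ (i + 1)) * matU (-X ^ (i + 1)) := by
        simp [letterMat]
      rw [hl, ← Matrix.mulVec_mulVec, inv_cons_false]
      exact ⟨_, step_false i L _ ih hL, rfl⟩

theorem entry_ne_zero (L : List (ℕ × Bool)) (hL : FreeGroup.IsReduced L) (hne : L ≠ []) :
    wordMat (X : F[X]) L 1 0 ≠ 0 := by
  have h := inv_wordMat (F := F) L hL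
  have he : wordMat (X : F[X]) L 1 0 = (wordMat (X : F[X]) L *ᵥ ![1, 0]) 1 := by
    simp [Matrix.mulVec, dotProduct, Fin.sum_univ_two]
  rw [he]
  have hbig2 : ∀ c : Fin 2 → F[X], Big2 c → c 1 ≠ 0 := by
    intro c hc h0
    unfold Big2 at hc
    rw [h0, degree_zero] at hc
    exact not_lt_bot hc
  generalize wordMat (X : F[X]) L *ᵥ ![1, 0] = v at h
  rcases L with _ | ⟨⟨j, b⟩, L'⟩
  · exact absurd rfl hne
  · cases b with
    | true =>
      rw [inv_cons_true] at h
      obtain ⟨w, hw1, hw2⟩ := h
      rw [hw2, matU_mulVec]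
      simp only [Matrix.cons_val_one]
      exact hbig2 w hw1
    | false =>
      rw [inv_cons_false] at h
      obtain ⟨w, hw1, hw2⟩ := h
      rw [hw2]
      exact hbig2 _ (big2_matL hw1 (deg_neg_X_pow j))

end deg


section final
variable {F : Type*} [Field F]

/-- the generators in `SL₂`. -/
def gen (T : F) (x : ℕ × Bool) : Matrix.SpecialLinearGroup (Fin 2) F :=
  ⟨letterMat T x, det_letterMat T x⟩

theorem gen_inv (T : F) (i : ℕ) : (gen T (i, true))⁻¹ = gen T (i, false) := by
  apply inv_eq_of_mul_eq_one_right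
  apply Matrix.SpecialLinearGroup.ext
  intro a b
  have : letterMat T (i, true) * letterMat T (i, false) = 1 := by
    simp only [letterMat, if_true, Bool.false_eq_true, if_false]
    rw [Matrix.mul_assoc, ← Matrix.mul_assoc (matL _), matL_mul_matL, add_neg_cancel, matL_zero,
      Matrix.one_mul, matU_mul_matU, add_neg_cancel, matU_zero]
  change (letterMat T (i, true) * letterMat T (i, false)) a b = _
  rw [this]
  rfl

theorem lift_gen_val (T : F) (L : List (ℕ × Bool)) :
    ((FreeGroup.lift (fun i => gen T (i, true)) (FreeGroup.mk L) :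
      Matrix.SpecialLinearGroup (Fin 2) F) : Matrix (Fin 2) (Fin 2) F) = wordMat T L := by
  rw [FreeGroup.lift_mk]
  induction L with
  | nil => simp [wordMat]
  | cons x L ih =>
    rw [List.map_cons, List.prod_cons, Matrix.SpecialLinearGroup.coe_mul, ih]
    unfold wordMat
    rw [List.map_cons, List.prod_cons]
    congr 1
    obtain ⟨i, b⟩ := x
    cases b with
    | true => rfl
    | false =>
      simp only [cond_false]
      rw [gen_inv]
      rfl

end final



/-- A non-trivial law holds in PSL_2 over only finitely many finite fields: for every non-trivial element w of the free group on countably many generators there is N such that over every finite field with at least N elements some substitution of elements of PSL_2 into w is not the identity. -/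
theorem result (w : FreeGroup ℕ) (hw : w ≠ 1) :
    ∃ N : ℕ, ∀ (F : Type*) [Field F] [Fintype F], N ≤ Fintype.card F →
      ∃ f : ℕ → Matrix.ProjectiveSpecialLinearGroup (Fin 2) F, FreeGroup.lift f w ≠ 1 := by
  classical
  set L := w.toWord with hL
  have hLne : L ≠ [] := by
    intro h
    exact hw (FreeGroup.toWord_eq_nil_iff.1 h)
  have hLred : FreeGroup.IsReduced L := FreeGroup.isReduced_toWord
  have hwL : FreeGroup.mk L = w := FreeGroup.mk_toWord
  refine ⟨(wordMat (X : ℤ[X]) L 1 0).natDegree + 1, ?_⟩
  intro F _ _ hN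
  set fF : F[X] := wordMat (X : F[X]) L 1 0 with hfF
  have hfF0 : fF ≠ 0 := entry_ne_zero L hLred hLne
  have hmap : fF = (wordMat (X : ℤ[X]) L 1 0).map (Int.castRingHom F) := by
    have := map_wordMat (Polynomial.mapRingHom (Int.castRingHom F)) (X : ℤ[X]) L
    rw [Polynomial.coe_mapRingHom, Polynomial.map_X] at this
    rw [hfF, ← this]
    rfl
  have hdeg : fF.natDegree < Fintype.card F := by
    have := Polynomial.natDegree_map_le (f := Int.castRingHom F) (p := wordMat (X : ℤ[X]) L 1 0)
    rw [← hmap] at this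
    omega
  have hex : ∃ T₀ : F, fF.eval T₀ ≠ 0 := by
    by_contra hcon
    push Not at hcon
    exact hfF0 (Polynomial.eq_zero_of_natDegree_lt_card_of_eval_eq_zero fF
      (f := (id : F → F)) Function.injective_id hcon hdeg)
  obtain ⟨T₀, hT₀⟩ := hex
  have heval : fF.eval T₀ = wordMat T₀ L 1 0 := by
    have := map_wordMat (Polynomial.evalRingHom T₀) (X : F[X]) L
    rw [Polynomial.coe_evalRingHom, Polynomial.eval_X] at this
    rw [← this]
    rfl
  let g : ℕ → Matrix.SpecialLinearGroup (Fin 2) F := fun i => gen T₀ (i, true)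
  let π := QuotientGroup.mk' (Subgroup.center (Matrix.SpecialLinearGroup (Fin 2) F))
  refine ⟨fun i => π (g i), ?_⟩
  have hcomp : FreeGroup.lift (fun i => π (g i)) = π.comp (FreeGroup.lift g) := by
    apply FreeGroup.ext_hom
    intro i
    simp
  rw [hcomp, MonoidHom.comp_apply]
  intro h1
  have hmem : FreeGroup.lift g w ∈ Subgroup.center (Matrix.SpecialLinearGroup (Fin 2) F) := by
    rw [← QuotientGroup.eq_one_iff]
    exact h1
  rw [Matrix.SpecialLinearGroup.mem_center_iff] at hmem
  obtain ⟨r, -, hr⟩ := hmem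
  have h2 := lift_gen_val T₀ L
  rw [hwL] at h2
  have h3 : ((FreeGroup.lift g w : Matrix.SpecialLinearGroup (Fin 2) F) :
      Matrix (Fin 2) (Fin 2) F) 1 0 = 0 := by
    rw [← hr]
    simp
  rw [h2] at h3
  exact hT₀ (heval.trans h3)


end Cfsg.Agent.S2353
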