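import Mathlib
-- Template for statement S2354 (row 2354; see /opt/grader/pristine/manifest.json for weights).
-- Copy to Cfsg/Agent/S2354.lean and replace the sorry. The statement below is byte-identical to the frozen
-- statement Cfsg.CfsgFrozen.S2354 (Cfsg/Statements/S2354.lean; the theorem Cfsg.law_fails_in_large_suzuki_groups);
-- the grader kernel-checks Cfsg.Agent.S2354.result against that frozen type. Keep the theorem IN THIS FILE
-- (a `result` declared elsewhere and merely imported here is not credited); helpers may live anywhere
-- under Cfsg/Agent/.
import Cfsg.Statements.S2354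
import Cfsg.Agent.Lib.Helper3.Sz55

set_option autoImplicit false
open Cfsg
open Cfsg.Agent.Lib.Helper3.Sz

namespace Cfsg.Agent.S2354

/-- A non-trivial law holds in only finitely many Suzuki groups: for every non-trivial element w of the free group on countably many generators there is N such that for q = 2^(2m+1) with m ≥ N some substitution of elements of the Suzuki group over the field with q elements into w is not the identity. -/
theorem result (w : FreeGroup ℕ) (hw : w ≠ 1) :
    ∃ N : ℕ, ∀ (F : Type*) [Field F] [Fintype F] (m : ℕ), 1 ≤ m → N ≤ m →
      Fintype.card F = 2 ^ (2 * m + 1) →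
      ∃ f : ℕ → ↥(Cfsg.Lie.Sz F (2 ^ (m + 1))), FreeGroup.lift f w ≠ 1 := by
  refine ⟨w.toWord.length + ((w.toWord.map Prod.fst).sum + 1) + 3, ?_⟩
  intro F _ _ m hm hN hF
  have := charP_two_of_card hF
  obtain ⟨h1, h2⟩ := law_arith hN
  exact exists_subst_ne_one_lieSz (titsOfCard_isPow hm hF) (titsOfCard_apply hF) w hw
    (by rw [hF]; exact h1) (by rw [hF]; exact h2)

end Cfsg.Agent.S2354
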