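import Cfsg.Statements.S2355
import Cfsg.Agent.Lib.Helper2.LawCore8
import Cfsg.Agent.Lib.Helper7.LawPkgSp
import Cfsg.Agent.Lib.Helper7.LawPkgOrth
import Cfsg.Agent.Lib.Helper3.LawPkgSURoot
import Cfsg.Agent.Lib.Helper3.LawPkgSUPerm

set_option autoImplicit false
open Cfsg

namespace Cfsg.Agent.S2355

open Cfsg.Agent.Lib.Helper2.Law Cfsg.Agent.Lib.LawPkg

/-- A non-trivial law is satisfied by only finitely many finite simple groups that are alternating or classical, up to isomorphism: for every non-trivial element w of the free group on countably many generators there is a bound N such that every alternating group of degree ≥ 5 and every simple classical group (linear, symplectic, unitary or orthogonal, in this problem's sense) in which w is a law has order at most N. -/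
theorem result (w : FreeGroup ℕ) (hw : w ≠ 1) :
    ∃ N : ℕ, ∀ (G : Type*) [Group G] [Finite G],
      (Cfsg.IsAlternating G ∨ Cfsg.IsPSL G ∨ Cfsg.IsPSp G ∨ Cfsg.IsPSU G ∨ Cfsg.IsPOmegaOdd G ∨
          Cfsg.IsPOmegaPlus G ∨ Cfsg.IsPOmegaMinus G) →
      (∀ f : ℕ → G, FreeGroup.lift f w = 1) → Nat.card G ≤ N := by
  classical
  set M := altBound w with hM
  set D := wdeg w.toWord with hD
  set B := D ^ 2 + D + 1 with hB
  have hB1 : 1 ≤ B := by omega
  have hDB : D ≤ B := by omega
  have hD2B : D ^ 2 ≤ B := by omega
  refine ⟨M.factorial + B ^ ((2 * M + 2) * (2 * M + 2)), ?_⟩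
  intro G _ _ hfam hlaw
  rcases hfam with h | h | h | h | h | h | h
  · -- alternating
    obtain ⟨n, -, ⟨e⟩⟩ := h
    have hnM : n < M := by
      by_contra hlt
      exact not_refutes_of_law' e hlaw (alt_refutes w hw n (by omega))
    have h1 : Nat.card G = Nat.card ↥(alternatingGroup (Fin n)) := Nat.card_congr e.toEquiv
    have h2 : Nat.card ↥(alternatingGroup (Fin n)) ≤ Nat.card (Equiv.Perm (Fin n)) :=
      Nat.card_le_card_of_injective _ Subtype.val_injective
    have h3 : Nat.card (Equiv.Perm (Fin n)) = n.factorial := by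
      rw [Nat.card_eq_fintype_card, Fintype.card_perm, Fintype.card_fin]
    have h4 : n.factorial ≤ M.factorial := Nat.factorial_le (le_of_lt hnM)
    omega
  · -- PSL
    obtain ⟨F, _, _, n, hn2, -, ⟨e⟩⟩ := h
    have hnr := not_refutes_of_law e hlaw
    have hnM : n < M := by
      by_contra hlt
      exact hnr (sl_refutes_rank F w hw n (by omega))
    have hFD : Fintype.card F ≤ D := by
      by_contra hlt
      exact hnr (sl_refutes_field F w hw n hn2 (by omega))
    have h1 : Nat.card G = Nat.card (Matrix.ProjectiveSpecialLinearGroup (Fin n) F) :=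
      Nat.card_congr e.toEquiv
    have h2 := card_quot_le (Subgroup.center (Matrix.SpecialLinearGroup (Fin n) F))
      (fun A : Matrix.SpecialLinearGroup (Fin n) F => A.1) Subtype.val_injective
    have h3 := pow_bound (c := Fintype.card F) (d := Fintype.card (Fin n)) (B := B) (M := M)
      (by omega) hB1 (by rw [Fintype.card_fin]; omega)
    rw [h1]
    exact le_trans (le_trans h2 h3) (Nat.le_add_left _ _)
  · -- PSp
    obtain ⟨F, _, _, m, hm2, -, ⟨e⟩⟩ := h
    have hnr := not_refutes_of_law e hlaw
    obtain ⟨φ, hφ⟩ := sp_embed F m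
    have hmM : m < M := by
      by_contra hlt
      exact hnr (refutes_of_gl_embed φ hφ (sl_refutes_rank F w hw m (by omega)))
    have hFD : Fintype.card F ≤ D := by
      by_contra hlt
      exact hnr (refutes_of_gl_embed φ hφ (sl_refutes_field F w hw m hm2 (by omega)))
    have h1 : Nat.card G = Nat.card (Cfsg.PSp m F) := Nat.card_congr e.toEquiv
    have h2 := card_quot_le (Subgroup.center ↥(Matrix.symplecticGroup (Fin m) F))
      (fun A : ↥(Matrix.symplecticGroup (Fin m) F) => A.1) Subtype.val_injective
    have h3 := pow_bound (c := Fintype.card F) (d := Fintype.card (Fin m ⊕ Fin m)) (B := B)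
      (M := M) (by omega) hB1 (by rw [Fintype.card_sum, Fintype.card_fin]; omega)
    rw [h1]
    exact le_trans (le_trans h2 h3) (Nat.le_add_left _ _)
  · -- PSU
    obtain ⟨F, _, _, n, q, hF, hn3, -, ⟨e⟩⟩ := h
    have hnr := not_refutes_of_law e hlaw
    have hnM : n < M := by
      by_contra hlt
      obtain ⟨φ, hφ⟩ := su_perm F n q
      exact hnr (((alt_refutes w hw n (by omega)).map φ hφ).mono le_top)
    have hqD : q ≤ D := by
      by_contra hlt
      obtain ⟨φ, μ, hφ, hμ, hmem⟩ := su_root F n q hF (by omega)
      exact hnr (su_refutes_field n q hF w hw (by omega) φ μ hφ hμ hmem)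
    have hFD : Fintype.card F ≤ B := by
      rw [hF]
      exact le_trans (Nat.pow_le_pow_left hqD 2) hD2B
    have h1 : Nat.card G = Nat.card (Cfsg.PSU n F q) := Nat.card_congr e.toEquiv
    have h2 := card_quot_le (Subgroup.center ↥(Cfsg.SU n F q))
      (fun A : ↥(Cfsg.SU n F q) => A.1.1) (Subtype.val_injective.comp Subtype.val_injective)
    have h3 := pow_bound (c := Fintype.card F) (d := Fintype.card (Fin n)) (B := B) (M := M)
      hFD hB1 (by rw [Fintype.card_fin]; omega)
    rw [h1]
    exact le_trans (le_trans h2 h3) (Nat.le_add_left _ _)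
  · -- POmega odd
    obtain ⟨F, _, _, m, hm3, -, ⟨e⟩⟩ := h
    have hnr := not_refutes_of_law e hlaw
    obtain ⟨φ, hφ⟩ := oodd_embed F m
    have hmM : m < M := by
      by_contra hlt
      exact hnr (refutes_commutator_of_gl_embed hm3 φ hφ (sl_refutes_rank F w hw m (by omega)))
    have hFD : Fintype.card F ≤ D := by
      by_contra hlt
      exact hnr (refutes_commutator_of_gl_embed hm3 φ hφ
        (sl_refutes_field F w hw m (by omega) (by omega)))
    have h1 : Nat.card G = Nat.card (Cfsg.POmega F (Cfsg.quadFormOdd m F)) :=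
      Nat.card_congr e.toEquiv
    have h2 := card_pomega_le F (Cfsg.quadFormOdd m F)
    have h3 := pow_bound (c := Fintype.card F) (d := Fintype.card (Unit ⊕ (Fin m ⊕ Fin m)))
      (B := B) (M := M) (by omega) hB1
      (by rw [Fintype.card_sum, Fintype.card_sum, Fintype.card_fin, Fintype.card_unit]; omega)
    rw [h1]
    exact le_trans (le_trans h2 h3) (Nat.le_add_left _ _)
  · -- POmega plus
    obtain ⟨F, _, _, m, hm4, ⟨e⟩⟩ := h
    have hnr := not_refutes_of_law e hlaw
    obtain ⟨φ, hφ⟩ := oplus_embed F m
    have hm3 : 3 ≤ m := by omega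
    have hmM : m < M := by
      by_contra hlt
      exact hnr (refutes_commutator_of_gl_embed hm3 φ hφ (sl_refutes_rank F w hw m (by omega)))
    have hFD : Fintype.card F ≤ D := by
      by_contra hlt
      exact hnr (refutes_commutator_of_gl_embed hm3 φ hφ
        (sl_refutes_field F w hw m (by omega) (by omega)))
    have h1 : Nat.card G = Nat.card (Cfsg.POmega F (Cfsg.quadFormPlus m F)) :=
      Nat.card_congr e.toEquiv
    have h2 := card_pomega_le F (Cfsg.quadFormPlus m F)
    have h3 := pow_bound (c := Fintype.card F) (d := Fintype.card (Fin m ⊕ Fin m))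
      (B := B) (M := M) (by omega) hB1
      (by rw [Fintype.card_sum, Fintype.card_fin]; omega)
    rw [h1]
    exact le_trans (le_trans h2 h3) (Nat.le_add_left _ _)
  · -- POmega minus
    obtain ⟨F, _, _, m, a, b, hm4, -, ⟨e⟩⟩ := h
    have hnr := not_refutes_of_law e hlaw
    obtain ⟨φ, hφ⟩ := ominus_embed F (m - 1) a b
    have hm3 : 3 ≤ m - 1 := by omega
    have hmM : m - 1 < M := by
      by_contra hlt
      exact hnr (refutes_commutator_of_gl_embed hm3 φ hφ
        (sl_refutes_rank F w hw (m - 1) (by omega)))
    have hFD : Fintype.card F ≤ D := by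
      by_contra hlt
      exact hnr (refutes_commutator_of_gl_embed hm3 φ hφ
        (sl_refutes_field F w hw (m - 1) (by omega) (by omega)))
    have h1 : Nat.card G = Nat.card (Cfsg.POmega F (Cfsg.quadFormMinus (m - 1) F a b)) :=
      Nat.card_congr e.toEquiv
    have h2 := card_pomega_le F (Cfsg.quadFormMinus (m - 1) F a b)
    have h3 := pow_bound (c := Fintype.card F)
      (d := Fintype.card ((Fin (m - 1) ⊕ Fin (m - 1)) ⊕ Fin 2))
      (B := B) (M := M) (by omega) hB1
      (by rw [Fintype.card_sum, Fintype.card_sum, Fintype.card_fin, Fintype.card_fin]; omega)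
    rw [h1]
    exact le_trans (le_trans h2 h3) (Nat.le_add_left _ _)

end Cfsg.Agent.S2355
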