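import Cfsg.Statements.S2360
import Mathlib
import Cfsg.Agent.Lib.Helper2.SU3Inv6

set_option autoImplicit false
open Cfsg

namespace Cfsg.Agent.S2360

/-- Let q be odd, F the field with q² elements and S = SU_3(F) (determinant-one isometries of the standard Hermitian form). Then all involutions of S are conjugate; there are exactly q²(q²−q+1) of them; the centralizer of an involution has order q(q+1)(q²−1), the order of the full unitary group of degree 2; and for two distinct commuting involutions t and x there is exactly one further involution commuting with both. -/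
theorem result {F : Type*} [Field F] [Fintype F] {q : ℕ} (hq : Odd q)
    (hF : Fintype.card F = q ^ 2) (t : ↥(Cfsg.SU 3 F q)) (ht : t ≠ 1) (ht2 : t * t = 1) :
    (∀ x : ↥(Cfsg.SU 3 F q), x ≠ 1 → x * x = 1 → ∃ g : ↥(Cfsg.SU 3 F q), g * t * g⁻¹ = x) ∧
    Nat.card {x : ↥(Cfsg.SU 3 F q) // x ≠ 1 ∧ x * x = 1} = q ^ 2 * (q ^ 2 - q + 1) ∧
    Nat.card ↥(Subgroup.centralizer ({t} : Set ↥(Cfsg.SU 3 F q))) = q * (q + 1) * (q ^ 2 - 1) ∧
    ∀ x : ↥(Cfsg.SU 3 F q), x ≠ 1 → x * x = 1 → x ≠ t → Commute t x →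
      Nat.card {y : ↥(Cfsg.SU 3 F q) // y ≠ 1 ∧ y * y = 1 ∧ y ≠ t ∧ y ≠ x ∧ Commute t y ∧ Commute x y} = 1 := by
  classical
  open Cfsg.Agent.Lib.Helper2 Cfsg.Agent.Lib.Helper2.SU3Inv Cfsg.Agent.Lib.Helper2.UT in
  obtain ⟨σ, hσ, hσq⟩ := HermDecomp.exists_sigma hF
  have hy := hyp_std hq hF hσ hσq
  have hρ := isSU_std hq hF hσ hσq
  have hq3 := three_le_of_odd hq hF
  haveI : Finite ↥(Cfsg.SU 3 F q) := inferInstance
  -- arithmetic
  obtain ⟨m, hm⟩ : ∃ m, q ^ 2 = q + m := ⟨q ^ 2 - q, by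
    have : q ≤ q ^ 2 := by nlinarith
    omega⟩
  have hm' : q ^ 2 - q = m := by omega
  have ha : (q + 1) * (q ^ 2 - q + 1) = q ^ 3 + 1 := by
    rw [hm']
    have : q ^ 3 = q * q ^ 2 := by ring
    rw [this, hm]
    nlinarith
  have hI0 := card_norm_one_eq hy hρ
  rw [card_norm_one_V hF, card_norm_one_F hF hσq] at hI0
  have hI : Nat.card {x : ↥(Cfsg.SU 3 F q) // x ≠ 1 ∧ x * x = 1} = q ^ 2 * (q ^ 2 - q + 1) := by
    have h1 : (q + 1) * Nat.card {x : ↥(Cfsg.SU 3 F q) // x ≠ 1 ∧ x * x = 1} =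
        (q + 1) * (q ^ 2 * (q ^ 2 - q + 1)) := by
      rw [mul_comm, ← hI0, ← ha]
      ring
    exact Nat.eq_of_mul_eq_mul_left (by omega) h1
  refine ⟨fun x hx1 hx2 => conj_inv hy hρ ht ht2 hx1 hx2, hI, ?_, ?_⟩
  · have hC := card_inv_mul_card_centralizer hy hρ ht ht2
    have hS := card_SU3 hF
    rw [← hC, hI, ← ha] at hS
    have hpos : 0 < (q + 1) * (q ^ 2 * (q ^ 2 - q + 1)) := by positivity
    have hS' : (q + 1) * (q ^ 2 * (q ^ 2 - q + 1)) *
        Nat.card ↥(Subgroup.centralizer ({t} : Set ↥(Cfsg.SU 3 F q))) =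
        (q + 1) * (q ^ 2 * (q ^ 2 - q + 1)) * (q * (q + 1) * (q ^ 2 - 1)) := by
      rw [mul_assoc, hS]
      ring
    exact Nat.eq_of_mul_eq_mul_left hpos hS'
  · intro x hx1 hx2 hxt hc
    rw [Nat.card_congr (Equiv.subtypeEquivRight (third hy hρ ht ht2 hx1 hx2 hxt hc))]
    exact Nat.card_eq_one_iff_unique.2
      ⟨⟨fun a b => Subtype.ext (a.2.trans b.2.symm)⟩, ⟨⟨_, rfl⟩⟩⟩

end Cfsg.Agent.S2360
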