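import Cfsg.Statements.S2356
import Mathlib
import Cfsg.Agent.Lib.Helper2.SU3Inv11
import Cfsg.Agent.S2360

set_option autoImplicit false
open Cfsg

namespace Cfsg.Agent.S2356

/-- Let q be odd, F the field with q² elements, S = SU_3(F) (determinant-one isometries of the standard Hermitian form) and t an involution of S. Then: exactly q(q−1) involutions other than t commute with t; exactly q(q−2)(q²−1) involutions do not commute with t but commute with some involution commuting with t; exactly (q+1)(q²−1) involutions x do not commute with t and admit no involution commuting with both t and x; and every involution can be reached from t in at most three steps, each step going to an involution that commutes with the previous one (the commuting involution graph is connected of diameter 3). -/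
theorem result {F : Type*} [Field F] [Fintype F] {q : ℕ} (hq : Odd q)
    (hF : Fintype.card F = q ^ 2) (t : ↥(Cfsg.SU 3 F q)) (ht : t ≠ 1) (ht2 : t * t = 1) :
    Nat.card {x : ↥(Cfsg.SU 3 F q) // x ≠ 1 ∧ x * x = 1 ∧ x ≠ t ∧ Commute t x} = q * (q - 1) ∧
    Nat.card {x : ↥(Cfsg.SU 3 F q) // x ≠ 1 ∧ x * x = 1 ∧ ¬ Commute t x ∧
        ∃ y : ↥(Cfsg.SU 3 F q), y ≠ 1 ∧ y * y = 1 ∧ Commute t y ∧ Commute y x} = q * (q - 2) * (q ^ 2 - 1) ∧
    Nat.card {x : ↥(Cfsg.SU 3 F q) // x ≠ 1 ∧ x * x = 1 ∧ ¬ Commute t x ∧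
        ∀ y : ↥(Cfsg.SU 3 F q), y ≠ 1 → y * y = 1 → ¬ (Commute t y ∧ Commute y x)} = (q + 1) * (q ^ 2 - 1) ∧
    ∀ x : ↥(Cfsg.SU 3 F q), x ≠ 1 → x * x = 1 →
      ∃ y z : ↥(Cfsg.SU 3 F q), y ≠ 1 ∧ y * y = 1 ∧ z ≠ 1 ∧ z * z = 1 ∧
        Commute t y ∧ Commute y z ∧ Commute z x := by
  classical
  open Cfsg.Agent.Lib.Helper2 Cfsg.Agent.Lib.Helper2.SU3Inv Cfsg.Agent.Lib.Helper2.UT in
  obtain ⟨σ, hσ, hσq⟩ := HermDecomp.exists_sigma hF
  have hy := hyp_std hq hF hσ hσq
  have hρ := isSU_std hq hF hσ hσq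
  have hq3 := three_le_of_odd hq hF
  haveI : Finite ↥(Cfsg.SU 3 F q) := inferInstance
  obtain ⟨w, hw, htw⟩ := exists_invo_of_inv hy hρ ht ht2
  have hk := card_norm_one_F hF hσq
  have hN1 : Nat.card {x : Fin 2 → F // Cfsg.hermForm 2 F q x x = 1} = q * (q ^ 2 - 1) := by
    rw [Cfsg.Agent.S0284.result hF 2, if_pos (by decide)]
    norm_num
  have hN0 : Nat.card {x : Fin 2 → F // Cfsg.hermForm 2 F q x x = 0} =
      (q ^ 2 - 1) * (q + 1) + 1 := by
    rw [Cfsg.Agent.S0285.result hF 2, if_pos (by decide)]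
    norm_num
  have hsq := sq_sub_one q (by omega)
  have h1 : Nat.card {x : ↥(Cfsg.SU 3 F q) // x ≠ 1 ∧ x * x = 1 ∧ x ≠ t ∧ Commute t x} =
      q * (q - 1) := by
    have := card_I1 hσq hy hρ hw htw
    rw [hk, hN1, hsq] at this
    apply Nat.eq_of_mul_eq_mul_right (by omega : 0 < q + 1)
    rw [this]
    ring
  have h3 : Nat.card {x : ↥(Cfsg.SU 3 F q) // x ≠ 1 ∧ x * x = 1 ∧ ¬ Commute t x ∧
        ∀ y : ↥(Cfsg.SU 3 F q), y ≠ 1 → y * y = 1 → ¬ (Commute t y ∧ Commute y x)} =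
      (q + 1) * (q ^ 2 - 1) := by
    have := card_I3 hσq hy hρ hw htw
    rw [hk, hN0] at this
    apply Nat.eq_of_mul_eq_mul_right (by omega : 0 < q + 1)
    have h5 : (q + 1) * ((q ^ 2 - 1) * (q + 1) + 1) =
        (q + 1) * (q ^ 2 - 1) * (q + 1) + (q + 1) := by ring
    rw [h5] at this
    omega
  have hI := (Cfsg.Agent.S2360.result hq hF t ht ht2).2.1
  have hsum := card_partition t ht ht2
  refine ⟨h1, ?_, h3, fun x hx1 hx2 => diam hy hρ ht ht2 hx1 hx2⟩
  exact arith q _ _ _ _ hq3 hI h1 h3 hsum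

end Cfsg.Agent.S2356
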