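import Cfsg.Statements.S2362
import Cfsg.Agent.Lib.Helper5.SpecBC.Final
-- import your own Cfsg.Agent.* helpers here

set_option autoImplicit false
open Cfsg

namespace Cfsg.Agent.S2362

/-- Let F be a finite field of odd order and n ≥ 3. The simple orthogonal group PΩ(2n+1, F) (type B_n) and the projective symplectic group PSp(2n, F) (type C_n), which have the same order, do not have the same set of element orders. -/
theorem result {F : Type*} [Field F] [Fintype F] (hodd : Odd (Fintype.card F)) (n : ℕ) (hn : 3 ≤ n) :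
    Set.range (orderOf : Cfsg.POmega F (Cfsg.quadFormOdd n F) → ℕ) ≠ Set.range (orderOf : Cfsg.PSp n F → ℕ) := by
  classical
  obtain ⟨p, hp⟩ := CharP.exists F
  have : Fact p.Prime := ⟨CharP.char_is_prime F p⟩
  have h2 : (2 : F) ≠ 0 := Cfsg.Agent.Lib.Helper5.SpecBC.two_ne_zero_of_odd_card hodd
  obtain ⟨e, rfl⟩ : ∃ e, n = e + 1 := ⟨n - 1, by omega⟩
  intro heq
  have hmem := Cfsg.Agent.Lib.Helper5.SpecBC.exists_order_psp p h2 e (by omega)
  rw [← heq] at hmem
  have hno := Cfsg.Agent.Lib.Helper5.SpecBC.pomega_no_order p hodd (e + 1) hn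
    (Cfsg.quadFormOdd (e + 1) F) (Cfsg.Agent.Lib.Helper2.OrthCard.QOd (e + 1) F)
    (Cfsg.Agent.Lib.Helper2.OrthCard.QOd_coe (e + 1))
    (fun v => congrFun (Cfsg.Agent.Lib.Helper2.OrthCard.QOd_coe (e + 1)) v)
    (Cfsg.Agent.Lib.Helper2.OrthCard.QOd_nondeg h2 (e + 1))
  rw [Nat.add_sub_cancel] at hno
  exact hno hmem

end Cfsg.Agent.S2362
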