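import Cfsg.Statements.S2364
import Cfsg.Agent.Lib.Helper1.SLCard

set_option autoImplicit false
open Cfsg

namespace Cfsg.Agent.S2364

open Matrix

section core
variable {F V : Type*} [Field F] [Fintype F] [AddCommGroup V] [Module F V] [Module.Finite F V]

/-- Counting: an invariant subspace on which `B` (of prime order `s`) has no nonzero fixed vector
has `q ^ dim ≡ 1` modulo `s`. -/
theorem dvd_of_free (s : ℕ) (hs : s.Prime) (B : V →ₗ[F] V) (hB : B ^ s = 1) (W : Submodule F V)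
    (hW : ∀ w ∈ W, B w ∈ W) (hfix : ∀ w ∈ W, B w = w → w = 0) :
    s ∣ Fintype.card F ^ Module.finrank F W - 1 := by
  classical
  have : Fact s.Prime := ⟨hs⟩
  have : Finite V := Module.finite_of_finite F
  have : Fintype W := Fintype.ofFinite _
  obtain ⟨f, hf⟩ : ∃ f : Function.End W, ∀ w : W, ((f w : W) : V) = B w :=
    ⟨fun w => ⟨B w, hW w w.2⟩, fun w => rfl⟩
  have hiter : ∀ k : ℕ, ∀ w : W, (((f ^ k) w : W) : V) = (B ^ k) w := by
    intro k
    induction k with
    | zero => intro w; rfl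
    | succ k ih =>
      intro w
      rw [pow_succ', pow_succ']
      show ((f ((f ^ k) w) : W) : V) = B ((B ^ k) w)
      rw [hf, ih]
  have hfs : f ^ s ^ 1 = 1 := by
    rw [pow_one]
    funext w
    apply Subtype.ext
    rw [hiter, hB]
    rfl
  have h1 := Equiv.Perm.card_fixedPoints_modEq hfs
  have h2 : ∀ inst : Fintype (Function.fixedPoints f),
      @Fintype.card (Function.fixedPoints f) inst = 1 := by
    intro inst
    rw [Fintype.card_eq_one_iff]
    refine ⟨⟨0, ?_⟩, ?_⟩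
    · show f 0 = 0
      apply Subtype.ext
      rw [hf]
      simp
    · rintro ⟨w, hw⟩
      apply Subtype.ext
      apply Subtype.ext
      have hw' : f w = w := hw
      have h3 : B (w : V) = w := by
        rw [← hf, hw']
      exact hfix w w.2 h3
  rw [h2, Module.card_eq_pow_finrank (K := F) (V := W)] at h1
  exact (Nat.modEq_iff_dvd' (Nat.one_le_pow _ _ Fintype.card_pos)).1 h1.symm

end core

section core2
variable {F V : Type*} [Field F] [Fintype F] [AddCommGroup V] [Module F V] [Module.Finite F V]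

omit [Fintype F] [Module.Finite F V] in
theorem pow_mem_of_invariant (D : V →ₗ[F] V) (W : Submodule F V) (hW : ∀ w ∈ W, D w ∈ W) (k : ℕ) :
    ∀ w ∈ W, (D ^ k) w ∈ W := by
  induction k with
  | zero => intro w hw; simpa using hw
  | succ k ih =>
    intro w hw
    rw [pow_succ', Module.End.mul_apply]
    exact hW _ (ih w hw)

omit [Fintype F] [Module.Finite F V] in
/-- A nilpotent endomorphism kills a nonzero vector of any nonzero invariant subspace. -/
theorem exists_ker_of_nilpotent (D : V →ₗ[F] V) (hD : IsNilpotent D) (W : Submodule F V)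
    (hW : ∀ w ∈ W, D w ∈ W) (hne : W ≠ ⊥) : ∃ w ∈ W, w ≠ 0 ∧ D w = 0 := by
  classical
  obtain ⟨u, hu, hu0⟩ := Submodule.exists_mem_ne_zero_of_ne_bot hne
  obtain ⟨k, hk⟩ := hD
  have hex : ∃ j, (D ^ j) u = 0 := ⟨k, by rw [hk]; rfl⟩
  obtain ⟨j, hj, hmin⟩ : ∃ j, (D ^ j) u = 0 ∧ ∀ i < j, (D ^ i) u ≠ 0 :=
    ⟨Nat.find hex, Nat.find_spec hex, fun i hi => Nat.find_min hex hi⟩
  have hj0 : j ≠ 0 := by
    rintro rfl
    rw [pow_zero] at hj
    exact hu0 hj
  obtain ⟨i, rfl⟩ : ∃ i, j = i + 1 := ⟨j - 1, by omega⟩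
  refine ⟨(D ^ i) u, pow_mem_of_invariant D W hW i u hu, hmin i (by omega), ?_⟩
  rw [← Module.End.mul_apply, ← pow_succ']
  exact hj

theorem core (s : ℕ) (hs : s.Prime) (hsF : (s : F) ≠ 0) (A B : V →ₗ[F] V) (hB : B ^ s = 1)
    (hAB : A * B = B * A) (hA : IsNilpotent (A - 1))
    (hdiv : ∀ i, 1 ≤ i → i + 2 ≤ Module.finrank F V → ¬ s ∣ Fintype.card F ^ i - 1)
    (h3 : 3 ≤ Module.finrank F V) (hB1 : B ≠ 1) : A = 1 := by
  classical
  obtain ⟨D, hD⟩ : ∃ D, D = A - 1 := ⟨_, rfl⟩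
  rw [← hD] at hA
  have hDB : Commute D B := by
    rw [hD]
    exact (show Commute A B from hAB).sub_left (Commute.one_left B)
  obtain ⟨N, hN⟩ : ∃ N : V →ₗ[F] V, N = ∑ i ∈ Finset.range s, B ^ i := ⟨_, rfl⟩
  have hBNc : Commute B N := by
    rw [hN]
    exact Commute.sum_right _ _ _ (fun i _ => (Commute.refl B).pow_right i)
  have hDN : Commute D N := by
    rw [hN]
    exact Commute.sum_right _ _ _ (fun i _ => hDB.pow_right i)
  have hBN : B * N = N := by
    rw [hN, Finset.mul_sum]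
    have h1 : ∑ i ∈ Finset.range s, B * B ^ i = ∑ i ∈ Finset.range s, B ^ (i + 1) :=
      Finset.sum_congr rfl (fun i _ => (pow_succ' B i).symm)
    have h2 := Finset.sum_range_succ' (fun i => B ^ i) s
    have h3 := Finset.sum_range_succ (fun i => B ^ i) s
    rw [h1]
    rw [h3, hB, pow_zero] at h2
    exact add_right_cancel h2.symm
  have hpowfix : ∀ v, B v = v → ∀ i : ℕ, (B ^ i) v = v := by
    intro v hv i
    induction i with
    | zero => rfl
    | succ i ih => rw [pow_succ, Module.End.mul_apply, hv, ih]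
  have hNfix : ∀ v, B v = v → N v = (s : F) • v := by
    intro v hv
    rw [hN, LinearMap.sum_apply]
    rw [Finset.sum_congr rfl (fun i _ => hpowfix v hv i), Finset.sum_const, Finset.card_range,
      Nat.cast_smul_eq_nsmul]
  obtain ⟨U, hU⟩ : ∃ U : Submodule F V, U = LinearMap.ker N := ⟨_, rfl⟩
  obtain ⟨L, hL⟩ : ∃ L : Submodule F V, L = LinearMap.ker (B - 1) := ⟨_, rfl⟩
  have hmemU : ∀ v, v ∈ U ↔ N v = 0 := by
    intro v
    rw [hU, LinearMap.mem_ker]
  have hmemL : ∀ v, v ∈ L ↔ B v = v := by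
    intro v
    rw [hL, LinearMap.mem_ker, LinearMap.sub_apply, Module.End.one_apply, sub_eq_zero]
  have hUL : ∀ v, v ∈ U → B v = v → v = 0 := by
    intro v hv hBv
    have h1 := hNfix v hBv
    rw [(hmemU v).1 hv] at h1
    exact (smul_eq_zero.1 h1.symm).resolve_left hsF
  have hinf : U ⊓ L = ⊥ := by
    rw [eq_bot_iff]
    intro v hv
    rw [Submodule.mem_inf] at hv
    exact (Submodule.mem_bot F).2 (hUL v hv.1 ((hmemL v).1 hv.2))
  have hBNv : ∀ v, B (N v) = N v := by
    intro v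
    rw [← Module.End.mul_apply, hBN]
  have hsup : U ⊔ L = ⊤ := by
    rw [eq_top_iff]
    intro v _
    rw [Submodule.mem_sup]
    refine ⟨v - (s : F)⁻¹ • N v, ?_, (s : F)⁻¹ • N v, ?_, by abel⟩
    · rw [hmemU, map_sub, map_smul, hNfix (N v) (hBNv v), smul_smul, inv_mul_cancel₀ hsF,
        one_smul, sub_self]
    · rw [hmemL, map_smul, hBNv]
  have hdim : Module.finrank F U + Module.finrank F L = Module.finrank F V := by
    have := Submodule.finrank_sup_add_finrank_inf_eq U L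
    rw [hsup, hinf, finrank_top, finrank_bot, add_zero] at this
    exact this.symm
  have hBU : ∀ u ∈ U, B u ∈ U := by
    intro u hu
    rw [hmemU, ← Module.End.mul_apply, ← hBNc.eq, Module.End.mul_apply, (hmemU u).1 hu, map_zero]
  have hDU : ∀ u ∈ U, D u ∈ U := by
    intro u hu
    rw [hmemU, ← Module.End.mul_apply, ← hDN.eq, Module.End.mul_apply, (hmemU u).1 hu, map_zero]
  have hDL : ∀ l ∈ L, D l ∈ L := by
    intro l hl
    rw [hmemL, ← Module.End.mul_apply, ← hDB.eq, Module.End.mul_apply, (hmemL l).1 hl]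
  -- the key dimension bound
  have key : ∀ W : Submodule F V, W ≤ U → (∀ w ∈ W, B w ∈ W) → W ≠ ⊥ →
      Module.finrank F V ≤ Module.finrank F W + 1 := by
    intro W hWU hWB hW0
    have h1 := dvd_of_free s hs B hB W hWB (fun w hw hBw => hUL w (hWU hw) hBw)
    have h2 : 1 ≤ Module.finrank F W := by
      rw [Nat.one_le_iff_ne_zero, Ne, Submodule.finrank_eq_zero]
      exact hW0
    by_contra hlt
    push Not at hlt
    exact hdiv _ h2 (by omega) h1
  have hU0 : U ≠ ⊥ := by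
    intro h0
    rw [h0, bot_sup_eq] at hsup
    apply hB1
    ext v
    have : v ∈ L := by rw [hsup]; exact Submodule.mem_top
    rw [(hmemL v).1 this]
    rfl
  have hUdim := key U le_rfl hBU hU0
  -- `U₁`
  obtain ⟨U₁, hU₁⟩ : ∃ U₁ : Submodule F V, U₁ = U ⊓ LinearMap.ker D := ⟨_, rfl⟩
  have hU₁0 : U₁ ≠ ⊥ := by
    obtain ⟨w, hw, hw0, hDw⟩ := exists_ker_of_nilpotent D hA U hDU hU0
    intro h0
    apply hw0
    have : w ∈ U₁ := by
      rw [hU₁, Submodule.mem_inf, LinearMap.mem_ker]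
      exact ⟨hw, hDw⟩
    rw [h0] at this
    exact (Submodule.mem_bot F).1 this
  have hU₁B : ∀ w ∈ U₁, B w ∈ U₁ := by
    intro w hw
    rw [hU₁, Submodule.mem_inf, LinearMap.mem_ker] at hw ⊢
    refine ⟨hBU w hw.1, ?_⟩
    rw [← Module.End.mul_apply, hDB.eq, Module.End.mul_apply, hw.2, map_zero]
  have hU₁dim := key U₁ (by rw [hU₁]; exact inf_le_left) hU₁B hU₁0
  -- `U₂`
  obtain ⟨U₂, hU₂⟩ : ∃ U₂ : Submodule F V, U₂ = U.map D := ⟨_, rfl⟩
  have hU₂U : U₂ ≤ U := by
    rw [hU₂]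
    rintro _ ⟨u, hu, rfl⟩
    exact hDU u hu
  have hU₂B : ∀ w ∈ U₂, B w ∈ U₂ := by
    rw [hU₂]
    rintro _ ⟨u, hu, rfl⟩
    refine ⟨B u, hBU u hu, ?_⟩
    rw [← Module.End.mul_apply, hDB.eq, Module.End.mul_apply]
  have hrn : Module.finrank F U₂ + Module.finrank F U₁ = Module.finrank F U := by
    have h1 := LinearMap.finrank_range_add_finrank_ker (D.domRestrict U)
    rw [LinearMap.range_domRestrict, LinearMap.ker_domRestrict] at h1
    have h2 : Module.finrank F (Submodule.comap U.subtype (LinearMap.ker D))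
        = Module.finrank F U₁ := by
      rw [← Submodule.finrank_map_subtype_eq U, Submodule.map_comap_subtype, hU₁]
    rw [h2, ← hU₂] at h1
    exact h1
  have hU₂0 : U₂ = ⊥ := by
    by_contra hne
    have := key U₂ hU₂U hU₂B hne
    have hle : Module.finrank F U ≤ Module.finrank F V := Submodule.finrank_le U
    omega
  have hDU0 : ∀ u ∈ U, D u = 0 := by
    intro u hu
    have : D u ∈ U₂ := by
      rw [hU₂]
      exact ⟨u, hu, rfl⟩
    rw [hU₂0] at this
    exact (Submodule.mem_bot F).1 this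
  -- on `L`
  have hDL0 : ∀ l ∈ L, D l = 0 := by
    by_cases hL0 : L = ⊥
    · intro l hl
      rw [hL0] at hl
      rw [(Submodule.mem_bot F).1 hl, map_zero]
    · obtain ⟨L₁, hL₁⟩ : ∃ L₁ : Submodule F V, L₁ = L ⊓ LinearMap.ker D := ⟨_, rfl⟩
      have hL₁0 : L₁ ≠ ⊥ := by
        obtain ⟨w, hw, hw0, hDw⟩ := exists_ker_of_nilpotent D hA L hDL hL0
        intro h0
        apply hw0
        have : w ∈ L₁ := by
          rw [hL₁, Submodule.mem_inf, LinearMap.mem_ker]
          exact ⟨hw, hDw⟩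
        rw [h0] at this
        exact (Submodule.mem_bot F).1 this
      have h1 : 1 ≤ Module.finrank F L₁ := by
        rw [Nat.one_le_iff_ne_zero, Ne, Submodule.finrank_eq_zero]
        exact hL₁0
      have hLL : L₁ = L := by
        apply Submodule.eq_of_le_of_finrank_le
        · rw [hL₁]
          exact inf_le_left
        · omega
      intro l hl
      rw [← hLL, hL₁, Submodule.mem_inf, LinearMap.mem_ker] at hl
      exact hl.2
  have hD0 : D = 0 := by
    ext v
    have hv : v ∈ U ⊔ L := by rw [hsup]; exact Submodule.mem_top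
    obtain ⟨u, hu, l, hl, rfl⟩ := Submodule.mem_sup.1 hv
    rw [map_add, hDU0 u hu, hDL0 l hl, add_zero]
    rfl
  rw [hD, sub_eq_zero] at hD0
  exact hD0

end core2

section mat
variable {F : Type*} [Field F] [Fintype F] {n : ℕ}

theorem core_mat (p : ℕ) [Fact p.Prime] [CharP F p] (s : ℕ) (hs : s.Prime) (hsp : s ≠ p)
    (hn : 3 ≤ n) (A B : Matrix (Fin n) (Fin n) F) (hA : A ^ p = 1) (hB : B ^ s = 1)
    (hAB : A * B = B * A)
    (hdiv : ∀ i, 1 ≤ i → i + 2 ≤ n → ¬ s ∣ Fintype.card F ^ i - 1) (hB1 : B ≠ 1) : A = 1 := by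
  have hp : p.Prime := Fact.out
  have : Nonempty (Fin n) := ⟨⟨0, by omega⟩⟩
  have hsF : (s : F) ≠ 0 := by
    rw [Ne, CharP.cast_eq_zero_iff F p s]
    intro hdvd
    exact hsp ((Nat.prime_dvd_prime_iff_eq hp hs).1 hdvd).symm
  have hnil : (A - 1) ^ p = 0 := by
    rw [sub_pow_char_of_commute (p := p) (Commute.one_right A), hA, one_pow,
      sub_self]
  obtain ⟨φ, hφ⟩ : ∃ φ : Matrix (Fin n) (Fin n) F ≃ₐ[F] Module.End F (Fin n → F),
      φ = Matrix.toLinAlgEquiv' := ⟨_, rfl⟩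
  have h1 : φ A = 1 := by
    apply core s hs hsF (φ A) (φ B)
    · rw [← map_pow, hB, map_one]
    · rw [← map_mul, ← map_mul, hAB]
    · refine ⟨p, ?_⟩
      rw [← map_one φ, ← map_sub, ← map_pow, hnil, map_zero]
    · intro i hi1 hi2
      rw [Module.finrank_fin_fun] at hi2
      exact hdiv i hi1 hi2
    · rw [Module.finrank_fin_fun]
      exact hn
    · intro h
      apply hB1
      apply φ.injective
      rw [h, map_one]
  apply φ.injective
  rw [h1, map_one]

end mat

section card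
variable {F : Type*} [Field F] [Fintype F]

theorem card_SL' (k : ℕ) (hk : 1 ≤ k) :
    Nat.card (Matrix.SpecialLinearGroup (Fin k) F)
      = Fintype.card F ^ (k - 1) * ∏ i ∈ Finset.range (k - 1),
        (Fintype.card F ^ k - Fintype.card F ^ i) := by
  have h := Cfsg.Agent.Lib.Helper1.card_SL_field (F := F) k hk
  have hq : 2 ≤ Fintype.card F := Fintype.one_lt_card
  obtain ⟨j, rfl⟩ : ∃ j, k = j + 1 := ⟨k - 1, by omega⟩
  rw [Finset.prod_range (fun i => Fintype.card F ^ (j + 1) - Fintype.card F ^ i) |>.symm,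
    Finset.prod_range_succ] at h
  simp only [Nat.add_sub_cancel]
  have h1 : Fintype.card F ^ (j + 1) - Fintype.card F ^ j
      = Fintype.card F ^ j * (Fintype.card F - 1) := by
    rw [Nat.mul_sub, mul_one, pow_succ]
  rw [h1] at h
  apply Nat.eq_of_mul_eq_mul_left (show 0 < Fintype.card F - 1 by omega)
  rw [h]
  ring

theorem pow_sub_one_dvd_card (k : ℕ) (i : ℕ) (hi : 2 ≤ i) (hik : i ≤ k) :
    Fintype.card F ^ i - 1 ∣ Nat.card (Matrix.SpecialLinearGroup (Fin k) F) := by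
  rw [card_SL' k (by omega)]
  apply Dvd.dvd.mul_left
  have hmem : k - i ∈ Finset.range (k - 1) := by
    rw [Finset.mem_range]
    omega
  refine dvd_trans ?_ (Finset.dvd_prod_of_mem _ hmem)
  have h1 : Fintype.card F ^ k - Fintype.card F ^ (k - i)
      = Fintype.card F ^ (k - i) * (Fintype.card F ^ i - 1) := by
    rw [Nat.mul_sub, mul_one, ← pow_add]
    congr 2
    omega
  rw [h1]
  exact Dvd.intro_left _ rfl

theorem pow_sub_one_dvd_card' (k : ℕ) (hk : 2 ≤ k) (i : ℕ) (hi : 1 ≤ i) (hik : i ≤ k) :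
    Fintype.card F ^ i - 1 ∣ Nat.card (Matrix.SpecialLinearGroup (Fin k) F) := by
  by_cases h2 : 2 ≤ i
  · exact pow_sub_one_dvd_card k i h2 hik
  · have : i = 1 := by omega
    subst this
    refine dvd_trans ?_ (pow_sub_one_dvd_card k 2 le_rfl hk)
    rw [pow_one]
    have : Fintype.card F ^ 2 - 1 = (Fintype.card F - 1) * (Fintype.card F + 1) := by
      have hq : 1 ≤ Fintype.card F := Fintype.card_pos
      obtain ⟨m, hm⟩ : ∃ m, Fintype.card F = m + 1 := ⟨Fintype.card F - 1, by omega⟩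
      rw [hm]
      simp only [Nat.add_sub_cancel]
      have : (m + 1) ^ 2 = m * (m + 1 + 1) + 1 := by ring
      rw [this, Nat.add_sub_cancel]
    rw [this]
    exact Dvd.intro _ rfl

theorem char_dvd_card (p : ℕ) [Fact p.Prime] [CharP F p] (k : ℕ) (hk : 2 ≤ k) :
    p ∣ Nat.card (Matrix.SpecialLinearGroup (Fin k) F) := by
  rw [card_SL' k (by omega)]
  apply Dvd.dvd.mul_right
  obtain ⟨e, -, he⟩ := FiniteField.card F p
  rw [he]
  apply Dvd.dvd.pow _ (by omega)
  exact dvd_pow_self p e.pos.ne'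

end card

section sl
variable {F : Type*} [Field F] [Fintype F] {n : ℕ}

omit [Fintype F] in
theorem mem_center_iff_smul (x : Matrix.SpecialLinearGroup (Fin n) F) :
    x ∈ Subgroup.center (Matrix.SpecialLinearGroup (Fin n) F) ↔
      ∃ r : F, (x : Matrix (Fin n) (Fin n) F) = r • 1 := by
  rw [Matrix.SpecialLinearGroup.mem_center_iff]
  constructor
  · rintro ⟨r, -, hr⟩
    refine ⟨r, ?_⟩
    rw [← hr, Matrix.scalar_apply, Matrix.smul_one_eq_diagonal]
  · rintro ⟨r, hr⟩
    refine ⟨r, ?_, ?_⟩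
    · have := x.2
      rw [hr, Matrix.det_smul, Matrix.det_one, mul_one] at this
      exact this
    · rw [hr, Matrix.scalar_apply, Matrix.smul_one_eq_diagonal]

theorem sl_level (p : ℕ) [Fact p.Prime] [CharP F p] (hn : 3 ≤ n) (s : ℕ) (hs : s.Prime)
    (hsp : s ≠ p) (A₀ B₀ : Matrix.SpecialLinearGroup (Fin n) F)
    (hA : A₀ ^ p ∈ Subgroup.center (Matrix.SpecialLinearGroup (Fin n) F))
    (hAc : A₀ ∉ Subgroup.center (Matrix.SpecialLinearGroup (Fin n) F))
    (hB : B₀ ^ s ∈ Subgroup.center (Matrix.SpecialLinearGroup (Fin n) F))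
    (hBc : B₀ ∉ Subgroup.center (Matrix.SpecialLinearGroup (Fin n) F))
    (hcomm : A₀ * B₀ * A₀⁻¹ * B₀⁻¹ ∈ Subgroup.center (Matrix.SpecialLinearGroup (Fin n) F))
    (hdiv : ∀ i, 1 ≤ i → i + 2 ≤ n → ¬ s ∣ Fintype.card F ^ i - 1) : False := by
  have hp : p.Prime := Fact.out
  have : Nonempty (Fin n) := ⟨⟨0, by omega⟩⟩
  obtain ⟨MA, hMA⟩ : ∃ MA : Matrix (Fin n) (Fin n) F, MA = (A₀ : Matrix (Fin n) (Fin n) F) :=
    ⟨_, rfl⟩
  obtain ⟨MB, hMB⟩ : ∃ MB : Matrix (Fin n) (Fin n) F, MB = (B₀ : Matrix (Fin n) (Fin n) F) :=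
    ⟨_, rfl⟩
  have hMB0 : MB ≠ 0 := by
    intro h0
    have := B₀.2
    rw [← hMB, h0, Matrix.det_zero] at this
    exact zero_ne_one this
  obtain ⟨α, hα⟩ := (mem_center_iff_smul _).1 hA
  obtain ⟨γ, hγ⟩ := (mem_center_iff_smul _).1 hB
  obtain ⟨ζ, hζ⟩ := (mem_center_iff_smul _).1 hcomm
  rw [Matrix.SpecialLinearGroup.coe_pow, ← hMA] at hα
  rw [Matrix.SpecialLinearGroup.coe_pow, ← hMB] at hγ
  have hα0 : α ≠ 0 := by
    rintro rfl
    have h1 : (MA ^ p).det = 1 := by
      rw [Matrix.det_pow, hMA, A₀.2, one_pow]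
    rw [hα, zero_smul, Matrix.det_zero] at h1
    exact zero_ne_one h1
  have hγ0 : γ ≠ 0 := by
    rintro rfl
    have h1 : (MB ^ s).det = 1 := by
      rw [Matrix.det_pow, hMB, B₀.2, one_pow]
    rw [hγ, zero_smul, Matrix.det_zero] at h1
    exact zero_ne_one h1
  -- the commutation relation
  have hAB : MA * MB = ζ • (MB * MA) := by
    have h1 : A₀ * B₀ = (A₀ * B₀ * A₀⁻¹ * B₀⁻¹) * (B₀ * A₀) := by group
    have h2 : ((A₀ * B₀ : Matrix.SpecialLinearGroup (Fin n) F) : Matrix (Fin n) (Fin n) F)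
        = ((A₀ * B₀ * A₀⁻¹ * B₀⁻¹ : Matrix.SpecialLinearGroup (Fin n) F) :
            Matrix (Fin n) (Fin n) F)
          * ((B₀ * A₀ : Matrix.SpecialLinearGroup (Fin n) F) : Matrix (Fin n) (Fin n) F) := by
      rw [← Matrix.SpecialLinearGroup.coe_mul, ← h1]
    rw [hζ, Matrix.SpecialLinearGroup.coe_mul, Matrix.SpecialLinearGroup.coe_mul, ← hMA, ← hMB,
      Matrix.smul_mul, Matrix.one_mul] at h2
    exact h2
  have hpow : ∀ k : ℕ, MA ^ k * MB = ζ ^ k • (MB * MA ^ k) := by
    intro k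
    induction k with
    | zero => simp
    | succ k ih =>
      rw [pow_succ', Matrix.mul_assoc, ih, Matrix.mul_smul, ← Matrix.mul_assoc, hAB,
        Matrix.smul_mul, smul_smul, Matrix.mul_assoc, ← pow_succ, ← pow_succ']
  have hζ1 : ζ = 1 := by
    have h1 := hpow p
    rw [hα, Matrix.smul_mul, Matrix.one_mul, Matrix.mul_smul, Matrix.mul_one, smul_smul] at h1
    have h2 : (α - ζ ^ p * α) • MB = 0 := by
      rw [sub_smul, ← h1, sub_self]
    rcases smul_eq_zero.1 h2 with h3 | h3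
    · have h4 : ζ ^ p = 1 := by
        have : (1 - ζ ^ p) * α = 0 := by
          rw [sub_mul, one_mul]
          exact h3
        rcases mul_eq_zero.1 this with h5 | h5
        · exact (sub_eq_zero.1 h5).symm
        · exact absurd h5 hα0
      have h5 : (ζ - 1) ^ p = 0 := by
        rw [sub_pow_char, h4, one_pow, sub_self]
      exact sub_eq_zero.1 (pow_eq_zero_iff hp.ne_zero |>.1 h5)
    · exact absurd h3 hMB0
  rw [hζ1, one_smul] at hAB
  -- `β`
  obtain ⟨β, hβ⟩ : ∃ β : F, β ^ p = α := by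
    have hinj : Function.Injective (frobenius F p) := frobenius_inj F p
    have hsurj := Finite.injective_iff_surjective.1 hinj
    obtain ⟨β, hβ⟩ := hsurj α
    exact ⟨β, hβ⟩
  have hβ0 : β ≠ 0 := by
    rintro rfl
    rw [zero_pow hp.ne_zero] at hβ
    exact hα0 hβ.symm
  -- `δ`
  have hcop : (Nat.card Fˣ).Coprime s := by
    classical
    rw [Nat.card_eq_fintype_card, Fintype.card_units]
    apply Nat.Coprime.symm
    rw [Nat.Prime.coprime_iff_not_dvd hs]
    have := hdiv 1 le_rfl (by omega)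
    rwa [pow_one] at this
  obtain ⟨δ, hδ⟩ : ∃ δ : F, δ ^ s = γ := by
    obtain ⟨δu, hδu⟩ := (powCoprime hcop).surjective (Units.mk0 γ hγ0)
    refine ⟨(δu : F), ?_⟩
    have := congrArg (fun u : Fˣ => (u : F)) hδu
    simpa using this
  have hδ0 : δ ≠ 0 := by
    rintro rfl
    rw [zero_pow hs.ne_zero] at hδ
    exact hγ0 hδ.symm
  -- normalised matrices
  obtain ⟨A, hAdef⟩ : ∃ A : Matrix (Fin n) (Fin n) F, A = β⁻¹ • MA := ⟨_, rfl⟩
  obtain ⟨B, hBdef⟩ : ∃ B : Matrix (Fin n) (Fin n) F, B = δ⁻¹ • MB := ⟨_, rfl⟩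
  have hAp : A ^ p = 1 := by
    rw [hAdef, smul_pow, hα, smul_smul, inv_pow, hβ, inv_mul_cancel₀ hα0, one_smul]
  have hBs : B ^ s = 1 := by
    rw [hBdef, smul_pow, hγ, smul_smul, inv_pow, hδ, inv_mul_cancel₀ hγ0, one_smul]
  have hABc : A * B = B * A := by
    rw [hAdef, hBdef, Matrix.smul_mul, Matrix.mul_smul, Matrix.smul_mul, Matrix.mul_smul, hAB,
      smul_comm]
  have hB1 : B ≠ 1 := by
    intro h1
    apply hBc
    rw [mem_center_iff_smul]
    refine ⟨δ, ?_⟩
    rw [← hMB]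
    have : MB = δ • B := by
      rw [hBdef, smul_smul, mul_inv_cancel₀ hδ0, one_smul]
    rw [this, h1]
  have hA1 := core_mat p s hs hsp hn A B hAp hBs hABc hdiv hB1
  apply hAc
  rw [mem_center_iff_smul]
  refine ⟨β, ?_⟩
  rw [← hMA]
  have : MA = β • A := by
    rw [hAdef, smul_smul, mul_inv_cancel₀ hβ0, one_smul]
  rw [this, hA1]

end sl


/-- Let F be a finite field of characteristic p, n ≥ 4, and let a, b be commuting elements of PSL(n, F) with a of order p. Then every prime divisor of the order of b divides the order of SL(n − 2, F). -/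
theorem result {F : Type*} [Field F] [Fintype F] (p : ℕ) [Fact p.Prime] [CharP F p] (n : ℕ) (hn : 4 ≤ n)
    (a b : Matrix.ProjectiveSpecialLinearGroup (Fin n) F) (ha : orderOf a = p) (hab : Commute a b) :
    (orderOf b).primeFactors ⊆ (Nat.card (Matrix.SpecialLinearGroup (Fin (n - 2)) F)).primeFactors := by
  classical
  intro s hsmem
  have hp : p.Prime := Fact.out
  obtain ⟨hs, hsdvd, hob⟩ := Nat.mem_primeFactors.1 hsmem
  have hk : 2 ≤ n - 2 := by omega
  have hcard0 : Nat.card (Matrix.SpecialLinearGroup (Fin (n - 2)) F) ≠ 0 := Nat.card_pos.ne'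
  rw [Nat.mem_primeFactors]
  refine ⟨hs, ?_, hcard0⟩
  by_cases hsp : s = p
  · rw [hsp]
    exact char_dvd_card p (n - 2) hk
  · by_contra hnd
    have hdiv : ∀ i, 1 ≤ i → i + 2 ≤ n → ¬ s ∣ Fintype.card F ^ i - 1 := by
      intro i hi1 hi2 hdvd
      exact hnd (dvd_trans hdvd (pow_sub_one_dvd_card' (n - 2) hk i hi1 (by omega)))
    obtain ⟨b', hb', hcomm'⟩ : ∃ b', orderOf b' = s ∧ Commute a b' :=
      ⟨b ^ (orderOf b / s), orderOf_pow_orderOf_div hob hsdvd, hab.pow_right _⟩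
    obtain ⟨A₀, rfl⟩ := QuotientGroup.mk_surjective a
    obtain ⟨B₀, rfl⟩ := QuotientGroup.mk_surjective b'
    refine sl_level p (by omega) s hs hsp A₀ B₀ ?_ ?_ ?_ ?_ ?_ hdiv
    · rw [← QuotientGroup.eq_one_iff, QuotientGroup.mk_pow]
      have := pow_orderOf_eq_one (A₀ : Matrix.ProjectiveSpecialLinearGroup (Fin n) F)
      rwa [ha] at this
    · intro h
      have h1 : (A₀ : Matrix.ProjectiveSpecialLinearGroup (Fin n) F) = 1 :=
        (QuotientGroup.eq_one_iff _).2 h
      rw [h1, orderOf_one] at ha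
      exact hp.one_lt.ne ha
    · rw [← QuotientGroup.eq_one_iff, QuotientGroup.mk_pow]
      have := pow_orderOf_eq_one (B₀ : Matrix.ProjectiveSpecialLinearGroup (Fin n) F)
      rwa [hb'] at this
    · intro h
      have h1 : (B₀ : Matrix.ProjectiveSpecialLinearGroup (Fin n) F) = 1 :=
        (QuotientGroup.eq_one_iff _).2 h
      rw [h1, orderOf_one] at hb'
      exact hs.one_lt.ne hb'
    · rw [← QuotientGroup.eq_one_iff, QuotientGroup.mk_mul, QuotientGroup.mk_mul,
        QuotientGroup.mk_mul, QuotientGroup.mk_inv, QuotientGroup.mk_inv, hcomm'.eq]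
      group

end Cfsg.Agent.S2364
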