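import Cfsg.Statements.S2367
import Cfsg.Agent.Lib.Helper5.SporadicOrders

set_option autoImplicit false
open Cfsg

namespace Cfsg.Agent.S2367

open Cfsg.Agent.Lib.Helper5

def good (l : List (ℕ × ℕ)) : Prop :=
  ∀ x ∈ l, x.1 ≠ 2 → ppExpo l x.1 = 3 → x.1 ^ 3 < 2 ^ ppExpo l 2

instance : DecidablePred good := fun l => by unfold good; infer_instance

theorem all_good : ∀ l ∈ sporadicFactorizations, good l := by decide

theorem sporadic_case {G : Type*} [Group G] (hG : Cfsg.IsSporadic G)
    (p : ℕ) (hodd : p ≠ 2) (h3 : (Nat.card G).factorization p = 3) :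
    p ^ 3 < 2 ^ (Nat.card G).factorization 2 := by
  obtain ⟨l, hl, hcard⟩ := exists_sporadicFactorization hG
  have hpr := sporadicFactorizations_prime l hl
  rw [hcard, factorization_ppVal l hpr] at h3 ⊢
  obtain ⟨x, hx, rfl⟩ := exists_mem_of_ppExpo_ne_zero l p (by rw [h3]; norm_num)
  exact all_good l hl x hx hodd h3

theorem two_pow_dvd_factorial (n : ℕ) (hn : 15 ≤ n) :
    ∃ k, 2 ^ k ∣ n.factorial ∧ 2 * n ^ 3 < 27 * 2 ^ k := by
  induction n using Nat.strong_induction_on with
  | _ n ih =>
    by_cases h15 : n = 15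
    · subst h15; exact ⟨11, by decide, by norm_num⟩
    by_cases h16 : n = 16
    · subst h16; exact ⟨15, by decide, by norm_num⟩
    obtain ⟨m, rfl⟩ : ∃ m, n = m + 2 := ⟨n - 2, by omega⟩
    obtain ⟨k, hk1, hk2⟩ := ih m (by omega) (by omega)
    refine ⟨k + 1, ?_, ?_⟩
    · rw [Nat.factorial_succ, Nat.factorial_succ, pow_succ', ← mul_assoc]
      have h2 := (Nat.even_mul_succ_self (m + 1)).two_dvd
      rw [mul_comm] at h2
      exact mul_dvd_mul h2 hk1
    · have hm : 15 ≤ m := by omega
      have h1 : (m + 2) ^ 3 ≤ 2 * m ^ 3 := by nlinarith [mul_pos (show 0 < m by omega) (show 0 < m by omega)]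
      have h2 : 2 ^ (k + 1) = 2 * 2 ^ k := pow_succ' 2 k
      rw [h2]
      linarith

theorem alternating_case {G : Type*} [Group G] [Finite G] (hG : Cfsg.IsAlternating G)
    (p : ℕ) (hp : p.Prime) (hodd : p ≠ 2) (h3 : (Nat.card G).factorization p = 3) :
    p ^ 3 < 2 ^ (Nat.card G).factorization 2 := by
  obtain ⟨n, hn, ⟨e⟩⟩ := hG
  have hcard : 2 * Nat.card G = n.factorial := by
    rw [Nat.card_congr e.toEquiv, Nat.card_eq_fintype_card]
    have : Nontrivial (Fin n) := Fin.nontrivial_iff_two_le.2 (by omega)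
    rw [two_mul_card_alternatingGroup, Fintype.card_perm, Fintype.card_fin]
  set A := Nat.card G with hA
  have hApos : A ≠ 0 := Nat.card_pos.ne'
  have hp3 : (n.factorial).factorization p = 3 := by
    rw [← hcard, Nat.factorization_mul two_ne_zero hApos]
    simp [Nat.prime_two.factorization, hodd.symm, h3]
  have hp3le : 3 ≤ p := by have := hp.two_le; omega
  have hn3p : 3 * p ≤ n := by
    by_contra hlt
    push Not at hlt
    have hlog : Nat.log p n < 2 := by
      apply Nat.log_lt_of_lt_pow (by omega)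
      nlinarith
    rw [Nat.factorization_factorial hp hlog] at hp3
    simp at hp3
    have : n / p < 3 := Nat.div_lt_of_lt_mul (by linarith)
    omega
  have hp5 : 5 ≤ p := by
    by_contra hlt
    push Not at hlt
    have hp_eq : p = 3 := by
      interval_cases p
      · rfl
      · exact absurd hp (by decide)
    subst hp_eq
    have h9 : 9 ≤ n := by omega
    have hd : 3 ^ 4 ∣ n.factorial :=
      (by decide : 3 ^ 4 ∣ Nat.factorial 9).trans (Nat.factorial_dvd_factorial h9)
    have := (Nat.Prime.pow_dvd_iff_le_factorization Nat.prime_three (Nat.factorial_ne_zero n)).1 hd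
    omega
  have hn15 : 15 ≤ n := by omega
  obtain ⟨k, hk1, hk2⟩ := two_pow_dvd_factorial n hn15
  have hk_le : k ≤ (n.factorial).factorization 2 :=
    (Nat.Prime.pow_dvd_iff_le_factorization Nat.prime_two (Nat.factorial_ne_zero n)).1 hk1
  have h2 : (n.factorial).factorization 2 = 1 + A.factorization 2 := by
    rw [← hcard, Nat.factorization_mul two_ne_zero hApos]
    simp [Nat.prime_two.factorization]
  have hpow : 2 ^ k ≤ 2 ^ (1 + A.factorization 2) := Nat.pow_le_pow_right (by norm_num) (by omega)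
  have hn3 : (3 * p) ^ 3 ≤ n ^ 3 := Nat.pow_le_pow_left hn3p 3
  rw [pow_add, pow_one] at hpow
  nlinarith

theorem result {G : Type*} [Group G] [Finite G] (hG : Cfsg.IsAlternating G ∨ Cfsg.IsSporadic G)
    (p : ℕ) (hp : p.Prime) (hodd : p ≠ 2) (h3 : (Nat.card G).factorization p = 3) :
    p ^ 3 < 2 ^ (Nat.card G).factorization 2 := by
  rcases hG with hG | hG
  · exact alternating_case hG p hp hodd h3
  · exact sporadic_case hG p hodd h3

end Cfsg.Agent.S2367
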