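import Cfsg.Statements.S2368
import Cfsg.Agent.S2260
import Mathlib

set_option autoImplicit false
open Cfsg

namespace Cfsg.Agent.S2368

open Matrix

/-- The nilpotent shift matrix. -/
def shift (F : Type*) [Field F] (m : ℕ) : Matrix (Fin m) (Fin m) F :=
  Matrix.of fun i j => if j.val = i.val + 1 then 1 else 0

theorem shift_pow (F : Type*) [Field F] (m k : ℕ) :
    (shift F m) ^ k = Matrix.of fun i j => if j.val = i.val + k then (1 : F) else 0 := by
  induction k with
  | zero =>
    ext i j
    simp [Matrix.one_apply, Fin.ext_iff, eq_comm]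
  | succ k ih =>
    rw [pow_succ, ih]
    ext i j
    simp only [Matrix.mul_apply, Matrix.of_apply, shift]
    by_cases h : j.val = i.val + (k + 1)
    · rw [if_pos h]
      have hl : i.val + k < m := by have := j.isLt; omega
      rw [Finset.sum_eq_single ⟨i.val + k, hl⟩]
      · have : j.val = i.val + k + 1 := by omega
        simp [this]
      · intro b _ hb
        have : b.val ≠ i.val + k := fun e => hb (Fin.ext e)
        simp [this]
      · simp
    · rw [if_neg h]
      apply Finset.sum_eq_zero
      intro l _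
      by_cases h1 : l.val = i.val + k
      · have : ¬ j.val = l.val + 1 := by omega
        simp [this]
      · simp [h1]

theorem shift_pow_card (F : Type*) [Field F] (m : ℕ) : (shift F m) ^ m = 0 := by
  rw [shift_pow]
  ext i j
  have := j.isLt
  have : ¬ j.val = i.val + m := by omega
  simp [this]

theorem shift_pow_pred_ne (F : Type*) [Field F] (m : ℕ) (hm : 1 ≤ m) : (shift F m) ^ (m - 1) ≠ 0 := by
  rw [shift_pow]
  intro h
  have := congrFun (congrFun h ⟨0, by omega⟩) ⟨m - 1, by omega⟩
  simp at this

theorem result {F : Type*} [Field F] [Fintype F] (p : ℕ) [Fact p.Prime] [CharP F p] (m : ℕ) (hm : 1 ≤ m) :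
    (∀ g : Matrix.GeneralLinearGroup (Fin m) F, (∃ j : ℕ, orderOf g = p ^ j) → orderOf g < p * m) ∧
      ∃ g : Matrix.GeneralLinearGroup (Fin m) F, (∃ j : ℕ, orderOf g = p ^ j) ∧ m ≤ orderOf g := by
  have hp : p.Prime := Fact.out
  have hnonempty : Nonempty (Fin m) := ⟨⟨0, by omega⟩⟩
  constructor
  · rintro g ⟨j, hj⟩
    have hnil : IsNilpotent ((g : Matrix (Fin m) (Fin m) F) - 1) := by
      refine ⟨p ^ j, ?_⟩
      rw [sub_pow_char_pow_of_commute p j (Commute.one_right _), one_pow, ← Units.val_pow_eq_pow_val,
        ← hj, pow_orderOf_eq_one, Units.val_one, sub_self]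
    have h1 := (Cfsg.Agent.S2260.result p m g hnil).1
    refine lt_of_le_of_lt h1 ?_
    by_cases hm1 : m = 1
    · subst hm1
      rw [Nat.clog_of_right_le_one le_rfl]
      simpa using hp.one_lt
    · have hm2 : 1 < m := by omega
      have h2 := Nat.pow_pred_clog_lt_self hp.one_lt hm2
      have h3 : 0 < Nat.clog p m := Nat.clog_pos hp.one_lt hm2
      have h4 : p ^ Nat.clog p m = p * p ^ (Nat.clog p m).pred := by
        rw [← pow_succ', Nat.pred_eq_sub_one]
        congr 1
        omega
      rw [h4]
      exact Nat.mul_lt_mul_of_pos_left h2 hp.pos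
  · have hnil : IsNilpotent (shift F m) := ⟨m, shift_pow_card F m⟩
    set u : Matrix.GeneralLinearGroup (Fin m) F := (hnil.isUnit_one_add).unit with hu
    have hucoe : (u : Matrix (Fin m) (Fin m) F) = 1 + shift F m := IsUnit.unit_spec _
    have hsub : (u : Matrix (Fin m) (Fin m) F) - 1 = shift F m := by rw [hucoe]; abel
    have h := Cfsg.Agent.S2260.result p m u (by rw [hsub]; exact hnil)
    have hord := h.2 (by rw [hsub]; exact shift_pow_pred_ne F m hm)
    refine ⟨u, ⟨_, hord⟩, ?_⟩
    rw [hord]
    exact Nat.le_pow_clog hp.one_lt m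

end Cfsg.Agent.S2368
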