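import Cfsg.Statements.S2379
import Cfsg.Agent.Lib.Helper5.SylTor1
import Cfsg.Agent.Lib.Helper5.SylTor2
import Cfsg.Agent.S0242

set_option autoImplicit false
open Cfsg

namespace Cfsg.Agent.S2379


open Cfsg.Agent.Lib.Helper5.SylTor

theorem count_eq (n d : ℕ) :
    n / d = ((Finset.Icc 2 n).filter (fun i => d ∣ i)).card + (if d ∣ 1 ∧ 1 ≤ n then 1 else 0) := by
  rw [← Nat.Ioc_filter_dvd_card_eq_div]
  have hsplit : Finset.Ioc 0 n = if 1 ≤ n then insert 1 (Finset.Icc 2 n) else Finset.Icc 2 n := by
    ext x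
    split_ifs with h
    · simp only [Finset.mem_Ioc, Finset.mem_insert, Finset.mem_Icc]; omega
    · simp only [Finset.mem_Ioc, Finset.mem_Icc]; omega
  rw [hsplit]
  by_cases h : 1 ≤ n
  · rw [if_pos h]
    have h1 : (1 : ℕ) ∉ Finset.Icc 2 n := by simp
    rw [Finset.filter_insert]
    by_cases hd : d ∣ 1
    · rw [if_pos hd, if_pos ⟨hd, h⟩, Finset.card_insert_of_notMem]
      intro hmem
      exact h1 (Finset.mem_filter.1 hmem).1
    · rw [if_neg hd, if_neg (fun hh => hd hh.1), add_zero]
  · rw [if_neg h, if_neg (fun hh => h hh.2), add_zero]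

theorem val_card_SL {F : Type*} [Field F] [Fintype F] {q : ℕ} (hq : Fintype.card F = q) (n : ℕ)
    (r : ℕ) [hr : Fact r.Prime] (hrn : n < r) (hrq : ¬ r ∣ q) :
    (Nat.card (Matrix.SpecialLinearGroup (Fin n) F)).factorization r =
      ((Finset.Icc 2 n).filter (fun i => orderOf (q : ZMod r) ∣ i)).card *
        padicValNat r ((Polynomial.cyclotomic (orderOf (q : ZMod r)) ℤ).eval (q : ℤ)).natAbs := by
  classical
  have hq1 : 1 < q := by rw [← hq]; exact Fintype.one_lt_card
  rcases Nat.eq_zero_or_pos n with rfl | hn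
  · have : Nat.card (Matrix.SpecialLinearGroup (Fin 0) F) = 1 := by
      rw [Nat.card_eq_one_iff_unique]
      refine ⟨⟨fun a b => ?_⟩, ⟨1⟩⟩
      apply Subtype.ext
      ext i
      exact i.elim0
    rw [this]
    simp
  · have h1 := Cfsg.Agent.S0242.result hq n hn
    have h2 := val_card_GL hq1 hrq hrn
    rw [← h1] at h2
    have hne1 : q - 1 ≠ 0 := by omega
    have hne2 : Nat.card (Matrix.SpecialLinearGroup (Fin n) F) ≠ 0 := Nat.card_pos.ne'
    rw [Nat.factorization_mul hne1 hne2, Finsupp.add_apply, Nat.factorization_def _ hr.out] at h2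
    have h3 := val_pow_sub_one hq1 hrq (j := 1) one_pos hr.out.one_lt
    rw [pow_one] at h3
    rw [h3, count_eq n (orderOf (q : ZMod r))] at h2
    split_ifs at h2 with ha hb hc
    · rw [add_mul, one_mul] at h2; omega
    · exact absurd ⟨ha, hn⟩ hb
    · exact absurd hc.1 ha
    · rw [add_zero, zero_add] at h2; exact h2



/-- Sylow subgroups of `SL_n(q)` for large primes. Let `F` be a field with `q` elements and `r` a prime with `r > n` and `r ∤ q` (so `r` does not divide the order `n!` of the Weyl group). Let `d` be the multiplicative order of `q` modulo `r`, `a` the number of integers `i` with `2 ≤ i ≤ n` divisible by `d` (the degrees of the Weyl group are `2, …, n`), and `m` the `r`-part of the value at `q` of the `d`-th cyclotomic polynomial. Then every Sylow `r`-subgroup of `SL_n(q)` is a direct product of `a` cyclic groups of order `m`. -/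
theorem result {F : Type*} [Field F] [Fintype F] {q : ℕ} (hq : Fintype.card F = q) (n : ℕ)
    (r : ℕ) [Fact r.Prime] (hrn : n < r) (hrq : ¬ r ∣ q) (P : Sylow r (Matrix.SpecialLinearGroup (Fin n) F)) :
    Nonempty (↥(P : Subgroup (Matrix.SpecialLinearGroup (Fin n) F)) ≃*
      (Fin ((Finset.Icc 2 n).filter (fun i => orderOf (q : ZMod r) ∣ i)).card →
        Multiplicative (ZMod (r ^ padicValNat r ((Polynomial.cyclotomic (orderOf (q : ZMod r)) ℤ).eval (q : ℤ)).natAbs)))) := by
  classical
  have hr : r.Prime := Fact.out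
  have hq1 : 1 < q := by rw [← hq]; exact Fintype.one_lt_card
  have hd : 0 < orderOf (q : ZMod r) := ord_pos hrq
  have hcount := count_eq n (orderOf (q : ZMod r))
  have hval := val_card_SL hq n r hrn hrq
  set v := padicValNat r ((Polynomial.cyclotomic (orderOf (q : ZMod r)) ℤ).eval (q : ℤ)).natAbs with hv
  set a' := ((Finset.Icc 2 n).filter (fun i => orderOf (q : ZMod r) ∣ i)).card with ha'
  have hm : r ^ v ∣ Fintype.card F ^ orderOf (q : ZMod r) - 1 := by
    rw [hq, hv, ← val_cyclotomic (by omega) hrq]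
    exact pow_padicValNat_dvd
  have hr0 : r ^ v ≠ 0 := pow_ne_zero _ hr.pos.ne'
  have : NeZero (r ^ v) := ⟨hr0⟩
  have hcardA : ∀ k : ℕ, Nat.card (Fin k → Multiplicative (ZMod (r ^ v))) = r ^ (k * v) := by
    intro k
    rw [Nat.card_pi]
    simp only [Finset.prod_const, Finset.card_univ, Fintype.card_fin]
    rw [Nat.card_congr Multiplicative.toAdd, Nat.card_zmod, ← pow_mul, mul_comm]
  suffices h : ∃ φ : (Fin a' → Multiplicative (ZMod (r ^ v))) →* Matrix.SpecialLinearGroup (Fin n) F,
      Function.Injective φ by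
    obtain ⟨φ, hφ⟩ := h
    refine sylow_equiv_of_injective φ hφ ?_ P
    rw [hval, hcardA]
  rcases Nat.eq_zero_or_pos n with rfl | hn
  · have h0 : a' = 0 := by rw [ha']; simp
    rw [h0]
    refine ⟨1, fun x y _ => ?_⟩
    funext i
    exact i.elim0
  by_cases hd1 : orderOf (q : ZMod r) ∣ 1
  · -- split torus
    have hd1' : orderOf (q : ZMod r) = 1 := Nat.dvd_one.1 hd1
    rw [if_pos ⟨hd1, hn⟩, hd1', Nat.div_one] at hcount
    obtain ⟨k, rfl⟩ : ∃ k, n = k + 1 := ⟨n - 1, by omega⟩
    have hk : a' = k := by omega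
    rw [hk]
    rw [hd1', pow_one] at hm
    obtain ⟨ψ, hψ⟩ := exists_zmod_hom (C := Fˣ) (m := r ^ v) (by
      rw [Nat.card_units, Nat.card_eq_fintype_card]; exact hm)
    let f2 : (Fin k → Multiplicative (ZMod (r ^ v))) →* (Fin k → Fˣ) :=
      MonoidHom.pi fun i => ψ.comp (Pi.evalMonoidHom _ i)
    have hf2 : Function.Injective f2 := by
      intro x y h
      funext i
      exact hψ (congrFun h i)
    exact ⟨(diagSL k).comp f2, (diagSL_injective k).comp hf2⟩
  · rw [if_neg (fun hh => hd1 hh.1), add_zero] at hcount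
    rw [← hcount]
    obtain ⟨φ, hφ⟩ := exists_torus_hom (F := F) n (orderOf (q : ZMod r)) hd hm
    have hcop : (Nat.card (Fin (n / orderOf (q : ZMod r)) → Multiplicative (ZMod (r ^ v)))).Coprime
        (Nat.card Fˣ) := by
      rw [hcardA, Nat.card_units, Nat.card_eq_fintype_card, hq]
      apply Nat.Coprime.pow_left
      rw [Nat.Prime.coprime_iff_not_dvd hr]
      intro h
      have := (dvd_pow_sub_one_iff (r := r) (by omega : 0 < q) 1).1 (by rwa [pow_one])
      exact hd1 this
    have hdet : ∀ x, ((Units.coeHom (Matrix (Fin n) (Fin n) F)).comp φ x).det = 1 := by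
      intro x
      have h1 := hom_apply_eq_one_of_coprime hcop (Matrix.GeneralLinearGroup.det.comp φ) x
      have h2 := congrArg (fun u : Fˣ => (u : F)) h1
      simpa using h2
    refine ⟨toSLHom _ hdet, toSLHom_injective _ hdet ?_⟩
    intro x y h
    apply hφ
    exact Units.ext h


end Cfsg.Agent.S2379
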