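import Cfsg.Statements.S2380
import Cfsg.Agent.Lib.Helper5.SylTor1

set_option autoImplicit false
open scoped MatrixGroups
open Cfsg

namespace Cfsg.Agent.S2380


open Cfsg.Agent.Lib.Helper5.SylTor



/-- Sylow subgroups of `GL_n(q)` for large primes. Let `F` be a field with `q` elements and `r` a prime with `r > n` and `r ∤ q`. Let `d` be the multiplicative order of `q` modulo `r` and `m` the `r`-part of the value at `q` of the `d`-th cyclotomic polynomial. Then every Sylow `r`-subgroup of `GL_n(q)` is a direct product of `⌊n/d⌋` cyclic groups of order `m` (the degrees of the Weyl group being `1, …, n`). -/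
theorem result {F : Type*} [Field F] [Fintype F] {q : ℕ} (hq : Fintype.card F = q) (n : ℕ)
    (r : ℕ) [Fact r.Prime] (hrn : n < r) (hrq : ¬ r ∣ q) (P : Sylow r (GL (Fin n) F)) :
    Nonempty (↥(P : Subgroup (GL (Fin n) F)) ≃*
      (Fin (n / orderOf (q : ZMod r)) →
        Multiplicative (ZMod (r ^ padicValNat r ((Polynomial.cyclotomic (orderOf (q : ZMod r)) ℤ).eval (q : ℤ)).natAbs)))) := by
  classical
  have hq1 : 1 < q := by rw [← hq]; exact Fintype.one_lt_card
  have hd : 0 < orderOf (q : ZMod r) := ord_pos hrq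
  set v := padicValNat r ((Polynomial.cyclotomic (orderOf (q : ZMod r)) ℤ).eval (q : ℤ)).natAbs with hv
  have hm : r ^ v ∣ Fintype.card F ^ orderOf (q : ZMod r) - 1 := by
    rw [hq, hv, ← val_cyclotomic (by omega) hrq]
    exact pow_padicValNat_dvd
  obtain ⟨φ, hφ⟩ := exists_torus_hom (F := F) n (orderOf (q : ZMod r)) hd hm
  refine sylow_equiv_of_injective φ hφ ?_ P
  have hr0 : r ^ v ≠ 0 := pow_ne_zero _ (Fact.out : r.Prime).pos.ne'
  have : NeZero (r ^ v) := ⟨hr0⟩
  rw [Matrix.card_GL_field, hq, val_card_GL hq1 hrq hrn, Nat.card_pi]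
  simp only [Finset.prod_const, Finset.card_univ, Fintype.card_fin]
  rw [Nat.card_congr Multiplicative.toAdd, Nat.card_zmod, ← pow_mul, mul_comm]


end Cfsg.Agent.S2380
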