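import Cfsg.Statements.S2381
import Cfsg.Agent.Lib.Helper5.SylTor3
import Cfsg.Agent.Lib.Helper5.SylTor6
import Cfsg.Agent.S0245

set_option autoImplicit false
open Cfsg

namespace Cfsg.Agent.S2381


open Cfsg.Agent.Lib.Helper5.SylTor

theorem count_odd (n d : ℕ) (hd : Odd d) :
    ((Finset.Icc 1 n).filter (fun i => d ∣ 2 * i)).card = n / d := by
  rw [← Nat.Ioc_filter_dvd_card_eq_div]
  congr 1
  ext i
  simp only [Finset.mem_filter, Finset.mem_Icc, Finset.mem_Ioc]
  have hc : Nat.Coprime d 2 := Nat.coprime_two_right.2 hd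
  rw [hc.dvd_mul_left]
  omega

theorem count_even (n e : ℕ) (he : 0 < e) :
    ((Finset.Icc 1 n).filter (fun i => 2 * e ∣ 2 * i)).card = n / e := by
  rw [← Nat.Ioc_filter_dvd_card_eq_div]
  congr 1
  ext i
  simp only [Finset.mem_filter, Finset.mem_Icc, Finset.mem_Ioc]
  rw [Nat.mul_dvd_mul_iff_left (by omega : 0 < 2)]
  omega



/-- Sylow subgroups of `Sp_{2n}(q)` for large primes. Let `F` be a field with `q` elements and `r` an odd prime with `r > n` and `r ∤ q` (so `r` does not divide the order `2^n n!` of the Weyl group). Let `d` be the multiplicative order of `q` modulo `r`, `a` the number of `i` with `1 ≤ i ≤ n` and `d ∣ 2i` (the degrees being `2, 4, …, 2n`), and `m` the `r`-part of the value at `q` of the `d`-th cyclotomic polynomial. Then every Sylow `r`-subgroup of the symplectic group `Sp_{2n}(q)` is a direct product of `a` cyclic groups of order `m`. -/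
theorem result {F : Type*} [Field F] [Fintype F] {q : ℕ} (hq : Fintype.card F = q) (n : ℕ)
    (r : ℕ) [Fact r.Prime] (hr2 : r ≠ 2) (hrn : n < r) (hrq : ¬ r ∣ q) (P : Sylow r ↥(Matrix.symplecticGroup (Fin n) F)) :
    Nonempty (↥(P : Subgroup ↥(Matrix.symplecticGroup (Fin n) F)) ≃*
      (Fin ((Finset.Icc 1 n).filter (fun i => orderOf (q : ZMod r) ∣ 2 * i)).card →
        Multiplicative (ZMod (r ^ padicValNat r ((Polynomial.cyclotomic (orderOf (q : ZMod r)) ℤ).eval (q : ℤ)).natAbs)))) := by
  classical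
  have hr : r.Prime := Fact.out
  have hq1 : 1 < q := by rw [← hq]; exact Fintype.one_lt_card
  have hd : 0 < orderOf (q : ZMod r) := ord_pos hrq
  have hval := val_card_Sp hq1 hrq hr2 hrn
  rw [← Cfsg.Agent.S0245.result hq n] at hval
  set v := padicValNat r ((Polynomial.cyclotomic (orderOf (q : ZMod r)) ℤ).eval (q : ℤ)).natAbs with hv
  set a' := ((Finset.Icc 1 n).filter (fun i => orderOf (q : ZMod r) ∣ 2 * i)).card with ha'
  have hm : r ^ v ∣ Fintype.card F ^ orderOf (q : ZMod r) - 1 := by
    rw [hq, hv, ← val_cyclotomic (by omega) hrq]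
    exact pow_padicValNat_dvd
  have hr0 : r ^ v ≠ 0 := pow_ne_zero _ hr.pos.ne'
  have : NeZero (r ^ v) := ⟨hr0⟩
  have hcardA : ∀ k : ℕ, Nat.card (Fin k → Multiplicative (ZMod (r ^ v))) = r ^ (k * v) := by
    intro k
    rw [Nat.card_pi]
    simp only [Finset.prod_const, Finset.card_univ, Fintype.card_fin]
    rw [Nat.card_congr Multiplicative.toAdd, Nat.card_zmod, ← pow_mul, mul_comm]
  suffices h : ∃ φ : (Fin a' → Multiplicative (ZMod (r ^ v))) →* Matrix.symplecticGroup (Fin n) F,
      Function.Injective φ by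
    obtain ⟨φ, hφ⟩ := h
    refine sylow_equiv_of_injective φ hφ ?_ P
    rw [hval, hcardA]
  rcases Nat.even_or_odd (orderOf (q : ZMod r)) with hev | hodd
  · obtain ⟨e, he⟩ := hev
    have he' : orderOf (q : ZMod r) = 2 * e := by omega
    have he0 : 0 < e := by omega
    have hcount : a' = n / e := by
      rw [ha', he']
      exact count_even n e he0
    rw [hcount]
    apply exists_sp_hom_nonsplit n e he0
    rw [he'] at hm
    have hq1' : 1 ≤ Fintype.card F ^ e := Nat.one_le_pow _ _ Fintype.card_pos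
    have hfac : Fintype.card F ^ (2 * e) - 1 = (Fintype.card F ^ e - 1) * (Fintype.card F ^ e + 1) := by
      rw [two_mul, pow_add]
      have h2 : 1 ≤ Fintype.card F ^ e * Fintype.card F ^ e := Nat.mul_pos hq1' hq1'
      zify [hq1', h2]
      ring
    rw [hfac] at hm
    have hnd : ¬ r ∣ Fintype.card F ^ e - 1 := by
      rw [hq, dvd_pow_sub_one_iff (by omega : 0 < q), he']
      intro h
      exact absurd (Nat.le_of_dvd he0 h) (by omega)
    have hcop : Nat.Coprime (r ^ v) (Fintype.card F ^ e - 1) :=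
      Nat.Coprime.pow_left _ ((Nat.Prime.coprime_iff_not_dvd hr).2 hnd)
    exact hcop.dvd_of_dvd_mul_left hm
  · have hcount : a' = n / orderOf (q : ZMod r) := count_odd n _ hodd
    rw [hcount]
    exact exists_sp_hom_split n _ hd hm


end Cfsg.Agent.S2381
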