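import Mathlib
import Cfsg.Statements.S2384
import Cfsg.Agent.S2388
import Cfsg.Agent.Lib.Helper5.SemisimpleExists

set_option autoImplicit false
open Cfsg

namespace Cfsg.Agent.S2384

open Polynomial Cfsg.Agent.Lib.Helper5

variable {F : Type*} [Field F] [Fintype F] (p : ℕ) [Fact p.Prime] [CharP F p] {n : ℕ}

theorem card_eq_at (i0 : Fin n) (a : F) :
    Nat.card {c : Fin n → F // c i0 = a} = Fintype.card F ^ (n - 1) := by
  classical
  have e1 : {c : Fin n → F // c i0 = a} ≃ {s : F × ({j // j ≠ i0} → F) // s.1 = a} :=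
    Equiv.subtypeEquiv (Equiv.funSplitAt i0 F) (fun c => Iff.rfl)
  have e2 : {s : F × ({j // j ≠ i0} → F) // s.1 = a} ≃ {x : F // x = a} × ({j // j ≠ i0} → F) :=
    Equiv.prodSubtypeFstEquivSubtypeProd (p := fun x : F => x = a)
  rw [Nat.card_congr (e1.trans e2), Nat.card_prod, Nat.card_eq_fintype_card,
    Nat.card_eq_fintype_card, Fintype.card_subtype_eq,
    Fintype.card_fun, Fintype.card_subtype_compl, Fintype.card_subtype_eq, Fintype.card_fin, one_mul]

/-- an `SL` element of order prime to `p` with prescribed characteristic polynomial -/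
theorem exists_sl_of_charpoly (f : F[X]) (hf : f.Monic) (hdeg : f.natDegree = n)
    (h0 : f.coeff 0 = (-1) ^ n) :
    ∃ g : Matrix.SpecialLinearGroup (Fin n) F, (g : Matrix (Fin n) (Fin n) F).charpoly = f ∧
      (orderOf g).Coprime p := by
  have h0' : f.coeff 0 ≠ 0 := by rw [h0]; exact pow_ne_zero _ (neg_ne_zero.2 one_ne_zero)
  obtain ⟨A, k, hk, hkp, hAk, hA⟩ := exists_semisimple_of_charpoly p f hf hdeg h0'
  have hdet : A.det = 1 := by
    rw [Matrix.det_eq_sign_charpoly_coeff, hA, h0, Fintype.card_fin, ← mul_pow]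
    simp
  let g : Matrix.SpecialLinearGroup (Fin n) F := ⟨A, hdet⟩
  refine ⟨g, hA, ?_⟩
  have hgk : g ^ k = 1 := by
    apply Subtype.ext
    rw [Matrix.SpecialLinearGroup.coe_pow]
    exact hAk
  exact Nat.Coprime.coprime_dvd_left (orderOf_dvd_of_pow_eq_one hgk) hkp

omit [Fintype F] in
theorem charpoly_eq_of_isConj (g h : Matrix.SpecialLinearGroup (Fin n) F) (hgh : IsConj g h) :
    (g : Matrix (Fin n) (Fin n) F).charpoly = (h : Matrix (Fin n) (Fin n) F).charpoly := by
  rw [isConj_iff] at hgh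
  obtain ⟨c, hc⟩ := hgh
  rw [← hc]
  have h1 : ((c * g * c⁻¹ : Matrix.SpecialLinearGroup (Fin n) F) : Matrix (Fin n) (Fin n) F) =
      c.1 * g.1 * (c⁻¹).1 := by
    rw [Matrix.SpecialLinearGroup.coe_mul, Matrix.SpecialLinearGroup.coe_mul]
  rw [h1, Matrix.charpoly_mul_comm, ← Matrix.mul_assoc]
  have : (c⁻¹).1 * c.1 = 1 := by
    rw [← Matrix.SpecialLinearGroup.coe_mul, inv_mul_cancel]; rfl
  rw [this, Matrix.one_mul]

theorem result {F : Type*} [Field F] [Fintype F] {q : ℕ} (hq : Fintype.card F = q) (p : ℕ) [Fact p.Prime] [CharP F p] (n : ℕ) (hn : 1 ≤ n) :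
    Nat.card {c : ConjClasses (Matrix.SpecialLinearGroup (Fin n) F) //
      ∃ g : Matrix.SpecialLinearGroup (Fin n) F, ConjClasses.mk g = c ∧ (orderOf g).Coprime p} = q ^ (n - 1) := by
  classical
  let i0 : Fin n := ⟨0, hn⟩
  have key : ∀ c : {c : Fin n → F // c i0 = (-1) ^ n},
      ∃ g : Matrix.SpecialLinearGroup (Fin n) F,
        (g : Matrix (Fin n) (Fin n) F).charpoly = polyOf c.1 ∧ (orderOf g).Coprime p := by
    intro c
    apply exists_sl_of_charpoly p _ (polyOf_monic _) (polyOf_natDegree _)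
    have := polyOf_coeff c.1 i0
    rw [show ((i0 : Fin n) : ℕ) = 0 from rfl] at this
    rw [this]
    exact c.2
  choose G hG1 hG2 using key
  let Φ : {c : Fin n → F // c i0 = (-1) ^ n} →
      {c : ConjClasses (Matrix.SpecialLinearGroup (Fin n) F) //
        ∃ g : Matrix.SpecialLinearGroup (Fin n) F, ConjClasses.mk g = c ∧ (orderOf g).Coprime p} :=
    fun c => ⟨ConjClasses.mk (G c), G c, rfl, hG2 c⟩
  have hΦ : Function.Bijective Φ := by
    constructor
    · intro c c' h
      have h1 : ConjClasses.mk (G c) = ConjClasses.mk (G c') := congrArg Subtype.val h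
      rw [ConjClasses.mk_eq_mk_iff_isConj] at h1
      have h2 := charpoly_eq_of_isConj _ _ h1
      rw [hG1, hG1] at h2
      exact Subtype.ext (polyOf_injective h2)
    · rintro ⟨cl, g, rfl, hg⟩
      have hmonic : (g : Matrix (Fin n) (Fin n) F).charpoly.Monic := Matrix.charpoly_monic _
      have hdeg : (g : Matrix (Fin n) (Fin n) F).charpoly.natDegree = n := by
        rw [Matrix.charpoly_natDegree_eq_dim, Fintype.card_fin]
      have hc0 : (g : Matrix (Fin n) (Fin n) F).charpoly.coeff 0 = (-1) ^ n := by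
        have hdet := Matrix.det_eq_sign_charpoly_coeff (g : Matrix (Fin n) (Fin n) F)
        rw [g.2, Fintype.card_fin] at hdet
        have h2 : ((-1 : F) ^ n) * (-1) ^ n = 1 := by rw [← mul_pow]; simp
        calc (g : Matrix (Fin n) (Fin n) F).charpoly.coeff 0
            = ((-1 : F) ^ n * (-1) ^ n) * (g : Matrix (Fin n) (Fin n) F).charpoly.coeff 0 := by
              rw [h2, one_mul]
          _ = (-1) ^ n * ((-1) ^ n * (g : Matrix (Fin n) (Fin n) F).charpoly.coeff 0) := by ring
          _ = (-1) ^ n := by rw [← hdet, mul_one]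
      let c : {c : Fin n → F // c i0 = (-1) ^ n} :=
        ⟨fun i => (g : Matrix (Fin n) (Fin n) F).charpoly.coeff i, hc0⟩
      refine ⟨c, ?_⟩
      apply Subtype.ext
      show ConjClasses.mk (G c) = ConjClasses.mk g
      rw [ConjClasses.mk_eq_mk_iff_isConj]
      apply Cfsg.Agent.S2388.result p n _ _ (hG2 c) hg
      rw [hG1]
      exact polyOf_coeff_eq _ hmonic hdeg
  rw [← Nat.card_congr (Equiv.ofBijective Φ hΦ), card_eq_at, hq]

end Cfsg.Agent.S2384
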