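import Cfsg.Statements.S2589
import Cfsg.Agent.Lib.Helper5.Wall5
import Cfsg.Agent.Lib.Helper2.SpIsom
import Cfsg.Agent.Lib.Helper1.SpCard

set_option autoImplicit false
open Cfsg

namespace Cfsg.Agent.S2589


open Cfsg.Agent.Lib.Helper5.Wall Cfsg.Agent.Lib.Helper2.SpIsom Cfsg.Agent.Lib.Helper1.SpCard Module

variable {F : Type*} [Field F] [Fintype F] {m : ℕ}

/-- The matrix form of the core theorem for the standard symplectic form. -/
theorem exists_symplectic_conj (k : ℕ) (hk : (k : F) ≠ 0)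
    (A B X : Matrix (Fin m ⊕ Fin m) (Fin m ⊕ Fin m) F)
    (hA : A ∈ Matrix.symplecticGroup (Fin m) F) (hB : B ∈ Matrix.symplecticGroup (Fin m) F)
    (hAk : A ^ k = 1) (hX : IsUnit X) (hXA : X * A = B * X) :
    ∃ Z : Matrix (Fin m ⊕ Fin m) (Fin m ⊕ Fin m) F, Z ∈ Matrix.symplecticGroup (Fin m) F ∧
      Z * A = B * Z := by
  classical
  set ω := sympBilin m F with hω
  set XL := Matrix.toLin' X with hXL
  set AL := Matrix.toLin' A with hAL
  obtain ⟨Xu, hXu⟩ := hX
  have hXinj : Function.Injective XL := by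
    rw [hXL, ← hXu]
    exact Matrix.mulVec_injective_of_isUnit Xu.isUnit
  have hXsurj : Function.Surjective XL := by
    intro y
    refine ⟨Matrix.toLin' ((Xu⁻¹ : (Matrix (Fin m ⊕ Fin m) (Fin m ⊕ Fin m) F)ˣ) :
      Matrix (Fin m ⊕ Fin m) (Fin m ⊕ Fin m) F) y, ?_⟩
    rw [hXL, ← hXu, ← Matrix.toLin'_mul_apply, Units.mul_inv, Matrix.toLin'_one]
    rfl
  set ω' : LinearMap.BilinForm F (Fin m ⊕ Fin m → F) := ω.comp XL XL with hω'
  have hω'app : ∀ u v, ω' u v = ω (XL u) (XL v) := fun u v => rfl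
  have halt : ω.IsAlt := sympBilin_isAlt
  have halt' : ω'.IsAlt := fun x => halt (XL x)
  have hnd : ∀ x, (∀ y, ω x y = 0) → x = 0 := by
    intro x hx
    apply sympForm_nondeg
    intro y
    rw [← sympBilin_apply]
    exact hx y
  have hnd' : ∀ x, (∀ y, ω' x y = 0) → x = 0 := by
    intro x hx
    apply hXinj
    rw [map_zero]
    apply hnd
    intro z
    obtain ⟨y, rfl⟩ := hXsurj z
    exact hx y
  have hALk : ∀ v, (AL ^ k) v = v := by
    intro v
    rw [hAL, ← Matrix.toLin'_pow, hAk, Matrix.toLin'_one]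
    rfl
  have hAω : ∀ u v, ω (AL u) (AL v) = ω u v := by
    intro u v
    rw [hω, sympBilin_apply, sympBilin_apply, hAL, Matrix.toLin'_apply, Matrix.toLin'_apply]
    exact (mem_symplectic_iff_form A).1 hA u v
  have hXAL : ∀ u, XL (AL u) = Matrix.toLin' B (XL u) := by
    intro u
    rw [hXL, hAL, ← Matrix.toLin'_mul_apply, hXA, Matrix.toLin'_mul_apply]
  have hAω' : ∀ u v, ω' (AL u) (AL v) = ω' u v := by
    intro u v
    rw [hω'app, hω'app, hXAL, hXAL, hω, sympBilin_apply, sympBilin_apply, Matrix.toLin'_apply,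
      Matrix.toLin'_apply]
    exact (mem_symplectic_iff_form B).1 hB _ _
  obtain ⟨Y, hYA, hY⟩ := core k hk (finrank F (Fin m ⊕ Fin m → F)) (Fin m ⊕ Fin m → F) rfl ω ω'
    halt halt' hnd hnd' AL hALk hAω hAω'
  set ZL : (Fin m ⊕ Fin m → F) →ₗ[F] (Fin m ⊕ Fin m → F) := XL ∘ₗ Y.symm.toLinearMap with hZL
  have hZLapp : ∀ u, ZL u = XL (Y.symm u) := fun u => rfl
  have hYsA : ∀ u, Y.symm (AL u) = AL (Y.symm u) := by
    intro u
    apply Y.injective
    rw [LinearEquiv.apply_symm_apply, hYA, LinearEquiv.apply_symm_apply]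
  refine ⟨LinearMap.toMatrix' ZL, ?_, ?_⟩
  · rw [mem_symplectic_iff_form]
    intro x y
    rw [← Matrix.toLin'_apply, ← Matrix.toLin'_apply, Matrix.toLin'_toMatrix', hZLapp, hZLapp,
      ← sympBilin_apply, ← sympBilin_apply]
    have h1 := hY (Y.symm x) (Y.symm y)
    rw [LinearEquiv.apply_symm_apply, LinearEquiv.apply_symm_apply, hω'app] at h1
    exact h1.symm
  · apply Matrix.toLin'.injective
    apply LinearMap.ext
    intro u
    rw [Matrix.toLin'_mul_apply, Matrix.toLin'_mul_apply, Matrix.toLin'_toMatrix', hZLapp, hZLapp]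
    show XL (Y.symm (AL u)) = _
    rw [hYsA, hXAL]



/-- Two semisimple elements of the finite symplectic group Sp_2m(F) (elements of order prime to the characteristic) are conjugate in Sp_2m(F) if and only if they are conjugate in GL_2m(F). -/
theorem result {F : Type*} [Field F] [Fintype F] {p : ℕ} [Fact p.Prime] [CharP F p] {m : ℕ} (A B : Matrix.symplecticGroup (Fin m) F) (hA : (orderOf A).Coprime p) : IsConj A B ↔ IsConj (A : Matrix (Fin m ⊕ Fin m) (Fin m ⊕ Fin m) F) (B : Matrix (Fin m ⊕ Fin m) (Fin m ⊕ Fin m) F) := by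
  classical
  constructor
  · intro h
    rw [isConj_iff] at h
    obtain ⟨c, hc⟩ := h
    have h1 : (c : Matrix (Fin m ⊕ Fin m) (Fin m ⊕ Fin m) F) *
        ((c⁻¹ : Matrix.symplecticGroup (Fin m) F) : Matrix (Fin m ⊕ Fin m) (Fin m ⊕ Fin m) F) = 1 := by
      have := congrArg Subtype.val (mul_inv_cancel c)
      exact this
    have h2 : ((c⁻¹ : Matrix.symplecticGroup (Fin m) F) : Matrix (Fin m ⊕ Fin m) (Fin m ⊕ Fin m) F) *
        (c : Matrix (Fin m ⊕ Fin m) (Fin m ⊕ Fin m) F) = 1 := by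
      have := congrArg Subtype.val (inv_mul_cancel c)
      exact this
    refine ⟨⟨c, _, h1, h2⟩, ?_⟩
    show (c : Matrix (Fin m ⊕ Fin m) (Fin m ⊕ Fin m) F) * A = B * c
    have h3 : c * A = B * c := by rw [← hc]; group
    have := congrArg Subtype.val h3
    exact this
  · rintro ⟨X, hX⟩
    have hp : p.Prime := Fact.out
    have hk : ((orderOf A : ℕ) : F) ≠ 0 := by
      intro h0
      have h1 : p ∣ orderOf A := (CharP.cast_eq_zero_iff F p _).1 h0
      have h2 : p ∣ Nat.gcd (orderOf A) p := Nat.dvd_gcd h1 dvd_rfl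
      rw [hA] at h2
      exact hp.one_lt.ne' (Nat.dvd_one.1 h2)
    have hAk : (A : Matrix (Fin m ⊕ Fin m) (Fin m ⊕ Fin m) F) ^ orderOf A = 1 := by
      have := congrArg Subtype.val (pow_orderOf_eq_one A)
      rw [SubmonoidClass.coe_pow] at this
      exact this
    obtain ⟨Z, hZ, hZA⟩ := exists_symplectic_conj (orderOf A) hk
      (A : Matrix (Fin m ⊕ Fin m) (Fin m ⊕ Fin m) F) (B : Matrix (Fin m ⊕ Fin m) (Fin m ⊕ Fin m) F)
      (X : Matrix (Fin m ⊕ Fin m) (Fin m ⊕ Fin m) F) A.2 B.2 hAk X.isUnit hX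
    rw [isConj_iff]
    refine ⟨⟨Z, hZ⟩, ?_⟩
    have h3 : (⟨Z, hZ⟩ : Matrix.symplecticGroup (Fin m) F) * A = B * ⟨Z, hZ⟩ := Subtype.ext hZA
    rw [h3]; group


end Cfsg.Agent.S2589
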