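import Cfsg.Statements.S2389
import Cfsg.Agent.S2589
import Cfsg.Agent.Lib.Helper5.SemisimpleConj

set_option autoImplicit false
open Cfsg

namespace Cfsg.Agent.S2389


open Polynomial Cfsg.Agent.Lib.Helper5

/-- Matrices (over any finite index type) of finite order prime to the characteristic with equal
characteristic polynomials are similar. -/
theorem exists_gl_conj' {F : Type*} [Field F] (p : ℕ) [Fact p.Prime] [CharP F p] {ι : Type*}
    [Fintype ι] [DecidableEq ι]
    (A B : Matrix ι ι F) (k : ℕ) (hk : k.Coprime p) (hA : A ^ k = 1) (hB : B ^ k = 1)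
    (hc : A.charpoly = B.charpoly) :
    ∃ P : Matrix ι ι F, IsUnit P ∧ P * A = B * P := by
  classical
  have hk0 : (k : F) ≠ 0 := by
    intro h
    have h1 : p ∣ k := (CharP.cast_eq_zero_iff F p k).1 h
    have h2 : p ∣ Nat.gcd k p := Nat.dvd_gcd h1 dvd_rfl
    rw [hk] at h2
    exact (Fact.out : p.Prime).one_lt.ne' (Nat.dvd_one.1 h2)
  have hs : Squarefree (X ^ k - 1 : F[X]) := by
    have : (X ^ k - C (1 : F)).Separable := Polynomial.separable_X_pow_sub_C 1 hk0 one_ne_zero
    rw [map_one] at this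
    exact this.squarefree
  have hφ : aeval (Matrix.toLin' A) (X ^ k - 1 : F[X]) = 0 := by
    rw [map_sub, map_pow, aeval_X, map_one, ← Matrix.toLin'_pow, hA, Matrix.toLin'_one]
    exact sub_self _
  have hψ : aeval (Matrix.toLin' B) (X ^ k - 1 : F[X]) = 0 := by
    rw [map_sub, map_pow, aeval_X, map_one, ← Matrix.toLin'_pow, hB, Matrix.toLin'_one]
    exact sub_self _
  obtain ⟨E, hE⟩ := conj_of_charpoly_eq (Matrix.toLin' A) (Matrix.toLin' B) _ hs hφ hψ
    (by rw [Matrix.charpoly_toLin', Matrix.charpoly_toLin', hc])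
  refine ⟨LinearMap.toMatrix' E.toLinearMap, ?_, ?_⟩
  · have h1 : LinearMap.toMatrix' E.toLinearMap * LinearMap.toMatrix' E.symm.toLinearMap = 1 := by
      rw [← LinearMap.toMatrix'_comp]
      have : E.toLinearMap ∘ₗ E.symm.toLinearMap = LinearMap.id := by
        ext v; simp
      rw [this, LinearMap.toMatrix'_id]
    exact ⟨⟨_, _, h1, mul_eq_one_comm.1 h1⟩, rfl⟩
  · have h2 : E.toLinearMap ∘ₗ Matrix.toLin' A = Matrix.toLin' B ∘ₗ E.toLinearMap := by
      apply LinearMap.ext
      intro v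
      exact hE v
    have h3 := congrArg LinearMap.toMatrix' h2
    rwa [LinearMap.toMatrix'_comp, LinearMap.toMatrix'_comp, LinearMap.toMatrix'_toLin',
      LinearMap.toMatrix'_toLin'] at h3



/-- In the symplectic group `Sp_{2n}(q)`, `q` a power of the prime `p`, two elements of order prime to `p` with the same characteristic polynomial are conjugate in `Sp_{2n}(q)`. -/
theorem result {F : Type*} [Field F] [Fintype F] (p : ℕ) [Fact p.Prime] [CharP F p] (n : ℕ)
    (g h : ↥(Matrix.symplecticGroup (Fin n) F)) (hg : (orderOf g).Coprime p) (hh : (orderOf h).Coprime p)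
    (hc : (g : Matrix (Fin n ⊕ Fin n) (Fin n ⊕ Fin n) F).charpoly = (h : Matrix (Fin n ⊕ Fin n) (Fin n ⊕ Fin n) F).charpoly) :
    IsConj g h := by
  classical
  rw [Cfsg.Agent.S2589.result g h hg]
  have hkc : (orderOf g * orderOf h).Coprime p := Nat.Coprime.mul_left hg hh
  have hA : (g : Matrix (Fin n ⊕ Fin n) (Fin n ⊕ Fin n) F) ^ (orderOf g * orderOf h) = 1 := by
    rw [← SubmonoidClass.coe_pow, pow_mul, pow_orderOf_eq_one, one_pow]
    rfl
  have hB : (h : Matrix (Fin n ⊕ Fin n) (Fin n ⊕ Fin n) F) ^ (orderOf g * orderOf h) = 1 := by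
    rw [← SubmonoidClass.coe_pow, mul_comm, pow_mul, pow_orderOf_eq_one, one_pow]
    rfl
  obtain ⟨P, hP, hPAB⟩ := exists_gl_conj' p _ _ _ hkc hA hB hc
  obtain ⟨Pu, rfl⟩ := hP
  exact ⟨Pu, hPAB⟩


end Cfsg.Agent.S2389
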