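import Cfsg.Statements.S2385
import Cfsg.Agent.Lib.Helper5.SpReal3
import Cfsg.Agent.S2389

set_option autoImplicit false
open Cfsg

namespace Cfsg.Agent.S2385


open Polynomial Cfsg.Agent.Lib.Helper5.Pal Cfsg.Agent.Lib.Helper5.SpReal

theorem charpoly_conj {F : Type*} [Field F] {n : ℕ}
    (a b : ↥(Matrix.symplecticGroup (Fin n) F)) (h : IsConj a b) :
    (a : Matrix (Fin n ⊕ Fin n) (Fin n ⊕ Fin n) F).charpoly =
      (b : Matrix (Fin n ⊕ Fin n) (Fin n ⊕ Fin n) F).charpoly := by
  rw [isConj_iff] at h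
  obtain ⟨c, rfl⟩ := h
  have h1 : ((c * a * c⁻¹ : ↥(Matrix.symplecticGroup (Fin n) F)) :
      Matrix (Fin n ⊕ Fin n) (Fin n ⊕ Fin n) F) =
      (c : Matrix (Fin n ⊕ Fin n) (Fin n ⊕ Fin n) F) *
        ((a : Matrix (Fin n ⊕ Fin n) (Fin n ⊕ Fin n) F) *
          ((c⁻¹ : ↥(Matrix.symplecticGroup (Fin n) F)) :
            Matrix (Fin n ⊕ Fin n) (Fin n ⊕ Fin n) F)) := by
    rw [mul_assoc]; rfl
  rw [h1, Matrix.charpoly_mul_comm, mul_assoc]
  have h2 : ((c⁻¹ : ↥(Matrix.symplecticGroup (Fin n) F)) :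
      Matrix (Fin n ⊕ Fin n) (Fin n ⊕ Fin n) F) *
      (c : Matrix (Fin n ⊕ Fin n) (Fin n ⊕ Fin n) F) = 1 := by
    have := congrArg Subtype.val (inv_mul_cancel c)
    exact this
  rw [h2, mul_one]



/-- In the symplectic group `Sp_{2n}(q)`, `q` a power of the prime `p`, the number of conjugacy classes of elements of order prime to `p` is `q^n`. -/
theorem result {F : Type*} [Field F] [Fintype F] {q : ℕ} (hq : Fintype.card F = q) (p : ℕ) [Fact p.Prime] [CharP F p] (n : ℕ) :
    Nat.card {c : ConjClasses ↥(Matrix.symplecticGroup (Fin n) F) //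
      ∃ g : ↥(Matrix.symplecticGroup (Fin n) F), ConjClasses.mk g = c ∧ (orderOf g).Coprime p} = q ^ n := by
  classical
  have hp : p.Prime := Fact.out
  rw [← hq, ← card_palSet (F := F) n]
  set S := {c : ConjClasses ↥(Matrix.symplecticGroup (Fin n) F) //
      ∃ g : ↥(Matrix.symplecticGroup (Fin n) F), ConjClasses.mk g = c ∧ (orderOf g).Coprime p}
  have hmemPal : ∀ g : ↥(Matrix.symplecticGroup (Fin n) F),
      (g : Matrix (Fin n ⊕ Fin n) (Fin n ⊕ Fin n) F).charpoly ∈ palSet F n := by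
    intro g
    refine ⟨Matrix.charpoly_monic _, ?_, reverse_charpoly_of_mem_symplectic _ g.2⟩
    rw [Matrix.charpoly_natDegree_eq_dim, Fintype.card_sum, Fintype.card_fin]
    ring
  let Φ : S → palSet F n := fun c =>
    ⟨((Classical.choose c.2 : ↥(Matrix.symplecticGroup (Fin n) F)) :
      Matrix (Fin n ⊕ Fin n) (Fin n ⊕ Fin n) F).charpoly, hmemPal _⟩
  have hΦ : Function.Bijective Φ := by
    constructor
    · intro c c' hcc
      have h1 := Classical.choose_spec c.2
      have h2 := Classical.choose_spec c'.2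
      have h3 : ((Classical.choose c.2 : ↥(Matrix.symplecticGroup (Fin n) F)) :
          Matrix (Fin n ⊕ Fin n) (Fin n ⊕ Fin n) F).charpoly =
          ((Classical.choose c'.2 : ↥(Matrix.symplecticGroup (Fin n) F)) :
          Matrix (Fin n ⊕ Fin n) (Fin n ⊕ Fin n) F).charpoly := congrArg Subtype.val hcc
      have h4 := Cfsg.Agent.S2389.result p n _ _ h1.2 h2.2 h3
      apply Subtype.ext
      rw [← h1.1, ← h2.1]
      exact ConjClasses.mk_eq_mk_iff_isConj.2 h4
    · intro f
      obtain ⟨hfm, hfd, hfr⟩ := f.2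
      have hR := realizable_of_pal n (f : F[X]) hfm hfd hfr
      obtain ⟨M, k, hM, hMc, hk0, hMk⟩ := hR.exists_matrix n hfd
      set g : ↥(Matrix.symplecticGroup (Fin n) F) := ⟨M, hM⟩ with hg
      have hgk : g ^ k = 1 := by
        apply Subtype.ext
        rw [SubmonoidClass.coe_pow]
        exact hMk
      have hcop : (orderOf g).Coprime p := by
        have h1 : orderOf g ∣ k := orderOf_dvd_of_pow_eq_one hgk
        have h2 : ¬ p ∣ k := by
          intro h
          exact hk0 ((CharP.cast_eq_zero_iff F p k).2 h)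
        have h3 : ¬ p ∣ orderOf g := fun h => h2 (h.trans h1)
        exact ((Nat.Prime.coprime_iff_not_dvd hp).2 h3).symm
      set c : S := ⟨ConjClasses.mk g, g, rfl, hcop⟩ with hc
      refine ⟨c, ?_⟩
      apply Subtype.ext
      have h1 := Classical.choose_spec c.2
      have h2 : IsConj (Classical.choose c.2) g := ConjClasses.mk_eq_mk_iff_isConj.1 h1.1
      show ((Classical.choose c.2 : ↥(Matrix.symplecticGroup (Fin n) F)) :
          Matrix (Fin n ⊕ Fin n) (Fin n ⊕ Fin n) F).charpoly = (f : F[X])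
      rw [charpoly_conj _ _ h2, ← hMc]
  exact Nat.card_eq_of_bijective Φ hΦ


end Cfsg.Agent.S2385
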