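import Cfsg.Statements.S2390
import Cfsg.Agent.Lib.Helper5.SUConj2
import Cfsg.Agent.S2388

set_option autoImplicit false
open Cfsg

namespace Cfsg.Agent.S2390


open Cfsg.Agent.Lib.Helper5.Wall Cfsg.Agent.Lib.Helper5.SUConj

theorem mem_SU_iff {F : Type*} [Field F] [Fintype F] {q : ℕ} (hF : Fintype.card F = q ^ 2) {n : ℕ}
    (g : Matrix.SpecialLinearGroup (Fin n) F) :
    g ∈ Cfsg.SU n F q ↔ ct hF (g : Matrix (Fin n) (Fin n) F) * g = 1 := by
  rw [ct_mul_self_iff]
  constructor
  · intro h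
    exact Cfsg.Agent.Lib.Helper5.UStar.transpose_mul_map hF _ (fun u v => h u v)
  · intro h u v
    exact Cfsg.Agent.S2366.preserves_of_transpose_mul_map hF _ h u v



/-- In the special unitary group `SU_n(q)` (inside `SL_n` over the field with `q²` elements), `q` a power of the prime `p`, two elements of order prime to `p` with the same characteristic polynomial are conjugate in `SU_n(q)`. -/
theorem result {F : Type*} [Field F] [Fintype F] {q : ℕ} (hF : Fintype.card F = q ^ 2) (p : ℕ) [Fact p.Prime] [CharP F p] (n : ℕ)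
    (g h : ↥(Cfsg.SU n F q)) (hg : (orderOf g).Coprime p) (hh : (orderOf h).Coprime p)
    (hc : ((g : Matrix.SpecialLinearGroup (Fin n) F) : Matrix (Fin n) (Fin n) F).charpoly =
      ((h : Matrix.SpecialLinearGroup (Fin n) F) : Matrix (Fin n) (Fin n) F).charpoly) : IsConj g h := by
  classical
  rcases Nat.eq_zero_or_pos n with hn0 | hn
  · subst hn0
    have : g = h := by
      apply Subtype.ext
      apply Subtype.ext
      exact Subsingleton.elim _ _
    rw [this]
  set A : Matrix (Fin n) (Fin n) F := ((g : Matrix.SpecialLinearGroup (Fin n) F) : Matrix (Fin n) (Fin n) F) with hA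
  set B : Matrix (Fin n) (Fin n) F := ((h : Matrix.SpecialLinearGroup (Fin n) F) : Matrix (Fin n) (Fin n) F) with hB
  have hgU : ct hF A * A = 1 := (mem_SU_iff hF _).1 g.2
  have hhU : ct hF B * B = 1 := (mem_SU_iff hF _).1 h.2
  haveI : Finite (Matrix.SpecialLinearGroup (Fin n) F) := inferInstance
  have hog : 0 < orderOf g := orderOf_pos g
  have hoh : 0 < orderOf h := orderOf_pos h
  set k := orderOf g * orderOf h with hk
  have hkpos : 0 < k := Nat.mul_pos hog hoh
  have hkp : k.Coprime p := Nat.Coprime.mul_left hg hh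
  have hpowmat : ∀ (x : ↥(Cfsg.SU n F q)) (j : ℕ), x ^ j = 1 →
      ((x : Matrix.SpecialLinearGroup (Fin n) F) : Matrix (Fin n) (Fin n) F) ^ j = 1 := by
    intro x j hx
    have h1 := congrArg (fun y : ↥(Cfsg.SU n F q) =>
      ((y : Matrix.SpecialLinearGroup (Fin n) F) : Matrix (Fin n) (Fin n) F)) hx
    simpa using h1
  have hAk : A ^ k = 1 := by
    apply hpowmat
    rw [hk, pow_mul, pow_orderOf_eq_one, one_pow]
  have hBk : B ^ k = 1 := by
    apply hpowmat
    rw [hk, mul_comm, pow_mul, pow_orderOf_eq_one, one_pow]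
  obtain ⟨X, hXdet, hX⟩ := Cfsg.Agent.S2388.exists_gl_conj p A B k hkp hAk hBk hc
  obtain ⟨Z, hZ1, hZ2⟩ := exists_unitary_conj hF A B X hgU hhU
    ((Matrix.isUnit_iff_isUnit_det X).2 hXdet) hX
  have hZdet : Z.det ^ (q + 1) = 1 := by
    have h1 := congrArg Matrix.det hZ1
    rw [Matrix.det_mul, det_ct, Matrix.det_one] at h1
    rw [pow_succ]
    exact h1
  have hZdet0 : Z.det ≠ 0 := by
    intro h0
    rw [h0, zero_pow (Nat.succ_ne_zero q)] at hZdet
    exact zero_ne_one hZdet
  have hδ : (Z.det)⁻¹ ^ (q + 1) = 1 := by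
    rw [inv_pow, hZdet, inv_one]
  obtain ⟨k', hk'⟩ : ∃ k', k = k' + 1 := ⟨k - 1, by omega⟩
  rw [hk'] at hkp hAk
  obtain ⟨c, hc1, hc2, hc3⟩ := exists_unitary_commuting_det hF p hn A hgU k' hkp hAk _ hδ
  have hPdet : (Z * c).det = 1 := by
    rw [Matrix.det_mul, hc3, mul_inv_cancel₀ hZdet0]
  have hPU : ct hF (Z * c) * (Z * c) = 1 := by
    rw [ct_mul]
    calc ct hF c * ct hF Z * (Z * c) = ct hF c * (ct hF Z * Z) * c := by simp only [mul_assoc]
      _ = 1 := by rw [hZ1, mul_one, hc1]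
  have hPA : (Z * c) * A = B * (Z * c) := by
    rw [mul_assoc, hc2, ← mul_assoc, hZ2, mul_assoc]
  set P : Matrix.SpecialLinearGroup (Fin n) F := ⟨Z * c, hPdet⟩ with hP
  have hPmem : P ∈ Cfsg.SU n F q := (mem_SU_iff hF _).2 hPU
  rw [isConj_iff]
  refine ⟨⟨P, hPmem⟩, ?_⟩
  rw [mul_inv_eq_iff_eq_mul]
  apply Subtype.ext
  apply Subtype.ext
  exact hPA


end Cfsg.Agent.S2390
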