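import Cfsg.Statements.S2386
import Cfsg.Agent.Lib.Helper5.SUConj3
import Cfsg.Agent.S2390
import Cfsg.Agent.S2384

set_option autoImplicit false
open Cfsg

namespace Cfsg.Agent.S2386


open Polynomial
open Cfsg.Agent.Lib.Helper5 Cfsg.Agent.Lib.Helper5.Wall Cfsg.Agent.Lib.Helper5.SUConj
  Cfsg.Agent.Lib.Helper5.SSOrder Cfsg.Agent.S0278

variable {F : Type*} [Field F] [Fintype F] {q : ℕ}

/-- the twisted reversal on coefficient vectors -/
noncomputable def tw (q : ℕ) (a₀ : F) (m : ℕ) (d : Fin m → F) : Fin m → F :=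
  fun j => a₀ * (d (Fin.rev j)) ^ q

theorem tw_add (hF : Fintype.card F = q ^ 2) (a₀ : F) (m : ℕ) (x y : Fin m → F) :
    tw q a₀ m (x + y) = tw q a₀ m x + tw q a₀ m y := by
  funext j
  show a₀ * (x (Fin.rev j) + y (Fin.rev j)) ^ q = a₀ * _ ^ q + a₀ * _ ^ q
  have := map_add (powQ hF) (x (Fin.rev j)) (y (Fin.rev j))
  change (x (Fin.rev j) + y (Fin.rev j)) ^ q = _ ^ q + _ ^ q at this
  rw [this, mul_add]

theorem tw_smul (a₀ : F) (m : ℕ) (c : F) (x : Fin m → F) :
    tw q a₀ m (c • x) = (c ^ q) • tw q a₀ m x := by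
  funext j
  show a₀ * (c * x (Fin.rev j)) ^ q = c ^ q * (a₀ * _ ^ q)
  rw [mul_pow]
  ring

theorem tw_tw (hF : Fintype.card F = q ^ 2) (a₀ : F) (ha : a₀ ^ q = a₀) (ha2 : a₀ * a₀ = 1)
    (m : ℕ) (x : Fin m → F) : tw q a₀ m (tw q a₀ m x) = x := by
  funext j
  show a₀ * (a₀ * (x (Fin.rev (Fin.rev j))) ^ q) ^ q = x j
  rw [Fin.rev_rev, mul_pow, ha, ← mul_assoc, ha2, one_mul]
  exact powQ_invol hF (x j)

theorem coeff_zero_cons (a₀ : F) (m : ℕ) (d : Fin m → F) :
    (polyOf (Fin.cons a₀ d : Fin (m + 1) → F)).coeff 0 = a₀ := by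
  have := polyOf_coeff (Fin.cons a₀ d : Fin (m + 1) → F) 0
  simpa using this

theorem coeff_succ_cons (a₀ : F) (m : ℕ) (d : Fin m → F) (j : Fin m) :
    (polyOf (Fin.cons a₀ d : Fin (m + 1) → F)).coeff ((j : ℕ) + 1) = d j := by
  have := polyOf_coeff (Fin.cons a₀ d : Fin (m + 1) → F) j.succ
  simpa using this

theorem fix_iff (hF : Fintype.card F = q ^ 2) (a₀ : F) (ha : a₀ ^ q = a₀) (ha2 : a₀ * a₀ = 1)
    (m : ℕ) (d : Fin m → F) :
    tw q a₀ m d = d ↔ dag hF (polyOf (Fin.cons a₀ d : Fin (m + 1) → F)) =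
      polyOf (Fin.cons a₀ d : Fin (m + 1) → F) := by
  rw [dag_eq_self_iff hF _ m (polyOf_monic _) (polyOf_natDegree _) a₀ (coeff_zero_cons a₀ m d)
    ha ha2]
  have hrev : ∀ j : Fin m, m - (j : ℕ) = ((Fin.rev j : Fin m) : ℕ) + 1 := by
    intro j
    rw [Fin.val_rev]
    have := j.2
    omega
  constructor
  · intro h j hj
    have h1 := congrFun h ⟨j, hj⟩
    have h2 := hrev ⟨j, hj⟩
    simp only at h2
    rw [h2, coeff_succ_cons a₀ m d (Fin.rev ⟨j, hj⟩)]
    have h3 := coeff_succ_cons a₀ m d ⟨j, hj⟩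
    simp only at h3
    rw [h3, ← h1]
    rfl
  · intro h
    funext j
    have h1 := h j j.2
    rw [hrev j, coeff_succ_cons, coeff_succ_cons] at h1
    rw [h1]
    rfl



/-- In the special unitary group `SU_n(q)` (matrices of determinant one over the field with `q²` elements preserving the standard Hermitian form), `q` a power of the prime `p`, the number of conjugacy classes of elements of order prime to `p` is `q^(n-1)`. -/
theorem result {F : Type*} [Field F] [Fintype F] {q : ℕ} (hF : Fintype.card F = q ^ 2) (p : ℕ) [Fact p.Prime] [CharP F p] (n : ℕ) (hn : 1 ≤ n) :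
    Nat.card {c : ConjClasses ↥(Cfsg.SU n F q) // ∃ g : ↥(Cfsg.SU n F q), ConjClasses.mk g = c ∧ (orderOf g).Coprime p} = q ^ (n - 1) := by
  classical
  obtain ⟨m, rfl⟩ : ∃ m, n = m + 1 := ⟨n - 1, by omega⟩
  set a₀ : F := (-1) ^ (m + 1) with ha₀
  have ha : a₀ ^ q = a₀ := by
    have h1 : powQ hF a₀ = a₀ := by
      rw [ha₀, map_pow, map_neg, map_one]
    exact h1
  have ha2 : a₀ * a₀ = 1 := by
    rw [ha₀, ← mul_pow]
    simp
  have hane : a₀ ≠ 0 := by
    intro h
    rw [h, mul_zero] at ha2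
    exact zero_ne_one ha2
  have key : ∀ d : {d : Fin m → F // tw q a₀ m d = d},
      ∃ g : ↥(Cfsg.SU (m + 1) F q),
        ((g : Matrix.SpecialLinearGroup (Fin (m + 1)) F) : Matrix (Fin (m + 1)) (Fin (m + 1)) F).charpoly
          = polyOf (Fin.cons a₀ d.1 : Fin (m + 1) → F) ∧ (orderOf g).Coprime p := by
    intro d
    have hdag := (fix_iff hF a₀ ha ha2 m d.1).1 d.2
    have hc0 := coeff_zero_cons a₀ m d.1
    obtain ⟨B, k, hk, hkp, hBk, hBU, hBc⟩ := exists_unitary_of_charpoly hF p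
      (polyOf (Fin.cons a₀ d.1 : Fin (m + 1) → F)) (polyOf_monic _) (polyOf_natDegree _)
      (by rw [hc0]; exact hane) hdag
    have hdet : B.det = 1 := by
      rw [Matrix.det_eq_sign_charpoly_coeff, hBc, hc0, Fintype.card_fin, ha₀, ← mul_pow]
      simp
    let g0 : Matrix.SpecialLinearGroup (Fin (m + 1)) F := ⟨B, hdet⟩
    have hg0 : g0 ∈ Cfsg.SU (m + 1) F q := (Cfsg.Agent.S2390.mem_SU_iff hF g0).2 hBU
    refine ⟨⟨g0, hg0⟩, hBc, ?_⟩
    have hgk : (⟨g0, hg0⟩ : ↥(Cfsg.SU (m + 1) F q)) ^ k = 1 := by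
      apply Subtype.ext
      apply Subtype.ext
      rw [SubgroupClass.coe_pow, Matrix.SpecialLinearGroup.coe_pow]
      exact hBk
    exact Nat.Coprime.coprime_dvd_left (orderOf_dvd_of_pow_eq_one hgk) hkp
  choose G hG1 hG2 using key
  let Φ : {d : Fin m → F // tw q a₀ m d = d} →
      {c : ConjClasses ↥(Cfsg.SU (m + 1) F q) //
        ∃ g : ↥(Cfsg.SU (m + 1) F q), ConjClasses.mk g = c ∧ (orderOf g).Coprime p} :=
    fun d => ⟨ConjClasses.mk (G d), G d, rfl, hG2 d⟩
  have hΦ : Function.Bijective Φ := by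
    constructor
    · intro d d' h
      have h1 : ConjClasses.mk (G d) = ConjClasses.mk (G d') := congrArg Subtype.val h
      rw [ConjClasses.mk_eq_mk_iff_isConj] at h1
      have h1' := (Cfsg.SU (m + 1) F q).subtype.map_isConj h1
      have h2 := Cfsg.Agent.S2384.charpoly_eq_of_isConj _ _ h1'
      simp only [Subgroup.coe_subtype] at h2
      rw [hG1, hG1] at h2
      have h3 := polyOf_injective h2
      apply Subtype.ext
      funext j
      have h4 := congrFun h3 j.succ
      simpa using h4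
    · rintro ⟨cl, g, rfl, hg⟩
      set M : Matrix (Fin (m + 1)) (Fin (m + 1)) F :=
        ((g : Matrix.SpecialLinearGroup (Fin (m + 1)) F) : Matrix (Fin (m + 1)) (Fin (m + 1)) F)
        with hM
      have hMU : ct hF M * M = 1 := (Cfsg.Agent.S2390.mem_SU_iff hF _).1 g.2
      have hmonic : M.charpoly.Monic := Matrix.charpoly_monic _
      have hdeg : M.charpoly.natDegree = m + 1 := by
        rw [Matrix.charpoly_natDegree_eq_dim, Fintype.card_fin]
      have hc0 : M.charpoly.coeff 0 = a₀ := by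
        have hdet := Matrix.det_eq_sign_charpoly_coeff M
        rw [show M.det = 1 from g.1.2, Fintype.card_fin] at hdet
        calc M.charpoly.coeff 0 = (a₀ * a₀) * M.charpoly.coeff 0 := by rw [ha2, one_mul]
          _ = a₀ * ((-1) ^ (m + 1) * M.charpoly.coeff 0) := by rw [ha₀]; ring
          _ = a₀ := by rw [← hdet, mul_one]
      set d : Fin m → F := fun j => M.charpoly.coeff ((j : ℕ) + 1) with hd
      have hpoly : polyOf (Fin.cons a₀ d : Fin (m + 1) → F) = M.charpoly := by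
        rw [← polyOf_coeff_eq M.charpoly hmonic hdeg]
        congr 1
        funext i
        refine Fin.cases ?_ (fun j => ?_) i
        · simp [hc0]
        · simp [hd]
      have hfix : tw q a₀ m d = d := by
        rw [fix_iff hF a₀ ha ha2 m d, hpoly]
        exact dag_charpoly_of_unitary hF M hMU
      refine ⟨⟨d, hfix⟩, ?_⟩
      apply Subtype.ext
      show ConjClasses.mk (G ⟨d, hfix⟩) = ConjClasses.mk g
      rw [ConjClasses.mk_eq_mk_iff_isConj]
      apply Cfsg.Agent.S2390.result hF p (m + 1) _ _ (hG2 _) hg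
      rw [hG1]
      exact hpoly
  rw [← Nat.card_congr (Equiv.ofBijective Φ hΦ), Nat.add_sub_cancel]
  exact card_fix hF m (tw q a₀ m) (tw_add hF a₀ m) (tw_smul a₀ m) (tw_tw hF a₀ ha ha2 m)


end Cfsg.Agent.S2386
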