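import Mathlib
import Cfsg.Statements.S2387
import Cfsg.Agent.S2388
import Cfsg.Agent.Lib.Helper5.SemisimpleExists

set_option autoImplicit false
open Cfsg

namespace Cfsg.Agent.S2387

open Polynomial Cfsg.Agent.Lib.Helper5

variable {F : Type*} [Field F] [Fintype F] (p : ℕ) [Fact p.Prime] [CharP F p] {n : ℕ}

/-- a `GL` element of order prime to `p` with prescribed characteristic polynomial -/
theorem exists_gl_of_charpoly (f : F[X]) (hf : f.Monic) (hdeg : f.natDegree = n) (h0 : f.coeff 0 ≠ 0) :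
    ∃ g : GL (Fin n) F, (g : Matrix (Fin n) (Fin n) F).charpoly = f ∧ (orderOf g).Coprime p := by
  obtain ⟨A, k, hk, hkp, hAk, hA⟩ := exists_semisimple_of_charpoly p f hf hdeg h0
  have hk' : k = (k - 1) + 1 := by omega
  let g : GL (Fin n) F := ⟨A, A ^ (k - 1), by rw [← pow_succ', ← hk', hAk],
    by rw [← pow_succ, ← hk', hAk]⟩
  refine ⟨g, hA, ?_⟩
  have hgk : g ^ k = 1 := by
    apply Units.ext
    rw [Units.val_pow_eq_pow_val]
    exact hAk
  exact Nat.Coprime.coprime_dvd_left (orderOf_dvd_of_pow_eq_one hgk) hkp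

theorem gl_conj_of_charpoly (g h : GL (Fin n) F) (hg : (orderOf g).Coprime p)
    (hh : (orderOf h).Coprime p)
    (hc : (g : Matrix (Fin n) (Fin n) F).charpoly = (h : Matrix (Fin n) (Fin n) F).charpoly) :
    IsConj g h := by
  have hkc : (orderOf g * orderOf h).Coprime p := Nat.Coprime.mul_left hg hh
  have hA : (g : Matrix (Fin n) (Fin n) F) ^ (orderOf g * orderOf h) = 1 := by
    rw [← Units.val_pow_eq_pow_val, pow_mul, pow_orderOf_eq_one, one_pow]
    rfl
  have hB : (h : Matrix (Fin n) (Fin n) F) ^ (orderOf g * orderOf h) = 1 := by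
    rw [← Units.val_pow_eq_pow_val, mul_comm, pow_mul, pow_orderOf_eq_one, one_pow]
    rfl
  obtain ⟨P, hP, hPAB⟩ := Cfsg.Agent.S2388.exists_gl_conj p g.1 h.1 _ hkc hA hB hc
  let Pu : GL (Fin n) F := Matrix.GeneralLinearGroup.mk'' P hP
  rw [isConj_iff]
  refine ⟨Pu, ?_⟩
  rw [mul_inv_eq_iff_eq_mul]
  apply Units.ext
  exact hPAB

theorem charpoly_eq_of_isConj (g h : GL (Fin n) F) (hgh : IsConj g h) :
    (g : Matrix (Fin n) (Fin n) F).charpoly = (h : Matrix (Fin n) (Fin n) F).charpoly := by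
  rw [isConj_iff] at hgh
  obtain ⟨c, hc⟩ := hgh
  rw [← hc]
  have h1 : ((c * g * c⁻¹ : GL (Fin n) F) : Matrix (Fin n) (Fin n) F) = c.1 * g.1 * (c⁻¹).1 := rfl
  rw [h1, Matrix.charpoly_mul_comm, ← Matrix.mul_assoc]
  have : (c⁻¹).1 * c.1 = 1 := Units.inv_mul c
  rw [this, Matrix.one_mul]

theorem result {F : Type*} [Field F] [Fintype F] {q : ℕ} (hq : Fintype.card F = q) (p : ℕ) [Fact p.Prime] [CharP F p] (n : ℕ) (hn : 1 ≤ n) :
    Nat.card {c : ConjClasses (GL (Fin n) F) // ∃ g : GL (Fin n) F, ConjClasses.mk g = c ∧ (orderOf g).Coprime p} = (q - 1) * q ^ (n - 1) := by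
  classical
  let i0 : Fin n := ⟨0, hn⟩
  have key : ∀ c : {c : Fin n → F // c i0 ≠ 0},
      ∃ g : GL (Fin n) F, (g : Matrix (Fin n) (Fin n) F).charpoly = polyOf c.1 ∧
        (orderOf g).Coprime p := by
    intro c
    apply exists_gl_of_charpoly p _ (polyOf_monic _) (polyOf_natDegree _)
    have := polyOf_coeff c.1 i0
    rw [show ((i0 : Fin n) : ℕ) = 0 from rfl] at this
    rw [this]
    exact c.2
  choose G hG1 hG2 using key
  let Φ : {c : Fin n → F // c i0 ≠ 0} →
      {c : ConjClasses (GL (Fin n) F) // ∃ g : GL (Fin n) F, ConjClasses.mk g = c ∧ (orderOf g).Coprime p} :=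
    fun c => ⟨ConjClasses.mk (G c), G c, rfl, hG2 c⟩
  have hΦ : Function.Bijective Φ := by
    constructor
    · intro c c' h
      have h1 : ConjClasses.mk (G c) = ConjClasses.mk (G c') := congrArg Subtype.val h
      rw [ConjClasses.mk_eq_mk_iff_isConj] at h1
      have h2 := charpoly_eq_of_isConj _ _ h1
      rw [hG1, hG1] at h2
      exact Subtype.ext (polyOf_injective h2)
    · rintro ⟨cl, g, rfl, hg⟩
      have hmonic : (g : Matrix (Fin n) (Fin n) F).charpoly.Monic := Matrix.charpoly_monic _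
      have hdeg : (g : Matrix (Fin n) (Fin n) F).charpoly.natDegree = n := by
        rw [Matrix.charpoly_natDegree_eq_dim, Fintype.card_fin]
      have hc0 : (g : Matrix (Fin n) (Fin n) F).charpoly.coeff 0 ≠ 0 := by
        have hdet := Matrix.det_eq_sign_charpoly_coeff (g : Matrix (Fin n) (Fin n) F)
        intro h
        rw [h, mul_zero] at hdet
        have : IsUnit (g : Matrix (Fin n) (Fin n) F).det :=
          (Matrix.isUnit_iff_isUnit_det _).1 g.isUnit
        exact this.ne_zero hdet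
      let c : {c : Fin n → F // c i0 ≠ 0} :=
        ⟨fun i => (g : Matrix (Fin n) (Fin n) F).charpoly.coeff i, hc0⟩
      refine ⟨c, ?_⟩
      apply Subtype.ext
      show ConjClasses.mk (G c) = ConjClasses.mk g
      rw [ConjClasses.mk_eq_mk_iff_isConj]
      apply gl_conj_of_charpoly p _ _ (hG2 c) hg
      rw [hG1]
      exact polyOf_coeff_eq _ hmonic hdeg
  rw [← Nat.card_congr (Equiv.ofBijective Φ hΦ), card_ne_zero_at, hq]

end Cfsg.Agent.S2387
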