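import Cfsg.Statements.S2391


set_option autoImplicit false
open Cfsg

namespace Cfsg.Agent.S2391


open Matrix

section series
variable {F : Type*} [Field F] {n : ℕ}

/-- The next term of the ascending series of fixed vectors modulo `W`. -/
def nextSub (U : Subgroup (Matrix.SpecialLinearGroup (Fin n) F)) (W : Submodule F (Fin n → F)) :
    Submodule F (Fin n → F) where
  carrier := {v | ∀ u ∈ U, (u : Matrix (Fin n) (Fin n) F) *ᵥ v - v ∈ W}
  add_mem' := by
    intro a b ha hb u hu
    have : (u : Matrix (Fin n) (Fin n) F) *ᵥ (a + b) - (a + b)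
        = ((u : Matrix (Fin n) (Fin n) F) *ᵥ a - a) + ((u : Matrix (Fin n) (Fin n) F) *ᵥ b - b) := by
      rw [Matrix.mulVec_add]
      abel
    rw [this]
    exact W.add_mem (ha u hu) (hb u hu)
  zero_mem' := by
    intro u _
    rw [Matrix.mulVec_zero, sub_zero]
    exact W.zero_mem
  smul_mem' := by
    intro c a ha u hu
    have : (u : Matrix (Fin n) (Fin n) F) *ᵥ (c • a) - c • a
        = c • ((u : Matrix (Fin n) (Fin n) F) *ᵥ a - a) := by
      rw [Matrix.mulVec_smul, smul_sub]
    rw [this]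
    exact W.smul_mem c (ha u hu)

theorem mem_nextSub (U : Subgroup (Matrix.SpecialLinearGroup (Fin n) F))
    (W : Submodule F (Fin n → F)) (v : Fin n → F) :
    v ∈ nextSub U W ↔ ∀ u ∈ U, (u : Matrix (Fin n) (Fin n) F) *ᵥ v - v ∈ W := Iff.rfl

/-- The ascending series. -/
def ser (U : Subgroup (Matrix.SpecialLinearGroup (Fin n) F)) : ℕ → Submodule F (Fin n → F)
  | 0 => ⊥
  | i + 1 => nextSub U (ser U i)

theorem ser_zero (U : Subgroup (Matrix.SpecialLinearGroup (Fin n) F)) : ser U 0 = ⊥ := rfl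

theorem ser_succ (U : Subgroup (Matrix.SpecialLinearGroup (Fin n) F)) (i : ℕ) :
    ser U (i + 1) = nextSub U (ser U i) := rfl

theorem coe_mul_mulVec (g h : Matrix.SpecialLinearGroup (Fin n) F) (v : Fin n → F) :
    ((g * h : Matrix.SpecialLinearGroup (Fin n) F) : Matrix (Fin n) (Fin n) F) *ᵥ v
      = (g : Matrix (Fin n) (Fin n) F) *ᵥ ((h : Matrix (Fin n) (Fin n) F) *ᵥ v) := by
  rw [Matrix.SpecialLinearGroup.coe_mul, Matrix.mulVec_mulVec]

theorem inv_mulVec_mulVec (g : Matrix.SpecialLinearGroup (Fin n) F) (v : Fin n → F) :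
    ((g⁻¹ : Matrix.SpecialLinearGroup (Fin n) F) : Matrix (Fin n) (Fin n) F) *ᵥ
      ((g : Matrix (Fin n) (Fin n) F) *ᵥ v) = v := by
  rw [← coe_mul_mulVec, inv_mul_cancel, Matrix.SpecialLinearGroup.coe_one, Matrix.one_mulVec]

theorem mulVec_inv_mulVec (g : Matrix.SpecialLinearGroup (Fin n) F) (v : Fin n → F) :
    (g : Matrix (Fin n) (Fin n) F) *ᵥ
      (((g⁻¹ : Matrix.SpecialLinearGroup (Fin n) F) : Matrix (Fin n) (Fin n) F) *ᵥ v) = v := by
  rw [← coe_mul_mulVec, mul_inv_cancel, Matrix.SpecialLinearGroup.coe_one, Matrix.one_mulVec]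

/-- Every term is stable under the normaliser. -/
theorem ser_stable (U : Subgroup (Matrix.SpecialLinearGroup (Fin n) F)) (i : ℕ) :
    ∀ g ∈ Subgroup.normalizer (U : Set (Matrix.SpecialLinearGroup (Fin n) F)),
      ∀ v ∈ ser U i, (g : Matrix (Fin n) (Fin n) F) *ᵥ v ∈ ser U i := by
  induction i with
  | zero =>
    intro g _ v hv
    rw [ser_zero, Submodule.mem_bot] at hv ⊢
    rw [hv, Matrix.mulVec_zero]
  | succ i ih =>
    intro g hg v hv
    rw [ser_succ, mem_nextSub] at hv ⊢
    intro u hu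
    have hu' : g⁻¹ * u * g ∈ U := by
      have h1 := (Subgroup.mem_normalizer_iff.1 (Subgroup.inv_mem _ hg) u).1 hu
      rwa [inv_inv] at h1
    have h2 := ih g hg _ (hv _ hu')
    have h3 : (g : Matrix (Fin n) (Fin n) F) *ᵥ
        (((g⁻¹ * u * g : Matrix.SpecialLinearGroup (Fin n) F) : Matrix (Fin n) (Fin n) F) *ᵥ v - v)
        = (u : Matrix (Fin n) (Fin n) F) *ᵥ ((g : Matrix (Fin n) (Fin n) F) *ᵥ v)
          - (g : Matrix (Fin n) (Fin n) F) *ᵥ v := by
      rw [Matrix.mulVec_sub, coe_mul_mulVec, coe_mul_mulVec, mulVec_inv_mulVec]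
    rwa [h3] at h2

theorem ser_mono (U : Subgroup (Matrix.SpecialLinearGroup (Fin n) F)) (i : ℕ) :
    ser U i ≤ ser U (i + 1) := by
  intro v hv
  rw [ser_succ, mem_nextSub]
  intro u hu
  exact (ser U i).sub_mem (ser_stable U i u (Subgroup.le_normalizer hu) v hv) hv

end series


section fixed
variable {F : Type*} [Field F] [Fintype F] {n : ℕ}

/-- The action of `U` on the quotient by a stable subspace. -/
@[reducible] def quotAction (U : Subgroup (Matrix.SpecialLinearGroup (Fin n) F))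
    (W : Submodule F (Fin n → F))
    (hW : ∀ u ∈ U, ∀ w ∈ W, (u : Matrix (Fin n) (Fin n) F) *ᵥ w ∈ W) :
    MulAction U ((Fin n → F) ⧸ W) where
  smul u x := W.mapQ W (Matrix.mulVecLin ((u : Matrix.SpecialLinearGroup (Fin n) F) :
    Matrix (Fin n) (Fin n) F)) (fun w hw => hW u.1 u.2 w hw) x
  one_smul x := by
    induction x using Submodule.Quotient.induction_on with
    | H v =>
      show (Submodule.Quotient.mk ((((1 : U) : Matrix.SpecialLinearGroup (Fin n) F) :
        Matrix (Fin n) (Fin n) F) *ᵥ v) : (Fin n → F) ⧸ W) = Submodule.Quotient.mk v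
      rw [Subgroup.coe_one, Matrix.SpecialLinearGroup.coe_one, Matrix.one_mulVec]
  mul_smul u u' x := by
    induction x using Submodule.Quotient.induction_on with
    | H v =>
      show (Submodule.Quotient.mk ((((u * u' : U) : Matrix.SpecialLinearGroup (Fin n) F) :
        Matrix (Fin n) (Fin n) F) *ᵥ v) : (Fin n → F) ⧸ W)
        = Submodule.Quotient.mk (((u : Matrix.SpecialLinearGroup (Fin n) F) :
        Matrix (Fin n) (Fin n) F) *ᵥ (((u' : Matrix.SpecialLinearGroup (Fin n) F) :
        Matrix (Fin n) (Fin n) F) *ᵥ v))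
      rw [Subgroup.coe_mul, coe_mul_mulVec]

theorem exists_fixed_mod (p : ℕ) [Fact p.Prime] [CharP F p]
    (U : Subgroup (Matrix.SpecialLinearGroup (Fin n) F)) (hU : IsPGroup p ↥U)
    (W : Submodule F (Fin n → F))
    (hW : ∀ u ∈ U, ∀ w ∈ W, (u : Matrix (Fin n) (Fin n) F) *ᵥ w ∈ W) (hWtop : W ≠ ⊤) :
    ∃ v, v ∉ W ∧ ∀ u ∈ U, (u : Matrix (Fin n) (Fin n) F) *ᵥ v - v ∈ W := by
  classical
  let _inst := quotAction U W hW
  have hsmul : ∀ (u : U) (v : Fin n → F), u • (Submodule.Quotient.mk v : (Fin n → F) ⧸ W)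
      = Submodule.Quotient.mk (((u : Matrix.SpecialLinearGroup (Fin n) F) :
        Matrix (Fin n) (Fin n) F) *ᵥ v) := by
    intro u v
    rfl
  have hcard : p ∣ Nat.card ((Fin n → F) ⧸ W) := by
    have : Nontrivial ((Fin n → F) ⧸ W) := Submodule.Quotient.nontrivial_iff.2 hWtop
    have hpos : 0 < Module.finrank F ((Fin n → F) ⧸ W) := Module.finrank_pos
    rw [Nat.card_eq_fintype_card, Module.card_eq_pow_finrank (K := F)]
    obtain ⟨k, -, hk⟩ := FiniteField.card F p
    rw [hk]
    apply dvd_pow _ hpos.ne'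
    exact dvd_pow_self p k.ne_zero
  have h0 : (0 : (Fin n → F) ⧸ W) ∈ MulAction.fixedPoints U ((Fin n → F) ⧸ W) := by
    intro u
    have := hsmul u 0
    rw [Matrix.mulVec_zero] at this
    exact this
  obtain ⟨b, hb, hb0⟩ := hU.exists_fixed_point_of_prime_dvd_card_of_fixed_point _ hcard h0
  obtain ⟨v, rfl⟩ := Submodule.Quotient.mk_surjective W b
  refine ⟨v, ?_, ?_⟩
  · intro hv
    apply hb0
    exact ((Submodule.Quotient.mk_eq_zero W).2 hv).symm
  · intro u hu
    have h1 := hb ⟨u, hu⟩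
    rw [hsmul, Submodule.Quotient.eq] at h1
    exact h1

end fixed


section main
variable {F : Type*} [Field F] [Fintype F] {n : ℕ}

theorem ser_lt (p : ℕ) [Fact p.Prime] [CharP F p]
    (U : Subgroup (Matrix.SpecialLinearGroup (Fin n) F)) (hU : IsPGroup p ↥U) (i : ℕ)
    (hi : ser U i ≠ ⊤) : ser U i < ser U (i + 1) := by
  obtain ⟨v, hv1, hv2⟩ := exists_fixed_mod p U hU (ser U i)
    (fun u hu w hw => ser_stable U i u (Subgroup.le_normalizer hu) w hw) hi
  refine lt_of_le_of_ne (ser_mono U i) ?_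
  intro h
  apply hv1
  rw [h, ser_succ, mem_nextSub]
  exact hv2

theorem exists_ser_top (p : ℕ) [Fact p.Prime] [CharP F p]
    (U : Subgroup (Matrix.SpecialLinearGroup (Fin n) F)) (hU : IsPGroup p ↥U) :
    ∃ i, ser U i = ⊤ := by
  by_contra hcon
  push Not at hcon
  have h : ∀ i, i ≤ Module.finrank F (ser U i) := by
    intro i
    induction i with
    | zero => exact Nat.zero_le _
    | succ i ih =>
      have := Submodule.finrank_lt_finrank_of_lt (ser_lt p U hU i (hcon i))
      omega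
  have h1 := h (n + 1)
  have h2 : Module.finrank F (ser U (n + 1)) ≤ Module.finrank F (Fin n → F) :=
    Submodule.finrank_le _
  rw [Module.finrank_fin_fun] at h2
  omega

end main



/-- The Borel–Tits property of `SL_n(q)` in flag form: for a field `F` of characteristic `p` with finitely many elements and a non-trivial `p`-subgroup `U` of `SL_n(F)`, there is a flag `0 = V₀ < V₁ < ⋯ < V_{k+1} = F^n` with at least one proper non-zero member such that every element of the normaliser of `U` maps each `V_i` onto itself and every element of `U` acts trivially on each quotient `V_{i+1}/V_i` (so the normaliser lies in the parabolic subgroup of the flag and `U` in its unipotent radical). -/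
theorem result {F : Type*} [Field F] [Fintype F] (p : ℕ) [Fact p.Prime] [CharP F p] (n : ℕ)
    (U : Subgroup (Matrix.SpecialLinearGroup (Fin n) F)) (hU : IsPGroup p ↥U) (hne : U ≠ ⊥) :
    ∃ (k : ℕ) (V : Fin (k + 2) → Submodule F (Fin n → F)), 1 ≤ k ∧ StrictMono V ∧ V 0 = ⊥ ∧ V (Fin.last (k + 1)) = ⊤ ∧
      (∀ g ∈ Subgroup.normalizer (U : Set (Matrix.SpecialLinearGroup (Fin n) F)), ∀ i, (V i).map (Matrix.mulVecLin (g : Matrix (Fin n) (Fin n) F)) = V i) ∧
      (∀ u ∈ U, ∀ i : Fin (k + 1), ∀ v ∈ V i.succ, (u : Matrix (Fin n) (Fin n) F).mulVec v - v ∈ V (Fin.castSucc i)) := by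
  classical
  have hex := exists_ser_top p U hU
  obtain ⟨m, hm⟩ : ∃ m, m = Nat.find hex := ⟨_, rfl⟩
  have hmtop : ser U m = ⊤ := by rw [hm]; exact Nat.find_spec hex
  have hmin : ∀ i, i < m → ser U i ≠ ⊤ := by
    intro i hi
    rw [hm] at hi
    exact Nat.find_min hex hi
  -- U acts non-trivially
  have h1 : ser U 1 ≠ ⊤ := by
    intro h
    apply hne
    rw [eq_bot_iff]
    intro u hu
    rw [Subgroup.mem_bot]
    apply Matrix.SpecialLinearGroup.ext
    intro a b
    have hv : (Pi.single b 1 : Fin n → F) ∈ ser U 1 := by rw [h]; trivial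
    rw [ser_succ, mem_nextSub] at hv
    have h2 := hv u hu
    rw [ser_zero, Submodule.mem_bot, sub_eq_zero] at h2
    have h3 := congrFun h2 a
    rw [Matrix.mulVec_single_one] at h3
    rw [Matrix.SpecialLinearGroup.coe_one, Matrix.one_apply]
    rw [Pi.single_apply] at h3
    exact h3
  have h0 : ser U 0 ≠ ⊤ := by
    intro h
    apply h1
    rw [eq_top_iff, ← h]
    exact ser_mono U 0
  have hm2 : 2 ≤ m := by
    by_contra hlt
    have : m = 0 ∨ m = 1 := by omega
    rcases this with rfl | rfl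
    · exact h0 hmtop
    · exact h1 hmtop
  obtain ⟨k, rfl⟩ : ∃ k, m = k + 1 := ⟨m - 1, by omega⟩
  refine ⟨k, fun i => ser U i.val, by omega, ?_, ser_zero U, ?_, ?_, ?_⟩
  · rw [Fin.strictMono_iff_lt_succ]
    intro i
    show ser U i.val < ser U (i.val + 1)
    exact ser_lt p U hU i.val (hmin i.val i.isLt)
  · show ser U (k + 1) = ⊤
    exact hmtop
  · intro g hg i
    apply le_antisymm
    · rintro w ⟨v, hv, rfl⟩
      rw [Matrix.mulVecLin_apply]
      exact ser_stable U i.val g hg v hv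
    · intro w hw
      refine ⟨((g⁻¹ : Matrix.SpecialLinearGroup (Fin n) F) : Matrix (Fin n) (Fin n) F) *ᵥ w,
        ser_stable U i.val g⁻¹ (Subgroup.inv_mem _ hg) w hw, ?_⟩
      rw [Matrix.mulVecLin_apply, mulVec_inv_mulVec]
  · intro u hu i v hv
    have hv' : v ∈ ser U (i.val + 1) := hv
    rw [ser_succ, mem_nextSub] at hv'
    exact hv' u hu


end Cfsg.Agent.S2391
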