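import Cfsg.Statements.S2392


set_option autoImplicit false
open scoped MatrixGroups
open Cfsg

namespace Cfsg.Agent.S2392


open Matrix

section abstract
variable {F : Type*} [Field F] [Fintype F] {K : Type*} [Field K] {m d : ℕ}
  {G : Type*} [Group G]

/-- The additive character `v ↦ ψ (w ⬝ᵥ v)`. -/
noncomputable def chi (ψ : AddChar F K) (w : Fin m → F) : AddChar (Fin m → F) K :=
  ψ.compAddMonoidHom (dotProductBilin F F w).toAddMonoidHom

theorem chi_apply (ψ : AddChar F K) (w v : Fin m → F) : chi ψ w v = ψ (w ⬝ᵥ v) := rfl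

theorem chi_ne_one (ψ : AddChar F K) (hψ : ψ ≠ 1) {w : Fin m → F} (hw : w ≠ 0) : chi ψ w ≠ 1 := by
  obtain ⟨a, ha⟩ := AddChar.ne_one_iff.1 hψ
  obtain ⟨i, hi⟩ : ∃ i, w i ≠ 0 := by
    by_contra h
    push Not at h
    exact hw (funext h)
  rw [AddChar.ne_one_iff]
  refine ⟨Pi.single i ((w i)⁻¹ * a), ?_⟩
  rw [chi_apply, dotProduct_single, ← mul_assoc, mul_inv_cancel₀ hi, one_mul]
  exact ha

theorem sum_chi (ψ : AddChar F K) (hψ : ψ ≠ 1) [DecidableEq (Fin m → F)] (w : Fin m → F) :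
    ∑ v : Fin m → F, ψ (w ⬝ᵥ v) = if w = 0 then (Fintype.card (Fin m → F) : K) else 0 := by
  split_ifs with h
  · subst h
    simp
  · exact AddChar.sum_eq_zero_of_ne_one (chi_ne_one ψ hψ h)


/-- The (unnormalised) idempotent attached to `w`. -/
noncomputable def Eop (ψ : AddChar F K) (R : G →* Matrix (Fin d) (Fin d) K) (x : (Fin m → F) → G)
    (w : Fin m → F) : Matrix (Fin d) (Fin d) K :=
  ∑ v : Fin m → F, ψ (-(w ⬝ᵥ v)) • R (x v)

theorem R_mul_Eop (ψ : AddChar F K) (R : G →* Matrix (Fin d) (Fin d) K) (x : (Fin m → F) → G)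
    (hx : ∀ u v, x (u + v) = x u * x v) (u w : Fin m → F) :
    R (x u) * Eop ψ R x w = ψ (w ⬝ᵥ u) • Eop ψ R x w := by
  unfold Eop
  rw [Finset.mul_sum, Finset.smul_sum]
  rw [← Equiv.sum_comp (Equiv.addLeft u)
    (fun v => ψ (w ⬝ᵥ u) • ψ (-(w ⬝ᵥ v)) • R (x v))]
  apply Finset.sum_congr rfl
  intro v _
  rw [Equiv.coe_addLeft, hx, map_mul, Matrix.mul_smul, smul_smul, ← AddChar.map_add_eq_mul,
    dotProduct_add]
  congr 2
  ring

open Classical in
theorem Eop_mul_Eop (ψ : AddChar F K) (hψ : ψ ≠ 1) (R : G →* Matrix (Fin d) (Fin d) K)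
    (x : (Fin m → F) → G) (hx : ∀ u v, x (u + v) = x u * x v) (w₀ w : Fin m → F) :
    Eop ψ R x w₀ * Eop ψ R x w =
      if w = w₀ then (Fintype.card (Fin m → F) : K) • Eop ψ R x w else 0 := by
  classical
  have h1 : Eop ψ R x w₀ * Eop ψ R x w
      = (∑ v : Fin m → F, ψ ((w - w₀) ⬝ᵥ v)) • Eop ψ R x w := by
    conv_lhs => unfold Eop
    rw [Finset.sum_mul, Finset.sum_smul]
    apply Finset.sum_congr rfl
    intro v _
    rw [Matrix.smul_mul]
    change ψ (-(w₀ ⬝ᵥ v)) • (R (x v) * Eop ψ R x w) = _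
    rw [R_mul_Eop ψ R x hx, smul_smul, ← AddChar.map_add_eq_mul, sub_dotProduct]
    congr 2
    ring
  rw [h1, sum_chi ψ hψ]
  by_cases h : w = w₀
  · rw [if_pos h, if_pos (sub_eq_zero.2 h)]
  · rw [if_neg h, if_neg (fun h' => h (sub_eq_zero.1 h')), zero_smul]

theorem sum_Eop (ψ : AddChar F K) (hψ : ψ ≠ 1) (R : G →* Matrix (Fin d) (Fin d) K)
    (x : (Fin m → F) → G) (hx0 : x 0 = 1) :
    ∑ w : Fin m → F, Eop ψ R x w = (Fintype.card (Fin m → F) : K) • (1 : Matrix (Fin d) (Fin d) K) := by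
  classical
  unfold Eop
  rw [Finset.sum_comm]
  have h : ∀ v : Fin m → F, ∑ w : Fin m → F, ψ (-(w ⬝ᵥ v)) • R (x v)
      = if v = 0 then (Fintype.card (Fin m → F) : K) • R (x v) else 0 := by
    intro v
    rw [← Finset.sum_smul]
    have h2 : ∑ w : Fin m → F, ψ (-(w ⬝ᵥ v)) = ∑ w : Fin m → F, ψ ((-v) ⬝ᵥ w) := by
      apply Finset.sum_congr rfl
      intro w _
      rw [neg_dotProduct, dotProduct_comm]
    rw [h2, sum_chi ψ hψ]
    by_cases hv : v = 0
    · rw [if_pos hv, if_pos (neg_eq_zero.2 hv)]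
    · rw [if_neg hv, if_neg (fun h' => hv (neg_eq_zero.1 h')), zero_smul]
  rw [Finset.sum_congr rfl (fun v _ => h v), Finset.sum_ite_eq' Finset.univ (0 : Fin m → F),
    if_pos (Finset.mem_univ _), hx0, map_one]

theorem card_support_le (ψ : AddChar F K) (hψ : ψ ≠ 1) (R : G →* Matrix (Fin d) (Fin d) K)
    (x : (Fin m → F) → G) (hx : ∀ u v, x (u + v) = x u * x v)
    (hcard : (Fintype.card (Fin m → F) : K) ≠ 0) :
    Nat.card {w : Fin m → F // Eop ψ R x w ≠ 0} ≤ d := by
  classical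
  have hex : ∀ w : {w : Fin m → F // Eop ψ R x w ≠ 0}, ∃ z : Fin d → K, Eop ψ R x w.1 *ᵥ z ≠ 0 := by
    intro w
    by_contra h
    push Not at h
    apply w.2
    ext i j
    have := congrFun (h (Pi.single j 1)) i
    rw [Matrix.mulVec_single_one] at this
    exact this
  choose z hz using hex
  have hli : LinearIndependent K (fun w : {w : Fin m → F // Eop ψ R x w ≠ 0} =>
      Eop ψ R x w.1 *ᵥ z w) := by
    rw [Fintype.linearIndependent_iff]
    intro c hc i₀
    have h1 := congrArg (fun y => Eop ψ R x i₀.1 *ᵥ y) hc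
    simp only [Matrix.mulVec_sum, Matrix.mulVec_smul, Matrix.mulVec_mulVec, Matrix.mulVec_zero] at h1
    have h2 : ∀ i : {w : Fin m → F // Eop ψ R x w ≠ 0},
        c i • ((Eop ψ R x i₀.1 * Eop ψ R x i.1) *ᵥ z i)
          = if i = i₀ then c i₀ • ((Fintype.card (Fin m → F) : K) • (Eop ψ R x i₀.1 *ᵥ z i₀)) else 0 := by
      intro i
      rw [Eop_mul_Eop ψ hψ R x hx]
      by_cases h : i = i₀
      · subst h
        rw [if_pos rfl, if_pos rfl, Matrix.smul_mulVec]
      · rw [if_neg h, if_neg (fun h' => h (Subtype.ext h')), Matrix.zero_mulVec, smul_zero]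
    rw [Finset.sum_congr rfl (fun i _ => h2 i), Finset.sum_ite_eq' Finset.univ i₀,
      if_pos (Finset.mem_univ _), smul_smul] at h1
    rcases smul_eq_zero.1 h1 with h3 | h3
    · rcases mul_eq_zero.1 h3 with h4 | h4
      · exact h4
      · exact absurd h4 hcard
    · exact absurd h3 (hz i₀)
  have := hli.fintype_card_le_finrank
  rw [Module.finrank_fin_fun] at this
  rw [Nat.card_eq_fintype_card]
  exact this

end abstract


section conjlemma
variable {F : Type*} [Field F] [Fintype F] {K : Type*} [Field K] {m d : ℕ}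
  {G : Type*} [Group G]

theorem Eop_conj (ψ : AddChar F K) (R : G →* Matrix (Fin d) (Fin d) K) (x : (Fin m → F) → G)
    (g : G) (α : (Fin m → F) ≃ (Fin m → F)) (β : (Fin m → F) → (Fin m → F))
    (hg : ∀ v, g * x (α v) = x v * g) (hαβ : ∀ w v, w ⬝ᵥ α v = β w ⬝ᵥ v) (w : Fin m → F) :
    R g * Eop ψ R x w = Eop ψ R x (β w) * R g := by
  unfold Eop
  rw [Finset.mul_sum, Finset.sum_mul, ← Equiv.sum_comp α]
  apply Finset.sum_congr rfl
  intro v _
  rw [Matrix.mul_smul, Matrix.smul_mul, ← map_mul, ← map_mul, hg, hαβ]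

theorem Eop_ne_zero_of_conj (ψ : AddChar F K) (R : G →* Matrix (Fin d) (Fin d) K)
    (x : (Fin m → F) → G)
    (g : G) (α : (Fin m → F) ≃ (Fin m → F)) (β : (Fin m → F) → (Fin m → F))
    (hg : ∀ v, g * x (α v) = x v * g) (hαβ : ∀ w v, w ⬝ᵥ α v = β w ⬝ᵥ v) (w : Fin m → F)
    (hw : Eop ψ R x w ≠ 0) : Eop ψ R x (β w) ≠ 0 := by
  intro h
  apply hw
  have h1 := Eop_conj ψ R x g α β hg hαβ w
  rw [h, Matrix.zero_mul] at h1
  have h2 : R g⁻¹ * (R g * Eop ψ R x w) = 0 := by rw [h1, Matrix.mul_zero]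
  rwa [← Matrix.mul_assoc, ← map_mul, inv_mul_cancel, map_one, Matrix.one_mul] at h2

end conjlemma

section trans
variable {F : Type*} [Field F] {m : ℕ}

/-- A rank-one perturbation of the identity as an element of `SL`. -/
def tvm (u φ : Fin m → F) (h : φ ⬝ᵥ u = 0) : Matrix.SpecialLinearGroup (Fin m) F :=
  ⟨1 + vecMulVec u φ, by
    rw [vecMulVec_eq (Fin 1), det_one_add_replicateCol_mul_replicateRow, h, add_zero]⟩

theorem tvm_mulVec (u φ : Fin m → F) (h : φ ⬝ᵥ u = 0) (w : Fin m → F) :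
    (tvm u φ h).val *ᵥ w = w + (φ ⬝ᵥ w) • u := by
  show (1 + vecMulVec u φ) *ᵥ w = _
  rw [Matrix.add_mulVec, Matrix.one_mulVec, vecMulVec_mulVec]
  simp [mul_comm]

/-- Two vectors are in the same orbit of `SL`. -/
def SLrel (w w' : Fin m → F) : Prop :=
  ∃ A : Matrix.SpecialLinearGroup (Fin m) F, A.val *ᵥ w = w'

theorem SLrel_refl (w : Fin m → F) : SLrel w w := ⟨1, by simp⟩

theorem SLrel_symm {w w' : Fin m → F} (h : SLrel w w') : SLrel w' w := by
  obtain ⟨A, rfl⟩ := h
  refine ⟨A⁻¹, ?_⟩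
  rw [Matrix.mulVec_mulVec, ← Matrix.SpecialLinearGroup.coe_mul, inv_mul_cancel]
  simp

theorem SLrel_trans {w w' w'' : Fin m → F} (h : SLrel w w') (h' : SLrel w' w'') : SLrel w w'' := by
  obtain ⟨A, rfl⟩ := h
  obtain ⟨B, rfl⟩ := h'
  refine ⟨B * A, ?_⟩
  rw [Matrix.SpecialLinearGroup.coe_mul, Matrix.mulVec_mulVec]

theorem SLrel_single {w : Fin m → F} {i k : Fin m} (hi : w i ≠ 0) (hk : k ≠ i) :
    SLrel w (Pi.single k 1) := by
  obtain ⟨φ, hφ⟩ : ∃ φ : Fin m → F, φ = Pi.single i ((1 - w k) / w i) + Pi.single k 1 := ⟨_, rfl⟩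
  have h1 : φ ⬝ᵥ w = 1 := by
    rw [hφ, add_dotProduct, single_dotProduct, single_dotProduct, div_mul_cancel₀ _ hi]
    ring
  have h2 : φ ⬝ᵥ (Pi.single k 1 : Fin m → F) = 1 := by
    rw [hφ, add_dotProduct, single_dotProduct, single_dotProduct, Pi.single_eq_same,
      Pi.single_eq_of_ne hk.symm]
    ring
  refine ⟨tvm (Pi.single k 1 - w) φ (by rw [dotProduct_sub, h1, h2, sub_self]), ?_⟩
  rw [tvm_mulVec, h1, one_smul]
  abel

theorem SLrel_of_ne_zero (hm : 2 ≤ m) {w w' : Fin m → F} (hw : w ≠ 0) (hw' : w' ≠ 0) :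
    SLrel w w' := by
  have hss : ∀ k k' : Fin m, SLrel (Pi.single k (1 : F)) (Pi.single k' 1) := by
    intro k k'
    by_cases h : k' = k
    · subst h
      exact SLrel_refl _
    · exact SLrel_single (by rw [Pi.single_eq_same]; exact one_ne_zero) h
  have h0 : ∀ w : Fin m → F, w ≠ 0 → SLrel w (Pi.single ⟨0, by omega⟩ 1) := by
    intro w hw
    obtain ⟨i, hi⟩ : ∃ i, w i ≠ 0 := by
      by_contra h
      push Not at h
      exact hw (funext h)
    obtain ⟨k, hk⟩ : ∃ k : Fin m, k ≠ i := by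
      by_cases h : i.val = 0
      · exact ⟨⟨1, by omega⟩, fun h' => by rw [← h'] at h; simp at h⟩
      · exact ⟨⟨0, by omega⟩, fun h' => h (by rw [← h'])⟩
    exact SLrel_trans (SLrel_single hi hk) (hss _ _)
  exact SLrel_trans (h0 w hw) (SLrel_symm (h0 w' hw'))

end trans

section conc
variable {F : Type*} [Field F] {m : ℕ}

/-- Transport a block matrix to `Fin (1 + m)`. -/
def toFin (M : Matrix (Fin 1 ⊕ Fin m) (Fin 1 ⊕ Fin m) F) : Matrix (Fin (1 + m)) (Fin (1 + m)) F :=
  Matrix.reindexAlgEquiv F F finSumFinEquiv M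

theorem toFin_mul (M N : Matrix (Fin 1 ⊕ Fin m) (Fin 1 ⊕ Fin m) F) :
    toFin (M * N) = toFin M * toFin N := map_mul _ _ _

theorem toFin_one : toFin (1 : Matrix (Fin 1 ⊕ Fin m) (Fin 1 ⊕ Fin m) F) = 1 := map_one _

theorem toFin_injective : Function.Injective (toFin (F := F) (m := m)) :=
  (Matrix.reindexAlgEquiv F F finSumFinEquiv).injective

theorem det_toFin (M : Matrix (Fin 1 ⊕ Fin m) (Fin 1 ⊕ Fin m) F) : (toFin M).det = M.det :=
  Matrix.det_reindexAlgEquiv _ _ _ _

/-- The block matrix of the root subgroup element. -/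
def xMat (v : Fin m → F) : Matrix (Fin 1 ⊕ Fin m) (Fin 1 ⊕ Fin m) F :=
  Matrix.fromBlocks 1 (Matrix.replicateRow (Fin 1) v) 0 1

/-- The block matrix of the Levi element. -/
def lMat (A : Matrix (Fin m) (Fin m) F) : Matrix (Fin 1 ⊕ Fin m) (Fin 1 ⊕ Fin m) F :=
  Matrix.fromBlocks 1 0 0 A

theorem xMat_add (u v : Fin m → F) : xMat (u + v) = xMat u * xMat v := by
  unfold xMat
  rw [Matrix.fromBlocks_multiply]
  simp only [Matrix.one_mul, Matrix.mul_one, Matrix.zero_mul, Matrix.mul_zero, add_zero, zero_add]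
  congr 1
  ext i j
  simp [add_comm]

theorem xMat_zero : xMat (0 : Fin m → F) = 1 := by
  unfold xMat
  rw [← Matrix.fromBlocks_one]
  congr 1

theorem lMat_mul_xMat (A : Matrix (Fin m) (Fin m) F) (v : Fin m → F) :
    lMat A * xMat (v ᵥ* A) = xMat v * lMat A := by
  unfold xMat lMat
  rw [Matrix.fromBlocks_multiply, Matrix.fromBlocks_multiply]
  simp only [Matrix.one_mul, Matrix.mul_one, Matrix.zero_mul, Matrix.mul_zero, add_zero, zero_add]
  congr 1

/-- The root subgroup element. -/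
def xEl (v : Fin m → F) : Matrix.SpecialLinearGroup (Fin (1 + m)) F :=
  ⟨toFin (xMat v), by
    rw [det_toFin, xMat, Matrix.det_fromBlocks_zero₂₁, Matrix.det_one, one_mul, Matrix.det_one]⟩

/-- The Levi element. -/
def lEl (A : Matrix.SpecialLinearGroup (Fin m) F) : Matrix.SpecialLinearGroup (Fin (1 + m)) F :=
  ⟨toFin (lMat A.val), by
    rw [det_toFin, lMat, Matrix.det_fromBlocks_zero₂₁, Matrix.det_one, one_mul, A.2]⟩

theorem xEl_add (u v : Fin m → F) : xEl (u + v) = xEl u * xEl v := by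
  apply Subtype.ext
  show toFin (xMat (u + v)) = toFin (xMat u) * toFin (xMat v)
  rw [xMat_add, toFin_mul]

theorem xEl_zero : xEl (0 : Fin m → F) = 1 := by
  apply Subtype.ext
  show toFin (xMat 0) = 1
  rw [xMat_zero, toFin_one]

theorem lEl_mul_xEl (A : Matrix.SpecialLinearGroup (Fin m) F) (v : Fin m → F) :
    lEl A * xEl (v ᵥ* A.val) = xEl v * lEl A := by
  apply Subtype.ext
  show toFin (lMat A.val) * toFin (xMat (v ᵥ* A.val)) = toFin (xMat v) * toFin (lMat A.val)
  rw [← toFin_mul, ← toFin_mul, lMat_mul_xMat]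

theorem xEl_not_mem_center (hm : 1 ≤ m) {v : Fin m → F} (hv : v ≠ 0) :
    xEl v ∉ Subgroup.center (Matrix.SpecialLinearGroup (Fin (1 + m)) F) := by
  intro h
  rw [Matrix.SpecialLinearGroup.mem_center_iff] at h
  obtain ⟨r, -, hr⟩ := h
  have h1 : toFin (r • (1 : Matrix (Fin 1 ⊕ Fin m) (Fin 1 ⊕ Fin m) F)) = toFin (xMat v) := by
    show Matrix.reindexAlgEquiv F F finSumFinEquiv (r • 1) = _
    rw [map_smul, map_one]
    show _ = (xEl v).val
    rw [← hr]
    ext i j
    simp [Matrix.smul_apply, Matrix.one_apply, Matrix.diagonal_apply]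
  have h2 := toFin_injective h1
  unfold xMat at h2
  rw [← Matrix.fromBlocks_one, Matrix.fromBlocks_smul, Matrix.fromBlocks_inj] at h2
  obtain ⟨-, h3, -, -⟩ := h2
  apply hv
  funext j
  have := congrFun (congrFun h3 0) j
  simpa using this.symm

end conc


section final
variable {F : Type*} [Field F] [Fintype F]

/-- The coordinate change induced by a matrix of `SL`, as an equivalence. -/
def alphaEquiv {m : ℕ} (A : Matrix.SpecialLinearGroup (Fin m) F) : (Fin m → F) ≃ (Fin m → F) where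
  toFun v := v ᵥ* A.val
  invFun v := v ᵥ* (A⁻¹).val
  left_inv v := by
    show (v ᵥ* A.val) ᵥ* (A⁻¹).val = v
    rw [Matrix.vecMul_vecMul, ← Matrix.SpecialLinearGroup.coe_mul, mul_inv_cancel,
      Matrix.SpecialLinearGroup.coe_one, Matrix.vecMul_one]
  right_inv v := by
    show (v ᵥ* (A⁻¹).val) ᵥ* A.val = v
    rw [Matrix.vecMul_vecMul, ← Matrix.SpecialLinearGroup.coe_mul, inv_mul_cancel,
      Matrix.SpecialLinearGroup.coe_one, Matrix.vecMul_one]

theorem natCast_card_ne_zero {K : Type*} [Field K] (hK : ringChar K ≠ ringChar F)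
    {K' : Type*} [Field K'] [Algebra K K'] (m : ℕ) :
    (Fintype.card (Fin m → F) : K') ≠ 0 := by
  rw [Fintype.card_fun, Fintype.card_fin, Nat.cast_pow]
  apply pow_ne_zero
  have : CharP F (ringChar F) := ringChar.charP F
  obtain ⟨k, hp, hk⟩ := FiniteField.card F (ringChar F)
  rw [hk, Nat.cast_pow]
  apply pow_ne_zero
  intro h0
  have h1 : algebraMap K K' ((ringChar F : ℕ) : K) = 0 := by rw [map_natCast]; exact h0
  have h2 : ((ringChar F : ℕ) : K) = 0 := by
    rwa [map_eq_zero_iff _ (algebraMap K K').injective] at h1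
  rw [ringChar.spec] at h2
  rcases (Nat.dvd_prime hp).1 h2 with h3 | h3
  · exact CharP.ringChar_ne_one h3
  · exact hK h3

end final



/-- A lower bound for representations in cross characteristic: for `n ≥ 3` and a field `F` with `q` elements, every homomorphism from `SL_n(F)` to `GL_d(K)`, `K` a field of characteristic different from that of `F`, whose kernel is central has `d ≥ q^(n-1) - 1`. -/
theorem result {F : Type*} [Field F] [Fintype F] {q : ℕ} (hq : Fintype.card F = q) (n : ℕ) (hn : 3 ≤ n)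
    {K : Type*} [Field K] (hK : ringChar K ≠ ringChar F) {d : ℕ}
    (ρ : Matrix.SpecialLinearGroup (Fin n) F →* GL (Fin d) K) (hker : ρ.ker ≤ Subgroup.center (Matrix.SpecialLinearGroup (Fin n) F)) :
    q ^ (n - 1) - 1 ≤ d := by
  classical
  obtain ⟨m, rfl⟩ : ∃ m, n = 1 + m := ⟨n - 1, by omega⟩
  have hm : 2 ≤ m := by omega
  obtain ⟨N, ψ, hprim⟩ := AddChar.FiniteField.primitiveChar F K hK
  have hψ : ψ ≠ 1 := by
    have := hprim (one_ne_zero (α := F))
    rwa [AddChar.mulShift_one] at this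
  obtain ⟨R, hR⟩ : ∃ R : Matrix.SpecialLinearGroup (Fin (1 + m)) F →*
      Matrix (Fin d) (Fin d) (CyclotomicField N K),
      ∀ g, R g = ((ρ g : GL (Fin d) K) : Matrix (Fin d) (Fin d) K).map
        (algebraMap K (CyclotomicField N K)) :=
    ⟨((algebraMap K (CyclotomicField N K)).mapMatrix.toMonoidHom).comp
      ((Units.coeHom _).comp ρ), fun g => rfl⟩
  have hR1 : ∀ g, R g = 1 → g ∈ ρ.ker := by
    intro g hg
    rw [MonoidHom.mem_ker]
    apply Units.ext
    rw [hR] at hg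
    have h1 : ((1 : Matrix (Fin d) (Fin d) K)).map (algebraMap K (CyclotomicField N K)) = 1 := by
      rw [Matrix.map_one _ (map_zero _) (map_one _)]
    rw [← h1] at hg
    exact Matrix.map_injective (algebraMap K (CyclotomicField N K)).injective hg
  have hcard : (Fintype.card (Fin m → F) : CyclotomicField N K) ≠ 0 :=
    natCast_card_ne_zero hK m
  have hsupp := card_support_le ψ hψ R xEl xEl_add hcard
  have hall : ∀ w : Fin m → F, w ≠ 0 → Eop ψ R xEl w ≠ 0 := by
    by_cases hex : ∃ w₁ : Fin m → F, w₁ ≠ 0 ∧ Eop ψ R xEl w₁ ≠ 0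
    · obtain ⟨w₁, hw₁, hE⟩ := hex
      intro w hw
      obtain ⟨A, hA⟩ := SLrel_of_ne_zero hm hw₁ hw
      rw [← hA]
      refine Eop_ne_zero_of_conj ψ R xEl (lEl A) (alphaEquiv A) (fun w => A.val *ᵥ w)
        (fun v => lEl_mul_xEl A v) ?_ w₁ hE
      intro w v
      show w ⬝ᵥ (v ᵥ* A.val) = (A.val *ᵥ w) ⬝ᵥ v
      rw [dotProduct_comm, ← Matrix.dotProduct_mulVec, dotProduct_comm]
    · exfalso
      push Not at hex
      have h0 : Eop ψ R xEl (0 : Fin m → F)
          = (Fintype.card (Fin m → F) : CyclotomicField N K) • (1 : Matrix (Fin d) (Fin d) _) := by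
        rw [← sum_Eop ψ hψ R xEl xEl_zero]
        symm
        apply Finset.sum_eq_single
        · intro w _ hw
          exact hex w hw
        · intro h
          exact absurd (Finset.mem_univ _) h
      obtain ⟨u, hu⟩ : ∃ u : Fin m → F, u ≠ 0 := by
        refine ⟨Pi.single ⟨0, by omega⟩ 1, ?_⟩
        intro h
        have := congrFun h ⟨0, by omega⟩
        simp at this
      have h1 := R_mul_Eop ψ R xEl xEl_add u 0
      rw [zero_dotProduct, AddChar.map_zero_eq_one, one_smul, h0, Matrix.mul_smul,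
        Matrix.mul_one] at h1
      have h2 : R (xEl u) = 1 := smul_right_injective _ hcard h1
      exact xEl_not_mem_center (by omega) hu (hker (hR1 _ h2))
  have hcount : Nat.card {w : Fin m → F // w ≠ 0} = q ^ m - 1 := by
    rw [Nat.card_eq_fintype_card, Fintype.card_subtype_compl, Fintype.card_subtype_eq,
      Fintype.card_fun, Fintype.card_fin, hq]
  have hle : Nat.card {w : Fin m → F // w ≠ 0} ≤ Nat.card {w : Fin m → F // Eop ψ R xEl w ≠ 0} :=
    Nat.card_le_card_of_injective (fun w => ⟨w.1, hall w.1 w.2⟩) (by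
      intro a b hab
      apply Subtype.ext
      have h3 := congrArg Subtype.val hab
      exact h3)
  have : 1 + m - 1 = m := by omega
  rw [this, ← hcount]
  exact le_trans hle hsupp


end Cfsg.Agent.S2392
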