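import Cfsg.Statements.S2393
import Cfsg.Agent.S2392
import Cfsg.Agent.Lib.Helper5.SpInv2

set_option autoImplicit false
open scoped MatrixGroups
open Cfsg

namespace Cfsg.Agent.S2393


open Matrix Cfsg.Agent.Lib.Helper5.SpInv2 Cfsg.Agent.S2392

section symm
variable {F : Type*} [Field F] {k : ℕ}

/-- The first standard basis vector. -/
def e0 : Fin (k + 1) → F := Pi.single 0 1

/-- The symmetric matrix with first row and column `v`. -/
def symM (v : Fin (k + 1) → F) : Matrix (Fin (k + 1)) (Fin (k + 1)) F :=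
  vecMulVec e0 v + vecMulVec v e0 - v 0 • vecMulVec e0 e0

theorem symM_transpose (v : Fin (k + 1) → F) : (symM v)ᵀ = symM v := by
  unfold symM
  rw [Matrix.transpose_sub, Matrix.transpose_add, Matrix.transpose_smul, Matrix.transpose_vecMulVec,
    Matrix.transpose_vecMulVec, Matrix.transpose_vecMulVec, add_comm (vecMulVec v e0)]

theorem symM_add (u v : Fin (k + 1) → F) : symM (u + v) = symM u + symM v := by
  unfold symM
  rw [Matrix.vecMulVec_add, Matrix.add_vecMulVec, Pi.add_apply, add_smul]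
  abel

theorem symM_zero : symM (0 : Fin (k + 1) → F) = 0 := by
  unfold symM
  simp

theorem symM_apply_zero (v : Fin (k + 1) → F) (j : Fin (k + 1)) : symM v 0 j = v j := by
  unfold symM e0
  simp only [Matrix.sub_apply, Matrix.add_apply, Matrix.smul_apply, Matrix.vecMulVec_apply,
    Pi.single_eq_same, smul_eq_mul, one_mul]
  ring

theorem symM_injective : Function.Injective (symM (F := F) (k := k)) := by
  intro u v h
  funext j
  rw [← symM_apply_zero u j, ← symM_apply_zero v j, h]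


/-- The Levi matrix `1 + e₀ φᵀ`. -/
def Pm (φ : Fin (k + 1) → F) : Matrix (Fin (k + 1)) (Fin (k + 1)) F := 1 + vecMulVec e0 φ

/-- Its inverse. -/
def Qm (φ : Fin (k + 1) → F) : Matrix (Fin (k + 1)) (Fin (k + 1)) F :=
  1 - (1 + φ 0)⁻¹ • vecMulVec e0 φ

theorem dot_e0 (φ : Fin (k + 1) → F) : φ ⬝ᵥ e0 = φ 0 := by
  unfold e0
  rw [dotProduct_single, mul_one]

theorem Pm_mul_Qm (φ : Fin (k + 1) → F) (hc : 1 + φ 0 ≠ 0) : Pm φ * Qm φ = 1 := by
  unfold Pm Qm
  rw [Matrix.add_mul, Matrix.mul_sub, Matrix.mul_sub, Matrix.one_mul, Matrix.mul_one, Matrix.one_mul,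
    Matrix.mul_smul, Matrix.vecMulVec_mul_vecMulVec, dot_e0, Matrix.vecMulVec_smul]
  have h : (1 + φ 0)⁻¹ * (1 + φ 0) = 1 := inv_mul_cancel₀ hc
  have h2 : (1 + φ 0)⁻¹ + (1 + φ 0)⁻¹ * φ 0 = 1 := by
    field_simp
  have h3 : (1 + φ 0)⁻¹ • vecMulVec (e0 : Fin (k + 1) → F) φ
      + (1 + φ 0)⁻¹ • φ 0 • vecMulVec (e0 : Fin (k + 1) → F) φ
      = vecMulVec (e0 : Fin (k + 1) → F) φ := by
    rw [smul_smul, ← add_smul, h2, one_smul]
  have h4 : vecMulVec (e0 : Fin (k + 1) → F) φ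
      - (1 + φ 0)⁻¹ • φ 0 • vecMulVec (e0 : Fin (k + 1) → F) φ
      = (1 + φ 0)⁻¹ • vecMulVec (e0 : Fin (k + 1) → F) φ := by
    rw [sub_eq_iff_eq_add]
    exact h3.symm
  rw [h4]
  abel

theorem Pm_mulVec (φ v : Fin (k + 1) → F) : Pm φ *ᵥ v = v + (φ ⬝ᵥ v) • e0 := by
  unfold Pm
  rw [Matrix.add_mulVec, Matrix.one_mulVec, vecMulVec_mulVec]
  simp [mul_comm]

/-- The induced map on the parameters of the root group. -/
def gam (φ v : Fin (k + 1) → F) : Fin (k + 1) → F :=
  (1 + φ 0) • v + (2 * (1 + φ 0) * (φ ⬝ᵥ v) - (1 + φ 0) ^ 2 * v 0 + (1 + φ 0) * v 0) • e0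

theorem Pm_symM (φ v : Fin (k + 1) → F) : Pm φ * symM v * (Pm φ)ᵀ = symM (gam φ v) := by
  have hP : ∀ a b : Fin (k + 1) → F,
      Pm φ * vecMulVec a b * (Pm φ)ᵀ = vecMulVec (Pm φ *ᵥ a) (Pm φ *ᵥ b) := by
    intro a b
    rw [Matrix.mul_vecMulVec, Matrix.vecMulVec_mul, Matrix.vecMul_transpose]
  have he : Pm φ *ᵥ e0 = (1 + φ 0) • (e0 : Fin (k + 1) → F) := by
    rw [Pm_mulVec, dot_e0, add_smul, one_smul]
  have h00 : (e0 : Fin (k + 1) → F) 0 = 1 := by
    unfold e0
    rw [Pi.single_eq_same]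
  unfold symM
  rw [Matrix.mul_sub, Matrix.sub_mul, Matrix.mul_add, Matrix.add_mul, Matrix.mul_smul,
    Matrix.smul_mul, hP, hP, hP, he, Pm_mulVec]
  unfold gam
  simp only [Matrix.vecMulVec_add, Matrix.add_vecMulVec, Matrix.vecMulVec_smul,
    Matrix.smul_vecMulVec, Pi.add_apply, Pi.smul_apply, smul_eq_mul, h00, mul_one]
  module


theorem gam_injective (φ : Fin (k + 1) → F) (hc : 1 + φ 0 ≠ 0) : Function.Injective (gam φ) := by
  intro u v h
  have h1 : Pm φ * symM u * (Pm φ)ᵀ = Pm φ * symM v * (Pm φ)ᵀ := by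
    rw [Pm_symM, Pm_symM, h]
  have hQP : Qm φ * Pm φ = 1 := _root_.mul_eq_one_comm.1 (Pm_mul_Qm φ hc)
  have h2 : ∀ S : Matrix (Fin (k + 1)) (Fin (k + 1)) F,
      Qm φ * (Pm φ * S * (Pm φ)ᵀ) * (Qm φ)ᵀ = S := by
    intro S
    rw [Matrix.mul_assoc (Pm φ), ← Matrix.mul_assoc (Qm φ), hQP, Matrix.one_mul, Matrix.mul_assoc,
      ← Matrix.transpose_mul, hQP, Matrix.transpose_one, Matrix.mul_one]
  apply symM_injective
  rw [← h2 (symM u), h1, h2]

/-- The root group element. -/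
def xSp (v : Fin (k + 1) → F) : Matrix.symplecticGroup (Fin (k + 1)) F :=
  uS (symM v) (symM_transpose v)

theorem xSp_add (u v : Fin (k + 1) → F) : xSp (u + v) = xSp u * xSp v := by
  apply Subtype.ext
  show uMat (symM (u + v)) = uMat (symM u) * uMat (symM v)
  unfold uMat
  rw [Matrix.fromBlocks_multiply, symM_add]
  simp only [Matrix.one_mul, Matrix.mul_one, Matrix.zero_mul, Matrix.mul_zero, add_zero, zero_add]
  rw [add_comm (symM u)]

theorem xSp_zero : xSp (0 : Fin (k + 1) → F) = 1 := by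
  apply Subtype.ext
  show uMat (symM 0) = 1
  unfold uMat
  rw [symM_zero, Matrix.fromBlocks_one]

theorem xSp_not_mem_center {v : Fin (k + 1) → F} (hv : v ≠ 0) :
    xSp v ∉ Subgroup.center ↥(Matrix.symplecticGroup (Fin (k + 1)) F) := by
  intro h
  rw [Subgroup.mem_center_iff] at h
  have h1 := congrArg Subtype.val
    (h ⟨Matrix.J (Fin (k + 1)) F, SymplecticGroup.J_mem _ _⟩)
  have h2 : Matrix.J (Fin (k + 1)) F * uMat (symM v) = uMat (symM v) * Matrix.J (Fin (k + 1)) F := h1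
  unfold uMat Matrix.J at h2
  rw [Matrix.fromBlocks_multiply, Matrix.fromBlocks_multiply] at h2
  simp only [Matrix.one_mul, Matrix.mul_one, Matrix.zero_mul, Matrix.mul_zero, add_zero, zero_add,
    Matrix.fromBlocks_inj] at h2
  apply hv
  apply symM_injective
  rw [symM_zero, ← h2.1]

/-- The conjugating element. -/
def gSp (φ : Fin (k + 1) → F) (hc : 1 + φ 0 ≠ 0) : Matrix.symplecticGroup (Fin (k + 1)) F :=
  (dS (Pm φ) (Qm φ) (Pm_mul_Qm φ hc))⁻¹

theorem gSp_mul_xSp (φ : Fin (k + 1) → F) (hc : 1 + φ 0 ≠ 0) (v : Fin (k + 1) → F) :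
    gSp φ hc * xSp (gam φ v) = xSp v * gSp φ hc := by
  have h := dS_conj (Pm φ) (Qm φ) (Pm_mul_Qm φ hc) (symM v) (symM_transpose v)
    (by rw [Pm_symM]; exact symM_transpose _)
  have h2 : xSp (gam φ v) = uS (Pm φ * symM v * (Pm φ)ᵀ)
      (by rw [Pm_symM]; exact symM_transpose _) := by
    apply Subtype.ext
    show uMat (symM (gam φ v)) = uMat (Pm φ * symM v * (Pm φ)ᵀ)
    rw [Pm_symM]
  rw [h2, ← h]
  unfold gSp xSp
  group

/-- The dual map on weights. -/
def bet (φ w : Fin (k + 1) → F) : Fin (k + 1) → F :=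
  (1 + φ 0) • w + w 0 • ((2 * (1 + φ 0)) • φ + ((1 + φ 0) - (1 + φ 0) ^ 2) • e0)

theorem dot_gam (φ w v : Fin (k + 1) → F) : w ⬝ᵥ gam φ v = bet φ w ⬝ᵥ v := by
  unfold gam bet
  simp only [dotProduct_add, add_dotProduct, dotProduct_smul, smul_dotProduct, smul_eq_mul, dot_e0]
  have h : (e0 : Fin (k + 1) → F) ⬝ᵥ v = v 0 := by rw [dotProduct_comm, dot_e0]
  rw [h]
  ring

end symm




/-- A lower bound for representations in cross characteristic: for `n ≥ 2` and a field `F` with `q` elements, `q` odd, every homomorphism from the symplectic group `Sp_{2n}(F)` to `GL_d(K)`, `K` a field of characteristic different from that of `F`, whose kernel is central has `d ≥ q^(n-1)(q-1)/2`. -/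
theorem result {F : Type*} [Field F] [Fintype F] {q : ℕ} (hq : Fintype.card F = q) (hodd : Odd q) (n : ℕ) (hn : 2 ≤ n)
    {K : Type*} [Field K] (hK : ringChar K ≠ ringChar F) {d : ℕ}
    (ρ : ↥(Matrix.symplecticGroup (Fin n) F) →* GL (Fin d) K) (hker : ρ.ker ≤ Subgroup.center ↥(Matrix.symplecticGroup (Fin n) F)) :
    q ^ (n - 1) * (q - 1) / 2 ≤ d := by
  classical
  obtain ⟨k, rfl⟩ : ∃ k, n = k + 1 := ⟨n - 1, by omega⟩
  have hchar : ringChar F ≠ 2 := by
    intro h
    have := FiniteField.even_card_of_char_two h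
    rw [hq] at this
    rcases hodd with ⟨j, hj⟩
    omega
  have h2F : (2 : F) ≠ 0 := Ring.two_ne_zero hchar
  obtain ⟨N, ψ, hprim⟩ := AddChar.FiniteField.primitiveChar F K hK
  have hψ : ψ ≠ 1 := by
    have := hprim (one_ne_zero (α := F))
    rwa [AddChar.mulShift_one] at this
  obtain ⟨R, hR⟩ : ∃ R : ↥(Matrix.symplecticGroup (Fin (k + 1)) F) →*
      Matrix (Fin d) (Fin d) (CyclotomicField N K),
      ∀ g, R g = ((ρ g : GL (Fin d) K) : Matrix (Fin d) (Fin d) K).map
        (algebraMap K (CyclotomicField N K)) :=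
    ⟨((algebraMap K (CyclotomicField N K)).mapMatrix.toMonoidHom).comp
      ((Units.coeHom _).comp ρ), fun g => rfl⟩
  have hR1 : ∀ g, R g = 1 → g ∈ ρ.ker := by
    intro g hg
    rw [MonoidHom.mem_ker]
    apply Units.ext
    rw [hR] at hg
    have h1 : ((1 : Matrix (Fin d) (Fin d) K)).map (algebraMap K (CyclotomicField N K)) = 1 := by
      rw [Matrix.map_one _ (map_zero _) (map_one _)]
    rw [← h1] at hg
    exact Matrix.map_injective (algebraMap K (CyclotomicField N K)).injective hg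
  have hcard : (Fintype.card (Fin (k + 1) → F) : CyclotomicField N K) ≠ 0 :=
    natCast_card_ne_zero hK (k + 1)
  have hsupp := card_support_le ψ hψ R xSp xSp_add hcard
  have he00 : (e0 : Fin (k + 1) → F) 0 = 1 := by
    unfold e0
    rw [Pi.single_eq_same]
  have hex : ∃ w : Fin (k + 1) → F, w 0 ≠ 0 ∧ Eop ψ R xSp w ≠ 0 := by
    by_contra hne
    push Not at hne
    have h1 : ∀ w, R (xSp e0) * Eop ψ R xSp w = Eop ψ R xSp w := by
      intro w
      rw [R_mul_Eop ψ R xSp xSp_add]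
      by_cases hw : w 0 = 0
      · rw [dot_e0, hw, AddChar.map_zero_eq_one, one_smul]
      · rw [hne w hw, smul_zero]
    have h2 : R (xSp e0) * ∑ w, Eop ψ R xSp w = ∑ w, Eop ψ R xSp w := by
      rw [Finset.mul_sum]
      exact Finset.sum_congr rfl (fun w _ => h1 w)
    rw [sum_Eop ψ hψ R xSp xSp_zero, Matrix.mul_smul, Matrix.mul_one] at h2
    have h3 : R (xSp e0) = 1 := smul_right_injective _ hcard h2
    have hne0 : (e0 : Fin (k + 1) → F) ≠ 0 := by
      intro h
      have := congrFun h 0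
      rw [he00] at this
      exact one_ne_zero this
    exact xSp_not_mem_center hne0 (hker (hR1 _ h3))
  obtain ⟨w₁, hw₁, hE₁⟩ := hex
  have hinv : ∀ (c : F) (hc : c ≠ 0) (w' : Fin (k + 1) → F), w' 0 = c ^ 2 * w₁ 0 →
      Eop ψ R xSp w' ≠ 0 := by
    intro c hc w' hw'
    obtain ⟨φ, hφ⟩ : ∃ φ : Fin (k + 1) → F,
        φ = Function.update (fun j => (w' j - c * w₁ j) / (2 * c * w₁ 0)) 0 (c - 1) := ⟨_, rfl⟩
    have hφ0 : φ 0 = c - 1 := by rw [hφ, Function.update_self]
    have hc1 : 1 + φ 0 = c := by rw [hφ0]; ring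
    have hc' : 1 + φ 0 ≠ 0 := by rw [hc1]; exact hc
    have hb : bet φ w₁ = w' := by
      funext j
      unfold bet
      simp only [Pi.add_apply, Pi.smul_apply, smul_eq_mul, hc1]
      by_cases hj : j = 0
      · subst hj
        rw [hφ0, hw', he00]
        ring
      · have hφj : φ j = (w' j - c * w₁ j) / (2 * c * w₁ 0) := by
          rw [hφ, Function.update_of_ne hj]
        have hej : (e0 : Fin (k + 1) → F) j = 0 := by
          unfold e0
          rw [Pi.single_eq_of_ne hj]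
        rw [hφj, hej]
        field_simp
        ring
    rw [← hb]
    exact Eop_ne_zero_of_conj ψ R xSp (gSp φ hc')
      (Equiv.ofBijective (gam φ) (Finite.injective_iff_bijective.1 (gam_injective φ hc')))
      (bet φ) (fun v => gSp_mul_xSp φ hc' v) (fun w v => dot_gam φ w v) w₁ hE₁
  obtain ⟨f, hf⟩ : ∃ f : Fˣ × (Fin k → F) → {w : Fin (k + 1) → F // Eop ψ R xSp w ≠ 0},
      ∀ p, (f p).1 = Fin.cons ((p.1 : F) ^ 2 * w₁ 0) p.2 :=
    ⟨fun p => ⟨Fin.cons ((p.1 : F) ^ 2 * w₁ 0) p.2,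
      hinv p.1 (Units.ne_zero _) _ (by rw [Fin.cons_zero])⟩, fun p => rfl⟩
  have hfib : ∀ a ∈ (Finset.univ : Finset (Fˣ × (Fin k → F))).image f,
      ((Finset.univ : Finset (Fˣ × (Fin k → F))).filter (fun p => f p = a)).card ≤ 2 := by
    intro a ha
    obtain ⟨p₀, -, rfl⟩ := Finset.mem_image.1 ha
    have hsub : (Finset.univ : Finset (Fˣ × (Fin k → F))).filter (fun p => f p = f p₀)
        ⊆ {p₀, (-p₀.1, p₀.2)} := by
      intro p hp
      rw [Finset.mem_filter] at hp
      have h1 := congrArg Subtype.val hp.2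
      rw [hf, hf] at h1
      have h2 := congrFun h1 0
      rw [Fin.cons_zero, Fin.cons_zero] at h2
      have h3 : p.2 = p₀.2 := by
        funext j
        have := congrFun h1 j.succ
        rwa [Fin.cons_succ, Fin.cons_succ] at this
      have h4 : (p.1 : F) ^ 2 = (p₀.1 : F) ^ 2 := mul_right_cancel₀ hw₁ h2
      rw [Finset.mem_insert, Finset.mem_singleton]
      rcases sq_eq_sq_iff_eq_or_eq_neg.1 h4 with h5 | h5
      · left
        exact Prod.ext (Units.ext h5) h3
      · right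
        refine Prod.ext (Units.ext ?_) h3
        rw [h5]
        simp
    exact le_trans (Finset.card_le_card hsub) Finset.card_le_two
  have hcnt := Finset.card_le_mul_card_image (f := f) Finset.univ 2 hfib
  have hcnt2 : ((Finset.univ : Finset (Fˣ × (Fin k → F))).image f).card
      ≤ Nat.card {w : Fin (k + 1) → F // Eop ψ R xSp w ≠ 0} := by
    rw [Nat.card_eq_fintype_card]
    exact Finset.card_le_univ _
  have hcu : (Finset.univ : Finset (Fˣ × (Fin k → F))).card = (q - 1) * q ^ k := by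
    rw [Finset.card_univ, Fintype.card_prod, Fintype.card_units, Fintype.card_fun, Fintype.card_fin,
      hq]
  rw [hcu] at hcnt
  apply Nat.div_le_of_le_mul
  have h5 : k + 1 - 1 = k := by omega
  rw [h5, mul_comm (q ^ k)]
  calc (q - 1) * q ^ k ≤ 2 * ((Finset.univ : Finset (Fˣ × (Fin k → F))).image f).card := hcnt
    _ ≤ 2 * Nat.card {w : Fin (k + 1) → F // Eop ψ R xSp w ≠ 0} := Nat.mul_le_mul_left 2 hcnt2
    _ ≤ 2 * d := Nat.mul_le_mul_left 2 hsupp


end Cfsg.Agent.S2393
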