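import Cfsg.Statements.S2394
import Cfsg.Agent.S0245
import Cfsg.Agent.S2904

set_option autoImplicit false
open scoped MatrixGroups
open Cfsg

namespace Cfsg.Agent.S2394

section
variable {F : Type*} [Field F] [Fintype F]

theorem card_dvd (n : ℕ) {d : ℕ}
    (ρ : ↥(Matrix.symplecticGroup (Fin n) F) →* GL (Fin d) F) (hρ : Function.Injective ρ) :
    Nat.card (Matrix.symplecticGroup (Fin n) F) ∣ Nat.card (GL (Fin d) F) := by
  have h1 : Nat.card (Matrix.symplecticGroup (Fin n) F) = Nat.card ρ.range :=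
    Nat.card_congr (Equiv.ofInjective ρ hρ)
  rw [h1]
  exact Subgroup.card_subgroup_dvd_card _

theorem one_lt_card : 1 < Fintype.card F := Fintype.one_lt_card

/-- A prime dividing the order of `GL_d(q)` divides `q` or some `q ^ j - 1` with `1 ≤ j ≤ d`. -/
theorem prime_dvd_card_GL {r d : ℕ} (hr : r.Prime) (h : r ∣ Nat.card (GL (Fin d) F)) :
    r ∣ Fintype.card F ∨ ∃ j, 0 < j ∧ j ≤ d ∧ r ∣ Fintype.card F ^ j - 1 := by
  rw [Matrix.card_GL_field] at h
  obtain ⟨i, -, hi⟩ := (Prime.dvd_finset_prod_iff (Nat.Prime.prime hr) _).1 h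
  have hq : 1 ≤ Fintype.card F := one_lt_card.le
  have e : Fintype.card F ^ d - Fintype.card F ^ (i : ℕ)
      = Fintype.card F ^ (i : ℕ) * (Fintype.card F ^ (d - (i : ℕ)) - 1) := by
    rw [Nat.mul_sub, mul_one, ← pow_add]
    congr 2
    have := i.2
    omega
  rw [e] at hi
  rcases (Nat.Prime.dvd_mul hr).1 hi with h1 | h1
  · left
    exact hr.dvd_of_dvd_pow h1
  · right
    have := i.2
    exact ⟨d - i, by omega, by omega, h1⟩

end


/-- The smallest degree of a faithful representation of the symplectic group `Sp_{2n}(q)` over its own field `F_q` is `2n`: every injective homomorphism from `Sp_{2n}(F)` to `GL_d(F)`, `F` the field with `q` elements, has `d ≥ 2n`. -/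
theorem result {F : Type*} [Field F] [Fintype F] (n : ℕ) {d : ℕ}
    (ρ : ↥(Matrix.symplecticGroup (Fin n) F) →* GL (Fin d) F) (hρ : Function.Injective ρ) : 2 * n ≤ d := by
  by_contra hlt
  rw [not_le] at hlt
  have hdvd := card_dvd n ρ hρ
  have hq : 1 < Fintype.card F := one_lt_card
  rw [Cfsg.Agent.S0245.result (F := F) rfl n] at hdvd
  obtain ⟨k, rfl⟩ : ∃ k, n = k + 1 := ⟨n - 1, by omega⟩
  -- the factor `q ^ (2n) - 1` divides the order
  have hfac : Fintype.card F ^ (2 * (k + 1)) - 1 ∣ Nat.card (GL (Fin d) F) := by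
    refine dvd_trans ?_ hdvd
    apply dvd_mul_of_dvd_right
    exact Finset.dvd_prod_of_mem _ (Finset.mem_range.2 (Nat.lt_succ_self k))
  by_cases hex : (Fintype.card F = 2 ∧ 2 * (k + 1) = 6) ∨
      (2 * (k + 1) = 2 ∧ ∃ m : ℕ, Fintype.card F + 1 = 2 ^ m)
  · rcases hex with ⟨h2, h6⟩ | ⟨h2, -⟩
    · -- `Sp_6(2)`
      obtain rfl : k = 2 := by omega
      rw [Matrix.card_GL_field, h2] at hdvd
      have hd : d ≤ 5 := by omega
      interval_cases d <;> simp [Fin.prod_univ_succ, Finset.prod_range_succ] at hdvd <;> omega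
    · -- `Sp_2(q)`
      obtain rfl : k = 0 := by omega
      have hd : d ≤ 1 := by omega
      rw [Matrix.card_GL_field] at hfac
      have hbig : Fintype.card F - 1 < Fintype.card F ^ (2 * (0 + 1)) - 1 := by
        have : Fintype.card F * 2 ≤ Fintype.card F ^ (2 * (0 + 1)) := by
          rw [show 2 * (0 + 1) = 2 by norm_num, pow_two]
          exact Nat.mul_le_mul_left _ hq
        omega
      rw [show 2 * (0 + 1) = 2 from rfl] at hfac hbig
      interval_cases d
      · rw [Finset.univ_eq_empty, Finset.prod_empty, Nat.dvd_one] at hfac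
        omega
      · rw [Fin.prod_univ_one, pow_one, Fin.val_zero, pow_zero] at hfac
        have := Nat.le_of_dvd (by omega) hfac
        omega
  · rw [not_or] at hex
    obtain ⟨r, hr, hr1, hr2⟩ := Cfsg.Agent.S2904.result (Fintype.card F) (2 * (k + 1)) hq (by omega)
      hex.1 hex.2
    rcases prime_dvd_card_GL hr (dvd_trans hr1 hfac) with h1 | ⟨j, hj0, hjd, hj⟩
    · have h3 : r ∣ Fintype.card F ^ (2 * (k + 1)) := dvd_pow h1 (by omega)
      have h4 : 1 ≤ Fintype.card F ^ (2 * (k + 1)) := Nat.one_le_pow _ _ (by omega)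
      have h5 : r ∣ 1 := by
        have := Nat.dvd_sub h3 hr1
        rwa [Nat.sub_sub_self h4] at this
      exact hr.one_lt.ne' (Nat.dvd_one.1 h5)
    · exact hr2 j hj0 (by omega) hj

end Cfsg.Agent.S2394
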