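import Cfsg.Statements.S2402
import Cfsg.Agent.Lib.Helper5.SLnGen

set_option autoImplicit false
open Cfsg

namespace Cfsg.Agent.S2402


open Matrix Matrix.SpecialLinearGroup Cfsg.Agent.Lib.Helper5 Polynomial

theorem exists_sq_add_sq {K : Type*} [Field K] [Fintype K] (c : K) :
    ∃ a b : K, a ^ 2 + b ^ 2 = c := by
  by_cases h2 : ringChar K = 2
  · obtain ⟨a, ha⟩ := FiniteField.isSquare_of_char_two h2 c
    exact ⟨a, 0, by rw [ha]; ring⟩
  · have hodd := FiniteField.odd_card_of_char_ne_two h2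
    obtain ⟨a, b, hab⟩ := FiniteField.exists_root_sum_quadratic (R := K) (f := X ^ 2)
      (g := X ^ 2 - C c) (degree_X_pow 2) (degree_X_pow_sub_C (by decide) _) hodd
    refine ⟨a, b, ?_⟩
    rw [← sub_eq_zero]
    simpa only [eval_C, eval_X, eval_pow, eval_sub, ← add_sub_assoc] using hab

section
variable {K : Type*} [Field K] {n : ℕ}

theorem Wmat_mul_diagonal (d : Fin (n + 1) → K) :
    Wmat K n * Matrix.diagonal d = Matrix.diagonal (fun i => d (cyc i)) * Wmat K n := by
  ext i j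
  rw [Matrix.mul_diagonal, Matrix.diagonal_mul, Wmat_apply]
  by_cases h : j = cyc i
  · rw [if_pos h, h, mul_comm]
  · rw [if_neg h, zero_mul, mul_zero]

theorem diagonal_mul_transvection (d : Fin (n + 1) → K) (a b : Fin (n + 1)) (c : K) :
    Matrix.diagonal d * Matrix.transvection a b (c * d b)
      = Matrix.transvection a b (d a * c) * Matrix.diagonal d := by
  unfold Matrix.transvection
  rw [mul_add, add_mul, mul_one, one_mul]
  congr 1
  ext i j
  rw [Matrix.diagonal_mul, Matrix.mul_diagonal, Matrix.single_apply, Matrix.single_apply]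
  by_cases h : a = i ∧ b = j
  · rw [if_pos h, if_pos h, ← h.1, ← h.2]
    ring
  · rw [if_neg h, if_neg h, mul_zero, zero_mul]

theorem diag_semiconj (s : SpecialLinearGroup (Fin (n + 1)) K) (e : Fin (n + 1) → K)
    (hs : (s : Matrix (Fin (n + 1)) (Fin (n + 1)) K) = Matrix.diagonal e)
    {a b : Fin (n + 1)} (hab : a ≠ b) (c : K) :
    s * transvection hab (c * e b) = transvection hab (e a * c) * s := by
  apply Subtype.ext
  rw [Matrix.SpecialLinearGroup.coe_mul, Matrix.SpecialLinearGroup.coe_mul, hs]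
  exact diagonal_mul_transvection e a b c

theorem diag_conj (s : SpecialLinearGroup (Fin (n + 1)) K) (e : Fin (n + 1) → K)
    (hs : (s : Matrix (Fin (n + 1)) (Fin (n + 1)) K) = Matrix.diagonal e)
    {a b : Fin (n + 1)} (hab : a ≠ b) (he : e b ≠ 0) (c : K) :
    s * transvection hab c * s⁻¹ = transvection hab (e a * c * (e b)⁻¹) := by
  have h1 := diag_semiconj s e hs hab (c * (e b)⁻¹)
  rw [mul_assoc c, inv_mul_cancel₀ he, mul_one] at h1
  rw [h1, mul_assoc, mul_inv_cancel, mul_one, mul_assoc]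

theorem conj_coe (g a : SpecialLinearGroup (Fin (n + 1)) K)
    (B : Matrix (Fin (n + 1)) (Fin (n + 1)) K)
    (h : (g : Matrix (Fin (n + 1)) (Fin (n + 1)) K) * (a : Matrix (Fin (n + 1)) (Fin (n + 1)) K)
      = B * (g : Matrix (Fin (n + 1)) (Fin (n + 1)) K)) :
    ((g * a * g⁻¹ : SpecialLinearGroup (Fin (n + 1)) K) : Matrix (Fin (n + 1)) (Fin (n + 1)) K)
      = B := by
  rw [Matrix.SpecialLinearGroup.coe_mul, Matrix.SpecialLinearGroup.coe_mul, h, Matrix.mul_assoc,
    ← Matrix.SpecialLinearGroup.coe_mul, mul_inv_cancel, Matrix.SpecialLinearGroup.coe_one,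
    Matrix.mul_one]

theorem diag_commute (s s' : SpecialLinearGroup (Fin (n + 1)) K) (e e' : Fin (n + 1) → K)
    (hs : (s : Matrix (Fin (n + 1)) (Fin (n + 1)) K) = Matrix.diagonal e)
    (hs' : (s' : Matrix (Fin (n + 1)) (Fin (n + 1)) K) = Matrix.diagonal e') :
    s * s' = s' * s := by
  apply Subtype.ext
  rw [Matrix.SpecialLinearGroup.coe_mul, Matrix.SpecialLinearGroup.coe_mul, hs, hs',
    Matrix.diagonal_mul_diagonal, Matrix.diagonal_mul_diagonal]
  congr 1
  funext i
  exact mul_comm _ _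

/-- The closure property: if the root subgroup parameter set of `H` is stable under
multiplication by `κ ^ 2` for a generator `κ` and contains a nonzero element, it is everything. -/
theorem root_all [Fintype K] (H : Subgroup (SpecialLinearGroup (Fin (n + 1)) K))
    {a b : Fin (n + 1)} (hab : a ≠ b) (k : Kˣ) (hk : ∀ u : Kˣ, u ∈ Subgroup.zpowers k)
    (hstab : ∀ c : K, transvection hab c ∈ H → transvection hab ((k : K) ^ 2 * c) ∈ H)
    (c₀ : K) (hc₀ : c₀ ≠ 0) (hc₀H : transvection hab c₀ ∈ H) (c : K) :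
    transvection hab c ∈ H := by
  have hpow : ∀ m : ℕ, ∀ c : K, transvection hab c ∈ H →
      transvection hab ((((k ^ m : Kˣ) : K)) ^ 2 * c) ∈ H := by
    intro m
    induction m with
    | zero => intro c hc; simpa using hc
    | succ m ih =>
      intro c hc
      have h1 := hstab _ (ih c hc)
      have e : ((k : K)) ^ 2 * ((((k ^ m : Kˣ) : K)) ^ 2 * c)
          = (((k ^ (m + 1) : Kˣ) : K)) ^ 2 * c := by
        rw [pow_succ k m, Units.val_mul]
        ring
      rw [e] at h1
      exact h1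
  have hsq : ∀ a' : K, transvection hab (a' ^ 2 * c₀) ∈ H := by
    intro a'
    by_cases ha : a' = 0
    · rw [ha]
      simp
    · obtain ⟨m, hm⟩ := mem_powers_iff_mem_zpowers.2
        (hk (Units.mk0 a' ha))
      have h1 := hpow m c₀ hc₀H
      have hm' : (k ^ m : Kˣ) = Units.mk0 a' ha := hm
      rw [hm', Units.val_mk0] at h1
      exact h1
  obtain ⟨a', b', hab'⟩ := exists_sq_add_sq (c * c₀⁻¹)
  have e : c = a' ^ 2 * c₀ + b' ^ 2 * c₀ := by
    rw [← add_mul, hab', mul_assoc, inv_mul_cancel₀ hc₀, mul_one]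
  rw [e, transvection_add]
  exact H.mul_mem (hsq a') (hsq b')

end


/-- Explicit two-element generation of `PSL_{n+1}(K)` for a finite field `K` with more than three elements: let `k` generate the multiplicative group of `K`, `h = diag(k, k⁻¹, 1, …, 1)`, `x = 1 + E₁₂` (the elementary transvection) and `w` the monomial matrix with entries `1` in positions `(i, i+1)` and `(−1)^n` in position `(n+1, 1)`. Then `h` and `x·w` generate `SL_{n+1}(K)` modulo its centre: the subgroup they generate together with the centre is everything. -/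
theorem result {K : Type*} [Field K] [Fintype K] (hK : 3 < Fintype.card K) (n : ℕ) (hn : 1 ≤ n)
    (k : Kˣ) (hk : ∀ u : Kˣ, u ∈ Subgroup.zpowers k)
    (h x w : Matrix.SpecialLinearGroup (Fin (n + 1)) K)
    (hh : (h : Matrix (Fin (n + 1)) (Fin (n + 1)) K) =
      Matrix.diagonal (fun i => if i.val = 0 then (k : K) else if i.val = 1 then ((k⁻¹ : Kˣ) : K) else 1))
    (hx : (x : Matrix (Fin (n + 1)) (Fin (n + 1)) K) = Matrix.transvection (0 : Fin (n + 1)) (1 : Fin (n + 1)) 1)
    (hw : (w : Matrix (Fin (n + 1)) (Fin (n + 1)) K) =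
      Matrix.of (fun i j => if j.val = i.val + 1 then 1 else if i.val = n ∧ j.val = 0 then (-1) ^ n else 0)) :
    Subgroup.closure ({h, x * w} : Set (Matrix.SpecialLinearGroup (Fin (n + 1)) K)) ⊔
      Subgroup.center (Matrix.SpecialLinearGroup (Fin (n + 1)) K) = ⊤ := by
  obtain ⟨m, rfl⟩ : ∃ m, n = m + 1 := ⟨n - 1, by omega⟩
  have h01 : (0 : Fin (m + 1 + 1)) ≠ 1 := Fin.zero_ne_one
  have hhH : h ∈ Subgroup.closure
      ({h, x * w} : Set (Matrix.SpecialLinearGroup (Fin (m + 1 + 1)) K)) :=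
    Subgroup.subset_closure (Set.mem_insert _ _)
  have hyH : x * w ∈ Subgroup.closure
      ({h, x * w} : Set (Matrix.SpecialLinearGroup (Fin (m + 1 + 1)) K)) :=
    Subgroup.subset_closure (Set.mem_insert_of_mem _ (Set.mem_singleton _))
  generalize Subgroup.closure
      ({h, x * w} : Set (Matrix.SpecialLinearGroup (Fin (m + 1 + 1)) K)) = H at hhH hyH ⊢
  have hw' : (w : Matrix (Fin (m + 1 + 1)) (Fin (m + 1 + 1)) K) = Wmat K (m + 1) := hw
  obtain ⟨d, hd⟩ : ∃ d : Fin (m + 1 + 1) → K, d = (fun i : Fin (m + 1 + 1) => if i.val = 0 then (k : K)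
      else if i.val = 1 then ((k⁻¹ : Kˣ) : K) else 1) := ⟨_, rfl⟩
  rw [← hd] at hh
  have hx1 : x = transvection h01 1 := Subtype.ext (by rw [hx]; rfl)
  have hd0 : d 0 = (k : K) := by rw [hd]; simp
  have hd1 : d 1 = ((k⁻¹ : Kˣ) : K) := by rw [hd]; simp
  have hc0 : d (cyc 0) = ((k⁻¹ : Kˣ) : K) := by
    have e : (cyc (0 : Fin (m + 1 + 1))).val = 1 := by
      rw [cyc_val, if_neg (by simp)]
      simp
    rw [hd]
    simp only [e]
    simp
  have hc1 : d (cyc 1) = if m = 0 then (k : K) else 1 := by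
    have e : (cyc (1 : Fin (m + 1 + 1))).val = if m = 0 then 0 else 2 := by
      rw [cyc_val, Fin.val_one]
      by_cases hm : m = 0
      · rw [if_pos (by omega), if_pos hm]
      · rw [if_neg (by omega), if_neg hm]
    rw [hd]
    simp only [e]
    by_cases hm : m = 0
    · simp [hm]
    · simp [hm]
  -- facts on k
  have hord : orderOf k = Fintype.card K - 1 := by
    classical
    rw [orderOf_eq_card_of_forall_mem_zpowers hk, Nat.card_eq_fintype_card, Fintype.card_units]
  have hk2 : (k : K) ^ 2 ≠ 1 := by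
    intro hk2
    have h1 : k ^ 2 = 1 := by
      apply Units.ext
      rw [Units.val_pow_eq_pow_val, hk2, Units.val_one]
    have h2 := orderOf_dvd_of_pow_eq_one h1
    have h3 := Nat.le_of_dvd (by norm_num) h2
    omega
  have hk1 : (k : K) ≠ 1 := fun e => hk2 (by rw [e, one_pow])
  have hkne : (k : K) ≠ 0 := Units.ne_zero k
  have hkinv : ((k⁻¹ : Kˣ) : K) = (k : K)⁻¹ := Units.val_inv_eq_inv_val k
  -- stability under conjugation by h
  have hstab : ∀ c : K, transvection h01 c ∈ H → transvection h01 ((k : K) ^ 2 * c) ∈ H := by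
    intro c hc
    have h1 := diag_conj h d hh h01 (by rw [hd1]; exact Units.ne_zero _) c
    rw [hd0, hd1, hkinv, inv_inv] at h1
    have e : (k : K) * c * (k : K) = (k : K) ^ 2 * c := by ring
    rw [e] at h1
    rw [← h1]
    exact H.mul_mem (H.mul_mem hhH hc) (H.inv_mem hhH)
  -- the conjugate of h by the Coxeter element
  have hh' : ((w * h * w⁻¹ : Matrix.SpecialLinearGroup (Fin (m + 1 + 1)) K) :
      Matrix (Fin (m + 1 + 1)) (Fin (m + 1 + 1)) K) = Matrix.diagonal (fun i => d (cyc i)) :=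
    conj_coe w h _ (by rw [hw', hh]; exact Wmat_mul_diagonal d)
  obtain ⟨h', hh'def⟩ : ∃ h' : Matrix.SpecialLinearGroup (Fin (m + 1 + 1)) K,
      h' = w * h * w⁻¹ := ⟨_, rfl⟩
  rw [← hh'def] at hh'
  have hc1ne : d (cyc 1) ≠ 0 := by
    rw [hc1]
    split_ifs
    · exact hkne
    · exact one_ne_zero
  have hgH : (x * w) * h * (x * w)⁻¹ ∈ H := H.mul_mem (H.mul_mem hyH hhH) (H.inv_mem hyH)
  have hg : (x * w) * h * (x * w)⁻¹
      = transvection h01 (1 + d (cyc 0) * (-1) * (d (cyc 1))⁻¹) * h' := by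
    have e1 : (x * w) * h * (x * w)⁻¹ = x * (h' * x⁻¹ * h'⁻¹) * h' := by
      rw [hh'def]
      group
    rw [e1, hx1, transvection_inv, diag_conj h' _ hh' h01 hc1ne (-1), ← transvection_add]
  have hcomm : h * h' = h' * h := diag_commute h h' _ _ hh hh'
  obtain ⟨c₂, hc₂⟩ : ∃ c₂ : K, c₂ = 1 + d (cyc 0) * (-1) * (d (cyc 1))⁻¹ := ⟨_, rfl⟩
  rw [← hc₂] at hg
  have hc₂ne : c₂ ≠ 0 := by
    rw [hc₂, hc0, hc1, hkinv]
    split_ifs
    · intro h0
      apply hk2
      field_simp at h0
      linear_combination h0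
    · intro h0
      apply hk1
      field_simp at h0
      linear_combination h0
  have hcommH : h * ((x * w) * h * (x * w)⁻¹) * h⁻¹ * ((x * w) * h * (x * w)⁻¹)⁻¹ ∈ H :=
    H.mul_mem (H.mul_mem (H.mul_mem hhH hgH) (H.inv_mem hhH)) (H.inv_mem hgH)
  have hval : h * ((x * w) * h * (x * w)⁻¹) * h⁻¹ * ((x * w) * h * (x * w)⁻¹)⁻¹
      = transvection h01 ((k : K) ^ 2 * c₂ + -c₂) := by
    rw [hg]
    have hc' : h' * h⁻¹ = h⁻¹ * h' := by
      rw [eq_inv_mul_iff_mul_eq, ← mul_assoc, hcomm, mul_assoc, mul_inv_cancel, mul_one]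
    have e1 : h * (transvection h01 c₂ * h') * h⁻¹ * (transvection h01 c₂ * h')⁻¹
        = h * transvection h01 c₂ * (h' * h⁻¹) * h'⁻¹ * (transvection h01 c₂)⁻¹ := by group
    have e2 : h * transvection h01 c₂ * (h⁻¹ * h') * h'⁻¹ * (transvection h01 c₂)⁻¹
        = h * transvection h01 c₂ * h⁻¹ * (transvection h01 c₂)⁻¹ := by group
    rw [e1, hc', e2, diag_conj h d hh h01 (by rw [hd1]; exact Units.ne_zero _) c₂,
      transvection_inv, ← transvection_add, hd0, hd1, hkinv, inv_inv]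
    congr 1
    ring
  rw [hval] at hcommH
  have hc₀ne : (k : K) ^ 2 * c₂ + -c₂ ≠ 0 := by
    have e : (k : K) ^ 2 * c₂ + -c₂ = ((k : K) ^ 2 - 1) * c₂ := by ring
    rw [e]
    exact mul_ne_zero (sub_ne_zero.2 hk2) hc₂ne
  have hroot : ∀ c : K, transvection h01 c ∈ H :=
    root_all H h01 k hk hstab _ hc₀ne hcommH
  have hxH : x ∈ H := by rw [hx1]; exact hroot 1
  have hwH : w ∈ H := by
    have e : w = x⁻¹ * (x * w) := by group
    rw [e]
    exact H.mul_mem (H.inv_mem hxH) hyH
  have hH : H = ⊤ := by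
    apply eq_top_of_coxeter_root (by omega) H w hw' hwH
    intro hi hj hab c
    have e0 : (⟨0, hi⟩ : Fin (m + 1 + 1)) = 0 := rfl
    have e1 : (⟨1, hj⟩ : Fin (m + 1 + 1)) = 1 := rfl
    have := hroot c
    exact this
  rw [hH, top_sup_eq]

end Cfsg.Agent.S2402
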