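import Cfsg.Statements.S2403
import Mathlib
import Cfsg.Agent.Lib.Helper5.SLnGen

set_option autoImplicit false
open Cfsg

namespace Cfsg.Agent.S2403

open Matrix Matrix.SpecialLinearGroup Cfsg.Agent.Lib.Helper5

theorem small_field_cases {K : Type*} [Field K] [Fintype K] (hK : Fintype.card K ≤ 3) (c : K) :
    c = 0 ∨ c = 1 ∨ c = -1 := by
  classical
  by_contra hcon
  push Not at hcon
  obtain ⟨h0, h1, hm1⟩ := hcon
  by_cases h2 : (-1 : K) = 1
  · -- characteristic two: the field has two elements
    have h2' : (2 : K) = 0 := by linear_combination -h2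
    have hchar : ringChar K = 2 :=
      CharP.ringChar_of_prime_eq_zero Nat.prime_two (by exact_mod_cast h2')
    have heven : Fintype.card K % 2 = 0 := FiniteField.even_card_iff_char_two.1 hchar
    have hcard : Fintype.card K = 2 := by
      have := Fintype.one_lt_card (α := K)
      omega
    have h3 : ({0, 1, c} : Finset K).card = 3 := by
      rw [Finset.card_insert_of_notMem, Finset.card_insert_of_notMem, Finset.card_singleton]
      · simp only [Finset.mem_singleton]
        exact fun h => h1 h.symm
      · simp only [Finset.mem_insert, Finset.mem_singleton, not_or]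
        exact ⟨zero_ne_one, fun h => h0 h.symm⟩
    have := Finset.card_le_univ ({0, 1, c} : Finset K)
    omega
  · have h3 : ({0, 1, -1, c} : Finset K).card = 4 := by
      rw [Finset.card_insert_of_notMem, Finset.card_insert_of_notMem,
        Finset.card_insert_of_notMem, Finset.card_singleton]
      · simp only [Finset.mem_singleton]
        exact fun h => hm1 h.symm
      · simp only [Finset.mem_insert, Finset.mem_singleton, not_or]
        exact ⟨fun h => h2 h.symm, fun h => h1 h.symm⟩
      · simp only [Finset.mem_insert, Finset.mem_singleton, not_or]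
        refine ⟨zero_ne_one, ?_, fun h => h0 h.symm⟩
        intro h
        have : (1 : K) = 0 := by linear_combination h
        exact one_ne_zero this
    have := Finset.card_le_univ ({0, 1, -1, c} : Finset K)
    omega


/-- Explicit two-element generation of `PSL_{n+1}(K)` over the fields with two or three elements: with `x = 1 + E₁₂` and `w` the monomial matrix with entries `1` in positions `(i, i+1)` and `(−1)^n` in position `(n+1, 1)`, the elements `x` and `w` generate `SL_{n+1}(K)` modulo its centre. -/
theorem result {K : Type*} [Field K] [Fintype K] (hK : Fintype.card K ≤ 3) (n : ℕ) (hn : 1 ≤ n)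
    (x w : Matrix.SpecialLinearGroup (Fin (n + 1)) K)
    (hx : (x : Matrix (Fin (n + 1)) (Fin (n + 1)) K) = Matrix.transvection (0 : Fin (n + 1)) (1 : Fin (n + 1)) 1)
    (hw : (w : Matrix (Fin (n + 1)) (Fin (n + 1)) K) =
      Matrix.of (fun i j => if j.val = i.val + 1 then 1 else if i.val = n ∧ j.val = 0 then (-1) ^ n else 0)) :
    Subgroup.closure ({x, w} : Set (Matrix.SpecialLinearGroup (Fin (n + 1)) K)) ⊔
      Subgroup.center (Matrix.SpecialLinearGroup (Fin (n + 1)) K) = ⊤ := by
  have hH : Subgroup.closure ({x, w} : Set (Matrix.SpecialLinearGroup (Fin (n + 1)) K)) = ⊤ := by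
    apply eq_top_of_coxeter_root hn _ w hw
      (Subgroup.subset_closure (Set.mem_insert_of_mem _ (Set.mem_singleton _)))
    intro hi hj hab c
    have hxH : x ∈ Subgroup.closure ({x, w} : Set (Matrix.SpecialLinearGroup (Fin (n + 1)) K)) :=
      Subgroup.subset_closure (Set.mem_insert _ _)
    have e0 : (⟨0, hi⟩ : Fin (n + 1)) = 0 := rfl
    have e1 : (⟨1, hj⟩ : Fin (n + 1)) = 1 := by
      apply Fin.ext
      rw [Fin.val_one']
      exact (Nat.mod_eq_of_lt hj).symm
    have hx1 : transvection hab (1 : K) = x := by
      apply Subtype.ext
      rw [hx, transvection_coe]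
      simp only [e0, e1]
      rfl
    rcases small_field_cases hK c with rfl | rfl | rfl
    · rw [transvection_coeff_zero]
      exact Subgroup.one_mem _
    · rw [hx1]
      exact hxH
    · rw [← transvection_inv, hx1]
      exact Subgroup.inv_mem _ hxH
  rw [hH, top_sup_eq]

end Cfsg.Agent.S2403
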