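import Cfsg.Statements.S2413
import Cfsg.Agent.Lib.Helper5.OrthGen.OddMain
import Cfsg.Agent.Lib.Helper2.OrthTransfer
import Cfsg.Agent.S0301
import Cfsg.Agent.S2411

set_option autoImplicit false
open Cfsg

namespace Cfsg.Agent.S2413

/-- The simple orthogonal group `PΩ_{2m+1}(q)` (commutator subgroup of the orthogonal group of `x₀² + Σ x_i y_i` modulo its centre) with `m ≥ 2` and `q` odd is generated by two of its elements. -/
theorem result {F : Type*} [Field F] [Fintype F] (hodd : Odd (Fintype.card F)) (m : ℕ) (hm : 2 ≤ m) :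
    ∃ a b : Cfsg.POmega F (Cfsg.quadFormOdd m F), Subgroup.closure ({a, b} : Set (Cfsg.POmega F (Cfsg.quadFormOdd m F))) = ⊤ := by
  classical
  have h2 : (2 : F) ≠ 0 := by
    obtain ⟨p, hchar⟩ := CharP.exists F
    intro h20
    have hp2 : p = 2 := by
      have hp : p.Prime := CharP.char_is_prime F p
      have h1 : ((2 : ℕ) : F) = 0 := by exact_mod_cast h20
      rw [CharP.cast_eq_zero_iff F p] at h1
      exact (Nat.prime_dvd_prime_iff_eq hp Nat.prime_two).1 h1
    subst hp2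
    have h1 : ((Fintype.card F : ℕ) : F) = 0 := Nat.cast_card_eq_zero F
    rw [CharP.cast_eq_zero_iff F 2] at h1
    exact (Nat.not_even_iff_odd.2 hodd) (even_iff_two_dvd.2 h1)
  rcases Nat.lt_or_ge m 3 with hm3 | hm3
  · -- `m = 2`: the isomorphism with `PSp_4(q)`
    have hm2 : m = 2 := by omega
    subst hm2
    obtain ⟨e⟩ := Cfsg.Agent.S0301.result hodd
    have hq : 2 < Fintype.card F := by
      have h1 : 1 < Fintype.card F := Fintype.one_lt_card
      rcases hodd with ⟨k, hk⟩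
      omega
    obtain ⟨a, b, hab⟩ := Cfsg.Agent.S2411.result (F := F) 2 le_rfl (fun _ => hq)
    exact ⟨e.symm a, e.symm b,
      Cfsg.Agent.Lib.Helper5.OrthGen.closure_pair_map_top e.symm.toMonoidHom e.symm.surjective a b hab⟩
  · obtain ⟨n, rfl⟩ : ∃ n, m = n + 3 := ⟨m - 3, by omega⟩
    obtain ⟨l, hl⟩ := IsCyclic.exists_generator (α := Fˣ)
    exact Cfsg.Agent.Lib.Helper5.OrthGen.two_gen_POmega (Cfsg.quadFormOdd (n + 3) F)
      (⇑(Cfsg.Agent.Lib.Helper5.OrthGen.QO n F))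
      (Cfsg.Agent.Lib.Helper5.OBN.phiOdd (n + 3) F)
      (Cfsg.Agent.Lib.Helper5.OBN.Qg_phiOdd (n + 3))
      (Cfsg.Agent.Lib.Helper5.OrthGen.sO n l * Cfsg.Agent.Lib.Helper5.OrthGen.tO n F)
      (Cfsg.Agent.Lib.Helper5.OrthGen.nO n F)
      (Subgroup.mul_mem _ (Cfsg.Agent.Lib.Helper5.OrthGen.sO_mem h2 l)
        (Cfsg.Agent.Lib.Helper5.OrthGen.tO_mem h2))
      (Cfsg.Agent.Lib.Helper5.OrthGen.nO_mem h2)
      (Cfsg.Agent.Lib.Helper5.OrthGen.commutator_le_of_gens h2 _ l hl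
        (Subgroup.subset_closure (by simp)) (Subgroup.subset_closure (by simp)))

end Cfsg.Agent.S2413
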