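import Mathlib
-- Template for statement S2416 (row 2416; see /opt/grader/pristine/manifest.json for weights).
-- Copy to Cfsg/Agent/S2416.lean and replace the sorry. The statement below is byte-identical to the frozen
-- statement Cfsg.CfsgFrozen.S2416 (Cfsg/Statements/S2416.lean; the theorem Cfsg.lie4_chevalley_generated_by_monomial_and_short_root_subgroup);
-- the grader kernel-checks Cfsg.Agent.S2416.result against that frozen type. Keep the theorem IN THIS FILE
-- (a `result` declared elsewhere and merely imported here is not credited); helpers may live anywhere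
-- under Cfsg/Agent/.
import Cfsg.Statements.S2416
import Cfsg.Prelude.Def_ChevAutomorphisms
import Cfsg.Agent.Lib.Helper3.ChevData.G2Gen
import Cfsg.Agent.Lib.Helper3.ChevData.B2Gen
import Cfsg.Agent.Lib.Helper3.ChevData.D4Gen
import Cfsg.Agent.Lib.Helper3.ChevData.F4Gen
import Cfsg.Agent.Lib.Helper3.ChevData.E6Gen
import Cfsg.Agent.Lib.Helper3.ChevData.E7Gen
import Cfsg.Agent.Lib.Helper3.ChevData.E8Gen

set_option autoImplicit false
open scoped MatrixGroups
open Cfsg
open Cfsg.Agent.Lib.Helper3.ChevM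

namespace Cfsg.Agent.S2416

/-- A Chevalley group of type G₂, B₂, D₄, F₄, E₆, E₇ or E₈ over a finite field lies in (indeed equals) the subgroup generated by its monomial subgroup `N` and a single fundamental root subgroup `X_p`, where `p` is a short fundamental root if there are two root lengths (any fundamental root otherwise), provided the characteristic is not 2 for types B₂, F₄ and not 3 for type G₂ (and the field has more than two elements for B₂, G₂). -/
theorem result {K : Type*} [Field K] [Finite K] (D : Cfsg.Lie.ChevalleyDatum) (hD : D ∈ [Cfsg.Lie.chevG2, Cfsg.Lie.chevB2, Cfsg.Lie.chevD4, Cfsg.Lie.chevF4, Cfsg.Lie.chevE6, Cfsg.Lie.chevE7, Cfsg.Lie.chevE8])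
    (hK : D ∈ [Cfsg.Lie.chevB2, Cfsg.Lie.chevG2] → ∃ x : K, x ≠ 0 ∧ x ≠ 1)
    (h2 : D ∈ [Cfsg.Lie.chevB2, Cfsg.Lie.chevF4] → ringChar K ≠ 2) (h3 : D = Cfsg.Lie.chevG2 → ringChar K ≠ 3)
    (i : ℕ) (hi : i < D.rank) (hshort : D.isLong (D.simple i) = false) :
    D.group K ≤ D.monomialSubgroup K ⊔ D.rootSubgroup K (D.simple i) := by
  have h3' : ringChar K ≠ 3 → ((3 : ℕ) : K) ≠ 0 := by
    intro h3 h0
    have hd : ringChar K ∣ 3 := ringChar.dvd h0
    rcases (Nat.prime_three.eq_one_or_self_of_dvd _ hd) with h1 | h1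
    · exact CharP.ringChar_ne_one h1
    · exact h3 h1
  have h2' : ringChar K ≠ 2 → ((2 : ℕ) : K) ≠ 0 := by
    intro h2
    have := Ring.two_ne_zero h2
    exact_mod_cast this
  simp only [List.mem_cons, List.not_mem_nil, or_false] at hD
  rcases hD with rfl | rfl | rfl | rfl | rfl | rfl | rfl
  · have hN : cdG2.D.monomialSubgroup K ≤ cdG2.D.monomialSubgroup K ⊔ cdG2.D.rootSubgroup K (cdG2.D.simple i) := le_sup_left
    have hgi : relG2.Good (cdG2.D.monomialSubgroup K ⊔ cdG2.D.rootSubgroup K (cdG2.D.simple i)) (cdG2.D.simple i) :=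
      relG2.good_of_rootSubgroup_le _ _ le_sup_right
    obtain ⟨hw1, hw2⟩ := g2GenWs i hi hshort
    have hdec := of_pairRange (m := 12) (n := 12) g2Hdec
    have hg0 : relG2.Good (cdG2.D.monomialSubgroup K ⊔ cdG2.D.rootSubgroup K (cdG2.D.simple i)) 7 := by
      rw [← hw2]
      refine monoG2.good_reflW hdec _ hN _ ?_ _ (relG2.simple_lt i hi) hgi
      intro j hj
      exact of_decide_eq_true (List.all_eq_true.mp hw1 j hj)
    exact monoG2.group_le_of_gen2Check commG2 hdec _ hN 7 (by decide) hg0 3 (h3' (h3 rfl)) wt0G2 abG2 g2Gen2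
  · have hN : cdB2.D.monomialSubgroup K ≤ cdB2.D.monomialSubgroup K ⊔ cdB2.D.rootSubgroup K (cdB2.D.simple i) := le_sup_left
    have hgi : relB2.Good (cdB2.D.monomialSubgroup K ⊔ cdB2.D.rootSubgroup K (cdB2.D.simple i)) (cdB2.D.simple i) :=
      relB2.good_of_rootSubgroup_le _ _ le_sup_right
    obtain ⟨hw1, hw2⟩ := b2GenWs i hi hshort
    have hdec := of_pairRange (m := 8) (n := 8) b2Hdec
    have hg0 : relB2.Good (cdB2.D.monomialSubgroup K ⊔ cdB2.D.rootSubgroup K (cdB2.D.simple i)) 5 := by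
      rw [← hw2]
      refine monoB2.good_reflW hdec _ hN _ ?_ _ (relB2.simple_lt i hi) hgi
      intro j hj
      exact of_decide_eq_true (List.all_eq_true.mp hw1 j hj)
    exact monoB2.group_le_of_gen2Check commB2 hdec _ hN 5 (by decide) hg0 2 (h2' (h2 (by simp))) wt0B2 abB2 b2Gen2
  · have hN : cdD4.D.monomialSubgroup K ≤ cdD4.D.monomialSubgroup K ⊔ cdD4.D.rootSubgroup K (cdD4.D.simple i) := le_sup_left
    have hgi : relD4.Good (cdD4.D.monomialSubgroup K ⊔ cdD4.D.rootSubgroup K (cdD4.D.simple i)) (cdD4.D.simple i) :=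
      relD4.good_of_rootSubgroup_le _ _ le_sup_right
    obtain ⟨hw1, hw2⟩ := d4GenWs i hi hshort
    have hdec := of_pairRange (m := 24) (n := 24) d4Hdec
    have hg0 : relD4.Good (cdD4.D.monomialSubgroup K ⊔ cdD4.D.rootSubgroup K (cdD4.D.simple i)) 18 := by
      rw [← hw2]
      refine monoD4.good_reflW hdec _ hN _ ?_ _ (relD4.simple_lt i hi) hgi
      intro j hj
      exact of_decide_eq_true (List.all_eq_true.mp hw1 j hj)
    exact monoD4.group_le_of_gen2Check commD4 hdec _ hN 18 (by decide) hg0 1 (by simp) wt0D4 abD4 d4Gen2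
  · have hN : cdF4.D.monomialSubgroup K ≤ cdF4.D.monomialSubgroup K ⊔ cdF4.D.rootSubgroup K (cdF4.D.simple i) := le_sup_left
    have hgi : relF4.Good (cdF4.D.monomialSubgroup K ⊔ cdF4.D.rootSubgroup K (cdF4.D.simple i)) (cdF4.D.simple i) :=
      relF4.good_of_rootSubgroup_le _ _ le_sup_right
    obtain ⟨hw1, hw2⟩ := f4GenWs i hi hshort
    have hdec := of_pairRange (m := 48) (n := 48) f4Hdec
    have hg0 : relF4.Good (cdF4.D.monomialSubgroup K ⊔ cdF4.D.rootSubgroup K (cdF4.D.simple i)) 33 := by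
      rw [← hw2]
      refine monoF4.good_reflW hdec _ hN _ ?_ _ (relF4.simple_lt i hi) hgi
      intro j hj
      exact of_decide_eq_true (List.all_eq_true.mp hw1 j hj)
    exact monoF4.group_le_of_gen2Check commF4 hdec _ hN 33 (by decide) hg0 2 (h2' (h2 (by simp))) wt0F4 abF4 f4Gen2
  · have hN : cdE6.D.monomialSubgroup K ≤ cdE6.D.monomialSubgroup K ⊔ cdE6.D.rootSubgroup K (cdE6.D.simple i) := le_sup_left
    have hgi : relE6.Good (cdE6.D.monomialSubgroup K ⊔ cdE6.D.rootSubgroup K (cdE6.D.simple i)) (cdE6.D.simple i) :=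
      relE6.good_of_rootSubgroup_le _ _ le_sup_right
    obtain ⟨hw1, hw2⟩ := e6GenWs i hi hshort
    have hdec := of_pairRange (m := 72) (n := 72) e6Hdec
    have hg0 : relE6.Good (cdE6.D.monomialSubgroup K ⊔ cdE6.D.rootSubgroup K (cdE6.D.simple i)) 56 := by
      rw [← hw2]
      refine monoE6.good_reflW hdec _ hN _ ?_ _ (relE6.simple_lt i hi) hgi
      intro j hj
      exact of_decide_eq_true (List.all_eq_true.mp hw1 j hj)
    exact monoE6.group_le_of_gen2Check commE6 hdec _ hN 56 (by decide) hg0 1 (by simp) wt0E6 abE6 e6Gen2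
  · have hN : cdE7.D.monomialSubgroup K ≤ cdE7.D.monomialSubgroup K ⊔ cdE7.D.rootSubgroup K (cdE7.D.simple i) := le_sup_left
    have hgi : relE7.Good (cdE7.D.monomialSubgroup K ⊔ cdE7.D.rootSubgroup K (cdE7.D.simple i)) (cdE7.D.simple i) :=
      relE7.good_of_rootSubgroup_le _ _ le_sup_right
    obtain ⟨hw1, hw2⟩ := e7GenWs i hi hshort
    have hdec := of_pairRange (m := 126) (n := 126) e7Hdec
    have hg0 : relE7.Good (cdE7.D.monomialSubgroup K ⊔ cdE7.D.rootSubgroup K (cdE7.D.simple i)) 93 := by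
      rw [← hw2]
      refine monoE7.good_reflW hdec _ hN _ ?_ _ (relE7.simple_lt i hi) hgi
      intro j hj
      exact of_decide_eq_true (List.all_eq_true.mp hw1 j hj)
    exact monoE7.group_le_of_gen2Check commE7 hdec _ hN 93 (by decide) hg0 1 (by simp) wt0E7 abE7 e7Gen2
  · have hN : cdE8.D.monomialSubgroup K ≤ cdE8.D.monomialSubgroup K ⊔ cdE8.D.rootSubgroup K (cdE8.D.simple i) := le_sup_left
    have hgi : relE8.Good (cdE8.D.monomialSubgroup K ⊔ cdE8.D.rootSubgroup K (cdE8.D.simple i)) (cdE8.D.simple i) :=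
      relE8.good_of_rootSubgroup_le _ _ le_sup_right
    obtain ⟨hw1, hw2⟩ := e8GenWs i hi hshort
    have hdec := of_pairRange (m := 240) (n := 240) e8Hdec
    have hg0 : relE8.Good (cdE8.D.monomialSubgroup K ⊔ cdE8.D.rootSubgroup K (cdE8.D.simple i)) 162 := by
      rw [← hw2]
      refine monoE8.good_reflW hdec _ hN _ ?_ _ (relE8.simple_lt i hi) hgi
      intro j hj
      exact of_decide_eq_true (List.all_eq_true.mp hw1 j hj)
    exact monoE8.group_le_of_gen2Check commE8 hdec _ hN 162 (by decide) hg0 1 (by simp) wt0E8 abE8 e8Gen2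

end Cfsg.Agent.S2416
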