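import Mathlib
-- Template for statement S2417 (row 2417; see /opt/grader/pristine/manifest.json for weights).
-- Copy to Cfsg/Agent/S2417.lean and replace the sorry. The statement below is byte-identical to the frozen
-- statement Cfsg.CfsgFrozen.S2417 (Cfsg/Statements/S2417.lean; the theorem Cfsg.lie4_chevalley_generated_by_monomial_and_two_root_subgroups_small_char);
-- the grader kernel-checks Cfsg.Agent.S2417.result against that frozen type. Keep the theorem IN THIS FILE
-- (a `result` declared elsewhere and merely imported here is not credited); helpers may live anywhere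
-- under Cfsg/Agent/.
import Cfsg.Statements.S2417
import Cfsg.Prelude.Def_ChevAutomorphisms
import Cfsg.Agent.Lib.Helper3.ChevData.B2Gen17
import Cfsg.Agent.Lib.Helper3.ChevData.F4Gen17
import Cfsg.Agent.Lib.Helper3.ChevData.G2Gen17

set_option autoImplicit false
open scoped MatrixGroups
open Cfsg
open Cfsg.Agent.Lib.Helper3.ChevM

namespace Cfsg.Agent.S2417

/-- In the characteristics with an exceptional graph symmetry — type B₂ or F₄ in characteristic 2 (field of more than two elements for B₂) and type G₂ in characteristic 3 — the Chevalley group lies in the subgroup generated by its monomial subgroup `N` and the two fundamental root subgroups `X_a`, `X_b` of a short root `a` and a long root `b` joined in the Dynkin diagram. -/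
theorem result {K : Type*} [Field K] [Finite K] (e : Cfsg.Lie.ChevalleyDatum × ℕ)
    (he : e ∈ [(Cfsg.Lie.chevB2, 2), (Cfsg.Lie.chevF4, 2), (Cfsg.Lie.chevG2, 3)]) [CharP K e.2]
    (hK : e.1 = Cfsg.Lie.chevB2 → ∃ x : K, x ≠ 0 ∧ x ≠ 1)
    (i j : ℕ) (hi : i < e.1.rank) (hj : j < e.1.rank) (hshort : e.1.isLong (e.1.simple i) = false)
    (hlong : e.1.isLong (e.1.simple j) = true) (hbond : e.1.bonds i j ≠ 0) :
    e.1.group K ≤ e.1.monomialSubgroup K ⊔ e.1.rootSubgroup K (e.1.simple i) ⊔ e.1.rootSubgroup K (e.1.simple j) := by
  simp only [List.mem_cons, List.not_mem_nil, or_false] at he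
  rcases he with rfl | rfl | rfl
  · obtain ⟨hi', hj'⟩ := b2Gen17ij i hi j hj hshort hlong hbond
    have hdec := of_pairRange (m := 8) (n := 8) b2Hdec
    refine monoB2.group_le_of_genCheck hdec _ (le_sup_of_le_left le_sup_left) [5, 4] ?_ wt17B2 b2Gen17
    intro k hk
    simp only [List.mem_cons, List.not_mem_nil, or_false] at hk
    rcases hk with rfl | rfl
    · refine relB2.good_of_rootSubgroup_le _ _ ?_
      have : cdB2.D.simple i = 5 := hi'
      rw [← this]
      exact le_sup_of_le_left le_sup_right
    · refine relB2.good_of_rootSubgroup_le _ _ ?_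
      have : cdB2.D.simple j = 4 := hj'
      rw [← this]
      exact le_sup_right
  · obtain ⟨hi', hj'⟩ := f4Gen17ij i hi j hj hshort hlong hbond
    have hdec := of_pairRange (m := 48) (n := 48) f4Hdec
    refine monoF4.group_le_of_genCheck hdec _ (le_sup_of_le_left le_sup_left) [27, 25] ?_ wt17F4 f4Gen17
    intro k hk
    simp only [List.mem_cons, List.not_mem_nil, or_false] at hk
    rcases hk with rfl | rfl
    · refine relF4.good_of_rootSubgroup_le _ _ ?_
      have : cdF4.D.simple i = 27 := hi'
      rw [← this]
      exact le_sup_of_le_left le_sup_right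
    · refine relF4.good_of_rootSubgroup_le _ _ ?_
      have : cdF4.D.simple j = 25 := hj'
      rw [← this]
      exact le_sup_right
  · obtain ⟨hi', hj'⟩ := g2Gen17ij i hi j hj hshort hlong hbond
    have hdec := of_pairRange (m := 12) (n := 12) g2Hdec
    refine monoG2.group_le_of_genCheck hdec _ (le_sup_of_le_left le_sup_left) [7, 6] ?_ wt17G2 g2Gen17
    intro k hk
    simp only [List.mem_cons, List.not_mem_nil, or_false] at hk
    rcases hk with rfl | rfl
    · refine relG2.good_of_rootSubgroup_le _ _ ?_
      have : cdG2.D.simple i = 7 := hi'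
      rw [← this]
      exact le_sup_of_le_left le_sup_right
    · refine relG2.good_of_rootSubgroup_le _ _ ?_
      have : cdG2.D.simple j = 6 := hj'
      rw [← this]
      exact le_sup_right

end Cfsg.Agent.S2417
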