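import Mathlib
-- Template for statement S2418 (row 2418; see /opt/grader/pristine/manifest.json for weights).
-- Copy to Cfsg/Agent/S2418.lean and replace the sorry. The statement below is byte-identical to the frozen
-- statement Cfsg.CfsgFrozen.S2418 (Cfsg/Statements/S2418.lean; the theorem Cfsg.lie4_weyl_group_center_generated_by_coxeter_power);
-- the grader kernel-checks Cfsg.Agent.S2418.result against that frozen type. Keep the theorem IN THIS FILE
-- (a `result` declared elsewhere and merely imported here is not credited); helpers may live anywhere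
-- under Cfsg/Agent/.
import Cfsg.Statements.S2418
import Cfsg.Agent.Lib.Helper3.ChevData.B2CoxC
import Cfsg.Agent.Lib.Helper3.ChevData.G2CoxC
import Cfsg.Agent.Lib.Helper3.ChevData.D4CoxC
import Cfsg.Agent.Lib.Helper3.ChevData.F4CoxC
import Cfsg.Agent.Lib.Helper3.ChevData.E6CoxC
import Cfsg.Agent.Lib.Helper3.ChevData.E7CoxC
import Cfsg.Agent.Lib.Helper3.ChevData.E8CoxC

set_option autoImplicit false
open Cfsg
open Cfsg.Agent.Lib.Helper3.ChevM
open Cfsg.Agent.Lib.Helper3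

namespace Cfsg.Agent.S2418

/-- For the Coxeter groups of types B₂, G₂, D₄, F₄, E₇, E₈ the centre has order 2 (the element acting as −1 on the root system) and is generated by a power of the Coxeter element `s₁ s₂ ⋯ s_l`; the Coxeter group of type E₆ has trivial centre. -/
theorem result (c : (Σ n : ℕ, CoxeterMatrix (Fin n)) × ℕ)
    (hc : c ∈ [(⟨2, CoxeterMatrix.B 2⟩, 2), (⟨2, CoxeterMatrix.G₂⟩, 2), (⟨4, Cfsg.Lie.coxeterD4⟩, 2), (⟨4, CoxeterMatrix.F₄⟩, 2),
      (⟨6, CoxeterMatrix.E₆⟩, 1), (⟨7, CoxeterMatrix.E₇⟩, 2), (⟨8, CoxeterMatrix.E₈⟩, 2)]) :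
    Nat.card (Subgroup.center c.1.2.Group) = c.2 ∧
      Subgroup.center c.1.2.Group ≤ Subgroup.zpowers ((List.finRange c.1.1).map c.1.2.simple).prod := by
  simp only [List.mem_cons, List.not_mem_nil, or_false] at hc
  rcases hc with rfl | rfl | rfl | rfl | rfl | rfl | rfl
  · exact monoB2.center_coxeter bnB2.dec b2Sign (CoxeterMatrix.B 2) b2CoxOrd (by decide) b2CoxT1 b2CoxT2 b2CoxT3 b2CoxT4 2 b2CoxNegW
  · exact monoG2.center_coxeter bnG2.dec g2Sign (CoxeterMatrix.G₂) g2CoxOrd (by decide) g2CoxT1 g2CoxT2 g2CoxT3 g2CoxT4 3 g2CoxNegW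
  · exact monoD4.center_coxeter bnD4.dec d4Sign (Cfsg.Lie.coxeterD4) d4CoxOrd (by decide) d4CoxT1 d4CoxT2 d4CoxT3 d4CoxT4 3 d4CoxNegW
  · exact monoF4.center_coxeter bnF4.dec f4Sign (CoxeterMatrix.F₄) f4CoxOrd (by decide) f4CoxT1 f4CoxT2 f4CoxT3 f4CoxT4 6 f4CoxNegW
  · exact monoE6.center_coxeter_trivial bnE6.dec e6Sign (CoxeterMatrix.E₆) e6CoxOrd (by decide) e6CoxT1 e6CoxT2 e6CoxT3 e6CoxT4 longWE6 e6CoxNoNeg
  · exact monoE7.center_coxeter bnE7.dec e7Sign (CoxeterMatrix.E₇) e7CoxOrd (by decide) e7CoxT1 e7CoxT2 e7CoxT3 e7CoxT4 9 e7CoxNegW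
  · exact monoE8.center_coxeter bnE8.dec e8Sign (CoxeterMatrix.E₈) e8CoxOrd (by decide) e8CoxT1 e8CoxT2 e8CoxT3 e8CoxT4 15 e8CoxNegW

end Cfsg.Agent.S2418
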