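import Mathlib
-- Template for statement S2419 (row 2419; see /opt/grader/pristine/manifest.json for weights).
-- Copy to Cfsg/Agent/S2419.lean and replace the sorry. The statement below is byte-identical to the frozen
-- statement Cfsg.CfsgFrozen.S2419 (Cfsg/Statements/S2419.lean; the theorem Cfsg.lie4_weyl_group_generated_by_coxeter_element_and_reflection);
-- the grader kernel-checks Cfsg.Agent.S2419.result against that frozen type. Keep the theorem IN THIS FILE
-- (a `result` declared elsewhere and merely imported here is not credited); helpers may live anywhere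
-- under Cfsg/Agent/.
import Cfsg.Statements.S2419
import Cfsg.Agent.Lib.Helper3.ChevData.B2CoxG
import Cfsg.Agent.Lib.Helper3.ChevData.G2CoxG
import Cfsg.Agent.Lib.Helper3.ChevData.D4CoxG
import Cfsg.Agent.Lib.Helper3.ChevData.F4CoxG
import Cfsg.Agent.Lib.Helper3.ChevData.E6CoxG
import Cfsg.Agent.Lib.Helper3.ChevData.E7CoxG
import Cfsg.Agent.Lib.Helper3.ChevData.E8CoxG
import Cfsg.Agent.Lib.Helper3.Cox5

set_option autoImplicit false
open Cfsg
open Cfsg.Agent.Lib.Helper3.ChevM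
open Cfsg.Agent.Lib.Helper3

namespace Cfsg.Agent.S2419

/-- The Coxeter groups of types B₂, G₂, E₆, E₇, E₈ are generated by the Coxeter element `s₁ s₂ ⋯ s_l` together with one suitable reflection (a conjugate of a simple reflection); for types D₄ and F₄ the Coxeter element together with two suitable reflections suffices. -/
theorem result (c : (Σ n : ℕ, CoxeterMatrix (Fin n)) × ℕ)
    (hc : c ∈ [(⟨2, CoxeterMatrix.B 2⟩, 1), (⟨2, CoxeterMatrix.G₂⟩, 1), (⟨4, Cfsg.Lie.coxeterD4⟩, 2), (⟨4, CoxeterMatrix.F₄⟩, 2),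
      (⟨6, CoxeterMatrix.E₆⟩, 1), (⟨7, CoxeterMatrix.E₇⟩, 1), (⟨8, CoxeterMatrix.E₈⟩, 1)]) :
    ∃ T : Finset c.1.2.Group, T.card = c.2 ∧ (∀ t ∈ T, ∃ (g : c.1.2.Group) (i : Fin c.1.1), t = g * c.1.2.simple i * g⁻¹) ∧
      Subgroup.closure (({((List.finRange c.1.1).map c.1.2.simple).prod} : Set c.1.2.Group) ∪ ↑T) = ⊤ := by
  simp only [List.mem_cons, List.not_mem_nil, or_false] at hc
  rcases hc with rfl | rfl | rfl | rfl | rfl | rfl | rfl
  ·
    obtain ⟨T, h1, h2, h3⟩ := monoB2.exists_gen_coxeter bnB2.dec b2Sign (CoxeterMatrix.B 2) b2CoxOrd tsgB2 progB2 b2GenW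
      (by decide) (List.nodup_singleton _)
    exact ⟨T, h1, h2, h3⟩
  ·
    obtain ⟨T, h1, h2, h3⟩ := monoG2.exists_gen_coxeter bnG2.dec g2Sign (CoxeterMatrix.G₂) g2CoxOrd tsgG2 progG2 g2GenW
      (by decide) (List.nodup_singleton _)
    exact ⟨T, h1, h2, h3⟩
  ·
    have hne : Cox.wp (Cfsg.Lie.coxeterD4 : CoxeterMatrix (Fin cdD4.D.rank)).simple (toFin cdD4.D.rank (tswD4.getD 0 [])) ≠
        Cox.wp (Cfsg.Lie.coxeterD4 : CoxeterMatrix (Fin cdD4.D.rank)).simple (toFin cdD4.D.rank (tswD4.getD 1 [])) := by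
      intro heq
      have := (monoD4.cox_wp_toFin_eq_iff bnD4.dec d4Sign (Cfsg.Lie.coxeterD4) d4CoxOrd (tswD4.getD 0 []) (tswD4.getD 1 []) (by decide) (by decide)).mp heq
      exact d4GenWne (this 0 (by decide))
    obtain ⟨T, h1, h2, h3⟩ := monoD4.exists_gen_coxeter bnD4.dec d4Sign (Cfsg.Lie.coxeterD4) d4CoxOrd tsgD4 progD4 d4GenW
      (by decide) (List.nodup_cons.mpr ⟨by intro hmem; exact hne (List.mem_singleton.mp hmem), List.nodup_singleton _⟩)
    exact ⟨T, h1, h2, h3⟩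
  ·
    have hne : Cox.wp (CoxeterMatrix.F₄ : CoxeterMatrix (Fin cdF4.D.rank)).simple (toFin cdF4.D.rank (tswF4.getD 0 [])) ≠
        Cox.wp (CoxeterMatrix.F₄ : CoxeterMatrix (Fin cdF4.D.rank)).simple (toFin cdF4.D.rank (tswF4.getD 1 [])) := by
      intro heq
      have := (monoF4.cox_wp_toFin_eq_iff bnF4.dec f4Sign (CoxeterMatrix.F₄) f4CoxOrd (tswF4.getD 0 []) (tswF4.getD 1 []) (by decide) (by decide)).mp heq
      exact f4GenWne (this 1 (by decide))
    obtain ⟨T, h1, h2, h3⟩ := monoF4.exists_gen_coxeter bnF4.dec f4Sign (CoxeterMatrix.F₄) f4CoxOrd tsgF4 progF4 f4GenW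
      (by decide) (List.nodup_cons.mpr ⟨by intro hmem; exact hne (List.mem_singleton.mp hmem), List.nodup_singleton _⟩)
    exact ⟨T, h1, h2, h3⟩
  ·
    obtain ⟨T, h1, h2, h3⟩ := monoE6.exists_gen_coxeter bnE6.dec e6Sign (CoxeterMatrix.E₆) e6CoxOrd tsgE6 progE6 e6GenW
      (by decide) (List.nodup_singleton _)
    exact ⟨T, h1, h2, h3⟩
  ·
    obtain ⟨T, h1, h2, h3⟩ := monoE7.exists_gen_coxeter bnE7.dec e7Sign (CoxeterMatrix.E₇) e7CoxOrd tsgE7 progE7 e7GenW
      (by decide) (List.nodup_singleton _)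
    exact ⟨T, h1, h2, h3⟩
  ·
    obtain ⟨T, h1, h2, h3⟩ := monoE8.exists_gen_coxeter bnE8.dec e8Sign (CoxeterMatrix.E₈) e8CoxOrd tsgE8 progE8 e8GenW
      (by decide) (List.nodup_singleton _)
    exact ⟨T, h1, h2, h3⟩

end Cfsg.Agent.S2419
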