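import Cfsg.Statements.S2421
import Cfsg.Agent.Lib.Helper5.UnipChar

set_option autoImplicit false
open scoped MatrixGroups
open Cfsg

namespace Cfsg.Agent.S2421

/-- Irreducible characters of `GL_n(q)` indexed by partitions: for `ν` a partition of `n` written with `n` non-decreasing parts `ν_0 ≤ ⋯ ≤ ν_{n−1}` (zeros allowed; positions counted from 0) and `λ_i = ν_i + i`, the alternating sum over permutations `κ` of `{0, …, n−1}` of `sign κ` times the permutation character on partial flags of type `λ − κ` (terms with a negative entry omitted) is an irreducible complex character of `GL_n(q)`. For `ν = (1, …, 1)` this is the Steinberg character. -/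
theorem result {F : Type*} [Field F] [Fintype F] {n : ℕ} (ν : Fin n → ℕ) (hmono : Monotone ν) (hsum : ∑ i, ν i = n) :
    Cfsg.IsIrrCharacter (GL (Fin n) F) (Cfsg.unipotentCharacterGL n F ν) := by
  classical
  have : Fintype (GL (Fin n) F) := Fintype.ofFinite _
  have hgen := Cfsg.Agent.Lib.Helper5.UnipChar.isGenChar_unipotentCharacterGL (F := F) ν
  have hnorm := Cfsg.Agent.Lib.Helper5.UnipChar.classInner_unipotentCharacterGL (F := F) ν ν hmono hsum
    hmono hsum
  rw [if_pos rfl] at hnorm
  obtain ⟨ψ, hψ, h | h⟩ := Cfsg.Agent.Lib.Helper4.genChar_norm_one hgen hnorm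
  · rw [h]
    exact hψ
  · exfalso
    obtain ⟨m, hm, hflag⟩ :=
      Cfsg.Agent.Lib.Helper5.UnipChar.classInner_unipotentCharacterGL_flag (F := F) ν hmono hsum
    rw [h, Cfsg.Agent.Lib.Helper4.classInner_neg_left] at hflag
    obtain ⟨k, hk⟩ := Cfsg.Agent.Lib.Helper1.classInner_char_irr_nat
      (Cfsg.Agent.Lib.Helper5.PermChar.isCharacter_fixedPointCharacter
        (Cfsg.parabolicGL n F fun _ => 1)) hψ
    have hsymm : Cfsg.classInner ψ (Cfsg.fixedPointCharacter (Cfsg.parabolicGL n F fun _ => 1))
        = (k : ℂ) := by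
      rw [← Cfsg.Agent.Lib.Helper4.classInner_conj_symm, hk]
      simp
    rw [hsymm] at hflag
    have h2 : ((-(k : ℤ) : ℤ) : ℂ) = ((m : ℤ) : ℂ) := by
      push_cast
      exact hflag
    have h3 : -(k : ℤ) = m := by exact_mod_cast h2
    omega

end Cfsg.Agent.S2421
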