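import Cfsg.Statements.S2424
import Cfsg.Agent.Lib.Helper5.UnipDegree

set_option autoImplicit false
open scoped MatrixGroups
open Cfsg

namespace Cfsg.Agent.S2424

theorem fpc_one {G : Type*} [Group G] (P : Subgroup G) :
    Cfsg.fixedPointCharacter P 1 = (P.index : ℂ) := by
  unfold Cfsg.fixedPointCharacter
  rw [MulAction.fixedBy_one_eq_univ]
  congr 1
  exact Nat.card_congr (Equiv.Set.univ _)

theorem unip_apply_one {F : Type*} [Field F] {n : ℕ} (ν : Fin n → ℕ) :
    Cfsg.unipotentCharacterGL n F ν 1 =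
      ((∑ κ : Equiv.Perm (Fin n), if ∀ i : Fin n, (κ i).val ≤ ν i + i.val then
        ((Equiv.Perm.sign κ : ℤˣ) : ℤ) *
          ((Cfsg.parabolicGL n F fun i => ν i + i.val - (κ i).val).index : ℤ)
      else 0 : ℤ) : ℂ) := by
  unfold Cfsg.unipotentCharacterGL
  rw [Int.cast_sum]
  refine Finset.sum_congr rfl fun κ _ => ?_
  by_cases h : ∀ i : Fin n, (κ i).val ≤ ν i + i.val
  · rw [if_pos h, if_pos h, fpc_one]
    push_cast
    rfl
  · rw [if_neg h, if_neg h]
    simp


/-- Degrees of the partition-indexed irreducible characters of `GL_n(q)`: for `ν` a partition of `n` with `n` non-decreasing parts `ν_0 ≤ ⋯ ≤ ν_{n−1}` (zeros allowed; positions counted from 0) and `λ_i = ν_i + i`, write `Q(r)` for the q-integer `1 + q + ⋯ + q^(r−1)` and `Q!(r)` for `Q(1)Q(2)⋯Q(r)`; then the degree `γ(ν)` of the character satisfies `γ(ν) · q^(n(n−1)(n−2)/6) · ∏_i Q!(λ_i) = Q!(n) · ∏_{i<j} (Q(λ_j) − Q(λ_i))`. For `ν = (1,…,1)` this gives the Steinberg degree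 `q^(n(n−1)/2)`, for `ν = (0,…,0,n)` degree 1. -/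
theorem result {F : Type*} [Field F] [Fintype F] {q : ℕ} (hq : Fintype.card F = q) {n : ℕ} (ν : Fin n → ℕ) (hmono : Monotone ν) (hsum : ∑ i, ν i = n) :
    Cfsg.unipotentCharacterGL n F ν 1 * (q : ℂ) ^ (n * (n - 1) * (n - 2) / 6) *
        ∏ i : Fin n, ∏ j ∈ Finset.range (ν i + i.val), ((∑ l ∈ Finset.range (j + 1), q ^ l : ℕ) : ℂ) =
      (∏ j ∈ Finset.range n, ((∑ l ∈ Finset.range (j + 1), q ^ l : ℕ) : ℂ)) *
        ∏ i : Fin n, ∏ j ∈ Finset.univ.filter (fun j : Fin n => i < j),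
          (((∑ l ∈ Finset.range (ν j + j.val), q ^ l : ℕ) : ℂ) - ((∑ l ∈ Finset.range (ν i + i.val), q ^ l : ℕ) : ℂ)) := by
  subst hq
  have key := Cfsg.Agent.Lib.Helper5.FlagCount.degree_identity (F := F) ν hsum
  have key' := congrArg (Int.cast : ℤ → ℂ) key
  rw [unip_apply_one]
  have hfilter : ∀ i : Fin n, Finset.univ.filter (fun j : Fin n => i < j) = Finset.Ioi i := by
    intro i
    ext j
    simp
  simp only [hfilter]
  push_cast at key' ⊢
  simp only [Cfsg.Agent.Lib.Helper5.FlagCount.Qf, Cfsg.Agent.Lib.Helper5.FlagCount.gs] at key'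
  push_cast at key'
  exact key'

end Cfsg.Agent.S2424
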