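import Cfsg.Statements.S2425
import Cfsg.Agent.Lib.Helper5.StGL.Final

set_option autoImplicit false
open scoped MatrixGroups
open Cfsg

namespace Cfsg.Agent.S2425

open Cfsg.Agent.Lib.Helper5.StGL in
theorem Nx_empty {F : Type*} [Field F] [Fintype F] {n : ℕ} (x : GL (Fin n) F) : Nx x ∅ = 1 := by
  unfold Nx
  rw [Nat.cast_eq_one, Nat.card_eq_one_iff_unique]
  refine ⟨⟨?_⟩, ⟨⟨∅, by simp, by simp [dims], by simp⟩⟩⟩
  rintro ⟨C, -, hC, -⟩ ⟨C', -, hC', -⟩
  apply Subtype.ext
  have h1 : C = ∅ := Finset.image_eq_empty.1 hC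
  have h2 : C' = ∅ := Finset.image_eq_empty.1 hC'
  change C = C'
  rw [h1, h2]

open Cfsg.Agent.Lib.Helper5.StGL in
theorem value_zero {F : Type*} [Field F] [Fintype F] (x : GL (Fin 0) F) :
    Cfsg.unipotentCharacterGL 0 F (fun _ => 1) x = 1 := by
  rw [steinberg_eq_sum_Nx]
  have : Finset.Ioo 0 0 = (∅ : Finset ℕ) := by simp
  rw [this, Finset.powerset_empty, Finset.sum_singleton, Nx_empty]
  simp

/-- Values of the Steinberg character of `GL_n(q)` (the partition-indexed character for `ν = (1,…,1)`, of degree `q^(n(n−1)/2)`) at elements of order prime to the characteristic: if the characteristic polynomial of such an element is `∏ f^(m_f)` over distinct monic irreducible `f`, the value is `∏_f (−1)^((deg f − 1) m_f) q^(deg f · m_f (m_f − 1)/2)`. (At elements of order divisible by the characteristic the value is 0; that is not part of this statement.) -/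
theorem result {F : Type*} [Field F] [Fintype F] [DecidableEq F] {q : ℕ} (hq : Fintype.card F = q) (p : ℕ) [Fact p.Prime] [CharP F p]
    {n : ℕ} (x : GL (Fin n) F) (hx : (orderOf x).Coprime p) :
    Cfsg.unipotentCharacterGL n F (fun _ => 1) x =
      ∏ f ∈ (UniqueFactorizationMonoid.normalizedFactors (x : Matrix (Fin n) (Fin n) F).charpoly).toFinset,
        (-1 : ℂ) ^ ((f.natDegree - 1) * (UniqueFactorizationMonoid.normalizedFactors (x : Matrix (Fin n) (Fin n) F).charpoly).count f) *
          (q : ℂ) ^ (f.natDegree * (UniqueFactorizationMonoid.normalizedFactors (x : Matrix (Fin n) (Fin n) F).charpoly).count f *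
            ((UniqueFactorizationMonoid.normalizedFactors (x : Matrix (Fin n) (Fin n) F).charpoly).count f - 1) / 2) := by
  rcases Nat.eq_zero_or_pos n with hn | hn
  · subst hn
    rw [value_zero, Matrix.charpoly_isEmpty, UniqueFactorizationMonoid.normalizedFactors_one]
    simp
  · exact Cfsg.Agent.Lib.Helper5.StGL.steinberg_value hn hq p x hx

end Cfsg.Agent.S2425
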