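import Mathlib
-- Template for statement S2426 (row 2426; see /opt/grader/pristine/manifest.json for weights).
-- Copy to Cfsg/Agent/S2426.lean and replace the sorry. The statement below is byte-identical to the frozen
-- statement Cfsg.CfsgFrozen.S2426 (Cfsg/Statements/S2426.lean; the theorem Cfsg.lie4_special_linear_two_steinberg_presentation);
-- the grader kernel-checks Cfsg.Agent.S2426.result against that frozen type. Keep the theorem IN THIS FILE
-- (a `result` declared elsewhere and merely imported here is not credited); helpers may live anywhere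
-- under Cfsg/Agent/.
import Cfsg.Statements.S2426
import Cfsg.Agent.Lib.Helper3.StRk1
import Cfsg.Agent.Lib.Helper3.SL2Pres3
import Cfsg.Agent.Lib.Helper3.StRk4


set_option autoImplicit false
open Cfsg
open Cfsg.Agent.Lib.Helper3 Cfsg.Agent.Lib.Helper3.StRk


namespace Cfsg.Agent.S2426

/-- The rank-one Steinberg presentation of `SL₂` over a finite field `K`: generators `x(t)`, `y(t)` (`t ∈ K`; the two opposite root subgroups) subject to additivity `x(t)x(u) = x(t+u)`, `y(t)y(u) = y(t+u)` and, with `w(t) = x(t) y(−t⁻¹) x(t)` and `w'(t) = y(t) x(−t⁻¹) y(t)` for `t ≠ 0`, the relations `w(t) x(u) w(t)⁻¹ = y(−t⁻² u)` and `w'(t) y(u) w'(t)⁻¹ = x(−t⁻² u)`, present `SL₂(K)`, with `x(t) ↦ (1 t; 0 1)` and `y(t) ↦ (1 0; t 1)`. -/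
theorem result {K : Type*} [Field K] [Finite K] :
    ∃ e : PresentedGroup
        ({g : FreeGroup (Bool × K) | ∃ (b : Bool) (t u : K), g = FreeGroup.of (b, t) * FreeGroup.of (b, u) * (FreeGroup.of (b, t + u))⁻¹} ∪
          {g | ∃ (b : Bool) (t u : K), t ≠ 0 ∧
            g = (FreeGroup.of (b, t) * FreeGroup.of (!b, -t⁻¹) * FreeGroup.of (b, t)) * FreeGroup.of (b, u) *
                  (FreeGroup.of (b, t) * FreeGroup.of (!b, -t⁻¹) * FreeGroup.of (b, t))⁻¹ * (FreeGroup.of (!b, -(t⁻¹ ^ 2 * u)))⁻¹})
        ≃* Matrix.SpecialLinearGroup (Fin 2) K,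
      (∀ t : K, ((e (PresentedGroup.of (true, t)) : Matrix (Fin 2) (Fin 2) K)) = !![1, t; 0, 1]) ∧
      (∀ t : K, ((e (PresentedGroup.of (false, t)) : Matrix (Fin 2) (Fin 2) K)) = !![1, 0; t, 1]) := by
  classical
  set rels : Set (FreeGroup (Bool × K)) :=
    ({g : FreeGroup (Bool × K) | ∃ (b : Bool) (t u : K), g = FreeGroup.of (b, t) * FreeGroup.of (b, u) * (FreeGroup.of (b, t + u))⁻¹} ∪
          {g | ∃ (b : Bool) (t u : K), t ≠ 0 ∧
            g = (FreeGroup.of (b, t) * FreeGroup.of (!b, -t⁻¹) * FreeGroup.of (b, t)) * FreeGroup.of (b, u) *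
                  (FreeGroup.of (b, t) * FreeGroup.of (!b, -t⁻¹) * FreeGroup.of (b, t))⁻¹ * (FreeGroup.of (!b, -(t⁻¹ ^ 2 * u)))⁻¹}) with hrels
  -- the generators
  set X : K → PresentedGroup rels := fun t => PresentedGroup.of (true, t) with hX
  set Y : K → PresentedGroup rels := fun t => PresentedGroup.of (false, t) with hY
  have hadd : ∀ (b : Bool) (t u : K), (PresentedGroup.of (b, t + u) : PresentedGroup rels) =
      PresentedGroup.of (b, t) * PresentedGroup.of (b, u) := by
    intro b t u
    have hmem : FreeGroup.of (b, t) * FreeGroup.of (b, u) * (FreeGroup.of (b, t + u))⁻¹ ∈ rels :=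
      Or.inl ⟨b, t, u, rfl⟩
    have := PresentedGroup.one_of_mem hmem
    rw [map_mul, map_mul, map_inv, mul_inv_eq_one] at this
    exact this.symm
  have hconj : ∀ (b : Bool) (t u : K), t ≠ 0 →
      ((PresentedGroup.of (b, t) : PresentedGroup rels) * PresentedGroup.of (!b, -t⁻¹) * PresentedGroup.of (b, t)) *
        PresentedGroup.of (b, u) *
        ((PresentedGroup.of (b, t) : PresentedGroup rels) * PresentedGroup.of (!b, -t⁻¹) * PresentedGroup.of (b, t))⁻¹ =
        PresentedGroup.of (!b, -(t⁻¹ ^ 2 * u)) := by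
    intro b t u ht
    have hmem : (FreeGroup.of (b, t) * FreeGroup.of (!b, -t⁻¹) * FreeGroup.of (b, t)) * FreeGroup.of (b, u) *
        (FreeGroup.of (b, t) * FreeGroup.of (!b, -t⁻¹) * FreeGroup.of (b, t))⁻¹ *
        (FreeGroup.of (!b, -(t⁻¹ ^ 2 * u)))⁻¹ ∈ rels := Or.inr ⟨b, t, u, ht, rfl⟩
    have := PresentedGroup.one_of_mem hmem
    rw [map_mul, map_inv, mul_inv_eq_one] at this
    simp only [map_mul, map_inv] at this
    exact this
  -- the rank one structure
  let A : RankOne K (PresentedGroup rels) :=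
    { x := X
      y := Y
      x_add := hadd true
      y_add := hadd false
      conj_x := fun t ht a => hconj true t a ht }
  -- the defects are central
  have hcentral : ∀ t u : K, t ≠ 0 → u ≠ 0 → A.h t * A.h u * (A.h (t * u))⁻¹ ∈ Subgroup.center (PresentedGroup rels) := by
    intro t u ht hu
    set d := A.h t * A.h u * (A.h (t * u))⁻¹ with hd
    have htu : t * u ≠ 0 := mul_ne_zero ht hu
    have hx : ∀ a, d * A.x a * d⁻¹ = A.x a := by
      intro a
      have e : d * A.x a * d⁻¹ = A.h t * (A.h u * ((A.h (t * u))⁻¹ * A.x a * (A.h (t * u))⁻¹⁻¹) * (A.h u)⁻¹) * (A.h t)⁻¹ := by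
        rw [hd]; group
      have e1 : (A.h (t * u))⁻¹ * A.x a * (A.h (t * u))⁻¹⁻¹ = A.x (((t * u) ^ 2)⁻¹ * a) := by
        have := A.hx (t * u) htu (((t * u) ^ 2)⁻¹ * a)
        rw [← mul_assoc, mul_inv_cancel₀ (pow_ne_zero 2 htu), one_mul] at this
        rw [← this]; group
      rw [e, e1, A.hx u hu, A.hx t ht]
      congr 1
      field_simp
    have hy : ∀ a, d * A.y a * d⁻¹ = A.y a := by
      intro a
      have e : d * A.y a * d⁻¹ = A.h t * (A.h u * ((A.h (t * u))⁻¹ * A.y a * (A.h (t * u))⁻¹⁻¹) * (A.h u)⁻¹) * (A.h t)⁻¹ := by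
        rw [hd]; group
      have e1 : (A.h (t * u))⁻¹ * A.y a * (A.h (t * u))⁻¹⁻¹ = A.y ((t * u) ^ 2 * a) := by
        have := A.hy (t * u) htu ((t * u) ^ 2 * a)
        have e2 : (t * u)⁻¹ ^ 2 * ((t * u) ^ 2 * a) = a := by field_simp
        rw [e2] at this
        rw [← this]; group
      rw [e, e1, A.hy u hu, A.hy t ht]
      congr 1
      field_simp
    rw [Subgroup.mem_center_iff]
    intro g
    have hcl : g ∈ Subgroup.closure (Set.range (PresentedGroup.of (rels := rels))) := by
      rw [PresentedGroup.closure_range_of]; exact Subgroup.mem_top g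
    have : g ∈ Subgroup.centralizer {d} := by
      revert hcl
      apply (Subgroup.closure_le _).mpr
      rintro _ ⟨⟨b, a⟩, rfl⟩
      rw [SetLike.mem_coe, Subgroup.mem_centralizer_iff]
      rintro _ rfl
      cases b
      · have := hy a
        show d * Y a = Y a * d
        calc d * Y a = (d * Y a * d⁻¹) * d := by group
          _ = Y a * d := by rw [show d * Y a * d⁻¹ = Y a from this]
      · have := hx a
        show d * X a = X a * d
        calc d * X a = (d * X a * d⁻¹) * d := by group
          _ = X a * d := by rw [show d * X a * d⁻¹ = X a from this]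
    rw [Subgroup.mem_centralizer_iff] at this
    exact (this d rfl).symm
  have hmul := A.h_mul hcentral
  -- the relations of `SL2Pres`
  have hRel : SL2P.Rel X Y := by
    refine ⟨hadd true, hadd false, ?_, ?_⟩
    · intro t ht u
      have := hconj true t u ht
      rw [show -(t⁻¹ * t⁻¹ * u) = -(t⁻¹ ^ 2 * u) by ring]
      exact this
    · intro t u ht hu
      have e : ∀ s : K, SL2P.hE X Y s = A.h s := by
        intro s
        show A.w s * (A.w 1)⁻¹ = A.w s * A.w (-1)
        rw [A.w_neg]
      rw [e, e, e]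
      exact hmul t u ht hu
  -- the two homomorphisms
  let π : PresentedGroup rels →* Matrix.SpecialLinearGroup (Fin 2) K :=
    PresentedGroup.toGroup (f := fun p : Bool × K => cond p.1 (SL2P.xE p.2) (SL2P.yE p.2)) (by
      rintro g (⟨b, t, u, rfl⟩ | ⟨b, t, u, ht, rfl⟩)
      · cases b
        · simp only [map_mul, map_inv, FreeGroup.lift_apply_of, cond_false, mul_inv_eq_one]
          apply Subtype.ext
          show (SL2P.yE t).1 * (SL2P.yE u).1 = (SL2P.yE (t + u)).1
          ext i j
          fin_cases i <;> fin_cases j <;> simp [SL2P.yE, Matrix.mul_apply, Fin.sum_univ_two, add_comm]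
        · simp only [map_mul, map_inv, FreeGroup.lift_apply_of, cond_true, mul_inv_eq_one]
          apply Subtype.ext
          show (SL2P.xE t).1 * (SL2P.xE u).1 = (SL2P.xE (t + u)).1
          ext i j
          fin_cases i <;> fin_cases j <;> simp [SL2P.xE, Matrix.mul_apply, Fin.sum_univ_two, add_comm]
      · cases b
        · simp only [map_mul, map_inv, FreeGroup.lift_apply_of, cond_false, cond_true, Bool.not_false,
            mul_inv_eq_iff_eq_mul, one_mul]
          exact rely t u ht
        · simp only [map_mul, map_inv, FreeGroup.lift_apply_of, cond_false, cond_true, Bool.not_true,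
            mul_inv_eq_iff_eq_mul, one_mul]
          exact relx t u ht)
  let ψ : Matrix.SpecialLinearGroup (Fin 2) K →* PresentedGroup rels := SL2P.phi hRel
  have hπX : ∀ t, π (X t) = SL2P.xE t := fun t => PresentedGroup.toGroup.of _
  have hπY : ∀ t, π (Y t) = SL2P.yE t := fun t => PresentedGroup.toGroup.of _
  have h1 : ∀ g, ψ (π g) = g := by
    have : ψ.comp π = MonoidHom.id _ := by
      apply PresentedGroup.ext
      rintro ⟨b, t⟩
      cases b
      · show ψ (π (Y t)) = Y t
        rw [hπY, SL2P.phi_yE]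
      · show ψ (π (X t)) = X t
        rw [hπX, SL2P.phi_xE]
    intro g
    exact congrArg (fun f : PresentedGroup rels →* PresentedGroup rels => f g) this
  have h2 : ∀ g, π (ψ g) = g := by
    have : π.comp ψ = MonoidHom.id _ := by
      apply MonoidHom.eq_of_eqOn_dense (SL2P.closure_gens (F := K))
      rintro g (⟨t, rfl⟩ | rfl)
      · show π (ψ (SL2P.xE t)) = SL2P.xE t
        rw [SL2P.phi_xE, hπX]
      · show π (ψ SL2P.wE) = SL2P.wE
        rw [SL2P.phi_wE]
        show π (X 1 * Y (-1⁻¹) * X 1) = _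
        rw [map_mul, map_mul, hπX, hπY]
        apply Subtype.ext
        show (SL2P.xE (1 : K)).1 * (SL2P.yE (-1⁻¹ : K)).1 * (SL2P.xE (1 : K)).1 = (SL2P.wE (F := K)).1
        ext i j
        fin_cases i <;> fin_cases j <;> simp [SL2P.yE, SL2P.xE, SL2P.wE, Matrix.mul_apply, Fin.sum_univ_two]
    intro g
    exact congrArg (fun f : Matrix.SpecialLinearGroup (Fin 2) K →* Matrix.SpecialLinearGroup (Fin 2) K => f g) this
  refine ⟨{ toFun := π, invFun := ψ, left_inv := h1, right_inv := h2, map_mul' := map_mul π }, ?_, ?_⟩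
  · intro t
    show ((π (X t) : Matrix.SpecialLinearGroup (Fin 2) K) : Matrix (Fin 2) (Fin 2) K) = _
    rw [hπX]; rfl
  · intro t
    show ((π (Y t) : Matrix.SpecialLinearGroup (Fin 2) K) : Matrix (Fin 2) (Fin 2) K) = _
    rw [hπY]; rfl


end Cfsg.Agent.S2426
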