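import Cfsg.Statements.S2427
import Mathlib

set_option autoImplicit false
open Cfsg

namespace Cfsg.Agent.S2427

open Matrix

local notation "X23" => Matrix.SpecialLinearGroup (Fin 2) (ZMod 3)

theorem card_X : Nat.card X23 = 24 := by
  rw [Nat.card_eq_fintype_card]; decide +kernel

theorem comm_pow_four : ∀ a b : X23, (a * b * a⁻¹ * b⁻¹) ^ 4 = 1 := by
  decide +kernel

theorem exists_comm_eq : ∀ g : X23, g ^ 4 = 1 → ∃ a b : X23, a * b * a⁻¹ * b⁻¹ = g := by
  decide +kernel

theorem mul_pow_four : ∀ a b : X23, a ^ 4 = 1 → b ^ 4 = 1 → (a * b) ^ 4 = 1 := by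
  decide +kernel

theorem card_pow_four : Fintype.card {g : X23 // g ^ 4 = 1} = 8 := by
  decide +kernel

theorem card_center_aux : Fintype.card {z : X23 // ∀ g : X23, g * z = z * g} = 2 := by
  decide +kernel

theorem lemL1 : ∀ g : X23, g ^ 4 ≠ 1 → ∃ a : X23, (a * g * a⁻¹ * g⁻¹) ^ 2 ≠ 1 := by
  decide +kernel

theorem lemL2' : ∀ x y : X23, (x ^ 4 = 1 ∧ x ^ 2 ≠ 1 ∧ y ^ 4 = 1 ∧ y ^ 2 ≠ 1) →
    ∃ a : X23, a * x * a⁻¹ = y := by
  decide +kernel

theorem lemL2 (x y : X23) (h1 : x ^ 4 = 1) (h2 : x ^ 2 ≠ 1) (h3 : y ^ 4 = 1) (h4 : y ^ 2 ≠ 1) :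
    ∃ a : X23, a * x * a⁻¹ = y := lemL2' x y ⟨h1, h2, h3, h4⟩

theorem lemL3 : ∀ x y : X23, x ^ 4 = 1 → x ^ 2 ≠ 1 → y ^ 2 = 1 → y = 1 ∨ y = x ^ 2 := by
  decide +kernel

theorem lemL4 : ∀ z : X23, (∀ g : X23, g * z = z * g) ↔ z ^ 2 = 1 := by
  decide +kernel

theorem lemL5 : ∀ g : X23, g ^ 4 ≠ 1 → ∀ y : X23, ∃ q : X23, q ^ 4 = 1 ∧
    (y = q ∨ y = q * g ∨ y = q * g * g) := by
  decide +kernel

theorem lemL6 : ∀ z w : X23, z ^ 2 = 1 → z ≠ 1 → w ^ 2 = 1 → w = 1 ∨ w = z := by
  decide +kernel

theorem sq_one_pow_four : ∀ y : X23, y ^ 2 = 1 → y ^ 4 = 1 := by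
  intro y h
  have : y ^ 4 = (y ^ 2) ^ 2 := by rw [← pow_mul]
  rw [this, h, one_pow]

/-- The quaternion subgroup. -/
def quat : Subgroup X23 where
  carrier := {g | g ^ 4 = 1}
  one_mem' := one_pow 4
  mul_mem' := fun {a b} ha hb => mul_pow_four a b ha hb
  inv_mem' := fun {a} ha => by
    show a⁻¹ ^ 4 = 1
    rw [inv_pow, ha, inv_one]

theorem mem_quat (g : X23) : g ∈ quat ↔ g ^ 4 = 1 := Iff.rfl

theorem commutator_eq_quat : commutator X23 = quat := by
  rw [commutator_eq_closure]
  apply le_antisymm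
  · rw [Subgroup.closure_le]
    rintro g ⟨a, b, rfl⟩
    rw [SetLike.mem_coe, mem_quat, commutatorElement_def]
    exact comm_pow_four a b
  · intro g hg
    obtain ⟨a, b, hab⟩ := exists_comm_eq g hg
    apply Subgroup.subset_closure
    exact ⟨a, b, by rw [commutatorElement_def, hab]⟩

theorem card_quat : Nat.card quat = 8 := by
  have h : Nat.card quat = Nat.card {g : X23 // g ^ 4 = 1} := Nat.card_congr (Equiv.refl _)
  rw [h, Nat.card_eq_fintype_card, card_pow_four]

theorem card_center : Nat.card (Subgroup.center X23) = 2 := by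
  have h : Nat.card (Subgroup.center X23) = Nat.card {z : X23 // ∀ g : X23, g * z = z * g} :=
    Nat.card_congr
      (Equiv.subtypeEquivRight (fun z : X23 => Subgroup.mem_center_iff (G := X23) (z := z)))
  rw [h, Nat.card_eq_fintype_card, card_center_aux]

/-- The generators of the quaternion subgroup. -/
def mA : X23 := ⟨!![0, 1; -1, 0], by decide⟩
def mB : X23 := ⟨!![1, 1; 1, -1], by decide⟩

/-- The map from the abstract quaternion group. -/
def qmap : QuaternionGroup 2 → X23
  | QuaternionGroup.a i => mA ^ i.val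
  | QuaternionGroup.xa i => mB * mA ^ i.val

theorem qmap_mul : ∀ x y : QuaternionGroup 2, qmap (x * y) = qmap x * qmap y := by
  decide +kernel

theorem qmap_inj : ∀ x y : QuaternionGroup 2, qmap x = qmap y → x = y := by
  decide +kernel

theorem qmap_mem : ∀ x : QuaternionGroup 2, (qmap x) ^ 4 = 1 := by
  decide +kernel

theorem qmap_surj : ∀ g : X23, g ^ 4 = 1 → ∃ x : QuaternionGroup 2, qmap x = g := by
  decide +kernel

theorem quat_equiv : Nonempty (quat ≃* QuaternionGroup 2) := by
  let f : QuaternionGroup 2 →* quat :=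
    { toFun := fun x => ⟨qmap x, qmap_mem x⟩
      map_one' := by
        apply Subtype.ext
        show qmap 1 = 1
        decide +kernel
      map_mul' := fun x y => Subtype.ext (qmap_mul x y) }
  have hbij : Function.Bijective f := by
    constructor
    · intro x y h
      exact qmap_inj x y (congrArg Subtype.val h)
    · rintro ⟨g, hg⟩
      obtain ⟨x, hx⟩ := qmap_surj g hg
      exact ⟨x, Subtype.ext hx⟩
  exact ⟨(MulEquiv.ofBijective f hbij).symm⟩

theorem card_sylow_three (P : Sylow 3 X23) : Nat.card P = 3 := by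
  have : Fact (Nat.Prime 3) := ⟨Nat.prime_three⟩
  rw [Sylow.card_eq_multiplicity, card_X]
  have h24 : (24 : ℕ) = 3 * 8 := by norm_num
  rw [h24, Nat.factorization_mul (by norm_num) (by norm_num), Finsupp.add_apply,
    Nat.Prime.factorization_self Nat.prime_three,
    Nat.factorization_eq_zero_of_not_dvd (by norm_num : ¬ 3 ∣ 8)]
  norm_num

theorem quat_le_of_mem (N : Subgroup X23) [N.Normal] {x : X23} (hx : x ∈ N) (h4 : x ^ 4 = 1)
    (h2 : x ^ 2 ≠ 1) : quat ≤ N := by
  intro y hy
  rw [mem_quat] at hy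
  by_cases hy2 : y ^ 2 = 1
  · rcases lemL3 x y h4 h2 hy2 with h | h
    · rw [h]; exact N.one_mem
    · rw [h]; exact N.pow_mem hx 2
  · obtain ⟨a, ha⟩ := lemL2 x y h4 h2 hy hy2
    rw [← ha]
    exact Subgroup.Normal.conj_mem inferInstance x hx a

theorem normal_cases (N : Subgroup X23) (hN : N.Normal) :
    N = ⊥ ∨ N = ⊤ ∨ N = Subgroup.center X23 ∨ N = commutator X23 := by
  by_cases hA : ∃ g ∈ N, g ^ 4 ≠ 1
  · right; left
    obtain ⟨g, hg, hg4⟩ := hA
    obtain ⟨a, ha⟩ := lemL1 g hg4
    have hc : a * g * a⁻¹ * g⁻¹ ∈ N :=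
      N.mul_mem (hN.conj_mem g hg a) (N.inv_mem hg)
    have hq := quat_le_of_mem N hc (comm_pow_four a g) ha
    rw [eq_top_iff]
    intro y _
    obtain ⟨q, hq4, h | h | h⟩ := lemL5 g hg4 y
    · rw [h]; exact hq hq4
    · rw [h]; exact N.mul_mem (hq hq4) hg
    · rw [h]; exact N.mul_mem (N.mul_mem (hq hq4) hg) hg
  · push Not at hA
    by_cases hB : ∃ x ∈ N, x ^ 2 ≠ 1
    · right; right; right
      obtain ⟨x, hx, hx2⟩ := hB
      rw [commutator_eq_quat]
      apply le_antisymm
      · intro y hy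
        exact hA y hy
      · exact quat_le_of_mem N hx (hA x hx) hx2
    · push Not at hB
      by_cases hbot : N = ⊥
      · left; exact hbot
      · right; right; left
        obtain ⟨z, hz1⟩ := (Subgroup.ne_bot_iff_exists_ne_one.1 hbot)
        have hz' : (z : X23) ≠ 1 := fun h => hz1 (Subtype.ext h)
        apply le_antisymm
        · intro y hy
          rw [Subgroup.mem_center_iff]
          exact (lemL4 y).2 (hB y hy)
        · intro w hw
          rw [Subgroup.mem_center_iff] at hw
          have hw2 := (lemL4 w).1 hw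
          rcases lemL6 z w (hB z z.2) hz' hw2 with h | h
          · rw [h]; exact N.one_mem
          · rw [h]; exact z.2


/-- The group SL₂ over the field with 3 elements has order 24 and centre of order 2; its commutator subgroup has order 8, is isomorphic to the quaternion group of order 8 and is complemented by every Sylow 3-subgroup (so the group is a semidirect product of a quaternion group of order 8 by a cyclic group of order 3); and its only normal subgroups besides the trivial subgroup and the whole group are the centre and the commutator subgroup. -/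
theorem result :
    Nat.card (Matrix.SpecialLinearGroup (Fin 2) (ZMod 3)) = 24 ∧
    Nat.card (Subgroup.center (Matrix.SpecialLinearGroup (Fin 2) (ZMod 3))) = 2 ∧
    Nat.card (commutator (Matrix.SpecialLinearGroup (Fin 2) (ZMod 3))) = 8 ∧
    Nonempty (commutator (Matrix.SpecialLinearGroup (Fin 2) (ZMod 3)) ≃* QuaternionGroup 2) ∧
    (∀ P : Sylow 3 (Matrix.SpecialLinearGroup (Fin 2) (ZMod 3)),
      Subgroup.IsComplement' (commutator (Matrix.SpecialLinearGroup (Fin 2) (ZMod 3)))
        (P : Subgroup (Matrix.SpecialLinearGroup (Fin 2) (ZMod 3)))) ∧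
    ∀ N : Subgroup (Matrix.SpecialLinearGroup (Fin 2) (ZMod 3)), N.Normal →
      N = ⊥ ∨ N = ⊤ ∨ N = Subgroup.center (Matrix.SpecialLinearGroup (Fin 2) (ZMod 3)) ∨
        N = commutator (Matrix.SpecialLinearGroup (Fin 2) (ZMod 3)) := by
  refine ⟨card_X, card_center, ?_, ?_, ?_, normal_cases⟩
  · rw [commutator_eq_quat]; exact card_quat
  · rw [commutator_eq_quat]; exact quat_equiv
  · intro P
    apply Subgroup.isComplement'_of_coprime
    · rw [commutator_eq_quat, card_quat, card_sylow_three, card_X]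
    · rw [commutator_eq_quat, card_quat, card_sylow_three]
      norm_num

end Cfsg.Agent.S2427
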