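import Mathlib
import Cfsg.Statements.S2428
import Cfsg.Agent.Lib.Helper5.SL2TorusNorm
import Cfsg.Agent.Lib.Helper5.SL2Exists

set_option autoImplicit false
open Cfsg

namespace Cfsg.Agent.S2428

open Cfsg.Agent.Lib.Helper5 Matrix

/-- Let F be a finite field with q elements, q odd, and let d be a diagonal element of SL₂ over F whose diagonal entry a has a² ≠ 1 (such d exist exactly when q > 3). Then the centraliser of d is precisely the diagonal subgroup T; the normaliser of T has order 2(q − 1) and exactly (q + 5)/2 conjugacy classes; and every element of that normaliser outside T has square equal to −1. -/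
theorem result {F : Type*} [Field F] [Fintype F] (hodd : Odd (Fintype.card F))
    (d : Matrix.SpecialLinearGroup (Fin 2) F) (hd01 : (d : Matrix (Fin 2) (Fin 2) F) 0 1 = 0) (hd10 : (d : Matrix (Fin 2) (Fin 2) F) 1 0 = 0) (hda : (d : Matrix (Fin 2) (Fin 2) F) 0 0 ^ 2 ≠ 1) :
    (∀ g : Matrix.SpecialLinearGroup (Fin 2) F, g ∈ Subgroup.centralizer ({d} : Set (Matrix.SpecialLinearGroup (Fin 2) F)) ↔ ((g : Matrix (Fin 2) (Fin 2) F) 0 1 = 0 ∧ (g : Matrix (Fin 2) (Fin 2) F) 1 0 = 0)) ∧
    Nat.card (Subgroup.normalizer ((Subgroup.centralizer ({d} : Set (Matrix.SpecialLinearGroup (Fin 2) F))) : Set (Matrix.SpecialLinearGroup (Fin 2) F))) = 2 * (Fintype.card F - 1) ∧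
    Nat.card (ConjClasses (Subgroup.normalizer ((Subgroup.centralizer ({d} : Set (Matrix.SpecialLinearGroup (Fin 2) F))) : Set (Matrix.SpecialLinearGroup (Fin 2) F)))) = (Fintype.card F + 5) / 2 ∧
    ∀ g : Matrix.SpecialLinearGroup (Fin 2) F, g ∈ Subgroup.normalizer ((Subgroup.centralizer ({d} : Set (Matrix.SpecialLinearGroup (Fin 2) F))) : Set (Matrix.SpecialLinearGroup (Fin 2) F)) →
      g ∉ Subgroup.centralizer ({d} : Set (Matrix.SpecialLinearGroup (Fin 2) F)) → ((g * g) : Matrix (Fin 2) (Fin 2) F) = -1 := by
  classical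
  have hq : 2 ≤ Fintype.card F := Fintype.one_lt_card
  have h2 : (2 : F) ≠ 0 := by
    apply Ring.two_ne_zero
    intro h
    have h1 := FiniteField.even_card_iff_char_two.1 h
    rcases hodd with ⟨k, hk⟩
    omega
  set a := (d : Matrix (Fin 2) (Fin 2) F) 0 0 with ha
  set a' := (d : Matrix (Fin 2) (Fin 2) F) 1 1 with ha'
  have hdet : a * a' = 1 := by
    have := d.det_coe
    rw [Matrix.det_fin_two, hd01, zero_mul, sub_zero] at this
    exact this
  have ha0 : a ≠ 0 := by
    intro h
    rw [h, zero_mul] at hdet
    exact zero_ne_one hdet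
  have hne : a ≠ a' := by
    intro h
    apply hda
    rw [pow_two]
    nth_rewrite 2 [h]
    exact hdet
  have hdm : (d : Matrix (Fin 2) (Fin 2) F) = !![a, 0; 0, a'] := by
    rw [Matrix.eta_fin_two (d : Matrix (Fin 2) (Fin 2) F), hd01, hd10]
  have htr : (d : Matrix (Fin 2) (Fin 2) F).trace = a + a' := Matrix.trace_fin_two _
  have ht : (d : Matrix (Fin 2) (Fin 2) F).trace ^ 2 ≠ 4 := by
    rw [htr]
    intro h
    apply hne
    have : (a - a') ^ 2 = 0 := by linear_combination h - 4 * hdet
    exact sub_eq_zero.1 ((pow_eq_zero_iff two_ne_zero).1 this)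
  have hroot : rootCount (d : Matrix (Fin 2) (Fin 2) F).trace = 2 := by
    apply rootCount_of_root _ a ht
    rw [htr]
    linear_combination -hdet
  have hcardT : Nat.card (Subgroup.centralizer ({d} : Set (SpecialLinearGroup (Fin 2) F))) =
      Fintype.card F - 1 := by
    have := card_centralizer_generic d ht
    rw [hroot] at this
    omega
  refine ⟨?_, ?_, ?_, ?_⟩
  · intro g
    rw [Subgroup.mem_centralizer_singleton_iff, coe_commute_iff, hdm]
    constructor
    · intro h
      have e01 := congrFun (congrFun h 0) 1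
      have e10 := congrFun (congrFun h 1) 0
      simp only [Matrix.mul_apply, Fin.sum_univ_two, Matrix.of_apply, Matrix.cons_val',
        Matrix.cons_val_zero, Matrix.cons_val_one, Matrix.cons_val_fin_one] at e01 e10
      have hsub : a - a' ≠ 0 := sub_ne_zero.2 hne
      constructor
      · have : (g : Matrix (Fin 2) (Fin 2) F) 0 1 * (a - a') = 0 := by linear_combination -e01
        rcases mul_eq_zero.1 this with h' | h'
        · exact h'
        · exact absurd h' hsub
      · have : (g : Matrix (Fin 2) (Fin 2) F) 1 0 * (a - a') = 0 := by linear_combination e10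
        rcases mul_eq_zero.1 this with h' | h'
        · exact h'
        · exact absurd h' hsub
    · rintro ⟨h01, h10⟩
      ext i j
      fin_cases i <;> fin_cases j <;>
        simp [Matrix.mul_apply, Fin.sum_univ_two, h01, h10, mul_comm]
  · rw [card_normalizer_centralizer h2 d ht, hcardT]
  · have := card_conjClasses_normalizer h2 d ht
    rw [hcardT] at this
    omega
  · intro g hg hgT
    have h := mul_self_eq_negOne_of_mem_normalizer h2 d ht g hg hgT
    exact congrArg (fun z : SpecialLinearGroup (Fin 2) F => (z : Matrix (Fin 2) (Fin 2) F)) h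

end Cfsg.Agent.S2428
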