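import Cfsg.Statements.S2433
import Mathlib
import Cfsg.Agent.Lib.Helper5.BorelValues
import Cfsg.Agent.Lib.Helper5.BorelGL2

set_option autoImplicit false
open Cfsg

namespace Cfsg.Agent.S2433

/-- Let F be a finite field with q elements, q odd, α a multiplicative character of F, and R(α) the function on SL₂ induced from the linear character b ↦ α(b₁₁) of the upper triangular subgroup. Then R(α) takes the value α(a) + α(a⁻¹) at a diagonal element with entries a, a⁻¹, a² ≠ 1; the value 0 at every element with no eigenvector in F²; the value α(ε) at an upper triangular element with both diagonal entries ε and non-zero upper right entry; and the value (q + 1)α(ε) at the scalar element ε (ε = ±1). -/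
theorem result {F : Type*} [Field F] [Fintype F] [DecidableEq F] (hodd : Odd (Fintype.card F)) (α : MulChar F ℂ) (g : Matrix.SpecialLinearGroup (Fin 2) F) :
    ((g : Matrix (Fin 2) (Fin 2) F) 0 1 = 0 → (g : Matrix (Fin 2) (Fin 2) F) 1 0 = 0 → (g : Matrix (Fin 2) (Fin 2) F) 0 0 ^ 2 ≠ 1 →
      (Cfsg.indFun ((Cfsg.upperTriangularGL 2 F).comap Matrix.SpecialLinearGroup.toGL) (fun b => α (((b : Matrix.SpecialLinearGroup (Fin 2) F) : Matrix (Fin 2) (Fin 2) F) 0 0))) g = α ((g : Matrix (Fin 2) (Fin 2) F) 0 0) + α ((g : Matrix (Fin 2) (Fin 2) F) 1 1)) ∧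
    ((∀ (c : F) (v : Fin 2 → F), v ≠ 0 → (g : Matrix (Fin 2) (Fin 2) F).mulVec v ≠ c • v) → (Cfsg.indFun ((Cfsg.upperTriangularGL 2 F).comap Matrix.SpecialLinearGroup.toGL) (fun b => α (((b : Matrix.SpecialLinearGroup (Fin 2) F) : Matrix (Fin 2) (Fin 2) F) 0 0))) g = 0) ∧
    ((g : Matrix (Fin 2) (Fin 2) F) 1 0 = 0 → (g : Matrix (Fin 2) (Fin 2) F) 0 0 = (g : Matrix (Fin 2) (Fin 2) F) 1 1 → (g : Matrix (Fin 2) (Fin 2) F) 0 1 ≠ 0 →
      (Cfsg.indFun ((Cfsg.upperTriangularGL 2 F).comap Matrix.SpecialLinearGroup.toGL) (fun b => α (((b : Matrix.SpecialLinearGroup (Fin 2) F) : Matrix (Fin 2) (Fin 2) F) 0 0))) g = α ((g : Matrix (Fin 2) (Fin 2) F) 0 0)) ∧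
    ((g : Matrix (Fin 2) (Fin 2) F) 0 1 = 0 → (g : Matrix (Fin 2) (Fin 2) F) 1 0 = 0 → (g : Matrix (Fin 2) (Fin 2) F) 0 0 = (g : Matrix (Fin 2) (Fin 2) F) 1 1 →
      (Cfsg.indFun ((Cfsg.upperTriangularGL 2 F).comap Matrix.SpecialLinearGroup.toGL) (fun b => α (((b : Matrix.SpecialLinearGroup (Fin 2) F) : Matrix (Fin 2) (Fin 2) F) 0 0))) g = ((Fintype.card F : ℂ) + 1) * α ((g : Matrix (Fin 2) (Fin 2) F) 0 0)) := by
  classical
  obtain ⟨a, ha⟩ : ∃ a : F, (g : Matrix (Fin 2) (Fin 2) F) 0 0 = a := ⟨_, rfl⟩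
  obtain ⟨b, hb⟩ : ∃ b : F, (g : Matrix (Fin 2) (Fin 2) F) 0 1 = b := ⟨_, rfl⟩
  obtain ⟨c, hc⟩ : ∃ c : F, (g : Matrix (Fin 2) (Fin 2) F) 1 0 = c := ⟨_, rfl⟩
  obtain ⟨d, hd⟩ : ∃ d : F, (g : Matrix (Fin 2) (Fin 2) F) 1 1 = d := ⟨_, rfl⟩
  have key := Cfsg.Agent.Lib.Helper5.indFun_borel_value' Cfsg.Agent.Lib.Helper5.slM
    ((Cfsg.upperTriangularGL 2 F).comap Matrix.SpecialLinearGroup.toGL)
    Cfsg.Agent.Lib.Helper5.slX Cfsg.Agent.Lib.Helper5.mem_borelSL_two
    Cfsg.Agent.Lib.Helper5.slM_slX (fun a _ => α a) g a b c d ha hb hc hd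
  have key' : Cfsg.indFun ((Cfsg.upperTriangularGL 2 F).comap Matrix.SpecialLinearGroup.toGL)
      (fun b => α (((b : Matrix.SpecialLinearGroup (Fin 2) F) : Matrix (Fin 2) (Fin 2) F) 0 0)) g
      = (if c = 0 then α a else 0)
        + ∑ s : F, if c * s ^ 2 + (d - a) * s - b = 0 then α (c * s + d) else 0 := key
  have hdet : a * d - b * c = 1 := by
    have := g.2
    rw [Matrix.det_fin_two, ha, hb, hc, hd] at this
    exact this
  have hgM : (g : Matrix (Fin 2) (Fin 2) F) = !![a, b; c, d] := by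
    rw [Matrix.eta_fin_two (g : Matrix (Fin 2) (Fin 2) F), ha, hb, hc, hd]
  rw [key', hgM]
  clear key key'
  simp only [Matrix.of_apply, Matrix.cons_val', Matrix.cons_val_zero, Matrix.cons_val_one,
    Matrix.empty_val', Matrix.cons_val_fin_one]
  refine ⟨?_, ?_, ?_, ?_⟩
  · intro hb0 hc0 ha2
    subst hb0 hc0
    rw [mul_zero, sub_zero] at hdet
    have hne : d - a ≠ 0 := by
      intro h
      apply ha2
      rw [sub_eq_zero] at h
      rw [sq, ← hdet, h]
    rw [if_pos rfl]
    congr 1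
    have : ∀ s : F, (if (0 : F) * s ^ 2 + (d - a) * s - 0 = 0 then α (0 * s + d) else 0)
        = if s = 0 then α d else 0 := by
      intro s
      rw [zero_mul, zero_mul, zero_add, zero_add, sub_zero]
      refine if_congr ?_ rfl rfl
      rw [mul_eq_zero]
      exact ⟨fun h => h.resolve_left hne, fun h => Or.inr h⟩
    rw [Finset.sum_congr rfl fun s _ => this s, Finset.sum_ite_eq']
    simp
  · intro hno
    have hc0 : c ≠ 0 := by
      intro hc0
      apply hno a ![1, 0]
      · intro h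
        have := congrFun h 0
        simp at this
      · ext i
        fin_cases i <;> simp [Matrix.mulVec, dotProduct, hc0]
    rw [if_neg hc0, zero_add]
    apply Finset.sum_eq_zero
    intro s _
    rw [if_neg]
    intro hs
    apply hno (c * s + d) ![s, 1]
    · intro h
      have := congrFun h 1
      simp at this
    · ext i
      fin_cases i
      · simp [Matrix.mulVec, dotProduct]
        linear_combination -hs
      · simp [Matrix.mulVec, dotProduct]
  · intro hc0 had hb0
    subst hc0 had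
    rw [if_pos rfl]
    have : ∀ s : F, (if (0 : F) * s ^ 2 + (a - a) * s - b = 0 then α (0 * s + a) else 0) = 0 := by
      intro s
      rw [if_neg]
      rw [sub_self, zero_mul, zero_mul, zero_add, zero_sub, neg_eq_zero]
      exact hb0
    rw [Finset.sum_congr rfl fun s _ => this s, Finset.sum_const_zero, add_zero]
  · intro hb0 hc0 had
    subst hc0 had hb0
    rw [if_pos rfl]
    have : ∀ s : F, (if (0 : F) * s ^ 2 + (a - a) * s - 0 = 0 then α (0 * s + a) else 0)
        = α a := by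
      intro s
      rw [if_pos]
      · rw [zero_mul, zero_add]
      · rw [sub_self, zero_mul, zero_mul, zero_add, sub_zero]
    rw [Finset.sum_congr rfl fun s _ => this s, Finset.sum_const, Finset.card_univ, nsmul_eq_mul]
    ring

end Cfsg.Agent.S2433
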