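import Cfsg.Statements.S2434
import Cfsg.Agent.Lib.Helper5.SL2OddCases
import Cfsg.Agent.Lib.Helper5.SL2OddCount
import Cfsg.Agent.Lib.Helper5.SL2Q3
import Cfsg.Agent.Lib.Helper5.SL2Central

set_option autoImplicit false
open Cfsg

namespace Cfsg.Agent.S2434

open Matrix Cfsg.Agent.Lib.Helper5 Cfsg.Agent.Lib.Helper1 Cfsg.Agent.Lib.Helper4

theorem exists_sq_ne_one_iff {A : Type*} [Group A] (θ : A →* ℂˣ) :
    (∃ c : A, θ c ^ 2 ≠ 1) ↔ θ ≠ θ⁻¹ := by
  constructor
  · rintro ⟨c, hc⟩ h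
    apply hc
    have h1 : θ c = (θ c)⁻¹ := by
      conv_lhs => rw [h]
      rfl
    rw [sq, ← eq_inv_iff_mul_eq_one]
    exact h1
  · intro h
    by_contra hcon
    simp only [not_exists, not_not] at hcon
    apply h
    ext c
    rw [MonoidHom.inv_apply]
    congr 1
    rw [eq_inv_iff_mul_eq_one, ← sq]
    exact hcon c

section
variable {F : Type*} [Field F] [Fintype F] [DecidableEq F]
  (C : Subgroup (SpecialLinearGroup (Fin 2) F))

theorem cuspChar_torus_value (hC : IsCyclic C) (hcard : Nat.card C = Fintype.card F + 1)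
    (θ : C →* ℂˣ) (c : C)
    (hcz : (c : SpecialLinearGroup (Fin 2) F) ∉ Subgroup.center (SpecialLinearGroup (Fin 2) F)) :
    cuspChar C hC hcard θ c = -((θ c).val + (θ c)⁻¹.val) := by
  have hns : ¬ ∃ r : F, ((c : SpecialLinearGroup (Fin 2) F) : Matrix (Fin 2) (Fin 2) F)
      = r • (1 : Matrix (Fin 2) (Fin 2) F) := fun h => hcz ((mem_center_iff_scalar _).2 h)
  unfold cuspChar
  rw [cuspFun_torus C hC hcard _ _ c.1 c.2 hns]
  have h1 : (⟨(c : SpecialLinearGroup (Fin 2) F)⁻¹, C.inv_mem c.2⟩ : C) = c⁻¹ := rfl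
  rw [h1, map_inv]

end


/-- Let F be a finite field with q elements, q odd, and C a cyclic subgroup of order q + 1 of SL₂ over F (a non-split torus; it contains the centre). For every homomorphism θ from C to the non-zero complex numbers with θ² ≠ 1 there is an irreducible complex character χ of degree q − 1 such that χ(c) = −θ(c) − θ(c)⁻¹ for every non-central c in C, χ(zg) = θ(z)χ(g) for central z in C, χ vanishes at diagonal elements with entry a, a² ≠ 1, and χ takes the value −1 at every upper unitriangular element other than 1. Conversely every irreducible character of degree q − 1 has, for some such θ, the values −θ(c) − θ(c)⁻¹ at the non-central elements c of C (for q ≥ 5 these are exactly the cuspidal characters of degree q − 1). -/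
theorem result {F : Type*} [Field F] [Fintype F] (hodd : Odd (Fintype.card F))
    (C : Subgroup (Matrix.SpecialLinearGroup (Fin 2) F)) (hC : IsCyclic C) (hcard : Nat.card C = Fintype.card F + 1) :
    (∀ θ : C →* ℂˣ, (∃ c : C, θ c ^ 2 ≠ 1) →
      ∃ χ : Matrix.SpecialLinearGroup (Fin 2) F → ℂ, Cfsg.IsIrrCharacter (Matrix.SpecialLinearGroup (Fin 2) F) χ ∧ χ 1 = (Fintype.card F : ℂ) - 1 ∧
        (∀ c : C, (c : Matrix.SpecialLinearGroup (Fin 2) F) ∉ Subgroup.center (Matrix.SpecialLinearGroup (Fin 2) F) → χ c = -((θ c).val + (θ c)⁻¹.val)) ∧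
        (∀ c : C, (c : Matrix.SpecialLinearGroup (Fin 2) F) ∈ Subgroup.center (Matrix.SpecialLinearGroup (Fin 2) F) → ∀ g : Matrix.SpecialLinearGroup (Fin 2) F, χ ((c : Matrix.SpecialLinearGroup (Fin 2) F) * g) = (θ c).val * χ g) ∧
        (∀ g : Matrix.SpecialLinearGroup (Fin 2) F, (g : Matrix (Fin 2) (Fin 2) F) 0 1 = 0 → (g : Matrix (Fin 2) (Fin 2) F) 1 0 = 0 → (g : Matrix (Fin 2) (Fin 2) F) 0 0 ^ 2 ≠ 1 → χ g = 0) ∧
        (∀ g : Matrix.SpecialLinearGroup (Fin 2) F, (g : Matrix (Fin 2) (Fin 2) F) 1 0 = 0 → (g : Matrix (Fin 2) (Fin 2) F) 0 0 = 1 → (g : Matrix (Fin 2) (Fin 2) F) 1 1 = 1 → (g : Matrix (Fin 2) (Fin 2) F) 0 1 ≠ 0 → χ g = -1)) ∧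
    (∀ χ : Matrix.SpecialLinearGroup (Fin 2) F → ℂ, Cfsg.IsIrrCharacter (Matrix.SpecialLinearGroup (Fin 2) F) χ → χ 1 = (Fintype.card F : ℂ) - 1 →
      ∃ θ : C →* ℂˣ, (∃ c : C, θ c ^ 2 ≠ 1) ∧
        ∀ c : C, (c : Matrix.SpecialLinearGroup (Fin 2) F) ∉ Subgroup.center (Matrix.SpecialLinearGroup (Fin 2) F) → χ c = -((θ c).val + (θ c)⁻¹.val)) := by
  classical
  refine ⟨?_, ?_⟩
  · intro θ hθe
    have hθ : θ ≠ θ⁻¹ := (exists_sq_ne_one_iff θ).1 hθe
    refine ⟨cuspChar C hC hcard θ, isIrrCharacter_cuspChar C hC hcard hθ,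
      cuspChar_apply_one C hC hcard θ, ?_, ?_, ?_, ?_⟩
    · intro c hcz
      exact cuspChar_torus_value C hC hcard θ c hcz
    · intro c hcz g
      exact cuspChar_scalar_mul C hC hcard θ c.1 ((mem_center_iff_scalar _).1 hcz) g
    · intro g h01 h10 ha
      obtain ⟨a, ha', -, hg⟩ := exists_slE_of_lower_zero g h10
      rw [hg]
      unfold cuspChar
      exact cuspFun_slE_regular C hC hcard _ _ a _ (by rw [ha']; exact ha)
    · intro g h10 h00 h11 h01
      obtain ⟨a, ha', -, hg⟩ := exists_slE_of_lower_zero g h10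
      rw [hg]
      unfold cuspChar
      rw [cuspFun_slE_unip C hC hcard _ _ a _ (by rw [ha', h00]; ring) h01, ha', h00, map_one]
  · intro χ hχ hdeg
    have hq3 := three_le_card_of_odd hodd
    obtain ⟨ν, α₀, θ₀, χp, χm, ηp, ηm, T⟩ := exists_oddTable hodd C hC hcard
    rw [← card_sub_one_cast] at hdeg
    have hcusp : ∀ θ : C →* ℂˣ, θ ≠ θ⁻¹ → χ = cuspChar C hC hcard θ →
        ∃ θ : C →* ℂˣ, (∃ c : C, θ c ^ 2 ≠ 1) ∧
        ∀ c : C, (c : SpecialLinearGroup (Fin 2) F) ∉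
          Subgroup.center (SpecialLinearGroup (Fin 2) F) →
          χ c = -((θ c).val + (θ c)⁻¹.val) := by
      intro θ hθ h
      refine ⟨θ, (exists_sq_ne_one_iff θ).2 hθ, ?_⟩
      intro c hcz
      rw [h]
      exact cuspChar_torus_value C hC hcard θ c hcz
    have hhalf : Fintype.card F = 3 → (χ = χp ∨ χ = χm) →
        ∃ θ : C →* ℂˣ, (∃ c : C, θ c ^ 2 ≠ 1) ∧
        ∀ c : C, (c : SpecialLinearGroup (Fin 2) F) ∉
          Subgroup.center (SpecialLinearGroup (Fin 2) F) →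
          χ c = -((θ c).val + (θ c)⁻¹.val) := by
      intro hq hχpm
      have hne : Nonempty {θ : C →* ℂˣ // θ ≠ θ⁻¹} := by
        have h1 := card_torusHom_ne_inv_odd hodd C hC hcard
        have h2 : 0 < Nat.card {θ : C →* ℂˣ // θ ≠ θ⁻¹} := by rw [h1, hq]; norm_num
        exact (Nat.card_pos_iff.1 h2).1
      obtain ⟨θ, hθ⟩ := hne
      refine ⟨θ, (exists_sq_ne_one_iff θ).2 hθ, ?_⟩
      intro c hcz
      have hns : ¬ ∃ r : F, ((c : SpecialLinearGroup (Fin 2) F) : Matrix (Fin 2) (Fin 2) F)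
          = r • (1 : Matrix (Fin 2) (Fin 2) F) := fun h => hcz ((mem_center_iff_scalar _).2 h)
      obtain ⟨-, ht, hr⟩ := torus_structure C hC hcard c.1 c.2 hns
      have hhalf := T.half_χ c.1 (isConj_sigma_of_trace ν c.1 ht)
      rw [psFun_of_no_root α₀ c.1 (no_root_of_rootCount_zero _ hr)] at hhalf
      have hzero : χ c = 0 := by
        rcases hχpm with h | h
        · rw [h]
          exact (mul_eq_zero.1 hhalf.1).resolve_left two_ne_zero
        · rw [h]
          exact (mul_eq_zero.1 hhalf.2).resolve_left two_ne_zero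
      rw [hzero]
      have := torus_sum_eq_zero_of_card_three C hq hC hcard θ hθ c.1 c.2 hns
      have h1 : (⟨(c : SpecialLinearGroup (Fin 2) F)⁻¹, C.inv_mem c.2⟩ : C) = c⁻¹ := rfl
      rw [h1, map_inv] at this
      have h2 : (⟨(c : SpecialLinearGroup (Fin 2) F), c.2⟩ : C) = c := rfl
      rw [h2] at this
      rw [this, neg_zero]
    obtain ⟨k, hk⟩ := hodd
    rcases T.cases hχ with ⟨-, h⟩ | ⟨-, h⟩ | ⟨-, h⟩ | ⟨⟨θ, hθ, h⟩, -⟩ | ⟨hpm, h⟩ | ⟨-, h⟩
    · exfalso; have := nat_of_apply h hdeg; omega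
    · exfalso; have := nat_of_apply h hdeg; omega
    · exfalso; have := nat_of_apply h hdeg; omega
    · exact hcusp θ hθ h
    · have := nat_of_apply h hdeg
      exact hhalf (by omega) hpm
    · exfalso; have := nat_of_apply h hdeg; omega

end Cfsg.Agent.S2434
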