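import Cfsg.Statements.S2435
import Cfsg.Agent.Lib.Helper5.SL2OddCases
import Cfsg.Agent.Lib.Helper5.SL2QuadValues
import Cfsg.Agent.Lib.Helper5.SL2TorusConj

set_option autoImplicit false
open Cfsg

namespace Cfsg.Agent.S2435

open Matrix Cfsg.Agent.Lib.Helper5 Cfsg.Agent.Lib.Helper1 Cfsg.Agent.Lib.Helper4

section
variable {F : Type*} [Field F]

theorem trace_sq_ne_four_of_diag (g : SpecialLinearGroup (Fin 2) F)
    (h01 : (g : Matrix (Fin 2) (Fin 2) F) 0 1 = 0)
    (ha : (g : Matrix (Fin 2) (Fin 2) F) 0 0 ^ 2 ≠ 1) :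
    (g : Matrix (Fin 2) (Fin 2) F).trace ^ 2 ≠ 4 := by
  intro h
  have hd := g.det_coe
  rw [Matrix.det_fin_two, h01, zero_mul, sub_zero] at hd
  rw [Matrix.trace_fin_two] at h
  have h1 : ((g : Matrix (Fin 2) (Fin 2) F) 0 0 - (g : Matrix (Fin 2) (Fin 2) F) 1 1) ^ 2 = 0 := by
    linear_combination h - 4 * hd
  have h2 : (g : Matrix (Fin 2) (Fin 2) F) 0 0 = (g : Matrix (Fin 2) (Fin 2) F) 1 1 :=
    sub_eq_zero.1 ((pow_eq_zero_iff (two_ne_zero)).1 h1)
  apply ha
  rw [sq]
  nth_rewrite 2 [h2]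
  exact hd

theorem pow_eq_one_iff_of_isConj {G : Type*} [Group G] {g c : G} (h : IsConj g c) (m : ℕ) :
    g ^ m = 1 ↔ c ^ m = 1 := by
  obtain ⟨x, hx⟩ := isConj_iff.1 h
  rw [← hx, conj_pow]
  constructor
  · intro h1
    rw [h1, mul_one, mul_inv_cancel]
  · intro h1
    have : g ^ m = x⁻¹ * (x * g ^ m * x⁻¹) * x := by group
    rw [this, h1, mul_one, inv_mul_cancel]

end


/-- Let F be a finite field with q elements, q odd and q ≥ 5, and χ an irreducible complex character of SL₂ over F. If χ has degree (q + 1)/2, then at a diagonal element with entry a, a² ≠ 1, χ takes the value 1 when a is a square in F and −1 otherwise. If χ has degree (q − 1)/2, then at an element g with no eigenvector in F² (so g has order dividing q + 1), χ takes the value −1 when g raised to the power (q + 1)/2 is the identity and the value 1 otherwise. -/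
theorem result {F : Type*} [Field F] [Fintype F] (hodd : Odd (Fintype.card F)) (hq : 5 ≤ Fintype.card F)
    (χ : Matrix.SpecialLinearGroup (Fin 2) F → ℂ) (hχ : Cfsg.IsIrrCharacter (Matrix.SpecialLinearGroup (Fin 2) F) χ) (g : Matrix.SpecialLinearGroup (Fin 2) F) :
    (χ 1 = (((Fintype.card F + 1) / 2 : ℕ) : ℂ) → (g : Matrix (Fin 2) (Fin 2) F) 0 1 = 0 → (g : Matrix (Fin 2) (Fin 2) F) 1 0 = 0 → (g : Matrix (Fin 2) (Fin 2) F) 0 0 ^ 2 ≠ 1 →
      (IsSquare ((g : Matrix (Fin 2) (Fin 2) F) 0 0) → χ g = 1) ∧ (¬ IsSquare ((g : Matrix (Fin 2) (Fin 2) F) 0 0) → χ g = -1)) ∧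
    (χ 1 = (((Fintype.card F - 1) / 2 : ℕ) : ℂ) → (∀ (c : F) (v : Fin 2 → F), v ≠ 0 → (g : Matrix (Fin 2) (Fin 2) F).mulVec v ≠ c • v) →
      (((g ^ ((Fintype.card F + 1) / 2)) : Matrix (Fin 2) (Fin 2) F) = 1 → χ g = -1) ∧ (((g ^ ((Fintype.card F + 1) / 2)) : Matrix (Fin 2) (Fin 2) F) ≠ 1 → χ g = 1)) := by
  classical
  obtain ⟨C, hC, hcard⟩ := exists_torus (F := F)
  have h2 := two_ne_zero_of_odd hodd
  obtain ⟨ν, α₀, θ₀, χp, χm, ηp, ηm, T⟩ := exists_oddTable hodd C hC hcard
  refine ⟨?_, ?_⟩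
  · intro hdeg h01 h10 ha
    have hpm := T.eq_half_ps hq hχ hdeg
    have htr := trace_sq_ne_four_of_diag g h01 ha
    have hhalf := T.half_χ g (isConj_sigma_of_trace ν g htr)
    obtain ⟨a, ha', -, hg⟩ := exists_slE_of_lower_zero g h10
    have hps : psFun α₀ g = 2 * α₀ (a : F) := by
      rw [hg, h01, psFun_slE, fixCount_eq, if_neg (by rw [ha']; exact ha)]
      have h3 : α₀ (a : F) * α₀ (a : F) = 1 := mulChar_mul_self_eq_one α₀ T.α_inv _ a.ne_zero
      have h4 : α₀ (a : F) * α₀ ((a⁻¹ : Fˣ) : F) = 1 := by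
        rw [← map_mul, ← Units.val_mul, mul_inv_cancel, Units.val_one, map_one]
      have h5 : α₀ ((a⁻¹ : Fˣ) : F) = α₀ (a : F) := by
        have : α₀ (a : F) ≠ 0 := mulChar_ne_zero α₀ a.ne_zero
        apply mul_left_cancel₀ this
        rw [h4, h3]
      rw [h5]
      ring
    have hval : χ g = α₀ (a : F) := by
      rcases hpm with h | h
      · rw [h]
        have := hhalf.1
        rw [hps] at this
        exact mul_left_cancel₀ two_ne_zero this
      · rw [h]
        have := hhalf.2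
        rw [hps] at this
        exact mul_left_cancel₀ two_ne_zero this
    rw [hval, ha']
    refine ⟨fun hsq => ?_, fun hsq => ?_⟩
    · exact mulChar_eq_one_of_isSquare α₀ T.α_inv _ (by rw [← ha']; exact a.ne_zero) hsq
    · exact mulChar_eq_neg_one_of_not_isSquare α₀ T.α_inv T.α_ne _ hsq
  · intro hdeg hno
    have hpm := T.eq_half_cusp hq hχ hdeg
    have hroot := no_root_of_no_eigenvector g hno
    have htr := trace_sq_ne_four_of_no_root g hroot
    have hhalf := T.half_η g (isConj_sigma_of_trace ν g htr)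
    obtain ⟨c, hc, hns, hconj⟩ := exists_conj_mem_torus C h2 hC hcard g hroot
    obtain ⟨k, hk⟩ := hodd
    have hm : (Fintype.card F + 1) / 2 = k + 1 := by omega
    have hquad := quadHom_apply (A := C) hC (k + 1) (by omega) (by rw [hcard]; omega) θ₀
      T.θ_inv T.θ_ne ⟨c, hc⟩
    have hcusp : cuspChar C hC hcard θ₀ g = -((θ₀ ⟨c, hc⟩ : ℂ) + (θ₀ ⟨c⁻¹, C.inv_mem hc⟩ : ℂ)) := by
      have hcf : Cfsg.IsClassFunction (SpecialLinearGroup (Fin 2) F) (cuspChar C hC hcard θ₀) :=
        cuspFun_isClassFunction C _ _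
      rw [classFun_of_isConj hcf hconj]
      unfold cuspChar
      exact cuspFun_torus C hC hcard _ _ c hc hns
    have hinv : (θ₀ ⟨c⁻¹, C.inv_mem hc⟩ : ℂ) = (θ₀ ⟨c, hc⟩ : ℂ)⁻¹ := by
      have h1 : (⟨c⁻¹, C.inv_mem hc⟩ : C) = (⟨c, hc⟩ : C)⁻¹ := rfl
      rw [h1, map_inv, Units.val_inv_eq_inv_val]
    have hiff : ((g ^ ((Fintype.card F + 1) / 2) : SpecialLinearGroup (Fin 2) F) :
        Matrix (Fin 2) (Fin 2) F) = 1 ↔ (⟨c, hc⟩ : C) ^ (k + 1) = 1 := by
      rw [hm]
      constructor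
      · intro h
        have h1 : g ^ (k + 1) = 1 := Subtype.ext h
        apply Subtype.ext
        exact (pow_eq_one_iff_of_isConj hconj (k + 1)).1 h1
      · intro h
        have h1 : c ^ (k + 1) = 1 := congrArg Subtype.val h
        rw [(pow_eq_one_iff_of_isConj hconj (k + 1)).2 h1]
        rfl
    have hval : ∀ w : ℂ, (θ₀ ⟨c, hc⟩ : ℂ) = w → w * w = 1 → χ g = -w := by
      intro w hw hww
      have hw0 : w ≠ 0 := by
        intro h
        rw [h, mul_zero] at hww
        exact zero_ne_one hww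
      have hwi : w⁻¹ = w := by
        apply mul_left_cancel₀ hw0
        rw [mul_inv_cancel₀ hw0, hww]
      rw [hinv, hw, hwi] at hcusp
      rcases hpm with h | h
      · rw [h]
        have := hhalf.1
        rw [hcusp] at this
        apply mul_left_cancel₀ (two_ne_zero (α := ℂ))
        rw [this]
        ring
      · rw [h]
        have := hhalf.2
        rw [hcusp] at this
        apply mul_left_cancel₀ (two_ne_zero (α := ℂ))
        rw [this]
        ring
    refine ⟨fun h => ?_, fun h => ?_⟩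
    · have h1 := hquad.1 (hiff.1 h)
      have := hval 1 (by rw [h1, Units.val_one]) (by ring)
      exact this
    · have h1 := hquad.2 (fun h' => h (hiff.2 h'))
      have := hval (-1) (by rw [h1, Units.val_neg, Units.val_one]) (by ring)
      rw [this, neg_neg]

end Cfsg.Agent.S2435
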