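import Cfsg.Statements.S2438
import Cfsg.Agent.Lib.Helper5.SL2OddCases

set_option autoImplicit false
open Cfsg

namespace Cfsg.Agent.S2438

open Matrix Cfsg.Agent.Lib.Helper5 Cfsg.Agent.Lib.Helper1 Cfsg.Agent.Lib.Helper4

section
variable {F : Type*} [Field F] [Fintype F] [DecidableEq F]

/-- The upper unitriangular element with off-diagonal entry `x`. -/
noncomputable def uSL (x : F) : SpecialLinearGroup (Fin 2) F :=
  ((slE ((1 : Fˣ), x) : borelSL F) : SpecialLinearGroup (Fin 2) F)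

omit [Fintype F] [DecidableEq F] in
theorem uSL_coe (x : F) : ((uSL x : SpecialLinearGroup (Fin 2) F) : Matrix (Fin 2) (Fin 2) F)
    = !![1, x; 0, 1] := by
  unfold uSL
  rw [slE_coe]
  simp

theorem sum_unip (f : SpecialLinearGroup (Fin 2) F → ℂ) :
    (∑ g : SpecialLinearGroup (Fin 2) F, if (g : Matrix (Fin 2) (Fin 2) F) 1 0 = 0 ∧
      (g : Matrix (Fin 2) (Fin 2) F) 0 0 = 1 ∧ (g : Matrix (Fin 2) (Fin 2) F) 1 1 = 1
      then f g else 0) = ∑ x : F, f (uSL x) := by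
  rw [← Finset.sum_filter]
  symm
  apply Finset.sum_bij (fun (x : F) _ => uSL x)
  · intro x _
    rw [Finset.mem_filter]
    refine ⟨Finset.mem_univ _, ?_⟩
    rw [uSL_coe]
    simp
  · intro x _ y _ hxy
    have h := congrArg (fun g : SpecialLinearGroup (Fin 2) F =>
      (g : Matrix (Fin 2) (Fin 2) F) 0 1) hxy
    simp only [uSL_coe] at h
    simpa using h
  · intro g hg
    rw [Finset.mem_filter] at hg
    obtain ⟨-, h10, h00, h11⟩ := hg
    obtain ⟨a, ha, -, hga⟩ := exists_slE_of_lower_zero g h10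
    have ha1 : a = 1 := by
      apply Units.ext
      rw [ha, h00]
      rfl
    refine ⟨(g : Matrix (Fin 2) (Fin 2) F) 0 1, Finset.mem_univ _, ?_⟩
    rw [hga, ha1]
    rfl
  · intro x _
    rfl

theorem psFun_uSL (β : MulChar F ℂ) (x : F) :
    psFun β (uSL x) = 1 + if x = 0 then (Fintype.card F : ℂ) else 0 := by
  unfold uSL
  rw [psFun_slE, fixCount_eq, if_pos (by simp)]
  simp

theorem sum_psFun_uSL (β : MulChar F ℂ) :
    ∑ x : F, psFun β (uSL x) = 2 * (Fintype.card F : ℂ) := by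
  simp only [psFun_uSL]
  rw [Finset.sum_add_distrib, Finset.sum_ite_eq', if_pos (Finset.mem_univ _), Finset.sum_const,
    Finset.card_univ, nsmul_eq_mul, mul_one]
  ring

theorem sum_stFun_uSL : ∑ x : F, stFun (uSL x) = (Fintype.card F : ℂ) := by
  unfold stFun
  simp only [psFun_uSL]
  simp

omit [Fintype F] [DecidableEq F] in
theorem uSL_zero : uSL (0 : F) = 1 := by
  apply Subtype.ext
  show ((uSL (0 : F) : SpecialLinearGroup (Fin 2) F) : Matrix (Fin 2) (Fin 2) F) = 1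
  rw [uSL_coe, Matrix.one_fin_two]

theorem cuspChar_uSL (C : Subgroup (SpecialLinearGroup (Fin 2) F)) (hC : IsCyclic C)
    (hcard : Nat.card C = Fintype.card F + 1) (θ : C →* ℂˣ) (x : F) :
    cuspChar C hC hcard θ (uSL x) = if x = 0 then (Fintype.card F : ℂ) - 1 else -1 := by
  by_cases hx : x = 0
  · rw [if_pos hx, hx, uSL_zero, cuspChar_apply_one]
  · rw [if_neg hx]
    unfold cuspChar uSL
    rw [cuspFun_slE_unip C hC hcard _ _ 1 x (by simp) hx]
    simp

theorem sum_cuspChar_uSL (C : Subgroup (SpecialLinearGroup (Fin 2) F)) (hC : IsCyclic C)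
    (hcard : Nat.card C = Fintype.card F + 1) (θ : C →* ℂˣ) :
    ∑ x : F, cuspChar C hC hcard θ (uSL x) = 0 := by
  simp only [cuspChar_uSL]
  have : ∀ x : F, (if x = 0 then (Fintype.card F : ℂ) - 1 else -1)
      = (if x = 0 then (Fintype.card F : ℂ) else 0) - 1 := by
    intro x
    split_ifs <;> ring
  simp only [this]
  rw [Finset.sum_sub_distrib, Finset.sum_ite_eq', if_pos (Finset.mem_univ _), Finset.sum_const,
    Finset.card_univ, nsmul_eq_mul, mul_one]
  ring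

omit [Fintype F] [DecidableEq F] in
theorem sigmaSL_uSL (ν : Fˣ) (x : F) : sigmaSL ν (uSL x) = uSL ((ν : F) * x) := by
  apply Subtype.ext
  show ((sigmaSL ν (uSL x) : SpecialLinearGroup (Fin 2) F) : Matrix (Fin 2) (Fin 2) F) = _
  rw [sigmaSL_coe, uSL_coe, uSL_coe]
  simp

omit [DecidableEq F] in
/-- Two functions exchanged by the diagonal automorphism have the same sum over the unipotent
subgroup. -/
theorem sum_uSL_half (ν : Fˣ) (f₁ f₂ : SpecialLinearGroup (Fin 2) F → ℂ)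
    (h : ∀ g, f₁ (sigmaSL ν g) = f₂ g) (S : ℂ)
    (hS : ∑ x : F, (f₁ + f₂) (uSL x) = 2 * S) :
    ∑ x : F, f₁ (uSL x) = S ∧ ∑ x : F, f₂ (uSL x) = S := by
  have h1 : ∑ x : F, f₂ (uSL x) = ∑ x : F, f₁ (uSL x) := by
    symm
    apply Fintype.sum_equiv (Equiv.mulLeft₀ (ν : F) ν.ne_zero).symm
    intro x
    rw [← h, sigmaSL_uSL]
    congr 2
    simp [Equiv.mulLeft₀]
  simp only [Pi.add_apply] at hS
  rw [Finset.sum_add_distrib, h1] at hS
  have h2 : ∑ x : F, f₁ (uSL x) = S := by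
    have : (2 : ℂ) * ∑ x : F, f₁ (uSL x) = 2 * S := by linear_combination hS
    exact mul_left_cancel₀ two_ne_zero this
  exact ⟨h2, h1.trans h2⟩

end


/-- Let F be a finite field with q elements, q odd, q ≥ 5, U the upper unitriangular subgroup of SL₂ over F, and χ an irreducible complex character. The sum of the values of χ over U equals 2q, q, 0, q, 0 according as the degree of χ is q + 1, q, q − 1, (q + 1)/2, (q − 1)/2; so among these five degrees the sum vanishes exactly for the degrees q − 1 and (q − 1)/2, i.e. the irreducible characters of those two degrees are the ones whose restriction to U does not contain the trivial character (the cuspidal characters), while those of degree q + 1, q and (q + 1)/2 are not cuspidal. -/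
theorem result {F : Type*} [Field F] [Fintype F] [DecidableEq F] (hodd : Odd (Fintype.card F)) (hq : 5 ≤ Fintype.card F)
    (χ : Matrix.SpecialLinearGroup (Fin 2) F → ℂ) (hχ : Cfsg.IsIrrCharacter (Matrix.SpecialLinearGroup (Fin 2) F) χ) :
    (χ 1 = (Fintype.card F : ℂ) + 1 →
      (∑ g : Matrix.SpecialLinearGroup (Fin 2) F, if (g : Matrix (Fin 2) (Fin 2) F) 1 0 = 0 ∧ (g : Matrix (Fin 2) (Fin 2) F) 0 0 = 1 ∧ (g : Matrix (Fin 2) (Fin 2) F) 1 1 = 1 then χ g else 0) = 2 * (Fintype.card F : ℂ)) ∧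
    (χ 1 = (Fintype.card F : ℂ) →
      (∑ g : Matrix.SpecialLinearGroup (Fin 2) F, if (g : Matrix (Fin 2) (Fin 2) F) 1 0 = 0 ∧ (g : Matrix (Fin 2) (Fin 2) F) 0 0 = 1 ∧ (g : Matrix (Fin 2) (Fin 2) F) 1 1 = 1 then χ g else 0) = (Fintype.card F : ℂ)) ∧
    (χ 1 = (Fintype.card F : ℂ) - 1 →
      (∑ g : Matrix.SpecialLinearGroup (Fin 2) F, if (g : Matrix (Fin 2) (Fin 2) F) 1 0 = 0 ∧ (g : Matrix (Fin 2) (Fin 2) F) 0 0 = 1 ∧ (g : Matrix (Fin 2) (Fin 2) F) 1 1 = 1 then χ g else 0) = 0) ∧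
    (χ 1 = (((Fintype.card F + 1) / 2 : ℕ) : ℂ) →
      (∑ g : Matrix.SpecialLinearGroup (Fin 2) F, if (g : Matrix (Fin 2) (Fin 2) F) 1 0 = 0 ∧ (g : Matrix (Fin 2) (Fin 2) F) 0 0 = 1 ∧ (g : Matrix (Fin 2) (Fin 2) F) 1 1 = 1 then χ g else 0) = (Fintype.card F : ℂ)) ∧
    (χ 1 = (((Fintype.card F - 1) / 2 : ℕ) : ℂ) →
      (∑ g : Matrix.SpecialLinearGroup (Fin 2) F, if (g : Matrix (Fin 2) (Fin 2) F) 1 0 = 0 ∧ (g : Matrix (Fin 2) (Fin 2) F) 0 0 = 1 ∧ (g : Matrix (Fin 2) (Fin 2) F) 1 1 = 1 then χ g else 0) = 0) := by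
  obtain ⟨C, hC, hcard⟩ := exists_torus (F := F)
  obtain ⟨ν, α₀, θ₀, χp, χm, ηp, ηm, T⟩ := exists_oddTable hodd C hC hcard
  simp only [sum_unip]
  have hP : ∑ x : F, χp (uSL x) = (Fintype.card F : ℂ) ∧
      ∑ x : F, χm (uSL x) = (Fintype.card F : ℂ) := by
    apply sum_uSL_half ν χp χm T.σ_χp
    rw [← T.sum_χ]
    exact sum_psFun_uSL α₀
  have hQ : ∑ x : F, ηp (uSL x) = 0 ∧ ∑ x : F, ηm (uSL x) = 0 := by
    apply sum_uSL_half ν ηp ηm T.σ_ηp
    rw [← T.sum_η, mul_zero]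
    exact sum_cuspChar_uSL C hC hcard θ₀
  refine ⟨?_, ?_, ?_, ?_, ?_⟩
  · intro hdeg
    obtain ⟨β, -, h⟩ := exists_psFun_of_degree hχ hdeg
    rw [h]
    exact sum_psFun_uSL β
  · intro hdeg
    rw [eq_stFun_of_degree hχ hdeg]
    exact sum_stFun_uSL
  · intro hdeg
    obtain ⟨θ, -, h⟩ := exists_cuspChar_of_degree C (by omega) hC hcard hχ hdeg
    rw [h]
    exact sum_cuspChar_uSL C hC hcard θ
  · intro hdeg
    rcases T.eq_half_ps hq hχ hdeg with h | h
    · rw [h]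
      exact hP.1
    · rw [h]
      exact hP.2
  · intro hdeg
    rcases T.eq_half_cusp hq hχ hdeg with h | h
    · rw [h]
      exact hQ.1
    · rw [h]
      exact hQ.2

end Cfsg.Agent.S2438
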