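import Cfsg.Statements.S2439
import Cfsg.Agent.Lib.Helper5.PSL2Deg1
import Cfsg.Agent.Lib.Helper5.SL2Class
import Cfsg.Agent.Lib.Helper5.SL2Torus
import Cfsg.Agent.Lib.Helper5.SL2CuspInner
import Cfsg.Agent.Lib.Helper1.CharCenter
import Cfsg.Agent.Lib.Helper1.CharFound5
import Cfsg.Agent.Lib.Helper8.BlockLocal
import Cfsg.Agent.Lib.Helper8.CharPPart
import Cfsg.Agent.Lib.Helper8.BlockUnion
import Cfsg.Agent.Lib.Helper8.BlockIso
import Cfsg.Agent.Lib.Helper8.BlockCoeff
import Cfsg.Agent.Lib.Helper8.BF5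

set_option autoImplicit false
open Cfsg

namespace Cfsg.Agent.S2439


open Matrix
open scoped ComplexConjugate
open Cfsg.Agent.Lib.Helper1 Cfsg.Agent.Lib.Helper4 Cfsg.Agent.Lib.Helper5 Cfsg.Agent.Lib.Helper8

/-- central involutions act by a sign on irreducible characters -/
theorem central_sign {G : Type*} [Group G] {χ : G → ℂ} (hχ : IsIrrCharacter G χ) {z : G}
    (hz : z ∈ Subgroup.center G) (hzz : z * z = 1) :
    ∃ s : ℂ, (s = 1 ∨ s = -1) ∧ ∀ g : G, χ (g * z) = s * χ g := by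
  obtain ⟨n, ρ, hirr, rfl⟩ := hχ
  haveI := hirr
  set c := centralHom ρ ⟨z, hz⟩ with hc
  have hρ : ρ z = c • LinearMap.id := rho_central ρ ⟨z, hz⟩
  have hcc : c * c = 1 := by
    rw [hc, ← map_mul]
    have : (⟨z, hz⟩ : Subgroup.center G) * ⟨z, hz⟩ = 1 := Subtype.ext hzz
    rw [this, map_one]
  refine ⟨c, ?_, ?_⟩
  · have : (c - 1) * (c + 1) = 0 := by linear_combination hcc
    rcases mul_eq_zero.1 this with h | h
    · left; linear_combination h
    · right; linear_combination h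
  · intro g
    unfold Representation.character
    rw [map_mul, hρ, mul_smul_comm, map_smul, smul_eq_mul]
    congr 2

section generic
variable {G : Type*} [Group G] [Fintype G] {M : Ideal AlgInt} {p : ℕ}

theorem centralChar_mem_of_dvd (hM : IsPModular p M) {χ : G → ℂ} (hχ : IsIrrCharacter G χ)
    (hχp : ¬ p ∣ charDegree χ) (g : G)
    (hidx : p ∣ (Subgroup.centralizer ({g} : Set G)).index) :
    MemLocalIdeal M (centralChar χ g) := by
  have hMp := isPModular_isPrime hM
  obtain ⟨hd1, -⟩ := irr_apply_one_eq_charDegree hχ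
  unfold centralChar
  rw [hd1, div_eq_mul_inv]
  apply memLocalIdeal_mul_right hMp _ (memLocalRing_inv_natCast hM hχp)
  apply memLocalIdeal_mul_right hMp _
    (memLocalRing_char_apply (isPModular_ne_top hM) (isCharacter_of_irr hχ) g)
  exact (memLocalIdeal_natCast_iff hM _).2 hidx

theorem centralChar_sub_mem (hM : IsPModular p M) {χ : G → ℂ} (hχ : IsIrrCharacter G χ)
    (hχp : ¬ p ∣ charDegree χ) (u z : G) (hu : u ^ p = 1) (hz : z ∈ Subgroup.center G)
    (t : ℂ) (ht : ∀ g : G, χ (g * z) = t * χ g) :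
    MemLocalIdeal M (centralChar χ (u * z) -
      ((Subgroup.centralizer ({u * z} : Set G)).index : ℂ) * t) := by
  have hMp := isPModular_isPrime hM
  obtain ⟨hd1, hd0⟩ := irr_apply_one_eq_charDegree hχ
  have hd0' : (charDegree χ : ℂ) ≠ 0 := Nat.cast_ne_zero.2 hd0.ne'
  have h1 : MemLocalIdeal M (χ (u * z) - χ z) :=
    memLocalIdeal_char_mul_sub hM (isCharacter_of_irr hχ) u z 1 (by rwa [pow_one])
      (Subgroup.mem_center_iff.1 hz u)
  have h2 : χ z = t * (charDegree χ : ℂ) := by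
    have := ht 1
    rwa [one_mul, hd1] at this
  have e : centralChar χ (u * z) - ((Subgroup.centralizer ({u * z} : Set G)).index : ℂ) * t =
      ((Subgroup.centralizer ({u * z} : Set G)).index : ℂ) * (χ (u * z) - χ z) *
        ((charDegree χ : ℕ) : ℂ)⁻¹ := by
    unfold centralChar
    rw [hd1, h2]
    field_simp
  rw [e]
  apply memLocalIdeal_mul_right hMp _ (memLocalRing_inv_natCast hM hχp)
  exact memLocalIdeal_mul_left hMp (memLocalRing_natCast (isPModular_ne_top hM) _) h1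

end generic

section SL2
variable {F : Type*} [Field F] [Fintype F] [DecidableEq F]

theorem coe_neg_one' :
    ((-1 : SpecialLinearGroup (Fin 2) F) : Matrix (Fin 2) (Fin 2) F) = -1 := by
  rw [SpecialLinearGroup.coe_neg]
  rfl

theorem neg_one_center :
    (-1 : SpecialLinearGroup (Fin 2) F) ∈ Subgroup.center (SpecialLinearGroup (Fin 2) F) := by
  rw [mem_center_iff_scalar]
  refine ⟨-1, ?_⟩
  rw [coe_neg_one', neg_smul, one_smul]

theorem neg_one_mul_self : (-1 : SpecialLinearGroup (Fin 2) F) * (-1) = 1 := by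
  apply Subtype.ext
  show ((-1 : SpecialLinearGroup (Fin 2) F) : Matrix (Fin 2) (Fin 2) F) *
    ((-1 : SpecialLinearGroup (Fin 2) F) : Matrix (Fin 2) (Fin 2) F) = 1
  rw [coe_neg_one', neg_mul_neg, one_mul]

theorem char_dvd_card (p : ℕ) [Fact p.Prime] [CharP F p] : p ∣ Fintype.card F :=
  (CharP.cast_eq_zero_iff F p (Fintype.card F)).1 (Nat.cast_card_eq_zero F)

theorem pow_char_eq_one_of_trace_two (p : ℕ) [Fact p.Prime] [CharP F p]
    (g : SpecialLinearGroup (Fin 2) F) (ht : (g : Matrix (Fin 2) (Fin 2) F).trace = 2) :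
    g ^ p = 1 := by
  have hp : p.Prime := Fact.out
  set A := (g : Matrix (Fin 2) (Fin 2) F) with hA
  set N := A - 1 with hN
  have hCH := cayley_two_sl g
  rw [← hA, ht] at hCH
  have hN2 : N * N = 0 := by
    have e : A * A = (2 : F) • A - 1 := by rw [← hCH]; abel
    rw [hN, sub_mul, mul_sub, mul_sub, Matrix.one_mul, Matrix.mul_one, Matrix.one_mul, e,
      two_smul]
    abel
  have hNp : N ^ p = 0 := by
    obtain ⟨k, hk⟩ := Nat.exists_eq_add_of_le hp.two_le
    rw [hk, pow_add, pow_two, hN2, zero_mul]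
  have hAN : A = 1 + N := by rw [hN]; abel
  apply Subtype.ext
  show A ^ p = 1
  rw [hAN, add_pow_char_of_commute (R := Matrix (Fin 2) (Fin 2) F) (p := p) (Commute.one_left N),
    hNp, add_zero, one_pow]

theorem class_cases (p : ℕ) [Fact p.Prime] [CharP F p] (g : SpecialLinearGroup (Fin 2) F) :
    p ∣ (Subgroup.centralizer ({g} : Set (SpecialLinearGroup (Fin 2) F))).index ∨
      ∃ u z : SpecialLinearGroup (Fin 2) F, (z = 1 ∨ z = -1) ∧ g = u * z ∧ u ^ p = 1 := by
  by_cases ht : (g : Matrix (Fin 2) (Fin 2) F).trace ^ 2 = 4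
  · right
    have h1 : ((g : Matrix (Fin 2) (Fin 2) F).trace - 2) *
        ((g : Matrix (Fin 2) (Fin 2) F).trace + 2) = 0 := by linear_combination ht
    rcases mul_eq_zero.1 h1 with h | h
    · refine ⟨g, 1, Or.inl rfl, (mul_one g).symm, ?_⟩
      exact pow_char_eq_one_of_trace_two p g (by linear_combination h)
    · refine ⟨g * (-1), -1, Or.inr rfl, ?_, ?_⟩
      · rw [mul_assoc, neg_one_mul_self, mul_one]
      · apply pow_char_eq_one_of_trace_two p
        have : ((g * (-1) : SpecialLinearGroup (Fin 2) F) : Matrix (Fin 2) (Fin 2) F) =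
            -(g : Matrix (Fin 2) (Fin 2) F) := by
          show (g : Matrix (Fin 2) (Fin 2) F) *
            ((-1 : SpecialLinearGroup (Fin 2) F) : Matrix (Fin 2) (Fin 2) F) = _
          rw [coe_neg_one', mul_neg, mul_one]
        rw [this, Matrix.trace_neg]
        linear_combination -h
  · left
    have hpq := char_dvd_card (F := F) p
    rcases rootCount_eq_zero_or_two _ ht with h | h
    · rw [index_centralizer_of_rootCount_zero g ht h]
      exact Dvd.dvd.mul_right hpq _
    · rw [index_centralizer_of_rootCount_two g ht h]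
      exact Dvd.dvd.mul_right hpq _

theorem degree_cases (p : ℕ) [Fact p.Prime] [CharP F p] (hp : p ≠ 2)
    {χ : SpecialLinearGroup (Fin 2) F → ℂ}
    (hχ : IsIrrCharacter (SpecialLinearGroup (Fin 2) F) χ) :
    χ 1 = (Fintype.card F : ℂ) ∨ ¬ p ∣ charDegree χ := by
  have hpp : p.Prime := Fact.out
  have hpq := char_dvd_card (F := F) p
  have hq2 : 2 ≤ Fintype.card F := Fintype.one_lt_card
  have h1 : ¬ p ∣ 1 := fun h => hpp.one_lt.ne' (Nat.dvd_one.1 h)
  have hadd : ¬ p ∣ Fintype.card F + 1 := fun h => h1 ((Nat.dvd_add_right hpq).1 h)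
  have hsub : ¬ p ∣ Fintype.card F - 1 := by
    intro h
    apply h1
    refine (Nat.dvd_add_right h).1 ?_
    rwa [Nat.sub_add_cancel (by omega)]
  obtain ⟨hd1, -⟩ := irr_apply_one_eq_charDegree hχ
  rcases PSL2Deg.sl2_degree_mem hχ with h | h | h | h | ⟨hodd, h⟩ | ⟨hodd, h⟩
  · right; rw [h]; exact h1
  · left; rw [hd1, h]
  · right; rw [h]; exact hadd
  · right; rw [h]; exact hsub
  · right; rw [h]
    intro hd
    apply hadd
    obtain ⟨k, hk⟩ := hodd
    have : (Fintype.card F + 1) / 2 * 2 = Fintype.card F + 1 := by omega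
    rw [← this]
    exact Dvd.dvd.mul_right hd _
  · right; rw [h]
    intro hd
    apply hsub
    obtain ⟨k, hk⟩ := hodd
    have : (Fintype.card F - 1) / 2 * 2 = Fintype.card F - 1 := by omega
    rw [← this]
    exact Dvd.dvd.mul_right hd _

theorem sameBlock_of_sign (p : ℕ) [Fact p.Prime] [CharP F p] {M : Ideal AlgInt}
    (hM : IsPModular p M) {χ ψ : SpecialLinearGroup (Fin 2) F → ℂ}
    (hχ : IsIrrCharacter (SpecialLinearGroup (Fin 2) F) χ)
    (hψ : IsIrrCharacter (SpecialLinearGroup (Fin 2) F) ψ)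
    (hχp : ¬ p ∣ charDegree χ) (hψp : ¬ p ∣ charDegree ψ) (s : ℂ)
    (hsχ : ∀ g, χ (g * -1) = s * χ g) (hsψ : ∀ g, ψ (g * -1) = s * ψ g) :
    SameBlock M χ ψ := by
  have hMp := isPModular_isPrime hM
  intro g
  rcases class_cases p g with h | ⟨u, z, hz, rfl, hu⟩
  · exact memLocalIdeal_sub hMp (centralChar_mem_of_dvd hM hχ hχp g h)
      (centralChar_mem_of_dvd hM hψ hψp g h)
  · obtain ⟨t, hzc, h1, h2⟩ : ∃ t : ℂ, z ∈ Subgroup.center (SpecialLinearGroup (Fin 2) F) ∧
        (∀ g, χ (g * z) = t * χ g) ∧ (∀ g, ψ (g * z) = t * ψ g) := by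
      rcases hz with rfl | rfl
      · exact ⟨1, Subgroup.one_mem _, fun g => by rw [mul_one, one_mul],
          fun g => by rw [mul_one, one_mul]⟩
      · exact ⟨s, neg_one_center, hsχ, hsψ⟩
    have e1 := centralChar_sub_mem hM hχ hχp u z hu hzc t h1
    have e2 := centralChar_sub_mem hM hψ hψp u z hu hzc t h2
    have := memLocalIdeal_sub hMp e1 e2
    rwa [sub_sub_sub_cancel_right] at this

theorem sign_eq_of_sameBlock (p : ℕ) [Fact p.Prime] (hp : p ≠ 2) {M : Ideal AlgInt}
    (hM : IsPModular p M) {χ ψ : SpecialLinearGroup (Fin 2) F → ℂ}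
    (hχ : IsIrrCharacter (SpecialLinearGroup (Fin 2) F) χ)
    (hψ : IsIrrCharacter (SpecialLinearGroup (Fin 2) F) ψ)
    (s s' : ℂ) (hs : s = 1 ∨ s = -1) (hs' : s' = 1 ∨ s' = -1)
    (hsχ : ∀ g, χ (g * -1) = s * χ g) (hsψ : ∀ g, ψ (g * -1) = s' * ψ g)
    (hB : SameBlock M χ ψ) : s = s' := by
  have hMp := isPModular_isPrime hM
  have hpp : p.Prime := Fact.out
  have h := hB (-1)
  have hidx : (Subgroup.centralizer ({(-1 : SpecialLinearGroup (Fin 2) F)} :
      Set (SpecialLinearGroup (Fin 2) F))).index = 1 := by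
    have : Subgroup.centralizer ({(-1 : SpecialLinearGroup (Fin 2) F)} :
        Set (SpecialLinearGroup (Fin 2) F)) = ⊤ := by
      rw [Subgroup.centralizer_eq_top_iff_subset]
      intro x hx
      rw [Set.mem_singleton_iff.1 hx]
      exact neg_one_center
    rw [this, Subgroup.index_top]
  have hχ0 := irr_apply_one_ne_zero hχ
  have hψ0 := irr_apply_one_ne_zero hψ
  have e : centralChar χ (-1) - centralChar ψ (-1) = s - s' := by
    unfold centralChar
    rw [hidx]
    have h1 := hsχ 1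
    have h2 := hsψ 1
    rw [one_mul] at h1 h2
    rw [h1, h2]
    field_simp
    push_cast
    ring
  rw [e] at h
  have h2 : ¬ MemLocalIdeal M ((2 : ℕ) : ℂ) := by
    rw [memLocalIdeal_natCast_iff hM]
    intro hd
    exact hp ((Nat.prime_dvd_prime_iff_eq hpp Nat.prime_two).1 hd)
  by_contra hne
  apply h2
  rcases hs with rfl | rfl <;> rcases hs' with rfl | rfl
  · exact absurd rfl hne
  · have : (1 : ℂ) - -1 = ((2 : ℕ) : ℂ) := by push_cast; ring
    rwa [this] at h
  · have : ((2 : ℕ) : ℂ) = -((-1 : ℂ) - 1) := by push_cast; ring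
    rw [this]
    exact memLocalIdeal_neg h
  · exact absurd rfl hne

theorem not_dvd_add_one (p : ℕ) [Fact p.Prime] [CharP F p] : ¬ p ∣ Fintype.card F + 1 := by
  have hpp : p.Prime := Fact.out
  have hpq := char_dvd_card (F := F) p
  intro h
  exact hpp.one_lt.ne' (Nat.dvd_one.1 ((Nat.dvd_add_right hpq).1 h))

theorem not_dvd_sub_one (p : ℕ) [Fact p.Prime] [CharP F p] : ¬ p ∣ Fintype.card F - 1 := by
  have hpp : p.Prime := Fact.out
  have hpq := char_dvd_card (F := F) p
  have hq2 : 2 ≤ Fintype.card F := Fintype.one_lt_card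
  intro h
  apply hpp.one_lt.ne' (Nat.dvd_one.1 _)
  refine (Nat.dvd_add_right h).1 ?_
  rwa [Nat.sub_add_cancel (by omega)]

/-- the Steinberg character as an element of `IrrCharacter` -/
noncomputable def St : IrrCharacter (SpecialLinearGroup (Fin 2) F) :=
  ⟨stFun, isIrrCharacter_stFun⟩

/-- the trivial character as an element of `IrrCharacter` -/
noncomputable def Tr : IrrCharacter (SpecialLinearGroup (Fin 2) F) :=
  ⟨trivFun _, isIrrCharacter_trivFun⟩

theorem eq_St_of_degree (χ : IrrCharacter (SpecialLinearGroup (Fin 2) F))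
    (h : (χ : SpecialLinearGroup (Fin 2) F → ℂ) 1 = (Fintype.card F : ℂ)) : χ = St :=
  Subtype.ext (eq_stFun_of_degree χ.2 h)

theorem St_neg_one : (St : IrrCharacter (SpecialLinearGroup (Fin 2) F)).1 (-1) =
    (Fintype.card F : ℂ) := by
  show stFun (-1 : SpecialLinearGroup (Fin 2) F) = _
  unfold stFun
  have h1 : ((-1 : SpecialLinearGroup (Fin 2) F) : Matrix (Fin 2) (Fin 2) F)
      = (-1 : F) • (1 : Matrix (Fin 2) (Fin 2) F) := by
    rw [coe_neg_one', neg_smul, one_smul]
  rw [psFun_scalar 1 (-1) (-1) h1, MulChar.one_apply (isUnit_one.neg)]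
  ring

theorem blockOf_St (p : ℕ) [Fact p.Prime] [CharP F p] {M : Ideal AlgInt}
    (hM : IsPModular p M) :
    blockOf M ((St : IrrCharacter (SpecialLinearGroup (Fin 2) F)) :
      SpecialLinearGroup (Fin 2) F → ℂ) = {St} := by
  have hpp : p.Prime := Fact.out
  apply blockOf_eq_singleton_of_not_dvd hM
  have hdeg : charDegree ((St : IrrCharacter (SpecialLinearGroup (Fin 2) F)) :
      SpecialLinearGroup (Fin 2) F → ℂ) = Fintype.card F :=
    PSL2Deg.charDegree_natCast stFun_one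
  have hq : 0 < Fintype.card F := Fintype.card_pos
  rw [hdeg, card_SL2, mul_assoc, Nat.mul_div_cancel_left _ hq]
  intro h
  rcases (Nat.Prime.dvd_mul hpp).1 h with h | h
  · exact not_dvd_sub_one p h
  · exact not_dvd_add_one p h

theorem exists_sign (χ : IrrCharacter (SpecialLinearGroup (Fin 2) F)) :
    ∃ s : ℂ, (s = 1 ∨ s = -1) ∧ ∀ g : SpecialLinearGroup (Fin 2) F,
      (χ : SpecialLinearGroup (Fin 2) F → ℂ) (g * -1) =
        s * (χ : SpecialLinearGroup (Fin 2) F → ℂ) g :=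
  central_sign χ.2 neg_one_center neg_one_mul_self

theorem degree_ne_of_neg (p : ℕ) [Fact p.Prime] [CharP F p]
    (χ : IrrCharacter (SpecialLinearGroup (Fin 2) F))
    (h : (χ : SpecialLinearGroup (Fin 2) F → ℂ) (-1) =
      -(χ : SpecialLinearGroup (Fin 2) F → ℂ) 1) :
    (χ : SpecialLinearGroup (Fin 2) F → ℂ) 1 ≠ (Fintype.card F : ℂ) := by
  intro h1
  have h2 := eq_St_of_degree χ h1
  rw [h2, St_neg_one] at h
  have h3 : (St : IrrCharacter (SpecialLinearGroup (Fin 2) F)).1 1 = (Fintype.card F : ℂ) :=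
    stFun_one
  rw [h3] at h
  have hq : (Fintype.card F : ℂ) ≠ 0 := Nat.cast_ne_zero.2 Fintype.card_ne_zero
  apply hq
  linear_combination (1 / 2 : ℂ) * h

/-- the block of a character other than the Steinberg character -/
theorem blockOf_eq (p : ℕ) [Fact p.Prime] [CharP F p] (hp : p ≠ 2) {M : Ideal AlgInt}
    (hM : IsPModular p M) (χ : IrrCharacter (SpecialLinearGroup (Fin 2) F))
    (hχq : (χ : SpecialLinearGroup (Fin 2) F → ℂ) 1 ≠ (Fintype.card F : ℂ))
    (s : ℂ) (hs : s = 1 ∨ s = -1)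
    (hsχ : ∀ g, (χ : SpecialLinearGroup (Fin 2) F → ℂ) (g * -1) =
      s * (χ : SpecialLinearGroup (Fin 2) F → ℂ) g) :
    blockOf M (χ : SpecialLinearGroup (Fin 2) F → ℂ) =
      {ψ : IrrCharacter (SpecialLinearGroup (Fin 2) F) |
        (ψ : SpecialLinearGroup (Fin 2) F → ℂ) (-1) =
          s * (ψ : SpecialLinearGroup (Fin 2) F → ℂ) 1 ∧
        (ψ : SpecialLinearGroup (Fin 2) F → ℂ) 1 ≠ (Fintype.card F : ℂ)} := by
  have hMp := isPModular_isPrime hM
  have hχp : ¬ p ∣ charDegree (χ : SpecialLinearGroup (Fin 2) F → ℂ) :=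
    (degree_cases p hp χ.2).resolve_left hχq
  ext ψ
  obtain ⟨s', hs', hsψ⟩ := exists_sign ψ
  have hψ1 : (ψ : SpecialLinearGroup (Fin 2) F → ℂ) (-1) =
      s' * (ψ : SpecialLinearGroup (Fin 2) F → ℂ) 1 := by
    have := hsψ 1
    rwa [one_mul] at this
  constructor
  · intro hψ
    have hψ' : SameBlock M (χ : SpecialLinearGroup (Fin 2) F → ℂ)
      (ψ : SpecialLinearGroup (Fin 2) F → ℂ) := hψ
    refine ⟨?_, ?_⟩
    · rw [sign_eq_of_sameBlock p hp hM χ.2 ψ.2 s s' hs hs' hsχ hsψ hψ']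
      exact hψ1
    · intro hq
      have h2 := eq_St_of_degree ψ hq
      rw [h2] at hψ'
      have h3 : χ ∈ blockOf M ((St : IrrCharacter (SpecialLinearGroup (Fin 2) F)) :
          SpecialLinearGroup (Fin 2) F → ℂ) := sameBlock_symm hψ'
      rw [blockOf_St p hM, Set.mem_singleton_iff] at h3
      apply hχq
      rw [h3]
      exact stFun_one
  · rintro ⟨h1, h2⟩
    have hψp : ¬ p ∣ charDegree (ψ : SpecialLinearGroup (Fin 2) F → ℂ) :=
      (degree_cases p hp ψ.2).resolve_left h2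
    have hss : s' = s := by
      have h0 := irr_apply_one_ne_zero ψ.2
      rw [hψ1] at h1
      exact mul_right_cancel₀ h0 h1
    rw [hss] at hsψ
    exact sameBlock_of_sign p hM χ.2 ψ.2 hχp hψp s hsχ hsψ

theorem neg_one_ne_one (h2 : (2 : F) ≠ 0) : (-1 : SpecialLinearGroup (Fin 2) F) ≠ 1 := by
  intro h
  have h1 : ((-1 : SpecialLinearGroup (Fin 2) F) : Matrix (Fin 2) (Fin 2) F) 0 0 =
      (1 : Matrix (Fin 2) (Fin 2) F) 0 0 := by
    rw [h]; rfl
  rw [coe_neg_one', Matrix.neg_apply, Matrix.one_apply_eq] at h1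
  apply h2
  linear_combination -h1

theorem card_centralizer_one :
    Nat.card (Subgroup.centralizer ({(1 : SpecialLinearGroup (Fin 2) F)} :
      Set (SpecialLinearGroup (Fin 2) F))) = Nat.card (SpecialLinearGroup (Fin 2) F) := by
  have : Subgroup.centralizer ({(1 : SpecialLinearGroup (Fin 2) F)} :
      Set (SpecialLinearGroup (Fin 2) F)) = ⊤ := by
    rw [Subgroup.centralizer_eq_top_iff_subset]
    intro x hx
    rw [Set.mem_singleton_iff.1 hx]
    exact Subgroup.one_mem _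
  rw [this, Subgroup.card_top]

theorem sum_deg_sq [Fintype (IrrCharacter (SpecialLinearGroup (Fin 2) F))] :
    ∑ ψ : IrrCharacter (SpecialLinearGroup (Fin 2) F),
      (ψ : SpecialLinearGroup (Fin 2) F → ℂ) 1 * conj ((ψ : SpecialLinearGroup (Fin 2) F → ℂ) 1) =
      (Nat.card (SpecialLinearGroup (Fin 2) F) : ℂ) := by
  rw [column_orthogonality (1 : SpecialLinearGroup (Fin 2) F) 1, card_centralizer_one]
  unfold classIndicator
  rw [if_pos (IsConj.refl _), mul_one]

theorem sum_neg_one [Fintype (IrrCharacter (SpecialLinearGroup (Fin 2) F))] (h2 : (2 : F) ≠ 0) :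
    ∑ ψ : IrrCharacter (SpecialLinearGroup (Fin 2) F),
      (ψ : SpecialLinearGroup (Fin 2) F → ℂ) (-1) *
        conj ((ψ : SpecialLinearGroup (Fin 2) F → ℂ) 1) = 0 := by
  rw [column_orthogonality (1 : SpecialLinearGroup (Fin 2) F) (-1)]
  unfold classIndicator
  rw [if_neg, mul_zero]
  rw [isConj_one_right]
  exact neg_one_ne_one h2

theorem exists_neg_sign (h2 : (2 : F) ≠ 0) :
    ∃ χ : IrrCharacter (SpecialLinearGroup (Fin 2) F),
      (χ : SpecialLinearGroup (Fin 2) F → ℂ) (-1) =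
        -(χ : SpecialLinearGroup (Fin 2) F → ℂ) 1 := by
  classical
  have : Fintype (IrrCharacter (SpecialLinearGroup (Fin 2) F)) := Fintype.ofFinite _
  by_contra hcon
  push Not at hcon
  have hall : ∀ χ : IrrCharacter (SpecialLinearGroup (Fin 2) F),
      (χ : SpecialLinearGroup (Fin 2) F → ℂ) (-1) =
        (χ : SpecialLinearGroup (Fin 2) F → ℂ) 1 := by
    intro χ
    obtain ⟨s, hs, hsχ⟩ := exists_sign χ
    have h1 := hsχ 1
    rw [one_mul] at h1
    rcases hs with rfl | rfl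
    · rw [h1, one_mul]
    · exfalso
      apply hcon χ
      rw [h1]; ring
  have h1 := sum_neg_one (F := F) h2
  have h3 := sum_deg_sq (F := F)
  have h4 : ∑ ψ : IrrCharacter (SpecialLinearGroup (Fin 2) F),
      (ψ : SpecialLinearGroup (Fin 2) F → ℂ) (-1) *
        conj ((ψ : SpecialLinearGroup (Fin 2) F → ℂ) 1) =
      ∑ ψ : IrrCharacter (SpecialLinearGroup (Fin 2) F),
      (ψ : SpecialLinearGroup (Fin 2) F → ℂ) 1 *
        conj ((ψ : SpecialLinearGroup (Fin 2) F → ℂ) 1) :=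
    Finset.sum_congr rfl fun ψ _ => by rw [hall ψ]
  rw [h4, h3] at h1
  exact (Nat.cast_ne_zero.2 Nat.card_pos.ne') h1

theorem blockCoeff_S3 (h2 : (2 : F) ≠ 0) :
    blockCoeff {χ : IrrCharacter (SpecialLinearGroup (Fin 2) F) |
      (χ : SpecialLinearGroup (Fin 2) F → ℂ) (-1) =
        -(χ : SpecialLinearGroup (Fin 2) F → ℂ) 1} 1 = ((1 : ℕ) : ℂ) / ((2 : ℕ) : ℂ) := by
  classical
  have : Fintype (IrrCharacter (SpecialLinearGroup (Fin 2) F)) := Fintype.ofFinite _
  rw [blockCoeff_eq_sum]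
  have hG0 : (Nat.card (SpecialLinearGroup (Fin 2) F) : ℂ) ≠ 0 :=
    Nat.cast_ne_zero.2 Nat.card_pos.ne'
  have key : ∀ ψ : IrrCharacter (SpecialLinearGroup (Fin 2) F),
      (if ψ ∈ {χ : IrrCharacter (SpecialLinearGroup (Fin 2) F) |
        (χ : SpecialLinearGroup (Fin 2) F → ℂ) (-1) =
          -(χ : SpecialLinearGroup (Fin 2) F → ℂ) 1} then (1 : ℂ) else 0) *
        (ψ : SpecialLinearGroup (Fin 2) F → ℂ) 1 *
        conj ((ψ : SpecialLinearGroup (Fin 2) F → ℂ) 1) =
      (1 / 2 : ℂ) * ((ψ : SpecialLinearGroup (Fin 2) F → ℂ) 1 *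
        conj ((ψ : SpecialLinearGroup (Fin 2) F → ℂ) 1)) -
      (1 / 2 : ℂ) * ((ψ : SpecialLinearGroup (Fin 2) F → ℂ) (-1) *
        conj ((ψ : SpecialLinearGroup (Fin 2) F → ℂ) 1)) := by
    intro ψ
    by_cases hψ : ψ ∈ {χ : IrrCharacter (SpecialLinearGroup (Fin 2) F) |
        (χ : SpecialLinearGroup (Fin 2) F → ℂ) (-1) =
          -(χ : SpecialLinearGroup (Fin 2) F → ℂ) 1}
    · rw [if_pos hψ]
      have h : (ψ : SpecialLinearGroup (Fin 2) F → ℂ) (-1) =
          -(ψ : SpecialLinearGroup (Fin 2) F → ℂ) 1 := hψ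
      rw [h]; ring
    · rw [if_neg hψ]
      obtain ⟨s, hs, hsψ⟩ := exists_sign ψ
      have h1 := hsψ 1
      rw [one_mul] at h1
      rcases hs with rfl | rfl
      · rw [h1]; ring
      · exfalso
        apply hψ
        show (ψ : SpecialLinearGroup (Fin 2) F → ℂ) (-1) =
          -(ψ : SpecialLinearGroup (Fin 2) F → ℂ) 1
        rw [h1]; ring
  rw [Finset.sum_congr rfl fun ψ _ => key ψ, Finset.sum_sub_distrib, ← Finset.mul_sum,
    ← Finset.mul_sum, sum_deg_sq, sum_neg_one h2]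
  push_cast
  field_simp
  ring

theorem blockCoeff_S2 (h2 : (2 : F) ≠ 0) :
    blockCoeff {χ : IrrCharacter (SpecialLinearGroup (Fin 2) F) |
      (χ : SpecialLinearGroup (Fin 2) F → ℂ) (-1) =
        (χ : SpecialLinearGroup (Fin 2) F → ℂ) 1 ∧
      (χ : SpecialLinearGroup (Fin 2) F → ℂ) 1 ≠ (Fintype.card F : ℂ)} 1 =
    (Nat.card (SpecialLinearGroup (Fin 2) F) : ℂ)⁻¹ *
      ((1 / 2 : ℂ) * (Nat.card (SpecialLinearGroup (Fin 2) F) : ℂ) -
        (Fintype.card F : ℂ) * (Fintype.card F : ℂ)) := by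
  classical
  have : Fintype (IrrCharacter (SpecialLinearGroup (Fin 2) F)) := Fintype.ofFinite _
  rw [blockCoeff_eq_sum]
  congr 1
  refine Eq.trans (Finset.sum_congr rfl (g := fun ψ : IrrCharacter (SpecialLinearGroup (Fin 2) F) =>
      (1 / 2 : ℂ) * ((ψ : SpecialLinearGroup (Fin 2) F → ℂ) 1 *
        conj ((ψ : SpecialLinearGroup (Fin 2) F → ℂ) 1)) +
      (1 / 2 : ℂ) * ((ψ : SpecialLinearGroup (Fin 2) F → ℂ) (-1) *
        conj ((ψ : SpecialLinearGroup (Fin 2) F → ℂ) 1)) -
      (if ψ = St then (Fintype.card F : ℂ) * (Fintype.card F : ℂ) else 0)) fun ψ _ => ?_) ?_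
  · show _ = (1 / 2 : ℂ) * ((ψ : SpecialLinearGroup (Fin 2) F → ℂ) 1 *
        conj ((ψ : SpecialLinearGroup (Fin 2) F → ℂ) 1)) +
      (1 / 2 : ℂ) * ((ψ : SpecialLinearGroup (Fin 2) F → ℂ) (-1) *
        conj ((ψ : SpecialLinearGroup (Fin 2) F → ℂ) 1)) -
      (if ψ = St then (Fintype.card F : ℂ) * (Fintype.card F : ℂ) else 0)
    by_cases hψ : ψ ∈ {χ : IrrCharacter (SpecialLinearGroup (Fin 2) F) |
        (χ : SpecialLinearGroup (Fin 2) F → ℂ) (-1) =
          (χ : SpecialLinearGroup (Fin 2) F → ℂ) 1 ∧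
        (χ : SpecialLinearGroup (Fin 2) F → ℂ) 1 ≠ (Fintype.card F : ℂ)}
    · rw [if_pos hψ]
      obtain ⟨h, hq⟩ : (ψ : SpecialLinearGroup (Fin 2) F → ℂ) (-1) =
          (ψ : SpecialLinearGroup (Fin 2) F → ℂ) 1 ∧
        (ψ : SpecialLinearGroup (Fin 2) F → ℂ) 1 ≠ (Fintype.card F : ℂ) := hψ
      have hne : ψ ≠ St := by
        intro h'
        apply hq
        rw [h']
        exact stFun_one
      rw [if_neg hne, h]; ring
    · rw [if_neg hψ]
      by_cases hq : (ψ : SpecialLinearGroup (Fin 2) F → ℂ) 1 = (Fintype.card F : ℂ)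
      · have h' := eq_St_of_degree ψ hq
        rw [if_pos h', h', St_neg_one]
        have h3 : (St : IrrCharacter (SpecialLinearGroup (Fin 2) F)).1 1 =
          (Fintype.card F : ℂ) := stFun_one
        rw [h3, Complex.conj_natCast]
        ring
      · have hne : ψ ≠ St := by
          intro h'
          apply hq
          rw [h']
          exact stFun_one
        rw [if_neg hne]
        obtain ⟨s, hs, hsψ⟩ := exists_sign ψ
        have h1 := hsψ 1
        rw [one_mul] at h1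
        rcases hs with rfl | rfl
        · exfalso
          apply hψ
          refine ⟨?_, hq⟩
          rw [h1, one_mul]
        · rw [h1]; ring
  · rw [Finset.sum_sub_distrib, Finset.sum_add_distrib,
      ← Finset.mul_sum, ← Finset.mul_sum, sum_deg_sq, sum_neg_one h2, Finset.sum_ite_eq']
    simp

theorem isDefectClass_one {M : Ideal AlgInt} (hM : M.IsPrime)
    (B : Set (IrrCharacter (SpecialLinearGroup (Fin 2) F)))
    (h1 : MemLocalRing M (blockCoeff B 1)) (h2 : ¬ MemLocalIdeal M (blockCoeff B 1)) :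
    IsDefectClass M B (1 : SpecialLinearGroup (Fin 2) F) := by
  refine ⟨h1, h2, ?_⟩
  intro χ _
  have hidx : (Subgroup.centralizer ({(1 : SpecialLinearGroup (Fin 2) F)} :
      Set (SpecialLinearGroup (Fin 2) F))).index = 1 := by
    have : Subgroup.centralizer ({(1 : SpecialLinearGroup (Fin 2) F)} :
        Set (SpecialLinearGroup (Fin 2) F)) = ⊤ := by
      rw [Subgroup.centralizer_eq_top_iff_subset]
      intro x hx
      rw [Set.mem_singleton_iff.1 hx]
      exact Subgroup.one_mem _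
    rw [this, Subgroup.index_top]
  have h0 := irr_apply_one_ne_zero χ.2
  have e : centralChar (χ : SpecialLinearGroup (Fin 2) F → ℂ) 1 = 1 := by
    unfold centralChar
    rw [hidx]
    field_simp
    simp
  rw [e]
  exact not_memLocalIdeal_one hM

theorem isDefectClass_S3 (p : ℕ) [Fact p.Prime] (hp : p ≠ 2) {M : Ideal AlgInt}
    (hM : IsPModular p M) (h2 : (2 : F) ≠ 0) :
    IsDefectClass M {χ : IrrCharacter (SpecialLinearGroup (Fin 2) F) |
      (χ : SpecialLinearGroup (Fin 2) F → ℂ) (-1) =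
        -(χ : SpecialLinearGroup (Fin 2) F → ℂ) 1} (1 : SpecialLinearGroup (Fin 2) F) := by
  have hpp : p.Prime := Fact.out
  have hp2 : ¬ p ∣ 2 := fun hd => hp ((Nat.prime_dvd_prime_iff_eq hpp Nat.prime_two).1 hd)
  have hf2 : (2 : ℕ).factorization p = 0 := Nat.factorization_eq_zero_of_not_dvd hp2
  have hf1 : (1 : ℕ).factorization p = 0 := by rw [Nat.factorization_one]; rfl
  apply isDefectClass_one (isPModular_isPrime hM)
  · rw [blockCoeff_S3 h2]
    exact memLocalRing_natCast_div hM one_ne_zero two_ne_zero (by rw [hf1, hf2])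
  · rw [blockCoeff_S3 h2]
    exact not_memLocalIdeal_natCast_div hM one_ne_zero two_ne_zero (by rw [hf1, hf2])

theorem isDefectClass_S2 (p : ℕ) [Fact p.Prime] [CharP F p] (hp : p ≠ 2) {M : Ideal AlgInt}
    (hM : IsPModular p M) (h2 : (2 : F) ≠ 0) :
    IsDefectClass M {χ : IrrCharacter (SpecialLinearGroup (Fin 2) F) |
      (χ : SpecialLinearGroup (Fin 2) F → ℂ) (-1) =
        (χ : SpecialLinearGroup (Fin 2) F → ℂ) 1 ∧
      (χ : SpecialLinearGroup (Fin 2) F → ℂ) 1 ≠ (Fintype.card F : ℂ)}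
      (1 : SpecialLinearGroup (Fin 2) F) := by
  have hpp : p.Prime := Fact.out
  have hp2 : ¬ p ∣ 2 := fun hd => hp ((Nat.prime_dvd_prime_iff_eq hpp Nat.prime_two).1 hd)
  have hpq := char_dvd_card (F := F) p
  have hq3 : 3 ≤ Fintype.card F := by
    have h1 := Nat.le_of_dvd Fintype.card_pos hpq
    have h3 : 2 ≤ p := hpp.two_le
    omega
  obtain ⟨m, hm⟩ : ∃ m, Fintype.card F = m + 1 := ⟨Fintype.card F - 1, by omega⟩
  have hm2 : 2 ≤ m := by omega
  have hsub := not_dvd_sub_one (F := F) p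
  have hadd := not_dvd_add_one (F := F) p
  rw [hm] at hsub hadd hpq
  rw [Nat.add_sub_cancel] at hsub
  have hmm : 4 ≤ m * m := by nlinarith
  have hA : ¬ p ∣ m * m - 2 := by
    intro hd
    have h1 : p ∣ 2 * (m + 1) := Dvd.dvd.mul_left hpq 2
    have h3 : p ∣ (m * m - 2) + 2 * (m + 1) := Nat.dvd_add hd h1
    have h4 : (m * m - 2) + 2 * (m + 1) = m * (m + 1 + 1) := by
      have : m * (m + 1 + 1) = m * m + 2 * m := by ring
      omega
    rw [h4] at h3
    rcases (Nat.Prime.dvd_mul hpp).1 h3 with h | h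
    · exact hsub h
    · exact hadd h
  have hB : ¬ p ∣ 2 * (m * (m + 1 + 1)) := by
    intro hd
    rcases (Nat.Prime.dvd_mul hpp).1 hd with h | h
    · exact hp2 h
    · rcases (Nat.Prime.dvd_mul hpp).1 h with h | h
      · exact hsub h
      · exact hadd h
  have hA0 : m * m - 2 ≠ 0 := by omega
  have hB0 : 2 * (m * (m + 1 + 1)) ≠ 0 := by positivity
  have hfA : (m * m - 2).factorization p = 0 := Nat.factorization_eq_zero_of_not_dvd hA
  have hfB : (2 * (m * (m + 1 + 1))).factorization p = 0 :=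
    Nat.factorization_eq_zero_of_not_dvd hB
  have e : blockCoeff {χ : IrrCharacter (SpecialLinearGroup (Fin 2) F) |
      (χ : SpecialLinearGroup (Fin 2) F → ℂ) (-1) =
        (χ : SpecialLinearGroup (Fin 2) F → ℂ) 1 ∧
      (χ : SpecialLinearGroup (Fin 2) F → ℂ) 1 ≠ (Fintype.card F : ℂ)} 1 =
      ((m * m - 2 : ℕ) : ℂ) / ((2 * (m * (m + 1 + 1)) : ℕ) : ℂ) := by
    rw [blockCoeff_S2 h2, card_SL2, hm, Nat.add_sub_cancel, Nat.cast_sub (by omega)]
    have hm0 : (m : ℂ) ≠ 0 := Nat.cast_ne_zero.2 (by omega)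
    have hm1 : (m : ℂ) + 1 ≠ 0 := by exact_mod_cast Nat.succ_ne_zero m
    have hm2' : (m : ℂ) + 1 + 1 ≠ 0 := by exact_mod_cast Nat.succ_ne_zero (m + 1)
    push_cast
    field_simp
    ring
  apply isDefectClass_one (isPModular_isPrime hM)
  · rw [e]
    exact memLocalRing_natCast_div hM hA0 hB0 (by rw [hfA, hfB])
  · rw [e]
    exact not_memLocalIdeal_natCast_div hM hA0 hB0 (by rw [hfA, hfB])

end SL2



/-- Let F be a finite field with q elements of odd characteristic p, and M a maximal ideal of the algebraic integers containing p. Then SL₂ over F has exactly three p-blocks relative to M: the irreducible character of degree q (the Steinberg character) alone; the other irreducible characters taking the same value at −1 as at 1 (the principal block); and the irreducible characters χ with χ(−1) = −χ(1). Every Sylow p-subgroup is a defect group of each of the last two blocks. -/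
theorem result {F : Type*} [Field F] [Fintype F] (p : ℕ) [Fact p.Prime] [CharP F p] (hp : p ≠ 2)
    (M : Ideal Cfsg.AlgInt) (hM : Cfsg.IsPModular p M) :
    (∀ B : Set (Cfsg.IrrCharacter (Matrix.SpecialLinearGroup (Fin 2) F)), Cfsg.IsPBlock M B ↔
      (B = {χ : Cfsg.IrrCharacter (Matrix.SpecialLinearGroup (Fin 2) F) | (χ : Matrix.SpecialLinearGroup (Fin 2) F → ℂ) 1 = (Fintype.card F : ℂ)} ∨
       B = {χ : Cfsg.IrrCharacter (Matrix.SpecialLinearGroup (Fin 2) F) | (χ : Matrix.SpecialLinearGroup (Fin 2) F → ℂ) (-1) = (χ : Matrix.SpecialLinearGroup (Fin 2) F → ℂ) 1 ∧ (χ : Matrix.SpecialLinearGroup (Fin 2) F → ℂ) 1 ≠ (Fintype.card F : ℂ)} ∨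
       B = {χ : Cfsg.IrrCharacter (Matrix.SpecialLinearGroup (Fin 2) F) | (χ : Matrix.SpecialLinearGroup (Fin 2) F → ℂ) (-1) = -(χ : Matrix.SpecialLinearGroup (Fin 2) F → ℂ) 1})) ∧
    Nat.card {B : Set (Cfsg.IrrCharacter (Matrix.SpecialLinearGroup (Fin 2) F)) // Cfsg.IsPBlock M B} = 3 ∧
    ∀ P : Sylow p (Matrix.SpecialLinearGroup (Fin 2) F),
      Cfsg.IsDefectGroup p M {χ : Cfsg.IrrCharacter (Matrix.SpecialLinearGroup (Fin 2) F) | (χ : Matrix.SpecialLinearGroup (Fin 2) F → ℂ) (-1) = (χ : Matrix.SpecialLinearGroup (Fin 2) F → ℂ) 1 ∧ (χ : Matrix.SpecialLinearGroup (Fin 2) F → ℂ) 1 ≠ (Fintype.card F : ℂ)} (P : Subgroup (Matrix.SpecialLinearGroup (Fin 2) F)) ∧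
      Cfsg.IsDefectGroup p M {χ : Cfsg.IrrCharacter (Matrix.SpecialLinearGroup (Fin 2) F) | (χ : Matrix.SpecialLinearGroup (Fin 2) F → ℂ) (-1) = -(χ : Matrix.SpecialLinearGroup (Fin 2) F → ℂ) 1} (P : Subgroup (Matrix.SpecialLinearGroup (Fin 2) F)) := by
  classical
  have hpp : p.Prime := Fact.out
  have hMp := isPModular_isPrime hM
  have h2 : (2 : F) ≠ 0 := by
    intro h
    have h' : ((2 : ℕ) : F) = 0 := by exact_mod_cast h
    have hd := (CharP.cast_eq_zero_iff F p 2).1 h'
    exact hp ((Nat.prime_dvd_prime_iff_eq hpp Nat.prime_two).1 hd)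
  have hq2 : 2 ≤ Fintype.card F := Fintype.one_lt_card
  set S1 : Set (IrrCharacter (SpecialLinearGroup (Fin 2) F)) :=
    {χ | (χ : SpecialLinearGroup (Fin 2) F → ℂ) 1 = (Fintype.card F : ℂ)} with hS1
  set S2 : Set (IrrCharacter (SpecialLinearGroup (Fin 2) F)) :=
    {χ | (χ : SpecialLinearGroup (Fin 2) F → ℂ) (-1) = (χ : SpecialLinearGroup (Fin 2) F → ℂ) 1 ∧
      (χ : SpecialLinearGroup (Fin 2) F → ℂ) 1 ≠ (Fintype.card F : ℂ)} with hS2
  set S3 : Set (IrrCharacter (SpecialLinearGroup (Fin 2) F)) :=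
    {χ | (χ : SpecialLinearGroup (Fin 2) F → ℂ) (-1) =
      -(χ : SpecialLinearGroup (Fin 2) F → ℂ) 1} with hS3
  have hSt1 : (St : IrrCharacter (SpecialLinearGroup (Fin 2) F)).1 1 = (Fintype.card F : ℂ) :=
    stFun_one
  have hS1' : S1 = {St} := by
    ext χ
    rw [Set.mem_singleton_iff]
    constructor
    · intro h
      exact eq_St_of_degree χ h
    · rintro rfl
      exact hSt1
  have hB2 : ∀ χ : IrrCharacter (SpecialLinearGroup (Fin 2) F),
      (χ : SpecialLinearGroup (Fin 2) F → ℂ) 1 ≠ (Fintype.card F : ℂ) →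
      (∀ g, (χ : SpecialLinearGroup (Fin 2) F → ℂ) (g * -1) =
        1 * (χ : SpecialLinearGroup (Fin 2) F → ℂ) g) →
      blockOf M (χ : SpecialLinearGroup (Fin 2) F → ℂ) = S2 := by
    intro χ hq hs
    rw [blockOf_eq p hp hM χ hq 1 (Or.inl rfl) hs, hS2]
    ext ψ
    simp only [Set.mem_setOf_eq, one_mul]
  have hB3 : ∀ χ : IrrCharacter (SpecialLinearGroup (Fin 2) F),
      (χ : SpecialLinearGroup (Fin 2) F → ℂ) 1 ≠ (Fintype.card F : ℂ) →
      (∀ g, (χ : SpecialLinearGroup (Fin 2) F → ℂ) (g * -1) =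
        -1 * (χ : SpecialLinearGroup (Fin 2) F → ℂ) g) →
      blockOf M (χ : SpecialLinearGroup (Fin 2) F → ℂ) = S3 := by
    intro χ hq hs
    rw [blockOf_eq p hp hM χ hq (-1) (Or.inr rfl) hs, hS3]
    ext ψ
    simp only [Set.mem_setOf_eq]
    constructor
    · rintro ⟨h, -⟩
      rw [h]; ring
    · intro h
      exact ⟨by rw [h]; ring, degree_ne_of_neg p ψ h⟩
  have hTr1 : (Tr : IrrCharacter (SpecialLinearGroup (Fin 2) F)).1 1 ≠ (Fintype.card F : ℂ) := by
    show (1 : ℂ) ≠ _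
    intro h
    have : ((1 : ℕ) : ℂ) = (Fintype.card F : ℂ) := by exact_mod_cast h
    have := Nat.cast_injective this
    omega
  obtain ⟨χm, hχm⟩ := exists_neg_sign (F := F) h2
  have hχm' : ∀ g, (χm : SpecialLinearGroup (Fin 2) F → ℂ) (g * -1) =
      -1 * (χm : SpecialLinearGroup (Fin 2) F → ℂ) g := by
    obtain ⟨s, hs, hsχ⟩ := exists_sign χm
    rcases hs with rfl | rfl
    · exfalso
      have h1 := hsχ 1
      rw [one_mul, one_mul, hχm] at h1
      have h0 := irr_apply_one_ne_zero χm.2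
      apply h0
      linear_combination (-1 / 2 : ℂ) * h1
    · exact hsχ
  have hblocks : ∀ B : Set (IrrCharacter (SpecialLinearGroup (Fin 2) F)),
      IsPBlock M B ↔ (B = S1 ∨ B = S2 ∨ B = S3) := by
    intro B
    constructor
    · rintro ⟨χ, rfl⟩
      by_cases hq : (χ : SpecialLinearGroup (Fin 2) F → ℂ) 1 = (Fintype.card F : ℂ)
      · left
        rw [eq_St_of_degree χ hq, blockOf_St p hM, hS1']
      · obtain ⟨s, hs, hsχ⟩ := exists_sign χ
        rcases hs with rfl | rfl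
        · right; left
          exact hB2 χ hq hsχ
        · right; right
          exact hB3 χ hq hsχ
    · rintro (rfl | rfl | rfl)
      · exact ⟨St, by rw [blockOf_St p hM, hS1']⟩
      · refine ⟨Tr, (hB2 Tr hTr1 ?_).symm⟩
        intro g
        show (1 : ℂ) = 1 * 1
        ring
      · exact ⟨χm, (hB3 χm (degree_ne_of_neg p χm hχm) hχm').symm⟩
  have hStS2 : St ∉ S2 := fun h => h.2 hSt1
  have hStS3 : St ∉ S3 := by
    intro h
    exact degree_ne_of_neg p St h hSt1
  have hTrS2 : Tr ∈ S2 := by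
    refine ⟨?_, hTr1⟩
    show (1 : ℂ) = 1
    rfl
  have hTrS3 : Tr ∉ S3 := by
    intro h
    have h' : (1 : ℂ) = -1 := h
    norm_num at h'
  have h12 : S1 ≠ S2 := by
    intro h
    apply hStS2
    rw [← h, hS1']
    exact Set.mem_singleton _
  have h13 : S1 ≠ S3 := by
    intro h
    apply hStS3
    rw [← h, hS1']
    exact Set.mem_singleton _
  have h23 : S2 ≠ S3 := by
    intro h
    apply hTrS3
    rw [← h]
    exact hTrS2
  refine ⟨hblocks, ?_, ?_⟩
  · have hset : {B : Set (IrrCharacter (SpecialLinearGroup (Fin 2) F)) | IsPBlock M B} =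
        {S1, S2, S3} := by
      ext B
      rw [Set.mem_setOf_eq, hblocks B]
      simp only [Set.mem_insert_iff, Set.mem_singleton_iff]
    have hc : Nat.card {B : Set (IrrCharacter (SpecialLinearGroup (Fin 2) F)) // IsPBlock M B} =
        Set.ncard {B : Set (IrrCharacter (SpecialLinearGroup (Fin 2) F)) | IsPBlock M B} :=
      Nat.card_coe_set_eq _
    rw [hc, hset, Set.ncard_eq_three]
    exact ⟨S1, S2, S3, h12, h13, h23, rfl⟩
  · intro P
    have hP : ∀ B : Set (IrrCharacter (SpecialLinearGroup (Fin 2) F)),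
        IsDefectClass M B (1 : SpecialLinearGroup (Fin 2) F) →
        IsDefectGroup p M B (P : Subgroup (SpecialLinearGroup (Fin 2) F)) := by
      intro B hB
      rw [isDefectGroup_iff_card]
      refine ⟨1, hB, ?_, ?_⟩
      · have : Subgroup.centralizer ({(1 : SpecialLinearGroup (Fin 2) F)} :
            Set (SpecialLinearGroup (Fin 2) F)) = ⊤ := by
          rw [Subgroup.centralizer_eq_top_iff_subset]
          intro x hx
          rw [Set.mem_singleton_iff.1 hx]
          exact Subgroup.one_mem _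
        rw [this]
        exact le_top
      · rw [card_centralizer_one]
        exact P.card_eq_multiplicity
    exact ⟨hP S2 (isDefectClass_S2 p hp hM h2), hP S3 (isDefectClass_S3 p hp hM h2)⟩


end Cfsg.Agent.S2439
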