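import Mathlib
import Cfsg.Statements.S2450
import Cfsg.Agent.Lib.Helper5.SL2Torus

set_option autoImplicit false
open Cfsg

namespace Cfsg.Agent.S2450

open Cfsg.Agent.Lib.Helper5 Matrix

section basic
variable {F : Type*} [Field F]

theorem mk_eq_mk_imp (g h : SpecialLinearGroup (Fin 2) F)
    (hgh : (QuotientGroup.mk g : ProjectiveSpecialLinearGroup (Fin 2) F) = QuotientGroup.mk h) :
    ∃ r : F, r ^ 2 = 1 ∧
      (h : Matrix (Fin 2) (Fin 2) F) = r • (g : Matrix (Fin 2) (Fin 2) F) := by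
  have h1 : (QuotientGroup.mk (g⁻¹ * h) : ProjectiveSpecialLinearGroup (Fin 2) F) = 1 := by
    have : (QuotientGroup.mk (g⁻¹ * h) : ProjectiveSpecialLinearGroup (Fin 2) F) =
        (QuotientGroup.mk g)⁻¹ * QuotientGroup.mk h := rfl
    rw [this, hgh, inv_mul_cancel]
  obtain ⟨c, hc⟩ := (mk_eq_one_iff _).1 h1
  have hc2 := (sq_eq_four_of_scalar _ c hc).2
  refine ⟨c, hc2, ?_⟩
  have h2 : h = g * (g⁻¹ * h) := by group
  have h3 : (h : Matrix (Fin 2) (Fin 2) F) = (g : Matrix (Fin 2) (Fin 2) F) *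
      ((g⁻¹ * h : SpecialLinearGroup (Fin 2) F) : Matrix (Fin 2) (Fin 2) F) :=
    congrArg (fun z : SpecialLinearGroup (Fin 2) F => (z : Matrix (Fin 2) (Fin 2) F)) h2
  rw [h3, hc, Matrix.mul_smul, Matrix.mul_one]

theorem trace_conj' (c g : SpecialLinearGroup (Fin 2) F) :
    ((c * g * c⁻¹ : SpecialLinearGroup (Fin 2) F) : Matrix (Fin 2) (Fin 2) F).trace =
      (g : Matrix (Fin 2) (Fin 2) F).trace := by
  show ((c : Matrix (Fin 2) (Fin 2) F) * (g : Matrix (Fin 2) (Fin 2) F) *
      ((c⁻¹ : SpecialLinearGroup (Fin 2) F) : Matrix (Fin 2) (Fin 2) F)).trace = _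
  rw [Matrix.trace_mul_cycle]
  have : ((c⁻¹ : SpecialLinearGroup (Fin 2) F) : Matrix (Fin 2) (Fin 2) F) *
      (c : Matrix (Fin 2) (Fin 2) F) = 1 := by
    have h1 : c⁻¹ * c = 1 := inv_mul_cancel c
    exact congrArg (fun z : SpecialLinearGroup (Fin 2) F => (z : Matrix (Fin 2) (Fin 2) F)) h1
  rw [this, one_mul]

/-- the square of the trace is a class invariant of `PSL₂` -/
theorem trace_sq_eq_of_isConj (g h : SpecialLinearGroup (Fin 2) F)
    (hc : IsConj (QuotientGroup.mk g : ProjectiveSpecialLinearGroup (Fin 2) F)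
      (QuotientGroup.mk h)) :
    (g : Matrix (Fin 2) (Fin 2) F).trace ^ 2 = (h : Matrix (Fin 2) (Fin 2) F).trace ^ 2 := by
  obtain ⟨cbar, hcb⟩ := isConj_iff.1 hc
  obtain ⟨c, rfl⟩ := QuotientGroup.mk_surjective cbar
  have h1 : (QuotientGroup.mk (c * g * c⁻¹) : ProjectiveSpecialLinearGroup (Fin 2) F) =
      QuotientGroup.mk h := hcb
  obtain ⟨r, hr, hh⟩ := mk_eq_mk_imp _ _ h1
  rw [hh, Matrix.trace_smul, trace_conj', smul_eq_mul, mul_pow, hr, one_mul]

/-- a non-scalar element has a conjugate with non-zero lower left entry -/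
theorem exists_conj_lower_ne_zero (g : SpecialLinearGroup (Fin 2) F)
    (hg : ¬ ∃ c : F, (g : Matrix (Fin 2) (Fin 2) F) = c • (1 : Matrix (Fin 2) (Fin 2) F)) :
    ∃ c : SpecialLinearGroup (Fin 2) F,
      ((c * g * c⁻¹ : SpecialLinearGroup (Fin 2) F) : Matrix (Fin 2) (Fin 2) F) 1 0 ≠ 0 := by
  set g1 := (g : Matrix (Fin 2) (Fin 2) F) 0 0 with hg1
  set g2 := (g : Matrix (Fin 2) (Fin 2) F) 0 1 with hg2
  set g3 := (g : Matrix (Fin 2) (Fin 2) F) 1 0 with hg3
  set g4 := (g : Matrix (Fin 2) (Fin 2) F) 1 1 with hg4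
  have hgm : (g : Matrix (Fin 2) (Fin 2) F) = !![g1, g2; g3, g4] :=
    Matrix.eta_fin_two _
  by_cases h3 : g3 = 0
  · by_cases h2 : g2 = 0
    · -- diagonal, non-scalar
      have h14 : g1 - g4 ≠ 0 := by
        intro h
        apply hg
        refine ⟨g1, ?_⟩
        rw [hgm, h2, h3, ← sub_eq_zero.1 h, Matrix.smul_one_eq_diagonal]
        ext i j
        fin_cases i <;> fin_cases j <;> simp
      set c : SpecialLinearGroup (Fin 2) F := mkSL2 !![1, 0; 1, 1] (by
        rw [Matrix.det_fin_two_of]; ring) with hc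
      set ci : SpecialLinearGroup (Fin 2) F := mkSL2 !![1, 0; -1, 1] (by
        rw [Matrix.det_fin_two_of]; ring) with hci
      have hcci : c * ci = 1 := by
        apply Subtype.ext
        show (!![1, 0; 1, 1] : Matrix (Fin 2) (Fin 2) F) * !![1, 0; -1, 1] = 1
        rw [Matrix.mul_fin_two, Matrix.one_fin_two]
        simp
      have hinv : c⁻¹ = ci := inv_eq_of_mul_eq_one_right hcci
      refine ⟨c, ?_⟩
      rw [hinv]
      show ((!![1, 0; 1, 1] : Matrix (Fin 2) (Fin 2) F) * (g : Matrix (Fin 2) (Fin 2) F) *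
        (!![1, 0; -1, 1] : Matrix (Fin 2) (Fin 2) F) : Matrix (Fin 2) (Fin 2) F) 1 0 ≠ 0
      rw [hgm, h2, h3, Matrix.mul_fin_two, Matrix.mul_fin_two]
      simp only [Matrix.of_apply, Matrix.cons_val', Matrix.cons_val_zero, Matrix.cons_val_one,
        Matrix.cons_val_fin_one]
      intro h
      apply h14
      linear_combination h
    · set c : SpecialLinearGroup (Fin 2) F := mkSL2 !![0, -1; 1, 0] (by
        rw [Matrix.det_fin_two_of]; ring) with hc
      set ci : SpecialLinearGroup (Fin 2) F := mkSL2 !![0, 1; -1, 0] (by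
        rw [Matrix.det_fin_two_of]; ring) with hci
      have hcci : c * ci = 1 := by
        apply Subtype.ext
        show (!![0, -1; 1, 0] : Matrix (Fin 2) (Fin 2) F) * !![0, 1; -1, 0] = 1
        rw [Matrix.mul_fin_two, Matrix.one_fin_two]
        simp
      have hinv : c⁻¹ = ci := inv_eq_of_mul_eq_one_right hcci
      refine ⟨c, ?_⟩
      rw [hinv]
      show ((!![0, -1; 1, 0] : Matrix (Fin 2) (Fin 2) F) * (g : Matrix (Fin 2) (Fin 2) F) *
        (!![0, 1; -1, 0] : Matrix (Fin 2) (Fin 2) F) : Matrix (Fin 2) (Fin 2) F) 1 0 ≠ 0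
      rw [hgm, Matrix.mul_fin_two, Matrix.mul_fin_two]
      simp only [Matrix.of_apply, Matrix.cons_val', Matrix.cons_val_zero, Matrix.cons_val_one,
        Matrix.cons_val_fin_one]
      intro h
      apply h2
      linear_combination -h
  · refine ⟨1, ?_⟩
    rw [one_mul, inv_one, mul_one]
    exact h3

/-- the trace of a product with a unipotently conjugated factor is a quadratic polynomial -/
theorem trace_mul_conj_upper (a b : SpecialLinearGroup (Fin 2) F) (l : F) :
    ∃ u : SpecialLinearGroup (Fin 2) F,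
      ((a * (u * b * u⁻¹) : SpecialLinearGroup (Fin 2) F) : Matrix (Fin 2) (Fin 2) F).trace =
        ((a * b : SpecialLinearGroup (Fin 2) F) : Matrix (Fin 2) (Fin 2) F).trace +
        (((a : Matrix (Fin 2) (Fin 2) F) 0 0 - (a : Matrix (Fin 2) (Fin 2) F) 1 1) *
            (b : Matrix (Fin 2) (Fin 2) F) 1 0 +
          (a : Matrix (Fin 2) (Fin 2) F) 1 0 *
            ((b : Matrix (Fin 2) (Fin 2) F) 1 1 - (b : Matrix (Fin 2) (Fin 2) F) 0 0)) * l -
        (a : Matrix (Fin 2) (Fin 2) F) 1 0 * (b : Matrix (Fin 2) (Fin 2) F) 1 0 * l ^ 2 := by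
  set c : SpecialLinearGroup (Fin 2) F := mkSL2 !![1, l; 0, 1] (by
    rw [Matrix.det_fin_two_of]; ring) with hc
  set ci : SpecialLinearGroup (Fin 2) F := mkSL2 !![1, -l; 0, 1] (by
    rw [Matrix.det_fin_two_of]; ring) with hci
  have hcci : c * ci = 1 := by
    apply Subtype.ext
    show (!![1, l; 0, 1] : Matrix (Fin 2) (Fin 2) F) * !![1, -l; 0, 1] = 1
    rw [Matrix.mul_fin_two, Matrix.one_fin_two]
    simp
  have hinv : c⁻¹ = ci := inv_eq_of_mul_eq_one_right hcci
  refine ⟨c, ?_⟩
  rw [hinv]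
  have e1 : ((a * (c * b * ci) : SpecialLinearGroup (Fin 2) F) : Matrix (Fin 2) (Fin 2) F) =
      (a : Matrix (Fin 2) (Fin 2) F) * ((!![1, l; 0, 1] : Matrix (Fin 2) (Fin 2) F) *
      (b : Matrix (Fin 2) (Fin 2) F) * !![1, -l; 0, 1]) := rfl
  have e2 : ((a * b : SpecialLinearGroup (Fin 2) F) : Matrix (Fin 2) (Fin 2) F) =
      (a : Matrix (Fin 2) (Fin 2) F) * (b : Matrix (Fin 2) (Fin 2) F) := rfl
  rw [e1, e2]
  rw [Matrix.eta_fin_two (a : Matrix (Fin 2) (Fin 2) F),
    Matrix.eta_fin_two (b : Matrix (Fin 2) (Fin 2) F)]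
  simp only [Matrix.mul_fin_two, Matrix.trace_fin_two_of, Matrix.of_apply, Matrix.cons_val',
    Matrix.cons_val_zero, Matrix.cons_val_one, Matrix.cons_val_fin_one]
  ring

end basic

section quadratic
variable {F : Type*} [Field F] [Fintype F]

/-- a quadratic polynomial function on a field with at least four elements does not have
constant square -/
theorem exists_sq_ne (h4 : 4 ≤ Fintype.card F) (A B C : F) (hA : A ≠ 0) :
    ∃ l : F, (C + B * l - A * l ^ 2) ^ 2 ≠ C ^ 2 := by
  classical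
  by_contra hcon
  push Not at hcon
  by_cases h2 : (2 : F) = 0
  · -- characteristic two
    have hall : ∀ l : F, l = 0 ∨ l = B / A := by
      intro l
      have h1 := hcon l
      have h3 : (B * l - A * l ^ 2) ^ 2 = 0 := by
        linear_combination h1 - (C * (B * l - A * l ^ 2)) * h2
      have h5 : l * (B - A * l) = 0 := by
        have := (pow_eq_zero_iff two_ne_zero).1 h3
        linear_combination this
      rcases mul_eq_zero.1 h5 with h | h
      · left; exact h
      · right
        rw [eq_div_iff hA]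
        linear_combination -h
    have hsub : (Finset.univ : Finset F) ⊆ {0, B / A} := by
      intro l _
      rw [Finset.mem_insert, Finset.mem_singleton]
      exact hall l
    have := Finset.card_le_card hsub
    rw [Finset.card_univ] at this
    have h' : ({0, B / A} : Finset F).card ≤ 2 := Finset.card_le_two
    omega
  · -- odd characteristic
    obtain ⟨l₁, hl₁⟩ : ∃ l₁ : F, ∀ l : F, C + B * l - A * l ^ 2 = -C → l = l₁ ∨ l = B / A - l₁ := by
      by_cases hex : ∃ l₁ : F, C + B * l₁ - A * l₁ ^ 2 = -C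
      · obtain ⟨l₁, h1⟩ := hex
        refine ⟨l₁, ?_⟩
        intro l hl
        have h3 : (l - l₁) * (B - A * (l + l₁)) = 0 := by linear_combination hl - h1
        rcases mul_eq_zero.1 h3 with h | h
        · left; exact sub_eq_zero.1 h
        · right
          rw [eq_sub_iff_add_eq, eq_div_iff hA]
          linear_combination -h
      · refine ⟨0, ?_⟩
        intro l hl
        exact absurd ⟨l, hl⟩ hex
    have hall : ∀ l : F, l = 0 ∨ l = B / A ∨ l = l₁ ∨ l = B / A - l₁ := by
      intro l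
      have h1 := hcon l
      have h3 : (C + B * l - A * l ^ 2 - C) * (C + B * l - A * l ^ 2 + C) = 0 := by
        linear_combination h1
      rcases mul_eq_zero.1 h3 with h | h
      · have h5 : l * (B - A * l) = 0 := by linear_combination h
        rcases mul_eq_zero.1 h5 with h' | h'
        · left; exact h'
        · right; left
          rw [eq_div_iff hA]
          linear_combination -h'
      · right; right
        exact hl₁ l (by linear_combination h)
    have hsub : (Finset.univ : Finset F) ⊆ {0, B / A, l₁, B / A - l₁} := by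
      intro l _
      simp only [Finset.mem_insert, Finset.mem_singleton]
      exact hall l
    have := Finset.card_le_card hsub
    rw [Finset.card_univ] at this
    have h' : ({0, B / A, l₁, B / A - l₁} : Finset F).card ≤ 4 := Finset.card_le_four
    have hchar : ringChar F ≠ 2 := by
      intro h
      apply h2
      have := ringChar.Nat.cast_ringChar (R := F)
      rw [h] at this
      exact_mod_cast this
    have hodd : Fintype.card F % 2 = 1 := FiniteField.odd_card_of_char_ne_two hchar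
    omega

end quadratic

/-- The Arad–Herzog conjecture for PSL(2,q): let F be a finite field with q ≥ 4 elements. For any two non-identity elements a, b of PSL(2,F), the set of products of a conjugate of a with a conjugate of b is not a single conjugacy class. -/
theorem result {F : Type*} [Field F] [Fintype F] (h4 : 4 ≤ Fintype.card F)
    (a b : Matrix.ProjectiveSpecialLinearGroup (Fin 2) F) (ha : a ≠ 1) (hb : b ≠ 1) (c : Matrix.ProjectiveSpecialLinearGroup (Fin 2) F) :
    {g : Matrix.ProjectiveSpecialLinearGroup (Fin 2) F | ∃ u v : Matrix.ProjectiveSpecialLinearGroup (Fin 2) F, g = (u * a * u⁻¹) * (v * b * v⁻¹)} ≠ {g | IsConj c g} := by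
  obtain ⟨at', rfl⟩ := QuotientGroup.mk_surjective a
  obtain ⟨bt, rfl⟩ := QuotientGroup.mk_surjective b
  have hans : ¬ ∃ c : F, (at' : Matrix (Fin 2) (Fin 2) F) =
      c • (1 : Matrix (Fin 2) (Fin 2) F) := fun h => ha ((mk_eq_one_iff at').2 h)
  have hbns : ¬ ∃ c : F, (bt : Matrix (Fin 2) (Fin 2) F) =
      c • (1 : Matrix (Fin 2) (Fin 2) F) := fun h => hb ((mk_eq_one_iff bt).2 h)
  obtain ⟨ca, hca⟩ := exists_conj_lower_ne_zero at' hans
  obtain ⟨cb, hcb⟩ := exists_conj_lower_ne_zero bt hbns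
  set a' := ca * at' * ca⁻¹ with ha'
  set b' := cb * bt * cb⁻¹ with hb'
  obtain ⟨l, hl⟩ := exists_sq_ne h4
    ((a' : Matrix (Fin 2) (Fin 2) F) 1 0 * (b' : Matrix (Fin 2) (Fin 2) F) 1 0)
    (((a' : Matrix (Fin 2) (Fin 2) F) 0 0 - (a' : Matrix (Fin 2) (Fin 2) F) 1 1) *
            (b' : Matrix (Fin 2) (Fin 2) F) 1 0 +
          (a' : Matrix (Fin 2) (Fin 2) F) 1 0 *
            ((b' : Matrix (Fin 2) (Fin 2) F) 1 1 - (b' : Matrix (Fin 2) (Fin 2) F) 0 0))
    ((a' * b' : SpecialLinearGroup (Fin 2) F) : Matrix (Fin 2) (Fin 2) F).trace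
    (mul_ne_zero hca hcb)
  obtain ⟨u, hu⟩ := trace_mul_conj_upper a' b' l
  rw [← hu] at hl
  intro heq
  have hmem : ∀ v : SpecialLinearGroup (Fin 2) F,
      (QuotientGroup.mk (a' * (v * b' * v⁻¹)) : ProjectiveSpecialLinearGroup (Fin 2) F) ∈
        {g : Matrix.ProjectiveSpecialLinearGroup (Fin 2) F | IsConj c g} := by
    intro v
    rw [← heq]
    refine ⟨QuotientGroup.mk ca, QuotientGroup.mk (v * cb), ?_⟩
    have : a' * (v * b' * v⁻¹) = (ca * at' * ca⁻¹) * ((v * cb) * bt * (v * cb)⁻¹) := by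
      rw [ha', hb']; group
    rw [this]
    rfl
  have h1 := hmem 1
  have h2 := hmem u
  rw [one_mul, inv_one, mul_one] at h1
  have hconj : IsConj (QuotientGroup.mk (a' * (u * b' * u⁻¹)) :
      ProjectiveSpecialLinearGroup (Fin 2) F) (QuotientGroup.mk (a' * b')) :=
    (IsConj.symm h2).trans h1
  exact hl (trace_sq_eq_of_isConj _ _ hconj)

end Cfsg.Agent.S2450
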