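import Mathlib
import Cfsg.Statements.S2455
import Cfsg.Agent.Lib.Helper5.SL2Class2
import Cfsg.Agent.Lib.Helper5.SL2Exists
import Cfsg.Agent.Lib.Helper5.SL2Torus

set_option autoImplicit false
open Cfsg

namespace Cfsg.Agent.S2455

open Cfsg.Agent.Lib.Helper5 Matrix

section basic
variable {F : Type*} [Field F]

/-- the negative of an element of `SL₂` -/
def negSL (g : SpecialLinearGroup (Fin 2) F) : SpecialLinearGroup (Fin 2) F :=
  mkSL2 (-(g : Matrix (Fin 2) (Fin 2) F)) (by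
    rw [Matrix.det_neg, Fintype.card_fin, g.det_coe]; norm_num)

theorem negSL_coe (g : SpecialLinearGroup (Fin 2) F) :
    ((negSL g : SpecialLinearGroup (Fin 2) F) : Matrix (Fin 2) (Fin 2) F) =
      -(g : Matrix (Fin 2) (Fin 2) F) := rfl

theorem negSL_one_mem_center :
    negSL (1 : SpecialLinearGroup (Fin 2) F) ∈ Subgroup.center (SpecialLinearGroup (Fin 2) F) := by
  rw [Subgroup.mem_center_iff]
  intro h
  apply Subtype.ext
  show (h : Matrix (Fin 2) (Fin 2) F) * (-(1 : Matrix (Fin 2) (Fin 2) F)) =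
    (-(1 : Matrix (Fin 2) (Fin 2) F)) * (h : Matrix (Fin 2) (Fin 2) F)
  rw [Matrix.mul_neg, Matrix.mul_one, Matrix.neg_mul, Matrix.one_mul]

theorem mk_negSL (g : SpecialLinearGroup (Fin 2) F) :
    (QuotientGroup.mk (negSL g) : ProjectiveSpecialLinearGroup (Fin 2) F) = QuotientGroup.mk g := by
  have h : negSL g = g * negSL 1 := by
    apply Subtype.ext
    show -(g : Matrix (Fin 2) (Fin 2) F) =
      (g : Matrix (Fin 2) (Fin 2) F) * (-(1 : Matrix (Fin 2) (Fin 2) F))
    rw [Matrix.mul_neg, Matrix.mul_one]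
  rw [h]
  exact QuotientGroup.mk_mul_of_mem g negSL_one_mem_center

theorem negSL_conj (c g : SpecialLinearGroup (Fin 2) F) :
    negSL (c * g * c⁻¹) = c * negSL g * c⁻¹ := by
  apply Subtype.ext
  show -((c : Matrix (Fin 2) (Fin 2) F) * (g : Matrix (Fin 2) (Fin 2) F) *
      ((c⁻¹ : SpecialLinearGroup (Fin 2) F) : Matrix (Fin 2) (Fin 2) F)) =
    (c : Matrix (Fin 2) (Fin 2) F) * (-(g : Matrix (Fin 2) (Fin 2) F)) *
      ((c⁻¹ : SpecialLinearGroup (Fin 2) F) : Matrix (Fin 2) (Fin 2) F)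
  rw [Matrix.mul_neg, Matrix.neg_mul]

theorem negSL_negSL (g : SpecialLinearGroup (Fin 2) F) : negSL (negSL g) = g := by
  apply Subtype.ext
  show - -(g : Matrix (Fin 2) (Fin 2) F) = (g : Matrix (Fin 2) (Fin 2) F)
  rw [neg_neg]

/-- the upper unitriangular element -/
def upperSL (b : F) : SpecialLinearGroup (Fin 2) F :=
  mkSL2 !![1, b; 0, 1] (by rw [Matrix.det_fin_two_of]; ring)

/-- a non-scalar element of trace two is conjugate to an upper unitriangular element -/
theorem exists_conj_upper (g : SpecialLinearGroup (Fin 2) F)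
    (hg : ¬ ∃ c : F, (g : Matrix (Fin 2) (Fin 2) F) = c • (1 : Matrix (Fin 2) (Fin 2) F))
    (ht : (g : Matrix (Fin 2) (Fin 2) F).trace = 2) :
    ∃ (c : SpecialLinearGroup (Fin 2) F) (b : F), b ≠ 0 ∧ g = c * upperSL b * c⁻¹ := by
  have hd := g.det_coe
  rw [Matrix.det_fin_two] at hd
  rw [Matrix.trace_fin_two] at ht
  set g1 := (g : Matrix (Fin 2) (Fin 2) F) 0 0 with hg1
  set g2 := (g : Matrix (Fin 2) (Fin 2) F) 0 1 with hg2
  set g3 := (g : Matrix (Fin 2) (Fin 2) F) 1 0 with hg3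
  set g4 := (g : Matrix (Fin 2) (Fin 2) F) 1 1 with hg4
  have hgm : (g : Matrix (Fin 2) (Fin 2) F) = !![g1, g2; g3, g4] :=
    Matrix.eta_fin_two _
  by_cases h3 : g3 = 0
  · have h1 : g1 = 1 := by
      have : (g1 - 1) ^ 2 = 0 := by
        rw [h3] at hd
        linear_combination -hd + g1 * ht
      exact sub_eq_zero.1 ((pow_eq_zero_iff two_ne_zero).1 this)
    have h4 : g4 = 1 := by rw [h1] at ht; linear_combination ht
    have h2 : g2 ≠ 0 := by
      intro h0
      apply hg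
      refine ⟨1, ?_⟩
      rw [hgm, h1, h0, h3, h4, one_smul, Matrix.one_fin_two]
    refine ⟨1, g2, h2, ?_⟩
    rw [one_mul, inv_one, mul_one]
    apply Subtype.ext
    show (g : Matrix (Fin 2) (Fin 2) F) = !![1, g2; 0, 1]
    rw [hgm, h1, h3, h4]
  · set c : SpecialLinearGroup (Fin 2) F := mkSL2 !![g1 - 1, -1 / g3; g3, 0] (by
      rw [Matrix.det_fin_two_of]
      field_simp
      ring) with hc
    refine ⟨c, -1 / g3, div_ne_zero (neg_ne_zero.2 one_ne_zero) h3, ?_⟩
    rw [eq_mul_inv_iff_mul_eq]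
    apply Subtype.ext
    show (g : Matrix (Fin 2) (Fin 2) F) * !![g1 - 1, -1 / g3; g3, 0] =
      !![g1 - 1, -1 / g3; g3, 0] * !![1, -1 / g3; 0, 1]
    rw [hgm, Matrix.mul_fin_two, Matrix.mul_fin_two]
    have e1 : g1 * (g1 - 1) + g2 * g3 = g1 - 1 := by linear_combination -hd + g1 * ht
    have e2 : g3 * (g1 - 1) + g4 * g3 = g3 := by linear_combination g3 * ht
    have e3 : g1 * (-1 / g3) + g2 * 0 = (g1 - 1) * (-1 / g3) + -1 / g3 * 1 := by ring
    have e4 : g3 * (-1 / g3) + g4 * 0 = g3 * (-1 / g3) + 0 * 1 := by ring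
    rw [e1, e2, e3, e4]
    simp

end basic

section quad
variable {F : Type*} [Field F] [Fintype F]

theorem exists_sq_eq_quadratic (h2 : (2 : F) ≠ 0) (A B C : F) (hA : A ≠ 0) :
    ∃ y δ : F, y ^ 2 = A * δ ^ 2 + B * δ + C := by
  have hchar : ringChar F ≠ 2 := by
    intro h
    apply h2
    have := ringChar.Nat.cast_ringChar (R := F)
    rw [h] at this
    exact_mod_cast this
  have hodd : Fintype.card F % 2 = 1 := FiniteField.odd_card_of_char_ne_two hchar
  have hf : (Polynomial.X ^ 2 : Polynomial F).degree = 2 := Polynomial.degree_X_pow 2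
  have hg : (Polynomial.C (-A) * Polynomial.X ^ 2 + Polynomial.C (-B) * Polynomial.X +
      Polynomial.C (-C) : Polynomial F).degree = 2 :=
    Polynomial.degree_quadratic (neg_ne_zero.2 hA)
  obtain ⟨y, δ, h⟩ := FiniteField.exists_root_sum_quadratic hf hg hodd
  refine ⟨y, δ, ?_⟩
  simp only [Polynomial.eval_add, Polynomial.eval_mul, Polynomial.eval_C, Polynomial.eval_pow,
    Polynomial.eval_X] at h
  linear_combination h

end quad

section cover
variable {F : Type*} [Field F] [Fintype F] [DecidableEq F]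

theorem cover_generic (h2 : (2 : F) ≠ 0) (x g : SpecialLinearGroup (Fin 2) F)
    (ht : (x : Matrix (Fin 2) (Fin 2) F).trace ^ 2 ≠ 4)
    (hs : (g : Matrix (Fin 2) (Fin 2) F).trace ^ 2 ≠ 4) :
    ∃ u v : SpecialLinearGroup (Fin 2) F, g = (u * x * u⁻¹) * (v * x * v⁻¹) := by
  set t := (x : Matrix (Fin 2) (Fin 2) F).trace with htdef
  set s := (g : Matrix (Fin 2) (Fin 2) F).trace with hsdef
  have hA : t ^ 2 - 4 ≠ 0 := sub_ne_zero.2 ht
  obtain ⟨y, δ, hy⟩ := exists_sq_eq_quadratic h2 (t ^ 2 - 4) (-2 * t * (s - 2)) (s ^ 2 - 4) hA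
  set σ := s - t * δ with hσ
  have h4 : (4 : F) ≠ 0 := by
    have : (4 : F) = 2 * 2 := by norm_num
    rw [this]
    exact mul_ne_zero h2 h2
  set x₂ : SpecialLinearGroup (Fin 2) F := mkSL2 !![t - δ, (σ + y) / 2; (y - σ) / 2, δ] (by
    rw [Matrix.det_fin_two_of]
    field_simp
    rw [hσ]
    linear_combination -hy) with hx₂
  set x₁ : SpecialLinearGroup (Fin 2) F := companionSL t with hx₁
  have htx₁ : (x₁ : Matrix (Fin 2) (Fin 2) F).trace = t := trace_companionSL t
  have htx₂ : (x₂ : Matrix (Fin 2) (Fin 2) F).trace = t := by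
    show (!![t - δ, (σ + y) / 2; (y - σ) / 2, δ] : Matrix (Fin 2) (Fin 2) F).trace = t
    rw [Matrix.trace_fin_two_of]
    ring
  have htp : ((x₁ * x₂ : SpecialLinearGroup (Fin 2) F) : Matrix (Fin 2) (Fin 2) F).trace = s := by
    show ((!![0, -1; 1, t] : Matrix (Fin 2) (Fin 2) F) *
      !![t - δ, (σ + y) / 2; (y - σ) / 2, δ]).trace = s
    rw [Matrix.mul_fin_two, Matrix.trace_fin_two_of, hσ]
    field_simp
    ring
  have hc1 : IsConj x x₁ := isConj_of_trace_eq x x₁ htx₁.symm ht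
  have hc2 : IsConj x x₂ := isConj_of_trace_eq x x₂ htx₂.symm ht
  have hc3 : IsConj (x₁ * x₂) g := by
    apply isConj_of_trace_eq _ _ htp
    rw [htp]
    exact hs
  obtain ⟨w, hw⟩ := isConj_iff.1 hc1
  obtain ⟨v, hv⟩ := isConj_iff.1 hc2
  obtain ⟨z, hz⟩ := isConj_iff.1 hc3
  refine ⟨z * w, z * v, ?_⟩
  rw [← hz, ← hw, ← hv]
  group

theorem cover_unip (h2 : (2 : F) ≠ 0) (x g : SpecialLinearGroup (Fin 2) F)
    (ht0 : (x : Matrix (Fin 2) (Fin 2) F).trace ≠ 0)
    (ht : (x : Matrix (Fin 2) (Fin 2) F).trace ^ 2 ≠ 4)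
    (hg : ¬ ∃ c : F, (g : Matrix (Fin 2) (Fin 2) F) = c • (1 : Matrix (Fin 2) (Fin 2) F))
    (hs : (g : Matrix (Fin 2) (Fin 2) F).trace = 2) :
    ∃ u v : SpecialLinearGroup (Fin 2) F, negSL g = (u * x * u⁻¹) * (v * x * v⁻¹) := by
  set t := (x : Matrix (Fin 2) (Fin 2) F).trace with htdef
  obtain ⟨c, b, hb, hgc⟩ := exists_conj_upper g hg hs
  set γ := 2 * t / b with hγ
  have hγ0 : γ ≠ 0 := div_ne_zero (mul_ne_zero h2 ht0) hb
  have hγb : γ * b = 2 * t := by rw [hγ, div_mul_cancel₀ _ hb]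
  set x₁ : SpecialLinearGroup (Fin 2) F := mkSL2 !![0, -1 / γ; γ, t] (by
    rw [Matrix.det_fin_two_of]
    field_simp
    ring) with hx₁
  set x₂ : SpecialLinearGroup (Fin 2) F := mkSL2 !![-t, -t * b - 1 / γ; γ, γ * b] (by
    rw [Matrix.det_fin_two_of]
    field_simp
    ring) with hx₂
  have htx₁ : (x₁ : Matrix (Fin 2) (Fin 2) F).trace = t := by
    show (!![0, -1 / γ; γ, t] : Matrix (Fin 2) (Fin 2) F).trace = t
    rw [Matrix.trace_fin_two_of, zero_add]
  have htx₂ : (x₂ : Matrix (Fin 2) (Fin 2) F).trace = t := by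
    show (!![-t, -t * b - 1 / γ; γ, γ * b] : Matrix (Fin 2) (Fin 2) F).trace = t
    rw [Matrix.trace_fin_two_of, hγb]
    ring
  have hprod : x₁ * x₂ = negSL (upperSL b) := by
    apply Subtype.ext
    show (!![0, -1 / γ; γ, t] : Matrix (Fin 2) (Fin 2) F) * !![-t, -t * b - 1 / γ; γ, γ * b] =
      -(!![1, b; 0, 1] : Matrix (Fin 2) (Fin 2) F)
    rw [Matrix.mul_fin_two]
    have e1 : (0 : F) * -t + -1 / γ * γ = -1 := by field_simp; ring
    have e2 : (0 : F) * (-t * b - 1 / γ) + -1 / γ * (γ * b) = -b := by field_simp; ring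
    have e3 : γ * -t + t * γ = 0 := by ring
    have e4 : γ * (-t * b - 1 / γ) + t * (γ * b) = -1 := by field_simp; ring
    rw [e1, e2, e3, e4]
    ext i j
    fin_cases i <;> fin_cases j <;> simp
  have hc1 : IsConj x x₁ := isConj_of_trace_eq x x₁ htx₁.symm ht
  have hc2 : IsConj x x₂ := isConj_of_trace_eq x x₂ htx₂.symm ht
  obtain ⟨w, hw⟩ := isConj_iff.1 hc1
  obtain ⟨v, hv⟩ := isConj_iff.1 hc2
  refine ⟨c * w, c * v, ?_⟩
  rw [hgc, negSL_conj, ← hprod, ← hw, ← hv]
  group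

end cover

/-- A strong covering result in the direction of Thompson's conjecture (non-identity elements) for PSL(2,q), q odd: let F be a finite field of odd characteristic p with at least 5 elements and let x ∈ PSL(2,F) have order greater than 2 and not divisible by p (so x is not unipotent). Then every non-identity element of PSL(2,F) is a product of two conjugates of x. -/
theorem result {F : Type*} [Field F] [Fintype F] (p : ℕ) [Fact p.Prime] [CharP F p] (hp : p ≠ 2) (h5 : 5 ≤ Fintype.card F)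
    (x : Matrix.ProjectiveSpecialLinearGroup (Fin 2) F) (hx2 : 2 < orderOf x) (hxp : ¬ p ∣ orderOf x) : ∀ g : Matrix.ProjectiveSpecialLinearGroup (Fin 2) F, g ≠ 1 → ∃ u v : Matrix.ProjectiveSpecialLinearGroup (Fin 2) F, g = (u * x * u⁻¹) * (v * x * v⁻¹) := by
  classical
  have hpp : p.Prime := Fact.out
  have h2 : (2 : F) ≠ 0 := Cfsg.Agent.S2301.two_ne_zero_of_char p hp
  intro g hg
  obtain ⟨xt, rfl⟩ := QuotientGroup.mk_surjective x
  obtain ⟨gt, rfl⟩ := QuotientGroup.mk_surjective g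
  have ht : (xt : Matrix (Fin 2) (Fin 2) F).trace ^ 2 ≠ 4 := by
    intro h
    have h1 := mk_pow_char_eq_one p xt h
    have h3 := orderOf_dvd_of_pow_eq_one h1
    rcases (Nat.dvd_prime hpp).1 h3 with h | h
    · omega
    · exact hxp (by rw [h])
  have ht0 : (xt : Matrix (Fin 2) (Fin 2) F).trace ≠ 0 := by
    intro h
    have hCH := cayley_two_sl xt
    rw [h, zero_smul] at hCH
    have h1 : xt * xt = negSL 1 := by
      apply Subtype.ext
      show (xt : Matrix (Fin 2) (Fin 2) F) * (xt : Matrix (Fin 2) (Fin 2) F) =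
        -(1 : Matrix (Fin 2) (Fin 2) F)
      exact eq_neg_of_add_eq_zero_left hCH
    have h3 : (QuotientGroup.mk xt : ProjectiveSpecialLinearGroup (Fin 2) F) ^ 2 = 1 := by
      have e : (QuotientGroup.mk xt : ProjectiveSpecialLinearGroup (Fin 2) F) ^ 2 =
        QuotientGroup.mk (xt * xt) := by rw [pow_two]; rfl
      rw [e, h1, mk_negSL]
      rfl
    have h4 := Nat.le_of_dvd two_pos (orderOf_dvd_of_pow_eq_one h3)
    omega
  have hgns : ¬ ∃ c : F, (gt : Matrix (Fin 2) (Fin 2) F) =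
      c • (1 : Matrix (Fin 2) (Fin 2) F) := by
    intro h
    exact hg ((mk_eq_one_iff gt).2 h)
  -- it suffices to write `gt` or `negSL gt` as a product in `SL₂`
  have hsuff : ∀ g' : SpecialLinearGroup (Fin 2) F,
      (QuotientGroup.mk g' : ProjectiveSpecialLinearGroup (Fin 2) F) = QuotientGroup.mk gt →
      (∃ u v : SpecialLinearGroup (Fin 2) F, g' = (u * xt * u⁻¹) * (v * xt * v⁻¹)) →
      ∃ u v : Matrix.ProjectiveSpecialLinearGroup (Fin 2) F,
        (QuotientGroup.mk gt : ProjectiveSpecialLinearGroup (Fin 2) F) =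
          (u * QuotientGroup.mk xt * u⁻¹) * (v * QuotientGroup.mk xt * v⁻¹) := by
    rintro g' hg' ⟨u, v, huv⟩
    refine ⟨QuotientGroup.mk u, QuotientGroup.mk v, ?_⟩
    rw [← hg', huv]
    rfl
  by_cases hs : (gt : Matrix (Fin 2) (Fin 2) F).trace ^ 2 = 4
  · have hs' : (gt : Matrix (Fin 2) (Fin 2) F).trace = 2 ∨
        (gt : Matrix (Fin 2) (Fin 2) F).trace = -2 := by
      have : ((gt : Matrix (Fin 2) (Fin 2) F).trace - 2) *
          ((gt : Matrix (Fin 2) (Fin 2) F).trace + 2) = 0 := by linear_combination hs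
      rcases mul_eq_zero.1 this with h | h
      · left; exact sub_eq_zero.1 h
      · right; exact eq_neg_of_add_eq_zero_left h
    rcases hs' with hs' | hs'
    · exact hsuff (negSL gt) (mk_negSL gt) (cover_unip h2 xt gt ht0 ht hgns hs')
    · have hns : ¬ ∃ c : F, ((negSL gt : SpecialLinearGroup (Fin 2) F) :
          Matrix (Fin 2) (Fin 2) F) = c • (1 : Matrix (Fin 2) (Fin 2) F) := by
        rintro ⟨c, hc⟩
        apply hgns
        refine ⟨-c, ?_⟩
        have : -(gt : Matrix (Fin 2) (Fin 2) F) = c • (1 : Matrix (Fin 2) (Fin 2) F) := hc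
        rw [neg_smul, ← this, neg_neg]
      have htr : ((negSL gt : SpecialLinearGroup (Fin 2) F) :
          Matrix (Fin 2) (Fin 2) F).trace = 2 := by
        show (-(gt : Matrix (Fin 2) (Fin 2) F)).trace = 2
        rw [Matrix.trace_neg, hs', neg_neg]
      have := cover_unip h2 xt (negSL gt) ht0 ht hns htr
      rw [negSL_negSL] at this
      exact hsuff gt rfl this
  · exact hsuff gt rfl (cover_generic h2 xt gt ht hs)

end Cfsg.Agent.S2455
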