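import Mathlib
import Cfsg.Statements.S2456
import Cfsg.Agent.Lib.Helper5.SL2Class2
import Cfsg.Agent.Lib.Helper5.SL2Torus

set_option autoImplicit false
open Cfsg

namespace Cfsg.Agent.S2456

open Cfsg.Agent.Lib.Helper5 Matrix

section
variable {F : Type*} [Field F] [Fintype F] [DecidableEq F]

theorem sl2_cover (h2 : (2 : F) = 0) (x g : SpecialLinearGroup (Fin 2) F) (a : F) (ha0 : a ≠ 0)
    (ha : a ^ 2 - (x : Matrix (Fin 2) (Fin 2) F).trace * a + 1 = 0)
    (ht : (x : Matrix (Fin 2) (Fin 2) F).trace ^ 2 ≠ 4)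
    (hg : ¬ ∃ c : F, (g : Matrix (Fin 2) (Fin 2) F) = c • (1 : Matrix (Fin 2) (Fin 2) F)) :
    ∃ u v : SpecialLinearGroup (Fin 2) F, g = (u * x * u⁻¹) * (v * x * v⁻¹) := by
  set t := (x : Matrix (Fin 2) (Fin 2) F).trace with htdef
  set s := (g : Matrix (Fin 2) (Fin 2) F).trace with hsdef
  have h4 : (4 : F) = 0 := by
    have : (4 : F) = 2 * 2 := by norm_num
    rw [this, h2, zero_mul]
  have hta : a + a⁻¹ = t := by
    have : a * (a + a⁻¹) = a * t := by
      rw [mul_add, mul_inv_cancel₀ ha0]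
      linear_combination ha
    exact mul_left_cancel₀ ha0 this
  set e := a⁻¹ - a with hedef
  have he : e ≠ 0 := by
    intro h0
    apply ht
    have h1 : a⁻¹ = a := sub_eq_zero.1 h0
    have h3 : t = 2 * a := by rw [← hta, h1]; ring
    have h5 : a ^ 2 = 1 := by
      have : a * a⁻¹ = 1 := mul_inv_cancel₀ ha0
      rw [h1] at this
      linear_combination this
    rw [h3]
    linear_combination 4 * h5
  set α := (t - a * s) / e with hα
  set δ := s - α with hδ
  have hαe : e * α = t - a * s := by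
    rw [hα, mul_div_cancel₀ _ he]
  set g' : SpecialLinearGroup (Fin 2) F := mkSL2 !![α, 1; α * δ - 1, δ] (by
    rw [Matrix.det_fin_two_of]; ring) with hg'
  set d : SpecialLinearGroup (Fin 2) F := mkSL2 !![a, 0; 0, a⁻¹] (by
    rw [Matrix.det_fin_two_of, mul_zero, sub_zero, mul_inv_cancel₀ ha0]) with hd
  set dinv : SpecialLinearGroup (Fin 2) F := mkSL2 !![a⁻¹, 0; 0, a] (by
    rw [Matrix.det_fin_two_of, mul_zero, sub_zero, inv_mul_cancel₀ ha0]) with hdinv
  have hdd : d * dinv = 1 := by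
    apply Subtype.ext
    show !![a, 0; 0, a⁻¹] * !![a⁻¹, 0; 0, a] = (1 : Matrix (Fin 2) (Fin 2) F)
    rw [Matrix.mul_fin_two, Matrix.one_fin_two]
    simp [mul_inv_cancel₀ ha0, inv_mul_cancel₀ ha0]
  set y := dinv * g' with hy
  have hg'dy : g' = d * y := by
    rw [hy, ← mul_assoc, hdd, one_mul]
  have htd : (d : Matrix (Fin 2) (Fin 2) F).trace = t := by
    show (!![a, 0; 0, a⁻¹] : Matrix (Fin 2) (Fin 2) F).trace = t
    rw [Matrix.trace_fin_two_of]
    exact hta
  have hty : (y : Matrix (Fin 2) (Fin 2) F).trace = t := by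
    show (!![a⁻¹, 0; 0, a] * !![α, 1; α * δ - 1, δ] : Matrix (Fin 2) (Fin 2) F).trace = t
    rw [Matrix.mul_fin_two, Matrix.trace_fin_two_of]
    rw [hδ]
    linear_combination hαe
  have htg' : (g' : Matrix (Fin 2) (Fin 2) F).trace = s := by
    show (!![α, 1; α * δ - 1, δ] : Matrix (Fin 2) (Fin 2) F).trace = s
    rw [Matrix.trace_fin_two_of, hδ]
    ring
  have hg'ns : ¬ ∃ c : F, (g' : Matrix (Fin 2) (Fin 2) F) =
      c • (1 : Matrix (Fin 2) (Fin 2) F) := by
    rintro ⟨c, hc⟩
    have h : (!![α, 1; α * δ - 1, δ] : Matrix (Fin 2) (Fin 2) F) =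
      c • (1 : Matrix (Fin 2) (Fin 2) F) := hc
    have h01 := congrFun (congrFun h 0) 1
    simp at h01
  have hxd : IsConj x d := isConj_of_trace_eq x d htd.symm ht
  have hxy : IsConj x y := isConj_of_trace_eq x y hty.symm ht
  have hg'g : IsConj g' g := by
    by_cases hs : s ^ 2 = 4
    · have hs0 : s = 0 := by
        rw [h4] at hs
        exact (pow_eq_zero_iff two_ne_zero).1 hs
      exact isConj_of_trace_zero_even h2 g' g hg'ns hg (htg'.trans hs0) hs0
    · apply isConj_of_trace_eq g' g htg'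
      rw [htg']
      exact hs
  obtain ⟨w, hw⟩ := isConj_iff.1 hxd
  obtain ⟨v, hv⟩ := isConj_iff.1 hxy
  obtain ⟨z, hz⟩ := isConj_iff.1 hg'g
  refine ⟨z * w, z * v, ?_⟩
  rw [← hz, hg'dy, ← hw, ← hv]
  group

end

/-- A strong covering result in the direction of Thompson's conjecture (non-identity elements) for PSL(2,q), q even: let F be a finite field of characteristic 2 with q ≥ 4 elements and let x ∈ PSL(2,F) have order greater than 2 and not dividing q + 1. Then every non-identity element of PSL(2,F) is a product of two conjugates of x. -/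
theorem result {F : Type*} [Field F] [Fintype F] [CharP F 2] (h4 : 4 ≤ Fintype.card F)
    (x : Matrix.ProjectiveSpecialLinearGroup (Fin 2) F) (hx2 : 2 < orderOf x) (hxq : ¬ orderOf x ∣ Fintype.card F + 1) : ∀ g : Matrix.ProjectiveSpecialLinearGroup (Fin 2) F, g ≠ 1 → ∃ u v : Matrix.ProjectiveSpecialLinearGroup (Fin 2) F, g = (u * x * u⁻¹) * (v * x * v⁻¹) := by
  classical
  have h2 : (2 : F) = 0 := CharTwo.two_eq_zero
  intro g hg
  obtain ⟨xt, rfl⟩ := QuotientGroup.mk_surjective x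
  obtain ⟨gt, rfl⟩ := QuotientGroup.mk_surjective g
  have hord : orderOf (QuotientGroup.mk xt : ProjectiveSpecialLinearGroup (Fin 2) F) =
      orderOf xt := orderOf_eq_orderOf_iff.2 (fun k => mk_pow_eq_one_iff_even h2 xt k)
  have ht : (xt : Matrix (Fin 2) (Fin 2) F).trace ^ 2 ≠ 4 := by
    intro h
    have h1 := mk_pow_char_eq_one 2 xt h
    have h3 := Nat.le_of_dvd two_pos (orderOf_dvd_of_pow_eq_one h1)
    omega
  have hr : rootCount (xt : Matrix (Fin 2) (Fin 2) F).trace ≠ 0 := by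
    intro h
    apply hxq
    have hc := card_centralizer_generic xt ht
    rw [h, add_zero] at hc
    have hpow := pow_card_centralizer_eq_one xt
    rw [hc] at hpow
    rw [hord]
    exact orderOf_dvd_of_pow_eq_one hpow
  obtain ⟨a, ha⟩ := Finset.card_pos.1 (Nat.pos_of_ne_zero hr)
  rw [Finset.mem_filter] at ha
  have ha0 : a ≠ 0 := by
    rintro rfl
    have := ha.2
    simp at this
  have hgns : ¬ ∃ c : F, (gt : Matrix (Fin 2) (Fin 2) F) =
      c • (1 : Matrix (Fin 2) (Fin 2) F) := by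
    intro h
    exact hg ((mk_eq_one_iff gt).2 h)
  obtain ⟨u, v, huv⟩ := sl2_cover h2 xt gt a ha0 ha.2 ht hgns
  refine ⟨QuotientGroup.mk u, QuotientGroup.mk v, ?_⟩
  rw [huv]
  rfl

end Cfsg.Agent.S2456
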