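import Cfsg.Statements.S2466
import Cfsg.Agent.Lib.Helper5.AltOrders

set_option autoImplicit false
open Cfsg

namespace Cfsg.Agent.S2466

open Cfsg.Agent.Lib.Helper5

theorem prime_dvd_multiset_lcm {p : ℕ} (hp : p.Prime) (m : Multiset ℕ) (h : p ∣ m.lcm) :
    ∃ a ∈ m, p ∣ a := by
  induction m using Multiset.induction_on with
  | empty =>
    simp only [Multiset.lcm_zero, Nat.dvd_one] at h
    exact absurd h hp.one_lt.ne'
  | cons a m ih =>
    rw [Multiset.lcm_cons, lcm_eq_nat_lcm] at h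
    have h2 : p ∣ a * m.lcm := h.trans (Nat.lcm_dvd_mul _ _)
    rcases (Nat.Prime.dvd_mul hp).1 h2 with h3 | h3
    · exact ⟨a, Multiset.mem_cons_self _ _, h3⟩
    · obtain ⟨b, hb, hpb⟩ := ih h3
      exact ⟨b, Multiset.mem_cons_of_mem hb, hpb⟩

theorem two_mem_sum_le (m : Multiset ℕ) (a b : ℕ) (ha : a ∈ m) (hb : b ∈ m) (hab : a ≠ b) :
    a + b ≤ m.sum := by
  obtain ⟨m', rfl⟩ := Multiset.exists_cons_of_mem ha
  rw [Multiset.sum_cons]
  rcases Multiset.mem_cons.1 hb with h | h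
  · exact absurd h.symm hab
  · have := Multiset.le_sum_of_mem h
    omega

theorem result (n r s : ℕ) (hr : r.Prime) (hs : s.Prime) (hr2 : r ≠ 2) (hs2 : s ≠ 2) (hrs : r ≠ s) (hrn : r ≤ n) (hsn : s ≤ n) :
    (r * s ∈ Set.range (orderOf : alternatingGroup (Fin n) → ℕ)) ↔ r + s ≤ n := by
  rw [mem_range_orderOf_alternatingGroup_iff]
  have hcop : Nat.Coprime r s := (Nat.coprime_primes hr hs).2 hrs
  have hr_odd : Odd r := hr.odd_of_ne_two hr2
  have hs_odd : Odd s := hs.odd_of_ne_two hs2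
  constructor
  · rintro ⟨m, hsum, h2, hlcm, -⟩
    obtain ⟨a₁, ha₁, hra⟩ := prime_dvd_multiset_lcm hr m (by rw [hlcm]; exact dvd_mul_right _ _)
    obtain ⟨a₂, ha₂, hsa⟩ := prime_dvd_multiset_lcm hs m (by rw [hlcm]; exact dvd_mul_left _ _)
    by_cases h : a₁ = a₂
    · subst h
      have hdvd : r * s ∣ a₁ := hcop.mul_dvd_of_dvd_of_dvd hra hsa
      have hpos : 0 < a₁ := by have := h2 a₁ ha₁; omega
      have h1 : r * s ≤ a₁ := Nat.le_of_dvd hpos hdvd
      have h3 : a₁ ≤ m.sum := Multiset.le_sum_of_mem ha₁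
      have hr2' := hr.two_le
      have hs2' := hs.two_le
      nlinarith
    · have h3 := two_mem_sum_le m a₁ a₂ ha₁ ha₂ h
      have hp1 : 0 < a₁ := by have := h2 a₁ ha₁; omega
      have hp2 : 0 < a₂ := by have := h2 a₂ ha₂; omega
      have := Nat.le_of_dvd hp1 hra
      have := Nat.le_of_dvd hp2 hsa
      omega
  · intro h
    refine ⟨{r, s}, ?_, ?_, ?_, ?_⟩
    · simpa using h
    · intro a ha
      simp only [Multiset.insert_eq_cons, Multiset.mem_cons, Multiset.mem_singleton] at ha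
      rcases ha with rfl | rfl
      · exact hr.two_le
      · exact hs.two_le
    · simp only [Multiset.insert_eq_cons, Multiset.lcm_cons, Multiset.lcm_singleton,
        normalize_eq, lcm_eq_nat_lcm]
      exact hcop.lcm_eq_mul
    · simp only [Multiset.insert_eq_cons, Multiset.sum_cons, Multiset.sum_singleton,
        Multiset.card_cons, Multiset.card_singleton]
      rcases hr_odd with ⟨a, rfl⟩
      rcases hs_odd with ⟨b, rfl⟩
      exact ⟨a + b + 2, by ring⟩

end Cfsg.Agent.S2466
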