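import Cfsg.Statements.S2467
import Cfsg.Agent.Lib.Helper5.AltOrders

set_option autoImplicit false
open Cfsg

namespace Cfsg.Agent.S2467

open Cfsg.Agent.Lib.Helper5

theorem prime_dvd_multiset_lcm {p : ℕ} (hp : p.Prime) (m : Multiset ℕ) (h : p ∣ m.lcm) :
    ∃ a ∈ m, p ∣ a := by
  induction m using Multiset.induction_on with
  | empty =>
    simp only [Multiset.lcm_zero, Nat.dvd_one] at h
    exact absurd h hp.one_lt.ne'
  | cons a m ih =>
    rw [Multiset.lcm_cons, lcm_eq_nat_lcm] at h
    have h2 : p ∣ a * m.lcm := h.trans (Nat.lcm_dvd_mul _ _)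
    rcases (Nat.Prime.dvd_mul hp).1 h2 with h3 | h3
    · exact ⟨a, Multiset.mem_cons_self _ _, h3⟩
    · obtain ⟨b, hb, hpb⟩ := ih h3
      exact ⟨b, Multiset.mem_cons_of_mem hb, hpb⟩

/-- The parity of `sum + card` is the parity of the number of even parts. -/
theorem parity_even_parts (m : Multiset ℕ) :
    (m.sum + Multiset.card m) % 2 = (Multiset.card (m.filter Even)) % 2 := by
  induction m using Multiset.induction_on with
  | empty => simp
  | cons a m ih =>
    rw [Multiset.sum_cons, Multiset.card_cons]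
    by_cases ha : Even a
    · rw [Multiset.filter_cons_of_pos _ ha, Multiset.card_cons]
      rcases ha with ⟨b, rfl⟩
      omega
    · rw [Multiset.filter_cons_of_neg _ ha]
      rw [Nat.not_even_iff_odd] at ha
      rcases ha with ⟨b, rfl⟩
      omega

theorem result (n r : ℕ) (hn : 4 ≤ n) (hr : r.Prime) (hr2 : r ≠ 2) (hrn : r ≤ n) :
    (2 * r ∈ Set.range (orderOf : alternatingGroup (Fin n) → ℕ)) ↔ r + 4 ≤ n := by
  rw [mem_range_orderOf_alternatingGroup_iff]
  have hr_odd : Odd r := hr.odd_of_ne_two hr2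
  have hcop : Nat.Coprime 2 r := (Nat.coprime_primes Nat.prime_two hr).2 (Ne.symm hr2)
  have hr2' := hr.two_le
  constructor
  · rintro ⟨m, hsum, h2, hlcm, hev⟩
    obtain ⟨a₁, ha₁, hra⟩ := prime_dvd_multiset_lcm hr m (by rw [hlcm]; exact dvd_mul_left _ _)
    obtain ⟨a₂, ha₂, h2a⟩ := prime_dvd_multiset_lcm Nat.prime_two m
      (by rw [hlcm]; exact dvd_mul_right _ _)
    set E := m.filter Even with hE
    set O := m.filter (fun a => ¬ Even a) with hO
    have hEO : E + O = m := Multiset.filter_add_not _ _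
    have hsumEO : E.sum + O.sum = m.sum := by rw [← Multiset.sum_add, hEO]
    have ha₂E : a₂ ∈ E := Multiset.mem_filter.2 ⟨ha₂, even_iff_two_dvd.2 h2a⟩
    have hcardE : Multiset.card E % 2 = 0 := by
      rw [← parity_even_parts]; exact Nat.even_iff.1 hev
    have hcardE1 : 1 ≤ Multiset.card E := Multiset.card_pos_iff_exists_mem.2 ⟨a₂, ha₂E⟩
    have hcardE2 : 2 ≤ Multiset.card E := by omega
    have hE2 : ∀ a ∈ E, 2 ≤ a := fun a ha => h2 a (Multiset.mem_filter.1 ha).1
    have hpos1 : 0 < a₁ := by have := h2 a₁ ha₁; omega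
    have hra_le : r ≤ a₁ := Nat.le_of_dvd hpos1 hra
    by_cases hev1 : Even a₁
    · have hdvd : 2 * r ∣ a₁ := hcop.mul_dvd_of_dvd_of_dvd (even_iff_two_dvd.1 hev1) hra
      have h2r : 2 * r ≤ a₁ := Nat.le_of_dvd hpos1 hdvd
      have ha₁E : a₁ ∈ E := Multiset.mem_filter.2 ⟨ha₁, hev1⟩
      obtain ⟨E', hE'⟩ := Multiset.exists_cons_of_mem ha₁E
      have hcardE' : 1 ≤ Multiset.card E' := by
        rw [hE', Multiset.card_cons] at hcardE2; omega
      obtain ⟨b, hb⟩ := Multiset.card_pos_iff_exists_mem.1 hcardE'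
      have hb2 : 2 ≤ b := hE2 b (by rw [hE']; exact Multiset.mem_cons_of_mem hb)
      have hbsum : b ≤ E'.sum := Multiset.le_sum_of_mem hb
      have : E.sum = a₁ + E'.sum := by rw [hE', Multiset.sum_cons]
      omega
    · have ha₁O : a₁ ∈ O := Multiset.mem_filter.2 ⟨ha₁, hev1⟩
      have h1 : a₁ ≤ O.sum := Multiset.le_sum_of_mem ha₁O
      have h3 : Multiset.card E • 2 ≤ E.sum := Multiset.card_nsmul_le_sum hE2
      simp only [smul_eq_mul] at h3
      omega
  · intro h
    refine ⟨{r, 2, 2}, ?_, ?_, ?_, ?_⟩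
    · simp only [Multiset.insert_eq_cons, Multiset.sum_cons, Multiset.sum_singleton]
      omega
    · intro a ha
      simp only [Multiset.insert_eq_cons, Multiset.mem_cons, Multiset.mem_singleton] at ha
      rcases ha with rfl | rfl | rfl
      · exact hr.two_le
      · exact le_rfl
      · exact le_rfl
    · simp only [Multiset.insert_eq_cons, Multiset.lcm_cons, Multiset.lcm_singleton,
        normalize_eq, lcm_eq_nat_lcm, Nat.lcm_self]
      rw [Nat.lcm_comm, hcop.lcm_eq_mul]
    · simp only [Multiset.insert_eq_cons, Multiset.sum_cons, Multiset.sum_singleton,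
        Multiset.card_cons, Multiset.card_singleton]
      rcases hr_odd with ⟨a, rfl⟩
      exact ⟨a + 4, by ring⟩

end Cfsg.Agent.S2467
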