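import Cfsg.Statements.S2471
import Mathlib.LinearAlgebra.Matrix.CharP

set_option autoImplicit false
open Cfsg

namespace Cfsg.Agent.S2471

open Matrix

/-- Cayley–Hamilton for 2×2 matrices, written out. -/
theorem cayley_two {F : Type*} [Field F] (A : Matrix (Fin 2) (Fin 2) F) :
    A * A + A.det • (1 : Matrix (Fin 2) (Fin 2) F) = A.trace • A := by
  ext i j
  fin_cases i <;> fin_cases j <;>
    simp [Matrix.mul_apply, Fin.sum_univ_two, Matrix.det_fin_two, Matrix.trace_fin_two] <;> ring

/-- A scalar matrix in `SL₂` is central. -/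
theorem mem_center_of_scalar {F : Type*} [Field F] (A : SpecialLinearGroup (Fin 2) F) (s : F)
    (h : (A : Matrix (Fin 2) (Fin 2) F) = s • (1 : Matrix (Fin 2) (Fin 2) F)) :
    A ∈ Subgroup.center (SpecialLinearGroup (Fin 2) F) := by
  rw [SpecialLinearGroup.mem_center_iff]
  refine ⟨s, ?_, ?_⟩
  · have h1 := A.det_coe
    rw [h] at h1
    simpa [Matrix.det_smul] using h1
  · rw [h]
    ext i j
    simp [Matrix.scalar_apply, Matrix.diagonal_apply, Matrix.one_apply]

theorem result {F : Type*} [Field F] [Fintype F] (p : ℕ) [Fact p.Prime] [CharP F p] (hp : p ≠ 2) (h5 : 5 ≤ Fintype.card F) (g : Matrix.ProjectiveSpecialLinearGroup (Fin 2) F) :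
    orderOf g ≠ 2 * p := by
  intro hord
  have hp2 : 2 ≤ p := (Fact.out : p.Prime).two_le
  obtain ⟨A, rfl⟩ := QuotientGroup.mk_surjective g
  have hpow : ((A : ProjectiveSpecialLinearGroup (Fin 2) F)) ^ (2 * p) = 1 := by
    rw [← hord]; exact pow_orderOf_eq_one _
  have hc : A ^ (2 * p) ∈ Subgroup.center (SpecialLinearGroup (Fin 2) F) := by
    rw [← QuotientGroup.eq_one_iff]
    exact hpow
  rw [SpecialLinearGroup.mem_center_iff] at hc
  obtain ⟨r, -, hrA⟩ := hc
  set M : Matrix (Fin 2) (Fin 2) F := (A : Matrix (Fin 2) (Fin 2) F) with hM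
  have hMpow : M ^ (2 * p) = r • (1 : Matrix (Fin 2) (Fin 2) F) := by
    have := hrA
    simp only [SpecialLinearGroup.coe_pow] at this
    rw [hM, ← this]
    ext i j
    simp [Matrix.scalar_apply, Matrix.diagonal_apply, Matrix.one_apply]
  have hCH := cayley_two M
  rw [show M.det = 1 from A.det_coe, one_smul] at hCH
  have key : (A : ProjectiveSpecialLinearGroup (Fin 2) F) ^ 2 = 1 ∨
      (A : ProjectiveSpecialLinearGroup (Fin 2) F) ^ p = 1 := by
    by_cases ht : M.trace = 0
    · left
      rw [ht, zero_smul] at hCH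
      have : A ^ 2 ∈ Subgroup.center (SpecialLinearGroup (Fin 2) F) := by
        apply mem_center_of_scalar _ (-1)
        rw [SpecialLinearGroup.coe_pow, pow_two, neg_smul, one_smul]
        exact eq_neg_of_add_eq_zero_left hCH
      exact (QuotientGroup.eq_one_iff _).2 this
    · right
      have : A ^ p ∈ Subgroup.center (SpecialLinearGroup (Fin 2) F) := by
        apply mem_center_of_scalar _ ((M.trace ^ p)⁻¹ * (r + 1))
        rw [SpecialLinearGroup.coe_pow]
        have h1 : (M.trace • M) ^ p = (r + 1) • (1 : Matrix (Fin 2) (Fin 2) F) := by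
          rw [← hCH, add_pow_char_of_commute p (Commute.one_right _), one_pow, ← pow_two,
            ← pow_mul, hMpow, add_smul, one_smul]
        rw [smul_pow] at h1
        rw [mul_smul, ← h1, smul_smul, inv_mul_cancel₀ (pow_ne_zero _ ht), one_smul]
      exact (QuotientGroup.eq_one_iff _).2 this
  rcases key with h | h
  · have := orderOf_dvd_of_pow_eq_one h
    rw [hord] at this
    have := Nat.le_of_dvd (by norm_num) this
    omega
  · have := orderOf_dvd_of_pow_eq_one h
    rw [hord] at this
    have := Nat.le_of_dvd (by omega) this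
    omega

end Cfsg.Agent.S2471
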