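import Cfsg.Statements.S2477
import Cfsg.Agent.Lib.Helper5.AltOrders

set_option autoImplicit false
open Cfsg

namespace Cfsg.Agent.S2477

open Cfsg.Agent.Lib.Helper5

def spec : List ℕ := [1, 2, 3, 4, 5, 6, 7, 8, 9, 10, 12, 15, 21]

theorem forward : ∀ l ∈ partsAux 10 10 10, (l.sum + l.length) % 2 = 0 → listLcm l ∈ spec := by
  decide

theorem backward : ∀ k ∈ spec, ∃ l ∈ partsAux 10 10 10, listLcm l = k ∧ (l.sum + l.length) % 2 = 0 ∧
    l.sum ≤ 10 ∧ ∀ a ∈ l, 2 ≤ a := by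
  decide

theorem result : Set.range (orderOf : alternatingGroup (Fin 10) → ℕ) = {1, 2, 3, 4, 5, 6, 7, 8, 9, 10, 12, 15, 21} := by
  ext k
  rw [mem_range_orderOf_alternatingGroup_iff_list]
  have hspec : k ∈ ({1, 2, 3, 4, 5, 6, 7, 8, 9, 10, 12, 15, 21} : Set ℕ) ↔ k ∈ spec := by
    simp [spec]
  rw [hspec]
  constructor
  · rintro ⟨l, hl, rfl, hev, -, -⟩
    exact forward l hl hev
  · intro hk
    exact backward k hk

end Cfsg.Agent.S2477
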