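import Cfsg.Statements.S2485
import Mathlib

set_option autoImplicit false
open scoped Pointwise
open Cfsg

namespace Cfsg.Agent.S2485


open Matrix

variable {q : ℕ} [Fact q.Prime]

/-- The matrix of multiplication by `i`. -/
def c0 (q : ℕ) : Matrix (Fin 2) (Fin 2) (ZMod q) := !![0, -1; 1, 0]

theorem c0_00 : c0 q 0 0 = 0 := rfl
theorem c0_01 : c0 q 0 1 = -1 := rfl
theorem c0_10 : c0 q 1 0 = 1 := rfl
theorem c0_11 : c0 q 1 1 = 0 := rfl

theorem c0_sq : c0 q * c0 q = -1 := by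
  ext i j
  fin_cases i <;> fin_cases j <;>
    simp [Matrix.mul_apply, Fin.sum_univ_two, c0_00, c0_01, c0_10, c0_11]

/-- The normalizer of the non-split torus: matrices commuting or anticommuting with `c0`. -/
def Ntil (q : ℕ) [Fact q.Prime] : Subgroup (GL (Fin 2) (ZMod q)) where
  carrier := {g | ∃ ε : ZMod q, ε * ε = 1 ∧
    (g : Matrix (Fin 2) (Fin 2) (ZMod q)) * c0 q = ε • (c0 q * (g : Matrix (Fin 2) (Fin 2) (ZMod q)))}
  mul_mem' := by
    rintro a b ⟨ε, hε, ha⟩ ⟨δ, hδ, hb⟩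
    refine ⟨ε * δ, by linear_combination δ * δ * hε + hδ, ?_⟩
    rw [Units.val_mul, Matrix.mul_assoc, hb, Matrix.mul_smul, ← Matrix.mul_assoc, ha,
      Matrix.smul_mul, smul_smul, Matrix.mul_assoc, mul_comm]
  one_mem' := ⟨1, one_mul 1, by simp⟩
  inv_mem' := by
    rintro a ⟨ε, hε, ha⟩
    refine ⟨ε, hε, ?_⟩
    have h1 : ((a⁻¹ : GL (Fin 2) (ZMod q)) : Matrix (Fin 2) (Fin 2) (ZMod q)) *
        (a : Matrix (Fin 2) (Fin 2) (ZMod q)) = 1 := by
      rw [← Units.val_mul, inv_mul_cancel, Units.val_one]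
    have h2 : (a : Matrix (Fin 2) (Fin 2) (ZMod q)) *
        ((a⁻¹ : GL (Fin 2) (ZMod q)) : Matrix (Fin 2) (Fin 2) (ZMod q)) = 1 := by
      rw [← Units.val_mul, mul_inv_cancel, Units.val_one]
    have h3 : c0 q * ((a⁻¹ : GL (Fin 2) (ZMod q)) : Matrix (Fin 2) (Fin 2) (ZMod q))
        = ε • (((a⁻¹ : GL (Fin 2) (ZMod q)) : Matrix (Fin 2) (Fin 2) (ZMod q)) * c0 q) := by
      calc c0 q * ((a⁻¹ : GL (Fin 2) (ZMod q)) : Matrix (Fin 2) (Fin 2) (ZMod q))
          = ((a⁻¹ : GL (Fin 2) (ZMod q)) : Matrix (Fin 2) (Fin 2) (ZMod q)) *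
              ((a : Matrix (Fin 2) (Fin 2) (ZMod q)) * c0 q) *
              ((a⁻¹ : GL (Fin 2) (ZMod q)) : Matrix (Fin 2) (Fin 2) (ZMod q)) := by
            rw [← Matrix.mul_assoc, h1, Matrix.one_mul]
        _ = _ := by
            rw [ha, Matrix.mul_smul, Matrix.smul_mul, ← Matrix.mul_assoc,
              Matrix.mul_assoc _ _ (a⁻¹ : GL (Fin 2) (ZMod q)).1, h2, Matrix.mul_one]
    rw [h3, smul_smul, hε, one_smul]

theorem mem_Ntil {g : GL (Fin 2) (ZMod q)} : g ∈ Ntil q ↔ ∃ ε : ZMod q, ε * ε = 1 ∧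
    (g : Matrix (Fin 2) (Fin 2) (ZMod q)) * c0 q = ε • (c0 q * (g : Matrix (Fin 2) (Fin 2) (ZMod q))) :=
  Iff.rfl

theorem entries_of_commute (g : Matrix (Fin 2) (Fin 2) (ZMod q)) (h : g * c0 q = c0 q * g) :
    g 0 1 = -g 1 0 ∧ g 1 1 = g 0 0 := by
  have h00 := congrFun (congrFun h 0) 0
  have h01 := congrFun (congrFun h 0) 1
  simp only [Matrix.mul_apply, Fin.sum_univ_two, c0_00, c0_01, c0_10, c0_11] at h00 h01
  constructor
  · linear_combination h00
  · linear_combination h01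

theorem entries_of_anticommute (g : Matrix (Fin 2) (Fin 2) (ZMod q))
    (h : g * c0 q = -(c0 q * g)) : g 1 0 = g 0 1 ∧ g 1 1 = -g 0 0 := by
  have h00 := congrFun (congrFun h 0) 0
  have h01 := congrFun (congrFun h 0) 1
  simp only [Matrix.mul_apply, Matrix.neg_apply, Fin.sum_univ_two, c0_00, c0_01, c0_10, c0_11]
    at h00 h01
  constructor
  · linear_combination -h00
  · linear_combination -h01

theorem eq_of_commute (g : Matrix (Fin 2) (Fin 2) (ZMod q)) (h : g * c0 q = c0 q * g) :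
    g = g 0 0 • (1 : Matrix (Fin 2) (Fin 2) (ZMod q)) + g 1 0 • c0 q := by
  obtain ⟨h1, h2⟩ := entries_of_commute g h
  ext i j
  fin_cases i <;> fin_cases j <;>
    simp [c0_00, c0_01, c0_10, c0_11, h1, h2]

theorem sq_of_anticommute (g : Matrix (Fin 2) (Fin 2) (ZMod q)) (h : g * c0 q = -(c0 q * g)) :
    g * g = (g 0 0 * g 0 0 + g 0 1 * g 0 1) • (1 : Matrix (Fin 2) (Fin 2) (ZMod q)) := by
  obtain ⟨h1, h2⟩ := entries_of_anticommute g h
  ext i j
  fin_cases i <;> fin_cases j <;>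
    simp [Matrix.mul_apply, Fin.sum_univ_two, h1, h2] <;> ring

theorem c0_pow (n : ℕ) (hn : n % 4 = 3) : c0 q ^ n = -c0 q := by
  have h4 : c0 q ^ 4 = 1 := by
    have : c0 q ^ 4 = (c0 q * c0 q) * (c0 q * c0 q) := by noncomm_ring
    rw [this, c0_sq]
    simp
  have h3 : c0 q ^ 3 = -c0 q := by
    have : c0 q ^ 3 = (c0 q * c0 q) * c0 q := by noncomm_ring
    rw [this, c0_sq]
    simp
  obtain ⟨j, rfl⟩ : ∃ j, n = 4 * j + 3 := ⟨n / 4, by omega⟩
  rw [pow_add, pow_mul, h4, one_pow, one_mul, h3]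

theorem pow_succ_of_commute (hq : q % 4 = 3) (g : Matrix (Fin 2) (Fin 2) (ZMod q))
    (h : g * c0 q = c0 q * g) :
    g ^ (q + 1) = (g 0 0 * g 0 0 + g 1 0 * g 1 0) • (1 : Matrix (Fin 2) (Fin 2) (ZMod q)) := by
  have hg := eq_of_commute g h
  have hcomm : Commute (g 0 0 • (1 : Matrix (Fin 2) (Fin 2) (ZMod q))) (g 1 0 • c0 q) :=
    (Commute.one_left _).smul_left (g 0 0) |>.smul_right (g 1 0)
  have hpow : g ^ q = g 0 0 • (1 : Matrix (Fin 2) (Fin 2) (ZMod q)) - g 1 0 • c0 q := by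
    conv_lhs => rw [hg]
    rw [add_pow_char_of_commute _ hcomm, smul_pow, smul_pow, one_pow, ZMod.pow_card,
      ZMod.pow_card, c0_pow q hq, smul_neg, sub_eq_add_neg]
  rw [pow_succ, hpow]
  conv_lhs => arg 2; rw [hg]
  rw [sub_mul, mul_add, mul_add, smul_mul_smul_comm, smul_mul_smul_comm, smul_mul_smul_comm,
    smul_mul_smul_comm, one_mul, one_mul, mul_one, c0_sq]
  ext i j
  fin_cases i <;> fin_cases j <;> simp [c0_00, c0_01, c0_10, c0_11] <;> ring

theorem scalar_mem_center (g : GL (Fin 2) (ZMod q)) (s : ZMod q)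
    (h : (g : Matrix (Fin 2) (Fin 2) (ZMod q)) = s • (1 : Matrix (Fin 2) (Fin 2) (ZMod q))) :
    g ∈ Subgroup.center (GL (Fin 2) (ZMod q)) := by
  rw [Subgroup.mem_center_iff]
  intro x
  apply Units.ext
  rw [Units.val_mul, Units.val_mul, h, Matrix.mul_smul, Matrix.smul_mul, Matrix.mul_one,
    Matrix.one_mul]

theorem pow_mem_center {k : ℕ} (hk : q + 1 = 2 ^ k) (hq : q % 4 = 3) (g : GL (Fin 2) (ZMod q))
    (hg : g ∈ Ntil q) : g ^ (2 ^ (k + 1)) ∈ Subgroup.center (GL (Fin 2) (ZMod q)) := by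
  obtain ⟨ε, hε, h⟩ := hg
  rcases mul_self_eq_one_iff.1 hε with rfl | rfl
  · rw [one_smul] at h
    have h1 := pow_succ_of_commute hq _ h
    rw [hk] at h1
    apply scalar_mem_center _ ((g.1 0 0 * g.1 0 0 + g.1 1 0 * g.1 1 0) ^ 2)
    rw [Units.val_pow_eq_pow_val, pow_succ, pow_mul, h1, smul_pow, one_pow]
  · rw [neg_smul, one_smul] at h
    have h1 := sq_of_anticommute _ h
    apply scalar_mem_center _ ((g.1 0 0 * g.1 0 0 + g.1 0 1 * g.1 0 1) ^ (2 ^ k))
    rw [Units.val_pow_eq_pow_val, pow_succ, mul_comm, pow_mul, pow_two, h1, smul_pow, one_pow]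

/-- The symmetric traceless matrices. -/
def wMat (u v : ZMod q) : Matrix (Fin 2) (Fin 2) (ZMod q) := !![u, v; v, -u]

theorem wMat_00 (u v : ZMod q) : wMat u v 0 0 = u := rfl
theorem wMat_01 (u v : ZMod q) : wMat u v 0 1 = v := rfl
theorem wMat_10 (u v : ZMod q) : wMat u v 1 0 = v := rfl
theorem wMat_11 (u v : ZMod q) : wMat u v 1 1 = -u := rfl

theorem sq_add_sq_ne_zero (hq : q % 4 = 3) (u v : ZMod q) (h : ¬ (u = 0 ∧ v = 0)) :
    u * u + v * v ≠ 0 := by
  intro h0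
  by_cases hv : v = 0
  · subst hv
    apply h
    refine ⟨?_, rfl⟩
    rw [mul_zero, add_zero] at h0
    exact mul_self_eq_zero.1 h0
  · have h1 : IsSquare (-1 : ZMod q) := by
      refine ⟨u / v, ?_⟩
      field_simp
      linear_combination -h0
    have := ZMod.exists_sq_eq_neg_one_iff.1 h1
    exact this hq

theorem det_wMat (u v : ZMod q) : (wMat u v).det = -(u * u + v * v) := by
  rw [Matrix.det_fin_two, wMat_00, wMat_01, wMat_10, wMat_11]
  ring

/-- The element of `GL` attached to a non-zero symmetric traceless matrix. -/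
noncomputable def wGL (hq : q % 4 = 3) (u v : ZMod q) (h : ¬ (u = 0 ∧ v = 0)) :
    GL (Fin 2) (ZMod q) :=
  Matrix.GeneralLinearGroup.mkOfDetNeZero (wMat u v) (by
    rw [det_wMat, neg_ne_zero]
    exact sq_add_sq_ne_zero hq u v h)

theorem wGL_coe (hq : q % 4 = 3) (u v : ZMod q) (h : ¬ (u = 0 ∧ v = 0)) :
    ((wGL hq u v h : GL (Fin 2) (ZMod q)) : Matrix (Fin 2) (Fin 2) (ZMod q)) = wMat u v := rfl

theorem wGL_mem (hq : q % 4 = 3) (u v : ZMod q) (h : ¬ (u = 0 ∧ v = 0)) :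
    wGL hq u v h ∈ Ntil q := by
  refine ⟨-1, by ring, ?_⟩
  rw [wGL_coe]
  ext i j
  fin_cases i <;> fin_cases j <;>
    simp [Matrix.mul_apply, Fin.sum_univ_two, c0_00, c0_01, c0_10, c0_11, wMat_00, wMat_01,
      wMat_10, wMat_11]

theorem wGL_not_mem_center (hq : q % 4 = 3) (u v : ZMod q) (h : ¬ (u = 0 ∧ v = 0)) :
    wGL hq u v h ∉ Subgroup.center (GL (Fin 2) (ZMod q)) := by
  intro hc
  rw [Subgroup.mem_center_iff] at hc
  let E : GL (Fin 2) (ZMod q) := Matrix.GeneralLinearGroup.mkOfDetNeZero !![1, 1; 0, 1] (by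
    rw [Matrix.det_fin_two]; simp)
  have h1 := congrArg (fun x : GL (Fin 2) (ZMod q) => (x : Matrix (Fin 2) (Fin 2) (ZMod q))) (hc E)
  simp only [Units.val_mul, wGL_coe] at h1
  have hE : (E : Matrix (Fin 2) (Fin 2) (ZMod q)) = !![1, 1; 0, 1] := rfl
  rw [hE] at h1
  have h00 := congrFun (congrFun h1 0) 0
  have h01 := congrFun (congrFun h1 0) 1
  simp [Matrix.mul_apply, Fin.sum_univ_two, wMat_00, wMat_01, wMat_10, wMat_11] at h00 h01
  have hv : v = 0 := h00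
  have h2 : (2 : ZMod q) ≠ 0 := by
    intro h2
    have hq2 : (2 : ZMod q) = ((2 : ℕ) : ZMod q) := by norm_num
    rw [hq2, ZMod.natCast_eq_zero_iff] at h2
    have := Nat.le_of_dvd (by norm_num) h2
    have hp : q.Prime := Fact.out
    have := hp.two_le
    omega
  have hu : u = 0 := by
    have : 2 * u = 0 := by
      rw [hv] at h01
      linear_combination -h01
    rcases mul_eq_zero.1 this with h3 | h3
    · exact absurd h3 h2
    · exact h3
  exact h ⟨hu, hv⟩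

theorem wMat_lin (u v : ZMod q) : wMat u v = u • wMat 1 0 + v • wMat 0 1 := by
  ext i j
  fin_cases i <;> fin_cases j <;> simp [wMat_00, wMat_01, wMat_10, wMat_11]

/-- Two-dimensional spaces of traceless matrices meet: some non-zero symmetric traceless matrix
is conjugated by `g` to a symmetric traceless matrix. -/
theorem exists_conj_wMat (g : GL (Fin 2) (ZMod q)) :
    ∃ u v : ZMod q, ¬ (u = 0 ∧ v = 0) ∧ ∃ u' v' : ZMod q,
      (g : Matrix (Fin 2) (Fin 2) (ZMod q)) * wMat u v *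
        ((g⁻¹ : GL (Fin 2) (ZMod q)) : Matrix (Fin 2) (Fin 2) (ZMod q)) = wMat u' v' := by
  set A : Matrix (Fin 2) (Fin 2) (ZMod q) := (g : Matrix (Fin 2) (Fin 2) (ZMod q)) * wMat 1 0 *
    ((g⁻¹ : GL (Fin 2) (ZMod q)) : Matrix (Fin 2) (Fin 2) (ZMod q)) with hA
  set B : Matrix (Fin 2) (Fin 2) (ZMod q) := (g : Matrix (Fin 2) (Fin 2) (ZMod q)) * wMat 0 1 *
    ((g⁻¹ : GL (Fin 2) (ZMod q)) : Matrix (Fin 2) (Fin 2) (ZMod q)) with hB
  have hconj : ∀ u v : ZMod q, (g : Matrix (Fin 2) (Fin 2) (ZMod q)) * wMat u v *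
      ((g⁻¹ : GL (Fin 2) (ZMod q)) : Matrix (Fin 2) (Fin 2) (ZMod q)) = u • A + v • B := by
    intro u v
    rw [wMat_lin u v, Matrix.mul_add, Matrix.add_mul, Matrix.mul_smul, Matrix.mul_smul,
      Matrix.smul_mul, Matrix.smul_mul]
  have htr : ∀ M : Matrix (Fin 2) (Fin 2) (ZMod q),
      ((g : Matrix (Fin 2) (Fin 2) (ZMod q)) * M *
        ((g⁻¹ : GL (Fin 2) (ZMod q)) : Matrix (Fin 2) (Fin 2) (ZMod q))).trace = M.trace := by
    intro M
    rw [Matrix.trace_mul_comm, ← Matrix.mul_assoc, ← Units.val_mul, inv_mul_cancel, Units.val_one,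
      Matrix.one_mul]
  have hsymm : ∀ M : Matrix (Fin 2) (Fin 2) (ZMod q), M.trace = 0 → M 0 1 = M 1 0 →
      M = wMat (M 0 0) (M 0 1) := by
    intro M h1 h2
    rw [Matrix.trace_fin_two] at h1
    ext i j
    fin_cases i <;> fin_cases j <;> simp [wMat_00, wMat_01, wMat_10, wMat_11]
    · exact h2.symm
    · linear_combination h1
  have htrw : ∀ u v : ZMod q, (wMat u v).trace = 0 := by
    intro u v
    rw [Matrix.trace_fin_two, wMat_00, wMat_11, add_neg_cancel]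
  set a := A 0 1 - A 1 0 with ha
  set b := B 0 1 - B 1 0 with hb
  by_cases hab : a = 0 ∧ b = 0
  · refine ⟨1, 0, fun h => one_ne_zero h.1, A 0 0, A 0 1, ?_⟩
    apply hsymm
    · rw [htr, htrw]
    · exact sub_eq_zero.1 hab.1
  · refine ⟨b, -a, fun h => hab ⟨neg_eq_zero.1 h.2, h.1⟩,
      ((g : Matrix (Fin 2) (Fin 2) (ZMod q)) * wMat b (-a) *
        ((g⁻¹ : GL (Fin 2) (ZMod q)) : Matrix (Fin 2) (Fin 2) (ZMod q))) 0 0,
      ((g : Matrix (Fin 2) (Fin 2) (ZMod q)) * wMat b (-a) *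
        ((g⁻¹ : GL (Fin 2) (ZMod q)) : Matrix (Fin 2) (Fin 2) (ZMod q))) 0 1, ?_⟩
    apply hsymm
    · rw [htr, htrw]
    · rw [hconj]
      simp only [Matrix.add_apply, Matrix.smul_apply, smul_eq_mul]
      rw [ha, hb]
      ring


/-- Let q = 2^k − 1 ≥ 7 be a prime and let G = PGL(2,q), the general linear group of degree 2 over the field with q elements modulo its centre. Then any two Sylow 2-subgroups of G have a non-trivial intersection: for a Sylow 2-subgroup H and every x ∈ G, H ∩ H^x ≠ 1. -/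
theorem result {q k : ℕ} [Fact q.Prime] (hk : q + 1 = 2 ^ k) (hq : 7 ≤ q)
    (H : Sylow 2 (GL (Fin 2) (ZMod q) ⧸ Subgroup.center (GL (Fin 2) (ZMod q))))
    (x : GL (Fin 2) (ZMod q) ⧸ Subgroup.center (GL (Fin 2) (ZMod q))) :
    (H : Subgroup (GL (Fin 2) (ZMod q) ⧸ Subgroup.center (GL (Fin 2) (ZMod q)))) ⊓ MulAut.conj x • (H : Subgroup _) ≠ ⊥ := by
  classical
  have hp : q.Prime := Fact.out
  have hk3 : 3 ≤ k := by
    by_contra hlt
    push Not at hlt
    have : 2 ^ k ≤ 2 ^ 2 := Nat.pow_le_pow_right (by norm_num) (by omega)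
    omega
  have hq4 : q % 4 = 3 := by
    obtain ⟨j, rfl⟩ : ∃ j, k = j + 2 := ⟨k - 2, by omega⟩
    rw [pow_add] at hk
    omega
  let π : GL (Fin 2) (ZMod q) →* GL (Fin 2) (ZMod q) ⧸ Subgroup.center (GL (Fin 2) (ZMod q)) :=
    QuotientGroup.mk' _
  let H₀ : Subgroup (GL (Fin 2) (ZMod q) ⧸ Subgroup.center (GL (Fin 2) (ZMod q))) :=
    (Ntil q).map π
  have hH₀ : IsPGroup 2 H₀ := by
    rintro ⟨x', g, hg, rfl⟩
    refine ⟨k + 1, Subtype.ext ?_⟩
    show (π g) ^ (2 ^ (k + 1)) = 1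
    rw [← map_pow]
    exact (QuotientGroup.eq_one_iff _).2 (pow_mem_center hk hq4 g hg)
  obtain ⟨P, hP⟩ := hH₀.exists_le_sylow
  obtain ⟨y, hy⟩ := MulAction.exists_smul_eq
    (GL (Fin 2) (ZMod q) ⧸ Subgroup.center (GL (Fin 2) (ZMod q))) P H
  obtain ⟨g', hg'⟩ := QuotientGroup.mk'_surjective
    (Subgroup.center (GL (Fin 2) (ZMod q))) (y⁻¹ * x * y)
  obtain ⟨u, v, huv, u', v', hconj⟩ := exists_conj_wMat g'
  have huv' : ¬ (u' = 0 ∧ v' = 0) := by
    rintro ⟨rfl, rfl⟩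
    have h0 : wMat (0 : ZMod q) 0 = 0 := by
      ext i j
      fin_cases i <;> fin_cases j <;> simp [wMat_00, wMat_01, wMat_10, wMat_11]
    rw [h0] at hconj
    have h1 : wMat u v = ((g'⁻¹ : GL (Fin 2) (ZMod q)) : Matrix (Fin 2) (Fin 2) (ZMod q)) *
        ((g' : Matrix (Fin 2) (Fin 2) (ZMod q)) * wMat u v *
          ((g'⁻¹ : GL (Fin 2) (ZMod q)) : Matrix (Fin 2) (Fin 2) (ZMod q))) *
        (g' : Matrix (Fin 2) (Fin 2) (ZMod q)) := by
      rw [Matrix.mul_assoc, Matrix.mul_assoc, ← Units.val_mul, inv_mul_cancel, Units.val_one,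
        Matrix.mul_one, ← Matrix.mul_assoc, ← Units.val_mul, inv_mul_cancel, Units.val_one,
        Matrix.one_mul]
    rw [hconj, Matrix.mul_zero, Matrix.zero_mul] at h1
    apply huv
    constructor
    · have := congrFun (congrFun h1 0) 0
      rw [wMat_00] at this
      exact this
    · have := congrFun (congrFun h1 0) 1
      rw [wMat_01] at this
      exact this
  have hMM' : wGL hq4 u' v' huv' = g' * wGL hq4 u v huv * g'⁻¹ := by
    apply Units.ext
    rw [Units.val_mul, Units.val_mul, wGL_coe, wGL_coe]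
    exact hconj.symm
  have hπM' : π (wGL hq4 u v huv) ∈ (P : Subgroup _) :=
    hP (Subgroup.mem_map_of_mem _ (wGL_mem hq4 u v huv))
  have hπM : π (wGL hq4 u' v' huv') ∈ (P : Subgroup _) :=
    hP (Subgroup.mem_map_of_mem _ (wGL_mem hq4 u' v' huv'))
  intro hbot
  have hw1 : y * π (wGL hq4 u' v' huv') * y⁻¹ ∈ (H : Subgroup _) := by
    rw [← hy, Sylow.coe_subgroup_smul, Subgroup.mem_pointwise_smul_iff_inv_smul_mem,
      MulAut.smul_def, ← map_inv, MulAut.conj_apply]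
    have : y⁻¹ * (y * π (wGL hq4 u' v' huv') * y⁻¹) * y⁻¹⁻¹ = π (wGL hq4 u' v' huv') := by group
    rw [this]
    exact hπM
  have hw2 : y * π (wGL hq4 u' v' huv') * y⁻¹ ∈ MulAut.conj x • (H : Subgroup _) := by
    rw [Subgroup.mem_pointwise_smul_iff_inv_smul_mem, ← hy, Sylow.coe_subgroup_smul,
      Subgroup.mem_pointwise_smul_iff_inv_smul_mem, MulAut.smul_def, MulAut.smul_def, ← map_inv,
      ← map_inv, MulAut.conj_apply, MulAut.conj_apply]
    have hg'' : π g' = y⁻¹ * x * y := hg'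
    have : y⁻¹ * (x⁻¹ * (y * π (wGL hq4 u' v' huv') * y⁻¹) * x⁻¹⁻¹) * y⁻¹⁻¹
        = π (wGL hq4 u v huv) := by
      rw [hMM', map_mul, map_mul, map_inv, hg'']
      group
    rw [this]
    exact hπM'
  have hmem : y * π (wGL hq4 u' v' huv') * y⁻¹ ∈
      (H : Subgroup _) ⊓ MulAut.conj x • (H : Subgroup _) := Subgroup.mem_inf.2 ⟨hw1, hw2⟩
  rw [hbot, Subgroup.mem_bot] at hmem
  have h1 : π (wGL hq4 u' v' huv') = 1 := by
    have : π (wGL hq4 u' v' huv') = y⁻¹ * (y * π (wGL hq4 u' v' huv') * y⁻¹) * y := by group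
    rw [this, hmem]
    group
  exact wGL_not_mem_center hq4 u' v' huv' ((QuotientGroup.eq_one_iff _).1 h1)

end Cfsg.Agent.S2485
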