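import Cfsg.Statements.S2487
import Cfsg.Agent.Lib.Helper5.TSFlag11

set_option autoImplicit false
open scoped Pointwise
open Cfsg

namespace Cfsg.Agent.S2487

/-- Let m ≥ 4 and let G be the full isometry group of the hyperbolic quadratic form x₁y₁ + ⋯ + x_m y_m on the 2m-dimensional space over the field with 2 elements (the orthogonal group O⁺(2m,2), which contains Ω⁺(2m,2) with index 2). Then any two Sylow 2-subgroups of G have a non-trivial intersection: for a Sylow 2-subgroup H and every x ∈ G, H ∩ H^x ≠ 1. -/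
theorem result {F : Type*} [Field F] [Fintype F] (hF : Fintype.card F = 2) {m : ℕ} (hm : 4 ≤ m)
    (H : Sylow 2 (Cfsg.isometryGroup F (Cfsg.quadFormPlus m F)))
    (x : Cfsg.isometryGroup F (Cfsg.quadFormPlus m F)) :
    (H : Subgroup (Cfsg.isometryGroup F (Cfsg.quadFormPlus m F))) ⊓ MulAut.conj x • (H : Subgroup _) ≠ ⊥ := by
  obtain ⟨k, rfl⟩ : ∃ k, m = k + 1 := ⟨m - 1, by omega⟩
  haveI : Finite (GL (Fin (k + 1) ⊕ Fin (k + 1)) F) := inferInstance
  haveI : Finite ↥(Cfsg.isometryGroup F (Cfsg.quadFormPlus (k + 1) F)) := inferInstance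
  obtain ⟨H₀, hH₀⟩ :=
    (Cfsg.Agent.Lib.Helper5.TSFlag.isPGroup_stabStd (k := k) hF).exists_le_sylow
  obtain ⟨y, hy⟩ : ∃ y : ↥(Cfsg.isometryGroup F (Cfsg.quadFormPlus (k + 1) F)),
      Sylow.mulAction.smul y H₀ = H :=
    @MulAction.exists_smul_eq _ _ Sylow.mulAction.toSMul Sylow.isPretransitive_of_finite H₀ H
  obtain ⟨s, hs1, hs2, hs3⟩ := Cfsg.Agent.Lib.Helper5.TSFlag.exists_pair hF (y⁻¹ * x * y)
  have hHy : (H : Subgroup ↥(Cfsg.isometryGroup F (Cfsg.quadFormPlus (k + 1) F))) =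
      MulAut.conj y • (H₀ : Subgroup _) := by
    rw [← hy]
    rfl
  intro hbot
  have ht : y * s * y⁻¹ ∈ (H : Subgroup ↥(Cfsg.isometryGroup F (Cfsg.quadFormPlus (k + 1) F))) ⊓
      MulAut.conj x • (H : Subgroup _) := by
    refine ⟨?_, ?_⟩
    · rw [hHy]
      have := Subgroup.smul_mem_pointwise_smul s (MulAut.conj y) H₀.toSubgroup (hH₀ hs2)
      rwa [MulAut.smul_def, MulAut.conj_apply] at this
    · rw [hHy, smul_smul, ← map_mul]
      have := Subgroup.smul_mem_pointwise_smul ((y⁻¹ * x * y)⁻¹ * s * (y⁻¹ * x * y))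
        (MulAut.conj (x * y)) H₀.toSubgroup (hH₀ hs3)
      rw [MulAut.smul_def, MulAut.conj_apply] at this
      have e : x * y * ((y⁻¹ * x * y)⁻¹ * s * (y⁻¹ * x * y)) * (x * y)⁻¹ = y * s * y⁻¹ := by
        group
      rw [e] at this
      exact this
  rw [hbot, Subgroup.mem_bot] at ht
  apply hs1
  have : s = y⁻¹ * (y * s * y⁻¹) * y := by group
  rw [this, ht]
  group

end Cfsg.Agent.S2487
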