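import Cfsg.Statements.S2488
import Mathlib
import Cfsg.Agent.Lib.Helper2.A6F1
import Cfsg.Agent.Lib.Helper2.A6F3

set_option autoImplicit false
open scoped Pointwise
open Cfsg

namespace Cfsg.Agent.S2488

open Cfsg.Agent.Lib.Helper2.A6F in
theorem s2488_aux {G : Type*} [Group G] [Finite G] (N : Subgroup G) [N.Normal]
    (e : N ≃* alternatingGroup (Fin 6)) (hidx : N.index = 4)
    (H : Sylow 2 G) (x : G) :
    (H : Subgroup G) ⊓ MulAut.conj x • (H : Subgroup G) ≠ ⊥ := by
  classical
  haveI := Fintype.ofFinite G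
  have hcard : Nat.card N = 360 := by
    rw [Nat.card_congr e.toEquiv, nat_card_alternatingGroup, Nat.card_eq_fintype_card,
      Fintype.card_fin]
    decide
  -- the transport map
  set f : G → Equiv.Perm (Fin 6) := fun g => if h : g ∈ N then ((e ⟨g, h⟩ : alternatingGroup (Fin 6)) :
    Equiv.Perm (Fin 6)) else 1 with hf
  have hfN : ∀ g (h : g ∈ N), f g = ((e ⟨g, h⟩ : alternatingGroup (Fin 6)) : Equiv.Perm (Fin 6)) := by
    intro g h
    rw [hf]; simp only; rw [dif_pos h]
  have hford : ∀ g (h : g ∈ N), orderOf (f g) = orderOf g := by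
    intro g h
    rw [hfN g h, Subgroup.orderOf_coe, MulEquiv.orderOf_eq, ← Subgroup.orderOf_coe]
  have hfinj : ∀ g (h : g ∈ N) g' (h' : g' ∈ N), f g = f g' → g = g' := by
    intro g h g' h' heq
    rw [hfN g h, hfN g' h'] at heq
    have := e.injective (Subtype.ext heq)
    exact congrArg Subtype.val this
  have hfmul : ∀ g (h : g ∈ N) g' (h' : g' ∈ N), f (g * g') = f g * f g' := by
    intro g h g' h'
    rw [hfN g h, hfN g' h', hfN (g * g') (N.mul_mem h h')]
    have : (⟨g * g', N.mul_mem h h'⟩ : N) = ⟨g, h⟩ * ⟨g', h'⟩ := rfl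
    rw [this, map_mul]
    rfl
  have h2 : ∀ s ∈ N, orderOf s = 2 → Nat.card (Subgroup.centralizer {s} ⊓ N : Subgroup G) ≤ 8 := by
    intro s hs hs2
    have hmem : f s ∈ alternatingGroup (Fin 6) := by rw [hfN s hs]; exact (e ⟨s, hs⟩).2
    have h8 := card_centralizer_involution (f s) (by rw [hford s hs, hs2]) hmem
    refine le_trans ?_ h8
    refine Nat.card_le_card_of_injective
      (fun g : (Subgroup.centralizer {s} ⊓ N : Subgroup G) =>
        (⟨f g.1, ?_⟩ : (Subgroup.centralizer {f s} ⊓ alternatingGroup (Fin 6) :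
          Subgroup (Equiv.Perm (Fin 6))))) ?_
    · have hgN : g.1 ∈ N := (Subgroup.mem_inf.mp g.2).2
      have hgc : g.1 * s = s * g.1 :=
        Subgroup.mem_centralizer_singleton_iff.mp (Subgroup.mem_inf.mp g.2).1
      refine Subgroup.mem_inf.mpr ⟨?_, ?_⟩
      · rw [Subgroup.mem_centralizer_singleton_iff, ← hfmul _ hgN _ hs, ← hfmul _ hs _ hgN, hgc]
      · rw [hfN _ hgN]; exact (e ⟨g.1, hgN⟩).2
    · intro g g' heq
      have h1 := congrArg Subtype.val heq
      simp only at h1
      exact Subtype.ext (hfinj _ (Subgroup.mem_inf.mp g.2).2 _ (Subgroup.mem_inf.mp g'.2).2 h1)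
  have hodd : ∀ g ∈ N, Odd (orderOf g) → orderOf g = 1 ∨ orderOf g = 3 ∨ orderOf g = 5 := by
    intro g hg hodd
    rw [← hford g hg] at hodd ⊢
    exact odd_order (f g) hodd
  have hcount : ∀ k : ℕ, (Finset.univ.filter fun g : G => g ∈ N ∧ orderOf g = k).card ≤
      (Finset.univ.filter fun σ : Equiv.Perm (Fin 6) => orderOf σ = k).card := by
    intro k
    apply Finset.card_le_card_of_injOn f
    · intro g hg
      simp only [Finset.coe_filter, Finset.mem_univ, true_and, Set.mem_setOf_eq] at hg ⊢
      rw [hford g hg.1, hg.2]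
    · intro g hg g' hg' heq
      simp only [Finset.coe_filter, Finset.mem_univ, true_and, Set.mem_setOf_eq] at hg hg'
      exact hfinj g hg.1 g' hg'.1 heq
  exact sylow_inf_conj_ne_bot N hidx hcard h2 hodd
    (Finset.univ.filter fun g : G => g ∈ N ∧ orderOf g = 3)
    (Finset.univ.filter fun g : G => g ∈ N ∧ orderOf g = 5)
    (fun g hg h3 => by simp [hg, h3]) ((hcount 3).trans card_order_three)
    (fun g hg h5 => by simp [hg, h5]) ((hcount 5).trans card_order_five) H x

/-- Let G be a finite group with a normal subgroup N of index 4 isomorphic to the alternating group of degree 6 and with trivial centralizer in G (so G is the full automorphism group of A₆). Then any two Sylow 2-subgroups of G have a non-trivial intersection: for a Sylow 2-subgroup H and every x ∈ G, H ∩ H^x ≠ 1. -/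
theorem result {G : Type*} [Group G] [Finite G] (N : Subgroup G) [N.Normal]
    (e : N ≃* alternatingGroup (Fin 6)) (hidx : N.index = 4)
    (hC : Subgroup.centralizer (N : Set G) = ⊥)
    (H : Sylow 2 G) (x : G) :
    (H : Subgroup G) ⊓ MulAut.conj x • (H : Subgroup G) ≠ ⊥ := by
  exact s2488_aux N e hidx H x

end Cfsg.Agent.S2488
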