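import Cfsg.Statements.S2490
import Cfsg.Agent.Lib.Helper5.PG.PG12

set_option autoImplicit false
open Cfsg

namespace Cfsg.Agent.S2490

/-- Let G be a finite group of order 7920 = 2⁴·3²·5·11 (the order of the smallest Mathieu group) and suppose its prime graph (vertices the prime divisors of the order, distinct p, q joined when there is an element of order pq) is disconnected: the prime divisors split into two non-empty parts with no element of order pq for p in one part and q in the other. Then G is simple. -/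
theorem result {G : Type*} [Group G] [Finite G] (hord : Nat.card G = 7920)
    (hdisc : (∃ A : Set ℕ, (∃ a ∈ A, a.Prime ∧ a ∣ Nat.card G) ∧ (∃ b ∉ A, b.Prime ∧ b ∣ Nat.card G) ∧
      ∀ a ∈ A, ∀ b ∉ A, a.Prime → b.Prime → a ∣ Nat.card G → b ∣ Nat.card G → ¬ ∃ g : G, orderOf g = a * b)) :
    IsSimpleGroup G := by
  obtain ⟨A, ⟨a, haA, hap, hadvd⟩, ⟨b, hbA, hbp, hbdvd⟩, hno⟩ := hdisc
  rw [hord] at hadvd hbdvd
  have key : ∀ p q : ℕ, p ∈ A → q ∉ A → p.Prime → q.Prime → p ∣ 7920 → q ∣ 7920 →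
      Cfsg.Agent.Lib.Helper5.PG.NoOrd G (p * q) :=
    fun p q hp hq hpp hqp hpd hqd g hg =>
      hno p hp q hq hpp hqp (by rw [hord]; exact hpd) (by rw [hord]; exact hqd) ⟨g, hg⟩
  have ha := Cfsg.Agent.Lib.Helper5.PG.prime_dvd_7920 hap hadvd
  have hb := Cfsg.Agent.Lib.Helper5.PG.prime_dvd_7920 hbp hbdvd
  have p2 : Nat.Prime 2 := Nat.prime_two
  have p3 : Nat.Prime 3 := Nat.prime_three
  have p5 : Nat.Prime 5 := Nat.prime_five
  have p11 : Nat.Prime 11 := by norm_num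
  have d2 : 2 ∣ 7920 := by norm_num
  have d3 : 3 ∣ 7920 := by norm_num
  have d5 : 5 ∣ 7920 := by norm_num
  have d11 : 11 ∣ 7920 := by norm_num
  by_cases m2 : 2 ∈ A <;> by_cases m11 : 11 ∈ A
  · by_cases m3 : 3 ∈ A <;> by_cases m5 : 5 ∈ A
    · exfalso
      rcases hb with rfl | rfl | rfl | rfl
      · exact hbA m2
      · exact hbA m3
      · exact hbA m5
      · exact hbA m11
    · exact Cfsg.Agent.Lib.Helper5.PG.Iso5.isSimpleGroup
        ⟨(key 2 5 m2 m5 p2 p5 d2 d5).symm, (key 3 5 m3 m5 p3 p5 d3 d5).symm,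
          (key 11 5 m11 m5 p11 p5 d11 d5).symm⟩ hord
    · exact Cfsg.Agent.Lib.Helper5.PG.Iso3.isSimpleGroup
        ⟨(key 2 3 m2 m3 p2 p3 d2 d3).symm, (key 5 3 m5 m3 p5 p3 d5 d3).symm,
          (key 11 3 m11 m3 p11 p3 d11 d3).symm⟩ hord
    · exact Cfsg.Agent.Lib.Helper5.PG.isSimpleGroup_of_3_5 hord
        (key 2 3 m2 m3 p2 p3 d2 d3).symm (key 11 3 m11 m3 p11 p3 d11 d3).symm
        (key 2 5 m2 m5 p2 p5 d2 d5).symm (key 11 5 m11 m5 p11 p5 d11 d5).symm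
  · exact Cfsg.Agent.Lib.Helper5.PG.isSimpleGroup_of_noOrd_22 hord
      (key 2 11 m2 m11 p2 p11 d2 d11).symm
  · exact Cfsg.Agent.Lib.Helper5.PG.isSimpleGroup_of_noOrd_22 hord
      (key 11 2 m11 m2 p11 p2 d11 d2)
  · by_cases m3 : 3 ∈ A <;> by_cases m5 : 5 ∈ A
    · exact Cfsg.Agent.Lib.Helper5.PG.isSimpleGroup_of_3_5 hord
        (key 3 2 m3 m2 p3 p2 d3 d2) (key 3 11 m3 m11 p3 p11 d3 d11)
        (key 5 2 m5 m2 p5 p2 d5 d2) (key 5 11 m5 m11 p5 p11 d5 d11)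
    · exact Cfsg.Agent.Lib.Helper5.PG.Iso3.isSimpleGroup
        ⟨key 3 2 m3 m2 p3 p2 d3 d2, key 3 5 m3 m5 p3 p5 d3 d5,
          key 3 11 m3 m11 p3 p11 d3 d11⟩ hord
    · exact Cfsg.Agent.Lib.Helper5.PG.Iso5.isSimpleGroup
        ⟨key 5 2 m5 m2 p5 p2 d5 d2, key 5 3 m5 m3 p5 p3 d5 d3,
          key 5 11 m5 m11 p5 p11 d5 d11⟩ hord
    · exfalso
      rcases ha with rfl | rfl | rfl | rfl
      · exact m2 haA
      · exact m3 haA
      · exact m5 haA
      · exact m11 haA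

end Cfsg.Agent.S2490
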