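-- Statement S2493: every element of a perfect double cover of A_n (n ≥ 5) is a commutator.
import Cfsg.Statements.S2493
import Mathlib
import Cfsg.Agent.Lib.Lead.Ore_G3

set_option autoImplicit false
open Cfsg

namespace Cfsg.Agent.S2493

/-- Let n ≥ 5 and let G be a finite perfect group whose centre has order 2 with G/Z(G) isomorphic to the alternating group of degree n (the double cover of the alternating group). Then every element of G is a commutator. -/
theorem result {G : Type*} [Group G] [Finite G] (hperf : commutator G = ⊤) {n : ℕ} (hn : 5 ≤ n)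
    (hZ : Nat.card (Subgroup.center G) = 2) (e : G ⧸ Subgroup.center G ≃* alternatingGroup (Fin n))
    (g : G) :
    ∃ a b : G, a * b * a⁻¹ * b⁻¹ = g := by
  classical
  -- the central involution
  have hex : ∃ z : G, z ∈ Subgroup.center G ∧ z ≠ 1 := by
    by_contra hcon
    push Not at hcon
    have hbot : Subgroup.center G = ⊥ := by
      rw [eq_bot_iff]
      intro x hx
      exact Subgroup.mem_bot.mpr (hcon x hx)
    rw [hbot, Subgroup.card_bot] at hZ
    omega
  obtain ⟨z, hzc, hz1⟩ := hex
  have hz2 : z * z = 1 := by
    have h := pow_card_eq_one' (G := Subgroup.center G) (x := ⟨z, hzc⟩)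
    rw [hZ] at h
    have h' : ((⟨z, hzc⟩ : Subgroup.center G) ^ 2 : Subgroup.center G).1 = 1 := by rw [h]; rfl
    rw [pow_two] at h'
    exact h'
  -- the center is {1, z}
  have hcen : ∀ x : G, x ∈ Subgroup.center G ↔ x = 1 ∨ x = z := by
    intro x
    constructor
    · intro hx
      by_contra hcon
      push Not at hcon
      have : Finite (Subgroup.center G) := inferInstance
      have h3 : 3 ≤ Nat.card (Subgroup.center G) := by
        have hinj : Function.Injective (fun i : Fin 3 =>
            (![⟨1, Subgroup.one_mem _⟩, ⟨z, hzc⟩, ⟨x, hx⟩] i : Subgroup.center G)) := by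
          intro i j hij
          fin_cases i <;> fin_cases j <;> simp_all [Subtype.ext_iff]
        have := Nat.card_le_card_of_injective _ hinj
        simpa using this
      omega
    · rintro (rfl | rfl)
      · exact Subgroup.one_mem _
      · exact hzc
  let π : G →* alternatingGroup (Fin n) :=
    e.toMonoidHom.comp (QuotientGroup.mk' (Subgroup.center G))
  have hπ : Function.Surjective π := by
    intro y
    obtain ⟨q, hq⟩ := e.surjective y
    obtain ⟨x, hx⟩ := QuotientGroup.mk'_surjective (Subgroup.center G) q
    refine ⟨x, ?_⟩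
    show e (QuotientGroup.mk' (Subgroup.center G) x) = y
    rw [hx, hq]
  have hker : ∀ x : G, π x = 1 ↔ x = 1 ∨ x = z := by
    intro x
    rw [← hcen x]
    simp only [π, MonoidHom.comp_apply, MulEquiv.coe_toMonoidHom, QuotientGroup.mk'_apply]
    rw [MulEquiv.map_eq_one_iff, QuotientGroup.eq_one_iff]
  exact Cfsg.Agent.Lib.Lead.Ore.commutator_of_cover hn π hπ z hz1 hz2
    (fun x => (Subgroup.mem_center_iff.mp hzc x).symm) hker hperf g

end Cfsg.Agent.S2493
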