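import Cfsg.Statements.S2495
import Cfsg.Agent.Lib.Helper5.SingerModel
import Cfsg.Agent.S2470
import Cfsg.Agent.S2904

set_option autoImplicit false
open Cfsg

namespace Cfsg.Agent.S2495


open Polynomial Cfsg.Agent.Lib.Helper5

/-- geometric sum times `q - 1`. -/
theorem geom (q h : ℕ) (hq : 1 ≤ q) : (q - 1) * ∑ i ∈ Finset.range h, q ^ i = q ^ h - 1 := by
  have h1 : 1 ≤ q ^ h := Nat.one_le_pow _ _ hq
  zify [hq, h1]
  rw [mul_comm]
  exact geom_sum_mul (q : ℤ) h

/-- the geometric sum is congruent to the number of terms modulo any divisor of `q - 1`. -/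
theorem geom_mod (q h d : ℕ) (hq : 1 ≤ q) (hd : d ∣ q - 1) :
    (∑ i ∈ Finset.range h, q ^ i) ≡ h [MOD d] := by
  have h1 : q ≡ 1 [MOD d] := by
    have : 1 ≡ q [MOD d] := (Nat.modEq_iff_dvd' hq).2 hd
    exact this.symm
  have h2 : ∀ i, q ^ i ≡ 1 [MOD d] := fun i => by
    have := h1.pow i
    rwa [one_pow] at this
  calc (∑ i ∈ Finset.range h, q ^ i) ≡ ∑ i ∈ Finset.range h, 1 [MOD d] := by
        induction h with
        | zero => rfl
        | succ h ih => rw [Finset.sum_range_succ, Finset.sum_range_succ]; exact ih.add (h2 h)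
    _ = h := by simp

theorem quot_eq (q h : ℕ) (hq : 2 ≤ q) :
    (q ^ (2 * h) - 1) / (q - 1) = (∑ i ∈ Finset.range h, q ^ i) * (q ^ h + 1) := by
  have h1 : q ^ (2 * h) - 1 = (q - 1) * ((∑ i ∈ Finset.range h, q ^ i) * (q ^ h + 1)) := by
    rw [← mul_assoc, geom q h (by omega)]
    have h2 : 1 ≤ q ^ h := Nat.one_le_pow _ _ (by omega)
    have h3 : 1 ≤ q ^ (2 * h) := Nat.one_le_pow _ _ (by omega)
    zify [h2, h3]
    ring
  rw [h1, Nat.mul_div_cancel_left _ (by omega)]

theorem gcd_N (q h : ℕ) (hq : Odd q) (hq3 : 3 ≤ q) : Nat.gcd (q ^ h + 1) (q - 1) = 2 := by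
  have h1 : q ^ h + 1 ≡ 1 + 1 [MOD (q - 1)] := by
    have : q ≡ 1 [MOD (q - 1)] := ((Nat.modEq_iff_dvd' (by omega)).2 (dvd_refl _)).symm
    have := (this.pow h).add_right 1
    rwa [one_pow] at this
  have h2 : Nat.gcd (q ^ h + 1) (q - 1) = Nat.gcd 2 (q - 1) := Nat.ModEq.gcd_eq h1
  rw [h2]
  have h3 : 2 ∣ q - 1 := (Nat.Odd.sub_odd hq odd_one).two_dvd
  exact Nat.gcd_eq_left h3

theorem arith_forward (q h o : ℕ) (hq : Odd q) (hq3 : 3 ≤ q) (hh : 1 ≤ h)
    (ho : o ∣ (q ^ (2 * h) - 1) / (q - 1)) (ho0 : 0 < o)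
    (hmin : ∀ j, o ∣ j * (q - 1) → q ^ h + 1 ∣ j) :
    padicValNat 2 (q - 1) ≤ padicValNat 2 h := by
  set N := q ^ h + 1 with hN
  set S := ∑ i ∈ Finset.range h, q ^ i with hS
  rw [quot_eq q h (by omega)] at ho
  set e := Nat.gcd o (q - 1) with he
  have he0 : 0 < e := Nat.gcd_pos_of_pos_left _ ho0
  obtain ⟨j₀, hj₀⟩ : e ∣ o := Nat.gcd_dvd_left _ _
  obtain ⟨c, hc⟩ : e ∣ q - 1 := Nat.gcd_dvd_right _ _
  have h1 : N ∣ j₀ := by
    apply hmin
    rw [hj₀, hc]
    exact ⟨c, by ring⟩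
  have h2 : e ∣ S := by
    have h3 : N * e ∣ S * N := by
      refine Dvd.dvd.trans ?_ ho
      rw [hj₀, mul_comm e j₀]
      exact Nat.mul_dvd_mul_right h1 e
    rw [mul_comm S N] at h3
    exact Nat.dvd_of_mul_dvd_mul_left (by positivity) h3
  have hcop : Nat.Coprime j₀ c := by
    have := Nat.coprime_div_gcd_div_gcd (m := o) (n := q - 1) he0
    rw [← he] at this
    have h4 : o / e = j₀ := by rw [hj₀, Nat.mul_div_cancel_left _ he0]
    have h5 : (q - 1) / e = c := by rw [hc, Nat.mul_div_cancel_left _ he0]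
    rwa [h4, h5] at this
  have hNeven : 2 ∣ N := by
    have : Odd (q ^ h) := hq.pow
    exact (this.add_odd odd_one).two_dvd
  have hcodd : ¬ 2 ∣ c := by
    intro h2c
    have := Nat.dvd_gcd (hNeven.trans h1) h2c
    rw [hcop] at this
    omega
  set a := padicValNat 2 (q - 1) with ha
  have hq10 : q - 1 ≠ 0 := by omega
  have h2a : 2 ^ a ∣ q - 1 := pow_padicValNat_dvd
  have h2ae : 2 ^ a ∣ e := by
    rw [hc] at h2a
    have hcop2 : Nat.Coprime (2 ^ a) c := by
      apply Nat.Coprime.pow_left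
      rw [Nat.Prime.coprime_iff_not_dvd Nat.prime_two]
      exact hcodd
    exact hcop2.dvd_of_dvd_mul_right h2a
  have h2aS : 2 ^ a ∣ S := h2ae.trans h2
  have h2ah : 2 ^ a ∣ h := by
    have := geom_mod q h (2 ^ a) (by omega) pow_padicValNat_dvd
    exact (Nat.modEq_zero_iff_dvd.1 ((this.symm).trans (Nat.modEq_zero_iff_dvd.2 h2aS)))
  have : Fact (Nat.Prime 2) := ⟨Nat.prime_two⟩
  exact (padicValNat_dvd_iff_le (by omega)).1 h2ah

theorem arith_backward (q h : ℕ) (hq : Odd q) (hq3 : 3 ≤ q) (hh : 1 ≤ h)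
    (ha : 2 ^ padicValNat 2 (q - 1) ∣ h) :
    (q ^ h + 1) * Nat.gcd h (q - 1) ∣ (q ^ (2 * h) - 1) / (q - 1) ∧
      ∀ j, (q ^ h + 1) * Nat.gcd h (q - 1) ∣ j * (q - 1) ↔ q ^ h + 1 ∣ j := by
  set N := q ^ h + 1 with hN
  set S := ∑ i ∈ Finset.range h, q ^ i with hS
  set e := Nat.gcd h (q - 1) with he
  have he0 : 0 < e := Nat.gcd_pos_of_pos_left _ hh
  obtain ⟨c, hc⟩ : e ∣ q - 1 := Nat.gcd_dvd_right _ _
  have heh : e ∣ h := Nat.gcd_dvd_left _ _
  have heS : e ∣ S := by
    have := geom_mod q h e (by omega) (Nat.gcd_dvd_right _ _)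
    exact (Nat.modEq_zero_iff_dvd.1 (this.trans (Nat.modEq_zero_iff_dvd.2 heh)))
  set a := padicValNat 2 (q - 1) with hadef
  have h2a : 2 ^ a ∣ q - 1 := pow_padicValNat_dvd
  have h2ae : 2 ^ a ∣ e := Nat.dvd_gcd ha h2a
  have hcodd : ¬ 2 ∣ c := by
    intro h2c
    have h1 : 2 ^ (a + 1) ∣ q - 1 := by
      rw [hc, pow_succ]
      exact Nat.mul_dvd_mul h2ae h2c
    have : Fact (Nat.Prime 2) := ⟨Nat.prime_two⟩
    have := (padicValNat_dvd_iff_le (by omega)).1 h1
    omega
  have hcopNc : Nat.Coprime N c := by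
    have h1 : Nat.gcd N c ∣ 2 := by
      rw [← gcd_N q h hq hq3]
      exact Nat.dvd_gcd (Nat.gcd_dvd_left _ _) ((Nat.gcd_dvd_right _ _).trans ⟨e, by rw [hc]; ring⟩)
    rcases (Nat.dvd_prime Nat.prime_two).1 h1 with h2 | h2
    · exact h2
    · exfalso
      apply hcodd
      rw [← h2]
      exact Nat.gcd_dvd_right _ _
  constructor
  · rw [quot_eq q h (by omega), mul_comm S N]
    exact Nat.mul_dvd_mul_left N heS
  · intro j
    constructor
    · intro h1
      rw [hc] at h1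
      have h2 : N * e ∣ (j * c) * e := by
        convert h1 using 1
        ring
      have h3 : N ∣ j * c := Nat.dvd_of_mul_dvd_mul_right he0 h2
      exact hcopNc.dvd_of_dvd_mul_right h3
    · rintro ⟨t, rfl⟩
      rw [hc]
      exact ⟨t * c, by ring⟩

variable {F : Type*} [Field F] [Fintype F]

theorem forward {q : ℕ} (hF : Fintype.card F = q) (hodd : Odd q) {n : ℕ} (hn : 4 ≤ n)
    (heven : Even n) (g : Matrix.ProjectiveSpecialLinearGroup (Fin n) F)
    (hg : orderOf g = q ^ (n / 2) + 1) : padicValNat 2 (q - 1) < padicValNat 2 n := by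
  classical
  obtain ⟨h, hh⟩ := heven
  have hn2 : n / 2 = h := by omega
  rw [hn2] at hg
  have hh2 : 2 ≤ h := by omega
  have hn2h : n = 2 * h := by omega
  have hq1 : 1 < q := by rw [← hF]; exact Fintype.one_lt_card
  have hq3 : 3 ≤ q := by
    rcases hodd with ⟨t, ht⟩
    omega
  obtain ⟨p, hp⟩ := CharP.exists F
  have hpp : Fact p.Prime := ⟨CharP.char_is_prime F p⟩
  obtain ⟨a, -, ha⟩ := FiniteField.card F p
  rw [hF] at ha
  -- Zsigmondy prime
  obtain ⟨r, hr, hrd, hrk⟩ := Cfsg.Agent.S2904.result q n hq1 (by omega)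
    (by
      rintro ⟨h1, -⟩
      subst h1
      exact absurd hodd (by decide))
    (by rintro ⟨h1, -⟩; omega)
  have := Fact.mk hr
  have hq0 : 0 < q := by omega
  have hi : orderOf ((q : ℕ) : ZMod r) = n := by
    rw [orderOf_eq_iff (by omega)]
    constructor
    · have h1 : 1 ≤ q ^ n := Nat.one_le_pow _ _ hq0
      rw [← ZMod.natCast_eq_zero_iff, Nat.cast_sub h1, sub_eq_zero] at hrd
      simpa using hrd
    · intro k hk hk0 hcon
      apply hrk k hk0 hk
      have h1 : 1 ≤ q ^ k := Nat.one_le_pow _ _ hq0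
      rw [← ZMod.natCast_eq_zero_iff, Nat.cast_sub h1, sub_eq_zero]
      simpa using hcon
  have hrq : ¬ r ∣ q := by
    intro h1
    have h2 : r ∣ q ^ n := dvd_pow h1 (by omega)
    have h3 : 1 ≤ q ^ n := Nat.one_le_pow _ _ hq0
    have h4 : r ∣ q ^ n - (q ^ n - 1) := Nat.dvd_sub h2 hrd
    rw [Nat.sub_sub_self h3] at h4
    exact hr.one_lt.ne' (Nat.dvd_one.1 h4)
  have hrp : r ≠ p := by
    rintro rfl
    apply hrq
    rw [ha]
    exact dvd_pow_self r (PNat.ne_zero a)
  have hrN : r ∣ q ^ h + 1 := by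
    have h1 : q ^ n - 1 = (q ^ h - 1) * (q ^ h + 1) := by
      have h2 : 1 ≤ q ^ h := Nat.one_le_pow _ _ hq0
      have h3 : 1 ≤ q ^ n := Nat.one_le_pow _ _ hq0
      zify [h2, h3]
      rw [hn2h]
      ring
    rw [h1] at hrd
    rcases (Nat.Prime.dvd_mul hr).1 hrd with h2 | h2
    · exact absurd h2 (hrk h (by omega) (by omega))
    · exact h2
  -- lift
  obtain ⟨x, rfl⟩ := QuotientGroup.mk_surjective g
  have hox : orderOf (QuotientGroup.mk x : Matrix.ProjectiveSpecialLinearGroup (Fin n) F) ∣ orderOf x := by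
    apply orderOf_dvd_of_pow_eq_one
    rw [← QuotientGroup.mk_pow, pow_orderOf_eq_one, QuotientGroup.mk_one]
  have hrx : r ∣ orderOf x := (hg ▸ hrN).trans hox
  have hox0 : orderOf x ≠ 0 := (orderOf_pos x).ne'
  set y := x ^ (orderOf x / r) with hy
  have hoy : orderOf y = r := orderOf_pow_orderOf_div hox0 hrx
  set yG : GL (Fin n) F := Matrix.SpecialLinearGroup.toGL y with hyG
  set xG : GL (Fin n) F := Matrix.SpecialLinearGroup.toGL x with hxG
  have hoyG : orderOf yG = r := by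
    rw [hyG, orderOf_injective _ Matrix.SpecialLinearGroup.toGL_injective, hoy]
  obtain ⟨π, hπ, θ, hθ⟩ := Cfsg.Agent.S2638.exists_field_model (p := p) hF (by omega) hr hrp hi yG hoyG
  have : Fact (Irreducible π) := ⟨hπ⟩
  let θ' : (Fin n → F) ≃ₗ[F] AdjoinRoot π := θ
  obtain ⟨κ, hinj, hκ⟩ := SingerModel.centralizer_model' π yG θ' (fun g u => hθ g u)
  have hxc : xG ∈ Subgroup.centralizer ({yG} : Set (GL (Fin n) F)) := by
    rw [Subgroup.mem_centralizer_singleton_iff, hxG, hyG, hy, map_pow]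
    first
      | exact (Commute.pow_self (Matrix.SpecialLinearGroup.toGL x) _).eq
      | exact (Commute.self_pow (Matrix.SpecialLinearGroup.toGL x) _).eq
  set ξ := κ ⟨xG, hxc⟩ with hξ
  have hdet : Algebra.norm F ξ = 1 := by
    rw [← SingerModel.det_eq_norm π θ' (xG : Matrix (Fin n) (Fin n) F) ξ (hκ ⟨xG, hxc⟩)]
    exact x.2
  have hK : Nat.card (AdjoinRoot π) = q ^ n := by
    rw [← Nat.card_congr θ'.toEquiv, Nat.card_eq_fintype_card, Fintype.card_fun,
      Fintype.card_fin, hF]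
  have hfinK : Finite (AdjoinRoot π) := Nat.finite_of_card_ne_zero (by
    rw [hK]; exact (pow_pos hq0 n).ne')
  have hξS : ξ ^ ((q ^ (2 * h) - 1) / (q - 1)) = 1 := by
    have h1 := FiniteField.algebraMap_norm_eq_pow (K := F) (K' := AdjoinRoot π) (x := ξ)
    rw [hdet, map_one, hK, Nat.card_eq_fintype_card, hF, hn2h] at h1
    exact h1.symm
  have hSpos : 0 < (q ^ (2 * h) - 1) / (q - 1) := by
    rw [quot_eq q h (by omega)]
    apply Nat.mul_pos
    · apply Finset.sum_pos
      · intro i _; exact pow_pos hq0 i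
      · exact ⟨0, Finset.mem_range.2 (by omega)⟩
    · omega
  have ho : orderOf ξ ∣ (q ^ (2 * h) - 1) / (q - 1) := orderOf_dvd_of_pow_eq_one hξS
  have ho0 : 0 < orderOf ξ := orderOf_pos_iff.2 (isOfFinOrder_iff_pow_eq_one.2 ⟨_, hSpos, hξS⟩)
  have hmin : ∀ j, orderOf ξ ∣ j * (q - 1) → q ^ h + 1 ∣ j := by
    intro j hj
    have h1 : (ξ ^ j) ^ (Fintype.card F - 1) = 1 := by
      rw [hF, ← pow_mul]
      exact orderOf_dvd_iff_pow_eq_one.1 hj
    obtain ⟨c, hc⟩ := SingerModel.mem_range_of_pow_eq_one (F := F) (ξ ^ j) h1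
    have h2 : (x : Matrix (Fin n) (Fin n) F) ^ j = c • 1 := by
      apply Matrix.toLin'.injective
      apply LinearMap.ext
      intro v
      apply θ'.injective
      have h3 := hκ (⟨xG, hxc⟩ ^ j) v
      rw [map_pow, ← hξ, ← hc] at h3
      have h4 : (((⟨xG, hxc⟩ : Subgroup.centralizer ({yG} : Set (GL (Fin n) F))) ^ j).1 :
          Matrix (Fin n) (Fin n) F) = (x : Matrix (Fin n) (Fin n) F) ^ j := by
        rw [SubgroupClass.coe_pow, Units.val_pow_eq_pow_val]
        rfl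
      rw [h4] at h3
      rw [h3, ← Algebra.smul_def, ← map_smul]
      congr 1
      simp
    have h5 : (QuotientGroup.mk x : Matrix.ProjectiveSpecialLinearGroup (Fin n) F) ^ j = 1 :=
      (Cfsg.Agent.S2470.mk_pow_eq_one_iff x j).2 ⟨c, h2⟩
    rw [← hg]
    exact orderOf_dvd_of_pow_eq_one h5
  have h1 := arith_forward q h (orderOf ξ) hodd hq3 (by omega) ho ho0 hmin
  have : Fact (Nat.Prime 2) := ⟨Nat.prime_two⟩
  rw [hn2h, padicValNat.mul (by norm_num) (by omega), padicValNat_self]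
  omega

theorem backward {q : ℕ} (hF : Fintype.card F = q) (hodd : Odd q) {n : ℕ} (hn : 4 ≤ n)
    (heven : Even n) (hv : padicValNat 2 (q - 1) < padicValNat 2 n) :
    ∃ g : Matrix.ProjectiveSpecialLinearGroup (Fin n) F, orderOf g = q ^ (n / 2) + 1 := by
  classical
  obtain ⟨h, hh⟩ := heven
  have hn2 : n / 2 = h := by omega
  rw [hn2]
  have hh2 : 2 ≤ h := by omega
  have hn2h : n = 2 * h := by omega
  have hq1 : 1 < q := by rw [← hF]; exact Fintype.one_lt_card
  have hq0 : 0 < q := by omega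
  have hq3 : 3 ≤ q := by
    rcases hodd with ⟨t, ht⟩
    omega
  have : Fact (Nat.Prime 2) := ⟨Nat.prime_two⟩
  have ha : 2 ^ padicValNat 2 (q - 1) ∣ h := by
    rw [hn2h, padicValNat.mul (by norm_num) (by omega), padicValNat_self] at hv
    rw [padicValNat_dvd_iff_le (by omega)]
    omega
  obtain ⟨ho, hiff⟩ := arith_backward q h hodd hq3 (by omega) ha
  set o := (q ^ h + 1) * Nat.gcd h (q - 1) with hodef
  obtain ⟨p, hp⟩ := CharP.exists F
  have hpp : Fact p.Prime := ⟨CharP.char_is_prime F p⟩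
  have : NeZero n := ⟨by omega⟩
  let K := FiniteField.Extension F p n
  have : Fintype K := Fintype.ofFinite K
  have hfin : Module.finrank F K = n := FiniteField.finrank_extension F p n
  have hKcard : Fintype.card K = q ^ n := by
    rw [← Nat.card_eq_fintype_card, FiniteField.natCard_extension, Nat.card_eq_fintype_card, hF]
  have hqn : q ^ n = q ^ (2 * h) := by rw [hn2h]
  have hSdvd : (q ^ (2 * h) - 1) / (q - 1) ∣ q ^ n - 1 := by
    rw [hqn]
    apply Nat.div_dvd_of_dvd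
    exact Nat.sub_one_dvd_pow_sub_one q (2 * h)
  obtain ⟨ξ, hξ0, hξo⟩ := Cfsg.Agent.S2470.exists_orderOf_eq (F := K) o (by
    rw [hKcard]; exact ho.trans hSdvd)
  let b : Module.Basis (Fin n) F K := Module.finBasisOfFinrankEq F K hfin
  let M := Algebra.leftMulMatrix b
  have hMinj : Function.Injective M := Algebra.leftMulMatrix_injective b
  have hnorm : Algebra.norm F ξ = 1 := by
    apply (algebraMap F K).injective
    rw [FiniteField.algebraMap_norm_eq_pow, map_one, Nat.card_eq_fintype_card,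
      Nat.card_eq_fintype_card, hKcard, hF, hqn]
    rw [← hξo] at ho
    exact orderOf_dvd_iff_pow_eq_one.1 ho
  have hdet : (M ξ).det = 1 := by
    rw [← Algebra.norm_eq_matrix_det b ξ, hnorm]
  let x : Matrix.SpecialLinearGroup (Fin n) F := ⟨M ξ, hdet⟩
  have key : ∀ j : ℕ, (QuotientGroup.mk x : Matrix.ProjectiveSpecialLinearGroup (Fin n) F) ^ j = 1 ↔
      q ^ h + 1 ∣ j := by
    intro j
    rw [Cfsg.Agent.S2470.mk_pow_eq_one_iff x j, ← hiff j, ← hξo, orderOf_dvd_iff_pow_eq_one]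
    have hxv : (x : Matrix (Fin n) (Fin n) F) = M ξ := rfl
    rw [hxv, ← map_pow]
    constructor
    · rintro ⟨c, hc⟩
      have h1 : M (ξ ^ j) = M (algebraMap F K c) := by
        rw [hc, AlgHom.commutes, Algebra.algebraMap_eq_smul_one]
      have h2 := hMinj h1
      have hc0 : c ≠ 0 := by
        rintro rfl
        rw [map_zero] at h2
        exact pow_ne_zero j hξ0 h2
      rw [pow_mul, h2, ← map_pow, ← hF, FiniteField.pow_card_sub_one_eq_one c hc0, map_one]
    · intro h1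
      rw [pow_mul, ← hF] at h1
      obtain ⟨c, hc⟩ := SingerModel.mem_range_of_pow_eq_one (F := F) (ξ ^ j) h1
      refine ⟨c, ?_⟩
      rw [← hc, AlgHom.commutes, Algebra.algebraMap_eq_smul_one]
  refine ⟨QuotientGroup.mk x, ?_⟩
  rw [orderOf_eq_iff (by omega)]
  constructor
  · exact (key _).2 (dvd_refl _)
  · intro j hj hj0 hcon
    have := Nat.le_of_dvd hj0 ((key j).1 hcon)
    omega



/-- Let q be an odd prime power, n ≥ 4 even, and L = PSL(n,q). Then L has an element of order q^(n/2) + 1 if and only if the 2-part of n exceeds the 2-part of q − 1. -/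
theorem result {F : Type*} [Field F] [Fintype F] {q : ℕ} (hF : Fintype.card F = q) (hodd : Odd q)
    {n : ℕ} (hn : 4 ≤ n) (heven : Even n) :
    (∃ g : Matrix.ProjectiveSpecialLinearGroup (Fin n) F, orderOf g = q ^ (n / 2) + 1) ↔
      padicValNat 2 (q - 1) < padicValNat 2 n := by
  constructor
  · rintro ⟨g, hg⟩
    exact forward hF hodd hn heven g hg
  · exact backward hF hodd hn heven


end Cfsg.Agent.S2495
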