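import Cfsg.Statements.S2496
import Cfsg.Agent.Lib.Helper2.HalfTorusC
import Cfsg.Agent.Lib.Helper2.HalfTorusD
import Cfsg.Agent.Lib.Helper4.CarveU1

set_option autoImplicit false
open Cfsg

namespace Cfsg.Agent.S2496

open Cfsg.Agent.Lib.Helper2.HalfTorus

/-- Let q be an odd prime power, n ≥ 4 even, and U = PSU(n,q) (realised over the field with q² elements). Then U has an element of order q^(n/2) + (−1)^(n/2) — that is, q^(n/2) + 1 when n/2 is even and q^(n/2) − 1 when n/2 is odd — if and only if the 2-part of n exceeds the 2-part of q + 1. -/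
theorem result {F : Type*} [Field F] [Fintype F] {q : ℕ} (hF : Fintype.card F = q ^ 2) (hodd : Odd q)
    {n : ℕ} (hn : 4 ≤ n) (heven : Even n) :
    (∃ g : Cfsg.PSU n F q, orderOf g = if Even (n / 2) then q ^ (n / 2) + 1 else q ^ (n / 2) - 1) ↔
      padicValNat 2 (q + 1) < padicValNat 2 n := by
  obtain ⟨h, hh⟩ := heven
  have hn2 : n = 2 * h := by omega
  subst hn2
  have hdiv : 2 * h / 2 = h := Nat.mul_div_cancel_left h (by norm_num)
  rw [hdiv]
  have hq3 : 3 ≤ q := by
    have := Cfsg.Agent.Lib.Helper1.HermCount.two_le_q hF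
    obtain ⟨t, ht⟩ := hodd
    omega
  have hNh : (if Even h then q ^ h + 1 else q ^ h - 1) = Nh q h := rfl
  rw [hNh]
  have key := Cfsg.Agent.Lib.Carve.U1.mem_omega_iff hF (by omega : 3 ≤ 2 * h) (Nh q h)
  constructor
  · rintro ⟨g, hg⟩
    obtain ⟨M, hM1, hM2, hM3⟩ := key.1 ⟨g, hg⟩
    exact arith_fwd q h (by omega) (by omega) (forward_mat hF hodd hq3 (by omega) M hM1 hM2 hM3)
  · intro hv
    obtain ⟨M, hM1, hM2, hM3⟩ := backward_mat hF hq3 (by omega) hv
    obtain ⟨g, hg⟩ := key.2 ⟨M, hM1, hM2, hM3⟩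
    exact ⟨g, hg⟩

end Cfsg.Agent.S2496
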