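import Cfsg.Statements.S2503
import Mathlib
import Cfsg.Agent.Lib.Helper5.SL2ABA

set_option autoImplicit false
open Cfsg

namespace Cfsg.Agent.S2503

open Matrix Cfsg.Agent.Lib.Helper5


/-- Let F be a finite field with q = 2^t ≥ 4 elements and L = PSL(2,F). Then L has a cyclic subgroup A of order q + 1 and an elementary abelian 2-subgroup B of order q such that L = ABA: every element of L is a product a·b·a' with a, a' ∈ A and b ∈ B. -/
theorem result {F : Type*} [Field F] [Fintype F]
    (h2 : 2 ∣ Fintype.card F) (h4 : 4 ≤ Fintype.card F) :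
    ∃ A B : Subgroup (Matrix.ProjectiveSpecialLinearGroup (Fin 2) F),
      IsCyclic A ∧ Nat.card A = Fintype.card F + 1 ∧ IsMulCommutative B ∧ (∀ b ∈ B, b * b = 1) ∧
        Nat.card B = Fintype.card F ∧
        ∀ g : Matrix.ProjectiveSpecialLinearGroup (Fin 2) F, ∃ a ∈ A, ∃ b ∈ B, ∃ c ∈ A, g = a * b * c := by
  classical
  have h2F : (2 : F) = 0 := by
    have h : ringChar F = 2 := FiniteField.even_card_iff_char_two.2 (Nat.mod_eq_zero_of_dvd h2)
    have : CharP F 2 := ringChar.of_eq h
    exact CharTwo.two_eq_zero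
  obtain ⟨C, hC, hcard⟩ := exists_torus (F := F)
  obtain ⟨g₀, hg₀, hord, hCe⟩ := exists_generator_nonsplit C hC hcard
  obtain ⟨hns, -, hr, -⟩ := nonsplit_of_orderOf g₀ hord
  have hno := no_eigenvector_of_rootCount_zero g₀ hr
  obtain ⟨π, hπ⟩ : ∃ π : SpecialLinearGroup (Fin 2) F →* ProjectiveSpecialLinearGroup (Fin 2) F,
      π = QuotientGroup.mk' (Subgroup.center (SpecialLinearGroup (Fin 2) F)) := ⟨_, rfl⟩
  have hsurj : Function.Surjective π := by
    rw [hπ]
    exact QuotientGroup.mk'_surjective _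
  have hinj : Function.Injective π := by
    rw [← MonoidHom.ker_eq_bot_iff, hπ, QuotientGroup.ker_mk', Subgroup.eq_bot_iff_forall]
    intro z hz
    obtain ⟨c, hc⟩ := (mem_center_iff_scalar z).1 hz
    have hdet := z.det_coe
    rw [hc, Matrix.det_smul, Matrix.det_one, Fintype.card_fin, mul_one] at hdet
    have hc1 : c = 1 := by
      have : (c - 1) ^ 2 = 0 := by linear_combination hdet + (1 - c) * h2F
      have := pow_eq_zero_iff (two_ne_zero) |>.1 this
      linear_combination this
    apply Subtype.ext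
    rw [hc, hc1, one_smul]
    rfl
  refine ⟨C.map π, (stabE F).map π, ?_, ?_, ?_, ?_, ?_, ?_⟩
  · have e := Subgroup.equivMapOfInjective C π hinj
    exact isCyclic_of_surjective e.toMonoidHom e.surjective
  · rw [← hcard]
    exact Nat.card_congr (Subgroup.equivMapOfInjective C π hinj).toEquiv.symm
  · refine ⟨⟨?_⟩⟩
    rintro ⟨x, u, hu, rfl⟩ ⟨y, v, hv, rfl⟩
    apply Subtype.ext
    show π u * π v = π v * π u
    rw [← map_mul, ← map_mul, stabE_comm hu hv]
  · rintro b ⟨u, hu, rfl⟩
    rw [← map_mul, stabE_mul_self h2F hu, map_one]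
  · rw [← Nat.card_eq_fintype_card, ← card_stabE (F := F)]
    exact Nat.card_congr (Subgroup.equivMapOfInjective (stabE F) π hinj).toEquiv.symm
  · intro gbar
    obtain ⟨g, rfl⟩ := hsurj gbar
    obtain ⟨a, ha, u, hu, c, hc, hg⟩ := exists_aba h2F g₀ hns hno g
    rw [← hCe] at ha hc
    refine ⟨π a, Subgroup.mem_map_of_mem π ha, π u, Subgroup.mem_map_of_mem π hu, π c,
      Subgroup.mem_map_of_mem π hc, ?_⟩
    rw [hg, map_mul, map_mul]

end Cfsg.Agent.S2503
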