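import Mathlib
import Cfsg.Statements.S2505

set_option autoImplicit false
open Cfsg

namespace Cfsg.Agent.S2505

open MulAction

/-- the maximal product of positive integers with given sum -/
def f : ℕ → ℕ
  | 0 => 1
  | 1 => 1
  | 2 => 2
  | 3 => 3
  | 4 => 4
  | (n + 5) => 3 * f (n + 2)

theorem f_add_three (n : ℕ) (hn : 2 ≤ n) : f (n + 3) = 3 * f n := by
  obtain ⟨m, rfl⟩ : ∃ m, n = m + 2 := ⟨n - 2, by omega⟩
  show f (m + 5) = 3 * f (m + 2)
  rw [f]

theorem f_pos (n : ℕ) : 0 < f n := by
  induction n using Nat.strong_induction_on with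
  | _ n ih =>
    rcases Nat.lt_or_ge n 5 with h | h
    · interval_cases n <;> simp [f]
    · obtain ⟨m, rfl⟩ : ∃ m, n = m + 3 := ⟨n - 3, by omega⟩
      rw [f_add_three m (by omega)]
      have := ih m (by omega)
      omega

theorem f_ineq (m : ℕ) : f m ≤ f (m + 1) ∧ 2 * f m ≤ f (m + 2) ∧ 3 * f m ≤ f (m + 3) ∧
    4 * f m ≤ f (m + 4) := by
  induction m using Nat.strong_induction_on with
  | _ m ih =>
    rcases Nat.lt_or_ge m 5 with h | h
    · interval_cases m <;> simp [f]
    · obtain ⟨k, rfl⟩ : ∃ k, m = k + 3 := ⟨m - 3, by omega⟩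
      obtain ⟨h1, h2, h3, h4⟩ := ih k (by omega)
      have e0 := f_add_three k (by omega)
      have e1 : f (k + 3 + 1) = 3 * f (k + 1) := by
        have := f_add_three (k + 1) (by omega)
        rwa [show k + 1 + 3 = k + 3 + 1 by ring] at this
      have e2 : f (k + 3 + 2) = 3 * f (k + 2) := by
        have := f_add_three (k + 2) (by omega)
        rwa [show k + 2 + 3 = k + 3 + 2 by ring] at this
      have e3 : f (k + 3 + 3) = 3 * f (k + 3) := f_add_three (k + 3) (by omega)
      have e4 : f (k + 3 + 4) = 3 * f (k + 4) := by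
        have := f_add_three (k + 4) (by omega)
        rwa [show k + 4 + 3 = k + 3 + 4 by ring] at this
      rw [e1, e2, e3, e4, e0]
      omega

theorem mul_f_le (a m : ℕ) (ha : 1 ≤ a) : a * f m ≤ f (a + m) := by
  induction a using Nat.strong_induction_on generalizing m with
  | _ a ih =>
    obtain ⟨h1, h2, h3, h4⟩ := f_ineq m
    rcases Nat.lt_or_ge a 5 with h | h
    · interval_cases a
      · rw [one_mul, add_comm]; exact h1
      · rw [add_comm]; exact h2
      · rw [add_comm]; exact h3
      · rw [add_comm]; exact h4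
    · have e : f (a + m) = 3 * f (a - 3 + m) := by
        have := f_add_three (a - 3 + m) (by omega)
        rwa [show a - 3 + m + 3 = a + m by omega] at this
      rw [e]
      have := ih (a - 3) (by omega) m (by omega)
      have h5 : a * f m ≤ 3 * ((a - 3) * f m) := by
        rw [← mul_assoc]
        apply Nat.mul_le_mul_right
        omega
      omega

theorem prod_le_f {ι : Type*} (s : Finset ι) (a : ι → ℕ) (ha : ∀ i ∈ s, 1 ≤ a i) :
    ∏ i ∈ s, a i ≤ f (∑ i ∈ s, a i) := by
  classical
  induction s using Finset.induction_on with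
  | empty => simp [f]
  | insert i s hi ih =>
    rw [Finset.prod_insert hi, Finset.sum_insert hi]
    have h1 := ih (fun j hj => ha j (Finset.mem_insert_of_mem hj))
    calc a i * ∏ j ∈ s, a j ≤ a i * f (∑ j ∈ s, a j) := Nat.mul_le_mul_left _ h1
      _ ≤ f (a i + ∑ j ∈ s, a j) := mul_f_le _ _ (ha i (Finset.mem_insert_self i s))

theorem f_values (k : ℕ) (hk : 1 ≤ k) :
    f (3 * k) = 3 ^ k ∧ f (3 * k + 1) = 4 * 3 ^ (k - 1) ∧ f (3 * k + 2) = 2 * 3 ^ k := by
  induction k with
  | zero => omega
  | succ k ih =>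
    rcases Nat.eq_zero_or_pos k with h0 | hpos
    · subst h0
      simp [f]
    · obtain ⟨h1, h2, h3⟩ := ih hpos
      have e1 : f (3 * (k + 1)) = 3 * f (3 * k) := by
        have := f_add_three (3 * k) (by omega)
        rwa [show 3 * k + 3 = 3 * (k + 1) by ring] at this
      have e2 : f (3 * (k + 1) + 1) = 3 * f (3 * k + 1) := by
        have := f_add_three (3 * k + 1) (by omega)
        rwa [show 3 * k + 1 + 3 = 3 * (k + 1) + 1 by ring] at this
      have e3 : f (3 * (k + 1) + 2) = 3 * f (3 * k + 2) := by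
        have := f_add_three (3 * k + 2) (by omega)
        rwa [show 3 * k + 2 + 3 = 3 * (k + 1) + 2 by ring] at this
      rw [e1, e2, e3, h1, h2, h3]
      refine ⟨by ring, ?_, by ring⟩
      obtain ⟨j, rfl⟩ : ∃ j, k = j + 1 := ⟨k - 1, by omega⟩
      simp only [Nat.add_sub_cancel]
      ring

/-- a commutative group acting faithfully on a finite set has order at most the product of the
orbit sizes -/
theorem card_le_prod_orbits {G X : Type*} [Group G] (hcomm : ∀ a b : G, a * b = b * a)
    [Fintype G] [MulAction G X]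
    [FaithfulSMul G X] [Fintype X] [DecidableEq X]
    [Fintype (orbitRel.Quotient G X)] [∀ ω : orbitRel.Quotient G X, Fintype ω.orbit] :
    Fintype.card G ≤ ∏ ω : orbitRel.Quotient G X, Fintype.card ω.orbit := by
  classical
  rw [← Fintype.card_pi]
  have hmem : ∀ (g : G) (ω : orbitRel.Quotient G X), g • ω.out ∈ ω.orbit := by
    intro g ω
    rw [orbitRel.Quotient.mem_orbit]
    have h1 : (Quotient.mk'' (g • ω.out) : orbitRel.Quotient G X) = Quotient.mk'' ω.out :=
      orbitRel.Quotient.quotient_smul_eq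
    rw [h1]
    exact Quotient.out_eq' ω
  apply Fintype.card_le_of_injective
    (fun (g : G) (ω : orbitRel.Quotient G X) => (⟨g • ω.out, hmem g ω⟩ : ω.orbit))
  intro g h hgh
  apply FaithfulSMul.eq_of_smul_eq_smul (α := X)
  intro x
  have hx : x ∈ orbitRel.Quotient.orbit (Quotient.mk'' x : orbitRel.Quotient G X) :=
    orbitRel.Quotient.mem_orbit.2 rfl
  rw [orbitRel.Quotient.orbit_eq_orbit_out _ Quotient.out_eq'] at hx
  obtain ⟨c, hc⟩ := mem_orbit_iff.1 hx
  have h1 := congrArg Subtype.val (congrFun hgh (Quotient.mk'' x))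
  simp only at h1
  rw [← hc, ← mul_smul, ← mul_smul, hcomm g c, hcomm h c, mul_smul, mul_smul, h1]

theorem upper (n : ℕ) (A : Subgroup (Equiv.Perm (Fin n))) (hA : IsMulCommutative A) :
    Nat.card A ≤ f n := by
  classical
  have h1 := card_le_prod_orbits (G := A) (X := Fin n) (fun a b => hA.is_comm.comm a b)
  have h2 : ∑ ω : orbitRel.Quotient A (Fin n), Fintype.card ω.orbit = n := by
    rw [← Fintype.card_sigma, ← Fintype.card_congr (selfEquivSigmaOrbits' A (Fin n)),
      Fintype.card_fin]
  have h3 := prod_le_f Finset.univ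
    (fun ω : orbitRel.Quotient A (Fin n) => Fintype.card ω.orbit) (by
      intro ω _
      apply Fintype.card_pos_iff.2
      refine ⟨⟨ω.out, ?_⟩⟩
      rw [orbitRel.Quotient.mem_orbit]
      exact Quotient.out_eq' ω)
  rw [h2] at h3
  rw [Nat.card_eq_fintype_card]
  exact h1.trans h3

section lower
variable (H : Type) [AddCommGroup H] (k : ℕ)

/-- the action of `H × C₃^k` on `H ⊔ (k × 3)` -/
def act (g : Multiplicative H × (Fin k → Multiplicative (ZMod 3))) :
    H ⊕ (Fin k × ZMod 3) → H ⊕ (Fin k × ZMod 3)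
  | Sum.inl y => Sum.inl (y + Multiplicative.toAdd g.1)
  | Sum.inr p => Sum.inr (p.1, p.2 + Multiplicative.toAdd (g.2 p.1))

/-- the action as a `MulAction` -/
@[reducible] def actInst :
    MulAction (Multiplicative H × (Fin k → Multiplicative (ZMod 3))) (H ⊕ (Fin k × ZMod 3)) where
  smul g x := act H k g x
  one_smul x := by
    rcases x with y | p
    · show act H k 1 (Sum.inl y) = Sum.inl y
      simp [act]
    · show act H k 1 (Sum.inr p) = Sum.inr p
      simp [act]
  mul_smul g h x := by
    rcases x with y | p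
    · show act H k (g * h) (Sum.inl y) = act H k g (act H k h (Sum.inl y))
      simp only [act, Prod.fst_mul, toAdd_mul]
      congr 1
      abel
    · show act H k (g * h) (Sum.inr p) = act H k g (act H k h (Sum.inr p))
      simp only [act, Prod.snd_mul, Pi.mul_apply, toAdd_mul]
      congr 2
      abel

theorem act_faithful (g h : Multiplicative H × (Fin k → Multiplicative (ZMod 3)))
    (hgh : ∀ x, act H k g x = act H k h x) : g = h := by
  apply Prod.ext
  · have := hgh (Sum.inl 0)
    simp only [act, zero_add, Sum.inl.injEq] at this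
    exact Multiplicative.toAdd.injective this
  · funext i
    have := hgh (Sum.inr (i, 0))
    simp only [act, zero_add, Sum.inr.injEq, Prod.mk.injEq, true_and] at this
    exact Multiplicative.toAdd.injective this

theorem exists_abelian [Fintype H] [DecidableEq H] (n : ℕ) (hn : n = Fintype.card H + 3 * k) :
    ∃ A : Subgroup (Equiv.Perm (Fin n)), IsMulCommutative A ∧
      Nat.card A = Fintype.card H * 3 ^ k := by
  classical
  let _ := actInst H k
  let φ : (Multiplicative H × (Fin k → Multiplicative (ZMod 3))) →*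
      Equiv.Perm (H ⊕ (Fin k × ZMod 3)) := MulAction.toPermHom _ _
  have hφ : Function.Injective φ := by
    intro g h hgh
    apply act_faithful H k
    intro x
    have := congrArg (fun σ : Equiv.Perm (H ⊕ (Fin k × ZMod 3)) => σ x) hgh
    exact this
  have hcard : Fintype.card (H ⊕ (Fin k × ZMod 3)) = n := by
    rw [Fintype.card_sum, Fintype.card_prod, Fintype.card_fin, ZMod.card, hn]; ring
  let e : (H ⊕ (Fin k × ZMod 3)) ≃ Fin n := Fintype.equivFinOfCardEq hcard
  let ψ : (Multiplicative H × (Fin k → Multiplicative (ZMod 3))) →* Equiv.Perm (Fin n) :=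
    (e.permCongrHom.toMonoidHom).comp φ
  have hψ : Function.Injective ψ := e.permCongrHom.injective.comp hφ
  refine ⟨ψ.range, inferInstance, ?_⟩
  have h1 : Nat.card ψ.range = Nat.card (Multiplicative H × (Fin k → Multiplicative (ZMod 3))) :=
    (Nat.card_congr (Equiv.ofInjective ψ hψ)).symm
  rw [h1, Nat.card_eq_fintype_card, Fintype.card_prod, Fintype.card_fun, Fintype.card_fin]
  have h2 : Fintype.card (Multiplicative (ZMod 3)) = 3 := ZMod.card 3
  have h3 : Fintype.card (Multiplicative H) = Fintype.card H :=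
    Fintype.card_congr Multiplicative.toAdd
  rw [h2, h3]

end lower

/-- The largest order of an abelian subgroup of the symmetric group of degree n is 3^k when n = 3k, 4·3^(k−1) when n = 3k + 1, and 2·3^k when n = 3k + 2, for every k ≥ 1. -/
theorem result (k : ℕ) (hk : 1 ≤ k) :
    IsGreatest {c : ℕ | ∃ A : Subgroup (Equiv.Perm (Fin (3 * k))), IsMulCommutative A ∧ Nat.card A = c} (3 ^ k) ∧
    IsGreatest {c : ℕ | ∃ A : Subgroup (Equiv.Perm (Fin (3 * k + 1))), IsMulCommutative A ∧ Nat.card A = c}
      (4 * 3 ^ (k - 1)) ∧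
    IsGreatest {c : ℕ | ∃ A : Subgroup (Equiv.Perm (Fin (3 * k + 2))), IsMulCommutative A ∧ Nat.card A = c}
      (2 * 3 ^ k) := by
  obtain ⟨j, rfl⟩ : ∃ j, k = j + 1 := ⟨k - 1, by omega⟩
  obtain ⟨h1, h2, h3⟩ := f_values (j + 1) (by omega)
  simp only [Nat.add_sub_cancel] at h2 ⊢
  refine ⟨⟨?_, ?_⟩, ⟨?_, ?_⟩, ⟨?_, ?_⟩⟩
  · obtain ⟨A, hA, hc⟩ := exists_abelian (ZMod 3) j (3 * (j + 1)) (by rw [ZMod.card]; ring)
    refine ⟨A, hA, ?_⟩
    rw [hc, ZMod.card]; ring
  · rintro c ⟨A, hA, rfl⟩
    rw [← h1]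
    exact upper _ A hA
  · obtain ⟨A, hA, hc⟩ := exists_abelian (ZMod 4) j (3 * (j + 1) + 1) (by rw [ZMod.card]; ring)
    refine ⟨A, hA, ?_⟩
    rw [hc, ZMod.card]
  · rintro c ⟨A, hA, rfl⟩
    rw [← h2]
    exact upper _ A hA
  · obtain ⟨A, hA, hc⟩ := exists_abelian (ZMod 2) (j + 1) (3 * (j + 1) + 2) (by rw [ZMod.card]; ring)
    refine ⟨A, hA, ?_⟩
    rw [hc, ZMod.card]
  · rintro c ⟨A, hA, rfl⟩
    rw [← h3]
    exact upper _ A hA

end Cfsg.Agent.S2505
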