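import Mathlib
import Cfsg.Statements.S2504
import Cfsg.Agent.S2505

set_option autoImplicit false
open Cfsg

namespace Cfsg.Agent.S2504

open Cfsg.Agent.S2505 MulAction



theorem lemA (j : ℕ) : ∀ a m : ℕ, 4 ≤ a → a + m = 3 * j + 8 → a * f m ≤ 16 * 3 ^ j := by
  induction j with
  | zero =>
    intro a m ha hsum
    have ha8 : a ≤ 8 := by omega
    interval_cases a
    · obtain rfl : m = 4 := by omega
      simp [f]
    · obtain rfl : m = 3 := by omega
      simp [f]
    · obtain rfl : m = 2 := by omega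
      simp [f]
    · obtain rfl : m = 1 := by omega
      simp [f]
    · obtain rfl : m = 0 := by omega
      simp [f]
  | succ j ih =>
    intro a m ha hsum
    rcases Nat.lt_or_ge a 7 with h7 | h7
    · interval_cases a
      · obtain rfl : m = 3 * (j + 2) + 1 := by omega
        rw [(f_values (j + 2) (by omega)).2.1]
        have e : j + 2 - 1 = j + 1 := by omega
        rw [e]
        omega
      · obtain rfl : m = 3 * (j + 2) := by omega
        rw [(f_values (j + 2) (by omega)).1]
        have : 3 ^ (j + 2) = 3 * 3 ^ (j + 1) := by ring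
        omega
      · obtain rfl : m = 3 * (j + 1) + 2 := by omega
        rw [(f_values (j + 1) (by omega)).2.2]
        omega
    · have h1 := ih (a - 3) m (by omega) (by omega)
      have h2 : a * f m ≤ 3 * ((a - 3) * f m) := by
        rw [← mul_assoc]
        apply Nat.mul_le_mul_right
        omega
      have h3 : 3 ^ (j + 1) = 3 * 3 ^ j := by ring
      omega

theorem prod_bound {ι : Type*} [DecidableEq ι] (s : Finset ι) (a : ι → ℕ) (ha : ∀ i ∈ s, 1 ≤ a i)
    (j : ℕ) (hsum : ∑ i ∈ s, a i = 3 * j + 8) :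
    ∏ i ∈ s, a i ≤ 16 * 3 ^ j ∨ ∃ i₀ ∈ s, a i₀ = 2 ∧ ∀ i ∈ s, i ≠ i₀ → a i = 3 := by
  by_cases hA : ∃ i₁ ∈ s, a i₁ ≠ 2 ∧ a i₁ ≠ 3
  · left
    obtain ⟨i₁, hi₁, h2, h3⟩ := hA
    rw [← Finset.mul_prod_erase s a hi₁]
    rw [← Finset.add_sum_erase s a hi₁] at hsum
    have h4 := prod_le_f (s.erase i₁) a (fun i hi => ha i (Finset.mem_of_mem_erase hi))
    have h5 := ha i₁ hi₁
    rcases Nat.lt_or_ge (a i₁) 4 with h | h
    · have h1 : a i₁ = 1 := by omega
      rw [h1, one_mul]
      rw [h1] at hsum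
      have h6 : ∑ i ∈ s.erase i₁, a i = 3 * (j + 2) + 1 := by omega
      rw [h6, (f_values (j + 2) (by omega)).2.1] at h4
      have e : j + 2 - 1 = j + 1 := by omega
      rw [e] at h4
      have : 3 ^ (j + 1) = 3 * 3 ^ j := by ring
      omega
    · calc a i₁ * ∏ i ∈ s.erase i₁, a i ≤ a i₁ * f (∑ i ∈ s.erase i₁, a i) :=
            Nat.mul_le_mul_left _ h4
        _ ≤ 16 * 3 ^ j := lemA j _ _ h hsum
  · push Not at hA
    by_cases hB : ∃ i₁ ∈ s, ∃ i₂ ∈ s, i₁ ≠ i₂ ∧ a i₁ = 2 ∧ a i₂ = 2
    · left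
      obtain ⟨i₁, hi₁, i₂, hi₂, hne, h1, h2⟩ := hB
      have hi₂' : i₂ ∈ s.erase i₁ := Finset.mem_erase.2 ⟨hne.symm, hi₂⟩
      rw [← Finset.mul_prod_erase s a hi₁, ← Finset.mul_prod_erase (s.erase i₁) a hi₂', h1, h2]
      rw [← Finset.add_sum_erase s a hi₁, ← Finset.add_sum_erase (s.erase i₁) a hi₂', h1, h2] at hsum
      have h4 := prod_le_f ((s.erase i₁).erase i₂) a
        (fun i hi => ha i (Finset.mem_of_mem_erase (Finset.mem_of_mem_erase hi)))
      have h6 : ∑ i ∈ (s.erase i₁).erase i₂, a i = 3 * (j + 1) + 1 := by omega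
      rw [h6, (f_values (j + 1) (by omega)).2.1] at h4
      simp only [Nat.add_sub_cancel] at h4
      omega
    · push Not at hB
      by_cases hC : ∃ i₀ ∈ s, a i₀ = 2
      · right
        obtain ⟨i₀, hi₀, h0⟩ := hC
        refine ⟨i₀, hi₀, h0, ?_⟩
        intro i hi hne
        by_contra h3
        have h2 : a i = 2 := by
          by_contra h2
          exact h3 (hA i hi h2)
        exact hB i hi i₀ hi₀ hne h2 h0
      · exfalso
        push Not at hC
        have hall : ∀ i ∈ s, a i = 3 := by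
          intro i hi
          by_contra h3
          exact h3 (hA i hi (hC i hi))
        rw [Finset.sum_congr rfl hall, Finset.sum_const, smul_eq_mul] at hsum
        omega




theorem three_cycle_or_fixed {α : Type*} (g : α → α) (hg : Function.Injective g) (u v w : α)
    (huv : u ≠ v) (huw : u ≠ w) (hvw : v ≠ w)
    (hu : g u = u ∨ g u = v ∨ g u = w) (hv : g v = u ∨ g v = v ∨ g v = w)
    (hw : g w = u ∨ g w = v ∨ g w = w) :
    (g u = u ∨ g v = v ∨ g w = w) ∨ (g (g (g u)) = u ∧ g (g (g v)) = v ∧ g (g (g w)) = w) := by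
  rcases hu with hu | hu | hu
  · exact Or.inl (Or.inl hu)
  · rcases hv with hv | hv | hv
    · -- g u = v, g v = u, so g w = w
      rcases hw with hw | hw | hw
      · exact absurd (hg (hw.trans hv.symm)) hvw.symm
      · exact absurd (hg (hw.trans hu.symm)) huw.symm
      · exact Or.inl (Or.inr (Or.inr hw))
    · exact Or.inl (Or.inr (Or.inl hv))
    · rcases hw with hw | hw | hw
      · right
        refine ⟨by rw [hu, hv, hw], by rw [hv, hw, hu], by rw [hw, hu, hv]⟩
      · exact absurd (hg (hw.trans hu.symm)) huw.symm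
      · exact Or.inl (Or.inr (Or.inr hw))
  · rcases hw with hw | hw | hw
    · -- g u = w, g w = u, so g v = v
      rcases hv with hv | hv | hv
      · exact absurd (hg (hv.trans hw.symm)) hvw
      · exact Or.inl (Or.inr (Or.inl hv))
      · exact absurd (hg (hv.trans hu.symm)) huv.symm
    · rcases hv with hv | hv | hv
      · right
        refine ⟨by rw [hu, hw, hv], by rw [hv, hu, hw], by rw [hw, hv, hu]⟩
      · exact Or.inl (Or.inr (Or.inl hv))
      · exact absurd (hg (hv.trans hu.symm)) huv.symm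
    · exact Or.inl (Or.inr (Or.inr hw))

/-- An abelian permutation group with one orbit of size two and all others of size three
contains a transposition. -/
theorem exists_odd {n : ℕ} (B : Subgroup (Equiv.Perm (Fin n))) (hB : ∀ a b : B, a * b = b * a)
    (x₀ : Fin n) (h2 : (orbit B x₀).ncard = 2)
    (h3 : ∀ z, z ∉ orbit B x₀ → (orbit B z).ncard = 3) :
    ∃ σ ∈ B, Equiv.Perm.sign σ = -1 := by
  classical
  -- fixed points propagate along orbits
  have hfix : ∀ (σ : B) (u z : Fin n), z ∈ orbit B u → σ • u = u → σ • z = z := by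
    intro σ u z hz hu
    obtain ⟨β, rfl⟩ := hz
    show σ • β • u = β • u
    rw [← mul_smul, hB σ β, mul_smul, hu]
  obtain ⟨p, y, hpy, hO⟩ := Set.ncard_eq_two.1 h2
  have hx₀ : x₀ ∈ orbit B x₀ := mem_orbit_self x₀
  -- wlog name the other point
  obtain ⟨y, hy, hO'⟩ : ∃ y, y ≠ x₀ ∧ orbit B x₀ = {x₀, y} := by
    rw [hO] at hx₀
    rcases hx₀ with h | h
    · exact ⟨y, by rw [h]; exact hpy.symm, by rw [hO, h]⟩
    · have h' : x₀ = y := h
      exact ⟨p, by rw [h']; exact hpy, by rw [hO, h', Set.pair_comm]⟩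
  have hyO : y ∈ orbit B x₀ := by rw [hO']; exact Set.mem_insert_of_mem _ rfl
  obtain ⟨σ, hσ⟩ := hyO
  have hσx : σ • x₀ = y := hσ
  have hσy : σ • y = x₀ := by
    have h1 : σ • y ∈ orbit B x₀ := by
      rw [← hσx, ← mul_smul]
      exact mem_orbit _ _
    rw [hO'] at h1
    rcases h1 with h | h
    · exact h
    · exfalso
      have h' : σ • y = y := h
      have : σ • y = σ • x₀ := by rw [h', hσx]
      exact hy (smul_left_cancel σ this)
  have hσz : ∀ z, z ≠ x₀ → z ≠ y → σ • σ • σ • z = z := by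
    intro z hz1 hz2
    have hzO : z ∉ orbit B x₀ := by
      rw [hO']
      intro h
      rcases h with h | h
      · exact hz1 h
      · exact hz2 h
    obtain ⟨u, v, w, huv, huw, hvw, hOz⟩ := Set.ncard_eq_three.1 (h3 z hzO)
    have hmem : ∀ t, t ∈ orbit B z → σ • t = u ∨ σ • t = v ∨ σ • t = w := by
      intro t ht
      have h1 : σ • t ∈ orbit B z := by
        obtain ⟨β, rfl⟩ := ht
        show σ • β • z ∈ orbit B z
        rw [← mul_smul]
        exact mem_orbit _ _
      rw [hOz] at h1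
      rcases h1 with h | h | h
      · exact Or.inl h
      · exact Or.inr (Or.inl h)
      · exact Or.inr (Or.inr h)
    have huO : u ∈ orbit B z := by rw [hOz]; exact Set.mem_insert _ _
    have hvO : v ∈ orbit B z := by rw [hOz]; exact Set.mem_insert_of_mem _ (Set.mem_insert _ _)
    have hwO : w ∈ orbit B z := by
      rw [hOz]; exact Set.mem_insert_of_mem _ (Set.mem_insert_of_mem _ rfl)
    have hzz : z ∈ orbit B z := mem_orbit_self z
    have key := three_cycle_or_fixed (fun t => σ • t) (MulAction.injective σ) u v w huv huw hvw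
      (hmem u huO) (hmem v hvO) (hmem w hwO)
    rcases key with (h | h | h) | ⟨h1, h2', h3'⟩
    · have hz' : σ • z = z := by
        apply hfix σ u z _ h
        rw [orbit_eq_iff.2 huO]
        exact hzz
      rw [hz', hz', hz']
    · have hz' : σ • z = z := by
        apply hfix σ v z _ h
        rw [orbit_eq_iff.2 hvO]
        exact hzz
      rw [hz', hz', hz']
    · have hz' : σ • z = z := by
        apply hfix σ w z _ h
        rw [orbit_eq_iff.2 hwO]
        exact hzz
      rw [hz', hz', hz']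
    · rw [hOz] at hzz
      rcases hzz with h | h | h
      · rw [h]; exact h1
      · rw [h]; exact h2'
      · have h' : z = w := h
        rw [h']; exact h3'
  refine ⟨((σ * σ * σ : B) : Equiv.Perm (Fin n)), (σ * σ * σ).2, ?_⟩
  have hswap : ((σ * σ * σ : B) : Equiv.Perm (Fin n)) = Equiv.swap x₀ y := by
    ext z
    congr 1
    show (σ * σ * σ) • z = Equiv.swap x₀ y z
    rw [mul_smul, mul_smul]
    by_cases hz1 : z = x₀
    · rw [hz1, Equiv.swap_apply_left, hσx, hσy, hσx]
    · by_cases hz2 : z = y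
      · rw [hz2, Equiv.swap_apply_right, hσy, hσx, hσy]
      · rw [Equiv.swap_apply_of_ne_of_ne hz1 hz2]
        exact hσz z hz1 hz2
  rw [hswap]
  exact Equiv.Perm.sign_swap hy.symm



section lower

theorem sign_addRight_V (w : ZMod 2 × ZMod 2) :
    Equiv.Perm.sign (Equiv.addRight w : Equiv.Perm (ZMod 2 × ZMod 2)) = 1 := by
  revert w
  decide

theorem sign_addRight_three (w : ZMod 3) :
    Equiv.Perm.sign (Equiv.addRight w : Equiv.Perm (ZMod 3)) = 1 := by
  revert w
  decide

variable (a b : ℕ)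

/-- the acting group `V₄^a × C₃^b` -/
abbrev Gam : Type := (Fin a → Multiplicative (ZMod 2 × ZMod 2)) × (Fin b → Multiplicative (ZMod 3))

/-- the set `a × 4 ⊔ b × 3` acted on -/
abbrev Pts : Type := (Fin a × (ZMod 2 × ZMod 2)) ⊕ (Fin b × ZMod 3)

/-- the action as permutations -/
def actPerm (γ : Gam a b) : Equiv.Perm (Pts a b) :=
  Equiv.sumCongr
    (Equiv.prodCongrRight fun i => Equiv.addRight (Multiplicative.toAdd (γ.1 i)))
    (Equiv.prodCongrRight fun i => Equiv.addRight (Multiplicative.toAdd (γ.2 i)))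

theorem sign_actPerm (γ : Gam a b) : Equiv.Perm.sign (actPerm a b γ) = 1 := by
  unfold actPerm
  have h1 := Equiv.Perm.sign_sumCongr
    (Equiv.prodCongrRight fun i : Fin a =>
      (Equiv.addRight (Multiplicative.toAdd (γ.1 i)) : Equiv.Perm (ZMod 2 × ZMod 2)))
    (Equiv.prodCongrRight fun i : Fin b =>
      (Equiv.addRight (Multiplicative.toAdd (γ.2 i)) : Equiv.Perm (ZMod 3)))
  have h2 := Equiv.Perm.sign_prodCongrRight (fun i : Fin a =>
      (Equiv.addRight (Multiplicative.toAdd (γ.1 i)) : Equiv.Perm (ZMod 2 × ZMod 2)))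
  have h3 := Equiv.Perm.sign_prodCongrRight (fun i : Fin b =>
      (Equiv.addRight (Multiplicative.toAdd (γ.2 i)) : Equiv.Perm (ZMod 3)))
  rw [Finset.prod_congr rfl (fun i _ => sign_addRight_V _), Finset.prod_const_one] at h2
  rw [Finset.prod_congr rfl (fun i _ => sign_addRight_three _), Finset.prod_const_one] at h3
  rw [h2, h3, one_mul] at h1
  exact h1

/-- the action as a homomorphism -/
def actHom : Gam a b →* Equiv.Perm (Pts a b) where
  toFun := actPerm a b
  map_one' := by
    ext x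
    rcases x with ⟨i, u⟩ | ⟨i, u⟩ <;> simp [actPerm]
  map_mul' γ δ := by
    ext x
    rcases x with ⟨i, u⟩ | ⟨i, u⟩
    · simp [actPerm, add_assoc, add_comm (Multiplicative.toAdd (γ.1 i))]
    · simp [actPerm, add_assoc, add_comm (Multiplicative.toAdd (γ.2 i))]

theorem actHom_injective : Function.Injective (actHom a b) := by
  intro γ δ h
  apply Prod.ext
  · funext i
    have := congrArg (fun σ : Equiv.Perm (Pts a b) => σ (Sum.inl (i, 0))) h
    simp only [actHom, actPerm, MonoidHom.coe_mk, OneHom.coe_mk, Equiv.sumCongr_apply,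
      Sum.map_inl, Equiv.prodCongrRight_apply, Equiv.coe_addRight, zero_add,
      Sum.inl.injEq, Prod.mk.injEq, true_and] at this
    exact Multiplicative.toAdd.injective this
  · funext i
    have := congrArg (fun σ : Equiv.Perm (Pts a b) => σ (Sum.inr (i, 0))) h
    simp only [actHom, actPerm, MonoidHom.coe_mk, OneHom.coe_mk, Equiv.sumCongr_apply,
      Sum.map_inr, Equiv.prodCongrRight_apply, Equiv.coe_addRight, zero_add,
      Sum.inr.injEq, Prod.mk.injEq, true_and] at this
    exact Multiplicative.toAdd.injective this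

theorem exists_abelian_alt (n : ℕ) (hn : n = 4 * a + 3 * b) :
    ∃ A : Subgroup (alternatingGroup (Fin n)), IsMulCommutative A ∧ Nat.card A = 4 ^ a * 3 ^ b := by
  classical
  have hcard : Fintype.card (Pts a b) = n := by
    rw [Fintype.card_sum, Fintype.card_prod, Fintype.card_prod, Fintype.card_prod, Fintype.card_fin,
      Fintype.card_fin, ZMod.card, ZMod.card, hn]
    ring
  let e : Pts a b ≃ Fin n := Fintype.equivFinOfCardEq hcard
  let ψ : Gam a b →* Equiv.Perm (Fin n) := (e.permCongrHom.toMonoidHom).comp (actHom a b)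
  have hψ : Function.Injective ψ := e.permCongrHom.injective.comp (actHom_injective a b)
  have hmem : ∀ γ, ψ γ ∈ alternatingGroup (Fin n) := by
    intro γ
    rw [Equiv.Perm.mem_alternatingGroup]
    show Equiv.Perm.sign (e.permCongr (actPerm a b γ)) = 1
    rw [Equiv.Perm.sign_permCongr, sign_actPerm]
  let ψ' : Gam a b →* alternatingGroup (Fin n) := ψ.codRestrict _ hmem
  have hψ' : Function.Injective ψ' := by
    intro γ δ h
    apply hψ
    exact congrArg Subtype.val h
  refine ⟨ψ'.range, inferInstance, ?_⟩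
  have h1 : Nat.card ψ'.range = Nat.card (Gam a b) :=
    (Nat.card_congr (Equiv.ofInjective ψ' hψ')).symm
  rw [h1, Nat.card_eq_fintype_card, Fintype.card_prod, Fintype.card_fun, Fintype.card_fun,
    Fintype.card_fin, Fintype.card_fin]
  have h2 : Fintype.card (Multiplicative (ZMod 3)) = 3 := ZMod.card 3
  have h3 : Fintype.card (Multiplicative (ZMod 2 × ZMod 2)) = 4 := by
    rw [Fintype.card_congr Multiplicative.toAdd, Fintype.card_prod, ZMod.card]
  rw [h2, h3]

end lower


theorem upper_alt (n j : ℕ) (hn : n = 3 * j + 8) (B : Subgroup (Equiv.Perm (Fin n)))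
    (hB : IsMulCommutative B) (heven : ∀ σ ∈ B, Equiv.Perm.sign σ = 1) :
    Nat.card B ≤ 16 * 3 ^ j := by
  classical
  have hcomm : ∀ a b : B, a * b = b * a := fun a b => hB.is_comm.comm a b
  have h1 := card_le_prod_orbits (G := B) (X := Fin n) hcomm
  have h2 : ∑ ω : orbitRel.Quotient B (Fin n), Fintype.card ω.orbit = 3 * j + 8 := by
    rw [← Fintype.card_sigma, ← Fintype.card_congr (selfEquivSigmaOrbits' B (Fin n)),
      Fintype.card_fin, hn]
  have hpos : ∀ ω ∈ (Finset.univ : Finset (orbitRel.Quotient B (Fin n))),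
      1 ≤ Fintype.card ω.orbit := by
    intro ω _
    apply Fintype.card_pos_iff.2
    refine ⟨⟨ω.out, ?_⟩⟩
    rw [orbitRel.Quotient.mem_orbit]
    exact Quotient.out_eq' ω
  rw [Nat.card_eq_fintype_card]
  rcases prod_bound Finset.univ (fun ω : orbitRel.Quotient B (Fin n) => Fintype.card ω.orbit)
    hpos j h2 with h | ⟨ω₀, -, h0, hrest⟩
  · exact h1.trans h
  · exfalso
    have hcardeq : ∀ ω : orbitRel.Quotient B (Fin n), Fintype.card ω.orbit = ω.orbit.ncard := by
      intro ω
      rw [← Nat.card_eq_fintype_card, Nat.card_coe_set_eq]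
    have horb : ∀ z : Fin n,
        orbitRel.Quotient.orbit (Quotient.mk'' z : orbitRel.Quotient B (Fin n)) = orbit B z :=
      fun z => orbitRel.Quotient.orbit_mk z
    have hω₀ : ω₀.orbit = orbit B ω₀.out :=
      orbitRel.Quotient.orbit_eq_orbit_out ω₀ Quotient.out_eq'
    obtain ⟨σ, hσ, hsign⟩ := exists_odd B hcomm ω₀.out (by rw [← hω₀, ← hcardeq, h0]) (by
      intro z hz
      rw [← horb, ← hcardeq]
      apply hrest _ (Finset.mem_univ _)
      intro h
      apply hz
      rw [← hω₀, ← h, horb]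
      exact mem_orbit_self z)
    rw [heven σ hσ] at hsign
    exact absurd hsign (by decide)

/-- transfer to subgroups of the alternating group -/
theorem transfer (n : ℕ) (A : Subgroup (alternatingGroup (Fin n))) (hA : IsMulCommutative A) :
    ∃ B : Subgroup (Equiv.Perm (Fin n)), IsMulCommutative B ∧
      (∀ σ ∈ B, Equiv.Perm.sign σ = 1) ∧ Nat.card B = Nat.card A := by
  refine ⟨A.map (alternatingGroup (Fin n)).subtype, inferInstance, ?_, ?_⟩
  · rintro σ ⟨τ, _, rfl⟩
    exact Equiv.Perm.mem_alternatingGroup.1 τ.2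
  · exact Subgroup.card_map_of_injective (Subgroup.subtype_injective _)

/-- The largest order of an abelian subgroup of the alternating group of degree n is 3^k when n = 3k, 4·3^(k−1) when n = 3k + 1, and 16·3^(k−2) when n = 3k + 2, for every k ≥ 2 (so for all degrees n ≥ 6). -/
theorem result (k : ℕ) (hk : 2 ≤ k) :
    IsGreatest {c : ℕ | ∃ A : Subgroup (alternatingGroup (Fin (3 * k))), IsMulCommutative A ∧ Nat.card A = c} (3 ^ k) ∧
    IsGreatest {c : ℕ | ∃ A : Subgroup (alternatingGroup (Fin (3 * k + 1))), IsMulCommutative A ∧ Nat.card A = c}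
      (4 * 3 ^ (k - 1)) ∧
    IsGreatest {c : ℕ | ∃ A : Subgroup (alternatingGroup (Fin (3 * k + 2))), IsMulCommutative A ∧ Nat.card A = c}
      (16 * 3 ^ (k - 2)) := by
  obtain ⟨j, rfl⟩ : ∃ j, k = j + 2 := ⟨k - 2, by omega⟩
  obtain ⟨h1, h2, h3⟩ := f_values (j + 2) (by omega)
  have e1 : j + 2 - 1 = j + 1 := by omega
  have e2 : j + 2 - 2 = j := by omega
  rw [e1] at h2
  rw [e1, e2]
  refine ⟨⟨?_, ?_⟩, ⟨?_, ?_⟩, ⟨?_, ?_⟩⟩
  · obtain ⟨A, hA, hc⟩ := exists_abelian_alt 0 (j + 2) (3 * (j + 2)) (by ring)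
    refine ⟨A, hA, ?_⟩
    rw [hc]; ring
  · rintro c ⟨A, hA, rfl⟩
    obtain ⟨B, hB, -, hc⟩ := transfer _ A hA
    rw [← hc, ← h1]
    exact upper _ B hB
  · obtain ⟨A, hA, hc⟩ := exists_abelian_alt 1 (j + 1) (3 * (j + 2) + 1) (by ring)
    refine ⟨A, hA, ?_⟩
    rw [hc]; ring
  · rintro c ⟨A, hA, rfl⟩
    obtain ⟨B, hB, -, hc⟩ := transfer _ A hA
    rw [← hc, ← h2]
    exact upper _ B hB
  · obtain ⟨A, hA, hc⟩ := exists_abelian_alt 2 j (3 * (j + 2) + 2) (by ring)
    refine ⟨A, hA, ?_⟩
    rw [hc]; ring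
  · rintro c ⟨A, hA, rfl⟩
    obtain ⟨B, hB, heven, hc⟩ := transfer _ A hA
    rw [← hc]
    exact upper_alt _ j (by ring) B hB heven

end Cfsg.Agent.S2504
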