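import Mathlib
import Cfsg.Statements.S2507
import Cfsg.Agent.Lib.Helper5.SL2Class
import Cfsg.Agent.Lib.Helper5.SL2Proj
import Cfsg.Agent.Lib.Helper5.SL2Exists

set_option autoImplicit false
open Cfsg

namespace Cfsg.Agent.S2507

open Cfsg.Agent.Lib.Helper5 Matrix

theorem two_eq_zero_of_even {F : Type*} [Field F] [Fintype F] (h2 : 2 ∣ Fintype.card F) :
    (2 : F) = 0 := by
  have h : ringChar F = 2 := FiniteField.even_card_iff_char_two.2 (Nat.mod_eq_zero_of_dvd h2)
  have : CharP F 2 := ringChar.of_eq h
  exact CharTwo.two_eq_zero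

theorem exists_ne_zero_one {F : Type*} [Field F] [Fintype F] (h3 : 3 ≤ Fintype.card F) :
    ∃ a : F, a ≠ 0 ∧ a ≠ 1 := by
  classical
  have h := Finset.le_card_sdiff ({0, 1} : Finset F) Finset.univ
  rw [Finset.card_univ] at h
  have h' : ({0, 1} : Finset F).card ≤ 2 := Finset.card_le_two
  have hpos : 0 < (Finset.univ \ ({0, 1} : Finset F)).card := by omega
  obtain ⟨a, ha⟩ := Finset.card_pos.1 hpos
  rw [Finset.mem_sdiff, Finset.mem_insert, Finset.mem_singleton] at ha
  push Not at ha
  exact ⟨a, ha.2.1, ha.2.2⟩

/-- Let F be a finite field with q = 2^f ≥ 4 elements. The conjugacy class sizes of PSL(2,F) are exactly 1, q(q − 1), q² − 1 and q(q + 1). -/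
theorem result {F : Type*} [Field F] [Fintype F]
    (h2 : 2 ∣ Fintype.card F) (h4 : 4 ≤ Fintype.card F) :
    Set.range (fun g : (Matrix.ProjectiveSpecialLinearGroup (Fin 2) F) => (Subgroup.centralizer ({g} : Set (Matrix.ProjectiveSpecialLinearGroup (Fin 2) F))).index) =
      {1, Fintype.card F * (Fintype.card F - 1), Fintype.card F ^ 2 - 1, Fintype.card F * (Fintype.card F + 1)} := by
  classical
  have h2F : (2 : F) = 0 := two_eq_zero_of_even h2
  have h4F : (4 : F) = 0 := by
    have : (4 : F) = 2 * 2 := by norm_num
    rw [this, h2F, zero_mul]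
  ext n
  simp only [Set.mem_range, Set.mem_insert_iff, Set.mem_singleton_iff]
  constructor
  · rintro ⟨gbar, rfl⟩
    obtain ⟨g, rfl⟩ := QuotientGroup.mk_surjective gbar
    rw [psl_index_eq g (Or.inl h2F)]
    by_cases hsc : ∃ c : F, (g : Matrix (Fin 2) (Fin 2) F) = c • (1 : Matrix (Fin 2) (Fin 2) F)
    · obtain ⟨c, hc⟩ := hsc
      left
      rw [centralizer_eq_top_of_scalar g c hc, Subgroup.index_top]
    · by_cases ht : (g : Matrix (Fin 2) (Fin 2) F).trace ^ 2 = 4
      · right; right; left
        exact index_centralizer_special_even g hsc ht h2F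
      · rcases rootCount_eq_zero_or_two _ ht with hr | hr
        · right; left
          exact index_centralizer_of_rootCount_zero g ht hr
        · right; right; right
          exact index_centralizer_of_rootCount_two g ht hr
  · rintro (rfl | rfl | rfl | rfl)
    · refine ⟨QuotientGroup.mk (1 : SpecialLinearGroup (Fin 2) F), ?_⟩
      apply psl_index_of_scalar _ 1
      rw [one_smul]
      rfl
    · obtain ⟨t, ht0, hr⟩ := exists_rootCount_zero_even (F := F) h2F
      refine ⟨QuotientGroup.mk (companionSL t), ?_⟩
      rw [psl_index_eq _ (Or.inl h2F)]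
      apply index_centralizer_of_rootCount_zero
      · rw [trace_companionSL, h4F]
        exact pow_ne_zero 2 ht0
      · rw [trace_companionSL]
        exact hr
    · refine ⟨QuotientGroup.mk (companionSL (0 : F)), ?_⟩
      rw [psl_index_eq _ (Or.inl h2F)]
      apply index_centralizer_special_even _ (companionSL_not_scalar 0) _ h2F
      rw [trace_companionSL, h4F]
      ring
    · obtain ⟨a, ha0, ha1⟩ := exists_ne_zero_one (F := F) (by omega)
      refine ⟨QuotientGroup.mk (companionSL (a + a⁻¹)), ?_⟩
      rw [psl_index_eq _ (Or.inl h2F)]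
      have ht4 : (a + a⁻¹) ^ 2 ≠ 4 := by
        rw [h4F]
        apply pow_ne_zero
        intro h
        apply ha1
        have h5 : a ^ 2 + 1 = 0 := by
          have : a * (a + a⁻¹) = 0 := by rw [h, mul_zero]
          rw [mul_add, mul_inv_cancel₀ ha0] at this
          linear_combination this
        have h6 : (a - 1) ^ 2 = 0 := by linear_combination h5 - a * h2F
        exact sub_eq_zero.1 ((pow_eq_zero_iff two_ne_zero).1 h6)
      apply index_centralizer_of_rootCount_two
      · rw [trace_companionSL]
        exact ht4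
      · rw [trace_companionSL]
        apply rootCount_of_root _ a ht4
        rw [add_mul, inv_mul_cancel₀ ha0]
        ring

end Cfsg.Agent.S2507
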