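import Mathlib
import Cfsg.Statements.S2508
import Cfsg.Agent.Lib.Helper5.SL2Class
import Cfsg.Agent.Lib.Helper5.SL2Proj
import Cfsg.Agent.Lib.Helper5.SL2Exists

set_option autoImplicit false
open Cfsg

namespace Cfsg.Agent.S2508

open Cfsg.Agent.Lib.Helper5 Matrix

section
variable {F : Type*} [Field F] [Fintype F]

theorem two_ne_zero_of_odd (hodd : ¬ 2 ∣ Fintype.card F) : (2 : F) ≠ 0 := by
  apply Ring.two_ne_zero
  intro h
  apply hodd
  exact Nat.dvd_of_mod_eq_zero (FiniteField.even_card_iff_char_two.1 h)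

theorem exists_pow_four_ne_one (hq : 6 ≤ Fintype.card F) : ∃ a : F, a ≠ 0 ∧ a ^ 4 ≠ 1 := by
  classical
  obtain ⟨ζ, hζ⟩ := IsCyclic.exists_generator (α := Fˣ)
  have h1 : orderOf ζ = Fintype.card F - 1 := by
    rw [orderOf_eq_card_of_forall_mem_zpowers hζ, Nat.card_eq_fintype_card, Fintype.card_units]
  refine ⟨(ζ : F), ζ.ne_zero, ?_⟩
  intro h
  have h2 : ζ ^ 4 = 1 := Units.ext (by push_cast; exact h)
  have h3 := orderOf_dvd_of_pow_eq_one h2
  rw [h1] at h3
  have := Nat.le_of_dvd (by norm_num) h3
  omega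

/-- the index of the centraliser of the image of `g` in `PSL₂` -/
noncomputable def idx (g : SpecialLinearGroup (Fin 2) F) : ℕ :=
  (Subgroup.centralizer
        ({(QuotientGroup.mk g : ProjectiveSpecialLinearGroup (Fin 2) F)} :
          Set (ProjectiveSpecialLinearGroup (Fin 2) F))).index

variable [DecidableEq F]

theorem rootCount_zero_eq (h2 : (2 : F) ≠ 0) :
    rootCount (0 : F) = if Fintype.card F % 4 = 3 then 0 else 2 := by
  have h4 : (4 : F) ≠ 0 := by
    have : (4 : F) = 2 * 2 := by norm_num
    rw [this]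
    exact mul_ne_zero h2 h2
  have ht : (0 : F) ^ 2 ≠ 4 := by
    rw [zero_pow two_ne_zero]
    exact h4.symm
  by_cases h : Fintype.card F % 4 = 3
  · rw [if_pos h]
    rcases rootCount_eq_zero_or_two (0 : F) ht with hr | hr
    · exact hr
    · exfalso
      have hns : ¬ IsSquare (-1 : F) := by
        rw [FiniteField.isSquare_neg_one_iff]
        exact not_not.2 h
      apply hns
      unfold rootCount at hr
      have hpos : 0 < (Finset.univ.filter (fun x : F => x ^ 2 - 0 * x + 1 = 0)).card := by
        rw [hr]; norm_num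
      obtain ⟨x, hx⟩ := Finset.card_pos.1 hpos
      rw [Finset.mem_filter] at hx
      refine ⟨x, ?_⟩
      linear_combination -hx.2
  · rw [if_neg h]
    obtain ⟨x, hx⟩ := FiniteField.isSquare_neg_one_iff.2 h
    apply rootCount_of_root (0 : F) x ht
    linear_combination -hx

theorem idx_of_trace_zero (h2 : (2 : F) ≠ 0) (g : SpecialLinearGroup (Fin 2) F)
    (ht0 : (g : Matrix (Fin 2) (Fin 2) F).trace = 0) :
    (2 * idx g = if Fintype.card F % 4 = 3 then Fintype.card F * (Fintype.card F - 1)
        else Fintype.card F * (Fintype.card F + 1)) := by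
  have h4 : (4 : F) ≠ 0 := by
    have : (4 : F) = 2 * 2 := by norm_num
    rw [this]
    exact mul_ne_zero h2 h2
  have ht4 : (g : Matrix (Fin 2) (Fin 2) F).trace ^ 2 ≠ 4 := by
    rw [ht0, zero_pow two_ne_zero]
    exact h4.symm
  -- `g` is conjugate to `-g`
  have hdet : (-(g : Matrix (Fin 2) (Fin 2) F)).det = 1 := by
    rw [Matrix.det_neg, Fintype.card_fin, g.det_coe]
    norm_num
  have hconj : IsConj g (mkSL2 (-(g : Matrix (Fin 2) (Fin 2) F)) hdet) := by
    apply isConj_of_trace_eq _ _ _ ht4
    show (g : Matrix (Fin 2) (Fin 2) F).trace = (-(g : Matrix (Fin 2) (Fin 2) F)).trace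
    rw [Matrix.trace_neg, ht0, neg_zero]
  obtain ⟨c, hc⟩ := isConj_iff.1 hconj
  have hc' : c * g = mkSL2 (-(g : Matrix (Fin 2) (Fin 2) F)) hdet * c := by
    rw [← hc]; group
  have hx : (c : Matrix (Fin 2) (Fin 2) F) * (g : Matrix (Fin 2) (Fin 2) F) =
      -((g : Matrix (Fin 2) (Fin 2) F) * (c : Matrix (Fin 2) (Fin 2) F)) := by
    have := congrArg (fun z : SpecialLinearGroup (Fin 2) F =>
      (z : Matrix (Fin 2) (Fin 2) F)) hc'
    have h5 : (c : Matrix (Fin 2) (Fin 2) F) * (g : Matrix (Fin 2) (Fin 2) F) =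
        (-(g : Matrix (Fin 2) (Fin 2) F)) * (c : Matrix (Fin 2) (Fin 2) F) := this
    rw [h5, Matrix.neg_mul]
  have h6 := psl_index_mul_two g c h2 hx
  show 2 * (Subgroup.centralizer
    ({(QuotientGroup.mk g : ProjectiveSpecialLinearGroup (Fin 2) F)} :
      Set (ProjectiveSpecialLinearGroup (Fin 2) F))).index = _
  rw [h6]
  have hr := rootCount_zero_eq (F := F) h2
  rw [← ht0] at hr
  by_cases h : Fintype.card F % 4 = 3
  · rw [if_pos h] at hr ⊢
    exact index_centralizer_of_rootCount_zero g ht4 hr
  · rw [if_neg h] at hr ⊢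
    exact index_centralizer_of_rootCount_two g ht4 hr

theorem idx_cases (h2 : (2 : F) ≠ 0) (g : SpecialLinearGroup (Fin 2) F) :
    idx g = 1 ∨ idx g * 2 = Fintype.card F ^ 2 - 1 ∨
      idx g = Fintype.card F * (Fintype.card F - 1) ∨
      idx g = Fintype.card F * (Fintype.card F + 1) ∨
      (2 * idx g = if Fintype.card F % 4 = 3 then Fintype.card F * (Fintype.card F - 1)
        else Fintype.card F * (Fintype.card F + 1)) := by
  by_cases hsc : ∃ c : F, (g : Matrix (Fin 2) (Fin 2) F) = c • (1 : Matrix (Fin 2) (Fin 2) F)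
  · obtain ⟨c, hc⟩ := hsc
    left
    exact psl_index_of_scalar g c hc
  · by_cases ht0 : (g : Matrix (Fin 2) (Fin 2) F).trace = 0
    · right; right; right; right
      exact idx_of_trace_zero h2 g ht0
    · have hidx : idx g = (Subgroup.centralizer ({g} : Set (SpecialLinearGroup (Fin 2) F))).index :=
        psl_index_eq g (Or.inr ht0)
      rw [hidx]
      by_cases ht : (g : Matrix (Fin 2) (Fin 2) F).trace ^ 2 = 4
      · right; left
        exact index_centralizer_special_odd g hsc ht h2
      · rcases rootCount_eq_zero_or_two _ ht with hr | hr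
        · right; right; left
          exact index_centralizer_of_rootCount_zero g ht hr
        · right; right; right; left
          exact index_centralizer_of_rootCount_two g ht hr

omit [Fintype F] [DecidableEq F] in
theorem exists_idx_one : ∃ g : SpecialLinearGroup (Fin 2) F, idx g = 1 := by
  refine ⟨1, ?_⟩
  apply psl_index_of_scalar _ 1
  rw [one_smul]
  rfl

theorem exists_idx_unipotent (h2 : (2 : F) ≠ 0) :
    ∃ g : SpecialLinearGroup (Fin 2) F, idx g * 2 = Fintype.card F ^ 2 - 1 := by
  refine ⟨companionSL 2, ?_⟩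
  have hidx : idx (companionSL (2 : F)) = (Subgroup.centralizer
      ({companionSL (2 : F)} : Set (SpecialLinearGroup (Fin 2) F))).index := by
    apply psl_index_eq
    right
    rw [trace_companionSL]
    exact h2
  rw [hidx]
  apply index_centralizer_special_odd _ (companionSL_not_scalar 2) _ h2
  rw [trace_companionSL]
  norm_num

theorem exists_idx_nonsplit (hq : 5 < Fintype.card F) :
    ∃ g : SpecialLinearGroup (Fin 2) F, idx g = Fintype.card F * (Fintype.card F - 1) := by
  obtain ⟨t, ht0, ht4, hr⟩ := exists_rootCount_zero_odd (F := F) hq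
  refine ⟨companionSL t, ?_⟩
  have hidx : idx (companionSL t) = (Subgroup.centralizer
      ({companionSL t} : Set (SpecialLinearGroup (Fin 2) F))).index := by
    apply psl_index_eq
    right
    rw [trace_companionSL]
    exact ht0
  rw [hidx]
  apply index_centralizer_of_rootCount_zero
  · rw [trace_companionSL]; exact ht4
  · rw [trace_companionSL]; exact hr

theorem exists_idx_split (hq : 6 ≤ Fintype.card F) :
    ∃ g : SpecialLinearGroup (Fin 2) F, idx g = Fintype.card F * (Fintype.card F + 1) := by
  obtain ⟨a, ha0, ha4⟩ := exists_pow_four_ne_one (F := F) hq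
  have ht0 : a + a⁻¹ ≠ 0 := by
    intro h
    apply ha4
    have h5 : a ^ 2 + 1 = 0 := by
      have : a * (a + a⁻¹) = 0 := by rw [h, mul_zero]
      rw [mul_add, mul_inv_cancel₀ ha0] at this
      linear_combination this
    linear_combination (a ^ 2 - 1) * h5
  have ht4 : (a + a⁻¹) ^ 2 ≠ 4 := by
    intro h
    apply ha4
    have h5 : (a ^ 2 - 1) ^ 2 = 0 := by
      have h6 : a ^ 2 * (a + a⁻¹) ^ 2 = a ^ 2 * 4 := by rw [h]
      have h7 : a ^ 2 * (a + a⁻¹) ^ 2 = (a ^ 2 + 1) ^ 2 := by
        have : a * (a + a⁻¹) = a ^ 2 + 1 := by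
          rw [mul_add, mul_inv_cancel₀ ha0]; ring
        rw [← this]; ring
      rw [h7] at h6
      linear_combination h6
    have h8 : a ^ 2 - 1 = 0 := (pow_eq_zero_iff two_ne_zero).1 h5
    linear_combination (a ^ 2 + 1) * h8
  refine ⟨companionSL (a + a⁻¹), ?_⟩
  have hidx : idx (companionSL (a + a⁻¹)) = (Subgroup.centralizer
      ({companionSL (a + a⁻¹)} : Set (SpecialLinearGroup (Fin 2) F))).index := by
    apply psl_index_eq
    right
    rw [trace_companionSL]
    exact ht0
  rw [hidx]
  apply index_centralizer_of_rootCount_two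
  · rw [trace_companionSL]; exact ht4
  · rw [trace_companionSL]
    apply rootCount_of_root _ a ht4
    rw [add_mul, inv_mul_cancel₀ ha0]
    ring

theorem exists_idx_trace_zero (h2 : (2 : F) ≠ 0) :
    ∃ g : SpecialLinearGroup (Fin 2) F,
      (2 * idx g = if Fintype.card F % 4 = 3 then Fintype.card F * (Fintype.card F - 1)
        else Fintype.card F * (Fintype.card F + 1)) := by
  exact ⟨companionSL 0, idx_of_trace_zero h2 _ (trace_companionSL 0)⟩

end

/-- Let F be a finite field with q elements, q odd and q ≥ 7. If q ≡ 1 (mod 4) the conjugacy class sizes of PSL(2,F) are exactly 1, (q² − 1)/2, q(q + 1)/2, q(q − 1) and q(q + 1); if q ≡ 3 (mod 4) they are exactly 1, (q² − 1)/2, q(q − 1)/2, q(q + 1) and q(q − 1). -/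
theorem result {F : Type*} [Field F] [Fintype F]
    (hodd : ¬ 2 ∣ Fintype.card F) (h7 : 7 ≤ Fintype.card F) :
    (Fintype.card F % 4 = 1 →
      Set.range (fun g : (Matrix.ProjectiveSpecialLinearGroup (Fin 2) F) => (Subgroup.centralizer ({g} : Set (Matrix.ProjectiveSpecialLinearGroup (Fin 2) F))).index) =
        {1, (Fintype.card F ^ 2 - 1) / 2, Fintype.card F * (Fintype.card F + 1) / 2,
          Fintype.card F * (Fintype.card F - 1), Fintype.card F * (Fintype.card F + 1)}) ∧
    (Fintype.card F % 4 = 3 →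
      Set.range (fun g : (Matrix.ProjectiveSpecialLinearGroup (Fin 2) F) => (Subgroup.centralizer ({g} : Set (Matrix.ProjectiveSpecialLinearGroup (Fin 2) F))).index) =
        {1, (Fintype.card F ^ 2 - 1) / 2, Fintype.card F * (Fintype.card F - 1) / 2,
          Fintype.card F * (Fintype.card F + 1), Fintype.card F * (Fintype.card F - 1)}) := by
  classical
  have h2 : (2 : F) ≠ 0 := two_ne_zero_of_odd hodd
  have hrange : ∀ n : ℕ, n ∈ Set.range (fun g : (Matrix.ProjectiveSpecialLinearGroup (Fin 2) F) =>
      (Subgroup.centralizer ({g} : Set (Matrix.ProjectiveSpecialLinearGroup (Fin 2) F))).index) ↔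
      ∃ g : SpecialLinearGroup (Fin 2) F, idx g = n := by
    intro n
    rw [Set.mem_range]
    constructor
    · rintro ⟨gbar, rfl⟩
      obtain ⟨g, rfl⟩ := QuotientGroup.mk_surjective gbar
      exact ⟨g, rfl⟩
    · rintro ⟨g, rfl⟩
      exact ⟨QuotientGroup.mk g, rfl⟩
  obtain ⟨g1, hg1⟩ := exists_idx_one (F := F)
  obtain ⟨gu, hgu⟩ := exists_idx_unipotent (F := F) h2
  obtain ⟨gn, hgn⟩ := exists_idx_nonsplit (F := F) (by omega)
  obtain ⟨gs, hgs⟩ := exists_idx_split (F := F) (by omega)
  obtain ⟨gz, hgz⟩ := exists_idx_trace_zero (F := F) h2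
  constructor
  · intro hmod
    have hne : ¬ Fintype.card F % 4 = 3 := by omega
    ext n
    rw [hrange]
    simp only [Set.mem_insert_iff, Set.mem_singleton_iff]
    constructor
    · rintro ⟨g, rfl⟩
      rcases idx_cases h2 g with h | h | h | h | h
      · left; exact h
      · right; left; omega
      · right; right; right; left; exact h
      · right; right; right; right; exact h
      · right; right; left
        rw [if_neg hne] at h
        omega
    · rintro (rfl | rfl | rfl | rfl | rfl)
      · exact ⟨g1, hg1⟩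
      · exact ⟨gu, by omega⟩
      · rw [if_neg hne] at hgz
        exact ⟨gz, by omega⟩
      · exact ⟨gn, hgn⟩
      · exact ⟨gs, hgs⟩
  · intro hmod
    ext n
    rw [hrange]
    simp only [Set.mem_insert_iff, Set.mem_singleton_iff]
    constructor
    · rintro ⟨g, rfl⟩
      rcases idx_cases h2 g with h | h | h | h | h
      · left; exact h
      · right; left; omega
      · right; right; right; right; exact h
      · right; right; right; left; exact h
      · right; right; left
        rw [if_pos hmod] at h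
        omega
    · rintro (rfl | rfl | rfl | rfl | rfl)
      · exact ⟨g1, hg1⟩
      · exact ⟨gu, by omega⟩
      · rw [if_pos hmod] at hgz
        exact ⟨gz, by omega⟩
      · exact ⟨gs, hgs⟩
      · exact ⟨gn, hgn⟩

end Cfsg.Agent.S2508
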