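import Cfsg.Statements.S2513
import Cfsg.Agent.Lib.Helper5.SylTor1

set_option autoImplicit false
open Cfsg

namespace Cfsg.Agent.S2513


open Polynomial


/-- if a matrix over a finite field has order `r^(a+1)` with `r` a prime different from the
characteristic, then `r^(a+1)` divides `q^d - 1` for some `1 ≤ d ≤ n`. -/
theorem exists_dvd_pow_sub_one {F : Type*} [Field F] [Fintype F] {n : ℕ}
    (h : Matrix (Fin n) (Fin n) F) (r a : ℕ) (hr : r.Prime) (hrF : (r : F) ≠ 0)
    (h1 : h ^ r ^ (a + 1) = 1) (h2 : h ^ r ^ a ≠ 1) :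
    ∃ d, 1 ≤ d ∧ d ≤ n ∧ r ^ (a + 1) ∣ Fintype.card F ^ d - 1 := by
  classical
  set μ := minpoly F h with hμ
  have hμ0 : μ ≠ 0 := minpoly.ne_zero (Matrix.isIntegral h)
  set m := r ^ (a + 1) with hm
  have hmF : ((m : ℕ) : F) ≠ 0 := by
    rw [hm, Nat.cast_pow]
    exact pow_ne_zero _ hrF
  have hsep : (X ^ m - C (1 : F)).Separable := separable_X_pow_sub_C 1 hmF one_ne_zero
  have hdvd : μ ∣ X ^ m - C (1 : F) := by
    apply minpoly.dvd
    simp [h1]
  have hsq : Squarefree μ := hsep.squarefree.squarefree_of_dvd hdvd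
  set P : F[X] := X ^ r ^ a - C 1 with hP
  have hnP : ¬ μ ∣ P := by
    intro hd
    have := (minpoly.dvd_iff (A := F) (x := h) (p := P)).1 hd
    simp [hP, sub_eq_zero] at this
    exact h2 this
  -- an irreducible factor not dividing P
  have hex : ∃ f : F[X], Irreducible f ∧ f ∣ μ ∧ ¬ f ∣ P := by
    by_contra hcon
    push Not at hcon
    apply hnP
    obtain ⟨μ', hμ'⟩ := EuclideanDomain.gcd_dvd_left μ P
    have hμ'0 : μ' ≠ 0 := by
      rintro rfl
      rw [mul_zero] at hμ'
      exact hμ0 hμ'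
    by_cases hu : IsUnit μ'
    · have : μ ∣ EuclideanDomain.gcd μ P := by
        obtain ⟨u, rfl⟩ := hu
        exact ⟨↑u⁻¹, ((Units.mul_inv_eq_iff_eq_mul u).2 hμ').symm⟩
      exact this.trans (EuclideanDomain.gcd_dvd_right μ P)
    · exfalso
      obtain ⟨f, hf, hfd⟩ := WfDvdMonoid.exists_irreducible_factor hu hμ'0
      have hfμ : f ∣ μ := by rw [hμ']; exact hfd.mul_left _
      have hfP := hcon f hf hfμ
      have hfg : f ∣ EuclideanDomain.gcd μ P := EuclideanDomain.dvd_gcd hfμ hfP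
      have : f * f ∣ μ := by rw [hμ']; exact mul_dvd_mul hfg hfd
      exact hf.not_isUnit (hsq f this)
  obtain ⟨f, hf, hfμ, hfP⟩ := hex
  have := Fact.mk hf
  have hf0 : f ≠ 0 := hf.ne_zero
  let K := AdjoinRoot f
  let x : K := AdjoinRoot.root f
  have hx1 : x ^ m = 1 := by
    have : AdjoinRoot.mk f (X ^ m - C (1 : F)) = 0 :=
      AdjoinRoot.mk_eq_zero.2 (hfμ.trans hdvd)
    simpa [sub_eq_zero] using this
  have hx2 : x ^ r ^ a ≠ 1 := by
    intro hx
    apply hfP
    apply AdjoinRoot.mk_eq_zero.1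
    simp [hP, sub_eq_zero]
    exact hx
  have := Fact.mk hr
  have hord : orderOf x = r ^ (a + 1) := orderOf_eq_prime_pow hx2 hx1
  have hfin : Module.Finite F K := (AdjoinRoot.powerBasis hf0).finite
  have : Finite K := Module.finite_of_finite F
  have : Fintype K := Fintype.ofFinite K
  have hcard : Fintype.card K = Fintype.card F ^ f.natDegree := by
    rw [Module.card_eq_pow_finrank (K := F) (V := K), (AdjoinRoot.powerBasis hf0).finrank,
      AdjoinRoot.powerBasis_dim]
  have hx0 : x ≠ 0 := by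
    rintro h0
    rw [h0, zero_pow (pow_ne_zero _ hr.ne_zero)] at hx1
    exact zero_ne_one hx1
  have hx3 : x ^ (Fintype.card K - 1) = 1 := FiniteField.pow_card_sub_one_eq_one x hx0
  have hdv := orderOf_dvd_of_pow_eq_one hx3
  rw [hord, hcard] at hdv
  refine ⟨f.natDegree, hf.natDegree_pos, ?_, hdv⟩
  have h3 : f.natDegree ≤ μ.natDegree := natDegree_le_of_dvd hfμ hμ0
  have h4 : μ.natDegree ≤ h.charpoly.natDegree :=
    natDegree_le_of_dvd (Matrix.minpoly_dvd_charpoly h) (Matrix.charpoly_monic h).ne_zero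
  rw [Matrix.charpoly_natDegree_eq_dim, Fintype.card_fin] at h4
  omega




section field2
variable {F : Type*} [Field F] [Fintype F] (hF : Fintype.card F = 2)
include hF

theorem eq_zero_or_one (x : F) : x = 0 ∨ x = 1 := by
  have h := FiniteField.pow_card x
  rw [hF] at h
  have : x * (x - 1) = 0 := by rw [mul_sub, mul_one, ← sq, h, sub_self]
  rcases mul_eq_zero.1 this with h | h
  · exact Or.inl h
  · exact Or.inr (sub_eq_zero.1 h)

theorem center_eq_bot (n : ℕ) : Subgroup.center (Matrix.SpecialLinearGroup (Fin n) F) = ⊥ := by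
  rw [eq_bot_iff]
  intro A hA
  rw [Matrix.SpecialLinearGroup.mem_center_iff] at hA
  obtain ⟨r, hr, hA⟩ := hA
  rw [Subgroup.mem_bot]
  rcases eq_zero_or_one hF r with rfl | rfl
  · rcases Nat.eq_zero_or_pos n with rfl | hn
    · apply Matrix.SpecialLinearGroup.ext
      intro i
      exact i.elim0
    · rw [Fintype.card_fin, zero_pow hn.ne'] at hr
      exact absurd hr zero_ne_one
  · apply Matrix.SpecialLinearGroup.ext
    intro i j
    rw [← hA]
    simp

theorem mk_injective (n : ℕ) :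
    Function.Injective (QuotientGroup.mk' (Subgroup.center (Matrix.SpecialLinearGroup (Fin n) F))) := by
  rw [← MonoidHom.ker_eq_bot_iff, QuotientGroup.ker_mk', center_eq_bot hF]

theorem det_eq_one (n : ℕ) (g : GL (Fin n) F) : (g : Matrix (Fin n) (Fin n) F).det = 1 := by
  rcases eq_zero_or_one hF (g : Matrix (Fin n) (Fin n) F).det with h | h
  · have := Matrix.GeneralLinearGroup.det_ne_zero g
    exact absurd h this
  · exact h

/-- the map `GL_n(F) → SL_n(F)` when `F` has two elements. -/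
def glToSL (n : ℕ) : GL (Fin n) F →* Matrix.SpecialLinearGroup (Fin n) F where
  toFun g := ⟨(g : Matrix (Fin n) (Fin n) F), det_eq_one hF n g⟩
  map_one' := by
    apply Matrix.SpecialLinearGroup.ext
    intro i j
    rfl
  map_mul' a b := by
    apply Matrix.SpecialLinearGroup.ext
    intro i j
    rfl

theorem glToSL_injective (n : ℕ) : Function.Injective (glToSL hF n) := by
  intro a b hab
  apply Units.ext
  have := congrArg (fun s : Matrix.SpecialLinearGroup (Fin n) F => (s : Matrix (Fin n) (Fin n) F)) hab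
  exact this

theorem two_eq_zero : (2 : F) = 0 := by
  have := Nat.cast_card_eq_zero F
  rw [hF] at this
  exact_mod_cast this

theorem odd_cast_ne_zero {r : ℕ} (hr : Odd r) : (r : F) ≠ 0 := by
  obtain ⟨t, rfl⟩ := hr
  have := two_eq_zero hF
  push_cast
  rw [this, zero_mul, zero_add]
  exact one_ne_zero

/-- (F2): elements of each order dividing `2^D - 1`, `1 ≤ D ≤ n`. -/
theorem exists_orderOf_eq (n D c : ℕ) (hD : 1 ≤ D) (hDn : D ≤ n) (hc : c ∣ 2 ^ D - 1) :
    ∃ g : Matrix.ProjectiveSpecialLinearGroup (Fin n) F, orderOf g = c := by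
  have hc' : c ∣ Fintype.card F ^ D - 1 := by rw [hF]; exact hc
  obtain ⟨φ, hφ⟩ := Cfsg.Agent.Lib.Helper5.SylTor.exists_torus_hom (F := F) n D hD hc'
  have hpos : 0 < n / D := Nat.div_pos hDn hD
  have hc0 : c ≠ 0 := by
    rintro rfl
    have h2 : 0 < 2 ^ D - 1 := by
      have : 2 ^ 1 ≤ 2 ^ D := Nat.pow_le_pow_right (by norm_num) hD
      omega
    have := Nat.eq_zero_of_zero_dvd hc
    omega
  have : NeZero c := ⟨hc0⟩
  let e : Fin (n / D) → Multiplicative (ZMod c) := Pi.mulSingle ⟨0, hpos⟩ (Multiplicative.ofAdd 1)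
  have he : orderOf e = c := by
    rw [orderOf_piMulSingle, orderOf_ofAdd_eq_addOrderOf, ZMod.addOrderOf_one]
  let ψ := (QuotientGroup.mk' (Subgroup.center (Matrix.SpecialLinearGroup (Fin n) F))).comp
    ((glToSL hF n).comp φ)
  have hψ : Function.Injective ψ :=
    (mk_injective hF n).comp ((glToSL_injective hF n).comp hφ)
  exact ⟨ψ e, by rw [orderOf_injective ψ hψ, he]⟩

/-- (F1). -/
theorem dvd_of_dvd_orderOf (n : ℕ) (g : Matrix.ProjectiveSpecialLinearGroup (Fin n) F)
    (r a : ℕ) (hr : r.Prime) (hr2 : r ≠ 2) (hra : r ^ (a + 1) ∣ orderOf g) :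
    ∃ d, 1 ≤ d ∧ d ≤ n ∧ r ^ (a + 1) ∣ 2 ^ d - 1 := by
  classical
  obtain ⟨s, rfl⟩ := QuotientGroup.mk_surjective g
  have ho : orderOf (QuotientGroup.mk s : Matrix.ProjectiveSpecialLinearGroup (Fin n) F) = orderOf s :=
    orderOf_injective (QuotientGroup.mk' _) (mk_injective hF n) s
  rw [ho] at hra
  have hs0 : orderOf s ≠ 0 := (orderOf_pos s).ne'
  set h := s ^ (orderOf s / r ^ (a + 1)) with hh
  have hord : orderOf h = r ^ (a + 1) := orderOf_pow_orderOf_div hs0 hra
  have h1 : h ^ r ^ (a + 1) = 1 := by rw [← hord]; exact pow_orderOf_eq_one h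
  have h2 : h ^ r ^ a ≠ 1 := by
    intro hcon
    have := orderOf_dvd_of_pow_eq_one hcon
    rw [hord] at this
    have := Nat.le_of_dvd (pow_pos hr.pos a) this
    have : r ^ a < r ^ (a + 1) := Nat.pow_lt_pow_right hr.one_lt (by omega)
    omega
  have hodd : Odd r := hr.odd_of_ne_two hr2
  have := exists_dvd_pow_sub_one (h : Matrix (Fin n) (Fin n) F) r a hr (odd_cast_ne_zero hF hodd)
    (by rw [← Matrix.SpecialLinearGroup.coe_pow, h1]; rfl)
    (by
      intro hcon
      apply h2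
      apply Matrix.SpecialLinearGroup.ext
      intro i j
      rw [Matrix.SpecialLinearGroup.coe_pow, hcon]
      rfl)
  rw [hF] at this
  exact this

end field2



theorem prime_pow_dvd_lcm {p e a b : ℕ} (hp : p.Prime) (ha : a ≠ 0) (hb : b ≠ 0)
    (h : p ^ e ∣ Nat.lcm a b) : p ^ e ∣ a ∨ p ^ e ∣ b := by
  have hl : Nat.lcm a b ≠ 0 := Nat.lcm_ne_zero ha hb
  rw [hp.pow_dvd_iff_le_factorization hl, Nat.factorization_lcm ha hb] at h
  rw [hp.pow_dvd_iff_le_factorization ha, hp.pow_dvd_iff_le_factorization hb]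
  simpa using h

theorem prime_pow_dvd_finset_lcm {ι : Type*} (s : Finset ι) (f : ι → ℕ) {p e : ℕ} (hp : p.Prime)
    (he : 1 ≤ e) (hf : ∀ i ∈ s, f i ≠ 0) (h : p ^ e ∣ s.lcm f) : ∃ i ∈ s, p ^ e ∣ f i := by
  classical
  induction s using Finset.induction_on with
  | empty =>
    simp at h
    exfalso
    have := hp.one_lt
    omega
  | insert i s hi ih =>
    rw [Finset.lcm_insert] at h
    have h1 : f i ≠ 0 := hf i (Finset.mem_insert_self _ _)
    have h2 : s.lcm f ≠ 0 := by
      rw [Ne, Finset.lcm_eq_zero_iff]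
      rintro ⟨j, hj, hj0⟩
      exact hf j (Finset.mem_insert_of_mem hj) hj0
    rcases prime_pow_dvd_lcm hp h1 h2 h with h | h
    · exact ⟨i, Finset.mem_insert_self _ _, h⟩
    · obtain ⟨j, hj, hjd⟩ := ih (fun j hj => hf j (Finset.mem_insert_of_mem hj)) h
      exact ⟨j, Finset.mem_insert_of_mem hj, hjd⟩




theorem mul_div_mem (n d : ℕ) (hd : 1 ≤ d) (hdn : d ≤ n) :
    n / 2 + 1 ≤ d * (n / d) ∧ d * (n / d) ≤ n := by
  have h1 := Nat.div_add_mod n d
  have h2 := Nat.mod_lt n hd
  have h3 : 1 ≤ n / d := Nat.div_pos hdn hd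
  have h4 : d ≤ d * (n / d) := Nat.le_mul_of_pos_right d h3
  constructor
  · omega
  · omega

theorem assemble {G : Type*} [Group G] [Finite G] (n : ℕ) (hn : 1 ≤ n)
    (F1 : ∀ (g : G) (r a : ℕ), r.Prime → r ≠ 2 → r ^ (a + 1) ∣ orderOf g →
      ∃ d, 1 ≤ d ∧ d ≤ n ∧ r ^ (a + 1) ∣ 2 ^ d - 1)
    (F2 : ∀ D c : ℕ, 1 ≤ D → D ≤ n → c ∣ 2 ^ D - 1 → ∃ g : G, orderOf g = c)
    (k : ℕ) (x : Fin k → G) : ∃ y : Fin ((n + 3) / 2) → G, orderOf y = orderOf x := by
  classical
  set m := orderOf x with hm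
  have hm0 : m ≠ 0 := (orderOf_pos x).ne'
  have hmlcm : m = Finset.univ.lcm (fun i => orderOf (x i)) := Pi.orderOf x
  set t := n - n / 2 with ht
  have hk' : (n + 3) / 2 = t + 1 := by omega
  have hY : ∀ j : ℕ, j < t → ∃ g : G, orderOf g = Nat.gcd m (2 ^ (n / 2 + 1 + j) - 1) := by
    intro j hj
    exact F2 (n / 2 + 1 + j) _ (by omega) (by omega) (Nat.gcd_dvd_right _ _)
  choose Y hYo using hY
  set E := m.factorization 2 with hE
  have hz : ∃ z : G, orderOf z = 2 ^ E := by
    rcases Nat.eq_zero_or_pos E with h0 | hpos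
    · exact ⟨1, by rw [h0, orderOf_one, pow_zero]⟩
    · have hdvd : 2 ^ E ∣ Finset.univ.lcm (fun i => orderOf (x i)) := by
        rw [← hmlcm]
        exact Nat.ordProj_dvd m 2
      obtain ⟨i, -, hi⟩ := prime_pow_dvd_finset_lcm Finset.univ _ Nat.prime_two hpos
        (fun i _ => (orderOf_pos (x i)).ne') hdvd
      exact ⟨x i ^ (orderOf (x i) / 2 ^ E), orderOf_pow_orderOf_div (orderOf_pos (x i)).ne' hi⟩
  obtain ⟨z, hzo⟩ := hz
  let y : Fin ((n + 3) / 2) → G := fun j => if h : j.val < t then Y j.val h else z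
  have hyo : orderOf y = Finset.univ.lcm (fun i => orderOf (y i)) := Pi.orderOf y
  refine ⟨y, Nat.dvd_antisymm ?_ ?_⟩
  · rw [hyo]
    apply Finset.lcm_dvd
    intro j _
    by_cases h : j.val < t
    · simp only [y, dif_pos h, hYo]
      exact Nat.gcd_dvd_left _ _
    · simp only [y, dif_neg h, hzo]
      exact Nat.ordProj_dvd m 2
  · rw [Nat.dvd_iff_prime_pow_dvd_dvd]
    intro p e hp hpe
    rcases Nat.eq_zero_or_pos e with rfl | he
    · simp
    by_cases hp2 : p = 2
    · subst hp2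
      have hle : e ≤ E := (Nat.prime_two.pow_dvd_iff_le_factorization hm0).1 hpe
      have h1 : orderOf (y ⟨t, by omega⟩) = 2 ^ E := by
        simp only [y, dif_neg (lt_irrefl t), hzo]
      have h2 : orderOf (y ⟨t, by omega⟩) ∣ orderOf y := orderOf_apply_dvd_orderOf _
      rw [h1] at h2
      exact (pow_dvd_pow 2 hle).trans h2
    · have hdvd : p ^ e ∣ Finset.univ.lcm (fun i => orderOf (x i)) := by
        rw [← hmlcm]; exact hpe
      obtain ⟨i, -, hi⟩ := prime_pow_dvd_finset_lcm Finset.univ _ hp he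
        (fun i _ => (orderOf_pos (x i)).ne') hdvd
      obtain ⟨a, rfl⟩ : ∃ a, e = a + 1 := ⟨e - 1, by omega⟩
      obtain ⟨d, hd1, hdn, hd⟩ := F1 (x i) p a hp hp2 hi
      obtain ⟨hD1, hD2⟩ := mul_div_mem n d hd1 hdn
      set D := d * (n / d) with hD
      have hdD : 2 ^ d - 1 ∣ 2 ^ D - 1 :=
        Nat.pow_sub_one_dvd_pow_sub_one 2 (Dvd.intro _ rfl)
      have hjt : D - (n / 2 + 1) < t := by omega
      have h1 : orderOf (y ⟨D - (n / 2 + 1), by omega⟩) = Nat.gcd m (2 ^ D - 1) := by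
        simp only [y, dif_pos hjt, hYo]
        congr 3
        omega
      have h2 : orderOf (y ⟨D - (n / 2 + 1), by omega⟩) ∣ orderOf y := orderOf_apply_dvd_orderOf _
      rw [h1] at h2
      exact (Nat.dvd_gcd hpe (hd.trans hdD)).trans h2




/-- Let F be the field with two elements, n ≥ 2, L = PSL(n, F) and k₀ = ⌊(n + 3)/2⌋. Then for every k ≥ k₀ the direct product of k copies of L has the same set of element orders as the direct product of k₀ copies of L. -/
theorem result {F : Type*} [Field F] [Fintype F] (hF : Fintype.card F = 2) (n k : ℕ) (hn : 2 ≤ n) (hk : (n + 3) / 2 ≤ k) :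
    Set.range (orderOf : (Fin k → Matrix.ProjectiveSpecialLinearGroup (Fin n) F) → ℕ) = Set.range (orderOf : (Fin ((n + 3) / 2) → Matrix.ProjectiveSpecialLinearGroup (Fin n) F) → ℕ) := by
  classical
  apply Set.eq_of_subset_of_subset
  · rintro _ ⟨x, rfl⟩
    obtain ⟨y, hy⟩ := assemble (G := Matrix.ProjectiveSpecialLinearGroup (Fin n) F) n (by omega)
      (fun g r a hr hr2 h => dvd_of_dvd_orderOf hF n g r a hr hr2 h)
      (fun D c hD hDn hc => exists_orderOf_eq hF n D c hD hDn hc) k x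
    exact ⟨y, hy⟩
  · rintro _ ⟨y, rfl⟩
    let ψ : (Fin ((n + 3) / 2) → Matrix.ProjectiveSpecialLinearGroup (Fin n) F) →*
        (Fin k → Matrix.ProjectiveSpecialLinearGroup (Fin n) F) :=
      { toFun := fun f i => if h : i.val < (n + 3) / 2 then f ⟨i.val, h⟩ else 1
        map_one' := by
          funext i
          by_cases h : i.val < (n + 3) / 2 <;> simp [h]
        map_mul' := by
          intro f g
          funext i
          by_cases h : i.val < (n + 3) / 2 <;> simp [h] }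
    have hψ : Function.Injective ψ := by
      intro f g hfg
      funext j
      have := congrFun hfg ⟨j.val, lt_of_lt_of_le j.2 hk⟩
      simpa [ψ] using this
    exact ⟨ψ y, orderOf_injective ψ hψ y⟩


end Cfsg.Agent.S2513
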