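import Cfsg.Statements.S2514
import Mathlib

set_option autoImplicit false
open Cfsg

namespace Cfsg.Agent.S2514

/-- The set of element orders that are maximal under divisibility. -/
def mu (X : Type*) [Group X] : Set ℕ :=
  {n : ℕ | n ∈ Set.range (orderOf : X → ℕ) ∧ ∀ m ∈ Set.range (orderOf : X → ℕ), n ∣ m → m = n}

/-- An element with prescribed order dividing the order of a given element. -/
theorem exists_orderOf_eq_of_dvd {X : Type*} [Group X] [Finite X] (y : X) (a : ℕ)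
    (ha : a ∣ orderOf y) : ∃ z : X, orderOf z = a := by
  obtain ⟨e, he⟩ := ha
  have hpos : 0 < orderOf y := orderOf_pos y
  have he0 : e ≠ 0 := by rintro rfl; omega
  have ha0 : 0 < a := by
    rcases Nat.eq_zero_or_pos a with h | h
    · rw [h] at he; omega
    · exact h
  refine ⟨y ^ e, ?_⟩
  rw [orderOf_pow_of_dvd he0 (by rw [he]; exact dvd_mul_left _ _), he]
  exact Nat.mul_div_cancel _ (Nat.pos_of_ne_zero he0)

/-- Every element order divides a maximal one. -/
theorem exists_mu_dvd {X : Type*} [Group X] [Finite X] (x : X) :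
    ∃ m ∈ mu X, orderOf x ∣ m := by
  classical
  have : Fintype X := Fintype.ofFinite X
  -- candidates: orders of elements that are multiples of orderOf x
  set S : Finset ℕ := (Finset.univ.image (orderOf : X → ℕ)).filter (fun b => orderOf x ∣ b) with hS
  have hne : S.Nonempty := ⟨orderOf x, by simp [hS]⟩
  set b := S.max' hne with hb
  have hbS : b ∈ S := Finset.max'_mem S hne
  rw [hS, Finset.mem_filter, Finset.mem_image] at hbS
  obtain ⟨⟨y, -, hy⟩, hxb⟩ := hbS
  refine ⟨b, ⟨⟨y, hy⟩, ?_⟩, hxb⟩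
  rintro c ⟨w, rfl⟩ hbc
  have hcS : orderOf w ∈ S := by
    rw [hS, Finset.mem_filter, Finset.mem_image]
    exact ⟨⟨w, Finset.mem_univ _, rfl⟩, hxb.trans hbc⟩
  have h1 : orderOf w ≤ b := Finset.le_max' S _ hcS
  have h2 : b ≤ orderOf w := Nat.le_of_dvd (orderOf_pos w) hbc
  omega

theorem orderOf_pi_dvd_iff {X : Type*} [Group X] {k : ℕ} (f : Fin k → X) (n : ℕ) :
    orderOf f ∣ n ↔ ∀ i, orderOf (f i) ∣ n := by
  simp only [orderOf_dvd_iff_pow_eq_one, funext_iff, Pi.pow_apply, Pi.one_apply]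

theorem orderOf_prod_dvd_iff {X Y : Type*} [Group X] [Group Y] (x : X) (y : Y) (n : ℕ) :
    orderOf (x, y) ∣ n ↔ orderOf x ∣ n ∧ orderOf y ∣ n := by
  simp only [orderOf_dvd_iff_pow_eq_one, Prod.ext_iff, Prod.pow_fst, Prod.pow_snd, Prod.fst_one,
    Prod.snd_one]

theorem eq_of_dvd_iff {a b : ℕ} (h : ∀ n, a ∣ n ↔ b ∣ n) : a = b :=
  Nat.dvd_antisymm ((h b).2 dvd_rfl) ((h a).1 dvd_rfl)

theorem main {G H : Type*} [Group G] [Finite G] [Group H] [Finite H] (k' : ℕ)
    (hsub : mu H ⊆ mu G) (hfew : (mu G \ mu H).ncard < k' + 1) :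
    Set.range (orderOf : (Fin (k' + 1) → G) → ℕ) =
      Set.range (orderOf : (Fin k' → G) × H → ℕ) := by
  classical
  ext N
  constructor
  · rintro ⟨x, rfl⟩
    -- choose maximal orders above each component
    choose m hm hxm using fun i => exists_mu_dvd (x i)
    by_cases hA : ∃ j, m j ∈ mu H
    · obtain ⟨j, hj⟩ := hA
      obtain ⟨h₀, hh₀⟩ := hj.1
      obtain ⟨h, hh⟩ := exists_orderOf_eq_of_dvd h₀ (orderOf (x j)) (by rw [hh₀]; exact hxm j)
      refine ⟨(fun l => x (j.succAbove l), h), ?_⟩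
      apply eq_of_dvd_iff
      intro n
      rw [orderOf_prod_dvd_iff, orderOf_pi_dvd_iff, orderOf_pi_dvd_iff, hh,
        Fin.forall_iff_succAbove j]
      tauto
    · push Not at hA
      have hT : ∀ i ∈ (Set.univ : Set (Fin (k' + 1))), m i ∈ mu G \ mu H :=
        fun i _ => ⟨hm i, hA i⟩
      have hfin : (mu G \ mu H).Finite := by
        apply Set.Finite.subset (Set.finite_range (orderOf : G → ℕ))
        intro a ha
        exact ha.1.1
      have hcard : (mu G \ mu H).ncard < (Set.univ : Set (Fin (k' + 1))).ncard := by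
        rw [Set.ncard_univ, Nat.card_eq_fintype_card, Fintype.card_fin]
        exact hfew
      obtain ⟨i, -, j, -, hij, hmij⟩ := Set.exists_ne_map_eq_of_ncard_lt_of_maps_to hcard hT hfin
      obtain ⟨y₀, hy₀⟩ := (hm i).1
      obtain ⟨z, hz⟩ := exists_orderOf_eq_of_dvd y₀ (Nat.lcm (orderOf (x i)) (orderOf (x j)))
        (by rw [hy₀]; exact Nat.lcm_dvd (hxm i) (hmij ▸ hxm j))
      obtain ⟨l₀, hl₀⟩ := Fin.exists_succAbove_eq hij
      refine ⟨(fun l => if j.succAbove l = i then z else x (j.succAbove l), 1), ?_⟩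
      apply eq_of_dvd_iff
      intro n
      rw [orderOf_prod_dvd_iff, orderOf_pi_dvd_iff, orderOf_pi_dvd_iff, orderOf_one,
        Fin.forall_iff_succAbove j]
      constructor
      · rintro ⟨h1, -⟩
        have hl := h1 l₀
        rw [if_pos hl₀, hz, Nat.lcm_dvd_iff] at hl
        refine ⟨hl.2, fun l => ?_⟩
        by_cases hli : j.succAbove l = i
        · rw [hli]; exact hl.1
        · have := h1 l
          rwa [if_neg hli] at this
      · rintro ⟨h1, h2⟩
        refine ⟨fun l => ?_, one_dvd _⟩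
        by_cases hli : j.succAbove l = i
        · rw [if_pos hli, hz]
          exact Nat.lcm_dvd (hli ▸ h2 l) h1
        · rw [if_neg hli]
          exact h2 l
  · rintro ⟨⟨f, h⟩, rfl⟩
    obtain ⟨m, hm, hhm⟩ := exists_mu_dvd h
    obtain ⟨y₀, hy₀⟩ := (hsub hm).1
    obtain ⟨h', hh'⟩ := exists_orderOf_eq_of_dvd y₀ (orderOf h) (by rw [hy₀]; exact hhm)
    refine ⟨Fin.cons h' f, ?_⟩
    apply eq_of_dvd_iff
    intro n
    rw [orderOf_prod_dvd_iff, orderOf_pi_dvd_iff, orderOf_pi_dvd_iff, Fin.forall_fin_succ]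
    simp only [Fin.cons_zero, Fin.cons_succ, hh']
    tauto

theorem result {G H : Type*} [Group G] [Finite G] [Group H] [Finite H] (k : ℕ) (hk : 1 ≤ k)
    (hsub : {n : ℕ | n ∈ Set.range (orderOf : H → ℕ) ∧ ∀ m ∈ Set.range (orderOf : H → ℕ), n ∣ m → m = n} ⊆ {n : ℕ | n ∈ Set.range (orderOf : G → ℕ) ∧ ∀ m ∈ Set.range (orderOf : G → ℕ), n ∣ m → m = n})
    (hfew : ({n : ℕ | n ∈ Set.range (orderOf : G → ℕ) ∧ ∀ m ∈ Set.range (orderOf : G → ℕ), n ∣ m → m = n} \ {n : ℕ | n ∈ Set.range (orderOf : H → ℕ) ∧ ∀ m ∈ Set.range (orderOf : H → ℕ), n ∣ m → m = n}).ncard < k) :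
    Set.range (orderOf : (Fin k → G) → ℕ) = Set.range (orderOf : (Fin (k - 1) → G) × H → ℕ) := by
  obtain ⟨k', rfl⟩ : ∃ k', k = k' + 1 := ⟨k - 1, by omega⟩
  exact main k' hsub hfew

end Cfsg.Agent.S2514
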