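import Cfsg.Statements.S2516
import Mathlib

set_option autoImplicit false
open Cfsg

namespace Cfsg.Agent.S2516

variable {F : Type*} [Field F] {V : Type*} [AddCommGroup V] [Module F V]
  {G : Type*} [Group G] (ρ : Representation F G V)

/-- The action used to form the semidirect product. -/
noncomputable abbrev phi : G →* MulAut (Multiplicative V) :=
  (MulAutMultiplicative V).symm.toMonoidHom.comp
    ((DistribMulAction.toAddAut ((V →ₗ[F] V)ˣ) V).comp ρ.asGroupHom)

theorem phi_apply (g : G) (v : V) :
    phi ρ g (Multiplicative.ofAdd v) = Multiplicative.ofAdd (ρ g v) := rfl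

/-- Partial geometric sums of an endomorphism. -/
noncomputable def gsum (f : V →ₗ[F] V) (n : ℕ) : V →ₗ[F] V := ∑ i ∈ Finset.range n, f ^ i

theorem pow_eq (x : Multiplicative V ⋊[phi ρ] G) (n : ℕ) :
    x ^ n = ⟨Multiplicative.ofAdd (gsum (ρ x.right) n (Multiplicative.toAdd x.left)), x.right ^ n⟩ := by
  induction n with
  | zero =>
    ext
    · simp [gsum]
    · simp
  | succ n ih =>
    rw [pow_succ, ih]
    ext
    · rw [SemidirectProduct.mul_left]
      simp only
      have hx : x.left = Multiplicative.ofAdd (Multiplicative.toAdd x.left) := rfl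
      conv_lhs => rw [hx, phi_apply, map_pow]
      rw [← ofAdd_add]
      congr 1
      simp [gsum, Finset.sum_range_succ, Module.End.pow_apply]
    · rw [SemidirectProduct.mul_right]
      simp [pow_succ]

theorem pow_pow_eq (x : Multiplicative V ⋊[phi ρ] G) (k j : ℕ) (hk : x.right ^ k = 1) :
    x ^ (k * j) = ⟨Multiplicative.ofAdd (j • (gsum (ρ x.right) k (Multiplicative.toAdd x.left))), 1⟩ := by
  induction j with
  | zero =>
    ext
    · simp
    · simp
  | succ j ih =>
    rw [Nat.mul_succ, pow_add, ih, pow_eq ρ x k, hk]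
    ext
    · rw [SemidirectProduct.mul_left]
      simp only [map_one, MulAut.one_apply]
      rw [← ofAdd_add, succ_nsmul]
    · rw [SemidirectProduct.mul_right]
      simp

theorem result {F : Type*} [Field F] (p : ℕ) [Fact p.Prime] [CharP F p] {V : Type*} [AddCommGroup V] [Module F V] [FiniteDimensional F V] [Nontrivial V]
    {G : Type*} [Group G] [Finite G] (ρ : Representation F G V) (g : G) :
    (∃ x : Multiplicative V ⋊[(MulAutMultiplicative V).symm.toMonoidHom.comp
        ((DistribMulAction.toAddAut ((V →ₗ[F] V)ˣ) V).comp ρ.asGroupHom)] G,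
        x.right = g ∧ orderOf x = p * orderOf g) ↔
      ¬ (minpoly F (ρ g) ∣ ∑ i ∈ Finset.range (orderOf g), (Polynomial.X : Polynomial F) ^ i) := by
  have hp : p.Prime := Fact.out
  set k := orderOf g with hk
  have hkpos : 0 < k := orderOf_pos g
  have haeval : Polynomial.aeval (ρ g) (∑ i ∈ Finset.range k, (Polynomial.X : Polynomial F) ^ i)
      = gsum (ρ g) k := by
    simp [gsum, map_sum]
  rw [minpoly.dvd_iff, haeval]
  -- key: order of ⟨v, g⟩
  have key : ∀ v : V, orderOf (⟨Multiplicative.ofAdd v, g⟩ : Multiplicative V ⋊[phi ρ] G) = p * k ↔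
      gsum (ρ g) k v ≠ 0 := by
    intro v
    set x : Multiplicative V ⋊[phi ρ] G := ⟨Multiplicative.ofAdd v, g⟩ with hx
    have hxr : x.right = g := rfl
    have hxl : Multiplicative.toAdd x.left = v := rfl
    have hgk : x.right ^ k = 1 := by rw [hxr]; exact pow_orderOf_eq_one g
    have hxk : x ^ k = ⟨Multiplicative.ofAdd (gsum (ρ g) k v), 1⟩ := by
      rw [pow_eq ρ x k, hgk, hxr, hxl]
    have hxkp : x ^ (k * p) = 1 := by
      rw [pow_pow_eq ρ x k p hgk, hxr, hxl]
      have : p • (gsum (ρ g) k v) = 0 := by
        rw [← Nat.cast_smul_eq_nsmul F, CharP.cast_eq_zero, zero_smul]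
      rw [this]
      rfl
    have hdvd1 : k ∣ orderOf x := by
      have := orderOf_map_dvd (SemidirectProduct.rightHom : Multiplicative V ⋊[phi ρ] G →* G) x
      simpa [hk] using this
    have hdvd2 : orderOf x ∣ k * p := orderOf_dvd_of_pow_eq_one hxkp
    constructor
    · intro hord hzero
      have : x ^ k = 1 := by rw [hxk, hzero]; rfl
      have h3 : orderOf x ∣ k := orderOf_dvd_of_pow_eq_one this
      rw [hord] at h3
      have := Nat.le_of_dvd hkpos h3
      have hp2 := hp.two_le
      nlinarith
    · intro hne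
      obtain ⟨d, hd⟩ := hdvd1
      rw [hd] at hdvd2
      have hdp : d ∣ p := Nat.dvd_of_mul_dvd_mul_left hkpos hdvd2
      rcases (Nat.dvd_prime hp).1 hdp with h1 | h1
      · exfalso
        apply hne
        rw [h1, mul_one] at hd
        have := pow_orderOf_eq_one x
        rw [hd, hxk] at this
        have h4 := congrArg SemidirectProduct.left this
        simpa using h4
      · rw [hd, h1, mul_comm]
  constructor
  · rintro ⟨x, hxr, hord⟩ hzero
    have hx : x = ⟨Multiplicative.ofAdd (Multiplicative.toAdd x.left), g⟩ := by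
      ext
      · rfl
      · exact hxr
    rw [hx] at hord
    have := (key _).1 hord
    apply this
    rw [hzero]
    rfl
  · intro hne
    obtain ⟨v, hv⟩ : ∃ v, gsum (ρ g) k v ≠ 0 := by
      by_contra hcon
      push Not at hcon
      apply hne
      ext v
      simpa using hcon v
    exact ⟨⟨Multiplicative.ofAdd v, g⟩, rfl, (key v).2 hv⟩

end Cfsg.Agent.S2516
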