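import Cfsg.Statements.S2521

set_option autoImplicit false
open Cfsg

namespace Cfsg.Agent.S2521

theorem result {B : Type*} [Group B] [Finite B] (U T : Subgroup B) [U.Normal] (hU : Group.IsNilpotent ↥U) (hT : IsMulCommutative ↥T)
    (hcompl : Subgroup.IsComplement' U T) (t : B) (ht : t ∈ T) (hreg : Subgroup.centralizer ({t} : Set B) = T) (u : B) (hu : u ∈ U) :
    ∃ b : B, b * t * b⁻¹ = t * u := by
  classical
  -- the map U → U, v ↦ t⁻¹ * v * t * v⁻¹ is injective hence surjective
  have hmem : ∀ v : U, t⁻¹ * (v : B) * t * (v : B)⁻¹ ∈ U := by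
    intro v
    have h1 : t⁻¹ * (v : B) * t ∈ U := by
      have := ‹U.Normal›.conj_mem (v : B) v.2 t⁻¹
      simpa using this
    exact U.mul_mem h1 (U.inv_mem v.2)
  let f : U → U := fun v => ⟨t⁻¹ * (v : B) * t * (v : B)⁻¹, hmem v⟩
  have hdisj : ∀ x : B, x ∈ U → x ∈ T → x = 1 := by
    intro x hxU hxT
    have := hcompl.disjoint
    rw [Subgroup.disjoint_def] at this
    exact this hxU hxT
  have hinj : Function.Injective f := by
    intro v w hvw
    have h1 : t⁻¹ * (v : B) * t * (v : B)⁻¹ = t⁻¹ * (w : B) * t * (w : B)⁻¹ := congrArg Subtype.val hvw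
    -- then w⁻¹ v commutes with t
    have h2 : ((w : B)⁻¹ * (v : B)) * t = t * ((w : B)⁻¹ * (v : B)) := by
      have h3 : (v : B) * t * (v : B)⁻¹ = (w : B) * t * (w : B)⁻¹ := by
        have := congrArg (fun x => t * x) h1
        simpa [mul_assoc] using this
      calc ((w : B)⁻¹ * (v : B)) * t = (w : B)⁻¹ * ((v : B) * t * (v : B)⁻¹) * (v : B) := by group
        _ = (w : B)⁻¹ * ((w : B) * t * (w : B)⁻¹) * (v : B) := by rw [h3]
        _ = _ := by group
    have h4 : (w : B)⁻¹ * (v : B) ∈ Subgroup.centralizer ({t} : Set B) := by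
      rw [Subgroup.mem_centralizer_iff]
      intro x hx
      rw [Set.mem_singleton_iff] at hx
      subst hx
      exact h2.symm
    rw [hreg] at h4
    have h5 : (w : B)⁻¹ * (v : B) ∈ U := U.mul_mem (U.inv_mem w.2) v.2
    have h6 := hdisj _ h5 h4
    apply Subtype.ext
    have : (v : B) = (w : B) * ((w : B)⁻¹ * (v : B)) := by group
    rw [this, h6, mul_one]
  have hsurj : Function.Surjective f := Finite.surjective_of_injective hinj
  obtain ⟨v, hv⟩ := hsurj ⟨u, hu⟩
  have hv' : t⁻¹ * (v : B) * t * (v : B)⁻¹ = u := congrArg Subtype.val hv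
  refine ⟨(v : B), ?_⟩
  rw [← hv']; group

end Cfsg.Agent.S2521
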