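import Cfsg.Statements.S2531
import Cfsg.Agent.Lib.Helper5.ProjHyp
import Cfsg.Agent.Lib.Helper5.SharpCount

set_option autoImplicit false
open Cfsg

namespace Cfsg.Agent.S2531
open Cfsg.Agent.Lib.Helper5.ProjHyp Cfsg.Agent.Lib.Helper5.SharpCount Module in

/-- Let `F` be a finite field and `n ≥ 3`. No set of permutations of the points of the projective space of `Fⁿ`, each induced by an invertible semilinear transformation of `Fⁿ` (so a subset of the full projective semilinear group), is sharply 2-transitive on the points: it is impossible that for all pairs of distinct points `(a, b)` and `(c, d)` exactly one member of the set sends `a` to `c` and `b` to `d`. -/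
theorem result {F : Type*} [Field F] [Finite F]
    (n : ℕ) (hn : 3 ≤ n) (S : Set (Equiv.Perm (Projectivization F (Fin n → F))))
    (hS : ∀ s ∈ S, ∃ (σ : F ≃+* F) (f : (Fin n → F) →ₛₗ[(σ : F →+* F)] (Fin n → F)) (hf : Function.Injective f),
      ∀ x, s x = Projectivization.map f hf x) :
    ¬ (∀ a b c d : Projectivization F (Fin n → F), a ≠ b → c ≠ d →
        ∃! s, s ∈ S ∧ s a = c ∧ s b = d) := by
  classical
  intro hsharp
  haveI : Fintype F := Fintype.ofFinite F
  haveI : Fintype (Projectivization F (Fin n → F)) := Fintype.ofFinite _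
  set q := Nat.card F with hqdef
  have hq2 : 2 ≤ q := by
    rw [hqdef, Nat.card_eq_fintype_card]; exact Fintype.one_lt_card
  have hfr : finrank F (Fin n → F) = n := Module.finrank_fin_fun F
  -- a point
  have hv0 : (Pi.single (⟨0, by omega⟩ : Fin n) (1 : F) : Fin n → F) ≠ 0 := by
    intro h
    have := congrFun h ⟨0, by omega⟩
    simp at this
  set a : Projectivization F (Fin n → F) := Projectivization.mk F _ hv0 with hadef
  obtain ⟨h0, hh0, ha0⟩ := exists_hyperplane_not_mem a
  rw [hfr] at hh0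
  -- counts
  have hk := card_pts_finrank h0
  have hvcard : Nat.card (Fin n → F) - 1 = Nat.card (Projectivization F (Fin n → F)) * (q - 1) :=
    Projectivization.card (k := F) (V := Fin n → F)
  have hVc : Nat.card (Fin n → F) = q ^ n := by
    rw [Nat.card_fun, Nat.card_eq_fintype_card (α := Fin n), Fintype.card_fin]
  rw [hVc] at hvcard
  have hfr0 : finrank F h0 = n - 1 := by omega
  rw [hfr0, ← hqdef] at hk
  -- finsets
  set H0 : Finset (Projectivization F (Fin n → F)) := Finset.univ.filter (fun x => x ∈ pts h0) with hH0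
  have hH0card : H0.card = Nat.card (pts h0) := by
    rw [Nat.card_eq_fintype_card, Fintype.card_subtype]
  set k := Nat.card (pts h0) with hkdef
  set Sa : Finset (Equiv.Perm (Projectivization F (Fin n → F))) :=
    Finset.univ.filter (fun s => s ∈ S ∧ s a = a) with hSadef
  have hSa_mem : ∀ s, s ∈ Sa ↔ s ∈ S ∧ s a = a := by
    intro s; simp [hSadef]
  have huniq : ∀ b, b ≠ a → ∀ d, d ≠ a → ∃! s, s ∈ Sa ∧ s b = d := by
    intro b hb d hd
    obtain ⟨s, ⟨hs1, hs2, hs3⟩, hsu⟩ := hsharp a b a d hb.symm hd.symm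
    refine ⟨s, ⟨(hSa_mem s).mpr ⟨hs1, hs2⟩, hs3⟩, ?_⟩
    rintro t ⟨ht1, ht2⟩
    exact hsu t ⟨((hSa_mem t).mp ht1).1, ((hSa_mem t).mp ht1).2, ht2⟩
  have haH0 : a ∉ H0 := by simp [hH0, ha0]
  -- the number l
  have hq1pos : 0 < q - 1 := by omega
  have hpow1 : 1 ≤ q ^ (n - 1) := Nat.one_le_pow _ _ (by omega)
  have hpow2 : 1 ≤ q ^ (n - 2) := Nat.one_le_pow _ _ (by omega)
  have hpown : 1 ≤ q ^ n := Nat.one_le_pow _ _ (by omega)
  set l := (q ^ (n - 2) - 1) / (q - 1) with hldef
  have hgoodbad : ∀ s ∈ Sa, (¬ ∀ x ∈ pts h0, s x ∈ pts h0) →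
      (H0.filter (fun b => s b ∈ H0)).card = l ∧ l * (q - 1) = q ^ (n - 2) - 1 := by
    intro s hs hbad
    obtain ⟨σ, f, hf, hsf⟩ := hS s ((hSa_mem s).mp hs).1
    obtain ⟨W', hW'1, hW'2⟩ := exists_comap f hf h0
    have hne : h0 ≠ W' := by
      rintro rfl
      apply hbad
      intro x hx
      rw [hsf x, ← hW'2]
      exact hx
    have hinf := finrank_inf_of_ne h0 W' (by rw [hfr]; omega) (by rw [hW'1, hfr]; omega) hne
    rw [hfr] at hinf
    have hcnt := card_pts_finrank (h0 ⊓ W')
    have hfi : finrank F ↥(h0 ⊓ W') = n - 2 := by omega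
    rw [hfi, ← hqdef] at hcnt
    have hfilt : (H0.filter (fun b => s b ∈ H0)).card = Nat.card (pts (h0 ⊓ W')) := by
      rw [Nat.card_eq_fintype_card, Fintype.card_subtype]
      congr 1
      ext x
      simp only [hH0, Finset.mem_filter, Finset.mem_univ, true_and, pts_inf, Set.mem_inter_iff]
      rw [hW'2 x, ← hsf x]
    have hl : Nat.card (pts (h0 ⊓ W')) = l := by
      rw [hldef, ← hcnt, Nat.mul_div_cancel _ hq1pos]
    rw [hfilt, hl]
    exact ⟨rfl, by rw [← hl]; exact hcnt⟩
  -- H0 nonempty, get b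
  have hkpos : 0 < k := by
    rcases Nat.eq_zero_or_pos k with h | h
    · rw [h, zero_mul] at hk
      have : 2 ≤ q ^ (n - 1) := by
        calc 2 ≤ q := hq2
          _ = q ^ 1 := (pow_one q).symm
          _ ≤ q ^ (n - 1) := Nat.pow_le_pow_right (by omega) (by omega)
      omega
    · exact h
  obtain ⟨b, hb⟩ : H0.Nonempty := by
    rw [← Finset.card_pos, hH0card]; exact hkpos
  have hba : b ≠ a := fun h => haH0 (h ▸ hb)
  have hSacard := card_Sa Sa a a huniq (fun s hs => ((hSa_mem s).mp hs).2) b hba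
  · have hlq : l * (q - 1) = q ^ (n - 2) - 1 :=
      Nat.div_mul_cancel (by simpa using Nat.sub_dvd_pow_sub_pow (x := q) (y := 1) (n := n - 2))
    have hmain := count_core Sa a a huniq H0 H0 haH0 haH0 k l hH0card hH0card
      (fun s => ∀ x ∈ pts h0, s x ∈ pts h0)
      (by
        intro s _ hgood
        rw [← hH0card]
        congr 1
        apply Finset.filter_true_of_mem
        intro x hx
        have hx' : x ∈ pts h0 := by simpa [hH0] using hx
        simpa [hH0] using hgood x hx')
      (fun s hs hbad => (hgoodbad s hs hbad).1)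
    have hxy := Finset.card_filter_add_card_filter_not (s := Sa) (fun s => ∀ x ∈ pts h0, s x ∈ pts h0)
    set x := (Sa.filter (fun s => ∀ x ∈ pts h0, s x ∈ pts h0)).card
    set y := (Sa.filter (fun s => ¬ ∀ x ∈ pts h0, s x ∈ pts h0)).card
    rw [hSacard] at hxy
    set v := Fintype.card (Projectivization F (Fin n → F)) with hvdef
    rw [Nat.card_eq_fintype_card, ← hvdef] at hvcard
    -- cast everything to ℤ
    have hn2 : n = (n - 2) + 2 := by omega
    have hn1 : n - 1 = (n - 2) + 1 := by omega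
    have e1 : ((q : ℤ) - 1) * (k : ℤ) = (q : ℤ) * ((q : ℤ) ^ (n - 2)) - 1 := by
      have : k * (q - 1) + 1 = q ^ (n - 1) := by omega
      rw [hn1, pow_succ] at this
      have h2 : ((q - 1 : ℕ) : ℤ) = (q : ℤ) - 1 := by
        rw [Nat.cast_sub (by omega)]; simp
      have := congrArg (Nat.cast : ℕ → ℤ) this
      push_cast at this
      rw [h2] at this
      linear_combination this
    have e2 : ((q : ℤ) - 1) * (l : ℤ) = ((q : ℤ) ^ (n - 2)) - 1 := by
      have : l * (q - 1) + 1 = q ^ (n - 2) := by omega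
      have h2 : ((q - 1 : ℕ) : ℤ) = (q : ℤ) - 1 := by
        rw [Nat.cast_sub (by omega)]; simp
      have := congrArg (Nat.cast : ℕ → ℤ) this
      push_cast at this
      rw [h2] at this
      linear_combination this
    have e3 : ((q : ℤ) - 1) * (v : ℤ) = (q : ℤ) * (q : ℤ) * ((q : ℤ) ^ (n - 2)) - 1 := by
      have : v * (q - 1) + 1 = q ^ n := by omega
      rw [hn2, pow_succ, pow_succ] at this
      have h2 : ((q - 1 : ℕ) : ℤ) = (q : ℤ) - 1 := by
        rw [Nat.cast_sub (by omega)]; simp
      have := congrArg (Nat.cast : ℕ → ℤ) this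
      push_cast at this
      rw [h2] at this
      linear_combination this
    have hvpos : 1 ≤ v := by
      rw [hvdef]; exact Fintype.card_pos_iff.mpr ⟨a⟩
    have e4 : (x : ℤ) + (y : ℤ) = (v : ℤ) - 1 := by
      have := congrArg (Nat.cast : ℕ → ℤ) hxy
      push_cast at this
      rw [this, Nat.cast_sub hvpos]; simp
    have e5 : (k : ℤ) * (k : ℤ) = (k : ℤ) * (x : ℤ) + (l : ℤ) * (y : ℤ) := by
      have := congrArg (Nat.cast : ℕ → ℤ) hmain
      push_cast at this
      exact this
    exact arith_false (q : ℤ) ((q : ℤ) ^ (n - 2)) k l v x y (by exact_mod_cast hq2)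
      (dvd_pow_self _ (by omega)) e1 e2 e3 e5 e4

end Cfsg.Agent.S2531
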