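import Cfsg.Statements.S2532


set_option autoImplicit false
open Cfsg

namespace Cfsg.Agent.S2532


section points
variable {G X : Type*} [Group G] [Finite G] [MulAction G X] [Fintype X] [DecidableEq X]

/-- Many points force `r` points in distinct orbits with a common stabilizer. -/
theorem exists_points (r : ℕ) (hm : 2 ^ Nat.card G * (Nat.card G * r) ≤ Fintype.card X) :
    ∃ (K : Subgroup G) (x : Fin r → X), (∀ i, MulAction.stabilizer G (x i) = K) ∧
      ∀ i j, x i ∈ MulAction.orbit G (x j) → i = j := by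
  classical
  have : Fintype G := Fintype.ofFinite G
  have : Fintype (Subgroup G) := Fintype.ofFinite _
  have hG : 1 ≤ Nat.card G := Nat.card_pos
  have hcard : Fintype.card (Subgroup G) ≤ 2 ^ Nat.card G := by
    calc Fintype.card (Subgroup G) ≤ Fintype.card (Set G) :=
          Fintype.card_le_of_injective _ SetLike.coe_injective
      _ = 2 ^ Fintype.card G := Fintype.card_set
      _ = 2 ^ Nat.card G := by rw [Nat.card_eq_fintype_card]
  obtain ⟨K, hK⟩ := Fintype.exists_le_card_fiber_of_mul_le_card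
    (f := fun x : X => MulAction.stabilizer G x) (n := Nat.card G * r)
    (le_trans (Nat.mul_le_mul_right _ hcard) hm)
  set Y := Finset.univ.filter (fun x : X => MulAction.stabilizer G x = K) with hY
  set π : X → MulAction.orbitRel.Quotient G X := Quotient.mk'' with hπ
  have hfib : ∀ ω ∈ Y.image π, (Y.filter (fun x => π x = ω)).card ≤ Nat.card G := by
    intro ω hω
    obtain ⟨y, -, rfl⟩ := Finset.mem_image.1 hω
    have hsub : Y.filter (fun x => π x = π y) ⊆ Finset.univ.image (fun g : G => g • y) := by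
      intro x hx
      rw [Finset.mem_filter] at hx
      have h1 : (MulAction.orbitRel G X) x y := Quotient.eq''.1 hx.2
      rw [MulAction.orbitRel_apply] at h1
      obtain ⟨g, hg⟩ := h1
      exact Finset.mem_image.2 ⟨g, Finset.mem_univ _, hg⟩
    calc (Y.filter (fun x => π x = π y)).card ≤ (Finset.univ.image (fun g : G => g • y)).card :=
          Finset.card_le_card hsub
      _ ≤ (Finset.univ : Finset G).card := Finset.card_image_le
      _ = Nat.card G := by rw [Finset.card_univ, Nat.card_eq_fintype_card]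
  have h1 := Finset.card_le_mul_card_image Y (Nat.card G) hfib
  have hr : r ≤ (Y.image π).card := by
    have h2 : Nat.card G * r ≤ Nat.card G * (Y.image π).card := le_trans hK h1
    exact Nat.le_of_mul_le_mul_left h2 hG
  obtain ⟨T, hTsub, hTcard⟩ := Finset.exists_subset_card_eq hr
  have e : Fin r ≃ T := (Finset.equivFinOfCardEq hTcard).symm
  have hex : ∀ i : Fin r, ∃ y ∈ Y, π y = (e i : MulAction.orbitRel.Quotient G X) := by
    intro i
    exact Finset.mem_image.1 (hTsub (e i).2)
  choose x hxY hxπ using hex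
  refine ⟨K, x, fun i => ?_, fun i j hij => ?_⟩
  · have := hxY i
    rw [hY, Finset.mem_filter] at this
    exact this.2
  · have h2 : π (x i) = π (x j) := by
      apply Quotient.eq''.2
      rw [MulAction.orbitRel_apply]
      exact hij
    rw [hxπ, hxπ] at h2
    exact e.injective (Subtype.ext h2)

end points

section hom
variable {G X : Type*} [Group G] [MulAction G X]

/-- The orbit map on `r` copies of `G ⧸ K`. -/
def Phi (K : Subgroup G) {r : ℕ} (x : Fin r → X)
    (hK : ∀ i, MulAction.stabilizer G (x i) = K) : Fin r × (G ⧸ K) → X :=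
  fun p => Quotient.liftOn' p.2 (fun g => g • x p.1) (by
    intro a b hab
    rw [QuotientGroup.leftRel_apply] at hab
    have h1 : a⁻¹ * b ∈ MulAction.stabilizer G (x p.1) := by rw [hK]; exact hab
    rw [MulAction.mem_stabilizer_iff, mul_smul, inv_smul_eq_iff] at h1
    exact h1.symm)

theorem Phi_mk (K : Subgroup G) {r : ℕ} (x : Fin r → X)
    (hK : ∀ i, MulAction.stabilizer G (x i) = K) (i : Fin r) (g : G) :
    Phi K x hK (i, (g : G ⧸ K)) = g • x i := rfl

theorem Phi_injective (K : Subgroup G) {r : ℕ} (x : Fin r → X)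
    (hK : ∀ i, MulAction.stabilizer G (x i) = K)
    (hx : ∀ i j, x i ∈ MulAction.orbit G (x j) → i = j) : Function.Injective (Phi K x hK) := by
  rintro ⟨i, a⟩ ⟨j, b⟩ h
  induction a using QuotientGroup.induction_on with
  | H a =>
  induction b using QuotientGroup.induction_on with
  | H b =>
  rw [Phi_mk, Phi_mk] at h
  have hij : i = j := by
    apply hx i j
    refine ⟨a⁻¹ * b, ?_⟩
    show (a⁻¹ * b) • x j = x i
    rw [mul_smul, ← h, inv_smul_smul]
  subst hij
  congr 1
  apply QuotientGroup.eq.2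
  rw [← hK i, MulAction.mem_stabilizer_iff, mul_smul, ← h, inv_smul_smul]

theorem Phi_smul (K : Subgroup G) {r : ℕ} (x : Fin r → X)
    (hK : ∀ i, MulAction.stabilizer G (x i) = K) (g : G) (i : Fin r) (c : G ⧸ K) :
    Phi K x hK (i, g • c) = g • Phi K x hK (i, c) := by
  induction c using QuotientGroup.induction_on with
  | H a =>
  rw [MulAction.Quotient.smul_mk, Phi_mk, Phi_mk, smul_eq_mul, mul_smul]

/-- Permutations acting on the first factor. -/
def leftHom (A B : Type*) : Equiv.Perm A →* Equiv.Perm (A × B) where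
  toFun σ := Equiv.prodCongr σ (Equiv.refl B)
  map_one' := by ext <;> rfl
  map_mul' σ τ := by ext <;> rfl

theorem leftHom_apply (A B : Type*) (σ : Equiv.Perm A) (a : A) (b : B) :
    leftHom A B σ (a, b) = (σ a, b) := rfl

theorem leftHom_injective (A B : Type*) [Nonempty B] : Function.Injective (leftHom A B) := by
  intro σ τ h
  obtain ⟨b⟩ := ‹Nonempty B›
  ext a
  have := congrArg (fun f : Equiv.Perm (A × B) => (f (a, b)).1) h
  exact this

theorem sign_leftHom (A B : Type*) [Fintype A] [DecidableEq A] [Fintype B] [DecidableEq B]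
    (σ : Equiv.Perm A) (hσ : Equiv.Perm.sign σ = 1) :
    Equiv.Perm.sign (leftHom A B σ) = 1 := by
  have h1 : leftHom A B σ = Equiv.prodCongrLeft (fun _ : B => σ) := by
    ext ⟨a, b⟩ <;> rfl
  rw [h1, Equiv.Perm.sign_prodCongrLeft]
  simp [hσ]

end hom

section main
variable {G X : Type*} [Group G] [Finite G] [MulAction G X] [Fintype X] [DecidableEq X]

theorem exists_hom (r : ℕ) (hm : 2 ^ Nat.card G * (Nat.card G * r) ≤ Fintype.card X) :
    ∃ ψ : Equiv.Perm (Fin r) →* Equiv.Perm X, Function.Injective ψ ∧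
      (∀ σ (g : G) y, ψ σ (g • y) = g • ψ σ y) ∧
      ∀ σ, Equiv.Perm.sign σ = 1 → Equiv.Perm.sign (ψ σ) = 1 := by
  classical
  obtain ⟨K, x, hK, hx⟩ := exists_points (G := G) (X := X) r hm
  have : Fintype (G ⧸ K) := Fintype.ofFinite _
  set ι : Fin r × (G ⧸ K) ↪ X := ⟨Phi K x hK, Phi_injective K x hK hx⟩ with hι
  refine ⟨(Equiv.Perm.viaEmbeddingHom ι).comp (leftHom (Fin r) (G ⧸ K)),
    (Equiv.Perm.viaEmbeddingHom_injective ι).comp (leftHom_injective _ _), ?_, ?_⟩
  · intro σ g y
    rw [MonoidHom.comp_apply, Equiv.Perm.viaEmbeddingHom_apply]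
    by_cases hy : y ∈ Set.range ι
    · obtain ⟨⟨i, c⟩, rfl⟩ := hy
      have h1 : g • ι (i, c) = ι (i, g • c) := (Phi_smul K x hK g i c).symm
      rw [h1, Equiv.Perm.viaEmbedding_apply, Equiv.Perm.viaEmbedding_apply, leftHom_apply,
        leftHom_apply]
      exact Phi_smul K x hK g (σ i) c
    · have hy' : g • y ∉ Set.range ι := by
        rintro ⟨⟨i, c⟩, hic⟩
        apply hy
        refine ⟨(i, g⁻¹ • c), ?_⟩
        have h2 : ι (i, g⁻¹ • c) = g⁻¹ • ι (i, c) := Phi_smul K x hK g⁻¹ i c
        rw [h2, hic, inv_smul_smul]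
      rw [Equiv.Perm.viaEmbedding_apply_of_notMem _ _ _ hy,
        Equiv.Perm.viaEmbedding_apply_of_notMem _ _ _ hy']
  · intro σ hσ
    rw [MonoidHom.comp_apply, Equiv.Perm.viaEmbeddingHom_apply, Equiv.Perm.viaEmbedding,
      Equiv.Perm.sign_extendDomain]
    exact sign_leftHom _ _ σ hσ

end main



/-- There is a function `f` of two natural-number arguments such that, whenever `m ≥ f(n, r)`, every subgroup of order `n` of the alternating group of degree `m` centralizes some subgroup of that alternating group isomorphic to the alternating group of degree `r`. -/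
theorem result :
    ∃ f : ℕ → ℕ → ℕ, ∀ (m r : ℕ) (H : Subgroup ↥(alternatingGroup (Fin m))), f (Nat.card H) r ≤ m →
      ∃ K : Subgroup ↥(alternatingGroup (Fin m)), Nonempty (↥K ≃* ↥(alternatingGroup (Fin r))) ∧
        K ≤ Subgroup.centralizer (H : Set ↥(alternatingGroup (Fin m))) := by
  refine ⟨fun n r => 2 ^ n * (n * r), ?_⟩
  intro m r H hm
  obtain ⟨ψ, hinj, hcomm, hsign⟩ := exists_hom (G := ↥H) (X := Fin m) r
    (by rw [Fintype.card_fin]; exact hm)
  set ψ' : ↥(alternatingGroup (Fin r)) →* ↥(alternatingGroup (Fin m)) :=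
    (ψ.comp (alternatingGroup (Fin r)).subtype).codRestrict _ (fun σ =>
      Equiv.Perm.mem_alternatingGroup.2 (hsign _ (Equiv.Perm.mem_alternatingGroup.1 σ.2)))
    with hψ'
  have hinj' : Function.Injective ψ' := by
    intro a b hab
    apply Subtype.ext
    apply hinj
    exact congrArg Subtype.val hab
  refine ⟨ψ'.range, ⟨(MonoidHom.ofInjective hinj').symm⟩, ?_⟩
  rintro _ ⟨σ, rfl⟩
  rw [Subgroup.mem_centralizer_iff]
  intro h hh
  apply Subtype.ext
  ext y
  have h1 := hcomm σ ⟨h, hh⟩ y
  have h2 : ((h * ψ' σ : ↥(alternatingGroup (Fin m))) : Equiv.Perm (Fin m)) y =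
      (h : Equiv.Perm (Fin m)) (ψ σ y) := rfl
  have h3 : ((ψ' σ * h : ↥(alternatingGroup (Fin m))) : Equiv.Perm (Fin m)) y =
      ψ σ ((h : Equiv.Perm (Fin m)) y) := rfl
  rw [h2, h3]
  exact congrArg Fin.val h1.symm


end Cfsg.Agent.S2532
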