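import Cfsg.Statements.S2533


set_option autoImplicit false
open Cfsg

namespace Cfsg.Agent.S2533


open Matrix

section grp
variable (p : ℕ)

/-- The generalized dihedral group of `(ZMod p)³`. -/
structure GD where
  a : Fin 3 → ZMod p
  s : ℤˣ

variable {p}

@[ext] theorem GD.ext' {x y : GD p} (h1 : x.a = y.a) (h2 : x.s = y.s) : x = y := by
  cases x; cases y; simp_all

/-- The sign as an element of `ZMod p`. -/
def sg (p : ℕ) (s : ℤˣ) : ZMod p := ((s : ℤ) : ZMod p)

theorem sg_one : sg p (1 : ℤˣ) = (1 : ZMod p) := by simp [sg]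

theorem sg_mul (s r : ℤˣ) : sg p (s * r) = sg p s * sg p r := by simp [sg]

theorem sg_mul_self (s : ℤˣ) : sg p s * sg p s = 1 := by
  rw [← sg_mul, Int.units_mul_self, sg_one]

instance : Mul (GD p) := ⟨fun x y => ⟨x.a + sg p x.s • y.a, x.s * y.s⟩⟩
instance : One (GD p) := ⟨⟨0, 1⟩⟩
instance : Inv (GD p) := ⟨fun x => ⟨-(sg p x.s • x.a), x.s⟩⟩

theorem GD.mul_a (x y : GD p) : (x * y).a = x.a + sg p x.s • y.a := rfl
theorem GD.mul_s (x y : GD p) : (x * y).s = x.s * y.s := rfl
theorem GD.one_a : (1 : GD p).a = 0 := rfl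
theorem GD.one_s : (1 : GD p).s = 1 := rfl
theorem GD.inv_a (x : GD p) : (x⁻¹).a = -(sg p x.s • x.a) := rfl
theorem GD.inv_s (x : GD p) : (x⁻¹).s = x.s := rfl

instance : Group (GD p) where
  mul_assoc x y z := by
    apply GD.ext'
    · simp only [GD.mul_a, GD.mul_s, sg_mul, smul_add, smul_smul, add_assoc]
    · simp only [GD.mul_s, mul_assoc]
  one_mul x := by
    apply GD.ext'
    · simp only [GD.mul_a, GD.one_a, GD.one_s, sg_one, one_smul, zero_add]
    · simp only [GD.mul_s, GD.one_s, one_mul]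
  mul_one x := by
    apply GD.ext'
    · simp only [GD.mul_a, GD.one_a, smul_zero, add_zero]
    · simp only [GD.mul_s, GD.one_s, mul_one]
  inv_mul_cancel x := by
    apply GD.ext'
    · simp only [GD.mul_a, GD.inv_a, GD.inv_s, GD.one_a, neg_add_cancel]
    · simp only [GD.mul_s, GD.inv_s, GD.one_s, Int.units_mul_self]

/-- The underlying type is a product. -/
def GD.equivProd : GD p ≃ (Fin 3 → ZMod p) × ℤˣ where
  toFun x := (x.a, x.s)
  invFun y := ⟨y.1, y.2⟩
  left_inv x := by cases x; rfl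
  right_inv y := rfl

theorem GD.card [Fact p.Prime] : Nat.card (GD p) = 2 * p ^ 3 := by
  rw [Nat.card_congr GD.equivProd, Nat.card_prod, Nat.card_eq_fintype_card,
    Nat.card_eq_fintype_card, Fintype.card_units_int, Fintype.card_fun, ZMod.card,
    Fintype.card_fin, mul_comm]

instance [Fact p.Prime] : Finite (GD p) := Finite.of_equiv _ GD.equivProd.symm

end grp

section mats
variable {p : ℕ} (k : ℕ)

/-- The first embedding of the small space into the big one. -/
def matA : Matrix (Fin (k + 1)) (Fin k) (ZMod p) :=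
  Matrix.of fun i j => if i = Fin.castSucc j then 1 else 0

/-- The second (shifted) embedding. -/
def matB : Matrix (Fin (k + 1)) (Fin k) (ZMod p) :=
  Matrix.of fun i j => if i = Fin.succ j then 1 else 0

/-- A third, independent map. -/
def matC : Matrix (Fin (k + 1)) (Fin k) (ZMod p) :=
  Matrix.of fun i j => if i = Fin.last k ∧ (j : ℕ) = 0 then 1 else 0

/-- The linear combination of the three maps. -/
def matX (a : Fin 3 → ZMod p) : Matrix (Fin (k + 1)) (Fin k) (ZMod p) :=
  a 0 • matA k + a 1 • matB k + a 2 • matC k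

theorem matX_add (a b : Fin 3 → ZMod p) : matX k (a + b) = matX k a + matX k b := by
  unfold matX
  simp only [Pi.add_apply, add_smul]
  abel

theorem matX_smul (c : ZMod p) (a : Fin 3 → ZMod p) : matX k (c • a) = c • matX k a := by
  unfold matX
  simp only [Pi.smul_apply, smul_eq_mul, smul_add, smul_smul]

theorem matX_zero : matX k (0 : Fin 3 → ZMod p) = 0 := by
  unfold matX
  simp

/-- The block matrix of a group element. -/
def Psi (x : GD p) : Matrix (Fin (k + 1) ⊕ Fin k) (Fin (k + 1) ⊕ Fin k) (ZMod p) :=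
  Matrix.fromBlocks 1 (sg p x.s • matX k x.a) 0 (sg p x.s • 1)

theorem Psi_one : Psi k (1 : GD p) = 1 := by
  unfold Psi
  simp only [GD.one_a, GD.one_s, matX_zero, sg_one, one_smul, smul_zero, Matrix.fromBlocks_one]

theorem Psi_mul (x y : GD p) : Psi k (x * y) = Psi k x * Psi k y := by
  unfold Psi
  rw [Matrix.fromBlocks_multiply, GD.mul_a, GD.mul_s, matX_add, matX_smul, sg_mul]
  simp only [Matrix.one_mul, Matrix.mul_one, Matrix.zero_mul, Matrix.mul_zero, add_zero, zero_add,
    Matrix.smul_mul, Matrix.mul_smul, smul_smul, smul_add]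
  have h : sg p x.s * sg p y.s * sg p x.s = sg p y.s := by
    rw [mul_comm (sg p x.s) (sg p y.s), mul_assoc, sg_mul_self, mul_one]
  congr 1
  · rw [h, mul_comm (sg p x.s) (sg p y.s), add_comm ((sg p y.s * sg p x.s) • matX k x.a)]
  · rw [smul_zero, zero_add, mul_comm]

theorem det_Psi (hk : Even k) (x : GD p) : (Psi k x).det = 1 := by
  unfold Psi
  rw [Matrix.det_fromBlocks_zero₂₁, Matrix.det_one, one_mul, Matrix.det_smul, Matrix.det_one,
    mul_one, Fintype.card_fin]
  obtain ⟨j, rfl⟩ := hk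
  rw [← two_mul, pow_mul, sq, sg_mul_self, one_pow]

/-- The homomorphism to the special linear group. -/
def Phi (hk : Even k) : GD p →* Matrix.SpecialLinearGroup (Fin (k + 1 + k)) (ZMod p) where
  toFun x := ⟨Matrix.reindexAlgEquiv (ZMod p) (ZMod p) finSumFinEquiv (Psi k x), by
    rw [Matrix.det_reindexAlgEquiv]; exact det_Psi k hk x⟩
  map_one' := by
    apply Subtype.ext
    show Matrix.reindexAlgEquiv (ZMod p) (ZMod p) finSumFinEquiv (Psi k 1) = 1
    rw [Psi_one, map_one]
  map_mul' x y := by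
    apply Subtype.ext
    show Matrix.reindexAlgEquiv (ZMod p) (ZMod p) finSumFinEquiv (Psi k (x * y)) =
      Matrix.reindexAlgEquiv (ZMod p) (ZMod p) finSumFinEquiv (Psi k x) *
      Matrix.reindexAlgEquiv (ZMod p) (ZMod p) finSumFinEquiv (Psi k y)
    rw [Psi_mul, map_mul]

theorem Phi_coe (hk : Even k) (x : GD p) :
    ((Phi k hk x : Matrix.SpecialLinearGroup (Fin (k + 1 + k)) (ZMod p)) :
      Matrix (Fin (k + 1 + k)) (Fin (k + 1 + k)) (ZMod p)) =
      Matrix.reindexAlgEquiv (ZMod p) (ZMod p) finSumFinEquiv (Psi k x) := rfl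

end mats

section toeplitz

theorem nat_toeplitz {F : Type*} [Field F] (k : ℕ) (f : ℕ → ℕ → F)
    (hT : ∀ i j, i < k → j < k → f i j = f (i + 1) (j + 1))
    (hL : ∀ j, j < k → f k j = 0) (hU : ∀ j, j < k → f 0 (j + 1) = 0) :
    ∀ i j, i ≤ k → j ≤ k → f i j = if i = j then f 0 0 else 0 := by
  have up : ∀ i j, j ≤ k → i ≤ j → f i j = f 0 (j - i) := by
    intro i
    induction i with
    | zero => intro j _ _; simp
    | succ i ih =>
      intro j hj hij
      obtain ⟨j', rfl⟩ : ∃ j', j = j' + 1 := ⟨j - 1, by omega⟩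
      rw [← hT i j' (by omega) (by omega), ih j' (by omega) (by omega)]
      congr 1
      omega
  have low : ∀ d i j, i + d = k → j < i → f i j = 0 := by
    intro d
    induction d with
    | zero =>
      intro i j hi hj
      have : i = k := by omega
      subst this
      exact hL j hj
    | succ d ih =>
      intro i j hi hj
      rw [hT i j (by omega) (by omega)]
      exact ih (i + 1) (j + 1) (by omega) (by omega)
  intro i j hi hj
  rcases lt_trichotomy i j with h | h | h
  · rw [up i j hj h.le, if_neg h.ne]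
    obtain ⟨d, hd⟩ : ∃ d, j - i = d + 1 := ⟨j - i - 1, by omega⟩
    rw [hd]
    exact hU d (by omega)
  · subst h
    rw [up i i hi le_rfl, if_pos rfl, Nat.sub_self]
  · rw [low (k - i) i j (by omega) h, if_neg h.ne']

theorem fin_toeplitz {F : Type*} [Field F] (k : ℕ) (P : Matrix (Fin (k + 1)) (Fin (k + 1)) F)
    (hT : ∀ i j : Fin k, P i.castSucc j.castSucc = P i.succ j.succ)
    (hL : ∀ j : Fin k, P (Fin.last k) j.castSucc = 0)
    (hU : ∀ j : Fin k, P 0 j.succ = 0) :
    ∀ i j, P i j = if i = j then P 0 0 else 0 := by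
  have key := nat_toeplitz k
    (fun i j => if h : i < k + 1 ∧ j < k + 1 then P ⟨i, h.1⟩ ⟨j, h.2⟩ else 0) ?_ ?_ ?_
  · intro i j
    have := key i.val j.val (by omega) (by omega)
    simp only [i.isLt, j.isLt, and_self, dite_true, Fin.eta, Nat.zero_lt_succ] at this
    rw [this]
    simp only [Fin.val_inj]
    rfl
  · intro i j hi hj
    have h1 : i < k + 1 ∧ j < k + 1 := ⟨by omega, by omega⟩
    have h2 : i + 1 < k + 1 ∧ j + 1 < k + 1 := ⟨by omega, by omega⟩
    simp only [h1, h2, and_self, dite_true]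
    exact hT ⟨i, hi⟩ ⟨j, hj⟩
  · intro j hj
    have h1 : k < k + 1 ∧ j < k + 1 := ⟨by omega, by omega⟩
    simp only [h1, and_self, dite_true]
    exact hL ⟨j, hj⟩
  · intro j hj
    have h1 : 0 < k + 1 ∧ j + 1 < k + 1 := ⟨by omega, by omega⟩
    simp only [h1, and_self, dite_true]
    exact hU ⟨j, hj⟩

end toeplitz

section commutant
variable {p : ℕ} [Fact p.Prime] (k : ℕ)

theorem two_ne_zero_zmod (hp : p ≠ 2) : (2 : ZMod p) ≠ 0 := by
  intro h
  have h2 : ((2 : ℕ) : ZMod p) = 0 := by exact_mod_cast h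
  rw [ZMod.natCast_eq_zero_iff] at h2
  exact hp ((Nat.prime_dvd_prime_iff_eq (Fact.out : p.Prime) Nat.prime_two).1 h2)

theorem mul_matA {m : Type*} [Fintype m] (P : Matrix m (Fin (k + 1)) (ZMod p)) (i : m) (j : Fin k) :
    (P * (matA k : Matrix (Fin (k + 1)) (Fin k) (ZMod p))) i j = P i j.castSucc := by
  simp [Matrix.mul_apply, matA]

theorem mul_matB {m : Type*} [Fintype m] (P : Matrix m (Fin (k + 1)) (ZMod p)) (i : m) (j : Fin k) :
    (P * (matB k : Matrix (Fin (k + 1)) (Fin k) (ZMod p))) i j = P i j.succ := by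
  simp [Matrix.mul_apply, matB]

theorem matA_mul_castSucc {m : Type*} [Fintype m] (Q : Matrix (Fin k) m (ZMod p)) (i : Fin k) (j : m) :
    ((matA k : Matrix (Fin (k + 1)) (Fin k) (ZMod p)) * Q) i.castSucc j = Q i j := by
  simp [Matrix.mul_apply, matA, Fin.castSucc_inj]

theorem matA_mul_last {m : Type*} [Fintype m] (Q : Matrix (Fin k) m (ZMod p)) (j : m) :
    ((matA k : Matrix (Fin (k + 1)) (Fin k) (ZMod p)) * Q) (Fin.last k) j = 0 := by
  simp [Matrix.mul_apply, matA, (Fin.castSucc_lt_last _).ne']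

theorem matB_mul_succ {m : Type*} [Fintype m] (Q : Matrix (Fin k) m (ZMod p)) (i : Fin k) (j : m) :
    ((matB k : Matrix (Fin (k + 1)) (Fin k) (ZMod p)) * Q) i.succ j = Q i j := by
  simp [Matrix.mul_apply, matB, Fin.succ_inj]

theorem matB_mul_zero {m : Type*} [Fintype m] (Q : Matrix (Fin k) m (ZMod p)) (j : m) :
    ((matB k : Matrix (Fin (k + 1)) (Fin k) (ZMod p)) * Q) 0 j = 0 := by
  simp [Matrix.mul_apply, matB, (Fin.succ_ne_zero _).symm]

theorem matX_single0 : matX k (Pi.single 0 1 : Fin 3 → ZMod p) = matA k := by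
  unfold matX
  simp

theorem matX_single1 : matX k (Pi.single 1 1 : Fin 3 → ZMod p) = matB k := by
  unfold matX
  simp

theorem sg_neg_one : sg p (-1 : ℤˣ) = (-1 : ZMod p) := by simp [sg]

theorem comm_scalar (hp : p ≠ 2)
    (g : Matrix (Fin (k + 1) ⊕ Fin k) (Fin (k + 1) ⊕ Fin k) (ZMod p))
    (h : ∀ x : GD p, g * Psi k x = Psi k x * g) : ∃ c : ZMod p, g = c • 1 := by
  obtain ⟨P, R, S, Q, rfl⟩ : ∃ P R S Q, g = Matrix.fromBlocks P R S Q :=
    ⟨_, _, _, _, (Matrix.fromBlocks_toBlocks g).symm⟩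
  have h2 := two_ne_zero_zmod hp
  have hneg : ∀ {m n : Type} (M : Matrix m n (ZMod p)), -M = M → M = 0 := by
    intro m n M hM
    ext i j
    have h1 : - M i j = M i j := congrFun (congrFun hM i) j
    have h3 : (2 : ZMod p) * M i j = 0 := by
      rw [two_mul]
      nth_rewrite 1 [← h1]
      exact neg_add_cancel _
    rcases mul_eq_zero.1 h3 with h4 | h4
    · exact absurd h4 h2
    · exact h4
  -- the involution
  have hD := h ⟨0, -1⟩
  unfold Psi at hD
  simp only [matX_zero, smul_zero, sg_neg_one, Matrix.fromBlocks_multiply, Matrix.mul_one,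
    Matrix.mul_zero, Matrix.one_mul, Matrix.zero_mul, add_zero, zero_add, Matrix.mul_smul,
    Matrix.smul_mul, neg_smul, one_smul, Matrix.mul_neg, Matrix.neg_mul,
    Matrix.fromBlocks_inj] at hD
  obtain ⟨-, hR, hS, -⟩ := hD
  have hR0 : R = 0 := hneg R hR
  have hS0 : S = 0 := hneg S hS.symm
  subst hR0 hS0
  have hA := h ⟨Pi.single 0 1, 1⟩
  have hB := h ⟨Pi.single 1 1, 1⟩
  unfold Psi at hA hB
  simp only [matX_single0, matX_single1, sg_one, one_smul, Matrix.fromBlocks_multiply,
    Matrix.mul_one, Matrix.mul_zero, Matrix.one_mul, Matrix.zero_mul, add_zero, zero_add,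
    Matrix.fromBlocks_inj, true_and, and_true] at hA hB
  have c1 : ∀ i j : Fin k, P i.castSucc j.castSucc = Q i j := by
    intro i j
    rw [← mul_matA k P, hA, matA_mul_castSucc]
  have c2 : ∀ j : Fin k, P (Fin.last k) j.castSucc = 0 := by
    intro j
    rw [← mul_matA k P, hA, matA_mul_last]
  have c3 : ∀ i j : Fin k, P i.succ j.succ = Q i j := by
    intro i j
    rw [← mul_matB k P, hB, matB_mul_succ]
  have c4 : ∀ j : Fin k, P 0 j.succ = 0 := by
    intro j
    rw [← mul_matB k P, hB, matB_mul_zero]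
  have hP := fin_toeplitz k P (fun i j => (c1 i j).trans (c3 i j).symm) c2 c4
  refine ⟨P 0 0, ?_⟩
  have hP' : P = P 0 0 • 1 := by
    ext i j
    rw [hP i j, Matrix.smul_apply, Matrix.one_apply, smul_eq_mul, mul_ite, mul_one, mul_zero]
  have hQ' : Q = P 0 0 • 1 := by
    ext i j
    rw [← c1 i j, hP, Matrix.smul_apply, Matrix.one_apply, smul_eq_mul, mul_ite, mul_one, mul_zero]
    simp only [Fin.castSucc_inj]
  rw [← Matrix.fromBlocks_one, Matrix.fromBlocks_smul, smul_zero, smul_zero, ← hP', ← hQ']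

end commutant

section main
variable {p : ℕ} [Fact p.Prime]

theorem sg_injective (hp : p ≠ 2) {s r : ℤˣ} (h : sg p s = sg p r) : s = r := by
  have h2 := two_ne_zero_zmod (p := p) hp
  have hne : (1 : ZMod p) ≠ -1 := by
    intro h1
    apply h2
    have : (1 : ZMod p) + 1 = 0 := by
      nth_rewrite 1 [h1]
      exact neg_add_cancel _
    rw [← this]
    norm_num
  rcases Int.units_eq_one_or s with rfl | rfl <;> rcases Int.units_eq_one_or r with rfl | rfl
  · rfl
  · exact absurd (by simpa [sg] using h) hne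
  · exact absurd (by simpa [sg] using h.symm) hne
  · rfl

theorem matX_injective (k : ℕ) {a b : Fin 3 → ZMod p}
    (h : matX (k + 2) a = matX (k + 2) b) : a = b := by
  have e0 : ∀ a : Fin 3 → ZMod p, matX (k + 2) a 0 0 = a 0 := by
    intro a
    have h1 : ¬ ((0 : Fin (k + 2 + 1)) = Fin.succ (0 : Fin (k + 2))) := (Fin.succ_ne_zero _).symm
    have h2 : ¬ ((0 : Fin (k + 2 + 1)) = Fin.last (k + 2)) := by
      rw [Fin.ext_iff]; simp
    simp only [matX, matA, matB, matC, Matrix.add_apply, Matrix.smul_apply, Matrix.of_apply,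
      smul_eq_mul, Fin.castSucc_zero, if_true, h1, h2, if_false, false_and, mul_one, mul_zero,
      add_zero]
  have e1 : ∀ a : Fin 3 → ZMod p, matX (k + 2) a 1 0 = a 1 := by
    intro a
    have h0 : ¬ ((1 : Fin (k + 2 + 1)) = Fin.castSucc (0 : Fin (k + 2))) := by
      rw [Fin.ext_iff]; simp
    have h1 : (Fin.succ (0 : Fin (k + 2)) = (1 : Fin (k + 2 + 1))) := by
      rw [Fin.ext_iff]; simp
    have h2 : ¬ ((1 : Fin (k + 2 + 1)) = Fin.last (k + 2)) := by
      rw [Fin.ext_iff]; simp
    simp only [matX, matA, matB, matC, Matrix.add_apply, Matrix.smul_apply, Matrix.of_apply,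
      smul_eq_mul, h0, if_true, h1, h2, if_false, false_and, mul_one, mul_zero, add_zero, zero_add]
  have e2 : ∀ a : Fin 3 → ZMod p, matX (k + 2) a (Fin.last (k + 2)) 0 = a 2 := by
    intro a
    have h0 : ¬ (Fin.last (k + 2) = Fin.castSucc (0 : Fin (k + 2))) := by
      rw [Fin.ext_iff]; simp
    have h1 : ¬ (Fin.last (k + 2) = Fin.succ (0 : Fin (k + 2))) := by
      rw [Fin.ext_iff]; simp
    simp only [matX, matA, matB, matC, Matrix.add_apply, Matrix.smul_apply, Matrix.of_apply,
      smul_eq_mul, h0, if_true, h1, if_false, true_and, Fin.val_zero, mul_one, mul_zero, add_zero,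
      zero_add]
  funext i
  fin_cases i
  · show a 0 = b 0
    rw [← e0 a, ← e0 b, h]
  · show a 1 = b 1
    rw [← e1 a, ← e1 b, h]
  · show a 2 = b 2
    rw [← e2 a, ← e2 b, h]

theorem Psi_injective (hp : p ≠ 2) (k : ℕ) : Function.Injective (Psi (p := p) (k + 2)) := by
  intro x y h
  unfold Psi at h
  rw [Matrix.fromBlocks_inj] at h
  obtain ⟨-, h1, -, h2⟩ := h
  have hs : sg p x.s = sg p y.s := by
    have := congrFun (congrFun h2 0) 0
    simpa using this
  have hs' := sg_injective hp hs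
  apply GD.ext' _ hs'
  apply matX_injective k
  have h3 : sg p x.s • (sg p x.s • matX (k + 2) x.a) = sg p x.s • (sg p y.s • matX (k + 2) y.a) := by
    rw [h1]
  rw [← hs, smul_smul, smul_smul, sg_mul_self, one_smul, one_smul] at h3
  exact h3

theorem Phi_injective (hp : p ≠ 2) (k : ℕ) (hk2 : 2 ≤ k) (hk : Even k) :
    Function.Injective (Phi (p := p) k hk) := by
  obtain ⟨k', rfl⟩ := Nat.exists_eq_add_of_le' hk2
  intro x y h
  have h1 := congrArg Subtype.val h
  rw [Phi_coe, Phi_coe] at h1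
  exact Psi_injective hp k' ((Matrix.reindexAlgEquiv (ZMod p) (ZMod p) finSumFinEquiv).injective h1)

theorem comm_scalar' (hp : p ≠ 2) (k : ℕ) (hk : Even k)
    (g : Matrix (Fin (k + 1 + k)) (Fin (k + 1 + k)) (ZMod p))
    (h : ∀ x : GD p, g * (Phi k hk x).val = (Phi k hk x).val * g) : ∃ c : ZMod p, g = c • 1 := by
  obtain ⟨g', rfl⟩ := (Matrix.reindexAlgEquiv (ZMod p) (ZMod p) finSumFinEquiv).surjective g
  have h' : ∀ x : GD p, g' * Psi k x = Psi k x * g' := by
    intro x
    have := h x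
    rw [Phi_coe, ← map_mul, ← map_mul] at this
    exact (Matrix.reindexAlgEquiv (ZMod p) (ZMod p) finSumFinEquiv).injective this
  obtain ⟨c, rfl⟩ := comm_scalar k hp g' h'
  exact ⟨c, by rw [map_smul, map_one]⟩

theorem center_eq_bot (n m : ℕ) (hn : n = (p - 1) * m + 1) :
    Subgroup.center (Matrix.SpecialLinearGroup (Fin n) (ZMod p)) = ⊥ := by
  subst hn
  rw [eq_bot_iff]
  intro z hz
  rw [Matrix.SpecialLinearGroup.mem_center_iff] at hz
  obtain ⟨r, hr, hz⟩ := hz
  rw [Fintype.card_fin] at hr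
  have hr0 : r ≠ 0 := by
    rintro rfl
    rw [zero_pow (by omega)] at hr
    exact zero_ne_one hr
  have h1 : r ^ (p - 1) = 1 := ZMod.pow_card_sub_one_eq_one hr0
  rw [pow_succ, pow_mul, h1, one_pow, one_mul] at hr
  rw [Subgroup.mem_bot]
  apply Subtype.ext
  rw [← hz, hr]
  simp

end main



/-- For every odd prime `p` there is a finite group `H` of order `2p³` which, for infinitely many `n`, embeds in the projective special linear group `PSL(n, p)` as a subgroup with trivial centralizer. -/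
theorem result
    (p : ℕ) [Fact p.Prime] (hp : p ≠ 2) :
    ∃ (H : Type) (_ : Group H) (_ : Finite H), Nat.card H = 2 * p ^ 3 ∧
      ∀ N : ℕ, ∃ n, N ≤ n ∧ ∃ φ : H →* Matrix.ProjectiveSpecialLinearGroup (Fin n) (ZMod p),
        Function.Injective φ ∧ Subgroup.centralizer (φ.range : Set (Matrix.ProjectiveSpecialLinearGroup (Fin n) (ZMod p))) = ⊥ := by
  refine ⟨GD p, inferInstance, inferInstance, GD.card, fun N => ?_⟩
  have hpp : p.Prime := Fact.out
  have hp2 : 2 ≤ p - 1 := by
    have := hpp.two_le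
    omega
  have hpe : Even (p - 1) := hpp.even_sub_one hp
  obtain ⟨k, hkdef⟩ : ∃ k, k = (p - 1) * (N + 1) := ⟨_, rfl⟩
  have hk : Even k := by
    rw [hkdef]
    exact hpe.mul_right _
  have hk2 : 2 ≤ k := by
    rw [hkdef]
    exact le_trans hp2 (Nat.le_mul_of_pos_right _ (Nat.succ_pos N))
  have hkN : N + 1 ≤ k := by
    rw [hkdef]
    exact Nat.le_mul_of_pos_left _ (by omega)
  refine ⟨k + 1 + k, by omega, ?_⟩
  have hc : Subgroup.center (Matrix.SpecialLinearGroup (Fin (k + 1 + k)) (ZMod p)) = ⊥ :=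
    center_eq_bot (k + 1 + k) (2 * (N + 1)) (by rw [hkdef]; ring)
  refine ⟨(QuotientGroup.mk' _).comp (Phi k hk), ?_, ?_⟩
  · intro x y hxy
    simp only [MonoidHom.comp_apply, QuotientGroup.mk'_apply] at hxy
    rw [QuotientGroup.eq, hc, Subgroup.mem_bot, inv_mul_eq_one] at hxy
    exact Phi_injective hp k hk2 hk hxy
  · rw [eq_bot_iff]
    intro z hz
    obtain ⟨g, rfl⟩ := QuotientGroup.mk_surjective z
    rw [Subgroup.mem_centralizer_iff] at hz
    have hcomm : ∀ x : GD p, g * Phi k hk x = Phi k hk x * g := by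
      intro x
      have := hz (QuotientGroup.mk (Phi k hk x)) ⟨x, rfl⟩
      rw [← QuotientGroup.mk_mul, ← QuotientGroup.mk_mul, QuotientGroup.eq, hc, Subgroup.mem_bot,
        inv_mul_eq_one] at this
      exact this.symm
    obtain ⟨c, hc'⟩ := comm_scalar' hp k hk g.val (fun x => by
      have := congrArg Subtype.val (hcomm x)
      simpa using this)
    rw [Subgroup.mem_bot, QuotientGroup.eq_one_iff, Subgroup.mem_center_iff]
    intro h
    apply Subtype.ext
    rw [Matrix.SpecialLinearGroup.coe_mul, Matrix.SpecialLinearGroup.coe_mul, hc', Matrix.mul_smul,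
      Matrix.smul_mul, Matrix.mul_one, Matrix.one_mul]


end Cfsg.Agent.S2533
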