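import Cfsg.Statements.S2537
import Cfsg.Agent.Lib.Helper2.DSubP9
import Cfsg.Agent.Lib.Helper1.SLCard
import Cfsg.Agent.Lib.Helper2.SL2Four4
import Cfsg.Agent.Lib.Helper5.SL2TorusNorm
import Cfsg.Agent.S0802
import Cfsg.Agent.S0803
import Cfsg.Agent.S3745

set_option autoImplicit false
open Cfsg

namespace Cfsg.Agent.S2537


open Matrix

theorem fac_le_of_dvd {d n : ℕ} (hn : n ≠ 0) (h : d ∣ n) (p : ℕ) :
    d.factorization p ≤ n.factorization p := by
  have hd : d ≠ 0 := fun h0 => hn (by rw [h0] at h; exact Nat.eq_zero_of_zero_dvd h)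
  exact (Nat.factorization_le_iff_dvd hd hn).mpr h p

theorem sq_sub_one (q : ℕ) (hq : 1 ≤ q) : q ^ 2 - 1 = (q - 1) * (q + 1) := by
  obtain ⟨k, rfl⟩ : ∃ k, q = k + 1 := ⟨q - 1, by omega⟩
  have : (k + 1) ^ 2 - 1 = k * (k + 2) := by
    have : (k + 1) ^ 2 = k * (k + 2) + 1 := by ring
    omega
  rw [this]
  simp

/-- valuation facts about `q - 1`, `q + 1` for `q` prime to `6` -/
theorem val_facts (q : ℕ) (hq : 5 ≤ q) (hodd : q % 2 = 1) (h3 : ¬ 3 ∣ q) :
    (q ^ 2 - 1).factorization 2 = (q - 1).factorization 2 + (q + 1).factorization 2 ∧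
    (q ^ 2 - 1).factorization 3 = (q - 1).factorization 3 + (q + 1).factorization 3 ∧
    1 ≤ (q - 1).factorization 2 ∧ 1 ≤ (q + 1).factorization 2 ∧
    ((q - 1).factorization 2 ≤ 1 ∨ (q + 1).factorization 2 ≤ 1) ∧
    ((q - 1).factorization 3 = 0 ∨ (q + 1).factorization 3 = 0) ∧
    1 ≤ (q - 1).factorization 3 + (q + 1).factorization 3 := by
  have h1 : q - 1 ≠ 0 := by omega
  have h2 : q + 1 ≠ 0 := by omega
  have hmul := Nat.factorization_mul h1 h2
  rw [← sq_sub_one q (by omega)] at hmul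
  refine ⟨by rw [hmul]; rfl, by rw [hmul]; rfl, ?_, ?_, ?_, ?_, ?_⟩
  · exact (Nat.prime_two.dvd_iff_one_le_factorization h1).mp (by omega)
  · exact (Nat.prime_two.dvd_iff_one_le_factorization h2).mp (by omega)
  · by_contra hcon
    push Not at hcon
    have ha : 2 ^ 2 ∣ q - 1 := (Nat.prime_two.pow_dvd_iff_le_factorization h1).mpr (by omega)
    have hb : 2 ^ 2 ∣ q + 1 := (Nat.prime_two.pow_dvd_iff_le_factorization h2).mpr (by omega)
    omega
  · by_contra hcon
    push Not at hcon
    have ha : 3 ∣ q - 1 := (Nat.prime_three.dvd_iff_one_le_factorization h1).mpr (by omega)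
    have hb : 3 ∣ q + 1 := (Nat.prime_three.dvd_iff_one_le_factorization h2).mpr (by omega)
    omega
  · have h3' : 3 ∣ (q - 1) * (q + 1) := by
      have : q % 3 = 1 ∨ q % 3 = 2 := by omega
      rcases this with h | h
      · exact Dvd.dvd.mul_right (by omega) _
      · exact Dvd.dvd.mul_left (by omega) _
    rcases (Nat.Prime.dvd_mul Nat.prime_three).mp h3' with h | h
    · have := (Nat.prime_three.dvd_iff_one_le_factorization h1).mp h
      omega
    · have := (Nat.prime_three.dvd_iff_one_le_factorization h2).mp h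
      omega

theorem fac_two_mul (k : ℕ) (hk : k ≠ 0) :
    (2 * k).factorization 2 = k.factorization 2 + 1 ∧ (2 * k).factorization 3 = k.factorization 3 := by
  rw [Nat.factorization_mul (by norm_num) hk]
  simp only [Finsupp.coe_add, Pi.add_apply, Nat.prime_two.factorization]
  constructor
  · simp; omega
  · simp

/-- the arithmetic of the cyclic and dihedral cases -/
theorem arith_cd (q k c : ℕ) (hq : 5 ≤ q) (hodd : q % 2 = 1) (h3 : ¬ 3 ∣ q)
    (hk : 2 * k ∣ q + 1 ∨ 2 * k ∣ q - 1) (hc : c = k ∨ c = 2 * k)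
    (hc2 : c.factorization 2 + 1 = (q ^ 2 - 1).factorization 2)
    (hc3 : c.factorization 3 = (q ^ 2 - 1).factorization 3) :
    (3 ∣ q - 1 ∧ q % 4 = 1) ∨ (3 ∣ q + 1 ∧ q % 4 = 3) := by
  obtain ⟨e2, e3, a1, b1, ab, ab3, s3⟩ := val_facts q hq hodd h3
  have h1 : q - 1 ≠ 0 := by omega
  have h2 : q + 1 ≠ 0 := by omega
  have hk0 : k ≠ 0 := by
    rintro rfl
    rcases hk with h | h
    · exact h2 (Nat.eq_zero_of_zero_dvd (by simpa using h))
    · exact h1 (Nat.eq_zero_of_zero_dvd (by simpa using h))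
  obtain ⟨f2, f3⟩ := fac_two_mul k hk0
  rw [e2] at hc2
  rw [e3] at hc3
  rcases hk with hk | hk
  · have l2 := fac_le_of_dvd h2 hk 2
    have l3 := fac_le_of_dvd h2 hk 3
    rw [f2] at l2
    rw [f3] at l3
    rcases hc with rfl | rfl
    · omega
    · rw [f2] at hc2
      rw [f3] at hc3
      right
      have hv3 : 1 ≤ (q + 1).factorization 3 := by omega
      have hd3 : 3 ∣ q + 1 := (Nat.prime_three.dvd_iff_one_le_factorization h2).mpr hv3
      refine ⟨hd3, ?_⟩
      have hn4 : ¬ 2 ^ 2 ∣ q - 1 := by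
        rw [Nat.prime_two.pow_dvd_iff_le_factorization h1]
        omega
      omega
  · have l2 := fac_le_of_dvd h1 hk 2
    have l3 := fac_le_of_dvd h1 hk 3
    rw [f2] at l2
    rw [f3] at l3
    rcases hc with rfl | rfl
    · omega
    · rw [f2] at hc2
      rw [f3] at hc3
      left
      have hv3 : 1 ≤ (q - 1).factorization 3 := by omega
      have hd3 : 3 ∣ q - 1 := (Nat.prime_three.dvd_iff_one_le_factorization h1).mpr hv3
      refine ⟨hd3, ?_⟩
      have hn4 : ¬ 2 ^ 2 ∣ q + 1 := by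
        rw [Nat.prime_two.pow_dvd_iff_le_factorization h2]
        omega
      omega

theorem fac12 : (12 : ℕ).factorization 2 = 2 ∧ (12 : ℕ).factorization 3 = 1 := by
  have : (12 : ℕ) = 2 ^ 2 * 3 := by norm_num
  rw [this, Nat.factorization_mul (by norm_num) (by norm_num), Nat.prime_two.factorization_pow,
    Nat.prime_three.factorization]
  simp

theorem fac24 : (24 : ℕ).factorization 2 = 3 ∧ (24 : ℕ).factorization 3 = 1 := by
  have : (24 : ℕ) = 2 ^ 3 * 3 := by norm_num
  rw [this, Nat.factorization_mul (by norm_num) (by norm_num), Nat.prime_two.factorization_pow,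
    Nat.prime_three.factorization]
  simp

section

variable {F : Type*} [Field F] [Fintype F] {p : ℕ} [Fact p.Prime] [CharP F p]

local notation "G" => Matrix.ProjectiveSpecialLinearGroup (Fin 2) F
local notation "SL" => Matrix.SpecialLinearGroup (Fin 2) F

/-- basic numerical facts -/
theorem basic (hp : 5 ≤ p) :
    5 ≤ Fintype.card F ∧ Fintype.card F % 2 = 1 ∧ ¬ 3 ∣ Fintype.card F ∧
    Nat.gcd 2 (Fintype.card F - 1) = 2 ∧
    2 * Nat.card G = Fintype.card F * (Fintype.card F ^ 2 - 1) ∧ Finite G := by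
  obtain ⟨n, hpp, hn⟩ := FiniteField.card F p
  have hn0 : (n : ℕ) ≠ 0 := n.ne_zero
  have h5 : 5 ≤ Fintype.card F := by
    rw [hn]
    calc 5 ≤ p := hp
      _ = p ^ 1 := (pow_one p).symm
      _ ≤ p ^ (n : ℕ) := Nat.pow_le_pow_right hpp.pos (by omega)
  have hnd : ∀ r : ℕ, r.Prime → r < 5 → ¬ r ∣ Fintype.card F := by
    intro r hr hr5 hd
    rw [hn] at hd
    have := (Nat.prime_dvd_prime_iff_eq hr hpp).mp (hr.dvd_of_dvd_pow hd)
    omega
  have hodd : Fintype.card F % 2 = 1 := by
    have := hnd 2 Nat.prime_two (by norm_num)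
    omega
  have hgcd : Nat.gcd 2 (Fintype.card F - 1) = 2 := Nat.gcd_eq_left (by omega)
  have hfin : Finite G := Cfsg.Agent.Lib.Helper2.DSub.finite_psl (F := F)
  refine ⟨h5, hodd, hnd 3 Nat.prime_three (by norm_num), hgcd, ?_, hfin⟩
  have h := Cfsg.Agent.Lib.Helper2.DSub.card_psl_two (F := F)
  rw [hgcd] at h
  rw [h, sq_sub_one _ (by omega)]
  ring

/-- valuations of the order of a Hall `{2,3}`-subgroup -/
theorem hall_vals (hp : 5 ≤ p) (H : Subgroup G) (hH : Cfsg.IsPiHall ({2, 3} : Set ℕ) H) :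
    (Nat.card H).factorization 2 + 1 = (Fintype.card F ^ 2 - 1).factorization 2 ∧
    (Nat.card H).factorization 3 = (Fintype.card F ^ 2 - 1).factorization 3 := by
  obtain ⟨h5, hodd, h3, hgcd, hG, hfin⟩ := basic (F := F) (p := p) hp
  have hi2 : ¬ 2 ∣ H.index := hH.2 2 Nat.prime_two (by simp)
  have hi3 : ¬ 3 ∣ H.index := hH.2 3 Nat.prime_three (by simp)
  have hmul := H.card_mul_index
  have hH0 : Nat.card H ≠ 0 := Nat.card_pos.ne'
  have hI0 : H.index ≠ 0 := Subgroup.index_ne_zero_of_finite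
  have hfm := Nat.factorization_mul hH0 hI0
  rw [hmul] at hfm
  have hq0 : Fintype.card F ≠ 0 := by omega
  have hq1 : Fintype.card F ^ 2 - 1 ≠ 0 := by
    have : 5 ^ 2 ≤ Fintype.card F ^ 2 := Nat.pow_le_pow_left h5 2
    omega
  have hG0 : Nat.card G ≠ 0 := Nat.card_pos.ne'
  have hfg := Nat.factorization_mul (show (2 : ℕ) ≠ 0 by norm_num) hG0
  rw [hG, Nat.factorization_mul hq0 hq1, Nat.prime_two.factorization] at hfg
  have hq2 : (Fintype.card F).factorization 2 = 0 :=
    Nat.factorization_eq_zero_of_not_dvd (by omega)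
  have hq3 : (Fintype.card F).factorization 3 = 0 :=
    Nat.factorization_eq_zero_of_not_dvd h3
  have e2 := DFunLike.congr_fun hfg 2
  have e3 := DFunLike.congr_fun hfg 3
  have f2 := DFunLike.congr_fun hfm 2
  have f3 := DFunLike.congr_fun hfm 3
  simp only [Finsupp.coe_add, Pi.add_apply, Finsupp.single_apply] at e2 e3 f2 f3
  rw [Nat.factorization_eq_zero_of_not_dvd hi2] at f2
  rw [Nat.factorization_eq_zero_of_not_dvd hi3] at f3
  simp at e2 e3
  omega

theorem forward (hp : 5 ≤ p) (H : Subgroup G) (hH : Cfsg.IsPiHall ({2, 3} : Set ℕ) H) :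
    (3 ∣ Fintype.card F - 1 ∧ Fintype.card F % 4 = 1) ∨
      (3 ∣ Fintype.card F + 1 ∧ Fintype.card F % 4 = 3) ∨
      2 ^ (Fintype.card F ^ 2 - 1).factorization 2 * 3 ^ (Fintype.card F ^ 2 - 1).factorization 3 = 24 ∨
      2 ^ (Fintype.card F ^ 2 - 1).factorization 2 * 3 ^ (Fintype.card F ^ 2 - 1).factorization 3 = 48 := by
  classical
  obtain ⟨h5, hodd, h3, hgcd, hG, hfin⟩ := basic (F := F) (p := p) hp
  obtain ⟨v2, v3⟩ := hall_vals hp H hH
  obtain ⟨e2, e3, a1, b1, ab, ab3, s3⟩ := val_facts _ h5 hodd h3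
  have hπ : ∀ r : ℕ, r.Prime → r ∣ Nat.card H → r = 2 ∨ r = 3 := by
    intro r hr hd
    have := hH.1 r hr hd
    simpa using this
  rcases Cfsg.Agent.Lib.Helper2.DSub.dickson_psl_concrete p H with
    ⟨k, hk, hHk⟩ | ⟨P, hHP⟩ | ⟨⟨e⟩⟩ | ⟨⟨e⟩⟩ | ⟨⟨e⟩⟩ | ⟨K, _, _, m, hm, hK⟩
  · rw [hgcd] at hk
    have hk' : 2 * k ∣ Fintype.card F + 1 ∨ 2 * k ∣ Fintype.card F - 1 := by
      rcases hk with hk | hk
      · left
        have : Fintype.card F + 1 = 2 * ((Fintype.card F + 1) / 2) := by omega
        rw [this]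
        exact Nat.mul_dvd_mul_left 2 hk
      · right
        have : Fintype.card F - 1 = 2 * ((Fintype.card F - 1) / 2) := by omega
        rw [this]
        exact Nat.mul_dvd_mul_left 2 hk
    have hc : Nat.card H = k ∨ Nat.card H = 2 * k := by
      rcases hHk with ⟨_, h⟩ | ⟨⟨e⟩⟩
      · exact Or.inl h
      · right
        rw [Nat.card_congr e.toEquiv, DihedralGroup.nat_card]
    rcases arith_cd _ k _ h5 hodd h3 hk' hc v2 v3 with h | h
    · exact Or.inl h
    · exact Or.inr (Or.inl h)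
  · exfalso
    obtain ⟨-, -, hN, -⟩ := Cfsg.Agent.Lib.Helper2.DSub.sylow_psl_facts p P
    rw [hgcd] at hN
    have hd : Nat.card H ∣ Nat.card (Subgroup.normalizer ((P : Subgroup G) : Set G)) :=
      Subgroup.card_dvd_of_le hHP
    have hd2 : 2 * Nat.card H ∣ Fintype.card F * (Fintype.card F - 1) := by
      rw [← hN]
      exact Nat.mul_dvd_mul_left 2 hd
    have hq0 : Fintype.card F ≠ 0 := by omega
    have hq1 : Fintype.card F - 1 ≠ 0 := by omega
    have l2 := fac_le_of_dvd (Nat.mul_ne_zero hq0 hq1) hd2 2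
    rw [(fac_two_mul _ Nat.card_pos.ne').1, Nat.factorization_mul hq0 hq1] at l2
    have hq2 : (Fintype.card F).factorization 2 = 0 :=
      Nat.factorization_eq_zero_of_not_dvd (by omega)
    simp only [Finsupp.coe_add, Pi.add_apply] at l2
    omega
  · right; right; left
    have hc : Nat.card H = 12 := by
      rw [Nat.card_congr e.toEquiv, nat_card_alternatingGroup]
      simp [Nat.factorial]
    rw [hc, fac12.1] at v2
    rw [hc, fac12.2] at v3
    rw [← v2, ← v3]
    norm_num
  · right; right; right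
    have hc : Nat.card H = 24 := by
      rw [Nat.card_congr e.toEquiv, Nat.card_perm]
      simp [Nat.factorial]
    rw [hc, fac24.1] at v2
    rw [hc, fac24.2] at v3
    rw [← v2, ← v3]
    norm_num
  · exfalso
    have hc : Nat.card H = 60 := by
      rw [Nat.card_congr e.toEquiv, nat_card_alternatingGroup]
      simp [Nat.factorial]
    have := hπ 5 Nat.prime_five (by rw [hc]; norm_num)
    omega
  · exfalso
    obtain ⟨n, hpp, hn⟩ := FiniteField.card F p
    have hK1 : 1 < Fintype.card K := Fintype.one_lt_card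
    have hm0 : m ≠ 0 := by
      rintro rfl
      rw [pow_zero] at hm
      omega
    have hpK : p ∣ Fintype.card K := by
      obtain ⟨r, hr, hrK⟩ := Nat.exists_prime_and_dvd (show Fintype.card K ≠ 1 by omega)
      have hrq : r ∣ p ^ (n : ℕ) := by
        rw [← hn, ← hm]
        exact hrK.trans (dvd_pow_self _ hm0)
      have := (Nat.prime_dvd_prime_iff_eq hr hpp).mp (hr.dvd_of_dvd_pow hrq)
      rw [← this]
      exact hrK
    have hpH : p ∣ Nat.card H := by
      rcases hK with ⟨⟨e⟩⟩ | ⟨⟨e⟩⟩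
      · rw [Nat.card_congr e.toEquiv]
        have h := Cfsg.Agent.Lib.Helper2.DSub.card_psl_two (F := K)
        have hd : p ∣ Nat.gcd 2 (Fintype.card K - 1) *
            Nat.card (Matrix.ProjectiveSpecialLinearGroup (Fin 2) K) := by
          rw [h, mul_assoc]
          exact Dvd.dvd.mul_right hpK _
        rcases (Nat.Prime.dvd_mul hpp).mp hd with h1 | h1
        · exfalso
          have h2 : p ∣ 2 := h1.trans (Nat.gcd_dvd_left _ _)
          have := Nat.le_of_dvd (by norm_num) h2
          omega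
        · exact h1
      · rw [Nat.card_congr e.toEquiv, Cfsg.Agent.Lib.Helper1.card_PGL_eq_card_SL,
          Cfsg.Agent.Lib.Helper5.card_SL2, mul_assoc]
        exact Dvd.dvd.mul_right hpK _
    have := hπ p hpp hpH
    omega


/-- a group with an abelian subgroup of index two is solvable -/
theorem solvable_of_index_two {N : Type*} [Group N] (C : Subgroup N) (hidx : C.index = 2)
    (hC : ∀ a ∈ C, ∀ b ∈ C, a * b = b * a) : Group.IsSolvable N := by
  haveI : C.Normal := Subgroup.normal_of_index_eq_two hidx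
  haveI : Group.IsSolvable C := isSolvable_of_comm (fun a b => by
    apply Subtype.ext
    exact hC a a.2 b b.2)
  haveI : Fact (Nat.Prime 2) := ⟨Nat.prime_two⟩
  have hq : Nat.card (N ⧸ C) = 2 := by rw [← Subgroup.index_eq_card, hidx]
  haveI : IsCyclic (N ⧸ C) := isCyclic_of_prime_card hq
  haveI : Group.IsSolvable (N ⧸ C) := isSolvable_of_comm (fun a b => by
    let _i := IsCyclic.commGroup (α := N ⧸ C)
    exact mul_comm a b)
  refine solvable_of_ker_le_range C.subtype (QuotientGroup.mk' C) ?_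
  rw [QuotientGroup.ker_mk', Subgroup.range_subtype]

/-- a solvable subgroup of order `q ∓ 1` according as `q ≡ ±1 mod 4` -/
theorem exists_M (h2 : (2 : F) ≠ 0) : ∃ M : Subgroup G, Group.IsSolvable M ∧
    Nat.card M = if Fintype.card F % 4 = 3 then Fintype.card F + 1 else Fintype.card F - 1 := by
  classical
  obtain ⟨g, hgdef⟩ : ∃ g : SL, g = Cfsg.Agent.Lib.Helper2.SL2Four.J := ⟨_, rfl⟩
  have hg : g * g = -1 := by rw [hgdef]; exact Cfsg.Agent.Lib.Helper2.SL2Four.J_sq
  have hns : ¬ ∃ c : F, (g : Matrix (Fin 2) (Fin 2) F) = c • (1 : Matrix (Fin 2) (Fin 2) F) := by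
    rw [Cfsg.Agent.Lib.Helper5.not_scalar_iff]
    left
    rw [hgdef]
    simp [Cfsg.Agent.Lib.Helper2.SL2Four.J]
  obtain ⟨N, hN⟩ : ∃ N : Subgroup SL, N = Subgroup.normalizer (Subgroup.zpowers g : Set SL) :=
    ⟨_, rfl⟩
  obtain ⟨C, hC⟩ : ∃ C : Subgroup SL, C = Subgroup.centralizer ({g} : Set SL) := ⟨_, rfl⟩
  have hCN : C ≤ N := by
    intro c hc
    rw [hN, Cfsg.Agent.Lib.Helper2.SL2Four.mem_normalizer_iff h2 hg]
    left
    rw [hC, Subgroup.mem_centralizer_singleton_iff] at hc
    rw [hc, mul_inv_cancel_right]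
  have hcardN : Nat.card N = 2 * Nat.card C := by
    rw [hN, hC]
    exact Cfsg.Agent.Lib.Helper2.SL2Four.card_normalizer_eq h2 hg
  have hCcomm : ∀ a ∈ C, ∀ b ∈ C, a * b = b * a := by
    intro x hx y hy
    rw [hC, Cfsg.Agent.Lib.Helper5.mem_centralizer_iff_span g hns] at hx hy
    obtain ⟨a, b, hx⟩ := hx
    obtain ⟨a', b', hy⟩ := hy
    apply Subtype.ext
    rw [Matrix.SpecialLinearGroup.coe_mul, Matrix.SpecialLinearGroup.coe_mul, hx, hy]
    have h1 : Commute (a • (1 : Matrix (Fin 2) (Fin 2) F) + b • (g : Matrix (Fin 2) (Fin 2) F))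
        (g : Matrix (Fin 2) (Fin 2) F) :=
      ((Commute.one_left _).smul_left a).add_left ((Commute.refl _).smul_left b)
    exact ((Commute.one_right _).smul_right a').add_right (h1.smul_right b')
  have hsolvN : Group.IsSolvable N := by
    apply solvable_of_index_two (C.subgroupOf N)
    · have h1 := (C.subgroupOf N).card_mul_index
      rw [Nat.card_congr (Subgroup.subgroupOfEquivOfLe hCN).toEquiv, hcardN] at h1
      have hC0 : 0 < Nat.card C := Nat.card_pos
      have : Nat.card C * (C.subgroupOf N).index = Nat.card C * 2 := by rw [h1]; ring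
      exact Nat.eq_of_mul_eq_mul_left hC0 this
    · intro a ha b hb
      apply Subtype.ext
      exact hCcomm a ha b hb
  have hcardN' : Nat.card N =
      if Fintype.card F % 4 = 3 then 2 * (Fintype.card F + 1) else 2 * (Fintype.card F - 1) := by
    rw [hN]
    apply Cfsg.Agent.Lib.Helper2.SL2Four.card_normalizer h2
    rw [Nat.card_zpowers]
    haveI : Fact (Nat.Prime 2) := ⟨Nat.prime_two⟩
    have : orderOf g = 2 ^ (1 + 1) := by
      apply orderOf_eq_prime_pow
      · rw [pow_one, pow_two, hg]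
        exact Cfsg.Agent.Lib.Helper2.SL2Four.neg_one_ne_one h2
      · have : g ^ 2 ^ (1 + 1) = (g * g) * (g * g) := by
          rw [show (2 : ℕ) ^ (1 + 1) = 4 by norm_num, pow_succ, pow_succ, pow_succ, pow_one, mul_assoc]
        rw [this, hg]
        exact Cfsg.Agent.Lib.Helper2.SL2Four.neg_one_mul_self
    rw [this]; norm_num
  set π := QuotientGroup.mk' (Subgroup.center SL) with hπ
  have hπs : Function.Surjective π := QuotientGroup.mk'_surjective _
  refine ⟨N.map π, ?_, ?_⟩
  · exact solvable_of_surjective (MonoidHom.subgroupMap_surjective π N)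
  · have hker : π.ker ≤ N := by
      rw [hπ, QuotientGroup.ker_mk']
      intro z hz
      rw [hN, Cfsg.Agent.Lib.Helper2.SL2Four.mem_normalizer_iff h2 hg]
      left
      rw [Subgroup.mem_center_iff] at hz
      rw [← hz g, mul_inv_cancel_right]
    have hcomap : (N.map π).comap π = N := by
      rw [Subgroup.comap_map_eq, sup_eq_left]
      exact hker
    have hidx : (N.map π).index = N.index := by
      rw [← Subgroup.index_comap_of_surjective (N.map π) hπs, hcomap]
    have e1 := (N.map π).card_mul_index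
    have e2 := N.card_mul_index
    rw [hidx] at e1
    have hG := Cfsg.Agent.Lib.Helper2.DSub.card_psl_two (F := F)
    rw [(Cfsg.Agent.Lib.Helper2.DSub.gcd_two_of_odd h2).1, ← Cfsg.Agent.Lib.Helper5.card_SL2] at hG
    have hfin : Finite G := Cfsg.Agent.Lib.Helper2.DSub.finite_psl (F := F)
    have hI0 : 0 < N.index := Nat.pos_of_ne_zero Subgroup.index_ne_zero_of_finite
    have h3 : 2 * Nat.card (N.map π) * N.index = Nat.card N * N.index := by
      rw [e2, ← hG, ← e1]; ring
    have h4 : 2 * Nat.card (N.map π) = Nat.card N := Nat.eq_of_mul_eq_mul_right hI0 h3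
    rw [hcardN'] at h4
    by_cases hc : Fintype.card F % 4 = 3
    · rw [if_pos hc] at h4 ⊢
      exact Nat.eq_of_mul_eq_mul_left (by norm_num) h4
    · rw [if_neg hc] at h4 ⊢
      exact Nat.eq_of_mul_eq_mul_left (by norm_num) h4


/-- valuations of order and index of any subgroup -/
theorem vals_eq (hp : 5 ≤ p) (H : Subgroup G) :
    (Nat.card H).factorization 2 + H.index.factorization 2 + 1 =
      (Fintype.card F ^ 2 - 1).factorization 2 ∧
    (Nat.card H).factorization 3 + H.index.factorization 3 =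
      (Fintype.card F ^ 2 - 1).factorization 3 := by
  obtain ⟨h5, hodd, h3, hgcd, hG, hfin⟩ := basic (F := F) (p := p) hp
  have hmul := H.card_mul_index
  have hH0 : Nat.card H ≠ 0 := Nat.card_pos.ne'
  have hI0 : H.index ≠ 0 := Subgroup.index_ne_zero_of_finite
  have hfm := Nat.factorization_mul hH0 hI0
  rw [hmul] at hfm
  have hq0 : Fintype.card F ≠ 0 := by omega
  have hq1 : Fintype.card F ^ 2 - 1 ≠ 0 := by
    have : 5 ^ 2 ≤ Fintype.card F ^ 2 := Nat.pow_le_pow_left h5 2
    omega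
  have hG0 : Nat.card G ≠ 0 := Nat.card_pos.ne'
  have hfg := Nat.factorization_mul (show (2 : ℕ) ≠ 0 by norm_num) hG0
  rw [hG, Nat.factorization_mul hq0 hq1, Nat.prime_two.factorization] at hfg
  have hq2 : (Fintype.card F).factorization 2 = 0 :=
    Nat.factorization_eq_zero_of_not_dvd (by omega)
  have hq3 : (Fintype.card F).factorization 3 = 0 :=
    Nat.factorization_eq_zero_of_not_dvd h3
  have e2 := DFunLike.congr_fun hfg 2
  have e3 := DFunLike.congr_fun hfg 3
  have f2 := DFunLike.congr_fun hfm 2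
  have f3 := DFunLike.congr_fun hfm 3
  simp only [Finsupp.coe_add, Pi.add_apply, Finsupp.single_apply] at e2 e3 f2 f3
  simp at e2 e3
  omega

theorem hall_of_vals (hp : 5 ≤ p) (H : Subgroup G)
    (hπ : ∀ r : ℕ, r.Prime → r ∣ Nat.card H → r = 2 ∨ r = 3)
    (v2 : (Nat.card H).factorization 2 + 1 = (Fintype.card F ^ 2 - 1).factorization 2)
    (v3 : (Nat.card H).factorization 3 = (Fintype.card F ^ 2 - 1).factorization 3) :
    Cfsg.IsPiHall ({2, 3} : Set ℕ) H := by
  obtain ⟨h5, hodd, h3, hgcd, hG, hfin⟩ := basic (F := F) (p := p) hp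
  obtain ⟨w2, w3⟩ := vals_eq hp H
  have hI0 : H.index ≠ 0 := Subgroup.index_ne_zero_of_finite
  refine ⟨fun r hr hd => by simpa using hπ r hr hd, ?_⟩
  intro r hr hmem hd
  have hmem' : r = 2 ∨ r = 3 := by simpa using hmem
  rcases hmem' with rfl | rfl
  · have h0 : H.index.factorization 2 = 0 := by omega
    rcases (Nat.factorization_eq_zero_iff _ _).mp h0 with h | h | h
    · exact h Nat.prime_two
    · exact h hd
    · exact hI0 h
  · have h0 : H.index.factorization 3 = 0 := by omega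
    rcases (Nat.factorization_eq_zero_iff _ _).mp h0 with h | h | h
    · exact h Nat.prime_three
    · exact h hd
    · exact hI0 h

theorem hall_of_M (M : Subgroup G) [Finite G] (hsolv : Group.IsSolvable M) (hM2 : ¬ 2 ∣ M.index)
    (hM3 : ¬ 3 ∣ M.index) : ∃ H : Subgroup G, Cfsg.IsPiHall ({2, 3} : Set ℕ) H := by
  obtain ⟨⟨H, hH, -⟩, -, -⟩ := Cfsg.Agent.S3745.result (⊥ : Subgroup G) M bot_le
    (by rw [Subgroup.card_bot]; exact Nat.coprime_one_left _) hsolv ({2, 3} : Set ℕ)
  obtain ⟨hHM, hπ, hrel⟩ := hH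
  refine ⟨H, hπ, ?_⟩
  intro r hr hmem hd
  rw [← Subgroup.relIndex_mul_index hHM] at hd
  rcases (Nat.Prime.dvd_mul hr).mp hd with h | h
  · exact hrel r hr hmem h
  · have hmem' : r = 2 ∨ r = 3 := by simpa using hmem
    rcases hmem' with rfl | rfl
    · exact hM2 h
    · exact hM3 h

theorem pow_eq_of (a b c d : ℕ) (h : 2 ^ a * 3 ^ b = 2 ^ c * 3 ^ d) : a = c ∧ b = d := by
  have h1 := congrArg Nat.factorization h
  rw [Nat.factorization_mul (by positivity) (by positivity),
    Nat.factorization_mul (by positivity) (by positivity),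
    Nat.prime_two.factorization_pow, Nat.prime_three.factorization_pow,
    Nat.prime_two.factorization_pow, Nat.prime_three.factorization_pow] at h1
  have e2 := DFunLike.congr_fun h1 2
  have e3 := DFunLike.congr_fun h1 3
  simp at e2 e3
  exact ⟨e2, e3⟩

theorem prime_dvd_pows (r a b : ℕ) (hr : r.Prime) (h : r ∣ 2 ^ a * 3 ^ b) : r = 2 ∨ r = 3 := by
  rcases (Nat.Prime.dvd_mul hr).mp h with h | h
  · exact Or.inl ((Nat.prime_dvd_prime_iff_eq hr Nat.prime_two).mp (hr.dvd_of_dvd_pow h))
  · exact Or.inr ((Nat.prime_dvd_prime_iff_eq hr Nat.prime_three).mp (hr.dvd_of_dvd_pow h))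

theorem backward (hp : 5 ≤ p)
    (h : (3 ∣ Fintype.card F - 1 ∧ Fintype.card F % 4 = 1) ∨
      (3 ∣ Fintype.card F + 1 ∧ Fintype.card F % 4 = 3) ∨
      2 ^ (Fintype.card F ^ 2 - 1).factorization 2 * 3 ^ (Fintype.card F ^ 2 - 1).factorization 3 = 24 ∨
      2 ^ (Fintype.card F ^ 2 - 1).factorization 2 * 3 ^ (Fintype.card F ^ 2 - 1).factorization 3 = 48) :
    ∃ H : Subgroup G, Cfsg.IsPiHall ({2, 3} : Set ℕ) H := by
  classical
  obtain ⟨h5, hodd, h3, hgcd, hG, hfin⟩ := basic (F := F) (p := p) hp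
  have h2F : (2 : F) ≠ 0 :=
    Cfsg.Agent.Lib.Helper1.two_ne_zero_of_odd_card (Nat.odd_iff.mpr hodd)
  have hGq : 2 * Nat.card G = Fintype.card F * ((Fintype.card F - 1) * (Fintype.card F + 1)) := by
    rw [hG, sq_sub_one _ (by omega)]
  rcases h with ⟨hd3, hq4⟩ | ⟨hd3, hq4⟩ | h24 | h48
  · obtain ⟨M, hsolv, hM⟩ := exists_M (F := F) h2F
    rw [if_neg (by omega)] at hM
    have hidx : 2 * M.index = Fintype.card F * (Fintype.card F + 1) := by
      have h1 := M.card_mul_index
      have hpos : 0 < Fintype.card F - 1 := by omega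
      apply Nat.eq_of_mul_eq_mul_left hpos
      rw [← hM]
      calc Nat.card M * (2 * M.index) = 2 * (Nat.card M * M.index) := by ring
        _ = 2 * Nat.card G := by rw [h1]
        _ = _ := by rw [hGq, hM]; ring
    apply hall_of_M M hsolv
    · rintro ⟨j, hj⟩
      rw [hj] at hidx
      have h4 : 4 ∣ Fintype.card F * (Fintype.card F + 1) := ⟨j, by rw [← hidx]; ring⟩
      have hcop : Nat.Coprime 4 (Fintype.card F) := by
        have : Nat.Coprime 2 (Fintype.card F) := by
          rw [Nat.coprime_two_left, Nat.odd_iff]; exact hodd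
        exact Nat.Coprime.pow_left 2 this
      have := hcop.dvd_of_dvd_mul_left h4
      omega
    · rintro ⟨j, hj⟩
      rw [hj] at hidx
      have h3' : 3 ∣ Fintype.card F * (Fintype.card F + 1) := ⟨2 * j, by rw [← hidx]; ring⟩
      rcases (Nat.Prime.dvd_mul Nat.prime_three).mp h3' with h | h
      · exact h3 h
      · omega
  · obtain ⟨M, hsolv, hM⟩ := exists_M (F := F) h2F
    rw [if_pos hq4] at hM
    have hidx : 2 * M.index = Fintype.card F * (Fintype.card F - 1) := by
      have h1 := M.card_mul_index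
      have hpos : 0 < Fintype.card F + 1 := by omega
      apply Nat.eq_of_mul_eq_mul_left hpos
      rw [← hM]
      calc Nat.card M * (2 * M.index) = 2 * (Nat.card M * M.index) := by ring
        _ = 2 * Nat.card G := by rw [h1]
        _ = _ := by rw [hGq, hM]; ring
    apply hall_of_M M hsolv
    · rintro ⟨j, hj⟩
      rw [hj] at hidx
      have h4 : 4 ∣ Fintype.card F * (Fintype.card F - 1) := ⟨j, by rw [← hidx]; ring⟩
      have hcop : Nat.Coprime 4 (Fintype.card F) := by
        have : Nat.Coprime 2 (Fintype.card F) := by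
          rw [Nat.coprime_two_left, Nat.odd_iff]; exact hodd
        exact Nat.Coprime.pow_left 2 this
      have := hcop.dvd_of_dvd_mul_left h4
      omega
    · rintro ⟨j, hj⟩
      rw [hj] at hidx
      have h3' : 3 ∣ Fintype.card F * (Fintype.card F - 1) := ⟨2 * j, by rw [← hidx]; ring⟩
      rcases (Nat.Prime.dvd_mul Nat.prime_three).mp h3' with h | h
      · exact h3 h
      · omega
  · obtain ⟨e2, e3⟩ := pow_eq_of _ _ 3 1 (by rw [h24]; norm_num)
    obtain ⟨n, hpp, hn⟩ := FiniteField.card F p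
    obtain ⟨H, ⟨e⟩⟩ := (Cfsg.Agent.S0802.result p n hn).mpr (by
      rintro ⟨rfl, -⟩
      omega)
    have hc : Nat.card H = 12 := by
      rw [Nat.card_congr e.toEquiv, nat_card_alternatingGroup]
      simp [Nat.factorial]
    refine ⟨H, hall_of_vals hp H ?_ ?_ ?_⟩
    · intro r hr hd
      rw [hc] at hd
      exact prime_dvd_pows r 2 1 hr (by norm_num; exact hd)
    · rw [hc, fac12.1, e2]
    · rw [hc, fac12.2, e3]
  · obtain ⟨e2, e3⟩ := pow_eq_of _ _ 4 1 (by rw [h48]; norm_num)
    have h16 : 2 ^ 4 ∣ Fintype.card F ^ 2 - 1 := by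
      rw [← e2]
      exact Nat.ordProj_dvd _ _
    have hq1 : 1 ≤ Fintype.card F ^ 2 := Nat.one_le_pow _ _ (by omega)
    obtain ⟨H, ⟨e⟩⟩ := (Cfsg.Agent.S0803.result (F := F) rfl).mpr (by omega)
    have hc : Nat.card H = 24 := by
      rw [Nat.card_congr e.toEquiv, Nat.card_perm]
      simp [Nat.factorial]
    refine ⟨H, hall_of_vals hp H ?_ ?_ ?_⟩
    · intro r hr hd
      rw [hc] at hd
      exact prime_dvd_pows r 3 1 hr (by norm_num; exact hd)
    · rw [hc, fac24.1, e2]
    · rw [hc, fac24.2, e3]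

end



/-- Let `F` be a finite field with `q` elements of characteristic `p ≥ 5`, and `ε = 1` if `q ≡ 1 (mod 4)`, `ε = -1` otherwise. Then `PSL(2, F)` has a Hall `{2, 3}`-subgroup if and only if `3` divides `q − ε`, or the `{2,3}`-part of `q² − 1` is 24, or the `{2,3}`-part of `q² − 1` is 48 (the `{2,3}`-part of `m` being the largest divisor of `m` with no prime factor other than 2 and 3). -/
theorem result {F : Type*} [Field F] [Fintype F] {p : ℕ} [Fact p.Prime] [CharP F p]
    (hp : 5 ≤ p) (q : ℕ) (hq : Fintype.card F = q) :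
    (∃ H : Subgroup (Matrix.ProjectiveSpecialLinearGroup (Fin 2) F), Cfsg.IsPiHall ({2, 3} : Set ℕ) H) ↔
      (3 ∣ q - 1 ∧ q % 4 = 1) ∨ (3 ∣ q + 1 ∧ q % 4 = 3) ∨
        2 ^ (q ^ 2 - 1).factorization 2 * 3 ^ (q ^ 2 - 1).factorization 3 = 24 ∨
        2 ^ (q ^ 2 - 1).factorization 2 * 3 ^ (q ^ 2 - 1).factorization 3 = 48 := by
  subst hq
  constructor
  · rintro ⟨H, hH⟩
    exact forward hp H hH
  · intro h
    exact backward hp h


end Cfsg.Agent.S2537
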