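import Cfsg.Statements.S2540
import Cfsg.Agent.S0249

set_option autoImplicit false
open Cfsg

namespace Cfsg.Agent.S2540


open Matrix
open scoped commutatorElement

/-- A normal subgroup of a perfect group with simple central quotient is central or everything. -/
theorem normal_central_or_top {S : Type*} [Group S] (hperf : commutator S = ⊤)
    (hsimple : IsSimpleGroup (S ⧸ Subgroup.center S)) (N : Subgroup S) [hN : N.Normal] :
    N ≤ Subgroup.center S ∨ N = ⊤ := by
  have hmap : (N.map (QuotientGroup.mk' (Subgroup.center S))).Normal :=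
    hN.map _ (QuotientGroup.mk'_surjective _)
  rcases hmap.eq_bot_or_eq_top with h | h
  · left
    intro x hx
    have h1 : QuotientGroup.mk' (Subgroup.center S) x ∈
        N.map (QuotientGroup.mk' (Subgroup.center S)) := ⟨x, hx, rfl⟩
    rw [h, Subgroup.mem_bot] at h1
    exact (QuotientGroup.eq_one_iff x).1 h1
  · right
    have h1 : N ⊔ Subgroup.center S = ⊤ := by
      have := Subgroup.comap_map_eq (QuotientGroup.mk' (Subgroup.center S)) N
      rw [h, Subgroup.comap_top, QuotientGroup.ker_mk'] at this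
      exact this.symm
    rw [eq_top_iff, ← hperf, commutator_def, Subgroup.commutator_le]
    intro a _ b _
    have ha : a ∈ (↑(N ⊔ Subgroup.center S) : Set S) := by rw [h1]; trivial
    have hb : b ∈ (↑(N ⊔ Subgroup.center S) : Set S) := by rw [h1]; trivial
    rw [Subgroup.normal_mul, Set.mem_mul] at ha hb
    obtain ⟨n₁, hn₁, z₁, hz₁, rfl⟩ := ha
    obtain ⟨n₂, hn₂, z₂, hz₂, rfl⟩ := hb
    have e : ⁅n₁ * z₁, n₂ * z₂⁆ = ⁅n₁, n₂⁆ := by
      rw [commutatorElement_def, commutatorElement_def]
      have c1 : ∀ y : S, z₁ * y = y * z₁ := fun y => (Subgroup.mem_center_iff.1 hz₁ y).symm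
      have c2 : ∀ y : S, z₂ * y = y * z₂ := fun y => (Subgroup.mem_center_iff.1 hz₂ y).symm
      have c1' : ∀ y : S, z₁⁻¹ * y = y * z₁⁻¹ := fun y =>
        (Subgroup.mem_center_iff.1 (Subgroup.inv_mem _ hz₁) y).symm
      have c2' : ∀ y : S, z₂⁻¹ * y = y * z₂⁻¹ := fun y =>
        (Subgroup.mem_center_iff.1 (Subgroup.inv_mem _ hz₂) y).symm
      calc n₁ * z₁ * (n₂ * z₂) * (n₁ * z₁)⁻¹ * (n₂ * z₂)⁻¹
          = n₁ * (z₁ * n₂) * z₂ * (z₁⁻¹ * n₁⁻¹) * (z₂⁻¹ * n₂⁻¹) := by group
        _ = n₁ * (n₂ * z₁) * z₂ * (n₁⁻¹ * z₁⁻¹) * (n₂⁻¹ * z₂⁻¹) := by rw [c1, c1', c2']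
        _ = n₁ * n₂ * (z₁ * (z₂ * n₁⁻¹)) * z₁⁻¹ * (n₂⁻¹ * z₂⁻¹) := by group
        _ = n₁ * n₂ * ((n₁⁻¹ * z₂) * z₁) * z₁⁻¹ * (n₂⁻¹ * z₂⁻¹) := by rw [c2, c1]
        _ = n₁ * n₂ * n₁⁻¹ * (z₂ * n₂⁻¹) * z₂⁻¹ := by group
        _ = n₁ * n₂ * n₁⁻¹ * (n₂⁻¹ * z₂) * z₂⁻¹ := by rw [c2]
        _ = n₁ * n₂ * n₁⁻¹ * n₂⁻¹ := by group
    rw [e]
    exact Subgroup.commutator_mem_commutator hn₁ hn₂ |> fun h' => by
      have : ⁅N, N⁆ ≤ N := Subgroup.commutator_le_left N N
      exact this h'


/-- Let F be a finite field and n ≥ 1, excluding the case n = 2 with #F ≤ 3. A subgroup of GL_n(F) that is normalized by every element of SL_n(F) either consists of scalar matrices or contains SL_n(F). -/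
theorem result {F : Type*} [Field F] [Fintype F] (n : ℕ) (hn : 1 ≤ n) (hex : ¬ (n = 2 ∧ Fintype.card F ≤ 3)) (G : Subgroup (Matrix.GeneralLinearGroup (Fin n) F)) (hG : ∀ s : Matrix.SpecialLinearGroup (Fin n) F, ∀ g ∈ G, (Matrix.SpecialLinearGroup.toGL s) * g * (Matrix.SpecialLinearGroup.toGL s)⁻¹ ∈ G) : (∀ g ∈ G, ∃ c : F, (g : Matrix (Fin n) (Fin n) F) = c • (1 : Matrix (Fin n) (Fin n) F)) ∨ (Matrix.SpecialLinearGroup.toGL : Matrix.SpecialLinearGroup (Fin n) F →* _).range ≤ G := by
  classical
  by_cases h1 : n = 1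
  · left
    subst h1
    intro g _
    refine ⟨(g : Matrix (Fin 1) (Fin 1) F) 0 0, ?_⟩
    ext i j
    have hi : i = 0 := Subsingleton.elim _ _
    have hj : j = 0 := Subsingleton.elim _ _
    subst hi hj
    simp
  have hn2 : 2 ≤ n := by omega
  have hperf : commutator (Matrix.SpecialLinearGroup (Fin n) F) = ⊤ := by
    by_cases h3 : 3 ≤ n
    · exact Cfsg.Agent.Lib.Helper1.commutator_SL_eq_top n h3
    · have h2 : n = 2 := by omega
      subst h2
      have hcard : 4 ≤ Fintype.card F := by
        by_contra h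
        exact hex ⟨rfl, by omega⟩
      obtain ⟨x, hx⟩ := IsCyclic.exists_generator (α := Fˣ)
      have hord : orderOf x = Fintype.card F - 1 := by
        rw [orderOf_eq_card_of_forall_mem_zpowers hx, Nat.card_eq_fintype_card,
          Fintype.card_units]
      have hx2 : (x : F) ^ 2 ≠ 1 := by
        intro h
        have h' : x ^ 2 = 1 := by
          apply Units.ext
          rw [Units.val_pow_eq_pow_val, h, Units.val_one]
        have := Nat.le_of_dvd (by norm_num) (orderOf_dvd_of_pow_eq_one h')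
        omega
      exact Matrix.SL2.commutator_eq_top (Units.ne_zero x) hx2
  have hsimple : IsSimpleGroup (Matrix.ProjectiveSpecialLinearGroup (Fin n) F) := by
    by_cases h3 : 3 ≤ n
    · exact Cfsg.Agent.S0249.result n h3
    · have h2 : n = 2 := by omega
      subst h2
      have hcard : 4 ≤ Fintype.card F := by
        by_contra h
        exact hex ⟨rfl, by omega⟩
      exact Matrix.ProjectiveSpecialLinearGroup.rank_two_simple
        (by rw [Nat.card_eq_fintype_card]; exact hcard)
  obtain ⟨N, hN⟩ : ∃ N : Subgroup (Matrix.SpecialLinearGroup (Fin n) F),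
      N = G.comap Matrix.SpecialLinearGroup.toGL := ⟨_, rfl⟩
  have hNmem : ∀ s, s ∈ N ↔ Matrix.SpecialLinearGroup.toGL s ∈ G := by
    intro s
    rw [hN]
    rfl
  have hNn : N.Normal := ⟨fun x hx s => by
    rw [hNmem] at hx ⊢
    rw [map_mul, map_mul, map_inv]
    exact hG s _ hx⟩
  rcases normal_central_or_top hperf hsimple N with hNZ | hNtop
  · left
    intro g hg
    obtain ⟨c, hc⟩ : ∃ c : Matrix.SpecialLinearGroup (Fin n) F → GL (Fin n) F, ∀ s, c s =
        Matrix.SpecialLinearGroup.toGL s * g * (Matrix.SpecialLinearGroup.toGL s)⁻¹ * g⁻¹ :=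
      ⟨_, fun s => rfl⟩
    have hc_mem : ∀ s, c s ∈ G := fun s => by
      rw [hc]
      exact G.mul_mem (hG s g hg) (G.inv_mem hg)
    have hc_det : ∀ s, Matrix.GeneralLinearGroup.det (c s) = 1 := fun s => by
      rw [hc, map_mul, map_mul, map_mul, map_inv, map_inv,
        Matrix.SpecialLinearGroup.coeToGL_det]
      simp
    have hc_range : ∀ s, ∃ z ∈ Subgroup.center (Matrix.SpecialLinearGroup (Fin n) F),
        Matrix.SpecialLinearGroup.toGL z = c s := by
      intro s
      have hdet : ((c s : GL (Fin n) F) : Matrix (Fin n) (Fin n) F).det = 1 := by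
        rw [← Matrix.GeneralLinearGroup.val_det_apply, hc_det, Units.val_one]
      obtain ⟨z, hz⟩ : ∃ z : Matrix.SpecialLinearGroup (Fin n) F,
          (z : Matrix (Fin n) (Fin n) F) = ((c s : GL (Fin n) F) : Matrix (Fin n) (Fin n) F) :=
        ⟨⟨_, hdet⟩, rfl⟩
      have e : Matrix.SpecialLinearGroup.toGL z = c s := Units.ext hz
      refine ⟨z, ?_, e⟩
      apply hNZ
      rw [hNmem, e]
      exact hc_mem s
    have hcomm : ∀ s t, c t * Matrix.SpecialLinearGroup.toGL s
        = Matrix.SpecialLinearGroup.toGL s * c t := by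
      intro s t
      obtain ⟨z, hz, hzc⟩ := hc_range t
      rw [← hzc, ← map_mul, ← map_mul, Subgroup.mem_center_iff.1 hz s]
    have hcc : ∀ s t, c s * c t = c t * c s := by
      intro s t
      obtain ⟨z, hz, hzc⟩ := hc_range t
      rw [← hzc]
      exact (hcomm z s)
    have hmul : ∀ s t, c (s * t) = c s * c t := by
      intro s t
      rw [hcc s t]
      have e1 : c (s * t) = Matrix.SpecialLinearGroup.toGL s * c t * g *
          (Matrix.SpecialLinearGroup.toGL s)⁻¹ * g⁻¹ := by
        rw [hc (s * t), hc t, map_mul]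
        group
      rw [e1, ← hcomm s t, hc s]
      group
    let φ : Matrix.SpecialLinearGroup (Fin n) F →* GL (Fin n) F :=
      { toFun := c
        map_one' := by rw [hc, map_one]; group
        map_mul' := hmul }
    have hφ : ∀ s, φ s = c s := fun s => rfl
    have hker : commutator (Matrix.SpecialLinearGroup (Fin n) F) ≤ φ.ker := by
      rw [commutator_def, Subgroup.commutator_le]
      intro a _ b _
      rw [MonoidHom.mem_ker, map_commutatorElement, commutatorElement_eq_one_iff_commute, hφ, hφ]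
      exact hcc a b
    rw [hperf] at hker
    have hcone : ∀ s, c s = 1 := fun s => by
      have : s ∈ φ.ker := hker (Subgroup.mem_top s)
      exact this
    have hcommute : ∀ s, Matrix.SpecialLinearGroup.toGL s * g
        = g * Matrix.SpecialLinearGroup.toGL s := by
      intro s
      have := hcone s
      rw [hc] at this
      have h2 : Matrix.SpecialLinearGroup.toGL s * g * (Matrix.SpecialLinearGroup.toGL s)⁻¹ = g :=
        mul_inv_eq_one.1 this
      calc Matrix.SpecialLinearGroup.toGL s * g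
          = (Matrix.SpecialLinearGroup.toGL s * g * (Matrix.SpecialLinearGroup.toGL s)⁻¹) *
            Matrix.SpecialLinearGroup.toGL s := by group
        _ = g * Matrix.SpecialLinearGroup.toGL s := by rw [h2]
    have hscal : (g : Matrix (Fin n) (Fin n) F) ∈ Set.range (Matrix.scalar (Fin n)) := by
      apply Matrix.mem_range_scalar_of_commute_transvectionStruct
      intro t
      have := hcommute (Matrix.SpecialLinearGroup.transvection t.hij t.c)
      have h2 := congrArg (fun x : GL (Fin n) F => (x : Matrix (Fin n) (Fin n) F)) this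
      exact h2
    obtain ⟨a, ha⟩ := hscal
    refine ⟨a, ?_⟩
    rw [← ha, Matrix.scalar_apply, Matrix.smul_one_eq_diagonal]
  · right
    rintro _ ⟨s, rfl⟩
    have : s ∈ N := by rw [hNtop]; trivial
    exact (hNmem s).1 this

end Cfsg.Agent.S2540
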