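import Cfsg.Statements.S2541

set_option autoImplicit false
open Cfsg

namespace Cfsg.Agent.S2541

/-- Every permutation of six points has order dividing 60. -/
theorem perm6_orderOf_dvd (σ : Equiv.Perm (Fin 6)) : orderOf σ ∣ 60 := by
  rw [← Equiv.Perm.lcm_cycleType]
  apply Multiset.lcm_dvd.2
  intro n hn
  have h1 : n ≤ σ.cycleType.sum := Multiset.le_sum_of_mem hn
  rw [Equiv.Perm.sum_cycleType] at h1
  have h2 : σ.support.card ≤ 6 := by
    have := Finset.card_le_univ σ.support
    simpa using this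
  have h3 : n ≤ 6 := h1.trans h2
  have h4 : 2 ≤ n := Equiv.Perm.two_le_of_mem_cycleType hn
  interval_cases n <;> decide

/-- diag(a, 1) as an element of GL₂. -/
def dg {F : Type*} [Field F] (a : Fˣ) : Matrix.GeneralLinearGroup (Fin 2) F :=
  ⟨!![(a : F), 0; 0, 1], !![((a⁻¹ : Fˣ) : F), 0; 0, 1],
    by ext i j; fin_cases i <;> fin_cases j <;> simp [Matrix.mul_apply, Fin.sum_univ_two],
    by ext i j; fin_cases i <;> fin_cases j <;> simp [Matrix.mul_apply, Fin.sum_univ_two]⟩

theorem dg_mul {F : Type*} [Field F] (a b : Fˣ) : dg a * dg b = dg (a * b) := by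
  apply Units.ext
  ext i j
  fin_cases i <;> fin_cases j <;> simp [dg, Matrix.mul_apply, Fin.sum_univ_two]

theorem dg_one {F : Type*} [Field F] : dg (1 : Fˣ) = 1 := by
  apply Units.ext
  ext i j
  fin_cases i <;> fin_cases j <;> simp [dg]

theorem dg_pow {F : Type*} [Field F] (a : Fˣ) (k : ℕ) : dg a ^ k = dg (a ^ k) := by
  induction k with
  | zero => simp [dg_one]
  | succ k ih => rw [pow_succ, ih, dg_mul, pow_succ]

theorem mk_dg_eq_one {F : Type*} [Field F] (a : Fˣ)
    (h : Matrix.ProjGenLinGroup.mk (dg a) = 1) : a = 1 := by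
  rw [Matrix.ProjGenLinGroup.mk_eq_one, Matrix.GeneralLinearGroup.center_eq_range_scalar] at h
  obtain ⟨u, hu⟩ := h
  have h00 := congrArg (fun M : Matrix.GeneralLinearGroup (Fin 2) F => (M : Matrix (Fin 2) (Fin 2) F) 0 0) hu
  have h11 := congrArg (fun M : Matrix.GeneralLinearGroup (Fin 2) F => (M : Matrix (Fin 2) (Fin 2) F) 1 1) hu
  simp [dg, Matrix.GeneralLinearGroup.coe_scalar] at h00 h11
  apply Units.ext
  rw [← h00, h11]

theorem result {F : Type*} [Field F] [Fintype F] (hF : Fintype.card F = 9) : ¬ Nonempty (Equiv.Perm (Fin 6) ≃* Matrix.ProjGenLinGroup (Fin 2) F) := by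
  rintro ⟨e⟩
  classical
  obtain ⟨ζ, hζ⟩ := IsCyclic.exists_generator (α := Fˣ)
  have hord : orderOf ζ = 8 := by
    rw [orderOf_eq_card_of_forall_mem_zpowers hζ, Nat.card_eq_fintype_card, Fintype.card_units, hF]
  set x := Matrix.ProjGenLinGroup.mk (dg ζ) with hx
  have h60 : x ^ 60 = 1 := by
    have h1 : (e.symm x) ^ 60 = 1 := orderOf_dvd_iff_pow_eq_one.1 (perm6_orderOf_dvd _)
    have := congrArg e h1
    simpa using this
  rw [hx, ← map_pow, dg_pow] at h60
  have := mk_dg_eq_one _ h60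
  have h8 : 8 ∣ 60 := by
    rw [← hord]
    exact orderOf_dvd_of_pow_eq_one this
  omega

end Cfsg.Agent.S2541
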