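import Cfsg.Statements.S2542
import Cfsg.Agent.S0804
import Cfsg.Agent.S0675
import Cfsg.Agent.Lib.Helper2.DSubP7

set_option autoImplicit false
open Cfsg

namespace Cfsg.Agent.S2542


open Matrix

/-- cardinality of `PSL₂(11)` -/
theorem card_psl11 {F : Type*} [Field F] [Fintype F] (hF : Fintype.card F = 11) :
    Nat.card (Matrix.ProjectiveSpecialLinearGroup (Fin 2) F) = 660 := by
  have h := Cfsg.Agent.Lib.Helper2.DSub.card_psl_two (F := F)
  rw [hF] at h
  have : Nat.gcd 2 (11 - 1) = 2 := by norm_num
  rw [this] at h
  omega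

theorem card_A5 : Nat.card (alternatingGroup (Fin 5)) = 60 := by
  rw [nat_card_alternatingGroup]
  simp [Nat.factorial]

theorem not_solvable_A5 : ¬ Group.IsSolvable (alternatingGroup (Fin 5)) := by
  intro h
  haveI := alternatingGroup.isSimpleGroup_five
  have hc := (IsSimpleGroup.comm_iff_isSolvable (G := alternatingGroup (Fin 5))).mpr h
  let _i : CommGroup (alternatingGroup (Fin 5)) := { (inferInstance : Group (alternatingGroup (Fin 5))) with mul_comm := hc }
  have hp := IsSimpleGroup.prime_card (α := alternatingGroup (Fin 5))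
  rw [card_A5] at hp
  exact absurd hp (by norm_num)

/-- a transitive action of a nonabelian simple group with an `A₅` point stabilizer of prime
index is doubly transitive -/
theorem two_trans {G : Type*} [Group G] [Finite G] [IsSimpleGroup G] (H : Subgroup G)
    (hidx : H.index.Prime) (e : H ≃* alternatingGroup (Fin 5)) :
    MulAction.IsMultiplyPretransitive G (G ⧸ H) 2 := by
  classical
  haveI : Fintype (G ⧸ H) := Fintype.ofFinite _
  set φ := MulAction.toPermHom G (G ⧸ H) with hφ
  have hcard : Fintype.card (G ⧸ H) = H.index := by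
    rw [← Nat.card_eq_fintype_card]; rfl
  haveI : MulAction.IsPretransitive φ.range (G ⧸ H) := by
    constructor
    intro x y
    obtain ⟨g, hg⟩ := MulAction.exists_smul_eq G x y
    exact ⟨⟨φ g, g, rfl⟩, hg⟩
  rcases Cfsg.Agent.S0675.result (by rw [hcard]; exact hidx) φ.range with hs | h2
  · exfalso
    rcases (MonoidHom.normal_ker φ).eq_bot_or_eq_top with hk | hk
    · have hinj : Function.Injective φ.rangeRestrict := by
        rw [← MonoidHom.ker_eq_bot_iff, MonoidHom.ker_rangeRestrict]; exact hk
      haveI : Group.IsSolvable G := solvable_of_solvable_injective hinj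
      haveI : Group.IsSolvable H := inferInstance
      exact not_solvable_A5 (solvable_of_surjective (f := e.toMonoidHom) e.surjective)
    · have hH : H = ⊤ := by
        rw [eq_top_iff]
        intro g _
        have hg : g ∈ φ.ker := by rw [hk]; trivial
        rw [MonoidHom.mem_ker] at hg
        have h1 := congrArg (fun σ : Equiv.Perm (G ⧸ H) => σ ((1 : G) : G ⧸ H)) hg
        simp only [hφ, MulAction.toPermHom_apply, MulAction.toPerm_apply, Equiv.Perm.coe_one, id_eq] at h1
        rw [MulAction.Quotient.smul_mk, smul_eq_mul, mul_one, QuotientGroup.eq] at h1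
        simpa using h1
      rw [hH, Subgroup.index_top] at hidx
      exact Nat.not_prime_one hidx
  · constructor
    intro x y
    obtain ⟨r, hr⟩ := MulAction.exists_smul_eq φ.range x y
    obtain ⟨g, hg⟩ := r.2
    refine ⟨g, ?_⟩
    rw [← hr]
    ext i
    show g • x i = (r : Equiv.Perm (G ⧸ H)) (x i)
    rw [← hg]
    rfl



/-- Let F be a field with 11 elements. PSL_2(F) has a subgroup H of index 11 isomorphic to the alternating group A_5, and the action of PSL_2(F) on the cosets of H is 2-transitive (of degree 11). -/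
theorem result {F : Type*} [Field F] [Fintype F] (hF : Fintype.card F = 11) : ∃ H : Subgroup (Matrix.ProjectiveSpecialLinearGroup (Fin 2) F), H.index = 11 ∧ Nonempty (H ≃* alternatingGroup (Fin 5)) ∧ MulAction.IsMultiplyPretransitive (Matrix.ProjectiveSpecialLinearGroup (Fin 2) F) ((Matrix.ProjectiveSpecialLinearGroup (Fin 2) F) ⧸ H) 2 := by
  classical
  obtain ⟨H, ⟨e⟩⟩ := (Cfsg.Agent.S0804.result hF).mpr (by norm_num)
  have hs : IsSimpleGroup (Matrix.ProjectiveSpecialLinearGroup (Fin 2) F) :=
    Matrix.ProjectiveSpecialLinearGroup.rank_two_simple (by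
      rw [Nat.card_eq_fintype_card, hF]; norm_num)
  haveI : Finite (Matrix.ProjectiveSpecialLinearGroup (Fin 2) F) :=
    Nat.finite_of_card_ne_zero (by rw [card_psl11 hF]; norm_num)
  have hH : Nat.card H = 60 := by rw [Nat.card_congr e.toEquiv, card_A5]
  have hidx : H.index = 11 := by
    have h := H.card_mul_index
    rw [hH, card_psl11 hF] at h
    omega
  exact ⟨H, hidx, ⟨e⟩, two_trans H (by rw [hidx]; norm_num) e⟩


end Cfsg.Agent.S2542
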