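import Cfsg.Statements.S2543
import Cfsg.Agent.Lib.Helper5.A5PSL11

set_option autoImplicit false
open scoped Pointwise
open Cfsg

namespace Cfsg.Agent.S2543


open Matrix Pointwise Cfsg.Agent.Lib.Helper5.A5PSL11

section

variable {F : Type*} [Field F] [Fintype F]

local notation "PG" => Matrix.ProjectiveSpecialLinearGroup (Fin 2) F

theorem card_G (hF : Fintype.card F = 11) : Nat.card PG = 660 := by
  have h := Cfsg.Agent.Lib.Helper2.DSub.card_psl_two (F := F)
  rw [hF] at h
  have : Nat.gcd 2 (11 - 1) = 2 := by norm_num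
  rw [this] at h
  omega

theorem card_A5 : Nat.card (alternatingGroup (Fin 5)) = 60 := by
  rw [nat_card_alternatingGroup]
  simp [Nat.factorial]

/-- an `A₅`-subgroup containing `cc` is one of the two basic ones -/
theorem through_cc (hF : Fintype.card F = 11) (L : Subgroup PG)
    (e : L ≃* alternatingGroup (Fin 5)) (hc : cc hF ∈ L) :
    L = KK hF 1 ∨ L = KK hF (-1) := by
  have hL : Nat.card L = 60 := by rw [Nat.card_congr e.toEquiv, card_A5]
  have hc1 : e ⟨cc hF, hc⟩ ≠ 1 := by
    intro h
    rw [← map_one e] at h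
    exact cc_ne_one hF (congrArg Subtype.val (e.injective h))
  have hc5 : (e ⟨cc hF, hc⟩) ^ 5 = 1 := by
    rw [← map_pow]
    have : (⟨cc hF, hc⟩ : L) ^ 5 = 1 := Subtype.ext (by rw [Subgroup.coe_pow]; exact cc_pow hF)
    rw [this, map_one]
  obtain ⟨a', h1, h2, h3⟩ := F1' _ hc1 hc5
  obtain ⟨a, rfl⟩ := e.surjective a'
  have g1 : (a : PG) * a = 1 := by
    rw [← map_mul, ← map_one e] at h1
    exact congrArg Subtype.val (e.injective h1)
  have g2 : (a : PG) ≠ 1 := by
    intro h
    apply h2
    have : a = 1 := Subtype.ext h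
    rw [this, map_one]
  have g3 : ((a : PG) * cc hF) ^ 3 = 1 := by
    rw [← map_mul, ← map_pow, ← map_one e] at h3
    have := congrArg Subtype.val (e.injective h3)
    simpa using this
  obtain ⟨y, hy⟩ := param hF a g1 g2 g3
  have hay : aa y ∈ L := by rw [← hy]; exact a.2
  rw [eq_KK hF y L hL hay hc]
  exact KK_cases hF y

theorem fac660 : (660 : ℕ).factorization 5 = 1 := by
  have h1 : 5 ^ 1 ∣ 660 := by norm_num
  have h2 : ¬ 5 ^ 2 ∣ 660 := by norm_num
  rw [Nat.prime_five.pow_dvd_iff_le_factorization (by norm_num)] at h1 h2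
  omega

/-- every `A₅`-subgroup has a conjugate through `cc` -/
theorem conj_through (hF : Fintype.card F = 11) (L : Subgroup PG)
    (e : L ≃* alternatingGroup (Fin 5)) : ∃ g : PG, cc hF ∈ MulAut.conj g • L := by
  haveI : Finite PG := Cfsg.Agent.Lib.Helper2.DSub.finite_psl (F := F)
  haveI : Fact (Nat.Prime 5) := ⟨Nat.prime_five⟩
  have hL : Nat.card L = 60 := by rw [Nat.card_congr e.toEquiv, card_A5]
  obtain ⟨d, hd⟩ := exists_prime_orderOf_dvd_card' (G := L) 5 (by rw [hL]; norm_num)
  have hd' : orderOf (d : PG) = 5 := by rw [Subgroup.orderOf_coe, hd]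
  have hcc : orderOf (cc hF) = 5 := orderOf_eq_prime (cc_pow hF) (cc_ne_one hF)
  have hcardG := card_G hF
  let P : Sylow 5 PG := Sylow.ofCard (Subgroup.zpowers (d : PG)) (by
    rw [Nat.card_zpowers, hd', hcardG, fac660, pow_one])
  let Q : Sylow 5 PG := Sylow.ofCard (Subgroup.zpowers (cc hF)) (by
    rw [Nat.card_zpowers, hcc, hcardG, fac660, pow_one])
  obtain ⟨g, hg⟩ := MulAction.exists_smul_eq PG P Q
  refine ⟨g, ?_⟩
  have h1 : cc hF ∈ (Q : Subgroup PG) := Subgroup.mem_zpowers _
  rw [← hg, Sylow.coe_subgroup_smul] at h1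
  have hle : (P : Subgroup PG) ≤ L := by
    show Subgroup.zpowers (d : PG) ≤ L
    rw [Subgroup.zpowers_le]
    exact d.2
  exact Subgroup.pointwise_smul_le_pointwise_smul_iff.mpr hle h1

/-- `A₅`-subgroups are self-normalising -/
theorem stab_eq (hF : Fintype.card F = 11) (L : Subgroup PG)
    (e : L ≃* alternatingGroup (Fin 5)) (g : PG) (hg : MulAut.conj g • L = L) : g ∈ L := by
  haveI : Finite PG := Cfsg.Agent.Lib.Helper2.DSub.finite_psl (F := F)
  have hs : IsSimpleGroup PG :=
    Matrix.ProjectiveSpecialLinearGroup.rank_two_simple (by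
      rw [Nat.card_eq_fintype_card, hF]; norm_num)
  have hL : Nat.card L = 60 := by rw [Nat.card_congr e.toEquiv, card_A5]
  have hidx : L.index = 11 := by
    have h := L.card_mul_index
    rw [hL, card_G hF] at h
    omega
  have hgN : g ∈ Subgroup.normalizer (L : Set PG) := by
    rw [Subgroup.mem_normalizer_iff]
    intro h
    constructor
    · intro hh
      have := Subgroup.smul_mem_pointwise_smul h (MulAut.conj g) L hh
      rw [hg] at this
      simpa using this
    · intro hh
      have h1 : MulAut.conj g • h ∈ MulAut.conj g • L := by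
        rw [hg]; simpa using hh
      exact Subgroup.smul_mem_pointwise_smul_iff.mp h1
  have hle : L ≤ Subgroup.normalizer (L : Set PG) := Subgroup.le_normalizer
  have hmul := Subgroup.relIndex_mul_index hle
  rw [hidx] at hmul
  have hdvd : (Subgroup.normalizer (L : Set PG)).index ∣ 11 := ⟨_, by rw [← hmul, mul_comm]⟩
  rcases (Nat.dvd_prime (by norm_num : Nat.Prime 11)).mp hdvd with h1 | h11
  · exfalso
    rw [Subgroup.index_eq_one] at h1
    haveI : L.Normal := Subgroup.normalizer_eq_top_iff.mp h1
    rcases hs.eq_bot_or_eq_top_of_normal L inferInstance with h | h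
    · rw [h, Subgroup.card_bot] at hL
      omega
    · rw [h, Subgroup.card_top, card_G hF] at hL
      omega
  · rw [h11] at hmul
    have h1 : L.relIndex (Subgroup.normalizer (L : Set PG)) = 1 := by omega
    rw [Subgroup.relIndex_eq_one] at h1
    exact h1 hgN

/-- each class of `A₅`-subgroups has eleven members -/
theorem card_class (hF : Fintype.card F = 11) (L : Subgroup PG)
    (e : L ≃* alternatingGroup (Fin 5)) :
    Set.ncard {M : Subgroup PG | ∃ g : PG, MulAut.conj g • L = M} = 11 := by
  haveI : Finite PG := Cfsg.Agent.Lib.Helper2.DSub.finite_psl (F := F)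
  letI act : MulAction PG (Subgroup PG) := MulAction.compHom (Subgroup PG) (MulAut.conj (G := PG))
  have hL : Nat.card L = 60 := by rw [Nat.card_congr e.toEquiv, card_A5]
  have hstab : MulAction.stabilizer PG L = L := by
    ext g
    rw [MulAction.mem_stabilizer_iff]
    constructor
    · intro h
      exact stab_eq hF L e g h
    · intro h
      exact Subgroup.conj_smul_eq_self_of_mem h
  have hidx : L.index = 11 := by
    have h := L.card_mul_index
    rw [hL, card_G hF] at h
    omega
  have h := MulAction.index_stabilizer (G := PG) (x := L)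
  rw [hstab, hidx] at h
  exact h.symm

/-- the two basic `A₅`-subgroups are not conjugate -/
theorem not_conj (hF : Fintype.card F = 11) (g : PG) :
    MulAut.conj g • KK hF 1 ≠ KK hF (-1) := by
  intro hg
  haveI : Finite PG := Cfsg.Agent.Lib.Helper2.DSub.finite_psl (F := F)
  haveI : Fact (Nat.Prime 5) := ⟨Nat.prime_five⟩
  letI act : MulAction PG (Subgroup PG) := MulAction.compHom (Subgroup PG) (MulAut.conj (G := PG))
  obtain ⟨e1⟩ := (KK_spec hF 1).2
  have hcard : Nat.card (MulAction.orbit PG (KK hF 1)) = 11 := by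
    rw [Nat.card_coe_set_eq]
    exact card_class hF _ e1
  have hcc : orderOf (cc hF) = 5 := orderOf_eq_prime (cc_pow hF) (cc_ne_one hF)
  have hP : IsPGroup 5 (Subgroup.zpowers (cc hF)) := by
    apply IsPGroup.of_card (n := 1)
    rw [Nat.card_zpowers, hcc, pow_one]
  have hmod := hP.card_modEq_card_fixedPoints (MulAction.orbit PG (KK hF 1))
  rw [hcard] at hmod
  -- the fixed points are the two basic subgroups
  let x1 : MulAction.orbit PG (KK hF 1) := ⟨KK hF 1, MulAction.mem_orbit_self _⟩
  let x2 : MulAction.orbit PG (KK hF 1) := ⟨KK hF (-1), ⟨g, hg⟩⟩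
  have hfix : ∀ y : Fˣ, ∀ p ∈ Subgroup.zpowers (cc hF), MulAut.conj p • KK hF y = KK hF y := by
    intro y p hp
    apply Subgroup.conj_smul_eq_self_of_mem
    exact (Subgroup.zpowers_le.mpr (cc_mem hF y)) hp
  have hset : (MulAction.fixedPoints (Subgroup.zpowers (cc hF)) (MulAction.orbit PG (KK hF 1))) =
      {x1, x2} := by
    ext x
    constructor
    · intro hx
      have h1 : (⟨cc hF, Subgroup.mem_zpowers _⟩ : Subgroup.zpowers (cc hF)) • x = x := hx _
      have h2 : MulAut.conj (cc hF) • (x : Subgroup PG) = x := congrArg Subtype.val h1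
      obtain ⟨k, hk⟩ := x.2
      have hk' : MulAut.conj k • KK hF 1 = (x : Subgroup PG) := hk
      have ex : (x : Subgroup PG) ≃* alternatingGroup (Fin 5) := by
        rw [← hk']
        exact (Subgroup.equivSMul (MulAut.conj k) (KK hF 1)).symm.trans e1
      have hmem := stab_eq hF _ ex _ h2
      rcases through_cc hF _ ex hmem with h | h
      · left
        exact Subtype.ext h
      · right
        exact Subtype.ext h
    · rintro (rfl | rfl)
      · intro p
        apply Subtype.ext
        exact hfix 1 p.1 p.2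
      · intro p
        apply Subtype.ext
        exact hfix (-1) p.1 p.2
  have hne : x1 ≠ x2 := by
    intro h
    exact KK_ne hF (congrArg Subtype.val h)
  have hc2 : Nat.card (MulAction.fixedPoints (Subgroup.zpowers (cc hF))
      (MulAction.orbit PG (KK hF 1))) = 2 := by
    rw [hset, Nat.card_coe_set_eq, Set.ncard_pair hne]
  rw [hc2] at hmod
  exact absurd hmod (by decide)

end



/-- Let F be a field with 11 elements. PSL_2(F) has exactly 22 subgroups isomorphic to the alternating group A_5, and they form two conjugacy classes: there are two such subgroups that are not conjugate, and every such subgroup is conjugate to one of these two. -/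
theorem result {F : Type*} [Field F] [Fintype F] (hF : Fintype.card F = 11) : Nat.card {H : Subgroup (Matrix.ProjectiveSpecialLinearGroup (Fin 2) F) // Nonempty (H ≃* alternatingGroup (Fin 5))} = 22 ∧ ∃ H K : Subgroup (Matrix.ProjectiveSpecialLinearGroup (Fin 2) F), Nonempty (H ≃* alternatingGroup (Fin 5)) ∧ Nonempty (K ≃* alternatingGroup (Fin 5)) ∧ (∀ g : Matrix.ProjectiveSpecialLinearGroup (Fin 2) F, MulAut.conj g • H ≠ K) ∧ ∀ L : Subgroup (Matrix.ProjectiveSpecialLinearGroup (Fin 2) F), Nonempty (L ≃* alternatingGroup (Fin 5)) → ∃ g : Matrix.ProjectiveSpecialLinearGroup (Fin 2) F, MulAut.conj g • L = H ∨ MulAut.conj g • L = K := by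
  classical
  haveI : Finite (Matrix.ProjectiveSpecialLinearGroup (Fin 2) F) :=
    Cfsg.Agent.Lib.Helper2.DSub.finite_psl (F := F)
  obtain ⟨e1⟩ := (KK_spec hF 1).2
  obtain ⟨e2⟩ := (KK_spec hF (-1)).2
  have hcover : ∀ L : Subgroup (Matrix.ProjectiveSpecialLinearGroup (Fin 2) F),
      Nonempty (L ≃* alternatingGroup (Fin 5)) →
      ∃ g : Matrix.ProjectiveSpecialLinearGroup (Fin 2) F,
        MulAut.conj g • L = KK hF 1 ∨ MulAut.conj g • L = KK hF (-1) := by
    rintro L ⟨e⟩
    obtain ⟨g, hg⟩ := conj_through hF L e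
    exact ⟨g, through_cc hF _ ((Subgroup.equivSMul (MulAut.conj g) L).symm.trans e) hg⟩
  refine ⟨?_, KK hF 1, KK hF (-1), ⟨e1⟩, ⟨e2⟩, not_conj hF, hcover⟩
  have hset : {M : Subgroup (Matrix.ProjectiveSpecialLinearGroup (Fin 2) F) |
      Nonempty (M ≃* alternatingGroup (Fin 5))} =
      {M | ∃ g : Matrix.ProjectiveSpecialLinearGroup (Fin 2) F, MulAut.conj g • KK hF 1 = M} ∪
      {M | ∃ g : Matrix.ProjectiveSpecialLinearGroup (Fin 2) F, MulAut.conj g • KK hF (-1) = M} := by
    ext M
    simp only [Set.mem_setOf_eq, Set.mem_union]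
    constructor
    · intro hM
      obtain ⟨g, h | h⟩ := hcover M hM
      · left
        refine ⟨g⁻¹, ?_⟩
        rw [← h, ← mul_smul, ← map_mul, inv_mul_cancel, map_one, one_smul]
      · right
        refine ⟨g⁻¹, ?_⟩
        rw [← h, ← mul_smul, ← map_mul, inv_mul_cancel, map_one, one_smul]
    · rintro (⟨g, rfl⟩ | ⟨g, rfl⟩)
      · exact ⟨(Subgroup.equivSMul (MulAut.conj g) _).symm.trans e1⟩
      · exact ⟨(Subgroup.equivSMul (MulAut.conj g) _).symm.trans e2⟩
  have hdisj : Disjoint
      {M | ∃ g : Matrix.ProjectiveSpecialLinearGroup (Fin 2) F, MulAut.conj g • KK hF 1 = M}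
      {M | ∃ g : Matrix.ProjectiveSpecialLinearGroup (Fin 2) F, MulAut.conj g • KK hF (-1) = M} := by
    rw [Set.disjoint_left]
    rintro M ⟨g1, h1⟩ ⟨g2, h2⟩
    apply not_conj hF (g2⁻¹ * g1)
    rw [map_mul, mul_smul, h1, ← h2, ← mul_smul, ← map_mul, inv_mul_cancel, map_one, one_smul]
  show Nat.card ↥({M : Subgroup (Matrix.ProjectiveSpecialLinearGroup (Fin 2) F) |
      Nonempty (M ≃* alternatingGroup (Fin 5))}) = 22
  rw [Nat.card_coe_set_eq, hset, Set.ncard_union_eq hdisj (Set.toFinite _) (Set.toFinite _),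
    card_class hF _ e1, card_class hF _ e2]


end Cfsg.Agent.S2543
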