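import Cfsg.Statements.S2544
import Cfsg.Agent.Lib.Helper5.SteinbergPSL2
import Cfsg.Agent.Lib.Helper5.DefectZero

set_option autoImplicit false
open Cfsg

namespace Cfsg.Agent.S2544


open Cfsg.Agent.Lib.Helper5.SteinbergPSL Cfsg.Agent.Lib.Helper5.SLnBN


/-- Let F be a finite field of characteristic p and consider the projective special linear group PSL_n(F) with n ≥ 2. This group has an irreducible complex character χ whose degree equals the order of a Sylow p-subgroup (namely q^(n(n−1)/2) when #F = q) and whose restriction to any Sylow p-subgroup P is the regular character of P: χ vanishes on the non-identity elements of P. (This is the Steinberg character.) -/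
theorem result {F : Type*} [Field F] [Fintype F] (p : ℕ) [Fact p.Prime] [CharP F p] (n : ℕ) (hn : 2 ≤ n) : ∃ χ : Matrix.ProjectiveSpecialLinearGroup (Fin n) F → ℂ, Cfsg.IsIrrCharacter (Matrix.ProjectiveSpecialLinearGroup (Fin n) F) χ ∧ ∀ P : Sylow p (Matrix.ProjectiveSpecialLinearGroup (Fin n) F), χ 1 = Nat.card P ∧ ∀ x : Matrix.ProjectiveSpecialLinearGroup (Fin n) F, x ∈ P → x ≠ 1 → χ x = 0 := by
  classical
  have hp : p.Prime := Fact.out
  obtain ⟨m, rfl⟩ : ∃ m, n = m + 1 := ⟨n - 1, by omega⟩
  obtain ⟨⟨f, hf0⟩, -, hF⟩ := FiniteField.card F p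
  have hf : 1 ≤ f := hf0
  have hF' : Fintype.card F = p ^ f := hF
  have : Fintype (Matrix.ProjectiveSpecialLinearGroup (Fin (m + 1)) F) := Fintype.ofFinite _
  have : Fintype (GL (Fin (m + 1)) F) := Fintype.ofFinite _
  have hgen := isGenChar_stBar (F := F) (fun _ : Fin (m + 1) => 1)
  have hnorm := classInner_stBar (F := F) (fun _ : Fin (m + 1) => 1) monotone_const (by simp)
  have hone := stBar_ones_apply_one (F := F) (m := m)
  have hqpos : 0 < Fintype.card F ^ ((m + 1) * m / 2) := pow_pos Fintype.card_pos _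
  have hirr : Cfsg.IsIrrCharacter (Matrix.ProjectiveSpecialLinearGroup (Fin (m + 1)) F)
      (stBar (m + 1) F (fun _ => 1)) := by
    obtain ⟨ψ, hψ, h | h⟩ := Cfsg.Agent.Lib.Helper4.genChar_norm_one hgen hnorm
    · rw [h]
      exact hψ
    · exfalso
      obtain ⟨k, hk, hk1⟩ := Cfsg.Agent.Lib.Helper4.irr_apply_one_pos hψ
      have h1 := congrFun h 1
      rw [hone, Pi.neg_apply, hk1] at h1
      have h2 : ((Fintype.card F ^ ((m + 1) * m / 2) : ℕ) : ℤ) = -(k : ℤ) := by exact_mod_cast h1
      have h3 : (0 : ℤ) < ((Fintype.card F ^ ((m + 1) * m / 2) : ℕ) : ℤ) := by exact_mod_cast hqpos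
      omega
  have hcardU : Nat.card (unipBar (m + 1) F) = Fintype.card F ^ ((m + 1) * m / 2) := by
    rw [card_unipBar, Nat.add_sub_cancel]
  let SU : Sylow p (Matrix.ProjectiveSpecialLinearGroup (Fin (m + 1)) F) :=
    (isPGroup_unipBar hF').toSylow (not_dvd_index_unipBar hf hF' (by omega))
  have hSU : Nat.card SU = Fintype.card F ^ ((m + 1) * m / 2) := hcardU
  refine ⟨stBar (m + 1) F (fun _ => 1), hirr, fun P => ⟨?_, ?_⟩⟩
  · rw [hone, Sylow.card_eq_multiplicity P, ← Sylow.card_eq_multiplicity SU, hSU]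
  · intro x hx hx1
    have hdeg : Cfsg.charDegree (stBar (m + 1) F (fun _ => 1))
        = Fintype.card F ^ ((m + 1) * m / 2) := by
      unfold Cfsg.charDegree
      rw [hone, Complex.natCast_re, Nat.floor_natCast]
    have hdiv : ¬ p ∣ Nat.card (Matrix.ProjectiveSpecialLinearGroup (Fin (m + 1)) F) /
        Cfsg.charDegree (stBar (m + 1) F (fun _ => 1)) := by
      rw [hdeg, ← hcardU, ← (unipBar (m + 1) F).card_mul_index,
        Nat.mul_div_cancel_left _ (by rw [hcardU]; exact hqpos)]
      exact not_dvd_index_unipBar hf hF' (by omega)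
    have hord : p ∣ orderOf x := by
      obtain ⟨k, hk⟩ := P.2 ⟨x, hx⟩
      have hk' : x ^ p ^ k = 1 := by
        have := congrArg Subtype.val hk
        simpa using this
      obtain ⟨j, -, hj⟩ := (Nat.dvd_prime_pow hp).1 (orderOf_dvd_of_pow_eq_one hk')
      rcases j with _ | j
      · exfalso
        rw [pow_zero, orderOf_eq_one_iff] at hj
        exact hx1 hj
      · rw [hj, pow_succ]
        exact dvd_mul_left _ _
    exact Cfsg.Agent.Lib.Helper5.DefectZero.defect_zero_vanishes p
      ⟨stBar (m + 1) F (fun _ => 1), hirr⟩ hdiv x hord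
      (by
        show stBar (m + 1) F (fun _ => 1) 1 ≠ 0
        rw [hone]
        exact_mod_cast hqpos.ne')

end Cfsg.Agent.S2544
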