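import Cfsg.Statements.S2550
import Cfsg.Agent.Lib.Helper5.SLnNorm
import Cfsg.Agent.Lib.Helper1.SLCard

set_option autoImplicit false
open Cfsg

namespace Cfsg.Agent.S2550


open Matrix Cfsg.Agent.Lib.Helper5.SLnBN Cfsg.Agent.Lib.Helper5.SLnAut

theorem card_four {F : Type*} [Field F] [Fintype F] (hF : Fintype.card F = 2) :
    Nat.card (Matrix.ProjectiveSpecialLinearGroup (Fin 4) F) = 20160 := by
  have h := Cfsg.Agent.Lib.Helper1.card_PSL_field (F := F) 4 (by norm_num)
  rw [hF, Fin.prod_univ_four] at h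
  norm_num at h
  omega

theorem card_three {K : Type*} [Field K] [Fintype K] (hK : Fintype.card K = 4) :
    Nat.card (Matrix.ProjectiveSpecialLinearGroup (Fin 3) K) = 20160 := by
  have h := Cfsg.Agent.Lib.Helper1.card_PSL_field (F := K) 3 (by norm_num)
  rw [hK, Fin.prod_univ_three] at h
  norm_num at h
  omega

/-- Over the field with two elements the Borel subgroup is unitriangular. -/
theorem borel_eq_unip {F : Type*} [Field F] [Fintype F] (hF : Fintype.card F = 2) (n : ℕ) :
    borel n F = unip n F := by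
  classical
  apply le_antisymm _ unip_le_borel
  intro g hg
  refine ⟨hg, fun i => ?_⟩
  have hne := diag_ne_zero_of_mem_borel hg i
  by_contra h1
  have h3 : ({0, 1, (g : Matrix (Fin n) (Fin n) F) i i} : Finset F).card = 3 := by
    rw [Finset.card_insert_of_notMem, Finset.card_insert_of_notMem, Finset.card_singleton]
    · simpa using Ne.symm h1
    · simp only [Finset.mem_insert, Finset.mem_singleton, not_or]
      exact ⟨zero_ne_one, Ne.symm hne⟩
  have := Finset.card_le_univ ({0, 1, (g : Matrix (Fin n) (Fin n) F) i i} : Finset F)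
  omega

theorem borelBar_eq_unipBar {F : Type*} [Field F] [Fintype F] (hF : Fintype.card F = 2) (n : ℕ) :
    borelBar n F = unipBar n F := by
  unfold borelBar unipBar
  rw [borel_eq_unip hF]

/-- A diagonal element of `SL_3(K)`. -/
noncomputable def dg {K : Type*} [Field K] (a : K) (ha : a ≠ 0) :
    Matrix.SpecialLinearGroup (Fin 3) K :=
  ⟨Matrix.diagonal ![a, a⁻¹, 1], by
    rw [Matrix.det_diagonal, Fin.prod_univ_three]
    simp [ha]⟩

theorem dg_mem_borel {K : Type*} [Field K] (a : K) (ha : a ≠ 0) : dg a ha ∈ borel 3 K := by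
  intro i j hij
  show Matrix.diagonal ![a, a⁻¹, 1] i j = 0
  rw [Matrix.diagonal_apply_ne _ (ne_of_gt hij)]

theorem piN_dg_not_mem {K : Type*} [Field K] (a : K) (ha : a ≠ 0) (ha1 : a ≠ 1) :
    piN (dg a ha) ∉ unipBar 3 K := by
  intro h
  obtain ⟨u, hu, z, hz, e⟩ := exists_of_piN_mem_unipBar h
  rw [Matrix.SpecialLinearGroup.mem_center_iff] at hz
  obtain ⟨r, _, hr⟩ := hz
  have hz' : z ∈ borel 3 K := by
    intro i j hij
    rw [← hr]
    simp [Matrix.scalar_apply, Matrix.diagonal_apply_ne _ (ne_of_gt hij)]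
  have key : ∀ i : Fin 3, (dg a ha : Matrix (Fin 3) (Fin 3) K) i i = r := by
    intro i
    rw [e, borel_mul_diag hu.1 hz', hu.2, one_mul, ← hr]
    simp [Matrix.scalar_apply]
  have k0 := key 0
  have k2 := key 2
  have e0 : (dg a ha : Matrix (Fin 3) (Fin 3) K) 0 0 = a := by
    show Matrix.diagonal ![a, a⁻¹, 1] 0 0 = a
    simp
  have e2 : (dg a ha : Matrix (Fin 3) (Fin 3) K) 2 2 = 1 := by
    show Matrix.diagonal ![a, a⁻¹, 1] 2 2 = 1
    simp
  apply ha1
  rw [← e0, k0, ← k2, e2]

theorem exists_ne {K : Type*} [Field K] [Fintype K] (hK : Fintype.card K = 4) :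
    ∃ a : K, a ≠ 0 ∧ a ≠ 1 := by
  classical
  by_contra hcon
  push Not at hcon
  have : (Finset.univ : Finset K) ⊆ {0, 1} := by
    intro a _
    by_cases h0 : a = 0
    · simp [h0]
    · simp [hcon a h0]
  have h1 := Finset.card_le_card this
  have h2 : ({0, 1} : Finset K).card ≤ 2 := Finset.card_le_two
  rw [Finset.card_univ] at h1
  omega


/-- Let F be a field with 2 elements and K a field with 4 elements. PSL_4(F) and PSL_3(K) have the same order (20160) but are not isomorphic. -/
theorem result {F K : Type*} [Field F] [Fintype F] [Field K] [Fintype K] (hF : Fintype.card F = 2) (hK : Fintype.card K = 4) : Nat.card (Matrix.ProjectiveSpecialLinearGroup (Fin 4) F) = Nat.card (Matrix.ProjectiveSpecialLinearGroup (Fin 3) K) ∧ ¬ Nonempty (Matrix.ProjectiveSpecialLinearGroup (Fin 4) F ≃* Matrix.ProjectiveSpecialLinearGroup (Fin 3) K) := by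
  refine ⟨by rw [card_four hF, card_three hK], ?_⟩
  rintro ⟨e⟩
  haveI : Fact (Nat.Prime 2) := ⟨Nat.prime_two⟩
  obtain ⟨a, ha, ha1⟩ := exists_ne hK
  set t := piN (dg a ha) with ht
  have htN : t ∈ Subgroup.normalizer (unipBar 3 K : Set _) :=
    borelBar_le_normalizer (piN_mem_borelBar.2 (dg_mem_borel a ha))
  have htU : t ∉ unipBar 3 K := piN_dg_not_mem a ha ha1
  -- pull back
  set V : Subgroup (Matrix.ProjectiveSpecialLinearGroup (Fin 4) F) :=
    (unipBar 3 K).comap e.toMonoidHom with hV
  have hVcard : Nat.card V = 64 := by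
    have h1 : Nat.card V = Nat.card (unipBar 3 K) := by
      apply Nat.card_congr
      exact (e.subgroupMap V).toEquiv.trans (Equiv.setCongr (by
        ext x
        simp only [hV, Subgroup.coe_map, Set.mem_image, SetLike.mem_coe, Subgroup.mem_comap]
        constructor
        · rintro ⟨y, hy, rfl⟩
          exact hy
        · intro hx
          exact ⟨e.symm x, by simpa using hx, by simp⟩))
    rw [h1, card_unipBar, hK]
    norm_num
  have hVp : IsPGroup 2 V := IsPGroup.of_card (n := 6) (by rw [hVcard]; norm_num)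
  obtain ⟨g, hg⟩ := exists_conj_of_isPGroup (p := 2) (f := 1) le_rfl (by rw [hF, pow_one])
    (by norm_num) V hVp
  have hUcard : Nat.card (unipBar 4 F) = 64 := by
    rw [card_unipBar, hF]
    norm_num
  -- conjugation map V → unipBar is a bijection
  have hsurj : ∀ u ∈ unipBar 4 F, g * u * g⁻¹ ∈ V := by
    have hinj : Function.Injective (fun k : V => (⟨g⁻¹ * k * g, hg k k.2⟩ : unipBar 4 F)) := by
      intro k k' h
      have := congrArg Subtype.val h
      simp only [mul_left_inj, mul_right_inj] at this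
      exact Subtype.ext this
    haveI : Finite V := Nat.finite_of_card_ne_zero (by rw [hVcard]; norm_num)
    haveI : Finite (unipBar 4 F) := Nat.finite_of_card_ne_zero (by rw [hUcard]; norm_num)
    have hbij := (Nat.bijective_iff_injective_and_card _).2 ⟨hinj, by rw [hVcard, hUcard]⟩
    intro u hu
    obtain ⟨k, hk⟩ := hbij.2 ⟨u, hu⟩
    have := congrArg Subtype.val hk
    simp only at this
    rw [← this]
    have e1 : g * (g⁻¹ * (k : Matrix.ProjectiveSpecialLinearGroup (Fin 4) F) * g) * g⁻¹ = k := by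
      group
    rw [e1]
    exact k.2
  -- s = e.symm t normalizes V
  set s := e.symm t with hs
  have hsV : ∀ k, k ∈ V ↔ s * k * s⁻¹ ∈ V := by
    intro k
    simp only [hV, Subgroup.mem_comap, MulEquiv.coe_toMonoidHom, map_mul, map_inv, hs,
      MulEquiv.apply_symm_apply]
    exact Subgroup.mem_normalizer_iff.1 htN (e k)
  -- g⁻¹ s g normalizes unipBar 4 F
  have hN : g⁻¹ * s * g ∈ Subgroup.normalizer (unipBar 4 F : Set _) := by
    rw [Subgroup.mem_normalizer_iff]
    intro u
    constructor
    · intro hu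
      have h1 := (hsV _).1 (hsurj u hu)
      have h2 := hg _ h1
      have e1 : g⁻¹ * (s * (g * u * g⁻¹) * s⁻¹) * g = g⁻¹ * s * g * u * (g⁻¹ * s * g)⁻¹ := by
        group
      rwa [e1] at h2
    · intro hu
      have h1 := hsurj _ hu
      have e1 : g * (g⁻¹ * s * g * u * (g⁻¹ * s * g)⁻¹) * g⁻¹ = s * (g * u * g⁻¹) * s⁻¹ := by
        group
      rw [e1] at h1
      have h2 := hg _ ((hsV _).2 h1)
      have e2 : g⁻¹ * (g * u * g⁻¹) * g = u := by group
      rwa [e2] at h2
  rw [normalizer_unipBar (by norm_num : 1 ≤ 3), borelBar_eq_unipBar hF] at hN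
  have h3 := hsurj _ hN
  have e3 : g * (g⁻¹ * s * g) * g⁻¹ = s := by group
  rw [e3] at h3
  apply htU
  have : e s ∈ unipBar 3 K := h3
  rwa [hs, MulEquiv.apply_symm_apply] at this

end Cfsg.Agent.S2550
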