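import Mathlib
import Cfsg.Statements.S2552

set_option autoImplicit false
open Cfsg

namespace Cfsg.Agent.S2552

open Module

section general
variable {F : Type*} [Field F] {V : Type*} [AddCommGroup V] [Module F V] [FiniteDimensional F V]

/-- On a nonzero finite-dimensional space every nonzero scalar is the determinant of some automorphism. -/
theorem exists_det_eq {W : Type*} [AddCommGroup W] [Module F W] [FiniteDimensional F W]
    (hW : 0 < finrank F W) (c : F) (hc : c ≠ 0) :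
    ∃ δ : W ≃ₗ[F] W, LinearMap.det δ.toLinearMap = c := by
  classical
  let b := Module.finBasis F W
  let i₀ : Fin (finrank F W) := ⟨0, hW⟩
  let δ₀ : W →ₗ[F] W := Matrix.toLin b b (Matrix.diagonal (Function.update (fun _ => (1 : F)) i₀ c))
  have hdet : LinearMap.det δ₀ = c := by
    rw [LinearMap.det_toLin, Matrix.det_diagonal, Finset.prod_update_of_mem (Finset.mem_univ _)]
    simp
  have hne : LinearMap.det δ₀ ≠ 0 := by rw [hdet]; exact hc
  refine ⟨LinearMap.equivOfDetNeZero δ₀ hne, ?_⟩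
  have h1 : (LinearMap.equivOfDetNeZero δ₀ hne).toLinearMap = δ₀ := LinearEquiv.coe_ofIsUnitDet _
  rw [h1, hdet]

/-- Any two subspaces of the same dimension are carried to each other by a determinant-one map. -/
theorem exists_det_one_map (U₁ U₂ : Submodule F V) (h : finrank F U₁ = finrank F U₂) :
    ∃ g : V ≃ₗ[F] V, LinearMap.det g.toLinearMap = 1 ∧ U₁.map g.toLinearMap = U₂ := by
  classical
  by_cases hk : finrank F U₂ = 0
  · -- both are zero
    have h2 : U₂ = ⊥ := Submodule.finrank_eq_zero.1 hk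
    have h1 : U₁ = ⊥ := Submodule.finrank_eq_zero.1 (h.trans hk)
    refine ⟨LinearEquiv.refl F V, LinearMap.det_id, ?_⟩
    rw [h1, h2, Submodule.map_bot]
  obtain ⟨C₁, hC₁⟩ := Submodule.exists_isCompl U₁
  obtain ⟨C₂, hC₂⟩ := Submodule.exists_isCompl U₂
  have hC : finrank F C₁ = finrank F C₂ := by
    have h1 := Submodule.finrank_add_eq_of_isCompl hC₁
    have h2 := Submodule.finrank_add_eq_of_isCompl hC₂
    omega
  let α : U₁ ≃ₗ[F] U₂ := LinearEquiv.ofFinrankEq _ _ h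
  let β : C₁ ≃ₗ[F] C₂ := LinearEquiv.ofFinrankEq _ _ hC
  let e₁ : (U₁ × C₁) ≃ₗ[F] V := Submodule.prodEquivOfIsCompl U₁ C₁ hC₁
  let e₂ : (U₂ × C₂) ≃ₗ[F] V := Submodule.prodEquivOfIsCompl U₂ C₂ hC₂
  let g₀ : V ≃ₗ[F] V := e₁.symm ≪≫ₗ (α.prodCongr β) ≪≫ₗ e₂
  have hg₀U : ∀ u : U₁, g₀ (u : V) = (α u : V) := by
    intro u
    have h1 : e₁.symm (u : V) = (u, 0) := by
      rw [LinearEquiv.symm_apply_eq]
      simp [e₁]
    simp [g₀, h1, e₂]
  have hpos : 0 < finrank F U₂ := Nat.pos_of_ne_zero hk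
  have hdet0 : LinearMap.det g₀.toLinearMap ≠ 0 := (LinearEquiv.isUnit_det' g₀).ne_zero
  obtain ⟨δ, hδ⟩ := exists_det_eq (F := F) (W := U₂) hpos (LinearMap.det g₀.toLinearMap)⁻¹
    (inv_ne_zero hdet0)
  let D : V ≃ₗ[F] V := e₂.symm ≪≫ₗ (δ.prodCongr (LinearEquiv.refl F C₂)) ≪≫ₗ e₂
  have hDdet : LinearMap.det D.toLinearMap = (LinearMap.det g₀.toLinearMap)⁻¹ := by
    have h1 : D.toLinearMap = e₂.toLinearMap ∘ₗ (δ.toLinearMap.prodMap LinearMap.id) ∘ₗ e₂.symm.toLinearMap := by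
      ext x
      rfl
    rw [h1, LinearMap.det_conj, LinearMap.det_prodMap, LinearMap.det_id, mul_one, hδ]
  have hDU : ∀ u : U₂, D (u : V) = (δ u : V) := by
    intro u
    have h1 : e₂.symm (u : V) = (u, 0) := by
      rw [LinearEquiv.symm_apply_eq]
      simp [e₂]
    simp [D, h1, e₂]
  refine ⟨g₀ ≪≫ₗ D, ?_, ?_⟩
  · have h1 : (g₀ ≪≫ₗ D).toLinearMap = D.toLinearMap ∘ₗ g₀.toLinearMap := rfl
    rw [h1, LinearMap.det_comp, hDdet, inv_mul_cancel₀ hdet0]
  · apply le_antisymm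
    · rintro _ ⟨v, hv, rfl⟩
      have : (g₀ ≪≫ₗ D).toLinearMap v = (δ (α ⟨v, hv⟩) : V) := by
        show D (g₀ v) = _
        rw [hg₀U ⟨v, hv⟩, hDU]
      rw [this]
      exact (δ (α ⟨v, hv⟩)).2
    · intro w hw
      refine ⟨(α.symm (δ.symm ⟨w, hw⟩) : V), (α.symm (δ.symm ⟨w, hw⟩)).2, ?_⟩
      show D (g₀ (α.symm (δ.symm ⟨w, hw⟩) : V)) = w
      rw [hg₀U, hDU]
      simp

end general

/-- Build an element of `SL` from a matrix of determinant one. -/
def mkSL {F : Type*} [Field F] {n : ℕ} (M : Matrix (Fin n) (Fin n) F) (h : M.det = 1) :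
    Matrix.SpecialLinearGroup (Fin n) F := ⟨M, h⟩

@[simp] theorem mkSL_coe {F : Type*} [Field F] {n : ℕ} (M : Matrix (Fin n) (Fin n) F) (h : M.det = 1) :
    ((mkSL M h : Matrix.SpecialLinearGroup (Fin n) F) : Matrix (Fin n) (Fin n) F) = M := rfl

theorem result {F : Type*} [Field F] [Fintype F] (n : ℕ) (hn : 1 ≤ n) (U₁ U₂ : Submodule F (Fin n → F)) (h : Module.finrank F U₁ = Module.finrank F U₂) : ∃ g : Matrix.SpecialLinearGroup (Fin n) F, U₁.map ((Matrix.SpecialLinearGroup.toLin' g : (Fin n → F) ≃ₗ[F] (Fin n → F)) : (Fin n → F) →ₗ[F] (Fin n → F)) = U₂ := by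
  obtain ⟨g, hdet, hmap⟩ := exists_det_one_map U₁ U₂ h
  have hM : (LinearMap.toMatrix' g.toLinearMap).det = 1 := by
    rw [LinearMap.det_toMatrix', hdet]
  refine ⟨mkSL (LinearMap.toMatrix' g.toLinearMap) hM, ?_⟩
  rw [Matrix.SpecialLinearGroup.toLin'_to_linearMap, mkSL_coe, Matrix.toLin'_toMatrix']
  exact hmap

end Cfsg.Agent.S2552
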