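import Cfsg.Statements.S2553
import Cfsg.Agent.Lib.Helper5.GL42.G1
import Cfsg.Agent.Lib.Helper5.GL42.G7
import Cfsg.Agent.Lib.Helper5.GL42.G13

set_option autoImplicit false
open Cfsg

namespace Cfsg.Agent.S2553

/-- Let H be a nontrivial subgroup of GL(4,2) (a group isomorphic to the alternating group of degree 8) whose largest normal 2-subgroup and largest normal subgroup of odd order are both trivial. Then H is isomorphic to an alternating group of degree n for some 5 ≤ n ≤ 8, to the symmetric group of degree 5 or 6, or to GL(3,2). -/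
theorem result (H : Subgroup (GL (Fin 4) (ZMod 2))) (hH : H ≠ ⊥) (hO : Cfsg.pPrimeCore 2 ↥H = ⊥) (hO2 : Cfsg.pCore 2 ↥H = ⊥) :
    (∃ n : ℕ, 5 ≤ n ∧ n ≤ 8 ∧ Nonempty (↥H ≃* alternatingGroup (Fin n))) ∨
    Nonempty (↥H ≃* Equiv.Perm (Fin 5)) ∨ Nonempty (↥H ≃* Equiv.Perm (Fin 6)) ∨ Nonempty (↥H ≃* GL (Fin 3) (ZMod 2)) := by
  classical
  obtain ⟨e⟩ := Cfsg.Agent.Lib.Helper5.GL42.exists_glEquivAlt
  haveI : Nontrivial ↥H := (Subgroup.nontrivial_iff_ne_bot H).2 hH
  let ι : ↥H →* Equiv.Perm (Fin 8) :=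
    (alternatingGroup (Fin 8)).subtype.comp (e.toMonoidHom.comp H.subtype)
  have hι : Function.Injective ι :=
    (Subgroup.subtype_injective _).comp (e.injective.comp H.subtype_injective)
  have hA : ∀ x, ι x ∈ alternatingGroup (Fin 8) := fun x => (e (x : GL (Fin 4) (ZMod 2))).2
  apply Cfsg.Agent.Lib.Helper5.GL42.main_perm ι hι hA hO2 hO
  intro N hN hs
  let T : Subgroup (GL (Fin 4) (ZMod 2)) := N.map H.subtype
  have eT : ↥N ≃* ↥T := N.equivMapOfInjective H.subtype H.subtype_injective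
  haveI : IsSimpleGroup ↥T := eT.symm.isSimpleGroup
  have hc : Nat.card ↥T = 1344 := by rw [← Nat.card_congr eT.toEquiv, hN]
  exact Cfsg.Agent.Lib.Helper5.GL42.no_simple_1344 T hc

end Cfsg.Agent.S2553
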