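import Mathlib
-- Template for statement S2556 (row 2556; see /opt/grader/pristine/manifest.json for weights).
-- Copy to Cfsg/Agent/S2556.lean and replace the sorry. The statement below is byte-identical to the frozen
-- statement Cfsg.CfsgFrozen.S2556 (Cfsg/Statements/S2556.lean; the theorem Cfsg.fg19_aut_sylow_two_suzuki_structure);
-- the grader kernel-checks Cfsg.Agent.S2556.result against that frozen type. Keep the theorem IN THIS FILE
-- (a `result` declared elsewhere and merely imported here is not credited); helpers may live anywhere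
-- under Cfsg/Agent/.
import Cfsg.Statements.S2556
import Cfsg.Agent.Lib.Helper3.SzAut5
import Cfsg.Agent.Lib.Helper3.Sz21

set_option autoImplicit false
open Cfsg
open Cfsg.Agent.Lib.Helper3.Sz Cfsg.Agent.Lib.Helper3.SzAut

namespace Cfsg.Agent.S2556

/-- Let S be a Sylow 2-subgroup of the Suzuki group Sz(q), q = 2ⁿ with n = 2m + 1 ≥ 3 (realised as 4 × 4 matrices over the field with q elements). Then the largest normal 2-subgroup of the automorphism group of S is elementary abelian of order 2^(n²), and the automorphism group of S has order 2^(n²) · n · (q − 1). -/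
theorem result {S : Type*} [Group S] [Finite S] (m : ℕ) (hm : 1 ≤ m)
    {F : Type*} [Field F] [Fintype F] (hF : Fintype.card F = 2 ^ (2 * m + 1))
    (P : Sylow 2 ↥(Cfsg.Lie.Sz F (2 ^ (m + 1)))) (hS : Nonempty (S ≃* ↥(P : Subgroup ↥(Cfsg.Lie.Sz F (2 ^ (m + 1)))))) :
    Cfsg.IsElementaryAbelian 2 (Cfsg.pCore 2 (MulAut S)) ∧ Nat.card ↥(Cfsg.pCore 2 (MulAut S)) = 2 ^ ((2 * m + 1) ^ 2) ∧
      Nat.card (MulAut S) = 2 ^ ((2 * m + 1) ^ 2) * ((2 * m + 1) * (2 ^ (2 * m + 1) - 1)) := by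
  have := charP_two_of_card hF
  have : Fact (Nat.Prime 2) := ⟨Nat.prime_two⟩
  have hq : Nat.card F = 2 ^ (2 * m + 1) := by rw [Nat.card_eq_fintype_card, hF]
  have hT := titsOfCard_isPow hm hF
  have he : ∀ x, (titsOfCard hF).θ x = x ^ 2 ^ (m + 1) := titsOfCard_apply hF
  have hL : Cfsg.Lie.Sz F (2 ^ (m + 1)) = GamGL (titsOfCard hF) := lieSz_eq (titsOfCard hF) hT he
  let E : Gam (titsOfCard hF) ≃* ↥(Cfsg.Lie.Sz F (2 ^ (m + 1))) :=
    (gamEquiv (titsOfCard hF)).trans (MulEquiv.subgroupCongr hL.symm)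
  let Q : Sylow 2 ↥(Cfsg.Lie.Sz F (2 ^ (m + 1))) :=
    (sylU (titsOfCard hF) hT).mapSurjective (f := E.toMonoidHom) E.surjective
  have e1 : ↥(P : Subgroup ↥(Cfsg.Lie.Sz F (2 ^ (m + 1)))) ≃* ↥(Q : Subgroup ↥(Cfsg.Lie.Sz F (2 ^ (m + 1)))) :=
    Sylow.equiv P Q
  have e2 : ↥(Q : Subgroup ↥(Cfsg.Lie.Sz F (2 ^ (m + 1)))) ≃* ↥(sylU (titsOfCard hF) hT : Subgroup (Gam (titsOfCard hF))) :=
    (Subgroup.equivMapOfInjective _ E.toMonoidHom E.injective).symm
  have e3 : ↥(sylU (titsOfCard hF) hT : Subgroup (Gam (titsOfCard hF))) ≃* Usub (titsOfCard hF) :=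
    MulEquiv.subgroupCongr (sylU_coe (titsOfCard hF) hT)
  obtain ⟨e0⟩ := hS
  exact transfer_aut (((e0.trans e1).trans e2).trans e3) (aut_main (titsOfCard hF) hT hq)

end Cfsg.Agent.S2556
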