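import Mathlib
import Cfsg.Statements.S2564

set_option autoImplicit false
open Cfsg

namespace Cfsg.Agent.S2564

/-- the polar form of the plus-type form -/
def B (m : ℕ) (u v : Fin m ⊕ Fin m → ZMod 2) : ZMod 2 :=
  ∑ i : Fin m, (u (.inl i) * v (.inr i) + v (.inl i) * u (.inr i))

theorem polar_eq (m : ℕ) (u v : Fin m ⊕ Fin m → ZMod 2) :
    quadFormPlus m (ZMod 2) (u + v) - quadFormPlus m (ZMod 2) u - quadFormPlus m (ZMod 2) v
      = B m u v := by
  unfold quadFormPlus B
  rw [← Finset.sum_sub_distrib, ← Finset.sum_sub_distrib]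
  apply Finset.sum_congr rfl
  intro i _
  simp only [Pi.add_apply]
  ring

theorem B_add_left (m : ℕ) (u v w : Fin m ⊕ Fin m → ZMod 2) :
    B m (u + v) w = B m u w + B m v w := by
  unfold B
  rw [← Finset.sum_add_distrib]
  apply Finset.sum_congr rfl
  intro i _
  simp only [Pi.add_apply]
  ring

theorem B_comm (m : ℕ) (u v : Fin m ⊕ Fin m → ZMod 2) : B m u v = B m v u := by
  unfold B
  apply Finset.sum_congr rfl
  intro i _
  ring

theorem B_add_right (m : ℕ) (u v w : Fin m ⊕ Fin m → ZMod 2) :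
    B m w (u + v) = B m w u + B m w v := by
  rw [B_comm, B_add_left, B_comm m u, B_comm m v]

theorem B_self (m : ℕ) (u : Fin m ⊕ Fin m → ZMod 2) : B m u u = 0 := by
  unfold B
  apply Finset.sum_eq_zero
  intro i _
  exact CharTwo.add_self_eq_zero _

theorem B_zero_left (m : ℕ) (u : Fin m ⊕ Fin m → ZMod 2) : B m 0 u = 0 := by
  unfold B
  apply Finset.sum_eq_zero
  intro i _
  simp

theorem B_zero_right (m : ℕ) (u : Fin m ⊕ Fin m → ZMod 2) : B m u 0 = 0 := by
  rw [B_comm, B_zero_left]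

theorem zmod2_cases (a : ZMod 2) : a = 0 ∨ a = 1 := by
  revert a; decide

theorem B_single_inl (m : ℕ) (i : Fin m) (t : Fin m ⊕ Fin m → ZMod 2) :
    B m (Pi.single (Sum.inl i) 1) t = t (Sum.inr i) := by
  classical
  unfold B
  rw [Finset.sum_eq_single i]
  · simp
  · intro j _ hj
    simp [hj]
  · intro h; exact absurd (Finset.mem_univ i) h

theorem B_single_inr (m : ℕ) (i : Fin m) (t : Fin m ⊕ Fin m → ZMod 2) :
    B m (Pi.single (Sum.inr i) 1) t = t (Sum.inl i) := by
  classical
  unfold B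
  rw [Finset.sum_eq_single i]
  · simp
  · intro j _ hj
    simp [hj]
  · intro h; exact absurd (Finset.mem_univ i) h

theorem exists_B_eq_one (m : ℕ) (t : Fin m ⊕ Fin m → ZMod 2) (ht : t ≠ 0) : ∃ u, B m u t = 1 := by
  classical
  obtain ⟨k, hk⟩ : ∃ k, t k ≠ 0 := by
    by_contra hcon
    push Not at hcon
    exact ht (funext hcon)
  have hk1 : t k = 1 := (zmod2_cases (t k)).resolve_left hk
  rcases k with i | i
  · exact ⟨Pi.single (Sum.inr i) 1, by rw [B_single_inr, hk1]⟩
  · exact ⟨Pi.single (Sum.inl i) 1, by rw [B_single_inl, hk1]⟩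

/-- the sign character of `ZMod 2` -/
def chi (a : ZMod 2) : ℤ := if a = 0 then 1 else -1

theorem chi_add (a b : ZMod 2) : chi (a + b) = chi a * chi b := by
  revert a b; decide

theorem chi_zero : chi 0 = 1 := by decide

theorem chi_one : chi 1 = -1 := by decide

theorem sum_chi_B (m : ℕ) (t : Fin m ⊕ Fin m → ZMod 2) :
    ∑ u : Fin m ⊕ Fin m → ZMod 2, chi (B m u t) = if t = 0 then 2 ^ (2 * m) else 0 := by
  classical
  split_ifs with ht
  · subst ht
    simp only [B_zero_right, chi_zero, Finset.sum_const, Finset.card_univ]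
    rw [Fintype.card_fun, Fintype.card_sum, ZMod.card, Fintype.card_fin]
    norm_num
    ring_nf
  · obtain ⟨u₀, hu₀⟩ := exists_B_eq_one m t ht
    have h1 : ∑ u : Fin m ⊕ Fin m → ZMod 2, chi (B m u t)
        = ∑ u : Fin m ⊕ Fin m → ZMod 2, chi (B m (u + u₀) t) :=
      (Equiv.sum_comp (Equiv.addRight u₀) (fun u => chi (B m u t))).symm
    have h2 : ∑ u : Fin m ⊕ Fin m → ZMod 2, chi (B m (u + u₀) t)
        = - ∑ u : Fin m ⊕ Fin m → ZMod 2, chi (B m u t) := by
      rw [← Finset.sum_neg_distrib]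
      apply Finset.sum_congr rfl
      intro u _
      rw [B_add_left, chi_add, hu₀, chi_one]; ring
    omega

section withq
variable (m : ℕ) (q : (Fin m ⊕ Fin m → ZMod 2) → ZMod 2)
  (hq : ∀ u v : (Fin m ⊕ Fin m → ZMod 2), q (u + v) = q u + q v + B m u v)

include hq in
theorem q_zero : q 0 = 0 := by
  have := hq 0 0
  rw [add_zero, B_zero_left, add_zero] at this
  have h2 : q 0 + q 0 = q 0 + 0 := by rw [add_zero]; exact this.symm
  exact add_left_cancel h2

/-- the character sum -/
def S (m : ℕ) (q : (Fin m ⊕ Fin m → ZMod 2) → ZMod 2) : ℤ :=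
  ∑ v : Fin m ⊕ Fin m → ZMod 2, chi (q v)

include hq in
theorem S_sq : (S m q) ^ 2 = 2 ^ (2 * m) := by
  classical
  unfold S
  rw [sq, Finset.sum_mul_sum]
  have h1 : ∀ u : Fin m ⊕ Fin m → ZMod 2,
      ∑ v : Fin m ⊕ Fin m → ZMod 2, chi (q u) * chi (q v)
        = ∑ t : Fin m ⊕ Fin m → ZMod 2, chi (q t) * chi (B m u t) := by
    intro u
    rw [← Equiv.sum_comp (Equiv.addLeft u) (fun v => chi (q u) * chi (q v))]
    apply Finset.sum_congr rfl
    intro t _
    simp only [Equiv.coe_addLeft]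
    rw [hq, chi_add, chi_add]
    have : chi (q u) * chi (q u) = 1 := by
      rcases zmod2_cases (q u) with h | h <;> rw [h] <;> decide
    calc chi (q u) * (chi (q u) * chi (q t) * chi (B m u t))
        = (chi (q u) * chi (q u)) * (chi (q t) * chi (B m u t)) := by ring
      _ = _ := by rw [this, one_mul]
  rw [Finset.sum_congr rfl (fun u _ => h1 u), Finset.sum_comm]
  simp_rw [← Finset.mul_sum, sum_chi_B]
  rw [Finset.sum_eq_single 0]
  · rw [if_pos rfl, q_zero m q hq, chi_zero, one_mul]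
  · intro t _ ht
    rw [if_neg ht, mul_zero]
  · intro h; exact absurd (Finset.mem_univ _) h

include hq in
theorem S_shift (w : Fin m ⊕ Fin m → ZMod 2) :
    S m q = chi (q w) * S m (fun v => q v + B m v w) := by
  unfold S
  rw [← Equiv.sum_comp (Equiv.addRight w) (fun v => chi (q v)), Finset.mul_sum]
  apply Finset.sum_congr rfl
  intro v _
  simp only [Equiv.coe_addRight]
  rw [hq, chi_add, chi_add, chi_add]
  ring

end withq

/-- the transvection-like map attached to `w` -/
def tv (m : ℕ) (w : Fin m ⊕ Fin m → ZMod 2) :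
    (Fin m ⊕ Fin m → ZMod 2) →ₗ[ZMod 2] (Fin m ⊕ Fin m → ZMod 2) where
  toFun v := v + B m v w • w
  map_add' u v := by
    rw [B_add_left, add_smul]; abel
  map_smul' c v := by
    rcases zmod2_cases c with h | h
    · subst h; simp [B_zero_left]
    · subst h; simp

theorem tv_tv (m : ℕ) (w v : Fin m ⊕ Fin m → ZMod 2) : tv m w (tv m w v) = v := by
  show (v + B m v w • w) + B m (v + B m v w • w) w • w = v
  rw [B_add_left]
  rcases zmod2_cases (B m v w) with h | h
  · rw [h, zero_smul, B_zero_left, add_zero, add_zero, zero_smul, add_zero]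
  · rw [h, one_smul, B_self, add_zero, one_smul, add_assoc]
    have : w + w = 0 := by
      funext k
      exact CharTwo.add_self_eq_zero (w k)
    rw [this, add_zero]

/-- main theorem in terms of `B` -/
theorem main (m : ℕ) (q : (Fin m ⊕ Fin m → ZMod 2) → ZMod 2)
    (hq : ∀ u v : (Fin m ⊕ Fin m → ZMod 2), q (u + v) = q u + q v + B m u v)
    (w : Fin m ⊕ Fin m → ZMod 2) :
    (∃ g : (Fin m ⊕ Fin m → ZMod 2) ≃ₗ[ZMod 2] (Fin m ⊕ Fin m → ZMod 2),
      ∀ v, q v + B m v w = q (g v)) ↔ q w = 0 := by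
  constructor
  · rintro ⟨g, hg⟩
    by_contra hw
    have hw1 : q w = 1 := (zmod2_cases (q w)).resolve_left hw
    have h1 := S_shift m q hq w
    have h2 : S m (fun v => q v + B m v w) = S m q := by
      unfold S
      rw [← Equiv.sum_comp g.toEquiv (fun v => chi (q v))]
      apply Finset.sum_congr rfl
      intro v _
      show chi (q v + B m v w) = chi (q (g v))
      rw [hg v]
    rw [h2, hw1, chi_one] at h1
    have h3 : S m q = 0 := by omega
    have h4 := S_sq m q hq
    rw [h3] at h4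
    have : (0 : ℤ) ^ 2 = 0 := by norm_num
    rw [this] at h4
    exact absurd h4.symm (pow_ne_zero _ (by norm_num))
  · intro hw
    refine ⟨LinearEquiv.ofBijective (tv m w) ⟨?_, ?_⟩, ?_⟩
    · intro a b hab
      have := congrArg (tv m w) hab
      rwa [tv_tv, tv_tv] at this
    · intro b
      exact ⟨tv m w b, tv_tv m w b⟩
    · intro v
      show q v + B m v w = q (v + B m v w • w)
      rw [hq]
      rcases zmod2_cases (B m v w) with h | h
      · rw [h, zero_smul, q_zero m q hq, B_zero_right, add_zero, add_zero]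
      · rw [h, one_smul, hw, h, add_zero]

/-- On the 2m-dimensional space over the field of two elements (m ≥ 1) let f be the alternating form obtained by polarizing the plus-type form Σ xᵢyᵢ, and let q be any quadratic form polarizing to f. For a vector w, the function q + f(·, w) again polarizes to f, and it is equivalent to q under an invertible linear map (that is, has the same type) if and only if q(w) = 0. -/
theorem result (m : ℕ) (hm : 1 ≤ m) (q : (Fin m ⊕ Fin m → ZMod 2) → ZMod 2) (hq : (∀ u v : (Fin m ⊕ Fin m → ZMod 2), q (u + v) = q u + q v + (Cfsg.quadFormPlus m (ZMod 2) (u + v) - Cfsg.quadFormPlus m (ZMod 2) u - Cfsg.quadFormPlus m (ZMod 2) v))) (w : (Fin m ⊕ Fin m → ZMod 2)) :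
    (∀ u v : (Fin m ⊕ Fin m → ZMod 2), (q (u + v) + (Cfsg.quadFormPlus m (ZMod 2) (u + v + w) - Cfsg.quadFormPlus m (ZMod 2) (u + v) - Cfsg.quadFormPlus m (ZMod 2) w)) =
        (q u + (Cfsg.quadFormPlus m (ZMod 2) (u + w) - Cfsg.quadFormPlus m (ZMod 2) u - Cfsg.quadFormPlus m (ZMod 2) w)) + (q v + (Cfsg.quadFormPlus m (ZMod 2) (v + w) - Cfsg.quadFormPlus m (ZMod 2) v - Cfsg.quadFormPlus m (ZMod 2) w)) +
        (Cfsg.quadFormPlus m (ZMod 2) (u + v) - Cfsg.quadFormPlus m (ZMod 2) u - Cfsg.quadFormPlus m (ZMod 2) v)) ∧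
    ((∃ g : (Fin m ⊕ Fin m → ZMod 2) ≃ₗ[ZMod 2] (Fin m ⊕ Fin m → ZMod 2), ∀ v, q v + (Cfsg.quadFormPlus m (ZMod 2) (v + w) - Cfsg.quadFormPlus m (ZMod 2) v - Cfsg.quadFormPlus m (ZMod 2) w) = q (g v)) ↔ q w = 0) := by
  simp only [polar_eq] at hq ⊢
  refine ⟨?_, main m q hq w⟩
  intro u v
  rw [hq, B_add_left]
  ring

end Cfsg.Agent.S2564
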