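import Mathlib
import Cfsg.Statements.S2561
import Cfsg.Agent.S2564

set_option autoImplicit false
open Cfsg

namespace Cfsg.Agent.S2561

open Cfsg.Agent.S2564

/-- the quadratic form `Q₀ + B(·,w)` -/
def qw (m : ℕ) (w : Fin m ⊕ Fin m → ZMod 2) : (Fin m ⊕ Fin m → ZMod 2) → ZMod 2 :=
  fun v => quadFormPlus m (ZMod 2) v + B m v w

theorem q0_pol (m : ℕ) (u v : Fin m ⊕ Fin m → ZMod 2) :
    quadFormPlus m (ZMod 2) (u + v)
      = quadFormPlus m (ZMod 2) u + quadFormPlus m (ZMod 2) v + B m u v := by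
  rw [← polar_eq]; ring

theorem qw_pol (m : ℕ) (w u v : Fin m ⊕ Fin m → ZMod 2) :
    qw m w (u + v) = qw m w u + qw m w v + B m u v := by
  unfold qw
  rw [q0_pol, B_add_left]; ring

theorem qw_injective (m : ℕ) : Function.Injective (qw m) := by
  intro w w' h
  by_contra hne
  have hne' : w + w' ≠ 0 := by
    intro h0
    apply hne
    have : w' = -w := (neg_eq_of_add_eq_zero_right h0).symm
    rw [this]
    funext k
    have := CharTwo.neg_eq (w k)
    simp [this]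
  obtain ⟨u, hu⟩ := exists_B_eq_one m _ hne'
  have := congrFun h u
  unfold qw at this
  rw [B_add_right] at hu
  have h2 : B m u w = B m u w' := add_left_cancel this
  rw [h2, CharTwo.add_self_eq_zero] at hu
  exact zero_ne_one hu

/-- `B(·,w)` as a linear map -/
def Bl (m : ℕ) (w : Fin m ⊕ Fin m → ZMod 2) : (Fin m ⊕ Fin m → ZMod 2) →ₗ[ZMod 2] ZMod 2 :=
  AddMonoidHom.toZModLinearMap 2
    { toFun := fun v => B m v w
      map_zero' := B_zero_left m w
      map_add' := fun u v => B_add_left m u v w }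

theorem exists_qw (m : ℕ) (q : (Fin m ⊕ Fin m → ZMod 2) → ZMod 2)
    (hq : ∀ u v : (Fin m ⊕ Fin m → ZMod 2), q (u + v) = q u + q v + B m u v) :
    ∃ w, q = qw m w := by
  classical
  let lam : (Fin m ⊕ Fin m → ZMod 2) →ₗ[ZMod 2] ZMod 2 :=
    AddMonoidHom.toZModLinearMap 2
      { toFun := fun v => q v - quadFormPlus m (ZMod 2) v
        map_zero' := by
          rw [q_zero m q hq, sub_eq_zero]
          unfold quadFormPlus
          symm
          apply Finset.sum_eq_zero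
          intro i _
          simp
        map_add' := fun u v => by
          rw [hq, q0_pol]; ring }
  let w : Fin m ⊕ Fin m → ZMod 2 := fun k => match k with
    | Sum.inl i => lam (Pi.single (Sum.inr i) 1)
    | Sum.inr i => lam (Pi.single (Sum.inl i) 1)
  refine ⟨w, ?_⟩
  have h : lam = Bl m w := by
    apply (Pi.basisFun (ZMod 2) (Fin m ⊕ Fin m)).ext
    intro k
    rw [Pi.basisFun_apply]
    rcases k with i | i
    · show _ = B m _ w
      rw [B_single_inl]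
    · show _ = B m _ w
      rw [B_single_inr]
  funext v
  have := LinearMap.congr_fun h v
  change q v - quadFormPlus m (ZMod 2) v = B m v w at this
  unfold qw
  rw [← this]; ring

theorem qw_plus_iff (m : ℕ) (w : Fin m ⊕ Fin m → ZMod 2) :
    (∃ g : (Fin m ⊕ Fin m → ZMod 2) ≃ₗ[ZMod 2] (Fin m ⊕ Fin m → ZMod 2),
      ∀ v, qw m w v = quadFormPlus m (ZMod 2) (g v)) ↔ quadFormPlus m (ZMod 2) w = 0 :=
  main m (quadFormPlus m (ZMod 2)) (q0_pol m) w


theorem dot_shift (m : ℕ) (x : Fin m → ZMod 2) (hx : x ≠ 0) :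
    ∑ y : Fin m → ZMod 2, chi (∑ i, x i * y i) = 0 := by
  classical
  obtain ⟨k, hk⟩ : ∃ k, x k ≠ 0 := by
    by_contra hcon
    push Not at hcon
    exact hx (funext hcon)
  have hk1 : x k = 1 := (zmod2_cases (x k)).resolve_left hk
  have h1 : ∑ y : Fin m → ZMod 2, chi (∑ i, x i * y i)
      = ∑ y : Fin m → ZMod 2, chi (∑ i, x i * (y + Pi.single k (1 : ZMod 2) : Fin m → ZMod 2) i) :=
    (Equiv.sum_comp (Equiv.addRight (Pi.single k (1 : ZMod 2)))
      (fun y : Fin m → ZMod 2 => chi (∑ i, x i * y i))).symm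
  have h2 : ∑ y : Fin m → ZMod 2, chi (∑ i, x i * (y + Pi.single k (1 : ZMod 2) : Fin m → ZMod 2) i)
      = - ∑ y : Fin m → ZMod 2, chi (∑ i, x i * y i) := by
    rw [← Finset.sum_neg_distrib]
    apply Finset.sum_congr rfl
    intro y _
    have : ∑ i, x i * (y + Pi.single k (1 : ZMod 2) : Fin m → ZMod 2) i = (∑ i, x i * y i) + 1 := by
      simp only [Pi.add_apply, mul_add, Finset.sum_add_distrib]
      congr 1
      rw [Finset.sum_eq_single k]
      · simp [hk1]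
      · intro j _ hj
        simp [Pi.single_apply, hj]
      · intro h; exact absurd (Finset.mem_univ k) h
    rw [this, chi_add, chi_one]; ring
  omega

theorem S_q0 (m : ℕ) : S m (quadFormPlus m (ZMod 2)) = 2 ^ m := by
  classical
  unfold S
  rw [← Equiv.sum_comp (Equiv.sumArrowEquivProdArrow (Fin m) (Fin m) (ZMod 2)).symm,
    Fintype.sum_prod_type]
  have h1 : ∀ x : Fin m → ZMod 2, ∑ y : Fin m → ZMod 2,
      chi (quadFormPlus m (ZMod 2) ((Equiv.sumArrowEquivProdArrow (Fin m) (Fin m) (ZMod 2)).symm (x, y)))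
        = if x = 0 then 2 ^ m else 0 := by
    intro x
    have h2 : ∀ y : Fin m → ZMod 2,
        quadFormPlus m (ZMod 2) ((Equiv.sumArrowEquivProdArrow (Fin m) (Fin m) (ZMod 2)).symm (x, y))
          = ∑ i, x i * y i := by
      intro y
      unfold quadFormPlus
      rfl
    simp_rw [h2]
    split_ifs with hx
    · subst hx
      simp only [Pi.zero_apply, zero_mul, Finset.sum_const_zero, chi_zero, Finset.sum_const,
        Finset.card_univ]
      rw [Fintype.card_fun, ZMod.card, Fintype.card_fin]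
      norm_num
    · exact dot_shift m x hx
  rw [Finset.sum_congr rfl (fun x _ => h1 x), Finset.sum_ite_eq']
  simp

/-- coordinate permutation -/
def sig (n : ℕ) : (Fin n ⊕ Fin n) ⊕ Fin 2 ≃ Fin (n + 1) ⊕ Fin (n + 1) where
  toFun k := match k with
    | .inl (.inl i) => .inl i.succ
    | .inl (.inr i) => .inr i.succ
    | .inr i => if i = 0 then .inl 0 else .inr 0
  invFun k := match k with
    | .inl i => Fin.cases (.inr 0) (fun j => .inl (.inl j)) i
    | .inr i => Fin.cases (.inr 1) (fun j => .inl (.inr j)) i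
  left_inv := by
    rintro ((i | i) | i)
    · simp
    · simp
    · fin_cases i <;> simp
  right_inv := by
    rintro (i | i)
    · refine Fin.cases ?_ ?_ i
      · simp
      · intro j; simp
    · refine Fin.cases ?_ ?_ i
      · simp
      · intro j; simp

/-- the reference vector with `Q₀ w₁ = 1` -/
def w1 (n : ℕ) : Fin (n + 1) ⊕ Fin (n + 1) → ZMod 2 :=
  Pi.single (Sum.inl 0) 1 + Pi.single (Sum.inr 0) 1

theorem B_w1 (n : ℕ) (v : Fin (n + 1) ⊕ Fin (n + 1) → ZMod 2) :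
    B (n + 1) v (w1 n) = v (Sum.inr 0) + v (Sum.inl 0) := by
  rw [B_comm, w1, B_add_left, B_single_inl, B_single_inr]

theorem sq_eq (a : ZMod 2) : a ^ 2 = a := by revert a; decide

theorem qw1_eq (n : ℕ) (v : Fin (n + 1) ⊕ Fin (n + 1) → ZMod 2) :
    qw (n + 1) (w1 n) v = quadFormMinus n (ZMod 2) 1 1 (fun k => v (sig n k)) := by
  unfold qw quadFormMinus
  rw [B_w1]
  unfold quadFormPlus
  rw [Fin.sum_univ_succ, sq_eq, sq_eq]
  simp only [sig, Equiv.coe_fn_mk, one_mul]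
  simp
  ring

theorem q0_w1 (n : ℕ) : quadFormPlus (n + 1) (ZMod 2) (w1 n) = 1 := by
  unfold quadFormPlus
  rw [Fin.sum_univ_succ]
  simp [w1, Fin.succ_ne_zero]

theorem qw_minus_of (n : ℕ) (w : Fin (n + 1) ⊕ Fin (n + 1) → ZMod 2)
    (hw : quadFormPlus (n + 1) (ZMod 2) w = 1) :
    ∃ g : (Fin (n + 1) ⊕ Fin (n + 1) → ZMod 2) ≃ₗ[ZMod 2] ((Fin n ⊕ Fin n) ⊕ Fin 2 → ZMod 2),
      ∀ v, qw (n + 1) w v = quadFormMinus n (ZMod 2) 1 1 (g v) := by
  have h0 : qw (n + 1) (w1 n) (w + w1 n) = 0 := by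
    unfold qw
    rw [q0_pol, hw, q0_w1, B_add_left, B_self, add_zero]
    have : (1 : ZMod 2) + 1 = 0 := by decide
    rw [this, zero_add, CharTwo.add_self_eq_zero]
  obtain ⟨g, hg⟩ := (main (n + 1) (qw (n + 1) (w1 n)) (qw_pol (n + 1) (w1 n)) (w + w1 n)).2 h0
  refine ⟨g.trans (LinearEquiv.funCongrLeft (ZMod 2) (ZMod 2) (sig n)), ?_⟩
  intro v
  have h1 : qw (n + 1) w v = qw (n + 1) (w1 n) v + B (n + 1) v (w + w1 n) := by
    unfold qw
    rw [B_add_right]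
    have := CharTwo.add_self_eq_zero (B (n + 1) v (w1 n))
    linear_combination -this
  rw [h1, hg v, qw1_eq]
  rfl

theorem S_q0_ne (m : ℕ) : S m (quadFormPlus m (ZMod 2)) ≠ 0 := by
  intro h
  have := S_sq m (quadFormPlus m (ZMod 2)) (q0_pol m)
  rw [h] at this
  have h0 : (0 : ℤ) ^ 2 = 0 := by norm_num
  rw [h0] at this
  exact absurd this.symm (pow_ne_zero _ (by norm_num))

theorem qw_minus_imp (n : ℕ) (w : Fin (n + 1) ⊕ Fin (n + 1) → ZMod 2)
    (h : ∃ g : (Fin (n + 1) ⊕ Fin (n + 1) → ZMod 2) ≃ₗ[ZMod 2] ((Fin n ⊕ Fin n) ⊕ Fin 2 → ZMod 2),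
      ∀ v, qw (n + 1) w v = quadFormMinus n (ZMod 2) 1 1 (g v)) :
    quadFormPlus (n + 1) (ZMod 2) w = 1 := by
  obtain ⟨g, hg⟩ := h
  by_contra hw
  have hw0 : quadFormPlus (n + 1) (ZMod 2) w = 0 := (zmod2_cases _).resolve_right hw
  have e1 : S (n + 1) (qw (n + 1) w)
      = ∑ v' : (Fin n ⊕ Fin n) ⊕ Fin 2 → ZMod 2, chi (quadFormMinus n (ZMod 2) 1 1 v') := by
    unfold S
    rw [← Equiv.sum_comp g.toEquiv]
    apply Finset.sum_congr rfl
    intro v _
    rw [hg v]; rfl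
  have e2 : S (n + 1) (qw (n + 1) (w1 n))
      = ∑ v' : (Fin n ⊕ Fin n) ⊕ Fin 2 → ZMod 2, chi (quadFormMinus n (ZMod 2) 1 1 v') := by
    unfold S
    rw [← Equiv.sum_comp (LinearEquiv.funCongrLeft (ZMod 2) (ZMod 2) (sig n)).toEquiv]
    apply Finset.sum_congr rfl
    intro v _
    rw [qw1_eq]; rfl
  have e3 := S_shift (n + 1) (quadFormPlus (n + 1) (ZMod 2)) (q0_pol (n + 1)) w
  have e4 := S_shift (n + 1) (quadFormPlus (n + 1) (ZMod 2)) (q0_pol (n + 1)) (w1 n)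
  rw [hw0, chi_zero, one_mul] at e3
  rw [q0_w1, chi_one] at e4
  change S (n + 1) (quadFormPlus (n + 1) (ZMod 2)) = S (n + 1) (qw (n + 1) w) at e3
  change S (n + 1) (quadFormPlus (n + 1) (ZMod 2)) = -1 * S (n + 1) (qw (n + 1) (w1 n)) at e4
  rw [e2, ← e1, ← e3] at e4
  have := S_q0_ne (n + 1)
  omega

theorem card_V (m : ℕ) : Fintype.card (Fin m ⊕ Fin m → ZMod 2) = 2 ^ (2 * m) := by
  rw [Fintype.card_fun, Fintype.card_sum, ZMod.card, Fintype.card_fin]
  ring_nf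

theorem card_zero_one (m : ℕ) :
    ((Nat.card {w : Fin m ⊕ Fin m → ZMod 2 // quadFormPlus m (ZMod 2) w = 0} : ℤ)
      - Nat.card {w : Fin m ⊕ Fin m → ZMod 2 // quadFormPlus m (ZMod 2) w = 1} = 2 ^ m) ∧
    (Nat.card {w : Fin m ⊕ Fin m → ZMod 2 // quadFormPlus m (ZMod 2) w = 0}
      + Nat.card {w : Fin m ⊕ Fin m → ZMod 2 // quadFormPlus m (ZMod 2) w = 1} = 2 ^ (2 * m)) := by
  classical
  rw [Nat.card_eq_fintype_card, Nat.card_eq_fintype_card, Fintype.card_subtype,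
    Fintype.card_subtype]
  have hne : (Finset.univ.filter (fun w : Fin m ⊕ Fin m → ZMod 2 => quadFormPlus m (ZMod 2) w = 1))
      = (Finset.univ.filter (fun w : Fin m ⊕ Fin m → ZMod 2 => ¬ quadFormPlus m (ZMod 2) w = 0)) := by
    apply Finset.filter_congr
    intro w _
    rcases zmod2_cases (quadFormPlus m (ZMod 2) w) with h | h <;> rw [h] <;> decide
  rw [hne]
  constructor
  · have := S_q0 m
    unfold S chi at this
    rw [Finset.sum_ite] at this
    simp only [Finset.sum_const, nsmul_eq_mul, mul_one, mul_neg] at this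
    rw [← this]; ring
  · rw [Finset.card_filter_add_card_filter_not, Finset.card_univ, card_V]

theorem card_zero (n : ℕ) :
    Nat.card {w : Fin (n + 1) ⊕ Fin (n + 1) → ZMod 2 // quadFormPlus (n + 1) (ZMod 2) w = 0}
      = 2 ^ (2 * n + 1) + 2 ^ n := by
  obtain ⟨h1, h2⟩ := card_zero_one (n + 1)
  have h3 : (2 : ℤ) ^ (2 * (n + 1)) = 2 * 2 ^ (2 * n + 1) := by ring
  have h4 : (2 : ℤ) ^ (n + 1) = 2 * 2 ^ n := by ring
  have h2' : ((Nat.card {w : Fin (n + 1) ⊕ Fin (n + 1) → ZMod 2 // quadFormPlus (n + 1) (ZMod 2) w = 0} : ℤ)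
      + Nat.card {w : Fin (n + 1) ⊕ Fin (n + 1) → ZMod 2 // quadFormPlus (n + 1) (ZMod 2) w = 1}
        = 2 ^ (2 * (n + 1))) := by exact_mod_cast h2
  have : ((Nat.card {w : Fin (n + 1) ⊕ Fin (n + 1) → ZMod 2 // quadFormPlus (n + 1) (ZMod 2) w = 0} : ℤ))
      = 2 ^ (2 * n + 1) + 2 ^ n := by
    rw [h3] at h2'; rw [h4] at h1
    linarith
  exact_mod_cast this

theorem card_one (n : ℕ) :
    Nat.card {w : Fin (n + 1) ⊕ Fin (n + 1) → ZMod 2 // quadFormPlus (n + 1) (ZMod 2) w = 1}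
      = 2 ^ (2 * n + 1) - 2 ^ n := by
  obtain ⟨h1, h2⟩ := card_zero_one (n + 1)
  have h0 := card_zero n
  rw [h0] at h2
  have h3 : (2 : ℕ) ^ (2 * (n + 1)) = 2 * 2 ^ (2 * n + 1) := by ring
  have h5 : (2 : ℕ) ^ n ≤ 2 ^ (2 * n + 1) := Nat.pow_le_pow_right (by norm_num) (by omega)
  rw [h3] at h2
  omega


/-- Fix the non-singular alternating form on the 2m-dimensional space over the field of two elements obtained by polarizing the plus-type form Σ xᵢyᵢ (m ≥ 1). The functions q on the space with q(u + v) = q(u) + q(v) + f(u, v) (the quadratic forms polarizing to f) number 2^(2m); each is equivalent under an invertible linear map either to the plus-type form or to the minus-type form Σ xᵢyᵢ + (z₁² + z₁z₂ + z₂²); and those of plus type number 2^(2m−1) + 2^(m−1), those of minus type 2^(2m−1) − 2^(m−1). -/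
theorem result (m : ℕ) (hm : 1 ≤ m) :
    Nat.card {q : (Fin m ⊕ Fin m → ZMod 2) → ZMod 2 // (∀ u v : (Fin m ⊕ Fin m → ZMod 2), q (u + v) = q u + q v + (Cfsg.quadFormPlus m (ZMod 2) (u + v) - Cfsg.quadFormPlus m (ZMod 2) u - Cfsg.quadFormPlus m (ZMod 2) v))} = 2 ^ (2 * m) ∧
    (∀ q : (Fin m ⊕ Fin m → ZMod 2) → ZMod 2, (∀ u v : (Fin m ⊕ Fin m → ZMod 2), q (u + v) = q u + q v + (Cfsg.quadFormPlus m (ZMod 2) (u + v) - Cfsg.quadFormPlus m (ZMod 2) u - Cfsg.quadFormPlus m (ZMod 2) v)) →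
      (∃ g : (Fin m ⊕ Fin m → ZMod 2) ≃ₗ[ZMod 2] (Fin m ⊕ Fin m → ZMod 2), ∀ v, q v = Cfsg.quadFormPlus m (ZMod 2) (g v)) ∨
      (∃ g : (Fin m ⊕ Fin m → ZMod 2) ≃ₗ[ZMod 2] ((Fin (m - 1) ⊕ Fin (m - 1)) ⊕ Fin 2 → ZMod 2), ∀ v, q v = Cfsg.quadFormMinus (m - 1) (ZMod 2) 1 1 (g v))) ∧
    Nat.card {q : (Fin m ⊕ Fin m → ZMod 2) → ZMod 2 // (∀ u v : (Fin m ⊕ Fin m → ZMod 2), q (u + v) = q u + q v + (Cfsg.quadFormPlus m (ZMod 2) (u + v) - Cfsg.quadFormPlus m (ZMod 2) u - Cfsg.quadFormPlus m (ZMod 2) v)) ∧ ∃ g : (Fin m ⊕ Fin m → ZMod 2) ≃ₗ[ZMod 2] (Fin m ⊕ Fin m → ZMod 2), ∀ v, q v = Cfsg.quadFormPlus m (ZMod 2) (g v)} = 2 ^ (2 * m - 1) + 2 ^ (m - 1) ∧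
    Nat.card {q : (Fin m ⊕ Fin m → ZMod 2) → ZMod 2 // (∀ u v : (Fin m ⊕ Fin m → ZMod 2), q (u + v) = q u + q v + (Cfsg.quadFormPlus m (ZMod 2) (u + v) - Cfsg.quadFormPlus m (ZMod 2) u - Cfsg.quadFormPlus m (ZMod 2) v)) ∧ ∃ g : (Fin m ⊕ Fin m → ZMod 2) ≃ₗ[ZMod 2] ((Fin (m - 1) ⊕ Fin (m - 1)) ⊕ Fin 2 → ZMod 2), ∀ v, q v = Cfsg.quadFormMinus (m - 1) (ZMod 2) 1 1 (g v)} = 2 ^ (2 * m - 1) - 2 ^ (m - 1) := by
  obtain ⟨n, rfl⟩ : ∃ n, m = n + 1 := ⟨m - 1, by omega⟩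
  simp only [polar_eq, Nat.add_sub_cancel]
  have e1 : 2 * (n + 1) - 1 = 2 * n + 1 := by omega
  rw [e1]
  refine ⟨?_, ?_, ?_, ?_⟩
  · rw [← card_V, ← Nat.card_eq_fintype_card]
    symm
    apply Nat.card_congr
    refine Equiv.ofBijective (fun w => ⟨qw (n + 1) w, qw_pol (n + 1) w⟩) ⟨?_, ?_⟩
    · intro w w' h
      exact qw_injective (n + 1) (congrArg Subtype.val h)
    · rintro ⟨q, hq⟩
      obtain ⟨w, rfl⟩ := exists_qw (n + 1) q hq
      exact ⟨w, rfl⟩
  · intro q hq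
    obtain ⟨w, rfl⟩ := exists_qw (n + 1) q hq
    rcases zmod2_cases (quadFormPlus (n + 1) (ZMod 2) w) with h | h
    · exact Or.inl ((qw_plus_iff (n + 1) w).2 h)
    · exact Or.inr (qw_minus_of n w h)
  · rw [← card_zero n]
    symm
    apply Nat.card_congr
    refine Equiv.ofBijective
      (fun w => ⟨qw (n + 1) w.1, qw_pol (n + 1) w.1, (qw_plus_iff (n + 1) w.1).2 w.2⟩) ⟨?_, ?_⟩
    · intro w w' h
      exact Subtype.ext (qw_injective (n + 1) (congrArg Subtype.val h))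
    · rintro ⟨q, hq, hp⟩
      obtain ⟨w, rfl⟩ := exists_qw (n + 1) q hq
      exact ⟨⟨w, (qw_plus_iff (n + 1) w).1 hp⟩, rfl⟩
  · rw [← card_one n]
    symm
    apply Nat.card_congr
    refine Equiv.ofBijective
      (fun w => ⟨qw (n + 1) w.1, qw_pol (n + 1) w.1, qw_minus_of n w.1 w.2⟩) ⟨?_, ?_⟩
    · intro w w' h
      exact Subtype.ext (qw_injective (n + 1) (congrArg Subtype.val h))
    · rintro ⟨q, hq, hp⟩
      obtain ⟨w, rfl⟩ := exists_qw (n + 1) q hq
      exact ⟨⟨w, qw_minus_imp n w hp⟩, rfl⟩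

end Cfsg.Agent.S2561
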