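import Cfsg.Statements.S2563
import Cfsg.Agent.Lib.Helper5.EvenCode6
import Cfsg.Agent.Lib.Helper5.QuadGlue
import Cfsg.Agent.Lib.Helper5.QuadEmbed
import Cfsg.Agent.S2616

set_option autoImplicit false
open Cfsg

namespace Cfsg.Agent.S2563


open Cfsg.Agent.Lib.Helper5.EvenCode Cfsg.Agent.Lib.Helper5 Module



/-- For k ≥ 1 the symmetric group of degree 4k + 4 embeds in a full orthogonal group in dimension 4k + 2 over the field of two elements: in the isometry group of the plus-type form Σ xᵢyᵢ when k is odd, and in that of the minus-type form Σ xᵢyᵢ + (z₁² + z₁z₂ + z₂²) when k is even (through its action on even partitions of a (4k+4)-set, with the form 'half the size of a part, modulo 2'). -/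
theorem result (k : ℕ) (hk : 1 ≤ k) :
    (Odd k → ∃ φ : Equiv.Perm (Fin (4 * k + 4)) →* ↥(Cfsg.isometryGroup (ZMod 2) (Cfsg.quadFormPlus (2 * k + 1) (ZMod 2))), Function.Injective φ) ∧
    (Even k → ∃ φ : Equiv.Perm (Fin (4 * k + 4)) →* ↥(Cfsg.isometryGroup (ZMod 2) (Cfsg.quadFormMinus (2 * k) (ZMod 2) 1 1)), Function.Injective φ) := by
  classical
  have hn : Odd (4 * k + 3) := ⟨2 * k + 1, by ring⟩
  have h4 : (4 * k + 3 + 1) % 4 = 0 := by omega
  have hn4 : 4 ≤ 4 * k + 3 := by omega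
  have hfr : finrank (ZMod 2) (Vsub (4 * k + 3)) = 2 * (2 * k + 1) := by
    have := finrank_Vsub (4 * k + 3) (by omega)
    omega
  have hQ := nondeg (4 * k + 3) hn
  have hsum := charsum k
  have hcls := Cfsg.Agent.S2616.result (F := ZMod 2) (V := Vsub (4 * k + 3)) (m := 2 * k + 1)
    (by omega) hfr (Qv (4 * k + 3)) hQ
  have hρ : Function.Injective (actHom (4 * k + 3) hn) := actHom_injective (4 * k + 3) hn hn4
  have hpres : ∀ (g : Equiv.Perm (Fin (4 * k + 3 + 1))) (w : Vsub (4 * k + 3)),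
      Qv (4 * k + 3) (actHom (4 * k + 3) hn g w) = Qv (4 * k + 3) w :=
    fun g w => Qv_act (4 * k + 3) hn h4 g w
  -- the two possible values of the character sum
  have hplus : ∀ (b : Basis (Fin (2 * k + 1) ⊕ Fin (2 * k + 1)) (ZMod 2) (Vsub (4 * k + 3))),
      (∀ v, Qv (4 * k + 3) v = Cfsg.quadFormPlus (2 * k + 1) (ZMod 2) (b.equivFun v)) →
      ∑ v : Vsub (4 * k + 3), chi (Qv (4 * k + 3) v) = 2 ^ (2 * k + 1) := by
    intro b hb
    rw [Finset.sum_congr rfl (fun v _ => by rw [hb v]), ← sum_chi_plus]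
    exact Fintype.sum_equiv b.equivFun.toEquiv _ _ (fun v => rfl)
  have hminus : ∀ (b : Basis ((Fin (2 * k) ⊕ Fin (2 * k)) ⊕ Fin 2) (ZMod 2) (Vsub (4 * k + 3))),
      (∀ v, Qv (4 * k + 3) v = Cfsg.quadFormMinus (2 * k) (ZMod 2) 1 1 (b.equivFun v)) →
      ∑ v : Vsub (4 * k + 3), chi (Qv (4 * k + 3) v) = -2 * 2 ^ (2 * k) := by
    intro b hb
    rw [Finset.sum_congr rfl (fun v _ => by rw [hb v]), ← sum_chi_minus]
    exact Fintype.sum_equiv b.equivFun.toEquiv _ _ (fun v => rfl)
  constructor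
  · intro hko
    rcases hcls with ⟨b, h0, h1, h2⟩ | ⟨b, ζ, hζ, h0, h1, h2, h3, h4', h5, h6⟩
    · have hb := QuadGlue.plus_glue (Qv (4 * k + 3)) b h0 h1 h2
      exact QuadEmbed.exists_hom_isometry (Cfsg.quadFormPlus (2 * k + 1) (ZMod 2))
        (fun v => Qv (4 * k + 3) v) b.equivFun (fun w => (hb w).symm)
        (actHom (4 * k + 3) hn) hρ hpres
    · exfalso
      have hζ1 : ζ = 1 := by
        have := hζ 0
        have h01 : ζ = 0 ∨ ζ = 1 := two_cases ζ
        rcases h01 with h | h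
        · rw [h] at this; exact absurd (by decide) this
        · exact h
      subst hζ1
      have hb := QuadGlue.minus_glue (Qv (4 * k + 3)) b 1 1 h0 h1 h2 h3 h4' h5 h6
      have := hminus b hb
      rw [hsum, hko.neg_pow] at this
      have hpos : (0 : ℤ) < 4 ^ k := by positivity
      have hpos2 : (0 : ℤ) < 2 ^ (2 * k) := by positivity
      nlinarith
  · intro hke
    rcases hcls with ⟨b, h0, h1, h2⟩ | ⟨b, ζ, hζ, h0, h1, h2, h3, h4', h5, h6⟩
    · exfalso
      have hb := QuadGlue.plus_glue (Qv (4 * k + 3)) b h0 h1 h2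
      have := hplus b hb
      rw [hsum, hke.neg_pow] at this
      have hpos : (0 : ℤ) < 4 ^ k := by positivity
      have hpos2 : (0 : ℤ) < 2 ^ (2 * k + 1) := by positivity
      nlinarith
    · have hζ1 : ζ = 1 := by
        have := hζ 0
        have h01 : ζ = 0 ∨ ζ = 1 := two_cases ζ
        rcases h01 with h | h
        · rw [h] at this; exact absurd (by decide) this
        · exact h
      subst hζ1
      have hb := QuadGlue.minus_glue (Qv (4 * k + 3)) b 1 1 h0 h1 h2 h3 h4' h5 h6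
      exact QuadEmbed.exists_hom_isometry (Cfsg.quadFormMinus (2 * k) (ZMod 2) 1 1)
        (fun v => Qv (4 * k + 3) v) b.equivFun (fun w => (hb w).symm)
        (actHom (4 * k + 3) hn) hρ hpres


end Cfsg.Agent.S2563
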