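import Cfsg.Statements.S2565
import Mathlib
import Cfsg.Agent.S0825
import Cfsg.Agent.Lib.Helper2.EquivComm

set_option autoImplicit false
open Cfsg

namespace Cfsg.Agent.S2565

/-- The commutator subgroup of the full orthogonal group of the plus-type form Σ xᵢyᵢ in dimension 6 over the field of two elements (the group Ω⁺₆(2), of index 2) is isomorphic to the alternating group of degree 8. -/
theorem result :
    (Cfsg.Omega (ZMod 2) (Cfsg.quadFormPlus 3 (ZMod 2))).index = 2 ∧
    Nonempty (↥(Cfsg.Omega (ZMod 2) (Cfsg.quadFormPlus 3 (ZMod 2))) ≃* alternatingGroup (Fin 8)) := by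
  obtain ⟨e2⟩ := Cfsg.Agent.S0825.result (F := ZMod 2) (ZMod.card 2)
  have h8 : Nat.card (Fin 8) = 8 := by simp
  have hcomm : commutator (Equiv.Perm (Fin 8)) = alternatingGroup (Fin 8) :=
    alternatingGroup.commutator_perm_eq (by rw [h8]; norm_num)
  constructor
  · have h1 := Cfsg.Agent.Lib.Helper2.EquivComm.map_commutator_eq e2
    have h2 := Subgroup.index_map_equiv
      (H := commutator ↥(Cfsg.isometryGroup (ZMod 2) (Cfsg.quadFormPlus 3 (ZMod 2)))) e2
    show (commutator ↥(Cfsg.isometryGroup (ZMod 2) (Cfsg.quadFormPlus 3 (ZMod 2)))).index = 2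
    rw [← h2]
    have h3 : Subgroup.map (e2 : ↥(Cfsg.isometryGroup (ZMod 2) (Cfsg.quadFormPlus 3 (ZMod 2))) →*
        Equiv.Perm (Fin 8)) (commutator ↥(Cfsg.isometryGroup (ZMod 2) (Cfsg.quadFormPlus 3 (ZMod 2)))) =
        alternatingGroup (Fin 8) := by
      rw [← hcomm]
      exact h1
    rw [h3]
    exact alternatingGroup.index_eq_two
  · exact ⟨(Cfsg.Agent.Lib.Helper2.EquivComm.commutatorEquiv e2).trans
      (MulEquiv.subgroupCongr hcomm)⟩

end Cfsg.Agent.S2565
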