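import Cfsg.Statements.S2567
import Mathlib

set_option autoImplicit false
open Cfsg

namespace Cfsg.Agent.S2567

/-- Abstract version: a central quotient element of prime order `r`, with `r` prime to the order
of the centre, has exactly one preimage of order `r`. -/
theorem lift_unique {G : Type*} [Group G] [Finite (Subgroup.center G)] {r : ℕ} (hr : r.Prime)
    (hcop : (Nat.card (Subgroup.center G)).Coprime r) (x : G ⧸ Subgroup.center G)
    (hx : orderOf x = r) :
    ∃! g : G, (QuotientGroup.mk g : G ⧸ Subgroup.center G) = x ∧ orderOf g = r := by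
  obtain ⟨g₀, rfl⟩ := QuotientGroup.mk_surjective x
  have hx1 : (QuotientGroup.mk g₀ : G ⧸ Subgroup.center G) ≠ 1 := by
    intro h
    rw [h, orderOf_one] at hx
    exact hr.one_lt.ne hx
  have hg₀r : g₀ ^ r ∈ Subgroup.center G := by
    rw [← QuotientGroup.eq_one_iff, QuotientGroup.mk_pow, ← hx, pow_orderOf_eq_one]
  -- solve z^r = g₀^r in the centre
  set z : Subgroup.center G := (powCoprime hcop).symm ⟨g₀ ^ r, hg₀r⟩ with hz
  have hzr : z ^ r = ⟨g₀ ^ r, hg₀r⟩ := by
    have := (powCoprime hcop).apply_symm_apply ⟨g₀ ^ r, hg₀r⟩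
    rwa [powCoprime_apply] at this
  have hzr' : (z : G) ^ r = g₀ ^ r := by
    have := congrArg Subtype.val hzr
    simpa using this
  have hzc : ∀ a : G, a * (z : G) = (z : G) * a := fun a => Subgroup.mem_center_iff.1 z.2 a
  refine ⟨g₀ * (z : G)⁻¹, ⟨?_, ?_⟩, ?_⟩
  · rw [QuotientGroup.mk_mul, QuotientGroup.mk_inv]
    have : (QuotientGroup.mk (z : G) : G ⧸ Subgroup.center G) = 1 :=
      (QuotientGroup.eq_one_iff _).2 z.2
    rw [this, inv_one, mul_one]
  · have : Fact r.Prime := ⟨hr⟩
    apply orderOf_eq_prime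
    · have hcomm : Commute g₀ ((z : G)⁻¹) := by
        have := hzc g₀
        exact (Commute.inv_right this)
      rw [hcomm.mul_pow, inv_pow, hzr', mul_inv_cancel]
    · intro h
      apply hx1
      have : g₀ = (z : G) := by
        have := mul_inv_eq_one.1 h
        exact this
      rw [this]
      exact (QuotientGroup.eq_one_iff _).2 z.2
  · rintro g' ⟨hg'1, hg'2⟩
    -- g' = g₀ * w with w central
    have hw : g₀⁻¹ * g' ∈ Subgroup.center G := QuotientGroup.eq.1 hg'1.symm
    set w : G := g₀⁻¹ * g' with hwdef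
    have hg' : g' = g₀ * w := by rw [hwdef]; group
    have hwc : ∀ a : G, a * w = w * a := fun a => Subgroup.mem_center_iff.1 hw a
    -- (w * z)^r = 1 ... rather: g'^r = g₀^r w^r = 1, so w^r = (g₀^r)⁻¹ = (z^r)⁻¹
    have hg'r : g' ^ r = 1 := by rw [← hg'2]; exact pow_orderOf_eq_one g'
    have hcomm : Commute g₀ w := hwc g₀
    rw [hg', hcomm.mul_pow, ← hzr'] at hg'r
    have hzw : Commute (z : G) w := hwc z
    have h1 : ((z : G) * w) ^ r = 1 := by rw [hzw.mul_pow]; exact hg'r
    have hmem : (z : G) * w ∈ Subgroup.center G := Subgroup.mul_mem _ z.2 hw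
    have h2 : (⟨(z : G) * w, hmem⟩ : Subgroup.center G) ^ r = 1 := by
      apply Subtype.ext
      simpa using h1
    have h3 : orderOf (⟨(z : G) * w, hmem⟩ : Subgroup.center G) ∣ r := orderOf_dvd_of_pow_eq_one h2
    have h4 : orderOf (⟨(z : G) * w, hmem⟩ : Subgroup.center G) ∣ Nat.card (Subgroup.center G) :=
      orderOf_dvd_natCard _
    have h5 : orderOf (⟨(z : G) * w, hmem⟩ : Subgroup.center G) = 1 :=
      Nat.eq_one_of_dvd_coprimes hcop h4 h3
    rw [orderOf_eq_one_iff] at h5
    have h6 : (z : G) * w = 1 := congrArg Subtype.val h5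
    rw [hg', eq_inv_of_mul_eq_one_right h6]

theorem result {F : Type*} [Field F] [Fintype F] {q n r : ℕ} (hF : Fintype.card F = q) (hr : r.Prime) (hdiv : ¬ r ∣ q - 1) (x : GL (Fin n) F ⧸ Subgroup.center (GL (Fin n) F)) (hx : orderOf x = r) : ∃! g : GL (Fin n) F, (QuotientGroup.mk g : GL (Fin n) F ⧸ Subgroup.center (GL (Fin n) F)) = x ∧ orderOf g = r := by
  classical
  apply lift_unique hr _ x hx
  have h1 : Nat.card (Subgroup.center (GL (Fin n) F)) ∣ q - 1 := by
    rw [Matrix.GeneralLinearGroup.center_eq_range_scalar]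
    have := Subgroup.card_range_dvd (Matrix.GeneralLinearGroup.scalar (Fin n) (R := F))
    have h2 : Nat.card Fˣ = q - 1 := by rw [Nat.card_eq_fintype_card, Fintype.card_units, hF]
    rwa [h2] at this
  have h2 : ¬ r ∣ Nat.card (Subgroup.center (GL (Fin n) F)) := fun h => hdiv (h.trans h1)
  exact ((Nat.Prime.coprime_iff_not_dvd hr).2 h2).symm

end Cfsg.Agent.S2567
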