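import Mathlib
import Cfsg.Statements.S2568
import Cfsg.Agent.Lib.Helper5.PolyCount
import Cfsg.Agent.Lib.Helper5.PrimeOrderGL

set_option autoImplicit false
open Cfsg

namespace Cfsg.Agent.S2568

open Cfsg.Agent.Lib.Helper5 Polynomial

/-- Classes of elements with `g ^ r = 1` correspond to their characteristic polynomials. -/
theorem card_classes_pow_eq_one {F : Type*} [Field F] [Fintype F] (p : ℕ) [Fact p.Prime] [CharP F p]
    (n r : ℕ) (hr : r.Prime) (hrp : r ≠ p) :
    Nat.card {C : ConjClasses (GL (Fin n) F) // ∃ g : GL (Fin n) F, ConjClasses.mk g = C ∧ g ^ r = 1} =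
      Nat.card {f : F[X] // f.Monic ∧ f.natDegree = n ∧ ∃ m, f ∣ (X ^ r - 1 : F[X]) ^ m} := by
  classical
  have hex : ∀ C : {C : ConjClasses (GL (Fin n) F) // ∃ g : GL (Fin n) F, ConjClasses.mk g = C ∧ g ^ r = 1},
      ∃ f : {f : F[X] // f.Monic ∧ f.natDegree = n ∧ ∃ m, f ∣ (X ^ r - 1 : F[X]) ^ m},
        ∃ g : GL (Fin n) F, g ^ r = 1 ∧ ConjClasses.mk g = C.1 ∧ g.val.charpoly = f.1 := by
    rintro ⟨C, g, hgC, hg⟩
    refine ⟨⟨g.val.charpoly, Matrix.charpoly_monic _, ?_, charpoly_dvd_of_pow_eq_one g r hg⟩,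
      g, hg, hgC, rfl⟩
    rw [Matrix.charpoly_natDegree_eq_dim, Fintype.card_fin]
  apply Nat.card_eq_of_bijective (fun C => Classical.choose (hex C))
  constructor
  · intro C D hCD
    obtain ⟨g, hg, hgC, hgf⟩ := Classical.choose_spec (hex C)
    obtain ⟨h, hh, hhD, hhf⟩ := Classical.choose_spec (hex D)
    simp only at hCD
    rw [← hCD] at hhf
    apply Subtype.ext
    rw [← hgC, ← hhD, ConjClasses.mk_eq_mk_iff_isConj]
    exact isConj_of_charpoly_eq p r hr hrp g h hg hh (hgf.trans hhf.symm)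
  · rintro ⟨f, hf, hdeg, m, hm⟩
    obtain ⟨g, hg, hgf⟩ := exists_gl_of_charpoly_dvd p r hr f hf hdeg m hm
    refine ⟨⟨ConjClasses.mk g, g, rfl, hg⟩, ?_⟩
    obtain ⟨h, hh, hhD, hhf⟩ := Classical.choose_spec (hex ⟨ConjClasses.mk g, g, rfl, hg⟩)
    simp only at hhD
    rw [ConjClasses.mk_eq_mk_iff_isConj] at hhD
    apply Subtype.ext
    show (Classical.choose (hex ⟨ConjClasses.mk g, g, rfl, hg⟩)).1 = f
    rw [← hhf]
    show h.val.charpoly = f
    rw [← hgf]
    obtain ⟨c, hc⟩ := isConj_iff.1 hhD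
    have h1 : g.val = c.val * h.val * (c⁻¹ : GL (Fin n) F).val := by
      rw [← hc]; simp
    rw [h1, Matrix.coe_units_inv c]
    exact (Matrix.charpoly_units_conj c h.val).symm

theorem card_polys {F : Type*} [Field F] [Fintype F] (p : ℕ) [Fact p.Prime] [CharP F p]
    (n r : ℕ) (hr : r.Prime) (hrp : r ≠ p) (i t : ℕ)
    (hi : i = orderOf ((Fintype.card F : ℕ) : ZMod r)) (ht : t * i = r - 1) :
    Nat.card {f : F[X] // f.Monic ∧ f.natDegree = n ∧ ∃ m, f ∣ (X ^ r - 1 : F[X]) ^ m} =
      Nat.choose (n / i + t) t := by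
  classical
  obtain ⟨T, hT, hcard, hX1, hprod⟩ := exists_cyclotomic_factors (F := F) (p := p) r hr hrp
  rw [← hi] at hcard
  have hr2 : 2 ≤ r := hr.two_le
  have hi1 : 1 ≤ i := by
    rcases Nat.eq_zero_or_pos i with h | h
    · rw [h, mul_zero] at hcard; omega
    · exact h
  have htT : t = T.card := by
    apply Nat.eq_of_mul_eq_mul_right hi1
    rw [ht, hcard]
  let π : Option ↥T → F[X] := fun j => j.elim (X - 1) (fun P => P.1)
  have hX1' : (X - 1 : F[X]) = X - C 1 := by rw [map_one]
  have hirr : ∀ j, Irreducible (π j) := by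
    intro j
    cases j with
    | none =>
      show Irreducible (X - 1 : F[X])
      rw [hX1']
      exact irreducible_X_sub_C 1
    | some P => exact (hT P.1 P.2).1
  have hmon : ∀ j, (π j).Monic := by
    intro j
    cases j with
    | none =>
      show (X - 1 : F[X]).Monic
      rw [hX1']
      exact monic_X_sub_C 1
    | some P => exact (hT P.1 P.2).2.1
  have hinj : Function.Injective π := by
    intro j k hjk
    cases j with
    | none =>
      cases k with
      | none => rfl
      | some Q =>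
        exfalso
        have h1 : (X - 1 : F[X]) = Q.1 := hjk
        exact hX1 (h1 ▸ Q.2)
    | some P =>
      cases k with
      | none =>
        exfalso
        have h1 : P.1 = (X - 1 : F[X]) := hjk
        exact hX1 (h1 ▸ P.2)
      | some Q =>
        have h1 : P.1 = Q.1 := hjk
        rw [Subtype.ext h1]
  have hπprod : ∏ j, π j = X ^ r - 1 := by
    rw [Fintype.prod_option]
    show (X - 1 : F[X]) * ∏ P : ↥T, P.1 = X ^ r - 1
    rw [Finset.prod_coe_sort T (fun P => P), mul_comm, hprod]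
  have hd0 : (π none).natDegree = 1 := by
    show (X - 1 : F[X]).natDegree = 1
    rw [hX1']
    exact natDegree_X_sub_C 1
  have hd : ∀ P : ↥T, (π (some P)).natDegree = i := by
    intro P
    rw [hi]
    exact (hT P.1 P.2).2.2
  rw [← hπprod, card_monic_dvd_pow π hirr hmon hinj n,
    card_exponent_vectors i n hi1 (fun j => (π j).natDegree) hd0 hd, Fintype.card_coe, htT]

/-- Number of conjugacy classes of elements of a given prime order r, coprime to the characteristic, in GL_n(q): if i is the multiplicative order of q modulo r and t = (r − 1)/i, the classes correspond to the non-zero t-tuples of natural numbers (a_1, …, a_t) with i(a_1 + ⋯ + a_t) ≤ n (a_j is the multiplicity of the j-th Frobenius orbit of nontrivial r-th roots of unity among the eigenvalues), so there are exactly C(⌊n/i⌋ + t, t) − 1 of them. -/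
theorem result {F : Type*} [Field F] [Fintype F] {p q : ℕ} [Fact p.Prime] [CharP F p] (hF : Fintype.card F = q) (n r i t : ℕ) (hr : r.Prime) (hrp : r ≠ p) (hi : i = orderOf (q : ZMod r)) (ht : t * i = r - 1) : Nat.card {C : ConjClasses (GL (Fin n) F) // ∃ g : GL (Fin n) F, ConjClasses.mk g = C ∧ orderOf g = r} = Nat.choose (n / i + t) t - 1 := by
  classical
  subst hF
  rw [← card_polys p n r hr hrp i t hi ht, ← card_classes_pow_eq_one p n r hr hrp]
  have : Fact r.Prime := ⟨hr⟩
  have hset : {C : ConjClasses (GL (Fin n) F) | ∃ g : GL (Fin n) F, ConjClasses.mk g = C ∧ orderOf g = r} =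
      {C : ConjClasses (GL (Fin n) F) | ∃ g : GL (Fin n) F, ConjClasses.mk g = C ∧ g ^ r = 1} \
        {ConjClasses.mk 1} := by
    ext C
    simp only [Set.mem_ofPred_eq, Set.mem_sdiff, Set.mem_singleton_iff]
    constructor
    · rintro ⟨g, rfl, hg⟩
      rw [orderOf_eq_prime_iff] at hg
      refine ⟨⟨g, rfl, hg.1⟩, ?_⟩
      intro h
      rw [ConjClasses.mk_eq_mk_iff_isConj, isConj_one_left] at h
      exact hg.2 h
    · rintro ⟨⟨g, rfl, hg⟩, hne⟩
      refine ⟨g, rfl, ?_⟩
      rw [orderOf_eq_prime_iff]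
      refine ⟨hg, ?_⟩
      rintro rfl
      exact hne rfl
  have hmem : ConjClasses.mk (1 : GL (Fin n) F) ∈
      {C : ConjClasses (GL (Fin n) F) | ∃ g : GL (Fin n) F, ConjClasses.mk g = C ∧ g ^ r = 1} :=
    ⟨1, rfl, one_pow r⟩
  show Nat.card ↥{C : ConjClasses (GL (Fin n) F) | ∃ g : GL (Fin n) F, ConjClasses.mk g = C ∧ orderOf g = r} =
    Nat.card ↥{C : ConjClasses (GL (Fin n) F) | ∃ g : GL (Fin n) F, ConjClasses.mk g = C ∧ g ^ r = 1} - 1
  rw [Nat.card_coe_set_eq, Nat.card_coe_set_eq, hset,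
    Set.ncard_sdiff_singleton_of_mem hmem]

end Cfsg.Agent.S2568
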