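import Cfsg.Statements.S2573
import Mathlib

set_option autoImplicit false
open Cfsg

namespace Cfsg.Agent.S2573

open Module

variable {F : Type*} [Field F] {V : Type*} [AddCommGroup V] [Module F V] [FiniteDimensional F V]

/-- `dim ker (g ∘ f) ≤ dim ker g + dim ker f`. -/
theorem finrank_ker_comp_le (f g : V →ₗ[F] V) :
    finrank F (LinearMap.ker (g ∘ₗ f)) ≤ finrank F (LinearMap.ker g) + finrank F (LinearMap.ker f) := by
  -- h : ker (g ∘ f) → ker g, x ↦ f x
  let h : LinearMap.ker (g ∘ₗ f) →ₗ[F] LinearMap.ker g :=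
    (f.domRestrict (LinearMap.ker (g ∘ₗ f))).codRestrict (LinearMap.ker g) (fun x => by
      have h0 : (g ∘ₗ f) x.1 = 0 := LinearMap.mem_ker.1 x.2
      exact LinearMap.mem_ker.2 h0)
  have h1 := LinearMap.finrank_range_add_finrank_ker h
  have h2 : finrank F (LinearMap.range h) ≤ finrank F (LinearMap.ker g) := Submodule.finrank_le _
  have h3 : finrank F (LinearMap.ker h) ≤ finrank F (LinearMap.ker f) := by
    let ι : LinearMap.ker h →ₗ[F] LinearMap.ker f :=
      ((LinearMap.ker (g ∘ₗ f)).subtype.domRestrict (LinearMap.ker h)).codRestrict (LinearMap.ker f)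
        (fun x => by
          have h0 : h x.1 = 0 := LinearMap.mem_ker.1 x.2
          have h4 : ((h x.1 : LinearMap.ker g) : V) = 0 := by rw [h0]; rfl
          exact LinearMap.mem_ker.2 h4)
    apply LinearMap.finrank_le_finrank_of_injective (f := ι)
    intro x y hxy
    have := congrArg Subtype.val hxy
    simp only [ι, LinearMap.codRestrict_apply, LinearMap.domRestrict_apply, Submodule.subtype_apply] at this
    exact Subtype.ext (Subtype.ext this)
  omega

theorem finrank_ker_pow_le (f : V →ₗ[F] V) (hf : finrank F (LinearMap.ker f) ≤ 1) (j : ℕ) :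
    finrank F (LinearMap.ker (f ^ j)) ≤ j := by
  induction j with
  | zero =>
    simp [Module.End.one_eq_id]
  | succ j ih =>
    have := finrank_ker_comp_le f (f ^ j)
    rw [pow_succ, Module.End.mul_eq_comp]
    omega

theorem mulVecLin_pow {n : ℕ} (N : Matrix (Fin n) (Fin n) F) (k : ℕ) :
    Matrix.mulVecLin (N ^ k) = (Matrix.mulVecLin N) ^ k := by
  induction k with
  | zero => simp [Module.End.one_eq_id]
  | succ k ih => rw [pow_succ, Matrix.mulVecLin_mul, ih, pow_succ, Module.End.mul_eq_comp]

theorem result {F : Type*} [Field F] [Finite F] {n : ℕ} (u : Matrix (Fin n) (Fin n) F) (hnil : (u - 1) ^ n = 0) (hreg : (u - 1).rank = n - 1) (W : Submodule F (Fin n → F)) (hW : ∀ v ∈ W, u.mulVec v ∈ W) : W = LinearMap.ker (Matrix.mulVecLin ((u - 1) ^ Module.finrank F W)) := by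
  set N := u - 1 with hN
  set f : (Fin n → F) →ₗ[F] (Fin n → F) := Matrix.mulVecLin N with hf
  rw [mulVecLin_pow]
  set k := finrank F W with hk
  -- W is f-invariant
  have hWf : ∀ v ∈ W, f v ∈ W := by
    intro v hv
    have : f v = u.mulVec v - v := by
      simp [hf, hN]
    rw [this]
    exact W.sub_mem (hW v hv) hv
  have hfn : f ^ n = 0 := by
    rw [hf, ← mulVecLin_pow, hnil]
    simp
  -- the restriction
  set g : W →ₗ[F] W := f.restrict hWf with hg
  have hgpow : ∀ j, g ^ j = (f ^ j).restrict (fun v hv => by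
      induction j with
      | zero => simpa using hv
      | succ j ih => rw [pow_succ', Module.End.mul_apply]; exact hWf _ ih) := by
    intro j
    exact Module.End.pow_restrict j hWf
  have hgn : g ^ n = 0 := by
    rw [hgpow]
    ext x
    simp [hfn]
  have hgk : g ^ k = 0 := by
    have h2 := Module.End.ker_pow_le_ker_pow_finrank g n
    rw [hgn, LinearMap.ker_zero, top_le_iff, LinearMap.ker_eq_top] at h2
    exact h2
  have hle : W ≤ LinearMap.ker (f ^ k) := by
    intro w hw
    rw [LinearMap.mem_ker]
    have := congrArg (fun φ : W →ₗ[F] W => (φ ⟨w, hw⟩ : Fin n → F)) hgk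
    simp only [hgpow] at this
    simpa using this
  -- dimension of the kernel
  have hker1 : finrank F (LinearMap.ker f) ≤ 1 := by
    have h1 := LinearMap.finrank_range_add_finrank_ker f
    have h2 : finrank F (LinearMap.range f) = n - 1 := hreg
    rw [h2, Module.finrank_fin_fun] at h1
    omega
  have hdim := finrank_ker_pow_le f hker1 k
  exact Submodule.eq_of_le_of_finrank_le hle hdim

end Cfsg.Agent.S2573
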