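import Cfsg.Statements.S2571
import Cfsg.Agent.S2573
import Mathlib

set_option autoImplicit false
open Cfsg

namespace Cfsg.Agent.S2571

open Module Matrix

section general

variable {F : Type*} [Field F] {V : Type*} [AddCommGroup V] [Module F V]

/-- The iterates of a vector under a nilpotent map, up to the last non-vanishing one, are
linearly independent. -/
theorem linearIndependent_pow (f : V →ₗ[F] V) (n : ℕ) (hfn : f ^ n = 0) (e : V)
    (he : (f ^ (n - 1)) e ≠ 0) :
    LinearIndependent F (fun i : Fin n => (f ^ (i : ℕ)) e) := by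
  rw [Fintype.linearIndependent_iff]
  intro a ha
  have key : ∀ j : ℕ, ∀ hj : j < n, a ⟨j, hj⟩ = 0 := by
    intro j
    induction j using Nat.strong_induction_on with
    | _ j ih =>
      intro hj
      have h1 := congrArg (f ^ (n - 1 - j)) ha
      rw [map_sum, map_zero] at h1
      have h2 : ∑ i : Fin n, (f ^ (n - 1 - j)) (a i • (f ^ (i : ℕ)) e) =
          a ⟨j, hj⟩ • (f ^ (n - 1)) e := by
        rw [Finset.sum_eq_single ⟨j, hj⟩]
        · rw [map_smul, ← Module.End.mul_apply, ← pow_add]
          have : n - 1 - j + j = n - 1 := by omega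
          simp only [this]
        · intro i _ hij
          have hne : i.val ≠ j := fun h => hij (Fin.ext h)
          rcases Nat.lt_or_gt_of_ne hne with hlt | hgt
          · have : a i = 0 := ih i.val hlt i.isLt
            rw [this, zero_smul, map_zero]
          · rw [map_smul, ← Module.End.mul_apply, ← pow_add]
            have : n - 1 - j + i.val = n + (i.val - j - 1) := by omega
            rw [this, pow_add, hfn, zero_mul, LinearMap.zero_apply, smul_zero]
        · intro h
          exact absurd (Finset.mem_univ _) h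
      rw [h2] at h1
      exact (smul_eq_zero.1 h1).resolve_right he
  intro i
  exact key i.val i.isLt

end general

theorem mem_centralizer_iff_mat {F : Type*} [Field F] {n : ℕ} (g h : GL (Fin n) F) :
    h ∈ Subgroup.centralizer ({g} : Set (GL (Fin n) F)) ↔
      (g : Matrix (Fin n) (Fin n) F) * (h : Matrix (Fin n) (Fin n) F) =
        (h : Matrix (Fin n) (Fin n) F) * (g : Matrix (Fin n) (Fin n) F) := by
  rw [Subgroup.mem_centralizer_iff]
  simp only [Set.mem_singleton_iff, forall_eq]
  constructor
  · intro hc
    have := congrArg Units.val hc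
    simpa using this
  · intro hc
    apply Units.ext
    simpa using hc

theorem card_first_ne_zero {F : Type*} [Field F] [Fintype F] (k : ℕ) :
    Nat.card {a : Fin (k + 1) → F // a 0 ≠ 0} = (Fintype.card F - 1) * Fintype.card F ^ k := by
  classical
  have e1 : {a : Fin (k + 1) → F // a 0 ≠ 0} ≃ {s : F × (Fin k → F) // s.1 ≠ 0} :=
    (Equiv.subtypeEquiv (Fin.consEquiv (fun _ => F)) (fun s => by simp)).symm
  have e2 : {s : F × (Fin k → F) // s.1 ≠ 0} ≃ {x : F // x ≠ 0} × (Fin k → F) :=
    Equiv.prodSubtypeFstEquivSubtypeProd (p := fun x : F => x ≠ 0)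
  rw [Nat.card_congr (e1.trans e2), Nat.card_prod, Nat.card_eq_fintype_card,
    Nat.card_eq_fintype_card, Fintype.card_subtype_compl, Fintype.card_fun, Fintype.card_fin]
  simp

theorem result {F : Type*} [Field F] [Fintype F] {q n : ℕ} (hF : Fintype.card F = q) (hn : 1 ≤ n) (u : GL (Fin n) F) (hnil : ((u : Matrix (Fin n) (Fin n) F) - 1) ^ n = 0) (hreg : ((u : Matrix (Fin n) (Fin n) F) - 1).rank = n - 1) : Nat.card ↥(Subgroup.centralizer ({u} : Set (GL (Fin n) F))) = (q - 1) * q ^ (n - 1) := by
  classical
  set A : Matrix (Fin n) (Fin n) F := (u : Matrix (Fin n) (Fin n) F) with hA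
  set N := A - 1 with hN
  set f : (Fin n → F) →ₗ[F] (Fin n → F) := Matrix.mulVecLin N with hf
  have hfpow : ∀ k, f ^ k = Matrix.mulVecLin (N ^ k) := fun k =>
    (Cfsg.Agent.S2573.mulVecLin_pow N k).symm
  have hfn : f ^ n = 0 := by rw [hfpow, hnil]; simp
  -- kernel of f has dimension ≤ 1
  have hker1 : finrank F (LinearMap.ker f) ≤ 1 := by
    have h1 := LinearMap.finrank_range_add_finrank_ker f
    have h2 : finrank F (LinearMap.range f) = n - 1 := hreg
    rw [h2, Module.finrank_fin_fun] at h1
    omega
  -- a cyclic vector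
  obtain ⟨e, he⟩ : ∃ e, (f ^ (n - 1)) e ≠ 0 := by
    by_contra hcon
    push Not at hcon
    have h1 : LinearMap.ker (f ^ (n - 1)) = ⊤ := by
      rw [LinearMap.ker_eq_top]
      exact LinearMap.ext hcon
    have h2 := Cfsg.Agent.S2573.finrank_ker_pow_le f hker1 (n - 1)
    rw [h1, finrank_top, Module.finrank_fin_fun] at h2
    omega
  have hli := linearIndependent_pow f n hfn e he
  have hne : Nonempty (Fin n) := ⟨⟨0, hn⟩⟩
  set b : Basis (Fin n) F (Fin n → F) :=
    basisOfLinearIndependentOfCardEqFinrank hli (by simp) with hb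
  have hbi : ∀ i, b i = (N ^ (i : ℕ)) *ᵥ e := by
    intro i
    rw [hb, coe_basisOfLinearIndependentOfCardEqFinrank, hfpow]
    rfl
  -- the polynomial map
  set P : (Fin n → F) → Matrix (Fin n) (Fin n) F := fun a => ∑ i, a i • N ^ (i : ℕ) with hP
  have hPe : ∀ a, P a *ᵥ e = ∑ i, a i • b i := by
    intro a
    simp only [hP, Matrix.sum_mulVec, Matrix.smul_mulVec, hbi]
  have hPN : ∀ a, Commute (P a) N := by
    intro a
    simp only [hP]
    apply Commute.sum_left
    intro i _
    exact (Commute.pow_left (Commute.refl N) _).smul_left _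
  have hPA : ∀ a, A * P a = P a * A := by
    intro a
    have hAN : A = N + 1 := by rw [hN]; abel
    rw [hAN, add_mul, mul_add, one_mul, mul_one, (hPN a).eq]
  -- units
  have hPunit : ∀ a : Fin n → F, a ⟨0, hn⟩ ≠ 0 → IsUnit (P a) := by
    intro a ha
    -- P a = a 0 • 1 + R with R nilpotent commuting
    set R := P a - a ⟨0, hn⟩ • (1 : Matrix (Fin n) (Fin n) F) with hR
    have hRN : R = N * ∑ i : Fin n, (if (i : ℕ) = 0 then 0 else a i • N ^ ((i : ℕ) - 1)) := by
      rw [hR, hP, Finset.mul_sum]
      simp only
      rw [← Finset.sum_erase_add _ _ (Finset.mem_univ (⟨0, hn⟩ : Fin n))]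
      simp only [pow_zero, add_sub_cancel_right]
      rw [← Finset.sum_erase_add (s := Finset.univ) _ (Finset.mem_univ (⟨0, hn⟩ : Fin n))]
      simp only [if_true, mul_zero, add_zero]
      apply Finset.sum_congr rfl
      intro i hi
      have hi0 : (i : ℕ) ≠ 0 := by
        intro h
        exact (Finset.mem_erase.1 hi).1 (Fin.ext h)
      rw [if_neg hi0, Matrix.mul_smul, ← pow_succ']
      congr 2
      omega
    have hRnil : IsNilpotent R := by
      refine ⟨n, ?_⟩
      rw [hRN]
      have hc : Commute N (∑ i : Fin n, (if (i : ℕ) = 0 then 0 else a i • N ^ ((i : ℕ) - 1))) := by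
        apply Commute.sum_right
        intro i _
        split_ifs
        · exact Commute.zero_right _
        · exact (Commute.pow_right (Commute.refl N) _).smul_right _
      rw [hc.mul_pow, hnil, zero_mul]
    have hPR : P a = a ⟨0, hn⟩ • (1 : Matrix (Fin n) (Fin n) F) + R := by rw [hR]; abel
    rw [hPR]
    apply hRnil.isUnit_add_left_of_commute
    · have hu : IsUnit (algebraMap F (Matrix (Fin n) (Fin n) F) (a ⟨0, hn⟩)) :=
        (IsUnit.mk0 _ ha).map _
      rwa [Algebra.algebraMap_eq_smul_one] at hu
    · exact (Commute.one_right R).smul_right _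
  -- the equivalence
  have hinj : ∀ a a' : Fin n → F, P a = P a' → a = a' := by
    intro a a' h
    have h1 : ∑ i, a i • b i = ∑ i, a' i • b i := by rw [← hPe, ← hPe, h]
    have h2 := congrArg b.repr h1
    simp only [map_sum, map_smul, Basis.repr_self] at h2
    ext i
    have := congrArg (fun φ => φ i) h2
    simpa [Finsupp.single_apply] using this
  let Φ : {a : Fin n → F // a ⟨0, hn⟩ ≠ 0} → Subgroup.centralizer ({u} : Set (GL (Fin n) F)) :=
    fun a => ⟨(hPunit a.1 a.2).unit, by
      rw [mem_centralizer_iff_mat]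
      exact hPA a.1⟩
  have hΦcoe : ∀ a, ((Φ a : GL (Fin n) F) : Matrix (Fin n) (Fin n) F) = P a.1 := fun a => rfl
  have hbij : Function.Bijective Φ := by
    constructor
    · intro a a' h
      apply Subtype.ext
      apply hinj
      rw [← hΦcoe, ← hΦcoe, h]
    · rintro ⟨X, hX⟩
      rw [mem_centralizer_iff_mat] at hX
      set M : Matrix (Fin n) (Fin n) F := (X : Matrix (Fin n) (Fin n) F) with hM
      have hXN : N * M = M * N := by
        rw [hN, sub_mul, mul_sub, one_mul, mul_one]
        congr 1
      have hXNpow : ∀ k, N ^ k * M = M * N ^ k := by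
        intro k
        exact ((Commute.pow_left (show Commute N M from hXN) k)).eq
      set a : Fin n → F := fun i => b.repr (M *ᵥ e) i with ha
      have hMe : M *ᵥ e = ∑ i, a i • b i := by
        rw [ha]
        exact (b.sum_repr (M *ᵥ e)).symm
      have hMP : M = P a := by
        -- agree on the basis
        apply Matrix.toLin'.injective
        apply b.ext
        intro j
        rw [Matrix.toLin'_apply, Matrix.toLin'_apply, hbi, Matrix.mulVec_mulVec, ← hXNpow,
          ← Matrix.mulVec_mulVec, hMe, ← hPe, Matrix.mulVec_mulVec, Matrix.mulVec_mulVec,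
          (Commute.pow_right (hPN a) _).eq]
      have ha0 : a ⟨0, hn⟩ ≠ 0 := by
        intro h0
        -- M * N^(n-1) e = 0 but M invertible
        have h1 : M *ᵥ ((N ^ (n - 1)) *ᵥ e) = 0 := by
          rw [Matrix.mulVec_mulVec, ← hXNpow, ← Matrix.mulVec_mulVec, hMe, Matrix.mulVec_sum]
          apply Finset.sum_eq_zero
          intro i _
          by_cases hi : (i : ℕ) = 0
          · have : i = ⟨0, hn⟩ := Fin.ext hi
            rw [this, h0, zero_smul, Matrix.mulVec_zero]
          · rw [Matrix.mulVec_smul, hbi, Matrix.mulVec_mulVec, ← pow_add]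
            have : n - 1 + (i : ℕ) = n + ((i : ℕ) - 1) := by omega
            rw [this, pow_add, hnil, zero_mul, Matrix.zero_mulVec, smul_zero]
        have h2 : (N ^ (n - 1)) *ᵥ e = 0 := by
          have hinv : ((X⁻¹ : GL (Fin n) F) : Matrix (Fin n) (Fin n) F) * M = 1 := by
            have h0 : ((X⁻¹ * X : GL (Fin n) F) : Matrix (Fin n) (Fin n) F) =
                ((1 : GL (Fin n) F) : Matrix (Fin n) (Fin n) F) := by rw [inv_mul_cancel]
            exact h0
          have := congrArg (fun v => ((X⁻¹ : GL (Fin n) F) : Matrix (Fin n) (Fin n) F) *ᵥ v) h1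
          simp only [Matrix.mulVec_mulVec, Matrix.mulVec_zero] at this
          rw [← Matrix.mul_assoc, hinv, Matrix.one_mul] at this
          exact this
        apply he
        rw [hfpow]
        exact h2
      refine ⟨⟨a, ha0⟩, ?_⟩
      apply Subtype.ext
      apply Units.ext
      rw [hΦcoe]
      exact hMP.symm
  rw [← Nat.card_congr (Equiv.ofBijective Φ hbij)]
  obtain ⟨k, rfl⟩ : ∃ k, n = k + 1 := ⟨n - 1, by omega⟩
  rw [← hF]
  exact card_first_ne_zero k

end Cfsg.Agent.S2571
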