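import Cfsg.Statements.S2574
import Cfsg.Agent.S2573
import Mathlib

set_option autoImplicit false
open Cfsg

namespace Cfsg.Agent.S2574

open Module Matrix

section general

variable {F : Type*} [Field F] {V : Type*} [AddCommGroup V] [Module F V] [FiniteDimensional F V]

/-- An invariant subspace of a nilpotent endomorphism is killed by the power equal to its
dimension. -/
theorem le_ker_pow_finrank (f : V →ₗ[F] V) (n : ℕ) (hfn : f ^ n = 0) (W : Submodule F V)
    (hWf : ∀ v ∈ W, f v ∈ W) : W ≤ LinearMap.ker (f ^ finrank F W) := by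
  set k := finrank F W with hk
  set g : W →ₗ[F] W := f.restrict hWf with hg
  have hgpow : ∀ j, g ^ j = (f ^ j).restrict (fun v hv => by
      induction j with
      | zero => simpa using hv
      | succ j ih => rw [pow_succ', Module.End.mul_apply]; exact hWf _ ih) := by
    intro j
    exact Module.End.pow_restrict j hWf
  have hgn : g ^ n = 0 := by
    rw [hgpow]
    ext x
    simp [hfn]
  have hgk : g ^ k = 0 := by
    have h2 := Module.End.ker_pow_le_ker_pow_finrank g n
    rw [hgn, LinearMap.ker_zero, top_le_iff, LinearMap.ker_eq_top] at h2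
    exact h2
  intro w hw
  rw [LinearMap.mem_ker]
  have := congrArg (fun φ : W →ₗ[F] W => (φ ⟨w, hw⟩ : V)) hgk
  simp only [hgpow] at this
  simpa using this

/-- For a nilpotent endomorphism with one-dimensional kernel, `ker f^k = range f^(n-k)`. -/
theorem ker_pow_le_range_pow (f : V →ₗ[F] V) (hfn : f ^ finrank F V = 0)
    (hker : finrank F (LinearMap.ker f) ≤ 1) (k : ℕ) (hk : k ≤ finrank F V) :
    LinearMap.ker (f ^ k) ≤ LinearMap.range (f ^ (finrank F V - k)) := by
  set n := finrank F V with hn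
  have h1 : LinearMap.range (f ^ (n - k)) ≤ LinearMap.ker (f ^ k) := by
    rintro _ ⟨x, rfl⟩
    rw [LinearMap.mem_ker, ← Module.End.mul_apply, ← pow_add, Nat.add_sub_cancel' hk, hfn]
    rfl
  have h2 := LinearMap.finrank_range_add_finrank_ker (f ^ (n - k))
  have h3 := Cfsg.Agent.S2573.finrank_ker_pow_le f hker (n - k)
  have h4 := Cfsg.Agent.S2573.finrank_ker_pow_le f hker k
  have h5 : finrank F (LinearMap.ker (f ^ k)) ≤ finrank F (LinearMap.range (f ^ (n - k))) := by
    omega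
  exact (Submodule.eq_of_le_of_finrank_le h1 h5).ge

end general

theorem mulVecLin_pow' {F : Type*} [Field F] {ι : Type*} [Fintype ι] [DecidableEq ι]
    (N : Matrix ι ι F) (k : ℕ) :
    Matrix.mulVecLin (N ^ k) = (Matrix.mulVecLin N) ^ k := by
  induction k with
  | zero => simp [Module.End.one_eq_id]
  | succ k ih => rw [pow_succ, Matrix.mulVecLin_mul, ih, pow_succ, Module.End.mul_eq_comp]

theorem result {F : Type*} [Field F] [Finite F] {m : ℕ} (u : Matrix.symplecticGroup (Fin m) F) (hnil : ((u : Matrix (Fin m ⊕ Fin m) (Fin m ⊕ Fin m) F) - 1) ^ (2 * m) = 0) (hreg : ((u : Matrix (Fin m ⊕ Fin m) (Fin m ⊕ Fin m) F) - 1).rank = 2 * m - 1) (W : Submodule F (Fin m ⊕ Fin m → F)) (hW : ∀ v ∈ W, (u : Matrix (Fin m ⊕ Fin m) (Fin m ⊕ Fin m) F).mulVec v ∈ W) (hdim : 2 * Module.finrank F W ≤ 2 * m) : ∀ v ∈ W, ∀ w ∈ W, Cfsg.sympForm m F v w = 0 := by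
  set A : Matrix (Fin m ⊕ Fin m) (Fin m ⊕ Fin m) F := (u : Matrix (Fin m ⊕ Fin m) (Fin m ⊕ Fin m) F) with hA
  set Ainv : Matrix (Fin m ⊕ Fin m) (Fin m ⊕ Fin m) F :=
    ((u⁻¹ : Matrix.symplecticGroup (Fin m) F) : Matrix (Fin m ⊕ Fin m) (Fin m ⊕ Fin m) F) with hAinv
  have hAAinv : A * Ainv = 1 := by
    have h0 : ((u * u⁻¹ : Matrix.symplecticGroup (Fin m) F) : Matrix (Fin m ⊕ Fin m) (Fin m ⊕ Fin m) F)
        = ((1 : Matrix.symplecticGroup (Fin m) F) : Matrix (Fin m ⊕ Fin m) (Fin m ⊕ Fin m) F) := by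
      rw [mul_inv_cancel]
    exact h0
  have hAinvA : Ainv * A = 1 := by
    have h0 : ((u⁻¹ * u : Matrix.symplecticGroup (Fin m) F) : Matrix (Fin m ⊕ Fin m) (Fin m ⊕ Fin m) F)
        = ((1 : Matrix.symplecticGroup (Fin m) F) : Matrix (Fin m ⊕ Fin m) (Fin m ⊕ Fin m) F) := by
      rw [inv_mul_cancel]
    exact h0
  have hsymp : Aᵀ * J (Fin m) F * A = J (Fin m) F := SymplecticGroup.mem_iff'.1 u.2
  set N := A - 1 with hN
  set M := Ainv - 1 with hM
  set f : (Fin m ⊕ Fin m → F) →ₗ[F] (Fin m ⊕ Fin m → F) := Matrix.mulVecLin N with hf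
  have hVdim : finrank F (Fin m ⊕ Fin m → F) = 2 * m := by
    rw [Module.finrank_pi]; simp; ring
  -- invariance of the form
  have hinv : ∀ x y, Cfsg.sympForm m F (A *ᵥ x) (A *ᵥ y) = Cfsg.sympForm m F x y := by
    intro x y
    unfold Cfsg.sympForm
    rw [← Matrix.vecMul_transpose, ← Matrix.dotProduct_mulVec, Matrix.mulVec_mulVec,
      Matrix.mulVec_mulVec, hsymp]
  have hadd2 : ∀ x y z, Cfsg.sympForm m F x (y - z) = Cfsg.sympForm m F x y - Cfsg.sympForm m F x z := by
    intro x y z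
    unfold Cfsg.sympForm
    rw [Matrix.mulVec_sub, dotProduct_sub]
  have hsub1 : ∀ x y z, Cfsg.sympForm m F (x - y) z = Cfsg.sympForm m F x z - Cfsg.sympForm m F y z := by
    intro x y z
    unfold Cfsg.sympForm
    rw [sub_dotProduct]
  -- adjoint relation
  have hadj : ∀ x y, Cfsg.sympForm m F (N *ᵥ x) y = Cfsg.sympForm m F x (M *ᵥ y) := by
    intro x y
    have e1 : N *ᵥ x = A *ᵥ x - x := by rw [hN, Matrix.sub_mulVec, Matrix.one_mulVec]
    have e2 : M *ᵥ y = Ainv *ᵥ y - y := by rw [hM, Matrix.sub_mulVec, Matrix.one_mulVec]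
    rw [e1, e2, hsub1, hadd2]
    congr 1
    have : y = A *ᵥ (Ainv *ᵥ y) := by rw [Matrix.mulVec_mulVec, hAAinv, Matrix.one_mulVec]
    conv_lhs => rw [this]
    rw [hinv]
  have hadjpow : ∀ (a : ℕ) x y, Cfsg.sympForm m F ((N ^ a) *ᵥ x) y = Cfsg.sympForm m F x ((M ^ a) *ᵥ y) := by
    intro a
    induction a with
    | zero => intro x y; simp
    | succ a ih =>
      intro x y
      rw [pow_succ', ← Matrix.mulVec_mulVec, hadj, ih, Matrix.mulVec_mulVec, ← pow_succ]
  -- M = -Ainv * N, commuting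
  have hMN : M = (-Ainv) * N := by
    rw [hM, hN, Matrix.mul_sub, Matrix.neg_mul, hAinvA, Matrix.mul_one]
    abel
  have hcomm : Commute (-Ainv) N := by
    rw [hN]
    apply Commute.sub_right
    · apply Commute.neg_left
      show Ainv * A = A * Ainv
      rw [hAinvA, hAAinv]
    · exact Commute.one_right _
  have hMpow : ∀ a, M ^ a = (-Ainv) ^ a * N ^ a := by
    intro a
    rw [hMN, hcomm.mul_pow]
  -- W is f-invariant and killed by f^k
  have hWf : ∀ v ∈ W, f v ∈ W := by
    intro v hv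
    have : f v = A *ᵥ v - v := by
      simp [hf, hN]
    rw [this]
    exact W.sub_mem (hW v hv) hv
  have hfn : f ^ (2 * m) = 0 := by
    rw [hf, ← mulVecLin_pow', hnil]
    simp
  set k := finrank F W with hk
  have hWker : W ≤ LinearMap.ker (f ^ k) := le_ker_pow_finrank f (2 * m) hfn W hWf
  have hker1 : finrank F (LinearMap.ker f) ≤ 1 := by
    have h1 := LinearMap.finrank_range_add_finrank_ker f
    have h2 : finrank F (LinearMap.range f) = 2 * m - 1 := hreg
    rw [h2, hVdim] at h1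
    omega
  have hkle : k ≤ finrank F (Fin m ⊕ Fin m → F) := by rw [hVdim]; omega
  have hrange := ker_pow_le_range_pow f (by rw [hVdim]; exact hfn) hker1 k hkle
  rw [hVdim] at hrange
  intro v hv w hw
  obtain ⟨x, hx⟩ := hrange (hWker hv)
  have hvx : v = (N ^ (2 * m - k)) *ᵥ x := by
    rw [← hx, hf, ← mulVecLin_pow']
    rfl
  have hwk : (N ^ k) *ᵥ w = 0 := by
    have := hWker hw
    rw [LinearMap.mem_ker, hf, ← mulVecLin_pow'] at this
    exact this
  have hw2 : (N ^ (2 * m - k)) *ᵥ w = 0 := by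
    have e : 2 * m - k = (2 * m - 2 * k) + k := by omega
    rw [e, pow_add, ← Matrix.mulVec_mulVec, hwk, Matrix.mulVec_zero]
  rw [hvx, hadjpow, hMpow, ← Matrix.mulVec_mulVec, hw2, Matrix.mulVec_zero]
  unfold Cfsg.sympForm
  simp

end Cfsg.Agent.S2574
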