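import Cfsg.Statements.S2575

set_option autoImplicit false
open Cfsg

namespace Cfsg.Agent.S2575

theorem prod_diag {F : Type*} [Field F] {n : ℕ} (i : ℕ) (hi : i ≤ n) :
    (∏ j : Fin n, (if (j : ℕ) < i then (-1 : F) else 1)) = (-1) ^ i := by
  rw [Fin.prod_univ_eq_prod_range (fun j => if j < i then (-1 : F) else 1) n]
  rw [Finset.prod_ite]
  simp only [Finset.prod_const, one_pow, mul_one]
  congr 1
  have : (Finset.range n).filter (· < i) = Finset.range i := by
    ext x; simp; omega
  rw [this, Finset.card_range]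

theorem neg_one_ne_one' {F : Type*} [Field F] [Fintype F] (hq : Odd (Fintype.card F)) :
    (-1 : F) ≠ 1 := by
  apply Ring.neg_one_ne_one_of_char_ne_two
  intro h
  have := FiniteField.even_card_iff_char_two.1 h
  rcases hq with ⟨k, hk⟩
  omega

theorem exists_unit_order {F : Type*} [Field F] [Fintype F] (d : ℕ)
    (hd : d ∣ Fintype.card F - 1) : ∃ x : Fˣ, orderOf x = d := by
  classical
  obtain ⟨g, hg⟩ := IsCyclic.exists_generator (α := Fˣ)
  have hord : orderOf g = Fintype.card F - 1 := by
    rw [orderOf_eq_card_of_forall_mem_zpowers hg, Nat.card_eq_fintype_card, Fintype.card_units]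
  obtain ⟨e, he⟩ := hd
  have hpos : 0 < Fintype.card F - 1 := by
    have := Fintype.one_lt_card (α := F); omega
  have he0 : e ≠ 0 := by rintro rfl; omega
  refine ⟨g ^ e, ?_⟩
  rw [orderOf_pow_of_dvd he0 (by rw [hord, he]; exact dvd_mul_left _ _), hord, he]
  exact Nat.mul_div_cancel _ (Nat.pos_of_ne_zero he0)

theorem result {F : Type*} [Field F] [Fintype F] {q : ℕ} (hF : Fintype.card F = q) (hq : Odd q) {n : ℕ} (hn : 1 ≤ n) (i : ℕ) (hi : i ≤ n) : (∃ c : F, c ≠ 0 ∧ (c • Matrix.diagonal (fun j : Fin n => if (j : ℕ) < i then (-1 : F) else 1)).det = 1) ↔ (Even i ∨ padicValNat 2 n < padicValNat 2 (q - 1)) := by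
  subst hF
  have hne : (-1 : F) ≠ 1 := neg_one_ne_one' hq
  have hdet : ∀ c : F, (c • Matrix.diagonal (fun j : Fin n => if (j : ℕ) < i then (-1 : F) else 1)).det = c ^ n * (-1) ^ i := by
    intro c
    rw [Matrix.det_smul, Matrix.det_diagonal, prod_diag i hi, Fintype.card_fin]
  simp only [hdet]
  set N := Fintype.card F - 1 with hN
  have hNpos : 0 < N := by
    have := Fintype.one_lt_card (α := F); omega
  have hcN : ∀ c : F, c ≠ 0 → c ^ N = 1 := fun c hc => FiniteField.pow_card_sub_one_eq_one c hc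
  constructor
  · rintro ⟨c, hc, h⟩
    by_contra hcon
    push Not at hcon
    obtain ⟨hi_odd, hle⟩ := hcon
    rw [Nat.not_even_iff_odd] at hi_odd
    rw [hi_odd.neg_one_pow] at h
    have hcn : c ^ n = -1 := by linear_combination -h
    set a := padicValNat 2 N with ha
    have h2a : 2 ^ a ∣ n := (padicValNat_dvd_iff_le (by omega)).2 hle
    obtain ⟨n', hn'⟩ := h2a
    have hN' : N = 2 ^ a * (N / 2 ^ a) := (Nat.mul_div_cancel' pow_padicValNat_dvd).symm
    have hodd : Odd (N / 2 ^ a) := by
      rw [← Nat.not_even_iff_odd, even_iff_two_dvd]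
      intro h2
      have : 2 ^ (a + 1) ∣ N := by
        rw [hN', pow_succ]; exact mul_dvd_mul_left _ h2
      have := (padicValNat_dvd_iff_le hNpos.ne').1 this
      omega
    have h1 : c ^ (n * (N / 2 ^ a)) = 1 := by
      rw [hn', mul_right_comm, ← hN', pow_mul, hcN c hc, one_pow]
    have h2 : c ^ (n * (N / 2 ^ a)) = -1 := by
      rw [pow_mul, hcn, hodd.neg_one_pow]
    exact hne (h2.symm.trans h1)
  · rintro (hev | hlt)
    · exact ⟨1, one_ne_zero, by simp [hev.neg_one_pow]⟩
    · by_cases hev : Even i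
      · exact ⟨1, one_ne_zero, by simp [hev.neg_one_pow]⟩
      rw [Nat.not_even_iff_odd] at hev
      set b := padicValNat 2 n with hb
      have hdvd : 2 ^ (b + 1) ∣ N := (padicValNat_dvd_iff_le hNpos.ne').2 hlt
      obtain ⟨ω, hω⟩ := exists_unit_order (2 ^ (b + 1)) hdvd
      have hω1 : ((ω : F) ^ 2 ^ b) = -1 := by
        have hsq : ((ω : F) ^ 2 ^ b) * ((ω : F) ^ 2 ^ b) = 1 := by
          rw [← pow_add, ← two_mul, ← pow_succ', ← hω]
          rw [← Units.val_pow_eq_pow_val, pow_orderOf_eq_one ω, Units.val_one]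
        rcases mul_self_eq_one_iff.1 hsq with h | h
        · exfalso
          have h3 : orderOf ω ∣ 2 ^ b :=
            orderOf_dvd_of_pow_eq_one (by apply Units.ext; simpa using h)
          rw [hω] at h3
          have h4 := Nat.le_of_dvd (by positivity) h3
          rw [pow_succ] at h4
          have : 0 < 2 ^ b := by positivity
          omega
        · exact h
      obtain ⟨n', hn'⟩ : 2 ^ b ∣ n := pow_padicValNat_dvd
      have hn'odd : Odd n' := by
        rw [← Nat.not_even_iff_odd, even_iff_two_dvd]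
        intro h2
        have h3 : 2 ^ (b + 1) ∣ n := by rw [hn', pow_succ]; exact mul_dvd_mul_left _ h2
        have := (padicValNat_dvd_iff_le (by omega)).1 h3
        omega
      refine ⟨(ω : F), ω.ne_zero, ?_⟩
      rw [hev.neg_one_pow, hn', pow_mul, hω1, hn'odd.neg_one_pow]
      ring

end Cfsg.Agent.S2575
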