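import Cfsg.Statements.S2576

set_option autoImplicit false
open Cfsg

namespace Cfsg.Agent.S2576

theorem neg_one_ne_one' {F : Type*} [Field F] [Fintype F] (hq : Odd (Fintype.card F)) :
    (-1 : F) ≠ 1 := by
  apply Ring.neg_one_ne_one_of_char_ne_two
  intro h
  have := FiniteField.even_card_iff_char_two.1 h
  rcases hq with ⟨k, hk⟩
  omega

/-- An element of order `2^(k+1)` in a field has `2^k`-th power equal to `-1`. -/
theorem pow_half_eq_neg_one {F : Type*} [Field F] (μ : F) (k : ℕ) (hμ : orderOf μ = 2 ^ (k + 1)) :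
    μ ^ 2 ^ k = -1 := by
  have hsq : (μ ^ 2 ^ k) * (μ ^ 2 ^ k) = 1 := by
    rw [← pow_add, ← two_mul, ← pow_succ', ← hμ, pow_orderOf_eq_one]
  rcases mul_self_eq_one_iff.1 hsq with h | h
  · exfalso
    have h3 : orderOf μ ∣ 2 ^ k := orderOf_dvd_of_pow_eq_one h
    rw [hμ] at h3
    have h4 := Nat.le_of_dvd (by positivity) h3
    rw [pow_succ] at h4
    have : 0 < 2 ^ k := by positivity
    omega
  · exact h

theorem result {F : Type*} [Field F] [Fintype F] {q : ℕ} (hF : Fintype.card F = q) (hq : Odd q) {m : ℕ} (hm : 1 ≤ m) (μ : F) (hμ : orderOf μ = 2 ^ padicValNat 2 (q - 1)) : (∃ c : F, c ≠ 0 ∧ (c • Matrix.blockDiagonal (fun _ : Fin m => !![(0 : F), 1; μ, 0])).det = 1) ↔ (q % 4 = 3 ∨ padicValNat 2 (q - 1) < padicValNat 2 (2 * m)) := by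
  subst hF
  have hne : (-1 : F) ≠ 1 := neg_one_ne_one' hq
  have hdet : ∀ c : F, (c • Matrix.blockDiagonal (fun _ : Fin m => !![(0 : F), 1; μ, 0])).det
      = c ^ (2 * m) * (-μ) ^ m := by
    intro c
    rw [Matrix.det_smul, Matrix.det_blockDiagonal]
    simp [Matrix.det_fin_two_of]
  simp only [hdet]
  set N := Fintype.card F - 1 with hN
  have hq3 : 3 ≤ Fintype.card F := by
    have := Fintype.one_lt_card (α := F)
    rcases hq with ⟨k, hk⟩
    omega
  have hNpos : 0 < N := by omega
  have hcN : ∀ c : F, c ≠ 0 → c ^ N = 1 := fun c hc => FiniteField.pow_card_sub_one_eq_one c hc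
  set a := padicValNat 2 N with ha
  have ha1 : 1 ≤ a := by
    apply (padicValNat_dvd_iff_le hNpos.ne').1
    rcases hq with ⟨k, hk⟩
    simp only [pow_one]
    omega
  have hv2m : padicValNat 2 (2 * m) = 1 + padicValNat 2 m := by
    rw [padicValNat.mul (by norm_num) (by omega)]
    simp
  rw [hv2m]
  constructor
  · rintro ⟨c, hc, h⟩
    by_contra hcon
    push Not at hcon
    obtain ⟨hq4, hle⟩ := hcon
    have h4 : 2 ^ 2 ∣ N := by
      rcases hq with ⟨k, hk⟩
      norm_num
      omega
    have ha2 : 2 ≤ a := (padicValNat_dvd_iff_le hNpos.ne').1 h4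
    obtain ⟨a', ha'⟩ : ∃ a', a = a' + 1 := ⟨a - 1, by omega⟩
    have ha'1 : 1 ≤ a' := by omega
    have hN' : N = 2 ^ a * (N / 2 ^ a) := (Nat.mul_div_cancel' pow_padicValNat_dvd).symm
    have hodd : Odd (N / 2 ^ a) := by
      rw [← Nat.not_even_iff_odd, even_iff_two_dvd]
      intro h2
      have : 2 ^ (a + 1) ∣ N := by
        rw [hN', pow_succ]; exact mul_dvd_mul_left _ h2
      have := (padicValNat_dvd_iff_le hNpos.ne').1 this
      omega
    set N' := N / 2 ^ a with hN'def
    have hμ' : orderOf μ = 2 ^ (a' + 1) := by rw [hμ, ha']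
    have hμhalf := pow_half_eq_neg_one μ a' hμ'
    set y := c ^ 2 * (-μ) with hy
    have hym : y ^ m = 1 := by
      rw [hy, mul_pow, ← pow_mul]; exact h
    set x := y ^ N' with hx
    have hxm : x ^ m = 1 := by
      rw [hx, ← pow_mul, mul_comm, pow_mul, hym, one_pow]
    have hx1 : x ^ 2 ^ a' = -1 := by
      have he : Even (N' * 2 ^ a') := by
        apply Even.mul_left
        exact (Nat.even_pow' (by omega)).2 even_two
      rw [hx, ← pow_mul, hy, mul_pow, ← pow_mul, he.neg_pow]
      have e1 : 2 * (N' * 2 ^ a') = N := by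
        rw [hN', ha', pow_succ]; ring
      rw [e1, hcN c hc, one_mul, mul_comm, pow_mul, hμhalf, hodd.neg_one_pow]
    have hxord : orderOf x = 2 ^ (a' + 1) := by
      apply orderOf_eq_prime_pow
      · rw [hx1]; exact hne
      · rw [pow_succ, pow_mul, hx1]; norm_num
    have hdvd : 2 ^ (a' + 1) ∣ m := by
      rw [← hxord]; exact orderOf_dvd_of_pow_eq_one hxm
    have := (padicValNat_dvd_iff_le (by omega)).1 hdvd
    omega
  · intro h
    refine ⟨1, one_ne_zero, ?_⟩
    rw [one_pow, one_mul]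
    rcases h with h | h
    · have ha_eq : a = 1 := by
        have : ¬ 2 ^ 2 ∣ N := by
          norm_num
          omega
        rw [padicValNat_dvd_iff_le hNpos.ne'] at this
        omega
      have hμ' : orderOf μ = 2 ^ (0 + 1) := by rw [hμ, ha_eq]
      have := pow_half_eq_neg_one μ 0 hμ'
      simp at this
      rw [this]; simp
    · have hle : a ≤ padicValNat 2 m := by omega
      have hdvd : 2 ^ a ∣ m := (padicValNat_dvd_iff_le (by omega)).2 hle
      have hev : Even m := by
        rw [even_iff_two_dvd]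
        exact (dvd_pow_self 2 (by omega)).trans hdvd
      rw [hev.neg_pow]
      rw [← hμ] at hdvd
      exact orderOf_dvd_iff_pow_eq_one.1 hdvd

end Cfsg.Agent.S2576
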