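import Mathlib
import Cfsg.Statements.S2578

set_option autoImplicit false
open Cfsg

namespace Cfsg.Agent.S2578

open Module

section linalg
variable {F : Type*} [Field F] {V : Type*} [AddCommGroup V] [Module F V] [FiniteDimensional F V]

theorem finrank_ker_comp_le (f g : V →ₗ[F] V) :
    finrank F (LinearMap.ker (g ∘ₗ f)) ≤ finrank F (LinearMap.ker f) + finrank F (LinearMap.ker g) := by
  let h : LinearMap.ker (g ∘ₗ f) →ₗ[F] LinearMap.ker g :=
    LinearMap.codRestrict (LinearMap.ker g) (f ∘ₗ (LinearMap.ker (g ∘ₗ f)).subtype)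
      (fun v => by
        have := v.2
        rw [LinearMap.mem_ker] at this ⊢
        exact this)
  have h1 := LinearMap.finrank_range_add_finrank_ker h
  have h2 : finrank F (LinearMap.range h) ≤ finrank F (LinearMap.ker g) := Submodule.finrank_le _
  have h3 : finrank F (LinearMap.ker h) ≤ finrank F (LinearMap.ker f) := by
    let j : LinearMap.ker h →ₗ[F] LinearMap.ker f :=
      LinearMap.codRestrict (LinearMap.ker f)
        ((LinearMap.ker (g ∘ₗ f)).subtype ∘ₗ (LinearMap.ker h).subtype)
        (fun v => by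
          have := v.2
          rw [LinearMap.mem_ker] at this ⊢
          exact congrArg Subtype.val this)
    apply LinearMap.finrank_le_finrank_of_injective (f := j)
    intro a b hab
    have : (a : LinearMap.ker (g ∘ₗ f)).1 = (b : LinearMap.ker (g ∘ₗ f)).1 :=
      congrArg (fun z : LinearMap.ker f => (z : V)) hab
    exact Subtype.ext (Subtype.ext this)
  omega

theorem finrank_ker_pow_le (f : V →ₗ[F] V) (hf : finrank F (LinearMap.ker f) ≤ 1) (k : ℕ) :
    finrank F (LinearMap.ker (f ^ k)) ≤ k := by
  induction k with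
  | zero =>
    rw [pow_zero]
    have : LinearMap.ker (1 : V →ₗ[F] V) = ⊥ := LinearMap.ker_id
    rw [this, finrank_bot]
  | succ k ih =>
    rw [pow_succ]
    have := finrank_ker_comp_le f (f ^ k)
    have h2 : f ^ k * f = (f ^ k) ∘ₗ f := rfl
    rw [h2]
    omega

end linalg

section shift
variable {F : Type*} [Field F] {n : ℕ}

/-- the lower shift matrix: `e_j ↦ e_{j+1}` -/
def shiftM (n : ℕ) (F : Type*) [Field F] : Matrix (Fin n) (Fin n) F :=
  Matrix.of fun i j => if (j : ℕ) + 1 = (i : ℕ) then 1 else 0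

theorem exists_cyclic (hn : 1 ≤ n) (N : Matrix (Fin n) (Fin n) F) (hr : N.rank = n - 1) :
    ∃ v : Fin n → F, (N ^ (n - 1)).mulVec v ≠ 0 := by
  by_contra hcon
  push Not at hcon
  have h0 : Matrix.toLin' (N ^ (n - 1)) = 0 := by
    apply LinearMap.ext
    intro v
    rw [Matrix.toLin'_apply, hcon v]; rfl
  have hk : finrank F (LinearMap.ker (Matrix.toLin' N)) ≤ 1 := by
    have h1 := LinearMap.finrank_range_add_finrank_ker (Matrix.toLin' N)
    have h2 : finrank F (LinearMap.range (Matrix.toLin' N)) = n - 1 := hr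
    rw [h2, Module.finrank_fin_fun] at h1
    omega
  have h3 := finrank_ker_pow_le (Matrix.toLin' N) hk (n - 1)
  rw [← Matrix.toLin'_pow, h0, LinearMap.ker_zero, finrank_top, Module.finrank_fin_fun] at h3
  omega

theorem exists_conj_shift (hn : 1 ≤ n) (N : Matrix (Fin n) (Fin n) F) (hr : N.rank = n - 1)
    (hN : N ^ n = 0) :
    ∃ P : Matrix (Fin n) (Fin n) F, P.det ≠ 0 ∧ N * P = P * shiftM n F := by
  classical
  obtain ⟨v, hv⟩ := exists_cyclic hn N hr
  let Pm : ℕ → Matrix (Fin n) (Fin n) F := fun m =>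
    Matrix.of fun i (j : Fin n) => ((N ^ (m + (j : ℕ))).mulVec v) i
  have hPm : ∀ m, N ^ m * Pm 0 = Pm m := by
    intro m
    ext i j
    simp only [Pm, Matrix.mul_apply, Matrix.of_apply, zero_add]
    rw [pow_add, ← Matrix.mulVec_mulVec]
    rfl
  have hbig : ∀ m, n ≤ m → N ^ m = 0 := by
    intro m hm
    obtain ⟨k, rfl⟩ := Nat.exists_eq_add_of_le hm
    rw [pow_add, hN, zero_mul]
  refine ⟨Pm 0, ?_, ?_⟩
  · -- invertibility via injectivity
    have hinj : ∀ c : Fin n → F, (Pm 0).mulVec c = 0 → c = 0 := by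
      intro c hc
      have key : ∀ k, k ≤ n → ∀ j : Fin n, (j : ℕ) < k → c j = 0 := by
        intro k
        induction k with
        | zero => intro _ j hj; exact absurd hj (Nat.not_lt_zero _)
        | succ k ih =>
          intro hk j hj
          have ih' := ih (by omega)
          by_cases hjk : (j : ℕ) < k
          · exact ih' j hjk
          have hjk' : (j : ℕ) = k := by omega
          have h1 : (Pm (n - 1 - k)).mulVec c = 0 := by
            rw [← hPm, ← Matrix.mulVec_mulVec, hc, Matrix.mulVec_zero]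
          obtain ⟨i, hi⟩ : ∃ i, ((N ^ (n - 1)).mulVec v) i ≠ 0 := by
            by_contra hcon
            push Not at hcon
            exact hv (funext hcon)
          have h2 := congrFun h1 i
          simp only [Matrix.mulVec, dotProduct, Pi.zero_apply] at h2
          rw [Finset.sum_eq_single j] at h2
          · simp only [Pm, Matrix.of_apply] at h2
            have h3 : n - 1 - k + (j : ℕ) = n - 1 := by omega
            rw [h3] at h2
            rcases mul_eq_zero.1 h2 with h | h
            · exact absurd h hi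
            · exact h
          · intro j' _ hj'
            by_cases hlt : (j' : ℕ) < k
            · rw [ih' j' hlt, mul_zero]
            · have hgt : k < (j' : ℕ) := by
                rcases Nat.lt_or_ge k j' with h | h
                · exact h
                · exfalso; apply hj'; apply Fin.ext; omega
              simp only [Pm, Matrix.of_apply]
              rw [hbig _ (by omega), Matrix.zero_mulVec, Pi.zero_apply, zero_mul]
          · intro h; exact absurd (Finset.mem_univ _) h
      funext j
      exact key n le_rfl j j.2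
    have : Function.Injective (Pm 0).mulVec := by
      intro a b hab
      have := hinj (a - b) (by rw [Matrix.mulVec_sub, hab, sub_self])
      exact sub_eq_zero.1 this
    rw [Matrix.mulVec_injective_iff_isUnit, Matrix.isUnit_iff_isUnit_det] at this
    exact this.ne_zero
  · have h1 : N * Pm 0 = Pm 1 := by
      have := hPm 1
      rwa [pow_one] at this
    rw [h1]
    ext i j
    simp only [Pm, Matrix.mul_apply, Matrix.of_apply, shiftM, zero_add]
    by_cases hj : (j : ℕ) + 1 < n
    · rw [Finset.sum_eq_single ⟨(j : ℕ) + 1, hj⟩]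
      · simp [add_comm]
      · intro k _ hk
        rw [if_neg, mul_zero]
        intro h
        apply hk
        apply Fin.ext
        exact h.symm
      · intro h; exact absurd (Finset.mem_univ _) h
    · rw [Finset.sum_eq_zero]
      · rw [hbig _ (by omega), Matrix.zero_mulVec, Pi.zero_apply]
      · intro k _
        rw [if_neg, mul_zero]
        intro h
        apply hj
        rw [h]; exact k.2

theorem mul_shiftM_apply (Z : Matrix (Fin n) (Fin n) F) (a b' b : Fin n) (hb : (b' : ℕ) + 1 = b) :
    (Z * shiftM n F) a b' = Z a b := by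
  classical
  rw [Matrix.mul_apply, Finset.sum_eq_single b]
  · simp [shiftM, hb]
  · intro k _ hk
    simp only [shiftM, Matrix.of_apply]
    rw [if_neg, mul_zero]
    intro h
    apply hk
    apply Fin.ext
    omega
  · intro h; exact absurd (Finset.mem_univ _) h

theorem shiftM_mul_apply_succ (Z : Matrix (Fin n) (Fin n) F) (a' a b : Fin n)
    (ha : (a' : ℕ) + 1 = a) : (shiftM n F * Z) a b = Z a' b := by
  classical
  rw [Matrix.mul_apply, Finset.sum_eq_single a']
  · simp [shiftM, ha]
  · intro k _ hk
    simp only [shiftM, Matrix.of_apply]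
    rw [if_neg, zero_mul]
    intro h
    apply hk
    apply Fin.ext
    omega
  · intro h; exact absurd (Finset.mem_univ _) h

theorem shiftM_mul_apply_zero (Z : Matrix (Fin n) (Fin n) F) (a b : Fin n)
    (ha : (a : ℕ) = 0) : (shiftM n F * Z) a b = 0 := by
  rw [Matrix.mul_apply]
  apply Finset.sum_eq_zero
  intro k _
  simp only [shiftM, Matrix.of_apply]
  rw [if_neg, zero_mul]
  omega

/-- a matrix commuting with the shift is lower triangular with constant diagonal -/
theorem det_of_commute_shift (hn : 1 ≤ n) (Z : Matrix (Fin n) (Fin n) F)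
    (hZ : Z * shiftM n F = shiftM n F * Z) : ∃ a : F, Z.det = a ^ n := by
  have hupper : ∀ k : ℕ, ∀ a b : Fin n, (a : ℕ) = k → a < b → Z a b = 0 := by
    intro k
    induction k with
    | zero =>
      intro a b ha hab
      have hb : 1 ≤ (b : ℕ) := by
        have : (a : ℕ) < b := hab
        omega
      let b' : Fin n := ⟨b - 1, by omega⟩
      have hb' : (b' : ℕ) + 1 = b := by simp [b']; omega
      rw [← mul_shiftM_apply Z a b' b hb', hZ, shiftM_mul_apply_zero Z a b' ha]
    | succ k ih =>
      intro a b ha hab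
      have hab' : (a : ℕ) < b := hab
      let b' : Fin n := ⟨b - 1, by omega⟩
      have hb' : (b' : ℕ) + 1 = b := by simp [b']; omega
      let a' : Fin n := ⟨k, by omega⟩
      have ha' : (a' : ℕ) + 1 = a := by simp [a']; omega
      rw [← mul_shiftM_apply Z a b' b hb', hZ, shiftM_mul_apply_succ Z a' a b' ha']
      apply ih a' b' rfl
      show (a' : ℕ) < b'
      simp [a', b']; omega
  have hdiag : ∀ k : ℕ, ∀ a : Fin n, (a : ℕ) = k → Z a a = Z ⟨0, hn⟩ ⟨0, hn⟩ := by
    intro k
    induction k with
    | zero =>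
      intro a ha
      have : a = ⟨0, hn⟩ := Fin.ext ha
      rw [this]
    | succ k ih =>
      intro a ha
      let a' : Fin n := ⟨k, by omega⟩
      have ha' : (a' : ℕ) + 1 = a := by simp [a']; omega
      rw [← mul_shiftM_apply Z a a' a ha', hZ, shiftM_mul_apply_succ Z a' a a' ha']
      exact ih a' rfl
  refine ⟨Z ⟨0, hn⟩ ⟨0, hn⟩, ?_⟩
  rw [Matrix.det_of_isLowerTriangular Z (fun a b hab => hupper _ a b rfl hab)]
  rw [Finset.prod_congr rfl (fun a _ => hdiag _ a rfl), Finset.prod_const, Finset.card_univ,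
    Fintype.card_fin]

theorem shiftM_pow_apply (k : ℕ) (i j : Fin n) :
    (shiftM n F ^ k) i j = if (j : ℕ) + k = (i : ℕ) then 1 else 0 := by
  classical
  induction k generalizing i j with
  | zero =>
    rw [pow_zero, Matrix.one_apply]
    simp only [add_zero]
    by_cases h : i = j
    · simp [h]
    · rw [if_neg h, if_neg]
      intro h'
      exact h (Fin.ext h'.symm)
  | succ k ih =>
    rw [pow_succ]
    by_cases hj : (j : ℕ) + 1 < n
    · rw [mul_shiftM_apply _ i j ⟨j + 1, hj⟩ rfl, ih]
      simp only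
      congr 1
      apply propext
      constructor <;> intro h <;> omega
    · rw [Matrix.mul_apply, Finset.sum_eq_zero, if_neg]
      · have := i.2
        omega
      · intro l _
        simp only [shiftM, Matrix.of_apply]
        rw [if_neg, mul_zero]
        have := l.2
        omega

theorem shiftM_pow_eq_zero : shiftM n F ^ n = 0 := by
  ext i j
  rw [shiftM_pow_apply, if_neg, Matrix.zero_apply]
  have := i.2
  omega

theorem shiftM_rank (hn : 1 ≤ n) : (shiftM n F).rank = n - 1 := by
  classical
  obtain ⟨m, rfl⟩ : ∃ m, n = m + 1 := ⟨n - 1, by omega⟩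
  let D : Matrix (Fin (m + 1)) (Fin (m + 1)) F :=
    Matrix.diagonal fun j : Fin (m + 1) => if (j : ℕ) + 1 < m + 1 then (1 : F) else 0
  let C : Matrix (Fin (m + 1)) (Fin (m + 1)) F := (finRotate (m + 1)).symm.toPEquiv.toMatrix
  have hC : IsUnit C.det := by
    rw [Matrix.det_permutation]
    rcases Int.units_eq_one_or (Equiv.Perm.sign (finRotate (m + 1)).symm) with h | h <;> simp [h]
  have hCD : shiftM (m + 1) F = C * D := by
    ext i j
    simp only [C, D, Matrix.mul_diagonal, PEquiv.toMatrix_apply, Equiv.toPEquiv_apply, shiftM,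
      Matrix.of_apply, Option.mem_def, Option.some.injEq]
    by_cases hj : (j : ℕ) + 1 < m + 1
    · rw [if_pos hj, mul_one]
      have hjne : j ≠ Fin.last m := by
        intro h
        rw [h] at hj
        simp at hj
      have hrot : ((finRotate (m + 1) j : Fin (m + 1)) : ℕ) = j + 1 :=
        coe_finRotate_of_ne_last hjne
      have hiff : ((finRotate (m + 1)).symm i = j) ↔ ((j : ℕ) + 1 = i) := by
        rw [Equiv.symm_apply_eq]
        constructor
        · intro h; rw [h, hrot]
        · intro h; apply Fin.ext; rw [hrot, h]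
      simp only [hiff]
    · rw [if_neg hj, mul_zero, if_neg]
      have := i.2
      omega
  rw [hCD, Matrix.rank_mul_eq_right_of_isUnit_det _ _ hC, Matrix.rank_diagonal]
  have e : {j : Fin (m + 1) // (if (j : ℕ) + 1 < m + 1 then (1 : F) else 0) ≠ 0} ≃
      {j : Fin (m + 1) // ¬ (j = Fin.last m)} := by
    apply Equiv.subtypeEquivRight
    intro j
    by_cases hj : (j : ℕ) + 1 < m + 1
    · simp only [hj, if_true, ne_eq, one_ne_zero, not_false_eq_true, true_iff]
      intro h
      rw [h] at hj
      simp at hj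
    · simp only [hj, if_false, ne_eq, not_true_eq_false, false_iff, not_not]
      apply Fin.ext
      simp only [Fin.val_last]
      have := j.2
      omega
  rw [Fintype.card_congr e, Fintype.card_subtype_compl, Fintype.card_subtype_eq, Fintype.card_fin]


end shift


section classes
variable {F : Type*} [Field F] {n : ℕ}

theorem det_one_add_shift : (1 + shiftM n F).det = 1 := by
  rw [Matrix.det_of_isLowerTriangular]
  · apply Finset.prod_eq_one
    intro i _
    simp [shiftM]
  · intro i j hij
    have : (i : ℕ) < j := hij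
    simp only [Matrix.add_apply, shiftM, Matrix.of_apply]
    have hne : i ≠ j := by
      intro h
      rw [h] at this
      exact lt_irrefl _ this
    rw [Matrix.one_apply_ne hne, if_neg, add_zero]
    omega

/-- the standard regular unipotent element -/
def stdJ (n : ℕ) (F : Type*) [Field F] : Matrix.SpecialLinearGroup (Fin n) F :=
  ⟨1 + shiftM n F, det_one_add_shift⟩

/-- regular unipotent -/
def Reg (u : Matrix.SpecialLinearGroup (Fin n) F) : Prop :=
  ((u : Matrix (Fin n) (Fin n) F) - 1) ^ n = 0 ∧ ((u : Matrix (Fin n) (Fin n) F) - 1).rank = n - 1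

abbrev toGL' (u : Matrix.SpecialLinearGroup (Fin n) F) : GL (Fin n) F :=
  Matrix.SpecialLinearGroup.toGL u

theorem reg_exists_conj (hn : 1 ≤ n) (u : Matrix.SpecialLinearGroup (Fin n) F) (hu : Reg u) :
    ∃ P : GL (Fin n) F, toGL' u * P = P * toGL' (stdJ n F) := by
  obtain ⟨P, hP, hNP⟩ := exists_conj_shift hn _ hu.2 hu.1
  refine ⟨Matrix.GeneralLinearGroup.mkOfDetNeZero P hP, ?_⟩
  apply Units.ext
  show (u : Matrix (Fin n) (Fin n) F) * P = P * (1 + shiftM n F)
  rw [Matrix.mul_add, Matrix.mul_one, ← hNP, Matrix.sub_mul, Matrix.one_mul]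
  abel

theorem reg_of_conj (hn : 1 ≤ n) (u : Matrix.SpecialLinearGroup (Fin n) F) (P : GL (Fin n) F)
    (h : toGL' u * P = P * toGL' (stdJ n F)) : Reg u := by
  have h1 : toGL' u = P * toGL' (stdJ n F) * P⁻¹ := by rw [← h, mul_inv_cancel_right]
  have h2 : (u : Matrix (Fin n) (Fin n) F) = P.1 * (1 + shiftM n F) * (P⁻¹).1 :=
    congrArg Units.val h1
  have h3 : (u : Matrix (Fin n) (Fin n) F) - 1 = P.1 * shiftM n F * (P⁻¹).1 := by
    rw [h2, Matrix.mul_add, Matrix.add_mul, Matrix.mul_one, Units.mul_inv, add_sub_cancel_left]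
  have hPdet : IsUnit (P.1 : Matrix (Fin n) (Fin n) F).det := (Matrix.isUnit_iff_isUnit_det _).1 P.isUnit
  have hPdet' : IsUnit ((P⁻¹).1 : Matrix (Fin n) (Fin n) F).det :=
    (Matrix.isUnit_iff_isUnit_det _).1 (P⁻¹).isUnit
  constructor
  · rw [h3, Units.conj_pow, shiftM_pow_eq_zero, Matrix.mul_zero, Matrix.zero_mul]
  · rw [h3, Matrix.rank_mul_eq_left_of_isUnit_det _ _ hPdet',
      Matrix.rank_mul_eq_right_of_isUnit_det _ _ hPdet, shiftM_rank hn]

theorem det_of_commute_J (hn : 1 ≤ n) (Z : GL (Fin n) F)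
    (h : Z * toGL' (stdJ n F) = toGL' (stdJ n F) * Z) :
    ∃ a : Fˣ, Matrix.GeneralLinearGroup.det Z = a ^ n := by
  have h1 : Z.1 * (1 + shiftM n F) = (1 + shiftM n F) * Z.1 := congrArg Units.val h
  have h2 : Z.1 * shiftM n F = shiftM n F * Z.1 := by
    rw [Matrix.mul_add, Matrix.add_mul, Matrix.mul_one, Matrix.one_mul] at h1
    exact add_left_cancel h1
  obtain ⟨a, ha⟩ := det_of_commute_shift hn Z.1 h2
  have hdet : (Z.1 : Matrix (Fin n) (Fin n) F).det ≠ 0 :=
    ((Matrix.isUnit_iff_isUnit_det _).1 Z.isUnit).ne_zero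
  have ha0 : a ≠ 0 := by
    intro h0
    rw [ha, h0, zero_pow (by omega)] at hdet
    exact hdet rfl
  refine ⟨Units.mk0 a ha0, ?_⟩
  apply Units.ext
  rw [Units.val_pow_eq_pow_val]
  exact ha


theorem det_scalar (a : Fˣ) :
    Matrix.GeneralLinearGroup.det (Matrix.GeneralLinearGroup.scalar (Fin n) a) = a ^ n := by
  apply Units.ext
  rw [Units.val_pow_eq_pow_val]
  show (Matrix.scalar (Fin n) (a : F)).det = _
  rw [Matrix.scalar_apply, Matrix.det_diagonal, Finset.prod_const, Finset.card_univ, Fintype.card_fin]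

theorem det_toGL' (c : Matrix.SpecialLinearGroup (Fin n) F) :
    Matrix.GeneralLinearGroup.det (toGL' c) = 1 := by
  apply Units.ext
  exact c.2

end classes

theorem result {F : Type*} [Field F] [Fintype F] {q : ℕ} (hF : Fintype.card F = q) {n : ℕ} (hn : 2 ≤ n) : Nat.card {C : ConjClasses (Matrix.SpecialLinearGroup (Fin n) F) // ∃ u : Matrix.SpecialLinearGroup (Fin n) F, ConjClasses.mk u = C ∧ ((u : Matrix (Fin n) (Fin n) F) - 1) ^ n = 0 ∧ ((u : Matrix (Fin n) (Fin n) F) - 1).rank = n - 1} = Nat.gcd n (q - 1) := by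
  classical
  have hn1 : 1 ≤ n := by omega
  let H : Subgroup Fˣ := (powMonoidHom n : Fˣ →* Fˣ).range
  have hch : ∀ C : {C : ConjClasses (Matrix.SpecialLinearGroup (Fin n) F) // ∃ u : Matrix.SpecialLinearGroup (Fin n) F, ConjClasses.mk u = C ∧ ((u : Matrix (Fin n) (Fin n) F) - 1) ^ n = 0 ∧ ((u : Matrix (Fin n) (Fin n) F) - 1).rank = n - 1},
      ∃ (u : Matrix.SpecialLinearGroup (Fin n) F) (P : GL (Fin n) F),
        ConjClasses.mk u = C.1 ∧ toGL' u * P = P * toGL' (stdJ n F) := by
    rintro ⟨C, u, hu, h1, h2⟩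
    obtain ⟨P, hP⟩ := reg_exists_conj hn1 u ⟨h1, h2⟩
    exact ⟨u, P, hu, hP⟩
  choose U P hU hP using hch
  let Ψ : {C : ConjClasses (Matrix.SpecialLinearGroup (Fin n) F) // ∃ u : Matrix.SpecialLinearGroup (Fin n) F, ConjClasses.mk u = C ∧ ((u : Matrix (Fin n) (Fin n) F) - 1) ^ n = 0 ∧ ((u : Matrix (Fin n) (Fin n) F) - 1).rank = n - 1} → Fˣ ⧸ H :=
    fun C => QuotientGroup.mk (Matrix.GeneralLinearGroup.det (P C))
  have hJof : ∀ C, (P C)⁻¹ * toGL' (U C) * P C = toGL' (stdJ n F) := by
    intro C
    rw [mul_assoc, hP C, inv_mul_cancel_left]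
  have hUof : ∀ C, toGL' (U C) = P C * toGL' (stdJ n F) * (P C)⁻¹ := by
    intro C
    rw [← hP C, mul_inv_cancel_right]
  have hΨ : Function.Bijective Ψ := by
    constructor
    · intro C C' hCC
      have h1 : (Matrix.GeneralLinearGroup.det (P C))⁻¹ * Matrix.GeneralLinearGroup.det (P C') ∈ H :=
        QuotientGroup.eq.1 hCC
      obtain ⟨a, ha⟩ := h1
      rw [powMonoidHom_apply] at ha
      let z : GL (Fin n) F := Matrix.GeneralLinearGroup.scalar (Fin n) a⁻¹
      let s : GL (Fin n) F := P C' * z * (P C)⁻¹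
      have hsdet : Matrix.GeneralLinearGroup.det s = 1 := by
        simp only [s, z, map_mul, map_inv, det_scalar, inv_pow, ha]
        rw [mul_inv_rev, inv_inv]
        group
      have hconj : s * toGL' (U C) * s⁻¹ = toGL' (U C') := by
        calc s * toGL' (U C) * s⁻¹
            = P C' * z * ((P C)⁻¹ * toGL' (U C) * P C) * z⁻¹ * (P C')⁻¹ := by
              simp only [s]; group
          _ = P C' * (z * toGL' (stdJ n F)) * z⁻¹ * (P C')⁻¹ := by rw [hJof]; group
          _ = P C' * (toGL' (stdJ n F) * z) * z⁻¹ * (P C')⁻¹ := by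
              rw [Matrix.GeneralLinearGroup.scalar_commute]
          _ = P C' * toGL' (stdJ n F) * (P C')⁻¹ := by group
          _ = toGL' (U C') := (hUof C').symm
      let s' : Matrix.SpecialLinearGroup (Fin n) F := ⟨s.1, congrArg Units.val hsdet⟩
      have hs' : toGL' s' = s := Units.ext rfl
      have hconj' : IsConj (U C) (U C') := by
        rw [isConj_iff]
        refine ⟨s', ?_⟩
        apply Matrix.SpecialLinearGroup.toGL_injective
        rw [map_mul, map_mul, map_inv]
        show toGL' s' * toGL' (U C) * (toGL' s')⁻¹ = toGL' (U C')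
        rw [hs', hconj]
      apply Subtype.ext
      rw [← hU C, ← hU C', ConjClasses.mk_eq_mk_iff_isConj]
      exact hconj'
    · intro x
      obtain ⟨d, rfl⟩ := QuotientGroup.mk_surjective x
      let i0 : Fin n := ⟨0, hn1⟩
      have hDdet : (Matrix.diagonal fun i : Fin n => if i = i0 then (d : F) else 1).det = d := by
        rw [Matrix.det_diagonal, Finset.prod_ite_eq']
        simp
      let Dd : GL (Fin n) F := Matrix.GeneralLinearGroup.mkOfDetNeZero
        (Matrix.diagonal fun i : Fin n => if i = i0 then (d : F) else 1)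
        (by rw [hDdet]; exact d.ne_zero)
      have hDd : Matrix.GeneralLinearGroup.det Dd = d := Units.ext hDdet
      let gd : GL (Fin n) F := Dd * toGL' (stdJ n F) * Dd⁻¹
      have hgdet : Matrix.GeneralLinearGroup.det gd = 1 := by
        simp only [gd, map_mul, map_inv, det_toGL', mul_one, mul_inv_cancel]
      let ud : Matrix.SpecialLinearGroup (Fin n) F := ⟨gd.1, congrArg Units.val hgdet⟩
      have hud : toGL' ud = gd := Units.ext rfl
      have hreg : Reg ud := reg_of_conj hn1 ud Dd (by
        rw [hud]; simp only [gd]; group)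
      refine ⟨⟨ConjClasses.mk ud, ud, rfl, hreg.1, hreg.2⟩, ?_⟩
      set C : {C : ConjClasses (Matrix.SpecialLinearGroup (Fin n) F) // ∃ u : Matrix.SpecialLinearGroup (Fin n) F, ConjClasses.mk u = C ∧ ((u : Matrix (Fin n) (Fin n) F) - 1) ^ n = 0 ∧ ((u : Matrix (Fin n) (Fin n) F) - 1).rank = n - 1} :=
        ⟨ConjClasses.mk ud, ud, rfl, hreg.1, hreg.2⟩ with hC
      have h1 : IsConj (U C) ud := by
        rw [← ConjClasses.mk_eq_mk_iff_isConj]
        exact hU C
      rw [isConj_iff] at h1
      obtain ⟨c, hc⟩ := h1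
      have hc' : toGL' c * toGL' (U C) * (toGL' c)⁻¹ = gd := by
        rw [← hud, ← hc]
        show _ = Matrix.SpecialLinearGroup.toGL (c * U C * c⁻¹)
        rw [map_mul, map_mul, map_inv]
      let Z : GL (Fin n) F := Dd⁻¹ * toGL' c * P C
      have hZ : Z * toGL' (stdJ n F) = toGL' (stdJ n F) * Z := by
        have h2 : Z * toGL' (stdJ n F) * Z⁻¹ = toGL' (stdJ n F) := by
          calc Z * toGL' (stdJ n F) * Z⁻¹
              = Dd⁻¹ * (toGL' c * (P C * toGL' (stdJ n F) * (P C)⁻¹) * (toGL' c)⁻¹) * Dd := by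
                simp only [Z]; group
            _ = Dd⁻¹ * gd * Dd := by rw [← hUof, hc']
            _ = toGL' (stdJ n F) := by simp only [gd]; group
        calc Z * toGL' (stdJ n F) = Z * toGL' (stdJ n F) * Z⁻¹ * Z := by group
          _ = toGL' (stdJ n F) * Z := by rw [h2]
      obtain ⟨a, ha⟩ := det_of_commute_J hn1 Z hZ
      simp only [Z, map_mul, map_inv, det_toGL', mul_one, hDd] at ha
      show (QuotientGroup.mk (Matrix.GeneralLinearGroup.det (P C)) : Fˣ ⧸ H) = QuotientGroup.mk d
      rw [QuotientGroup.eq]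
      refine ⟨a⁻¹, ?_⟩
      rw [powMonoidHom_apply, inv_pow, ← ha, mul_inv_rev, inv_inv]
  rw [Nat.card_congr (Equiv.ofBijective Ψ hΨ)]
  show H.index = _
  rw [IsCyclic.index_powMonoidHom_range, Nat.card_eq_fintype_card, Fintype.card_units, hF,
    Nat.gcd_comm]

end Cfsg.Agent.S2578
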