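import Mathlib
import Cfsg.Statements.S2579

set_option autoImplicit false
open Cfsg

namespace Cfsg.Agent.S2579

variable {F : Type*} [Field F]

theorem conj_std {m : ℕ} (N : Matrix (Fin (m+3)) (Fin (m+3)) F) (hr : N.rank = 1)
    (hN : N * N = 0) :
    ∃ P : Matrix (Fin (m+3)) (Fin (m+3)) F, P.det = 1 ∧ N * P = P * Matrix.single 1 0 1 := by
  classical
  set f : (Fin (m+3) → F) →ₗ[F] (Fin (m+3) → F) := N.mulVecLin with hf
  have hrange : Module.finrank F (LinearMap.range f) = 1 := hr
  have hker : Module.finrank F (LinearMap.ker f) = m + 2 := by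
    have := LinearMap.finrank_range_add_finrank_ker f
    rw [hrange, Module.finrank_fin_fun] at this
    omega
  have hne : f ≠ 0 := by
    intro h0
    rw [h0, LinearMap.range_zero, finrank_bot] at hrange; omega
  obtain ⟨w, hw⟩ : ∃ w, f w ≠ 0 := by
    by_contra hcon; push Not at hcon; exact hne (LinearMap.ext hcon)
  have hfa : f (f w) = 0 := by
    simp [hf, Matrix.mulVec_mulVec, hN]
  -- the range is spanned by a
  have hspan : ∀ z, ∃ c : F, f z = c • f w := by
    intro z
    have h1 := (finrank_eq_one_iff_of_nonzero' (⟨f w, LinearMap.mem_range_self f w⟩ : LinearMap.range f)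
      (by intro h; exact hw (congrArg Subtype.val h))).1 hrange ⟨f z, LinearMap.mem_range_self f z⟩
    obtain ⟨c, hc⟩ := h1
    exact ⟨c, (congrArg Subtype.val hc).symm⟩
  set K := LinearMap.ker f with hK
  set a' : K := ⟨f w, hfa⟩ with ha'
  have ha'0 : a' ≠ 0 := by intro h; exact hw (congrArg Subtype.val h)
  obtain ⟨K', hK'⟩ := Submodule.exists_isCompl (Submodule.span F {a'} : Submodule F K)
  have hK'rank : Module.finrank F K' = m + 1 := by
    have h1 := Submodule.finrank_add_eq_of_isCompl hK'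
    rw [finrank_span_singleton ha'0, hker] at h1
    omega
  have : Module.Free F K' := Module.Free.of_divisionRing F K'
  let bK' : Module.Basis (Fin (m+1)) F K' := Module.finBasisOfFinrankEq F K' hK'rank
  have hli1 : ∀ (c : F), ∀ x ∈ K', c • a' + x = 0 → c = 0 := by
    intro c x hx hcx
    have h1 : c • a' ∈ Submodule.span F {a'} ⊓ K' := by
      refine ⟨Submodule.smul_mem _ _ (Submodule.mem_span_singleton_self _), ?_⟩
      have : c • a' = -x := eq_neg_of_add_eq_zero_left hcx
      rw [this]; exact K'.neg_mem hx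
    rw [hK'.inf_eq_bot, Submodule.mem_bot] at h1
    rcases smul_eq_zero.1 h1 with h | h
    · exact h
    · exact absurd h ha'0
  have hsp1 : ∀ z : K, ∃ c : F, z + c • a' ∈ K' := by
    intro z
    have hz : z ∈ Submodule.span F {a'} ⊔ K' := by rw [hK'.sup_eq_top]; trivial
    obtain ⟨s, hs, k, hk, hsk⟩ := Submodule.mem_sup.1 hz
    obtain ⟨d, rfl⟩ := Submodule.mem_span_singleton.1 hs
    refine ⟨-d, ?_⟩
    rw [← hsk]
    have : d • a' + k + -d • a' = k := by module
    rw [this]; exact hk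
  let bK : Module.Basis (Fin (m+2)) F K := Module.Basis.mkFinCons a' bK' hli1 hsp1
  have hli2 : ∀ (c : F), ∀ x ∈ K, c • w + x = 0 → c = 0 := by
    intro c x hx hcx
    have h1 := congrArg f hcx
    rw [map_add, map_smul, map_zero, LinearMap.mem_ker.1 hx, add_zero] at h1
    rcases smul_eq_zero.1 h1 with h | h
    · exact h
    · exact absurd h hw
  have hsp2 : ∀ z : Fin (m+3) → F, ∃ c : F, z + c • w ∈ K := by
    intro z
    obtain ⟨c, hc⟩ := hspan z
    refine ⟨-c, ?_⟩
    rw [hK, LinearMap.mem_ker, map_add, map_smul, hc, neg_smul, add_neg_cancel]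
  let bV : Module.Basis (Fin (m+3)) F (Fin (m+3) → F) := Module.Basis.mkFinCons w bK hli2 hsp2
  have hbV0 : bV 0 = w := by
    simp [bV]
  have hbV1 : bV 1 = f w := by
    have : (1 : Fin (m+3)) = Fin.succ 0 := rfl
    rw [this]
    simp [bV, bK, ha']
  have hbVs : ∀ j : Fin (m+2), f (bV j.succ) = 0 := by
    intro j
    have : bV j.succ = (bK j : Fin (m+3) → F) := by simp [bV]
    rw [this]
    exact (bK j).2
  -- the matrix
  let P : Matrix (Fin (m+3)) (Fin (m+3)) F := (Pi.basisFun F (Fin (m+3))).toMatrix bV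
  have hPij : ∀ i j, P i j = bV j i := by
    intro i j
    simp [P, Module.Basis.toMatrix_apply]
  have hdetP : IsUnit P.det := by
    have := (Pi.basisFun F (Fin (m+3))).isUnit_det bV
    rw [Module.Basis.det_apply] at this
    exact this
  have hNP : N * P = P * Matrix.single 1 0 1 := by
    ext i j
    have h1 : (N * P) i j = f (bV j) i := by
      simp [hf, Matrix.mul_apply, Matrix.mulVec, dotProduct, hPij]
    rw [h1]
    refine Fin.cases ?_ (fun j' => ?_) j
    · rw [Matrix.mul_single_apply_same, hbV0, hPij, hbV1, mul_one]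
    · rw [hbVs j', Matrix.mul_single_apply_of_ne (hbj := Fin.succ_ne_zero j')]
      rfl
  -- fix the determinant
  set D : Matrix (Fin (m+3)) (Fin (m+3)) F :=
    Matrix.diagonal (fun i => if i = 2 then (P.det)⁻¹ else 1) with hD
  have hdetD : D.det = (P.det)⁻¹ := by
    rw [hD, Matrix.det_diagonal, Finset.prod_ite_eq' Finset.univ (2 : Fin (m+3))]
    simp
  have hcomm : Matrix.single (1 : Fin (m+3)) 0 (1 : F) * D = D * Matrix.single 1 0 1 := by
    have h20 : (0 : Fin (m+3)) ≠ 2 := by
      intro h; have := congrArg Fin.val h; rw [Fin.val_two] at this; simp at this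
    have h21 : (1 : Fin (m+3)) ≠ 2 := by
      intro h; have := congrArg Fin.val h; rw [Fin.val_two] at this; simp at this
    ext i j
    rw [hD, Matrix.mul_diagonal, Matrix.diagonal_mul]
    simp only [Matrix.single_apply]
    by_cases h : (1 : Fin (m+3)) = i ∧ (0 : Fin (m+3)) = j
    · obtain ⟨rfl, rfl⟩ := h
      simp [h20, h21]
    · simp [h]
  refine ⟨P * D, ?_, ?_⟩
  · rw [Matrix.det_mul, hdetD, mul_inv_cancel₀ hdetP.ne_zero]
  · rw [← Matrix.mul_assoc, hNP, Matrix.mul_assoc, hcomm, Matrix.mul_assoc]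

/-- The standard transvection `1 + E₁₀` in `SL_{m+3}`. -/
noncomputable def stdT (m : ℕ) : Matrix.SpecialLinearGroup (Fin (m+3)) F :=
  ⟨Matrix.transvection 1 0 1, Matrix.det_transvection_of_ne _ _ (by
    intro h; have := congrArg Fin.val h; simp at this) _⟩

theorem stdT_coe (m : ℕ) :
    ((stdT m : Matrix.SpecialLinearGroup (Fin (m+3)) F) : Matrix (Fin (m+3)) (Fin (m+3)) F)
      = 1 + Matrix.single 1 0 1 := rfl

/-- Build an element of `SL` from a matrix of determinant one. -/
def mkSL {n : ℕ} (M : Matrix (Fin n) (Fin n) F) (h : M.det = 1) :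
    Matrix.SpecialLinearGroup (Fin n) F := ⟨M, h⟩

@[simp] theorem mkSL_coe {n : ℕ} (M : Matrix (Fin n) (Fin n) F) (h : M.det = 1) :
    ((mkSL M h : Matrix.SpecialLinearGroup (Fin n) F) : Matrix (Fin n) (Fin n) F) = M := rfl

theorem isConj_stdT {m : ℕ} (s : Matrix.SpecialLinearGroup (Fin (m+3)) F)
    (hs : Cfsg.IsTransvection (s : Matrix (Fin (m+3)) (Fin (m+3)) F)) : IsConj s (stdT m) := by
  obtain ⟨hr, hsq⟩ := hs
  obtain ⟨P, hdet, hP⟩ := conj_std _ hr hsq
  have h1 : s * mkSL P hdet = mkSL P hdet * stdT m := by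
    apply Subtype.ext
    rw [Matrix.SpecialLinearGroup.coe_mul, Matrix.SpecialLinearGroup.coe_mul, mkSL_coe, stdT_coe,
      Matrix.mul_add, Matrix.mul_one, ← hP, Matrix.sub_mul, Matrix.one_mul]
    abel
  rw [isConj_iff]
  refine ⟨(mkSL P hdet)⁻¹, ?_⟩
  rw [inv_inv, mul_assoc, h1, ← mul_assoc, inv_mul_cancel, one_mul]

theorem result {F : Type*} [Field F] [Finite F] {n : ℕ} (hn : 3 ≤ n) (s t : Matrix.SpecialLinearGroup (Fin n) F) (hs : Cfsg.IsTransvection (s : Matrix (Fin n) (Fin n) F)) (ht : Cfsg.IsTransvection (t : Matrix (Fin n) (Fin n) F)) : IsConj s t := by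
  obtain ⟨m, rfl⟩ : ∃ m, n = m + 3 := ⟨n - 3, by omega⟩
  exact (isConj_stdT s hs).trans (isConj_stdT t ht).symm

end Cfsg.Agent.S2579
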