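import Mathlib
import Cfsg.Statements.S2580

set_option autoImplicit false
open Cfsg

namespace Cfsg.Agent.S2580

open Polynomial Module

section pb
variable {F : Type*} [Field F] {S : Type*} [CommRing S] [Algebra F S]

/-- For a power basis of dimension `d ≥ 1`, the top-coordinate functional gives a nondegenerate pairing. -/
theorem exists_mul_coord_ne_zero (pb : PowerBasis F S) (hd : 1 ≤ pb.dim) (a : S) (ha : a ≠ 0) :
    ∃ b : S, pb.basis.coord ⟨pb.dim - 1, by omega⟩ (a * b) ≠ 0 := by
  classical
  set c := pb.basis.repr a with hc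
  have hne : (Finset.univ.filter (fun j : Fin pb.dim => c j ≠ 0)).Nonempty := by
    by_contra hcon
    rw [Finset.not_nonempty_iff_eq_empty] at hcon
    apply ha
    have h0 : c = 0 := by
      ext j
      by_contra hj
      have hj' : c j ≠ 0 := hj
      have : j ∈ Finset.univ.filter (fun j : Fin pb.dim => c j ≠ 0) := by simp [hj']
      rw [hcon] at this
      simp at this
    exact (LinearEquiv.map_eq_zero_iff _).1 h0
  obtain ⟨k, hk, hkmax⟩ := Finset.exists_max_image _ (fun j : Fin pb.dim => (j : ℕ)) hne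
  have hck : c k ≠ 0 := (Finset.mem_filter.1 hk).2
  have hmax : ∀ j : Fin pb.dim, (k : ℕ) < j → c j = 0 := by
    intro j hj
    by_contra hcj
    have : j ∈ Finset.univ.filter (fun j : Fin pb.dim => c j ≠ 0) := by simp [hcj]
    have := hkmax j this
    omega
  set m := pb.dim - 1 - k with hm
  refine ⟨pb.gen ^ m, ?_⟩
  have hsum : a * pb.gen ^ m = ∑ j : Fin pb.dim, c j • (pb.gen ^ ((j : ℕ) + m)) := by
    conv_lhs => rw [← pb.basis.sum_repr a]
    rw [Finset.sum_mul]
    apply Finset.sum_congr rfl
    intro j _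
    rw [pb.basis_eq_pow, smul_mul_assoc, ← pow_add]
  rw [hsum, map_sum]
  rw [Finset.sum_eq_single k]
  · rw [map_smul, smul_eq_mul]
    have hkm : (k : ℕ) + m = pb.dim - 1 := by
      have := k.2
      omega
    have : pb.gen ^ ((k : ℕ) + m) = pb.basis ⟨pb.dim - 1, by omega⟩ := by
      rw [pb.basis_eq_pow, hkm]
    rw [this, Module.Basis.coord_apply, Module.Basis.repr_self, Finsupp.single_eq_same, mul_one]
    exact hck
  · intro j _ hjk
    rw [map_smul, smul_eq_mul]
    rcases lt_or_gt_of_ne (fun h => hjk (Fin.ext h) : (j : ℕ) ≠ k) with hlt | hgt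
    · have hjm : (j : ℕ) + m < pb.dim := by
        have := k.2
        omega
      have : pb.gen ^ ((j : ℕ) + m) = pb.basis ⟨(j : ℕ) + m, hjm⟩ := by
        rw [pb.basis_eq_pow]
      rw [this, Module.Basis.coord_apply, Module.Basis.repr_self, Finsupp.single_eq_of_ne, mul_zero]
      intro h
      have := congrArg Fin.val h
      simp only at this
      have := k.2
      omega
    · rw [hmax j hgt, zero_mul]
  · intro h; exact absurd (Finset.mem_univ k) h

end pb

section functional
variable {F : Type*} [Field F]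

theorem exists_functional (g : F[X]) (hg : g ≠ 0) :
    ∃ l : AdjoinRoot g →ₗ[F] F, ∀ a : AdjoinRoot g, a ≠ 0 → ∃ b : AdjoinRoot g, l (a * b) ≠ 0 := by
  classical
  set pb := AdjoinRoot.powerBasis hg with hpb
  by_cases hd : 1 ≤ pb.dim
  · exact ⟨pb.basis.coord ⟨pb.dim - 1, by omega⟩, fun a ha => exists_mul_coord_ne_zero pb hd a ha⟩
  · refine ⟨0, fun a ha => ?_⟩
    exfalso
    apply ha
    have hd0 : pb.dim = 0 := by omega
    rw [← pb.basis.sum_repr a]
    apply Finset.sum_eq_zero
    intro i _
    exact absurd i.2 (by omega)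


theorem exists_functional' (g : F[X]) (hg : g ≠ 0) :
    ∃ l : (F[X] ⧸ F[X] ∙ g) →ₗ[F] F, ∀ a : F[X] ⧸ F[X] ∙ g, a ≠ 0 →
      ∃ b : F[X] ⧸ F[X] ∙ g, l (a * b) ≠ 0 :=
  exists_functional g hg

end functional

section main
variable {F : Type*} [Field F] {V : Type*} [AddCommGroup V] [Module F V] [FiniteDimensional F V]

theorem exists_selfadjoint_form (φ : V →ₗ[F] V) :
    ∃ B : LinearMap.BilinForm F V, B.Nondegenerate ∧ ∀ u v, B (φ u) v = B u (φ v) := by
  classical
  have htors : Module.IsTorsion F[X] (AEval' φ) :=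
    Module.AEval.isTorsion_of_finiteDimensional F V φ
  obtain ⟨ι, _, p, hp, e, ⟨Φ⟩⟩ := Module.equiv_directSum_of_isTorsion htors
  have hg : ∀ i, p i ^ e i ≠ 0 := fun i => pow_ne_zero _ (hp i).ne_zero
  choose l hl using fun i => exists_functional' (p i ^ e i) (hg i)
  let Ψ : AEval' φ ≃ₗ[F[X]] (∀ i, F[X] ⧸ F[X] ∙ p i ^ e i) :=
    Φ ≪≫ₗ DirectSum.linearEquivFunOnFintype F[X] ι (fun i => F[X] ⧸ F[X] ∙ p i ^ e i)
  let ΨF : V ≃ₗ[F] (∀ i, F[X] ⧸ F[X] ∙ p i ^ e i) :=
    (AEval'.of φ) ≪≫ₗ (Ψ.restrictScalars F)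
  have hΨX : ∀ (u : V) (i : ι), ΨF (φ u) i = Ideal.Quotient.mk (F[X] ∙ p i ^ e i) X * ΨF u i := by
    intro u i
    show Ψ (AEval'.of φ (φ u)) i = _
    rw [← AEval'.X_smul_of, map_smul]
    rfl
  let B : LinearMap.BilinForm F V := LinearMap.mk₂ F (fun u v => ∑ i, l i (ΨF u i * ΨF v i))
    (by
      intro u u' v
      simp only [map_add, Pi.add_apply, add_mul, Finset.sum_add_distrib])
    (by
      intro c u v
      simp only [map_smul, Pi.smul_apply, smul_mul_assoc, smul_eq_mul, Finset.mul_sum])
    (by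
      intro u v v'
      simp only [map_add, Pi.add_apply, mul_add, Finset.sum_add_distrib])
    (by
      intro c u v
      simp only [map_smul, Pi.smul_apply, mul_smul_comm, smul_eq_mul, Finset.mul_sum])
  have hB : ∀ u v, B u v = ∑ i, l i (ΨF u i * ΨF v i) := fun u v => rfl
  have hBsymm : ∀ u v, B u v = B v u := by
    intro u v
    rw [hB, hB]
    apply Finset.sum_congr rfl
    intro i _
    rw [mul_comm]
  have hsepL : ∀ u, (∀ v, B u v = 0) → u = 0 := by
    intro u hu
    by_contra hu0
    have h1 : ΨF u ≠ 0 := fun h => hu0 ((LinearEquiv.map_eq_zero_iff _).1 h)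
    obtain ⟨i, hi⟩ : ∃ i, ΨF u i ≠ 0 := by
      by_contra hcon
      push Not at hcon
      exact h1 (funext hcon)
    obtain ⟨b, hb⟩ := hl i _ hi
    have h2 := hu (ΨF.symm (Pi.single i b))
    rw [hB] at h2
    simp only [LinearEquiv.apply_symm_apply] at h2
    rw [Finset.sum_eq_single i] at h2
    · rw [Pi.single_eq_same] at h2
      exact hb h2
    · intro j _ hji
      rw [Pi.single_eq_of_ne hji, mul_zero, map_zero]
    · intro h; exact absurd (Finset.mem_univ i) h
  refine ⟨B, ⟨?_, ?_⟩, ?_⟩
  · intro u hu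
    exact hsepL u hu
  · intro v hv
    exact hsepL v (fun u => by rw [hBsymm]; exact hv u)
  · intro u v
    rw [hB, hB]
    apply Finset.sum_congr rfl
    intro i _
    rw [hΨX, hΨX]
    congr 1
    ring

end main

theorem isConj_transpose {F : Type*} [Field F] {n : ℕ} (A : Matrix (Fin n) (Fin n) F) :
    IsConj A A.transpose := by
  classical
  obtain ⟨B, hnd, hself⟩ := exists_selfadjoint_form (Matrix.toLin' A)
  set S := LinearMap.BilinForm.toMatrix' B with hS
  have hcomp : B.compLeft (Matrix.toLin' A) = B.compRight (Matrix.toLin' A) := by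
    apply LinearMap.ext
    intro u
    apply LinearMap.ext
    intro v
    exact hself u v
  have h1 : A.transpose * S = S * A := by
    have := congrArg LinearMap.BilinForm.toMatrix' hcomp
    rw [LinearMap.BilinForm.toMatrix'_compLeft, LinearMap.BilinForm.toMatrix'_compRight,
      LinearMap.toMatrix'_toLin'] at this
    exact this
  have hdet : S.det ≠ 0 := by
    have := (LinearMap.BilinForm.nondegenerate_toMatrix'_iff (B := B)).2 hnd
    exact Matrix.nondegenerate_iff_det_ne_zero.1 this
  have hunit : IsUnit S := (Matrix.isUnit_iff_isUnit_det S).2 (isUnit_iff_ne_zero.2 hdet)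
  refine ⟨hunit.unit, ?_⟩
  show hunit.unit.1 * A = A.transpose * hunit.unit.1
  rw [IsUnit.unit_spec]
  exact h1.symm


/-- Over a finite field, a square matrix is similar to its transpose: for every n × n matrix A there is an invertible matrix P with P A P⁻¹ = Aᵀ (stated as conjugacy in the monoid of matrices, whose units are the invertible matrices). -/
theorem result {F : Type*} [Field F] [Finite F] {n : ℕ} (A : Matrix (Fin n) (Fin n) F) : IsConj A A.transpose := by
  exact isConj_transpose A

end Cfsg.Agent.S2580
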