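import Cfsg.Statements.S2584
import Cfsg.Agent.Lib.Helper5.UnipForm1
import Cfsg.Agent.Lib.Helper5.UnipForm6

set_option autoImplicit false
open Cfsg

namespace Cfsg.Agent.S2584


open Module Matrix QuadraticMap Cfsg.Agent.Lib.Helper5.UnipForm

/-- the parity condition for an isometry of a quadratic form in characteristic two -/
theorem o_parity {F : Type*} [Field F] [CharP F 2] {n : ℕ}
    (Q : QuadraticForm F (Fin n → F)) (hQ : (polarBilin Q).Nondegenerate)
    (A : ↥(Cfsg.isometryGroup F ⇑Q)) (k : ℕ) :
    ∃ r : ℕ, 2 * finrank F (LinearMap.ker ((Matrix.toLin' (((A : Matrix.GeneralLinearGroup (Fin n) F) : Matrix (Fin n) (Fin n) F) - 1)) ^ (2 * k + 1))) =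
      finrank F (LinearMap.ker ((Matrix.toLin' (((A : Matrix.GeneralLinearGroup (Fin n) F) : Matrix (Fin n) (Fin n) F) - 1)) ^ (2 * k))) +
      finrank F (LinearMap.ker ((Matrix.toLin' (((A : Matrix.GeneralLinearGroup (Fin n) F) : Matrix (Fin n) (Fin n) F) - 1)) ^ (2 * k + 2))) + 2 * r := by
  set M : Matrix (Fin n) (Fin n) F := ((A : Matrix.GeneralLinearGroup (Fin n) F) : Matrix (Fin n) (Fin n) F) with hM
  set M' : Matrix (Fin n) (Fin n) F := (((A : Matrix.GeneralLinearGroup (Fin n) F)⁻¹ : Matrix.GeneralLinearGroup (Fin n) F) : Matrix (Fin n) (Fin n) F) with hM'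
  have hMM' : M * M' = 1 := Units.mul_inv _
  have hM'M : M' * M = 1 := Units.inv_mul _
  set u : Module.End F (Fin n → F) := Matrix.toLin' M with hu
  set u' : Module.End F (Fin n → F) := Matrix.toLin' M' with hu'
  have h1 : u * u' = 1 := by
    rw [hu, hu', Module.End.mul_eq_comp, ← Matrix.toLin'_mul, hMM', Matrix.toLin'_one]
    rfl
  have h2' : u' * u = 1 := by
    rw [hu, hu', Module.End.mul_eq_comp, ← Matrix.toLin'_mul, hM'M, Matrix.toLin'_one]
    rfl
  have hQu : ∀ x, Q (u x) = Q x := by
    intro x
    rw [hu, Matrix.toLin'_apply]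
    exact A.2 x x
  have hpres : ∀ x y, polarBilin Q (u x) (u y) = polarBilin Q x y := by
    intro x y
    show polar Q (u x) (u y) = polar Q x y
    unfold polar
    rw [← map_add, hQu, hQu, hQu]
  have hsub : u - 1 = Matrix.toLin' (M - 1) := by
    apply LinearMap.ext
    intro x
    show M *ᵥ x - x = (M - 1) *ᵥ x
    rw [Matrix.sub_mulVec M 1 x, one_mulVec]
  have hisalt : (polarBilin Q).IsAlt := by
    intro x
    show polar Q x x = 0
    rw [QuadraticMap.polar_self, two_smul]
    exact CharTwo.add_self_eq_zero _
  have halt := alt_of_alt (polarBilin Q) u u' h1 h2' hpres hisalt k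
  have hpar := parity (polarBilin Q) u u' hQ hisalt.isRefl h1 h2' hpres (2 * k) halt
  rw [hsub] at hpar
  exact hpar



/-- Which unipotent Jordan types occur in a finite orthogonal group in characteristic two: over a finite field of characteristic 2 and in even dimension 2m, a unipotent matrix with Jordan block sizes d_1, …, d_t (sum 2m, all at least 1) is similar to an isometry of some quadratic form on F^(2m) with non-degenerate polar form if and only if every odd block size occurs an even number of times (the same condition as for the symplectic group, which contains these orthogonal groups). -/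
theorem result {F : Type*} [Field F] [Fintype F] [CharP F 2] {m t : ℕ} (d : Fin t → ℕ) (hd : ∀ k, 1 ≤ d k) (hsum : ∑ k, d k = 2 * m) : (∃ Q : QuadraticForm F (Fin (2 * m) → F), (QuadraticMap.polarBilin Q).Nondegenerate ∧ ∃ e : ((k : Fin t) × Fin (d k)) ≃ Fin (2 * m), ∃ A : ↥(Cfsg.isometryGroup F ⇑Q), IsConj (Matrix.reindex e e (Cfsg.jordanTypeMatrix d F)) ((A : Matrix.GeneralLinearGroup (Fin (2 * m)) F) : Matrix (Fin (2 * m)) (Fin (2 * m)) F)) ↔ ∀ j : ℕ, Odd j → Even (Finset.univ.filter (fun k : Fin t => d k = j)).card := by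
  classical
  constructor
  · rintro ⟨Q, hQ, e, A, hconj⟩ i hi
    obtain ⟨k, rfl⟩ := hi
    obtain ⟨r, hr⟩ := o_parity Q hQ A k
    have hdim : ∀ j, finrank F (LinearMap.ker ((Matrix.toLin'
        (((A : Matrix.GeneralLinearGroup (Fin (2 * m)) F) : Matrix (Fin (2 * m)) (Fin (2 * m)) F) - 1)) ^ j)) = ∑ k, min (d k) j := by
      intro j
      rw [← finrank_ker_of_isConj e (Cfsg.jordanTypeMatrix d F) _ hconj j,
        finrank_ker_jordanType_pow]
    rw [hdim, hdim, hdim, two_mul_sum_min] at hr
    exact ⟨r, by omega⟩
  · intro hpar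
    set s : Multiset ℕ := (Finset.univ : Finset (Fin t)).val.map d with hs
    have hsmap : ∀ j, (s.map (fun a => min a j)).sum = ∑ k, min (d k) j := by
      intro j
      rw [hs, Multiset.map_map]
      rfl
    have hpos : ∀ a ∈ s, 1 ≤ a := by
      intro a ha
      obtain ⟨k, -, rfl⟩ := Multiset.mem_map.1 ha
      exact hd k
    have hcount : ∀ j, s.count j = (Finset.univ.filter (fun k : Fin t => d k = j)).card := by
      intro j
      rw [hs, Multiset.count_map, Finset.card_def, Finset.filter_val]
      congr 1
      apply Multiset.filter_congr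
      intro x _
      exact eq_comm
    have hsp : OUnip F s := by
      apply oUnip2_of_parity _ s rfl hpos
      intro j hj
      rw [hcount]
      exact hpar j hj
    obtain ⟨V, iA, iM, iF, Q₀, A₀, n₀, hnd, hpres, hnil, hdims⟩ := hsp
    -- the dimension of `V`
    have hVdim : finrank F V = 2 * m := by
      set N := n₀ + ∑ k, d k with hN
      have h0 : (A₀ - 1) ^ N = 0 := by rw [hN, pow_add, hnil, zero_mul]
      have h1 := hdims N
      rw [h0, LinearMap.ker_zero, finrank_top, hsmap] at h1
      rw [h1, ← hsum]
      apply Finset.sum_congr rfl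
      intro k _
      apply min_eq_left
      rw [hN]
      exact (Finset.single_le_sum (fun i _ => Nat.zero_le (d i)) (Finset.mem_univ k)).trans
        (Nat.le_add_left _ _)
    set b : Basis (Fin (2 * m)) F V := Module.finBasisOfFinrankEq F V hVdim with hb
    set g : (Fin (2 * m) → F) ≃ₗ[F] V := b.equivFun.symm with hg
    set Q' : QuadraticForm F (Fin (2 * m) → F) := Q₀.comp (g : (Fin (2 * m) → F) →ₗ[F] V) with hQ'
    have hQ'a : ∀ x, Q' x = Q₀ (g x) := fun x => rfl
    have hpol : ∀ x y, polar Q' x y = polar Q₀ (g x) (g y) := by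
      intro x y
      unfold polar
      rw [hQ'a, hQ'a, hQ'a, map_add]
    have hnd' : (polarBilin Q').Nondegenerate := by
      have key : ∀ x : Fin (2 * m) → F, (∀ y, polar Q' x y = 0) → x = 0 := by
        intro x hx
        have : g x = 0 := by
          apply hnd.1 (g x)
          intro v
          have := hx (g.symm v)
          rw [hpol, LinearEquiv.apply_symm_apply] at this
          exact this
        exact (LinearEquiv.map_eq_zero_iff g).1 this
      refine ⟨key, fun y hy => key y (fun x => ?_)⟩
      rw [polar_comm]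
      exact hy x
    set M : Matrix (Fin (2 * m)) (Fin (2 * m)) F := LinearMap.toMatrix b b A₀ with hM
    have hcard : Fintype.card ((k : Fin t) × Fin (d k)) = Fintype.card (Fin (2 * m)) := by
      rw [Fintype.card_sigma, Fintype.card_fin]
      simp only [Fintype.card_fin]
      exact hsum
    set e : ((k : Fin t) × Fin (d k)) ≃ Fin (2 * m) := Fintype.equivOfCardEq hcard with he
    set N := n₀ + ∑ k, d k with hN
    have hdimR : ∀ j, finrank F (LinearMap.ker ((Matrix.toLin'
        (Matrix.reindex e e (Cfsg.jordanTypeMatrix d F) - 1)) ^ j)) = ∑ k, min (d k) j :=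
      fun j => finrank_ker_reindex_jordanType d e j
    have hdimB : ∀ j, finrank F (LinearMap.ker ((Matrix.toLin' (M - 1)) ^ j)) =
        ∑ k, min (d k) j := by
      intro j
      rw [hM, finrank_ker_toMatrix, hdims, hsmap]
    have hfull : ∑ k, min (d k) N = finrank F (Fin (2 * m) → F) := by
      rw [Module.finrank_fintype_fun_eq_card, ← hcard, Fintype.card_sigma]
      simp only [Fintype.card_fin]
      apply Finset.sum_congr rfl
      intro k _
      apply min_eq_left
      rw [hN]
      exact (Finset.single_le_sum (fun i _ => Nat.zero_le (d i)) (Finset.mem_univ k)).trans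
        (Nat.le_add_left _ _)
    have hMnil : (M - 1) ^ N = 0 := by
      have : (Matrix.toLin' (M - 1)) ^ N = 0 := by
        apply pow_eq_zero_of_finrank_ker
        rw [hdimB, hfull]
      rw [← Matrix.toLin'_pow] at this
      apply Matrix.toLin'.injective
      rw [this, map_zero]
    obtain ⟨M', hMM', hM'M⟩ := exists_inv_of_nilp M N hMnil
    set Mu : Matrix.GeneralLinearGroup (Fin (2 * m)) F := ⟨M, M', hMM', hM'M⟩ with hMu
    have hmem : Mu ∈ Cfsg.isometryGroup F ⇑Q' := by
      intro x y
      show Q' (M *ᵥ x) = Q' x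
      rw [hQ'a, hQ'a]
      have hx : x = b.repr (g x) := by
        rw [hg]
        have := b.equivFun.apply_symm_apply x
        exact this.symm
      have : g (M *ᵥ x) = A₀ (g x) := by
        conv_lhs => rw [hx]
        rw [hM, LinearMap.toMatrix_mulVec_repr]
        rw [hg]
        exact b.equivFun.symm_apply_apply _
      rw [this, hpres]
    refine ⟨Q', hnd', e, ⟨Mu, hmem⟩, ?_⟩
    show IsConj (Matrix.reindex e e (Cfsg.jordanTypeMatrix d F)) M
    apply isConj_of_ker_dims _ _ N N
    · apply pow_eq_zero_of_finrank_ker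
      rw [hdimR, hfull]
    · apply pow_eq_zero_of_finrank_ker
      rw [hdimB, hfull]
    · intro j
      rw [hdimR, hdimB]


end Cfsg.Agent.S2584
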