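import Mathlib
import Cfsg.Statements.S2585

set_option autoImplicit false
open Cfsg

namespace Cfsg.Agent.S2585

open Matrix

section
variable {F : Type*} [Field F] [CharP F 2] {m : ℕ}

theorem sympForm_explicit (u v : Fin m ⊕ Fin m → F) :
    Cfsg.sympForm m F u v = ∑ i : Fin m, (u (Sum.inr i) * v (Sum.inl i) + u (Sum.inl i) * v (Sum.inr i)) := by
  unfold Cfsg.sympForm
  rw [dotProduct, Fintype.sum_sum_type, Finset.sum_add_distrib, add_comm]
  congr 1
  · apply Finset.sum_congr rfl
    intro i _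
    congr 1
    simp [Matrix.J, Matrix.mulVec, dotProduct, Fintype.sum_sum_type, Matrix.fromBlocks, Matrix.one_apply]
  · apply Finset.sum_congr rfl
    intro i _
    congr 1
    simp [Matrix.J, Matrix.mulVec, dotProduct, Fintype.sum_sum_type, Matrix.fromBlocks, Matrix.one_apply,
      CharTwo.neg_eq]

theorem q0_add (u v : Fin m ⊕ Fin m → F) :
    Cfsg.quadFormPlus m F (u + v) = Cfsg.quadFormPlus m F u + Cfsg.quadFormPlus m F v
      + Cfsg.sympForm m F u v := by
  rw [sympForm_explicit]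
  simp only [Cfsg.quadFormPlus, Pi.add_apply, ← Finset.sum_add_distrib]
  apply Finset.sum_congr rfl
  intro i _
  ring

omit [CharP F 2] in
theorem q0_smul (c : F) (v : Fin m ⊕ Fin m → F) :
    Cfsg.quadFormPlus m F (c • v) = c ^ 2 * Cfsg.quadFormPlus m F v := by
  simp only [Cfsg.quadFormPlus, Pi.smul_apply, smul_eq_mul, Finset.mul_sum]
  apply Finset.sum_congr rfl
  intro i _
  ring

end

theorem result {F : Type*} [Field F] [Fintype F] [CharP F 2] {m : ℕ} (A : Matrix.symplecticGroup (Fin m) F) : ∃ Q : QuadraticForm F (Fin m ⊕ Fin m → F), (∀ u v : Fin m ⊕ Fin m → F, QuadraticMap.polar ⇑Q u v = Cfsg.sympForm m F u v) ∧ ∀ v : Fin m ⊕ Fin m → F, Q ((A : Matrix (Fin m ⊕ Fin m) (Fin m ⊕ Fin m) F).mulVec v) = Q v := by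
  classical
  set M : Matrix (Fin m ⊕ Fin m) (Fin m ⊕ Fin m) F := (A : Matrix (Fin m ⊕ Fin m) (Fin m ⊕ Fin m) F) with hM
  have hsymp : Mᵀ * J (Fin m) F * M = J (Fin m) F := SymplecticGroup.mem_iff'.1 A.2
  have hinv : ∀ x y, Cfsg.sympForm m F (M *ᵥ x) (M *ᵥ y) = Cfsg.sympForm m F x y := by
    intro x y
    unfold Cfsg.sympForm
    rw [← Matrix.vecMul_transpose, ← Matrix.dotProduct_mulVec, Matrix.mulVec_mulVec,
      Matrix.mulVec_mulVec, hsymp]
  -- the defect of the standard form
  let φ : (Fin m ⊕ Fin m → F) → F := fun v => Cfsg.quadFormPlus m F (M *ᵥ v) + Cfsg.quadFormPlus m F v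
  have hφadd : ∀ u v, φ (u + v) = φ u + φ v := by
    intro u v
    simp only [φ]
    rw [Matrix.mulVec_add, q0_add, q0_add, hinv]
    have h2 : Cfsg.sympForm m F u v + Cfsg.sympForm m F u v = 0 := CharTwo.add_self_eq_zero _
    linear_combination h2
  have hφsmul : ∀ (c : F) v, φ (c • v) = c ^ 2 * φ v := by
    intro c v
    simp only [φ]
    rw [Matrix.mulVec_smul, q0_smul, q0_smul]
    ring
  -- its square root is linear
  let ψ : (Fin m ⊕ Fin m → F) →ₗ[F] F :=
    { toFun := fun v => (frobeniusEquiv F 2).symm (φ v)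
      map_add' := by
        intro u v
        rw [hφadd, map_add]
      map_smul' := by
        intro c v
        rw [hφsmul, map_mul, RingHom.id_apply, smul_eq_mul]
        congr 1
        exact frobeniusEquiv_symm_apply_frobenius F 2 c }
  have hψsq : ∀ v, ψ v ^ 2 = φ v := fun v => frobeniusEquiv_symm_pow_p F 2 (φ v)
  -- the map A + 1
  let T : (Fin m ⊕ Fin m → F) →ₗ[F] (Fin m ⊕ Fin m → F) := M.mulVecLin + LinearMap.id
  have hT : ∀ v, T v = M *ᵥ v + v := fun v => rfl
  have hker : ψ ∈ (LinearMap.ker T).dualAnnihilator := by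
    rw [Submodule.mem_dualAnnihilator]
    intro w hw
    rw [LinearMap.mem_ker, hT] at hw
    have hMw : M *ᵥ w = w := by
      rw [eq_neg_of_add_eq_zero_left hw]
      funext i
      simp [CharTwo.neg_eq]
    have h1 : φ w = 0 := by
      simp only [φ]
      rw [hMw]; exact CharTwo.add_self_eq_zero _
    have h2 := hψsq w
    rw [h1] at h2
    exact pow_eq_zero_iff (two_ne_zero) |>.1 h2
  rw [← LinearMap.range_dualMap_eq_dualAnnihilator_ker] at hker
  obtain ⟨l, hl⟩ := hker
  have hl' : ∀ v, l (M *ᵥ v + v) = ψ v := by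
    intro v
    rw [← hl, LinearMap.dualMap_apply, hT]
  -- the quadratic form
  let Q : QuadraticForm F (Fin m ⊕ Fin m → F) :=
    (∑ i : Fin m, QuadraticMap.linMulLin (LinearMap.proj (Sum.inl i)) (LinearMap.proj (Sum.inr i)))
      + QuadraticMap.linMulLin l l
  have hQ : ∀ v, Q v = Cfsg.quadFormPlus m F v + l v * l v := by
    intro v
    simp [Q, Cfsg.quadFormPlus]
  refine ⟨Q, ?_, ?_⟩
  · intro u v
    unfold QuadraticMap.polar
    rw [hQ, hQ, hQ, q0_add, map_add]
    have h2 : l u * l v + l u * l v = 0 := CharTwo.add_self_eq_zero _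
    linear_combination h2
  · intro v
    rw [hQ, hQ]
    have h1 := hl' v
    have h2 := hψsq v
    rw [← h1, map_add] at h2
    simp only [φ] at h2
    have h3 : l (M *ᵥ v) * l v + l (M *ᵥ v) * l v = 0 := CharTwo.add_self_eq_zero _
    have h4 : Cfsg.quadFormPlus m F (M *ᵥ v) + Cfsg.quadFormPlus m F (M *ᵥ v) = 0 :=
      CharTwo.add_self_eq_zero _
    have h5 : l v * l v + l v * l v = 0 := CharTwo.add_self_eq_zero _
    linear_combination h2 + h4 - h3 - h5

end Cfsg.Agent.S2585
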