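import Mathlib
import Cfsg.Statements.S2586
import Cfsg.Agent.S2580

set_option autoImplicit false
open Cfsg

namespace Cfsg.Agent.S2586

open Matrix

/-- A square matrix over a field (any finite index type) is similar to its transpose. -/
theorem isConj_transpose' {F : Type*} [Field F] {ι : Type*} [Fintype ι] [DecidableEq ι]
    (A : Matrix ι ι F) : IsConj A A.transpose := by
  obtain ⟨B, hnd, hself⟩ := Cfsg.Agent.S2580.exists_selfadjoint_form (Matrix.toLin' A)
  set S := LinearMap.BilinForm.toMatrix' B with hS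
  have hcomp : B.compLeft (Matrix.toLin' A) = B.compRight (Matrix.toLin' A) := by
    apply LinearMap.ext
    intro u
    apply LinearMap.ext
    intro v
    exact hself u v
  have h1 : A.transpose * S = S * A := by
    have := congrArg LinearMap.BilinForm.toMatrix' hcomp
    rw [LinearMap.BilinForm.toMatrix'_compLeft, LinearMap.BilinForm.toMatrix'_compRight,
      LinearMap.toMatrix'_toLin'] at this
    exact this
  have hdet : S.det ≠ 0 := by
    have := (LinearMap.BilinForm.nondegenerate_toMatrix'_iff (B := B)).2 hnd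
    exact Matrix.nondegenerate_iff_det_ne_zero.1 this
  have hunit : IsUnit S := (Matrix.isUnit_iff_isUnit_det S).2 (isUnit_iff_ne_zero.2 hdet)
  refine ⟨hunit.unit, ?_⟩
  show hunit.unit.1 * A = A.transpose * hunit.unit.1
  rw [IsUnit.unit_spec]
  exact h1.symm

/-- Over a finite field, every element of the symplectic group Sp_2m(F) is conjugate by an invertible matrix to its inverse. -/
theorem result {F : Type*} [Field F] [Finite F] {m : ℕ} (A : Matrix.symplecticGroup (Fin m) F) : IsConj (A : Matrix (Fin m ⊕ Fin m) (Fin m ⊕ Fin m) F) ((A⁻¹ : Matrix.symplecticGroup (Fin m) F) : Matrix (Fin m ⊕ Fin m) (Fin m ⊕ Fin m) F) := by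
  refine (isConj_transpose' (A : Matrix (Fin m ⊕ Fin m) (Fin m ⊕ Fin m) F)).trans ?_
  rw [SymplecticGroup.coe_inv]
  have h1 : (-J (Fin m) F) * J (Fin m) F = 1 := by
    rw [Matrix.neg_mul, Matrix.J_squared, neg_neg]
  have h2 : J (Fin m) F * (-J (Fin m) F) = 1 := by
    rw [Matrix.mul_neg, Matrix.J_squared, neg_neg]
  refine ⟨⟨-J (Fin m) F, J (Fin m) F, h1, h2⟩, ?_⟩
  show (-J (Fin m) F) * (A : Matrix (Fin m ⊕ Fin m) (Fin m ⊕ Fin m) F)ᵀ
    = (-J (Fin m) F) * (A : Matrix (Fin m ⊕ Fin m) (Fin m ⊕ Fin m) F)ᵀ * J (Fin m) F * (-J (Fin m) F)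
  rw [Matrix.mul_assoc _ (J (Fin m) F) (-J (Fin m) F), h2, Matrix.mul_one]

end Cfsg.Agent.S2586
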