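import Cfsg.Statements.S2592
import Cfsg.Agent.Lib.Helper5.RegUnip3

set_option autoImplicit false
open Cfsg

namespace Cfsg.Agent.S2592


open Matrix Cfsg.Agent.Lib.Helper5.RegUnip

section

variable {F : Type*} [Field F] {m : ℕ}

local notation "M" => Matrix (Fin m ⊕ Fin m) (Fin m ⊕ Fin m) F

/-- the skew element attached to a symplectic matrix -/
theorem skew_of_symplectic (h2 : (2 : F) ≠ 0) (u : M) (hu : tau u * u = 1) (k : ℕ)
    (hnil : (u - 1) ^ k = 0) :
    tau (u - tau u) = -(u - tau u) ∧ (u - tau u) ^ k = 0 ∧ (u - tau u).rank = (u - 1).rank ∧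
      (∀ g : M, g * u = u * g → g * (u - tau u) = (u - tau u) * g) ∧
      u * (u - tau u) = (u - tau u) * u := by
  have hu' : u * tau u = 1 := mul_eq_one_comm.1 hu
  have hcomm : Commute (tau u) u := by
    show tau u * u = u * tau u
    rw [hu, hu']
  have hN : IsNilpotent (u - 1) := ⟨k, hnil⟩
  have hunit : IsUnit (u + 1) := by
    have e : u + 1 = (2 : F) • (1 : M) + (u - 1) := by
      rw [two_smul]; abel
    rw [e]
    apply hN.isUnit_add_left_of_commute
    · refine ⟨⟨(2 : F) • 1, (2 : F)⁻¹ • 1, ?_, ?_⟩, rfl⟩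
      · rw [Matrix.smul_mul, Matrix.mul_smul, Matrix.mul_one, smul_smul, mul_inv_cancel₀ h2,
          one_smul]
      · rw [Matrix.smul_mul, Matrix.mul_smul, Matrix.mul_one, smul_smul, inv_mul_cancel₀ h2,
          one_smul]
    · exact (Commute.one_right _).smul_right _
  have hfac : u - tau u = (tau u * (u + 1)) * (u - 1) := by
    calc u - tau u = (tau u * u) * u - tau u := by rw [hu, Matrix.one_mul]
      _ = (tau u * (u + 1)) * (u - 1) := by noncomm_ring
  have hc1 : Commute (tau u * (u + 1)) (u - 1) := by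
    apply Commute.mul_left
    · exact (hcomm.sub_right (Commute.one_right _))
    · exact ((Commute.refl u).add_left (Commute.one_left _)).sub_right (Commute.one_right _)
  refine ⟨?_, ?_, ?_, ?_, ?_⟩
  · rw [tau_sub, tau_tau]; abel
  · rw [hfac, hc1.mul_pow, hnil, Matrix.mul_zero]
  · rw [hfac]
    apply Matrix.rank_mul_eq_right_of_isUnit_det
    rw [← Matrix.isUnit_iff_isUnit_det]
    exact (IsUnit.of_mul_eq_one _ hu).mul hunit
  · intro g hg
    have hg' : g * tau u = tau u * g := by
      calc g * tau u = (tau u * u) * (g * tau u) := by rw [hu, Matrix.one_mul]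
        _ = tau u * (u * g) * tau u := by simp only [Matrix.mul_assoc]
        _ = tau u * (g * u) * tau u := by rw [hg]
        _ = tau u * g * (u * tau u) := by simp only [Matrix.mul_assoc]
        _ = tau u * g := by rw [hu', Matrix.mul_one]
    rw [Matrix.mul_sub, Matrix.sub_mul, hg, hg']
  · rw [Matrix.mul_sub, Matrix.sub_mul, hu', hu]

end



/-- Over a finite field with q elements, q odd, the centraliser in Sp_2m(F) (m ≥ 1) of a regular unipotent element (u − 1 nilpotent of rank 2m − 1) has order 2 q^m. -/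
theorem result {F : Type*} [Field F] [Fintype F] {q : ℕ} (hF : Fintype.card F = q) (hq : Odd q) {m : ℕ} (hm : 1 ≤ m) (u : Matrix.symplecticGroup (Fin m) F) (hnil : ((u : Matrix (Fin m ⊕ Fin m) (Fin m ⊕ Fin m) F) - 1) ^ (2 * m) = 0) (hreg : ((u : Matrix (Fin m ⊕ Fin m) (Fin m ⊕ Fin m) F) - 1).rank = 2 * m - 1) : Nat.card ↥(Subgroup.centralizer ({u} : Set ↥(Matrix.symplecticGroup (Fin m) F))) = 2 * q ^ m := by
  classical
  have h2 : (2 : F) ≠ 0 := by
    intro h
    have h3 := Nat.cast_card_eq_zero F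
    rw [hF] at h3
    obtain ⟨k, hk⟩ := hq
    rw [hk] at h3
    push_cast at h3
    rw [h, zero_mul, zero_add] at h3
    exact one_ne_zero h3
  have hu : tau (u : Matrix (Fin m ⊕ Fin m) (Fin m ⊕ Fin m) F) * u = 1 :=
    (mem_symplectic_iff_tau _).1 u.2
  obtain ⟨hτ, hc, hr, hcomm, hucomm⟩ := skew_of_symplectic h2 _ hu (2 * m) hnil
  set c := (u : Matrix (Fin m ⊕ Fin m) (Fin m ⊕ Fin m) F) - tau u with hcdef
  rw [hreg] at hr
  have hcard : Fintype.card (Fin m ⊕ Fin m) = 2 * m - 1 + 1 := by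
    rw [Fintype.card_sum, Fintype.card_fin]; omega
  have hc' : c ^ (2 * m - 1 + 1) = 0 := by
    have : 2 * m - 1 + 1 = 2 * m := by omega
    rw [this]; exact hc
  have hrep : ∀ X, X * c = c * X → ∃ a : Fin (2 * m - 1 + 1) → F, X = P c a :=
    fun X hX => exists_P_of_commute c hcard (Nat.succ_pos _) hc' (by rw [hr]; omega) X hX
  have key := card_commuting_unitary hm (Fintype.card_fin m) h2 c hτ hc hr
  rw [hF] at key
  rw [← key]
  refine Nat.card_congr
    { toFun := fun g => ⟨(g.1 : Matrix (Fin m ⊕ Fin m) (Fin m ⊕ Fin m) F), ?_, ?_⟩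
      invFun := fun X => ⟨⟨X.1, (mem_symplectic_iff_tau _).2 X.2.2⟩, ?_⟩
      left_inv := fun g => rfl
      right_inv := fun X => rfl }
  · apply hcomm
    have := Subgroup.mem_centralizer_singleton_iff.1 g.2
    have h3 := congrArg (fun z : Matrix.symplecticGroup (Fin m) F =>
      (z : Matrix (Fin m ⊕ Fin m) (Fin m ⊕ Fin m) F)) this
    exact h3
  · exact (mem_symplectic_iff_tau _).1 g.1.2
  · rw [Subgroup.mem_centralizer_singleton_iff]
    apply Subtype.ext
    show X.1 * (u : Matrix (Fin m ⊕ Fin m) (Fin m ⊕ Fin m) F) = u * X.1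
    obtain ⟨a, ha⟩ := hrep X.1 X.2.1
    obtain ⟨b, hb⟩ := hrep u hucomm
    rw [ha, hb]
    exact P_comm c a b


end Cfsg.Agent.S2592
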