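import Cfsg.Statements.S2591
import Cfsg.Agent.Lib.Helper5.RegUnip5
import Cfsg.Agent.S2592

set_option autoImplicit false
open Cfsg

namespace Cfsg.Agent.S2591


open Matrix Cfsg.Agent.Lib.Helper5.RegUnip

section

variable {F : Type*} [Field F] {m : ℕ}

local notation "M" => Matrix (Fin m ⊕ Fin m) (Fin m ⊕ Fin m) F

/-- the diagonal similitude with multiplier `e` -/
def gd (e : F) : M := fromBlocks (e • (1 : Matrix (Fin m) (Fin m) F)) 0 0 1

theorem gd_mul (e e' : F) : (gd e : M) * gd e' = gd (e * e') := by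
  unfold gd
  rw [Matrix.fromBlocks_multiply]
  simp [smul_smul, mul_comm]

theorem gd_one : (gd (1 : F) : M) = 1 := by
  unfold gd
  rw [one_smul, Matrix.fromBlocks_one]

theorem tau_gd_mul (e : F) : tau (gd e : M) * gd e = e • (1 : M) := by
  unfold tau gd J
  rw [Matrix.fromBlocks_transpose, Matrix.fromBlocks_neg, Matrix.fromBlocks_multiply,
    Matrix.fromBlocks_multiply, Matrix.fromBlocks_multiply, ← Matrix.fromBlocks_one,
    Matrix.fromBlocks_smul]
  simp


/-- regular unipotent matrices -/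
def Reg (u : M) : Prop := (u - 1) ^ (2 * m) = 0 ∧ (u - 1).rank = 2 * m - 1

/-- conjugating a regular unipotent symplectic matrix by a similitude -/
theorem reg_conj (e : F) (he : e ≠ 0) (u : M) (hu : tau u * u = 1) (hreg : Reg u) :
    tau (gd e * u * gd e⁻¹) * (gd e * u * gd e⁻¹) = 1 ∧ Reg (gd e * u * gd e⁻¹ : M) := by
  have h1 : (gd e : M) * gd e⁻¹ = 1 := by rw [gd_mul, mul_inv_cancel₀ he, gd_one]
  have h1' : (gd e⁻¹ : M) * gd e = 1 := by rw [gd_mul, inv_mul_cancel₀ he, gd_one]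
  constructor
  · rw [tau_mul, tau_mul]
    calc tau (gd e⁻¹ : M) * (tau u * tau (gd e)) * (gd e * u * gd e⁻¹)
        = tau (gd e⁻¹ : M) * (tau u * (tau (gd e) * gd e) * u) * gd e⁻¹ := by
          simp only [Matrix.mul_assoc]
      _ = e • (tau (gd e⁻¹ : M) * (tau u * u) * gd e⁻¹) := by
          rw [tau_gd_mul, Matrix.mul_smul, Matrix.mul_one, Matrix.smul_mul, Matrix.mul_smul,
            Matrix.smul_mul]
      _ = 1 := by
          rw [hu, Matrix.mul_one, tau_gd_mul, smul_smul, mul_inv_cancel₀ he, one_smul]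
  · have e1 : (gd e * u * gd e⁻¹ : M) - 1 = gd e * (u - 1) * gd e⁻¹ := by
      rw [Matrix.mul_sub, Matrix.sub_mul, Matrix.mul_one, h1]
    have hpow : ∀ k : ℕ, (gd e * (u - 1) * gd e⁻¹ : M) ^ k = gd e * (u - 1) ^ k * gd e⁻¹ := by
      intro k
      induction k with
      | zero => rw [pow_zero, pow_zero, Matrix.mul_one, h1]
      | succ k ih =>
        rw [pow_succ, ih, pow_succ]
        calc gd e * (u - 1) ^ k * gd e⁻¹ * (gd e * (u - 1) * gd e⁻¹)
            = gd e * (u - 1) ^ k * ((gd e⁻¹ : M) * gd e) * (u - 1) * gd e⁻¹ := by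
              simp only [Matrix.mul_assoc]
          _ = gd e * ((u - 1) ^ k * (u - 1)) * gd e⁻¹ := by
              rw [h1', Matrix.mul_one]; simp only [Matrix.mul_assoc]
    refine ⟨?_, ?_⟩
    · rw [e1, hpow, hreg.1, Matrix.mul_zero, Matrix.zero_mul]
    · rw [e1, ← hreg.2]
      have hdet : IsUnit (gd e : M).det := by
        rw [← Matrix.isUnit_iff_isUnit_det]
        exact ⟨⟨gd e, gd e⁻¹, h1, h1'⟩, rfl⟩
      have hdet' : IsUnit (gd e⁻¹ : M).det := by
        rw [← Matrix.isUnit_iff_isUnit_det]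
        exact ⟨⟨gd e⁻¹, gd e, h1', h1⟩, rfl⟩
      rw [Matrix.rank_mul_eq_left_of_isUnit_det _ _ hdet',
        Matrix.rank_mul_eq_right_of_isUnit_det _ _ hdet]


theorem card_idx : Fintype.card (Fin m ⊕ Fin m) = 2 * m := by
  rw [Fintype.card_sum, Fintype.card_fin]; ring

/-- the twisted conjugate is not symplectically conjugate to the original -/
theorem not_conj (h2 : (2 : F) ≠ 0) (hm : 1 ≤ m) (u₀ : M) (hu₀ : tau u₀ * u₀ = 1) (hreg : Reg u₀)
    (e : F) (he : ¬ IsSquare e) (h : M) (hh : tau h * h = 1)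
    (hconj : h * u₀ = (gd e * u₀ * gd e⁻¹) * h) : False := by
  have he0 : e ≠ 0 := by
    rintro rfl
    exact he ⟨0, by ring⟩
  have h1 : (gd e : M) * gd e⁻¹ = 1 := by rw [gd_mul, mul_inv_cancel₀ he0, gd_one]
  have h1' : (gd e⁻¹ : M) * gd e = 1 := by rw [gd_mul, inv_mul_cancel₀ he0, gd_one]
  obtain ⟨hτ, hc, hr, hcomm, hucomm⟩ :=
    Cfsg.Agent.S2592.skew_of_symplectic h2 u₀ hu₀ (2 * m) hreg.1
  rw [hreg.2] at hr
  set c := u₀ - tau u₀ with hcdef
  haveI : Nonempty (Fin m ⊕ Fin m) := ⟨Sum.inl ⟨0, hm⟩⟩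
  -- r = gd e⁻¹ * h commutes with u₀
  have hru : (gd e⁻¹ * h : M) * u₀ = u₀ * (gd e⁻¹ * h) := by
    calc (gd e⁻¹ * h : M) * u₀ = gd e⁻¹ * (h * u₀) := by rw [Matrix.mul_assoc]
      _ = gd e⁻¹ * (gd e * u₀ * gd e⁻¹ * h) := by rw [hconj]
      _ = ((gd e⁻¹ : M) * gd e) * u₀ * (gd e⁻¹ * h) := by simp only [Matrix.mul_assoc]
      _ = u₀ * (gd e⁻¹ * h) := by rw [h1', Matrix.one_mul]
  have hrc := hcomm _ hru
  obtain ⟨t, -, ht⟩ := norm_const c hτ card_idx (by omega) hc hr _ hrc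
  have hnorm : tau (gd e⁻¹ * h : M) * (gd e⁻¹ * h) = e⁻¹ • (1 : M) := by
    rw [tau_mul]
    calc tau h * tau (gd e⁻¹ : M) * (gd e⁻¹ * h) = tau h * (tau (gd e⁻¹ : M) * gd e⁻¹) * h := by
          simp only [Matrix.mul_assoc]
      _ = e⁻¹ • (1 : M) := by
          rw [tau_gd_mul, Matrix.mul_smul, Matrix.mul_one, Matrix.smul_mul, hh]
  rw [hnorm, ← sub_smul] at ht
  have h3 := scalar_eq_zero_of_inRad hc _ ht
  apply he
  have ht0 : t ≠ 0 := by
    rintro rfl
    rw [mul_zero, sub_zero] at h3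
    exact inv_ne_zero he0 h3
  refine ⟨t⁻¹, ?_⟩
  have h4 : e⁻¹ = t * t := sub_eq_zero.1 h3
  have h5 : e = (t * t)⁻¹ := by rw [← h4, inv_inv]
  rw [h5, mul_inv]


/-- every regular unipotent symplectic matrix is symplectically conjugate to `u₀` or its twist -/
theorem conj_cases [Fintype F] (h2 : (2 : F) ≠ 0) (hm : 1 ≤ m) (u₀ : M) (hu₀ : tau u₀ * u₀ = 1)
    (hreg₀ : Reg u₀) (e : F) (he : ¬ IsSquare e) (u : M) (hu : tau u * u = 1) (hreg : Reg u) :
    ∃ h : M, tau h * h = 1 ∧ (h * u₀ = u * h ∨ h * (gd e * u₀ * gd e⁻¹) = u * h) := by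
  classical
  have he0 : e ≠ 0 := by
    rintro rfl
    exact he ⟨0, by ring⟩
  have hchar : ringChar F ≠ 2 := by
    intro h
    apply h2
    have := ringChar.spec F 2
    rw [h] at this
    have h3 : ((2 : ℕ) : F) = 0 := this.2 (dvd_refl 2)
    exact_mod_cast h3
  have h1 : (gd e : M) * gd e⁻¹ = 1 := by rw [gd_mul, mul_inv_cancel₀ he0, gd_one]
  have h1' : (gd e⁻¹ : M) * gd e = 1 := by rw [gd_mul, inv_mul_cancel₀ he0, gd_one]
  obtain ⟨hτ, hc, hr, hcomm, hucomm⟩ :=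
    Cfsg.Agent.S2592.skew_of_symplectic h2 u₀ hu₀ (2 * m) hreg₀.1
  rw [hreg₀.2] at hr
  set c := u₀ - tau u₀ with hcdef
  haveI : Nonempty (Fin m ⊕ Fin m) := ⟨Sum.inl ⟨0, hm⟩⟩
  have hpos : 0 < 2 * m := by omega
  have hu₀' : u₀ * tau u₀ = 1 := mul_eq_one_comm.1 hu₀
  have hu' : u * tau u = 1 := mul_eq_one_comm.1 hu
  -- conjugate in the general linear group
  obtain ⟨g, gi, hg1, hg2, hgN⟩ := exists_conj_regular (u₀ - 1) (u - 1) card_idx hpos hreg₀.1
    hreg₀.2 hreg.1 hreg.2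
  have hgu : g * u₀ = u * g := by
    have := hgN
    rw [Matrix.mul_sub, Matrix.sub_mul, Matrix.mul_one, Matrix.one_mul] at this
    exact sub_left_injective this
  -- s = tau g * g
  have hτg : u₀ * tau g = tau g * u := by
    have h3 := congrArg tau hgu
    rw [tau_mul, tau_mul] at h3
    calc u₀ * tau g = u₀ * (tau g * (tau u * u)) := by rw [hu, Matrix.mul_one]
      _ = u₀ * (tau g * tau u) * u := by simp only [Matrix.mul_assoc]
      _ = u₀ * (tau u₀ * tau g) * u := by rw [h3]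
      _ = (u₀ * tau u₀) * tau g * u := by simp only [Matrix.mul_assoc]
      _ = tau g * u := by rw [hu₀', Matrix.one_mul]
  set s := tau g * g with hsdef
  have hsu : s * u₀ = u₀ * s := by
    rw [hsdef, Matrix.mul_assoc, hgu, ← Matrix.mul_assoc, ← hτg, Matrix.mul_assoc]
  have hsc := hcomm s hsu
  have hsτ : tau s = s := by rw [hsdef, tau_mul, tau_tau]
  have hsunit : IsUnit s := by
    refine ⟨⟨s, gi * tau gi, ?_, ?_⟩, rfl⟩
    · calc s * (gi * tau gi) = tau g * (g * gi) * tau gi := by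
            rw [hsdef]; simp only [Matrix.mul_assoc]
        _ = 1 := by rw [hg1, Matrix.mul_one, ← tau_mul, hg2, tau_one]
    · calc gi * tau gi * s = gi * (tau gi * tau g) * g := by
            rw [hsdef]; simp only [Matrix.mul_assoc]
        _ = 1 := by rw [← tau_mul, hg1, tau_one, Matrix.mul_one, hg2]
  obtain ⟨t, ht⟩ := exists_const c card_idx hpos hc hr s hsc
  have ht0 : t ≠ 0 := const_ne_zero hc s t hsunit ht
  -- everything in the commutant of `c` commutes with `u₀`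
  have hcommu : ∀ X : M, X * c = c * X → X * u₀ = u₀ * X := by
    intro X hX
    obtain ⟨a, ha⟩ := exists_P_of_commute c card_idx hpos hc hr X hX
    obtain ⟨b, hb⟩ := exists_P_of_commute c card_idx hpos hc hr u₀ hucomm
    rw [ha, hb]
    exact P_comm c a b
  -- general step: from a symmetric square root of `d⁻¹ • s`
  have step : ∀ (d : F) (r : M), d ≠ 0 → r * c = c * r → tau r = r → r * r = d⁻¹ • s → IsUnit r →
      ∃ ri : M, r * ri = 1 ∧ ri * r = 1 ∧ ri * u₀ = u₀ * ri ∧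
        tau (g * ri) * (g * ri) = d • (1 : M) := by
    intro d r hd hrc hrτ hrr hrunit
    obtain ⟨w, hw⟩ := hrunit
    have e1 : r * (↑w⁻¹ : M) = 1 := by rw [← hw]; exact w.mul_inv
    have e2 : (↑w⁻¹ : M) * r = 1 := by rw [← hw]; exact w.inv_mul
    refine ⟨↑w⁻¹, e1, e2, ?_, ?_⟩
    · have hru := hcommu r hrc
      calc (↑w⁻¹ : M) * u₀ = ↑w⁻¹ * u₀ * (r * ↑w⁻¹) := by rw [e1, Matrix.mul_one]
        _ = ↑w⁻¹ * (u₀ * r) * ↑w⁻¹ := by simp only [Matrix.mul_assoc]
        _ = ↑w⁻¹ * (r * u₀) * ↑w⁻¹ := by rw [hru]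
        _ = (↑w⁻¹ * r) * u₀ * ↑w⁻¹ := by simp only [Matrix.mul_assoc]
        _ = u₀ * ↑w⁻¹ := by rw [e2, Matrix.one_mul]
    · have e3 : tau (↑w⁻¹ : M) * r = 1 := by
        rw [← hrτ, ← tau_mul, e1, tau_one]
      have e4 : s = d • (r * r) := by rw [hrr, smul_smul, mul_inv_cancel₀ hd, one_smul]
      rw [tau_mul]
      calc tau (↑w⁻¹ : M) * tau g * (g * ↑w⁻¹) = tau (↑w⁻¹ : M) * s * ↑w⁻¹ := by
            rw [hsdef]; simp only [Matrix.mul_assoc]
        _ = d • ((tau (↑w⁻¹ : M) * r) * (r * ↑w⁻¹)) := by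
            rw [e4, Matrix.mul_smul, Matrix.smul_mul]; simp only [Matrix.mul_assoc]
        _ = d • (1 : M) := by rw [e3, e1, Matrix.one_mul]
  by_cases hsq : IsSquare t
  · obtain ⟨b, hb⟩ := hsq
    have hb0 : b ≠ 0 := by
      rintro rfl
      exact ht0 (by rw [hb, mul_zero])
    rw [hb] at ht
    obtain ⟨r, hrc, hrτ, hrr, hrunit⟩ := exists_sqrt h2 c hτ card_idx hpos hc hr s hsc hsτ b hb0 ht
    obtain ⟨ri, e1, e2, hriu, hnorm⟩ := step 1 r one_ne_zero hrc hrτ (by rw [inv_one, one_smul, hrr])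
      hrunit
    refine ⟨g * ri, by rw [hnorm, one_smul], Or.inl ?_⟩
    rw [Matrix.mul_assoc, hriu, ← Matrix.mul_assoc, hgu, Matrix.mul_assoc]
  · -- `t / e` is a square
    have hte : IsSquare (t * e⁻¹) := by
      have hne : t * e⁻¹ ≠ 0 := mul_ne_zero ht0 (inv_ne_zero he0)
      rw [FiniteField.isSquare_iff hchar hne, mul_pow, inv_pow]
      have d1 := FiniteField.pow_dichotomy hchar ht0
      have d2 := FiniteField.pow_dichotomy hchar he0
      rw [← FiniteField.isSquare_iff hchar ht0] at d1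
      rw [← FiniteField.isSquare_iff hchar he0] at d2
      have d1' := d1.resolve_left hsq
      have d2' := d2.resolve_left he
      rw [d1', d2']
      norm_num
    obtain ⟨b, hb⟩ := hte
    have hb0 : b ≠ 0 := by
      rintro rfl
      rw [mul_zero] at hb
      exact mul_ne_zero ht0 (inv_ne_zero he0) hb
    have hs' : InRad c (e⁻¹ • s - (b * b) • 1) := by
      have e5 : e⁻¹ • s - (b * b) • (1 : M) = e⁻¹ • (s - t • 1) := by
        rw [smul_sub, smul_smul, ← hb, mul_comm]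
      rw [e5]
      exact ht.smul _
    obtain ⟨r, hrc, hrτ, hrr, hrunit⟩ := exists_sqrt h2 c hτ card_idx hpos hc hr (e⁻¹ • s)
      (by rw [Matrix.smul_mul, Matrix.mul_smul, hsc]) (by rw [tau_smul, hsτ]) b hb0 hs'
    obtain ⟨ri, e1, e2, hriu, hnorm⟩ := step e r he0 hrc hrτ hrr hrunit
    refine ⟨g * ri * gd e⁻¹, ?_, Or.inr ?_⟩
    · rw [tau_mul]
      calc tau (gd e⁻¹ : M) * tau (g * ri) * (g * ri * gd e⁻¹)
          = tau (gd e⁻¹ : M) * (tau (g * ri) * (g * ri)) * gd e⁻¹ := by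
            simp only [Matrix.mul_assoc]
        _ = e • (tau (gd e⁻¹ : M) * gd e⁻¹) := by
            rw [hnorm, Matrix.mul_smul, Matrix.mul_one, Matrix.smul_mul]
        _ = 1 := by rw [tau_gd_mul, smul_smul, mul_inv_cancel₀ he0, one_smul]
    · calc g * ri * gd e⁻¹ * (gd e * u₀ * gd e⁻¹)
          = g * ri * ((gd e⁻¹ : M) * gd e) * u₀ * gd e⁻¹ := by simp only [Matrix.mul_assoc]
        _ = g * (ri * u₀) * gd e⁻¹ := by rw [h1', Matrix.mul_one]; simp only [Matrix.mul_assoc]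
        _ = (g * u₀) * ri * gd e⁻¹ := by rw [hriu]; simp only [Matrix.mul_assoc]
        _ = u * (g * ri * gd e⁻¹) := by rw [hgu]; simp only [Matrix.mul_assoc]


/-- from a symplectic intertwiner to conjugacy in the symplectic group -/
theorem isConj_of_intertwiner (u u' : Matrix.symplecticGroup (Fin m) F) (h : M) (hh : tau h * h = 1)
    (hc : h * (u : M) = (u' : M) * h) : IsConj u u' := by
  rw [isConj_iff]
  refine ⟨⟨h, (mem_symplectic_iff_tau _).2 hh⟩, ?_⟩
  rw [mul_inv_eq_iff_eq_mul]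
  apply Subtype.ext
  exact hc

end



/-- Over a finite field of odd order and for m ≥ 1, the regular unipotent elements of Sp_2m(F) (u − 1 nilpotent of rank 2m − 1, a single Jordan block) form exactly two conjugacy classes of Sp_2m(F) (one class under the similarity group, which splits in two). -/
theorem result {F : Type*} [Field F] [Fintype F] {q : ℕ} (hF : Fintype.card F = q) (hq : Odd q) {m : ℕ} (hm : 1 ≤ m) : Nat.card {C : ConjClasses ↥(Matrix.symplecticGroup (Fin m) F) // ∃ u : Matrix.symplecticGroup (Fin m) F, ConjClasses.mk u = C ∧ ((u : Matrix (Fin m ⊕ Fin m) (Fin m ⊕ Fin m) F) - 1) ^ (2 * m) = 0 ∧ ((u : Matrix (Fin m ⊕ Fin m) (Fin m ⊕ Fin m) F) - 1).rank = 2 * m - 1} = 2 := by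
  classical
  have h2 : (2 : F) ≠ 0 := by
    intro h
    have h3 := Nat.cast_card_eq_zero F
    rw [hF] at h3
    obtain ⟨k, hk⟩ := hq
    rw [hk] at h3
    push_cast at h3
    rw [h, zero_mul, zero_add] at h3
    exact one_ne_zero h3
  have hchar : ringChar F ≠ 2 := by
    intro h
    apply h2
    have := ringChar.spec F 2
    rw [h] at this
    have h3 : ((2 : ℕ) : F) = 0 := this.2 (dvd_refl 2)
    exact_mod_cast h3
  obtain ⟨e, he⟩ := FiniteField.exists_nonsquare hchar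
  have he0 : e ≠ 0 := by
    rintro rfl
    exact he ⟨0, by ring⟩
  obtain ⟨u₀, hu₀, hreg₀⟩ := exists_regular_unipotent (F := F) m hm h2
  obtain ⟨hu₁, hreg₁⟩ := reg_conj e he0 u₀ hu₀ hreg₀
  set U₀ : Matrix.symplecticGroup (Fin m) F := ⟨u₀, (mem_symplectic_iff_tau _).2 hu₀⟩ with hU₀
  set U₁ : Matrix.symplecticGroup (Fin m) F :=
    ⟨gd e * u₀ * gd e⁻¹, (mem_symplectic_iff_tau _).2 hu₁⟩ with hU₁
  rw [Nat.card_eq_two_iff]
  refine ⟨⟨ConjClasses.mk U₀, U₀, rfl, hreg₀⟩, ⟨ConjClasses.mk U₁, U₁, rfl, hreg₁⟩, ?_, ?_⟩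
  · intro h
    have h1 : ConjClasses.mk U₀ = ConjClasses.mk U₁ := congrArg Subtype.val h
    rw [ConjClasses.mk_eq_mk_iff_isConj, isConj_iff] at h1
    obtain ⟨c, hc⟩ := h1
    rw [mul_inv_eq_iff_eq_mul] at hc
    have hc' := congrArg (fun z : Matrix.symplecticGroup (Fin m) F =>
      (z : Matrix (Fin m ⊕ Fin m) (Fin m ⊕ Fin m) F)) hc
    exact not_conj h2 hm u₀ hu₀ hreg₀ e he c.1 ((mem_symplectic_iff_tau _).1 c.2) hc'
  · rw [Set.eq_univ_iff_forall]
    rintro ⟨C, u, rfl, hreg⟩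
    have hu : tau (u : Matrix (Fin m ⊕ Fin m) (Fin m ⊕ Fin m) F) * u = 1 :=
      (mem_symplectic_iff_tau _).1 u.2
    obtain ⟨h, hh, hcase⟩ := conj_cases h2 hm u₀ hu₀ hreg₀ e he u hu hreg
    rcases hcase with hc | hc
    · left
      apply Subtype.ext
      show ConjClasses.mk u = ConjClasses.mk U₀
      rw [ConjClasses.mk_eq_mk_iff_isConj]
      exact (isConj_of_intertwiner U₀ u h hh hc).symm
    · right
      rw [Set.mem_singleton_iff]
      apply Subtype.ext
      show ConjClasses.mk u = ConjClasses.mk U₁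
      rw [ConjClasses.mk_eq_mk_iff_isConj]
      exact (isConj_of_intertwiner U₁ u h hh hc).symm


end Cfsg.Agent.S2591
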