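import Cfsg.Statements.S2594
import Cfsg.Agent.Lib.Helper1.SpCard
import Cfsg.Agent.Lib.Helper1.SpPoint
import Cfsg.Agent.S0245

set_option autoImplicit false
open Cfsg

namespace Cfsg.Agent.S2594


open Matrix Cfsg.Agent.Lib.Helper1.SpBasic Cfsg.Agent.Lib.Helper2.Symp Cfsg.Agent.Lib.Helper1.SpPoint

variable {F : Type*} [Field F] {m : ℕ}

/-- An element of the symplectic group with `t - 1` of rank one is a transvection. -/
theorem exists_T_of_rank_one (t : Matrix.symplecticGroup (Fin m) F)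
    (ht : ((t : Matrix (Fin m ⊕ Fin m) (Fin m ⊕ Fin m) F) - 1).rank = 1) :
    ∃ (u : Fin m ⊕ Fin m → F) (c : F), u ≠ 0 ∧ c ≠ 0 ∧ t = T u c := by
  set N : Matrix (Fin m ⊕ Fin m) (Fin m ⊕ Fin m) F :=
    (t : Matrix (Fin m ⊕ Fin m) (Fin m ⊕ Fin m) F) - 1 with hN
  have hrank : Module.finrank F (LinearMap.range N.mulVecLin) = 1 := ht
  obtain ⟨⟨u, hu⟩, hu0, hspan⟩ := finrank_eq_one_iff'.1 hrank
  have hu0' : u ≠ 0 := fun h => hu0 (Subtype.ext h)
  have hc : ∀ x : Fin m ⊕ Fin m → F, ∃ c : F, N *ᵥ x = c • u := by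
    intro x
    obtain ⟨c, hc⟩ := hspan ⟨N *ᵥ x, ⟨x, rfl⟩⟩
    exact ⟨c, (congrArg Subtype.val hc).symm⟩
  choose c hc using hc
  have htx : ∀ x, (t : Matrix (Fin m ⊕ Fin m) (Fin m ⊕ Fin m) F) *ᵥ x = x + c x • u := by
    intro x
    have := hc x
    rw [hN, Matrix.sub_mulVec, Matrix.one_mulVec, sub_eq_iff_eq_add] at this
    rw [this, add_comm]
  -- the symplectic condition
  have hsym : ∀ x y, c y * Cfsg.sympForm m F x u = c x * Cfsg.sympForm m F y u := by
    intro x y
    have h1 := form_mulVec t x y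
    rw [htx, htx, sympForm_add_left, sympForm_add_right, sympForm_add_right, sympForm_smul_left,
      sympForm_smul_right, sympForm_smul_left, sympForm_smul_right, sympForm_self,
      sympForm_swap u y] at h1
    linear_combination h1
  obtain ⟨y₀, hy₀⟩ : ∃ y₀, c y₀ ≠ 0 := by
    obtain ⟨y₀, hy₀⟩ := hu
    refine ⟨y₀, fun h0 => hu0' ?_⟩
    have h2 : N *ᵥ y₀ = u := hy₀
    rw [← h2, hc y₀, h0, zero_smul]
  set κ : F := Cfsg.sympForm m F y₀ u / c y₀ with hκ
  have hfu : ∀ x, Cfsg.sympForm m F x u = c x * κ := by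
    intro x
    rw [hκ]
    field_simp
    rw [mul_comm]
    exact hsym x y₀
  have hκ0 : κ ≠ 0 := by
    intro h0
    apply hu0'
    apply eq_zero_of_forall_form
    intro w
    rw [hfu, h0, mul_zero]
  refine ⟨u, κ⁻¹, hu0', inv_ne_zero hκ0, ?_⟩
  apply ext_mulVec
  intro x
  rw [htx, T_mulVec, hfu]
  congr 2
  field_simp

theorem exists_sq [Finite F] [CharP F 2] (a : F) : ∃ b : F, b * b = a := by
  have hinj : Function.Injective (fun b : F => b * b) := by
    intro b b' h
    have h2 : (2 : F) = 0 := by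
      have := CharP.cast_eq_zero F 2
      exact_mod_cast this
    have h1 : (b - b') * (b - b') = 0 := by
      have h' : b * b = b' * b' := h
      linear_combination h' + (b' * b' - b * b') * h2
    have := mul_self_eq_zero.1 h1
    exact sub_eq_zero.1 this
  exact Finite.surjective_of_injective hinj a

theorem neg_eq_self [CharP F 2] (a : F) : -a = a := by
  have h2 : (2 : F) = 0 := by
    have := CharP.cast_eq_zero F 2
    exact_mod_cast this
  linear_combination -a * h2

/-- In characteristic two the centralizer of the transvection `T v 1` is the stabilizer of `v`. -/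
theorem mem_centralizer_T_iff [CharP F 2] (v : Fin m ⊕ Fin m → F) (hv : v ≠ 0)
    (g : Matrix.symplecticGroup (Fin m) F) :
    g ∈ Subgroup.centralizer ({T v 1} : Set (Matrix.symplecticGroup (Fin m) F)) ↔
      (g : Matrix (Fin m ⊕ Fin m) (Fin m ⊕ Fin m) F) *ᵥ v = v := by
  rw [Subgroup.mem_centralizer_iff]
  constructor
  · intro h
    have h1 : g * T v 1 * g⁻¹ = T v 1 := by
      have := h (T v 1) rfl
      rw [mul_inv_eq_iff_eq_mul]
      exact this.symm
    rw [conj_T] at h1
    obtain ⟨p, hp⟩ := Cfsg.Agent.S0271.exists_partner m v hv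
    have hpv : Cfsg.sympForm m F p v = 1 := by
      rw [sympForm_swap, hp, neg_eq_self]
    set w := (g : Matrix (Fin m ⊕ Fin m) (Fin m ⊕ Fin m) F) *ᵥ v with hw
    have h2 : ∀ x, Cfsg.sympForm m F x w • w = Cfsg.sympForm m F x v • v := by
      intro x
      have := congrArg (fun A : Matrix.symplecticGroup (Fin m) F =>
        (A : Matrix (Fin m ⊕ Fin m) (Fin m ⊕ Fin m) F) *ᵥ x) h1
      simp only [T_mulVec, one_mul] at this
      exact add_left_cancel this
    have h3 := h2 p
    rw [hpv, one_smul] at h3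
    set l := Cfsg.sympForm m F p w with hl
    -- v = l • w
    have hl0 : l ≠ 0 := by
      intro h0
      rw [h0, zero_smul] at h3
      exact hv h3.symm
    have h4 := h2 p
    rw [hpv, one_smul] at h4
    -- form p w = l, and w = l⁻¹ • v
    have hw' : w = l⁻¹ • v := by
      rw [← h3, smul_smul, inv_mul_cancel₀ hl0, one_smul]
    have h5 : l = l⁻¹ := by
      have : Cfsg.sympForm m F p w = l⁻¹ * Cfsg.sympForm m F p v := by
        rw [hw', sympForm_smul_right]
      rw [hpv, mul_one] at this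
      exact this
    have h6 : l * l = 1 := by
      nth_rewrite 2 [h5]
      exact mul_inv_cancel₀ hl0
    have h2' : (2 : F) = 0 := by
      have := CharP.cast_eq_zero F 2
      exact_mod_cast this
    have h7 : (l - 1) * (l - 1) = 0 := by linear_combination h6 - l * h2' + h2'
    have h8 : l = 1 := sub_eq_zero.1 (mul_self_eq_zero.1 h7)
    rw [hw', h8, inv_one, one_smul]
  · intro h x hx
    rw [Set.mem_singleton_iff] at hx
    subst hx
    have h1 : g * T v 1 * g⁻¹ = T v 1 := by rw [conj_T, h]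
    rw [mul_inv_eq_iff_eq_mul] at h1
    exact h1.symm

/-- The action of the symplectic group on vectors. -/
@[reducible] def vecAction (m : ℕ) (F : Type*) [Field F] :
    MulAction (Matrix.symplecticGroup (Fin m) F) (Fin m ⊕ Fin m → F) where
  smul g x := (g : Matrix (Fin m ⊕ Fin m) (Fin m ⊕ Fin m) F) *ᵥ x
  one_smul x := coe_one_mulVec x
  mul_smul g h x := coe_mul_mulVec g h x

attribute [local instance] vecAction

theorem orbit_vec (v : Fin m ⊕ Fin m → F) (hv : v ≠ 0) :
    MulAction.orbit (Matrix.symplecticGroup (Fin m) F) v = {w | w ≠ 0} := by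
  ext w
  constructor
  · rintro ⟨g, rfl⟩ h0
    apply hv
    have h1 : (g : Matrix (Fin m ⊕ Fin m) (Fin m ⊕ Fin m) F) *ᵥ v = 0 := h0
    have := inv_mulVec_mulVec g v
    rw [h1, Matrix.mulVec_zero] at this
    exact this.symm
  · intro hw
    obtain ⟨p, hp⟩ := Cfsg.Agent.S0271.exists_partner m v hv
    obtain ⟨p', hp'⟩ := Cfsg.Agent.S0271.exists_partner m w hw
    obtain ⟨A, -, h1, -⟩ := transitive_on_hyperbolic_pairs v p w p' hp hp'
    exact ⟨A, h1⟩

theorem card_stabilizer_vec [Fintype F] (v : Fin m ⊕ Fin m → F) (hv : v ≠ 0) :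
    Nat.card (MulAction.stabilizer (Matrix.symplecticGroup (Fin m) F) v) *
      (Fintype.card F ^ (2 * m) - 1) = Nat.card (Matrix.symplecticGroup (Fin m) F) := by
  classical
  have h1 := Subgroup.index_mul_card (MulAction.stabilizer (Matrix.symplecticGroup (Fin m) F) v)
  rw [MulAction.index_stabilizer, orbit_vec v hv] at h1
  rw [← h1, mul_comm]
  congr 1
  rw [Set.ncard_eq_toFinset_card']
  have : ({w : Fin m ⊕ Fin m → F | w ≠ 0}).toFinset = Finset.univ.erase 0 := by
    ext w
    simp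
  rw [this, Finset.card_erase_of_mem (Finset.mem_univ _), Finset.card_univ, Fintype.card_fun,
    Fintype.card_sum, Fintype.card_fin, two_mul]


/-- Over a finite field with q elements, q even, an element t of Sp_2m(F) with rank(t − 1) = 1 (a symplectic transvection) has centraliser in Sp_2m(F) of order q^(2m−1) · |Sp_(2m−2)(q)| = q^(2m−1) · q^((m−1)²) · Π_(i=1)^(m−1) (q^(2i) − 1). -/
theorem result {F : Type*} [Field F] [Fintype F] [CharP F 2] {q : ℕ} (hF : Fintype.card F = q) {m : ℕ} (hm : 1 ≤ m) (t : Matrix.symplecticGroup (Fin m) F) (ht : ((t : Matrix (Fin m ⊕ Fin m) (Fin m ⊕ Fin m) F) - 1).rank = 1) : Nat.card ↥(Subgroup.centralizer ({t} : Set ↥(Matrix.symplecticGroup (Fin m) F))) = q ^ (2 * m - 1) * (q ^ ((m - 1) ^ 2) * ∏ i : Fin (m - 1), (q ^ (2 * ((i : ℕ) + 1)) - 1)) := by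
  classical
  subst hF
  obtain ⟨k, rfl⟩ : ∃ k, m = k + 1 := ⟨m - 1, by omega⟩
  obtain ⟨u, c, hu, hc, rfl⟩ := exists_T_of_rank_one t ht
  obtain ⟨b, hb⟩ := exists_sq c
  have hb0 : b ≠ 0 := by
    rintro rfl
    rw [mul_zero] at hb
    exact hc hb.symm
  have hT : T u c = T (b • u) 1 := by rw [T_smul, mul_one, hb]
  rw [hT]
  have hv : b • u ≠ 0 := smul_ne_zero hb0 hu
  have hcard : Nat.card ↥(Subgroup.centralizer
      ({T (b • u) 1} : Set ↥(Matrix.symplecticGroup (Fin (k + 1)) F)))
      = Nat.card (MulAction.stabilizer (Matrix.symplecticGroup (Fin (k + 1)) F) (b • u)) := by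
    apply Nat.card_congr
    refine Equiv.subtypeEquivRight fun g => ?_
    rw [mem_centralizer_T_iff _ hv, MulAction.mem_stabilizer_iff]
    rfl
  rw [hcard]
  have h1 := card_stabilizer_vec (b • u) hv
  rw [Cfsg.Agent.S0245.result rfl (k + 1), Finset.prod_range_succ] at h1
  have hq : 1 < Fintype.card F := Fintype.one_lt_card
  have hpos : 0 < Fintype.card F ^ (2 * (k + 1)) - 1 := by
    have : 1 < Fintype.card F ^ (2 * (k + 1)) := Nat.one_lt_pow (by omega) hq
    omega
  have h2 : Nat.card (MulAction.stabilizer (Matrix.symplecticGroup (Fin (k + 1)) F) (b • u))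
      = Fintype.card F ^ ((k + 1) ^ 2) *
        ∏ i ∈ Finset.range k, (Fintype.card F ^ (2 * (i + 1)) - 1) := by
    apply Nat.eq_of_mul_eq_mul_right hpos
    rw [h1]
    ring
  rw [h2, Nat.add_sub_cancel, Fin.prod_univ_eq_prod_range
    (fun i => Fintype.card F ^ (2 * (i + 1)) - 1) k, ← mul_assoc, ← pow_add]
  congr 2
  have : 2 * (k + 1) - 1 = 2 * k + 1 := by omega
  rw [this]
  ring

end Cfsg.Agent.S2594
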