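import Cfsg.Statements.S2596
import Cfsg.Agent.Lib.Helper5.O2Sp
import Cfsg.Agent.Lib.Helper5.IsoTransfer
import Cfsg.Agent.S2173

set_option autoImplicit false
open Cfsg

namespace Cfsg.Agent.S2596


open Matrix Module Cfsg.Agent.Lib.Helper2.Symp Cfsg.Agent.Lib.Helper1.SpBasic
  Cfsg.Agent.Lib.Helper5.SpInv2 Cfsg.Agent.Lib.Helper5.InvConj Cfsg.Agent.Lib.Helper2.QuadStd
  Cfsg.Agent.Lib.Helper5.QuadGlue Cfsg.Agent.Lib.Helper5.O2Sp Cfsg.Agent.Lib.Helper5.IsoTransfer
  Cfsg.Agent.S2595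

variable {F : Type*} [Field F] {k : ℕ}

section form

/-- the minus-type form in symplectic coordinates -/
noncomputable def QMs (k : ℕ) (c : F) : QuadraticForm F (Fin (k + 1) ⊕ Fin (k + 1) → F) :=
  QP (k + 1) F + QuadraticMap.sq.comp (LinearMap.proj (Sum.inl (Fin.last k))) +
    c • QuadraticMap.sq.comp (LinearMap.proj (Sum.inr (Fin.last k)))

theorem QMs_apply (c : F) (v : Fin (k + 1) ⊕ Fin (k + 1) → F) :
    QMs k c v = Cfsg.quadFormPlus (k + 1) F v + v (Sum.inl (Fin.last k)) ^ 2 +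
      c * v (Sum.inr (Fin.last k)) ^ 2 := by
  simp [QMs, QP_apply, sq]

theorem QMs_polSymp [CharP F 2] (c : F) : PolSymp (QMs k c) := by
  intro u v
  rw [QMs_apply, QMs_apply, QMs_apply, ← polar_eq_symp]
  have h2 : (2 : F) = 0 := CharTwo.two_eq_zero
  simp only [Pi.add_apply]
  linear_combination (u (Sum.inl (Fin.last k)) * v (Sum.inl (Fin.last k)) +
    c * u (Sum.inr (Fin.last k)) * v (Sum.inr (Fin.last k))) * h2

/-- the change of coordinates -/
def phi (k : ℕ) (a : F) (ha : a ≠ 0) :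
    ((Fin k ⊕ Fin k) ⊕ Fin 2 → F) ≃ₗ[F] (Fin (k + 1) ⊕ Fin (k + 1) → F) where
  toFun v := Sum.elim
    (Fin.snoc (α := fun _ => F) (fun i => v (Sum.inl (Sum.inl i))) (v (Sum.inr 0)))
    (Fin.snoc (α := fun _ => F) (fun i => v (Sum.inl (Sum.inr i))) (a * v (Sum.inr 1)))
  invFun w := Sum.elim
    (Sum.elim (fun i => w (Sum.inl i.castSucc)) (fun i => w (Sum.inr i.castSucc)))
    (![w (Sum.inl (Fin.last k)), a⁻¹ * w (Sum.inr (Fin.last k))])
  map_add' u v := by
    funext j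
    rcases j with j | j
    · refine Fin.lastCases ?_ (fun i => ?_) j <;> simp
    · refine Fin.lastCases ?_ (fun i => ?_) j <;> simp [mul_add]
  map_smul' r v := by
    funext j
    rcases j with j | j
    · refine Fin.lastCases ?_ (fun i => ?_) j <;> simp
    · refine Fin.lastCases ?_ (fun i => ?_) j <;> simp [mul_left_comm]
  left_inv v := by
    funext j
    rcases j with (j | j) | j
    · simp
    · simp
    · fin_cases j
      · simp
      · simp [ha]
  right_inv w := by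
    funext j
    rcases j with j | j
    · refine Fin.lastCases ?_ (fun i => ?_) j <;> simp
    · refine Fin.lastCases ?_ (fun i => ?_) j <;> simp [ha]

theorem QMs_phi (a b : F) (ha : a ≠ 0) (v : (Fin k ⊕ Fin k) ⊕ Fin 2 → F) :
    QMs k (b * a⁻¹ ^ 2) (phi k a ha v) = Cfsg.quadFormMinus k F a b v := by
  rw [QMs_apply]
  unfold Cfsg.quadFormPlus Cfsg.quadFormMinus
  rw [Fin.sum_univ_castSucc]
  simp only [phi, LinearEquiv.coe_mk, LinearMap.coe_mk, AddHom.coe_mk, Sum.elim_inl, Sum.elim_inr,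
    Fin.snoc_castSucc, Fin.snoc_last]
  field_simp
  ring

end form

section ts

theorem finrank_le_of_ts (a b : F)
    (hab : ∀ z₁ z₂ : F, z₁ ^ 2 + a * z₁ * z₂ + b * z₂ ^ 2 = 0 → z₁ = 0 ∧ z₂ = 0) (ha : a ≠ 0)
    (U : Submodule F (Fin (k + 1) ⊕ Fin (k + 1) → F))
    (hU : ∀ u ∈ U, QMs k (b * a⁻¹ ^ 2) u = 0) : finrank F U ≤ k := by
  have h1 : finrank F (U.map (phi k a ha).symm.toLinearMap) = finrank F U :=
    LinearEquiv.finrank_map_eq (phi k a ha).symm U
  rw [← h1]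
  apply Cfsg.Agent.S2173.finrank_le_of_ts_minus a b hab
  rintro _ ⟨u, hu, rfl⟩
  have := QMs_phi a b ha ((phi k a ha).symm u)
  rw [LinearEquiv.apply_symm_apply] at this
  rw [LinearEquiv.coe_coe, ← this]
  exact hU u hu

end ts

section reps

/-- extension of a matrix by a zero row and column -/
def extM (S₀ : Matrix (Fin k) (Fin k) F) : Matrix (Fin (k + 1)) (Fin (k + 1)) F :=
  Matrix.reindex finSumFinEquiv finSumFinEquiv
    (Matrix.fromBlocks S₀ 0 0 (0 : Matrix (Fin 1) (Fin 1) F))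

theorem extM_transpose (S₀ : Matrix (Fin k) (Fin k) F) (h : S₀ᵀ = S₀) : (extM S₀)ᵀ = extM S₀ := by
  unfold extM
  rw [Matrix.transpose_reindex, Matrix.fromBlocks_transpose, h]
  simp

theorem extM_rank (S₀ : Matrix (Fin k) (Fin k) F) : (extM S₀).rank = S₀.rank := by
  unfold extM
  rw [Matrix.rank_reindex, Cfsg.Agent.S2593.rank_fromBlocks₁₁]

theorem extM_mulVec (S₀ : Matrix (Fin k) (Fin k) F) (y : Fin (k + 1) → F) :
    extM S₀ *ᵥ y = Fin.snoc (α := fun _ => F) (S₀ *ᵥ fun i => y i.castSucc) 0 := by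
  unfold extM
  rw [Matrix.reindex_apply, Matrix.submatrix_mulVec_equiv, Equiv.symm_symm,
    Matrix.fromBlocks_mulVec]
  funext j
  refine Fin.lastCases ?_ (fun i => ?_) j
  · simp [finSumFinEquiv_symm_last]
  · simp only [Function.comp_apply, Fin.snoc_castSucc]
    rw [finSumFinEquiv_symm_apply_castSucc]
    simp only [Sum.elim_inl, Matrix.zero_mulVec, add_zero]
    rfl

theorem extM_alt (S₀ : Matrix (Fin k) (Fin k) F) (h : ∀ y : Fin k → F, y ⬝ᵥ S₀ *ᵥ y = 0)
    (y : Fin (k + 1) → F) : y ⬝ᵥ extM S₀ *ᵥ y = 0 := by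
  rw [extM_mulVec, dotProduct, Fin.sum_univ_castSucc]
  simp only [Fin.snoc_castSucc, Fin.snoc_last, mul_zero, add_zero]
  exact h _

theorem QMs_uMat (c : F) (S₀ : Matrix (Fin k) (Fin k) F)
    (h : ∀ y : Fin k → F, y ⬝ᵥ S₀ *ᵥ y = 0) (v : Fin (k + 1) ⊕ Fin (k + 1) → F) :
    QMs k c (uMat (extM S₀) *ᵥ v) = QMs k c v := by
  rw [QMs_apply, QMs_apply, Q_uMat, extM_alt S₀ h, add_zero, uMat_mulVec]
  simp only [Pi.add_apply, Sum.elim_inl, Sum.elim_inr, Pi.zero_apply, add_zero]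
  rw [extM_mulVec, Fin.snoc_last, add_zero]

/-- lower unitriangular block matrix -/
def lMatD (D : Matrix (Fin (k + 1)) (Fin (k + 1)) F) :
    Matrix (Fin (k + 1) ⊕ Fin (k + 1)) (Fin (k + 1) ⊕ Fin (k + 1)) F :=
  Matrix.fromBlocks 1 0 D 1

theorem lMatD_mem (D : Matrix (Fin (k + 1)) (Fin (k + 1)) F) (hD : Dᵀ = D) :
    lMatD D ∈ Matrix.symplecticGroup (Fin (k + 1)) F := by
  have h : lMatD D = (uMat D)ᵀ := by
    unfold lMatD uMat
    rw [Matrix.fromBlocks_transpose, hD]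
    simp
  rw [h]
  exact SymplecticGroup.transpose_mem ((uMat_mem_iff _).2 hD)

def lSD (D : Matrix (Fin (k + 1)) (Fin (k + 1)) F) (hD : Dᵀ = D) :
    Matrix.symplecticGroup (Fin (k + 1)) F := ⟨lMatD D, lMatD_mem D hD⟩

theorem lMatD_mulVec (D : Matrix (Fin (k + 1)) (Fin (k + 1)) F)
    (v : Fin (k + 1) ⊕ Fin (k + 1) → F) :
    lMatD D *ᵥ v = Sum.elim (fun i => v (Sum.inl i))
      (fun i => (D *ᵥ fun j => v (Sum.inl j)) i + v (Sum.inr i)) := by
  unfold lMatD
  rw [Matrix.fromBlocks_mulVec]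
  funext j
  rcases j with j | j
  · simp only [Sum.elim_inl, Matrix.one_mulVec, Matrix.zero_mulVec, add_zero, Function.comp_apply]
  · simp only [Sum.elim_inr, Matrix.one_mulVec, Function.comp_apply, Pi.add_apply]
    rfl

variable [CharP F 2]

theorem lSD_mul_self (D : Matrix (Fin (k + 1)) (Fin (k + 1)) F) (hD : Dᵀ = D) :
    lSD D hD * lSD D hD = 1 := by
  apply ext_mulVec
  intro x
  rw [coe_mul_mulVec, coe_one_mulVec]
  show lMatD D *ᵥ (lMatD D *ᵥ x) = x
  rw [lMatD_mulVec, lMatD_mulVec]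
  funext j
  rcases j with j | j
  · simp
  · simp only [Sum.elim_inr, Sum.elim_inl]
    rw [← add_assoc, CharTwo.add_self_eq_zero, zero_add]

theorem lSD_inv (D : Matrix (Fin (k + 1)) (Fin (k + 1)) F) (hD : Dᵀ = D) :
    (lSD D hD)⁻¹ = lSD D hD := inv_eq_of_mul_eq_one_right (lSD_mul_self D hD)

/-- the non-alternating representatives -/
def tauM (k s : ℕ) (F : Type*) [Field F] [CharP F 2] : Matrix.symplecticGroup (Fin (k + 1)) F :=
  lSD (dMatS (k + 1) k F) (dMatS_transpose k) * uS (dMatS (k + 1) s F) (dMatS_transpose s) *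
    (lSD (dMatS (k + 1) k F) (dMatS_transpose k))⁻¹

theorem tauM_mulVec (s : ℕ) (v : Fin (k + 1) ⊕ Fin (k + 1) → F) :
    (tauM k s F).1 *ᵥ v = Sum.elim
      (fun i => v (Sum.inl i) + (if i.val < s then 1 else 0) *
        ((if i.val < k then 1 else 0) * v (Sum.inl i) + v (Sum.inr i)))
      (fun i => (if i.val < k then 1 else 0) * (v (Sum.inl i) + (if i.val < s then 1 else 0) *
        ((if i.val < k then 1 else 0) * v (Sum.inl i) + v (Sum.inr i))) +
        ((if i.val < k then 1 else 0) * v (Sum.inl i) + v (Sum.inr i))) := by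
  unfold tauM
  rw [lSD_inv, coe_mul_mulVec, coe_mul_mulVec]
  show lMatD _ *ᵥ (uMat (dMatS (k + 1) s F) *ᵥ (lMatD _ *ᵥ v)) = _
  rw [uMat_mulVec, lMatD_mulVec, lMatD_mulVec]
  funext j
  rcases j with j | j
  · simp only [Sum.elim_inl, Sum.elim_inr, Pi.add_apply, dMatS, Matrix.mulVec_diagonal]
  · simp only [Sum.elim_inl, Sum.elim_inr, Pi.add_apply, dMatS, Matrix.mulVec_diagonal,
      Pi.zero_apply, add_zero]

theorem QMs_tauM (c : F) (s : ℕ) (v : Fin (k + 1) ⊕ Fin (k + 1) → F) :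
    QMs k c ((tauM k s F).1 *ᵥ v) = QMs k c v := by
  rw [QMs_apply, QMs_apply, tauM_mulVec]
  unfold Cfsg.quadFormPlus
  rw [Fin.sum_univ_castSucc, Fin.sum_univ_castSucc]
  simp only [Sum.elim_inl, Sum.elim_inr, Fin.val_castSucc, Fin.is_lt, if_true, Fin.val_last,
    lt_irrefl, if_false, one_mul, zero_mul, zero_add]
  have h2 : (2 : F) = 0 := CharTwo.two_eq_zero
  have hsum : ∀ i : Fin k,
      (v (Sum.inl i.castSucc) + (if (i : ℕ) < s then 1 else 0) *
        (v (Sum.inl i.castSucc) + v (Sum.inr i.castSucc))) *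
      (v (Sum.inl i.castSucc) + (if (i : ℕ) < s then 1 else 0) *
        (v (Sum.inl i.castSucc) + v (Sum.inr i.castSucc)) +
        (v (Sum.inl i.castSucc) + v (Sum.inr i.castSucc))) =
      v (Sum.inl i.castSucc) * v (Sum.inr i.castSucc) := by
    intro i
    split_ifs with h
    · linear_combination (3 * v (Sum.inl i.castSucc) ^ 2 + 3 * v (Sum.inl i.castSucc) * v (Sum.inr i.castSucc)
        + v (Sum.inr i.castSucc) ^ 2) * h2
    · linear_combination (v (Sum.inl i.castSucc) ^ 2) * h2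
  rw [Finset.sum_congr rfl (fun i _ => hsum i)]
  split_ifs with h
  · linear_combination (v (Sum.inr (Fin.last k)) ^ 2 +
      v (Sum.inl (Fin.last k)) * v (Sum.inr (Fin.last k))) * h2
  · ring

end reps

theorem count_QMs {F : Type*} [Field F] [Fintype F] [CharP F 2] (k : ℕ) (a b : F)
    (hab : ∀ z₁ z₂ : F, z₁ ^ 2 + a * z₁ * z₂ + b * z₂ ^ 2 = 0 → z₁ = 0 ∧ z₂ = 0) (ha : a ≠ 0) :
    Nat.card {C : ConjClasses ↥(Cfsg.isometryGroup F ⇑(QMs k (b * a⁻¹ ^ 2))) //
      ∃ g : ↥(Cfsg.isometryGroup F ⇑(QMs k (b * a⁻¹ ^ 2))), ConjClasses.mk g = C ∧ orderOf g = 2} =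
      (k + 1) + k / 2 := by
  classical
  have hsq : ∀ x : F, ∃ y : F, y * y = x := by
    intro x
    obtain ⟨r, hr⟩ := FiniteField.isSquare_of_char_two (ringChar.eq F 2) x
    exact ⟨r, hr.symm⟩
  set c := b * a⁻¹ ^ 2 with hc
  have hP : PolSymp (QMs k c) := QMs_polSymp c
  -- the target set
  obtain ⟨T, hTdef⟩ : ∃ T : Finset (ℕ × Bool), T = ((Finset.Icc 1 (k + 1)).image (fun s => (s, false))) ∪
      (((Finset.Icc 1 k).filter (fun s => 2 ∣ s)).image (fun s => (s, true))) := ⟨_, rfl⟩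
  have hTmem : ∀ p : ℕ × Bool, p ∈ T ↔ (1 ≤ p.1 ∧ p.1 ≤ k + 1 ∧ (p.2 = true → 2 ∣ p.1 ∧ p.1 ≤ k)) := by
    rintro ⟨s, b⟩
    rw [hTdef]
    simp only [Finset.mem_union, Finset.mem_image, Finset.mem_Icc, Finset.mem_filter, Prod.mk.injEq]
    constructor
    · rintro (⟨s', ⟨h1, h2⟩, rfl, rfl⟩ | ⟨s', ⟨⟨h1, h2⟩, h3⟩, rfl, rfl⟩)
      · exact ⟨h1, h2, fun h => absurd h (by simp)⟩
      · exact ⟨h1, by omega, fun _ => ⟨h3, h2⟩⟩
    · rintro ⟨h1, h2, h3⟩
      cases b
      · left; exact ⟨s, ⟨h1, h2⟩, rfl, rfl⟩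
      · right; exact ⟨s, ⟨⟨h1, (h3 rfl).2⟩, (h3 rfl).1⟩, rfl, rfl⟩
  have hTcard : T.card = (k + 1) + k / 2 := by
    rw [hTdef, Finset.card_union_of_disjoint, Finset.card_image_of_injective,
      Finset.card_image_of_injective, Nat.card_Icc]
    · have : Finset.Icc 1 k = Finset.Ioc 0 k := by
        ext x; simp only [Finset.mem_Icc, Finset.mem_Ioc]; omega
      rw [this, Nat.Ioc_filter_dvd_card_eq_div]
      omega
    · intro a b h; exact (Prod.mk.inj h).1
    · intro a b h; exact (Prod.mk.inj h).1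
    · rw [Finset.disjoint_left]
      intro p hp1 hp2
      obtain ⟨s, -, rfl⟩ := Finset.mem_image.1 hp1
      obtain ⟨s', -, h⟩ := Finset.mem_image.1 hp2
      exact absurd (Prod.mk.inj h).2 (by simp)
  -- the invariant on `Sp`
  obtain ⟨inv, hinv⟩ : ∃ inv : Matrix.symplecticGroup (Fin (k + 1)) F → ℕ × Bool, ∀ g, inv g =
      (((g : Matrix (Fin (k + 1) ⊕ Fin (k + 1)) (Fin (k + 1) ⊕ Fin (k + 1)) F) - 1).rank,
        decide (IsAltInv g)) :=
    ⟨_, fun _ => rfl⟩
  have hinv_conj : ∀ c g, inv (c * g * c⁻¹) = inv g := by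
    intro c g
    rw [hinv, hinv, rank_conj_sub_one]
    congr 1
    rw [decide_eq_decide]
    exact isAltInv_conj c g
  have hinv_uS : ∀ (S : Matrix (Fin (k + 1)) (Fin (k + 1)) F) (hS : Sᵀ = S),
      inv (uS S hS) = (S.rank, decide (∀ y : Fin (k + 1) → F, y ⬝ᵥ S *ᵥ y = 0)) := by
    intro S hS
    rw [hinv]
    congr 1
    · exact rank_uMat_sub_one S
    · rw [decide_eq_decide]
      exact isAltInv_uS S hS
  have hinv_mem0 : ∀ g : Matrix.symplecticGroup (Fin (k + 1)) F, orderOf g = 2 →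
      1 ≤ (inv g).1 ∧ (inv g).1 ≤ k + 1 ∧ ((inv g).2 = true → 2 ∣ (inv g).1) := by
    intro g hg
    have hg2 := Cfsg.Agent.S2593.sq_of_orderOf g hg
    obtain ⟨c, S, hS, hc⟩ := exists_conj_uMat g hg2
    have hc' : c * g * c⁻¹ = uS S hS := Subtype.ext hc
    rw [← hinv_conj c g, hc', hinv_uS]
    refine ⟨?_, ?_, ?_⟩
    · show 1 ≤ S.rank
      by_contra h0
      have hS0 : S = 0 := Cfsg.Agent.S2593.eq_zero_of_rank_eq_zero S (by omega)
      have h1 : c * g * c⁻¹ = 1 := by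
        rw [hc']
        apply Subtype.ext
        show uMat S = 1
        rw [hS0]
        unfold uMat
        exact Matrix.fromBlocks_one
      have h2 : g = 1 := by
        have : g = c⁻¹ * (c * g * c⁻¹) * c := by group
        rw [this, h1]; group
      rw [h2, orderOf_one] at hg
      omega
    · show S.rank ≤ k + 1
      have := Matrix.rank_le_card_width S
      rw [Fintype.card_fin] at this
      exact this
    · intro halt
      have halt' : ∀ y : Fin (k + 1) → F, y ⬝ᵥ S *ᵥ y = 0 := of_decide_eq_true halt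
      have h3 := Cfsg.Agent.S2166.even_rank_of_isAltInv (uS S hS) (Cfsg.Agent.S2593.uS_mul_self S hS)
        ((isAltInv_uS S hS).2 halt')
      have h4 : ((uS S hS : Matrix.symplecticGroup (Fin (k + 1)) F) :
          Matrix (Fin (k + 1) ⊕ Fin (k + 1)) (Fin (k + 1) ⊕ Fin (k + 1)) F) = uMat S := rfl
      rw [h4, rank_uMat_sub_one] at h3
      exact even_iff_two_dvd.1 h3
  have hord : ∀ g : ↥(Cfsg.isometryGroup F ⇑(QMs k c)),
      orderOf (toSpQ hP g) = orderOf g := fun g => orderOf_injective (toSpQ hP) (toSpQ_injective hP) g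
  have hinv_mem : ∀ g : ↥(Cfsg.isometryGroup F ⇑(QMs k c)), orderOf g = 2 →
      inv (toSpQ hP g) ∈ T := by
    intro g hg
    obtain ⟨h1, h2, h3⟩ := hinv_mem0 (toSpQ hP g) ((hord g).trans hg)
    rw [hTmem]
    refine ⟨h1, h2, fun hb => ⟨h3 hb, ?_⟩⟩
    rw [hinv] at hb ⊢
    have halt : IsAltInv (toSpQ hP g) := of_decide_eq_true hb
    show ((toSpQ hP g : Matrix.symplecticGroup (Fin (k + 1)) F).1 - 1).rank ≤ k
    rw [toSpQ_coe]
    apply finrank_le_of_ts a b hab ha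
    rintro _ ⟨v, rfl⟩
    exact Q_sub_of_alt hP g halt v
  have hinv_inj : ∀ g h : ↥(Cfsg.isometryGroup F ⇑(QMs k c)),
      orderOf g = 2 → orderOf h = 2 → inv (toSpQ hP g) = inv (toSpQ hP h) → IsConj g h := by
    intro g h hg hh hgh
    rw [hinv, hinv] at hgh
    have h1 := (Prod.mk.inj hgh).1
    have h2 := (Prod.mk.inj hgh).2
    rw [decide_eq_decide] at h2
    apply conj_of_sp_conj hP g h hh
    exact conj_of_same_type hsq _ _ (Cfsg.Agent.S2593.sq_of_orderOf _ ((hord g).trans hg))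
      (Cfsg.Agent.S2593.sq_of_orderOf _ ((hord h).trans hh)) h1 h2
  have hinv_surj : ∀ p ∈ T, ∃ g : ↥(Cfsg.isometryGroup F ⇑(QMs k c)),
      orderOf g = 2 ∧ inv (toSpQ hP g) = p := by
    rintro ⟨s, b⟩ hp
    rw [hTmem] at hp
    obtain ⟨h1, h2, h3⟩ := hp
    cases b
    · have hD0 : dMatS (k + 1) s F ≠ 0 := by
        intro h0
        have := dMatS_rank (F := F) s h2
        rw [h0, Matrix.rank_zero] at this
        omega
      refine ⟨ofSp (tauM k s F) (QMs_tauM c s), ?_, ?_⟩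
      · rw [← hord, toSpQ_ofSp]
        unfold tauM
        rw [orderOf_conj']
        exact Cfsg.Agent.S2593.orderOf_uS _ _ hD0
      · rw [toSpQ_ofSp]
        unfold tauM
        rw [hinv_conj, hinv_uS, dMatS_rank s h2]
        congr 1
        rw [decide_eq_false_iff_not]
        exact dMatS_nonalt s h1 h2
    · obtain ⟨⟨j, rfl⟩, h4⟩ := h3 rfl
      obtain ⟨S₀, hS₀, hrk, halt⟩ := Cfsg.Agent.S2593.exists_alt (F := F) k j (by omega)
      have hS0 : extM S₀ ≠ 0 := by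
        intro h0
        have := extM_rank S₀
        rw [h0, Matrix.rank_zero, hrk] at this
        omega
      have hpres : ∀ v, QMs k c ((uS (extM S₀) (extM_transpose S₀ hS₀)).1 *ᵥ v) = QMs k c v :=
        fun v => QMs_uMat c S₀ halt v
      refine ⟨ofSp (uS (extM S₀) (extM_transpose S₀ hS₀)) hpres, ?_, ?_⟩
      · rw [← hord, toSpQ_ofSp]
        exact Cfsg.Agent.S2593.orderOf_uS _ _ hS0
      · rw [toSpQ_ofSp, hinv_uS, extM_rank, hrk]
        congr 1
        rw [decide_eq_true_iff]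
        exact extM_alt S₀ halt
  -- the bijection
  have hchoose : ∀ C : {C : ConjClasses ↥(Cfsg.isometryGroup F ⇑(QMs k c)) //
      ∃ g : ↥(Cfsg.isometryGroup F ⇑(QMs k c)), ConjClasses.mk g = C ∧ orderOf g = 2},
      ∃ g : ↥(Cfsg.isometryGroup F ⇑(QMs k c)), ConjClasses.mk g = C.1 ∧ orderOf g = 2 :=
    fun C => C.2
  choose rep hrep1 hrep2 using hchoose
  have hbij : Function.Bijective (fun C : {C : ConjClasses ↥(Cfsg.isometryGroup F ⇑(QMs k c)) //
      ∃ g : ↥(Cfsg.isometryGroup F ⇑(QMs k c)), ConjClasses.mk g = C ∧ orderOf g = 2} =>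
      (⟨inv (toSpQ hP (rep C)), hinv_mem _ (hrep2 C)⟩ : T)) := by
    constructor
    · intro C C' h
      have h1 : inv (toSpQ hP (rep C)) = inv (toSpQ hP (rep C')) := congrArg Subtype.val h
      have h2 := hinv_inj _ _ (hrep2 C) (hrep2 C') h1
      apply Subtype.ext
      rw [← hrep1 C, ← hrep1 C']
      exact ConjClasses.mk_eq_mk_iff_isConj.2 h2
    · rintro ⟨p, hp⟩
      obtain ⟨g, hg, hgp⟩ := hinv_surj p hp
      refine ⟨⟨ConjClasses.mk g, g, rfl, hg⟩, ?_⟩
      apply Subtype.ext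
      show inv (toSpQ hP (rep ⟨ConjClasses.mk g, g, rfl, hg⟩)) = p
      have h1 := hrep1 ⟨ConjClasses.mk g, g, rfl, hg⟩
      have h2 : IsConj (rep ⟨ConjClasses.mk g, g, rfl, hg⟩) g :=
        ConjClasses.mk_eq_mk_iff_isConj.1 h1
      rw [isConj_iff] at h2
      obtain ⟨c', hc'⟩ := h2
      rw [← hgp]
      have h3 := congrArg (fun x => inv (toSpQ hP x)) hc'
      simp only [map_mul, map_inv, hinv_conj] at h3
      exact h3
  rw [Nat.card_congr (Equiv.ofBijective _ hbij), Nat.card_eq_fintype_card, Fintype.card_coe, hTcard]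



/-- Number of conjugacy classes of involutions in the full orthogonal group O⁻_2m(F) of an elliptic quadratic form (Σ_(i<m−1) x_i y_i plus an anisotropic binary form) over a finite field of characteristic two (m ≥ 1): one class for each odd s ≤ m, two for each even s with 2 ≤ s < m and one for s = m when m is even, where s = rank(t − 1); in all m + ⌊(m − 1)/2⌋. -/
theorem result {F : Type*} [Field F] [Fintype F] [CharP F 2] {m : ℕ} (hm : 1 ≤ m) (a b : F) (hab : ∀ z₁ z₂ : F, z₁ ^ 2 + a * z₁ * z₂ + b * z₂ ^ 2 = 0 → z₁ = 0 ∧ z₂ = 0) : Nat.card {C : ConjClasses ↥(Cfsg.isometryGroup F (Cfsg.quadFormMinus (m - 1) F a b)) // ∃ g : ↥(Cfsg.isometryGroup F (Cfsg.quadFormMinus (m - 1) F a b)), ConjClasses.mk g = C ∧ orderOf g = 2} = m + (m - 1) / 2 := by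
  classical
  obtain ⟨k, rfl⟩ : ∃ k, m = k + 1 := ⟨m - 1, by omega⟩
  have ha : a ≠ 0 := by
    rintro rfl
    obtain ⟨r, hr⟩ := FiniteField.isSquare_of_char_two (ringChar.eq F 2) b
    have := hab r 1 (by
      rw [zero_mul, zero_mul, add_zero, one_pow, mul_one, sq, ← hr]
      exact CharTwo.add_self_eq_zero _)
    exact one_ne_zero this.2
  show Nat.card {C : ConjClasses ↥(Cfsg.isometryGroup F (Cfsg.quadFormMinus k F a b)) //
    ∃ g : ↥(Cfsg.isometryGroup F (Cfsg.quadFormMinus k F a b)), ConjClasses.mk g = C ∧ orderOf g = 2} =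
    k + 1 + k / 2
  rw [card_inv_classes_congr (isoEquiv (Cfsg.quadFormMinus k F a b) (⇑(QMs k (b * a⁻¹ ^ 2)))
    (phi k a ha) (QMs_phi a b ha))]
  exact count_QMs k a b hab ha


end Cfsg.Agent.S2596
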