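import Cfsg.Statements.S2597
import Cfsg.Agent.Lib.Helper5.O2SpCount

set_option autoImplicit false
open Cfsg

namespace Cfsg.Agent.S2597


open Matrix Module Cfsg.Agent.Lib.Helper2.Symp Cfsg.Agent.Lib.Helper1.SpBasic
  Cfsg.Agent.Lib.Helper5.SpInv2 Cfsg.Agent.Lib.Helper5.InvConj Cfsg.Agent.Lib.Helper2.QuadStd
  Cfsg.Agent.Lib.Helper5.QuadGlue Cfsg.Agent.Lib.Helper5.O2Sp Cfsg.Agent.Lib.Helper5.O2SpCount
  Cfsg.Agent.S2595

variable {F : Type*} [Field F] {m : ℕ}

theorem QP_polSymp [CharP F 2] : PolSymp (QP m F) := by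
  intro u v
  rw [QP_apply, QP_apply, QP_apply]
  exact polar_eq_symp u v

/-- the invariants of involutions of `O⁺` -/
def Tplus (m : ℕ) : Finset (ℕ × Bool) :=
  ((Finset.Icc 1 m).image (fun s => (s, false))) ∪
    (((Finset.Icc 1 m).filter (fun s => 2 ∣ s)).image (fun s => (s, true)))

theorem mem_Tplus (p : ℕ × Bool) :
    p ∈ Tplus m ↔ (1 ≤ p.1 ∧ p.1 ≤ m ∧ (p.2 = true → 2 ∣ p.1)) := by
  obtain ⟨s, b⟩ := p
  unfold Tplus
  simp only [Finset.mem_union, Finset.mem_image, Finset.mem_Icc, Finset.mem_filter, Prod.mk.injEq]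
  constructor
  · rintro (⟨s', ⟨h1, h2⟩, rfl, rfl⟩ | ⟨s', ⟨⟨h1, h2⟩, h3⟩, rfl, rfl⟩)
    · exact ⟨h1, h2, fun h => absurd h (by simp)⟩
    · exact ⟨h1, h2, fun _ => h3⟩
  · rintro ⟨h1, h2, h3⟩
    cases b
    · left; exact ⟨s, ⟨h1, h2⟩, rfl, rfl⟩
    · right; exact ⟨s, ⟨⟨h1, h2⟩, h3 rfl⟩, rfl, rfl⟩

theorem plus_hT1 [Fintype F] [CharP F 2] (g : ↥(Cfsg.isometryGroup F ⇑(QP m F)))
    (hg : orderOf g = 2) : invQ QP_polSymp g ∈ Tplus m := by
  rw [mem_Tplus]
  exact invQ_basic QP_polSymp g hg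

theorem plus_hT2 [Fintype F] [CharP F 2] (p : ℕ × Bool) (hp : p ∈ Tplus m) :
    ∃ g : ↥(Cfsg.isometryGroup F ⇑(QP m F)), orderOf g = 2 ∧ invQ QP_polSymp g = p := by
  classical
  obtain ⟨s, b⟩ := p
  rw [mem_Tplus] at hp
  obtain ⟨h1, h2, h3⟩ := hp
  cases b
  · have hD0 : dMatS m s F ≠ 0 := by
      intro h0
      have := dMatS_rank (F := F) s h2
      rw [h0, Matrix.rank_zero] at this
      omega
    have hc : ∀ v, QP m F ((lS m F * uS (dMatS m s F) (dMatS_transpose s) * (lS m F)⁻¹).1 *ᵥ v) =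
        QP m F v := by
      intro v
      rw [QP_apply, QP_apply]
      exact Q_tauS s v
    refine ⟨ofSp _ hc, orderOf_ofSp_conj_uS QP_polSymp _ _ _ hD0 hc, ?_⟩
    rw [invQ_ofSp_conj_uS, dMatS_rank s h2]
    congr 1
    exact @decide_eq_false _ (Classical.dec _) (dMatS_nonalt s h1 h2)
  · obtain ⟨j, rfl⟩ := h3 rfl
    obtain ⟨S, hS, hrk, halt⟩ := Cfsg.Agent.S2593.exists_alt (F := F) m j h2
    have hS0 : S ≠ 0 := by
      intro h0
      rw [h0, Matrix.rank_zero] at hrk
      omega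
    have hc : ∀ v, QP m F ((uS S hS).1 *ᵥ v) = QP m F v := by
      intro v
      rw [QP_apply, QP_apply]
      show Cfsg.quadFormPlus m F (uMat S *ᵥ v) = _
      rw [Q_uMat, halt, add_zero]
    refine ⟨ofSp _ hc, orderOf_ofSp_uS QP_polSymp S hS hS0 hc, ?_⟩
    rw [invQ_ofSp_uS, hrk]
    congr 1
    exact @decide_eq_true _ (Classical.dec _) halt

theorem card_filter_even (m : ℕ) : ((Tplus m).filter (fun p => 2 ∣ p.1)).card = 2 * (m / 2) := by
  have h1 : (Tplus m).filter (fun p => 2 ∣ p.1) =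
      (((Finset.Icc 1 m).filter (fun s => 2 ∣ s)).image (fun s => (s, false))) ∪
      (((Finset.Icc 1 m).filter (fun s => 2 ∣ s)).image (fun s => (s, true))) := by
    ext ⟨s, b⟩
    simp only [Finset.mem_filter, mem_Tplus, Finset.mem_union, Finset.mem_image, Finset.mem_Icc,
      Prod.mk.injEq]
    constructor
    · rintro ⟨⟨h1, h2, h3⟩, h4⟩
      cases b
      · left; exact ⟨s, ⟨⟨h1, h2⟩, h4⟩, rfl, rfl⟩
      · right; exact ⟨s, ⟨⟨h1, h2⟩, h4⟩, rfl, rfl⟩
    · rintro (⟨s', ⟨⟨h1, h2⟩, h3⟩, rfl, rfl⟩ | ⟨s', ⟨⟨h1, h2⟩, h3⟩, rfl, rfl⟩)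
      · exact ⟨⟨h1, h2, fun _ => h3⟩, h3⟩
      · exact ⟨⟨h1, h2, fun _ => h3⟩, h3⟩
  rw [h1, Finset.card_union_of_disjoint, Finset.card_image_of_injective,
    Finset.card_image_of_injective]
  · have : Finset.Icc 1 m = Finset.Ioc 0 m := by
      ext x; simp only [Finset.mem_Icc, Finset.mem_Ioc]; omega
    rw [this, Nat.Ioc_filter_dvd_card_eq_div]
    ring
  · intro a b h; exact (Prod.mk.inj h).1
  · intro a b h; exact (Prod.mk.inj h).1
  · rw [Finset.disjoint_left]
    intro p hp1 hp2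
    obtain ⟨s, -, rfl⟩ := Finset.mem_image.1 hp1
    obtain ⟨s', -, h⟩ := Finset.mem_image.1 hp2
    exact absurd (Prod.mk.inj h).2 (by simp)

theorem card_filter_top (m : ℕ) (hm : 1 ≤ m) :
    ((Tplus m).filter (fun p => p = (m, true))).card = if Even m then 1 else 0 := by
  split_ifs with h
  · have : (Tplus m).filter (fun p => p = (m, true)) = {(m, true)} := by
      ext p
      simp only [Finset.mem_filter, Finset.mem_singleton, mem_Tplus]
      constructor
      · exact fun h => h.2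
      · rintro rfl
        exact ⟨⟨hm, le_rfl, fun _ => even_iff_two_dvd.1 h⟩, rfl⟩
    rw [this, Finset.card_singleton]
  · have : (Tplus m).filter (fun p => p = (m, true)) = ∅ := by
      ext p
      simp only [Finset.mem_filter, mem_Tplus, Finset.notMem_empty, iff_false]
      rintro ⟨⟨-, -, h3⟩, rfl⟩
      exact h (even_iff_two_dvd.2 (h3 rfl))
    rw [this, Finset.card_empty]



/-- Number of conjugacy classes of involutions in Ω⁺_2m(F) (the commutator subgroup of the orthogonal group of Σ x_i y_i) over a finite field F of characteristic two, m ≥ 1, excluding the case m = 2 over the field of two elements: the involutions of Ω are those with s = rank(t − 1) even, giving two O-classes for each even s with 2 ≤ s ≤ m, each of which is a single Ω-class except that for m even the class with s = m and v ↦ f(v, tv) identically zero splits in two; in all 2⌊m/2⌋ + 1 classes if m is even and 2⌊m/2⌋ if m is odd. -/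
theorem result {F : Type*} [Field F] [Fintype F] [CharP F 2] {m : ℕ} (hm : 1 ≤ m) (h : Fintype.card F ≠ 2 ∨ m ≠ 2) : Nat.card {C : ConjClasses ↥(Cfsg.Omega F (Cfsg.quadFormPlus m F)) // ∃ g : ↥(Cfsg.Omega F (Cfsg.quadFormPlus m F)), ConjClasses.mk g = C ∧ orderOf g = 2} = 2 * (m / 2) + (if Even m then 1 else 0) := by
  have key := card_Omega_classes (QP_polSymp (F := F) (m := m)) hm h (Tplus m) plus_hT1 plus_hT2
  rw [card_filter_even, card_filter_top m hm, QP_coe] at key
  exact key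


end Cfsg.Agent.S2597
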