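import Cfsg.Statements.S2598
import Cfsg.Agent.Lib.Helper5.O2SpCount
import Cfsg.Agent.S2596
import Cfsg.Agent.Lib.Helper2.EquivComm
import Cfsg.Agent.Lib.Helper2.O4m2c
import Cfsg.Agent.Lib.Helper7.A5Orders

set_option autoImplicit false
open Cfsg

namespace Cfsg.Agent.S2598


open Matrix Module Cfsg.Agent.Lib.Helper2.Symp Cfsg.Agent.Lib.Helper1.SpBasic
  Cfsg.Agent.Lib.Helper5.SpInv2 Cfsg.Agent.Lib.Helper5.InvConj Cfsg.Agent.Lib.Helper2.QuadStd
  Cfsg.Agent.Lib.Helper5.QuadGlue Cfsg.Agent.Lib.Helper5.O2Sp Cfsg.Agent.Lib.Helper5.O2SpCount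
  Cfsg.Agent.Lib.Helper5.IsoTransfer Cfsg.Agent.Lib.Helper5.ClassCount
  Cfsg.Agent.S2595 Cfsg.Agent.S2596 Cfsg.Agent.Lib.Helper7

section A5

set_option maxRecDepth 1000000 in
theorem a5_inv_conj : ∀ σ : alternatingGroup (Fin 5), σ ^ 2 = 1 → σ = 1 ∨
    ∃ x : alternatingGroup (Fin 5), x * a5c2 * x⁻¹ = σ := by
  decide

theorem a5_count : Nat.card {C : ConjClasses (alternatingGroup (Fin 5)) //
    ∃ g : alternatingGroup (Fin 5), ConjClasses.mk g = C ∧ orderOf g = 2} = 1 := by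
  have hc : ∀ g : alternatingGroup (Fin 5), orderOf g = 2 → IsConj a5c2 g := by
    intro g hg
    have h2 : g ^ 2 = 1 := by rw [← hg]; exact pow_orderOf_eq_one g
    rcases a5_inv_conj g h2 with h1 | ⟨x, hx⟩
    · rw [h1, orderOf_one] at hg; omega
    · exact isConj_iff.2 ⟨x, hx⟩
  have := card_classes_of_invariant (G := alternatingGroup (Fin 5)) (fun g => orderOf g = 2)
    (fun _ => ()) {()}
    (fun g h hg hh => ⟨fun _ => rfl, fun _ => (hc g hg).symm.trans (hc h hh)⟩)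
    (fun _ _ => Finset.mem_singleton_self _)
    (fun p _ => ⟨a5c2, orderOf_a5c2, rfl⟩)
  rw [this, Finset.card_singleton]

end A5

variable {F : Type*} [Field F] {k : ℕ}

/-- the invariants of involutions of `O⁻` -/
def Tminus (k : ℕ) : Finset (ℕ × Bool) :=
  ((Finset.Icc 1 (k + 1)).image (fun s => (s, false))) ∪
    (((Finset.Icc 1 k).filter (fun s => 2 ∣ s)).image (fun s => (s, true)))

theorem mem_Tminus (p : ℕ × Bool) :
    p ∈ Tminus k ↔ (1 ≤ p.1 ∧ p.1 ≤ k + 1 ∧ (p.2 = true → 2 ∣ p.1 ∧ p.1 ≤ k)) := by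
  obtain ⟨s, b⟩ := p
  unfold Tminus
  simp only [Finset.mem_union, Finset.mem_image, Finset.mem_Icc, Finset.mem_filter, Prod.mk.injEq]
  constructor
  · rintro (⟨s', ⟨h1, h2⟩, rfl, rfl⟩ | ⟨s', ⟨⟨h1, h2⟩, h3⟩, rfl, rfl⟩)
    · exact ⟨h1, h2, fun h => absurd h (by simp)⟩
    · exact ⟨h1, by omega, fun _ => ⟨h3, h2⟩⟩
  · rintro ⟨h1, h2, h3⟩
    cases b
    · left; exact ⟨s, ⟨h1, h2⟩, rfl, rfl⟩
    · right; exact ⟨s, ⟨⟨h1, (h3 rfl).2⟩, (h3 rfl).1⟩, rfl, rfl⟩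

theorem minus_hT1 [Fintype F] [CharP F 2] (a b : F)
    (hab : ∀ z₁ z₂ : F, z₁ ^ 2 + a * z₁ * z₂ + b * z₂ ^ 2 = 0 → z₁ = 0 ∧ z₂ = 0) (ha : a ≠ 0)
    (g : ↥(Cfsg.isometryGroup F ⇑(QMs k (b * a⁻¹ ^ 2)))) (hg : orderOf g = 2) :
    invQ (QMs_polSymp (b * a⁻¹ ^ 2)) g ∈ Tminus k := by
  rw [mem_Tminus]
  obtain ⟨h1, h2, h3⟩ := invQ_basic (QMs_polSymp (b * a⁻¹ ^ 2)) g hg
  refine ⟨h1, h2, fun hb => ⟨h3 hb, ?_⟩⟩
  have halt : IsAltInv (toSpQ (QMs_polSymp (b * a⁻¹ ^ 2)) g) := by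
    have : @decide (IsAltInv (toSpQ (QMs_polSymp (b * a⁻¹ ^ 2)) g)) (Classical.dec _) = true := hb
    exact @of_decide_eq_true _ (Classical.dec _) this
  show (((g : Matrix.GeneralLinearGroup (Fin (k + 1) ⊕ Fin (k + 1)) F) :
    Matrix (Fin (k + 1) ⊕ Fin (k + 1)) (Fin (k + 1) ⊕ Fin (k + 1)) F) - 1).rank ≤ k
  apply finrank_le_of_ts a b hab ha
  rintro _ ⟨v, rfl⟩
  exact Q_sub_of_alt (QMs_polSymp (b * a⁻¹ ^ 2)) g halt v

theorem minus_hT2 [Fintype F] [CharP F 2] (c : F) (p : ℕ × Bool) (hp : p ∈ Tminus k) :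
    ∃ g : ↥(Cfsg.isometryGroup F ⇑(QMs k c)), orderOf g = 2 ∧ invQ (QMs_polSymp c) g = p := by
  classical
  obtain ⟨s, b⟩ := p
  rw [mem_Tminus] at hp
  obtain ⟨h1, h2, h3⟩ := hp
  cases b
  · have hD0 : dMatS (k + 1) s F ≠ 0 := by
      intro h0
      have := dMatS_rank (F := F) s h2
      rw [h0, Matrix.rank_zero] at this
      omega
    have hc : ∀ v, QMs k c ((lSD (dMatS (k + 1) k F) (dMatS_transpose k) *
        uS (dMatS (k + 1) s F) (dMatS_transpose s) *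
        (lSD (dMatS (k + 1) k F) (dMatS_transpose k))⁻¹).1 *ᵥ v) = QMs k c v :=
      fun v => QMs_tauM c s v
    refine ⟨ofSp _ hc, orderOf_ofSp_conj_uS (QMs_polSymp c) _ _ _ hD0 hc, ?_⟩
    rw [invQ_ofSp_conj_uS, dMatS_rank s h2]
    congr 1
    exact @decide_eq_false _ (Classical.dec _) (dMatS_nonalt s h1 h2)
  · obtain ⟨⟨j, rfl⟩, h4⟩ := h3 rfl
    obtain ⟨S₀, hS₀, hrk, halt⟩ := Cfsg.Agent.S2593.exists_alt (F := F) k j (by omega)
    have hS0 : extM S₀ ≠ 0 := by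
      intro h0
      have := extM_rank S₀
      rw [h0, Matrix.rank_zero, hrk] at this
      omega
    have hc : ∀ v, QMs k c ((uS (extM S₀) (extM_transpose S₀ hS₀)).1 *ᵥ v) = QMs k c v :=
      fun v => QMs_uMat c S₀ halt v
    refine ⟨ofSp _ hc, orderOf_ofSp_uS (QMs_polSymp c) _ _ hS0 hc, ?_⟩
    rw [invQ_ofSp_uS, extM_rank, hrk]
    congr 1
    exact @decide_eq_true _ (Classical.dec _) (extM_alt S₀ halt)

theorem card_filter_even (k : ℕ) :
    ((Tminus k).filter (fun p => 2 ∣ p.1)).card = (k + 1) / 2 + k / 2 := by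
  have h1 : (Tminus k).filter (fun p => 2 ∣ p.1) =
      (((Finset.Icc 1 (k + 1)).filter (fun s => 2 ∣ s)).image (fun s => (s, false))) ∪
      (((Finset.Icc 1 k).filter (fun s => 2 ∣ s)).image (fun s => (s, true))) := by
    ext ⟨s, b⟩
    simp only [Finset.mem_filter, mem_Tminus, Finset.mem_union, Finset.mem_image, Finset.mem_Icc,
      Prod.mk.injEq]
    constructor
    · rintro ⟨⟨h1, h2, h3⟩, h4⟩
      cases b
      · left; exact ⟨s, ⟨⟨h1, h2⟩, h4⟩, rfl, rfl⟩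
      · right; exact ⟨s, ⟨⟨h1, (h3 rfl).2⟩, h4⟩, rfl, rfl⟩
    · rintro (⟨s', ⟨⟨h1, h2⟩, h3⟩, rfl, rfl⟩ | ⟨s', ⟨⟨h1, h2⟩, h3⟩, rfl, rfl⟩)
      · exact ⟨⟨h1, h2, fun h => absurd h (by simp)⟩, h3⟩
      · exact ⟨⟨h1, by omega, fun _ => ⟨h3, h2⟩⟩, h3⟩
  rw [h1, Finset.card_union_of_disjoint, Finset.card_image_of_injective,
    Finset.card_image_of_injective]
  · have e1 : ∀ n, Finset.Icc 1 n = Finset.Ioc 0 n := by
      intro n; ext x; simp only [Finset.mem_Icc, Finset.mem_Ioc]; omega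
    rw [e1, e1, Nat.Ioc_filter_dvd_card_eq_div, Nat.Ioc_filter_dvd_card_eq_div]
  · intro a b h; exact (Prod.mk.inj h).1
  · intro a b h; exact (Prod.mk.inj h).1
  · rw [Finset.disjoint_left]
    intro p hp1 hp2
    obtain ⟨s, -, rfl⟩ := Finset.mem_image.1 hp1
    obtain ⟨s', -, h⟩ := Finset.mem_image.1 hp2
    exact absurd (Prod.mk.inj h).2 (by simp)

theorem card_filter_top (k : ℕ) : ((Tminus k).filter (fun p => p = (k + 1, true))).card = 0 := by
  rw [Finset.card_eq_zero]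
  ext p
  simp only [Finset.mem_filter, mem_Tminus, Finset.notMem_empty, iff_false]
  rintro ⟨⟨-, -, h3⟩, rfl⟩
  have := (h3 rfl).2
  simp at this

theorem card_congr_equiv {G H : Type*} [Group G] [Group H] (e : G ≃* H) :
    Nat.card {C : ConjClasses G // ∃ g : G, ConjClasses.mk g = C ∧ orderOf g = 2} =
    Nat.card {C : ConjClasses H // ∃ g : H, ConjClasses.mk g = C ∧ orderOf g = 2} :=
  card_inv_classes_congr e



/-- Number of conjugacy classes of involutions in Ω⁻_2m(F) (the commutator subgroup of the orthogonal group of an elliptic quadratic form, Σ_(i<m−1) x_i y_i plus an anisotropic binary form) over a finite field F of characteristic two, m ≥ 1: the involutions of Ω are those with s = rank(t − 1) even, one O-class for each even s with 2 ≤ s ≤ m on which v ↦ f(v, tv) is not identically zero and one for each even s with 2 ≤ s < m on which it is zero (f the polar form; in characteristic 2, f(v,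 tv) = Q(v + tv)), none of which splits in Ω; in all ⌊m/2⌋ + ⌊(m − 1)/2⌋. -/
theorem result {F : Type*} [Field F] [Fintype F] [CharP F 2] {m : ℕ} (hm : 1 ≤ m) (a b : F) (hab : ∀ z₁ z₂ : F, z₁ ^ 2 + a * z₁ * z₂ + b * z₂ ^ 2 = 0 → z₁ = 0 ∧ z₂ = 0) : Nat.card {C : ConjClasses ↥(Cfsg.Omega F (Cfsg.quadFormMinus (m - 1) F a b)) // ∃ g : ↥(Cfsg.Omega F (Cfsg.quadFormMinus (m - 1) F a b)), ConjClasses.mk g = C ∧ orderOf g = 2} = m / 2 + (m - 1) / 2 := by
  classical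
  obtain ⟨k, rfl⟩ : ∃ k, m = k + 1 := ⟨m - 1, by omega⟩
  have ha : a ≠ 0 := by
    rintro rfl
    obtain ⟨r, hr⟩ := FiniteField.isSquare_of_char_two (ringChar.eq F 2) b
    have := hab r 1 (by
      rw [zero_mul, zero_mul, add_zero, one_pow, mul_one, sq, ← hr]
      exact CharTwo.add_self_eq_zero _)
    exact one_ne_zero this.2
  show Nat.card {C : ConjClasses ↥(Cfsg.Omega F (Cfsg.quadFormMinus k F a b)) //
    ∃ g : ↥(Cfsg.Omega F (Cfsg.quadFormMinus k F a b)), ConjClasses.mk g = C ∧ orderOf g = 2} =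
    (k + 1) / 2 + k / 2
  by_cases hex : Fintype.card F ≠ 2 ∨ k + 1 ≠ 2
  · have e := isoEquiv (Cfsg.quadFormMinus k F a b) (⇑(QMs k (b * a⁻¹ ^ 2)))
      (phi k a ha) (QMs_phi a b ha)
    have e' : ↥(Cfsg.Omega F (Cfsg.quadFormMinus k F a b)) ≃*
        ↥(Cfsg.Omega F ⇑(QMs k (b * a⁻¹ ^ 2))) :=
      Cfsg.Agent.Lib.Helper2.EquivComm.commutatorEquiv e
    rw [card_congr_equiv e']
    have key := card_Omega_classes (QMs_polSymp (F := F) (k := k) (b * a⁻¹ ^ 2)) (by omega) hex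
      (Tminus k) (minus_hT1 a b hab ha) (minus_hT2 (b * a⁻¹ ^ 2))
    rw [card_filter_even, card_filter_top, add_zero] at key
    exact key
  · push Not at hex
    obtain ⟨hF, hk⟩ := hex
    obtain rfl : k = 1 := by omega
    have ha1 : a = 1 := Cfsg.Agent.Lib.Helper2.O4m2.eq_one_of_ne_zero hF ha
    have hb1 : b = 1 := by
      apply Cfsg.Agent.Lib.Helper2.O4m2.eq_one_of_ne_zero hF
      rintro rfl
      have := hab 0 1 (by ring)
      exact one_ne_zero this.2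
    subst ha1 hb1
    obtain ⟨e⟩ := Cfsg.Agent.Lib.Helper2.O4m2.nonempty_mulEquiv (F := F) hF
    rw [← QM_coe]
    have e1 : ↥(Cfsg.Omega F ⇑(QM 1 F 1 1)) ≃* ↥(commutator (Equiv.Perm (Fin 5))) :=
      Cfsg.Agent.Lib.Helper2.EquivComm.commutatorEquiv e
    have h5 : 5 ≤ Nat.card (Fin 5) := by simp
    have e2 : ↥(commutator (Equiv.Perm (Fin 5))) ≃* ↥(alternatingGroup (Fin 5)) :=
      MulEquiv.subgroupCongr (alternatingGroup.commutator_perm_eq h5)
    rw [card_congr_equiv (e1.trans e2), a5_count]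


end Cfsg.Agent.S2598
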