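import Mathlib
import Cfsg.Statements.S2599

set_option autoImplicit false
open Cfsg

namespace Cfsg.Agent.S2599

open Module

theorem result {F : Type*} [Field F] [Fintype F] {p : ℕ} [Fact p.Prime] [CharP F p] {n : ℕ} (Q : QuadraticForm F (Fin n → F)) (hQ : (QuadraticMap.polarBilin Q).Nondegenerate) (x : ↥(Cfsg.isometryGroup F ⇑Q)) (hx : (orderOf x).Coprime p) (U : Submodule F (Fin n → F)) (hU0 : U ≠ ⊥) (hUx : ∀ u ∈ U, ((x : Matrix.GeneralLinearGroup (Fin n) F) : Matrix (Fin n) (Fin n) F).mulVec u ∈ U) (hirr : ∀ W : Submodule F (Fin n → F), W ≤ U → (∀ w ∈ W, ((x : Matrix.GeneralLinearGroup (Fin n) F) : Matrix (Fin n) (Fin n) F).mulVec w ∈ W) → W = ⊥ ∨ W = U) : U ⊓ LinearMap.BilinForm.orthogonal (QuadraticMap.polarBilin Q) U = ⊥ ∨ (∀ u ∈ U, Q u = 0) ∨ (p = 2 ∧ Module.finrank F U = 1 ∧ (∃ u ∈ U, Q u ≠ 0) ∧ ∀ u ∈ U, ((x : Matrix.GeneralLinearGroup (Fin n) F) : Matrix (Fin n) (Fin n) F).mulVec u = u) := by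
  classical
  set M : Matrix (Fin n) (Fin n) F := ((x : Matrix.GeneralLinearGroup (Fin n) F) : Matrix (Fin n) (Fin n) F) with hM
  set B := QuadraticMap.polarBilin Q with hB
  have hQx : ∀ v, Q (M.mulVec v) = Q v := fun v => x.2 v v
  have hBdef : ∀ u v, B u v = Q (u + v) - Q u - Q v := fun u v => rfl
  have hBx : ∀ u v, B (M.mulVec u) (M.mulVec v) = B u v := by
    intro u v
    rw [hBdef, hBdef, ← Matrix.mulVec_add, hQx, hQx, hQx]
  -- x maps U onto U
  set φ : (Fin n → F) →ₗ[F] (Fin n → F) := M.mulVecLin with hφ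
  have hφinj : Function.Injective φ := by
    have hinv : ((x : Matrix.GeneralLinearGroup (Fin n) F)⁻¹ : Matrix.GeneralLinearGroup (Fin n) F).val * M = 1 := by
      rw [hM, ← Units.val_mul, inv_mul_cancel, Units.val_one]
    intro u v huv
    have := congrArg (((x : Matrix.GeneralLinearGroup (Fin n) F)⁻¹ :
      Matrix.GeneralLinearGroup (Fin n) F).val.mulVec) huv
    simp only [hφ, Matrix.mulVecLin_apply, Matrix.mulVec_mulVec, hinv, Matrix.one_mulVec] at this
    exact this
  have hmapU : U.map φ = U := by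
    apply Submodule.eq_of_le_of_finrank_eq
    · rintro _ ⟨u, hu, rfl⟩
      exact hUx u hu
    · exact (LinearEquiv.finrank_eq (Submodule.equivMapOfInjective φ hφinj U)).symm
  -- the radical of U
  have hWinv : ∀ w ∈ U ⊓ LinearMap.BilinForm.orthogonal B U, M.mulVec w ∈ U ⊓ LinearMap.BilinForm.orthogonal B U := by
    rintro w ⟨hwU, hwO⟩
    have hwO' : w ∈ LinearMap.BilinForm.orthogonal B U := hwO
    refine ⟨hUx w hwU, ?_⟩
    show M.mulVec w ∈ LinearMap.BilinForm.orthogonal B U
    rw [LinearMap.BilinForm.mem_orthogonal_iff]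
    intro m hm
    rw [← hmapU] at hm
    obtain ⟨m', hm', rfl⟩ := hm
    show B (M.mulVec m') (M.mulVec w) = 0
    rw [hBx]
    exact (LinearMap.BilinForm.mem_orthogonal_iff.1 hwO') m' hm'
  rcases hirr (U ⊓ LinearMap.BilinForm.orthogonal B U) inf_le_left hWinv with h0 | h1
  · left; exact h0
  right
  -- U is totally isotropic
  have hiso : ∀ u ∈ U, ∀ v ∈ U, B u v = 0 := by
    intro u hu v hv
    have : v ∈ U ⊓ LinearMap.BilinForm.orthogonal B U := by rw [h1]; exact hv
    exact (LinearMap.BilinForm.mem_orthogonal_iff.1 this.2) u hu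
  have hadd : ∀ u ∈ U, ∀ v ∈ U, Q (u + v) = Q u + Q v := by
    intro u hu v hv
    have := hiso u hu v hv
    rw [hBdef] at this
    linear_combination this
  -- the singular vectors of U
  let U₀ : Submodule F (Fin n → F) :=
    { carrier := {u | u ∈ U ∧ Q u = 0}
      add_mem' := by
        rintro u v ⟨hu, hu0⟩ ⟨hv, hv0⟩
        exact ⟨U.add_mem hu hv, by rw [hadd u hu v hv, hu0, hv0, add_zero]⟩
      zero_mem' := ⟨U.zero_mem, by simp⟩
      smul_mem' := by
        rintro c u ⟨hu, hu0⟩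
        exact ⟨U.smul_mem c hu, by rw [QuadraticMap.map_smul, hu0, smul_zero]⟩ }
  have hU₀U : U₀ ≤ U := fun u hu => hu.1
  have hU₀inv : ∀ w ∈ U₀, M.mulVec w ∈ U₀ := by
    rintro w ⟨hw, hw0⟩
    exact ⟨hUx w hw, by rw [hQx, hw0]⟩
  rcases hirr U₀ hU₀U hU₀inv with h0 | h1
  swap
  · left
    intro u hu
    have : u ∈ U₀ := by rw [h1]; exact hu
    exact this.2
  right
  -- Q is injective on U
  have hQinj : ∀ u ∈ U, Q u = 0 → u = 0 := by
    intro u hu hu0
    have : u ∈ U₀ := ⟨hu, hu0⟩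
    rw [h0] at this
    exact this
  obtain ⟨u₀, hu₀U, hu₀⟩ : ∃ u ∈ U, u ≠ 0 := by
    by_contra hcon
    push Not at hcon
    exact hU0 ((Submodule.eq_bot_iff U).2 hcon)
  have hQu₀ : Q u₀ ≠ 0 := fun h => hu₀ (hQinj u₀ hu₀U h)
  -- p = 2
  have h2 : (2 : F) = 0 := by
    have h3 := hiso u₀ hu₀U u₀ hu₀U
    rw [hBdef] at h3
    have h4 : Q (u₀ + u₀) = 4 * Q u₀ := by
      have : u₀ + u₀ = (2 : F) • u₀ := by rw [two_smul]
      rw [this, QuadraticMap.map_smul]
      simp only [smul_eq_mul]; ring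
    rw [h4] at h3
    have h5 : (2 : F) * Q u₀ = 0 := by linear_combination h3
    rcases mul_eq_zero.1 h5 with h | h
    · exact h
    · exact absurd h hQu₀
  have hp2 : p = 2 := by
    have : ((2 : ℕ) : F) = 0 := by exact_mod_cast h2
    rw [CharP.cast_eq_zero_iff F p] at this
    exact (Nat.prime_dvd_prime_iff_eq (Fact.out : p.Prime) Nat.prime_two).1 this
  subst hp2
  refine ⟨rfl, ?_, ⟨u₀, hu₀U, hQu₀⟩, ?_⟩
  · -- dimension one
    let ψ : U →ₗ[F] F :=
      { toFun := fun u => (frobeniusEquiv F 2).symm (Q u)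
        map_add' := by
          intro u v
          show (frobeniusEquiv F 2).symm (Q ((u : Fin n → F) + (v : Fin n → F))) = _
          rw [hadd u u.2 v v.2, map_add]
        map_smul' := by
          intro c u
          show (frobeniusEquiv F 2).symm (Q (c • (u : Fin n → F))) = _
          rw [QuadraticMap.map_smul, smul_eq_mul, map_mul, RingHom.id_apply, smul_eq_mul]
          congr 1
          have : c * c = frobenius F 2 c := by rw [frobenius_def, pow_two]
          rw [this]
          exact frobeniusEquiv_symm_apply_frobenius F 2 c }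
    have hψinj : Function.Injective ψ := by
      rw [← LinearMap.ker_eq_bot, LinearMap.ker_eq_bot']
      intro u hu
      have h3 : (frobeniusEquiv F 2).symm (Q u) = 0 := hu
      have h4 : Q (u : Fin n → F) = 0 := by
        have := (frobeniusEquiv F 2).symm.injective (h3.trans (map_zero _).symm)
        exact this
      exact Subtype.ext (hQinj u u.2 h4)
    have hle : finrank F U ≤ 1 := by
      have := LinearMap.finrank_le_finrank_of_injective hψinj
      rwa [Module.finrank_self] at this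
    have hpos : 0 < finrank F U := by
      rw [Module.finrank_pos_iff_exists_ne_zero]
      exact ⟨⟨u₀, hu₀U⟩, fun h => hu₀ (congrArg Subtype.val h)⟩
    omega
  · -- x fixes U pointwise
    intro u hu
    have h3 : Q (M.mulVec u + u) = 0 := by
      rw [hadd _ (hUx u hu) u hu, hQx]
      exact CharTwo.add_self_eq_zero _
    have h4 := hQinj _ (U.add_mem (hUx u hu) hu) h3
    have h5 : M.mulVec u = -u := eq_neg_of_add_eq_zero_left h4
    rw [h5]
    funext i
    simp [CharTwo.neg_eq]

end Cfsg.Agent.S2599
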