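import Cfsg.Statements.S2600
import Cfsg.Agent.Lib.Helper5.PSpGr4
import Cfsg.Agent.Lib.Helper5.PSL2Aut6

set_option autoImplicit false
open Cfsg

namespace Cfsg.Agent.S2600


open Cfsg.Agent.Lib.Helper5.PSpAut Cfsg.Agent.Lib.Helper5.PSpGr Cfsg.Agent.Lib.Helper5.PSL2Aut

section
variable {F : Type*} [Field F] [Fintype F] [CharP F 2]

theorem orderOf_frob {f : ℕ} (hF : Fintype.card F = 2 ^ f) :
    orderOf (frobeniusEquiv F 2) = f := by
  letI := ZMod.algebra F 2
  have h1 : ringAutEquiv (F := F) 2 (frobeniusEquiv F 2)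
      = FiniteField.frobeniusAlgEquivOfAlgebraic (ZMod 2) F := by
    apply AlgEquiv.ext
    intro x
    show frobeniusEquiv F 2 x = _
    rw [frobeniusEquiv_def, FiniteField.coe_frobeniusAlgEquivOfAlgebraic, ZMod.card]
  rw [← MulEquiv.orderOf_eq (ringAutEquiv (F := F) 2), h1,
    FiniteField.orderOf_frobeniusAlgEquivOfAlgebraic]
  have h2 := Module.card_eq_pow_finrank (K := ZMod 2) (V := F)
  rw [hF, ZMod.card] at h2
  exact (Nat.pow_right_injective (le_refl 2) h2).symm

theorem range_cjC_eq_inn (m : ℕ) :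
    (cjC (m := m) (F := F)).range = Cfsg.Inn (Cfsg.PSp m F) := by
  apply le_antisymm
  · apply range_le_inn_of_sq
    intro a
    obtain ⟨z, hz⟩ := (frobeniusEquiv F 2).surjective a
    refine ⟨z, ?_⟩
    rw [← hz, frobeniusEquiv_def, pow_two]
  · exact inn_le_range

theorem thG_pow_even (j : ℕ) :
    (thG : MulAut (Cfsg.PSp 2 F)) ^ (2 * j) = fa ((frobeniusEquiv F 2) ^ j) := by
  rw [pow_mul, pow_two, thG_sq, map_pow]

end



/-- Outer automorphism group of PSp_4(q) for q = 2^f even: it is cyclic of order 2f, generated by the class of the exceptional (graph-field) automorphism whose square is the Frobenius field automorphism. -/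
theorem result {F : Type*} [Field F] [Fintype F] {f : ℕ} (hf : 1 ≤ f) (hF : Fintype.card F = 2 ^ f) : IsCyclic (Cfsg.Out (Cfsg.PSp 2 F)) ∧ Nat.card (Cfsg.Out (Cfsg.PSp 2 F)) = 2 * f := by
  haveI : Fact (Nat.Prime 2) := ⟨Nat.prime_two⟩
  haveI : CharP F 2 := charP_of_card hf hF
  have hgal : Nat.card (F ≃+* F) = f := (ringAut_cyclic_card (p := 2) (f := f) hf hF).2
  have hG := card_GamSub (m := 2) (F := F) 2 (by omega)
  have hI : Nat.card ↥(Cfsg.Inn (Cfsg.PSp 2 F))
      = Nat.card ↥(Matrix.symplecticGroup (Fin 2) F) := by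
    rw [← range_cjC_eq_inn, card_range_cjC 2 (by omega)]
  have hidx := index_GamSub (m := 2) (F := F) (le_refl 2) thG_not_mem
  haveI : Finite (Cfsg.PSp 2 F) := inferInstance
  haveI : Finite (MulAut (Cfsg.PSp 2 F)) :=
    Finite.of_injective (fun α : MulAut (Cfsg.PSp 2 F) => α.toEquiv)
      (fun a b h => MulEquiv.ext (fun x => by
        have := congrArg (fun e : Cfsg.PSp 2 F ≃ Cfsg.PSp 2 F => e x) h
        exact this))
  have hcard : Nat.card (Cfsg.Out (Cfsg.PSp 2 F)) = 2 * f := by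
    have h1 := Subgroup.card_eq_card_quotient_mul_card_subgroup (Cfsg.Inn (Cfsg.PSp 2 F))
    rw [← Subgroup.index_mul_card (GamSub 2 F), hidx, hG, hgal, hI] at h1
    have hpos : 0 < Nat.card ↥(Matrix.symplecticGroup (Fin 2) F) := Nat.card_pos
    have h2 : (2 * f) * Nat.card ↥(Matrix.symplecticGroup (Fin 2) F)
        = Nat.card (Cfsg.Out (Cfsg.PSp 2 F)) * Nat.card ↥(Matrix.symplecticGroup (Fin 2) F) := by
      rw [← h1]
      ring
    exact (Nat.eq_of_mul_eq_mul_right hpos h2).symm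
  refine ⟨?_, hcard⟩
  set t : Cfsg.Out (Cfsg.PSp 2 F) := QuotientGroup.mk thG with ht
  have hpow : ∀ k : ℕ, t ^ k = 1 ↔ thG ^ k ∈ Cfsg.Inn (Cfsg.PSp 2 F) := by
    intro k
    rw [ht, ← QuotientGroup.mk_pow, QuotientGroup.eq_one_iff]
  have hord : orderOf t = 2 * f := by
    apply Nat.dvd_antisymm
    · apply orderOf_dvd_of_pow_eq_one
      rw [hpow, thG_pow_even, ← orderOf_frob hF, pow_orderOf_eq_one, map_one]
      exact one_mem _
    · have h1 : t ^ orderOf t = 1 := pow_orderOf_eq_one t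
      rw [hpow] at h1
      rcases Nat.even_or_odd' (orderOf t) with ⟨j, hj | hj⟩
      · rw [hj, thG_pow_even, ← range_cjC_eq_inn] at h1
        obtain ⟨g, hg⟩ := h1
        have h2 : cjC g⁻¹ * (fa ((frobeniusEquiv F 2) ^ j) : MulAut (Cfsg.PSp 2 F)) = 1 := by
          rw [← hg, map_inv, inv_mul_cancel]
        obtain ⟨h3, -⟩ := cjC_fa_inj 2 (by omega) _ _ h2
        have h4 : f ∣ j := by
          rw [← orderOf_frob hF]
          exact orderOf_dvd_of_pow_eq_one h3
        rw [hj]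
        exact Nat.mul_dvd_mul_left 2 h4
      · exfalso
        apply thG_not_mem (F := F)
        have h2 : (thG : MulAut (Cfsg.PSp 2 F)) ^ (2 * j + 1) ∈ GamSub 2 F := by
          rw [← hj]
          exact inn_le_GamSub h1
        rw [pow_succ, thG_pow_even] at h2
        have h3 : (fa ((frobeniusEquiv F 2) ^ j) : MulAut (Cfsg.PSp 2 F)) ∈ GamSub 2 F :=
          ⟨1, _, by rw [map_one, one_mul]⟩
        have h4 := (GamSub 2 F).mul_mem ((GamSub 2 F).inv_mem h3) h2
        rwa [inv_mul_cancel_left] at h4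
  exact isCyclic_of_orderOf_eq_card t (by rw [hord, hcard])


end Cfsg.Agent.S2600
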