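import Cfsg.Statements.S2611
import Cfsg.Agent.Lib.Helper5.PlusLevi

set_option autoImplicit false
open Cfsg

namespace Cfsg.Agent.S2611


open Cfsg.Agent.Lib.Helper5.PlusLevi Cfsg.Agent.Lib.Helper5.QuadGlue Cfsg.Agent.Lib.Helper2.QuadStd



/-- For the hyperbolic quadratic form Σ x_i y_i on F^(2m) (F finite, m ≥ 1, excluding m = 2 over the field of two elements) and an invertible m × m matrix A, the block-diagonal isometry diag(A, (A⁻¹)ᵀ), which stabilises the two maximal totally singular subspaces x = 0 and y = 0, lies in Ω⁺_2m(F) (the commutator subgroup of the orthogonal group) if and only if det A is a square in F. -/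
theorem result {F : Type*} [Field F] [Fintype F] {m : ℕ} (hm : 1 ≤ m) (h : Fintype.card F ≠ 2 ∨ m ≠ 2) (A : GL (Fin m) F) : (∃ g : ↥(Cfsg.isometryGroup F (Cfsg.quadFormPlus m F)), g ∈ Cfsg.Omega F (Cfsg.quadFormPlus m F) ∧ ((g : Matrix.GeneralLinearGroup (Fin m ⊕ Fin m) F) : Matrix (Fin m ⊕ Fin m) (Fin m ⊕ Fin m) F) = Matrix.fromBlocks (A : Matrix (Fin m) (Fin m) F) 0 0 ((A : Matrix (Fin m) (Fin m) F)⁻¹).transpose) ↔ IsSquare (A : Matrix (Fin m) (Fin m) F).det := by
  have key : (∃ g : ↥(Cfsg.isometryGroup F ⇑(QP m F)), g ∈ commutator ↥(Cfsg.isometryGroup F ⇑(QP m F)) ∧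
      ((g : Matrix.GeneralLinearGroup (Fin m ⊕ Fin m) F) : Matrix (Fin m ⊕ Fin m) (Fin m ⊕ Fin m) F) =
        Matrix.fromBlocks (A : Matrix (Fin m) (Fin m) F) 0 0
          ((A : Matrix (Fin m) (Fin m) F)⁻¹).transpose) ↔
      IsSquare (A : Matrix (Fin m) (Fin m) F).det := by
    have h1 : (∃ g : ↥(Cfsg.isometryGroup F ⇑(QP m F)), g ∈ commutator ↥(Cfsg.isometryGroup F ⇑(QP m F)) ∧
      ((g : Matrix.GeneralLinearGroup (Fin m ⊕ Fin m) F) : Matrix (Fin m ⊕ Fin m) (Fin m ⊕ Fin m) F) =
        Matrix.fromBlocks (A : Matrix (Fin m) (Fin m) F) 0 0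
          ((A : Matrix (Fin m) (Fin m) F)⁻¹).transpose) ↔
        levi A ∈ commutator ↥(Cfsg.isometryGroup F ⇑(QP m F)) := by
      constructor
      · rintro ⟨g, hg, hgm⟩
        have : g = levi A := by
          apply Subtype.ext
          apply Units.ext
          rw [hgm, levi_coe]
        rw [← this]
        exact hg
      · intro hg
        exact ⟨levi A, hg, levi_coe A⟩
    rw [h1]
    by_cases h2 : (2 : F) = 0
    · have hex : Fintype.card F ≠ 2 ∨ Fintype.card (Fin m ⊕ Fin m) ≠ 4 := by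
        rw [Fintype.card_sum, Fintype.card_fin]
        rcases h with h | h
        · exact Or.inl h
        · right; omega
      have hsq : IsSquare (A : Matrix (Fin m) (Fin m) F).det := by
        apply FiniteField.isSquare_of_char_two
        have : CharP F 2 := CharTwo.of_one_ne_zero_of_two_eq_zero one_ne_zero h2
        exact ringChar.eq F 2
      exact iff_of_true (levi_mem_even h2 hex hm A) hsq
    · exact levi_mem_iff_odd h2 hm A
  rw [QP_coe] at key
  exact key


end Cfsg.Agent.S2611
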