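import Cfsg.Statements.S2612
import Cfsg.Agent.Lib.Helper5.MaxTS
import Cfsg.Agent.Lib.Helper5.PlusLevi

set_option autoImplicit false
open Cfsg

namespace Cfsg.Agent.S2612


open Cfsg.Agent.Lib.Helper2 Cfsg.Agent.Lib.Helper2.CDG Cfsg.Agent.Lib.Helper2.ReflGen
open Cfsg.Agent.Lib.Helper5.OmegaCrit Cfsg.Agent.Lib.Helper5.MaxTS Cfsg.Agent.Lib.Helper5.SpinorDiag
open Cfsg.Agent.Lib.Helper5.QuadGlue Cfsg.Agent.Lib.Helper2.QuadStd Cfsg.Agent.Lib.Helper5.PlusLevi
open Matrix

section
variable {F : Type*} [Field F] {ι : Type} [Fintype ι] [DecidableEq ι]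
variable {Q : QuadraticForm F (ι → F)} {J : Type} {a b : J → ι}

theorem swap_mulVec (h : IsHypPairs Q a b) (τ : ι → ι) (hτa : ∀ j, τ (a j) = b j)
    (hτb : ∀ j, τ (b j) = a j) (j : J) (x : ι → F) :
    Cfsg.reflectionMatrix (⇑Q) (wvec a b j) *ᵥ x =
      fun k => if k = a j ∨ k = b j then x (τ k) else x k := by
  have hne := ne_ab h j
  rw [reflectionMatrix_mulVec, Q_wvec h, polar_wvec h]
  funext k
  simp only [Pi.sub_apply, Pi.smul_apply, smul_eq_mul, wvec, Pi.single_apply]
  by_cases hka : k = a j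
  · subst hka
    simp [hne, hτa]
  · by_cases hkb : k = b j
    · subst hkb
      simp [hne.symm, hτb]
    · simp [hka, hkb]

theorem swapL_mulVec (h : IsHypPairs Q a b) (τ : ι → ι) (hτa : ∀ j, τ (a j) = b j)
    (hτb : ∀ j, τ (b j) = a j) (L : List J) (hL : L.Nodup) (x : ι → F) :
    ((L.map (fun j => wvec (F := F) a b j)).map (fun v => Cfsg.reflectionMatrix ⇑Q v)).prod *ᵥ x =
      fun k => if ∃ j ∈ L, k = a j ∨ k = b j then x (τ k) else x k := by
  classical
  induction L generalizing x with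
  | nil => simp
  | cons j L ih =>
    rw [List.nodup_cons] at hL
    rw [List.map_cons, List.map_cons, List.prod_cons, ← Matrix.mulVec_mulVec, ih hL.2,
      swap_mulVec h τ hτa hτb]
    funext k
    beta_reduce
    by_cases hk : k = a j ∨ k = b j
    · have hk' : τ k = a j ∨ τ k = b j := by
        rcases hk with rfl | rfl
        · right; exact hτa j
        · left; exact hτb j
      have h1 : ¬ ∃ j' ∈ L, τ k = a j' ∨ τ k = b j' := by
        rintro ⟨j', hj', hk''⟩
        have := pair_unique h hk' hk''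
        subst this
        exact hL.1 hj'
      have h2 : ∃ j' ∈ j :: L, k = a j' ∨ k = b j' := ⟨j, List.mem_cons_self, hk⟩
      rw [if_pos hk, if_pos h2, if_neg h1]
    · rw [if_neg hk]
      by_cases hex : ∃ j' ∈ L, k = a j' ∨ k = b j'
      · have h2 : ∃ j' ∈ j :: L, k = a j' ∨ k = b j' := by
          obtain ⟨j', hj', hk'⟩ := hex
          exact ⟨j', List.mem_cons_of_mem _ hj', hk'⟩
        rw [if_pos hex, if_pos h2]
      · have h2 : ¬ ∃ j' ∈ j :: L, k = a j' ∨ k = b j' := by
          rintro ⟨j', hj', hk'⟩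
          rw [List.mem_cons] at hj'
          rcases hj' with rfl | hj'
          · exact hk hk'
          · exact hex ⟨j', hj', hk'⟩
        rw [if_neg hex, if_neg h2]

theorem wlist_ne (h : IsHypPairs Q a b) (L : List J) :
    ∀ v ∈ L.map (fun j => wvec (F := F) a b j), Q v ≠ 0 := by
  intro v hv
  rw [List.mem_map] at hv
  obtain ⟨j, -, rfl⟩ := hv
  rw [Q_wvec h]
  exact neg_ne_zero.2 one_ne_zero

theorem wlist_prod (h : IsHypPairs Q a b) (L : List J) :
    ((L.map (fun j => wvec (F := F) a b j)).map (fun v => Q v)).prod = (-1) ^ L.length := by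
  induction L with
  | nil => simp
  | cons j L ih =>
    rw [List.map_cons, List.map_cons, List.prod_cons, ih, Q_wvec h, List.length_cons, pow_succ]
    ring

end



/-- For the hyperbolic quadratic form Σ x_i y_i on F^(2m) (F finite, m ≥ 1, excluding m = 2 over the field of two elements), Ω⁺_2m(F) (the commutator subgroup of the orthogonal group) contains an element interchanging the two complementary maximal totally singular subspaces {y = 0} and {x = 0} if and only if m is even (dimension divisible by 4). -/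
theorem result {F : Type*} [Field F] [Fintype F] {m : ℕ} (hm : 1 ≤ m) (h : Fintype.card F ≠ 2 ∨ m ≠ 2) : (∃ g : ↥(Cfsg.isometryGroup F (Cfsg.quadFormPlus m F)), g ∈ Cfsg.Omega F (Cfsg.quadFormPlus m F) ∧ (∀ v : Fin m ⊕ Fin m → F, (∀ i, v (Sum.inr i) = 0) → ∀ i, (((g : Matrix.GeneralLinearGroup (Fin m ⊕ Fin m) F) : Matrix (Fin m ⊕ Fin m) (Fin m ⊕ Fin m) F).mulVec v) (Sum.inl i) = 0) ∧ (∀ v : Fin m ⊕ Fin m → F, (∀ i, v (Sum.inl i) = 0) → ∀ i, (((g : Matrix.GeneralLinearGroup (Fin m ⊕ Fin m) F) : Matrix (Fin m ⊕ Fin m) (Fin m ⊕ Fin m) F).mulVec v) (Sum.inr i) = 0)) ↔ Even m := by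
  have hex : Fintype.card F ≠ 2 ∨ Fintype.card (Fin m ⊕ Fin m) ≠ 4 := by
    rw [Fintype.card_sum, Fintype.card_fin]
    rcases h with h | h
    · exact Or.inl h
    · right; omega
  have hn : 2 ≤ Fintype.card (Fin m ⊕ Fin m) := by
    rw [Fintype.card_sum, Fintype.card_fin]; omega
  have key : (∃ g : ↥(Cfsg.isometryGroup F ⇑(QP m F)), g ∈ commutator ↥(Cfsg.isometryGroup F ⇑(QP m F)) ∧
      (∀ v : Fin m ⊕ Fin m → F, (∀ i, v (Sum.inr i) = 0) → ∀ i, (((g : Matrix.GeneralLinearGroup (Fin m ⊕ Fin m) F) : Matrix (Fin m ⊕ Fin m) (Fin m ⊕ Fin m) F).mulVec v) (Sum.inl i) = 0) ∧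
      (∀ v : Fin m ⊕ Fin m → F, (∀ i, v (Sum.inl i) = 0) → ∀ i, (((g : Matrix.GeneralLinearGroup (Fin m ⊕ Fin m) F) : Matrix (Fin m ⊕ Fin m) (Fin m ⊕ Fin m) F).mulVec v) (Sum.inr i) = 0)) ↔ Even m := by
    constructor
    · rintro ⟨g, hg, hg1, -⟩
      obtain ⟨vs, hvs, hgm⟩ := exists_list (closure_R_all (QP_nondeg m) hex hn) g
      have heven := ((criterion_all (QP_nondeg m) hex hn g vs hvs hgm).1 hg).1
      have h1 := (even_sub_iff (QP_nondeg m) (isLag_Estd m) vs hvs g hgm).2 heven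
      have hbot : Estd m F ⊓ (Estd m F).map (Matrix.mulVecLin
          ((g : Matrix.GeneralLinearGroup (Fin m ⊕ Fin m) F) : Matrix (Fin m ⊕ Fin m) (Fin m ⊕ Fin m) F)) = ⊥ := by
        rw [eq_bot_iff]
        rintro x ⟨hx1, ⟨y, hy, rfl⟩⟩
        rw [Submodule.mem_bot]
        have hy' := (mem_Estd y).1 hy
        have hx1' := (mem_Estd _).1 hx1
        funext k
        rcases k with k | k
        · exact hg1 y hy' k
        · exact hx1' k
      rw [hbot, finrank_bot, finrank_Estd, Nat.sub_zero] at h1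
      exact h1
    · intro hme
      have hhyp := hyp_plus (F := F) m
      obtain ⟨g, hg⟩ := exists_of_prod (Q := QP m F)
        ((List.finRange m).map (fun j => wvec (F := F) Sum.inl Sum.inr j))
        (wlist_ne hhyp _)
      have hact : ∀ x : Fin m ⊕ Fin m → F,
          ((g : Matrix.GeneralLinearGroup (Fin m ⊕ Fin m) F) : Matrix (Fin m ⊕ Fin m) (Fin m ⊕ Fin m) F) *ᵥ x =
            fun k => x (Sum.swap k) := by
        intro x
        rw [hg, swapL_mulVec hhyp Sum.swap (fun j => rfl) (fun j => rfl) _ (List.nodup_finRange m)]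
        funext k
        rw [if_pos]
        rcases k with k | k
        · exact ⟨k, List.mem_finRange k, Or.inl rfl⟩
        · exact ⟨k, List.mem_finRange k, Or.inr rfl⟩
      refine ⟨g, ?_, ?_, ?_⟩
      · rw [criterion_all (QP_nondeg m) hex hn g _ (wlist_ne hhyp _) hg, List.length_map,
          List.length_finRange, wlist_prod hhyp, List.length_finRange, hme.neg_one_pow]
        exact ⟨hme, ⟨1, by ring⟩⟩
      · intro v hv i
        show (((g : Matrix.GeneralLinearGroup (Fin m ⊕ Fin m) F) : Matrix (Fin m ⊕ Fin m) (Fin m ⊕ Fin m) F) *ᵥ v) (Sum.inl i) = 0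
        rw [hact]
        exact hv i
      · intro v hv i
        show (((g : Matrix.GeneralLinearGroup (Fin m ⊕ Fin m) F) : Matrix (Fin m ⊕ Fin m) (Fin m ⊕ Fin m) F) *ᵥ v) (Sum.inr i) = 0
        rw [hact]
        exact hv i
  rw [QP_coe] at key
  exact key


end Cfsg.Agent.S2612
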