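import Cfsg.Statements.S2613
import Cfsg.Agent.Lib.Helper5.SpinorDiag
import Cfsg.Agent.Lib.Helper2.QuadStd

set_option autoImplicit false
open Cfsg

namespace Cfsg.Agent.S2613


open Cfsg.Agent.Lib.Helper5.SpinorDiag Cfsg.Agent.Lib.Helper5.QuadGlue Cfsg.Agent.Lib.Helper2.QuadStd

section
variable {F : Type*} [Field F]

theorem hyp_plus (m : ℕ) : IsHypPairs (QP m F) (Sum.inl : Fin m → Fin m ⊕ Fin m) Sum.inr where
  inj := by
    intro x y hxy
    rcases x with x | x <;> rcases y with y | y <;> simpa using hxy
  qa := by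
    intro j
    rw [QP_apply]
    unfold Cfsg.quadFormPlus
    apply Finset.sum_eq_zero
    intro i _
    simp
  qb := by
    intro j
    rw [QP_apply]
    unfold Cfsg.quadFormPlus
    apply Finset.sum_eq_zero
    intro i _
    simp
  pa := by
    intro j x
    rw [polar_plus]
    rw [Finset.sum_eq_single j]
    · simp
    · intro i _ hij
      simp [hij]
    · intro h; exact absurd (Finset.mem_univ j) h
  pb := by
    intro j x
    rw [polar_plus]
    rw [Finset.sum_eq_single j]
    · simp
    · intro i _ hij
      simp [hij]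
    · intro h; exact absurd (Finset.mem_univ j) h

end



/-- For the hyperbolic form Σ x_j y_j on F^(2m), F finite with q elements, q odd, and 1 ≤ i ≤ m: the involution negating the first i hyperbolic pairs (x_j, y_j ↦ −x_j, −y_j for j < i) and fixing the rest lies in Ω⁺_2m(q) (commutator subgroup of the orthogonal group) if and only if q^i ≡ 1 (mod 4); its (−1)-eigenspace is a hyperbolic 2i-space. -/
theorem result {F : Type*} [Field F] [Fintype F] {q : ℕ} (hF : Fintype.card F = q) (hq : Odd q) {m : ℕ} (i : ℕ) (hi : 1 ≤ i) (him : i ≤ m) : (∃ g : ↥(Cfsg.isometryGroup F (Cfsg.quadFormPlus m F)), g ∈ Cfsg.Omega F (Cfsg.quadFormPlus m F) ∧ ((g : Matrix.GeneralLinearGroup (Fin m ⊕ Fin m) F) : Matrix (Fin m ⊕ Fin m) (Fin m ⊕ Fin m) F) = Matrix.diagonal (fun k : Fin m ⊕ Fin m => if (Sum.elim (fun j : Fin m => (j : ℕ)) (fun j : Fin m => (j : ℕ)) k) < i then (-1 : F) else 1)) ↔ q ^ i % 4 = 1 := by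
  classical
  have h2 : (2 : F) ≠ 0 := by
    intro h
    have hc : ringChar F = 2 := by
      have : ringChar F ∣ 2 := by
        rw [← ringChar.spec F 2]
        exact_mod_cast h
      rcases (Nat.dvd_prime Nat.prime_two).1 this with h1 | h1
      · exact absurd h1 (CharP.ringChar_ne_one)
      · exact h1
    have := FiniteField.even_card_iff_char_two.1 hc
    rw [hF] at this
    exact (Nat.not_even_iff_odd.2 hq) (Nat.even_iff.2 this)
  have key := diag_mem_iff (Q := QP m F) h2 (QP_nondeg m)
    (by rw [Fintype.card_sum, Fintype.card_fin]; omega) (hyp_plus m) (firstL i him)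
    (firstL_nodup i him)
    (fun k : Fin m ⊕ Fin m => if (Sum.elim (fun j : Fin m => (j : ℕ)) (fun j : Fin m => (j : ℕ)) k) < i then (-1 : F) else 1)
    (by
      intro k
      have : (Sum.elim (fun j : Fin m => (j : ℕ)) (fun j : Fin m => (j : ℕ)) k) < i ↔
          ∃ j ∈ firstL i him, k = Sum.inl j ∨ k = Sum.inr j := by
        constructor
        · intro hk
          rcases k with k | k
          · exact ⟨k, (mem_firstL i him k).2 hk, Or.inl rfl⟩
          · exact ⟨k, (mem_firstL i him k).2 hk, Or.inr rfl⟩
        · rintro ⟨j, hj, rfl | rfl⟩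
          · exact (mem_firstL i him j).1 hj
          · exact (mem_firstL i him j).1 hj
      by_cases hk : (Sum.elim (fun j : Fin m => (j : ℕ)) (fun j : Fin m => (j : ℕ)) k) < i
      · rw [if_pos hk, if_pos (this.1 hk)]
      · rw [if_neg hk, if_neg (fun h => hk (this.2 h))])
  rw [firstL_length, isSquare_neg_one_pow_iff hF hq, QP_coe] at key
  exact key


end Cfsg.Agent.S2613
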