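import Cfsg.Statements.S2614
import Cfsg.Agent.Lib.Helper5.SpinorDiag
import Cfsg.Agent.Lib.Helper5.QuadOdd

set_option autoImplicit false
open Cfsg

namespace Cfsg.Agent.S2614


open Cfsg.Agent.Lib.Helper5.SpinorDiag Cfsg.Agent.Lib.Helper5.QuadOdd

section
variable {F : Type*} [Field F]

theorem hyp_odd (m : ℕ) : IsHypPairs (QO m F)
    (fun j : Fin m => (Sum.inr (Sum.inl j) : Unit ⊕ (Fin m ⊕ Fin m)))
    (fun j : Fin m => Sum.inr (Sum.inr j)) where
  inj := by
    intro x y hxy
    rcases x with x | x <;> rcases y with y | y <;> simpa using hxy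
  qa := by
    intro j
    rw [QO_apply]
    unfold Cfsg.quadFormOdd
    rw [Finset.sum_eq_zero]
    · simp
    · intro i _
      simp
  qb := by
    intro j
    rw [QO_apply]
    unfold Cfsg.quadFormOdd
    rw [Finset.sum_eq_zero]
    · simp
    · intro i _
      simp
  pa := by
    intro j x
    rw [polar_odd]
    rw [Finset.sum_eq_single j]
    · simp
    · intro i _ hij
      simp [hij]
    · intro h; exact absurd (Finset.mem_univ j) h
  pb := by
    intro j x
    rw [polar_odd]
    rw [Finset.sum_eq_single j]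
    · simp
    · intro i _ hij
      simp [hij]
    · intro h; exact absurd (Finset.mem_univ j) h

end



/-- For the form x_0² + Σ x_j y_j on F^(2m+1), F finite with q elements, q odd, and 1 ≤ i ≤ m: the involution of determinant one negating the first i hyperbolic pairs (and fixing x_0 and the other pairs) lies in Ω_(2m+1)(q) (commutator subgroup of the orthogonal group) if and only if q^i ≡ 1 (mod 4); its (−1)-eigenspace is a hyperbolic 2i-space. -/
theorem result {F : Type*} [Field F] [Fintype F] {q : ℕ} (hF : Fintype.card F = q) (hq : Odd q) {m : ℕ} (i : ℕ) (hi : 1 ≤ i) (him : i ≤ m) : (∃ g : ↥(Cfsg.isometryGroup F (Cfsg.quadFormOdd m F)), g ∈ Cfsg.Omega F (Cfsg.quadFormOdd m F) ∧ ((g : Matrix.GeneralLinearGroup (Unit ⊕ (Fin m ⊕ Fin m)) F) : Matrix (Unit ⊕ (Fin m ⊕ Fin m)) (Unit ⊕ (Fin m ⊕ Fin m)) F) = Matrix.diagonal (fun k : Unit ⊕ (Fin m ⊕ Fin m) => if (Sum.elim (fun _ : Unit => i) (Sum.elim (fun j : Fin m => (j : ℕ)) (fun j : Fin m => (j : ℕ))) k) < i then (-1 : F) else 1)) ↔ q ^ i % 4 = 1 := by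
  classical
  have h2 : (2 : F) ≠ 0 := by
    intro h
    have hc : ringChar F = 2 := by
      have : ringChar F ∣ 2 := by
        rw [← ringChar.spec F 2]
        exact_mod_cast h
      rcases (Nat.dvd_prime Nat.prime_two).1 this with h1 | h1
      · exact absurd h1 (CharP.ringChar_ne_one)
      · exact h1
    have := FiniteField.even_card_iff_char_two.1 hc
    rw [hF] at this
    exact (Nat.not_even_iff_odd.2 hq) (Nat.even_iff.2 this)
  have key := diag_mem_iff (Q := QO m F) h2 (QO_nondeg h2 m)
    (by rw [Fintype.card_sum, Fintype.card_sum, Fintype.card_fin]; simp; omega)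
    (hyp_odd m) (firstL i him)
    (firstL_nodup i him)
    (fun k : Unit ⊕ (Fin m ⊕ Fin m) => if (Sum.elim (fun _ : Unit => i) (Sum.elim (fun j : Fin m => (j : ℕ)) (fun j : Fin m => (j : ℕ))) k) < i then (-1 : F) else 1)
    (by
      intro k
      have : (Sum.elim (fun _ : Unit => i) (Sum.elim (fun j : Fin m => (j : ℕ)) (fun j : Fin m => (j : ℕ))) k) < i ↔
          ∃ j ∈ firstL i him, k = Sum.inr (Sum.inl j) ∨ k = Sum.inr (Sum.inr j) := by
        constructor
        · intro hk
          rcases k with k | k | k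
          · exact absurd hk (lt_irrefl _)
          · exact ⟨k, (mem_firstL i him k).2 hk, Or.inl rfl⟩
          · exact ⟨k, (mem_firstL i him k).2 hk, Or.inr rfl⟩
        · rintro ⟨j, hj, rfl | rfl⟩
          · exact (mem_firstL i him j).1 hj
          · exact (mem_firstL i him j).1 hj
      by_cases hk : (Sum.elim (fun _ : Unit => i) (Sum.elim (fun j : Fin m => (j : ℕ)) (fun j : Fin m => (j : ℕ))) k) < i
      · rw [if_pos hk, if_pos (this.1 hk)]
      · rw [if_neg hk, if_neg (fun h => hk (this.2 h))])
  rw [firstL_length, isSquare_neg_one_pow_iff hF hq, QO_coe] at key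
  exact key


end Cfsg.Agent.S2614
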