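import Cfsg.Statements.S2619

set_option autoImplicit false
open Cfsg

namespace Cfsg.Agent.S2619

theorem result {F V ι : Type*} [Field F] [Finite F] [CharP F 2] [AddCommGroup V] [Module F V] [Fintype ι] (b : Module.Basis ι F V) (B : LinearMap.BilinForm F V) (hB : B.IsAlt) (c : ι → F) : ∃! Q : QuadraticForm F V, QuadraticMap.polarBilin Q = B ∧ ∀ i, Q (b i) = c i := by
  let _lo : LinearOrder ι := IsWellOrder.linearOrder WellOrderingRel
  let B' : LinearMap.BilinForm F V := b.constr (S := F) fun i =>
    b.constr (S := F) fun j =>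
      if i = j then c i else if i < j then B (b i) (b j) else 0
  have hB' : ∀ i j, B' (b i) (b j) = if i = j then c i else if i < j then B (b i) (b j) else 0 := by
    intro i j
    simp only [B']
    rw [Module.Basis.constr_basis, Module.Basis.constr_basis]
  refine ⟨LinearMap.BilinMap.toQuadraticMap B', ⟨?_, ?_⟩, ?_⟩
  · rw [LinearMap.BilinMap.polarBilin_toQuadraticMap]
    apply LinearMap.ext_basis b b
    intro i j
    simp only [LinearMap.add_apply, LinearMap.flip_apply, hB']
    rcases lt_trichotomy i j with h | h | h
    · have h1 : i ≠ j := ne_of_lt h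
      have h2 : ¬ j < i := not_lt_of_gt h
      simp [h1, h1.symm, h, h2]
    · subst h
      simp [CharTwo.add_self_eq_zero, hB.self_eq_zero]
    · have h1 : i ≠ j := ne_of_gt h
      have h2 : ¬ i < j := not_lt_of_gt h
      simp only [h1, h1.symm, h, h2, if_false, if_true, zero_add]
      rw [← hB.neg_eq, CharTwo.neg_eq]
  · intro i
    rw [LinearMap.BilinMap.toQuadraticMap_apply, hB']
    simp
  · rintro Q ⟨hQ1, hQ2⟩
    have hQB : Q.toBilin b = B' := by
      apply LinearMap.ext_basis b b
      intro i j
      rw [QuadraticMap.toBilin_apply, hB', hQ2 i]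
      have : QuadraticMap.polar Q (b i) (b j) = B (b i) (b j) := by
        rw [← hQ1]; rfl
      rw [this]
    calc Q = (Q.toBilin b).toQuadraticMap := (QuadraticMap.toQuadraticMap_toBilin Q b).symm
      _ = LinearMap.BilinMap.toQuadraticMap B' := by rw [hQB]

end Cfsg.Agent.S2619
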