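import Mathlib
import Cfsg.Statements.S2622

set_option autoImplicit false
open Cfsg

namespace Cfsg.Agent.S2622

open Module

section
variable {F : Type*} [Field F] [Finite F] [CharP F 2]

theorem exists_sqrt (a : F) : ∃ c : F, c * c = a := by
  obtain ⟨c, hc⟩ := isSquare_of_charTwo' a
  exact ⟨c, hc.symm⟩

variable {V : Type*} [AddCommGroup V] [Module F V]

theorem exists_unit_vec (B : LinearMap.BilinForm F V) (hna : ∃ v : V, B v v ≠ 0) :
    ∃ v : V, B v v = 1 := by
  obtain ⟨v, hv⟩ := hna
  obtain ⟨c, hc⟩ := exists_sqrt (B v v)⁻¹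
  refine ⟨c • v, ?_⟩
  simp only [map_smul, LinearMap.smul_apply, smul_eq_mul]
  rw [← mul_assoc, hc, inv_mul_cancel₀ hv]

omit [Finite F] in
theorem two_eq_zero' : (1 : F) + 1 = 0 := by
  have := CharTwo.two_eq_zero (R := F)
  rw [← one_add_one_eq_two] at this
  exact this

theorem exists_good_vec [FiniteDimensional F V] (B : LinearMap.BilinForm F V) (hS : B.IsSymm)
    (hB : B.Nondegenerate) (hna : ∃ v : V, B v v ≠ 0) (hdim : 2 ≤ finrank F V) :
    ∃ v : V, B v v = 1 ∧ ∃ w : V, B v w = 0 ∧ B w w ≠ 0 := by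
  obtain ⟨v, hv⟩ := exists_unit_vec B hna
  by_cases h : ∃ w : V, B v w = 0 ∧ B w w ≠ 0
  · exact ⟨v, hv, h⟩
  push Not at h
  have hv0 : v ≠ 0 := by
    rintro rfl
    simp at hv
  -- a nonzero vector orthogonal to v
  have hWdim : finrank F (B.orthogonal (Submodule.span F {v})) = finrank F V - 1 := by
    rw [LinearMap.BilinForm.finrank_orthogonal hB, finrank_span_singleton hv0]
  have hWpos : 0 < finrank F (B.orthogonal (Submodule.span F {v})) := by omega
  obtain ⟨⟨e, heW⟩, he0⟩ := Module.finrank_pos_iff_exists_ne_zero.1 hWpos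
  have he0' : e ≠ 0 := fun h0 => he0 (Subtype.ext h0)
  have hve : B v e = 0 := by
    rw [LinearMap.BilinForm.mem_orthogonal_iff] at heW
    exact heW v (Submodule.mem_span_singleton_self v)
  have hev : B e v = 0 := by rw [hS.eq]; exact hve
  obtain ⟨f₀, hf₀⟩ : ∃ f₀, B e f₀ ≠ 0 := by
    by_contra hcon
    push Not at hcon
    exact he0' (hB.1 e hcon)
  set f₁ : V := f₀ - (B v f₀) • v with hf₁
  have hvf₁ : B v f₁ = 0 := by
    rw [hf₁, map_sub, map_smul, smul_eq_mul, hv, mul_one, sub_self]
  have hef₁ : B e f₁ = B e f₀ := by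
    rw [hf₁, map_sub, map_smul, smul_eq_mul, hev, mul_zero, sub_zero]
  set f : V := (B e f₁)⁻¹ • f₁ with hf
  have hvf : B v f = 0 := by rw [hf, map_smul, hvf₁, smul_zero]
  have hfv : B f v = 0 := by rw [hS.eq]; exact hvf
  have hef : B e f = 1 := by
    rw [hf, map_smul, smul_eq_mul, inv_mul_cancel₀]
    rw [hef₁]; exact hf₀
  have hee : B e e = 0 := h e hve
  have hff : B f f = 0 := h f hvf
  refine ⟨v + e, ?_, v + f, ?_, ?_⟩
  · simp only [map_add, LinearMap.add_apply, hv, hve, hev, hee]
    ring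
  · simp only [map_add, LinearMap.add_apply, hv, hvf, hev, hef]
    rw [add_zero, zero_add]; exact two_eq_zero'
  · simp only [map_add, LinearMap.add_apply, hv, hvf, hfv, hff]
    simp

end

theorem main (F : Type*) [Field F] [Finite F] [CharP F 2] : ∀ (n : ℕ) (V : Type*) [AddCommGroup V]
    [Module F V] [FiniteDimensional F V],
    Module.finrank F V = n → ∀ (B : LinearMap.BilinForm F V), B.IsSymm → B.Nondegenerate →
    (∃ v : V, B v v ≠ 0) → ∃ b : Module.Basis (Fin n) F V, ∀ i j, B (b i) (b j) = if i = j then 1 else 0 := by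
  intro n
  induction n with
  | zero =>
    intro V _ _ _ hV B _ _ hna
    exfalso
    obtain ⟨v, hv⟩ := hna
    have : Subsingleton V := Module.finrank_zero_iff.1 hV
    have : v = 0 := Subsingleton.elim _ _
    rw [this] at hv
    simp at hv
  | succ k ih =>
    intro V _ _ _ hV B hS hB hna
    -- choose v
    obtain ⟨v, hv, hgood⟩ : ∃ v : V, B v v = 1 ∧ (1 ≤ k → ∃ w : V, B v w = 0 ∧ B w w ≠ 0) := by
      by_cases hk : 1 ≤ k
      · obtain ⟨v, hv, hw⟩ := exists_good_vec B hS hB hna (by omega)
        exact ⟨v, hv, fun _ => hw⟩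
      · obtain ⟨v, hv⟩ := exists_unit_vec B hna
        exact ⟨v, hv, fun h => absurd h hk⟩
    have hv0 : v ≠ 0 := by
      rintro rfl
      simp at hv
    have hvv : B v v ≠ 0 := by rw [hv]; exact one_ne_zero
    set W := B.orthogonal (Submodule.span F {v}) with hW
    have hWmem : ∀ x, x ∈ W ↔ B v x = 0 := by
      intro x
      rw [hW, LinearMap.BilinForm.mem_orthogonal_iff]
      constructor
      · intro h; exact h v (Submodule.mem_span_singleton_self v)
      · intro h y hy
        obtain ⟨c, rfl⟩ := Submodule.mem_span_singleton.1 hy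
        show B (c • v) x = 0
        rw [map_smul, LinearMap.smul_apply, h, smul_zero]
    have hWdim : finrank F W = k := by
      rw [hW, LinearMap.BilinForm.finrank_orthogonal hB, finrank_span_singleton hv0, hV]
      omega
    have hWnd : (B.restrict W).Nondegenerate :=
      LinearMap.BilinForm.restrict_nondegenerate_orthogonal_spanSingleton B hB hS.isRefl hvv
    -- orthonormal basis of W
    obtain ⟨bW, hbW⟩ : ∃ bW : Module.Basis (Fin k) F W,
        ∀ i j, B (bW i : V) (bW j : V) = if i = j then 1 else 0 := by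
      by_cases hk : 1 ≤ k
      · obtain ⟨w, hvw, hww⟩ := hgood hk
        have hwW : w ∈ W := (hWmem w).2 hvw
        obtain ⟨bW, hbW⟩ := ih W hWdim (B.restrict W) (hS.restrict W) hWnd ⟨⟨w, hwW⟩, hww⟩
        exact ⟨bW, hbW⟩
      · have hk0 : k = 0 := by omega
        subst hk0
        exact ⟨Module.finBasisOfFinrankEq F W hWdim, fun i => i.elim0⟩
    have hli : ∀ (c : F), ∀ x ∈ W, c • v + x = 0 → c = 0 := by
      intro c x hx hcx
      have h1 := congrArg (B v) hcx
      rw [map_add, map_smul, hv, (hWmem x).1 hx, map_zero, add_zero, smul_eq_mul, mul_one] at h1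
      exact h1
    have hsp : ∀ z : V, ∃ c : F, z + c • v ∈ W := by
      intro z
      refine ⟨-(B v z), ?_⟩
      rw [hWmem, map_add, map_smul, hv, smul_eq_mul, mul_one, add_neg_cancel]
    refine ⟨Module.Basis.mkFinCons v bW hli hsp, ?_⟩
    have hcoe := Module.Basis.coe_mkFinCons v bW hli hsp
    intro i j
    rw [hcoe]
    refine Fin.cases ?_ (fun i' => ?_) i <;> refine Fin.cases ?_ (fun j' => ?_) j
    · simp [hv]
    · have : B v (bW j' : V) = 0 := (hWmem _).1 (bW j').2
      simp [this, (Fin.succ_ne_zero j').symm]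
    · have : B (bW i' : V) v = 0 := by rw [hS.eq]; exact (hWmem _).1 (bW i').2
      simp [this, Fin.succ_ne_zero i']
    · simp [hbW i' j']

theorem result {F V : Type*} [Field F] [Finite F] [CharP F 2] [AddCommGroup V] [Module F V] [FiniteDimensional F V] {n : ℕ} (hV : Module.finrank F V = n) (B : LinearMap.BilinForm F V) (hS : B.IsSymm) (hB : B.Nondegenerate) (hna : ∃ v : V, B v v ≠ 0) : ∃ b : Module.Basis (Fin n) F V, ∀ i j, B (b i) (b j) = if i = j then 1 else 0 := by
  exact main F n V hV B hS hB hna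

end Cfsg.Agent.S2622
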