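import Mathlib
import Cfsg.Statements.S2624
import Cfsg.Agent.S2616
import Cfsg.Agent.Lib.Helper5.QuadFin

set_option autoImplicit false
open Cfsg

namespace Cfsg.Agent.S2624

open Module QuadraticMap Cfsg.Agent.Lib.Helper5

theorem result {F : Type*} [Field F] [Fintype F] {n : ℕ} (hn : 2 ≤ n) (he : Even n) (Q : QuadraticForm F (Fin n → F)) (hQ : (QuadraticMap.polarBilin Q).Nondegenerate) (c : F) (hc : c ≠ 0) : ∃ g : (Fin n → F) ≃ₗ[F] (Fin n → F), ∀ v, Q (g v) = c * Q v := by
  classical
  obtain ⟨m, hm⟩ := he
  have hm1 : 1 ≤ m := by omega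
  have hV : Module.finrank F (Fin n → F) = 2 * m := by
    rw [Module.finrank_fin_fun]; omega
  rcases Cfsg.Agent.S2616.result hm1 hV Q hQ with ⟨b, hq, hef, hee⟩ | ⟨b, ζ, hζ, hq, hef, hee, hxy, hQx, hpxy, hQy⟩
  · -- hyperbolic
    refine exists_similarity_of_basis Q hQ b c hc
      (Sum.elim (fun i => c • b (Sum.inl i)) (fun i => b (Sum.inr i))) ?_ ?_
    · rintro (i | i)
      · simp only [Sum.elim_inl]
        rw [QuadraticMap.map_smul, (hq i).1, smul_zero, mul_zero]
      · simp only [Sum.elim_inr]
        rw [(hq i).2, mul_zero]
    · rintro (i | i) (j | j)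
      · simp only [Sum.elim_inl]
        rw [polar_smul_left, polar_smul_right, (hee i j).1, smul_zero, smul_zero, mul_zero]
      · simp only [Sum.elim_inl, Sum.elim_inr]
        rw [polar_smul_left, smul_eq_mul]
      · simp only [Sum.elim_inl, Sum.elim_inr]
        rw [polar_smul_right, smul_eq_mul]
      · simp only [Sum.elim_inr]
        rw [(hee i j).2, mul_zero]
  · -- elliptic
    set x := b (Sum.inr 0) with hx
    set y := b (Sum.inr 1) with hy
    have hpair : ∀ s t : F, Q (s • x + t • y) = 0 → s = 0 ∧ t = 0 := by
      intro s t hst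
      rw [map_lin2, hQx, hpxy, hQy] at hst
      by_cases ht : t = 0
      · subst ht
        have : s ^ 2 = 0 := by linear_combination hst
        exact ⟨pow_eq_zero_iff (two_ne_zero) |>.1 this, rfl⟩
      · exfalso
        apply hζ (s / t)
        field_simp
        linear_combination hst
    obtain ⟨a₀, b₀, hab⟩ := exists_represents Q x y hpair c
    rw [map_lin2, hQx, hpxy, hQy] at hab
    have hxx : polar Q x x = 2 := by
      rw [QuadraticMap.polar_self, hQx]; simp
    have hyy : polar Q y y = 2 * ζ := by
      rw [QuadraticMap.polar_self, hQy]; simp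
    have hyx : polar Q y x = 1 := by rw [polar_comm]; exact hpxy
    have hb2 : ∀ k : Fin 2, b (Sum.inr k) = ![x, y] k := by
      intro k; fin_cases k <;> rfl
    let X' : Fin n → F := a₀ • x + b₀ • y
    let Y' : Fin n → F := (-(b₀ * ζ)) • x + (a₀ + b₀) • y
    have hQX' : Q X' = c := by
      simp only [X']
      rw [map_lin2, hQx, hpxy, hQy]
      linear_combination hab
    have hQY' : Q Y' = c * ζ := by
      simp only [Y']
      rw [map_lin2, hQx, hpxy, hQy]
      linear_combination ζ * hab
    have hXY' : polar Q X' Y' = c := by
      simp only [X', Y']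
      rw [polar_add_left, polar_add_right, polar_add_right, polar_smul_left, polar_smul_left,
        polar_smul_left, polar_smul_left, polar_smul_right, polar_smul_right, polar_smul_right,
        polar_smul_right, hxx, hpxy, hyx, hyy]
      simp only [smul_eq_mul]
      linear_combination hab
    have hYX' : polar Q Y' X' = c := by rw [polar_comm]; exact hXY'
    have hXX' : polar Q X' X' = c * 2 := by
      rw [QuadraticMap.polar_self, hQX']; simp [mul_comm]
    have hYY' : polar Q Y' Y' = c * (2 * ζ) := by
      rw [QuadraticMap.polar_self, hQY']; simp; ring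
    -- orthogonality of X', Y' with the hyperbolic part
    have hex : ∀ i, polar Q (b (Sum.inl (Sum.inl i))) x = 0 := fun i => (hxy i 0).1
    have hey : ∀ i, polar Q (b (Sum.inl (Sum.inl i))) y = 0 := fun i => (hxy i 1).1
    have hfx : ∀ i, polar Q (b (Sum.inl (Sum.inr i))) x = 0 := fun i => (hxy i 0).2
    have hfy : ∀ i, polar Q (b (Sum.inl (Sum.inr i))) y = 0 := fun i => (hxy i 1).2
    have heX : ∀ i, polar Q (b (Sum.inl (Sum.inl i))) X' = 0 := by
      intro i
      simp only [X']
      rw [polar_add_right, polar_smul_right, polar_smul_right, hex, hey, smul_zero, smul_zero,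
        add_zero]
    have heY : ∀ i, polar Q (b (Sum.inl (Sum.inl i))) Y' = 0 := by
      intro i
      simp only [Y']
      rw [polar_add_right, polar_smul_right, polar_smul_right, hex, hey, smul_zero, smul_zero,
        add_zero]
    have hfX : ∀ i, polar Q (b (Sum.inl (Sum.inr i))) X' = 0 := by
      intro i
      simp only [X']
      rw [polar_add_right, polar_smul_right, polar_smul_right, hfx, hfy, smul_zero, smul_zero,
        add_zero]
    have hfY : ∀ i, polar Q (b (Sum.inl (Sum.inr i))) Y' = 0 := by
      intro i
      simp only [Y']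
      rw [polar_add_right, polar_smul_right, polar_smul_right, hfx, hfy, smul_zero, smul_zero,
        add_zero]
    refine exists_similarity_of_basis Q hQ b c hc
      (Sum.elim (Sum.elim (fun i => c • b (Sum.inl (Sum.inl i))) (fun i => b (Sum.inl (Sum.inr i))))
        ![X', Y']) ?_ ?_
    · rintro ((i | i) | k)
      · simp only [Sum.elim_inl]
        rw [QuadraticMap.map_smul, (hq i).1, smul_zero, mul_zero]
      · simp only [Sum.elim_inl, Sum.elim_inr]
        rw [(hq i).2, mul_zero]
      · fin_cases k
        · simp only [Sum.elim_inr]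
          show Q X' = c * Q x
          rw [hQX', hQx, mul_one]
        · simp only [Sum.elim_inr]
          show Q Y' = c * Q y
          rw [hQY', hQy]
    · rintro ((i | i) | k) ((j | j) | l)
      · simp only [Sum.elim_inl]
        rw [polar_smul_left, polar_smul_right, (hee i j).1, smul_zero, smul_zero, mul_zero]
      · simp only [Sum.elim_inl, Sum.elim_inr]
        rw [polar_smul_left, smul_eq_mul]
      · simp only [Sum.elim_inl, Sum.elim_inr]
        rw [polar_smul_left, (hxy i l).1, mul_zero]
        fin_cases l
        · show c • polar Q (b (Sum.inl (Sum.inl i))) X' = 0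
          rw [heX, smul_zero]
        · show c • polar Q (b (Sum.inl (Sum.inl i))) Y' = 0
          rw [heY, smul_zero]
      · simp only [Sum.elim_inl, Sum.elim_inr]
        rw [polar_smul_right, smul_eq_mul]
      · simp only [Sum.elim_inl, Sum.elim_inr]
        rw [(hee i j).2, mul_zero]
      · simp only [Sum.elim_inl, Sum.elim_inr]
        rw [(hxy i l).2, mul_zero]
        fin_cases l
        · exact hfX i
        · exact hfY i
      · simp only [Sum.elim_inl, Sum.elim_inr]
        rw [polar_smul_right, polar_comm Q (b (Sum.inr k)), (hxy j k).1, mul_zero]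
        fin_cases k
        · show c • polar Q X' (b (Sum.inl (Sum.inl j))) = 0
          rw [polar_comm, heX, smul_zero]
        · show c • polar Q Y' (b (Sum.inl (Sum.inl j))) = 0
          rw [polar_comm, heY, smul_zero]
      · simp only [Sum.elim_inl, Sum.elim_inr]
        rw [polar_comm Q (b (Sum.inr k)), (hxy j k).2, mul_zero]
        fin_cases k
        · show polar Q X' (b (Sum.inl (Sum.inr j))) = 0
          rw [polar_comm, hfX]
        · show polar Q Y' (b (Sum.inl (Sum.inr j))) = 0
          rw [polar_comm, hfY]
      · simp only [Sum.elim_inr]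
        fin_cases k <;> fin_cases l
        · show polar Q X' X' = c * polar Q x x
          rw [hXX', hxx]
        · show polar Q X' Y' = c * polar Q x y
          rw [hXY', hpxy, mul_one]
        · show polar Q Y' X' = c * polar Q y x
          rw [hYX', hyx, mul_one]
        · show polar Q Y' Y' = c * polar Q y y
          rw [hYY', hyy]

end Cfsg.Agent.S2624
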