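import Cfsg.Statements.S2625

set_option autoImplicit false
open Cfsg

namespace Cfsg.Agent.S2625

theorem result {F : Type*} [Field F] [Fintype F] {n : ℕ} (hn : Odd n) (Q : QuadraticForm F (Fin n → F)) (hQ : (QuadraticMap.polarBilin Q).Nondegenerate) (g : (Fin n → F) ≃ₗ[F] (Fin n → F)) (c : F) (hg : ∀ v, Q (g v) = c * Q v) : IsSquare c := by
  classical
  set B : LinearMap.BilinForm F (Fin n → F) := QuadraticMap.polarBilin Q with hB
  have hcomp : LinearMap.BilinForm.comp B (g : (Fin n → F) →ₗ[F] (Fin n → F)) (g : (Fin n → F) →ₗ[F] (Fin n → F)) = c • B := by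
    apply LinearMap.ext; intro u; apply LinearMap.ext; intro v
    simp only [LinearMap.BilinForm.comp_apply, LinearMap.smul_apply, smul_eq_mul, hB,
      QuadraticMap.polarBilin_apply_apply, QuadraticMap.polar, LinearEquiv.coe_coe]
    rw [← map_add, hg, hg, hg]; ring
  have hmat := congrArg LinearMap.BilinForm.toMatrix' hcomp
  rw [LinearMap.BilinForm.toMatrix'_comp, map_smul] at hmat
  have hdet := congrArg Matrix.det hmat
  rw [Matrix.det_mul, Matrix.det_mul, Matrix.det_transpose, Matrix.det_smul, Fintype.card_fin] at hdet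
  have hM : (LinearMap.BilinForm.toMatrix' B).det ≠ 0 := by
    rw [← Matrix.nondegenerate_iff_det_ne_zero]
    exact LinearMap.BilinForm.nondegenerate_toMatrix'_iff.mpr hQ
  set d := (LinearMap.toMatrix' (g : (Fin n → F) →ₗ[F] (Fin n → F))).det with hd
  have h1 : d ^ 2 = c ^ n := by
    have : d * (LinearMap.BilinForm.toMatrix' B).det * d = c ^ n * (LinearMap.BilinForm.toMatrix' B).det := hdet
    have h2 : (d ^ 2 - c ^ n) * (LinearMap.BilinForm.toMatrix' B).det = 0 := by
      linear_combination this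
    rcases mul_eq_zero.mp h2 with h | h
    · exact sub_eq_zero.mp h
    · exact absurd h hM
  obtain ⟨k, rfl⟩ := hn
  by_cases hc : c = 0
  · subst hc; exact ⟨0, by simp⟩
  · refine ⟨d / c ^ k, ?_⟩
    field_simp
    rw [h1]; ring

end Cfsg.Agent.S2625
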