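import Cfsg.Statements.S2626

set_option autoImplicit false
open Cfsg

namespace Cfsg.Agent.S2626

open Matrix

/-- block diagonal embedding `GL_k × GL_l → GL_{k+l}` -/
def blockHom (F : Type*) [Field F] (k l : ℕ) :
    Matrix.GeneralLinearGroup (Fin k) F × Matrix.GeneralLinearGroup (Fin l) F →*
      Matrix.GeneralLinearGroup (Fin k ⊕ Fin l) F where
  toFun p :=
    { val := Matrix.fromBlocks (p.1 : Matrix (Fin k) (Fin k) F) 0 0 (p.2 : Matrix (Fin l) (Fin l) F)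
      inv := Matrix.fromBlocks ((p.1⁻¹ : Matrix.GeneralLinearGroup (Fin k) F) : Matrix (Fin k) (Fin k) F) 0 0
        ((p.2⁻¹ : Matrix.GeneralLinearGroup (Fin l) F) : Matrix (Fin l) (Fin l) F)
      val_inv := by
        rw [Matrix.fromBlocks_multiply]
        simp [Matrix.fromBlocks_one]
      inv_val := by
        rw [Matrix.fromBlocks_multiply]
        simp [Matrix.fromBlocks_one] }
  map_one' := by
    apply Units.ext
    simp [Matrix.fromBlocks_one]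
  map_mul' p q := by
    apply Units.ext
    simp [Matrix.fromBlocks_multiply]

theorem blockHom_val (F : Type*) [Field F] (k l : ℕ)
    (p : Matrix.GeneralLinearGroup (Fin k) F × Matrix.GeneralLinearGroup (Fin l) F) :
    ((blockHom F k l p : Matrix.GeneralLinearGroup (Fin k ⊕ Fin l) F) : Matrix (Fin k ⊕ Fin l) (Fin k ⊕ Fin l) F) =
      Matrix.fromBlocks (p.1 : Matrix (Fin k) (Fin k) F) 0 0 (p.2 : Matrix (Fin l) (Fin l) F) := rfl

theorem mulVec_block_inl {F : Type*} [Field F] {k l : ℕ} (A : Matrix (Fin k) (Fin k) F) (B : Matrix (Fin l) (Fin l) F)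
    (v : Fin k ⊕ Fin l → F) :
    (Matrix.fromBlocks A 0 0 B *ᵥ v) ∘ Sum.inl = A *ᵥ (v ∘ Sum.inl) := by
  ext i
  simp [Matrix.mulVec, dotProduct, Fintype.sum_sum_type, Matrix.fromBlocks]

theorem mulVec_block_inr {F : Type*} [Field F] {k l : ℕ} (A : Matrix (Fin k) (Fin k) F) (B : Matrix (Fin l) (Fin l) F)
    (v : Fin k ⊕ Fin l → F) :
    (Matrix.fromBlocks A 0 0 B *ᵥ v) ∘ Sum.inr = B *ᵥ (v ∘ Sum.inr) := by
  ext i
  simp [Matrix.mulVec, dotProduct, Fintype.sum_sum_type, Matrix.fromBlocks]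

theorem result {F : Type*} [Field F] [Fintype F] {k l : ℕ} (Q₁ : QuadraticForm F (Fin k → F)) (Q₂ : QuadraticForm F (Fin l → F)) (h₁ : (QuadraticMap.polarBilin Q₁).Nondegenerate) (h₂ : (QuadraticMap.polarBilin Q₂).Nondegenerate) (g₁ : ↥(Cfsg.isometryGroup F ⇑Q₁)) (g₂ : ↥(Cfsg.isometryGroup F ⇑Q₂)) (hg₁ : g₁ ∈ Cfsg.Omega F ⇑Q₁) (hg₂ : g₂ ∈ Cfsg.Omega F ⇑Q₂) : ∃ g : ↥(Cfsg.isometryGroup F (fun v : Fin k ⊕ Fin l → F => Q₁ (v ∘ Sum.inl) + Q₂ (v ∘ Sum.inr))), g ∈ Cfsg.Omega F (fun v : Fin k ⊕ Fin l → F => Q₁ (v ∘ Sum.inl) + Q₂ (v ∘ Sum.inr)) ∧ ((g : Matrix.GeneralLinearGroup (Fin k ⊕ Fin l) F) : Matrix (Fin k ⊕ Fin l) (Fin k ⊕ Fin l) F) = Matrix.fromBlocks ((g₁ : Matrix.GeneralLinearGroup (Fin k) F) : Matrix (Fin k) (Fin k) F) 0 0 ((g₂ : Matrix.GeneralLinearGroup (Fin l) F) : Matrix (Fin l) (Fin l) F) := by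
  classical
  set Q : (Fin k ⊕ Fin l → F) → F := fun v => Q₁ (v ∘ Sum.inl) + Q₂ (v ∘ Sum.inr) with hQ
  -- the restricted hom
  have hmem : ∀ p : ↥(Cfsg.isometryGroup F ⇑Q₁) × ↥(Cfsg.isometryGroup F ⇑Q₂),
      blockHom F k l (p.1.1, p.2.1) ∈ Cfsg.isometryGroup F Q := by
    intro p u v
    change Q (_ *ᵥ u) = Q u
    rw [hQ]
    simp only
    rw [Units.coeHom_apply, blockHom_val, mulVec_block_inl, mulVec_block_inr]
    have e1 := p.1.2 (u ∘ Sum.inl) (u ∘ Sum.inl)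
    have e2 := p.2.2 (u ∘ Sum.inr) (u ∘ Sum.inr)
    simp only [Units.coeHom_apply] at e1 e2
    rw [e1, e2]
  let Φ : ↥(Cfsg.isometryGroup F ⇑Q₁) × ↥(Cfsg.isometryGroup F ⇑Q₂) →* ↥(Cfsg.isometryGroup F Q) :=
    { toFun := fun p => ⟨blockHom F k l (p.1.1, p.2.1), hmem p⟩
      map_one' := by
        apply Subtype.ext
        exact map_one (blockHom F k l)
      map_mul' := by
        intro p q
        apply Subtype.ext
        change blockHom F k l ((p.1.1 * q.1.1), (p.2.1 * q.2.1)) = blockHom F k l (p.1.1, p.2.1) * blockHom F k l (q.1.1, q.2.1)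
        rw [← map_mul]; rfl }
  refine ⟨Φ (g₁, g₂), ?_, rfl⟩
  -- (g₁, g₂) is in the commutator of the product
  have hcomm : (g₁, g₂) ∈ commutator (↥(Cfsg.isometryGroup F ⇑Q₁) × ↥(Cfsg.isometryGroup F ⇑Q₂)) := by
    rw [commutator_def, ← Subgroup.top_prod_top (G := ↥(Cfsg.isometryGroup F ⇑Q₁)) (N := ↥(Cfsg.isometryGroup F ⇑Q₂)),
      Subgroup.commutator_prod_prod]
    exact ⟨hg₁, hg₂⟩
  have := Subgroup.mem_map_of_mem Φ hcomm
  rw [commutator_def, Subgroup.map_commutator] at this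
  exact Subgroup.commutator_mono le_top le_top this

end Cfsg.Agent.S2626
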