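import Cfsg.Statements.S2627
import Cfsg.Agent.Lib.Helper5.OrthSum

set_option autoImplicit false
open Cfsg

namespace Cfsg.Agent.S2627


open Cfsg.Agent.Lib.Helper2 Cfsg.Agent.Lib.Helper2.CDG
open Cfsg.Agent.Lib.Helper5.OmegaCrit Cfsg.Agent.Lib.Helper5.OrthSum Matrix



/-- For an orthogonal direct sum Q = Q₁ ⊕ Q₂ of quadratic forms with non-degenerate polar forms over a finite field, an isometry g₁ of Q₁ extended by the identity on the second summand lies in Ω(Q) (the commutator subgroup of the orthogonal group of Q) if and only if g₁ lies in Ω(Q₁). (Excluded: the field of two elements when the first summand or the whole space has dimension 4, where the commutator subgroup of O⁺₄(2) is smaller than the group usually called Ω.) -/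
theorem result {F : Type*} [Field F] [Fintype F] {k l : ℕ} (h : Fintype.card F ≠ 2 ∨ (k ≠ 4 ∧ k + l ≠ 4)) (Q₁ : QuadraticForm F (Fin k → F)) (Q₂ : QuadraticForm F (Fin l → F)) (h₁ : (QuadraticMap.polarBilin Q₁).Nondegenerate) (h₂ : (QuadraticMap.polarBilin Q₂).Nondegenerate) (g₁ : ↥(Cfsg.isometryGroup F ⇑Q₁)) : (∃ g : ↥(Cfsg.isometryGroup F (fun v : Fin k ⊕ Fin l → F => Q₁ (v ∘ Sum.inl) + Q₂ (v ∘ Sum.inr))), g ∈ Cfsg.Omega F (fun v : Fin k ⊕ Fin l → F => Q₁ (v ∘ Sum.inl) + Q₂ (v ∘ Sum.inr)) ∧ ((g : Matrix.GeneralLinearGroup (Fin k ⊕ Fin l) F) : Matrix (Fin k ⊕ Fin l) (Fin k ⊕ Fin l) F) = Matrix.fromBlocks ((g₁ : Matrix.GeneralLinearGroup (Fin k) F) : Matrix (Fin k) (Fin k) F) 0 0 1) ↔ g₁ ∈ Cfsg.Omega F ⇑Q₁ := by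
  show (∃ g : ↥(Cfsg.isometryGroup F ⇑(osum Q₁ Q₂)), g ∈ commutator ↥(Cfsg.isometryGroup F ⇑(osum Q₁ Q₂)) ∧
    ((g : Matrix.GeneralLinearGroup (Fin k ⊕ Fin l) F) : Matrix (Fin k ⊕ Fin l) (Fin k ⊕ Fin l) F) =
      Matrix.fromBlocks ((g₁ : Matrix.GeneralLinearGroup (Fin k) F) : Matrix (Fin k) (Fin k) F) 0 0 1) ↔
    g₁ ∈ commutator ↥(Cfsg.isometryGroup F ⇑Q₁)
  constructor
  · rintro ⟨g, hg, hgm⟩
    have hnd := osum_nondeg Q₁ Q₂ h₁ h₂
    rcases Nat.lt_or_ge k 2 with hk | hk
    · -- small cases: use the determinant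
      have hdet : (Matrix.GeneralLinearGroup.det.comp (Cfsg.isometryGroup F ⇑(osum Q₁ Q₂)).subtype) g = 1 :=
        Abelianization.commutator_subset_ker _ hg
      have hdet' : ((g : Matrix.GeneralLinearGroup (Fin k ⊕ Fin l) F) : Matrix (Fin k ⊕ Fin l) (Fin k ⊕ Fin l) F).det = 1 := by
        have := congrArg Units.val hdet
        exact this
      rw [hgm, Matrix.det_fromBlocks_zero₂₁, Matrix.det_one, mul_one] at hdet'
      have hg1 : g₁ = 1 := by
        apply Subtype.ext
        apply Units.ext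
        ext i j
        interval_cases k
        · exact i.elim0
        · rw [Matrix.det_fin_one] at hdet'
          have hi : i = 0 := Subsingleton.elim _ _
          have hj : j = 0 := Subsingleton.elim _ _
          rw [hi, hj, hdet']
          rfl
      rw [hg1]
      exact Subgroup.one_mem _
    · have hex₁ : Fintype.card F ≠ 2 ∨ Fintype.card (Fin k) ≠ 4 := by
        rw [Fintype.card_fin]
        rcases h with h | h
        · exact Or.inl h
        · exact Or.inr h.1
      have hex : Fintype.card F ≠ 2 ∨ Fintype.card (Fin k ⊕ Fin l) ≠ 4 := by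
        rw [Fintype.card_sum, Fintype.card_fin, Fintype.card_fin]
        rcases h with h | h
        · exact Or.inl h
        · exact Or.inr h.2
      have hn₁ : 2 ≤ Fintype.card (Fin k) := by rw [Fintype.card_fin]; exact hk
      have hn : 2 ≤ Fintype.card (Fin k ⊕ Fin l) := by
        rw [Fintype.card_sum, Fintype.card_fin, Fintype.card_fin]; omega
      obtain ⟨vs, hvs, hg₁⟩ := exists_list (closure_R_all h₁ hex₁ hn₁) g₁
      have hvs' : ∀ v ∈ vs.map (fun x => (Sum.elim x 0 : Fin k ⊕ Fin l → F)), osum Q₁ Q₂ v ≠ 0 := by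
        intro v hv
        rw [List.mem_map] at hv
        obtain ⟨x, hx, rfl⟩ := hv
        rw [osum_elim, QuadraticMap.map_zero, add_zero]
        exact hvs x hx
      have hgm' : ((g : Matrix.GeneralLinearGroup (Fin k ⊕ Fin l) F) : Matrix (Fin k ⊕ Fin l) (Fin k ⊕ Fin l) F) =
          ((vs.map (fun x => (Sum.elim x 0 : Fin k ⊕ Fin l → F))).map
            (fun v => Cfsg.reflectionMatrix ⇑(osum Q₁ Q₂) v)).prod := by
        rw [prod_inl, hgm, hg₁]
      have hc := (criterion_all hnd hex hn g _ hvs' hgm').1 hg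
      rw [List.length_map, prod_inl_Q] at hc
      exact (criterion_all h₁ hex₁ hn₁ g₁ vs hvs hg₁).2 hc
  · intro hg
    exact ⟨embL g₁, map_mem_commutator embL hg, embL_coe g₁⟩


end Cfsg.Agent.S2627
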