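import Cfsg.Statements.S2628
import Cfsg.Agent.Lib.Helper5.OrthSum

set_option autoImplicit false
open Cfsg

namespace Cfsg.Agent.S2628


open Cfsg.Agent.Lib.Helper2 Cfsg.Agent.Lib.Helper2.CDG
open Cfsg.Agent.Lib.Helper5.OmegaCrit Cfsg.Agent.Lib.Helper5.OrthSum Matrix

section
variable {F : Type*} [Field F] {ι : Type} [Fintype ι] [DecidableEq ι] {Q : QuadraticForm F (ι → F)}

theorem swM_mul : (Matrix.fromBlocks (0 : Matrix ι ι F) (1 : Matrix ι ι F) (1 : Matrix ι ι F)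
    (0 : Matrix ι ι F)) * Matrix.fromBlocks (0 : Matrix ι ι F) (1 : Matrix ι ι F) (1 : Matrix ι ι F)
    (0 : Matrix ι ι F) = 1 := by
  rw [Matrix.fromBlocks_multiply]
  simp [Matrix.fromBlocks_one]

theorem swM_mulVec (w : ι ⊕ ι → F) :
    (Matrix.fromBlocks (0 : Matrix ι ι F) (1 : Matrix ι ι F) (1 : Matrix ι ι F)
      (0 : Matrix ι ι F)) *ᵥ w = Sum.elim (w ∘ Sum.inr) (w ∘ Sum.inl) := by
  conv_lhs => rw [← Sum.elim_comp_inl_inr w]
  rw [Matrix.fromBlocks_mulVec]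
  simp

/-- the swap of the two summands -/
noncomputable def sw : ↥(Cfsg.isometryGroup F ⇑(osum Q Q)) :=
  ⟨⟨Matrix.fromBlocks (0 : Matrix ι ι F) (1 : Matrix ι ι F) (1 : Matrix ι ι F)
    (0 : Matrix ι ι F), Matrix.fromBlocks (0 : Matrix ι ι F) (1 : Matrix ι ι F) (1 : Matrix ι ι F)
    (0 : Matrix ι ι F), swM_mul, swM_mul⟩, fun u _ => by
    show osum Q Q ((Matrix.fromBlocks (0 : Matrix ι ι F) (1 : Matrix ι ι F) (1 : Matrix ι ι F)
      (0 : Matrix ι ι F)) *ᵥ u) = osum Q Q u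
    rw [swM_mulVec, osum_elim, osum_apply, add_comm]⟩

theorem sw_conj (g : ↥(Cfsg.isometryGroup F ⇑Q)) :
    sw * embL (Q₂ := Q) g * sw⁻¹ = embR (Q₁ := Q) g := by
  rw [mul_inv_eq_iff_eq_mul]
  apply Subtype.ext
  apply Units.ext
  show (Matrix.fromBlocks (0 : Matrix ι ι F) (1 : Matrix ι ι F) (1 : Matrix ι ι F)
      (0 : Matrix ι ι F)) *
      Matrix.fromBlocks ((g : Matrix.GeneralLinearGroup ι F) : Matrix ι ι F) 0 0 1 =
    Matrix.fromBlocks 1 0 0 ((g : Matrix.GeneralLinearGroup ι F) : Matrix ι ι F) *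
      Matrix.fromBlocks (0 : Matrix ι ι F) (1 : Matrix ι ι F) (1 : Matrix ι ι F)
      (0 : Matrix ι ι F)
  rw [Matrix.fromBlocks_multiply, Matrix.fromBlocks_multiply]
  simp

end



/-- For the orthogonal direct sum Q ⊕ Q of two copies of a quadratic form Q with non-degenerate polar form on F^k (F finite), every isometry g of Q acting diagonally, diag(g, g), lies in Ω(Q ⊕ Q), the commutator subgroup of the orthogonal group of Q ⊕ Q. (Excluded: k = 2 over the field of two elements, where Q ⊕ Q is the hyperbolic 4-space whose orthogonal group's commutator subgroup is smaller than the group usually called Ω.) -/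
theorem result {F : Type*} [Field F] [Fintype F] {k : ℕ} (h : Fintype.card F ≠ 2 ∨ k ≠ 2) (Q : QuadraticForm F (Fin k → F)) (hQ : (QuadraticMap.polarBilin Q).Nondegenerate) (g : ↥(Cfsg.isometryGroup F ⇑Q)) : ∃ x : ↥(Cfsg.isometryGroup F (fun v : Fin k ⊕ Fin k → F => Q (v ∘ Sum.inl) + Q (v ∘ Sum.inr))), x ∈ Cfsg.Omega F (fun v : Fin k ⊕ Fin k → F => Q (v ∘ Sum.inl) + Q (v ∘ Sum.inr)) ∧ ((x : Matrix.GeneralLinearGroup (Fin k ⊕ Fin k) F) : Matrix (Fin k ⊕ Fin k) (Fin k ⊕ Fin k) F) = Matrix.fromBlocks ((g : Matrix.GeneralLinearGroup (Fin k) F) : Matrix (Fin k) (Fin k) F) 0 0 ((g : Matrix.GeneralLinearGroup (Fin k) F) : Matrix (Fin k) (Fin k) F) := by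
  show ∃ x : ↥(Cfsg.isometryGroup F ⇑(osum Q Q)), x ∈ commutator ↥(Cfsg.isometryGroup F ⇑(osum Q Q)) ∧
    ((x : Matrix.GeneralLinearGroup (Fin k ⊕ Fin k) F) : Matrix (Fin k ⊕ Fin k) (Fin k ⊕ Fin k) F) =
      Matrix.fromBlocks ((g : Matrix.GeneralLinearGroup (Fin k) F) : Matrix (Fin k) (Fin k) F) 0 0
        ((g : Matrix.GeneralLinearGroup (Fin k) F) : Matrix (Fin k) (Fin k) F)
  rcases Nat.eq_zero_or_pos k with hk | hk
  · subst hk
    refine ⟨1, Subgroup.one_mem _, ?_⟩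
    ext i j
    rcases i with i | i <;> exact i.elim0
  · have hnd := osum_nondeg Q Q hQ hQ
    have hex : Fintype.card F ≠ 2 ∨ Fintype.card (Fin k ⊕ Fin k) ≠ 4 := by
      rw [Fintype.card_sum, Fintype.card_fin]
      rcases h with h | h
      · exact Or.inl h
      · right; omega
    have hn : 2 ≤ Fintype.card (Fin k ⊕ Fin k) := by
      rw [Fintype.card_sum, Fintype.card_fin]; omega
    refine ⟨embL g * (sw * embL g * sw⁻¹), mul_conj_mem_commutator hnd hex hn _ _, ?_⟩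
    rw [sw_conj]
    show Matrix.fromBlocks ((g : Matrix.GeneralLinearGroup (Fin k) F) : Matrix (Fin k) (Fin k) F) 0 0 1 *
      Matrix.fromBlocks 1 0 0 ((g : Matrix.GeneralLinearGroup (Fin k) F) : Matrix (Fin k) (Fin k) F) = _
    rw [Matrix.fromBlocks_multiply]
    simp


end Cfsg.Agent.S2628
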