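import Cfsg.Statements.S2629
import Cfsg.Agent.Lib.Helper5.MaxTS

set_option autoImplicit false
open Cfsg

namespace Cfsg.Agent.S2629


open Cfsg.Agent.Lib.Helper2 Cfsg.Agent.Lib.Helper2.CDG Cfsg.Agent.Lib.Helper2.ReflGen
open Cfsg.Agent.Lib.Helper5.OmegaCrit Cfsg.Agent.Lib.Helper5.MaxTS
open Cfsg.Agent.Lib.Helper5.QuadGlue Cfsg.Agent.Lib.Helper2.QuadStd

section
variable {F : Type*} [Field F] {ι : Type} [Fintype ι] [DecidableEq ι] {Q : QuadraticForm F (ι → F)}

theorem det_prod (vs : List (ι → F)) (hvs : ∀ v ∈ vs, Q v ≠ 0) :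
    ((vs.map (fun v => Cfsg.reflectionMatrix ⇑Q v)).prod).det = (-1) ^ vs.length := by
  induction vs with
  | nil => simp
  | cons v vs ih =>
    rw [List.map_cons, List.prod_cons, Matrix.det_mul, ih (fun w hw => hvs w (List.mem_cons_of_mem _ hw)),
      (reflection_facts Q v (hvs v List.mem_cons_self)).2.2.2, List.length_cons, pow_succ]
    ring

end



/-- For the hyperbolic form Σ x_i y_i on F^(2m) over a finite field of odd order (m ≥ 1), an isometry g preserves the class of the maximal totally singular subspace U₀ = {y = 0} (that is, m − dim(U₀ ∩ gU₀) is even) if and only if det g = 1: the stabiliser of each of the two classes of maximal totally singular subspaces is SO. -/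
theorem result {F : Type*} [Field F] [Fintype F] (h2 : (2 : F) ≠ 0) {m : ℕ} (hm : 1 ≤ m) (g : ↥(Cfsg.isometryGroup F (Cfsg.quadFormPlus m F))) : Even (m - Module.finrank F ↥(LinearMap.ker (LinearMap.funLeft F F (Sum.inr : Fin m → Fin m ⊕ Fin m)) ⊓ (LinearMap.ker (LinearMap.funLeft F F (Sum.inr : Fin m → Fin m ⊕ Fin m))).map (Matrix.mulVecLin ((g : Matrix.GeneralLinearGroup (Fin m ⊕ Fin m) F) : Matrix (Fin m ⊕ Fin m) (Fin m ⊕ Fin m) F)))) ↔ ((g : Matrix.GeneralLinearGroup (Fin m ⊕ Fin m) F) : Matrix (Fin m ⊕ Fin m) (Fin m ⊕ Fin m) F).det = 1 := by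
  have key : ∀ g : ↥(Cfsg.isometryGroup F ⇑(QP m F)),
      (Even (m - Module.finrank F ↥(Estd m F ⊓ (Estd m F).map (Matrix.mulVecLin
        ((g : Matrix.GeneralLinearGroup (Fin m ⊕ Fin m) F) : Matrix (Fin m ⊕ Fin m) (Fin m ⊕ Fin m) F)))) ↔
      ((g : Matrix.GeneralLinearGroup (Fin m ⊕ Fin m) F) : Matrix (Fin m ⊕ Fin m) (Fin m ⊕ Fin m) F).det = 1) := by
    intro g
    obtain ⟨vs, hvs, hg⟩ := exists_list (closure_R_eq_top h2 (QP_nondeg m)) g
    have h1 := even_sub_iff (QP_nondeg m) (isLag_Estd m) vs hvs g hg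
    rw [finrank_Estd] at h1
    rw [h1, hg, det_prod vs hvs]
    constructor
    · intro he
      exact he.neg_one_pow
    · intro hpow
      rcases Nat.even_or_odd vs.length with he | ho
      · exact he
      · rw [ho.neg_one_pow] at hpow
        exfalso
        apply h2
        have : (2 : F) = 1 - (-1) := by ring
        rw [this, hpow]; ring
  rw [QP_coe] at key
  exact key g


end Cfsg.Agent.S2629
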