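import Cfsg.Statements.S2630
import Cfsg.Agent.Lib.Helper5.MaxTS

set_option autoImplicit false
open Cfsg

namespace Cfsg.Agent.S2630


open Cfsg.Agent.Lib.Helper2 Cfsg.Agent.Lib.Helper2.CDG Cfsg.Agent.Lib.Helper2.ReflGen
open Cfsg.Agent.Lib.Helper5.OmegaCrit Cfsg.Agent.Lib.Helper5.MaxTS
open Cfsg.Agent.Lib.Helper5.QuadGlue Cfsg.Agent.Lib.Helper2.QuadStd



/-- For the hyperbolic form Σ x_i y_i on F^(2m) over a finite field of characteristic two (m ≥ 1, excluding m = 2 over the field of two elements), an isometry g preserves the class of the maximal totally singular subspace U₀ = {y = 0} (m − dim(U₀ ∩ gU₀) even) if and only if g lies in Ω (the commutator subgroup of the orthogonal group): the stabiliser of each class is Ω. -/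
theorem result {F : Type*} [Field F] [Fintype F] [CharP F 2] {m : ℕ} (hm : 1 ≤ m) (h : Fintype.card F ≠ 2 ∨ m ≠ 2) (g : ↥(Cfsg.isometryGroup F (Cfsg.quadFormPlus m F))) : Even (m - Module.finrank F ↥(LinearMap.ker (LinearMap.funLeft F F (Sum.inr : Fin m → Fin m ⊕ Fin m)) ⊓ (LinearMap.ker (LinearMap.funLeft F F (Sum.inr : Fin m → Fin m ⊕ Fin m))).map (Matrix.mulVecLin ((g : Matrix.GeneralLinearGroup (Fin m ⊕ Fin m) F) : Matrix (Fin m ⊕ Fin m) (Fin m ⊕ Fin m) F)))) ↔ g ∈ Cfsg.Omega F (Cfsg.quadFormPlus m F) := by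
  have h2 : (2 : F) = 0 := CharTwo.two_eq_zero
  have hex : Fintype.card F ≠ 2 ∨ Fintype.card (Fin m ⊕ Fin m) ≠ 4 := by
    rw [Fintype.card_sum, Fintype.card_fin]
    rcases h with h | h
    · exact Or.inl h
    · right; omega
  have hn : 2 ≤ Fintype.card (Fin m ⊕ Fin m) := by
    rw [Fintype.card_sum, Fintype.card_fin]; omega
  have key : ∀ g : ↥(Cfsg.isometryGroup F ⇑(QP m F)),
      (Even (m - Module.finrank F ↥(Estd m F ⊓ (Estd m F).map (Matrix.mulVecLin
        ((g : Matrix.GeneralLinearGroup (Fin m ⊕ Fin m) F) : Matrix (Fin m ⊕ Fin m) (Fin m ⊕ Fin m) F)))) ↔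
      g ∈ commutator ↥(Cfsg.isometryGroup F ⇑(QP m F))) := by
    intro g
    obtain ⟨vs, hvs, hg⟩ := exists_list (closure_R_all (QP_nondeg m) hex hn) g
    have h1 := even_sub_iff (QP_nondeg m) (isLag_Estd m) vs hvs g hg
    rw [finrank_Estd] at h1
    rw [h1, mem_commutator_iff₂ h2 (QP_nondeg m) hex hn, dfun_prod (QP_nondeg m) vs hvs g hg,
      ZMod.natCast_eq_zero_iff_even]
  rw [QP_coe] at key
  exact key g


end Cfsg.Agent.S2630
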