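import Cfsg.Statements.S2631
import Cfsg.Agent.Lib.Helper5.OmegaAdjust
import Cfsg.Agent.S0750

set_option autoImplicit false
open Cfsg

namespace Cfsg.Agent.S2631


open Cfsg.Agent.Lib.Helper5.OmegaAdjust Cfsg.Agent.Lib.Helper5.MaxTS
open Cfsg.Agent.Lib.Helper5.QuadGlue Cfsg.Agent.Lib.Helper2.QuadStd

theorem main {F : Type*} [Field F] [Fintype F] {m : ℕ} (hm : 1 ≤ m) (h : Fintype.card F ≠ 2 ∨ m ≠ 2)
    (witt : ∀ (X Y : Submodule F (Fin m ⊕ Fin m → F)) (φ : X ≃ₗ[F] Y), (∀ x : X, QP m F (φ x : Fin m ⊕ Fin m → F) = QP m F (x : Fin m ⊕ Fin m → F)) → ∃ g : (Fin m ⊕ Fin m → F) ≃ₗ[F] (Fin m ⊕ Fin m → F), (∀ v : Fin m ⊕ Fin m → F, QP m F (g v) = QP m F v) ∧ ∀ x : X, g (x : Fin m ⊕ Fin m → F) = (φ x : Fin m ⊕ Fin m → F))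
    (U W : Submodule F (Fin m ⊕ Fin m → F)) (hU : Module.finrank F U = m) (hW : Module.finrank F W = m) (hU0 : ∀ u ∈ U, Cfsg.quadFormPlus m F u = 0) (hW0 : ∀ w ∈ W, Cfsg.quadFormPlus m F w = 0) (he : Even (m - Module.finrank F ↥(U ⊓ W))) : ∃ g : ↥(Cfsg.isometryGroup F (Cfsg.quadFormPlus m F)), g ∈ Cfsg.Omega F (Cfsg.quadFormPlus m F) ∧ U.map (Matrix.mulVecLin ((g : Matrix.GeneralLinearGroup (Fin m ⊕ Fin m) F) : Matrix (Fin m ⊕ Fin m) (Fin m ⊕ Fin m) F)) = W := by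
  have hex : Fintype.card F ≠ 2 ∨ Fintype.card (Fin m ⊕ Fin m) ≠ 4 := by
    rw [Fintype.card_sum, Fintype.card_fin]
    rcases h with h | h
    · exact Or.inl h
    · right; omega
  have hn : 2 ≤ Fintype.card (Fin m ⊕ Fin m) := by
    rw [Fintype.card_sum, Fintype.card_fin]; omega
  have key : ∃ g : ↥(Cfsg.isometryGroup F ⇑(QP m F)), g ∈ commutator ↥(Cfsg.isometryGroup F ⇑(QP m F)) ∧
      U.map (Matrix.mulVecLin ((g : Matrix.GeneralLinearGroup (Fin m ⊕ Fin m) F) : Matrix (Fin m ⊕ Fin m) (Fin m ⊕ Fin m) F)) = W := by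
    have hUl : IsLag (QP m F) U :=
      ⟨fun u hu => by rw [QP_apply]; exact hU0 u hu, by rw [hU, Fintype.card_sum, Fintype.card_fin]; ring⟩
    have hWl : IsLag (QP m F) W :=
      ⟨fun u hu => by rw [QP_apply]; exact hW0 u hu, by rw [hW, Fintype.card_sum, Fintype.card_fin]; ring⟩
    set φ : ↥U ≃ₗ[F] ↥W := LinearEquiv.ofFinrankEq U W (hU.trans hW.symm) with hφ
    obtain ⟨g, hg1, hg2⟩ := witt U W φ (fun x => by rw [hUl.ts _ x.2, hWl.ts _ (φ x).2])
    obtain ⟨g₀, hg₀⟩ := exists_iso_of_linearEquiv g hg1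
    have hact : act g₀ U = W := act_eq_of_extends g₀ U W φ (fun x => by rw [hg₀, hg2])
    obtain ⟨g', hg', hact'⟩ := lag_adjust (QP_nondeg m) hex hn U W hUl hWl (by rw [hU]; exact he) g₀ hact
    exact ⟨g', hg', hact'⟩
  rw [QP_coe] at key
  exact key



/-- For the hyperbolic form Σ x_i y_i on F^(2m) over a finite field (m ≥ 1, excluding m = 2 over the field of two elements), Ω (the commutator subgroup of the orthogonal group) acts transitively on each of the two classes of maximal totally singular subspaces: if U and W are m-dimensional totally singular subspaces with m − dim(U ∩ W) even, some element of Ω carries U to W. -/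
theorem result {F : Type*} [Field F] [Fintype F] {m : ℕ} (hm : 1 ≤ m) (h : Fintype.card F ≠ 2 ∨ m ≠ 2) (U W : Submodule F (Fin m ⊕ Fin m → F)) (hU : Module.finrank F U = m) (hW : Module.finrank F W = m) (hU0 : ∀ u ∈ U, Cfsg.quadFormPlus m F u = 0) (hW0 : ∀ w ∈ W, Cfsg.quadFormPlus m F w = 0) (he : Even (m - Module.finrank F ↥(U ⊓ W))) : ∃ g : ↥(Cfsg.isometryGroup F (Cfsg.quadFormPlus m F)), g ∈ Cfsg.Omega F (Cfsg.quadFormPlus m F) ∧ U.map (Matrix.mulVecLin ((g : Matrix.GeneralLinearGroup (Fin m ⊕ Fin m) F) : Matrix (Fin m ⊕ Fin m) (Fin m ⊕ Fin m) F)) = W := by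
  exact main hm h (fun X Y φ hφ => Cfsg.Agent.S0750.result (QP m F) (QP_nondeg m) X Y φ hφ) U W hU hW hU0 hW0 he


end Cfsg.Agent.S2631
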