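import Cfsg.Statements.S2632
import Cfsg.Agent.Lib.Helper5.OmegaAdjust
import Cfsg.Agent.S0750

set_option autoImplicit false
open Cfsg

namespace Cfsg.Agent.S2632


open Cfsg.Agent.Lib.Helper5.OmegaAdjust

theorem main {F : Type*} [Field F] [Fintype F] {n : ℕ} (hn : 3 ≤ n) (h : Fintype.card F ≠ 2 ∨ n ≠ 4) (Q : QuadraticForm F (Fin n → F)) (hQ : (QuadraticMap.polarBilin Q).Nondegenerate)
    (witt : ∀ (X Y : Submodule F (Fin n → F)) (φ : X ≃ₗ[F] Y), (∀ x : X, Q (φ x : Fin n → F) = Q (x : Fin n → F)) → ∃ g : (Fin n → F) ≃ₗ[F] (Fin n → F), (∀ v : Fin n → F, Q (g v) = Q v) ∧ ∀ x : X, g (x : Fin n → F) = (φ x : Fin n → F))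
    (U W : Submodule F (Fin n → F)) (hU : U ⊓ LinearMap.BilinForm.orthogonal (QuadraticMap.polarBilin Q) U = ⊥) (hW : W ⊓ LinearMap.BilinForm.orthogonal (QuadraticMap.polarBilin Q) W = ⊥) (e : U ≃ₗ[F] W) (he : ∀ u : U, Q (e u : Fin n → F) = Q (u : Fin n → F)) : ∃ g : ↥(Cfsg.isometryGroup F ⇑Q), g ∈ Cfsg.Omega F ⇑Q ∧ U.map (Matrix.mulVecLin ((g : Matrix.GeneralLinearGroup (Fin n) F) : Matrix (Fin n) (Fin n) F)) = W := by
  have hex : Fintype.card F ≠ 2 ∨ Fintype.card (Fin n) ≠ 4 := by rw [Fintype.card_fin]; exact h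
  obtain ⟨g, hg1, hg2⟩ := witt U W e he
  obtain ⟨g₀, hg₀⟩ := exists_iso_of_linearEquiv g hg1
  have hact : act g₀ U = W := act_eq_of_extends g₀ U W e (fun x => by rw [hg₀, hg2])
  obtain ⟨g', hg', hact'⟩ := nondeg_adjust hQ hex (by rw [Fintype.card_fin]; exact hn) U W hW g₀ hact
  exact ⟨g', hg', hact'⟩



/-- Ω is transitive on non-degenerate subspaces of each isometry type: for a quadratic form Q on F^n, n ≥ 3, with non-degenerate polar form (F finite; excluding dimension 4 over the field of two elements), if U and W are subspaces on which the polar form is non-degenerate and there is a Q-preserving linear isomorphism U → W, then some element of Ω (the commutator subgroup of the orthogonal group) carries U to W. (In dimension 2 this fails: Ω can be {±1}, which fixes every line.) -/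
theorem result {F : Type*} [Field F] [Fintype F] {n : ℕ} (hn : 3 ≤ n) (h : Fintype.card F ≠ 2 ∨ n ≠ 4) (Q : QuadraticForm F (Fin n → F)) (hQ : (QuadraticMap.polarBilin Q).Nondegenerate) (U W : Submodule F (Fin n → F)) (hU : U ⊓ LinearMap.BilinForm.orthogonal (QuadraticMap.polarBilin Q) U = ⊥) (hW : W ⊓ LinearMap.BilinForm.orthogonal (QuadraticMap.polarBilin Q) W = ⊥) (e : U ≃ₗ[F] W) (he : ∀ u : U, Q (e u : Fin n → F) = Q (u : Fin n → F)) : ∃ g : ↥(Cfsg.isometryGroup F ⇑Q), g ∈ Cfsg.Omega F ⇑Q ∧ U.map (Matrix.mulVecLin ((g : Matrix.GeneralLinearGroup (Fin n) F) : Matrix (Fin n) (Fin n) F)) = W := by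
  exact main hn h Q hQ (fun X Y φ hφ => Cfsg.Agent.S0750.result Q hQ X Y φ hφ) U W hU hW e he


end Cfsg.Agent.S2632
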