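import Cfsg.Statements.S2633
import Cfsg.Agent.Lib.Helper5.OmegaAdjust
import Cfsg.Agent.S0750

set_option autoImplicit false
open Cfsg

namespace Cfsg.Agent.S2633


open Cfsg.Agent.Lib.Helper5.OmegaAdjust

theorem main {F : Type*} [Field F] [Fintype F] {n : ℕ} (h : Fintype.card F ≠ 2 ∨ n ≠ 4) (Q : QuadraticForm F (Fin n → F)) (hQ : (QuadraticMap.polarBilin Q).Nondegenerate)
    (witt : ∀ (X Y : Submodule F (Fin n → F)) (φ : X ≃ₗ[F] Y), (∀ x : X, Q (φ x : Fin n → F) = Q (x : Fin n → F)) → ∃ g : (Fin n → F) ≃ₗ[F] (Fin n → F), (∀ v : Fin n → F, Q (g v) = Q v) ∧ ∀ x : X, g (x : Fin n → F) = (φ x : Fin n → F)) (U W : Submodule F (Fin n → F)) {k : ℕ} (hk : 2 * k < n) (hU : Module.finrank F U = k) (hW : Module.finrank F W = k) (hU0 : ∀ u ∈ U, Q u = 0) (hW0 : ∀ w ∈ W, Q w = 0) : ∃ g : ↥(Cfsg.isometryGroup F ⇑Q), g ∈ Cfsg.Omega F ⇑Q ∧ U.map (Matrix.mulVecLin ((g : Matrix.GeneralLinearGroup (Fin n) F) : Matrix (Fin n) (Fin n) F)) = W := by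
  have hex : Fintype.card F ≠ 2 ∨ Fintype.card (Fin n) ≠ 4 := by rw [Fintype.card_fin]; exact h
  set φ : ↥U ≃ₗ[F] ↥W := LinearEquiv.ofFinrankEq U W (hU.trans hW.symm) with hφ
  obtain ⟨g, hg1, hg2⟩ := witt U W φ (fun x => by rw [hU0 _ x.2, hW0 _ (φ x).2])
  obtain ⟨g₀, hg₀⟩ := exists_iso_of_linearEquiv g hg1
  have hact : act g₀ U = W := act_eq_of_extends g₀ U W φ (fun x => by rw [hg₀, hg2])
  obtain ⟨g', hg', hact'⟩ := ts_adjust hQ hex U W hW0 (by rw [hW, Fintype.card_fin]; exact hk) g₀ hact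
  exact ⟨g', hg', hact'⟩



/-- Ω is transitive on totally singular subspaces of each dimension less than half the dimension: for a quadratic form Q on F^n with non-degenerate polar form (F finite; excluding dimension 4 over the field of two elements), if U and W are subspaces of the same dimension k with 2k < n on which Q vanishes, then some element of Ω (the commutator subgroup of the orthogonal group) carries U to W. -/
theorem result {F : Type*} [Field F] [Fintype F] {n : ℕ} (h : Fintype.card F ≠ 2 ∨ n ≠ 4) (Q : QuadraticForm F (Fin n → F)) (hQ : (QuadraticMap.polarBilin Q).Nondegenerate) (U W : Submodule F (Fin n → F)) {k : ℕ} (hk : 2 * k < n) (hU : Module.finrank F U = k) (hW : Module.finrank F W = k) (hU0 : ∀ u ∈ U, Q u = 0) (hW0 : ∀ w ∈ W, Q w = 0) : ∃ g : ↥(Cfsg.isometryGroup F ⇑Q), g ∈ Cfsg.Omega F ⇑Q ∧ U.map (Matrix.mulVecLin ((g : Matrix.GeneralLinearGroup (Fin n) F) : Matrix (Fin n) (Fin n) F)) = W := by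
  exact main h Q hQ (fun X Y φ hφ => Cfsg.Agent.S0750.result Q hQ X Y φ hφ) U W hk hU hW hU0 hW0


end Cfsg.Agent.S2633
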