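import Cfsg.Statements.S2634
import Cfsg.Agent.Lib.Helper5.OmegaCrit

set_option autoImplicit false
open Cfsg

namespace Cfsg.Agent.S2634


open Cfsg.Agent.Lib.Helper2 Cfsg.Agent.Lib.Helper2.CDG Cfsg.Agent.Lib.Helper2.Dickson
open Cfsg.Agent.Lib.Helper5.OmegaCrit Matrix



/-- Over a finite field of characteristic two, Ω (the commutator subgroup of the orthogonal group of a quadratic form Q on F^n with non-degenerate polar form; excluding dimension 4 over the field of two elements) acts transitively on the non-singular 1-spaces: for u, v with Q(u) ≠ 0 and Q(v) ≠ 0 some element of Ω carries the line through u to the line through v. -/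
theorem result {F : Type*} [Field F] [Fintype F] [CharP F 2] {n : ℕ} (h : Fintype.card F ≠ 2 ∨ n ≠ 4) (Q : QuadraticForm F (Fin n → F)) (hQ : (QuadraticMap.polarBilin Q).Nondegenerate) (u v : Fin n → F) (hu : Q u ≠ 0) (hv : Q v ≠ 0) : ∃ g : ↥(Cfsg.isometryGroup F ⇑Q), g ∈ Cfsg.Omega F ⇑Q ∧ (F ∙ ((g : Matrix.GeneralLinearGroup (Fin n) F) : Matrix (Fin n) (Fin n) F).mulVec u) = F ∙ v := by
  have h2 : (2 : F) = 0 := CharTwo.two_eq_zero
  have hex : Fintype.card F ≠ 2 ∨ Fintype.card (Fin n) ≠ 4 := by rw [Fintype.card_fin]; exact h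
  have hu0 : u ≠ 0 := by rintro rfl; exact hu (QuadraticMap.map_zero Q)
  -- the dimension is at least two
  have hn : 2 ≤ Fintype.card (Fin n) := by
    rw [Fintype.card_fin]
    by_contra hlt
    have hn1 : n ≤ 1 := by omega
    apply hu0
    apply hQ.1 u
    intro a
    have hprop : ∃ c : F, a = c • u := by
      have hne : ∃ i, u i ≠ 0 := by
        by_contra hall
        push Not at hall
        exact hu0 (funext hall)
      obtain ⟨i, hi⟩ := hne
      refine ⟨a i / u i, ?_⟩
      funext j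
      have hij : j = i := by
        apply Fin.ext
        have := i.2
        have := j.2
        omega
      rw [hij, Pi.smul_apply, smul_eq_mul]
      field_simp
    obtain ⟨c, rfl⟩ := hprop
    show QuadraticMap.polar (⇑Q) u (c • u) = 0
    rw [QuadraticMap.polar_smul_right, OrthTwo.polar_self₂ h2, smul_zero]
  obtain ⟨c, hc⟩ := OrthTwo.exists_sq h2 (Q u / Q v)
  have hc0 : c ≠ 0 := by
    rintro rfl
    rw [zero_mul] at hc
    exact (div_ne_zero hu hv) hc.symm
  have hQv' : Q u = Q (c • v) := by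
    rw [Spinor.map_smul_self, hc]
    field_simp
  obtain ⟨ρ, -, hρ⟩ := OrthTwo.exists_closure_map h2 hQ hex u (c • v) hu hQv'
  have hspan : (F ∙ (c • v)) = F ∙ v := by
    exact Submodule.span_singleton_smul_eq (IsUnit.mk0 c hc0) v
  show ∃ g : ↥(Cfsg.isometryGroup F ⇑Q), g ∈ commutator _ ∧ _
  by_cases hd : dfun ρ = 0
  · refine ⟨ρ, (mem_commutator_iff₂ h2 hQ hex hn ρ).2 hd, ?_⟩
    rw [hρ, hspan]
  · refine ⟨ρ * refl Q u hu, (mem_commutator_iff₂ h2 hQ hex hn _).2 ?_, ?_⟩
    · have hgen := OrthTwo.closure_R_eq_top₂ h2 hQ hex hn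
      rw [dfun_mul hQ hgen, dfun_refl hQ]
      have hx : ∀ a : ZMod 2, a ≠ 0 → a + 1 = 0 := by decide
      exact hx _ hd
    · have h1 : ((refl Q u hu : Matrix.GeneralLinearGroup (Fin n) F) : Matrix (Fin n) (Fin n) F) *ᵥ u = u := by
        rw [refl_coe, (ReflGen.reflection_facts Q u hu).2.1]
        exact OrthTwo.vneg₂ h2 u
      have h3 := mul_mulVec ρ (refl Q u hu) u
      rw [h1, hρ] at h3
      rw [h3, hspan]


end Cfsg.Agent.S2634
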