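import Mathlib
import Cfsg.Statements.S2636

set_option autoImplicit false
open Cfsg

namespace Cfsg.Agent.S2636


variable {F : Type*} [Field F] [Fintype F]

omit [Fintype F] in
theorem mem_fixed_iff (σ : F ≃+* F) (x : F) :
    x ∈ FixedPoints.subfield (Subgroup.zpowers σ) F ↔ σ x = x := by
  constructor
  · intro h
    exact h ⟨σ, Subgroup.mem_zpowers σ⟩
  · intro h g
    have h1 : Subgroup.zpowers σ ≤ MulAction.stabilizer (F ≃+* F) x := by
      rw [Subgroup.zpowers_le]
      exact h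
    exact h1 g.2

theorem card_fixed {q₀ r : ℕ} (hr : r.Prime) (hF : Fintype.card F = q₀ ^ r) (σ : F ≃+* F)
    (hσ : orderOf σ = r) : Nat.card (FixedPoints.subfield (Subgroup.zpowers σ) F) = q₀ := by
  classical
  have : Finite (F ≃+* F) := Finite.of_injective (fun e : F ≃+* F => (e : F → F)) DFunLike.coe_injective
  have : Fintype (Subgroup.zpowers σ) := Fintype.ofFinite _
  have : Fintype (FixedPoints.subfield (Subgroup.zpowers σ) F) := Fintype.ofFinite _
  have h1 := FixedPoints.finrank_eq_card (Subgroup.zpowers σ) F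
  rw [← Nat.card_eq_fintype_card, Nat.card_zpowers, hσ] at h1
  have h2 := Module.card_eq_pow_finrank (K := FixedPoints.subfield (Subgroup.zpowers σ) F) (V := F)
  rw [h1, hF] at h2
  rw [Nat.card_eq_fintype_card]
  exact (Nat.pow_left_injective hr.ne_zero h2).symm



open Matrix.GeneralLinearGroup in
/-- pairs `(g, c)` with `σ(g) = c g` -/
def pairs {F : Type*} [Field F] (σ : F ≃+* F) (n : ℕ) : Subgroup (GL (Fin n) F × Fˣ) where
  carrier := {x | Matrix.GeneralLinearGroup.map (σ : F →+* F) x.1 =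
    Matrix.GeneralLinearGroup.scalar (Fin n) x.2 * x.1}
  mul_mem' := by
    intro x y hx hy
    simp only [Set.mem_ofPred_eq, Prod.fst_mul, Prod.snd_mul, map_mul] at *
    rw [hx, hy]
    have h1 := scalar_commute y.2 x.1
    calc scalar (Fin n) x.2 * x.1 * (scalar (Fin n) y.2 * y.1)
        = scalar (Fin n) x.2 * (x.1 * scalar (Fin n) y.2) * y.1 := by group
      _ = scalar (Fin n) x.2 * (scalar (Fin n) y.2 * x.1) * y.1 := by rw [h1]
      _ = scalar (Fin n) x.2 * scalar (Fin n) y.2 * (x.1 * y.1) := by group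
  one_mem' := by simp
  inv_mem' := by
    intro x hx
    simp only [Set.mem_ofPred_eq, Prod.fst_inv, Prod.snd_inv, map_inv] at *
    rw [hx, mul_inv_rev]
    have h1 := scalar_commute x.2 x.1
    have h2 : (x.1)⁻¹ * (scalar (Fin n) x.2)⁻¹ = (scalar (Fin n) x.2 * x.1)⁻¹ := by
      rw [mul_inv_rev]
    rw [h2, h1, mul_inv_rev]

variable {F : Type*} [Field F]

theorem mem_pairs_iff (σ : F ≃+* F) (n : ℕ) (x : GL (Fin n) F × Fˣ) :
    x ∈ pairs σ n ↔ (x.1 : Matrix (Fin n) (Fin n) F).map σ = (x.2 : F) • (x.1 : Matrix (Fin n) (Fin n) F) := by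
  show Matrix.GeneralLinearGroup.map (σ : F →+* F) x.1 =
    Matrix.GeneralLinearGroup.scalar (Fin n) x.2 * x.1 ↔ _
  rw [Units.ext_iff]
  have h1 : ((Matrix.GeneralLinearGroup.map (σ : F →+* F) x.1 : GL (Fin n) F) :
      Matrix (Fin n) (Fin n) F) = (x.1 : Matrix (Fin n) (Fin n) F).map σ := rfl
  have h2 : ((Matrix.GeneralLinearGroup.scalar (Fin n) x.2 * x.1 : GL (Fin n) F) :
      Matrix (Fin n) (Fin n) F) = (x.2 : F) • (x.1 : Matrix (Fin n) (Fin n) F) := by
    rw [Units.val_mul, Matrix.GeneralLinearGroup.coe_scalar]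
    ext i j
    simp [Matrix.scalar_apply, Matrix.diagonal_mul]
  rw [h1, h2]



variable {F : Type*} [Field F]

/-- the homomorphism `d ↦ σ(d)/d` -/
def beta (σ : F ≃+* F) : Fˣ →* Fˣ := Units.map (σ : F →+* F).toMonoidHom / MonoidHom.id Fˣ

theorem beta_apply (σ : F ≃+* F) (d : Fˣ) : ((beta σ d : Fˣ) : F) = σ d / d := by
  simp [beta, MonoidHom.div_apply, Units.val_div_eq_div_val]

theorem mem_ker_beta (σ : F ≃+* F) (d : Fˣ) : d ∈ (beta σ).ker ↔ σ (d : F) = d := by
  rw [MonoidHom.mem_ker, Units.ext_iff, beta_apply, Units.val_one, div_eq_one_iff_eq d.ne_zero]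

/-- the kernel of `beta` is the unit group of the fixed field -/
def kerBetaEquiv (σ : F ≃+* F) (F₀ : Subfield F) (hF₀ : ∀ x, x ∈ F₀ ↔ σ x = x) :
    (beta σ).ker ≃ F₀ˣ where
  toFun d := Units.mk0 ⟨d.1.1, (hF₀ _).2 ((mem_ker_beta σ d.1).1 d.2)⟩ (by
    intro h
    exact d.1.ne_zero (congrArg Subtype.val h))
  invFun u := ⟨Units.mk0 (u.1.1) (by
    intro h
    exact u.ne_zero (Subtype.ext h)), by
    rw [mem_ker_beta]
    exact (hF₀ _).1 u.1.2⟩
  left_inv d := by
    apply Subtype.ext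
    apply Units.ext
    rfl
  right_inv u := by
    apply Units.ext
    apply Subtype.ext
    rfl


section main
variable {F : Type*} [Field F]

/-- second projection on `pairs` -/
def proj2 (σ : F ≃+* F) (n : ℕ) : pairs σ n →* Fˣ := (MonoidHom.snd _ _).comp (pairs σ n).subtype

theorem range_proj2 (σ : F ≃+* F) (n : ℕ) (hn : 1 ≤ n) : (proj2 σ n).range = (beta σ).range := by
  ext c
  constructor
  · rintro ⟨x, rfl⟩
    have hx := (mem_pairs_iff σ n x.1).1 x.2
    -- a nonzero entry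
    have hne : ∃ i j, (x.1.1 : Matrix (Fin n) (Fin n) F) i j ≠ 0 := by
      by_contra hcon
      push Not at hcon
      have h0 : (x.1.1 : Matrix (Fin n) (Fin n) F) = 0 := by
        ext i j; exact hcon i j
      have h1 : (x.1.1 : Matrix (Fin n) (Fin n) F) * ((x.1.1)⁻¹ : GL (Fin n) F).1 = 1 :=
        Units.mul_inv x.1.1
      rw [h0, Matrix.zero_mul] at h1
      have h2 := congrFun (congrFun h1 ⟨0, hn⟩) ⟨0, hn⟩
      simp at h2
    obtain ⟨i, j, hij⟩ := hne
    refine ⟨Units.mk0 _ hij, ?_⟩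
    apply Units.ext
    rw [beta_apply]
    show σ ((x.1.1 : Matrix (Fin n) (Fin n) F) i j) / (x.1.1 : Matrix (Fin n) (Fin n) F) i j = (x.1.2 : F)
    have h3 := congrFun (congrFun hx i) j
    rw [Matrix.map_apply, Matrix.smul_apply, smul_eq_mul] at h3
    rw [h3, mul_div_assoc, div_self hij, mul_one]
  · rintro ⟨d, rfl⟩
    have hmem : (Matrix.GeneralLinearGroup.scalar (Fin n) d, beta σ d) ∈ pairs σ n := by
      rw [mem_pairs_iff]
      ext i j
      simp only [Matrix.GeneralLinearGroup.coe_scalar, Matrix.map_apply, Matrix.smul_apply,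
        smul_eq_mul, Matrix.scalar_apply, Matrix.diagonal_apply, beta_apply]
      by_cases hij : i = j
      · simp [hij]
      · simp [hij]
    exact ⟨⟨_, hmem⟩, rfl⟩

/-- the kernel of `proj2` is `GL_n` of the fixed field -/
theorem card_ker_proj2 (σ : F ≃+* F) (n : ℕ) (F₀ : Subfield F) (hF₀ : ∀ x, x ∈ F₀ ↔ σ x = x) :
    Nat.card (proj2 σ n).ker = Nat.card (GL (Fin n) F₀) := by
  classical
  have hmem : ∀ h : GL (Fin n) F₀,
      (Matrix.GeneralLinearGroup.map F₀.subtype h, (1 : Fˣ)) ∈ pairs σ n := by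
    intro h
    rw [mem_pairs_iff]
    ext i j
    simp only [Matrix.map_apply, Units.val_one, one_smul]
    exact (hF₀ _).1 (h i j).2
  let ψ : GL (Fin n) F₀ → (proj2 σ n).ker := fun h => ⟨⟨_, hmem h⟩, rfl⟩
  have hψ : Function.Bijective ψ := by
    constructor
    · intro h h' hh
      have h1 : Matrix.GeneralLinearGroup.map F₀.subtype h =
          Matrix.GeneralLinearGroup.map F₀.subtype h' :=
        congrArg (fun z : (proj2 σ n).ker => z.1.1.1) hh
      apply Units.ext
      apply Matrix.ext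
      intro i j
      have h2 : ((Matrix.GeneralLinearGroup.map F₀.subtype h : GL (Fin n) F) :
          Matrix (Fin n) (Fin n) F) i j =
          ((Matrix.GeneralLinearGroup.map F₀.subtype h' : GL (Fin n) F) :
          Matrix (Fin n) (Fin n) F) i j := by rw [h1]
      exact Subtype.ext h2
    · intro x
      have hx := (mem_pairs_iff σ n x.1.1).1 x.1.2
      have hx2 : x.1.1.2 = 1 := x.2
      rw [hx2, Units.val_one, one_smul] at hx
      have hfix : ∀ i j, (x.1.1.1 : Matrix (Fin n) (Fin n) F) i j ∈ F₀ := by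
        intro i j
        rw [hF₀]
        exact congrFun (congrFun hx i) j
      let M₀ : Matrix (Fin n) (Fin n) F₀ := Matrix.of fun i j => ⟨_, hfix i j⟩
      have hM₀ : M₀.map F₀.subtype = (x.1.1.1 : Matrix (Fin n) (Fin n) F) := by
        ext i j; rfl
      have hdet : M₀.det ≠ 0 := by
        intro h0
        have h1 : (F₀.subtype) M₀.det = (x.1.1.1 : Matrix (Fin n) (Fin n) F).det := by
          rw [RingHom.map_det, RingHom.mapMatrix_apply, hM₀]
        rw [h0, map_zero] at h1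
        have : IsUnit (x.1.1.1 : Matrix (Fin n) (Fin n) F).det :=
          (Matrix.isUnit_iff_isUnit_det _).1 x.1.1.1.isUnit
        exact this.ne_zero h1.symm
      refine ⟨Matrix.GeneralLinearGroup.mkOfDetNeZero M₀ hdet, ?_⟩
      apply Subtype.ext
      apply Subtype.ext
      apply Prod.ext
      · apply Units.ext
        exact hM₀
      · exact hx2.symm
  exact (Nat.card_congr (Equiv.ofBijective ψ hψ)).symm

/-- first projection identifies `pairs` with the set of the statement -/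
theorem card_pairs (σ : F ≃+* F) (n : ℕ) (hn : 1 ≤ n) :
    Nat.card (pairs σ n) = Nat.card {g : GL (Fin n) F // ∃ c : F, c ≠ 0 ∧
      (g : Matrix (Fin n) (Fin n) F).map σ = c • (g : Matrix (Fin n) (Fin n) F)} := by
  let φ : pairs σ n → {g : GL (Fin n) F // ∃ c : F, c ≠ 0 ∧
      (g : Matrix (Fin n) (Fin n) F).map σ = c • (g : Matrix (Fin n) (Fin n) F)} :=
    fun x => ⟨x.1.1, x.1.2.1, x.1.2.ne_zero, (mem_pairs_iff σ n x.1).1 x.2⟩
  have hφ : Function.Bijective φ := by
    constructor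
    · intro x y hxy
      have h1 : x.1.1 = y.1.1 := congrArg Subtype.val hxy
      have hx := (mem_pairs_iff σ n x.1).1 x.2
      have hy := (mem_pairs_iff σ n y.1).1 y.2
      rw [h1] at hx
      have h2 : (x.1.2 : F) • (y.1.1 : Matrix (Fin n) (Fin n) F) =
          (y.1.2 : F) • (y.1.1 : Matrix (Fin n) (Fin n) F) := hx.symm.trans hy
      have h3 : (x.1.2 : F) • (1 : Matrix (Fin n) (Fin n) F) = (y.1.2 : F) • 1 := by
        have h4 : (y.1.1 : Matrix (Fin n) (Fin n) F) * ((y.1.1)⁻¹ : GL (Fin n) F).1 = 1 :=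
          Units.mul_inv y.1.1
        rw [← h4, ← Matrix.smul_mul, ← Matrix.smul_mul, h2]
      have h5 := congrFun (congrFun h3 ⟨0, hn⟩) ⟨0, hn⟩
      simp only [Matrix.smul_apply, Matrix.one_apply_eq, smul_eq_mul, mul_one] at h5
      apply Subtype.ext
      exact Prod.ext h1 (Units.ext h5)
    · rintro ⟨g, c, hc, hg⟩
      refine ⟨⟨(g, Units.mk0 c hc), (mem_pairs_iff σ n _).2 hg⟩, rfl⟩
  exact Nat.card_congr (Equiv.ofBijective φ hφ)

end main

theorem result {F : Type*} [Field F] [Fintype F] {q₀ r n : ℕ} (hr : r.Prime) (hn : 1 ≤ n) (hF : Fintype.card F = q₀ ^ r) (σ : F ≃+* F) (hσ : orderOf σ = r) : Nat.card {g : GL (Fin n) F // ∃ c : F, c ≠ 0 ∧ (g : Matrix (Fin n) (Fin n) F).map σ = c • (g : Matrix (Fin n) (Fin n) F)} = (q₀ ^ r - 1) / (q₀ - 1) * ∏ i : Fin n, (q₀ ^ n - q₀ ^ (i : ℕ)) := by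
  classical
  set F₀ : Subfield F := FixedPoints.subfield (Subgroup.zpowers σ) F with hF₀def
  have hF₀ : ∀ x, x ∈ F₀ ↔ σ x = x := mem_fixed_iff σ
  have hcard₀ : Nat.card F₀ = q₀ := card_fixed hr hF σ hσ
  have : Fintype F₀ := Fintype.ofFinite _
  have hcard₀' : Fintype.card F₀ = q₀ := by rw [← Nat.card_eq_fintype_card]; exact hcard₀
  rw [← card_pairs σ n hn]
  have h1 := (proj2 σ n).ker.card_mul_index
  rw [Subgroup.index_ker, range_proj2 σ n hn, card_ker_proj2 σ n F₀ hF₀, Matrix.card_GL_field,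
    hcard₀'] at h1
  have h2 := (beta σ).ker.card_mul_index
  rw [Subgroup.index_ker, Nat.card_congr (kerBetaEquiv σ F₀ hF₀), Nat.card_eq_fintype_card,
    Fintype.card_units, hcard₀', Nat.card_eq_fintype_card (α := Fˣ), Fintype.card_units, hF] at h2
  have hq₀ : 2 ≤ q₀ := by
    have := Fintype.one_lt_card (α := F₀)
    omega
  have h3 : Nat.card (beta σ).range = (q₀ ^ r - 1) / (q₀ - 1) := by
    rw [← h2, Nat.mul_div_cancel_left _ (by omega)]
  rw [← h1, h3, mul_comm]

end Cfsg.Agent.S2636
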