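import Cfsg.Statements.S2637
import Cfsg.Agent.Lib.Helper5.QExt1
import Cfsg.Agent.S2389

set_option autoImplicit false
open Cfsg

namespace Cfsg.Agent.S2637


open Polynomial Cfsg.Agent.Lib.Helper5.QExt

theorem card_centralizer_conj {G : Type*} [Group G] (g h : G) (hgh : IsConj g h) :
    Nat.card ↥(Subgroup.centralizer ({g} : Set G)) = Nat.card ↥(Subgroup.centralizer ({h} : Set G)) := by
  rw [isConj_iff] at hgh
  obtain ⟨c, rfl⟩ := hgh
  apply Nat.card_congr
  refine ⟨fun z => ⟨c * z.1 * c⁻¹, ?_⟩, fun z => ⟨c⁻¹ * z.1 * c, ?_⟩, ?_, ?_⟩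
  · have hz := z.2
    rw [Subgroup.mem_centralizer_iff] at hz ⊢
    intro y hy
    rw [Set.mem_singleton_iff] at hy
    subst hy
    have h1 := hz g (Set.mem_singleton g)
    calc c * g * c⁻¹ * (c * z.1 * c⁻¹) = c * (g * z.1) * c⁻¹ := by group
      _ = c * (z.1 * g) * c⁻¹ := by rw [h1]
      _ = c * z.1 * c⁻¹ * (c * g * c⁻¹) := by group
  · have hz := z.2
    rw [Subgroup.mem_centralizer_iff] at hz ⊢
    intro y hy
    rw [Set.mem_singleton_iff] at hy
    subst hy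
    have h1 := hz (c * y * c⁻¹) (Set.mem_singleton _)
    calc y * (c⁻¹ * z.1 * c) = c⁻¹ * (c * y * c⁻¹ * z.1) * c := by group
      _ = c⁻¹ * (z.1 * (c * y * c⁻¹)) * c := by rw [h1]
      _ = c⁻¹ * z.1 * c * y := by group
  · intro z
    apply Subtype.ext
    show c⁻¹ * (c * z.1 * c⁻¹) * c = z.1
    group
  · intro z
    apply Subtype.ext
    show c * (c⁻¹ * z.1 * c) * c⁻¹ = z.1
    group

theorem x0_quadratic {F : Type*} [Field F] (m : ℕ) : x0 m F * x0 m F + x0 m F + 1 = 0 := by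
  unfold x0
  rw [Matrix.fromBlocks_multiply, ← Matrix.fromBlocks_one, Matrix.fromBlocks_add,
    Matrix.fromBlocks_add]
  simp

theorem pow_three_of_quadratic {R : Type*} [Ring R] (y : R) (h : y * y + y + 1 = 0) : y ^ 3 = 1 := by
  have h1 : y ^ 3 - 1 = (y - 1) * (y * y + y + 1) := by noncomm_ring
  rw [h, mul_zero] at h1
  exact sub_eq_zero.1 h1



/-- Centraliser of a fixed-point-free element of order three in Sp_2m(q) when q ≡ 2 (mod 3): if x ∈ Sp_2m(F) (|F| = q, m ≥ 1) satisfies x³ = 1 and x − 1 is invertible, then its centraliser in Sp_2m(F) has the order of the unitary group GU_m(q), namely q^(m(m−1)/2) Π_(i=1)^m (q^i − (−1)^i) (x lies in the centre of a subgroup GU_m(q) of Sp_2m(q)). -/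
theorem result {F : Type*} [Field F] [Fintype F] {q : ℕ} (hF : Fintype.card F = q) (hq : q % 3 = 2) {m : ℕ} (hm : 1 ≤ m) (x : Matrix.symplecticGroup (Fin m) F) (hx3 : x ^ 3 = 1) (hfpf : IsUnit ((x : Matrix (Fin m ⊕ Fin m) (Fin m ⊕ Fin m) F) - 1)) : (Nat.card ↥(Subgroup.centralizer ({x} : Set ↥(Matrix.symplecticGroup (Fin m) F))) : ℤ) = (q : ℤ) ^ (m * (m - 1) / 2) * ∏ i : Fin m, ((q : ℤ) ^ ((i : ℕ) + 1) - (-1) ^ ((i : ℕ) + 1)) := by
  classical
  have hirr := no_root hF hq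
  haveI : Fact (∀ r : F, r ^ 2 ≠ (-1 : F) + (-1) * r) := ⟨hirr⟩
  obtain ⟨p, hp⟩ := CharP.exists F
  obtain ⟨n, hpp, hn⟩ := FiniteField.card F p
  haveI : Fact p.Prime := ⟨hpp⟩
  have hp3 : p ≠ 3 := by
    intro h
    have h6 : 3 ∣ q := by
      rw [← hF, hn, h]
      exact dvd_pow_self 3 n.ne_zero
    omega
  have hcop : Nat.Coprime 3 p := by
    rw [Nat.coprime_primes Nat.prime_three hpp]
    exact fun h => hp3 h.symm
  set X0 : ↥(Matrix.symplecticGroup (Fin m) F) := ⟨x0 m F, x0_mem hF⟩ with hX0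
  -- the quadratic relation for `x`
  set M : Matrix (Fin m ⊕ Fin m) (Fin m ⊕ Fin m) F := (x : Matrix (Fin m ⊕ Fin m) (Fin m ⊕ Fin m) F)
    with hM
  have hM3 : M ^ 3 = 1 := by
    have := congrArg (fun z : ↥(Matrix.symplecticGroup (Fin m) F) =>
      (z : Matrix (Fin m ⊕ Fin m) (Fin m ⊕ Fin m) F)) hx3
    simpa using this
  have hMq : M * M + M + 1 = 0 := by
    have h1 : (M - 1) * (M * M + M + 1) = 0 := by
      have : (M - 1) * (M * M + M + 1) = M ^ 3 - 1 := by noncomm_ring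
      rw [this, hM3, sub_self]
    obtain ⟨u, hu⟩ := hfpf
    have h2 : (u⁻¹ : (Matrix (Fin m ⊕ Fin m) (Fin m ⊕ Fin m) F)ˣ).1 * ((M - 1) * (M * M + M + 1)) = 0 := by
      rw [h1, mul_zero]
    rw [← mul_assoc, ← hu, Units.inv_mul, one_mul] at h2
    exact h2
  have hX0q : x0 m F * x0 m F + x0 m F + 1 = 0 := x0_quadratic m
  have hX03 : X0 ^ 3 = 1 := by
    apply Subtype.ext
    show (x0 m F) ^ 3 = 1
    exact pow_three_of_quadratic _ hX0q
  have hcharp : (x : Matrix (Fin m ⊕ Fin m) (Fin m ⊕ Fin m) F).charpoly =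
      (X0 : Matrix (Fin m ⊕ Fin m) (Fin m ⊕ Fin m) F).charpoly := by
    rw [charpoly_of_quadratic hirr _ hMq]
    exact (charpoly_of_quadratic hirr _ hX0q).symm
  have hox : (orderOf x).Coprime p :=
    Nat.Coprime.coprime_dvd_left (orderOf_dvd_of_pow_eq_one hx3) hcop
  have hoX0 : (orderOf X0).Coprime p :=
    Nat.Coprime.coprime_dvd_left (orderOf_dvd_of_pow_eq_one hX03) hcop
  have hconj := Cfsg.Agent.S2389.result p m x X0 hox hoX0 hcharp
  rw [card_centralizer_conj x X0 hconj, hX0, card_centralizer_x0 hF,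
    Cfsg.Agent.S0277.result (card_KK hF) m]
  have hq1 : 1 ≤ q := by
    rw [← hF]; exact Fintype.card_pos
  rw [Nat.cast_mul, Nat.cast_pow, Nat.cast_prod]
  congr 1
  rw [← Fin.prod_univ_eq_prod_range (fun i => (((if Even i then q ^ (i + 1) + 1 else q ^ (i + 1) - 1 : ℕ)) : ℤ)) m]
  apply Finset.prod_congr rfl
  intro i _
  by_cases hi : Even (i : ℕ)
  · rw [if_pos hi, Odd.neg_one_pow (Even.add_one hi)]
    push_cast
    ring
  · rw [if_neg hi]
    have hi' : Odd (i : ℕ) := Nat.not_even_iff_odd.1 hi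
    rw [Even.neg_one_pow (Odd.add_one hi'), Nat.cast_sub (Nat.one_le_pow _ _ hq1)]
    push_cast
    ring


end Cfsg.Agent.S2637
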