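import Cfsg.Statements.S2639
import Cfsg.Agent.Lib.Helper5.HermRes
import Cfsg.Agent.Lib.Helper5.AltForm2

set_option autoImplicit false
open Cfsg

namespace Cfsg.Agent.S2639


open Matrix Module Cfsg.Agent.Lib.Helper5 Cfsg.Agent.Lib.Helper5.ScalarRes
  Cfsg.Agent.Lib.Helper5.AltForm Cfsg.Agent.Lib.Helper5.HermRes


/-- The unitary group embeds in the symplectic group of twice the dimension over the subfield: for a field K with q² elements and a field F with q elements (isomorphic to the subfield of K of order q), there is an injective homomorphism GU_m(q) → Sp_2m(F). -/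
theorem result {K F : Type*} [Field K] [Fintype K] [Field F] [Fintype F] {q : ℕ} (hK : Fintype.card K = q ^ 2) (hF : Fintype.card F = q) (m : ℕ) : ∃ φ : ↥(Cfsg.GU m K q) →* ↥(Matrix.symplecticGroup (Fin m) F), Function.Injective φ := by
  classical
  obtain ⟨alg, hfin⟩ := FieldExt.exists_algebra 2 (by norm_num) hK hF
  subst hF
  have : Module.Finite F K := Module.Finite.of_finite
  -- an element of trace zero
  obtain ⟨l, hl0, hltr⟩ : ∃ l : K, l ≠ 0 ∧ Algebra.trace F K l = 0 := by
    have hker := LinearMap.ker_ne_bot_of_finrank_lt (f := Algebra.trace F K)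
      (by rw [Module.finrank_self, hfin]; norm_num)
    obtain ⟨x, hx, hx0⟩ := Submodule.exists_mem_ne_zero_of_ne_bot hker
    exact ⟨x, hx0, LinearMap.mem_ker.1 hx⟩
  let B : LinearMap.BilinForm F (Fin m → K) :=
    trForm (F := F) l (Cfsg.hermForm m K (Fintype.card F)) herm_add_left herm_smul_left
      herm_add_right herm_smul_right_F
  have hB : B.IsAlt := by
    intro v
    show trForm (F := F) l (Cfsg.hermForm m K (Fintype.card F)) _ _ _ _ v v = 0
    rw [trForm_apply]
    obtain ⟨c, hc⟩ := herm_self_mem hK v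
    rw [← hc, mul_comm, ← Algebra.smul_def, map_smul, hltr, smul_zero]
  have hnd : ∀ x, (∀ y, B x y = 0) → x = 0 := by
    apply trForm_nondegenerate (F := F) l hl0
    · intro x hx
      obtain ⟨i, hi⟩ : ∃ i, x i ≠ 0 := by
        by_contra hall
        push Not at hall
        exact hx (funext hall)
      exact ⟨Pi.single i 1, by rw [herm_single]; exact hi⟩
    · intro x y w
      obtain ⟨w', hw'⟩ := pow_card_surjective (F := F) w
      exact ⟨w' • y, by rw [herm_smul_right, hw']⟩
  have hn : finrank F (Fin m → K) = 2 * m := by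
    rw [finrank_fun 2 hfin, Fintype.card_fin, mul_comm]
  let ρ : ↥(Cfsg.GU m K (Fintype.card F)) →* Module.End F (Fin m → K) :=
    (matEnd F).comp ((Units.coeHom (Matrix (Fin m) (Fin m) K)).comp
      (Cfsg.GU m K (Fintype.card F)).subtype)
  have hρ : Function.Injective ρ := by
    intro g h hgh
    apply Subtype.ext
    apply Units.ext
    exact matEnd_injective hgh
  have hpres : ∀ g u v, B (ρ g u) (ρ g v) = B u v := by
    intro g u v
    show trForm (F := F) l (Cfsg.hermForm m K (Fintype.card F)) _ _ _ _ _ _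
      = trForm (F := F) l (Cfsg.hermForm m K (Fintype.card F)) _ _ _ _ _ _
    rw [trForm_apply, trForm_apply]
    have := g.2 u v
    show Algebra.trace F K (l * Cfsg.hermForm m K (Fintype.card F)
      (((g : GL (Fin m) K) : Matrix (Fin m) (Fin m) K) *ᵥ u)
      (((g : GL (Fin m) K) : Matrix (Fin m) (Fin m) K) *ᵥ v)) = _
    rw [show Cfsg.hermForm m K (Fintype.card F)
      (((g : GL (Fin m) K) : Matrix (Fin m) (Fin m) K) *ᵥ u)
      (((g : GL (Fin m) K) : Matrix (Fin m) (Fin m) K) *ᵥ v)
        = Cfsg.hermForm m K (Fintype.card F) u v from this]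
  exact exists_hom_symplectic B hB hnd m hn ρ hρ hpres

end Cfsg.Agent.S2639
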