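import Cfsg.Statements.S2640
import Cfsg.Agent.Lib.Helper5.HermQuad2
import Cfsg.Agent.Lib.Helper5.QuadEmbed

set_option autoImplicit false
open Cfsg

namespace Cfsg.Agent.S2640

open Matrix Module Cfsg.Agent.Lib.Helper5 Cfsg.Agent.Lib.Helper5.ScalarRes
  Cfsg.Agent.Lib.Helper5.HermRes Cfsg.Agent.Lib.Helper5.HermQuad

section
variable {F K : Type*} [Field F] [Fintype F] [Field K] [Fintype K] [Algebra F K]

/-- The action of the unitary group on `K^m` regarded over `F`. -/
noncomputable def guEnd (F : Type*) {K : Type*} [Field F] [Fintype F] [Field K] [Algebra F K]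
    (m : ℕ) :
    ↥(Cfsg.GU m K (Fintype.card F)) →* Module.End F (Fin m → K) :=
  (matEnd F).comp ((Units.coeHom (Matrix (Fin m) (Fin m) K)).comp
    (Cfsg.GU m K (Fintype.card F)).subtype)

omit [Fintype K] in
theorem guEnd_injective (m : ℕ) : Function.Injective (guEnd F (K := K) m) := by
  intro g h hgh
  apply Subtype.ext
  apply Units.ext
  exact matEnd_injective hgh

theorem guEnd_pres (hK : Fintype.card K = Fintype.card F ^ 2) (m : ℕ)
    (g : ↥(Cfsg.GU m K (Fintype.card F))) (w : Fin m → K) :
    hermQuad F m (guEnd F m g w) = hermQuad F m w := by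
  apply (algebraMap F K).injective
  rw [algebraMap_hermQuad hK, algebraMap_hermQuad hK]
  exact g.2 w w

end


/-- For m even, the unitary group GU_m(q) (over the field with q² elements) embeds in the orthogonal group O⁺_2m(q) of the hyperbolic form Σ x_i y_i over the field with q elements (there is an injective homomorphism). -/
theorem result {K F : Type*} [Field K] [Fintype K] [Field F] [Fintype F] {q : ℕ} (hK : Fintype.card K = q ^ 2) (hF : Fintype.card F = q) (m : ℕ) (hm : Even m) : ∃ φ : ↥(Cfsg.GU m K q) →* ↥(Cfsg.isometryGroup F (Cfsg.quadFormPlus m F)), Function.Injective φ := by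
  classical
  obtain ⟨alg, hfin⟩ := FieldExt.exists_algebra 2 (by norm_num) hK hF
  subst hF
  obtain ⟨h, rfl⟩ := hm
  rcases Nat.eq_zero_or_pos h with h0 | hpos
  · subst h0
    refine ⟨1, ?_⟩
    intro g g' _
    apply Subtype.ext
    apply Units.ext
    ext i
    exact absurd i.2 (by omega)
  · obtain ⟨E, hE⟩ := exists_plus_equiv (F := F) (K := K) hK hfin h hpos
    exact QuadEmbed.exists_hom_isometry (Cfsg.quadFormPlus (h + h) F) (hermQuad F (h + h)) E hE
      (guEnd F (h + h)) (guEnd_injective (h + h)) (guEnd_pres hK (h + h))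

end Cfsg.Agent.S2640
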