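import Cfsg.Statements.S2641
import Cfsg.Agent.Lib.Helper5.HermQuad3
import Cfsg.Agent.Lib.Helper5.QuadEmbed

set_option autoImplicit false
open Cfsg

namespace Cfsg.Agent.S2641

open Matrix Module Cfsg.Agent.Lib.Helper5 Cfsg.Agent.Lib.Helper5.ScalarRes
  Cfsg.Agent.Lib.Helper5.HermRes Cfsg.Agent.Lib.Helper5.HermQuad

section
variable {F K : Type*} [Field F] [Fintype F] [Field K] [Fintype K] [Algebra F K]

/-- The action of the unitary group on `K^m` regarded over `F`. -/
noncomputable def guEnd (F : Type*) {K : Type*} [Field F] [Fintype F] [Field K] [Algebra F K]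
    (m : ℕ) :
    ↥(Cfsg.GU m K (Fintype.card F)) →* Module.End F (Fin m → K) :=
  (matEnd F).comp ((Units.coeHom (Matrix (Fin m) (Fin m) K)).comp
    (Cfsg.GU m K (Fintype.card F)).subtype)

omit [Fintype K] in
theorem guEnd_injective (m : ℕ) : Function.Injective (guEnd F (K := K) m) := by
  intro g h hgh
  apply Subtype.ext
  apply Units.ext
  exact matEnd_injective hgh

theorem guEnd_pres (hK : Fintype.card K = Fintype.card F ^ 2) (m : ℕ)
    (g : ↥(Cfsg.GU m K (Fintype.card F))) (w : Fin m → K) :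
    hermQuad F m (guEnd F m g w) = hermQuad F m w := by
  apply (algebraMap F K).injective
  rw [algebraMap_hermQuad hK, algebraMap_hermQuad hK]
  exact g.2 w w

end

section
variable {F K : Type*} [Field F] [Fintype F] [Field K] [Fintype K] [Algebra F K]

theorem main_aux (hK : Fintype.card K = Fintype.card F ^ 2) (h2 : finrank F K = 2) (k : ℕ)
    (hk : Even k) (a b : F)
    (hab : ∀ z₁ z₂ : F, z₁ ^ 2 + a * z₁ * z₂ + b * z₂ ^ 2 = 0 → z₁ = 0 ∧ z₂ = 0) :
    ∃ φ : ↥(Cfsg.GU (k + 1) K (Fintype.card F)) →*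
      ↥(Cfsg.isometryGroup F (Cfsg.quadFormMinus k F a b)), Function.Injective φ := by
  obtain ⟨E, hE⟩ := exists_minus_equiv (F := F) (K := K) hK h2 k hk a b hab
  exact QuadEmbed.exists_hom_isometry (Cfsg.quadFormMinus k F a b) (hermQuad F (k + 1)) E hE
    (guEnd F (k + 1)) (guEnd_injective (k + 1)) (guEnd_pres hK (k + 1))

end


/-- For m odd, the unitary group GU_m(q) (over the field with q² elements) embeds in the orthogonal group O⁻_2m(q) of an elliptic form (Σ_(i<m−1) x_i y_i plus an anisotropic binary form) over the field with q elements (there is an injective homomorphism). -/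
theorem result {K F : Type*} [Field K] [Fintype K] [Field F] [Fintype F] {q : ℕ} (hK : Fintype.card K = q ^ 2) (hF : Fintype.card F = q) (m : ℕ) (hm : Odd m) (a b : F) (hab : ∀ z₁ z₂ : F, z₁ ^ 2 + a * z₁ * z₂ + b * z₂ ^ 2 = 0 → z₁ = 0 ∧ z₂ = 0) : ∃ φ : ↥(Cfsg.GU m K q) →* ↥(Cfsg.isometryGroup F (Cfsg.quadFormMinus (m - 1) F a b)), Function.Injective φ := by
  classical
  obtain ⟨alg, hfin⟩ := FieldExt.exists_algebra 2 (by norm_num) hK hF
  subst hF
  obtain ⟨h, rfl⟩ := hm
  exact main_aux hK hfin (2 * h) ⟨h, two_mul h⟩ a b hab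

end Cfsg.Agent.S2641
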