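import Cfsg.Statements.S2642
import Cfsg.Agent.Lib.Helper5.Wall3
import Cfsg.Agent.S2587
import Cfsg.Agent.S2588
import Cfsg.Agent.S2570

set_option autoImplicit false
open Cfsg

namespace Cfsg.Agent.S2642


open Cfsg.Agent.Lib.Helper5.Wall Cfsg.Agent.S0278 Cfsg.Agent.Lib.Helper5

variable {K : Type*} [Field K] [Fintype K] {q n : ℕ}

theorem ct_pow (hK : Fintype.card K = q ^ 2) (N : Matrix (Fin n) (Fin n) K) (k : ℕ) :
    ct hK (N ^ k) = ct hK N ^ k := by
  induction k with
  | zero => rw [pow_zero, pow_zero, ct_one]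
  | succ k ih => rw [pow_succ, ct_mul, ih, ← pow_succ']

theorem finrank_ker_eq (Y : Matrix (Fin n) (Fin n) K) :
    Module.finrank K (LinearMap.ker (Matrix.toLin' Y)) + Y.rank = n := by
  have h := LinearMap.finrank_range_add_finrank_ker (Matrix.toLin' Y)
  rw [Module.finrank_fin_fun] at h
  have h2 : Y.rank = Module.finrank K (LinearMap.range (Matrix.toLin' Y)) := by
    unfold Matrix.rank
    rfl
  omega

/-- applying the field automorphism entrywise does not change the kernel dimension. -/
theorem finrank_ker_map (hK : Fintype.card K = q ^ 2) (Y : Matrix (Fin n) (Fin n) K) :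
    Module.finrank K (LinearMap.ker (Matrix.toLin' (Y.map (powQ hK)))) =
      Module.finrank K (LinearMap.ker (Matrix.toLin' Y)) := by
  classical
  have hcard : Nat.card (LinearMap.ker (Matrix.toLin' (Y.map (powQ hK)))) =
      Nat.card (LinearMap.ker (Matrix.toLin' Y)) := by
    apply Nat.card_congr
    refine
      { toFun := fun v => ⟨fun i => powQ hK (v.1 i), ?_⟩
        invFun := fun v => ⟨fun i => powQ hK (v.1 i), ?_⟩
        left_inv := ?_
        right_inv := ?_ }
    · have hv := v.2
      rw [LinearMap.mem_ker, Matrix.toLin'_apply] at hv ⊢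
      have h1 := RingHom.map_mulVec (powQ hK) (Y.map (powQ hK)) v.1
      have h2 : (Y.map (powQ hK)).map (powQ hK) = Y := by
        ext i j
        simp only [Matrix.map_apply]
        exact powQ_powQ hK _
      rw [h2] at h1
      funext i
      have := h1 i
      rw [hv] at this
      show Y.mulVec (⇑(powQ hK) ∘ v.1) i = 0
      rw [← this]
      simp
    · have hv := v.2
      rw [LinearMap.mem_ker, Matrix.toLin'_apply] at hv ⊢
      have h1 := RingHom.map_mulVec (powQ hK) Y v.1
      funext i
      have := h1 i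
      rw [hv] at this
      show (Y.map (powQ hK)).mulVec (⇑(powQ hK) ∘ v.1) i = 0
      rw [← this]
      simp
    · intro v
      apply Subtype.ext
      funext i
      exact powQ_powQ hK _
    · intro v
      apply Subtype.ext
      funext i
      exact powQ_powQ hK _
  have h1 := Module.natCard_eq_pow_finrank (K := K) (V := LinearMap.ker (Matrix.toLin' (Y.map (powQ hK))))
  have h2 := Module.natCard_eq_pow_finrank (K := K) (V := LinearMap.ker (Matrix.toLin' Y))
  rw [hcard, h2] at h1
  have hK1 : 1 < Nat.card K := by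
    rw [Nat.card_eq_fintype_card]; exact Fintype.one_lt_card
  exact (Nat.pow_right_injective hK1 h1).symm

theorem kdM_ct (hK : Fintype.card K = q ^ 2) (N : Matrix (Fin n) (Fin n) K) (k : ℕ) :
    kdM (ct hK N) k = kdM N k := by
  unfold kdM
  rw [← Matrix.toLin'_pow, ← Matrix.toLin'_pow, ← ct_pow]
  have h1 := finrank_ker_eq (ct hK (N ^ k))
  have h2 := finrank_ker_eq ((N ^ k).map (powQ hK))
  have h3 := finrank_ker_map hK (N ^ k)
  have h4 : (ct hK (N ^ k)).rank = ((N ^ k).map (powQ hK)).rank := Matrix.rank_transpose _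
  omega

theorem kdM_inv (A A' : Matrix (Fin n) (Fin n) K) (hAA' : A * A' = 1) (k : ℕ) :
    kdM (A' - 1) k = kdM (A - 1) k := by
  have hA'A : A' * A = 1 := mul_eq_one_comm.1 hAA'
  have h1 : A' - 1 = (-A') * (A - 1) := by
    rw [mul_sub, mul_one, neg_mul, hA'A]; abel
  have hc : Commute (-A') (A - 1) := by
    have : Commute A' A := by
      show A' * A = A * A'
      rw [hA'A, hAA']
    exact (this.neg_left).sub_right (Commute.one_right _)
  have h2 : (A' - 1) ^ k = (-A') ^ k * (A - 1) ^ k := by
    rw [h1, hc.mul_pow]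
  have h3 : (-A) ^ k * (-A') ^ k = 1 := by
    have hc2 : Commute (-A) (-A') := by
      show -A * -A' = -A' * -A
      rw [neg_mul_neg, neg_mul_neg, hAA', hA'A]
    rw [← hc2.mul_pow, neg_mul_neg, hAA', one_pow]
  unfold kdM
  rw [← Matrix.toLin'_pow, ← Matrix.toLin'_pow, h2]
  have hker : LinearMap.ker (Matrix.toLin' ((-A') ^ k * (A - 1) ^ k)) =
      LinearMap.ker (Matrix.toLin' ((A - 1) ^ k)) := by
    ext v
    simp only [LinearMap.mem_ker, Matrix.toLin'_apply]
    constructor
    · intro h
      have := congrArg (fun w => ((-A) ^ k).mulVec w) h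
      simp only [Matrix.mulVec_mulVec, Matrix.mulVec_zero] at this
      rw [← mul_assoc, h3, one_mul] at this
      exact this
    · intro h
      rw [← Matrix.mulVec_mulVec, h, Matrix.mulVec_zero]
  rw [hker]

theorem ct_sub_one (hK : Fintype.card K = q ^ 2) (X : Matrix (Fin n) (Fin n) K) :
    ct hK X - 1 = ct hK (X - 1) := by
  have h := ct_add hK (X - 1) 1
  rw [sub_add_cancel, ct_one] at h
  rw [h]; abel

/-- a unipotent matrix is similar to the inverse of its conjugate transpose. -/
theorem isConj_ct_inv (hK : Fintype.card K = q ^ 2) (A : GL (Fin n) K) (m : ℕ)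
    (hA : ((A : Matrix (Fin n) (Fin n) K) - 1) ^ m = 0) :
    IsConj (A : Matrix (Fin n) (Fin n) K)
      (((A : Matrix (Fin n) (Fin n) K).map (fun x : K => x ^ q)).transpose)⁻¹ := by
  classical
  set Am : Matrix (Fin n) (Fin n) K := (A : Matrix (Fin n) (Fin n) K) with hAm
  set A' : Matrix (Fin n) (Fin n) K := ((A⁻¹ : GL (Fin n) K) : Matrix (Fin n) (Fin n) K) with hA'
  have hAA' : Am * A' = 1 := by rw [hAm, hA']; exact Units.mul_inv A
  have hA'A : A' * Am = 1 := mul_eq_one_comm.1 hAA'
  have hcA : ct hK Am * ct hK A' = 1 := by rw [← ct_mul, hA'A, ct_one]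
  have hinv : ((Am.map (fun x : K => x ^ q)).transpose)⁻¹ = ct hK A' := by
    have : (Am.map (fun x : K => x ^ q)).transpose = ct hK Am := rfl
    rw [this]
    exact Matrix.inv_eq_right_inv hcA
  rw [hinv]
  have hk : ∀ k, kdM (Am - 1) k = kdM (ct hK A' - 1) k := by
    intro k
    rw [ct_sub_one, kdM_ct, kdM_inv Am A' hAA']
  have hnil : (ct hK A' - 1) ^ m = 0 := by
    rw [← kdM_eq_iff, ← hk, kdM_eq_iff]
    exact hA
  obtain ⟨P, hP, hPM⟩ := exists_conj_of_kdM_eq (Am - 1) (ct hK A' - 1) m m hA hnil hk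
  have hPu : IsUnit P := (Matrix.isUnit_iff_isUnit_det P).2 hP
  obtain ⟨c, rfl⟩ := hPu
  refine ⟨c, ?_⟩
  show (c : Matrix (Fin n) (Fin n) K) * Am = ct hK A' * c
  rw [mul_sub, sub_mul, mul_one, one_mul] at hPM
  exact sub_left_injective hPM



/-- Number of conjugacy classes of elements of order p in the general unitary group GU_n(q), q a power of p: every unipotent Jordan type occurs and the classes correspond to the partitions of n with all parts at most p other than the all-ones partition, exactly as in GL_n; so there are (number of partitions of n with parts ≤ p) − 1 classes. -/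
theorem result {K : Type*} [Field K] [Fintype K] {p q n : ℕ} [Fact p.Prime] [CharP K p] (hK : Fintype.card K = q ^ 2) : Nat.card {C : ConjClasses ↥(Cfsg.GU n K q) // ∃ g : ↥(Cfsg.GU n K q), ConjClasses.mk g = C ∧ orderOf g = p} = (Finset.univ.filter (fun μ : Nat.Partition n => ∀ a ∈ μ.parts, a ≤ p)).card - 1 := by
  classical
  rw [← Cfsg.Agent.S2570.result (F := K) (p := p) n]
  have hf : ∀ C : {C : ConjClasses ↥(Cfsg.GU n K q) //
      ∃ g : ↥(Cfsg.GU n K q), ConjClasses.mk g = C ∧ orderOf g = p},
      ∃ g : GL (Fin n) K, ConjClasses.mk g =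
        ConjClasses.map (Subgroup.subtype (Cfsg.GU n K q)) C.1 ∧ orderOf g = p := by
    rintro ⟨C, g, rfl, hg⟩
    exact ⟨(g : GL (Fin n) K), rfl, by rw [Subgroup.orderOf_coe]; exact hg⟩
  apply Nat.card_eq_of_bijective
    (fun C => (⟨ConjClasses.map (Subgroup.subtype (Cfsg.GU n K q)) C.1, hf C⟩ :
      {C : ConjClasses (GL (Fin n) K) // ∃ g : GL (Fin n) K, ConjClasses.mk g = C ∧ orderOf g = p}))
  constructor
  · rintro ⟨C, g, rfl, hg⟩ ⟨D, h, rfl, hh⟩ hCD
    have h1 : ConjClasses.mk (g : GL (Fin n) K) = ConjClasses.mk (h : GL (Fin n) K) :=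
      congrArg Subtype.val hCD
    rw [ConjClasses.mk_eq_mk_iff_isConj] at h1
    apply Subtype.ext
    show ConjClasses.mk g = ConjClasses.mk h
    rw [ConjClasses.mk_eq_mk_iff_isConj]
    exact (Cfsg.Agent.S2587.result hK g h).2 h1
  · rintro ⟨C, A, rfl, hA⟩
    have hnil := nilpotent_of_orderOf p A 1 (by rw [hA, pow_one])
    obtain ⟨B, hB⟩ := (Cfsg.Agent.S2588.result hK A).2 (isConj_ct_inv hK A _ hnil)
    have hBo : orderOf B = p := by
      rw [← Subgroup.orderOf_coe, ← hA]
      obtain ⟨c, hc⟩ := hB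
      exact (SemiconjBy.orderOf_eq (c : GL (Fin n) K) hc).symm
    refine ⟨⟨ConjClasses.mk B, B, rfl, hBo⟩, ?_⟩
    apply Subtype.ext
    show ConjClasses.mk (B : GL (Fin n) K) = ConjClasses.mk A
    rw [ConjClasses.mk_eq_mk_iff_isConj]
    exact hB.symm


end Cfsg.Agent.S2642
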