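import Cfsg.Statements.S2643
import Cfsg.Agent.Lib.Helper5.Wall3
import Cfsg.Agent.S2587
import Cfsg.Agent.S2588
import Cfsg.Agent.S2642
import Cfsg.Agent.S2578
import Cfsg.Agent.S2644

set_option autoImplicit false
open Cfsg

namespace Cfsg.Agent.S2643


open Cfsg.Agent.Lib.Helper5.Wall Cfsg.Agent.S0278 Cfsg.Agent.Lib.Helper1.HermCount
open Cfsg.Agent.Lib.Helper1.SUCenter Cfsg.Agent.S2578 Cfsg.Agent.Lib.Helper1.GUBasic

variable {K : Type*} [Field K] [Fintype K] {q n : ℕ}

/-- regular unipotent matrices -/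
def RegM (M : Matrix (Fin n) (Fin n) K) : Prop :=
  (M - 1) ^ n = 0 ∧ (M - 1).rank = n - 1

theorem regM_conj (M M' X X' : Matrix (Fin n) (Fin n) K) (hXX' : X * X' = 1)
    (h : X * M = M' * X) (hM : RegM M) : RegM M' := by
  have hX'X : X' * X = 1 := mul_eq_one_comm.1 hXX'
  have h1 : M' - 1 = X * (M - 1) * X' := by
    rw [mul_sub, sub_mul, mul_one, h, mul_assoc, hXX', mul_one]
  have hXdet : IsUnit X.det := (Matrix.isUnit_iff_isUnit_det _).1 ⟨⟨X, X', hXX', hX'X⟩, rfl⟩
  have hX'det : IsUnit X'.det := (Matrix.isUnit_iff_isUnit_det _).1 ⟨⟨X', X, hX'X, hXX'⟩, rfl⟩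
  constructor
  · have hpow : ∀ k, (X * (M - 1) * X') ^ k = X * (M - 1) ^ k * X' := by
      intro k
      induction k with
      | zero => rw [pow_zero, pow_zero, mul_one, hXX']
      | succ k ih =>
        rw [pow_succ, ih, pow_succ]
        calc X * (M - 1) ^ k * X' * (X * (M - 1) * X')
            = X * (M - 1) ^ k * (X' * X) * (M - 1) * X' := by simp only [mul_assoc]
          _ = X * ((M - 1) ^ k * (M - 1)) * X' := by rw [hX'X, mul_one]; simp only [mul_assoc]
    rw [h1, hpow, hM.1, mul_zero, zero_mul]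
  · rw [h1, Matrix.rank_mul_eq_left_of_isUnit_det _ _ hX'det,
      Matrix.rank_mul_eq_right_of_isUnit_det _ _ hXdet, hM.2]

theorem exists_conj_of_reg (hn : 1 ≤ n) (M M' : Matrix (Fin n) (Fin n) K) (hM : RegM M)
    (hM' : RegM M') : ∃ X : Matrix (Fin n) (Fin n) K, IsUnit X ∧ X * M = M' * X := by
  obtain ⟨P, hP, hMP⟩ := exists_conj_shift hn _ hM.2 hM.1
  obtain ⟨P', hP', hMP'⟩ := exists_conj_shift hn _ hM'.2 hM'.1
  have hPu : IsUnit P := (Matrix.isUnit_iff_isUnit_det _).2 (isUnit_iff_ne_zero.2 hP)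
  have hP'u : IsUnit P' := (Matrix.isUnit_iff_isUnit_det _).2 (isUnit_iff_ne_zero.2 hP')
  obtain ⟨Pu, rfl⟩ := hPu
  set Pi : Matrix (Fin n) (Fin n) K := ((Pu⁻¹ : (Matrix (Fin n) (Fin n) K)ˣ) : Matrix (Fin n) (Fin n) K)
    with hPi
  have h1 : Pi * (M - 1) = shiftM n K * Pi := by
    calc Pi * (M - 1) = Pi * ((M - 1) * Pu) * Pi := by
          rw [mul_assoc, mul_assoc, hPi, Units.mul_inv, mul_one]
      _ = (Pi * Pu) * shiftM n K * Pi := by rw [hMP]; simp only [mul_assoc]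
      _ = shiftM n K * Pi := by rw [hPi, Units.inv_mul, one_mul]
  refine ⟨P' * Pi, hP'u.mul (Pu⁻¹).isUnit, ?_⟩
  have h2 : P' * Pi * (M - 1) = (M' - 1) * (P' * Pi) := by
    rw [mul_assoc, h1, ← mul_assoc, ← hMP', mul_assoc]
  rw [mul_sub, sub_mul, mul_one, one_mul] at h2
  exact sub_left_injective h2

theorem shift_regM (hn : 1 ≤ n) : RegM (1 + shiftM n K) := by
  unfold RegM
  rw [add_sub_cancel_left]
  exact ⟨shiftM_pow_eq_zero, shiftM_rank hn⟩

/-- matrices commuting with the shift are lower triangular with constant diagonal. -/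
theorem lower_of_commute_shift (hn : 1 ≤ n) (Z : Matrix (Fin n) (Fin n) K)
    (hZ : Z * shiftM n K = shiftM n K * Z) :
    ∃ a : K, (∀ i j : Fin n, i < j → Z i j = 0) ∧ ∀ i : Fin n, Z i i = a := by
  have hupper : ∀ k : ℕ, ∀ a b : Fin n, (a : ℕ) = k → a < b → Z a b = 0 := by
    intro k
    induction k with
    | zero =>
      intro a b ha hab
      have hb : 1 ≤ (b : ℕ) := by
        have : (a : ℕ) < b := hab
        omega
      let b' : Fin n := ⟨b - 1, by omega⟩
      have hb' : (b' : ℕ) + 1 = b := by simp [b']; omega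
      rw [← mul_shiftM_apply Z a b' b hb', hZ, shiftM_mul_apply_zero Z a b' ha]
    | succ k ih =>
      intro a b ha hab
      have hab' : (a : ℕ) < b := hab
      let b' : Fin n := ⟨b - 1, by omega⟩
      have hb' : (b' : ℕ) + 1 = b := by simp [b']; omega
      let a' : Fin n := ⟨k, by omega⟩
      have ha' : (a' : ℕ) + 1 = a := by simp [a']; omega
      rw [← mul_shiftM_apply Z a b' b hb', hZ, shiftM_mul_apply_succ Z a' a b' ha']
      apply ih a' b' rfl
      show (a' : ℕ) < b'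
      simp [a', b']; omega
  have hdiag : ∀ k : ℕ, ∀ a : Fin n, (a : ℕ) = k → Z a a = Z ⟨0, hn⟩ ⟨0, hn⟩ := by
    intro k
    induction k with
    | zero =>
      intro a ha
      have : a = ⟨0, hn⟩ := Fin.ext ha
      rw [this]
    | succ k ih =>
      intro a ha
      let a' : Fin n := ⟨k, by omega⟩
      have ha' : (a' : ℕ) + 1 = a := by simp [a']; omega
      rw [← mul_shiftM_apply Z a a' a ha', hZ, shiftM_mul_apply_succ Z a' a a' ha']
      exact ih a' rfl
  exact ⟨Z ⟨0, hn⟩ ⟨0, hn⟩, fun i j hij => hupper _ i j rfl hij, fun i => hdiag _ i rfl⟩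

open Polynomial in
theorem charpoly_of_lower (Z : Matrix (Fin n) (Fin n) K) (a : K)
    (hup : ∀ i j : Fin n, i < j → Z i j = 0) (hd : ∀ i : Fin n, Z i i = a) :
    Z.charpoly = (X - C a) ^ n := by
  unfold Matrix.charpoly
  rw [Matrix.det_of_lowerTriangular]
  · have : ∀ i : Fin n, Z.charmatrix i i = X - C a := by
      intro i
      rw [Matrix.charmatrix_apply_eq, hd]
    rw [Finset.prod_congr rfl (fun i _ => this i), Finset.prod_const, Finset.card_univ,
      Fintype.card_fin]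
  · intro i j hij
    have hij' : i < j := hij
    show Z.charmatrix i j = 0
    rw [Matrix.charmatrix_apply_ne _ _ _ (ne_of_lt hij'), hup i j hij', map_zero, neg_zero]

open Polynomial in
/-- the determinant of a unitary matrix commuting with a regular unipotent matrix. -/
theorem det_of_commute_reg (hK : Fintype.card K = q ^ 2) (hn : 1 ≤ n)
    (J Z : Matrix (Fin n) (Fin n) K) (hJ : RegM J)
    (hZ : ∀ u v, Cfsg.hermForm n K q (Z.mulVec u) (Z.mulVec v) = Cfsg.hermForm n K q u v)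
    (hZJ : Z * J = J * Z) : ∃ a : K, nrm q a = 1 ∧ Z.det = a ^ n := by
  classical
  obtain ⟨P, hP, hJP⟩ := exists_conj_shift hn _ hJ.2 hJ.1
  have hPu : IsUnit P := (Matrix.isUnit_iff_isUnit_det _).2 (isUnit_iff_ne_zero.2 hP)
  obtain ⟨Pu, rfl⟩ := hPu
  set Pi : Matrix (Fin n) (Fin n) K := ((Pu⁻¹ : (Matrix (Fin n) (Fin n) K)ˣ) : Matrix (Fin n) (Fin n) K)
    with hPi
  have h1 : Pi * (J - 1) = shiftM n K * Pi := by
    calc Pi * (J - 1) = Pi * ((J - 1) * Pu) * Pi := by
          rw [mul_assoc, mul_assoc, hPi, Units.mul_inv, mul_one]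
      _ = (Pi * Pu) * shiftM n K * Pi := by rw [hJP]; simp only [mul_assoc]
      _ = shiftM n K * Pi := by rw [hPi, Units.inv_mul, one_mul]
  have hZJ' : Z * (J - 1) = (J - 1) * Z := by
    rw [mul_sub, sub_mul, hZJ, mul_one, one_mul]
  have hcomm : (Pi * Z * Pu) * shiftM n K = shiftM n K * (Pi * Z * Pu) := by
    calc (Pi * Z * Pu) * shiftM n K = Pi * Z * ((J - 1) * Pu) := by rw [hJP]; simp only [mul_assoc]
      _ = Pi * ((J - 1) * Z) * Pu := by rw [← hZJ']; simp only [mul_assoc]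
      _ = (Pi * (J - 1)) * Z * Pu := by simp only [mul_assoc]
      _ = shiftM n K * (Pi * Z * Pu) := by rw [h1]; simp only [mul_assoc]
  obtain ⟨a, hup, hd⟩ := lower_of_commute_shift hn _ hcomm
  have hcp : Z.charpoly = (X - C a) ^ n := by
    rw [← charpoly_of_lower _ a hup hd, Matrix.charpoly_mul_comm, ← mul_assoc, hPi, Units.mul_inv,
      one_mul]
  have hdet : Z.det = a ^ n := by
    have h2 : (Pi * Z * Pu).det = a ^ n := by
      rw [Matrix.det_of_lowerTriangular _ (fun i j hij => hup i j hij),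
        Finset.prod_congr rfl (fun i _ => hd i), Finset.prod_const, Finset.card_univ,
        Fintype.card_fin]
    rw [← h2, hPi, Matrix.det_units_conj']
  have hZu := isUnit_of_preserves hK Z hZ
  have hdet0 : Z.det ≠ 0 := ((Matrix.isUnit_iff_isUnit_det _).1 hZu).ne_zero
  have ha0 : a ≠ 0 := by
    intro h0
    rw [hdet, h0, zero_pow (by omega)] at hdet0
    exact hdet0 rfl
  have hroot : Z.charpoly.IsRoot a := by
    rw [hcp, IsRoot, eval_pow, eval_sub, eval_X, eval_C, sub_self, zero_pow (by omega)]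
  have hroot2 := Cfsg.Agent.S2366.isRoot_tau hK Z hZ a hroot
  rw [hcp, IsRoot, eval_pow, eval_sub, eval_X, eval_C] at hroot2
  have h3 : (a ^ q)⁻¹ = a := sub_eq_zero.1 (pow_eq_zero_iff (by omega) |>.1 hroot2)
  refine ⟨a, ?_, hdet⟩
  unfold nrm
  have haq : a ^ q ≠ 0 := pow_ne_zero _ ha0
  calc a * a ^ q = (a ^ q)⁻¹ * a ^ q := by rw [h3]
    _ = 1 := inv_mul_cancel₀ haq

section grp

open Cfsg.Agent.S2644

/-- `SU → GU` -/
def toGU : ↥(Cfsg.SU n K q) →* ↥(Cfsg.GU n K q) where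
  toFun u := ⟨Matrix.SpecialLinearGroup.toGL (u : Matrix.SpecialLinearGroup (Fin n) K),
    fun x y => u.2 x y⟩
  map_one' := by
    apply Subtype.ext
    simp
  map_mul' := by
    intro a b
    apply Subtype.ext
    simp

theorem toGU_coe (u : ↥(Cfsg.SU n K q)) :
    (((toGU u : ↥(Cfsg.GU n K q)) : GL (Fin n) K) : Matrix (Fin n) (Fin n) K) = toMat n K q u := rfl

theorem toGU_injective : Function.Injective (toGU : ↥(Cfsg.SU n K q) → ↥(Cfsg.GU n K q)) := by
  intro a b hab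
  apply toMat_injective
  rw [← toGU_coe, ← toGU_coe, hab]

/-- the determinant on `GU`, valued in the norm one group. -/
def detU (hK : Fintype.card K = q ^ 2) : ↥(Cfsg.GU n K q) →* ↥(normOne K q) where
  toFun g := ⟨Matrix.GeneralLinearGroup.det (g : GL (Fin n) K), by
    show nrm q (((g : GL (Fin n) K) : Matrix (Fin n) (Fin n) K)).det = 1
    exact nrm_det hK _ (fun u v => g.2 u v)⟩
  map_one' := by
    apply Subtype.ext
    simp
  map_mul' := by
    intro a b
    apply Subtype.ext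
    simp

theorem detU_coe (hK : Fintype.card K = q ^ 2) (g : ↥(Cfsg.GU n K q)) :
    (((detU hK g : ↥(normOne K q)) : Kˣ) : K) =
      (((g : GL (Fin n) K) : Matrix (Fin n) (Fin n) K)).det := rfl

theorem detU_toGU (hK : Fintype.card K = q ^ 2) (u : ↥(Cfsg.SU n K q)) : detU hK (toGU u) = 1 := by
  apply Subtype.ext
  apply Units.ext
  rw [detU_coe, toGU_coe]
  exact (u : Matrix.SpecialLinearGroup (Fin n) K).2

theorem exists_SU_of_detU (hK : Fintype.card K = q ^ 2) (g : ↥(Cfsg.GU n K q))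
    (hg : detU hK g = 1) : ∃ u : ↥(Cfsg.SU n K q), toGU u = g := by
  have h1 : (((g : GL (Fin n) K) : Matrix (Fin n) (Fin n) K)).det = 1 := by
    rw [← detU_coe hK, hg]; rfl
  refine ⟨⟨⟨((g : GL (Fin n) K) : Matrix (Fin n) (Fin n) K), h1⟩, fun x y => g.2 x y⟩, ?_⟩
  apply Subtype.ext
  apply Units.ext
  rfl

/-- unitary group element from a unitary matrix -/
noncomputable def ofMat (hK : Fintype.card K = q ^ 2) (M : Matrix (Fin n) (Fin n) K)
    (hM : ∀ u v, Cfsg.hermForm n K q (M.mulVec u) (M.mulVec v) = Cfsg.hermForm n K q u v) :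
    ↥(Cfsg.GU n K q) := mkGU hK M hM

theorem ofMat_coe (hK : Fintype.card K = q ^ 2) (M : Matrix (Fin n) (Fin n) K)
    (hM : ∀ u v, Cfsg.hermForm n K q (M.mulVec u) (M.mulVec v) = Cfsg.hermForm n K q u v) :
    (((ofMat hK M hM : ↥(Cfsg.GU n K q)) : GL (Fin n) K) : Matrix (Fin n) (Fin n) K) = M :=
  mkGU_coe hK M hM

theorem GU_ext' {g h : ↥(Cfsg.GU n K q)}
    (hgh : ((g : GL (Fin n) K) : Matrix (Fin n) (Fin n) K) =
      ((h : GL (Fin n) K) : Matrix (Fin n) (Fin n) K)) : g = h :=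
  Subtype.ext (Units.ext hgh)

/-- scalar elements of `GU` -/
noncomputable def scalarGU (hK : Fintype.card K = q ^ 2) (a : ↥(normOne K q)) : ↥(Cfsg.GU n K q) :=
  ofMat hK (((a : Kˣ) : K) • (1 : Matrix (Fin n) (Fin n) K)) (by
    intro u v
    have ha : nrm q ((a : Kˣ) : K) = 1 := a.2
    have := diag_preserves (n := n) (fun _ => ((a : Kˣ) : K)) (fun _ => ha) u v
    rw [Matrix.smul_one_eq_diagonal]
    exact this)

theorem scalarGU_comm (hK : Fintype.card K = q ^ 2) (a : ↥(normOne K q)) (g : ↥(Cfsg.GU n K q)) :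
    scalarGU hK a * g = g * scalarGU hK a := by
  apply GU_ext'
  show ((scalarGU hK a : ↥(Cfsg.GU n K q)) : GL (Fin n) K).val * ((g : GL (Fin n) K)).val =
    ((g : GL (Fin n) K)).val * ((scalarGU hK a : ↥(Cfsg.GU n K q)) : GL (Fin n) K).val
  unfold scalarGU
  rw [ofMat_coe, Matrix.smul_mul, Matrix.mul_smul, one_mul, mul_one]

theorem detU_scalarGU (hK : Fintype.card K = q ^ 2) (a : ↥(normOne K q)) :
    detU hK (scalarGU hK a : ↥(Cfsg.GU n K q)) = a ^ n := by
  apply Subtype.ext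
  apply Units.ext
  rw [detU_coe]
  unfold scalarGU
  rw [ofMat_coe, Matrix.det_smul, Matrix.det_one, mul_one, Fintype.card_fin]
  simp

/-- diagonal elements `diag(d, 1, …, 1)` of `GU` -/
noncomputable def diagGU (hK : Fintype.card K = q ^ 2) (hn : 1 ≤ n) (d : ↥(normOne K q)) :
    ↥(Cfsg.GU n K q) :=
  ofMat hK (Matrix.diagonal fun i : Fin n => if i = ⟨0, hn⟩ then ((d : Kˣ) : K) else 1) (by
    intro u v
    apply diag_preserves
    intro i
    by_cases hi : i = ⟨0, hn⟩
    · rw [if_pos hi]; exact d.2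
    · rw [if_neg hi]; exact nrm_one)

theorem detU_diagGU (hK : Fintype.card K = q ^ 2) (hn : 1 ≤ n) (d : ↥(normOne K q)) :
    detU hK (diagGU hK hn d : ↥(Cfsg.GU n K q)) = d := by
  classical
  apply Subtype.ext
  apply Units.ext
  rw [detU_coe]
  unfold diagGU
  rw [ofMat_coe, Matrix.det_diagonal, Finset.prod_ite_eq']
  simp

end grp

section reg

open Cfsg.Agent.S2644

/-- regular unipotent elements of `GU` -/
def RegG (g : ↥(Cfsg.GU n K q)) : Prop := RegM ((g : GL (Fin n) K) : Matrix (Fin n) (Fin n) K)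

theorem regG_conj (g h P : ↥(Cfsg.GU n K q)) (hPg : P * g = h * P) (hg : RegG g) : RegG h := by
  unfold RegG at *
  refine regM_conj _ _ ((P : GL (Fin n) K) : Matrix (Fin n) (Fin n) K)
    (((P : GL (Fin n) K)⁻¹ : GL (Fin n) K) : Matrix (Fin n) (Fin n) K) (Units.mul_inv _) ?_ hg
  have := congrArg (fun x : ↥(Cfsg.GU n K q) => ((x : GL (Fin n) K) : Matrix (Fin n) (Fin n) K)) hPg
  exact this

theorem exists_J0 (hK : Fintype.card K = q ^ 2) (hn : 1 ≤ n) :
    ∃ J : ↥(Cfsg.GU n K q), RegG J ∧ detU hK J = 1 := by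
  classical
  have hdet : (1 + shiftM n K).det ≠ 0 := by rw [det_one_add_shift]; exact one_ne_zero
  set S₁ : GL (Fin n) K := Matrix.GeneralLinearGroup.mkOfDetNeZero (1 + shiftM n K) hdet with hS₁
  have hS₁m : (S₁ : Matrix (Fin n) (Fin n) K) = 1 + shiftM n K := rfl
  have hnil : ((S₁ : Matrix (Fin n) (Fin n) K) - 1) ^ n = 0 := by
    rw [hS₁m]; exact (shift_regM hn).1
  obtain ⟨B, hB⟩ := (Cfsg.Agent.S2588.result hK S₁).2 (Cfsg.Agent.S2642.isConj_ct_inv hK S₁ n hnil)
  rw [isConj_iff] at hB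
  obtain ⟨c, hc⟩ := hB
  have hcm : (c : Matrix (Fin n) (Fin n) K) * (S₁ : Matrix (Fin n) (Fin n) K) =
      ((B : GL (Fin n) K) : Matrix (Fin n) (Fin n) K) * (c : Matrix (Fin n) (Fin n) K) := by
    have h1 : c * S₁ = (B : GL (Fin n) K) * c := by rw [← hc]; group
    have := congrArg (fun x : GL (Fin n) K => (x : Matrix (Fin n) (Fin n) K)) h1
    exact this
  refine ⟨B, ?_, ?_⟩
  · unfold RegG
    refine regM_conj _ _ (c : Matrix (Fin n) (Fin n) K) ((c⁻¹ : GL (Fin n) K) : Matrix (Fin n) (Fin n) K)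
      (Units.mul_inv _) hcm ?_
    rw [hS₁m]; exact shift_regM hn
  · apply Subtype.ext
    apply Units.ext
    rw [detU_coe]
    have h2 := congrArg Matrix.det hcm
    rw [Matrix.det_mul, Matrix.det_mul, hS₁m, det_one_add_shift, mul_one, mul_comm] at h2
    have hc0 : (c : Matrix (Fin n) (Fin n) K).det ≠ 0 :=
      ((Matrix.isUnit_iff_isUnit_det _).1 c.isUnit).ne_zero
    have h3 : ((B : GL (Fin n) K) : Matrix (Fin n) (Fin n) K).det = 1 := by
      have : (c : Matrix (Fin n) (Fin n) K).det * 1 = (c : Matrix (Fin n) (Fin n) K).det *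
          ((B : GL (Fin n) K) : Matrix (Fin n) (Fin n) K).det := by rw [mul_one]; exact h2
      exact (mul_left_cancel₀ hc0 this).symm
    rw [h3]; rfl

theorem exists_conj_GU (hK : Fintype.card K = q ^ 2) (hn : 1 ≤ n) (g J : ↥(Cfsg.GU n K q))
    (hg : RegG g) (hJ : RegG J) : ∃ P : ↥(Cfsg.GU n K q), g * P = P * J := by
  obtain ⟨X, hXu, hX⟩ := exists_conj_of_reg hn _ _ hJ hg
  have hJu := (mem_GU_iff hK (J : GL (Fin n) K)).1 J.2
  have hgu := (mem_GU_iff hK (g : GL (Fin n) K)).1 g.2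
  obtain ⟨Z, hZ, hZJ⟩ := exists_unitary_conj hK _ _ X hJu hgu hXu hX
  have hZu : IsUnit Z := ⟨⟨Z, ct hK Z, mul_eq_one_comm.1 hZ, hZ⟩, rfl⟩
  obtain ⟨Zu, hZu⟩ := hZu
  have hZmem : Zu ∈ Cfsg.GU n K q := by
    rw [mem_GU_iff hK, hZu]; exact hZ
  refine ⟨⟨Zu, hZmem⟩, ?_⟩
  apply GU_ext'
  show ((g : GL (Fin n) K) : Matrix (Fin n) (Fin n) K) * (Zu : Matrix (Fin n) (Fin n) K) =
    (Zu : Matrix (Fin n) (Fin n) K) * ((J : GL (Fin n) K) : Matrix (Fin n) (Fin n) K)
  rw [hZu, hZJ]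

theorem detU_of_commute (hK : Fintype.card K = q ^ 2) (hn : 1 ≤ n) (J Z : ↥(Cfsg.GU n K q))
    (hJ : RegG J) (h : Z * J = J * Z) : ∃ a : ↥(normOne K q), detU hK Z = a ^ n := by
  have h1 : ((Z : GL (Fin n) K) : Matrix (Fin n) (Fin n) K) * ((J : GL (Fin n) K) : Matrix (Fin n) (Fin n) K) =
      ((J : GL (Fin n) K) : Matrix (Fin n) (Fin n) K) * ((Z : GL (Fin n) K) : Matrix (Fin n) (Fin n) K) := by
    have := congrArg (fun x : ↥(Cfsg.GU n K q) => ((x : GL (Fin n) K) : Matrix (Fin n) (Fin n) K)) h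
    exact this
  obtain ⟨a, ha, hdet⟩ := det_of_commute_reg hK hn
    ((J : GL (Fin n) K) : Matrix (Fin n) (Fin n) K) ((Z : GL (Fin n) K) : Matrix (Fin n) (Fin n) K) hJ
    (fun u v => Z.2 u v) h1
  have ha0 : a ≠ 0 := by
    rintro rfl
    unfold nrm at ha
    rw [zero_mul] at ha
    exact zero_ne_one ha
  refine ⟨⟨Units.mk0 a ha0, ha⟩, ?_⟩
  apply Subtype.ext
  apply Units.ext
  rw [detU_coe, hdet]
  simp

end reg



/-- Regular unipotent classes of SU_n(q), n ≥ 2: the elements u of the special unitary group (isometries of Σ u_i v_i^q of determinant one over the field with q² elements) with (u − 1)^n = 0 and rank(u − 1) = n − 1 form exactly gcd(n, q + 1) conjugacy classes of SU_n(q). -/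
theorem result {K : Type*} [Field K] [Fintype K] {q n : ℕ} (hK : Fintype.card K = q ^ 2) (hn : 2 ≤ n) : Nat.card {C : ConjClasses ↥(Cfsg.SU n K q) // ∃ u : ↥(Cfsg.SU n K q), ConjClasses.mk u = C ∧ (((u : GL (Fin n) K) : Matrix (Fin n) (Fin n) K) - 1) ^ n = 0 ∧ (((u : GL (Fin n) K) : Matrix (Fin n) (Fin n) K) - 1).rank = n - 1} = Nat.gcd n (q + 1) := by
  classical
  have hn1 : 1 ≤ n := by omega
  obtain ⟨J, hJ, hJdet⟩ := exists_J0 hK hn1
  let H : Subgroup ↥(normOne K q) := (powMonoidHom n : ↥(normOne K q) →* ↥(normOne K q)).range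
  have hch : ∀ C : {C : ConjClasses ↥(Cfsg.SU n K q) // ∃ u : ↥(Cfsg.SU n K q), ConjClasses.mk u = C ∧ (((u : GL (Fin n) K) : Matrix (Fin n) (Fin n) K) - 1) ^ n = 0 ∧ (((u : GL (Fin n) K) : Matrix (Fin n) (Fin n) K) - 1).rank = n - 1},
      ∃ (u : ↥(Cfsg.SU n K q)) (P : ↥(Cfsg.GU n K q)),
        ConjClasses.mk u = C.1 ∧ toGU u * P = P * J := by
    rintro ⟨C, u, hu, h1, h2⟩
    have hreg : RegG (toGU u) := ⟨h1, h2⟩
    obtain ⟨P, hP⟩ := exists_conj_GU hK hn1 (toGU u) J hreg hJ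
    exact ⟨u, P, hu, hP⟩
  choose U P hU hP using hch
  let Ψ : {C : ConjClasses ↥(Cfsg.SU n K q) // ∃ u : ↥(Cfsg.SU n K q), ConjClasses.mk u = C ∧ (((u : GL (Fin n) K) : Matrix (Fin n) (Fin n) K) - 1) ^ n = 0 ∧ (((u : GL (Fin n) K) : Matrix (Fin n) (Fin n) K) - 1).rank = n - 1} → ↥(normOne K q) ⧸ H :=
    fun C => QuotientGroup.mk (detU hK (P C))
  have hJof : ∀ C, (P C)⁻¹ * toGU (U C) * P C = J := by
    intro C
    rw [mul_assoc, hP C, inv_mul_cancel_left]
  have hUof : ∀ C, toGU (U C) = P C * J * (P C)⁻¹ := by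
    intro C
    rw [← hP C, mul_inv_cancel_right]
  have hΨ : Function.Bijective Ψ := by
    constructor
    · intro C C' hCC
      have h1 : (detU hK (P C))⁻¹ * detU hK (P C') ∈ H := QuotientGroup.eq.1 hCC
      obtain ⟨a, ha⟩ := h1
      rw [powMonoidHom_apply] at ha
      let z : ↥(Cfsg.GU n K q) := scalarGU hK a⁻¹
      let s : ↥(Cfsg.GU n K q) := P C' * z * (P C)⁻¹
      have hsdet : detU hK s = 1 := by
        have h2 : detU hK s = detU hK (P C') * ((detU hK (P C))⁻¹ * detU hK (P C'))⁻¹ *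
            (detU hK (P C))⁻¹ := by
          simp only [s, z, map_mul, map_inv, detU_scalarGU, inv_pow, ha]
        rw [h2]; group
      have hconj : s * toGU (U C) * s⁻¹ = toGU (U C') := by
        calc s * toGU (U C) * s⁻¹
            = P C' * z * ((P C)⁻¹ * toGU (U C) * P C) * z⁻¹ * (P C')⁻¹ := by
              simp only [s]; group
          _ = P C' * (z * J) * z⁻¹ * (P C')⁻¹ := by rw [hJof]; group
          _ = P C' * (J * z) * z⁻¹ * (P C')⁻¹ := by
              rw [scalarGU_comm]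
          _ = P C' * J * (P C')⁻¹ := by group
          _ = toGU (U C') := (hUof C').symm
      obtain ⟨s', hs'⟩ := exists_SU_of_detU hK s hsdet
      have hconj' : IsConj (U C) (U C') := by
        rw [isConj_iff]
        refine ⟨s', ?_⟩
        apply toGU_injective
        rw [map_mul, map_mul, map_inv, hs', hconj]
      apply Subtype.ext
      rw [← hU C, ← hU C', ConjClasses.mk_eq_mk_iff_isConj]
      exact hconj'
    · intro x
      obtain ⟨d, rfl⟩ := QuotientGroup.mk_surjective x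
      let Dd : ↥(Cfsg.GU n K q) := diagGU hK hn1 d
      have hDd : detU hK Dd = d := detU_diagGU hK hn1 d
      let gd : ↥(Cfsg.GU n K q) := Dd * J * Dd⁻¹
      have hgdet : detU hK gd = 1 := by
        simp only [gd, map_mul, map_inv, hJdet, mul_one, mul_inv_cancel]
      obtain ⟨ud, hud⟩ := exists_SU_of_detU hK gd hgdet
      have hreg : RegG (toGU ud) := by
        rw [hud]
        exact regG_conj J gd Dd (by simp only [gd]; group) hJ
      refine ⟨⟨ConjClasses.mk ud, ud, rfl, hreg.1, hreg.2⟩, ?_⟩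
      set C : {C : ConjClasses ↥(Cfsg.SU n K q) // ∃ u : ↥(Cfsg.SU n K q), ConjClasses.mk u = C ∧ (((u : GL (Fin n) K) : Matrix (Fin n) (Fin n) K) - 1) ^ n = 0 ∧ (((u : GL (Fin n) K) : Matrix (Fin n) (Fin n) K) - 1).rank = n - 1} :=
        ⟨ConjClasses.mk ud, ud, rfl, hreg.1, hreg.2⟩ with hC
      have h1 : IsConj (U C) ud := by
        rw [← ConjClasses.mk_eq_mk_iff_isConj]
        exact hU C
      rw [isConj_iff] at h1
      obtain ⟨c, hc⟩ := h1
      have hc' : toGU c * toGU (U C) * (toGU c)⁻¹ = gd := by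
        rw [← hud, ← hc, map_mul, map_mul, map_inv]
      let Z : ↥(Cfsg.GU n K q) := Dd⁻¹ * toGU c * P C
      have hZ : Z * J = J * Z := by
        have h2 : Z * J * Z⁻¹ = J := by
          calc Z * J * Z⁻¹
              = Dd⁻¹ * (toGU c * (P C * J * (P C)⁻¹) * (toGU c)⁻¹) * Dd := by
                simp only [Z]; group
            _ = Dd⁻¹ * gd * Dd := by rw [← hUof, hc']
            _ = J := by simp only [gd]; group
        calc Z * J = Z * J * Z⁻¹ * Z := by group
          _ = J * Z := by rw [h2]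
      obtain ⟨a, ha⟩ := detU_of_commute hK hn1 J Z hJ hZ
      simp only [Z, map_mul, map_inv, detU_toGU, mul_one, hDd] at ha
      show (QuotientGroup.mk (detU hK (P C)) : ↥(normOne K q) ⧸ H) = QuotientGroup.mk d
      rw [QuotientGroup.eq]
      refine ⟨a⁻¹, ?_⟩
      rw [powMonoidHom_apply, inv_pow, ← ha, mul_inv_rev, inv_inv]
  rw [Nat.card_congr (Equiv.ofBijective Ψ hΨ)]
  show H.index = _
  rw [IsCyclic.index_powMonoidHom_range, card_normOne hK, Nat.gcd_comm]


end Cfsg.Agent.S2643
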