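import Cfsg.Statements.S2645
import Cfsg.Agent.Lib.Helper5.SSOrder1
import Cfsg.Agent.Lib.Helper5.SSOrder5
import Cfsg.Agent.S2385

set_option autoImplicit false
open Cfsg

namespace Cfsg.Agent.S2645


open Polynomial Cfsg.Agent.Lib.Helper5.Pal Cfsg.Agent.Lib.Helper5.SpReal
  Cfsg.Agent.Lib.Helper5.SSOrder

theorem card_ne_zero_sub {T : Type*} (z : T) (n : ℕ) (hn : Nat.card T = n) (hpos : 0 < n) :
    Nat.card {a : T // a ≠ z} = n - 1 := by
  classical
  haveI : Finite T := Nat.finite_of_card_ne_zero (by omega)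
  haveI : Fintype T := Fintype.ofFinite T
  rw [Nat.card_eq_fintype_card] at hn ⊢
  rw [← hn]
  exact Set.card_ne_eq z



/-- Number of conjugacy classes of elements of odd prime order r, r different from the characteristic, in the symplectic group Sp_2m(q): let i be the multiplicative order of q modulo r and t = (r − 1)/i. If i is odd the eigenvalue orbits pair off (Λ ≠ Λ⁻¹) and the classes correspond to the non-zero (t/2)-tuples (a_j) with 2i Σ a_j ≤ 2m, giving C(⌊m/i⌋ + t/2, t/2) − 1 classes; if i is even (Λ = Λ⁻¹) they correspond to the non-zero t-tuples with i Σ a_j ≤ 2m, giving C(⌊2m/i⌋ + t, t) − 1 classes. -/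
theorem result {F : Type*} [Field F] [Fintype F] {p q : ℕ} [Fact p.Prime] [CharP F p] (hF : Fintype.card F = q) (m r i t : ℕ) (hr : r.Prime) (hr2 : r ≠ 2) (hrp : r ≠ p) (hi : i = orderOf (q : ZMod r)) (ht : t * i = r - 1) : Nat.card {C : ConjClasses ↥(Matrix.symplecticGroup (Fin m) F) // ∃ g : Matrix.symplecticGroup (Fin m) F, ConjClasses.mk g = C ∧ orderOf g = r} = if Odd i then Nat.choose (m / i + t / 2) (t / 2) - 1 else Nat.choose (2 * m / i + t) t - 1 := by
  classical
  subst hi
  have hp : p.Prime := Fact.out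
  have hI := cyc_facSys hF hr hrp
  have hcardsum : Fintype.card (Fin m ⊕ Fin m) = 2 * m := by
    rw [Fintype.card_sum, Fintype.card_fin]; ring
  have hcopr : r.Coprime p := (Nat.coprime_primes hr hp).2 hrp
  set T := {a : cycFactors r F → ℕ // (∀ x, a (tauI (cyc_facSys hF hr hrp) x) = a x) ∧
      orderOf (q : ZMod r) * ∑ x, a x ≤ 2 * m} with hT
  have hTcard := card_tuples hF hr hrp hr2 m t ht
  set S := {C : ConjClasses ↥(Matrix.symplecticGroup (Fin m) F) //
    ∃ g : Matrix.symplecticGroup (Fin m) F, ConjClasses.mk g = C ∧ orderOf g = r} with hS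
  let zT : T := ⟨0, fun _ => rfl, by simp⟩
  let P : T → F[X] := fun a =>
    (X - 1) ^ (2 * m - orderOf (q : ZMod r) * ∑ x, a.1 x) * Gp (cycFactors r F) a.1
  have hPinj : ∀ a b : T, P a = P b → a = b := by
    intro a b hab
    exact Subtype.ext (Gp_injective hI a.1 b.1 _ _ hab)
  have hPz : P zT = (X - 1) ^ (2 * m) := by
    show (X - 1) ^ (2 * m - orderOf (q : ZMod r) * ∑ x, (0 : cycFactors r F → ℕ) x) *
      Gp (cycFactors r F) 0 = _
    rw [Gp]
    simp
  have hone : ((1 : ↥(Matrix.symplecticGroup (Fin m) F)) :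
      Matrix (Fin m ⊕ Fin m) (Fin m ⊕ Fin m) F).charpoly = (X - 1) ^ (2 * m) := by
    show (1 : Matrix (Fin m ⊕ Fin m) (Fin m ⊕ Fin m) F).charpoly = _
    rw [Matrix.charpoly_one, hcardsum]
  have hcp : ∀ g : ↥(Matrix.symplecticGroup (Fin m) F), orderOf g = r →
      ∃ a : {a : T // a ≠ zT},
        (g : Matrix (Fin m ⊕ Fin m) (Fin m ⊕ Fin m) F).charpoly = P a.1 := by
    intro g hg
    have hgr : (g : Matrix (Fin m ⊕ Fin m) (Fin m ⊕ Fin m) F) ^ r = 1 := by
      have := pow_orderOf_eq_one g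
      rw [hg] at this
      have h2 := congrArg Subtype.val this
      rwa [SubmonoidClass.coe_pow] at h2
    have h1 := charpoly_dvd_pow_of_pow_eq_one _ r hgr
    have hdeg : (g : Matrix (Fin m ⊕ Fin m) (Fin m ⊕ Fin m) F).charpoly.natDegree = 2 * m := by
      rw [Matrix.charpoly_natDegree_eq_dim, hcardsum]
    obtain ⟨a, ha1, ha2, ha3⟩ := tuple_of_poly hF hr hrp m _ (Matrix.charpoly_monic _) hdeg
      (reverse_charpoly_of_mem_symplectic _ g.2) _ h1
    refine ⟨⟨⟨a, ha1, ha2⟩, ?_⟩, ha3⟩
    intro hz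
    have h3 : (g : Matrix (Fin m ⊕ Fin m) (Fin m ⊕ Fin m) F).charpoly = P zT := by
      rw [← hz]
      exact ha3
    rw [hPz, ← hone] at h3
    have h4 := Cfsg.Agent.S2389.result p m g 1 (by rw [hg]; exact hcopr)
      (by rw [orderOf_one]; exact Nat.coprime_one_left p) h3
    rw [isConj_iff] at h4
    obtain ⟨c, hc⟩ := h4
    have h5 : g = 1 := by
      have : g = c⁻¹ * 1 * c := by rw [← hc]; group
      rw [this]; group
    rw [h5, orderOf_one] at hg
    exact hr.one_lt.ne hg
  let Φ : S → {a : T // a ≠ zT} := fun C =>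
    Classical.choose (hcp (Classical.choose C.2) (Classical.choose_spec C.2).2)
  have hΦ : ∀ C : S, ((Classical.choose C.2 : ↥(Matrix.symplecticGroup (Fin m) F)) :
      Matrix (Fin m ⊕ Fin m) (Fin m ⊕ Fin m) F).charpoly = P (Φ C).1 := fun C =>
    Classical.choose_spec (hcp (Classical.choose C.2) (Classical.choose_spec C.2).2)
  have hbij : Function.Bijective Φ := by
    constructor
    · intro C C' hCC
      have h1 := Classical.choose_spec C.2
      have h2 := Classical.choose_spec C'.2
      have h3 : ((Classical.choose C.2 : ↥(Matrix.symplecticGroup (Fin m) F)) :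
          Matrix (Fin m ⊕ Fin m) (Fin m ⊕ Fin m) F).charpoly =
          ((Classical.choose C'.2 : ↥(Matrix.symplecticGroup (Fin m) F)) :
          Matrix (Fin m ⊕ Fin m) (Fin m ⊕ Fin m) F).charpoly := by
        rw [hΦ C, hΦ C', hCC]
      have h4 := Cfsg.Agent.S2389.result p m _ _ (by rw [h1.2]; exact hcopr)
        (by rw [h2.2]; exact hcopr) h3
      apply Subtype.ext
      rw [← h1.1, ← h2.1]
      exact ConjClasses.mk_eq_mk_iff_isConj.2 h4
    · intro a
      obtain ⟨hfm, hfd, hfr, hfdvd⟩ := poly_of_tuple hF hr hrp hr2 m a.1.1 a.1.2.1 a.1.2.2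
      have hR := realizable_of_pal m (P a.1) hfm hfd hfr
      obtain ⟨M, k, hM, hMc, hk0, hMk⟩ := hR.exists_matrix m hfd
      have hMr : M ^ r = 1 := pow_eq_one_of_charpoly_dvd M k hk0 hMk r (2 * m) (by
        rw [hMc]; exact hfdvd)
      set g : ↥(Matrix.symplecticGroup (Fin m) F) := ⟨M, hM⟩ with hg
      have hgr : g ^ r = 1 := by
        apply Subtype.ext
        rw [SubmonoidClass.coe_pow]
        exact hMr
      have hg1 : g ≠ 1 := by
        intro h
        have h1 : M.charpoly = (X - 1) ^ (2 * m) := by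
          rw [← hone, ← h]
        rw [hMc, ← hPz] at h1
        exact a.2 (hPinj _ _ h1)
      haveI : Fact r.Prime := ⟨hr⟩
      have hord : orderOf g = r := orderOf_eq_prime hgr hg1
      set C : S := ⟨ConjClasses.mk g, g, rfl, hord⟩ with hC
      refine ⟨C, ?_⟩
      apply Subtype.ext
      apply hPinj
      rw [← hΦ C]
      have h1 := Classical.choose_spec C.2
      have h2 : IsConj (Classical.choose C.2) g := ConjClasses.mk_eq_mk_iff_isConj.1 h1.1
      rw [Cfsg.Agent.S2385.charpoly_conj _ _ h2]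
      exact hMc
  rw [Nat.card_eq_of_bijective Φ hbij]
  have hpos : 0 < Nat.card T := by
    rw [hTcard]
    split_ifs
    · exact Nat.choose_pos (Nat.le_add_left _ _)
    · exact Nat.choose_pos (Nat.le_add_left _ _)
  rw [card_ne_zero_sub zT _ rfl hpos, hTcard]
  split_ifs <;> rfl


end Cfsg.Agent.S2645
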