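import Cfsg.Statements.S2652
import Cfsg.Agent.Lib.Helper6.Fi23S.Fi23S6

set_option autoImplicit false
open Cfsg

namespace Cfsg.Agent.S2652

open Cfsg.Agent.Lib.Helper6.Fi23S

/-- Let T be a Sylow 2-subgroup of the Fischer group Fi₂₃ (the finitely presented group `Spor.Fi23`; T has order 2¹⁸). Then every elementary abelian subgroup of Fi₂₃ contained in T and normal in T has order at most 2¹¹, and there is exactly one such subgroup of order 2¹¹. -/
theorem result
    (T : Sylow 2 Cfsg.Spor.Fi23) :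
    (∀ A : Subgroup Cfsg.Spor.Fi23, A ≤ T → (A.subgroupOf T).Normal → Cfsg.IsElementaryAbelian 2 A →
        Nat.card A ≤ 2 ^ 11) ∧
    ∃! A : Subgroup Cfsg.Spor.Fi23, A ≤ T ∧ (A.subgroupOf T).Normal ∧ Cfsg.IsElementaryAbelian 2 A ∧
        Nat.card A = 2 ^ 11 := by
  have : Finite Cfsg.Spor.Fi23 := finite_Fi23
  have : Fact (Nat.Prime 2) := ⟨Nat.prime_two⟩
  exact sylow_ea_transport ST0 E0 (2 ^ 11) E0_le_T0 E0_normal E0_ea card_E0
    (fun A hA hea => ea_bound A hA hea) T

end Cfsg.Agent.S2652
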