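import Mathlib
import Cfsg.Statements.S2665

set_option autoImplicit false
open Cfsg

namespace Cfsg.Agent.S2665

open Polynomial Module

universe v

section poly
variable {K : Type*} [Field K]

/-- the additive polynomials giving the coefficients of a fixed vector -/
noncomputable def Cpoly (q : ℕ) (a : ℕ → K) : ℕ → K[X]
  | 0 => C (a 0) * X ^ q
  | (i + 1) => (Cpoly q a i) ^ q + C (a (i + 1)) * X ^ q

theorem X_pow_dvd_Cpoly (q : ℕ) (hq : 1 ≤ q) (a : ℕ → K) (i : ℕ) : (X : K[X]) ^ q ∣ Cpoly q a i := by
  induction i with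
  | zero => exact Dvd.intro_left _ rfl
  | succ i ih =>
    show X ^ q ∣ (Cpoly q a i) ^ q + C (a (i + 1)) * X ^ q
    apply dvd_add
    · exact dvd_trans ih (dvd_pow_self _ (by omega))
    · exact Dvd.intro_left _ rfl

theorem Cpoly_coeff (q : ℕ) (hq : 2 ≤ q) (a : ℕ → K) (i : ℕ) : (Cpoly q a i).coeff q = a i := by
  cases i with
  | zero =>
    show (C (a 0) * X ^ q).coeff q = a 0
    rw [coeff_C_mul, coeff_X_pow_self, mul_one]
  | succ i =>
    show ((Cpoly q a i) ^ q + C (a (i + 1)) * X ^ q).coeff q = a (i + 1)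
    obtain ⟨E, hE⟩ := X_pow_dvd_Cpoly q (by omega) a i
    rw [coeff_add, coeff_C_mul, coeff_X_pow_self, mul_one, hE, mul_pow, ← pow_mul,
      coeff_X_pow_mul', if_neg, zero_add]
    have : q * 2 ≤ q * q := Nat.mul_le_mul_left q hq
    have : 1 ≤ q := by omega
    nlinarith

theorem Cpoly_ne_zero (q : ℕ) (hq : 2 ≤ q) (a : ℕ → K) (i : ℕ) (h : ∃ k ≤ i, a k ≠ 0) :
    Cpoly q a i ≠ 0 := by
  induction i with
  | zero =>
    obtain ⟨k, hk, hak⟩ := h
    have : k = 0 := by omega
    subst this
    intro h0
    have := Cpoly_coeff q hq a 0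
    rw [h0, coeff_zero] at this
    exact hak this.symm
  | succ i ih =>
    by_cases ha : a (i + 1) = 0
    · have hi : ∃ k ≤ i, a k ≠ 0 := by
        obtain ⟨k, hk, hak⟩ := h
        refine ⟨k, ?_, hak⟩
        rcases Nat.lt_or_ge k (i + 1) with h1 | h1
        · omega
        · have : k = i + 1 := by omega
          rw [this] at hak
          exact absurd ha hak
      show (Cpoly q a i) ^ q + C (a (i + 1)) * X ^ q ≠ 0
      rw [ha, C_0, zero_mul, add_zero]
      exact pow_ne_zero _ (ih hi)
    · intro h0
      have := Cpoly_coeff q hq a (i + 1)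
      rw [h0, coeff_zero] at this
      exact ha this.symm

theorem exists_root_Cpoly [IsAlgClosed K] (q : ℕ) (hq : 2 ≤ q) (a : ℕ → K) (s : ℕ)
    (h : ∃ k ≤ s, a k ≠ 0) : ∃ t : K, t ≠ 0 ∧ (Cpoly q a s).eval t = t := by
  obtain ⟨E, hE⟩ := X_pow_dvd_Cpoly q (by omega) a s
  have hE0 : E ≠ 0 := by
    rintro rfl
    rw [mul_zero] at hE
    exact Cpoly_ne_zero q hq a s h hE
  have hq1 : q = (q - 1) + 1 := by omega
  have hdeg : (X ^ (q - 1) * E - 1 : K[X]).degree ≠ 0 := by
    intro hd
    have h1 : (X ^ (q - 1) * E - 1 : K[X]).natDegree = 0 := natDegree_eq_of_degree_eq_some hd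
    have h2 : (1 : K[X]).natDegree < (X ^ (q - 1) * E : K[X]).natDegree := by
      rw [natDegree_one, natDegree_X_pow_mul _ hE0]
      omega
    rw [natDegree_sub_eq_left_of_natDegree_lt h2, natDegree_X_pow_mul _ hE0] at h1
    omega
  obtain ⟨t, ht⟩ := IsAlgClosed.exists_root _ hdeg
  rw [IsRoot.def, eval_sub, eval_mul, eval_pow, eval_X, eval_one, sub_eq_zero] at ht
  refine ⟨t, ?_, ?_⟩
  · rintro rfl
    rw [zero_pow (by omega), zero_mul] at ht
    exact zero_ne_one ht
  · rw [hE, eval_mul, eval_pow, eval_X]
    nth_rewrite 1 [hq1]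
    rw [pow_succ, mul_comm (t ^ (q - 1)) t, mul_assoc, ht, mul_one]

end poly

section fixed
variable {K : Type*} [Field K] [IsAlgClosed K] (σ : K →+* K) (q : ℕ) (hq : 2 ≤ q)
  (hσ : ∀ c, σ c = c ^ q)

include hq hσ in
theorem exists_fixed {V : Type*} [AddCommGroup V] [Module K V] [FiniteDimensional K V]
    [Nontrivial V] (φ : V →ₛₗ[σ] V) (hφ : Function.Injective φ) :
    ∃ w : V, w ≠ 0 ∧ φ w = w := by
  classical
  obtain ⟨v, hv⟩ := exists_ne (0 : V)
  let u : ℕ → V := fun i => φ^[i] v
  have hu_succ : ∀ i, u (i + 1) = φ (u i) := fun i => Function.iterate_succ_apply' φ i v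
  have hu_ne : ∀ i, u i ≠ 0 := by
    intro i
    induction i with
    | zero => exact hv
    | succ i ih =>
      rw [hu_succ]
      intro h
      apply ih
      apply hφ
      rw [h, map_zero]
  -- some iterate lies in the span of the previous ones
  have hex : ∃ r, u r ∈ Submodule.span K (Set.range (fun i : Fin r => u i)) := by
    by_contra hcon
    push Not at hcon
    have hli : ∀ k, LinearIndependent K (fun i : Fin k => u i) := by
      intro k
      induction k with
      | zero => exact linearIndependent_empty_type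
      | succ k ih =>
        rw [linearIndependent_finSucc']
        exact ⟨ih, hcon k⟩
    have := (hli (finrank K V + 1)).fintype_card_le_finrank
    rw [Fintype.card_fin] at this
    omega
  let r := Nat.find hex
  have hr : u r ∈ Submodule.span K (Set.range (fun i : Fin r => u i)) := Nat.find_spec hex
  have hli : ∀ k, k ≤ r → LinearIndependent K (fun i : Fin k => u i) := by
    intro k
    induction k with
    | zero => intro _; exact linearIndependent_empty_type
    | succ k ih =>
      intro hk
      rw [linearIndependent_finSucc']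
      exact ⟨ih (by omega), Nat.find_min hex (by omega : k < r)⟩
  have hr1 : 1 ≤ r := by
    by_contra h0
    have h0' : r = 0 := by omega
    rw [h0'] at hr
    simp at hr
    exact hv hr
  obtain ⟨s, hs⟩ : ∃ s, r = s + 1 := ⟨r - 1, by omega⟩
  rw [hs] at hr
  have hliS := hli (s + 1) (by omega)
  obtain ⟨a₀, ha₀⟩ := (Submodule.mem_span_range_iff_exists_fun K).1 hr
  let a : ℕ → K := fun i => if h : i < s + 1 then a₀ ⟨i, h⟩ else 0
  have ha : ∑ i ∈ Finset.range (s + 1), a i • u i = u (s + 1) := by
    rw [← ha₀, ← Fin.sum_univ_eq_sum_range (fun i => a i • u i) (s + 1)]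
    apply Finset.sum_congr rfl
    intro i _
    simp only [a, dif_pos i.2]
  have hane : ∃ k ≤ s, a k ≠ 0 := by
    by_contra hcon
    push Not at hcon
    apply hu_ne (s + 1)
    rw [← ha]
    apply Finset.sum_eq_zero
    intro i hi
    rw [Finset.mem_range] at hi
    rw [hcon i (by omega), zero_smul]
  obtain ⟨t, ht0, ht⟩ := exists_root_Cpoly q hq a s hane
  let c : ℕ → K := fun i => (Cpoly q a i).eval t
  have hc0 : c 0 = a 0 * t ^ q := by
    show (C (a 0) * X ^ q : K[X]).eval t = _
    simp
  have hcs : ∀ i, c (i + 1) = (c i) ^ q + a (i + 1) * t ^ q := by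
    intro i
    show ((Cpoly q a i) ^ q + C (a (i + 1)) * X ^ q : K[X]).eval t = _
    simp [c]
  have hct : c s = t := ht
  refine ⟨∑ i ∈ Finset.range (s + 1), c i • u i, ?_, ?_⟩
  · intro h0
    rw [← Fin.sum_univ_eq_sum_range (fun i => c i • u i) (s + 1)] at h0
    have := linearIndependent_iff'.1 hliS Finset.univ (fun i => c i) h0 (Fin.last s) (Finset.mem_univ _)
    simp only [Fin.val_last] at this
    rw [hct] at this
    exact ht0 this
  · rw [map_sum]
    have h1 : ∀ i, φ (c i • u i) = (c i) ^ q • u (i + 1) := by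
      intro i
      rw [LinearMap.map_smulₛₗ, hσ, hu_succ]
    simp_rw [h1]
    rw [Finset.sum_range_succ, ← ha, hct]
    rw [Finset.sum_range_succ' (fun i => c i • u i), Finset.sum_range_succ' (fun i => a i • u i)]
    rw [smul_add, Finset.smul_sum, ← add_assoc, ← Finset.sum_add_distrib]
    congr 1
    · apply Finset.sum_congr rfl
      intro i _
      rw [hcs, add_smul, smul_smul, mul_comm]
    · rw [hc0, smul_smul, mul_comm]

include hq in
theorem exists_artin_schreier (a : K) : ∃ c : K, c ^ q + a = c := by
  have hdeg : (X ^ q - (X - C a) : K[X]).degree ≠ 0 := by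
    have h1 : (X - C a : K[X]).degree < (X ^ q : K[X]).degree := by
      rw [degree_X_sub_C, degree_X_pow]
      exact_mod_cast hq
    rw [degree_sub_eq_left_of_degree_lt h1, degree_X_pow]
    have : q ≠ 0 := by omega
    exact_mod_cast this
  obtain ⟨c, hc⟩ := IsAlgClosed.exists_root _ hdeg
  rw [IsRoot.def, eval_sub, eval_sub, eval_pow, eval_X, eval_C] at hc
  exact ⟨c, by linear_combination hc⟩

include hq hσ in
theorem exists_fixed_basis :
    ∀ (n : ℕ) (V : Type v) [AddCommGroup V] [Module K V] [FiniteDimensional K V],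
      finrank K V = n → ∀ (φ : V →ₛₗ[σ] V), Function.Injective φ →
      ∃ b : Basis (Fin n) K V, ∀ i, φ (b i) = b i := by
  intro n
  induction n with
  | zero =>
    intro V _ _ _ hV φ _
    exact ⟨Module.finBasisOfFinrankEq K V hV, fun i => i.elim0⟩
  | succ n ih =>
    intro V _ _ _ hV φ hφ
    have : Nontrivial V := Module.nontrivial_of_finrank_pos (R := K) (by omega)
    obtain ⟨w, hw0, hw⟩ := exists_fixed σ q hq hσ φ hφ
    let W : Submodule K V := Submodule.span K {w}
    have hwW : w ∈ W := Submodule.mem_span_singleton_self w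
    have hWdim : finrank K W = 1 := finrank_span_singleton hw0
    have hQdim : finrank K (V ⧸ W) = n := by
      have := Submodule.finrank_quotient_add_finrank W
      omega
    have hW : W ≤ W.comap φ := by
      intro x hx
      obtain ⟨c, rfl⟩ := Submodule.mem_span_singleton.1 hx
      rw [Submodule.mem_comap, LinearMap.map_smulₛₗ, hw]
      exact Submodule.smul_mem _ _ hwW
    let φq : (V ⧸ W) →ₛₗ[σ] (V ⧸ W) := W.mapQ W φ hW
    have hφq : Function.Injective φq := by
      rw [injective_iff_map_eq_zero]
      intro y hy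
      obtain ⟨x, rfl⟩ := Submodule.Quotient.mk_surjective W y
      rw [Submodule.mapQ_apply, Submodule.Quotient.mk_eq_zero] at hy
      obtain ⟨c, hc⟩ := Submodule.mem_span_singleton.1 hy
      obtain ⟨d, hd⟩ := IsAlgClosed.exists_pow_nat_eq c (by omega : 0 < q)
      have : φ (d • w) = φ x := by
        rw [LinearMap.map_smulₛₗ, hσ, hw, hd, hc]
      rw [Submodule.Quotient.mk_eq_zero, ← hφ this]
      exact Submodule.smul_mem _ _ hwW
    obtain ⟨bq, hbq⟩ := ih (V ⧸ W) hQdim φq hφq
    have hlift : ∀ i, ∃ u : V, Submodule.Quotient.mk u = bq i :=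
      fun i => Submodule.Quotient.mk_surjective W (bq i)
    choose u hu using hlift
    have hdiff : ∀ i, ∃ a : K, a • w = φ (u i) - u i := by
      intro i
      apply Submodule.mem_span_singleton.1
      rw [← Submodule.Quotient.mk_eq_zero, Submodule.Quotient.mk_sub, ← Submodule.mapQ_apply W W φ (h := hW),
        hu, sub_eq_zero]
      exact hbq i
    choose a ha using hdiff
    have hc : ∀ i, ∃ c : K, c ^ q + a i = c := fun i => exists_artin_schreier q hq (a i)
    choose c hc using hc
    let u' : Fin n → V := fun i => u i + c i • w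
    have hu'fix : ∀ i, φ (u' i) = u' i := by
      intro i
      show φ (u i + c i • w) = u i + c i • w
      rw [map_add, LinearMap.map_smulₛₗ, hσ, hw]
      have : φ (u i) = u i + a i • w := by rw [ha i]; abel
      rw [this, add_assoc, ← add_smul, add_comm (a i), hc i]
    have hu'mk : ∀ i, (Submodule.Quotient.mk (u' i) : V ⧸ W) = bq i := by
      intro i
      show (Submodule.Quotient.mk (u i + c i • w) : V ⧸ W) = bq i
      rw [Submodule.Quotient.mk_add, hu, (Submodule.Quotient.mk_eq_zero W).2 (Submodule.smul_mem _ _ hwW),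
        add_zero]
    have hli : LinearIndependent K (Sum.elim (fun _ : Fin 1 => w) u') := by
      have h1 : LinearIndependent K (fun _ : Fin 1 => (⟨w, hwW⟩ : W)) := by
        apply LinearIndependent.of_subsingleton 0
        intro h
        exact hw0 (congrArg Subtype.val h)
      have h2 : LinearIndependent K (Submodule.Quotient.mk (p := W) ∘ u') := by
        have : Submodule.Quotient.mk (p := W) ∘ u' = bq := funext hu'mk
        rw [this]
        exact bq.linearIndependent
      exact LinearIndependent.sumElim_of_quotient h1 u' h2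
    have hcard : Fintype.card (Fin 1 ⊕ Fin n) = finrank K V := by
      rw [Fintype.card_sum, Fintype.card_fin, Fintype.card_fin, hV]; omega
    let B : Basis (Fin 1 ⊕ Fin n) K V := basisOfLinearIndependentOfCardEqFinrank hli hcard
    let e : Fin 1 ⊕ Fin n ≃ Fin (n + 1) := finSumFinEquiv.trans (finCongr (by omega))
    refine ⟨B.reindex e, ?_⟩
    intro i
    rw [Basis.reindex_apply]
    simp only [B, coe_basisOfLinearIndependentOfCardEqFinrank]
    rcases e.symm i with j | j
    · exact hw
    · exact hu'fix j

/-- the semilinear map `v ↦ g (σ v)` -/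
def phiOf {n : ℕ} (g : Matrix (Fin n) (Fin n) K) : (Fin n → K) →ₛₗ[σ] (Fin n → K) where
  toFun v := g.mulVec (fun i => σ (v i))
  map_add' x y := by
    rw [← Matrix.mulVec_add]
    congr 1
    funext i
    simp
  map_smul' c x := by
    rw [← Matrix.mulVec_smul]
    congr 1
    funext i
    simp

include hq hσ in
theorem lang_matrix {n : ℕ} (g : GL (Fin n) K) :
    ∃ x : GL (Fin n) K, g = x * (Matrix.GeneralLinearGroup.map σ x)⁻¹ := by
  have hinj : Function.Injective (phiOf σ g.1) := by
    intro x y hxy
    have h1 : (fun i => σ (x i)) = (fun i => σ (y i)) := by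
      have := congrArg (fun v => (g⁻¹).1.mulVec v) hxy
      simp only [phiOf, LinearMap.coe_mk, AddHom.coe_mk, Matrix.mulVec_mulVec] at this
      rw [← Units.val_mul, inv_mul_cancel, Units.val_one, Matrix.one_mulVec, Matrix.one_mulVec] at this
      exact this
    funext i
    exact σ.injective (congrFun h1 i)
  obtain ⟨b, hb⟩ := exists_fixed_basis σ q hq hσ n (Fin n → K) (Module.finrank_fin_fun K)
    (phiOf σ g.1) hinj
  let X : Matrix (Fin n) (Fin n) K := (Pi.basisFun K (Fin n)).toMatrix b
  have hXapp : ∀ i j, X i j = b j i := by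
    intro i j
    simp [X, Basis.toMatrix_apply]
  have hXinv : Invertible X := (Pi.basisFun K (Fin n)).invertibleToMatrix b
  have hXeq : g.1 * X.map σ = X := by
    ext i j
    have := congrFun (hb j) i
    simp only [phiOf, LinearMap.coe_mk, AddHom.coe_mk, Matrix.mulVec, dotProduct] at this
    rw [Matrix.mul_apply, hXapp, ← this]
    apply Finset.sum_congr rfl
    intro k _
    rw [Matrix.map_apply, hXapp]
  refine ⟨unitOfInvertible X, ?_⟩
  rw [eq_mul_inv_iff_mul_eq]
  apply Units.ext
  exact hXeq

end fixed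

/-- The Lang–Steinberg Theorem for the general linear group. Let `K` be an algebraically closed field of prime characteristic `p`, let `q = p^f` with `f ≥ 1`, and let `σ` be the endomorphism of GL_n(K) raising every matrix entry to the `q`-th power. Then every element `g` of GL_n(K) can be written `g = x · σ(x)⁻¹` for some `x` in GL_n(K): the map `x ↦ x σ(x)⁻¹` is surjective. -/
theorem result {K : Type*} [Field K] [IsAlgClosed K] (p : ℕ) [Fact p.Prime] [CharP K p]
    (f : ℕ) (hf : 1 ≤ f) (n : ℕ) (g : GL (Fin n) K) :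
    ∃ x : GL (Fin n) K, g = x * (Matrix.GeneralLinearGroup.map (iterateFrobenius K p f) x)⁻¹ := by
  have hp := (Fact.out : p.Prime)
  have hq : 2 ≤ p ^ f := by
    calc 2 ≤ p := hp.two_le
      _ = p ^ 1 := (pow_one p).symm
      _ ≤ p ^ f := Nat.pow_le_pow_right hp.pos hf
  exact lang_matrix (iterateFrobenius K p f) (p ^ f) hq (fun c => iterateFrobenius_def p f c) g

end Cfsg.Agent.S2665
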