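import Cfsg.Statements.S2666

set_option autoImplicit false
open Cfsg

namespace Cfsg.Agent.S2666

theorem norm_tele {X : Type*} [Group X] (σ : MulAut X) (a : X) (d : ℕ) :
    ((List.range d).map (fun i => (σ ^ i) (a * (σ a)⁻¹))).prod = a * ((σ ^ d) a)⁻¹ := by
  induction d with
  | zero => simp
  | succ d ih =>
    rw [List.range_succ, List.map_append, List.prod_append, ih]
    simp only [List.map_cons, List.map_nil, List.prod_cons, List.prod_nil, mul_one, map_mul, map_inv]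
    have : (σ ^ d) (σ a) = (σ ^ (d+1)) a := by
      rw [pow_succ, MulAut.mul_apply]
    rw [this]; group

theorem pow_fix {X : Type*} [Group X] (τ : MulAut X) (y : X) (h : τ y = y) (n : ℕ) :
    (τ ^ n) y = y := by
  induction n with
  | zero => simp
  | succ n ih => rw [pow_succ, MulAut.mul_apply, h, ih]

theorem x_fix {X : Type*} [Group X] (σ : MulAut X) (e : ℕ) (a : X)
    (hg : (σ ^ e) (a * (σ a)⁻¹) = a * (σ a)⁻¹) :
    σ (((σ ^ e) a)⁻¹ * a) = ((σ ^ e) a)⁻¹ * a := by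
  simp only [map_mul, map_inv] at hg
  have h3 : (σ ^ e) (σ a) = σ ((σ ^ e) a) := by
    rw [← MulAut.mul_apply, ← MulAut.mul_apply, ← pow_succ, ← pow_succ']
  rw [h3] at hg
  rw [map_mul, map_inv]
  calc (σ ((σ ^ e) a))⁻¹ * σ a = ((σ ^ e) a)⁻¹ * ((σ ^ e) a * (σ ((σ ^ e) a))⁻¹) * σ a := by group
    _ = ((σ ^ e) a)⁻¹ * (a * (σ a)⁻¹) * σ a := by rw [hg]
    _ = _ := by group

theorem result {X : Type*} [Group X] (σ : MulAut X) (e : ℕ) (he : 1 ≤ e)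
    (hL : ∀ g : X, ∃ a : X, g = a * (σ a)⁻¹) (hLe : ∀ g : X, ∃ a : X, g = a * ((σ ^ e) a)⁻¹) :
    (∀ g ∈ (MulEquiv.toMonoidHom (σ ^ e)).eqLocus (MonoidHom.id X), ∀ a : X, g = a * (σ a)⁻¹ →
        ((σ ^ e) a)⁻¹ * a ∈ (MulEquiv.toMonoidHom σ).eqLocus (MonoidHom.id X) ∧
          a⁻¹ * ((List.range e).map (fun i => (σ ^ i) g)).prod * a = ((σ ^ e) a)⁻¹ * a) ∧
    (∀ g ∈ (MulEquiv.toMonoidHom (σ ^ e)).eqLocus (MonoidHom.id X), ∀ g' ∈ (MulEquiv.toMonoidHom (σ ^ e)).eqLocus (MonoidHom.id X), ∀ a b : X,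
        g = a * (σ a)⁻¹ → g' = b * (σ b)⁻¹ →
          ((∃ k ∈ (MulEquiv.toMonoidHom (σ ^ e)).eqLocus (MonoidHom.id X), g' = k * g * (σ k)⁻¹) ↔
            (∃ h ∈ (MulEquiv.toMonoidHom σ).eqLocus (MonoidHom.id X), ((σ ^ e) b)⁻¹ * b = h * (((σ ^ e) a)⁻¹ * a) * h⁻¹))) ∧
    (∀ x ∈ (MulEquiv.toMonoidHom σ).eqLocus (MonoidHom.id X), ∃ g ∈ (MulEquiv.toMonoidHom (σ ^ e)).eqLocus (MonoidHom.id X), ∃ a : X,
        g = a * (σ a)⁻¹ ∧ ((σ ^ e) a)⁻¹ * a = x) := by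
  refine ⟨?_, ?_, ?_⟩
  · intro g hg a ha
    have hg' : (σ ^ e) g = g := hg
    constructor
    · change σ _ = _
      apply x_fix; rw [← ha]; exact hg'
    · rw [ha, norm_tele]; group
  · intro g hg g' hg' a b ha hb
    have hg1 : (σ ^ e) g = g := hg
    have hg1' : (σ ^ e) g' = g' := hg'
    constructor
    · rintro ⟨k, hk, hkg⟩
      have hk' : (σ ^ e) k = k := hk
      -- h' = (k a)⁻¹ b is σ-fixed
      have hfix : σ ((k * a)⁻¹ * b) = (k * a)⁻¹ * b := by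
        rw [ha, hb] at hkg
        simp only [map_mul, map_inv, mul_inv_rev]
        -- b σ(b)⁻¹ = k a σ(a)⁻¹ σ(k)⁻¹
        calc (σ a)⁻¹ * (σ k)⁻¹ * σ b
            = (σ a)⁻¹ * (σ k)⁻¹ * (b * (σ b)⁻¹)⁻¹ * b := by group
          _ = (σ a)⁻¹ * (σ k)⁻¹ * (k * (a * (σ a)⁻¹) * (σ k)⁻¹)⁻¹ * b := by rw [hkg]
          _ = _ := by group
      refine ⟨((k * a)⁻¹ * b)⁻¹, ?_, ?_⟩
      · change σ (((k * a)⁻¹ * b)⁻¹) = ((k * a)⁻¹ * b)⁻¹
        rw [map_inv, hfix]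
      · have hfe := pow_fix σ _ hfix e
        simp only [map_mul, map_inv, mul_inv_rev, hk'] at hfe
        -- hfe : (σ^e a)⁻¹ * k⁻¹ * (σ^e) b = a⁻¹ * k⁻¹ * b
        have hb2 : (σ ^ e) b = k * (σ ^ e) a * (a⁻¹ * k⁻¹ * b) := by
          rw [← hfe]; group
        rw [hb2]; group
    · rintro ⟨h, hh, hx⟩
      have hh' : σ h = h := hh
      refine ⟨b * h * a⁻¹, ?_, ?_⟩
      · change (σ ^ e) (b * h * a⁻¹) = b * h * a⁻¹
        have hhe := pow_fix σ h hh' e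
        simp only [map_mul, map_inv, hhe]
        -- x' h = h x
        have hx2 : ((σ ^ e) b)⁻¹ * b * h = h * (((σ ^ e) a)⁻¹ * a) := by
          rw [hx]; group
        calc (σ ^ e) b * h * ((σ ^ e) a)⁻¹
            = (σ ^ e) b * (h * (((σ ^ e) a)⁻¹ * a)) * a⁻¹ := by group
          _ = (σ ^ e) b * (((σ ^ e) b)⁻¹ * b * h) * a⁻¹ := by rw [hx2]
          _ = _ := by group
      · rw [ha, hb]
        simp only [map_mul, map_inv, hh', mul_inv_rev, inv_inv]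
        group
  · intro x hx
    have hx' : σ x = x := hx
    obtain ⟨c, hc⟩ := hLe x⁻¹
    have hxc : x = (σ ^ e) c * c⁻¹ := by
      have : x = (x⁻¹)⁻¹ := by simp
      rw [this, hc]; group
    have hae : (σ ^ e) c⁻¹ = c⁻¹ * x⁻¹ := by
      rw [map_inv, hxc]; group
    refine ⟨c⁻¹ * (σ c⁻¹)⁻¹, ?_, c⁻¹, rfl, ?_⟩
    · change (σ ^ e) (c⁻¹ * (σ c⁻¹)⁻¹) = c⁻¹ * (σ c⁻¹)⁻¹
      have h3 : (σ ^ e) (σ c⁻¹) = σ ((σ ^ e) c⁻¹) := by
        rw [← MulAut.mul_apply, ← MulAut.mul_apply, ← pow_succ, ← pow_succ']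
      rw [map_mul, map_inv (σ ^ e) (σ c⁻¹), h3, hae, map_mul, map_inv σ x, hx']
      group
    · rw [map_inv, hxc]; group

end Cfsg.Agent.S2666
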