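import Cfsg.Statements.S2667

set_option autoImplicit false
open Cfsg

namespace Cfsg.Agent.S2667

theorem result {X : Type*} [Group X] (σ : MulAut X) (e : ℕ) (he : 1 ≤ e)
    (g : X) (hg : g ∈ (MulEquiv.toMonoidHom (σ ^ e)).eqLocus (MonoidHom.id X)) (a : X) (ha : g = a * (σ a)⁻¹) (k : X) :
    (k ∈ (MulEquiv.toMonoidHom (σ ^ e)).eqLocus (MonoidHom.id X) ∧ k * g * (σ k)⁻¹ = g) ↔
      (a⁻¹ * k * a ∈ (MulEquiv.toMonoidHom σ).eqLocus (MonoidHom.id X) ∧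
        (a⁻¹ * k * a) * (((σ ^ e) a)⁻¹ * a) = (((σ ^ e) a)⁻¹ * a) * (a⁻¹ * k * a)) := by
  change ((σ ^ e) k = k ∧ k * g * (σ k)⁻¹ = g) ↔
      (σ (a⁻¹ * k * a) = a⁻¹ * k * a ∧
        (a⁻¹ * k * a) * (((σ ^ e) a)⁻¹ * a) = (((σ ^ e) a)⁻¹ * a) * (a⁻¹ * k * a))
  have key : (k * g * (σ k)⁻¹ = g) ↔ σ (a⁻¹ * k * a) = a⁻¹ * k * a := by
    subst ha
    simp only [map_mul, map_inv]
    constructor
    · intro h
      have h2 : k * (a * (σ a)⁻¹) = a * (σ a)⁻¹ * σ k := 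
        mul_inv_eq_iff_eq_mul.mp h
      have : σ k = (σ a) * a⁻¹ * k * a * (σ a)⁻¹ := by
        calc σ k = (a * (σ a)⁻¹)⁻¹ * (a * (σ a)⁻¹ * σ k) := by group
          _ = (a * (σ a)⁻¹)⁻¹ * (k * (a * (σ a)⁻¹)) := by rw [h2]
          _ = _ := by group
      rw [this]; group
    · intro h
      have : σ k = (σ a) * a⁻¹ * k * a * (σ a)⁻¹ := by
        calc σ k = σ a * ((σ a)⁻¹ * σ k * σ a) * (σ a)⁻¹ := by group
          _ = _ := by rw [h]; group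
      rw [this]; group
  rw [key]
  have hpow : σ (a⁻¹ * k * a) = a⁻¹ * k * a → ∀ n : ℕ, (σ ^ n) (a⁻¹ * k * a) = a⁻¹ * k * a := by
    intro h n
    induction n with
    | zero => simp
    | succ n ih => rw [pow_succ, MulAut.mul_apply, h, ih]
  have comm : σ (a⁻¹ * k * a) = a⁻¹ * k * a →
      ((a⁻¹ * k * a) * (((σ ^ e) a)⁻¹ * a) = (((σ ^ e) a)⁻¹ * a) * (a⁻¹ * k * a) ↔ (σ ^ e) k = k) := by
    intro h
    have h1 := hpow h e
    have h3 : (σ ^ e) k = (σ ^ e) a * (a⁻¹ * k * a) * ((σ ^ e) a)⁻¹ := by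
      rw [← h1]; simp only [map_mul, map_inv]; group
    rw [h3]
    constructor
    · intro hc
      calc (σ ^ e) a * (a⁻¹ * k * a) * ((σ ^ e) a)⁻¹
          = (σ ^ e) a * ((a⁻¹ * k * a) * (((σ ^ e) a)⁻¹ * a)) * a⁻¹ := by group
        _ = (σ ^ e) a * ((((σ ^ e) a)⁻¹ * a) * (a⁻¹ * k * a)) * a⁻¹ := by rw [hc]
        _ = k := by group
    · intro hc
      calc (a⁻¹ * k * a) * (((σ ^ e) a)⁻¹ * a)
          = ((σ ^ e) a)⁻¹ * ((σ ^ e) a * (a⁻¹ * k * a) * ((σ ^ e) a)⁻¹) * a := by group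
        _ = ((σ ^ e) a)⁻¹ * k * a := by rw [hc]
        _ = _ := by group
  constructor
  · rintro ⟨hk, h⟩
    exact ⟨h, (comm h).2 hk⟩
  · rintro ⟨h, hc⟩
    exact ⟨(comm h).1 hc, h⟩

end Cfsg.Agent.S2667
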