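import Cfsg.Statements.S2668

set_option autoImplicit false
open Cfsg

namespace Cfsg.Agent.S2668

theorem norm_tele {X : Type*} [Group X] (σ : MulAut X) (a : X) (d : ℕ) :
    ((List.range d).map (fun i => (σ ^ i) (a * (σ a)⁻¹))).prod = a * ((σ ^ d) a)⁻¹ := by
  induction d with
  | zero => simp
  | succ d ih =>
    rw [List.range_succ, List.map_append, List.prod_append, ih]
    simp only [List.map_cons, List.map_nil, List.prod_cons, List.prod_nil, mul_one, map_mul, map_inv]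
    have : (σ ^ d) (σ a) = (σ ^ (d+1)) a := by
      rw [pow_succ, MulAut.mul_apply]
    rw [this]; group

theorem pow_fix {X : Type*} [Group X] (τ : MulAut X) (y : X) (h : τ y = y) (n : ℕ) :
    (τ ^ n) y = y := by
  induction n with
  | zero => simp
  | succ n ih => rw [pow_succ, MulAut.mul_apply, h, ih]

theorem result {X : Type*} [Group X] (σ : MulAut X) (e d : ℕ) (he : 1 ≤ e) (hd : 1 ≤ d)
    (g : X) (hg : g ∈ (MulEquiv.toMonoidHom (σ ^ e)).eqLocus (MonoidHom.id X)) (a : X) (ha : g = a * (σ a)⁻¹) :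
    ((List.range d).map (fun i => (σ ^ i) g)).prod = a * ((σ ^ d) a)⁻¹ ∧
      ((List.range d).map (fun i => (σ ^ i) g)).prod ∈ (MulEquiv.toMonoidHom ((σ ^ d) ^ e)).eqLocus (MonoidHom.id X) ∧
      (((σ ^ d) ^ e) a)⁻¹ * a = (((σ ^ e) a)⁻¹ * a) ^ d := by
  have hg' : (σ ^ e) g = g := hg
  have h1 : ((List.range d).map (fun i => (σ ^ i) g)).prod = a * ((σ ^ d) a)⁻¹ := by
    rw [ha]; exact norm_tele σ a d
  refine ⟨h1, ?_, ?_⟩
  · change ((σ ^ d) ^ e) _ = _
    have hcomm : (σ ^ d) ^ e = (σ ^ e) ^ d := by rw [← pow_mul, ← pow_mul, mul_comm]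
    rw [hcomm]
    apply pow_fix
    rw [map_list_prod, List.map_map]
    congr 1
    apply List.map_congr_left
    intro i _
    simp only [Function.comp]
    have : (σ ^ e) ((σ ^ i) g) = (σ ^ i) ((σ ^ e) g) := by
      rw [← MulAut.mul_apply, ← MulAut.mul_apply, ← pow_add, ← pow_add, add_comm]
    rw [this, hg']
  · set x := ((σ ^ e) a)⁻¹ * a with hx
    have hxfix : σ x = x := by
      have h2 : (σ ^ e) (a * (σ a)⁻¹) = a * (σ a)⁻¹ := by rw [← ha]; exact hg'
      simp only [map_mul, map_inv] at h2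
      have h3 : (σ ^ e) (σ a) = σ ((σ ^ e) a) := by
        rw [← MulAut.mul_apply, ← MulAut.mul_apply, ← pow_succ, ← pow_succ']
      rw [h3] at h2
      rw [hx, map_mul, map_inv]
      calc (σ ((σ ^ e) a))⁻¹ * σ a = ((σ ^ e) a)⁻¹ * ((σ ^ e) a * (σ ((σ ^ e) a))⁻¹) * σ a := by group
        _ = ((σ ^ e) a)⁻¹ * (a * (σ a)⁻¹) * σ a := by rw [h2]
        _ = _ := by group
    have hcomm : (σ ^ d) ^ e = (σ ^ e) ^ d := by rw [← pow_mul, ← pow_mul, mul_comm]
    rw [hcomm]
    have key : ∀ j : ℕ, (((σ ^ e) ^ j) a)⁻¹ * a = x ^ j := by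
      intro j
      induction j with
      | zero => simp
      | succ j ih =>
        have h4 : ((σ ^ e) ^ (j+1)) a = ((σ ^ e) ^ j) ((σ ^ e) a) := by
          rw [pow_succ, MulAut.mul_apply]
        have h5 : ((σ ^ e) ^ j) x = x := by
          rw [← pow_mul]; exact pow_fix σ x hxfix _
        calc (((σ ^ e) ^ (j+1)) a)⁻¹ * a
            = (((σ ^ e) ^ j) ((σ ^ e) a))⁻¹ * (((σ ^ e) ^ j) a) * ((((σ ^ e) ^ j) a)⁻¹ * a) := by
              rw [h4]; group
          _ = ((σ ^ e) ^ j) x * x ^ j := by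
              rw [ih, hx, map_mul, map_inv]
          _ = x ^ (j+1) := by rw [h5, pow_succ']
    exact key d

end Cfsg.Agent.S2668
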