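import Cfsg.Statements.S2669
import Mathlib

set_option autoImplicit false
open Cfsg

namespace Cfsg.Agent.S2669

/-- Fibre count over the first coordinate. -/
theorem count_fst {X : Type*} [Group X] (G H Y : Subgroup X) (a : X) (P : G → Prop)
    (hP : ∀ k : G, P k ↔ ∃ h : H, (k : X)⁻¹ * a * (h : X)⁻¹ ∈ Y) :
    Nat.card {p : G × H // (p.1 : X)⁻¹ * a * (p.2 : X)⁻¹ ∈ Y} =
      Nat.card {k : G // P k} * Nat.card ↥(Y ⊓ H) := by
  classical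
  rw [← Nat.card_prod]
  -- chosen base points
  have hch : ∀ k : {k : G // P k}, ∃ h : H, (k.1 : X)⁻¹ * a * (h : X)⁻¹ ∈ Y := fun k => (hP k.1).1 k.2
  choose h₀ hh₀ using hch
  let Φ : {p : G × H // (p.1 : X)⁻¹ * a * (p.2 : X)⁻¹ ∈ Y} → {k : G // P k} × ↥(Y ⊓ H) :=
    fun p => (⟨p.1.1, (hP p.1.1).2 ⟨p.1.2, p.2⟩⟩,
      ⟨(h₀ ⟨p.1.1, (hP p.1.1).2 ⟨p.1.2, p.2⟩⟩ : X) * (p.1.2 : X)⁻¹, by
        constructor
        · have h1 := hh₀ ⟨p.1.1, (hP p.1.1).2 ⟨p.1.2, p.2⟩⟩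
          have h2 := p.2
          have : (h₀ ⟨p.1.1, (hP p.1.1).2 ⟨p.1.2, p.2⟩⟩ : X) * (p.1.2 : X)⁻¹ =
              ((p.1.1 : X)⁻¹ * a * (h₀ ⟨p.1.1, (hP p.1.1).2 ⟨p.1.2, p.2⟩⟩ : X)⁻¹)⁻¹ *
                ((p.1.1 : X)⁻¹ * a * (p.1.2 : X)⁻¹) := by group
          rw [this]
          exact Y.mul_mem (Y.inv_mem h1) h2
        · exact H.mul_mem (h₀ _).2 (H.inv_mem p.1.2.2)⟩)
  apply Nat.card_congr
  refine Equiv.ofBijective Φ ⟨?_, ?_⟩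
  · rintro ⟨⟨k, h⟩, hp⟩ ⟨⟨k', h'⟩, hp'⟩ heq
    simp only [Φ, Prod.mk.injEq, Subtype.mk.injEq] at heq
    obtain ⟨hk, hz⟩ := heq
    subst hk
    have : (h : X) = (h' : X) := by
      have := mul_left_cancel (congrArg Subtype.val hz)
      exact inv_injective this
    apply Subtype.ext
    exact Prod.ext rfl (Subtype.ext this)
  · rintro ⟨k, ⟨z, hzY, hzH⟩⟩
    have hmem : (k.1 : X)⁻¹ * a * ((⟨z⁻¹ * (h₀ k : X), H.mul_mem (H.inv_mem hzH) (h₀ k).2⟩ : H) : X)⁻¹ ∈ Y := by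
      have : (k.1 : X)⁻¹ * a * (z⁻¹ * (h₀ k : X))⁻¹ = ((k.1 : X)⁻¹ * a * (h₀ k : X)⁻¹) * z := by group
      rw [this]
      exact Y.mul_mem (hh₀ k) hzY
    refine ⟨⟨(k.1, ⟨z⁻¹ * (h₀ k : X), H.mul_mem (H.inv_mem hzH) (h₀ k).2⟩), hmem⟩, ?_⟩
    simp only [Φ]
    apply Prod.ext
    · rfl
    · apply Subtype.ext
      simp only
      group

/-- Fibre count over the second coordinate. -/
theorem count_snd {X : Type*} [Group X] (G H Y : Subgroup X) (a : X) (Q : H → Prop)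
    (hQ : ∀ h : H, Q h ↔ ∃ k : G, (k : X)⁻¹ * a * (h : X) ∈ Y) :
    Nat.card {p : G × H // (p.1 : X)⁻¹ * a * (p.2 : X)⁻¹ ∈ Y} =
      Nat.card {h : H // Q h} * Nat.card ↥(Y ⊓ G) := by
  classical
  rw [← Nat.card_prod]
  have hch : ∀ h : {h : H // Q h}, ∃ k : G, (k : X)⁻¹ * a * (h.1 : X) ∈ Y := fun h => (hQ h.1).1 h.2
  choose k₀ hk₀ using hch
  have hQinv : ∀ p : {p : G × H // (p.1 : X)⁻¹ * a * (p.2 : X)⁻¹ ∈ Y}, Q (p.1.2)⁻¹ := by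
    intro p
    exact (hQ _).2 ⟨p.1.1, by simpa using p.2⟩
  let Φ : {p : G × H // (p.1 : X)⁻¹ * a * (p.2 : X)⁻¹ ∈ Y} → {h : H // Q h} × ↥(Y ⊓ G) :=
    fun p => (⟨(p.1.2)⁻¹, hQinv p⟩,
      ⟨(p.1.1 : X)⁻¹ * (k₀ ⟨(p.1.2)⁻¹, hQinv p⟩ : X), by
        constructor
        · have h1 := hk₀ ⟨(p.1.2)⁻¹, hQinv p⟩
          have h2 := p.2
          simp only [Subgroup.coe_inv] at h1
          have : (p.1.1 : X)⁻¹ * (k₀ ⟨(p.1.2)⁻¹, hQinv p⟩ : X) =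
              ((p.1.1 : X)⁻¹ * a * (p.1.2 : X)⁻¹) *
                ((k₀ ⟨(p.1.2)⁻¹, hQinv p⟩ : X)⁻¹ * a * (p.1.2 : X)⁻¹)⁻¹ := by group
          rw [this]
          exact Y.mul_mem h2 (Y.inv_mem h1)
        · exact G.mul_mem (G.inv_mem p.1.1.2) (k₀ _).2⟩)
  apply Nat.card_congr
  refine Equiv.ofBijective Φ ⟨?_, ?_⟩
  · rintro ⟨⟨k, h⟩, hp⟩ ⟨⟨k', h'⟩, hp'⟩ heq
    simp only [Φ, Prod.mk.injEq, Subtype.mk.injEq] at heq
    obtain ⟨hh, hz⟩ := heq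
    have hh' : h = h' := inv_injective hh
    subst hh'
    have : (k : X) = (k' : X) := by
      have := mul_right_cancel (congrArg Subtype.val hz)
      exact inv_injective this
    apply Subtype.ext
    exact Prod.ext (Subtype.ext this) rfl
  · rintro ⟨h, ⟨z, hzY, hzG⟩⟩
    have hmem : (((⟨(k₀ h : X) * z⁻¹, G.mul_mem (k₀ h).2 (G.inv_mem hzG)⟩ : G) : X))⁻¹ * a *
        (((h.1)⁻¹ : H) : X)⁻¹ ∈ Y := by
      have : ((k₀ h : X) * z⁻¹)⁻¹ * a * (((h.1)⁻¹ : H) : X)⁻¹ = z * ((k₀ h : X)⁻¹ * a * (h.1 : X)) := by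
        simp only [Subgroup.coe_inv]
        group
      rw [this]
      exact Y.mul_mem hzY (hk₀ h)
    refine ⟨⟨(⟨(k₀ h : X) * z⁻¹, G.mul_mem (k₀ h).2 (G.inv_mem hzG)⟩, (h.1)⁻¹), hmem⟩, ?_⟩
    simp only [Φ]
    have e1 : (⟨((h.1)⁻¹)⁻¹, hQinv ⟨(⟨(k₀ h : X) * z⁻¹, G.mul_mem (k₀ h).2 (G.inv_mem hzG)⟩, (h.1)⁻¹), hmem⟩⟩ : {h : H // Q h}) = h := by
      apply Subtype.ext
      simp
    apply Prod.ext
    · exact e1
    · apply Subtype.ext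
      simp only
      rw [e1]
      group

theorem pow_fix {X : Type*} [Group X] (τ : MulAut X) (y : X) (h : τ y = y) (n : ℕ) :
    (τ ^ n) y = y := by
  induction n with
  | zero => simp
  | succ n ih => rw [pow_succ, MulAut.mul_apply, h, ih]

theorem pow_stable {X : Type*} [Group X] (σ : MulAut X) (Y : Subgroup X)
    (hY : ∀ y : X, y ∈ Y ↔ σ y ∈ Y) (n : ℕ) (y : X) : y ∈ Y ↔ (σ ^ n) y ∈ Y := by
  induction n generalizing y with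
  | zero => simp
  | succ n ih => rw [pow_succ, MulAut.mul_apply, ← ih, ← hY]

theorem result {X : Type*} [Group X] (σ : MulAut X) (e : ℕ) (he : 1 ≤ e)
    [Finite ↥((MulEquiv.toMonoidHom (σ ^ e)).eqLocus (MonoidHom.id X))]
    (Y : Subgroup X) (hY : ∀ y : X, y ∈ Y ↔ σ y ∈ Y)
    (hYL : ∀ y ∈ Y, ∃ a ∈ Y, y = a * (σ a)⁻¹) (hYLe : ∀ y ∈ Y, ∃ a ∈ Y, y = a * ((σ ^ e) a)⁻¹)
    (g : X) (hg : g ∈ (MulEquiv.toMonoidHom (σ ^ e)).eqLocus (MonoidHom.id X)) (a : X) (ha : g = a * (σ a)⁻¹) :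
    Nat.card {k : ↥((MulEquiv.toMonoidHom (σ ^ e)).eqLocus (MonoidHom.id X)) // (k : X)⁻¹ * g * σ k ∈ Y} *
        Nat.card ↥(Y ⊓ (MulEquiv.toMonoidHom σ).eqLocus (MonoidHom.id X)) =
      Nat.card {h : ↥((MulEquiv.toMonoidHom σ).eqLocus (MonoidHom.id X)) // (h : X)⁻¹ * (((σ ^ e) a)⁻¹ * a) * h ∈ Y} *
        Nat.card ↥(Y ⊓ (MulEquiv.toMonoidHom (σ ^ e)).eqLocus (MonoidHom.id X)) := by
  set G := (MulEquiv.toMonoidHom (σ ^ e)).eqLocus (MonoidHom.id X) with hG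
  set H := (MulEquiv.toMonoidHom σ).eqLocus (MonoidHom.id X) with hH
  have hGmem : ∀ k : X, k ∈ G ↔ (σ ^ e) k = k := fun k => Iff.rfl
  have hHmem : ∀ h : X, h ∈ H ↔ σ h = h := fun h => Iff.rfl
  have hYe : ∀ y : X, y ∈ Y ↔ (σ ^ e) y ∈ Y := pow_stable σ Y hY e
  rw [← count_fst G H Y a (fun k => (k : X)⁻¹ * g * σ k ∈ Y) ?_,
    ← count_snd G H Y a (fun h => (h : X)⁻¹ * (((σ ^ e) a)⁻¹ * a) * h ∈ Y) ?_]
  · -- hQ
    intro h
    have hh : σ (h : X) = h := (hHmem _).1 h.2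
    have hhe : (σ ^ e) (h : X) = h := pow_fix σ _ hh e
    constructor
    · intro hQ
      -- L'_e(a h) ∈ Y
      have h1 : ((σ ^ e) (a * h))⁻¹ * (a * h) ∈ Y := by
        have : ((σ ^ e) (a * h))⁻¹ * (a * h) = (h : X)⁻¹ * (((σ ^ e) a)⁻¹ * a) * h := by
          rw [map_mul, hhe]; group
        rw [this]; exact hQ
      obtain ⟨b, hbY, hb⟩ := hYLe _ (Y.inv_mem h1)
      -- k := a h b
      have hkG : a * h * b ∈ G := by
        rw [hGmem, map_mul]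
        have h2 : (σ ^ e) b = ((σ ^ e) (a * h))⁻¹ * (a * ↑h) * b := by
          have : ((σ ^ e) b)⁻¹ = b⁻¹ * (((σ ^ e) (a * h))⁻¹ * (a * h))⁻¹ := by
            rw [hb]; group
          have h3 := congrArg (fun t => t⁻¹) this
          simp only [inv_inv] at h3
          rw [h3]; group
        rw [h2]; group
      refine ⟨⟨a * h * b, hkG⟩, ?_⟩
      have : (a * (h : X) * b)⁻¹ * a * h = b⁻¹ := by group
      rw [this]
      exact Y.inv_mem hbY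
    · rintro ⟨k, hk⟩
      have hke : (σ ^ e) (k : X) = k := (hGmem _).1 k.2
      set y := (k : X)⁻¹ * a * h with hy
      have hah : a * (h : X) = k * y := by rw [hy]; group
      have : (h : X)⁻¹ * (((σ ^ e) a)⁻¹ * a) * h = ((σ ^ e) y)⁻¹ * y := by
        have e1 : (h : X)⁻¹ * (((σ ^ e) a)⁻¹ * a) * h = ((σ ^ e) (a * h))⁻¹ * (a * h) := by
          rw [map_mul, hhe]; group
        rw [e1, hah, map_mul, hke]; group
      rw [this]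
      exact Y.mul_mem (Y.inv_mem ((hYe y).1 hk)) hk
  · -- hP
    intro k
    constructor
    · intro hP
      have h1 : ((k : X)⁻¹ * a) * (σ ((k : X)⁻¹ * a))⁻¹ ∈ Y := by
        have : ((k : X)⁻¹ * a) * (σ ((k : X)⁻¹ * a))⁻¹ = (k : X)⁻¹ * g * σ k := by
          rw [ha, map_mul, map_inv]; group
        rw [this]; exact hP
      obtain ⟨y, hyY, hy⟩ := hYL _ h1
      -- h := y⁻¹ k⁻¹ a ∈ H
      have hhH : y⁻¹ * ((k : X)⁻¹ * a) ∈ H := by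
        rw [hHmem, map_mul, map_inv]
        have h2 : σ ((k : X)⁻¹ * a) = σ y * y⁻¹ * ((k : X)⁻¹ * a) := by
          have h3 : (σ ((k : X)⁻¹ * a))⁻¹ = ((k : X)⁻¹ * a)⁻¹ * (y * (σ y)⁻¹) := by
            rw [← hy]; group
          have h4 := congrArg (fun t => t⁻¹) h3
          simp only [inv_inv] at h4
          rw [h4]; group
        rw [h2]; group
      refine ⟨⟨y⁻¹ * ((k : X)⁻¹ * a), hhH⟩, ?_⟩
      have : (k : X)⁻¹ * a * (y⁻¹ * ((k : X)⁻¹ * a))⁻¹ = y := by group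
      rw [this]
      exact hyY
    · rintro ⟨h, hk⟩
      have hh : σ (h : X) = h := (hHmem _).1 h.2
      set y := (k : X)⁻¹ * a * (h : X)⁻¹ with hy
      have hka : (k : X)⁻¹ * a = y * h := by rw [hy]; group
      have : (k : X)⁻¹ * g * σ k = y * (σ y)⁻¹ := by
        have e1 : (k : X)⁻¹ * g * σ k = ((k : X)⁻¹ * a) * (σ ((k : X)⁻¹ * a))⁻¹ := by
          rw [ha, map_mul, map_inv]; group
        rw [e1, hka, map_mul, hh]; group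
      show (k : X)⁻¹ * g * σ k ∈ Y
      rw [this]
      exact Y.mul_mem hk (Y.inv_mem ((hY y).1 hk))

end Cfsg.Agent.S2669
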