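import Cfsg.Statements.S2670
import Cfsg.Agent.Lib.Helper5.PGLr5

set_option autoImplicit false
open Cfsg

namespace Cfsg.Agent.S2670


open Cfsg.Agent.Lib.Helper5 Cfsg.Agent.Lib.Helper5.PGLr Polynomial Matrix

section
variable {F : Type*} [Field F] [Fintype F] {n r : ℕ} [hr : Fact r.Prime]

/-- classes of elements of order `r` in `PGL_n` -/
abbrev XX (n r : ℕ) (F : Type*) [Field F] : Type _ :=
  {C : ConjClasses (PG n F) // ∃ g : PG n F, ConjClasses.mk g = C ∧ orderOf g = r}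

/-- the class has a lift of order `r` -/
def isA (C : XX n r F) : Prop :=
  ∃ g : GL (Fin n) F, g.1 ^ r = 1 ∧ ConjClasses.mk (QuotientGroup.mk g : PG n F) = C.1

theorem orderOf_of_mk_eq (C : XX n r F) (x : PG n F) (hx : ConjClasses.mk x = C.1) :
    orderOf x = r := by
  obtain ⟨g, hg, hgr⟩ := C.2
  rw [← hg, ConjClasses.mk_eq_mk_iff_isConj] at hx
  obtain ⟨c, hc⟩ := hx
  rw [SemiconjBy.orderOf_eq (↑c) hc, hgr]

variable (p : ℕ) [Fact p.Prime] [CharP F p] (hrp : r ≠ p) {ζ : F}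
  (hζ : IsPrimitiveRoot ζ r) (hn : 2 ≤ n)
include hrp hζ hn

/-- representative of a multiplicity tuple -/
noncomputable def repA (a : Tup r n) : GL (Fin n) F :=
  Classical.choose (exists_repA p hrp hζ a.1 a.2.1)

theorem repA_pow (a : Tup r n) : (repA p hrp hζ a).1 ^ r = 1 :=
  (Classical.choose_spec (exists_repA p hrp hζ a.1 a.2.1)).1

theorem repA_charpoly (a : Tup r n) : (repA p hrp hζ a).1.charpoly = fpoly ζ a.1 :=
  (Classical.choose_spec (exists_repA p hrp hζ a.1 a.2.1)).2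

theorem orderOf_repA (a : Tup r n) :
    orderOf (QuotientGroup.mk (repA p hrp hζ a) : PG n F) = r := by
  rw [orderOf_mk_eq_prime_iff (by omega) r]
  refine ⟨⟨1, one_ne_zero, by rw [one_smul]; exact repA_pow p hrp hζ hn a⟩, ?_⟩
  rw [scalar_iff p hrp hζ (by omega) _ (repA_pow p hrp hζ hn a) a.1 a.2.1
    (repA_charpoly p hrp hζ hn a)]
  rintro ⟨j, hj⟩
  exact absurd (a.2.2 j) (by omega)

/-- the class attached to a multiplicity tuple -/
noncomputable def phiA (a : Tup r n) : {C : XX n r F // isA C} :=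
  ⟨⟨ConjClasses.mk (QuotientGroup.mk (repA p hrp hζ a)), _, rfl, orderOf_repA p hrp hζ hn a⟩,
    repA p hrp hζ a, repA_pow p hrp hζ hn a, rfl⟩

theorem phiA_eq_iff (a b : Tup r n) :
    phiA p hrp hζ hn a = phiA p hrp hζ hn b ↔ AddAction.orbitRel (ZMod r) (Tup r n) a b := by
  rw [Subtype.ext_iff, Subtype.ext_iff]
  show ConjClasses.mk _ = ConjClasses.mk _ ↔ _
  rw [ConjClasses.mk_eq_mk_iff_isConj, conjA_iff p hrp hζ (by omega) _ _ (repA_pow p hrp hζ hn a)
    (repA_pow p hrp hζ hn b) a.1 b.1 (repA_charpoly p hrp hζ hn a) (repA_charpoly p hrp hζ hn b),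
    AddAction.orbitRel_apply, AddAction.mem_orbit_iff]
  constructor
  · rintro ⟨k, hk⟩
    refine ⟨-k, ?_⟩
    apply Subtype.ext
    funext j
    rw [vadd_apply, hk, sub_neg_eq_add, add_sub_cancel_right]
  · rintro ⟨k, hk⟩
    refine ⟨-k, fun j => ?_⟩
    rw [← hk, vadd_apply, sub_neg_eq_add, add_sub_cancel_right]

theorem phiA_surj (C : {C : XX n r F // isA C}) : ∃ a, phiA p hrp hζ hn a = C := by
  obtain ⟨C, g, hg, hgC⟩ := C
  obtain ⟨a, hsum, ha⟩ := exists_tuple hζ g.1 hg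
  have hord : orderOf (QuotientGroup.mk g : PG n F) = r := orderOf_of_mk_eq C _ hgC
  rw [orderOf_mk_eq_prime_iff (by omega) r] at hord
  have hns := hord.2
  rw [scalar_iff p hrp hζ (by omega) _ hg a hsum ha] at hns
  have hlt : ∀ j, a j < n := by
    intro j
    by_contra h
    exact hns ⟨j, by omega⟩
  refine ⟨⟨a, hsum, hlt⟩, ?_⟩
  apply Subtype.ext
  apply Subtype.ext
  show ConjClasses.mk _ = C.1
  rw [← hgC, ConjClasses.mk_eq_mk_iff_isConj, conjA_iff p hrp hζ (by omega) _ _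
    (repA_pow p hrp hζ hn _) hg a a (repA_charpoly p hrp hζ hn _) ha]
  exact ⟨0, fun j => by rw [sub_zero]⟩

theorem card_A : Nat.card {C : XX n r F // isA C} =
    Nat.card (Quotient (AddAction.orbitRel (ZMod r) (Tup r n))) := by
  symm
  refine Nat.card_congr (Equiv.ofBijective
    (Quotient.lift (phiA p hrp hζ hn) (fun a b hab => (phiA_eq_iff p hrp hζ hn a b).2 hab)) ⟨?_, ?_⟩)
  · intro x y
    induction x using Quotient.inductionOn with | _ a => ?_
    induction y using Quotient.inductionOn with | _ b => ?_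
    intro h
    exact Quotient.sound ((phiA_eq_iff p hrp hζ hn a b).1 h)
  · intro C
    obtain ⟨a, ha⟩ := phiA_surj p hrp hζ hn C
    exact ⟨Quotient.mk _ a, ha⟩

end

section
variable {F : Type*} [Field F] [Fintype F] {n r : ℕ} [hr : Fact r.Prime]

/-- the subgroup of `r`-th powers -/
abbrev Pw (r : ℕ) (F : Type*) [Field F] : Subgroup Fˣ := (powMonoidHom r : Fˣ →* Fˣ).range

theorem card_quot (hrq : r ∣ Fintype.card F - 1) : Nat.card (Fˣ ⧸ Pw r F) = r := by
  have h1 : (Pw r F).index = (Nat.card Fˣ).gcd r := IsCyclic.index_powMonoidHom_range Fˣ r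
  rw [Subgroup.index] at h1
  rw [h1, Nat.card_units, Nat.card_eq_fintype_card]
  exact Nat.gcd_eq_right hrq

theorem card_quot_ne (hrq : r ∣ Fintype.card F - 1) :
    Nat.card {u : Fˣ ⧸ Pw r F // u ≠ 1} = r - 1 := by
  classical
  have : Fintype (Fˣ ⧸ Pw r F) := Fintype.ofFinite _
  have h1 := card_quot (r := r) (F := F) hrq
  rw [Nat.card_eq_fintype_card] at h1
  rw [Nat.card_eq_fintype_card, Fintype.card_subtype_compl, Fintype.card_subtype_eq, h1]

theorem mk_eq_mk_iff (l l' : Fˣ) :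
    (QuotientGroup.mk l : Fˣ ⧸ Pw r F) = QuotientGroup.mk l' ↔
      ∃ c : F, c ≠ 0 ∧ (l : F) = c ^ r * (l' : F) := by
  rw [QuotientGroup.eq]
  constructor
  · rintro ⟨b, hb⟩
    rw [powMonoidHom_apply] at hb
    refine ⟨((b⁻¹ : Fˣ) : F), Units.ne_zero _, ?_⟩
    have : l = (b⁻¹) ^ r * l' := by
      rw [inv_pow, hb, _root_.mul_inv_rev, inv_inv, mul_comm, ← mul_assoc, mul_inv_cancel, one_mul]
    rw [this]
    push_cast
    rfl
  · rintro ⟨c, hc0, hc⟩
    refine ⟨(Units.mk0 c hc0)⁻¹, ?_⟩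
    rw [powMonoidHom_apply]
    have : l = (Units.mk0 c hc0) ^ r * l' := by
      apply Units.ext
      rw [hc]; push_cast; rfl
    rw [this, _root_.mul_inv_rev, mul_comm, ← mul_assoc, mul_inv_cancel, one_mul, inv_pow]

theorem nonpow_of_ne_one (l : Fˣ) (hl : (QuotientGroup.mk l : Fˣ ⧸ Pw r F) ≠ 1) :
    ∀ b : F, b ^ r ≠ (l : F) := by
  intro b hb
  apply hl
  have hb0 : b ≠ 0 := by
    rintro rfl
    rw [zero_pow hr.out.ne_zero] at hb
    exact Units.ne_zero l hb.symm
  rw [← QuotientGroup.mk_one, mk_eq_mk_iff]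
  exact ⟨b, hb0, by rw [hb, Units.val_one, mul_one]⟩

variable (p : ℕ) [Fact p.Prime] [CharP F p] (hrp : r ≠ p) (hn : 2 ≤ n)
include hrp hn

theorem exists_lift_B (C : XX n r F) (hC : ¬ isA C) :
    ∃ (g : GL (Fin n) F) (l : F), l ≠ 0 ∧ (∀ b : F, b ^ r ≠ l) ∧ g.1 ^ r = l • 1 ∧
      ConjClasses.mk (QuotientGroup.mk g : PG n F) = C.1 := by
  obtain ⟨g', hg', hgr⟩ := C.2
  obtain ⟨g, rfl⟩ := QuotientGroup.mk_surjective g'
  rw [orderOf_mk_eq_prime_iff (by omega) r] at hgr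
  obtain ⟨⟨l, hl0, hl⟩, hns⟩ := hgr
  refine ⟨g, l, hl0, ?_, hl, hg'⟩
  intro b hb
  have hb0 : b ≠ 0 := by
    rintro rfl
    rw [zero_pow hr.out.ne_zero] at hb
    exact hl0 hb.symm
  apply hC
  refine ⟨scal n (Units.mk0 b hb0)⁻¹ * g, ?_, ?_⟩
  · rw [scal_mul_val, _root_.smul_pow, hl, smul_smul, ← hb, Units.val_inv_eq_inv_val,
      Units.val_mk0, inv_pow, inv_mul_cancel₀ (pow_ne_zero _ hb0), one_smul]
  · rw [mk_scal_mul (by omega), hg']

theorem dvd_of_not_isA (C : XX n r F) (hC : ¬ isA C) : r ∣ n := by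
  obtain ⟨g, l, -, hl, hg, -⟩ := exists_lift_B p hrp hn C hC
  obtain ⟨k, -, hk⟩ := charpoly_of_pow_eq g.1 l hl hg
  exact ⟨k, hk.symm⟩

variable (hrn : r ∣ n)
include hrn

/-- representative of a nontrivial coset -/
noncomputable def repB (u : {u : Fˣ ⧸ Pw r F // u ≠ 1}) : GL (Fin n) F :=
  Classical.choose (exists_repB p hrp (by omega : 1 ≤ n) hrn ((Quotient.out u.1 : Fˣ) : F)
    (nonpow_of_ne_one _ (by rw [QuotientGroup.out_eq']; exact u.2)))

theorem repB_pow (u : {u : Fˣ ⧸ Pw r F // u ≠ 1}) :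
    (repB p hrp hn hrn u).1 ^ r = ((Quotient.out u.1 : Fˣ) : F) • 1 :=
  Classical.choose_spec (exists_repB p hrp (by omega : 1 ≤ n) hrn ((Quotient.out u.1 : Fˣ) : F)
    (nonpow_of_ne_one _ (by rw [QuotientGroup.out_eq']; exact u.2)))

theorem out_nonpow (u : {u : Fˣ ⧸ Pw r F // u ≠ 1}) :
    ∀ b : F, b ^ r ≠ ((Quotient.out u.1 : Fˣ) : F) :=
  nonpow_of_ne_one _ (by rw [QuotientGroup.out_eq']; exact u.2)

theorem orderOf_repB (u : {u : Fˣ ⧸ Pw r F // u ≠ 1}) :
    orderOf (QuotientGroup.mk (repB p hrp hn hrn u) : PG n F) = r := by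
  rw [orderOf_mk_eq_prime_iff (by omega) r]
  refine ⟨⟨_, Units.ne_zero _, repB_pow p hrp hn hrn u⟩, ?_⟩
  rintro ⟨c, hc⟩
  have h1 := repB_pow p hrp hn hrn u
  rw [hc, _root_.smul_pow, one_pow] at h1
  exact out_nonpow (n := n) p hrp hn hrn u c (smul_one_inj (by omega) _ _ h1)

theorem not_isA_repB (u : {u : Fˣ ⧸ Pw r F // u ≠ 1}) :
    ¬ isA (⟨ConjClasses.mk (QuotientGroup.mk (repB p hrp hn hrn u)), _, rfl,
      orderOf_repB p hrp hn hrn u⟩ : XX n r F) := by
  rintro ⟨g, hg, hgC⟩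
  change ConjClasses.mk _ = ConjClasses.mk _ at hgC
  rw [ConjClasses.mk_eq_mk_iff_isConj, isConj_comm, conjB_iff p hrp (by omega) _ _ _ 1
    (out_nonpow (n := n) p hrp hn hrn u) (repB_pow p hrp hn hrn u) (by rw [one_smul]; exact hg)] at hgC
  obtain ⟨c, -, hc⟩ := hgC
  rw [mul_one] at hc
  exact out_nonpow (n := n) p hrp hn hrn u c hc.symm

/-- the class attached to a nontrivial coset -/
noncomputable def psiB (u : {u : Fˣ ⧸ Pw r F // u ≠ 1}) : {C : XX n r F // ¬ isA C} :=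
  ⟨⟨ConjClasses.mk (QuotientGroup.mk (repB p hrp hn hrn u)), _, rfl, orderOf_repB p hrp hn hrn u⟩,
    not_isA_repB p hrp hn hrn u⟩

theorem psiB_injective : Function.Injective (psiB (n := n) (F := F) p hrp hn hrn) := by
  intro u u' h
  rw [Subtype.ext_iff, Subtype.ext_iff] at h
  change ConjClasses.mk _ = ConjClasses.mk _ at h
  rw [ConjClasses.mk_eq_mk_iff_isConj, conjB_iff p hrp (by omega) _ _ _ _
    (out_nonpow (n := n) p hrp hn hrn u) (repB_pow p hrp hn hrn u) (repB_pow p hrp hn hrn u'),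
    ← mk_eq_mk_iff, QuotientGroup.out_eq', QuotientGroup.out_eq'] at h
  exact Subtype.ext h

theorem psiB_surjective : Function.Surjective (psiB (n := n) (F := F) p hrp hn hrn) := by
  rintro ⟨C, hC⟩
  obtain ⟨g, l, hl0, hl, hg, hgC⟩ := exists_lift_B p hrp hn C hC
  have hu : (QuotientGroup.mk (Units.mk0 l hl0) : Fˣ ⧸ Pw r F) ≠ 1 := by
    intro h
    rw [← QuotientGroup.mk_one, mk_eq_mk_iff] at h
    obtain ⟨c, -, hc⟩ := h
    rw [Units.val_one, mul_one, Units.val_mk0] at hc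
    exact hl c hc.symm
  refine ⟨⟨_, hu⟩, ?_⟩
  apply Subtype.ext
  apply Subtype.ext
  show ConjClasses.mk _ = C.1
  rw [← hgC, ConjClasses.mk_eq_mk_iff_isConj, conjB_iff p hrp (by omega) _ _ _ l
    (out_nonpow (n := n) p hrp hn hrn ⟨_, hu⟩) (repB_pow p hrp hn hrn ⟨_, hu⟩) hg]
  have h1 := (mk_eq_mk_iff (r := r) (Quotient.out (QuotientGroup.mk (Units.mk0 l hl0) :
    Fˣ ⧸ Pw r F)) (Units.mk0 l hl0)).1 (QuotientGroup.out_eq' _)
  rw [Units.val_mk0] at h1
  exact h1

theorem card_B (hrq : r ∣ Fintype.card F - 1) : Nat.card {C : XX n r F // ¬ isA C} = r - 1 := by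
  rw [← card_quot_ne (F := F) hrq]
  exact (Nat.card_congr (Equiv.ofBijective _
    ⟨psiB_injective p hrp hn hrn, psiB_surjective p hrp hn hrn⟩)).symm

end



/-- Number of conjugacy classes of elements of prime order r in PGL_n(q) = GL_n(q)/scalars when r divides q − 1 (n ≥ 2): the classes of elements with a diagonalisable lift correspond to the orbits of the cyclic rotation on the r-tuples of eigenvalue multiplicities (a_0, …, a_(r−1)) summing to n with every a_j < n, and when r divides n there are r − 1 further classes (lifts acting irreducibly on blocks of size r); in all (C(n+r−1, r−1) − r − [r ∣ n])/r + r·[r ∣ n] classes. -/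
theorem result {F : Type*} [Field F] [Fintype F] {q : ℕ} (hF : Fintype.card F = q) {n r : ℕ} (hn : 2 ≤ n) (hr : r.Prime) (hrq : r ∣ q - 1) : Nat.card {C : ConjClasses (GL (Fin n) F ⧸ Subgroup.center (GL (Fin n) F)) // ∃ g : GL (Fin n) F ⧸ Subgroup.center (GL (Fin n) F), ConjClasses.mk g = C ∧ orderOf g = r} = (Nat.choose (n + r - 1) (r - 1) - r - (if r ∣ n then 1 else 0)) / r + r * (if r ∣ n then 1 else 0) := by
  subst hF
  haveI : Fact r.Prime := ⟨hr⟩
  obtain ⟨p, hp⟩ := CharP.exists F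
  haveI := hp
  haveI : Fact p.Prime := ⟨CharP.char_is_prime F p⟩
  have hr2 : 2 ≤ r := hr.two_le
  have hrp : r ≠ p := by
    rintro rfl
    have h1 : r ∣ Fintype.card F := by
      obtain ⟨m, -, hm⟩ := FiniteField.card F r
      rw [hm]
      exact dvd_pow_self r m.ne_zero
    have h2 : r ∣ Fintype.card F - (Fintype.card F - 1) := Nat.dvd_sub h1 hrq
    have h3 : Fintype.card F - (Fintype.card F - 1) = 1 := by
      have := Fintype.card_pos (α := F)
      omega
    rw [h3] at h2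
    exact hr.one_lt.ne' (Nat.dvd_one.1 h2)
  obtain ⟨ζ, hζ⟩ : ∃ ζ : F, IsPrimitiveRoot ζ r := by
    classical
    have h1 : r ∣ Fintype.card Fˣ := by rw [Fintype.card_units]; exact hrq
    obtain ⟨x, hx⟩ := exists_prime_orderOf_dvd_card r h1
    refine ⟨(x : F), ?_⟩
    rw [IsPrimitiveRoot.coe_units_iff, ← hx]
    exact IsPrimitiveRoot.orderOf x
  show Nat.card (XX n r F) = _
  have hsplit : Nat.card (XX n r F) =
      Nat.card {C : XX n r F // isA C} + Nat.card {C : XX n r F // ¬ isA C} := by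
    classical
    rw [← Nat.card_sum]
    exact Nat.card_congr (Equiv.sumCompl _).symm
  rw [hsplit, card_A p hrp hζ hn]
  have h1 := card_orbits r n hn
  have h2 := card_Tup r n (by omega)
  generalize Nat.card (Quotient (AddAction.orbitRel (ZMod r) (Tup r n))) = O at h1 ⊢
  generalize Nat.card (Tup r n) = T at h1 h2
  generalize (n + r - 1).choose (r - 1) = Ch at h2 ⊢
  by_cases hrn : r ∣ n
  · rw [card_B p hrp hn hrn hrq, if_pos hrn, mul_one]
    rw [if_pos hrn, mul_one] at h1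
    obtain ⟨O', rfl⟩ : ∃ O', O = O' + 1 := by
      refine ⟨O - 1, ?_⟩
      have : O ≠ 0 := by
        rintro rfl
        omega
      omega
    rw [add_mul, one_mul] at h1
    have h3 : Ch - r - 1 = O' * r := by omega
    rw [h3, Nat.mul_div_cancel _ hr.pos]
    omega
  · have : IsEmpty {C : XX n r F // ¬ isA C} :=
      ⟨fun C => hrn (dvd_of_not_isA p hrp hn C.1 C.2)⟩
    rw [Nat.card_of_isEmpty, if_neg hrn, mul_zero, add_zero, add_zero, Nat.sub_zero]
    rw [if_neg hrn, mul_zero, add_zero] at h1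
    have h3 : Ch - r = O * r := by omega
    rw [h3, Nat.mul_div_cancel _ hr.pos]


end Cfsg.Agent.S2670
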