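import Cfsg.Statements.S2671
import Cfsg.Agent.Lib.Helper5.SSOrderU2

set_option autoImplicit false
open Cfsg

namespace Cfsg.Agent.S2671


open Polynomial Cfsg.Agent.Lib.Helper5.Pal Cfsg.Agent.Lib.Helper5.SSOrder Cfsg.Agent.Lib.Helper5

theorem card_ne_zero_sub {T : Type*} (z : T) (n : ℕ) (hn : Nat.card T = n) (hpos : 0 < n) :
    Nat.card {a : T // a ≠ z} = n - 1 := by
  classical
  haveI : Finite T := Nat.finite_of_card_ne_zero (by omega)
  haveI : Fintype T := Fintype.ofFinite T
  rw [Nat.card_eq_fintype_card] at hn ⊢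
  rw [← hn]
  exact Set.card_ne_eq z

theorem orderOf_sq_eq (r i b q : ℕ) (hi : i = orderOf (q : ZMod r))
    (hb : b = if Odd i then i else i / 2) : orderOf ((q ^ 2 : ℕ) : ZMod r) = b := by
  rw [Nat.cast_pow, orderOf_pow' _ two_ne_zero, ← hi, hb]
  split_ifs with ho
  · rw [Nat.coprime_two_right.2 ho, Nat.div_one]
  · have he : Even i := Nat.not_odd_iff_even.1 ho
    have : Nat.gcd i 2 = 2 := Nat.gcd_eq_right (even_iff_two_dvd.1 he)
    rw [this]



/-- Number of conjugacy classes of elements of odd prime order r in the general unitary group GU_n(q), for r not dividing q(q + 1): let i be the multiplicative order of q modulo r, b = i if i is odd and b = i/2 if i is even, and s = (r − 1)/b. If i ≢ 2 (mod 4) the eigenvalue orbits pair off into dual pairs of totally isotropic blocks and there are C(⌊n/(2b)⌋ + s/2, s/2) − 1 classes; if i ≡ 2 (mod 4) each orbit gives a non-degenerate block of dimension i/2 and there are C(⌊2n/i⌋ + s, s) − 1 classes. -/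
theorem result {K : Type*} [Field K] [Fintype K] {p q n r i b s : ℕ} [Fact p.Prime] [CharP K p] (hK : Fintype.card K = q ^ 2) (hr : r.Prime) (hr2 : r ≠ 2) (hrp : r ≠ p) (hi : i = orderOf (q : ZMod r)) (hi2 : i ≠ 2) (hb : b = if Odd i then i else i / 2) (hs : s * b = r - 1) : Nat.card {C : ConjClasses ↥(Cfsg.GU n K q) // ∃ g : ↥(Cfsg.GU n K q), ConjClasses.mk g = C ∧ orderOf g = r} = if i % 4 = 2 then Nat.choose (2 * n / i + s) s - 1 else Nat.choose (n / (2 * b) + s / 2) (s / 2) - 1 := by
  classical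
  have hp : p.Prime := Fact.out
  have hI := cyc_facSys hK hr hrp
  have hρ := dag_invol hK hr hrp
  have hdb : orderOf ((q ^ 2 : ℕ) : ZMod r) = b := orderOf_sq_eq r i b q hi hb
  have hd0 : 0 < orderOf ((q ^ 2 : ℕ) : ZMod r) := orderOf_q_pos hK hr hrp
  have hcardI : (cycFactors r K).card = s := by
    rw [card_cycFactors hK hr hrp]
    apply Nat.div_eq_of_eq_mul_left hd0
    rw [hdb, hs]
  set T := {a : cycFactors r K → ℕ // (∀ x, a (tauR hρ x) = a x) ∧
      orderOf ((q ^ 2 : ℕ) : ZMod r) * ∑ x, a x ≤ n} with hT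
  have hTcard : Nat.card T = if i % 4 = 2 then Nat.choose (2 * n / i + s) s
      else Nat.choose (n / (2 * b) + s / 2) (s / 2) := by
    split_ifs with h4
    · have htriv : ∀ x, tauR hρ x = x := by
        intro x
        apply Subtype.ext
        exact dag_eq_self hK hr hrp (by rw [← hi]; exact h4) x.2
      rw [hT, card_tuples_triv hρ hd0 n htriv, hcardI, hdb, hb]
      have ho : ¬ Odd i := by
        intro ho
        obtain ⟨c, hc⟩ := ho
        omega
      rw [if_neg ho]
      have : n / (i / 2) = 2 * n / i := by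
        obtain ⟨u, hu⟩ : ∃ u, i = 2 * u := ⟨i / 2, by omega⟩
        rw [hu, Nat.mul_div_cancel_left _ (by norm_num : 0 < 2),
          Nat.mul_div_mul_left _ _ (by norm_num : 0 < 2)]
      rw [this]
    · have hfree : ∀ x, tauR hρ x ≠ x := by
        intro x hx
        have := congrArg Subtype.val hx
        have h5 := mod4_of_dag_eq_self hK hr hrp hr2 x.2 this
        rw [← hi] at h5
        exact h4 h5
      rw [hT, card_tuples_free hρ hd0 n hfree, hcardI, hdb]
  set S := {C : ConjClasses ↥(Cfsg.GU n K q) //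
    ∃ g : ↥(Cfsg.GU n K q), ConjClasses.mk g = C ∧ orderOf g = r} with hS
  let zT : T := ⟨0, fun _ => rfl, by simp⟩
  let P : T → K[X] := fun a =>
    (X - 1) ^ (n - orderOf ((q ^ 2 : ℕ) : ZMod r) * ∑ x, a.1 x) * Gp (cycFactors r K) a.1
  have hPinj : ∀ a b : T, P a = P b → a = b := by
    intro a b hab
    exact Subtype.ext (Gp_injective hI a.1 b.1 _ _ hab)
  have hPz : P zT = (X - 1) ^ n := by
    show (X - 1) ^ (n - orderOf ((q ^ 2 : ℕ) : ZMod r) * ∑ x, (0 : cycFactors r K → ℕ) x) *
      Gp (cycFactors r K) 0 = _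
    rw [Gp]
    simp
  have hone : (((1 : ↥(Cfsg.GU n K q)) : GL (Fin n) K) : Matrix (Fin n) (Fin n) K).charpoly
      = (X - 1) ^ n := by
    show (1 : Matrix (Fin n) (Fin n) K).charpoly = _
    rw [Matrix.charpoly_one, Fintype.card_fin]
  have hpowGL : ∀ g : ↥(Cfsg.GU n K q), orderOf g = r → (g : GL (Fin n) K) ^ r = 1 := by
    intro g hg
    have := pow_orderOf_eq_one g
    rw [hg] at this
    have h2 := congrArg (fun x : ↥(Cfsg.GU n K q) => (x : GL (Fin n) K)) this
    simpa using h2
  have hcp : ∀ g : ↥(Cfsg.GU n K q), orderOf g = r →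
      ∃ a : {a : T // a ≠ zT},
        ((g : GL (Fin n) K) : Matrix (Fin n) (Fin n) K).charpoly = P a.1 := by
    intro g hg
    have hgr := hpowGL g hg
    obtain ⟨m, h1⟩ := charpoly_dvd_of_pow_eq_one (g : GL (Fin n) K) r hgr
    have hdeg : ((g : GL (Fin n) K) : Matrix (Fin n) (Fin n) K).charpoly.natDegree = n := by
      rw [Matrix.charpoly_natDegree_eq_dim, Fintype.card_fin]
    obtain ⟨a, ha1, ha2, ha3⟩ := tuple_of_poly_R hI hρ n _ (Matrix.charpoly_monic _) hdeg
      (dag_charpoly_of_mem_GU hK _ g.2)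
      (fun ψ h2 h3 h4 => factor_cases hr m ψ h2 h3 (h4.trans h1))
    refine ⟨⟨⟨a, ha1, ha2⟩, ?_⟩, ha3⟩
    intro hz
    have h3 : ((g : GL (Fin n) K) : Matrix (Fin n) (Fin n) K).charpoly = P zT := by
      rw [← hz]
      exact ha3
    rw [hPz, ← hone] at h3
    have h4 := isConj_of_charpoly_eq p r hr hrp (g : GL (Fin n) K)
      ((1 : ↥(Cfsg.GU n K q)) : GL (Fin n) K) hgr (by simp) h3
    rw [isConj_iff] at h4
    obtain ⟨c, hc⟩ := h4
    have h5 : (g : GL (Fin n) K) = 1 := by
      have : (g : GL (Fin n) K) = c⁻¹ * 1 * c := by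
        rw [show ((1 : ↥(Cfsg.GU n K q)) : GL (Fin n) K) = 1 from rfl] at hc
        rw [← hc]; group
      rw [this]; group
    have h6 : g = 1 := Subtype.ext h5
    rw [h6, orderOf_one] at hg
    exact hr.one_lt.ne hg
  let Φ : S → {a : T // a ≠ zT} := fun C =>
    Classical.choose (hcp (Classical.choose C.2) (Classical.choose_spec C.2).2)
  have hΦ : ∀ C : S, (((Classical.choose C.2 : ↥(Cfsg.GU n K q)) : GL (Fin n) K) :
      Matrix (Fin n) (Fin n) K).charpoly = P (Φ C).1 := fun C =>
    Classical.choose_spec (hcp (Classical.choose C.2) (Classical.choose_spec C.2).2)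
  have hconjcp : ∀ g h : ↥(Cfsg.GU n K q), IsConj g h →
      ((g : GL (Fin n) K) : Matrix (Fin n) (Fin n) K).charpoly =
      ((h : GL (Fin n) K) : Matrix (Fin n) (Fin n) K).charpoly := by
    intro g h hgh
    rw [isConj_iff] at hgh
    obtain ⟨c, rfl⟩ := hgh
    symm
    show ((c : GL (Fin n) K) * (g : GL (Fin n) K) * (c : GL (Fin n) K)⁻¹).val.charpoly = _
    rw [Units.val_mul, Units.val_mul, Matrix.coe_units_inv, Matrix.charpoly_units_conj]
  have hbij : Function.Bijective Φ := by
    constructor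
    · intro C C' hCC
      have h1 := Classical.choose_spec C.2
      have h2 := Classical.choose_spec C'.2
      have h3 : (((Classical.choose C.2 : ↥(Cfsg.GU n K q)) : GL (Fin n) K) :
          Matrix (Fin n) (Fin n) K).charpoly =
          (((Classical.choose C'.2 : ↥(Cfsg.GU n K q)) : GL (Fin n) K) :
          Matrix (Fin n) (Fin n) K).charpoly := by
        rw [hΦ C, hΦ C', hCC]
      have h4 := isConj_of_charpoly_eq p r hr hrp _ _ (hpowGL _ h1.2) (hpowGL _ h2.2) h3
      have h5 := (Cfsg.Agent.S2587.result hK _ _).2 h4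
      apply Subtype.ext
      rw [← h1.1, ← h2.1]
      exact ConjClasses.mk_eq_mk_iff_isConj.2 h5
    · intro a
      have hd1 : (X - 1 : K[X]) ∣ X ^ r - 1 := by
        have := sub_dvd_pow_sub_pow (X : K[X]) 1 r
        rwa [one_pow] at this
      obtain ⟨hfm, hfd, hfr, hfdvd⟩ := poly_of_tuple_R hI hρ hd0 n a.1.1 a.1.2.1 a.1.2.2
        (X ^ r - 1) hd1 (fun φ hφ => dvd_X_pow_sub_one hr hφ)
      obtain ⟨g, hgr, hgc⟩ := exists_GU_of_charpoly hK p r hr hrp (P a.1) hfm hfd n hfdvd hfr
      have hg1 : g ≠ 1 := by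
        intro h
        have h1 : ((g : GL (Fin n) K) : Matrix (Fin n) (Fin n) K).charpoly = (X - 1) ^ n := by
          rw [← hone, ← h]
        rw [hgc, ← hPz] at h1
        exact a.2 (hPinj _ _ h1)
      haveI : Fact r.Prime := ⟨hr⟩
      have hord : orderOf g = r := orderOf_eq_prime hgr hg1
      set C : S := ⟨ConjClasses.mk g, g, rfl, hord⟩ with hC
      refine ⟨C, ?_⟩
      apply Subtype.ext
      apply hPinj
      rw [← hΦ C]
      have h1 := Classical.choose_spec C.2
      have h2 : IsConj (Classical.choose C.2) g := ConjClasses.mk_eq_mk_iff_isConj.1 h1.1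
      rw [hconjcp _ _ h2]
      exact hgc
  rw [Nat.card_eq_of_bijective Φ hbij]
  have hpos : 0 < Nat.card T := by
    rw [hTcard]
    split_ifs
    · exact Nat.choose_pos (Nat.le_add_left _ _)
    · exact Nat.choose_pos (Nat.le_add_left _ _)
  rw [card_ne_zero_sub zT _ rfl hpos, hTcard]
  split_ifs <;> rfl


end Cfsg.Agent.S2671
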