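import Cfsg.Statements.S2672
import Cfsg.Agent.Lib.Helper5.PGUr2

set_option autoImplicit false
open Cfsg

namespace Cfsg.Agent.S2672


open Cfsg.Agent.Lib.Helper5 Cfsg.Agent.Lib.Helper5.PGLr Cfsg.Agent.Lib.Helper5.PGUr Polynomial Matrix

universe u

section
variable {K : Type u} [Field K] [Fintype K] {q n r : ℕ} [hr : Fact r.Prime]

/-- classes of elements of order `r` in `PGU_n` -/
abbrev XX (n r : ℕ) (K : Type u) [Field K] (q : ℕ) : Type _ :=
  {C : ConjClasses (PU n K q) // ∃ g : PU n K q, ConjClasses.mk g = C ∧ orderOf g = r}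

/-- the class has a lift of order `r` -/
def isA (C : XX n r K q) : Prop :=
  ∃ g : ↥(Cfsg.GU n K q), mat g ^ r = 1 ∧ ConjClasses.mk (QuotientGroup.mk g : PU n K q) = C.1

theorem orderOf_of_mk_eq (C : XX n r K q) (x : PU n K q) (hx : ConjClasses.mk x = C.1) :
    orderOf x = r := by
  obtain ⟨g, hg, hgr⟩ := C.2
  rw [← hg, ConjClasses.mk_eq_mk_iff_isConj] at hx
  obtain ⟨c, hc⟩ := hx
  rw [SemiconjBy.orderOf_eq (↑c) hc, hgr]

variable (hK : Fintype.card K = q ^ 2) (p : ℕ) [Fact p.Prime] [CharP K p] (hrp : r ≠ p) {ζ : K}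
  (hζ : IsPrimitiveRoot ζ r) (hrq : r ∣ q + 1) (hn : 2 ≤ n)
include hK hrp hζ hrq hn

/-- representative of a multiplicity tuple -/
noncomputable def repA (a : Tup r n) : ↥(Cfsg.GU n K q) :=
  Classical.choose (PGUr.exists_repA hK hζ hrq a.1 a.2.1)

omit hrp hn in
theorem repA_pow (a : Tup r n) : mat (repA hK hζ hrq a) ^ r = 1 :=
  (Classical.choose_spec (PGUr.exists_repA hK hζ hrq a.1 a.2.1)).1

omit hrp hn in
theorem repA_charpoly (a : Tup r n) : (mat (repA hK hζ hrq a)).charpoly = fpoly ζ a.1 :=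
  (Classical.choose_spec (PGUr.exists_repA hK hζ hrq a.1 a.2.1)).2

theorem orderOf_repA (a : Tup r n) :
    orderOf (QuotientGroup.mk (repA hK hζ hrq a) : PU n K q) = r := by
  rw [PGUr.orderOf_mk_eq_prime_iff hK (by omega) r]
  refine ⟨⟨1, by rw [one_smul]; exact repA_pow hK hζ hrq a⟩, ?_⟩
  rw [scalar_iff p hrp hζ (by omega) _ (repA_pow hK hζ hrq a) a.1 a.2.1
    (repA_charpoly hK hζ hrq a)]
  rintro ⟨j, hj⟩
  exact absurd (a.2.2 j) (by omega)

/-- the class attached to a multiplicity tuple -/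
noncomputable def phiA (a : Tup r n) : {C : XX n r K q // isA C} :=
  ⟨⟨ConjClasses.mk (QuotientGroup.mk (repA hK hζ hrq a)), _, rfl,
    orderOf_repA hK p hrp hζ hrq hn a⟩, repA hK hζ hrq a, repA_pow hK hζ hrq a, rfl⟩

theorem phiA_eq_iff (a b : Tup r n) :
    phiA hK p hrp hζ hrq hn a = phiA hK p hrp hζ hrq hn b ↔
      AddAction.orbitRel (ZMod r) (Tup r n) a b := by
  rw [Subtype.ext_iff, Subtype.ext_iff]
  show ConjClasses.mk _ = ConjClasses.mk _ ↔ _
  rw [ConjClasses.mk_eq_mk_iff_isConj, PGUr.conjA_iff hK p hrp hζ hrq (by omega) _ _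
    (repA_pow hK hζ hrq a) (repA_pow hK hζ hrq b) a.1 b.1 (repA_charpoly hK hζ hrq a)
    (repA_charpoly hK hζ hrq b), AddAction.orbitRel_apply, AddAction.mem_orbit_iff]
  constructor
  · rintro ⟨k, hk⟩
    refine ⟨-k, ?_⟩
    apply Subtype.ext
    funext j
    rw [vadd_apply, hk, sub_neg_eq_add, add_sub_cancel_right]
  · rintro ⟨k, hk⟩
    refine ⟨-k, fun j => ?_⟩
    rw [← hk, vadd_apply, sub_neg_eq_add, add_sub_cancel_right]

theorem phiA_surj (C : {C : XX n r K q // isA C}) : ∃ a, phiA hK p hrp hζ hrq hn a = C := by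
  obtain ⟨C, g, hg, hgC⟩ := C
  obtain ⟨a, hsum, ha⟩ := exists_tuple hζ (mat g) hg
  have hord : orderOf (QuotientGroup.mk g : PU n K q) = r := orderOf_of_mk_eq C _ hgC
  rw [PGUr.orderOf_mk_eq_prime_iff hK (by omega) r] at hord
  have hns := hord.2
  rw [scalar_iff p hrp hζ (by omega) _ hg a hsum ha] at hns
  have hlt : ∀ j, a j < n := by
    intro j
    by_contra h
    exact hns ⟨j, by omega⟩
  refine ⟨⟨a, hsum, hlt⟩, ?_⟩
  apply Subtype.ext
  apply Subtype.ext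
  show ConjClasses.mk _ = C.1
  rw [← hgC, ConjClasses.mk_eq_mk_iff_isConj, PGUr.conjA_iff hK p hrp hζ hrq (by omega) _ _
    (repA_pow hK hζ hrq _) hg a a (repA_charpoly hK hζ hrq _) ha]
  exact ⟨0, fun j => by rw [sub_zero]⟩

theorem card_A : Nat.card {C : XX n r K q // isA C} =
    Nat.card (Quotient (AddAction.orbitRel (ZMod r) (Tup r n))) := by
  symm
  refine Nat.card_congr (Equiv.ofBijective
    (Quotient.lift (phiA hK p hrp hζ hrq hn)
      (fun a b hab => (phiA_eq_iff hK p hrp hζ hrq hn a b).2 hab)) ⟨?_, ?_⟩)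
  · intro x y
    induction x using Quotient.inductionOn with | _ a => ?_
    induction y using Quotient.inductionOn with | _ b => ?_
    intro h
    exact Quotient.sound ((phiA_eq_iff hK p hrp hζ hrq hn a b).1 h)
  · intro C
    obtain ⟨a, ha⟩ := phiA_surj hK p hrp hζ hrq hn C
    exact ⟨Quotient.mk _ a, ha⟩

end

section
variable {K : Type u} [Field K] [Fintype K] {q n r : ℕ} [hr : Fact r.Prime]

/-- the group of elements of norm one -/
abbrev Mu (K : Type u) [Field K] (q : ℕ) : Subgroup Kˣ := (powMonoidHom (q + 1) : Kˣ →* Kˣ).ker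

theorem mem_Mu (c : Kˣ) : c ∈ Mu K q ↔ (c : K) ^ (q + 1) = 1 := by
  rw [MonoidHom.mem_ker, powMonoidHom_apply, Units.ext_iff, Units.val_pow_eq_pow_val,
    Units.val_one]

/-- the subgroup of `r`-th powers of elements of norm one -/
abbrev Pw (r : ℕ) (K : Type u) [Field K] (q : ℕ) : Subgroup ↥(Mu K q) :=
  (powMonoidHom r : ↥(Mu K q) →* ↥(Mu K q)).range

theorem card_Mu (hK : Fintype.card K = q ^ 2) : Nat.card ↥(Mu K q) = q + 1 := by
  have h1 : Nat.card ↥(Mu K q) = (Nat.card Kˣ).gcd (q + 1) :=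
    IsCyclic.card_powMonoidHom_ker Kˣ (q + 1)
  rw [h1, Nat.card_units, Nat.card_eq_fintype_card, hK]
  apply Nat.gcd_eq_right
  refine ⟨q - 1, ?_⟩
  have hq := Cfsg.Agent.Lib.Helper1.HermCount.two_le_q hK
  obtain ⟨m, rfl⟩ : ∃ m, q = m + 1 := ⟨q - 1, by omega⟩
  simp only [Nat.add_sub_cancel]
  have : (m + 1) ^ 2 = (m + 1 + 1) * m + 1 := by ring
  rw [this, Nat.add_sub_cancel]

theorem card_quot (hK : Fintype.card K = q ^ 2) (hrq : r ∣ q + 1) :
    Nat.card (↥(Mu K q) ⧸ Pw r K q) = r := by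
  have h1 : (Pw r K q).index = (Nat.card ↥(Mu K q)).gcd r :=
    IsCyclic.index_powMonoidHom_range ↥(Mu K q) r
  rw [Subgroup.index] at h1
  rw [h1, card_Mu hK]
  exact Nat.gcd_eq_right hrq

theorem card_quot_ne (hK : Fintype.card K = q ^ 2) (hrq : r ∣ q + 1) :
    Nat.card {u : ↥(Mu K q) ⧸ Pw r K q // u ≠ 1} = r - 1 := by
  classical
  have : Fintype (↥(Mu K q) ⧸ Pw r K q) := Fintype.ofFinite _
  have h1 := card_quot (r := r) hK hrq
  rw [Nat.card_eq_fintype_card] at h1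
  rw [Nat.card_eq_fintype_card, Fintype.card_subtype_compl, Fintype.card_subtype_eq, h1]

/-- the field element of an element of norm one -/
abbrev val (l : ↥(Mu K q)) : K := ((l : Kˣ) : K)

theorem val_nrm (l : ↥(Mu K q)) : val l ^ (q + 1) = 1 := (mem_Mu _).1 l.2

theorem mk_eq_mk_iff (l l' : ↥(Mu K q)) :
    (QuotientGroup.mk l : ↥(Mu K q) ⧸ Pw r K q) = QuotientGroup.mk l' ↔
      ∃ c : K, c ^ (q + 1) = 1 ∧ val l = c ^ r * val l' := by
  rw [QuotientGroup.eq]
  constructor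
  · rintro ⟨b, hb⟩
    rw [powMonoidHom_apply] at hb
    refine ⟨val b⁻¹, val_nrm _, ?_⟩
    have : l = (b⁻¹) ^ r * l' := by
      rw [inv_pow, hb, _root_.mul_inv_rev, inv_inv, mul_comm, ← mul_assoc, mul_inv_cancel, one_mul]
    rw [this]
    unfold val
    push_cast
    rfl
  · rintro ⟨c, hc1, hc⟩
    have hc0 : c ≠ 0 := by
      rintro rfl
      rw [zero_pow (Nat.succ_ne_zero q)] at hc1
      exact zero_ne_one hc1
    let c' : ↥(Mu K q) := ⟨Units.mk0 c hc0, (mem_Mu _).2 hc1⟩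
    refine ⟨c'⁻¹, ?_⟩
    rw [powMonoidHom_apply]
    have : l = c' ^ r * l' := by
      apply Subtype.ext
      apply Units.ext
      show val l = _
      rw [hc]; push_cast; rfl
    rw [this, _root_.mul_inv_rev, mul_comm, ← mul_assoc, mul_inv_cancel, one_mul, inv_pow]

variable (hK : Fintype.card K = q ^ 2) (hr2 : r ≠ 2) (hrq : r ∣ q + 1)
include hK hr2 hrq

theorem nonpow_of_ne_one (l : ↥(Mu K q))
    (hl : (QuotientGroup.mk l : ↥(Mu K q) ⧸ Pw r K q) ≠ 1) :
    ∀ b : K, b ^ r ≠ val l := by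
  intro b hb
  apply hl
  have hb1 := norm_of_pow hK hr2 hrq b (val l) hb (val_nrm l)
  rw [← QuotientGroup.mk_one, mk_eq_mk_iff]
  exact ⟨b, hb1, by rw [hb]; unfold val; rw [OneMemClass.coe_one, Units.val_one, mul_one]⟩

variable (p : ℕ) [Fact p.Prime] [CharP K p] (hrp : r ≠ p) (hn : 2 ≤ n)
include hrp hn

theorem exists_lift_B (C : XX n r K q) (hC : ¬ isA C) :
    ∃ (g : ↥(Cfsg.GU n K q)) (l : K), l ^ (q + 1) = 1 ∧ (∀ b : K, b ^ r ≠ l) ∧
      mat g ^ r = l • 1 ∧ ConjClasses.mk (QuotientGroup.mk g : PU n K q) = C.1 := by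
  obtain ⟨g', hg', hgr⟩ := C.2
  obtain ⟨g, rfl⟩ := QuotientGroup.mk_surjective g'
  rw [PGUr.orderOf_mk_eq_prime_iff hK (by omega) r] at hgr
  obtain ⟨⟨l, hl⟩, hns⟩ := hgr
  have hl1 : l ^ (q + 1) = 1 :=
    nrm_of_scalar hK (by omega) (g ^ r) l (by rw [mat_pow]; exact hl)
  refine ⟨g, l, hl1, ?_, hl, hg'⟩
  intro b hb
  have hb1 := norm_of_pow hK hr2 hrq b l hb hl1
  have hb0 : b ≠ 0 := by
    rintro rfl
    rw [zero_pow (Nat.succ_ne_zero q)] at hb1
    exact zero_ne_one hb1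
  apply hC
  refine ⟨scalU hK b⁻¹ (by rw [inv_pow, hb1, inv_one]) * g, ?_, ?_⟩
  · rw [mat_scalU_mul, _root_.smul_pow, hl, smul_smul, ← hb, inv_pow,
      inv_mul_cancel₀ (pow_ne_zero _ hb0), one_smul]
  · rw [mk_scalU_mul, hg']

theorem dvd_of_not_isA (C : XX n r K q) (hC : ¬ isA C) : r ∣ n := by
  obtain ⟨g, l, -, hl, hg, -⟩ := exists_lift_B hK hr2 hrq p hrp hn C hC
  obtain ⟨k, -, hk⟩ := charpoly_of_pow_eq (mat g) l hl hg
  exact ⟨k, hk.symm⟩

variable (hrn : r ∣ n)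
include hrn

theorem out_nonpow (u : {u : ↥(Mu K q) ⧸ Pw r K q // u ≠ 1}) :
    ∀ b : K, b ^ r ≠ val (Quotient.out u.1) :=
  nonpow_of_ne_one hK hr2 hrq _ (by rw [QuotientGroup.out_eq']; exact u.2)

/-- representative of a nontrivial coset -/
noncomputable def repB (u : {u : ↥(Mu K q) ⧸ Pw r K q // u ≠ 1}) : ↥(Cfsg.GU n K q) :=
  Classical.choose (PGUr.exists_repB hK p hrp (by omega : 1 ≤ n) hrn (val (Quotient.out u.1))
    (val_nrm _) (out_nonpow (n := n) hK hr2 hrq p hrp hn hrn u))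

theorem repB_pow (u : {u : ↥(Mu K q) ⧸ Pw r K q // u ≠ 1}) :
    mat (repB hK hr2 hrq p hrp hn hrn u) ^ r = val (Quotient.out u.1) • 1 :=
  Classical.choose_spec (PGUr.exists_repB hK p hrp (by omega : 1 ≤ n) hrn (val (Quotient.out u.1))
    (val_nrm _) (out_nonpow (n := n) hK hr2 hrq p hrp hn hrn u))

theorem orderOf_repB (u : {u : ↥(Mu K q) ⧸ Pw r K q // u ≠ 1}) :
    orderOf (QuotientGroup.mk (repB hK hr2 hrq p hrp hn hrn u) : PU n K q) = r := by
  rw [PGUr.orderOf_mk_eq_prime_iff hK (by omega) r]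
  refine ⟨⟨_, repB_pow hK hr2 hrq p hrp hn hrn u⟩, ?_⟩
  rintro ⟨c, hc⟩
  have h1 := repB_pow hK hr2 hrq p hrp hn hrn u
  rw [hc, _root_.smul_pow, one_pow] at h1
  exact out_nonpow (n := n) hK hr2 hrq p hrp hn hrn u c (smul_one_inj (by omega) _ _ h1)

theorem not_isA_repB (u : {u : ↥(Mu K q) ⧸ Pw r K q // u ≠ 1}) :
    ¬ isA (⟨ConjClasses.mk (QuotientGroup.mk (repB hK hr2 hrq p hrp hn hrn u)), _, rfl,
      orderOf_repB hK hr2 hrq p hrp hn hrn u⟩ : XX n r K q) := by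
  rintro ⟨g, hg, hgC⟩
  change ConjClasses.mk _ = ConjClasses.mk _ at hgC
  rw [ConjClasses.mk_eq_mk_iff_isConj, isConj_comm, PGUr.conjB_iff hK p hrp (by omega) _ _ _ 1
    (out_nonpow (n := n) hK hr2 hrq p hrp hn hrn u) (repB_pow hK hr2 hrq p hrp hn hrn u)
    (by rw [one_smul]; exact hg)] at hgC
  obtain ⟨c, -, hc⟩ := hgC
  rw [mul_one] at hc
  exact out_nonpow (n := n) hK hr2 hrq p hrp hn hrn u c hc.symm

/-- the class attached to a nontrivial coset -/
noncomputable def psiB (u : {u : ↥(Mu K q) ⧸ Pw r K q // u ≠ 1}) :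
    {C : XX n r K q // ¬ isA C} :=
  ⟨⟨ConjClasses.mk (QuotientGroup.mk (repB hK hr2 hrq p hrp hn hrn u)), _, rfl,
    orderOf_repB hK hr2 hrq p hrp hn hrn u⟩, not_isA_repB hK hr2 hrq p hrp hn hrn u⟩

theorem psiB_injective : Function.Injective (psiB (n := n) hK hr2 hrq p hrp hn hrn) := by
  intro u u' h
  rw [Subtype.ext_iff, Subtype.ext_iff] at h
  change ConjClasses.mk _ = ConjClasses.mk _ at h
  rw [ConjClasses.mk_eq_mk_iff_isConj, PGUr.conjB_iff hK p hrp (by omega) _ _ _ _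
    (out_nonpow (n := n) hK hr2 hrq p hrp hn hrn u) (repB_pow hK hr2 hrq p hrp hn hrn u)
    (repB_pow hK hr2 hrq p hrp hn hrn u'),
    ← mk_eq_mk_iff, QuotientGroup.out_eq', QuotientGroup.out_eq'] at h
  exact Subtype.ext h

theorem psiB_surjective : Function.Surjective (psiB (n := n) hK hr2 hrq p hrp hn hrn) := by
  rintro ⟨C, hC⟩
  obtain ⟨g, l, hl1, hl, hg, hgC⟩ := exists_lift_B hK hr2 hrq p hrp hn C hC
  have hl0 : l ≠ 0 := nonpow_ne_zero l hl
  let l₀ : ↥(Mu K q) := ⟨Units.mk0 l hl0, (mem_Mu _).2 hl1⟩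
  have hu : (QuotientGroup.mk l₀ : ↥(Mu K q) ⧸ Pw r K q) ≠ 1 := by
    intro h
    rw [← QuotientGroup.mk_one, mk_eq_mk_iff] at h
    obtain ⟨c, -, hc⟩ := h
    have h1 : val (1 : ↥(Mu K q)) = 1 := by
      unfold val; rw [OneMemClass.coe_one, Units.val_one]
    rw [h1, mul_one] at hc
    exact hl c hc.symm
  refine ⟨⟨_, hu⟩, ?_⟩
  apply Subtype.ext
  apply Subtype.ext
  show ConjClasses.mk _ = C.1
  rw [← hgC, ConjClasses.mk_eq_mk_iff_isConj, PGUr.conjB_iff hK p hrp (by omega) _ _ _ l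
    (out_nonpow (n := n) hK hr2 hrq p hrp hn hrn ⟨_, hu⟩)
    (repB_pow hK hr2 hrq p hrp hn hrn ⟨_, hu⟩) hg]
  exact (mk_eq_mk_iff (r := r) (Quotient.out (QuotientGroup.mk l₀ :
    ↥(Mu K q) ⧸ Pw r K q)) l₀).1 (QuotientGroup.out_eq' _)

theorem card_B : Nat.card {C : XX n r K q // ¬ isA C} = r - 1 := by
  rw [← card_quot_ne (r := r) hK hrq]
  exact (Nat.card_congr (Equiv.ofBijective _
    ⟨psiB_injective hK hr2 hrq p hrp hn hrn, psiB_surjective hK hr2 hrq p hrp hn hrn⟩)).symm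

end



/-- Number of conjugacy classes of elements of odd prime order r in PGU_n(q) = GU_n(q)/scalars (n ≥ 3) when r divides q + 1: as in the linear case with q − 1 replaced by q + 1, the classes correspond to the rotation orbits on r-tuples of eigenvalue multiplicities summing to n with every entry < n, plus r − 1 further classes when r divides n; in all (C(n+r−1, r−1) − r − [r ∣ n])/r + r·[r ∣ n]. -/
theorem result {K : Type*} [Field K] [Fintype K] {q n r : ℕ} (hK : Fintype.card K = q ^ 2) (hn : 3 ≤ n) (hr : r.Prime) (hr2 : r ≠ 2) (hrq : r ∣ q + 1) : Nat.card {C : ConjClasses (↥(Cfsg.GU n K q) ⧸ Subgroup.center ↥(Cfsg.GU n K q)) // ∃ g : ↥(Cfsg.GU n K q) ⧸ Subgroup.center ↥(Cfsg.GU n K q), ConjClasses.mk g = C ∧ orderOf g = r} = (Nat.choose (n + r - 1) (r - 1) - r - (if r ∣ n then 1 else 0)) / r + r * (if r ∣ n then 1 else 0) := by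
  haveI : Fact r.Prime := ⟨hr⟩
  obtain ⟨p, hp⟩ := CharP.exists K
  haveI := hp
  haveI : Fact p.Prime := ⟨CharP.char_is_prime K p⟩
  have hr2' : 2 ≤ r := hr.two_le
  have hq := Cfsg.Agent.Lib.Helper1.HermCount.two_le_q hK
  have hn2 : 2 ≤ n := by omega
  have hcardK : Fintype.card K - 1 = (q + 1) * (q - 1) := by
    rw [hK]
    obtain ⟨m, rfl⟩ : ∃ m, q = m + 1 := ⟨q - 1, by omega⟩
    simp only [Nat.add_sub_cancel]
    have : (m + 1) ^ 2 = (m + 1 + 1) * m + 1 := by ring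
    rw [this, Nat.add_sub_cancel]
  have hrK : r ∣ Fintype.card K - 1 := by
    rw [hcardK]
    exact Dvd.dvd.mul_right hrq _
  have hrp : r ≠ p := by
    rintro rfl
    have h1 : r ∣ Fintype.card K := by
      obtain ⟨m, -, hm⟩ := FiniteField.card K r
      rw [hm]
      exact dvd_pow_self r m.ne_zero
    have h2 : r ∣ Fintype.card K - (Fintype.card K - 1) := Nat.dvd_sub h1 hrK
    have h3 : Fintype.card K - (Fintype.card K - 1) = 1 := by
      have := Fintype.card_pos (α := K)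
      omega
    rw [h3] at h2
    exact hr.one_lt.ne' (Nat.dvd_one.1 h2)
  obtain ⟨ζ, hζ⟩ : ∃ ζ : K, IsPrimitiveRoot ζ r := by
    classical
    have h1 : r ∣ Fintype.card Kˣ := by rw [Fintype.card_units]; exact hrK
    obtain ⟨x, hx⟩ := exists_prime_orderOf_dvd_card r h1
    refine ⟨(x : K), ?_⟩
    rw [IsPrimitiveRoot.coe_units_iff, ← hx]
    exact IsPrimitiveRoot.orderOf x
  show Nat.card (XX n r K q) = _
  have hsplit : Nat.card (XX n r K q) =
      Nat.card {C : XX n r K q // isA C} + Nat.card {C : XX n r K q // ¬ isA C} := by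
    classical
    rw [← Nat.card_sum]
    exact Nat.card_congr (Equiv.sumCompl _).symm
  rw [hsplit, card_A hK p hrp hζ hrq hn2]
  have h1 := card_orbits r n hn2
  have h2 := card_Tup r n (by omega)
  generalize Nat.card (Quotient (AddAction.orbitRel (ZMod r) (Tup r n))) = O at h1 ⊢
  generalize Nat.card (Tup r n) = T at h1 h2
  generalize (n + r - 1).choose (r - 1) = Ch at h2 ⊢
  by_cases hrn : r ∣ n
  · rw [card_B hK hr2 hrq p hrp hn2 hrn, if_pos hrn, mul_one]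
    rw [if_pos hrn, mul_one] at h1
    obtain ⟨O', rfl⟩ : ∃ O', O = O' + 1 := by
      refine ⟨O - 1, ?_⟩
      have : O ≠ 0 := by
        rintro rfl
        omega
      omega
    rw [add_mul, one_mul] at h1
    have h3 : Ch - r - 1 = O' * r := by omega
    rw [h3, Nat.mul_div_cancel _ hr.pos]
    omega
  · have : IsEmpty {C : XX n r K q // ¬ isA C} :=
      ⟨fun C => hrn (dvd_of_not_isA hK hr2 hrq p hrp hn2 C.1 C.2)⟩
    rw [Nat.card_of_isEmpty, if_neg hrn, mul_zero, add_zero, add_zero, Nat.sub_zero]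
    rw [if_neg hrn, mul_zero, add_zero] at h1
    have h3 : Ch - r = O * r := by omega
    rw [h3, Nat.mul_div_cancel _ hr.pos]


end Cfsg.Agent.S2672
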