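import Cfsg.Statements.S2677
import Cfsg.Agent.S0278
import Cfsg.Agent.Lib.Helper5.PSLCoset17

set_option autoImplicit false
open Cfsg

namespace Cfsg.Agent.S2677

open Matrix

section fixedsmul
variable {n : ℕ} {F : Type*} [Field F] [Finite F]

open Cfsg.Agent.Lib.Helper5.PSLCoset in
/-- A matrix proportional to its image under a field automorphism is a scalar multiple of a fixed
matrix. -/
theorem exists_fixed_smul' (hn : 1 ≤ n) (σ : F ≃+* F) (r : ℕ) (hσ : orderOf σ = r) (hr0 : 0 < r)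
    (c : GL (Fin n) F) (z : F) (hz0 : z ≠ 0)
    (hz : (c : Matrix (Fin n) (Fin n) F) = z • (c : Matrix (Fin n) (Fin n) F).map σ) :
    ∃ (b : F) (_ : b ≠ 0) (c' : GL (Fin n) F),
      (c : Matrix (Fin n) (Fin n) F) = b • (c' : Matrix (Fin n) (Fin n) F) ∧
      (c' : Matrix (Fin n) (Fin n) F).map σ = (c' : Matrix (Fin n) (Fin n) F) := by
  have hσr : σ ^ r = 1 := by
    rw [← hσ]
    exact pow_orderOf_eq_one σ
  have h1 := map_pow_smul σ z _ hz r
  rw [hσr] at h1
  have h2 : (c : Matrix (Fin n) (Fin n) F).map ((1 : F ≃+* F)) = c := by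
    ext i j
    rfl
  rw [h2] at h1
  have hnz : nrm σ r z = 1 := by
    obtain ⟨k, l, hkl⟩ : ∃ k l, (c : Matrix (Fin n) (Fin n) F) k l ≠ 0 := by
      by_contra hcon
      push Not at hcon
      have h0 : (c : Matrix (Fin n) (Fin n) F) = 0 := by
        ext k l
        exact hcon k l
      have h1 : (1 : Matrix (Fin n) (Fin n) F) = 0 := by
        rw [← Units.val_one (α := Matrix (Fin n) (Fin n) F), ← mul_inv_cancel c, Units.val_mul,
          h0, Matrix.zero_mul]
      have := congrFun (congrFun h1 ⟨0, by omega⟩) ⟨0, by omega⟩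
      rw [Matrix.one_apply_eq, Matrix.zero_apply] at this
      exact one_ne_zero this
    have h3 := congrFun (congrFun h1 k) l
    rw [Matrix.smul_apply, smul_eq_mul] at h3
    have h4 : (nrm σ r z - 1) * (c : Matrix (Fin n) (Fin n) F) k l = 0 := by
      rw [sub_mul, one_mul, ← h3, sub_self]
    rcases mul_eq_zero.1 h4 with h5 | h5
    · exact sub_eq_zero.1 h5
    · exact absurd h5 hkl
  obtain ⟨b, hb0, hb⟩ := hilbert90_scalar σ r hσ hr0 z hnz
  have hσb : σ b = z⁻¹ * b := by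
    calc σ b = z⁻¹ * (z * σ b) := by rw [← mul_assoc, inv_mul_cancel₀ hz0, one_mul]
      _ = z⁻¹ * b := by rw [hb]
  obtain ⟨c', hc'⟩ : ∃ c' : GL (Fin n) F, c' = smulGL b⁻¹ (inv_ne_zero hb0) c := ⟨_, rfl⟩
  have hc'coe : (c' : Matrix (Fin n) (Fin n) F) = b⁻¹ • (c : Matrix (Fin n) (Fin n) F) := by
    rw [hc', coe_smulGL]
  refine ⟨b, hb0, c', ?_, ?_⟩
  · rw [hc'coe, smul_smul, mul_inv_cancel₀ hb0, one_smul]
  · have h5 : (b⁻¹ • (c : Matrix (Fin n) (Fin n) F)).map σ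
        = σ b⁻¹ • (c : Matrix (Fin n) (Fin n) F).map σ := by
      ext i j
      simp
    rw [hc'coe, h5, map_inv₀, hσb]
    conv_rhs => rw [hz]
    rw [smul_smul]
    congr 1
    field_simp

end fixedsmul

section frob
variable {K : Type*} [Field K] [Fintype K] {q : ℕ}

/-- The `q`-power map of a field with `q^2` elements, as a ring automorphism. -/
noncomputable def frobQ (hK : Fintype.card K = q ^ 2) : K ≃+* K :=
  RingEquiv.ofBijective (Cfsg.Agent.S0278.powQ hK)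
    ⟨(Cfsg.Agent.S0278.powQ hK).injective,
      Finite.injective_iff_surjective.1 (Cfsg.Agent.S0278.powQ hK).injective⟩

theorem frobQ_apply (hK : Fintype.card K = q ^ 2) (a : K) : frobQ hK a = a ^ q := rfl

theorem mem_GU_iff_frob (hK : Fintype.card K = q ^ 2) {n : ℕ} (g : GL (Fin n) K) :
    g ∈ Cfsg.GU n K q ↔
      (g : Matrix (Fin n) (Fin n) K) * ((g : Matrix (Fin n) (Fin n) K).map (frobQ hK))ᵀ = 1 :=
  Cfsg.Agent.Lib.Helper5.PSLCoset.mem_GU_iff' (frobQ hK) q (frobQ_apply hK) g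

end frob

section emb
variable {K E : Type*} [Field K] [Fintype K] [Field E] [Fintype E] {q q₀ r n : ℕ}

theorem pow_q_eq (hE : Fintype.card E = q₀ ^ 2) (hr : Odd r) (hq : q = q₀ ^ r) (y : E) :
    y ^ q = y ^ q₀ := by
  obtain ⟨k, rfl⟩ := hr
  subst hq
  have h2 : y ^ (q₀ ^ 2) = y := by
    rw [← hE]
    exact FiniteField.pow_card y
  induction k with
  | zero => simp
  | succ k ih =>
    have : q₀ ^ (2 * (k + 1) + 1) = q₀ ^ 2 * q₀ ^ (2 * k + 1) := by
      rw [← pow_add]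
      congr 1
      ring
    rw [this, pow_mul, h2, ih]

theorem frob_comp (hK : Fintype.card K = q ^ 2) (hE : Fintype.card E = q₀ ^ 2) (ι : E →+* K)
    (hpow : ∀ y : E, y ^ q = y ^ q₀) (y : E) : frobQ hK (ι y) = ι (frobQ hE y) := by
  rw [frobQ_apply, frobQ_apply, ← map_pow, hpow]

theorem map_mem_GU (hK : Fintype.card K = q ^ 2) (hE : Fintype.card E = q₀ ^ 2) (ι : E →+* K)
    (hpow : ∀ y : E, y ^ q = y ^ q₀) (h : GL (Fin n) E) :
    Matrix.GeneralLinearGroup.map ι h ∈ Cfsg.GU n K q ↔ h ∈ Cfsg.GU n E q₀ := by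
  rw [mem_GU_iff_frob hK, mem_GU_iff_frob hE]
  have h1 : ((Matrix.GeneralLinearGroup.map ι h : GL (Fin n) K) : Matrix (Fin n) (Fin n) K)
      = (h : Matrix (Fin n) (Fin n) E).map ι := rfl
  have h2 : (h : Matrix (Fin n) (Fin n) E).map ι * (((h : Matrix (Fin n) (Fin n) E).map ι).map
      (frobQ hK))ᵀ = ((h : Matrix (Fin n) (Fin n) E)
        * ((h : Matrix (Fin n) (Fin n) E).map (frobQ hE))ᵀ).map ι := by
    rw [Matrix.map_mul]
    congr 1
    ext i j
    simp only [Matrix.transpose_apply, Matrix.map_apply]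
    exact frob_comp hK hE ι hpow _
  rw [h1, h2]
  constructor
  · intro h3
    apply Matrix.map_injective ι.injective
    show ((h : Matrix (Fin n) (Fin n) E) * ((h : Matrix (Fin n) (Fin n) E).map (frobQ hE))ᵀ).map ι
      = (1 : Matrix (Fin n) (Fin n) E).map ι
    rw [h3, Matrix.map_one _ (map_zero ι) (map_one ι)]
  · intro h3
    rw [h3, Matrix.map_one _ (map_zero ι) (map_one ι)]

end emb

section count
variable {K E : Type*} [Field K] [Fintype K] [Field E] [Fintype E] {q q₀ r n : ℕ}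

open Cfsg.Agent.Lib.Helper1.HermCount in
/-- The scalars of norm one. -/
def Zu (K : Type*) [Field K] (q : ℕ) : Subgroup Kˣ where
  carrier := {l | nrm q (l : K) = 1}
  mul_mem' := by
    intro a b ha hb
    show nrm q ((a * b : Kˣ) : K) = 1
    rw [Units.val_mul, nrm_mul, ha, hb, mul_one]
  one_mem' := by
    show nrm q ((1 : Kˣ) : K) = 1
    simp [nrm]
  inv_mem' := by
    intro a ha
    show nrm q ((a⁻¹ : Kˣ) : K) = 1
    have h1 : nrm q ((a⁻¹ : Kˣ) : K) * nrm q (a : K) = 1 := by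
      rw [← nrm_mul, ← Units.val_mul, inv_mul_cancel, Units.val_one]
      simp [nrm]
    have ha' : nrm q (a : K) = 1 := ha
    rw [ha', mul_one] at h1
    exact h1

theorem mem_Zu (l : Kˣ) : l ∈ Zu K q ↔ Cfsg.Agent.Lib.Helper1.HermCount.nrm q (l : K) = 1 :=
  Iff.rfl

theorem card_Zu (hK : Fintype.card K = q ^ 2) : Nat.card (Zu K q) = q + 1 :=
  Cfsg.Agent.S0278.card_norm_one hK

theorem nrm_map (hK : Fintype.card K = q ^ 2) (hE : Fintype.card E = q₀ ^ 2) (ι : E →+* K)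
    (hpow : ∀ y : E, y ^ q = y ^ q₀) (y : E) :
    Cfsg.Agent.Lib.Helper1.HermCount.nrm q (ι y)
      = ι (Cfsg.Agent.Lib.Helper1.HermCount.nrm q₀ y) := by
  unfold Cfsg.Agent.Lib.Helper1.HermCount.nrm
  rw [map_mul, ← map_pow, hpow]

theorem scalar_mem_GU (hK : Fintype.card K = q ^ 2) (hn : 1 ≤ n) (d : Kˣ) :
    Matrix.GeneralLinearGroup.scalar (Fin n) d ∈ Cfsg.GU n K q ↔ d ∈ Zu K q := by
  rw [mem_GU_iff_frob hK, mem_Zu, Matrix.GeneralLinearGroup.coe_scalar]
  have h1 : (Matrix.scalar (Fin n) (d : K)) * ((Matrix.scalar (Fin n) (d : K)).map (frobQ hK))ᵀ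
      = Cfsg.Agent.Lib.Helper1.HermCount.nrm q (d : K) • (1 : Matrix (Fin n) (Fin n) K) := by
    ext i j
    rw [Matrix.mul_apply, Matrix.smul_apply, smul_eq_mul]
    simp only [Matrix.scalar_apply, Matrix.transpose_apply, Matrix.map_apply,
      Matrix.diagonal_apply]
    rw [Finset.sum_eq_single i]
    · rw [if_pos rfl]
      by_cases hij : i = j
      · subst hij
        rw [if_pos rfl, Matrix.one_apply_eq, mul_one, frobQ_apply]
        rfl
      · rw [if_neg (Ne.symm hij), Matrix.one_apply_ne hij, mul_zero, map_zero, mul_zero]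
    · intro k _ hk
      rw [if_neg (Ne.symm hk), zero_mul]
    · intro h
      exact absurd (Finset.mem_univ i) h
  rw [h1]
  constructor
  · intro h
    have := congrFun (congrFun h ⟨0, by omega⟩) ⟨0, by omega⟩
    rw [Matrix.smul_apply, Matrix.one_apply_eq, smul_eq_mul, mul_one] at this
    exact this
  · intro h
    rw [h, one_smul]

omit [Fintype K] in
/-- Scalars commute with everything. -/
theorem scalar_commute (d : Kˣ) (g : GL (Fin n) K) :
    Commute (Matrix.GeneralLinearGroup.scalar (Fin n) d) g := by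
  have h : Matrix.GeneralLinearGroup.scalar (Fin n) d ∈ Subgroup.center (GL (Fin n) K) := by
    rw [Matrix.GeneralLinearGroup.center_eq_range_scalar]
    exact ⟨d, rfl⟩
  exact (Subgroup.mem_center_iff.1 h g).symm

/-- The product map from norm-one scalars times the unitary group over the subfield. -/
noncomputable def Phi (K : Type*) [Field K] {E : Type*} [Field E] (q q₀ n : ℕ) (ι : E →+* K) :
    Zu K q × Cfsg.GU n E q₀ →* GL (Fin n) K :=
  MonoidHom.noncommCoprod ((Matrix.GeneralLinearGroup.scalar (Fin n)).comp (Zu K q).subtype)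
    ((Matrix.GeneralLinearGroup.map ι).comp (Cfsg.GU n E q₀).subtype)
    (fun d h => scalar_commute _ _)

theorem Phi_apply (ι : E →+* K) (x : Zu K q × Cfsg.GU n E q₀) :
    Phi K q q₀ n ι x = Matrix.GeneralLinearGroup.scalar (Fin n) (x.1 : Kˣ)
      * Matrix.GeneralLinearGroup.map ι (x.2 : GL (Fin n) E) := rfl

theorem coe_Phi (ι : E →+* K) (x : Zu K q × Cfsg.GU n E q₀) :
    ((Phi K q q₀ n ι x : GL (Fin n) K) : Matrix (Fin n) (Fin n) K)
      = ((x.1 : Kˣ) : K) • ((x.2 : GL (Fin n) E) : Matrix (Fin n) (Fin n) E).map ι := by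
  rw [Phi_apply, Units.val_mul, Matrix.GeneralLinearGroup.coe_scalar, Matrix.scalar_apply,
    ← Matrix.smul_eq_diagonal_mul]
  rfl

theorem map_scalar (ι : E →+* K) (l : Eˣ) :
    Matrix.GeneralLinearGroup.map ι (Matrix.GeneralLinearGroup.scalar (Fin n) l)
      = Matrix.GeneralLinearGroup.scalar (Fin n) (Units.map (ι : E →* K) l) := by
  apply Units.ext
  show ((Matrix.GeneralLinearGroup.scalar (Fin n) l : GL (Fin n) E) :
    Matrix (Fin n) (Fin n) E).map ι = _
  rw [Matrix.GeneralLinearGroup.coe_scalar, Matrix.GeneralLinearGroup.coe_scalar]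
  ext i j
  simp only [Matrix.map_apply, Matrix.scalar_apply, Matrix.diagonal_apply]
  by_cases hij : i = j
  · rw [if_pos hij, if_pos hij]
    rfl
  · rw [if_neg hij, if_neg hij, map_zero]

end count

section range
variable {K E : Type*} [Field K] [Fintype K] [Field E] [Fintype E] {q q₀ r n : ℕ}

open Cfsg.Agent.Lib.Helper1.HermCount in
theorem mem_range_Phi (hK : Fintype.card K = q ^ 2) (hE : Fintype.card E = q₀ ^ 2) (hn : 1 ≤ n)
    (ι : E →+* K) (hpow : ∀ y : E, y ^ q = y ^ q₀) (σ : K ≃+* K) (hσ : orderOf σ = r)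
    (hr0 : 0 < r) (hι : ∀ a : K, σ a = a ↔ a ∈ Set.range ι) (g : GL (Fin n) K) :
    g ∈ (Phi K q q₀ n ι).range ↔ g ∈ Cfsg.GU n K q ∧ ∃ c : K, c ≠ 0 ∧
      (g : Matrix (Fin n) (Fin n) K).map σ = c • (g : Matrix (Fin n) (Fin n) K) := by
  constructor
  · rintro ⟨⟨d, h⟩, rfl⟩
    have hP : Phi K q q₀ n ι (d, h) = Matrix.GeneralLinearGroup.scalar (Fin n) (d : Kˣ)
        * Matrix.GeneralLinearGroup.map ι (h : GL (Fin n) E) := Phi_apply ι (d, h)
    have hPc : ((Phi K q q₀ n ι (d, h) : GL (Fin n) K) : Matrix (Fin n) (Fin n) K)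
        = ((d : Kˣ) : K) • ((h : GL (Fin n) E) : Matrix (Fin n) (Fin n) E).map ι :=
      coe_Phi ι (d, h)
    have h1 : Matrix.GeneralLinearGroup.scalar (Fin n) (d : Kˣ) ∈ Cfsg.GU n K q :=
      (scalar_mem_GU hK hn (d : Kˣ)).2 d.2
    have h2 : Matrix.GeneralLinearGroup.map ι (h : GL (Fin n) E) ∈ Cfsg.GU n K q :=
      (map_mem_GU hK hE ι hpow (h : GL (Fin n) E)).2 h.2
    refine ⟨?_, σ ((d : Kˣ) : K) * ((d : Kˣ) : K)⁻¹, ?_, ?_⟩
    · rw [hP]
      exact (Cfsg.GU n K q).mul_mem h1 h2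
    · apply mul_ne_zero
      · rw [Ne, map_eq_zero]
        exact (d : Kˣ).ne_zero
      · exact inv_ne_zero (d : Kˣ).ne_zero
    · rw [hPc, smul_smul, inv_mul_cancel_right₀ (d : Kˣ).ne_zero]
      ext i j
      simp only [Matrix.map_apply, Matrix.smul_apply, smul_eq_mul, map_mul]
      congr 1
      exact (hι _).2 ⟨_, rfl⟩
  · rintro ⟨hg, c, hc0, hc⟩
    have hz : (g : Matrix (Fin n) (Fin n) K) = c⁻¹ • (g : Matrix (Fin n) (Fin n) K).map σ := by
      rw [hc, smul_smul, inv_mul_cancel₀ hc0, one_smul]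
    obtain ⟨b, hb0, g', hgg', hfix⟩ := exists_fixed_smul' hn σ r hσ hr0 g c⁻¹ (inv_ne_zero hc0) hz
    -- the form equation
    have hG := (mem_GU_iff_frob hK g).1 hg
    obtain ⟨M, hM⟩ : ∃ M : Matrix (Fin n) (Fin n) K,
        M = (g' : Matrix (Fin n) (Fin n) K) * ((g' : Matrix (Fin n) (Fin n) K).map (frobQ hK))ᵀ :=
      ⟨_, rfl⟩
    have hMfix : M.map σ = M := by
      rw [hM, Matrix.map_mul]
      have h1 : (((g' : Matrix (Fin n) (Fin n) K).map (frobQ hK))ᵀ).map σ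
          = (((g' : Matrix (Fin n) (Fin n) K).map σ).map (frobQ hK))ᵀ := by
        ext i j
        simp only [Matrix.transpose_apply, Matrix.map_apply, frobQ_apply, map_pow]
      rw [h1, hfix]
    have htM : nrm q b • M = 1 := by
      rw [← hG, hgg', hM]
      have h1 : (b • (g' : Matrix (Fin n) (Fin n) K)).map (frobQ hK)
          = (b ^ q) • (g' : Matrix (Fin n) (Fin n) K).map (frobQ hK) := by
        ext i j
        simp only [Matrix.map_apply, Matrix.smul_apply, smul_eq_mul, map_mul, frobQ_apply]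
      rw [h1, Matrix.transpose_smul, Matrix.smul_mul, Matrix.mul_smul, smul_smul]
      rfl
    have ht0 : nrm q b ≠ 0 := by
      rw [Ne, nrm_eq_zero hK]
      exact hb0
    have hM1 : M = (nrm q b)⁻¹ • (1 : Matrix (Fin n) (Fin n) K) := by
      rw [← htM, smul_smul, inv_mul_cancel₀ ht0, one_smul]
    have hσt : σ (nrm q b) = nrm q b := by
      have h1 := congrFun (congrFun hMfix ⟨0, by omega⟩) ⟨0, by omega⟩
      rw [hM1, Matrix.map_apply, Matrix.smul_apply, Matrix.one_apply_eq, smul_eq_mul, mul_one,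
        map_inv₀] at h1
      exact inv_injective h1
    obtain ⟨t₀, ht₀⟩ := (hι _).1 hσt
    have ht₀0 : t₀ ≠ 0 := by
      rintro rfl
      rw [map_zero] at ht₀
      exact ht0 ht₀.symm
    have ht₀q : t₀ ^ q₀ = t₀ := by
      apply ι.injective
      rw [← hpow, map_pow, ht₀, nrm_pow_q hK]
    have ht₀mem : t₀ ∈ fixedUnits E q₀ := by
      simp [fixedUnits, ht₀0, ht₀q]
    obtain ⟨x, hx0, hx⟩ := exists_nrm_eq hE ht₀mem
    have hιx0 : ι x ≠ 0 := by
      rw [Ne, map_eq_zero]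
      exact hx0
    -- lift `g'` to a matrix over `E`
    have hentry : ∀ i j, ∃ t : E, ι t = (g' : Matrix (Fin n) (Fin n) K) i j := by
      intro i j
      have h1 : σ ((g' : Matrix (Fin n) (Fin n) K) i j) = (g' : Matrix (Fin n) (Fin n) K) i j :=
        congrFun (congrFun hfix i) j
      exact (hι _).1 h1
    choose g₀ hg₀ using hentry
    have hmap : (x • (Matrix.of g₀ : Matrix (Fin n) (Fin n) E)).map ι
        = ι x • (g' : Matrix (Fin n) (Fin n) K) := by
      ext i j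
      simp only [Matrix.map_apply, Matrix.smul_apply, smul_eq_mul, map_mul, Matrix.of_apply]
      rw [hg₀]
    have hdet : ι (x • (Matrix.of g₀ : Matrix (Fin n) (Fin n) E)).det
        = (ι x • (g' : Matrix (Fin n) (Fin n) K)).det := by
      rw [← hmap]
      exact RingHom.map_det ι _
    have hdet0 : (x • (Matrix.of g₀ : Matrix (Fin n) (Fin n) E)).det ≠ 0 := by
      intro h0
      rw [h0, map_zero, Matrix.det_smul] at hdet
      have hu : IsUnit (g' : Matrix (Fin n) (Fin n) K).det :=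
        (Matrix.isUnit_iff_isUnit_det _).1 ⟨g', rfl⟩
      have : ι x ^ Fintype.card (Fin n) * (g' : Matrix (Fin n) (Fin n) K).det ≠ 0 :=
        mul_ne_zero (pow_ne_zero _ hιx0) hu.ne_zero
      exact this hdet.symm
    have hu₀ : IsUnit (x • (Matrix.of g₀ : Matrix (Fin n) (Fin n) E)) :=
      (Matrix.isUnit_iff_isUnit_det _).2 (isUnit_iff_ne_zero.2 hdet0)
    obtain ⟨d, hd⟩ : ∃ d : Kˣ, (d : K) = b * (ι x)⁻¹ :=
      ⟨Units.mk0 (b * (ι x)⁻¹) (mul_ne_zero hb0 (inv_ne_zero hιx0)), rfl⟩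
    have hdZ : d ∈ Zu K q := by
      rw [mem_Zu, hd, nrm_mul]
      have h1 : nrm q ((ι x)⁻¹) * nrm q (ι x) = 1 := by
        rw [← nrm_mul, inv_mul_cancel₀ hιx0]
        simp [nrm]
      have h2 : nrm q (ι x) = nrm q b := by
        rw [nrm_map hK hE ι hpow, hx, ht₀]
      rw [← h2, mul_comm]
      exact h1
    have hcoe : (g : Matrix (Fin n) (Fin n) K)
        = (d : K) • ((hu₀.unit : GL (Fin n) E) : Matrix (Fin n) (Fin n) E).map ι := by
      rw [IsUnit.unit_spec, hmap, smul_smul, hd, inv_mul_cancel_right₀ hιx0, hgg']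
    have hmapGL : Matrix.GeneralLinearGroup.map ι hu₀.unit
        = (Matrix.GeneralLinearGroup.scalar (Fin n) d)⁻¹ * g := by
      rw [eq_inv_mul_iff_mul_eq]
      apply Units.ext
      rw [Units.val_mul, Matrix.GeneralLinearGroup.coe_scalar, Matrix.scalar_apply,
        ← Matrix.smul_eq_diagonal_mul, hcoe]
      rfl
    have hmem : hu₀.unit ∈ Cfsg.GU n E q₀ := by
      rw [← map_mem_GU hK hE ι hpow, hmapGL]
      exact (Cfsg.GU n K q).mul_mem ((Cfsg.GU n K q).inv_mem ((scalar_mem_GU hK hn d).2 hdZ)) hg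
    refine ⟨(⟨d, hdZ⟩, ⟨hu₀.unit, hmem⟩), ?_⟩
    apply Units.ext
    rw [coe_Phi, hcoe]

end range

section kernel
variable {K E : Type*} [Field K] [Fintype K] [Field E] [Fintype E] {q q₀ r n : ℕ}

theorem units_map_inv_mem_Zu (hK : Fintype.card K = q ^ 2) (hE : Fintype.card E = q₀ ^ 2)
    (ι : E →+* K) (hpow : ∀ y : E, y ^ q = y ^ q₀) (l : Zu E q₀) :
    Units.map (ι : E →* K) (l : Eˣ)⁻¹ ∈ Zu K q := by
  rw [mem_Zu]
  have h1 : ((Units.map (ι : E →* K) (l : Eˣ)⁻¹ : Kˣ) : K) = ι (((l : Eˣ)⁻¹ : Eˣ) : E) := rfl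
  rw [h1, nrm_map hK hE ι hpow]
  have h2 := (Zu E q₀).inv_mem l.2
  rw [mem_Zu] at h2
  rw [h2, map_one]

theorem Phi_ker_aux (hK : Fintype.card K = q ^ 2) (hE : Fintype.card E = q₀ ^ 2) (hn : 1 ≤ n)
    (ι : E →+* K) (hpow : ∀ y : E, y ^ q = y ^ q₀) (l : Zu E q₀) :
    ((⟨Units.map (ι : E →* K) (l : Eˣ)⁻¹, units_map_inv_mem_Zu hK hE ι hpow l⟩,
      ⟨Matrix.GeneralLinearGroup.scalar (Fin n) (l : Eˣ), (scalar_mem_GU hE hn (l : Eˣ)).2 l.2⟩) :
      Zu K q × Cfsg.GU n E q₀) ∈ (Phi K q q₀ n ι).ker := by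
  rw [MonoidHom.mem_ker, Phi_apply]
  show Matrix.GeneralLinearGroup.scalar (Fin n) (Units.map (ι : E →* K) (l : Eˣ)⁻¹)
    * Matrix.GeneralLinearGroup.map ι (Matrix.GeneralLinearGroup.scalar (Fin n) (l : Eˣ)) = 1
  rw [map_scalar, ← map_mul, ← map_mul, inv_mul_cancel, map_one, map_one]

theorem card_ker_Phi (hK : Fintype.card K = q ^ 2) (hE : Fintype.card E = q₀ ^ 2) (hn : 1 ≤ n)
    (ι : E →+* K) (hpow : ∀ y : E, y ^ q = y ^ q₀) :
    Nat.card (Phi K q q₀ n ι).ker = q₀ + 1 := by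
  rw [← card_Zu hE]
  symm
  apply Nat.card_congr
  refine Equiv.ofBijective (fun l => ⟨_, Phi_ker_aux hK hE hn ι hpow l⟩) ⟨?_, ?_⟩
  · intro l l' hll
    have h1 : Matrix.GeneralLinearGroup.scalar (Fin n) (l : Eˣ)
        = Matrix.GeneralLinearGroup.scalar (Fin n) (l' : Eˣ) :=
      congrArg (fun x : (Phi K q q₀ n ι).ker => ((x : Zu K q × Cfsg.GU n E q₀).2 : GL (Fin n) E)) hll
    have h2 := congrArg (fun g : GL (Fin n) E => (g : Matrix (Fin n) (Fin n) E)
      ⟨0, by omega⟩ ⟨0, by omega⟩) h1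
    simp only [Matrix.GeneralLinearGroup.coe_scalar, Matrix.scalar_apply,
      Matrix.diagonal_apply_eq] at h2
    exact Subtype.ext (Units.ext h2)
  · rintro ⟨⟨d, h⟩, hk⟩
    rw [MonoidHom.mem_ker] at hk
    have hc : ((d : Kˣ) : K) • ((h : GL (Fin n) E) : Matrix (Fin n) (Fin n) E).map ι = 1 := by
      rw [← coe_Phi ι (d, h), hk]
      rfl
    have hentry : ∀ i j, ι (((h : GL (Fin n) E) : Matrix (Fin n) (Fin n) E) i j)
        = ((d : Kˣ) : K)⁻¹ * (1 : Matrix (Fin n) (Fin n) K) i j := by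
      intro i j
      have := congrFun (congrFun hc i) j
      rw [Matrix.smul_apply, Matrix.map_apply, smul_eq_mul] at this
      rw [← this, inv_mul_cancel_left₀ (d : Kˣ).ne_zero]
    have h00 : ι (((h : GL (Fin n) E) : Matrix (Fin n) (Fin n) E) ⟨0, by omega⟩ ⟨0, by omega⟩)
        = ((d : Kˣ) : K)⁻¹ := by
      rw [hentry, Matrix.one_apply_eq, mul_one]
    have hl0 : ((h : GL (Fin n) E) : Matrix (Fin n) (Fin n) E) ⟨0, by omega⟩ ⟨0, by omega⟩ ≠ 0 := by
      intro h0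
      rw [h0, map_zero] at h00
      exact inv_ne_zero (d : Kˣ).ne_zero h00.symm
    obtain ⟨l, hl⟩ : ∃ l : Eˣ, (l : E)
        = ((h : GL (Fin n) E) : Matrix (Fin n) (Fin n) E) ⟨0, by omega⟩ ⟨0, by omega⟩ :=
      ⟨Units.mk0 _ hl0, rfl⟩
    have hh : (h : GL (Fin n) E) = Matrix.GeneralLinearGroup.scalar (Fin n) l := by
      apply Units.ext
      rw [Matrix.GeneralLinearGroup.coe_scalar]
      ext i j
      apply ι.injective
      rw [hentry, Matrix.scalar_apply, Matrix.diagonal_apply]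
      by_cases hij : i = j
      · rw [if_pos hij, hl, h00, hij, Matrix.one_apply_eq, mul_one]
      · rw [if_neg hij, Matrix.one_apply_ne hij, mul_zero, map_zero]
    have hlZ : l ∈ Zu E q₀ := by
      rw [← scalar_mem_GU hE hn, ← hh]
      exact h.2
    refine ⟨⟨l, hlZ⟩, ?_⟩
    apply Subtype.ext
    apply Prod.ext
    · apply Subtype.ext
      apply Units.ext
      show ι ((l⁻¹ : Eˣ) : E) = ((d : Kˣ) : K)
      rw [Units.val_inv_eq_inv_val, map_inv₀, hl, h00, inv_inv]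
    · apply Subtype.ext
      exact hh.symm

theorem card_mul (hK : Fintype.card K = q ^ 2) (hE : Fintype.card E = q₀ ^ 2) (hn : 1 ≤ n)
    (ι : E →+* K) (hpow : ∀ y : E, y ^ q = y ^ q₀) (σ : K ≃+* K) (hσ : orderOf σ = r)
    (hr0 : 0 < r) (hι : ∀ a : K, σ a = a ↔ a ∈ Set.range ι) :
    Nat.card {g : ↥(Cfsg.GU n K q) // ∃ c : K, c ≠ 0 ∧
      ((g : GL (Fin n) K) : Matrix (Fin n) (Fin n) K).map σ
        = c • ((g : GL (Fin n) K) : Matrix (Fin n) (Fin n) K)} * (q₀ + 1)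
      = (q + 1) * Nat.card (Cfsg.GU n E q₀) := by
  have h1 : Nat.card {g : ↥(Cfsg.GU n K q) // ∃ c : K, c ≠ 0 ∧
      ((g : GL (Fin n) K) : Matrix (Fin n) (Fin n) K).map σ
        = c • ((g : GL (Fin n) K) : Matrix (Fin n) (Fin n) K)}
      = Nat.card (Phi K q q₀ n ι).range := by
    apply Nat.card_congr
    refine ⟨fun g => ⟨(g.1 : GL (Fin n) K),
        (mem_range_Phi hK hE hn ι hpow σ hσ hr0 hι _).2 ⟨g.1.2, g.2⟩⟩,
      fun g => ⟨⟨g.1, ((mem_range_Phi hK hE hn ι hpow σ hσ hr0 hι _).1 g.2).1⟩,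
        ((mem_range_Phi hK hE hn ι hpow σ hσ hr0 hι _).1 g.2).2⟩, ?_, ?_⟩
    · intro g
      rfl
    · intro g
      rfl
  rw [h1, ← Subgroup.index_ker, ← card_ker_Phi hK hE hn ι hpow, mul_comm,
    Subgroup.card_mul_index, Nat.card_prod, card_Zu hK]

end kernel


/-- Centraliser of a field automorphism of odd prime order in PGU_n(q): let q = q₀^r with r an odd prime, K the field with q² elements and σ a field automorphism of K of order r (fixed field of order q₀²). The elements g of GU_n(q) whose entrywise image under σ is a scalar multiple of g — those whose coset modulo the q + 1 unitary scalars is fixed by σ — number (q + 1)/(q₀ + 1) · |GU_n(q₀)|; equivalently the centraliser in PGU_n(q) of the induced automorphism has the order of PGU_n(q₀). -/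
theorem result {K : Type*} [Field K] [Fintype K] {q₀ q r n : ℕ} (hr : r.Prime) (hr2 : r ≠ 2) (hn : 1 ≤ n) (hq : q = q₀ ^ r) (hK : Fintype.card K = q ^ 2) (σ : K ≃+* K) (hσ : orderOf σ = r) : (Nat.card {g : ↥(Cfsg.GU n K q) // ∃ c : K, c ≠ 0 ∧ ((g : GL (Fin n) K) : Matrix (Fin n) (Fin n) K).map σ = c • ((g : GL (Fin n) K) : Matrix (Fin n) (Fin n) K)} : ℤ) = ((q + 1) / (q₀ + 1) : ℕ) * ((q₀ : ℤ) ^ (n * (n - 1) / 2) * ∏ i : Fin n, ((q₀ : ℤ) ^ ((i : ℕ) + 1) - (-1) ^ ((i : ℕ) + 1))) := by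
  classical
  have hr0 : 0 < r := hr.pos
  have hodd : Odd r := hr.odd_of_ne_two hr2
  -- the characteristic
  obtain ⟨e, hpr, hKp⟩ := FiniteField.card K (ringChar K)
  obtain ⟨p, hp⟩ : ∃ p, p = ringChar K := ⟨_, rfl⟩
  rw [← hp] at hpr hKp
  have : Fact p.Prime := ⟨hpr⟩
  have hq0dvd : q₀ ∣ p ^ (e : ℕ) := by
    rw [← hKp, hK, hq]
    exact Dvd.dvd.pow (dvd_pow_self q₀ hr0.ne') (by norm_num)
  obtain ⟨f₀, -, hf₀⟩ := (Nat.dvd_prime_pow hpr).1 hq0dvd
  have he : (e : ℕ) = f₀ * r * 2 := by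
    apply Nat.pow_right_injective hpr.two_le
    show p ^ (e : ℕ) = p ^ (f₀ * r * 2)
    rw [← hKp, hK, hq, hf₀, pow_mul, pow_mul]
  have hf₀0 : f₀ ≠ 0 := by
    rintro rfl
    rw [zero_mul, zero_mul] at he
    exact e.pos.ne' he
  have hediv : (e : ℕ) / r = f₀ * 2 := by
    rw [he, mul_assoc, mul_comm r 2, ← mul_assoc, Nat.mul_div_cancel _ hr0]
  have : Fintype (GaloisField p (f₀ * 2)) := Fintype.ofFinite _
  have hE : Fintype.card (GaloisField p (f₀ * 2)) = q₀ ^ 2 := by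
    rw [← Nat.card_eq_fintype_card, GaloisField.card p _ (by omega), hf₀, pow_mul]
  have hE' : Fintype.card (GaloisField p (f₀ * 2)) = p ^ ((e : ℕ) / r) := by
    rw [hE, hediv, hf₀, pow_mul]
  obtain ⟨ι, hι⟩ := Cfsg.Agent.Lib.Helper5.PSLCoset.exists_embedding_fixed hKp σ r hσ hr0
    (GaloisField p (f₀ * 2)) hE'
  have hpow := pow_q_eq (E := GaloisField p (f₀ * 2)) hE hodd hq
  have hmul := card_mul hK hE hn ι hpow σ hσ hr0 hι
  rw [Cfsg.Agent.S0277.result hE n] at hmul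
  -- arithmetic
  have hq₀pos : 0 < q₀ := by
    rw [hf₀]
    exact pow_pos hpr.pos _
  obtain ⟨m, hm⟩ : q₀ + 1 ∣ q + 1 := by
    rw [hq]
    have := Odd.nat_add_dvd_pow_add_pow q₀ 1 hodd
    rwa [one_pow] at this
  have hdiv : (q + 1) / (q₀ + 1) = m := by
    rw [hm, Nat.mul_div_cancel_left _ (by omega)]
  rw [hdiv]
  have hS : Nat.card {g : ↥(Cfsg.GU n K q) // ∃ c : K, c ≠ 0 ∧
      ((g : GL (Fin n) K) : Matrix (Fin n) (Fin n) K).map σ
        = c • ((g : GL (Fin n) K) : Matrix (Fin n) (Fin n) K)}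
      = m * (q₀ ^ (n * (n - 1) / 2) * ∏ i ∈ Finset.range n,
        (if Even i then q₀ ^ (i + 1) + 1 else q₀ ^ (i + 1) - 1)) := by
    apply Nat.eq_of_mul_eq_mul_right (show 0 < q₀ + 1 by omega)
    rw [hmul, hm]
    ring
  rw [hS, Nat.cast_mul, Nat.cast_mul, Nat.cast_pow, Nat.cast_prod, Finset.prod_range]
  congr 2
  apply Finset.prod_congr rfl
  intro i _
  by_cases hi : Even (i : ℕ)
  · rw [if_pos hi, Odd.neg_one_pow hi.add_one]
    push_cast
    ring
  · rw [if_neg hi, Even.neg_one_pow (Nat.not_even_iff_odd.1 hi).add_one,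
      Nat.cast_sub (Nat.one_le_pow _ _ hq₀pos)]
    push_cast
    ring

end Cfsg.Agent.S2677
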