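import Cfsg.Statements.S2678
import Cfsg.Agent.Lib.Helper5.ScalarRes
import Cfsg.Agent.Lib.Helper5.AltForm2
import Cfsg.Agent.Lib.Helper1.SpBasic

set_option autoImplicit false
open Cfsg

namespace Cfsg.Agent.S2678


open Matrix Module Cfsg.Agent.Lib.Helper5 Cfsg.Agent.Lib.Helper5.ScalarRes
  Cfsg.Agent.Lib.Helper5.AltForm Cfsg.Agent.Lib.Helper2.Symp Cfsg.Agent.Lib.Helper1.SpBasic


/-- Field-extension embedding of symplectic groups: for a field K with q² elements and a field F with q elements there is an injective homomorphism Sp_2a(K) → Sp_4a(F). -/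
theorem result {K F : Type*} [Field K] [Fintype K] [Field F] [Fintype F] {q : ℕ} (hK : Fintype.card K = q ^ 2) (hF : Fintype.card F = q) (a : ℕ) : ∃ φ : ↥(Matrix.symplecticGroup (Fin a) K) →* ↥(Matrix.symplecticGroup (Fin (2 * a)) F), Function.Injective φ := by
  classical
  obtain ⟨alg, hfin⟩ := FieldExt.exists_algebra 2 (by norm_num) hK hF
  have : Module.Finite F K := Module.Finite.of_finite
  let B : LinearMap.BilinForm F (Fin a ⊕ Fin a → K) :=
    trForm (F := F) (1 : K) (Cfsg.sympForm a K) sympForm_add_left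
      (fun c u v => sympForm_smul_left c u v) sympForm_add_right
      (fun c u v => sympForm_smul_right _ u v)
  have hB : B.IsAlt := by
    intro v
    show trForm (F := F) (1 : K) (Cfsg.sympForm a K) _ _ _ _ v v = 0
    rw [trForm_apply, sympForm_self, mul_zero, map_zero]
  have hnd : ∀ x, (∀ y, B x y = 0) → x = 0 := by
    apply trForm_nondegenerate (F := F) (1 : K) one_ne_zero
    · intro x hx
      obtain ⟨y, hy⟩ := Cfsg.Agent.S0271.exists_partner a x hx
      exact ⟨y, by rw [hy]; exact one_ne_zero⟩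
    · intro x y w
      exact ⟨w • y, sympForm_smul_right w x y⟩
  have hn : finrank F (Fin a ⊕ Fin a → K) = 2 * (2 * a) := by
    rw [finrank_fun 2 hfin, Fintype.card_sum, Fintype.card_fin]
    ring
  let ρ : ↥(Matrix.symplecticGroup (Fin a) K) →* Module.End F (Fin a ⊕ Fin a → K) :=
    (matEnd F).comp (Matrix.symplecticGroup (Fin a) K).subtype
  have hρ : Function.Injective ρ := by
    intro g h hgh
    apply Subtype.ext
    exact matEnd_injective hgh
  have hpres : ∀ g u v, B (ρ g u) (ρ g v) = B u v := by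
    intro g u v
    show trForm (F := F) (1 : K) (Cfsg.sympForm a K) _ _ _ _ _ _ = trForm (F := F) (1 : K) (Cfsg.sympForm a K) _ _ _ _ _ _
    rw [trForm_apply, trForm_apply]
    show Algebra.trace F K (1 * Cfsg.sympForm a K
      ((g : Matrix (Fin a ⊕ Fin a) (Fin a ⊕ Fin a) K) *ᵥ u)
      ((g : Matrix (Fin a ⊕ Fin a) (Fin a ⊕ Fin a) K) *ᵥ v)) = _
    rw [form_mulVec]
  exact exists_hom_symplectic B hB hnd (2 * a) hn ρ hρ hpres

end Cfsg.Agent.S2678
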