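import Cfsg.Statements.S2679
import Cfsg.Agent.Lib.Helper5.QuadEmbed
import Cfsg.Agent.Lib.Helper5.FieldExt
import Cfsg.Agent.Lib.Helper5.HermRes

set_option autoImplicit false
open Cfsg

namespace Cfsg.Agent.S2679

open Matrix

section amat
variable {F K : Type*} [Field F] [Field K]

/-- The matrix of the minus-type form (as `v ↦ v ⬝ᵥ A *ᵥ v`). -/
def Aminus (k : ℕ) (F : Type*) [Field F] (a c : F) :
    Matrix ((Fin k ⊕ Fin k) ⊕ Fin 2) ((Fin k ⊕ Fin k) ⊕ Fin 2) F :=
  Matrix.fromBlocks (Matrix.fromBlocks 0 1 0 0) 0 0 !![1, a; 0, c]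

theorem quadFormMinus_eq (k : ℕ) (a c : F) (v : (Fin k ⊕ Fin k) ⊕ Fin 2 → F) :
    Cfsg.quadFormMinus k F a c v = v ⬝ᵥ (Aminus k F a c *ᵥ v) := by
  unfold Cfsg.quadFormMinus Aminus dotProduct Matrix.mulVec dotProduct
  simp only [Fintype.sum_sum_type, Matrix.fromBlocks_apply₁₁, Matrix.fromBlocks_apply₁₂,
    Matrix.fromBlocks_apply₂₁, Matrix.fromBlocks_apply₂₂, Matrix.zero_apply, zero_mul,
    Finset.sum_const_zero, add_zero, zero_add, Matrix.one_apply, Fin.sum_univ_two,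
    Matrix.of_apply, Matrix.cons_val', Matrix.cons_val_zero, Matrix.cons_val_one,
    Matrix.cons_val_fin_one, ite_mul, one_mul, Finset.sum_ite_eq, Finset.mem_univ, if_true,
    mul_zero]
  ring

theorem Aminus_map (ι : F →+* K) (k : ℕ) (a c : F) :
    (Aminus k F a c).map ι = Aminus k K (ι a) (ι c) := by
  ext i j
  rcases i with (i | i) | i <;> rcases j with (j | j) | j
  all_goals simp [Aminus, Matrix.one_apply]
  all_goals try split_ifs <;> simp
  all_goals fin_cases i <;> fin_cases j <;> simp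

end amat

section root
variable {F K : Type*} [Field F] [Fintype F] [Field K] [Fintype K] [Algebra F K]

open Polynomial Cfsg.Agent.Lib.Helper5.HermRes in
theorem exists_roots (h2 : Module.finrank F K = 2) (a c : F)
    (hac : ∀ z₁ z₂ : F, z₁ ^ 2 + a * z₁ * z₂ + c * z₂ ^ 2 = 0 → z₁ = 0 ∧ z₂ = 0) :
    ∃ θ θ' : K, θ ≠ θ' ∧ θ + θ' = -(algebraMap F K a) ∧ θ * θ' = algebraMap F K c := by
  classical
  have hnoroot : ∀ x : F, x ^ 2 + a * x + c ≠ 0 := by
    intro x hx
    have := hac x 1 (by rw [mul_one, one_pow, mul_one]; exact hx)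
    exact one_ne_zero this.2
  obtain ⟨f, hf⟩ : ∃ f : F[X], f = X ^ 2 + C a * X + C c := ⟨_, rfl⟩
  have hdeg : f.natDegree = 2 := by
    rw [hf]
    compute_degree!
  have hmonic : f.Monic := by
    rw [hf]
    monicity!
  have hirr : Irreducible f := by
    rw [Polynomial.Monic.irreducible_iff_roots_eq_zero_of_degree_le_three hmonic (by omega)
      (by omega)]
    apply Multiset.eq_zero_of_forall_notMem
    intro x hx
    rw [mem_roots hmonic.ne_zero, IsRoot, hf] at hx
    simp only [eval_add, eval_pow, eval_X, eval_mul, eval_C] at hx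
    exact hnoroot x hx
  have : Fact (Irreducible f) := ⟨hirr⟩
  have hfin : Module.finrank F (AdjoinRoot f) = 2 := by
    rw [(AdjoinRoot.powerBasis hmonic.ne_zero).finrank, AdjoinRoot.powerBasis_dim, hdeg]
  obtain ⟨ψ⟩ := FiniteField.nonempty_algHom_of_finrank_dvd (F := F) (K := AdjoinRoot f) (L := K)
    (by rw [hfin, h2])
  obtain ⟨θ, hθ⟩ : ∃ θ : K, θ = ψ (AdjoinRoot.root f) := ⟨_, rfl⟩
  have hroot : θ ^ 2 + algebraMap F K a * θ + algebraMap F K c = 0 := by
    have h1 : aeval θ f = 0 := by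
      rw [hθ, Polynomial.aeval_algHom_apply, AdjoinRoot.aeval_eq, AdjoinRoot.mk_self, map_zero]
    rw [hf] at h1
    simpa using h1
  obtain ⟨θ', hθ'⟩ : ∃ θ' : K, θ' = θ ^ Fintype.card F := ⟨_, rfl⟩
  have hroot' : θ' ^ 2 + algebraMap F K a * θ' + algebraMap F K c = 0 := by
    have h1 : (θ ^ 2 + algebraMap F K a * θ + algebraMap F K c) ^ Fintype.card F
        = (0 : K) ^ Fintype.card F := by rw [hroot]
    rw [pow_card_add, pow_card_add, mul_pow, pow_card_algebraMap, pow_card_algebraMap,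
      ← pow_mul, mul_comm 2, pow_mul, ← hθ', zero_pow Fintype.card_ne_zero] at h1
    exact h1
  have hne : θ ≠ θ' := by
    intro h
    rw [hθ'] at h
    obtain ⟨x, hx⟩ := mem_range_of_pow_card_eq (F := F) h.symm
    apply hnoroot x
    apply (algebraMap F K).injective
    rw [map_add, map_add, map_pow, map_mul, hx, map_zero]
    exact hroot
  have hsum : θ + θ' + algebraMap F K a = 0 := by
    have h1 : (θ - θ') * (θ + θ' + algebraMap F K a) = 0 := by
      linear_combination hroot - hroot'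
    rcases mul_eq_zero.1 h1 with h | h
    · exact absurd (sub_eq_zero.1 h) hne
    · exact h
  refine ⟨θ, θ', hne, ?_, ?_⟩
  · linear_combination hsum
  · linear_combination -hroot + θ * hsum

end root

section change
variable {K : Type*} [Field K]

/-- The change of variables turning the (split) minus-type form into the plus-type form. -/
def chg (k : ℕ) (θ θ' : K) :
    ((Fin k ⊕ Fin k) ⊕ Fin 2 → K) →ₗ[K] (Fin (k + 1) ⊕ Fin (k + 1) → K) where
  toFun w := Sum.elim
    (Fin.snoc (α := fun _ => K) (fun i => w (Sum.inl (Sum.inl i))) (w (Sum.inr 0) - θ * w (Sum.inr 1)))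
    (Fin.snoc (α := fun _ => K) (fun i => w (Sum.inl (Sum.inr i))) (w (Sum.inr 0) - θ' * w (Sum.inr 1)))
  map_add' u v := by
    funext j
    rcases j with j | j
    · refine Fin.lastCases ?_ (fun i => ?_) j
      · simp only [Sum.elim_inl, Fin.snoc_last, Pi.add_apply]
        ring
      · simp only [Sum.elim_inl, Fin.snoc_castSucc, Pi.add_apply]
    · refine Fin.lastCases ?_ (fun i => ?_) j
      · simp only [Sum.elim_inr, Fin.snoc_last, Pi.add_apply]
        ring
      · simp only [Sum.elim_inr, Fin.snoc_castSucc, Pi.add_apply]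
  map_smul' t u := by
    funext j
    rcases j with j | j
    · refine Fin.lastCases ?_ (fun i => ?_) j
      · simp only [Sum.elim_inl, Fin.snoc_last, Pi.smul_apply, smul_eq_mul, RingHom.id_apply]
        ring
      · simp only [Sum.elim_inl, Fin.snoc_castSucc, Pi.smul_apply, RingHom.id_apply]
    · refine Fin.lastCases ?_ (fun i => ?_) j
      · simp only [Sum.elim_inr, Fin.snoc_last, Pi.smul_apply, smul_eq_mul, RingHom.id_apply]
        ring
      · simp only [Sum.elim_inr, Fin.snoc_castSucc, Pi.smul_apply, RingHom.id_apply]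

theorem chg_inl_last (k : ℕ) (θ θ' : K) (w : (Fin k ⊕ Fin k) ⊕ Fin 2 → K) :
    chg k θ θ' w (Sum.inl (Fin.last k)) = w (Sum.inr 0) - θ * w (Sum.inr 1) := by
  simp only [chg, LinearMap.coe_mk, AddHom.coe_mk, Sum.elim_inl, Sum.elim_inr, Fin.snoc_last]

theorem chg_inr_last (k : ℕ) (θ θ' : K) (w : (Fin k ⊕ Fin k) ⊕ Fin 2 → K) :
    chg k θ θ' w (Sum.inr (Fin.last k)) = w (Sum.inr 0) - θ' * w (Sum.inr 1) := by
  simp only [chg, LinearMap.coe_mk, AddHom.coe_mk, Sum.elim_inl, Sum.elim_inr, Fin.snoc_last]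

theorem chg_inl_castSucc (k : ℕ) (θ θ' : K) (w : (Fin k ⊕ Fin k) ⊕ Fin 2 → K) (i : Fin k) :
    chg k θ θ' w (Sum.inl i.castSucc) = w (Sum.inl (Sum.inl i)) := by
  simp only [chg, LinearMap.coe_mk, AddHom.coe_mk, Sum.elim_inl, Sum.elim_inr,
    Fin.snoc_castSucc]

theorem chg_inr_castSucc (k : ℕ) (θ θ' : K) (w : (Fin k ⊕ Fin k) ⊕ Fin 2 → K) (i : Fin k) :
    chg k θ θ' w (Sum.inr i.castSucc) = w (Sum.inl (Sum.inr i)) := by
  simp only [chg, LinearMap.coe_mk, AddHom.coe_mk, Sum.elim_inl, Sum.elim_inr,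
    Fin.snoc_castSucc]

theorem plus_chg (k : ℕ) (θ θ' a c : K) (hs : θ + θ' = -a) (hp : θ * θ' = c)
    (w : (Fin k ⊕ Fin k) ⊕ Fin 2 → K) :
    Cfsg.quadFormPlus (k + 1) K (chg k θ θ' w) = Cfsg.quadFormMinus k K a c w := by
  unfold Cfsg.quadFormPlus Cfsg.quadFormMinus
  rw [Fin.sum_univ_castSucc, chg_inl_last, chg_inr_last]
  simp only [chg_inl_castSucc, chg_inr_castSucc]
  congr 1
  linear_combination (-(w (Sum.inr 0) * w (Sum.inr 1))) * hs + (w (Sum.inr 1)) ^ 2 * hp

theorem chg_injective (k : ℕ) (θ θ' : K) (hne : θ ≠ θ') : Function.Injective (chg k θ θ') := by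
  rw [← LinearMap.ker_eq_bot, LinearMap.ker_eq_bot']
  intro w hw
  have h1 : w (Sum.inr 0) - θ * w (Sum.inr 1) = 0 := by
    rw [← chg_inl_last k θ θ', hw]
    rfl
  have h2 : w (Sum.inr 0) - θ' * w (Sum.inr 1) = 0 := by
    rw [← chg_inr_last k θ θ', hw]
    rfl
  have h3 : (θ - θ') * w (Sum.inr 1) = 0 := by
    linear_combination h2 - h1
  have h4 : w (Sum.inr 1) = 0 := by
    rcases mul_eq_zero.1 h3 with h | h
    · exact absurd (sub_eq_zero.1 h) hne
    · exact h
  have h5 : w (Sum.inr 0) = 0 := by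
    rw [h4, mul_zero, sub_zero] at h1
    exact h1
  funext j
  rcases j with (i | i) | i
  · rw [← chg_inl_castSucc k θ θ' w i, hw]
    rfl
  · rw [← chg_inr_castSucc k θ θ' w i, hw]
    rfl
  · fin_cases i
    · exact h5
    · exact h4

/-- The change of variables as a linear equivalence. -/
noncomputable def chgEquiv (k : ℕ) (θ θ' : K) (hne : θ ≠ θ') :
    ((Fin k ⊕ Fin k) ⊕ Fin 2 → K) ≃ₗ[K] (Fin (k + 1) ⊕ Fin (k + 1) → K) :=
  LinearMap.linearEquivOfInjective (chg k θ θ') (chg_injective k θ θ' hne) (by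
    rw [Module.finrank_fintype_fun_eq_card, Module.finrank_fintype_fun_eq_card]
    simp only [Fintype.card_sum, Fintype.card_fin]
    ring)

theorem chgEquiv_apply (k : ℕ) (θ θ' : K) (hne : θ ≠ θ') (w : (Fin k ⊕ Fin k) ⊕ Fin 2 → K) :
    chgEquiv k θ θ' hne w = chg k θ θ' w := rfl

end change

section main
variable {F K : Type*} [Field F] [Fintype F] [Field K] [Fintype K]

theorem main_aux [Algebra F K] (h2 : Module.finrank F K = 2) (k : ℕ) (a c : F)
    (hac : ∀ z₁ z₂ : F, z₁ ^ 2 + a * z₁ * z₂ + c * z₂ ^ 2 = 0 → z₁ = 0 ∧ z₂ = 0) :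
    ∃ φ : ↥(Cfsg.isometryGroup F (Cfsg.quadFormMinus k F a c)) →*
      ↥(Cfsg.isometryGroup K (Cfsg.quadFormPlus (k + 1) K)), Function.Injective φ := by
  classical
  obtain ⟨θ, θ', hne, hsum, hprod⟩ := exists_roots h2 a c hac
  obtain ⟨ρ, hρ⟩ : ∃ ρ : ↥(Cfsg.isometryGroup F (Cfsg.quadFormMinus k F a c)) →*
      Module.End K ((Fin k ⊕ Fin k) ⊕ Fin 2 → K),
      ∀ g, ρ g = Matrix.toLin' (((g : GL ((Fin k ⊕ Fin k) ⊕ Fin 2) F) :
        Matrix ((Fin k ⊕ Fin k) ⊕ Fin 2) ((Fin k ⊕ Fin k) ⊕ Fin 2) F).map (algebraMap F K)) :=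
    ⟨{ toFun := fun g => Matrix.toLin' (((g : GL ((Fin k ⊕ Fin k) ⊕ Fin 2) F) :
          Matrix ((Fin k ⊕ Fin k) ⊕ Fin 2) ((Fin k ⊕ Fin k) ⊕ Fin 2) F).map (algebraMap F K))
       map_one' := by
         show Matrix.toLin' ((1 : Matrix ((Fin k ⊕ Fin k) ⊕ Fin 2) ((Fin k ⊕ Fin k) ⊕ Fin 2) F).map
           (algebraMap F K)) = 1
         rw [Matrix.map_one _ (map_zero _) (map_one _), Matrix.toLin'_one]
         rfl
       map_mul' := by
         intro g h
         show Matrix.toLin' ((((g : GL ((Fin k ⊕ Fin k) ⊕ Fin 2) F) :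
           Matrix ((Fin k ⊕ Fin k) ⊕ Fin 2) ((Fin k ⊕ Fin k) ⊕ Fin 2) F)
           * ((h : GL ((Fin k ⊕ Fin k) ⊕ Fin 2) F) :
           Matrix ((Fin k ⊕ Fin k) ⊕ Fin 2) ((Fin k ⊕ Fin k) ⊕ Fin 2) F)).map (algebraMap F K)) = _
         rw [Matrix.map_mul, Matrix.toLin'_mul]
         rfl },
      fun g => rfl⟩
  have hρinj : Function.Injective ρ := by
    intro g h hgh
    rw [hρ, hρ] at hgh
    have h1 := Matrix.toLin'.injective hgh
    have h2 := Matrix.map_injective (algebraMap F K).injective h1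
    exact Subtype.ext (Units.ext h2)
  refine Cfsg.Agent.Lib.Helper5.QuadEmbed.exists_hom_isometry (Cfsg.quadFormPlus (k + 1) K)
    (Cfsg.quadFormMinus k K (algebraMap F K a) (algebraMap F K c)) (chgEquiv k θ θ' hne)
    (fun w => ?_) ρ hρinj (fun g w => ?_)
  · rw [chgEquiv_apply]
    exact plus_chg k θ θ' _ _ hsum hprod w
  · rw [hρ, Matrix.toLin'_apply, quadFormMinus_eq, quadFormMinus_eq, ← Aminus_map]
    apply Cfsg.Agent.Lib.Helper5.QuadEmbed.quad_ext
    intro v
    rw [← quadFormMinus_eq, ← quadFormMinus_eq]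
    exact g.2 v v

end main


/-- An elliptic orthogonal group embeds in the hyperbolic orthogonal group of the same dimension over the quadratic extension: for a field F with q elements and a field K with q² elements there is an injective homomorphism from O⁻_2m(F) (isometries of Σ_(j<m−1) x_j y_j + z₁² + a z₁z₂ + c z₂², binary part anisotropic) to O⁺_2m(K) (isometries of Σ_(j<m) x_j y_j over K). -/
theorem result {F K : Type*} [Field F] [Fintype F] [Field K] [Fintype K] {q : ℕ} (hF : Fintype.card F = q) (hK : Fintype.card K = q ^ 2) {m : ℕ} (hm : 1 ≤ m) (a c : F) (hac : ∀ z₁ z₂ : F, z₁ ^ 2 + a * z₁ * z₂ + c * z₂ ^ 2 = 0 → z₁ = 0 ∧ z₂ = 0) : ∃ φ : ↥(Cfsg.isometryGroup F (Cfsg.quadFormMinus (m - 1) F a c)) →* ↥(Cfsg.isometryGroup K (Cfsg.quadFormPlus m K)), Function.Injective φ := by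
  classical
  obtain ⟨_, h2⟩ := Cfsg.Agent.Lib.Helper5.FieldExt.exists_algebra (K := K) (F := F) 2 (by norm_num)
    hK hF
  obtain ⟨k, rfl⟩ : ∃ k, m = k + 1 := ⟨m - 1, by omega⟩
  exact main_aux h2 k a c hac

end Cfsg.Agent.S2679
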