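import Cfsg.Statements.S2682
import Cfsg.Agent.Lib.Helper5.SpCent2
import Cfsg.Agent.Lib.Helper5.SpCent4
import Cfsg.Agent.S0245

set_option autoImplicit false
open Cfsg

namespace Cfsg.Agent.S2682

/-- Centraliser order of an involution t of Sp_2m(q), q even, with s = rank(t − 1) even and f(v, tv) ≠ 0 for some v, f the symplectic form (type c_s): |C(t)| = q^(2ms − (3s² − 3s)/2 − 1) · |Sp_(s−2)(q)| · |Sp_(2m−2s)(q)|. -/
theorem result {F : Type*} [Field F] [Fintype F] [CharP F 2] {q : ℕ} (hF : Fintype.card F = q) {m s : ℕ} (t : Matrix.symplecticGroup (Fin m) F) (ht : t ^ 2 = 1) (hs : ((t : Matrix (Fin m ⊕ Fin m) (Fin m ⊕ Fin m) F) - 1).rank = s) (heven : Even s) (hna : ∃ v : Fin m ⊕ Fin m → F, Cfsg.sympForm m F v ((t : Matrix (Fin m ⊕ Fin m) (Fin m ⊕ Fin m) F).mulVec v) ≠ 0) : Nat.card ↥(Subgroup.centralizer ({t} : Set ↥(Matrix.symplecticGroup (Fin m) F))) = q ^ (2 * m * s - (3 * s ^ 2 - 3 * s) / 2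 - 1) * ((q : ℕ) ^ (((s - 2) / 2) ^ 2) * ∏ i : Fin ((s - 2) / 2), (q ^ (2 * ((i : ℕ) + 1)) - 1)) * ((q : ℕ) ^ ((m - s) ^ 2) * ∏ i : Fin (m - s), (q ^ (2 * ((i : ℕ) + 1)) - 1)) := by
  classical
  have hq : 2 ≤ q := by
    rw [← hF]
    exact Fintype.one_lt_card
  have ht' : t * t = 1 := by rw [← pow_two]; exact ht
  have halt : ¬ Cfsg.Agent.Lib.Helper5.SpInv2.IsAltInv t := by
    intro hcon
    obtain ⟨v, hv⟩ := hna
    exact hv (hcon v)
  obtain ⟨k, hk⟩ := heven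
  have hk0 : k ≠ 0 := by
    rintro rfl
    have hs0 : ((t : Matrix (Fin m ⊕ Fin m) (Fin m ⊕ Fin m) F) - 1).rank = 0 := by omega
    have h1 : (t : Matrix (Fin m ⊕ Fin m) (Fin m ⊕ Fin m) F) - 1 = 0 := by
      have h0 : LinearMap.range ((t : Matrix (Fin m ⊕ Fin m) (Fin m ⊕ Fin m) F) - 1).mulVecLin = ⊥ :=
        Submodule.finrank_eq_zero.1 hs0
      rw [LinearMap.range_eq_bot] at h0
      ext i j
      have := congrFun (LinearMap.congr_fun h0 (Pi.single j 1)) i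
      rw [Matrix.mulVecLin_apply, Matrix.mulVec_single_one] at this
      exact this
    have h2 : (t : Matrix (Fin m ⊕ Fin m) (Fin m ⊕ Fin m) F) = 1 := sub_eq_zero.1 h1
    apply halt
    intro v
    rw [h2, Matrix.one_mulVec]
    exact Cfsg.Agent.Lib.Helper2.Symp.sympForm_self v
  obtain ⟨h, rfl⟩ := Nat.exists_eq_succ_of_ne_zero hk0
  have hs2 : s = 2 * (h + 1) := by omega
  subst hs2
  have h1 := Cfsg.Agent.Lib.Helper5.SpCent.card_centralizer_typeC hF h t ht' hs halt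
  rw [Cfsg.Agent.S0245.result hF (h + 1), Cfsg.Agent.S0245.result hF m] at h1
  have h2 := Cfsg.Agent.Lib.Helper5.SpCent.arith_c q m h _ hq
    (Cfsg.Agent.Lib.Helper5.SpCent.le_of_rank t ht' hs) h1
  rw [h2]
  have e1 : (2 * (h + 1) - 2) / 2 = h := by omega
  rw [e1, Fin.prod_univ_eq_prod_range (fun i => q ^ (2 * (i + 1)) - 1) h,
    Fin.prod_univ_eq_prod_range (fun i => q ^ (2 * (i + 1)) - 1) (m - 2 * (h + 1))]
  rfl

end Cfsg.Agent.S2682
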