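import Cfsg.Statements.S2684
import Cfsg.Agent.Lib.Helper5.OCent8

set_option autoImplicit false
open Cfsg

namespace Cfsg.Agent.S2684

/-- For the hyperbolic form Q = Σ x_j y_j on F^(2m) over a finite field with q elements, q even (excluding m = 2 over the field of two elements), and an involution x ≠ 1 of the orthogonal group with s = rank(x − 1) even and Q vanishing on the image of x − 1 (equivalently f(v, xv) = 0 for all v, where f(u, w) = Q(u + w) − Q(u) − Q(w) is the bilinear form of Q; type a_s, which lies in Ω): its centraliser in Ω (the commutator subgroup of the orthogonal group) has order q^(2ms − (3s² + s)/2) · |Sp_s(q)| · |Ω⁺_(2m−2s)(q)|, where |Ω⁺_2k(q)| = q^(k(k−1)) (q^k − 1) Π_(i=1)^(k−1) (q^(2i) − 1) for k ≥ 1 and the last factor is 1 when s = m. -/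
theorem result {F : Type*} [Field F] [Fintype F] [CharP F 2] {q : ℕ} (hF : Fintype.card F = q) {m s : ℕ} (h : Fintype.card F ≠ 2 ∨ m ≠ 2) (x : ↥(Cfsg.isometryGroup F (Cfsg.quadFormPlus m F))) (hx : x ^ 2 = 1) (hx1 : x ≠ 1) (hs : (((x : Matrix.GeneralLinearGroup (Fin m ⊕ Fin m) F) : Matrix (Fin m ⊕ Fin m) (Fin m ⊕ Fin m) F) - 1).rank = s) (heven : Even s) (halt : ∀ v : Fin m ⊕ Fin m → F, Cfsg.quadFormPlus m F ((((x : Matrix.GeneralLinearGroup (Fin m ⊕ Fin m) F) : Matrix (Fin m ⊕ Fin m) (Fin m ⊕ Fin m) F) - 1).mulVec v) = 0) : Nat.card {g : ↥(Cfsg.Omega F (Cfsg.quadFormPlus m F)) // (g : ↥(Cfsg.isometryGroup F (Cfsg.quadFormPlus m F))) * x = x * (g : ↥(Cfsg.isometryGroup F (Cfsg.quadFormPlus m F)))} = q ^ (2 * m * s - (3 * s ^ 2 + s) / 2) * ((q : ℕ) ^ ((s / 2) ^ 2) * ∏ i : Fin (s / 2), (q ^ (2 * ((i : ℕ) + 1)) - 1)) * (if s = m then 1 else q ^ ((m - s) * (m - s - 1)) * (q ^ (m - s) - 1) * ∏ i :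 Fin (m - s - 1), (q ^ (2 * ((i : ℕ) + 1)) - 1)) := by
  classical
  have hx2 : x * x = 1 := by rw [← pow_two]; exact hx
  obtain ⟨h', hh⟩ := heven
  have hs2 : s = 2 * h' := by omega
  subst hs2
  have key : ∀ Q' : (Fin m ⊕ Fin m → F) → F, ⇑(Cfsg.Agent.Lib.Helper5.QuadGlue.QP m F) = Q' →
      ∀ x : ↥(Cfsg.isometryGroup F Q'), x * x = 1 → x ≠ 1 →
      (((x : Matrix.GeneralLinearGroup (Fin m ⊕ Fin m) F) :
        Matrix (Fin m ⊕ Fin m) (Fin m ⊕ Fin m) F) - 1).rank = 2 * h' →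
      (∀ v : Fin m ⊕ Fin m → F, Q' ((((x : Matrix.GeneralLinearGroup (Fin m ⊕ Fin m) F) :
        Matrix (Fin m ⊕ Fin m) (Fin m ⊕ Fin m) F) - 1).mulVec v) = 0) →
      Nat.card {g : ↥(Cfsg.Omega F Q') // (g : ↥(Cfsg.isometryGroup F Q')) * x =
        x * (g : ↥(Cfsg.isometryGroup F Q'))} =
      q ^ (2 * m * (2 * h') - (3 * (2 * h') ^ 2 + 2 * h') / 2) *
        (q ^ h' ^ 2 * Cfsg.Agent.Lib.Helper5.SpCent.PiSp q h') *
        (if 2 * h' = m then 1 else q ^ ((m - 2 * h') * (m - 2 * h' - 1)) *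
          (q ^ (m - 2 * h') - 1) * Cfsg.Agent.Lib.Helper5.SpCent.PiSp q (m - 2 * h' - 1)) := by
    intro Q' hQ'
    subst hQ'
    intro x hx hx1 hs halt
    exact Cfsg.Agent.Lib.Helper5.OCent.omega_cent_typeA hF h h' x hx hx1 hs halt
  rw [key _ (Cfsg.Agent.Lib.Helper2.QuadStd.QP_coe m) x hx2 hx1 hs halt]
  have e1 : 2 * h' / 2 = h' := by omega
  rw [e1, Fin.prod_univ_eq_prod_range (fun i => q ^ (2 * (i + 1)) - 1) h',
    Fin.prod_univ_eq_prod_range (fun i => q ^ (2 * (i + 1)) - 1) (m - 2 * h' - 1)]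
  rfl

end Cfsg.Agent.S2684
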