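import Cfsg.Statements.S2730
import Cfsg.Agent.Lib.Helper5.PSpBal6

set_option autoImplicit false
open Cfsg

namespace Cfsg.Agent.S2730


open Cfsg.Agent.Lib.Helper5.PSpAut Cfsg.Agent.Lib.Helper5.PSpBal Cfsg.Agent.Lib.Helper5.PSpField
  Cfsg.Agent.Lib.Helper1.SpBasic Cfsg.Agent.Lib.Helper5.SpAut

/-- the fixed points of conjugate automorphisms are in bijection -/
theorem card_fix_conj {K : Type*} [Group K] (α x : MulAut K) :
    Nat.card ↥(MonoidHom.eqLocus (α * x * α⁻¹).toMonoidHom (MonoidHom.id K))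
      = Nat.card ↥(MonoidHom.eqLocus x.toMonoidHom (MonoidHom.id K)) := by
  apply Nat.card_congr
  refine
    { toFun := fun k => ⟨α⁻¹ k.1, ?_⟩
      invFun := fun k => ⟨α k.1, ?_⟩
      left_inv := fun k => ?_
      right_inv := fun k => ?_ }
  · have hk : (α * x * α⁻¹) k.1 = k.1 := k.2
    show x (α⁻¹ k.1) = α⁻¹ k.1
    have h1 := congrArg (fun y => α⁻¹ y) hk
    simp only [MulAut.mul_apply] at h1
    rw [MulAut.inv_apply, MulEquiv.symm_apply_apply] at h1
    exact h1
  · have hk : x k.1 = k.1 := k.2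
    show (α * x * α⁻¹) (α k.1) = α k.1
    simp only [MulAut.mul_apply]
    rw [MulAut.inv_apply, MulEquiv.symm_apply_apply, hk]
  · apply Subtype.ext
    show α (α⁻¹ k.1) = k.1
    rw [MulAut.inv_apply, MulEquiv.apply_symm_apply]
  · apply Subtype.ext
    show α⁻¹ (α k.1) = k.1
    rw [MulAut.inv_apply, MulEquiv.symm_apply_apply]



/-- A criterion for the failure of local balance in almost simple groups whose socle is a projective symplectic group PSp_{2m}(F) (m ≥ 2, (2m, |F|) ≠ (4, 2)). Let F be a finite field of characteristic r and K the (simple) group in question; let A be a group of automorphisms of K containing all inner automorphisms, and x ∈ A an automorphism of prime order p ≠ r that is not inner-diagonal (not induced by a conformal symplectic matrix). Then the largest normal subgroup of C_A(x) of order prime to p is nontrivial if and only if x is a field automorphism of K (conjugate under Aut(K) to a non-identity standard field automorphism) and p does not divide the number of fixed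 points of x on K. -/
theorem result {F : Type*} [Field F] [Fintype F] {r : ℕ} [Fact r.Prime] [CharP F r] {m : ℕ} (hm : 2 ≤ m) (hs : m = 2 → 3 ≤ Fintype.card F) (hK : IsSimpleGroup (Cfsg.PSp m F)) (A : Subgroup (MulAut (Cfsg.PSp m F))) (hinn : ∀ k : Cfsg.PSp m F, MulAut.conj k ∈ A) {p : ℕ} [Fact p.Prime] (hpr : p ≠ r) (x : MulAut (Cfsg.PSp m F)) (hxA : x ∈ A) (hord : orderOf x = p) (hnot : ¬ Cfsg.IsInnerDiagonalAutPSp x) :
    Cfsg.pPrimeCore p ↥(A ⊓ Subgroup.centralizer {x}) ≠ ⊥ ↔ (Cfsg.IsFieldAutClassPSp x ∧ Nat.Coprime p (Nat.card ↥(MonoidHom.eqLocus x.toMonoidHom (MonoidHom.id (Cfsg.PSp m F))))) := by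
  classical
  have hm1 : 1 ≤ m := by omega
  have hp : p.Prime := Fact.out
  have hc := conj_injective_PSp (F := F) (m := m) r hm1
  have hxp : x ^ p = 1 := by rw [← hord]; exact pow_orderOf_eq_one x
  constructor
  · intro h
    obtain ⟨N, hN⟩ := exists_hasCore p A x h
    -- the structure of `x`
    obtain ⟨g, τ, hx⟩ : ∃ (g : ↥(Cfsg.GSp m F)) (τ : F ≃+* F), x = cjC g * fa τ := by
      by_cases hp2 : p = 2
      · exact aut_PSp hm r (fun hr2 => hpr (hp2.trans hr2.symm)) x
      · exact aut_PSp_of_odd hm r x (hp.odd_of_ne_two hp2) hxp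
    have hτ1 : τ ≠ 1 := by
      rintro rfl
      apply hnot
      rw [hx, map_one, mul_one]
      exact isInnerDiagonal_cjC g
    have hxg : x = gam τ g := hx
    have hτp : τ ^ p = 1 := by
      have h1 := hxp
      rw [hxg, gam_pow] at h1
      exact (cjC_fa_inj r hm1 _ _ h1).1
    have hτord : orderOf τ = p := by
      have h1 : orderOf τ ∣ p := orderOf_dvd_of_pow_eq_one hτp
      rcases (Nat.dvd_prime hp).1 h1 with h2 | h2
      · exact absurd (orderOf_eq_one_iff.1 h2) hτ1
      · exact h2
    obtain ⟨h', hh'⟩ := field_conj_PSp r hm1 τ p hτord hp.pos g (by rw [← hxg]; exact hxp)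
    set α : MulAut (Cfsg.PSp m F) := (cjC h')⁻¹ with hα
    have hαx : α * x * α⁻¹ = fa τ := by
      rw [hxg, hh', hα, inv_inv]
      unfold gam
      rw [map_one, one_mul]
      group
    have hfield : Cfsg.IsFieldAutClassPSp x := by
      refine ⟨α, τ, hτ1, ?_⟩
      rw [hαx]
      exact isStdField_fa τ
    refine ⟨hfield, ?_⟩
    rw [Nat.Prime.coprime_iff_not_dvd hp]
    intro hdvd
    have hN' := hN.conj α
    rw [hαx] at hN'
    have hdvd' : p ∣ Nat.card ↥(MonoidHom.eqLocus (fa τ : MulAut (Cfsg.PSp m F)).toMonoidHom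
        (MonoidHom.id (Cfsg.PSp m F))) := by
      rw [← hαx, card_fix_conj]
      exact hdvd
    exact no_core p r hpr hm τ hτord _ (inn_le_map_conj hinn α) hdvd' _ hN'
  · rintro ⟨⟨α, σ, hσ1, hstd⟩, hcop⟩
    have hαx : α * x * α⁻¹ = fa σ := eq_fa_of_isStdField hstd
    have hx : x = α⁻¹ * fa σ * α := by
      rw [← hαx]
      group
    set u : Fin m ⊕ Fin m → F := Pi.single (Sum.inl ⟨0, hm1⟩) (1 : F) with hu
    have hu0 : u ≠ 0 := e1_ne_zero hm1
    have hT : T u (1 : F) ∈ fixS σ := T_mem_fixS σ (e1_fixed hm1 σ) (map_one σ)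
    have hk1 : (QuotientGroup.mk (T u (1 : F)) : Cfsg.PSp m F) ≠ 1 := by
      intro h0
      have h1 : (QuotientGroup.mk (T u (1 : F)) : Cfsg.PSp m F) = QuotientGroup.mk (T u (0 : F)) := by
        rw [h0, T_zero, QuotientGroup.mk_one]
      have h2 := mk_T_inj r hm1 hu0 hu0 h1
      rw [tv_zero] at h2
      exact tv_ne_one (sData_symp (m := m) (F := F)) hu0 one_ne_zero h2
    have hne : ∃ k : Cfsg.PSp m F, k ≠ 1 ∧ x k = k := by
      refine ⟨α⁻¹ (QuotientGroup.mk (T u (1 : F))), ?_, ?_⟩
      · intro h0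
        apply hk1
        have := congrArg (fun y => α y) h0
        simp only [map_one] at this
        rw [MulAut.inv_apply, MulEquiv.apply_symm_apply] at this
        exact this
      · rw [hx]
        simp only [MulAut.mul_apply]
        have e1 : α (α⁻¹ (QuotientGroup.mk (T u (1 : F)) : Cfsg.PSp m F))
            = QuotientGroup.mk (T u (1 : F)) := by
          rw [MulAut.inv_apply, MulEquiv.apply_symm_apply]
        rw [e1, fa_mk, (mem_fixS σ _).1 hT]
    exact core_ne_bot_of_hasCore p A x
      (hasCore_of_fix hc p A hinn x hne (Nat.Coprime.symm hcop))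


end Cfsg.Agent.S2730
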