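import Cfsg.Statements.S2686
import Cfsg.Agent.Lib.Helper5.LBal.Main
import Cfsg.Agent.S2730

set_option autoImplicit false
open Cfsg

namespace Cfsg.Agent.S2686

open Matrix Cfsg.Agent.Lib.Helper5.SLnAut Cfsg.Agent.Lib.Helper5.SLnBN
  Cfsg.Agent.Lib.Helper5.GraphInv Cfsg.Agent.Lib.Helper5.PSLCoset Cfsg.Agent.Lib.Helper5.PSpBal
  Cfsg.Agent.Lib.Helper5.LBal

/-- A criterion for the failure of local balance in almost simple groups with linear socle. Let F be a finite field of characteristic r and K = PSL_n(F) (n ≥ 2) simple. Let A be a group of automorphisms of K containing all inner automorphisms (an almost simple group with socle K), and β ∈ A an automorphism of prime order p ≠ r that is not inner-diagonal (not induced by conjugation by an invertible matrix). Then the largest normal subgroup of C_A(β) of order prime to p is nontrivial if and only if β is the composite of an inner-diagonal automorphism with the automorphism induced by a field automorphism applied entrywise (β is of field type) and p does not divide the number of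 fixed points of β on K. -/
theorem result
    (F : Type*) [Field F] [Fintype F] (r : ℕ) [Fact r.Prime] [CharP F r] (n : ℕ) (hn : 2 ≤ n)
    (hK : IsSimpleGroup (Matrix.ProjectiveSpecialLinearGroup (Fin n) F))
    (𝒢 : Subgroup (MulAut (Matrix.ProjectiveSpecialLinearGroup (Fin n) F))) (hinn : ∀ k : Matrix.ProjectiveSpecialLinearGroup (Fin n) F, MulAut.conj k ∈ 𝒢)
    (p : ℕ) [Fact p.Prime] (hpr : p ≠ r) (β : MulAut (Matrix.ProjectiveSpecialLinearGroup (Fin n) F)) (hβ : β ∈ 𝒢) (hord : orderOf β = p)
    (hnot : ¬ Cfsg.IsInnerDiagonalAutPSL β) :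
    Cfsg.pPrimeCore p ↥(𝒢 ⊓ Subgroup.centralizer {β}) ≠ ⊥ ↔
      ((∃ γ φ : MulAut (Matrix.ProjectiveSpecialLinearGroup (Fin n) F), Cfsg.IsInnerDiagonalAutPSL γ ∧ Cfsg.IsFieldAutPSL φ ∧ β = φ.trans γ) ∧
        Nat.Coprime p (Nat.card ↥(MonoidHom.eqLocus β.toMonoidHom (MonoidHom.id (Matrix.ProjectiveSpecialLinearGroup (Fin n) F))))) := by
  classical
  haveI : Nontrivial (Fin n) := Fin.nontrivial_iff_two_le.2 hn
  haveI := finite_PSL (ι := Fin n) (F := F)
  have hp : p.Prime := Fact.out
  obtain ⟨f, -, hF⟩ := FiniteField.card F r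
  have hf : 1 ≤ (f : ℕ) := f.pos
  have hc := conj_injective_PSL (ι := Fin n) (F := F)
  constructor
  · intro h
    obtain ⟨N, hN⟩ := exists_hasCore p 𝒢 β h
    rcases aut_shape hf hF hn β with ⟨g, σ, hβs⟩ | ⟨hn3, g, σ, hβs⟩
    · -- field type
      have hσ1 : σ ≠ 1 := by
        rintro rfl
        apply hnot
        rw [hβs]
        exact isInnerDiagonal_semi_one g
      obtain ⟨hσord, h', hh'⟩ := field_shape hn g σ hp (by rw [← hβs]; exact hord) hσ1
      constructor
      · refine ⟨semi g 1, semi 1 σ, isInnerDiagonal_semi_one g, ⟨σ, isStdFieldAut_semi_one σ⟩, ?_⟩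
        rw [hβs]
        apply MulEquiv.ext
        intro x
        show semi g σ x = semi g 1 (semi 1 σ x)
        rw [← MulAut.mul_apply, semi_one_mul_semi, mul_one]
      · rw [Nat.Prime.coprime_iff_not_dvd hp]
        intro hdvd
        set α : MulAut (ProjectiveSpecialLinearGroup (Fin n) F) := (semi h' 1)⁻¹ with hα
        have hαx : α * β * α⁻¹ = semi 1 σ := by
          rw [hβs, hh', hα, inv_inv]
          group
        have hN' := hN.conj α
        rw [hαx] at hN'
        have hdvd' : p ∣ Nat.card ↥(MonoidHom.eqLocus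
            (semi (1 : GL (Fin n) F) σ :
              MulAut (ProjectiveSpecialLinearGroup (Fin n) F)).toMonoidHom
            (MonoidHom.id _)) := by
          rw [← hαx, Cfsg.Agent.S2730.card_fix_conj]
          exact hdvd
        exact no_core_field hf hF hn r σ p hpr hσord hdvd' _ (inn_le_map_conj hinn α) _ hN'
    · -- graph and graph-field type: impossible
      exfalso
      obtain ⟨hp2, hσσ⟩ := graph_like_order hn3 g σ hp (by rw [← hβs]; exact hord)
      subst hp2
      have h2 : (2 : F) ≠ 0 := two_ne_zero_of_char r (Ne.symm hpr)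
      by_cases hσ1 : σ = 1
      · subst hσ1
        have hβg : β = gam g := hβs
        rw [hβg] at hord hN
        obtain ⟨z, hz0, hz⟩ := (orderOf_gam_eq_two_iff hn3 g).1 hord
        rcases symm_or_skew g z hz with hsym | hskew
        · exact no_core_graph_orth hf hF r h2 hn3 g hsym 𝒢 hinn N hN
        · exact no_core_graph_symp hf hF r h2 hn3 g hskew 𝒢 hinn N hN
      · have hσord : orderOf σ = 2 := by
          apply orderOf_eq_prime
          · rw [pow_two]
            exact hσσ
          · exact hσ1
        have hy : (semi g σ * tauBar) ^ 2 = 1 := by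
          rw [← hβs, ← hord]
          exact pow_orderOf_eq_one _
        obtain ⟨h', hh'⟩ := graphfield_conj hn3 g σ hσord hy
        set α : MulAut (ProjectiveSpecialLinearGroup (Fin n) F) := (semi h' 1)⁻¹ with hα
        have hαx : α * β * α⁻¹ = semi 1 σ * tauBar := by
          rw [hβs, hh', hα, inv_inv]
          group
        have hN' := hN.conj α
        rw [hαx] at hN'
        have hx2 : orderOf (semi (1 : GL (Fin n) F) σ * tauBar) = 2 := by
          rw [← hαx, ← hord]
          have := MulEquiv.orderOf_eq (MulAut.conj α) β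
          rw [MulAut.conj_apply] at this
          exact this
        exact no_core_graphfield hf hF r h2 hn3 hσord hx2 _ (inn_le_map_conj hinn α) _ hN'
  · rintro ⟨⟨γ, φ, hγ, ⟨σ, hφ⟩, hβeq⟩, hcop⟩
    obtain ⟨g, rfl⟩ := eq_semi_of_innerDiagonal hγ
    have hφ' : φ = semi (1 : GL (Fin n) F) σ := eq_semi_of_stdField hφ
    subst hφ'
    have hβs : β = semi g σ := by
      rw [hβeq]
      apply MulEquiv.ext
      intro x
      show semi g 1 (semi 1 σ x) = semi g σ x
      rw [← MulAut.mul_apply, semi_one_mul_semi, mul_one]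
    have hσ1 : σ ≠ 1 := by
      rintro rfl
      apply hnot
      rw [hβs]
      exact isInnerDiagonal_semi_one g
    obtain ⟨hσord, h', hh'⟩ := field_shape hn g σ hp (by rw [← hβs]; exact hord) hσ1
    obtain ⟨i0, hi0⟩ : ∃ i0 : Fin n, i0 = ⟨0, by omega⟩ := ⟨_, rfl⟩
    obtain ⟨i1, hi1⟩ : ∃ i1 : Fin n, i1 = ⟨1, by omega⟩ := ⟨_, rfl⟩
    have h01 : i0 ≠ i1 := by rw [hi0, hi1]; simp
    have hne : ∃ k : ProjectiveSpecialLinearGroup (Fin n) F, k ≠ 1 ∧ β k = k := by
      refine ⟨semi h' 1 (piN (Matrix.SpecialLinearGroup.transvection h01 (1 : F))), ?_, ?_⟩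
      · intro h0
        apply piN_transvection_ne_one (F := F) h01
        have := congrArg (fun y => (semi h' (1 : F ≃+* F))⁻¹ y) h0
        simp only [map_one] at this
        rw [MulAut.inv_apply, MulEquiv.symm_apply_apply] at this
        exact this
      · rw [hβs, hh']
        simp only [MulAut.mul_apply]
        rw [MulAut.inv_apply, MulEquiv.symm_apply_apply]
        congr 1
        exact P0L_le_fix σ (piN_mem_P0L σ (transvection_mem_fixSL σ h01 (map_one σ)))
    exact core_ne_bot_of_hasCore p 𝒢 β
      (hasCore_of_fix hc p 𝒢 hinn β hne (Nat.Coprime.symm hcop))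

end Cfsg.Agent.S2686
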