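import Cfsg.Statements.S2687
import Cfsg.Agent.Lib.Helper5.UBal.GraphV6
import Cfsg.Agent.Lib.Helper5.UBal.GraphV7
import Cfsg.Agent.Lib.Helper5.UBal.FieldU9
import Cfsg.Agent.S2730
-- import your own Cfsg.Agent.* helpers here

set_option autoImplicit false
open Cfsg

namespace Cfsg.Agent.S2687

open Matrix Cfsg.Agent.Lib.Helper5.PSLCoset Cfsg.Agent.Lib.Helper5.PSUAut
  Cfsg.Agent.Lib.Helper5.UAut Cfsg.Agent.Lib.Helper5.PSUField Cfsg.Agent.Lib.Helper5.PSpBal
  Cfsg.Agent.Lib.Helper5.UBal

/-- A criterion for the failure of local balance in almost simple groups with unitary socle. Let F be a finite field of characteristic r with q² elements and K = PSU_n(q) (n ≥ 3, the central quotient of the determinant-one isometries of the standard Hermitian form) simple. Let A be a group of automorphisms of K containing all inner automorphisms, and β ∈ A an automorphism of prime order p ≠ r that is not inner-diagonal (not induced by conjugation by a matrix of the general unitary group). Then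 the largest normal subgroup of C_A(β) of order prime to p is nontrivial if and only if β is the composite of an inner-diagonal automorphism with the automorphism induced by a field automorphism of F applied entrywise and p does not divide the number of fixed points of β on K. -/
theorem result
    (F : Type*) [Field F] [Fintype F] (r : ℕ) [Fact r.Prime] [CharP F r] (q : ℕ) (hF : Fintype.card F = q ^ 2)
    (n : ℕ) (hn : 3 ≤ n) (hK : IsSimpleGroup (Cfsg.PSU n F q))
    (𝒢 : Subgroup (MulAut (Cfsg.PSU n F q))) (hinn : ∀ k : Cfsg.PSU n F q, MulAut.conj k ∈ 𝒢)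
    (p : ℕ) [Fact p.Prime] (hpr : p ≠ r) (β : MulAut (Cfsg.PSU n F q)) (hβ : β ∈ 𝒢) (hord : orderOf β = p)
    (hnot : ¬ Cfsg.IsInnerDiagonalAutPSU β) :
    Cfsg.pPrimeCore p ↥(𝒢 ⊓ Subgroup.centralizer {β}) ≠ ⊥ ↔
      ((∃ γ φ : MulAut (Cfsg.PSU n F q), Cfsg.IsInnerDiagonalAutPSU γ ∧ (∃ σ : F ≃+* F, Cfsg.IsFieldAutPSUOf σ φ) ∧ β = φ.trans γ) ∧
        Nat.Coprime p (Nat.card ↥(MonoidHom.eqLocus β.toMonoidHom (MonoidHom.id (Cfsg.PSU n F q))))) := by
  classical
  haveI := finite_PSU (n := n) (F := F) (q := q)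
  have hp : p.Prime := Fact.out
  obtain ⟨f, hq⟩ : ∃ f : ℕ, q = r ^ f := by
    obtain ⟨m, hrp, hm⟩ := FiniteField.card F r
    rw [hF] at hm
    have h1 : q ∣ r ^ (m : ℕ) := ⟨q, by rw [← hm, sq]⟩
    obtain ⟨j, _, hj⟩ := (Nat.dvd_prime_pow hrp).1 h1
    exact ⟨j, hj⟩
  have h32 := not_32_of_simple hF hn hK
  have hc := conj_injective_PSU (n := n) (F := F) (q := q) hF hn
  obtain ⟨g, τ, hβs⟩ := aut_PSU hq hF hn h32 β
  have hτ1 : τ ≠ 1 := by
    rintro rfl
    apply hnot
    rw [hβs, map_one, mul_one]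
    exact isInnerDiagonal_cjC hF g
  have hfirst : ∃ γ φ : MulAut (Cfsg.PSU n F q), Cfsg.IsInnerDiagonalAutPSU γ ∧
      (∃ σ : F ≃+* F, Cfsg.IsFieldAutPSUOf σ φ) ∧ β = φ.trans γ :=
    ⟨cjC g, fa τ, isInnerDiagonal_cjC hF g, ⟨τ, isFieldAut_fa τ⟩, by rw [hβs]; rfl⟩
  have hβg : β = gamU τ g := hβs
  have hpow : (gamU τ g) ^ p = 1 := by
    rw [← hβg, ← hord]
    exact pow_orderOf_eq_one _
  have hτp : τ ^ p = 1 := by
    have h1 := hpow
    rw [gamU_pow] at h1
    exact (faithful hF hn _ _ h1).1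
  have hτord : orderOf τ = p := orderOf_eq_prime hτp hτ1
  rcases hp.eq_two_or_odd' with rfl | hodd
  · -- the involutory case: there is never a core
    have hr2 : r ≠ 2 := fun h => hpr h.symm
    obtain ⟨σ₀, hσ₀, hσ₀q⟩ := Cfsg.Agent.Lib.Helper2.HermDecomp.exists_sigma hF
    have hτσ : τ = σ₀ := ringAut_invol_unique τ σ₀ hτord hσ₀
    subst hτσ
    have hord' : orderOf (gamU τ g) = 2 := by rw [← hβg]; exact hord
    have hnc : ∀ N, ¬ HasCore 2 𝒢 β N := by
      intro N hN
      rw [hβg] at hN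
      exact no_core_graph_U hF hn h32 r hq hr2 τ hτord hσ₀q g hord' 𝒢 hinn N hN
    constructor
    · intro h
      obtain ⟨N, hN⟩ := exists_hasCore 2 𝒢 β h
      exact absurd hN (hnc N)
    · rintro ⟨-, hcop⟩
      exfalso
      haveI : Nontrivial (Cfsg.PSU n F q) := hK.toNontrivial
      have hβ2 : β ^ 2 = 1 := by
        rw [← hord]
        exact pow_orderOf_eq_one _
      have hne := exists_fixed_ne_one_of_sq hc β hβ2
      exact hnc _ (hasCore_of_fix hc 2 𝒢 hinn β hne (Nat.Coprime.symm hcop))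
  · -- the field case
    obtain ⟨h, hh⟩ := field_conj_PSU hq hF hn τ p hτord hodd g hpow
    have hg1 : gamU τ (1 : ↥(CU n F q)) = fa τ := by
      unfold gamU
      rw [map_one, one_mul]
    rw [hg1] at hh
    obtain ⟨α, hα⟩ : ∃ α : MulAut (Cfsg.PSU n F q), α = (cjC h)⁻¹ := ⟨_, rfl⟩
    have hαx : α * β * α⁻¹ = fa τ := by
      rw [hβg, hh, hα, inv_inv]
      group
    constructor
    · intro hcore
      obtain ⟨N, hN⟩ := exists_hasCore p 𝒢 β hcore
      refine ⟨hfirst, ?_⟩
      rw [Nat.Prime.coprime_iff_not_dvd hp]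
      intro hdvd
      have hN' := hN.conj α
      rw [hαx] at hN'
      have hdvd' : p ∣ Nat.card ↥(MonoidHom.eqLocus
          (fa τ : MulAut (Cfsg.PSU n F q)).toMonoidHom (MonoidHom.id _)) := by
        rw [← hαx, Cfsg.Agent.S2730.card_fix_conj]
        exact hdvd
      exact no_core_field_U hF hn h32 r hq τ p hpr hτord hodd hdvd' _
        (inn_le_map_conj hinn α) _ hN'
    · rintro ⟨-, hcop⟩
      obtain ⟨k, hk1, hk⟩ := exists_fixed_ne_one_field hF hn r hq τ p hτord hodd
      have hne : ∃ k : Cfsg.PSU n F q, k ≠ 1 ∧ β k = k := by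
        refine ⟨cjC h k, ?_, ?_⟩
        · intro h0
          apply hk1
          have h1 := congrArg (fun y => (cjC h)⁻¹ y) h0
          simp only [map_one] at h1
          rw [MulAut.inv_apply, MulEquiv.symm_apply_apply] at h1
          exact h1
        · rw [hβg, hh]
          simp only [MulAut.mul_apply]
          rw [MulAut.inv_apply, MulEquiv.symm_apply_apply, hk]
      exact core_ne_bot_of_hasCore p 𝒢 β
        (hasCore_of_fix hc p 𝒢 hinn β hne (Nat.Coprime.symm hcop))

end Cfsg.Agent.S2687
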