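import Cfsg.Statements.S2697
import Cfsg.Agent.Lib.Helper5.PSLCoset6

set_option autoImplicit false
open Cfsg

namespace Cfsg.Agent.S2697


open Matrix Matrix.SpecialLinearGroup Cfsg.Agent.Lib.Helper5.SLnAut Cfsg.Agent.Lib.Helper5.SLnBN
  Cfsg.Agent.Lib.Helper5.PSLCoset

theorem transfer {G : Type*} [Group G] (N : Subgroup G) (α x δ H : G)
    (hN : α⁻¹ * H * α ∈ N)
    (h : α * (δ * x) * α⁻¹ = H * (α * x * α⁻¹) * H⁻¹) : Cfsg.IsConjUnder N x (δ * x) := by
  refine ⟨α⁻¹ * H * α, hN, ?_⟩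
  have h1 : δ * x = α⁻¹ * (α * (δ * x) * α⁻¹) * α := by group
  rw [h1, h]
  group

theorem orderOf_conj' {G : Type*} [Group G] (α x : G) : orderOf (α * x * α⁻¹) = orderOf x := by
  rw [← MulAut.conj_apply]
  exact MulEquiv.orderOf_eq _ x


/-- Let T = PSL_n(F) be simple over a finite field (n ≥ 2; |F| ≥ 4 when n = 2) and let x be a field automorphism or a graph-field automorphism of T of prime order r. Then an element y of the coset Inndiag(T)·x (that is, y = δ x with δ in the inner-diagonal group, the image of PGL_n(F)) has order r if and only if y is conjugate to x by an element of Inndiag(T). -/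
theorem result {F : Type*} [Field F] [Fintype F] {p f : ℕ} [Fact p.Prime] (hF : Fintype.card F = p ^ f) (hf : 1 ≤ f) {n : ℕ} (hn : 2 ≤ n) (hs : n = 2 → 4 ≤ Fintype.card F) (x δ : MulAut (Matrix.ProjectiveSpecialLinearGroup (Fin n) F)) (hx : Cfsg.IsFieldAutClassPSL x ∨ Cfsg.IsGraphFieldAutClassPSL x) {r : ℕ} (hr : r.Prime) (hxr : orderOf x = r) (hδ : δ ∈ Cfsg.inndiagPSL n F) :
    orderOf (δ * x) = r ↔ Cfsg.IsConjUnder (Cfsg.inndiagPSL n F) x (δ * x) := by
  have : Nontrivial (Fin n) := Fin.nontrivial_iff_two_le.2 hn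
  constructor
  swap
  · rintro ⟨h, -, hh⟩
    rw [hh, orderOf_conj', hxr]
  intro hy
  have hr0 : 0 < r := hr.pos
  rcases hx with ⟨α, σ, hσ1, hstd⟩ | ⟨hn3, α, φ, γ, σ, hσ1, hφ, hγ, hαx⟩
  · -- field case
    have hx₀ : α * x * α⁻¹ = semi (1 : GL (Fin n) F) σ := eq_semi_of_stdField hstd
    obtain ⟨g, hg⟩ := mem_inndiag_iff.1 (conj_mem_inndiag hf hF hn α hδ)
    have hy₀ : α * (δ * x) * α⁻¹ = semi g σ := by
      have : α * (δ * x) * α⁻¹ = (α * δ * α⁻¹) * (α * x * α⁻¹) := by group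
      rw [this, hg, hx₀, semi_one_mul_semi, mul_one]
    haveI : Fact r.Prime := ⟨hr⟩
    have hσr : orderOf σ = r := by
      apply orderOf_eq_prime_iff.2
      refine ⟨?_, hσ1⟩
      have h1 : (semi (1 : GL (Fin n) F) σ) ^ r = 1 := by
        rw [← hx₀, ← hxr, ← orderOf_conj' α x]
        exact pow_orderOf_eq_one _
      rw [semi_one_pow, ← semi_one_one] at h1
      exact (semi_eq_semi _ _ _ _ h1).1
    have hpow : (semi g σ) ^ r = 1 := by
      rw [← hy₀, ← hy, ← orderOf_conj' α (δ * x)]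
      exact pow_orderOf_eq_one _
    obtain ⟨h, hh⟩ := field_conj hn g σ r hσr hr0 hpow
    apply transfer (Cfsg.inndiagPSL n F) α x δ (semi h (1 : F ≃+* F))
      (conj_mem_inndiag' hf hF hn α (semi_mem_inndiag h))
    rw [hy₀, hx₀, hh]
  · -- graph-field case
    have hx₀ : α * x * α⁻¹ = semi (1 : GL (Fin n) F) σ * tauBar := by
      rw [hαx, eq_semi_of_stdField hφ, eq_tauBar_of_invTranspose hγ]
    obtain ⟨g, hg⟩ := mem_inndiag_iff.1 (conj_mem_inndiag hf hF hn α hδ)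
    have hy₀ : α * (δ * x) * α⁻¹ = semi g σ * tauBar := by
      have : α * (δ * x) * α⁻¹ = (α * δ * α⁻¹) * (α * x * α⁻¹) := by group
      rw [this, hg, hx₀, ← mul_assoc, semi_one_mul_semi, mul_one]
    have hord : orderOf (semi (1 : GL (Fin n) F) σ * tauBar) = r := by
      rw [← hx₀, orderOf_conj', hxr]
    obtain ⟨hr2, hσ2⟩ := graphfield_order hn3 σ hσ1 hr hord
    have hpow : (semi g σ * tauBar) ^ 2 = 1 := by
      rw [← hy₀, ← hr2, ← hy, ← orderOf_conj' α (δ * x)]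
      exact pow_orderOf_eq_one _
    obtain ⟨h, hh⟩ := graphfield_conj hn3 g σ hσ2 hpow
    apply transfer (Cfsg.inndiagPSL n F) α x δ (semi h (1 : F ≃+* F))
      (conj_mem_inndiag' hf hF hn α (semi_mem_inndiag h))
    rw [hy₀, hx₀, hh]

end Cfsg.Agent.S2697
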