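import Cfsg.Statements.S2699
import Cfsg.Agent.Lib.Helper5.GraphOdd1
import Cfsg.Agent.Lib.Helper5.GraphOdd5
import Cfsg.Agent.Lib.Helper5.Char2Form

set_option autoImplicit false
open Cfsg

namespace Cfsg.Agent.S2699


open Matrix Module Matrix.SpecialLinearGroup Cfsg.Agent.Lib.Helper5.SLnAut
  Cfsg.Agent.Lib.Helper5.SLnBN Cfsg.Agent.Lib.Helper5.PSLCoset Cfsg.Agent.Lib.Helper5.QuadGlue
  Cfsg.Agent.Lib.Helper5.QuadEmbed Cfsg.Agent.Lib.Helper5.GraphInv Cfsg.Agent.S2703
  Cfsg.Agent.S2700 Cfsg.Agent.Lib.Helper5.GraphOdd QuadraticMap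

universe u

section
variable {F : Type u} [Field F] [Fintype F] {n m : ℕ}

/-- in odd dimension an involutory graph automorphism comes from a symmetric matrix -/
theorem sym_of_order_two (hn : 3 ≤ n) (hnm : n = 2 * m + 1) (c : GL (Fin n) F)
    (h : orderOf (gam c) = 2) :
    (c : Matrix (Fin n) (Fin n) F)ᵀ = c := by
  have : Nontrivial (Fin n) := Fin.nontrivial_iff_two_le.2 (by omega)
  obtain ⟨z, hz0, hz⟩ := (orderOf_gam_eq_two_iff hn c).1 h
  rcases sq_eq_one_of_smul_transpose c z hz with rfl | rfl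
  · rw [one_smul] at hz
    exact hz.symm
  · have h1 : (c : Matrix (Fin n) (Fin n) F).det = -(c : Matrix (Fin n) (Fin n) F).det := by
      have hpow : (-1 : F) ^ n = -1 := Odd.neg_one_pow ⟨m, hnm⟩
      conv_lhs => rw [hz, Matrix.det_smul, Matrix.det_transpose, Fintype.card_fin, hpow]
      ring
    have h2 : (2 : F) * (c : Matrix (Fin n) (Fin n) F).det = 0 := by linear_combination h1
    rcases mul_eq_zero.1 h2 with h3 | h3
    · -- characteristic two: `-1 = 1`
      have h4 : (-1 : F) = 1 := by linear_combination -h3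
      rw [h4, one_smul] at hz
      exact hz.symm
    · exact absurd h3 (det_ne_zero_GL c)

theorem odd_case (hodd : Odd (Fintype.card F)) (hn : 3 ≤ n) (hnm : n = 2 * m + 1)
    (c c' : GL (Fin n) F) (hc : (c : Matrix (Fin n) (Fin n) F)ᵀ = c)
    (hc' : (c' : Matrix (Fin n) (Fin n) F)ᵀ = c') :
    Nonempty (↥(Cfsg.inndiagPSL n F ⊓ Subgroup.centralizer {gam c}) ≃*
      Cfsg.PGO F (Cfsg.quadFormOdd m F)) ∧
      Cfsg.IsConjUnder (Cfsg.inndiagPSL n F) (gam c) (gam c') := by
  have h2 : (2 : F) ≠ 0 := two_ne_zero_of_odd hodd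
  have hn2 : 2 ≤ n := by omega
  have : Nontrivial (Fin n) := Fin.nontrivial_iff_two_le.2 hn2
  obtain ⟨ν, E, hν, hE⟩ := odd_classify hodd hnm _ hc (det_ne_zero_GL c)
  obtain ⟨ν', E', hν', hE'⟩ := odd_classify hodd hnm _ hc' (det_ne_zero_GL c')
  constructor
  · obtain ⟨e₀⟩ := centralizer_gam_sym hn2 h2 c hc
    obtain ⟨e₁⟩ := pgo_congr_of_equiv E
      (fun v : Fin n → F => v ⬝ᵥ ((c : Matrix (Fin n) (Fin n) F) *ᵥ v))
      (fun w => ν * Cfsg.quadFormOdd m F w) hE
    obtain ⟨e₂⟩ := pgo_smul (Cfsg.quadFormOdd m F) ν hν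
    exact ⟨(e₀.trans e₁).trans e₂⟩
  · have hL : ∀ v, matQ (c' : Matrix (Fin n) (Fin n) F) ((E.trans E'.symm) v) =
        matQ ((ν' / ν) • (c : Matrix (Fin n) (Fin n) F)) v := by
      intro v
      rw [matQ_smul, ← hE', ← hE, LinearEquiv.trans_apply, LinearEquiv.apply_symm_apply]
      field_simp
    have hsym : ((ν' / ν) • (c : Matrix (Fin n) (Fin n) F))ᵀ =
        (ν' / ν) • (c : Matrix (Fin n) (Fin n) F) := by
      rw [Matrix.transpose_smul, hc]
    have h3 := congr_of_isometry_sym h2 _ _ hsym hc' (E.trans E'.symm) hL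
    exact isConj_of_congr_smul c c' (glOfEquiv (E.trans E'.symm)) (ν' / ν)
      (div_ne_zero hν' hν) h3

end

section even
variable {F : Type u} [Field F] [Fintype F] [CharP F 2] {n m : ℕ}

/-- the symmetric form `x₀y₀ + polar` as a bilinear form -/
noncomputable def B0form (m : ℕ) (F : Type u) [Field F] [CharP F 2] :
    LinearMap.BilinForm F (II m → F) :=
  LinearMap.mk₂ F (fun u v => B0 u v) (fun u u' v => B0_add_left u u' v)
    (fun t u v => B0_smul_left t u v)
    (fun u v v' => by rw [B0_comm, B0_add_left, B0_comm v, B0_comm v'])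
    (fun t u v => by rw [B0_comm, B0_smul_left, B0_comm]; rfl)

theorem B0form_apply (u v : II m → F) : B0form m F u v = B0 u v := rfl

theorem exists_isometry_B0 (hnm : n = 2 * m + 1) (c : GL (Fin n) F)
    (hc : (c : Matrix (Fin n) (Fin n) F)ᵀ = c) :
    ∃ L : (Fin n → F) ≃ₗ[F] (II m → F), ∀ u v, B0 (L u) (L v) =
      u ⬝ᵥ ((c : Matrix (Fin n) (Fin n) F) *ᵥ v) := by
  classical
  have hsq : ∀ a : F, ∃ b : F, b * b = a := by
    intro a
    obtain ⟨b, hb⟩ := exists_sqrt a
    exact ⟨b, by rw [← hb, pow_two]⟩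
  set B : LinearMap.BilinForm F (Fin n → F) := Matrix.toBilin' (c : Matrix (Fin n) (Fin n) F)
    with hBdef
  have hB : ∀ u v, B u v = u ⬝ᵥ ((c : Matrix (Fin n) (Fin n) F) *ᵥ v) :=
    fun u v => Matrix.toBilin'_apply' _ u v
  have hsymm : ∀ x y, B x y = B y x := by
    intro x y
    rw [hB, hB, Matrix.dotProduct_mulVec, ← Matrix.mulVec_transpose, hc, dotProduct_comm]
  have hnd : ∀ x, (∀ y, B x y = 0) → x = 0 := by
    intro x hx
    apply Matrix.eq_zero_of_mulVec_eq_zero (det_ne_zero_GL c)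
    funext i
    have h := hx (Pi.single i 1)
    rw [hsymm, hB, single_one_dotProduct] at h
    exact h
  have hna : ¬ ∀ x, B x x = 0 := by
    intro halt
    obtain ⟨k, b, hk, -⟩ := Cfsg.Agent.Lib.Helper5.AltForm.exists_symplectic_basis
      (B := B) halt hnd
    rw [Module.finrank_fin_fun] at hk
    omega
  have hsymm' : ∀ x y, B0form m F x y = B0form m F y x := fun x y => B0_comm x y
  have hnd' : ∀ x, (∀ y, B0form m F x y = 0) → x = 0 := fun x hx => B0_nondeg x hx
  have hna' : ¬ ∀ x, B0form m F x x = 0 := by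
    intro h
    have := h (e0 m F)
    rw [B0form_apply, B0_e0_e0] at this
    exact one_ne_zero this
  have hdim : finrank F (Fin n → F) = finrank F (II m → F) := by
    rw [Module.finrank_fin_fun, Module.finrank_fintype_fun_eq_card, Fintype.card_sum,
      Fintype.card_sum, Fintype.card_fin, Fintype.card_unit, hnm]
    ring
  obtain ⟨L, hL⟩ := Cfsg.Agent.Lib.Helper5.Char2Form.exists_isometry_nondeg hsq B (B0form m F)
    hsymm hsymm' hnd hnd' hdim (by tauto)
  exact ⟨L, fun u v => by rw [← hB, ← hL]; rfl⟩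

theorem even_case (hn : 3 ≤ n) (hnm : n = 2 * m + 1)
    (c c' : GL (Fin n) F) (hc : (c : Matrix (Fin n) (Fin n) F)ᵀ = c)
    (hc' : (c' : Matrix (Fin n) (Fin n) F)ᵀ = c') :
    Nonempty (↥(Cfsg.inndiagPSL n F ⊓ Subgroup.centralizer {gam c}) ≃*
      Cfsg.PGO F (Cfsg.quadFormOdd m F)) ∧
      Cfsg.IsConjUnder (Cfsg.inndiagPSL n F) (gam c) (gam c') := by
  have hn2 : 2 ≤ n := by omega
  have hm : 1 ≤ m := by omega
  have : Nontrivial (Fin n) := Fin.nontrivial_iff_two_le.2 hn2
  obtain ⟨L, hL⟩ := exists_isometry_B0 hnm c hc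
  obtain ⟨L', hL'⟩ := exists_isometry_B0 hnm c' hc'
  constructor
  · obtain ⟨e₀⟩ := centralizer_gam_bil hn2 c
    obtain ⟨e₁⟩ := bilSim_congr L
      (fun u v : Fin n → F => u ⬝ᵥ ((c : Matrix (Fin n) (Fin n) F) *ᵥ v))
      (B0 (m := m) (F := F)) hL
    obtain ⟨e₂⟩ := projQuot_SB (F := F) hm
    exact ⟨(e₀.trans e₁).trans e₂⟩
  · apply isConj_of_congr c c' (glOfEquiv (L.trans L'.symm))
    apply congr_of_isometry_bil
    intro u v
    rw [← hL', ← hL, LinearEquiv.trans_apply, LinearEquiv.trans_apply,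
      LinearEquiv.apply_symm_apply, LinearEquiv.apply_symm_apply]

end even



/-- Let T = PSL_n(F) over the field with p^f elements with n ≥ 3 odd, n = 2m + 1, and G = Inndiag(T) the image of PGL_n(F). Every involutory graph automorphism γ of T (an inner-diagonal automorphism followed by inverse-transpose, of order 2) has centralizer C_G(γ) isomorphic to the projective conformal orthogonal group of the form x₀² + Σ xᵢ yᵢ in dimension n (for q even this group is isomorphic to Sp_{n−1}(q)), and any two involutory graph automorphisms are G-conjugate. -/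
theorem result {F : Type*} [Field F] [Fintype F] {p f : ℕ} [Fact p.Prime] (hF : Fintype.card F = p ^ f) (hf : 1 ≤ f) {n : ℕ} (hn : 3 ≤ n) {m : ℕ} (hnm : n = 2 * m + 1) (γ γ' : MulAut (Matrix.ProjectiveSpecialLinearGroup (Fin n) F)) (hγ : Cfsg.IsGraphAutClassPSL γ) (hγ2 : orderOf γ = 2) (hγ' : Cfsg.IsGraphAutClassPSL γ') (hγ'2 : orderOf γ' = 2) :
    Nonempty (↥(Cfsg.inndiagPSL n F ⊓ Subgroup.centralizer {γ}) ≃* Cfsg.PGO F (Cfsg.quadFormOdd m F)) ∧ Cfsg.IsConjUnder (Cfsg.inndiagPSL n F) γ γ' := by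
  obtain ⟨c, rfl⟩ := exists_gam_of_isGraph hγ
  obtain ⟨c', rfl⟩ := exists_gam_of_isGraph hγ'
  have hc := sym_of_order_two hn hnm c hγ2
  have hc' := sym_of_order_two hn hnm c' hγ'2
  by_cases hodd : Odd (Fintype.card F)
  · exact odd_case hodd hn hnm c c' hc hc'
  · have h2 : ringChar F = 2 := by
      rw [FiniteField.even_card_iff_char_two]
      rw [Nat.not_odd_iff_even] at hodd
      exact Nat.even_iff.1 hodd
    haveI : CharP F 2 := ringChar.of_eq h2
    exact even_case hn hnm c c' hc hc'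


end Cfsg.Agent.S2699
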