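import Cfsg.Statements.S2701
import Cfsg.Agent.S2700
import Cfsg.Agent.Lib.Helper5.Char2Form
import Cfsg.Agent.Lib.Helper1.SpCard
import Cfsg.Agent.Lib.Helper2.SpIsom

set_option autoImplicit false
open Cfsg

namespace Cfsg.Agent.S2701


open Matrix Module Cfsg.Agent.Lib.Helper5.GraphInv Cfsg.Agent.S2703 Cfsg.Agent.S2700
  Cfsg.Agent.Lib.Helper2.Symp Cfsg.Agent.Lib.Helper1.SpBasic

section PQ
variable {ι : Type} [Fintype ι] [DecidableEq ι] {F : Type*} [Field F]

/-- The isometry group of a two-argument form inside the general linear group. -/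
def isomGL (f : (ι → F) → (ι → F) → F) : Subgroup (GL ι F) :=
  Cfsg.preserving (Units.coeHom (Matrix ι ι F)) f

theorem mem_isomGL (f : (ι → F) → (ι → F) → F) (g : GL ι F) :
    g ∈ isomGL f ↔ ∀ u v, f ((g : Matrix ι ι F) *ᵥ u) ((g : Matrix ι ι F) *ᵥ v) = f u v :=
  Iff.rfl

theorem isomGL_le_sim (f : (ι → F) → (ι → F) → F) :
    isomGL f ≤ Cfsg.Geo.similarityGroup f := by
  intro g hg
  refine ⟨1, fun u v => ?_⟩
  rw [Units.val_one, one_mul]
  exact hg u v

/-- A non-zero scalar matrix as an element of the general linear group. -/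
def scalGL (a : F) (ha : a ≠ 0) : GL ι F :=
  ⟨a • 1, a⁻¹ • 1, by
    rw [Matrix.smul_mul, Matrix.mul_smul, Matrix.one_mul, smul_smul, mul_inv_cancel₀ ha, one_smul],
    by
    rw [Matrix.smul_mul, Matrix.mul_smul, Matrix.one_mul, smul_smul, inv_mul_cancel₀ ha, one_smul]⟩

theorem scalGL_mulVec (a : F) (ha : a ≠ 0) (v : ι → F) :
    ((scalGL a ha : GL ι F) : Matrix ι ι F) *ᵥ v = a • v := by
  show (a • (1 : Matrix ι ι F)) *ᵥ v = a • v
  rw [Matrix.smul_mulVec, Matrix.one_mulVec]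

theorem scalGL_mem (a : F) (ha : a ≠ 0) : (scalGL a ha : GL ι F) ∈ Cfsg.Geo.scalars ι F := by
  rw [Cfsg.Geo.mem_scalars_iff]
  exact ⟨Units.mk0 a ha, rfl⟩

theorem projQuot_sim_equiv [CharP F 2] (hsq : ∀ a : F, ∃ b : F, b * b = a)
    (f : (ι → F) → (ι → F) → F)
    (hf : ∀ (a : F) (u v : ι → F), f (a • u) (a • v) = a * a * f u v)
    (hne : ∃ u v, f u v ≠ 0) :
    Nonempty (Cfsg.projQuot (Cfsg.Geo.similarityGroup f) ≃* ↥(isomGL f)) := by
  obtain ⟨φ, hφ⟩ : ∃ φ : ↥(isomGL f) →* Cfsg.projQuot (Cfsg.Geo.similarityGroup f),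
      φ = (QuotientGroup.mk' ((Cfsg.Geo.scalars ι F).subgroupOf (Cfsg.Geo.similarityGroup f))).comp
        (Subgroup.inclusion (isomGL_le_sim f)) := ⟨_, rfl⟩
  have hinj : Function.Injective φ := by
    rw [injective_iff_map_eq_one]
    intro g hg
    rw [hφ, MonoidHom.comp_apply, QuotientGroup.mk'_apply, QuotientGroup.eq_one_iff,
      Subgroup.mem_subgroupOf, Subgroup.coe_inclusion, Cfsg.Geo.mem_scalars_iff] at hg
    obtain ⟨c, hc⟩ := hg
    obtain ⟨u, v, huv⟩ := hne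
    have h1 := g.2 u v
    change f ((g.1 : Matrix ι ι F) *ᵥ u) ((g.1 : Matrix ι ι F) *ᵥ v) = f u v at h1
    rw [hc, Matrix.smul_mulVec, Matrix.one_mulVec, Matrix.smul_mulVec, Matrix.one_mulVec, hf] at h1
    have h2 : (c : F) * c = 1 := by
      have : ((c : F) * c - 1) * f u v = 0 := by rw [sub_mul, h1, one_mul, sub_self]
      rcases mul_eq_zero.1 this with h | h
      · exact sub_eq_zero.1 h
      · exact absurd h huv
    have h3 : (c : F) = 1 := by
      have h4 : ((c : F) + 1) * ((c : F) + 1) = 0 := by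
        have := CharTwo.add_self_eq_zero (c : F)
        have h5 := CharTwo.add_self_eq_zero (1 : F)
        linear_combination h2 + this + h5
      have h5 : (c : F) + 1 = 0 := mul_self_eq_zero.1 h4
      have h6 := CharTwo.add_self_eq_zero (1 : F)
      linear_combination h5 - h6
    apply Subtype.ext
    apply Units.ext
    rw [hc, h3, one_smul]
    rfl
  have hsurj : Function.Surjective φ := by
    intro x
    obtain ⟨⟨g, hg⟩, rfl⟩ := QuotientGroup.mk_surjective x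
    obtain ⟨c, hc⟩ := hg
    obtain ⟨l, hl⟩ := hsq (c : F)
    have hl0 : l ≠ 0 := by
      intro h0
      rw [h0, mul_zero] at hl
      exact c.ne_zero hl.symm
    have hmem : g * scalGL l⁻¹ (inv_ne_zero hl0) ∈ isomGL f := by
      intro u v
      change f (((g * scalGL l⁻¹ (inv_ne_zero hl0) : GL ι F) : Matrix ι ι F) *ᵥ u)
        (((g * scalGL l⁻¹ (inv_ne_zero hl0) : GL ι F) : Matrix ι ι F) *ᵥ v) = f u v
      rw [Units.val_mul, ← Matrix.mulVec_mulVec, ← Matrix.mulVec_mulVec, scalGL_mulVec,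
        scalGL_mulVec, Matrix.mulVec_smul, Matrix.mulVec_smul, hf, hc, ← hl]
      field_simp
    refine ⟨⟨_, hmem⟩, ?_⟩
    rw [hφ, MonoidHom.comp_apply, QuotientGroup.mk'_apply]
    apply QuotientGroup.eq.2
    rw [Subgroup.mem_subgroupOf]
    show ((g * scalGL l⁻¹ (inv_ne_zero hl0))⁻¹ * g : GL ι F) ∈ Cfsg.Geo.scalars ι F
    have : ((g * scalGL l⁻¹ (inv_ne_zero hl0))⁻¹ * g : GL ι F) =
        (scalGL l⁻¹ (inv_ne_zero hl0))⁻¹ := by group
    rw [this]
    exact Subgroup.inv_mem _ (scalGL_mem _ _)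
  exact ⟨(MulEquiv.ofBijective φ ⟨hinj, hsurj⟩).symm⟩

end PQ

section sp
variable {F : Type*} [Field F] {m : ℕ}

theorem coe_mul_coe_inv (A : Matrix.symplecticGroup (Fin m) F) :
    (A : Matrix (Fin m ⊕ Fin m) (Fin m ⊕ Fin m) F) *
      ((A⁻¹ : Matrix.symplecticGroup (Fin m) F) : Matrix (Fin m ⊕ Fin m) (Fin m ⊕ Fin m) F) = 1 := by
  rw [← Submonoid.coe_mul, mul_inv_cancel, Submonoid.coe_one]

theorem coe_inv_mul_coe (A : Matrix.symplecticGroup (Fin m) F) :
    ((A⁻¹ : Matrix.symplecticGroup (Fin m) F) : Matrix (Fin m ⊕ Fin m) (Fin m ⊕ Fin m) F) *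
      (A : Matrix (Fin m ⊕ Fin m) (Fin m ⊕ Fin m) F) = 1 := by
  rw [← Submonoid.coe_mul, inv_mul_cancel, Submonoid.coe_one]

theorem isomGL_symp_equiv :
    Nonempty (↥(isomGL (Cfsg.sympForm m F)) ≃* ↥(Matrix.symplecticGroup (Fin m) F)) := by
  obtain ⟨φ, hφ⟩ : ∃ φ : ↥(isomGL (Cfsg.sympForm m F)) →* ↥(Matrix.symplecticGroup (Fin m) F),
      ∀ g, ((φ g : Matrix.symplecticGroup (Fin m) F) : Matrix (Fin m ⊕ Fin m) (Fin m ⊕ Fin m) F) =
        ((g : GL (Fin m ⊕ Fin m) F) : Matrix (Fin m ⊕ Fin m) (Fin m ⊕ Fin m) F) :=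
    ⟨{ toFun := fun g => ⟨((g : GL (Fin m ⊕ Fin m) F) : Matrix (Fin m ⊕ Fin m) (Fin m ⊕ Fin m) F),
          (Cfsg.Agent.Lib.Helper1.SpCard.mem_symplectic_iff_form _).2 g.2⟩
       map_one' := by apply Subtype.ext; rfl
       map_mul' := by intro a b; apply Subtype.ext; rfl }, fun _ => rfl⟩
  have hinj : Function.Injective φ := by
    intro a b hab
    apply Subtype.ext
    apply Units.ext
    rw [← hφ, ← hφ, hab]
  have hsurj : Function.Surjective φ := by
    intro A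
    have hmem : (⟨(A : Matrix (Fin m ⊕ Fin m) (Fin m ⊕ Fin m) F),
        ((A⁻¹ : Matrix.symplecticGroup (Fin m) F) : Matrix (Fin m ⊕ Fin m) (Fin m ⊕ Fin m) F),
        coe_mul_coe_inv A, coe_inv_mul_coe A⟩ : GL (Fin m ⊕ Fin m) F) ∈
        isomGL (Cfsg.sympForm m F) := by
      intro u v
      exact form_mulVec A u v
    refine ⟨⟨_, hmem⟩, ?_⟩
    apply Subtype.ext
    rw [hφ]
  exact ⟨MulEquiv.ofBijective φ ⟨hinj, hsurj⟩⟩

end sp

section orth
variable {F : Type*} [Field F] [CharP F 2] {n m : ℕ}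

/-- The all-ones vector. -/
def ones (n : ℕ) (F : Type*) [Field F] : Fin n → F := fun _ => 1

/-- The Gram matrix of the alternating form `u ⬝ v + ℓ(u) ℓ(v)`. -/
def cOne (n : ℕ) (F : Type*) [Field F] : Matrix (Fin n) (Fin n) F :=
  1 + Matrix.vecMulVec (ones n F) (ones n F)

omit [CharP F 2] in
theorem dot_cOne (u v : Fin n → F) :
    u ⬝ᵥ cOne n F *ᵥ v = u ⬝ᵥ v + (ones n F ⬝ᵥ u) * (ones n F ⬝ᵥ v) := by
  unfold cOne
  rw [Matrix.add_mulVec, Matrix.one_mulVec, dotProduct_add, Matrix.vecMulVec_mulVec,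
    dotProduct_smul, op_smul_eq_smul, smul_eq_mul]
  rw [dotProduct_comm u (ones n F)]
  ring

theorem dot_self_eq (v : Fin n → F) : v ⬝ᵥ v = (ones n F ⬝ᵥ v) * (ones n F ⬝ᵥ v) := by
  unfold ones dotProduct
  simp only [one_mul]
  rw [CharTwo.sum_mul_self]

theorem ones_dot_ones (hnm : n = 2 * m) : ones n F ⬝ᵥ ones n F = 0 := by
  unfold ones dotProduct
  simp only [one_mul, Finset.sum_const, Finset.card_univ, Fintype.card_fin, nsmul_eq_mul, mul_one]
  rw [hnm, Nat.cast_mul, Nat.cast_ofNat, CharTwo.two_eq_zero, zero_mul]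

theorem alt_cOne (v : Fin n → F) : v ⬝ᵥ cOne n F *ᵥ v = 0 := by
  rw [dot_cOne, dot_self_eq]
  exact CharTwo.add_self_eq_zero _

theorem ones_cOne (hnm : n = 2 * m) (v : Fin n → F) :
    ones n F ⬝ᵥ cOne n F *ᵥ v = ones n F ⬝ᵥ v := by
  rw [dot_cOne, ones_dot_ones hnm, zero_mul, add_zero]

theorem nondeg_cOne (hnm : n = 2 * m) (x : Fin n → F)
    (hx : ∀ y, x ⬝ᵥ cOne n F *ᵥ y = 0) : x = 0 := by
  have h1 : ∀ i, x i = ones n F ⬝ᵥ x := by
    intro i
    have := hx (Pi.single i 1)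
    rw [dot_cOne, dotProduct_single_one, dotProduct_single_one] at this
    have h2 : ones n F i = 1 := rfl
    rw [h2, mul_one] at this
    have h3 := CharTwo.add_self_eq_zero (ones n F ⬝ᵥ x)
    linear_combination this - h3
  have h2 : x = (ones n F ⬝ᵥ x) • ones n F := by
    funext i
    rw [Pi.smul_apply, smul_eq_mul, h1 i]
    show _ = _ * (1 : F)
    rw [mul_one]
  have h3 : ones n F ⬝ᵥ x = 0 := by
    have := congrArg (fun y => ones n F ⬝ᵥ y) h2
    simp only [dotProduct_smul, smul_eq_mul, ones_dot_ones hnm, mul_zero] at this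
    exact this
  rw [h2, h3, zero_smul]

theorem sq_inj (a b : F) (h : a * a = b * b) : a = b := by
  have h1 : (a + b) * (a + b) = 0 := by
    have := CharTwo.add_self_eq_zero (a * b)
    have h2 := CharTwo.add_self_eq_zero (b * b)
    linear_combination h + this + h2
  have h2 : a + b = 0 := mul_self_eq_zero.1 h1
  have h3 := CharTwo.add_self_eq_zero b
  linear_combination h2 - h3

/-- An orthogonal matrix preserves the sum of the coordinates. -/
theorem ell_of_orth (g : Matrix (Fin n) (Fin n) F)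
    (hg : ∀ u v, (g *ᵥ u) ⬝ᵥ (g *ᵥ v) = u ⬝ᵥ v) (v : Fin n → F) :
    ones n F ⬝ᵥ (g *ᵥ v) = ones n F ⬝ᵥ v := by
  apply sq_inj
  rw [← dot_self_eq, ← dot_self_eq, hg]

theorem cOne_of_orth (g : Matrix (Fin n) (Fin n) F)
    (hg : ∀ u v, (g *ᵥ u) ⬝ᵥ (g *ᵥ v) = u ⬝ᵥ v) (u v : Fin n → F) :
    (g *ᵥ u) ⬝ᵥ cOne n F *ᵥ (g *ᵥ v) = u ⬝ᵥ cOne n F *ᵥ v := by
  rw [dot_cOne, dot_cOne, hg, ell_of_orth g hg, ell_of_orth g hg]

theorem fix_ones_of_orth (hnm : n = 2 * m) (g g' : Matrix (Fin n) (Fin n) F) (hgg' : g * g' = 1)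
    (hg : ∀ u v, (g *ᵥ u) ⬝ᵥ (g *ᵥ v) = u ⬝ᵥ v) : g *ᵥ ones n F = ones n F := by
  have h1 : g *ᵥ ones n F - ones n F = 0 := by
    apply nondeg_cOne hnm
    intro y
    have hy : y = g *ᵥ (g' *ᵥ y) := by
      rw [Matrix.mulVec_mulVec, hgg', Matrix.one_mulVec]
    rw [sub_dotProduct, sub_eq_zero]
    conv_lhs => rw [hy, cOne_of_orth g hg, ones_cOne hnm]
    rw [ones_cOne hnm]
    conv_rhs => rw [hy, ell_of_orth g hg]
  exact sub_eq_zero.1 h1

theorem orth_of_cOne_fix (hnm : n = 2 * m) (g : Matrix (Fin n) (Fin n) F)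
    (hB : ∀ u v, (g *ᵥ u) ⬝ᵥ cOne n F *ᵥ (g *ᵥ v) = u ⬝ᵥ cOne n F *ᵥ v)
    (h1 : g *ᵥ ones n F = ones n F) (u v : Fin n → F) :
    (g *ᵥ u) ⬝ᵥ (g *ᵥ v) = u ⬝ᵥ v := by
  have hl : ∀ x, ones n F ⬝ᵥ (g *ᵥ x) = ones n F ⬝ᵥ x := by
    intro x
    rw [← ones_cOne hnm (g *ᵥ x), ← ones_cOne hnm x]
    conv_lhs => rw [← h1]
    exact hB _ _
  have h2 := hB u v
  rw [dot_cOne, dot_cOne, hl, hl] at h2
  exact add_right_cancel h2

end orth

section altequiv
variable {F : Type*} [Field F] {n m : ℕ}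

theorem alt_equiv (hnm : n = 2 * m) (c : Matrix (Fin n) (Fin n) F)
    (halt : ∀ v, v ⬝ᵥ c *ᵥ v = 0) (hnd : ∀ x, (∀ y, x ⬝ᵥ c *ᵥ y = 0) → x = 0) :
    ∃ E : (Fin n → F) ≃ₗ[F] (Fin m ⊕ Fin m → F),
      ∀ u v, Cfsg.sympForm m F (E u) (E v) = u ⬝ᵥ (c *ᵥ v) := by
  obtain ⟨B, hB⟩ : ∃ B : LinearMap.BilinForm F (Fin n → F), ∀ u v, B u v = u ⬝ᵥ (c *ᵥ v) :=
    ⟨Matrix.toLinearMap₂' F c, fun u v => Matrix.toLinearMap₂'_apply' c u v⟩
  have halt' : B.IsAlt := by
    intro v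
    rw [hB]
    exact halt v
  have hnd' : ∀ x, (∀ y, B x y = 0) → x = 0 := by
    intro x hx
    apply hnd
    intro y
    rw [← hB]
    exact hx y
  obtain ⟨m', b, hm', hb⟩ := Cfsg.Agent.Lib.Helper5.AltForm.exists_symplectic_basis halt' hnd'
  rw [Module.finrank_fin_fun, hnm] at hm'
  obtain rfl : m' = m := by omega
  refine ⟨b.equivFun, fun u v => ?_⟩
  rw [← hB, Cfsg.Agent.Lib.Helper5.AltForm.form_eq_sympForm B b hb u v]
  rfl

theorem exists_form_eq_one (w : Fin m ⊕ Fin m → F) (hw : w ≠ 0) :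
    ∃ x, Cfsg.sympForm m F x w = 1 := by
  have : ∃ y, Cfsg.sympForm m F w y ≠ 0 := by
    by_contra hcon
    push Not at hcon
    exact hw (Cfsg.Agent.Lib.Helper2.SpIsom.sympForm_nondeg w hcon)
  obtain ⟨y, hy⟩ := this
  have hy' : Cfsg.sympForm m F y w ≠ 0 := by
    rw [sympForm_swap]
    exact neg_ne_zero.2 hy
  refine ⟨(Cfsg.sympForm m F y w)⁻¹ • y, ?_⟩
  rw [sympForm_smul_left, inv_mul_cancel₀ hy']

theorem T_eq_T_iff [CharP F 2] (v w : Fin m ⊕ Fin m → F) (hw : w ≠ 0) :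
    (T v (1 : F) = T w 1) ↔ v = w := by
  constructor
  · intro h
    have h1 : ∀ x, Cfsg.sympForm m F x v • v = Cfsg.sympForm m F x w • w := by
      intro x
      have h2 := congrArg (fun A : Matrix.symplecticGroup (Fin m) F =>
        (A : Matrix (Fin m ⊕ Fin m) (Fin m ⊕ Fin m) F) *ᵥ x) h
      simp only [T_mulVec, one_mul] at h2
      exact add_left_cancel h2
    obtain ⟨x₀, hx₀⟩ := exists_form_eq_one w hw
    have h3 := h1 x₀
    rw [hx₀, one_smul] at h3
    -- w = a • v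
    set a := Cfsg.sympForm m F x₀ v with ha
    have ha0 : a ≠ 0 := by
      intro h0
      rw [h0, zero_smul] at h3
      exact hw h3.symm
    have hv0 : v ≠ 0 := by
      intro h0
      rw [h0, smul_zero] at h3
      exact hw h3.symm
    have h4 : a * a = 1 := by
      have h5 : a = a * a * a := by
        have h6 : Cfsg.sympForm m F x₀ w = a * a := by
          rw [← h3, sympForm_smul_right]
        rw [hx₀] at h6
        rw [← h6, one_mul]
      have h7 : a * (a * a - 1) = 0 := by linear_combination -h5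
      rcases mul_eq_zero.1 h7 with h8 | h8
      · exact absurd h8 ha0
      · exact sub_eq_zero.1 h8
    have h5 : a = 1 := by
      have h6 : (a + 1) * (a + 1) = 0 := by
        have := CharTwo.add_self_eq_zero a
        have h7 := CharTwo.add_self_eq_zero (1 : F)
        linear_combination h4 + this + h7
      have h7 : a + 1 = 0 := mul_self_eq_zero.1 h6
      have h8 := CharTwo.add_self_eq_zero (1 : F)
      linear_combination h7 - h8
    rw [h5, one_smul] at h3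
    exact h3
  · intro h
    rw [h]

theorem T_isTransvection (w : Fin m ⊕ Fin m → F) (hw : w ≠ 0) :
    Cfsg.IsTransvection ((T w (1 : F) : Matrix.symplecticGroup (Fin m) F) :
      Matrix (Fin m ⊕ Fin m) (Fin m ⊕ Fin m) F) := by
  have hN : ((T w (1 : F) : Matrix.symplecticGroup (Fin m) F) :
      Matrix (Fin m ⊕ Fin m) (Fin m ⊕ Fin m) F) - 1 =
      Matrix.vecMulVec w (Matrix.J (Fin m) F *ᵥ w) := by
    rw [T_coe]
    unfold Cfsg.sympTransvection
    rw [one_smul, add_sub_cancel_left]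
  have hNv : ∀ x, Matrix.vecMulVec w (Matrix.J (Fin m) F *ᵥ w) *ᵥ x =
      Cfsg.sympForm m F x w • w := by
    intro x
    have := T_mulVec w (1 : F) x
    rw [one_mul] at this
    have h2 : ((T w (1 : F) : Matrix.symplecticGroup (Fin m) F) :
        Matrix (Fin m ⊕ Fin m) (Fin m ⊕ Fin m) F) =
        1 + Matrix.vecMulVec w (Matrix.J (Fin m) F *ᵥ w) := by
      rw [← hN]; abel
    rw [h2, Matrix.add_mulVec, Matrix.one_mulVec] at this
    exact add_left_cancel this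
  unfold Cfsg.IsTransvection
  rw [hN]
  constructor
  · apply le_antisymm
    · exact Matrix.rank_vecMulVec_le _ _
    · by_contra h0
      have h1 : (Matrix.vecMulVec w (Matrix.J (Fin m) F *ᵥ w)).rank = 0 := by omega
      unfold Matrix.rank at h1
      have h2 : LinearMap.range (Matrix.vecMulVec w (Matrix.J (Fin m) F *ᵥ w)).mulVecLin = ⊥ :=
        Submodule.finrank_eq_zero.1 h1
      obtain ⟨x₀, hx₀⟩ := exists_form_eq_one w hw
      have h3 : Matrix.vecMulVec w (Matrix.J (Fin m) F *ᵥ w) *ᵥ x₀ ∈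
          LinearMap.range (Matrix.vecMulVec w (Matrix.J (Fin m) F *ᵥ w)).mulVecLin := ⟨_, rfl⟩
      rw [h2, Submodule.mem_bot, hNv, hx₀, one_smul] at h3
      exact hw h3
  · apply Matrix.toLin'.injective
    apply LinearMap.ext
    intro x
    rw [Matrix.toLin'_apply, ← Matrix.mulVec_mulVec, hNv x, Matrix.mulVec_smul, hNv w,
      sympForm_self, zero_smul, smul_zero, map_zero, LinearMap.zero_apply]

end altequiv

section orthequiv
variable {F : Type*} [Field F] [CharP F 2] {n m : ℕ}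

theorem orth_equiv (hnm : n = 2 * m) (hn : 1 ≤ n) :
    ∃ t : Matrix.symplecticGroup (Fin m) F,
      Cfsg.IsTransvection (t : Matrix (Fin m ⊕ Fin m) (Fin m ⊕ Fin m) F) ∧
      Nonempty (↥(isomGL (fun u v : Fin n → F =>
        u ⬝ᵥ ((1 : GL (Fin n) F) : Matrix (Fin n) (Fin n) F) *ᵥ v)) ≃*
        ↥(Subgroup.centralizer ({t} : Set (Matrix.symplecticGroup (Fin m) F)))) := by
  obtain ⟨E, hE⟩ := alt_equiv hnm (cOne n F) alt_cOne (nondeg_cOne hnm)
  obtain ⟨P, hP⟩ : ∃ P : Matrix (Fin m ⊕ Fin m) (Fin n) F, P = LinearMap.toMatrix' E.toLinearMap :=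
    ⟨_, rfl⟩
  obtain ⟨P', hP'⟩ : ∃ P' : Matrix (Fin n) (Fin m ⊕ Fin m) F,
    P' = LinearMap.toMatrix' E.symm.toLinearMap := ⟨_, rfl⟩
  have hPP' : P * P' = 1 := by
    rw [hP, hP', ← LinearMap.toMatrix'_comp, LinearEquiv.comp_symm, LinearMap.toMatrix'_id]
  have hP'P : P' * P = 1 := by
    rw [hP, hP', ← LinearMap.toMatrix'_comp, LinearEquiv.symm_comp, LinearMap.toMatrix'_id]
  have hPform : ∀ u v, Cfsg.sympForm m F (P *ᵥ u) (P *ᵥ v) = u ⬝ᵥ cOne n F *ᵥ v := by
    intro u v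
    rw [hP, LinearMap.toMatrix'_mulVec, LinearMap.toMatrix'_mulVec]
    exact hE u v
  have hPP'v : ∀ x, P *ᵥ (P' *ᵥ x) = x := by
    intro x; rw [Matrix.mulVec_mulVec, hPP', Matrix.one_mulVec]
  have hP'Pv : ∀ x, P' *ᵥ (P *ᵥ x) = x := by
    intro x; rw [Matrix.mulVec_mulVec, hP'P, Matrix.one_mulVec]
  obtain ⟨w, hw⟩ : ∃ w, w = P *ᵥ ones n F := ⟨_, rfl⟩
  have hw0 : w ≠ 0 := by
    intro h0
    have h1 : ones n F = 0 := by
      rw [← hP'Pv (ones n F), ← hw, h0, Matrix.mulVec_zero]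
    have h2 := congrFun h1 ⟨0, by omega⟩
    exact one_ne_zero h2
  have hcent : ∀ A : Matrix.symplecticGroup (Fin m) F,
      A ∈ Subgroup.centralizer ({T w (1 : F)} : Set (Matrix.symplecticGroup (Fin m) F)) ↔
        (A : Matrix (Fin m ⊕ Fin m) (Fin m ⊕ Fin m) F) *ᵥ w = w := by
    intro A
    rw [Subgroup.mem_centralizer_iff]
    constructor
    · intro h
      have h1 := h (T w 1) rfl
      have h2 : A * T w (1 : F) * A⁻¹ = T w 1 := by
        rw [← h1]; group
      rw [conj_T] at h2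
      exact (T_eq_T_iff _ w hw0).1 h2
    · intro h x hx
      rw [Set.mem_singleton_iff] at hx
      rw [hx]
      have h2 : A * T w (1 : F) * A⁻¹ = T w 1 := by
        rw [conj_T, h]
      calc T w (1 : F) * A = (A * T w (1 : F) * A⁻¹) * A := by rw [h2]
        _ = A * T w 1 := by group
  refine ⟨T w 1, T_isTransvection w hw0, ?_⟩
  -- the orthogonality condition in plain form
  have hH : ∀ g : GL (Fin n) F, g ∈ isomGL (fun u v : Fin n → F =>
      u ⬝ᵥ ((1 : GL (Fin n) F) : Matrix (Fin n) (Fin n) F) *ᵥ v) ↔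
      ∀ u v, ((g : Matrix (Fin n) (Fin n) F) *ᵥ u) ⬝ᵥ ((g : Matrix (Fin n) (Fin n) F) *ᵥ v)
        = u ⬝ᵥ v := by
    intro g
    rw [mem_isomGL]
    simp only [Units.val_one, Matrix.one_mulVec]
  have hA : ∀ g : GL (Fin n) F, g ∈ isomGL (fun u v : Fin n → F =>
      u ⬝ᵥ ((1 : GL (Fin n) F) : Matrix (Fin n) (Fin n) F) *ᵥ v) →
      P * (g : Matrix (Fin n) (Fin n) F) * P' ∈ Matrix.symplecticGroup (Fin m) F := by
    intro g hg
    rw [hH] at hg
    rw [Cfsg.Agent.Lib.Helper1.SpCard.mem_symplectic_iff_form]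
    intro x y
    rw [← Matrix.mulVec_mulVec, ← Matrix.mulVec_mulVec, ← Matrix.mulVec_mulVec,
      ← Matrix.mulVec_mulVec, hPform, cOne_of_orth _ hg, ← hPform, hPP'v, hPP'v]
  have hAw : ∀ g : GL (Fin n) F, g ∈ isomGL (fun u v : Fin n → F =>
      u ⬝ᵥ ((1 : GL (Fin n) F) : Matrix (Fin n) (Fin n) F) *ᵥ v) →
      (P * (g : Matrix (Fin n) (Fin n) F) * P') *ᵥ w = w := by
    intro g hg
    rw [hH] at hg
    rw [← Matrix.mulVec_mulVec, ← Matrix.mulVec_mulVec, hw, hP'Pv,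
      fix_ones_of_orth hnm (g : Matrix (Fin n) (Fin n) F)
        ((g⁻¹ : GL (Fin n) F) : Matrix (Fin n) (Fin n) F)
        (by rw [← Units.val_mul, mul_inv_cancel, Units.val_one]) hg]
  obtain ⟨φ, hφ⟩ : ∃ φ : ↥(isomGL (fun u v : Fin n → F =>
      u ⬝ᵥ ((1 : GL (Fin n) F) : Matrix (Fin n) (Fin n) F) *ᵥ v)) →*
      ↥(Subgroup.centralizer ({T w (1 : F)} : Set (Matrix.symplecticGroup (Fin m) F))),
      ∀ g, (((φ g : ↥(Subgroup.centralizer ({T w (1 : F)} :
        Set (Matrix.symplecticGroup (Fin m) F)))) : Matrix.symplecticGroup (Fin m) F) :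
          Matrix (Fin m ⊕ Fin m) (Fin m ⊕ Fin m) F) =
        P * ((g : GL (Fin n) F) : Matrix (Fin n) (Fin n) F) * P' :=
    ⟨{ toFun := fun g => ⟨⟨P * ((g : GL (Fin n) F) : Matrix (Fin n) (Fin n) F) * P', hA g.1 g.2⟩,
          (hcent _).2 (hAw g.1 g.2)⟩
       map_one' := by
         apply Subtype.ext
         apply Subtype.ext
         show P * ((1 : GL (Fin n) F) : Matrix (Fin n) (Fin n) F) * P' = 1
         rw [Units.val_one, Matrix.mul_one, hPP']
       map_mul' := by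
         intro a b
         apply Subtype.ext
         apply Subtype.ext
         show P * ((a.1 * b.1 : GL (Fin n) F) : Matrix (Fin n) (Fin n) F) * P' =
           (P * (a.1 : Matrix (Fin n) (Fin n) F) * P') * (P * (b.1 : Matrix (Fin n) (Fin n) F) * P')
         rw [Units.val_mul]
         calc P * ((a.1 : Matrix (Fin n) (Fin n) F) * (b.1 : Matrix (Fin n) (Fin n) F)) * P'
             = P * (a.1 : Matrix (Fin n) (Fin n) F) * (1 : Matrix (Fin n) (Fin n) F) *
                 (b.1 : Matrix (Fin n) (Fin n) F) * P' := by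
               rw [Matrix.mul_one]
               simp only [Matrix.mul_assoc]
           _ = _ := by
               rw [← hP'P]
               simp only [Matrix.mul_assoc] }, fun _ => rfl⟩
  have hinj : Function.Injective φ := by
    intro a b hab
    have h1 : P * (a.1 : Matrix (Fin n) (Fin n) F) * P' = P * (b.1 : Matrix (Fin n) (Fin n) F) * P' := by
      rw [← hφ, ← hφ, hab]
    apply Subtype.ext
    apply Units.ext
    calc (a.1 : Matrix (Fin n) (Fin n) F)
        = (P' * P) * (a.1 : Matrix (Fin n) (Fin n) F) * (P' * P) := by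
          rw [hP'P, Matrix.one_mul, Matrix.mul_one]
      _ = P' * (P * (a.1 : Matrix (Fin n) (Fin n) F) * P') * P := by
          simp only [Matrix.mul_assoc]
      _ = P' * (P * (b.1 : Matrix (Fin n) (Fin n) F) * P') * P := by rw [h1]
      _ = (P' * P) * (b.1 : Matrix (Fin n) (Fin n) F) * (P' * P) := by
          simp only [Matrix.mul_assoc]
      _ = (b.1 : Matrix (Fin n) (Fin n) F) := by
          rw [hP'P, Matrix.one_mul, Matrix.mul_one]
  have hsurj : Function.Surjective φ := by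
    rintro ⟨A, hAc⟩
    have hAw' := (hcent A).1 hAc
    obtain ⟨g, hg⟩ : ∃ g : GL (Fin n) F, (g : Matrix (Fin n) (Fin n) F) =
        P' * (A : Matrix (Fin m ⊕ Fin m) (Fin m ⊕ Fin m) F) * P := by
      refine ⟨⟨P' * (A : Matrix (Fin m ⊕ Fin m) (Fin m ⊕ Fin m) F) * P,
        P' * ((A⁻¹ : Matrix.symplecticGroup (Fin m) F) :
          Matrix (Fin m ⊕ Fin m) (Fin m ⊕ Fin m) F) * P, ?_, ?_⟩, rfl⟩
      · calc P' * (A : Matrix (Fin m ⊕ Fin m) (Fin m ⊕ Fin m) F) * P *
              (P' * ((A⁻¹ : Matrix.symplecticGroup (Fin m) F) :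
                Matrix (Fin m ⊕ Fin m) (Fin m ⊕ Fin m) F) * P)
            = P' * ((A : Matrix (Fin m ⊕ Fin m) (Fin m ⊕ Fin m) F) * ((P * P') *
              ((A⁻¹ : Matrix.symplecticGroup (Fin m) F) :
                Matrix (Fin m ⊕ Fin m) (Fin m ⊕ Fin m) F))) * P := by
              simp only [Matrix.mul_assoc]
          _ = 1 := by
              rw [hPP', Matrix.one_mul, coe_mul_coe_inv, Matrix.mul_one, hP'P]
      · calc P' * ((A⁻¹ : Matrix.symplecticGroup (Fin m) F) :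
                Matrix (Fin m ⊕ Fin m) (Fin m ⊕ Fin m) F) * P *
              (P' * (A : Matrix (Fin m ⊕ Fin m) (Fin m ⊕ Fin m) F) * P)
            = P' * (((A⁻¹ : Matrix.symplecticGroup (Fin m) F) :
                Matrix (Fin m ⊕ Fin m) (Fin m ⊕ Fin m) F) * ((P * P') *
              (A : Matrix (Fin m ⊕ Fin m) (Fin m ⊕ Fin m) F))) * P := by
              simp only [Matrix.mul_assoc]
          _ = 1 := by
              rw [hPP', Matrix.one_mul, coe_inv_mul_coe, Matrix.mul_one, hP'P]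
    have hgmem : g ∈ isomGL (fun u v : Fin n → F =>
        u ⬝ᵥ ((1 : GL (Fin n) F) : Matrix (Fin n) (Fin n) F) *ᵥ v) := by
      rw [hH]
      apply orth_of_cOne_fix hnm
      · intro u v
        rw [← hPform, hg, ← Matrix.mulVec_mulVec, ← Matrix.mulVec_mulVec, ← Matrix.mulVec_mulVec,
          ← Matrix.mulVec_mulVec, hPP'v, hPP'v, form_mulVec, hPform]
      · rw [hg, ← Matrix.mulVec_mulVec, ← Matrix.mulVec_mulVec, ← hw, hAw', hw, hP'Pv]
    refine ⟨⟨g, hgmem⟩, ?_⟩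
    apply Subtype.ext
    apply Subtype.ext
    rw [hφ]
    show P * (g : Matrix (Fin n) (Fin n) F) * P' = (A : Matrix (Fin m ⊕ Fin m) (Fin m ⊕ Fin m) F)
    rw [hg]
    calc P * (P' * (A : Matrix (Fin m ⊕ Fin m) (Fin m ⊕ Fin m) F) * P) * P'
        = (P * P') * (A : Matrix (Fin m ⊕ Fin m) (Fin m ⊕ Fin m) F) * (P * P') := by
          simp only [Matrix.mul_assoc]
      _ = _ := by rw [hPP', Matrix.one_mul, Matrix.mul_one]
  exact ⟨MulEquiv.ofBijective φ ⟨hinj, hsurj⟩⟩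

end orthequiv

section final
variable {F : Type*} [Field F] {n m : ℕ}

/-- An invertible alternating matrix together with a symplectic coordinate system. -/
theorem exists_alt_gl (hnm : n = 2 * m) :
    ∃ (c : GL (Fin n) F) (E : (Fin n → F) ≃ₗ[F] (Fin m ⊕ Fin m → F)),
      ∀ u v, Cfsg.sympForm m F (E u) (E v) = u ⬝ᵥ (c : Matrix (Fin n) (Fin n) F) *ᵥ v := by
  obtain ⟨E₀⟩ : Nonempty ((Fin n → F) ≃ₗ[F] (Fin m ⊕ Fin m → F)) :=
    ⟨LinearEquiv.funCongrLeft F F (finSumFinEquiv.trans (finCongr (by omega : m + m = n)))⟩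
  obtain ⟨P, hP⟩ : ∃ P : Matrix (Fin m ⊕ Fin m) (Fin n) F, P = LinearMap.toMatrix' E₀.toLinearMap :=
    ⟨_, rfl⟩
  obtain ⟨P', hP'⟩ : ∃ P' : Matrix (Fin n) (Fin m ⊕ Fin m) F,
    P' = LinearMap.toMatrix' E₀.symm.toLinearMap := ⟨_, rfl⟩
  have h1 : P * P' = 1 := by
    rw [hP, hP', ← LinearMap.toMatrix'_comp, LinearEquiv.comp_symm, LinearMap.toMatrix'_id]
  have h2 : P' * P = 1 := by
    rw [hP, hP', ← LinearMap.toMatrix'_comp, LinearEquiv.symm_comp, LinearMap.toMatrix'_id]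
  have hJ1 : Matrix.J (Fin m) F * (-Matrix.J (Fin m) F) = 1 := by
    rw [Matrix.mul_neg, Matrix.J_squared, neg_neg]
  have hJ2 : (-Matrix.J (Fin m) F) * Matrix.J (Fin m) F = 1 := by
    rw [Matrix.neg_mul, Matrix.J_squared, neg_neg]
  refine ⟨⟨Pᵀ * Matrix.J (Fin m) F * P, P' * (-Matrix.J (Fin m) F) * P'ᵀ, ?_, ?_⟩, E₀, ?_⟩
  · calc Pᵀ * Matrix.J (Fin m) F * P * (P' * (-Matrix.J (Fin m) F) * P'ᵀ)
        = Pᵀ * (Matrix.J (Fin m) F * ((P * P') * (-Matrix.J (Fin m) F))) * P'ᵀ := by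
          simp only [Matrix.mul_assoc]
      _ = 1 := by
          rw [h1, Matrix.one_mul, hJ1, Matrix.mul_one, ← Matrix.transpose_mul, h2,
            Matrix.transpose_one]
  · calc P' * (-Matrix.J (Fin m) F) * P'ᵀ * (Pᵀ * Matrix.J (Fin m) F * P)
        = P' * ((-Matrix.J (Fin m) F) * ((P'ᵀ * Pᵀ) * Matrix.J (Fin m) F)) * P := by
          simp only [Matrix.mul_assoc]
      _ = 1 := by
          rw [← Matrix.transpose_mul, h1, Matrix.transpose_one, Matrix.one_mul, hJ2,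
            Matrix.mul_one, h2]
  · intro u v
    show Cfsg.sympForm m F (E₀ u) (E₀ v) = u ⬝ᵥ (Pᵀ * Matrix.J (Fin m) F * P) *ᵥ v
    have hu : E₀ u = P *ᵥ u := by rw [hP, LinearMap.toMatrix'_mulVec]; rfl
    have hv : E₀ v = P *ᵥ v := by rw [hP, LinearMap.toMatrix'_mulVec]; rfl
    rw [hu, hv]
    unfold Cfsg.sympForm
    rw [← Matrix.mulVec_mulVec, ← Matrix.mulVec_mulVec, Matrix.dotProduct_mulVec u Pᵀ,
      Matrix.vecMul_transpose]

theorem diag_congr (g c : Matrix (Fin n) (Fin n) F) (i : Fin n) :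
    (g * c * gᵀ) i i = (fun j => g i j) ⬝ᵥ c *ᵥ (fun j => g i j) := by
  rw [Matrix.mul_apply, Matrix.dotProduct_mulVec]
  unfold dotProduct
  apply Finset.sum_congr rfl
  intro k _
  rw [Matrix.transpose_apply, Matrix.mul_apply]
  rfl

end final



/-- Let T = PSL_n(F) over a finite field of characteristic 2 with n = 2m ≥ 4 even, and G = Inndiag(T) the image of PGL_n(F). The involutory graph automorphisms of T fall into exactly two G-classes, with representatives γ₁ and γ₃ whose centralizers in G are isomorphic respectively to the symplectic group Sp_n(F) and to the centralizer in Sp_n(F) of a symplectic transvection. -/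
theorem result {F : Type*} [Field F] [Fintype F] [CharP F 2] {n m : ℕ} (hm : 2 ≤ m) (hnm : n = 2 * m) :
    ∃ (γ₁ γ₃ : MulAut (Matrix.ProjectiveSpecialLinearGroup (Fin n) F)) (t : ↥(Matrix.symplecticGroup (Fin m) F)), Cfsg.IsTransvection (t : Matrix (Fin m ⊕ Fin m) (Fin m ⊕ Fin m) F) ∧ Cfsg.IsGraphAutClassPSL γ₁ ∧ orderOf γ₁ = 2 ∧ Cfsg.IsGraphAutClassPSL γ₃ ∧ orderOf γ₃ = 2 ∧ ¬ Cfsg.IsConjUnder (Cfsg.inndiagPSL n F) γ₁ γ₃ ∧ (∀ γ : MulAut (Matrix.ProjectiveSpecialLinearGroup (Fin n) F), Cfsg.IsGraphAutClassPSL γ → orderOf γ = 2 → Cfsg.IsConjUnder (Cfsg.inndiagPSL n F) γ₁ γ ∨ Cfsg.IsConjUnder (Cfsg.inndiagPSL n F) γ₃ γ) ∧ Nonempty (↥(Cfsg.inndiagPSL n F ⊓ Subgroup.centralizer {γ₁}) ≃* ↥(Matrix.symplecticGroup (Fin m) F)) ∧ Nonempty (↥(Cfsg.inndiagPSL n F ⊓ Subgroup.centralizer {γ₃}) ≃* ↥(Subgroup.centralizer ({t} : Set ↥(Matrix.symplecticGroup (Fin m) F)))) := by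
  classical
  have hn3 : 3 ≤ n := by omega
  have hn2 : 2 ≤ n := by omega
  have hn1 : 1 ≤ n := by omega
  have : Nontrivial (Fin n) := Fin.nontrivial_iff_two_le.2 hn2
  have hsq : ∀ x : F, ∃ y : F, y * y = x := by
    intro x
    obtain ⟨r, hr⟩ := FiniteField.isSquare_of_char_two (ringChar.eq F 2) x
    exact ⟨r, hr.symm⟩
  have hneg : ∀ a : F, -a = a := by
    intro a
    exact neg_eq_of_add_eq_zero_left (CharTwo.add_self_eq_zero a)
  obtain ⟨c₁, E₁, hE₁⟩ := exists_alt_gl (F := F) hnm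
  have halt₁ : ∀ v : Fin n → F, v ⬝ᵥ (c₁ : Matrix (Fin n) (Fin n) F) *ᵥ v = 0 := by
    intro v
    rw [← hE₁, sympForm_self]
  have hsymm₁ : (c₁ : Matrix (Fin n) (Fin n) F)ᵀ = c₁ := by
    ext i j
    have h1 := hE₁ (Pi.single j 1) (Pi.single i 1)
    have h2 := hE₁ (Pi.single i 1) (Pi.single j 1)
    rw [Matrix.mulVec_single_one, single_one_dotProduct] at h1 h2
    rw [Matrix.transpose_apply]
    show (c₁ : Matrix (Fin n) (Fin n) F).col i j = (c₁ : Matrix (Fin n) (Fin n) F).col j i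
    rw [← h1, ← h2, sympForm_swap, hneg]
  obtain ⟨t, ht, ⟨et⟩⟩ := orth_equiv (F := F) hnm hn1
  refine ⟨gam c₁, gam (1 : GL (Fin n) F), t, ht, gam_isGraph hn3 c₁, ?_, gam_isGraph hn3 1, ?_,
    ?_, ?_, ?_, ?_⟩
  · rw [orderOf_gam_eq_two_iff hn3]
    exact ⟨1, one_ne_zero, by rw [hsymm₁, one_smul]⟩
  · rw [orderOf_gam_eq_two_iff hn3]
    exact ⟨1, one_ne_zero, by rw [Units.val_one, Matrix.transpose_one, one_smul]⟩
  · rw [isConjUnder_gam_iff]
    rintro ⟨g, z, hz, h⟩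
    have h1 := congrFun (congrFun h ⟨0, by omega⟩) ⟨0, by omega⟩
    rw [Units.val_one, Matrix.one_apply_eq, Matrix.smul_apply, diag_congr, halt₁, smul_zero] at h1
    exact one_ne_zero h1
  · intro γ hγ hγ2
    obtain ⟨c, rfl⟩ := exists_gam_of_isGraph hγ
    obtain ⟨z, hz0, hz⟩ := (orderOf_gam_eq_two_iff hn3 c).1 hγ2
    have hz1 : z = 1 := by
      rcases sq_eq_one_of_smul_transpose c z hz with h | h
      · exact h
      · rw [h, hneg]
    have hc : (c : Matrix (Fin n) (Fin n) F)ᵀ = c := by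
      rw [hz1, one_smul] at hz
      exact hz.symm
    have hnd : ∀ x : Fin n → F, (∀ y, x ⬝ᵥ (c : Matrix (Fin n) (Fin n) F) *ᵥ y = 0) → x = 0 := by
      intro x hx
      have h1 : (c : Matrix (Fin n) (Fin n) F)ᵀ *ᵥ x = 0 := by
        funext i
        have := hx (Pi.single i 1)
        rw [Matrix.dotProduct_mulVec, ← Matrix.mulVec_transpose, dotProduct_single_one] at this
        exact this
      rw [hc] at h1
      exact Matrix.eq_zero_of_mulVec_eq_zero (det_ne_zero_GL c) h1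
    by_cases halt : ∀ v : Fin n → F, v ⬝ᵥ (c : Matrix (Fin n) (Fin n) F) *ᵥ v = 0
    · left
      obtain ⟨E, hE⟩ := alt_equiv hnm (c : Matrix (Fin n) (Fin n) F) halt hnd
      apply isConj_of_congr c₁ c (glOfEquiv (E₁.trans E.symm))
      apply congr_of_isometry_bil
      intro u v
      rw [← hE, ← hE₁, LinearEquiv.trans_apply, LinearEquiv.trans_apply,
        LinearEquiv.apply_symm_apply, LinearEquiv.apply_symm_apply]
    · right
      push Not at halt
      obtain ⟨B, hB⟩ : ∃ B : LinearMap.BilinForm F (Fin n → F),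
          ∀ u v, B u v = u ⬝ᵥ ((c : Matrix (Fin n) (Fin n) F) *ᵥ v) :=
        ⟨Matrix.toLinearMap₂' F (c : Matrix (Fin n) (Fin n) F),
          fun u v => Matrix.toLinearMap₂'_apply' _ u v⟩
      have hBsymm : ∀ x y, B x y = B y x := by
        intro x y
        rw [hB, hB, Matrix.dotProduct_mulVec, ← Matrix.mulVec_transpose, hc, dotProduct_comm]
      have hBnd : ∀ x, (∀ y, B x y = 0) → x = 0 := by
        intro x hx
        apply hnd
        intro y
        rw [← hB]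
        exact hx y
      obtain ⟨v₀, hv₀⟩ := halt
      obtain ⟨b, hb⟩ := Cfsg.Agent.Lib.Helper5.Char2Form.exists_orthonormal_basis hsq B hBsymm hBnd
        ⟨v₀, by rw [hB]; exact hv₀⟩
      have hdim : finrank F (Fin n → F) = n := Module.finrank_fin_fun F
      obtain ⟨b', hb'⟩ : ∃ b' : Basis (Fin n) F (Fin n → F),
          ∀ i j, B (b' i) (b' j) = if i = j then 1 else 0 := by
        refine ⟨b.reindex (finCongr hdim), fun i j => ?_⟩
        rw [Basis.reindex_apply, Basis.reindex_apply, hb]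
        simp
      have hBdot : ∀ u v, B u v = (b'.equivFun u) ⬝ᵥ (b'.equivFun v) := by
        intro u v
        rw [LinearMap.BilinForm.apply_eq_dotProduct_toMatrix_mulVec b' B u v]
        have h1 : LinearMap.BilinForm.toMatrix b' B = 1 := by
          ext i j
          rw [LinearMap.BilinForm.toMatrix_apply, hb', Matrix.one_apply]
        rw [h1, Matrix.one_mulVec]
        rfl
      apply isConj_of_congr (1 : GL (Fin n) F) c (glOfEquiv b'.equivFun.symm)
      apply congr_of_isometry_bil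
      intro u v
      rw [← hB, hBdot, LinearEquiv.apply_symm_apply, LinearEquiv.apply_symm_apply, Units.val_one,
        Matrix.one_mulVec]
  · obtain ⟨e₀⟩ := centralizer_gam_bil hn2 c₁
    obtain ⟨e₁⟩ := bilSim_congr E₁
      (fun u v : Fin n → F => u ⬝ᵥ ((c₁ : Matrix (Fin n) (Fin n) F) *ᵥ v)) (Cfsg.sympForm m F) hE₁
    obtain ⟨e₂⟩ := projQuot_sim_equiv hsq (Cfsg.sympForm m F)
      (fun a u v => by rw [sympForm_smul_left, sympForm_smul_right, mul_assoc])
      ⟨Pi.single (Sum.inr ⟨0, by omega⟩) 1, Pi.single (Sum.inl ⟨0, by omega⟩) 1, by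
        rw [sympForm_single_inl, Pi.single_eq_same]
        exact one_ne_zero⟩
    obtain ⟨e₃⟩ := isomGL_symp_equiv (F := F) (m := m)
    exact ⟨((e₀.trans e₁).trans e₂).trans e₃⟩
  · obtain ⟨e₀⟩ := centralizer_gam_bil hn2 (1 : GL (Fin n) F)
    obtain ⟨e₂⟩ := projQuot_sim_equiv hsq
      (fun u v : Fin n → F => u ⬝ᵥ (((1 : GL (Fin n) F) : Matrix (Fin n) (Fin n) F) *ᵥ v))
      (fun a u v => by
        simp only [Units.val_one, Matrix.one_mulVec, smul_dotProduct, dotProduct_smul, smul_eq_mul,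
          mul_assoc])
      ⟨Pi.single ⟨0, by omega⟩ 1, Pi.single ⟨0, by omega⟩ 1, by
        simp⟩
    exact ⟨(e₀.trans e₂).trans et⟩


end Cfsg.Agent.S2701
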