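import Cfsg.Statements.S2704
import Cfsg.Agent.Lib.Helper5.PSLCoset14

set_option autoImplicit false
open Cfsg

namespace Cfsg.Agent.S2704


open Matrix Matrix.SpecialLinearGroup Cfsg.Agent.Lib.Helper5.SLnAut Cfsg.Agent.Lib.Helper5.SLnBN
  Cfsg.Agent.Lib.Helper5.PSLCoset


/-- Let T = PSL_n(F) over the field F with p^f elements, n ≥ 3, and G = Inndiag(T) the image of PGL_n(F). If x is an involutory graph-field automorphism of T then f is even; x is G-conjugate to every other involutory graph-field automorphism; C_G(x) is isomorphic to the projective general unitary group PGU_n(q₀) with q₀² = p^f, realised over F itself through the Hermitian form Σ uᵢ vᵢ^{q₀}; and the G-class of x is the union of exactly gcd(n, q₀ − 1) T-classes. -/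
theorem result {F : Type*} [Field F] [Fintype F] {p f : ℕ} [Fact p.Prime] (hF : Fintype.card F = p ^ f) (hf : 1 ≤ f) {n : ℕ} (hn : 3 ≤ n) (x : MulAut (Matrix.ProjectiveSpecialLinearGroup (Fin n) F)) (hx : Cfsg.IsGraphFieldAutClassPSL x) (hx2 : orderOf x = 2) :
    Even f ∧ (∀ y : MulAut (Matrix.ProjectiveSpecialLinearGroup (Fin n) F), Cfsg.IsGraphFieldAutClassPSL y → orderOf y = 2 → Cfsg.IsConjUnder (Cfsg.inndiagPSL n F) x y) ∧ Nonempty (↥(Cfsg.inndiagPSL n F ⊓ Subgroup.centralizer {x}) ≃* Cfsg.PGU n F (p ^ (f / 2))) ∧ Cfsg.splitClassCount (Cfsg.inndiagPSL n F) (Cfsg.Inn (Matrix.ProjectiveSpecialLinearGroup (Fin n) F)) x = Nat.gcd n (p ^ (f / 2) - 1) := by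
  have hn2 : 2 ≤ n := by omega
  obtain ⟨σ, hσ, h, hh⟩ := graphfield_stdform hf hF hn x hx hx2
  obtain ⟨h2f, -⟩ := card_fixed hF σ 2 hσ (by norm_num)
  obtain ⟨hcyc, -⟩ := Cfsg.Agent.Lib.Helper5.PSL2Aut.ringAut_cyclic_card hf hF
  haveI : Finite (F ≃+* F) :=
    Finite.of_injective (fun e : F ≃+* F => (e : F → F)) DFunLike.coe_injective
  refine ⟨even_iff_two_dvd.2 h2f, ?_, ?_, ?_⟩
  · intro y hy hy2
    obtain ⟨σ', hσ', h', hh'⟩ := graphfield_stdform hf hF hn y hy hy2
    have hσσ' : σ' = σ := eq_of_orderOf_two hσ' hσ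
    rw [hσσ'] at hh'
    refine ⟨semi h' (1 : F ≃+* F) * (semi h (1 : F ≃+* F))⁻¹,
      (Cfsg.inndiagPSL n F).mul_mem (semi_mem_inndiag h')
        ((Cfsg.inndiagPSL n F).inv_mem (semi_mem_inndiag h)), ?_⟩
    rw [hh', hh]
    group
  · obtain ⟨e₁⟩ := centralizer_conj_equiv (Cfsg.inndiagPSL n F) (semi h (1 : F ≃+* F))
      (semi (1 : GL (Fin n) F) σ * tauBar) (semi_mem_inndiag h)
    obtain ⟨e₂⟩ := centralizer_graphfield_equiv hn2 σ hσ (p ^ (f / 2))
      (sigma_eq_pow hf hF σ hσ)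
    rw [hh]
    exact ⟨e₁.trans e₂⟩
  · rw [splitCount_eq (by omega), hh]
    have := map_commSub_conj (semiHom n F)
      (Matrix.GeneralLinearGroup.det (n := Fin n) (R := F)) h
      (semi (1 : GL (Fin n) F) σ * tauBar)
    rw [semiHom_apply] at this
    rw [this, ← splitCount_eq (by omega)]
    exact splitCount_graphfield hF hn2 σ hσ

end Cfsg.Agent.S2704
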