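import Cfsg.Statements.S2706
import Cfsg.Agent.S2699
import Cfsg.Agent.Lib.Helper5.PSUAut8

set_option autoImplicit false
open Cfsg

namespace Cfsg.Agent.S2706


open Matrix Module Matrix.SpecialLinearGroup Cfsg.Agent.Lib.Helper5.SLnAut
  Cfsg.Agent.Lib.Helper5.SLnBN Cfsg.Agent.Lib.Helper5.PSLCoset Cfsg.Agent.Lib.Helper5.QuadGlue
  Cfsg.Agent.Lib.Helper5.QuadEmbed Cfsg.Agent.Lib.Helper5.GraphInv Cfsg.Agent.S2703
  Cfsg.Agent.S2700 Cfsg.Agent.Lib.Helper5.GraphOdd QuadraticMap Cfsg.Agent.Lib.Helper5.PSUAut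

universe u v

section
variable {F : Type u} [Field F] [Fintype F] {F₀ : Type v} [Field F₀] [Fintype F₀] {n m q : ℕ}
  {ι : F₀ →+* F} {σ : F ≃+* F}

theorem odd_case (hF : Fintype.card F = q ^ 2) (hn : 3 ≤ n) (hσq : ∀ a : F, σ a = a ^ q)
    (hd : Desc ι σ) (hodd : Odd (Fintype.card F₀)) (hnm : n = 2 * m + 1)
    (γ γ' : MulAut (Cfsg.PSU n F q)) (c c' : GL (Fin n) F₀)
    (hc : (c : Matrix (Fin n) (Fin n) F₀)ᵀ = c)
    (hc' : (c' : Matrix (Fin n) (Fin n) F₀)ᵀ = c')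
    (hrel : Rel ι σ γ (c : Matrix (Fin n) (Fin n) F₀))
    (hrel' : Rel ι σ γ' (c' : Matrix (Fin n) (Fin n) F₀)) :
    Nonempty (↥(Cfsg.inndiagPSU n F q ⊓ Subgroup.centralizer {γ}) ≃*
      Cfsg.PGO F₀ (Cfsg.quadFormOdd m F₀)) ∧
      Cfsg.IsConjUnder (Cfsg.inndiagPSU n F q) γ γ' := by
  have h2 : (2 : F₀) ≠ 0 := two_ne_zero_of_odd hodd
  obtain ⟨ν, E, hν, hE⟩ := odd_classify hodd hnm _ hc (det_ne_zero_GL c)
  obtain ⟨ν', E', hν', hE'⟩ := odd_classify hodd hnm _ hc' (det_ne_zero_GL c')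
  constructor
  · obtain ⟨e₀⟩ := centralizer_rel_sym hF hn hσq hd h2 γ _ hc hrel
    obtain ⟨e₁⟩ := pgo_congr_of_equiv E
      (fun v : Fin n → F₀ => v ⬝ᵥ ((c : Matrix (Fin n) (Fin n) F₀) *ᵥ v))
      (fun w => ν * Cfsg.quadFormOdd m F₀ w) hE
    obtain ⟨e₂⟩ := pgo_smul (Cfsg.quadFormOdd m F₀) ν hν
    exact ⟨(e₀.trans e₁).trans e₂⟩
  · have hL : ∀ v, matQ (c' : Matrix (Fin n) (Fin n) F₀) ((E.trans E'.symm) v) =
        matQ ((ν' / ν) • (c : Matrix (Fin n) (Fin n) F₀)) v := by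
      intro v
      rw [matQ_smul, ← hE', ← hE, LinearEquiv.trans_apply, LinearEquiv.apply_symm_apply]
      field_simp
    have hsym : ((ν' / ν) • (c : Matrix (Fin n) (Fin n) F₀))ᵀ =
        (ν' / ν) • (c : Matrix (Fin n) (Fin n) F₀) := by
      rw [Matrix.transpose_smul, hc]
    have h3 := congr_of_isometry_sym h2 _ _ hsym hc' (E.trans E'.symm) hL
    rw [isConjUnder_rel_iff hF hn hσq hd γ γ' _ _ hrel hrel']
    exact ⟨glOfEquiv (E.trans E'.symm), ν' / ν, div_ne_zero hν' hν, h3⟩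

theorem even_case [CharP F₀ 2] (hF : Fintype.card F = q ^ 2) (hn : 3 ≤ n)
    (hσq : ∀ a : F, σ a = a ^ q)
    (hd : Desc ι σ) (hnm : n = 2 * m + 1)
    (γ γ' : MulAut (Cfsg.PSU n F q)) (c c' : GL (Fin n) F₀)
    (hc : (c : Matrix (Fin n) (Fin n) F₀)ᵀ = c)
    (hc' : (c' : Matrix (Fin n) (Fin n) F₀)ᵀ = c')
    (hrel : Rel ι σ γ (c : Matrix (Fin n) (Fin n) F₀))
    (hrel' : Rel ι σ γ' (c' : Matrix (Fin n) (Fin n) F₀)) :
    Nonempty (↥(Cfsg.inndiagPSU n F q ⊓ Subgroup.centralizer {γ}) ≃*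
      Cfsg.PGO F₀ (Cfsg.quadFormOdd m F₀)) ∧
      Cfsg.IsConjUnder (Cfsg.inndiagPSU n F q) γ γ' := by
  have hm : 1 ≤ m := by omega
  obtain ⟨L, hL⟩ := Cfsg.Agent.S2699.exists_isometry_B0 hnm c hc
  obtain ⟨L', hL'⟩ := Cfsg.Agent.S2699.exists_isometry_B0 hnm c' hc'
  constructor
  · obtain ⟨e₀⟩ := centralizer_rel hF hn hσq hd γ _ hrel
    obtain ⟨e₁⟩ := bilSim_congr L
      (fun u v : Fin n → F₀ => u ⬝ᵥ ((c : Matrix (Fin n) (Fin n) F₀) *ᵥ v))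
      (B0 (m := m) (F := F₀)) hL
    obtain ⟨e₂⟩ := projQuot_SB (F := F₀) hm
    exact ⟨(e₀.trans e₁).trans e₂⟩
  · rw [isConjUnder_rel_iff hF hn hσq hd γ γ' _ _ hrel hrel']
    refine ⟨glOfEquiv (L.trans L'.symm), 1, one_ne_zero, ?_⟩
    rw [one_smul]
    apply congr_of_isometry_bil
    intro u v
    rw [← hL', ← hL, LinearEquiv.trans_apply, LinearEquiv.trans_apply,
      LinearEquiv.apply_symm_apply, LinearEquiv.apply_symm_apply]

end



/-- Let T = PSU_n(q) be simple with n = 2m + 1 ≥ 3 odd, realised over the field F with q² elements, and G = Inndiag(T) the image of PGU_n(q). Every involutory graph automorphism γ of T (an inner-diagonal automorphism times a standard field automorphism of even order, of order 2) has centralizer C_G(γ) isomorphic to the projective conformal orthogonal group of the form x₀² + Σ xᵢ yᵢ in dimension n over a field F₀ with q elements, and any two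 involutory graph automorphisms of T are G-conjugate. -/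
theorem result {F : Type*} [Field F] [Fintype F] {p f q : ℕ} [Fact p.Prime] (hq : q = p ^ f) (hf : 1 ≤ f) (hF : Fintype.card F = q ^ 2) {n : ℕ} (hn : 3 ≤ n) (hs : ¬ (n = 3 ∧ q = 2)) {m : ℕ} (hnm : n = 2 * m + 1) (F₀ : Type*) [Field F₀] [Fintype F₀] (hF₀ : Fintype.card F₀ = q) (γ γ' : MulAut (Cfsg.PSU n F q)) (hγ : Cfsg.IsGraphAutClassPSU γ) (hγ2 : orderOf γ = 2) (hγ' : Cfsg.IsGraphAutClassPSU γ') (hγ'2 : orderOf γ' = 2) :
    Nonempty (↥(Cfsg.inndiagPSU n F q ⊓ Subgroup.centralizer {γ}) ≃* Cfsg.PGO F₀ (Cfsg.quadFormOdd m F₀)) ∧ Cfsg.IsConjUnder (Cfsg.inndiagPSU n F q) γ γ' := by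
  obtain ⟨σ, ι, hσ, hσq, hd⟩ := exists_desc hF hF₀
  obtain ⟨M₀, hM₀, hrel⟩ := exists_rel_of_isGraph hF hn hσ hσq hd γ hγ hγ2
  obtain ⟨M₀', hM₀', hrel'⟩ := exists_rel_of_isGraph hF hn hσ hσq hd γ' hγ' hγ'2
  have hdet := hrel.det_ne_zero
  have hdet' := hrel'.det_ne_zero
  have hsym := sym_of_odd hnm M₀ hdet hM₀
  have hsym' := sym_of_odd hnm M₀' hdet' hM₀'
  obtain ⟨c, hc⟩ : ∃ c : GL (Fin n) F₀, (c : Matrix (Fin n) (Fin n) F₀) = M₀ :=
    ⟨Matrix.GeneralLinearGroup.mkOfDetNeZero M₀ hdet, rfl⟩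
  obtain ⟨c', hc'⟩ : ∃ c' : GL (Fin n) F₀, (c' : Matrix (Fin n) (Fin n) F₀) = M₀' :=
    ⟨Matrix.GeneralLinearGroup.mkOfDetNeZero M₀' hdet', rfl⟩
  rw [← hc] at hsym hrel
  rw [← hc'] at hsym' hrel'
  by_cases hodd : Odd (Fintype.card F₀)
  · exact odd_case hF hn hσq hd hodd hnm γ γ' c c' hsym hsym' hrel hrel'
  · have h2 : ringChar F₀ = 2 := by
      rw [FiniteField.even_card_iff_char_two]
      rw [Nat.not_odd_iff_even] at hodd
      exact Nat.even_iff.1 hodd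
    haveI : CharP F₀ 2 := ringChar.of_eq h2
    exact even_case hF hn hσq hd hnm γ γ' c c' hsym hsym' hrel hrel'


end Cfsg.Agent.S2706
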