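import Cfsg.Statements.S2707
import Cfsg.Agent.S2700
import Cfsg.Agent.Lib.Helper5.PSUAut8

set_option autoImplicit false
open Cfsg

namespace Cfsg.Agent.S2707


open Matrix Module Matrix.SpecialLinearGroup Cfsg.Agent.Lib.Helper5.SLnAut
  Cfsg.Agent.Lib.Helper5.SLnBN Cfsg.Agent.Lib.Helper5.PSLCoset Cfsg.Agent.Lib.Helper5.QuadGlue
  Cfsg.Agent.Lib.Helper5.GraphInv Cfsg.Agent.S2703
  Cfsg.Agent.S2700 QuadraticMap Cfsg.Agent.Lib.Helper5.PSUAut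

universe u v

section
variable {F : Type u} [Field F] [Fintype F] {F₀ : Type v} [Field F₀] [Fintype F₀] {n m q : ℕ}
  {ι : F₀ →+* F} {σ : F ≃+* F}

theorem not_conj_skew_sym' (hF : Fintype.card F = q ^ 2) (hn : 3 ≤ n)
    (hσq : ∀ a : F, σ a = a ^ q) (hd : Desc ι σ) (h2 : (2 : F₀) ≠ 0)
    (γ₁ γ₂ : MulAut (Cfsg.PSU n F q)) (c₁ c₂ : GL (Fin n) F₀)
    (h1 : (c₁ : Matrix (Fin n) (Fin n) F₀)ᵀ = -(c₁ : Matrix (Fin n) (Fin n) F₀))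
    (hs : (c₂ : Matrix (Fin n) (Fin n) F₀)ᵀ = c₂)
    (hrel₁ : Rel ι σ γ₁ (c₁ : Matrix (Fin n) (Fin n) F₀))
    (hrel₂ : Rel ι σ γ₂ (c₂ : Matrix (Fin n) (Fin n) F₀)) :
    ¬ Cfsg.IsConjUnder (Cfsg.inndiagPSU n F q) γ₁ γ₂ := by
  haveI : Nonempty (Fin n) := ⟨⟨0, by omega⟩⟩
  rw [isConjUnder_rel_iff hF hn hσq hd γ₁ γ₂ _ _ hrel₁ hrel₂]
  rintro ⟨g, z, hz, h⟩
  have ht := congrArg Matrix.transpose h
  rw [Matrix.transpose_smul, Matrix.transpose_mul, Matrix.transpose_mul,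
    Matrix.transpose_transpose, hs, h1, ← Matrix.mul_assoc, h] at ht
  have h3 : (2 : F₀) • (z • (c₁ : Matrix (Fin n) (Fin n) F₀)) = 0 := by
    rw [two_smul]
    nth_rewrite 2 [ht]
    rw [smul_neg, add_neg_cancel]
  have hc0 : (c₁ : Matrix (Fin n) (Fin n) F₀) = 0 :=
    (smul_eq_zero.1 ((smul_eq_zero.1 h3).resolve_left h2)).resolve_left hz
  have h4 := det_ne_zero_GL c₁
  rw [hc0, Matrix.det_zero] at h4
  exact h4 rfl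

theorem sq_iff_of_conj' (hF : Fintype.card F = q ^ 2) (hn : 3 ≤ n)
    (hσq : ∀ a : F, σ a = a ^ q) (hd : Desc ι σ) (hnm : n = 2 * m)
    (γ γ' : MulAut (Cfsg.PSU n F q)) (c c' : GL (Fin n) F₀)
    (hrel : Rel ι σ γ (c : Matrix (Fin n) (Fin n) F₀))
    (hrel' : Rel ι σ γ' (c' : Matrix (Fin n) (Fin n) F₀))
    (h : Cfsg.IsConjUnder (Cfsg.inndiagPSU n F q) γ γ') :
    IsSquare (c : Matrix (Fin n) (Fin n) F₀).det ↔
      IsSquare (c' : Matrix (Fin n) (Fin n) F₀).det := by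
  rw [isConjUnder_rel_iff hF hn hσq hd γ γ' _ _ hrel hrel'] at h
  obtain ⟨g, z, hz, h⟩ := h
  have hd := congrArg Matrix.det h
  rw [Matrix.det_smul, Matrix.det_mul, Matrix.det_mul, Matrix.det_transpose,
    Fintype.card_fin] at hd
  have e' : z ^ n = (z ^ m) ^ 2 := by rw [hnm, pow_mul']
  have hg := det_ne_zero_GL g
  have hzm : z ^ m ≠ 0 := pow_ne_zero m hz
  have e1 : (c' : Matrix (Fin n) (Fin n) F₀).det
      = (z ^ m / (g : Matrix (Fin n) (Fin n) F₀).det) ^ 2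
        * (c : Matrix (Fin n) (Fin n) F₀).det := by
    rw [e'] at hd
    field_simp
    linear_combination hd
  rw [e1, isSquare_sq_mul (div_ne_zero hzm hg)]

end



/-- Let T = PSU_n(q) with n = 2m ≥ 4 even and q odd, realised over the field F with q² elements, and G = Inndiag(T) the image of PGU_n(q). The involutory graph automorphisms of T fall into exactly three G-classes, with representatives whose centralizers in G are isomorphic respectively to the projective conformal symplectic group PGSp_n(F₀), the projective conformal orthogonal group of the plus-type form Σ xᵢ yᵢ, and that of a minus-type form Σ xᵢ yᵢ + z₁² + a z₁ z₂ + b z₂² (anisotropic binary part) in dimension n, all over a field F₀ with q elements. -/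
theorem result {F : Type*} [Field F] [Fintype F] {q : ℕ} (hodd : Odd q) (hF : Fintype.card F = q ^ 2) {n m : ℕ} (hm : 2 ≤ m) (hnm : n = 2 * m) (F₀ : Type*) [Field F₀] [Fintype F₀] (hF₀ : Fintype.card F₀ = q) :
    ∃ (γ₁ γ₂ γ₃ : MulAut (Cfsg.PSU n F q)) (a b : F₀), (∀ z₁ z₂ : F₀, z₁ ^ 2 + a * z₁ * z₂ + b * z₂ ^ 2 = 0 → z₁ = 0 ∧ z₂ = 0) ∧ Cfsg.IsGraphAutClassPSU γ₁ ∧ orderOf γ₁ = 2 ∧ Cfsg.IsGraphAutClassPSU γ₂ ∧ orderOf γ₂ = 2 ∧ Cfsg.IsGraphAutClassPSU γ₃ ∧ orderOf γ₃ = 2 ∧ ¬ Cfsg.IsConjUnder (Cfsg.inndiagPSU n F q) γ₁ γ₂ ∧ ¬ Cfsg.IsConjUnder (Cfsg.inndiagPSU n F q) γ₁ γ₃ ∧ ¬ Cfsg.IsConjUnder (Cfsg.inndiagPSU n F q) γ₂ γ₃ ∧ (∀ γ : MulAut (Cfsg.PSU n F q), Cfsg.IsGraphAutClassPSU γ → orderOf γ = 2 → Cfsg.IsConjUnder (Cfsg.inndiagPSU n F q) γ₁ γ ∨ Cfsg.IsConjUnder (Cfsg.inndiagPSU n F q) γ₂ γ ∨ Cfsg.IsConjUnder (Cfsg.inndiagPSU n F q)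 γ₃ γ) ∧ Nonempty (↥(Cfsg.inndiagPSU n F q ⊓ Subgroup.centralizer {γ₁}) ≃* Cfsg.PGSp m F₀) ∧ Nonempty (↥(Cfsg.inndiagPSU n F q ⊓ Subgroup.centralizer {γ₂}) ≃* Cfsg.PGO F₀ (Cfsg.quadFormPlus m F₀)) ∧ Nonempty (↥(Cfsg.inndiagPSU n F q ⊓ Subgroup.centralizer {γ₃}) ≃* Cfsg.PGO F₀ (Cfsg.quadFormMinus (m - 1) F₀ a b)) := by
  obtain ⟨σ, ι, hσ, hσq, hd⟩ := exists_desc hF hF₀
  have hodd₀ : Odd (Fintype.card F₀) := by rw [hF₀]; exact hodd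
  have h2 : (2 : F₀) ≠ 0 := two_ne_zero_of_odd hodd₀
  have hn3 : 3 ≤ n := by omega
  have hm1 : 1 ≤ m := by omega
  obtain ⟨c₁, hc₁⟩ := exists_skew (F := F₀) hnm
  obtain ⟨c₂, c₃, hc₂, hc₃, hsq, ⟨E₂, hE₂⟩, ⟨ζ, E₃, hζ, hE₃⟩⟩ := exists_reps hodd₀ hm1 hnm
  obtain ⟨E₁, hE₁⟩ := skew_equiv h2 hnm (c₁ : Matrix (Fin n) (Fin n) F₀) hc₁ (det_ne_zero_GL c₁)
  obtain ⟨γ₁, hg₁, ho₁, hr₁⟩ := exists_of_sym hF hn3 hσ hσq hd c₁ (Or.inr hc₁)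
  obtain ⟨γ₂, hg₂, ho₂, hr₂⟩ := exists_of_sym hF hn3 hσ hσq hd c₂ (Or.inl hc₂)
  obtain ⟨γ₃, hg₃, ho₃, hr₃⟩ := exists_of_sym hF hn3 hσ hσq hd c₃ (Or.inl hc₃)
  refine ⟨γ₁, γ₂, γ₃, 1, ζ, aniso_of_noroot ζ hζ, hg₁, ho₁, hg₂, ho₂, hg₃, ho₃,
    not_conj_skew_sym' hF hn3 hσq hd h2 γ₁ γ₂ c₁ c₂ hc₁ hc₂ hr₁ hr₂,
    not_conj_skew_sym' hF hn3 hσq hd h2 γ₁ γ₃ c₁ c₃ hc₁ hc₃ hr₁ hr₃, ?_, ?_, ?_, ?_, ?_⟩
  · intro h
    exact hsq (sq_iff_of_conj' hF hn3 hσq hd hnm γ₂ γ₃ c₂ c₃ hr₂ hr₃ h)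
  · intro γ hγ hγ2
    obtain ⟨M₀, hM₀, hrel⟩ := exists_rel_of_isGraph hF hn3 hσ hσq hd γ hγ hγ2
    have hdet := hrel.det_ne_zero
    obtain ⟨c, hcM⟩ : ∃ c : GL (Fin n) F₀, (c : Matrix (Fin n) (Fin n) F₀) = M₀ :=
      ⟨Matrix.GeneralLinearGroup.mkOfDetNeZero M₀ hdet, rfl⟩
    rw [← hcM] at hM₀ hrel
    rcases hM₀ with hc | hc
    · -- symmetric
      have hcases : (IsSquare (c₂ : Matrix (Fin n) (Fin n) F₀).det ↔
          IsSquare (c : Matrix (Fin n) (Fin n) F₀).det) ∨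
          (IsSquare (c₃ : Matrix (Fin n) (Fin n) F₀).det ↔
          IsSquare (c : Matrix (Fin n) (Fin n) F₀).det) := by
        tauto
      rcases hcases with h | h
      · right
        left
        obtain ⟨L, hL⟩ := sym_congr hodd₀ hm1 hnm _ _ hc₂ hc (det_ne_zero_GL c₂)
          (det_ne_zero_GL c) h
        rw [isConjUnder_rel_iff hF hn3 hσq hd γ₂ γ _ _ hr₂ hrel]
        exact ⟨glOfEquiv L, 1, one_ne_zero, by
          rw [one_smul]; exact congr_of_isometry_sym h2 _ _ hc₂ hc L hL⟩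
      · right
        right
        obtain ⟨L, hL⟩ := sym_congr hodd₀ hm1 hnm _ _ hc₃ hc (det_ne_zero_GL c₃)
          (det_ne_zero_GL c) h
        rw [isConjUnder_rel_iff hF hn3 hσq hd γ₃ γ _ _ hr₃ hrel]
        exact ⟨glOfEquiv L, 1, one_ne_zero, by
          rw [one_smul]; exact congr_of_isometry_sym h2 _ _ hc₃ hc L hL⟩
    · -- skew
      left
      obtain ⟨E, hE⟩ := skew_equiv h2 hnm (c : Matrix (Fin n) (Fin n) F₀) hc (det_ne_zero_GL c)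
      rw [isConjUnder_rel_iff hF hn3 hσq hd γ₁ γ _ _ hr₁ hrel]
      refine ⟨glOfEquiv (E₁.trans E.symm), 1, one_ne_zero, ?_⟩
      rw [one_smul]
      apply congr_of_isometry_bil
      intro u v
      rw [← hE, ← hE₁, LinearEquiv.trans_apply, LinearEquiv.trans_apply,
        LinearEquiv.apply_symm_apply, LinearEquiv.apply_symm_apply]
  · obtain ⟨e₀⟩ := centralizer_rel hF hn3 hσq hd γ₁ _ hr₁
    obtain ⟨e₁⟩ := bilSim_congr E₁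
      (fun u v : Fin n → F₀ => u ⬝ᵥ ((c₁ : Matrix (Fin n) (Fin n) F₀) *ᵥ v))
      (Cfsg.sympForm m F₀) hE₁
    exact ⟨e₀.trans e₁⟩
  · obtain ⟨e₀⟩ := centralizer_rel_sym hF hn3 hσq hd h2 γ₂ _ hc₂ hr₂
    obtain ⟨e₁⟩ := pgo_congr_of_equiv E₂
      (fun v : Fin n → F₀ => v ⬝ᵥ ((c₂ : Matrix (Fin n) (Fin n) F₀) *ᵥ v))
      (Cfsg.quadFormPlus m F₀) hE₂
    exact ⟨e₀.trans e₁⟩
  · obtain ⟨e₀⟩ := centralizer_rel_sym hF hn3 hσq hd h2 γ₃ _ hc₃ hr₃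
    obtain ⟨e₁⟩ := pgo_congr_of_equiv E₃
      (fun v : Fin n → F₀ => v ⬝ᵥ ((c₃ : Matrix (Fin n) (Fin n) F₀) *ᵥ v))
      (Cfsg.quadFormMinus (m - 1) F₀ 1 ζ) hE₃
    exact ⟨e₀.trans e₁⟩


end Cfsg.Agent.S2707
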