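import Cfsg.Statements.S2708
import Cfsg.Agent.S2701
import Cfsg.Agent.Lib.Helper5.PSUAut8

set_option autoImplicit false
open Cfsg

namespace Cfsg.Agent.S2708


open Matrix Module Cfsg.Agent.Lib.Helper5.GraphInv Cfsg.Agent.S2703 Cfsg.Agent.S2700
  Cfsg.Agent.Lib.Helper2.Symp Cfsg.Agent.Lib.Helper1.SpBasic Cfsg.Agent.S2701
  Cfsg.Agent.Lib.Helper5.PSUAut Cfsg.Agent.Lib.Helper5.PSLCoset

theorem isConjUnder_symm {X : Type*} [Group X] (H : Subgroup X) {x y : X}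
    (h : Cfsg.IsConjUnder H x y) : Cfsg.IsConjUnder H y x := by
  obtain ⟨g, hg, rfl⟩ := h
  refine ⟨g⁻¹, H.inv_mem hg, ?_⟩
  group



/-- Let T = PSU_n(q) with n = 2m ≥ 4 even and q even, realised over the field F (of characteristic 2) with q² elements, and G = Inndiag(T) the image of PGU_n(q). The involutory graph automorphisms of T fall into exactly two G-classes, with representatives whose centralizers in G are isomorphic respectively to the symplectic group Sp_n(F₀) and to the centralizer in Sp_n(F₀) of a symplectic transvection, F₀ a field with q elements. -/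
theorem result {F : Type*} [Field F] [Fintype F] [CharP F 2] {q : ℕ} (hF : Fintype.card F = q ^ 2) {n m : ℕ} (hm : 2 ≤ m) (hnm : n = 2 * m) (F₀ : Type*) [Field F₀] [Fintype F₀] (hF₀ : Fintype.card F₀ = q) :
    ∃ (γ₁ γ₃ : MulAut (Cfsg.PSU n F q)) (t : ↥(Matrix.symplecticGroup (Fin m) F₀)), Cfsg.IsTransvection (t : Matrix (Fin m ⊕ Fin m) (Fin m ⊕ Fin m) F₀) ∧ Cfsg.IsGraphAutClassPSU γ₁ ∧ orderOf γ₁ = 2 ∧ Cfsg.IsGraphAutClassPSU γ₃ ∧ orderOf γ₃ = 2 ∧ ¬ Cfsg.IsConjUnder (Cfsg.inndiagPSU n F q) γ₁ γ₃ ∧ (∀ γ : MulAut (Cfsg.PSU n F q), Cfsg.IsGraphAutClassPSU γ → orderOf γ = 2 → Cfsg.IsConjUnder (Cfsg.inndiagPSU n F q) γ₁ γ ∨ Cfsg.IsConjUnder (Cfsg.inndiagPSU n F q) γ₃ γ) ∧ Nonempty (↥(Cfsg.inndiagPSU n F q ⊓ Subgroup.centralizer {γ₁}) ≃* ↥(Matrix.symplecticGroup (Fin m) F₀)) ∧ Nonempty (↥(Cfsg.inndiagPSU n F q ⊓ Subgroup.centralizer {γ₃}) ≃* ↥(Subgroup.centralizer ({t} : Set ↥(Matrix.symplecticGroup (Fin m) F₀))))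 := by
  classical
  obtain ⟨σ, ι, hσ, hσq, hd⟩ := exists_desc hF hF₀
  haveI : CharP F₀ 2 := RingHom.charP ι ι.injective 2
  have hn3 : 3 ≤ n := by omega
  have hn2 : 2 ≤ n := by omega
  have hn1 : 1 ≤ n := by omega
  have hsq : ∀ x : F₀, ∃ y : F₀, y * y = x := by
    intro x
    obtain ⟨r, hr⟩ := FiniteField.isSquare_of_char_two (ringChar.eq F₀ 2) x
    exact ⟨r, hr.symm⟩
  have hneg : ∀ a : F₀, -a = a := by
    intro a
    exact neg_eq_of_add_eq_zero_left (CharTwo.add_self_eq_zero a)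
  obtain ⟨c₁, E₁, hE₁⟩ := exists_alt_gl (F := F₀) hnm
  have halt₁ : ∀ v : Fin n → F₀, v ⬝ᵥ (c₁ : Matrix (Fin n) (Fin n) F₀) *ᵥ v = 0 := by
    intro v
    rw [← hE₁, sympForm_self]
  have hsymm₁ : (c₁ : Matrix (Fin n) (Fin n) F₀)ᵀ = c₁ := by
    ext i j
    have h1 := hE₁ (Pi.single j 1) (Pi.single i 1)
    have h2 := hE₁ (Pi.single i 1) (Pi.single j 1)
    rw [Matrix.mulVec_single_one, single_one_dotProduct] at h1 h2
    rw [Matrix.transpose_apply]
    show (c₁ : Matrix (Fin n) (Fin n) F₀).col i j = (c₁ : Matrix (Fin n) (Fin n) F₀).col j i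
    rw [← h1, ← h2, sympForm_swap, hneg]
  obtain ⟨t, ht, ⟨et⟩⟩ := orth_equiv (F := F₀) hnm hn1
  obtain ⟨γ₁, hg₁, ho₁, hr₁⟩ := exists_of_sym hF hn3 hσ hσq hd c₁ (Or.inl hsymm₁)
  obtain ⟨γ₃, hg₃, ho₃, hr₃⟩ := exists_of_sym hF hn3 hσ hσq hd (1 : GL (Fin n) F₀)
    (Or.inl (by rw [Units.val_one, Matrix.transpose_one]))
  refine ⟨γ₁, γ₃, t, ht, hg₁, ho₁, hg₃, ho₃, ?_, ?_, ?_, ?_⟩
  · intro hconj
    have h' := isConjUnder_symm _ hconj
    rw [isConjUnder_rel_iff hF hn3 hσq hd γ₃ γ₁ _ _ hr₃ hr₁] at h'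
    obtain ⟨g, z, hz, h⟩ := h'
    have h1 := congrFun (congrFun h ⟨0, by omega⟩) ⟨0, by omega⟩
    have h2 : ((g : Matrix (Fin n) (Fin n) F₀)ᵀ * (c₁ : Matrix (Fin n) (Fin n) F₀)
        * (g : Matrix (Fin n) (Fin n) F₀)) ⟨0, by omega⟩ ⟨0, by omega⟩ = 0 := by
      have h3 := diag_congr (g : Matrix (Fin n) (Fin n) F₀)ᵀ (c₁ : Matrix (Fin n) (Fin n) F₀)
        ⟨0, by omega⟩
      rw [Matrix.transpose_transpose] at h3
      rw [h3, halt₁]
    rw [h2, Units.val_one, Matrix.smul_apply, Matrix.one_apply_eq, smul_eq_mul, mul_one] at h1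
    exact hz h1.symm
  · intro γ hγ hγ2
    obtain ⟨M₀, hM₀, hrel⟩ := exists_rel_of_isGraph hF hn3 hσ hσq hd γ hγ hγ2
    have hdet := hrel.det_ne_zero
    obtain ⟨c, hcM⟩ : ∃ c : GL (Fin n) F₀, (c : Matrix (Fin n) (Fin n) F₀) = M₀ :=
      ⟨Matrix.GeneralLinearGroup.mkOfDetNeZero M₀ hdet, rfl⟩
    rw [← hcM] at hM₀ hrel
    have hc : (c : Matrix (Fin n) (Fin n) F₀)ᵀ = c := by
      rcases hM₀ with h | h
      · exact h
      · rw [h]
        ext i j
        rw [Matrix.neg_apply, hneg]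
    have hnd : ∀ x : Fin n → F₀, (∀ y, x ⬝ᵥ (c : Matrix (Fin n) (Fin n) F₀) *ᵥ y = 0) → x = 0 := by
      intro x hx
      have h1 : (c : Matrix (Fin n) (Fin n) F₀)ᵀ *ᵥ x = 0 := by
        funext i
        have := hx (Pi.single i 1)
        rw [Matrix.dotProduct_mulVec, ← Matrix.mulVec_transpose, dotProduct_single_one] at this
        exact this
      rw [hc] at h1
      exact Matrix.eq_zero_of_mulVec_eq_zero (det_ne_zero_GL c) h1
    by_cases halt : ∀ v : Fin n → F₀, v ⬝ᵥ (c : Matrix (Fin n) (Fin n) F₀) *ᵥ v = 0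
    · left
      obtain ⟨E, hE⟩ := alt_equiv hnm (c : Matrix (Fin n) (Fin n) F₀) halt hnd
      rw [isConjUnder_rel_iff hF hn3 hσq hd γ₁ γ _ _ hr₁ hrel]
      refine ⟨glOfEquiv (E₁.trans E.symm), 1, one_ne_zero, ?_⟩
      rw [one_smul]
      apply congr_of_isometry_bil
      intro u v
      rw [← hE, ← hE₁, LinearEquiv.trans_apply, LinearEquiv.trans_apply,
        LinearEquiv.apply_symm_apply, LinearEquiv.apply_symm_apply]
    · right
      push Not at halt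
      obtain ⟨B, hB⟩ : ∃ B : LinearMap.BilinForm F₀ (Fin n → F₀),
          ∀ u v, B u v = u ⬝ᵥ ((c : Matrix (Fin n) (Fin n) F₀) *ᵥ v) :=
        ⟨Matrix.toLinearMap₂' F₀ (c : Matrix (Fin n) (Fin n) F₀),
          fun u v => Matrix.toLinearMap₂'_apply' _ u v⟩
      have hBsymm : ∀ x y, B x y = B y x := by
        intro x y
        rw [hB, hB, Matrix.dotProduct_mulVec, ← Matrix.mulVec_transpose, hc, dotProduct_comm]
      have hBnd : ∀ x, (∀ y, B x y = 0) → x = 0 := by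
        intro x hx
        apply hnd
        intro y
        rw [← hB]
        exact hx y
      obtain ⟨v₀, hv₀⟩ := halt
      obtain ⟨b, hb⟩ := Cfsg.Agent.Lib.Helper5.Char2Form.exists_orthonormal_basis hsq B hBsymm hBnd
        ⟨v₀, by rw [hB]; exact hv₀⟩
      have hdim : finrank F₀ (Fin n → F₀) = n := Module.finrank_fin_fun F₀
      obtain ⟨b', hb'⟩ : ∃ b' : Basis (Fin n) F₀ (Fin n → F₀),
          ∀ i j, B (b' i) (b' j) = if i = j then 1 else 0 := by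
        refine ⟨b.reindex (finCongr hdim), fun i j => ?_⟩
        rw [Basis.reindex_apply, Basis.reindex_apply, hb]
        simp
      have hBdot : ∀ u v, B u v = (b'.equivFun u) ⬝ᵥ (b'.equivFun v) := by
        intro u v
        rw [LinearMap.BilinForm.apply_eq_dotProduct_toMatrix_mulVec b' B u v]
        have h1 : LinearMap.BilinForm.toMatrix b' B = 1 := by
          ext i j
          rw [LinearMap.BilinForm.toMatrix_apply, hb', Matrix.one_apply]
        rw [h1, Matrix.one_mulVec]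
        rfl
      rw [isConjUnder_rel_iff hF hn3 hσq hd γ₃ γ _ _ hr₃ hrel]
      refine ⟨glOfEquiv b'.equivFun.symm, 1, one_ne_zero, ?_⟩
      rw [one_smul]
      apply congr_of_isometry_bil
      intro u v
      rw [← hB, hBdot, LinearEquiv.apply_symm_apply, LinearEquiv.apply_symm_apply, Units.val_one,
        Matrix.one_mulVec]
  · obtain ⟨e₀⟩ := centralizer_rel hF hn3 hσq hd γ₁ _ hr₁
    obtain ⟨e₁⟩ := bilSim_congr E₁
      (fun u v : Fin n → F₀ => u ⬝ᵥ ((c₁ : Matrix (Fin n) (Fin n) F₀) *ᵥ v))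
      (Cfsg.sympForm m F₀) hE₁
    obtain ⟨e₂⟩ := projQuot_sim_equiv hsq (Cfsg.sympForm m F₀)
      (fun a u v => by rw [sympForm_smul_left, sympForm_smul_right, mul_assoc])
      ⟨Pi.single (Sum.inr ⟨0, by omega⟩) 1, Pi.single (Sum.inl ⟨0, by omega⟩) 1, by
        rw [sympForm_single_inl, Pi.single_eq_same]
        exact one_ne_zero⟩
    obtain ⟨e₃⟩ := isomGL_symp_equiv (F := F₀) (m := m)
    exact ⟨((e₀.trans e₁).trans e₂).trans e₃⟩
  · obtain ⟨e₀⟩ := centralizer_rel hF hn3 hσq hd γ₃ _ hr₃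
    obtain ⟨e₂⟩ := projQuot_sim_equiv hsq
      (fun u v : Fin n → F₀ => u ⬝ᵥ (((1 : GL (Fin n) F₀) : Matrix (Fin n) (Fin n) F₀) *ᵥ v))
      (fun a u v => by
        simp only [Units.val_one, Matrix.one_mulVec, smul_dotProduct, dotProduct_smul, smul_eq_mul,
          mul_assoc])
      ⟨Pi.single ⟨0, by omega⟩ 1, Pi.single ⟨0, by omega⟩ 1, by
        simp⟩
    exact ⟨(e₀.trans e₂).trans et⟩


end Cfsg.Agent.S2708
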