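import Cfsg.Statements.S2709
import Cfsg.Agent.Lib.Helper5.PSUAut12

set_option autoImplicit false
open Cfsg

namespace Cfsg.Agent.S2709


open Matrix Matrix.SpecialLinearGroup Cfsg.Agent.Lib.Helper5.SLnAut Cfsg.Agent.Lib.Helper5.PGO
  Cfsg.Agent.Lib.Helper5.PSLCoset Cfsg.Agent.Lib.Helper5.GraphInv
  Cfsg.Agent.Lib.Helper5.PSUAut Cfsg.Agent.S2702 Cfsg.Agent.S2703 Cfsg.Agent.S2700

section
variable {n : ℕ} {F : Type*} [Field F] [Fintype F] {q : ℕ} {F₀ : Type*} [Field F₀] [Fintype F₀]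
  {ι : F₀ →+* F} {σ : F ≃+* F}

theorem eq_or_neg_of_sq {K : Type*} [Field K] (a b : K) (h : a ^ 2 = b ^ 2) : a = b ∨ a = -b := by
  have h1 : (a - b) * (a + b) = 0 := by linear_combination h
  rcases mul_eq_zero.1 h1 with h2 | h2
  · left
    linear_combination h2
  · right
    linear_combination h2

theorem DU_skew (hF : Fintype.card F = q ^ 2) (hn : 3 ≤ n) (hσ : orderOf σ = 2)
    (hσq : ∀ a : F, σ a = a ^ q) (hd : Desc ι σ)
    (γ : MulAut (Cfsg.PSU n F q)) (M₀ : Matrix (Fin n) (Fin n) F₀) (hrel : Rel ι σ γ M₀)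
    {m : ℕ} (hnm : n = 2 * m) (h2 : (2 : F₀) ≠ 0) (hM : M₀ᵀ = -M₀) :
    DU hF γ = (powMonoidHom m : ↥(U1 F q) →* ↥(U1 F q)).range := by
  apply le_antisymm
  · intro u hu
    obtain ⟨K₀, c₀, v, hc0, hK₀, huv⟩ := DU_even hF hn hσq hd γ M₀ hrel hnm u hu
    rw [skew_det h2 hnm M₀ hM hrel.det_ne_zero K₀ c₀ hc0 hK₀] at huv
    have hne : ι (c₀ ^ m) ≠ 0 := (map_ne_zero_iff _ ι.injective).2 (pow_ne_zero _ hc0)
    refine ⟨v, ?_⟩
    apply Subtype.ext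
    apply Units.ext
    rw [powMonoidHom_apply]
    exact (mul_right_cancel₀ hne huv).symm
  · exact pow_le_DU_of_Q1 hF hn hσ hσq hd γ M₀ hrel hnm
      (fun ν hν => skew_Q1 h2 hnm M₀ hM hrel.det_ne_zero ν hν)

theorem DU_char_two (hF : Fintype.card F = q ^ 2) (hn : 3 ≤ n)
    (hσq : ∀ a : F, σ a = a ^ q) (hd : Desc ι σ)
    (γ : MulAut (Cfsg.PSU n F q)) (M₀ : Matrix (Fin n) (Fin n) F₀) (hrel : Rel ι σ γ M₀)
    {m : ℕ} (hnm : n = 2 * m) (h2 : (2 : F₀) = 0) :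
    DU hF γ ≤ (powMonoidHom m : ↥(U1 F q) →* ↥(U1 F q)).range := by
  intro u hu
  obtain ⟨K₀, c₀, v, hc0, hK₀, huv⟩ := DU_even hF hn hσq hd γ M₀ hrel hnm u hu
  have hsq := det_sq_sim M₀ hrel.det_ne_zero _ c₀ hK₀
  have hdet : (K₀ : Matrix (Fin n) (Fin n) F₀).det = c₀ ^ m := by
    have h3 : ((K₀ : Matrix (Fin n) (Fin n) F₀).det - c₀ ^ m) ^ 2 = 0 := by
      have : (c₀ ^ m) ^ 2 = c₀ ^ n := by rw [hnm, ← pow_mul, mul_comm]
      linear_combination hsq + this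
        + (c₀ ^ n - (K₀ : Matrix (Fin n) (Fin n) F₀).det * c₀ ^ m) * h2
    have := pow_eq_zero_iff (two_ne_zero) |>.1 h3
    linear_combination this
  rw [hdet] at huv
  have hne : ι (c₀ ^ m) ≠ 0 := (map_ne_zero_iff _ ι.injective).2 (pow_ne_zero _ hc0)
  refine ⟨v, ?_⟩
  apply Subtype.ext
  apply Units.ext
  rw [powMonoidHom_apply]
  exact (mul_right_cancel₀ hne huv).symm

theorem DU_sym (hF : Fintype.card F = q ^ 2) (hn : 3 ≤ n) (hσ : orderOf σ = 2)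
    (hσq : ∀ a : F, σ a = a ^ q) (hd : Desc ι σ)
    (γ : MulAut (Cfsg.PSU n F q)) (M₀ : Matrix (Fin n) (Fin n) F₀) (hrel : Rel ι σ γ M₀)
    {m : ℕ} (hm : 1 ≤ m) (hnm : n = 2 * m) (hodd₀ : Odd (Fintype.card F₀)) (hodd : Odd q)
    (hM : M₀ᵀ = M₀) :
    DU hF γ = (powMonoidHom m : ↥(U1 F q) →* ↥(U1 F q)).range
      ⊔ Subgroup.zpowers (⟨-1, neg_one_mem_U1 hodd⟩ : ↥(U1 F q)) := by
  have h2 : (2 : F₀) ≠ 0 := two_ne_zero_of_odd hodd₀
  have hM0 : M₀ ≠ 0 := by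
    intro h0
    have hdet := hrel.det_ne_zero
    haveI : Nonempty (Fin n) := ⟨⟨0, by omega⟩⟩
    rw [h0, Matrix.det_zero] at hdet
    exact hdet rfl
  apply le_antisymm
  · intro u hu
    obtain ⟨K₀, c₀, v, hc0, hK₀, huv⟩ := DU_even hF hn hσq hd γ M₀ hrel hnm u hu
    have hsq := det_sq_sim M₀ hrel.det_ne_zero _ c₀ hK₀
    have hne : ι (c₀ ^ m) ≠ 0 := (map_ne_zero_iff _ ι.injective).2 (pow_ne_zero _ hc0)
    have hsq' : (K₀ : Matrix (Fin n) (Fin n) F₀).det ^ 2 = (c₀ ^ m) ^ 2 := by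
      rw [hsq, hnm, ← pow_mul, mul_comm]
    rcases eq_or_neg_of_sq _ _ hsq' with hdet | hdet
    · rw [hdet] at huv
      apply Subgroup.mem_sup_left
      refine ⟨v, ?_⟩
      apply Subtype.ext
      apply Units.ext
      rw [powMonoidHom_apply]
      exact (mul_right_cancel₀ hne huv).symm
    · rw [hdet, map_neg, mul_neg, ← neg_mul] at huv
      have hu' : u = v ^ m * (⟨-1, neg_one_mem_U1 hodd⟩ : ↥(U1 F q)) := by
        apply Subtype.ext
        apply Units.ext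
        have := mul_right_cancel₀ hne huv
        rw [this]
        show _ = ((v : Fˣ) : F) ^ m * (-1 : F)
        ring
      rw [hu']
      exact Subgroup.mul_mem_sup ⟨v, rfl⟩ (Subgroup.mem_zpowers _)
  · apply sup_le
    · exact pow_le_DU_of_Q1 hF hn hσ hσq hd γ M₀ hrel hnm
        (fun ν hν => sym_Q1 hodd₀ hm hnm M₀ hM hrel.det_ne_zero ν hν)
    · rw [Subgroup.zpowers_le]
      exact neg_one_mem_DU_of_Q2 hF hn hσq hd γ M₀ hrel hodd (sym_Q2 h2 M₀ hM hM0)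

theorem iso_transfer (hF : Fintype.card F = q ^ 2) (hn : 3 ≤ n)
    (hσq : ∀ a : F, σ a = a ^ q) (hd : Desc ι σ)
    (γ : MulAut (Cfsg.PSU n F q)) (M₀ : Matrix (Fin n) (Fin n) F₀) (hrel : Rel ι σ γ M₀) :
    ∃ c : GL (Fin n) F₀, (c : Matrix (Fin n) (Fin n) F₀) = M₀ ∧
      Nonempty (↥(Cfsg.inndiagPSU n F q ⊓ Subgroup.centralizer {γ}) ≃*
        ↥(Cfsg.inndiagPSL n F₀ ⊓ Subgroup.centralizer {gam c})) := by
  obtain ⟨e₁⟩ := centralizer_rel hF hn hσq hd γ M₀ hrel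
  refine ⟨Matrix.GeneralLinearGroup.mkOfDetNeZero M₀ hrel.det_ne_zero, rfl, ?_⟩
  obtain ⟨e₂⟩ := centralizer_gam_bil (by omega : 2 ≤ n)
    (Matrix.GeneralLinearGroup.mkOfDetNeZero M₀ hrel.det_ne_zero)
  exact ⟨e₁.trans e₂.symm⟩

end



/-- Let T = PSU_n(q) be simple (n ≥ 3, (n,q) ≠ (3,2), q = p^f), realised over the field F with q² elements, G = Inndiag(T) the image of PGU_n(q), and γ an involutory graph automorphism of T. The G-class of γ is the union of exactly c T-classes, where: if n is even and q is odd, c = gcd(n/2, q + 1) when C_G(γ) is isomorphic to PGSp_n(F₀) for a field F₀ with q elements (symplectic type) and c = gcd(n, q + 1)/2 otherwise; and c = gcd(n, q + 1) when n is odd or q is even. -/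
theorem result {F : Type*} [Field F] [Fintype F] {p f q : ℕ} [Fact p.Prime] (hq : q = p ^ f) (hf : 1 ≤ f) (hF : Fintype.card F = q ^ 2) {n : ℕ} (hn : 3 ≤ n) (hs : ¬ (n = 3 ∧ q = 2)) (F₀ : Type*) [Field F₀] [Fintype F₀] (hF₀ : Fintype.card F₀ = q) (γ : MulAut (Cfsg.PSU n F q)) (hγ : Cfsg.IsGraphAutClassPSU γ) (hγ2 : orderOf γ = 2) :
    ((Even n ∧ Odd q ∧ Nonempty (↥(Cfsg.inndiagPSU n F q ⊓ Subgroup.centralizer {γ}) ≃* Cfsg.PGSp (n / 2) F₀)) → Cfsg.splitClassCount (Cfsg.inndiagPSU n F q) (Cfsg.Inn (Cfsg.PSU n F q)) γ = Nat.gcd (n / 2) (q + 1)) ∧ ((Even n ∧ Odd q ∧ ¬ Nonempty (↥(Cfsg.inndiagPSU n F q ⊓ Subgroup.centralizer {γ}) ≃* Cfsg.PGSp (n / 2) F₀)) → Cfsg.splitClassCount (Cfsg.inndiagPSU n F q) (Cfsg.Inn (Cfsg.PSU n F q)) γ = Nat.gcd n (q + 1) / 2) ∧ (¬ (Even n ∧ Odd q) → Cfsg.splitClassCount (Cfsg.inndiagPSU n F q) (Cfsg.Inn (Cfsg.PSU n F q)) γ = Nat.gcd n (q + 1)) := by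
  obtain ⟨σ, ι, hσ, hσq, hd⟩ := exists_desc hF hF₀
  obtain ⟨M₀, hM₀, hrel⟩ := exists_rel_of_isGraph hF hn hσ hσq hd γ hγ hγ2
  have hcount : Cfsg.splitClassCount (Cfsg.inndiagPSU n F q) (Cfsg.Inn (Cfsg.PSU n F q)) γ
      = (DU hF γ).index := splitCountU_eq hF (by omega) γ
  rw [hcount]
  by_cases hcase : Even n ∧ Odd q
  · obtain ⟨hev, hodd⟩ := hcase
    have hodd₀ : Odd (Fintype.card F₀) := by rw [hF₀]; exact hodd
    have h2 : (2 : F₀) ≠ 0 := two_ne_zero_of_odd hodd₀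
    have hnm : n = 2 * (n / 2) := by
      obtain ⟨k, hk⟩ := hev
      omega
    have hm : 1 ≤ n / 2 := by omega
    obtain ⟨c, hc, ⟨e⟩⟩ := iso_transfer hF hn hσq hd γ M₀ hrel
    rcases hM₀ with hM | hM
    · -- symmetric
      have hni : ¬ Nonempty (↥(Cfsg.inndiagPSU n F q ⊓ Subgroup.centralizer {γ})
          ≃* Cfsg.PGSp (n / 2) F₀) := by
        rintro ⟨e'⟩
        exact not_iso_sym hodd₀ hm hnm c (by rw [hc]; exact hM) ⟨e.symm.trans e'⟩
      refine ⟨fun h => absurd h.2.2 hni, fun _ => ?_, fun h => absurd ⟨hev, hodd⟩ h⟩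
      rw [DU_sym hF hn hσ hσq hd γ M₀ hrel hm hnm hodd₀ hodd hM,
        index_neg_pow_U1 hF hodd (n / 2) _ rfl, ← hnm]
    · -- skew
      have hi : Nonempty (↥(Cfsg.inndiagPSU n F q ⊓ Subgroup.centralizer {γ})
          ≃* Cfsg.PGSp (n / 2) F₀) := by
        obtain ⟨e'⟩ := iso_skew hodd₀ hm hnm c (by rw [hc]; exact hM)
        exact ⟨e.trans e'⟩
      refine ⟨fun _ => ?_, fun h => absurd hi h.2.2, fun h => absurd ⟨hev, hodd⟩ h⟩
      rw [DU_skew hF hn hσ hσq hd γ M₀ hrel hnm h2 hM, index_pow_U1 hF]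
  · refine ⟨fun h => absurd ⟨h.1, h.2.1⟩ hcase, fun h => absurd ⟨h.1, h.2.1⟩ hcase, fun _ => ?_⟩
    by_cases hn' : Odd n
    · have hD : DU hF γ = (powMonoidHom n : ↥(U1 F q) →* ↥(U1 F q)).range :=
        le_antisymm (DU_le_pow_of_odd hF hn hσq hd γ M₀ hrel hn')
          (pow_le_DU hF hn hσq hd γ M₀ hrel)
      rw [hD, index_pow_U1 hF]
    · have hev : Even n := Nat.not_odd_iff_even.1 hn'
      have hqe : Even q := by
        rw [← Nat.not_odd_iff_even]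
        intro hodd
        exact hcase ⟨hev, hodd⟩
      have hnm : n = 2 * (n / 2) := by
        obtain ⟨k, hk⟩ := hev
        omega
      have hch : ringChar F₀ = 2 := by
        rw [FiniteField.even_card_iff_char_two, hF₀]
        exact Nat.even_iff.1 hqe
      have h20 : (2 : F₀) = 0 := by
        haveI : CharP F₀ 2 := ringChar.of_eq hch
        have := CharP.cast_eq_zero F₀ 2
        exact_mod_cast this
      have h1 := Subgroup.index_dvd_of_le (DU_char_two hF hn hσq hd γ M₀ hrel hnm h20)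
      have h2 := Subgroup.index_dvd_of_le (pow_le_DU hF hn hσq hd γ M₀ hrel)
      rw [index_pow_U1 hF] at h1 h2
      have hcop : Nat.Coprime 2 (q + 1) := by
        rw [Nat.coprime_two_left]
        exact hqe.add_one
      have hg : Nat.gcd n (q + 1) = Nat.gcd (n / 2) (q + 1) := by
        conv_lhs => rw [hnm]
        exact Nat.Coprime.gcd_mul_left_cancel _ hcop
      rw [hg] at h2 ⊢
      exact Nat.dvd_antisymm h2 h1


end Cfsg.Agent.S2709
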