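import Cfsg.Statements.S2710
import Cfsg.Agent.S2703
import Cfsg.Agent.Lib.Helper5.PSUAut8

set_option autoImplicit false
open Cfsg

namespace Cfsg.Agent.S2710


open Matrix Module Cfsg.Agent.Lib.Helper5.GraphInv Cfsg.Agent.S2703
  Cfsg.Agent.Lib.Helper5.PSUAut Cfsg.Agent.Lib.Helper5.PSLCoset



/-- Let T = PSU_n(q) with n ≥ 4 divisible by 4 (n = 2m) and q odd, realised over the field F with q² elements, G = Inndiag(T) the image of PGU_n(q), and φ the standard field automorphism of T attached to the q-th power map of F (it induces inverse-transpose on the unitary matrices and is a graph automorphism). Its centralizer in G is isomorphic to the projective conformal orthogonal group of the plus-type form Σ xᵢ yᵢ in dimension n over a field F₀ with q elements. (Dimensions n ≡ 2 (mod 4) are not covered.) -/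
theorem result {F : Type*} [Field F] [Fintype F] {q : ℕ} (hodd : Odd q) (hF : Fintype.card F = q ^ 2) {n m : ℕ} (hm : 2 ≤ m) (hnm : n = 2 * m) (h4 : 4 ∣ n) (F₀ : Type*) [Field F₀] [Fintype F₀] (hF₀ : Fintype.card F₀ = q) (σ : F ≃+* F) (hσ : ∀ a : F, σ a = a ^ q) (φ : MulAut (Cfsg.PSU n F q)) (hφ : Cfsg.IsFieldAutPSUOf σ φ) :
    Nonempty (↥(Cfsg.inndiagPSU n F q ⊓ Subgroup.centralizer {φ}) ≃* Cfsg.PGO F₀ (Cfsg.quadFormPlus m F₀)) := by
  obtain ⟨σ', ι, hσ'ord, hσ'q, hd⟩ := exists_desc hF hF₀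
  have hσσ' : σ' = σ := by
    apply RingEquiv.ext
    intro a
    rw [hσ, hσ'q]
  subst hσσ'
  have hodd₀ : Odd (Fintype.card F₀) := by rw [hF₀]; exact hodd
  have h2 : (2 : F₀) ≠ 0 := two_ne_zero_of_odd hodd₀
  have hn3 : 3 ≤ n := by omega
  have hφ' := eq_fa_of_isFieldAut hφ
  have h1σ : (1 : Matrix (Fin n) (Fin n) F).map σ' = 1 := by
    ext i j
    simp [Matrix.one_apply, apply_ite]
  have h1ι : (1 : Matrix (Fin n) (Fin n) F₀).map ι = 1 := by
    ext i j
    simp [Matrix.one_apply, apply_ite]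
  have hrel : Rel ι σ' φ (1 : Matrix (Fin n) (Fin n) F₀) := by
    refine ⟨1, 1, 1, one_ne_zero, ?_, ?_, ?_⟩
    · rw [hφ']
      unfold gamU
      rw [map_one, one_mul]
    · show (1 : Matrix (Fin n) (Fin n) F) * (1 : Matrix (Fin n) (Fin n) F).map σ' = 1
      rw [h1σ, Matrix.one_mul]
    · show (1 : Matrix (Fin n) (Fin n) F)ᵀ * (1 : Matrix (Fin n) (Fin n) F).map σ' = _
      rw [h1σ, Matrix.transpose_one, Matrix.one_mul, one_smul, h1ι]
  obtain ⟨e₀⟩ := centralizer_rel_sym hF hn3 hσ'q hd h2 φ 1 Matrix.transpose_one hrel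
  have hQ : (fun v : Fin n → F₀ => v ⬝ᵥ ((1 : Matrix (Fin n) (Fin n) F₀) *ᵥ v)) = dotQ n F₀ := by
    funext v
    rw [Matrix.one_mulVec]
    rfl
  rw [hQ] at e₀
  obtain ⟨hP, -⟩ := dot_classify hodd₀ (show 1 ≤ m by omega) hnm
  have hev : Even (m * (Fintype.card F₀ - 1) / 2) := by
    rw [hF₀]
    obtain ⟨k, hk⟩ := hodd
    obtain ⟨j, hj⟩ := h4
    have hm2 : m = 2 * j := by omega
    rw [hk, hm2]
    have : 2 * j * (2 * k + 1 - 1) / 2 = 2 * (j * k) := by
      rw [Nat.add_sub_cancel]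
      have : 2 * j * (2 * k) = 2 * (2 * (j * k)) := by ring
      rw [this, Nat.mul_div_cancel_left _ (by norm_num : 0 < 2)]
    rw [this]
    exact even_two_mul _
  obtain ⟨E, hE⟩ := hP hev
  obtain ⟨e₁⟩ := pgo_congr_of_equiv E (dotQ n F₀) (Cfsg.quadFormPlus m F₀) hE
  exact ⟨e₀.trans e₁⟩


end Cfsg.Agent.S2710
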