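import Cfsg.Statements.S2711
import Cfsg.Agent.Lib.Helper5.PSUField4

set_option autoImplicit false
open Cfsg

namespace Cfsg.Agent.S2711


open Matrix Cfsg.Agent.Lib.Helper5.PSLCoset Cfsg.Agent.Lib.Helper5.PSUAut
  Cfsg.Agent.Lib.Helper5.UAut Cfsg.Agent.Lib.Helper5.PSUField

theorem transfer {G : Type*} [Group G] (N : Subgroup G) (α x δ H : G)
    (hN : α⁻¹ * H * α ∈ N)
    (h : α * (δ * x) * α⁻¹ = H * (α * x * α⁻¹) * H⁻¹) : Cfsg.IsConjUnder N x (δ * x) := by
  refine ⟨α⁻¹ * H * α, hN, ?_⟩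
  have h1 : δ * x = α⁻¹ * (α * (δ * x) * α⁻¹) * α := by group
  rw [h1, h]
  group

theorem orderOf_conj' {G : Type*} [Group G] (α x : G) : orderOf (α * x * α⁻¹) = orderOf x := by
  rw [← MulAut.conj_apply]
  exact MulEquiv.orderOf_eq _ x



/-- Let T = PSU_n(q) be simple (n ≥ 3, (n,q) ≠ (3,2)), realised over the field F with q² elements, and let x be a field automorphism of T (conjugate to a standard field automorphism of odd order) of prime order r. Then an element y of the coset Inndiag(T)·x (y = δ x with δ in the image of PGU_n(q)) has order r if and only if y is conjugate to x by an element of Inndiag(T). (T has no graph-field automorphisms.) -/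
theorem result {F : Type*} [Field F] [Fintype F] {p f q : ℕ} [Fact p.Prime] (hq : q = p ^ f) (hf : 1 ≤ f) (hF : Fintype.card F = q ^ 2) {n : ℕ} (hn : 3 ≤ n) (hs : ¬ (n = 3 ∧ q = 2)) (x δ : MulAut (Cfsg.PSU n F q)) (hx : Cfsg.IsFieldAutClassPSU x) {r : ℕ} (hr : r.Prime) (hxr : orderOf x = r) (hδ : δ ∈ Cfsg.inndiagPSU n F q) :
    orderOf (δ * x) = r ↔ Cfsg.IsConjUnder (Cfsg.inndiagPSU n F q) x (δ * x) := by
  constructor
  swap
  · rintro ⟨h, -, hh⟩
    rw [hh, orderOf_conj', hxr]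
  intro hy
  obtain ⟨α, σ, hσr, hodd, hx₀⟩ := field_stdform_PSU hF hn hx hr hxr
  have hδ' := conj_mem_inndiagPSU hq hF hn hs α hδ
  rw [inndiagPSU_eq hF] at hδ'
  obtain ⟨g, hg⟩ := hδ'
  have hy₀ : α * (δ * x) * α⁻¹ = gamU σ g := by
    have : α * (δ * x) * α⁻¹ = (α * δ * α⁻¹) * (α * x * α⁻¹) := by group
    rw [this, ← hg, hx₀, cjC_mul_gamU, mul_one]
  have hpow : (gamU σ g) ^ r = 1 := by
    rw [← hy₀, ← hy, ← orderOf_conj' α (δ * x)]
    exact pow_orderOf_eq_one _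
  obtain ⟨h, hh⟩ := field_conj_PSU hq hF hn σ r hσr hodd g hpow
  apply transfer (Cfsg.inndiagPSU n F q) α x δ (cjC h)
  · apply conj_mem_inndiagPSU' hq hF hn hs α
    rw [inndiagPSU_eq hF]
    exact ⟨h, rfl⟩
  · rw [hy₀, hx₀, hh]


end Cfsg.Agent.S2711
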