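import Cfsg.Statements.S2712
import Cfsg.Agent.Lib.Helper5.PSpField5
import Cfsg.Agent.Lib.Helper5.PSLCoset17

set_option autoImplicit false
open Cfsg

namespace Cfsg.Agent.S2712


open Matrix Cfsg.Agent.Lib.Helper5.PSLCoset Cfsg.Agent.Lib.Helper5.PSpAut
  Cfsg.Agent.Lib.Helper5.PSpField Cfsg.Agent.Lib.Helper5.SplitConj



/-- Let T = PSp_{2m}(F) be simple over the field F with p^f elements (m ≥ 2, (2m, |F|) ≠ (4, 2)), G = Inndiag(T) the image of the projective conformal symplectic group PGSp_{2m}(F), and x a field automorphism of T of prime order r. Then r divides f; C_G(x) is isomorphic to PGSp_{2m}(F₀) for a field F₀ with p^(f/r) elements; and the G-class of x is the union of exactly gcd(gcd(2, p^f − 1), r) T-classes. -/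
theorem result {F : Type*} [Field F] [Fintype F] {p f : ℕ} [Fact p.Prime] (hF : Fintype.card F = p ^ f) (hf : 1 ≤ f) {m : ℕ} (hm : 2 ≤ m) (hs : m = 2 → 3 ≤ Fintype.card F) (x : MulAut (Cfsg.PSp m F)) (hx : Cfsg.IsFieldAutClassPSp x) {r : ℕ} (hr : r.Prime) (hxr : orderOf x = r) (F₀ : Type*) [Field F₀] [Fintype F₀] (hF₀ : Fintype.card F₀ = p ^ (f / r)) :
    r ∣ f ∧ Nonempty (↥(Cfsg.inndiagPSp m F ⊓ Subgroup.centralizer {x}) ≃* Cfsg.PGSp m F₀) ∧ Cfsg.splitClassCount (Cfsg.inndiagPSp m F) (Cfsg.Inn (Cfsg.PSp m F)) x = Nat.gcd (Nat.gcd 2 (p ^ f - 1)) r := by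
  haveI : CharP F p := charP_of_card_eq_prime_pow hF
  have hm1 : 1 ≤ m := by omega
  obtain ⟨α, σ, hσr, hx₀⟩ := field_stdform_PSp p hm1 hx hxr
  haveI : (Cfsg.inndiagPSp m F).Normal := ⟨fun β hβ α => conj_mem_inndiagPSp hm p α hβ⟩
  haveI : (Cfsg.Inn (Cfsg.PSp m F)).Normal := inn_normal _
  have hx₁ : x = α⁻¹ * gam σ (1 : ↥(Cfsg.GSp m F)) * α⁻¹⁻¹ := by
    rw [← hx₀]
    group
  obtain ⟨hdvd, -⟩ := card_fixed hF σ r hσr hr.pos
  obtain ⟨ι, hι⟩ := exists_embedding_fixed hF σ r hσr hr.pos F₀ hF₀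
  refine ⟨hdvd, ?_, ?_⟩
  · obtain ⟨e₁⟩ := centralizer_conj_equiv' (Cfsg.inndiagPSp m F) α⁻¹
      (gam σ (1 : ↥(Cfsg.GSp m F)))
    obtain ⟨e₂⟩ := centralizer_equiv (m := m) p hι hm1 r hσr hr.pos
    rw [hx₁]
    exact ⟨e₁.trans e₂⟩
  · rw [hx₁, splitClassCount_conj]
    exact splitCount_field hF hm1 σ r hσr hr.pos


end Cfsg.Agent.S2712
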