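import Cfsg.Statements.S2713
import Cfsg.Agent.Lib.Helper5.PSpField3

set_option autoImplicit false
open Cfsg

namespace Cfsg.Agent.S2713


open Matrix Cfsg.Agent.Lib.Helper5.PSLCoset Cfsg.Agent.Lib.Helper5.PSpAut
  Cfsg.Agent.Lib.Helper5.PSpField

theorem transfer {G : Type*} [Group G] (N : Subgroup G) (α x δ H : G)
    (hN : α⁻¹ * H * α ∈ N)
    (h : α * (δ * x) * α⁻¹ = H * (α * x * α⁻¹) * H⁻¹) : Cfsg.IsConjUnder N x (δ * x) := by
  refine ⟨α⁻¹ * H * α, hN, ?_⟩
  have h1 : δ * x = α⁻¹ * (α * (δ * x) * α⁻¹) * α := by group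
  rw [h1, h]
  group

theorem orderOf_conj' {G : Type*} [Group G] (α x : G) : orderOf (α * x * α⁻¹) = orderOf x := by
  rw [← MulAut.conj_apply]
  exact MulEquiv.orderOf_eq _ x



/-- Let T = PSp_{2m}(F) be simple over a finite field (m ≥ 2, (2m, |F|) ≠ (4, 2)) and let x be a field automorphism of T of prime order r. Then an element y of the coset Inndiag(T)·x (y = δ x with δ in the image of the projective conformal symplectic group) has order r if and only if y is conjugate to x by an element of Inndiag(T). -/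
theorem result {F : Type*} [Field F] [Fintype F] {m : ℕ} (hm : 2 ≤ m) (hs : m = 2 → 3 ≤ Fintype.card F) (x δ : MulAut (Cfsg.PSp m F)) (hx : Cfsg.IsFieldAutClassPSp x) {r : ℕ} (hr : r.Prime) (hxr : orderOf x = r) (hδ : δ ∈ Cfsg.inndiagPSp m F) :
    orderOf (δ * x) = r ↔ Cfsg.IsConjUnder (Cfsg.inndiagPSp m F) x (δ * x) := by
  constructor
  swap
  · rintro ⟨h, -, hh⟩
    rw [hh, orderOf_conj', hxr]
  intro hy
  obtain ⟨p, hchar⟩ := CharP.exists F
  haveI : Fact p.Prime := ⟨CharP.char_is_prime F p⟩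
  obtain ⟨α, σ, hσr, hx₀⟩ := field_stdform_PSp p (by omega) hx hxr
  have hδ' := conj_mem_inndiagPSp hm p α hδ
  rw [inndiagPSp_eq] at hδ'
  obtain ⟨g, hg⟩ := hδ'
  have hy₀ : α * (δ * x) * α⁻¹ = gam σ g := by
    have : α * (δ * x) * α⁻¹ = (α * δ * α⁻¹) * (α * x * α⁻¹) := by group
    rw [this, ← hg, hx₀, cjC_mul_gam, mul_one]
  have hpow : (gam σ g) ^ r = 1 := by
    rw [← hy₀, ← hy, ← orderOf_conj' α (δ * x)]
    exact pow_orderOf_eq_one _
  obtain ⟨h, hh⟩ := field_conj_PSp p (by omega) σ r hσr hr.pos g hpow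
  apply transfer (Cfsg.inndiagPSp m F) α x δ (cjC h)
  · apply conj_mem_inndiagPSp' hm p α
    rw [inndiagPSp_eq]
    exact ⟨h, rfl⟩
  · rw [hy₀, hx₀, hh]


end Cfsg.Agent.S2713
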