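import Cfsg.Statements.S2716
import Cfsg.Agent.Lib.Helper5.OFld39

set_option autoImplicit false
open Cfsg

namespace Cfsg.Agent.S2716

/-- Let T = PΩ⁻_{2m+2}(F) (m ≥ 3, |F| = p^f; the form Σ xᵢ yᵢ + z₁² + a z₁ z₂ + b z₂² with anisotropic binary part), G = Inndiag(T), and x a field automorphism of T of prime order r. Then r is odd and divides f; C_G(x) is isomorphic to Inndiag(PΩ⁻_{2m+2}(F₀)) for a field F₀ with p^(f/r) elements and some anisotropic binary part over F₀; and the G-class of x is a single T-class. -/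
theorem result {F : Type*} [Field F] [Fintype F] {p f : ℕ} [Fact p.Prime] (hF : Fintype.card F = p ^ f) (hf : 1 ≤ f) {m : ℕ} (hm : 3 ≤ m) (a b : F) (hab : (∀ z₁ z₂ : F, z₁ ^ 2 + a * z₁ * z₂ + b * z₂ ^ 2 = 0 → z₁ = 0 ∧ z₂ = 0)) (x : MulAut (Cfsg.POmega F (Cfsg.quadFormMinus m F a b))) (hx : Cfsg.IsFieldAutClassPOmegaMinus m x) {r : ℕ} (hr : r.Prime) (hxr : orderOf x = r) (F₀ : Type*) [Field F₀] [Fintype F₀] (hF₀ : Fintype.card F₀ = p ^ (f / r)) :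
    Odd r ∧ r ∣ f ∧ (∃ a₀ b₀ : F₀, (∀ z₁ z₂ : F₀, z₁ ^ 2 + a₀ * z₁ * z₂ + b₀ * z₂ ^ 2 = 0 → z₁ = 0 ∧ z₂ = 0) ∧ Nonempty (↥(Cfsg.inndiagPOmegaMinus m F a b ⊓ Subgroup.centralizer {x}) ≃* ↥(Cfsg.inndiagPOmegaMinus m F₀ a₀ b₀))) ∧ Cfsg.splitClassCount (Cfsg.inndiagPOmegaMinus m F a b) (Cfsg.Inn (Cfsg.POmega F (Cfsg.quadFormMinus m F a b))) x = 1 := by
  classical
  obtain ⟨a', b', ψ, σ, hab', hσ, hσa, hσb, hfield⟩ := hx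
  have key : ∀ (Q Q' : ((Fin m ⊕ Fin m) ⊕ Fin 2 → F) → F),
      ⇑(Cfsg.Agent.Lib.Helper2.OrthCard.QMn m a b) = Q →
      ⇑(Cfsg.Agent.Lib.Helper2.OrthCard.QMn m a' b') = Q' →
      ∀ (ψ : Cfsg.POmega F Q ≃* Cfsg.POmega F Q') (x : MulAut (Cfsg.POmega F Q)),
      Cfsg.IsFieldAutPOmegaOf Q' σ ((ψ.symm.trans x).trans ψ) → orderOf x = r →
      Odd r ∧ r ∣ f ∧
      (∃ a₀ b₀ : F₀, (∀ z₁ z₂ : F₀, z₁ ^ 2 + a₀ * z₁ * z₂ + b₀ * z₂ ^ 2 = 0 → z₁ = 0 ∧ z₂ = 0) ∧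
        Nonempty (↥(Cfsg.Agent.Lib.Helper5.PGO.inndiagQM Q
          (Cfsg.PreservesSingularClassesMinus m a b) ⊓ Subgroup.centralizer {x}) ≃*
          ↥(Cfsg.inndiagPOmegaMinus m F₀ a₀ b₀))) ∧
      Cfsg.splitClassCount (Cfsg.Agent.Lib.Helper5.PGO.inndiagQM Q
        (Cfsg.PreservesSingularClassesMinus m a b)) (Cfsg.Inn (Cfsg.POmega F Q)) x = 1 := by
    intro Q Q' hQ hQ'
    subst hQ
    subst hQ'
    intro ψ x hfield hxr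
    obtain ⟨h1, h2, ⟨a₀, b₀, hab₀, h3⟩, h4⟩ :=
      Cfsg.Agent.Lib.Helper5.OFld.minus_field_aut hF hm a b a' b' hab hab' ψ σ hσa hσb x
        hfield r hr hxr F₀ hF₀
    refine ⟨h1, h2, ⟨a₀, b₀, hab₀, ?_⟩, h4⟩
    have key₀ : ∀ (Q₀ : ((Fin m ⊕ Fin m) ⊕ Fin 2 → F₀) → F₀),
        ⇑(Cfsg.Agent.Lib.Helper2.OrthCard.QMn m a₀ b₀) = Q₀ →
        Nonempty (↥(Cfsg.Agent.Lib.Helper5.PGO.inndiagQM
          (⇑(Cfsg.Agent.Lib.Helper2.OrthCard.QMn m a b))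
          (Cfsg.PreservesSingularClassesMinus m a b) ⊓ Subgroup.centralizer {x}) ≃*
          ↥(Cfsg.Agent.Lib.Helper5.PGO.inndiagQM Q₀
            (Cfsg.PreservesSingularClassesMinus m a₀ b₀))) := by
      intro Q₀ hQ₀
      subst hQ₀
      exact h3
    exact key₀ _ (Cfsg.Agent.Lib.Helper2.OrthCard.QMn_coe m a₀ b₀)
  exact key _ _ (Cfsg.Agent.Lib.Helper2.OrthCard.QMn_coe m a b)
    (Cfsg.Agent.Lib.Helper2.OrthCard.QMn_coe m a' b') ψ x hfield hxr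

end Cfsg.Agent.S2716
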