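import Cfsg.Statements.S2717
import Cfsg.Agent.Lib.Helper5.OFld54

set_option autoImplicit false
open Cfsg

namespace Cfsg.Agent.S2717

/-- Let T = PΩ⁺_{2m}(F) with m ≥ 5 (dimension 2m ≠ 8) and |F| = p^f, G = Inndiag(T), and x an involutory graph-field automorphism of T. Then f is even; any two involutory graph-field automorphisms of T are G-conjugate; C_G(x) is isomorphic to Inndiag(PΩ⁻_{2m}(F₀)) for a field F₀ with p^(f/2) elements (some anisotropic binary part over F₀); and the G-class of x is the union of exactly c T-classes with c = 1 if p = 2, c = 4 if p is odd, m is odd and p^(f/2) ≡ 1 (mod 4), and c = 2 otherwise. -/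
theorem result {F : Type*} [Field F] [Fintype F] {p f : ℕ} [Fact p.Prime] (hF : Fintype.card F = p ^ f) (hf : 1 ≤ f) {m : ℕ} (hm : 5 ≤ m) (x : MulAut (Cfsg.POmega F (Cfsg.quadFormPlus m F))) (hx : Cfsg.IsGraphFieldAutClassPOmegaPlus m x) (hx2 : orderOf x = 2) (F₀ : Type*) [Field F₀] [Fintype F₀] (hF₀ : Fintype.card F₀ = p ^ (f / 2)) :
    Even f ∧ (∀ y : MulAut (Cfsg.POmega F (Cfsg.quadFormPlus m F)), Cfsg.IsGraphFieldAutClassPOmegaPlus m y → orderOf y = 2 → Cfsg.IsConjUnder (Cfsg.inndiagPOmegaPlus m F) x y) ∧ (∃ a₀ b₀ : F₀, (∀ z₁ z₂ : F₀, z₁ ^ 2 + a₀ * z₁ * z₂ + b₀ * z₂ ^ 2 = 0 → z₁ = 0 ∧ z₂ = 0) ∧ Nonempty (↥(Cfsg.inndiagPOmegaPlus m F ⊓ Subgroup.centralizer {x}) ≃* ↥(Cfsg.inndiagPOmegaMinus (m - 1) F₀ a₀ b₀))) ∧ (p = 2 → Cfsg.splitClassCount (Cfsg.inndiagPOmegaPlus m F) (Cfsg.Inn (Cfsg.POmega F (Cfsg.quadFormPlus m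 F))) x = 1) ∧ ((p ≠ 2 ∧ Odd m ∧ p ^ (f / 2) % 4 = 1) → Cfsg.splitClassCount (Cfsg.inndiagPOmegaPlus m F) (Cfsg.Inn (Cfsg.POmega F (Cfsg.quadFormPlus m F))) x = 4) ∧ ((p ≠ 2 ∧ ¬ (Odd m ∧ p ^ (f / 2) % 4 = 1)) → Cfsg.splitClassCount (Cfsg.inndiagPOmegaPlus m F) (Cfsg.Inn (Cfsg.POmega F (Cfsg.quadFormPlus m F))) x = 2) := by
  classical
  obtain ⟨k, rfl⟩ : ∃ k, m = k + 1 := ⟨m - 1, by omega⟩
  have hk : 4 ≤ k := by omega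
  have key : ∀ (Q' : (Fin (k + 1) ⊕ Fin (k + 1) → F) → F),
      ⇑(Cfsg.Agent.Lib.Helper5.QuadGlue.QP (k + 1) F) = Q' →
      ∀ (x : MulAut (Cfsg.POmega F Q')),
      (∃ (α γ φ : MulAut (Cfsg.POmega F Q')) (σ : F ≃+* F) (v : Fin (k + 1) ⊕ Fin (k + 1) → F)
          (rr : GL (Fin (k + 1) ⊕ Fin (k + 1)) F),
          σ ≠ RingEquiv.refl F ∧ Q' v ≠ 0 ∧ (∀ i, σ (v i) = v i) ∧
          (rr : Matrix (Fin (k + 1) ⊕ Fin (k + 1)) (Fin (k + 1) ⊕ Fin (k + 1)) F) =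
            Cfsg.reflectionMatrix Q' v ∧
          Cfsg.IsInducedBySemilinearPOmega Q' rr (RingEquiv.refl F) γ ∧
          Cfsg.IsFieldAutPOmegaOf Q' σ φ ∧ α * x * α⁻¹ = γ * φ) →
      orderOf x = 2 →
      Even f ∧
      (∀ y : MulAut (Cfsg.POmega F Q'),
        (∃ (α γ φ : MulAut (Cfsg.POmega F Q')) (σ : F ≃+* F) (v : Fin (k + 1) ⊕ Fin (k + 1) → F)
          (rr : GL (Fin (k + 1) ⊕ Fin (k + 1)) F),
          σ ≠ RingEquiv.refl F ∧ Q' v ≠ 0 ∧ (∀ i, σ (v i) = v i) ∧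
          (rr : Matrix (Fin (k + 1) ⊕ Fin (k + 1)) (Fin (k + 1) ⊕ Fin (k + 1)) F) =
            Cfsg.reflectionMatrix Q' v ∧
          Cfsg.IsInducedBySemilinearPOmega Q' rr (RingEquiv.refl F) γ ∧
          Cfsg.IsFieldAutPOmegaOf Q' σ φ ∧ α * y * α⁻¹ = γ * φ) → orderOf y = 2 →
        Cfsg.IsConjUnder (Cfsg.Agent.Lib.Helper5.PGO.inndiagQ Q') x y) ∧
      (∃ a₀ b₀ : F₀, (∀ z₁ z₂ : F₀, z₁ ^ 2 + a₀ * z₁ * z₂ + b₀ * z₂ ^ 2 = 0 → z₁ = 0 ∧ z₂ = 0) ∧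
        Nonempty (↥(Cfsg.Agent.Lib.Helper5.PGO.inndiagQ Q' ⊓ Subgroup.centralizer {x}) ≃*
          ↥(Cfsg.inndiagPOmegaMinus k F₀ a₀ b₀))) ∧
      (p = 2 → Cfsg.splitClassCount (Cfsg.Agent.Lib.Helper5.PGO.inndiagQ Q')
        (Cfsg.Inn (Cfsg.POmega F Q')) x = 1) ∧
      ((p ≠ 2 ∧ Odd (k + 1) ∧ p ^ (f / 2) % 4 = 1) →
        Cfsg.splitClassCount (Cfsg.Agent.Lib.Helper5.PGO.inndiagQ Q')
          (Cfsg.Inn (Cfsg.POmega F Q')) x = 4) ∧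
      ((p ≠ 2 ∧ ¬ (Odd (k + 1) ∧ p ^ (f / 2) % 4 = 1)) →
        Cfsg.splitClassCount (Cfsg.Agent.Lib.Helper5.PGO.inndiagQ Q')
          (Cfsg.Inn (Cfsg.POmega F Q')) x = 2) := by
    intro Q' hQ'
    subst hQ'
    intro x hx hx2
    obtain ⟨h1, h2, ⟨a₀, b₀, hab₀, h3⟩, h4, h5, h6⟩ :=
      Cfsg.Agent.Lib.Helper5.OFld.plus_graphfield_involution hF hf hk x hx hx2 F₀ hF₀
    refine ⟨h1, fun y hy hy2 => h2 y hy hy2, ⟨a₀, b₀, hab₀, ?_⟩, h4, h5, h6⟩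
    have key₀ : ∀ (Q₀ : ((Fin k ⊕ Fin k) ⊕ Fin 2 → F₀) → F₀),
        ⇑(Cfsg.Agent.Lib.Helper2.OrthCard.QMn k a₀ b₀) = Q₀ →
        Nonempty (↥(Cfsg.Agent.Lib.Helper5.PGO.inndiagQ
          (⇑(Cfsg.Agent.Lib.Helper5.QuadGlue.QP (k + 1) F)) ⊓ Subgroup.centralizer {x}) ≃*
          ↥(Cfsg.Agent.Lib.Helper5.PGO.inndiagQM Q₀
            (Cfsg.PreservesSingularClassesMinus k a₀ b₀))) := by
      intro Q₀ hQ₀
      subst hQ₀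
      exact h3
    exact key₀ _ (Cfsg.Agent.Lib.Helper2.OrthCard.QMn_coe k a₀ b₀)
  exact key _ (Cfsg.Agent.Lib.Helper2.QuadStd.QP_coe (k + 1)) x hx hx2

end Cfsg.Agent.S2717
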