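import Cfsg.Statements.S2725
import Cfsg.Agent.Lib.Helper5.PGO22

set_option autoImplicit false
open Cfsg

namespace Cfsg.Agent.S2725


open Cfsg.Agent.Lib.Helper5.PGO Cfsg.Agent.Lib.Helper5.QuadGlue Cfsg.Agent.Lib.Helper2.QuadStd

set_option maxHeartbeats 1600000 in


/-- Let T = PΩ⁺_{2m}(F) with m ≥ 4 and |F| = q odd. The inner-diagonal group G = Inndiag(T) (image of the class-preserving similarities) taken modulo the inner automorphism group T is cyclic of order 2 when m is odd and q ≡ 3 (mod 4), cyclic of order 4 when m is odd and q ≡ 1 (mod 4), and elementary abelian of order 4 when m is even. -/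
theorem result {F : Type*} [Field F] [Fintype F] (hodd : Odd (Fintype.card F)) {m : ℕ} (hm : 4 ≤ m) :
    ((Odd m ∧ Fintype.card F % 4 = 3) → (∃ φ : ↥(Cfsg.inndiagPOmegaPlus m F) →* Multiplicative (ZMod 2), Function.Surjective φ ∧ φ.ker = (Cfsg.Inn (Cfsg.POmega F (Cfsg.quadFormPlus m F))).subgroupOf (Cfsg.inndiagPOmegaPlus m F))) ∧ ((Odd m ∧ Fintype.card F % 4 = 1) → (∃ φ : ↥(Cfsg.inndiagPOmegaPlus m F) →* Multiplicative (ZMod 4), Function.Surjective φ ∧ φ.ker = (Cfsg.Inn (Cfsg.POmega F (Cfsg.quadFormPlus m F))).subgroupOf (Cfsg.inndiagPOmegaPlus m F))) ∧ (Even m → (∃ φ : ↥(Cfsg.inndiagPOmegaPlus m F) →* Multiplicative (ZMod 2 × ZMod 2), Function.Surjective φ ∧ φ.ker = (Cfsg.Inn (Cfsg.POmega F (Cfsg.quadFormPlus m F))).subgroupOf (Cfsg.inndiagPOmegaPlus m F))) := by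
  classical
  have h2 : (2 : F) ≠ 0 := two_ne_zero_of_odd_card hodd
  have key : ((Odd m ∧ Fintype.card F % 4 = 3) → (∃ φ : ↥(inndiagQ (⇑(QP m F))) →* Multiplicative (ZMod 2), Function.Surjective φ ∧ φ.ker = (Cfsg.Inn (Cfsg.POmega F (⇑(QP m F)))).subgroupOf (inndiagQ (⇑(QP m F))))) ∧ ((Odd m ∧ Fintype.card F % 4 = 1) → (∃ φ : ↥(inndiagQ (⇑(QP m F))) →* Multiplicative (ZMod 4), Function.Surjective φ ∧ φ.ker = (Cfsg.Inn (Cfsg.POmega F (⇑(QP m F)))).subgroupOf (inndiagQ (⇑(QP m F))))) ∧ (Even m → (∃ φ : ↥(inndiagQ (⇑(QP m F))) →* Multiplicative (ZMod 2 × ZMod 2), Function.Surjective φ ∧ φ.ker = (Cfsg.Inn (Cfsg.POmega F (⇑(QP m F)))).subgroupOf (inndiagQ (⇑(QP m F))))) := by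
    rw [inndiagQ_plus (by omega : 1 ≤ m) h2]
    exact structure_idg_plus rfl hodd hm
  rw [QP_coe] at key
  have e : inndiagQ (Cfsg.quadFormPlus m F) = Cfsg.inndiagPOmegaPlus m F := rfl
  rw [e] at key
  exact key


end Cfsg.Agent.S2725
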