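import Cfsg.Statements.S2726
import Cfsg.Agent.Lib.Helper5.PGO10

set_option autoImplicit false
open Cfsg

namespace Cfsg.Agent.S2726


open Cfsg.Agent.Lib.Helper5.PGO Cfsg.Agent.Lib.Helper2.OrthCard



/-- Let T = PΩ⁻_{2m+2}(F) with m ≥ 3 and |F| = q odd (form with anisotropic binary part). Inside Aut(T), the image G̃ of the conformal orthogonal group of the form modulo the image of the special orthogonal group is elementary abelian of order 4. -/
theorem result {F : Type*} [Field F] [Fintype F] (hodd : Odd (Fintype.card F)) {m : ℕ} (hm : 3 ≤ m) (a b : F) (hab : (∀ z₁ z₂ : F, z₁ ^ 2 + a * z₁ * z₂ + b * z₂ ^ 2 = 0 → z₁ = 0 ∧ z₂ = 0)) :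
    (∃ φ : ↥(Cfsg.pgoAut F (Cfsg.quadFormMinus m F a b)) →* Multiplicative (ZMod 2 × ZMod 2), Function.Surjective φ ∧ φ.ker = (Cfsg.psoAut F (Cfsg.quadFormMinus m F a b)).subgroupOf (Cfsg.pgoAut F (Cfsg.quadFormMinus m F a b))) := by
  have key := klein_minus (F := F) hm (two_ne_zero_of_odd_card hodd) a b hab
  rw [QMn_coe] at key
  exact key


end Cfsg.Agent.S2726
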