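import Cfsg.Statements.S2731
import Cfsg.Agent.Lib.Helper5.OFld28

set_option autoImplicit false
open Cfsg

namespace Cfsg.Agent.S2731

/-- A criterion for the failure of local balance in almost simple groups whose socle is an odd-dimensional orthogonal group Ω_{2m+1}(F) (m ≥ 3, |F| odd; the form x₀² + Σ xᵢ yᵢ). Let F be a finite field of characteristic r and K the (simple) group in question; let A be a group of automorphisms of K containing all inner automorphisms, and x ∈ A an automorphism of prime order p ≠ r that is not inner-diagonal (not induced by a similarity of the form). Then the largest normal subgroup of C_A(x) of order prime to p is nontrivial if and only if x is a field automorphism of K (conjugate under Aut(K) to a non-identity standard field automorphism) and p does not divide the number of fixed points of x on K. -/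
theorem result {F : Type*} [Field F] [Fintype F] {r : ℕ} [Fact r.Prime] [CharP F r] (hodd : Odd (Fintype.card F)) {m : ℕ} (hm : 3 ≤ m) (hK : IsSimpleGroup (Cfsg.POmega F (Cfsg.quadFormOdd m F))) (A : Subgroup (MulAut (Cfsg.POmega F (Cfsg.quadFormOdd m F)))) (hinn : ∀ k : Cfsg.POmega F (Cfsg.quadFormOdd m F), MulAut.conj k ∈ A) {p : ℕ} [Fact p.Prime] (hpr : p ≠ r) (x : MulAut (Cfsg.POmega F (Cfsg.quadFormOdd m F))) (hxA : x ∈ A) (hord : orderOf x = p) (hnot : ¬ Cfsg.IsInnerDiagonalAutPOmegaOdd m x) :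
    Cfsg.pPrimeCore p ↥(A ⊓ Subgroup.centralizer {x}) ≠ ⊥ ↔ (Cfsg.IsFieldAutClassPOmega (Cfsg.quadFormOdd m F) x ∧ Nat.Coprime p (Nat.card ↥(MonoidHom.eqLocus x.toMonoidHom (MonoidHom.id (Cfsg.POmega F (Cfsg.quadFormOdd m F)))))) := by
  classical
  have h2 : (2 : F) ≠ 0 := by
    intro h
    have h3 : ((2 : ℕ) : F) = 0 := by exact_mod_cast h
    rw [CharP.cast_eq_zero_iff F r] at h3
    have hp2 : r = 2 := (Nat.prime_dvd_prime_iff_eq Fact.out Nat.prime_two).1 h3
    obtain ⟨q, hq, hcard⟩ := FiniteField.card F r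
    rw [hcard, hp2] at hodd
    exact (Nat.not_even_iff_odd.2 hodd) (Nat.even_pow.2 ⟨even_two, q.ne_zero⟩)
  have hcoe := Cfsg.Agent.Lib.Helper2.OrthCard.QOd_coe (F := F) m
  have hQ := Cfsg.Agent.Lib.Helper2.OrthCard.QOd_nondeg (F := F) h2 m
  have hn : 7 ≤ Fintype.card (Unit ⊕ (Fin m ⊕ Fin m)) := by
    rw [Cfsg.Agent.Lib.Helper5.OFld.card_odd_index]; omega
  have hinv : Cfsg.Agent.Lib.Helper5.OFld.GalInv (⇑(Cfsg.Agent.Lib.Helper2.OrthCard.QOd m F)) := by
    rw [hcoe]; exact Cfsg.Agent.Lib.Helper5.OFld.galInv_odd m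
  have key : ∀ Q' : (Unit ⊕ (Fin m ⊕ Fin m) → F) → F,
      ⇑(Cfsg.Agent.Lib.Helper2.OrthCard.QOd m F) = Q' →
      ∀ (A : Subgroup (MulAut (Cfsg.POmega F Q'))), (∀ k : Cfsg.POmega F Q', MulAut.conj k ∈ A) →
      ∀ (x : MulAut (Cfsg.POmega F Q')), orderOf x = p →
      ¬ Cfsg.IsSimilarityInducedAutPOmega Q' x →
      (Cfsg.pPrimeCore p ↥(A ⊓ Subgroup.centralizer {x}) ≠ ⊥ ↔
        (Cfsg.IsFieldAutClassPOmega Q' x ∧ Nat.Coprime p (Nat.card
          ↥(MonoidHom.eqLocus x.toMonoidHom (MonoidHom.id (Cfsg.POmega F Q')))))) := by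
    intro Q' hQ'
    subst hQ'
    intro A hinn x hord hnot
    refine Cfsg.Agent.Lib.Helper5.OFld.balance_generic r h2 hQ hn
      (Cfsg.Agent.Lib.Helper5.OFld.lag_odd h2 hm) hinv
      (fun σ r hr hr0 g hg hpow =>
        Cfsg.Agent.Lib.Helper5.OFld.field_conj_odd h2 hm hinv σ r hr hr0 g hg hpow)
      ?_ A hinn hpr x hord
      (fun h => hnot (Cfsg.Agent.Lib.Helper5.OFld.mem_pgoAut_of_induced h))
    intro σ
    have h2E : (2 : ↥(Cfsg.Agent.Lib.Helper5.OFld.fixF σ)) ≠ 0 := by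
      intro h
      apply h2
      have := congrArg (Cfsg.Agent.Lib.Helper5.OFld.fixF σ).subtype h
      rwa [map_ofNat, map_zero] at this
    exact ⟨Cfsg.Agent.Lib.Helper2.OrthCard.QOd m ↥(Cfsg.Agent.Lib.Helper5.OFld.fixF σ),
      Cfsg.Agent.Lib.Helper2.OrthCard.QOd_nondeg h2E m,
      Cfsg.Agent.Lib.Helper5.OFld.QOd_extV _ m⟩
  exact key _ hcoe A hinn x hord hnot

end Cfsg.Agent.S2731
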