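import Mathlib
-- Template for statement S2734 (row 2734; see /opt/grader/pristine/manifest.json for weights).
-- Copy to Cfsg/Agent/S2734.lean and replace the sorry. The statement below is byte-identical to the frozen
-- statement Cfsg.CfsgFrozen.S2734 (Cfsg/Statements/S2734.lean; the theorem Cfsg.ltd21_chevalley_d4_standard_triality_centralizer_g2);
-- the grader kernel-checks Cfsg.Agent.S2734.result against that frozen type. Keep the theorem IN THIS FILE
-- (a `result` declared elsewhere and merely imported here is not credited); helpers may live anywhere
-- under Cfsg/Agent/.
import Cfsg.Statements.S2734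
import Cfsg.Agent.Lib.Helper3.ChevFold5

set_option autoImplicit false
open Cfsg


namespace Cfsg.Agent.S2734

/-- In the Chevalley group of type D₄ over a finite field F (the matrix group generated by the root elements), a graph automorphism attached to a symmetry π of the Dynkin diagram (sending each fundamental root element x_p(t) to x_{π(p)}(t) and each x_{−p}(t) to x_{−π(p)}(t)) that has order 3 — a standard triality graph automorphism, π being a 3-cycle of the three outer nodes — has fixed-point subgroup isomorphic to the Chevalley group of type G₂ over F. -/
theorem result {F : Type*} [Field F] [Fintype F] (τ : MulAut ↥(Cfsg.Lie.chevD4.group F)) (hτ : Cfsg.Lie.chevD4.IsGraphAut τ) (hτ3 : orderOf τ = 3) :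
    Nonempty (↥(MonoidHom.eqLocus τ.toMonoidHom (MonoidHom.id ↥(Cfsg.Lie.chevD4.group F))) ≃* ↥(Cfsg.Lie.chevG2.group F)) := by
  exact Cfsg.Agent.Lib.Helper3.ChevFold.d4_centralizer F τ hτ hτ3

end Cfsg.Agent.S2734
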