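import Cfsg.Statements.S2735
import Cfsg.Agent.Lib.Helper5.OFld18

set_option autoImplicit false
open Cfsg

namespace Cfsg.Agent.S2735

/-- Let T = Ω_{2m+1}(F) (m ≥ 3, |F| odd) and x a field automorphism of T of prime order r. Then an element y of the coset Inndiag(T)·x (y = δ x with δ induced by a similarity of the form) has order r if and only if y is conjugate to x by an element of Inndiag(T). (T has no graph or graph-field automorphisms.) -/
theorem result {F : Type*} [Field F] [Fintype F] (hodd : Odd (Fintype.card F)) {m : ℕ} (hm : 3 ≤ m) (x δ : MulAut (Cfsg.POmega F (Cfsg.quadFormOdd m F))) (hx : Cfsg.IsFieldAutClassPOmega (Cfsg.quadFormOdd m F) x) {r : ℕ} (hr : r.Prime) (hxr : orderOf x = r) (hδ : δ ∈ Cfsg.inndiagPOmegaOdd m F) :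
    orderOf (δ * x) = r ↔ Cfsg.IsConjUnder (Cfsg.inndiagPOmegaOdd m F) x (δ * x) := by
  classical
  obtain ⟨p, hchar⟩ := CharP.exists F
  haveI : Fact p.Prime := ⟨CharP.char_is_prime F p⟩
  have h2 : (2 : F) ≠ 0 := by
    intro h
    have h3 : ((2 : ℕ) : F) = 0 := by exact_mod_cast h
    rw [CharP.cast_eq_zero_iff F p] at h3
    have hp2 : p = 2 := (Nat.prime_dvd_prime_iff_eq Fact.out Nat.prime_two).1 h3
    obtain ⟨n, hn⟩ := FiniteField.card' F
    obtain ⟨q, hq, hcard⟩ := FiniteField.card F p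
    rw [hcard, hp2] at hodd
    exact (Nat.not_even_iff_odd.2 hodd) (Nat.even_pow.2 ⟨even_two, q.ne_zero⟩)
  have hcoe := Cfsg.Agent.Lib.Helper2.OrthCard.QOd_coe (F := F) m
  have hQ := Cfsg.Agent.Lib.Helper2.OrthCard.QOd_nondeg (F := F) h2 m
  have hn : 7 ≤ Fintype.card (Unit ⊕ (Fin m ⊕ Fin m)) := by
    rw [Cfsg.Agent.Lib.Helper5.OFld.card_odd_index]; omega
  have hinv : Cfsg.Agent.Lib.Helper5.OFld.GalInv (⇑(Cfsg.Agent.Lib.Helper2.OrthCard.QOd m F)) := by
    rw [hcoe]; exact Cfsg.Agent.Lib.Helper5.OFld.galInv_odd m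
  have key : ∀ Q' : (Unit ⊕ (Fin m ⊕ Fin m) → F) → F,
      ⇑(Cfsg.Agent.Lib.Helper2.OrthCard.QOd m F) = Q' →
      ∀ (x δ : MulAut (Cfsg.POmega F Q')), Cfsg.IsFieldAutClassPOmega Q' x → orderOf x = r →
      δ ∈ Cfsg.pgoAut F Q' →
      (orderOf (δ * x) = r ↔ Cfsg.IsConjUnder (Cfsg.pgoAut F Q') x (δ * x)) := by
    intro Q' hQ'
    subst hQ'
    intro x δ hx hxr hδ
    exact Cfsg.Agent.Lib.Helper5.OFld.coset_conj_generic p hQ hn
      (Cfsg.Agent.Lib.Helper5.OFld.lag_odd h2 hm) hinv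
      (fun σ r hr hr0 g hg hpow =>
        Cfsg.Agent.Lib.Helper5.OFld.field_conj_odd h2 hm hinv σ r hr hr0 g hg hpow)
      x δ hx hr hxr hδ
  exact key _ hcoe x δ hx hxr hδ

end Cfsg.Agent.S2735
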