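import Cfsg.Statements.S2736
import Cfsg.Agent.Lib.Helper5.OFld43

set_option autoImplicit false
open Cfsg

namespace Cfsg.Agent.S2736

/-- Let T = PΩ⁺_{2m}(F) with m ≥ 5 (dimension ≠ 8) and x a field automorphism or a graph-field automorphism of T of prime order r. Then an element y of the coset Inndiag(T)·x (y = δ x with δ induced by a class-preserving similarity) has order r if and only if y is conjugate to x by an element of Inndiag(T). -/
theorem result {F : Type*} [Field F] [Fintype F] {m : ℕ} (hm : 5 ≤ m) (x δ : MulAut (Cfsg.POmega F (Cfsg.quadFormPlus m F))) (hx : Cfsg.IsFieldAutClassPOmega (Cfsg.quadFormPlus m F) x ∨ Cfsg.IsGraphFieldAutClassPOmegaPlus m x) {r : ℕ} (hr : r.Prime) (hxr : orderOf x = r) (hδ : δ ∈ Cfsg.inndiagPOmegaPlus m F) :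
    orderOf (δ * x) = r ↔ Cfsg.IsConjUnder (Cfsg.inndiagPOmegaPlus m F) x (δ * x) := by
  classical
  have key : ∀ (Q' : (Fin m ⊕ Fin m → F) → F),
      ⇑(Cfsg.Agent.Lib.Helper5.QuadGlue.QP m F) = Q' →
      ∀ (x δ : MulAut (Cfsg.POmega F Q')),
      (Cfsg.IsFieldAutClassPOmega Q' x ∨
        ∃ (α γ φ : MulAut (Cfsg.POmega F Q')) (σ : F ≃+* F) (v : Fin m ⊕ Fin m → F)
          (rr : GL (Fin m ⊕ Fin m) F),
          σ ≠ RingEquiv.refl F ∧ Q' v ≠ 0 ∧ (∀ i, σ (v i) = v i) ∧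
          (rr : Matrix (Fin m ⊕ Fin m) (Fin m ⊕ Fin m) F) = Cfsg.reflectionMatrix Q' v ∧
          Cfsg.IsInducedBySemilinearPOmega Q' rr (RingEquiv.refl F) γ ∧
          Cfsg.IsFieldAutPOmegaOf Q' σ φ ∧ α * x * α⁻¹ = γ * φ) →
      orderOf x = r → δ ∈ Cfsg.Agent.Lib.Helper5.PGO.inndiagQ Q' → orderOf (δ * x) = r →
      Cfsg.IsConjUnder (Cfsg.Agent.Lib.Helper5.PGO.inndiagQ Q') x (δ * x) := by
    intro Q' hQ'
    subst hQ'
    intro x δ hx hxr hδ hy
    exact Cfsg.Agent.Lib.Helper5.OFld.plus_coset_conj_main hm x δ hx r hr hxr hδ hy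
  constructor
  · intro hy
    exact key _ (Cfsg.Agent.Lib.Helper2.QuadStd.QP_coe m) x δ hx hxr hδ hy
  · rintro ⟨h, -, hh⟩
    rw [hh, Cfsg.Agent.Lib.Helper5.OFld.orderOf_conj_eq, hxr]

end Cfsg.Agent.S2736
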