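import Cfsg.Statements.S2737
import Cfsg.Agent.Lib.Helper5.OFld36

set_option autoImplicit false
open Cfsg

namespace Cfsg.Agent.S2737

/-- Let T = PΩ⁻_{2m+2}(F) (m ≥ 3; form with anisotropic binary part) and x a field automorphism of T of prime order r. Then an element y of the coset Inndiag(T)·x has order r if and only if y is conjugate to x by an element of Inndiag(T). (T has no graph-field automorphisms.) -/
theorem result {F : Type*} [Field F] [Fintype F] {m : ℕ} (hm : 3 ≤ m) (a b : F) (hab : (∀ z₁ z₂ : F, z₁ ^ 2 + a * z₁ * z₂ + b * z₂ ^ 2 = 0 → z₁ = 0 ∧ z₂ = 0)) (x δ : MulAut (Cfsg.POmega F (Cfsg.quadFormMinus m F a b))) (hx : Cfsg.IsFieldAutClassPOmegaMinus m x) {r : ℕ} (hr : r.Prime) (hxr : orderOf x = r) (hδ : δ ∈ Cfsg.inndiagPOmegaMinus m F a b) :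
    orderOf (δ * x) = r ↔ Cfsg.IsConjUnder (Cfsg.inndiagPOmegaMinus m F a b) x (δ * x) := by
  classical
  obtain ⟨a', b', ψ, σ, hab', hσ, hσa, hσb, hfield⟩ := hx
  have key : ∀ (Q Q' : ((Fin m ⊕ Fin m) ⊕ Fin 2 → F) → F),
      ⇑(Cfsg.Agent.Lib.Helper2.OrthCard.QMn m a b) = Q →
      ⇑(Cfsg.Agent.Lib.Helper2.OrthCard.QMn m a' b') = Q' →
      ∀ (ψ : Cfsg.POmega F Q ≃* Cfsg.POmega F Q') (x δ : MulAut (Cfsg.POmega F Q)),
      Cfsg.IsFieldAutPOmegaOf Q' σ ((ψ.symm.trans x).trans ψ) → orderOf x = r →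
      δ ∈ Cfsg.Agent.Lib.Helper5.PGO.inndiagQM Q (Cfsg.PreservesSingularClassesMinus m a b) →
      orderOf (δ * x) = r →
      Cfsg.IsConjUnder (Cfsg.Agent.Lib.Helper5.PGO.inndiagQM Q
        (Cfsg.PreservesSingularClassesMinus m a b)) x (δ * x) := by
    intro Q Q' hQ hQ'
    subst hQ
    subst hQ'
    intro ψ x δ hfield hxr hδ hy
    exact Cfsg.Agent.Lib.Helper5.OFld.minus_coset_conj hm a b a' b' hab hab' ψ σ hσa hσb x δ
      hfield r hr.pos hxr hδ hy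
  constructor
  · intro hy
    exact key _ _ (Cfsg.Agent.Lib.Helper2.OrthCard.QMn_coe m a b)
      (Cfsg.Agent.Lib.Helper2.OrthCard.QMn_coe m a' b') ψ x δ hfield hxr hδ hy
  · rintro ⟨h, -, hh⟩
    rw [hh, Cfsg.Agent.Lib.Helper5.OFld.orderOf_conj_eq, hxr]

end Cfsg.Agent.S2737
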