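import Cfsg.Statements.S2738
import Mathlib

set_option autoImplicit false
open Cfsg

namespace Cfsg.Agent.S2738

open Matrix

/-- Constructor with the right type ascription. -/
def mkSL3 {F : Type*} [Field F] (M : Matrix (Fin 3) (Fin 3) F) (h : M.det = 1) :
    SpecialLinearGroup (Fin 3) F := ⟨M, h⟩

@[simp] theorem mkSL3_coe {F : Type*} [Field F] (M : Matrix (Fin 3) (Fin 3) F) (h : M.det = 1) :
    ((mkSL3 M h : SpecialLinearGroup (Fin 3) F) : Matrix (Fin 3) (Fin 3) F) = M := rfl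

theorem card_center (F : Type*) [Field F] [Fintype F] (hF : Fintype.card F = 4) :
    Nat.card ↥(Subgroup.center (Matrix.SpecialLinearGroup (Fin 3) F)) = 3 := by
  classical
  rw [Nat.card_congr (SpecialLinearGroup.center_equiv_rootsOfUnity' (0 : Fin 3)).toEquiv]
  have htop : rootsOfUnity (Fintype.card (Fin 3)) F = ⊤ := by
    rw [eq_top_iff]
    intro u _
    rw [mem_rootsOfUnity]
    have := pow_card_eq_one (x := u)
    rw [Fintype.card_units, hF] at this
    simpa using this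
  rw [htop, Nat.card_congr Subgroup.topEquiv.toEquiv, Nat.card_eq_fintype_card, Fintype.card_units, hF]

theorem result (F : Type*) [Field F] [Fintype F] (hF : Fintype.card F = 4) : Nat.card ↥(Subgroup.center (Matrix.SpecialLinearGroup (Fin 3) F)) = 3 ∧ ¬ ∃ K : Subgroup (Matrix.SpecialLinearGroup (Fin 3) F), Subgroup.IsComplement' (Subgroup.center (Matrix.SpecialLinearGroup (Fin 3) F)) K := by
  classical
  refine ⟨card_center F hF, ?_⟩
  rintro ⟨K, hK⟩
  -- an element ω ≠ 0, 1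
  obtain ⟨ω, hω0, hω1⟩ : ∃ ω : F, ω ≠ 0 ∧ ω ≠ 1 := by
    by_contra hcon
    push Not at hcon
    have hsub : (Finset.univ : Finset F) ⊆ {0, 1} := by
      intro x _
      by_cases hx : x = 0
      · simp [hx]
      · simp [hcon x hx]
    have := Finset.card_le_card hsub
    rw [Finset.card_univ, hF] at this
    have h2 : ({0, 1} : Finset F).card ≤ 2 := Finset.card_insert_le _ _
    omega
  have hω3 : ω ^ 3 = 1 := by
    have := FiniteField.pow_card_sub_one_eq_one ω hω0
    rwa [hF] at this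
  have hω3' : ω * ω * ω = 1 := by rw [← hω3]; ring
  -- the matrices
  set A : SpecialLinearGroup (Fin 3) F := mkSL3 !![1, 0, 0; 0, ω, 0; 0, 0, ω * ω]
    (by rw [Matrix.det_fin_three]; simp; try linear_combination hω3') with hA
  set B : SpecialLinearGroup (Fin 3) F := mkSL3 !![0, 0, 1; 1, 0, 0; 0, 1, 0]
    (by rw [Matrix.det_fin_three]; simp) with hB
  set z : SpecialLinearGroup (Fin 3) F := mkSL3 !![ω, 0, 0; 0, ω, 0; 0, 0, ω]
    (by rw [Matrix.det_fin_three]; simp; try linear_combination hω3') with hz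
  have hzc : z ∈ Subgroup.center (SpecialLinearGroup (Fin 3) F) := by
    rw [Matrix.SpecialLinearGroup.mem_center_iff]
    refine ⟨ω, by simpa using hω3, ?_⟩
    ext i j
    fin_cases i <;> fin_cases j <;> simp [hz, Matrix.scalar_apply, Matrix.diagonal_apply]
  have hrel : A * B = z * (B * A) := by
    ext i j
    fin_cases i <;> fin_cases j <;>
      simp [hA, hB, hz, Matrix.mul_apply, Fin.sum_univ_three] <;> linear_combination -hω3'
  -- decompositions
  have hdisj := hK.disjoint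
  have hdecomp : ∀ g : SpecialLinearGroup (Fin 3) F,
      ∃ c ∈ Subgroup.center (SpecialLinearGroup (Fin 3) F), ∃ k ∈ K, g = c * k := by
    intro g
    obtain ⟨⟨⟨c, hc⟩, ⟨k, hk⟩⟩, hck, -⟩ := Subgroup.IsComplement.existsUnique hK g
    exact ⟨c, hc, k, hk, hck.symm⟩
  obtain ⟨c₁, hc₁, k₁, hk₁, hA'⟩ := hdecomp A
  obtain ⟨c₂, hc₂, k₂, hk₂, hB'⟩ := hdecomp B
  have cm₁ : ∀ g, g * c₁ = c₁ * g := fun g => Subgroup.mem_center_iff.1 hc₁ g
  have cm₂ : ∀ g, g * c₂ = c₂ * g := fun g => Subgroup.mem_center_iff.1 hc₂ g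
  have cmz : ∀ g, g * z = z * g := fun g => Subgroup.mem_center_iff.1 hzc g
  have hk : k₁ * k₂ = z * (k₂ * k₁) := by
    have e1 : A * B = c₁ * c₂ * (k₁ * k₂) := by
      rw [hA', hB']
      calc c₁ * k₁ * (c₂ * k₂) = c₁ * (k₁ * c₂) * k₂ := by group
        _ = c₁ * (c₂ * k₁) * k₂ := by rw [cm₂ k₁]
        _ = c₁ * c₂ * (k₁ * k₂) := by group
    have e2 : B * A = c₁ * c₂ * (k₂ * k₁) := by
      rw [hA', hB']
      calc c₂ * k₂ * (c₁ * k₁) = c₂ * (k₂ * c₁) * k₁ := by group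
        _ = c₂ * (c₁ * k₂) * k₁ := by rw [cm₁ k₂]
        _ = (c₂ * c₁) * (k₂ * k₁) := by group
        _ = c₁ * c₂ * (k₂ * k₁) := by rw [cm₁ c₂]
    rw [e1, e2] at hrel
    have e3 : z * (c₁ * c₂ * (k₂ * k₁)) = c₁ * c₂ * (z * (k₂ * k₁)) := by
      calc z * (c₁ * c₂ * (k₂ * k₁)) = (z * (c₁ * c₂)) * (k₂ * k₁) := by group
        _ = ((c₁ * c₂) * z) * (k₂ * k₁) := by rw [cmz (c₁ * c₂)]
        _ = c₁ * c₂ * (z * (k₂ * k₁)) := by group
    rw [e3] at hrel
    exact mul_left_cancel hrel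
  have hzK : z ∈ K := by
    have : z = k₁ * k₂ * (k₂ * k₁)⁻¹ := by rw [hk]; group
    rw [this]
    exact K.mul_mem (K.mul_mem hk₁ hk₂) (K.inv_mem (K.mul_mem hk₂ hk₁))
  have hz1 : z = 1 := by
    have := Subgroup.disjoint_def.1 hdisj hzc hzK
    exact this
  have := congrArg (fun g : SpecialLinearGroup (Fin 3) F => (g : Matrix (Fin 3) (Fin 3) F) 0 0) hz1
  simp [hz] at this
  exact hω1 this

end Cfsg.Agent.S2738
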