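import Cfsg.Statements.S2739
import Cfsg.Agent.Lib.Helper5.PrimeOrderGL
import Cfsg.Agent.Lib.Helper5.PSL2Aut6

set_option autoImplicit false
open scoped Pointwise
open Cfsg

namespace Cfsg.Agent.S2739

open Matrix Polynomial

section cayley
variable {F : Type*} [Field F] [CharP F 2]

omit [CharP F 2] in
theorem charpoly_expand (M : Matrix (Fin 3) (Fin 3) F) :
    M.charpoly = X ^ 3 + C (M.charpoly.coeff 2) * X ^ 2 + C (M.charpoly.coeff 1) * X
      + C (M.charpoly.coeff 0) := by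
  have hdeg : M.charpoly.natDegree = 3 := by
    rw [Matrix.charpoly_natDegree_eq_dim, Fintype.card_fin]
  have h3 : M.charpoly.coeff 3 = 1 := by
    have := (Matrix.charpoly_monic M).coeff_natDegree
    rwa [hdeg] at this
  conv_lhs => rw [M.charpoly.as_sum_range_C_mul_X_pow, hdeg]
  rw [Finset.sum_range_succ, Finset.sum_range_succ, Finset.sum_range_succ, Finset.sum_range_one,
    h3, map_one, one_mul, pow_zero, mul_one, pow_one]
  ring

theorem coeff_zero_eq_det (M : Matrix (Fin 3) (Fin 3) F) : M.charpoly.coeff 0 = M.det := by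
  have h := Matrix.det_eq_sign_charpoly_coeff M
  rw [Fintype.card_fin] at h
  rw [h]
  have : (-1 : F) = 1 := by
    rw [neg_eq_iff_add_eq_zero]
    exact CharTwo.add_self_eq_zero 1
  rw [this, one_pow, one_mul]

/-- Cayley–Hamilton for a `3 × 3` matrix in characteristic 2. -/
theorem cayley3 (M : Matrix (Fin 3) (Fin 3) F) :
    M ^ 3 + M.charpoly.coeff 2 • M ^ 2 + M.charpoly.coeff 1 • M
      + M.det • (1 : Matrix (Fin 3) (Fin 3) F) = 0 := by
  have h := Matrix.aeval_self_charpoly M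
  rw [charpoly_expand M, coeff_zero_eq_det] at h
  simp only [map_add, map_mul, map_pow, aeval_X, aeval_C] at h
  rw [← h]
  simp only [Algebra.algebraMap_eq_smul_one, smul_mul_assoc, one_mul]

end cayley

section f4
variable {F : Type*} [Field F] [Fintype F]

theorem cube_eq_one (hF : Fintype.card F = 4) {s : F} (hs : s ≠ 0) : s ^ 3 = 1 := by
  have := FiniteField.pow_card_sub_one_eq_one s hs
  rwa [hF] at this

theorem charP2 (hF : Fintype.card F = 4) : CharP F 2 := by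
  have : Fact (Nat.Prime 2) := ⟨Nat.prime_two⟩
  exact Cfsg.Agent.Lib.Helper5.PSL2Aut.charP_of_card (p := 2) (f := 2) (by norm_num)
    (by rw [hF]; norm_num)

omit [Fintype F] in
theorem smul_one_eq_zero {s : F} (h : s • (1 : Matrix (Fin 3) (Fin 3) F) = 0) : s = 0 := by
  have := congrFun (congrFun h 0) 0
  simpa using this

omit [Fintype F] in
theorem smul_one_injective {s t : F}
    (h : s • (1 : Matrix (Fin 3) (Fin 3) F) = t • (1 : Matrix (Fin 3) (Fin 3) F)) : s = t := by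
  have := congrFun (congrFun h 0) 0
  simpa using this

/-- a scalar matrix whose cube is `l • 1` (with `l ≠ 0`) forces `l = 1`. -/
theorem scalar_case (hF : Fintype.card F = 4) (M : Matrix (Fin 3) (Fin 3) F) (l : F) (hl : l ≠ 0)
    (hM : M ^ 3 = l • (1 : Matrix (Fin 3) (Fin 3) F)) (s : F) (hs : M = s • 1) : l = 1 := by
  have h1 : (s ^ 3) • (1 : Matrix (Fin 3) (Fin 3) F) = l • (1 : Matrix (Fin 3) (Fin 3) F) := by
    rw [← hM, hs, _root_.smul_pow, one_pow]
  have h2 := smul_one_injective h1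
  have hs0 : s ≠ 0 := by
    rintro rfl
    rw [zero_pow (by norm_num)] at h2
    exact hl h2.symm
  rw [← h2, cube_eq_one hF hs0]

theorem linear_case (hF : Fintype.card F = 4) (M : Matrix (Fin 3) (Fin 3) F) (l : F) (hl : l ≠ 0)
    (hM : M ^ 3 = l • (1 : Matrix (Fin 3) (Fin 3) F)) (p₀ p₁ : F) (hp : p₁ ≠ 0)
    (h : p₀ • (1 : Matrix (Fin 3) (Fin 3) F) + p₁ • M = 0) : l = 1 := by
  apply scalar_case hF M l hl hM (-p₀ / p₁)
  have h1 : M = p₁⁻¹ • (p₁ • M) := by
    rw [smul_smul, inv_mul_cancel₀ hp, one_smul]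
  rw [h1, eq_neg_of_add_eq_zero_right h, smul_neg, smul_smul]
  rw [div_eq_inv_mul, mul_neg, neg_smul]

theorem lambda_eq_one (hF : Fintype.card F = 4) (M : Matrix (Fin 3) (Fin 3) F) (hdet : M.det = 1)
    (l : F) (hl : l ≠ 0) (hM : M ^ 3 = l • (1 : Matrix (Fin 3) (Fin 3) F)) : l = 1 := by
  have := charP2 hF
  have hneg : (-1 : F) = 1 := by
    rw [neg_eq_iff_add_eq_zero]
    exact CharTwo.add_self_eq_zero 1
  have hC := cayley3 M
  rw [hdet, hM, one_smul] at hC
  obtain ⟨c₁, hc₁⟩ : ∃ c₁, c₁ = M.charpoly.coeff 1 := ⟨_, rfl⟩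
  obtain ⟨c₂, hc₂⟩ : ∃ c₂, c₂ = M.charpoly.coeff 2 := ⟨_, rfl⟩
  rw [← hc₁, ← hc₂] at hC
  by_cases h2 : c₂ = 0
  · rw [h2, zero_smul, add_zero] at hC
    by_cases h1 : c₁ = 0
    · rw [h1, zero_smul, add_zero] at hC
      have h3 : (l + 1) • (1 : Matrix (Fin 3) (Fin 3) F) = 0 := by
        rw [add_smul, one_smul]
        exact hC
      have h4 := smul_one_eq_zero h3
      rw [eq_neg_of_add_eq_zero_left h4, hneg]
    · apply linear_case hF M l hl hM (l + 1) c₁ h1
      rw [← hC]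
      module
  · -- `M ^ 2 = a • M + b • 1`
    obtain ⟨a, ha⟩ : ∃ a, a = -c₁ / c₂ := ⟨_, rfl⟩
    obtain ⟨b, hb⟩ : ∃ b, b = -(l + 1) / c₂ := ⟨_, rfl⟩
    have hM2 : M ^ 2 = a • M + b • (1 : Matrix (Fin 3) (Fin 3) F) := by
      have h3 : M ^ 2 = c₂⁻¹ • (c₂ • M ^ 2) := by
        rw [smul_smul, inv_mul_cancel₀ h2, one_smul]
      have h4 : c₂ • M ^ 2 = -(c₁ • M) - (l + 1) • (1 : Matrix (Fin 3) (Fin 3) F) := by
        linear_combination (norm := module) hC
      rw [h3, h4, ha, hb]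
      module
    have hM3 : M ^ 3 = a • M ^ 2 + b • M := by
      rw [pow_succ', hM2, mul_add, mul_smul_comm, mul_smul_comm, mul_one, ← pow_two, hM2]
    rw [hM, hM2] at hM3
    by_cases h5 : a ^ 2 + b = 0
    · have h6 : (a * b - l) • (1 : Matrix (Fin 3) (Fin 3) F) = 0 := by
        have : (a * b - l) • (1 : Matrix (Fin 3) (Fin 3) F)
            = (a * b - l) • (1 : Matrix (Fin 3) (Fin 3) F) + (a ^ 2 + b) • M := by
          rw [h5, zero_smul, add_zero]
        rw [this]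
        linear_combination (norm := module) -hM3
      have h7 := smul_one_eq_zero h6
      have h8 : b = -a ^ 2 := eq_neg_of_add_eq_zero_right h5
      have h9 : l = -a ^ 3 := by
        rw [← sub_eq_zero.1 h7, h8]
        ring
      have ha0 : a ≠ 0 := by
        rintro rfl
        rw [zero_pow (by norm_num), neg_zero] at h9
        exact hl h9
      rw [h9, cube_eq_one hF ha0, hneg]
    · apply linear_case hF M l hl hM (a * b - l) (a ^ 2 + b) h5
      linear_combination (norm := module) -hM3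

/-- The characteristic polynomial of a nonscalar matrix of determinant one and cube one. -/
theorem charpoly_eq (hF : Fintype.card F = 4) (M : Matrix (Fin 3) (Fin 3) F) (hdet : M.det = 1)
    (hM : M ^ 3 = 1) (hns : ∀ s : F, M ≠ s • 1) : M.charpoly = X ^ 3 + 1 := by
  have := charP2 hF
  have hC := cayley3 M
  rw [hdet, hM, one_smul] at hC
  obtain ⟨c₁, hc₁⟩ : ∃ c₁, c₁ = M.charpoly.coeff 1 := ⟨_, rfl⟩
  obtain ⟨c₂, hc₂⟩ : ∃ c₂, c₂ = M.charpoly.coeff 2 := ⟨_, rfl⟩
  rw [← hc₁, ← hc₂] at hC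
  have h11 : (1 : Matrix (Fin 3) (Fin 3) F) + 1 = 0 := CharTwo.add_self_eq_zero 1
  have h1 : c₂ • M ^ 2 + c₁ • M = 0 := by
    have : c₂ • M ^ 2 + c₁ • M = (1 + c₂ • M ^ 2 + c₁ • M + 1) - ((1 : Matrix (Fin 3) (Fin 3) F) + 1) := by
      abel
    rw [this, hC, h11, sub_zero]
  have h2 : c₂ • M + c₁ • (1 : Matrix (Fin 3) (Fin 3) F) = 0 := by
    have : c₂ • M + c₁ • (1 : Matrix (Fin 3) (Fin 3) F) = M ^ 2 * (c₂ • M ^ 2 + c₁ • M) := by
      rw [mul_add, mul_smul_comm, mul_smul_comm, ← pow_add, ← pow_succ, hM,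
        show 2 + 2 = 3 + 1 from rfl, pow_succ, hM, one_mul]
    rw [this, h1, mul_zero]
  have hc2 : c₂ = 0 := by
    by_contra hne
    apply hns (-c₁ / c₂)
    have h3 : M = c₂⁻¹ • (c₂ • M) := by
      rw [smul_smul, inv_mul_cancel₀ hne, one_smul]
    rw [h3, eq_neg_of_add_eq_zero_left h2, smul_neg, smul_smul, div_eq_inv_mul, mul_neg,
      neg_smul]
  have hc1 : c₁ = 0 := by
    rw [hc2, zero_smul, zero_add] at h2
    exact smul_one_eq_zero h2
  rw [charpoly_expand M, coeff_zero_eq_det, ← hc₁, ← hc₂, hc1, hc2, hdet]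
  simp

end f4

section conj
variable {F : Type*} [Field F] [Fintype F]

theorem exists_omega (hF : Fintype.card F = 4) : ∃ w : F, w ≠ 0 ∧ w ≠ 1 := by
  classical
  by_contra h
  push Not at h
  have h1 : Fintype.card F ≤ 2 := by
    calc Fintype.card F = (Finset.univ : Finset F).card := rfl
      _ ≤ ({0, 1} : Finset F).card := by
          apply Finset.card_le_card
          intro x _
          by_cases hx : x = 0
          · simp [hx]
          · simp [h x hx]
      _ ≤ 2 := Finset.card_le_two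
  omega

/-- The standard diagonal element. -/
def dmat (w : F) : Matrix (Fin 3) (Fin 3) F := Matrix.diagonal ![1, w, w ^ 2]

omit [Fintype F] in
theorem det_dmat (w : F) (hw : w ^ 3 = 1) : (dmat w).det = 1 := by
  unfold dmat
  rw [Matrix.det_diagonal, Fin.prod_univ_three]
  simp only [Matrix.cons_val_zero, Matrix.cons_val_one, Matrix.cons_val]
  rw [one_mul, ← pow_succ', hw]

omit [Fintype F] in
theorem dmat_pow (w : F) (hw : w ^ 3 = 1) : dmat w ^ 3 = 1 := by
  unfold dmat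
  rw [Matrix.diagonal_pow, ← Matrix.diagonal_one]
  congr 1
  ext i
  fin_cases i
  · simp
  · simpa using hw
  · simp only [Pi.pow_apply, Pi.one_apply]
    show (w ^ 2) ^ 3 = 1
    rw [← pow_mul, mul_comm, pow_mul, hw, one_pow]

omit [Fintype F] in
theorem dmat_nonscalar (w : F) (hw1 : w ≠ 1) (s : F) : dmat w ≠ s • 1 := by
  intro h
  have h0 := congrFun (congrFun h 0) 0
  have h1 := congrFun (congrFun h 1) 1
  simp [dmat] at h0 h1
  exact hw1 (h1.trans h0.symm)

/-- The standard element of `SL_3`. -/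
def dSL (w : F) (hw : w ^ 3 = 1) : Matrix.SpecialLinearGroup (Fin 3) F := ⟨dmat w, det_dmat w hw⟩

theorem exists_conj_dSL (hF : Fintype.card F = 4) (w : F) (hw : w ^ 3 = 1) (hw1 : w ≠ 1)
    (x : Matrix.SpecialLinearGroup (Fin 3) F) (hx : x ^ 3 = 1)
    (hns : ∀ s : F, (x : Matrix (Fin 3) (Fin 3) F) ≠ s • 1) :
    ∃ g : Matrix.SpecialLinearGroup (Fin 3) F, g * x * g⁻¹ = dSL w hw := by
  have := charP2 hF
  have : Fact (Nat.Prime 2) := ⟨Nat.prime_two⟩
  have hxM : (x : Matrix (Fin 3) (Fin 3) F) ^ 3 = 1 := by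
    rw [← Matrix.SpecialLinearGroup.coe_pow, hx, Matrix.SpecialLinearGroup.coe_one]
  have hc1 := charpoly_eq hF (x : Matrix (Fin 3) (Fin 3) F) x.2 hxM hns
  have hc2 := charpoly_eq hF (dmat w) (det_dmat w hw) (dmat_pow w hw) (dmat_nonscalar w hw1)
  obtain ⟨xG, hxG⟩ : ∃ xG : GL (Fin 3) F, (xG : Matrix (Fin 3) (Fin 3) F) = x :=
    ⟨Matrix.SpecialLinearGroup.toGL x, rfl⟩
  obtain ⟨dG, hdG⟩ : ∃ dG : GL (Fin 3) F, (dG : Matrix (Fin 3) (Fin 3) F) = dmat w :=
    ⟨Matrix.SpecialLinearGroup.toGL (dSL w hw), rfl⟩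
  have hxG3 : xG ^ 3 = 1 := by
    apply Units.ext
    rw [Units.val_pow_eq_pow_val, hxG, hxM, Units.val_one]
  have hdG3 : dG ^ 3 = 1 := by
    apply Units.ext
    rw [Units.val_pow_eq_pow_val, hdG, dmat_pow w hw, Units.val_one]
  have hconj := Cfsg.Agent.Lib.Helper5.isConj_of_charpoly_eq 2 3 Nat.prime_three (by norm_num)
    xG dG hxG3 hdG3 (by rw [hxG, hdG, hc1, hc2])
  obtain ⟨c, hc⟩ := isConj_iff.1 hconj
  have hcM : (c : Matrix (Fin 3) (Fin 3) F) * (x : Matrix (Fin 3) (Fin 3) F)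
      = dmat w * (c : Matrix (Fin 3) (Fin 3) F) := by
    have h1 : c * xG = dG * c := mul_inv_eq_iff_eq_mul.1 hc
    have h2 := congrArg (fun g : GL (Fin 3) F => (g : Matrix (Fin 3) (Fin 3) F)) h1
    simp only [Units.val_mul] at h2
    rw [hxG, hdG] at h2
    exact h2
  have hdet0 : (c : Matrix (Fin 3) (Fin 3) F).det ≠ 0 := by
    have hu : IsUnit (c : Matrix (Fin 3) (Fin 3) F).det :=
      (Matrix.isUnit_iff_isUnit_det _).1 ⟨c, rfl⟩
    exact hu.ne_zero
  obtain ⟨T, hT⟩ : ∃ T : Matrix (Fin 3) (Fin 3) F,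
      T = Matrix.diagonal ![((c : Matrix (Fin 3) (Fin 3) F).det)⁻¹, 1, 1] := ⟨_, rfl⟩
  have hTdet : T.det = ((c : Matrix (Fin 3) (Fin 3) F).det)⁻¹ := by
    rw [hT, Matrix.det_diagonal, Fin.prod_univ_three]
    simp
  have hTd : T * dmat w = dmat w * T := by
    rw [hT]
    unfold dmat
    rw [Matrix.diagonal_mul_diagonal, Matrix.diagonal_mul_diagonal]
    congr 1
    ext i
    exact mul_comm _ _
  have hgdet : (T * (c : Matrix (Fin 3) (Fin 3) F)).det = 1 := by
    rw [Matrix.det_mul, hTdet, inv_mul_cancel₀ hdet0]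
  obtain ⟨g, hg⟩ : ∃ g : Matrix.SpecialLinearGroup (Fin 3) F,
      (g : Matrix (Fin 3) (Fin 3) F) = T * (c : Matrix (Fin 3) (Fin 3) F) := ⟨⟨_, hgdet⟩, rfl⟩
  refine ⟨g, ?_⟩
  rw [mul_inv_eq_iff_eq_mul]
  apply Subtype.ext
  rw [Matrix.SpecialLinearGroup.coe_mul, Matrix.SpecialLinearGroup.coe_mul, hg]
  show T * (c : Matrix (Fin 3) (Fin 3) F) * (x : Matrix (Fin 3) (Fin 3) F)
    = dmat w * (T * (c : Matrix (Fin 3) (Fin 3) F))
  rw [Matrix.mul_assoc, hcM, ← Matrix.mul_assoc, hTd, Matrix.mul_assoc]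

end conj

section psl
variable {F : Type*} [Field F] [Fintype F]

theorem exists_conj_psl (hF : Fintype.card F = 4) (w : F) (hw : w ^ 3 = 1) (hw1 : w ≠ 1)
    (xb : Matrix.ProjectiveSpecialLinearGroup (Fin 3) F) (hx : orderOf xb = 3) :
    ∃ g : Matrix.ProjectiveSpecialLinearGroup (Fin 3) F,
      g * xb * g⁻¹ = QuotientGroup.mk (dSL w hw) := by
  obtain ⟨x, rfl⟩ := QuotientGroup.mk_surjective xb
  have hx3 : ((x ^ 3 : Matrix.SpecialLinearGroup (Fin 3) F) :
      Matrix.ProjectiveSpecialLinearGroup (Fin 3) F) = 1 := by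
    rw [QuotientGroup.mk_pow]
    have := pow_orderOf_eq_one (x : Matrix.ProjectiveSpecialLinearGroup (Fin 3) F)
    rwa [hx] at this
  have hxc : x ^ 3 ∈ Subgroup.center (Matrix.SpecialLinearGroup (Fin 3) F) :=
    (QuotientGroup.eq_one_iff _).1 hx3
  obtain ⟨r, hr, hrx⟩ := Matrix.SpecialLinearGroup.mem_center_iff.1 hxc
  have hr0 : r ≠ 0 := by
    rintro rfl
    rw [Fintype.card_fin, zero_pow (by norm_num)] at hr
    exact zero_ne_one hr
  have hM : (x : Matrix (Fin 3) (Fin 3) F) ^ 3 = r • (1 : Matrix (Fin 3) (Fin 3) F) := by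
    rw [← Matrix.SpecialLinearGroup.coe_pow, ← hrx, Matrix.scalar_apply,
      Matrix.smul_one_eq_diagonal]
  have hr1 := lambda_eq_one hF (x : Matrix (Fin 3) (Fin 3) F) x.2 r hr0 hM
  have hx31 : x ^ 3 = 1 := by
    apply Subtype.ext
    rw [Matrix.SpecialLinearGroup.coe_pow, hM, hr1, one_smul, Matrix.SpecialLinearGroup.coe_one]
  have hns : ∀ s : F, (x : Matrix (Fin 3) (Fin 3) F) ≠ s • 1 := by
    intro s hs
    have hs3 : s ^ 3 = 1 := by
      have := x.2
      rw [hs, Matrix.det_smul, Matrix.det_one, Fintype.card_fin, mul_one] at this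
      exact this
    have h1 : x ∈ Subgroup.center (Matrix.SpecialLinearGroup (Fin 3) F) := by
      rw [Matrix.SpecialLinearGroup.mem_center_iff]
      refine ⟨s, ?_, ?_⟩
      · rw [Fintype.card_fin]
        exact hs3
      · rw [hs, Matrix.scalar_apply, Matrix.smul_one_eq_diagonal]
    have h2 : (x : Matrix.ProjectiveSpecialLinearGroup (Fin 3) F) = 1 :=
      (QuotientGroup.eq_one_iff _).2 h1
    rw [h2, orderOf_one] at hx
    norm_num at hx
  obtain ⟨g, hg⟩ := exists_conj_dSL hF w hw hw1 x hx31 hns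
  refine ⟨(g : Matrix.ProjectiveSpecialLinearGroup (Fin 3) F), ?_⟩
  rw [← QuotientGroup.mk_inv, ← QuotientGroup.mk_mul, ← QuotientGroup.mk_mul, hg]

theorem exists_gen {G : Type*} [Group G] (Z : Subgroup G) (hZ : Nat.card Z = 3) :
    ∃ z : G, orderOf z = 3 ∧ Z = Subgroup.zpowers z := by
  have : Fact (Nat.Prime 3) := ⟨Nat.prime_three⟩
  have : Finite Z := Nat.finite_of_card_ne_zero (by rw [hZ]; norm_num)
  obtain ⟨x, hx⟩ := exists_prime_orderOf_dvd_card' (G := Z) 3 (by rw [hZ])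
  refine ⟨(x : G), ?_, ?_⟩
  · rw [Subgroup.orderOf_coe, hx]
  · symm
    apply Subgroup.eq_of_le_of_card_ge
    · rw [Subgroup.zpowers_le]
      exact x.2
    · rw [Nat.card_zpowers, Subgroup.orderOf_coe, hx, hZ]

theorem conj_smul_zpowers {G : Type*} [Group G] (g z : G) :
    MulAut.conj g • Subgroup.zpowers z = Subgroup.zpowers (g * z * g⁻¹) := by
  rw [Subgroup.pointwise_smul_def]
  exact MonoidHom.map_zpowers (MulAut.conj g).toMonoidHom z

end psl


/-- In the projective special linear group PSL(3, 4) all subgroups of order 3 are conjugate. -/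
theorem result (F : Type*) [Field F] [Fintype F] (hF : Fintype.card F = 4) (X Y : Subgroup (Matrix.ProjectiveSpecialLinearGroup (Fin 3) F)) (hX : Nat.card ↥X = 3) (hY : Nat.card ↥Y = 3) : ∃ g : Matrix.ProjectiveSpecialLinearGroup (Fin 3) F, MulAut.conj g • X = Y := by
  classical
  obtain ⟨w, hw0, hw1⟩ := exists_omega hF
  have hw := cube_eq_one hF hw0
  obtain ⟨x, hx3, rfl⟩ := exists_gen X hX
  obtain ⟨y, hy3, rfl⟩ := exists_gen Y hY
  obtain ⟨g₁, hg₁⟩ := exists_conj_psl hF w hw hw1 x hx3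
  obtain ⟨g₂, hg₂⟩ := exists_conj_psl hF w hw hw1 y hy3
  refine ⟨g₂⁻¹ * g₁, ?_⟩
  rw [conj_smul_zpowers]
  congr 1
  have : g₂⁻¹ * g₁ * x * (g₂⁻¹ * g₁)⁻¹ = g₂⁻¹ * (g₁ * x * g₁⁻¹) * g₂ := by group
  rw [this, hg₁, ← hg₂]
  group

end Cfsg.Agent.S2739
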