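import Mathlib
import Cfsg.Agent.Lib.Helper6.Conj2
import Cfsg.Agent.Lib.Helper1.InvPair
import Cfsg.Agent.Lib.Helper1.DihedralIso
import Cfsg.Agent.Lib.Helper9.Sections
import Cfsg.Agent.Lib.Lead.Nilpotent
import Cfsg.Statements.S2758

set_option autoImplicit false
open Cfsg Cfsg.Agent.Lib.Helper6

namespace Cfsg.Agent.S2758

open scoped commutatorElement

variable {G : Type*} [Group G] [Finite G] {p : ℕ} [Fact p.Prime]

/-- (b) ⇒ (c) -/
theorem partA {x : G} {P : Subgroup G} (hx : ∃ k : ℕ, orderOf x = 2 ^ k) (hP : IsPGroup p P)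
    (hxN : x ∈ Subgroup.normalizer (P : Set G)) (hxC : x ∉ Subgroup.centralizer (P : Set G)) :
    ∃ x y : G, (∃ k : ℕ, orderOf x = 2 ^ k) ∧ (∃ k : ℕ, orderOf y = p ^ k) ∧ y ≠ 1 ∧
      x * y * x⁻¹ = y⁻¹ := by
  classical
  obtain ⟨k, hk⟩ := hx
  have hex : ∃ j : ℕ, x ^ (2 ^ j) ∈ Subgroup.centralizer (P : Set G) :=
    ⟨k, by rw [← hk, pow_orderOf_eq_one]; exact Subgroup.one_mem _⟩
  set m := Nat.find hex with hm
  have hm_spec : x ^ (2 ^ m) ∈ Subgroup.centralizer (P : Set G) := Nat.find_spec hex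
  have hm_pos : 0 < m := by
    rcases Nat.eq_zero_or_pos m with h0 | h0
    · exfalso
      rw [h0, pow_zero, pow_one] at hm_spec
      exact hxC hm_spec
    · exact h0
  have hm_min : x ^ (2 ^ (m - 1)) ∉ Subgroup.centralizer (P : Set G) :=
    Nat.find_min hex (by omega)
  set x' := x ^ (2 ^ (m - 1)) with hx'
  have hx'2 : x' * x' ∈ Subgroup.centralizer (P : Set G) := by
    have : x' * x' = x ^ (2 ^ m) := by
      rw [hx', ← pow_add, ← two_mul, ← pow_succ']
      congr 2; omega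
    rw [this]; exact hm_spec
  have hx'N : x' ∈ Subgroup.normalizer (P : Set G) := Subgroup.pow_mem _ hxN _
  have hx'ord : ∃ k : ℕ, orderOf x' = 2 ^ k := by
    have h1 : orderOf x' ∣ 2 ^ k := by
      rw [← hk]; exact orderOf_pow_dvd _
    obtain ⟨i, -, hi⟩ := (Nat.dvd_prime_pow Nat.prime_two).mp h1
    exact ⟨i, hi⟩
  -- an element moved by x'
  obtain ⟨z, hzP, hz⟩ : ∃ z ∈ P, x' * z * x'⁻¹ ≠ z := by
    by_contra hall
    push Not at hall
    apply hm_min
    rw [Subgroup.mem_centralizer_iff]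
    intro z hz
    have := hall z hz
    calc z * x' = (x' * z * x'⁻¹) * x' := by rw [this]
      _ = x' * z := by group
  have hxz : x' * z * x'⁻¹ ∈ P := (Subgroup.mem_normalizer_iff.mp hx'N z).mp hzP
  refine ⟨x', z⁻¹ * (x' * z * x'⁻¹), hx'ord, ?_, ?_, ?_⟩
  · have hy : z⁻¹ * (x' * z * x'⁻¹) ∈ P := P.mul_mem (P.inv_mem hzP) hxz
    obtain ⟨j, hj⟩ := (IsPGroup.iff_orderOf.mp hP) ⟨_, hy⟩
    exact ⟨j, by rw [← hj, Subgroup.orderOf_mk]⟩
  · intro h
    apply hz
    have : x' * z * x'⁻¹ = z * (z⁻¹ * (x' * z * x'⁻¹)) := by group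
    rw [this, h, mul_one]
  · have hc := Subgroup.mem_centralizer_iff.mp hx'2 z hzP
    have h1 : x' * (x' * z * x'⁻¹) * x'⁻¹ = z := by
      calc x' * (x' * z * x'⁻¹) * x'⁻¹ = ((x' * x') * z) * (x' * x')⁻¹ := by group
        _ = (z * (x' * x')) * (x' * x')⁻¹ := by rw [hc]
        _ = z := by group
    calc x' * (z⁻¹ * (x' * z * x'⁻¹)) * x'⁻¹
        = (x' * z * x'⁻¹)⁻¹ * (x' * (x' * z * x'⁻¹) * x'⁻¹) := by group
      _ = (x' * z * x'⁻¹)⁻¹ * z := by rw [h1]
      _ = (z⁻¹ * (x' * z * x'⁻¹))⁻¹ := by group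

/-- (c) ⇒ (a) -/
theorem partB (hp : p ≠ 2) {x y : G} (hx : ∃ k : ℕ, orderOf x = 2 ^ k) (hy : ∃ k : ℕ, orderOf y = p ^ k)
    (hy1 : y ≠ 1) (hinv : x * y * x⁻¹ = y⁻¹) : Cfsg.Involves (DihedralGroup p) G := by
  have hpp : p.Prime := Fact.out
  have hpodd : Odd p := hpp.odd_of_ne_two hp
  obtain ⟨k, hk⟩ := hx
  obtain ⟨j, hj⟩ := hy
  have hj1 : 1 ≤ j := by
    rcases Nat.eq_zero_or_pos j with h0 | h0
    · exfalso
      rw [h0, pow_zero, orderOf_eq_one_iff] at hj
      exact hy1 hj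
    · exact h0
  -- an element of order p inverted by x
  set y' := y ^ (p ^ (j - 1)) with hy'
  have hy'ord : orderOf y' = p := by
    rw [hy', orderOf_pow, hj]
    have h1 : p ^ j = p ^ (j - 1) * p := by rw [← pow_succ]; congr 1; omega
    have h2 : (p ^ j).gcd (p ^ (j - 1)) = p ^ (j - 1) := by
      apply Nat.gcd_eq_right
      exact pow_dvd_pow p (Nat.sub_le j 1)
    rw [h2, h1, Nat.mul_div_cancel_left _ (pow_pos hpp.pos _)]
  have hinv' : x * y' * x⁻¹ = y'⁻¹ := by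
    rw [hy', ← conj_pow, hinv, inv_pow]
  have hy'1 : y' ≠ 1 := by
    intro h
    rw [h, orderOf_one] at hy'ord
    exact hpp.one_lt.ne hy'ord
  have hinv2 : x * y'⁻¹ * x⁻¹ = y' := by
    have := congrArg Inv.inv hinv'
    rw [inv_inv] at this
    calc x * y'⁻¹ * x⁻¹ = (x * y' * x⁻¹)⁻¹ := by group
      _ = y' := this
  have hinv'' : x⁻¹ * y' * x = y'⁻¹ := by
    calc x⁻¹ * y' * x = x⁻¹ * (x * y'⁻¹ * x⁻¹) * x := by rw [hinv2]
      _ = y'⁻¹ := by group
  -- y' is not its own inverse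
  have hodd_key : ∀ {H : Type _} [Group H] (w : H), w ^ p = 1 → w * w = 1 → w = 1 := by
    intro H _ w hwp hw2
    obtain ⟨m, hm⟩ := hpodd
    have : w ^ p = w := by
      rw [hm, pow_succ, pow_mul, pow_two, hw2, one_pow, one_mul]
    rw [← this, hwp]
  have hy'p : y' ^ p = 1 := by rw [← hy'ord, pow_orderOf_eq_one]
  -- the subgroup generated by x and y'
  set K := Subgroup.closure ({x, y'} : Set G) with hK
  have hxK : x ∈ K := Subgroup.subset_closure (by simp)
  have hyK : y' ∈ K := Subgroup.subset_closure (by simp)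
  have hcent : K ≤ Subgroup.centralizer ({x * x} : Set G) := by
    rw [hK, Subgroup.closure_le]
    intro g hg
    rw [SetLike.mem_coe, Subgroup.mem_centralizer_iff]
    intro c hc
    have hc' : c = x * x := hc
    rw [hc']
    rcases hg with rfl | hg
    · group
    · have hg' : g = y' := hg
      rw [hg']
      calc x * x * y' = x * (x * y' * x⁻¹) * x := by group
        _ = x * y'⁻¹ * x := by rw [hinv']
        _ = (x * y'⁻¹ * x⁻¹) * (x * x) := by group
        _ = y' * (x * x) := by rw [hinv2]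
  have hcenter : (⟨x, hxK⟩ * ⟨x, hxK⟩ : K) ∈ Subgroup.center K := by
    rw [Subgroup.mem_center_iff]
    intro g
    apply Subtype.ext
    have := Subgroup.mem_centralizer_iff.mp (hcent g.2) (x * x) rfl
    exact this.symm
  haveI hZn : (Subgroup.zpowers (⟨x, hxK⟩ * ⟨x, hxK⟩ : K)).Normal :=
    Cfsg.Agent.Lib.Lead.zpowers_normal_of_mem_center hcenter
  set Z := Subgroup.zpowers (⟨x, hxK⟩ * ⟨x, hxK⟩ : K) with hZ
  -- elements of Z commute with x (as elements of G they are powers of x)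
  have hZx : ∀ g : K, g ∈ Z → (g : G) * x = x * (g : G) := by
    intro g hg
    obtain ⟨i, rfl⟩ := Subgroup.mem_zpowers_iff.mp hg
    have h1 : (((⟨x, hxK⟩ * ⟨x, hxK⟩ : K) ^ i : K) : G) = (x * x) ^ i := by
      rw [Subgroup.coe_zpow]; rfl
    rw [h1]
    have : Commute ((x * x) ^ i) x := ((Commute.refl x).mul_left (Commute.refl x)).zpow_left i
    exact this.eq
  set a : K ⧸ Z := QuotientGroup.mk ⟨x, hxK⟩ with ha
  set w : K ⧸ Z := QuotientGroup.mk ⟨y', hyK⟩ with hw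
  have hwp : w ^ p = 1 := by
    rw [hw, ← QuotientGroup.mk_pow]
    have : (⟨y', hyK⟩ : K) ^ p = 1 := Subtype.ext (by rw [Subgroup.coe_pow]; exact hy'p)
    rw [this]; rfl
  have hw1 : w ≠ 1 := by
    intro h
    have hmem : (⟨y', hyK⟩ : K) ∈ Z := (QuotientGroup.eq_one_iff _).mp h
    have hcomm := hZx _ hmem
    have hcomm' : y' * x = x * y' := hcomm
    have h2 : y'⁻¹ = y' := by
      rw [← hinv', ← hcomm']; group
    apply hy'1
    apply hodd_key y' hy'p
    calc y' * y' = y'⁻¹ * y' := by rw [h2]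
      _ = 1 := by group
  have hw2 : w * w ≠ 1 := fun h => hw1 (hodd_key w hwp h)
  have haa : a * a = 1 := by
    rw [ha, ← QuotientGroup.mk_mul]
    exact (QuotientGroup.eq_one_iff _).mpr (Subgroup.mem_zpowers _)
  have hconj : a * w * a⁻¹ = w⁻¹ := by
    rw [ha, hw, ← QuotientGroup.mk_mul, ← QuotientGroup.mk_inv, ← QuotientGroup.mk_mul,
      ← QuotientGroup.mk_inv]
    congr 1
    apply Subtype.ext
    exact hinv'
  have ha1 : a ≠ 1 := by
    intro h
    rw [h, one_mul, inv_one, mul_one] at hconj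
    apply hw2
    calc w * w = w⁻¹ * w := by rw [← hconj]
      _ = 1 := by group
  have haord : orderOf a = 2 := Cfsg.Agent.Lib.Helper1.orderOf_two_of_mul_self haa ha1
  have hainv : a⁻¹ = a := Cfsg.Agent.Lib.Helper1.inv_eq_self_of_mul_self haa
  have hbb : (a * w) * (a * w) = 1 := by
    calc (a * w) * (a * w) = (a * w * a⁻¹) * (a * a) * w := by group
      _ = 1 := by rw [hconj, haa]; group
  have hb1 : a * w ≠ 1 := by
    intro h
    have : w = a⁻¹ := eq_inv_of_mul_eq_one_right h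
    rw [hainv] at this
    apply hw2
    rw [this]; exact haa
  have hbord : orderOf (a * w) = 2 := Cfsg.Agent.Lib.Helper1.orderOf_two_of_mul_self hbb hb1
  have hab : a * (a * w) = w := by rw [← mul_assoc, haa, one_mul]
  have hword : orderOf w = p := orderOf_eq_prime hwp hw1
  have hn : orderOf (a * (a * w)) ≠ 0 := by rw [hab, hword]; exact hpp.ne_zero
  have he := Cfsg.Agent.Lib.Helper1.DihedralIso.closure_equiv_dihedral a (a * w) haord hbord hn
  rw [hab, hword] at he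
  obtain ⟨e⟩ := he
  rw [Cfsg.Agent.Lib.Helper9.involves_iff_isSectionOf]
  have s1 : Cfsg.Agent.Lib.Helper9.IsSectionOf (DihedralGroup p)
      ↥(Subgroup.closure ({a, a * w} : Set (K ⧸ Z))) :=
    Cfsg.Agent.Lib.Helper9.isSectionOf_of_mulEquiv e
  have s2 : Cfsg.Agent.Lib.Helper9.IsSectionOf ↥(Subgroup.closure ({a, a * w} : Set (K ⧸ Z))) (K ⧸ Z) :=
    Cfsg.Agent.Lib.Helper9.isSectionOf_subgroup _
  have s3 : Cfsg.Agent.Lib.Helper9.IsSectionOf (K ⧸ Z) G :=
    ⟨K, QuotientGroup.mk' Z, QuotientGroup.mk'_surjective Z⟩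
  exact (s1.trans s2).trans s3

/-- (a) ⇒ (b) -/
theorem partC (hp : p ≠ 2) (h : Cfsg.Involves (DihedralGroup p) G) :
    ∃ (x : G) (P : Subgroup G), (∃ k : ℕ, orderOf x = 2 ^ k) ∧ IsPGroup p ↥P ∧
      x ∈ Subgroup.normalizer (P : Set G) ∧ x ∉ Subgroup.centralizer (P : Set G) := by
  have hpp : p.Prime := Fact.out
  haveI : NeZero p := ⟨hpp.ne_zero⟩
  obtain ⟨K, f, hf⟩ := Cfsg.Agent.Lib.Helper9.isSectionOf_of_involves h
  set C : Subgroup (DihedralGroup p) := Subgroup.zpowers (DihedralGroup.r 1) with hC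
  have hCcard : Nat.card C = p := by rw [hC, Nat.card_zpowers, DihedralGroup.orderOf_r_one]
  have hCidx : C.index = 2 := by
    have h1 := Subgroup.card_mul_index C
    rw [hCcard, DihedralGroup.nat_card] at h1
    have : p * C.index = p * 2 := by rw [h1]; ring
    exact Nat.eq_of_mul_eq_mul_left hpp.pos this
  haveI hCn : C.Normal := Subgroup.normal_of_index_eq_two hCidx
  have hCp : IsPGroup p C := IsPGroup.of_card (n := 1) (by rw [hCcard, pow_one])
  have hrC : ∀ t : ZMod p, DihedralGroup.r t ∈ C := by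
    intro t
    have : (DihedralGroup.r t : DihedralGroup p) = DihedralGroup.r 1 ^ t.val := by
      rw [DihedralGroup.r_one_pow, ZMod.natCast_zmod_val]
    rw [this]
    exact Subgroup.pow_mem _ (Subgroup.mem_zpowers _) _
  have hsrC : ∀ t : ZMod p, DihedralGroup.sr t ∉ C := by
    intro t ht
    obtain ⟨i, hi⟩ := Subgroup.mem_zpowers_iff.mp ht
    have : (DihedralGroup.r 1 : DihedralGroup p) ^ i = DihedralGroup.r (i : ZMod p) := by
      rw [DihedralGroup.r_one_zpow]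
    rw [this] at hi
    cases hi
  set L : Subgroup K := C.comap f with hL
  haveI hLn : L.Normal := hCn.comap f
  let fL : L →* C := f.subgroupComap C
  have hfL : Function.Surjective fL := f.subgroupComap_surjective_of_surjective C hf
  let P₀ : Sylow p L := Sylow.nonempty.some
  let P₁ : Sylow p C := P₀.mapSurjective hfL
  have hP₁ : (P₁ : Subgroup C) = ⊤ := by
    have h1 : IsPGroup p (⊤ : Subgroup C) := by
      intro g
      obtain ⟨k, hk⟩ := hCp g.1
      exact ⟨k, Subtype.ext hk⟩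
    exact (P₁.is_maximal' h1 le_top).symm
  have hmap : (P₀ : Subgroup L).map fL = ⊤ := by rw [← hP₁]; rfl
  obtain ⟨y₀, hy₀P, hy₀⟩ : ∃ y₀ ∈ (P₀ : Subgroup L), fL y₀ = ⟨DihedralGroup.r 1, Subgroup.mem_zpowers _⟩ := by
    have : (⟨DihedralGroup.r 1, Subgroup.mem_zpowers _⟩ : C) ∈ (P₀ : Subgroup L).map fL := by
      rw [hmap]; trivial
    exact this
  have hfy₀ : f (y₀ : K) = DihedralGroup.r 1 := by
    have := congrArg Subtype.val hy₀
    exact this
  -- Frattini
  have hfrat := Sylow.normalizer_sup_eq_top P₀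
  obtain ⟨s, hs⟩ := hf (DihedralGroup.sr 0)
  have hsmem : s ∈ Subgroup.normalizer (((P₀ : Subgroup L).map L.subtype : Subgroup K) : Set K) ⊔ L := by
    rw [hfrat]; trivial
  obtain ⟨n, hn, l, hl, hnl⟩ := Subgroup.mem_sup_of_normal_right.mp hsmem
  have hfl : f l ∈ C := hl
  have hfn : f n ∉ C := by
    intro hfn
    have : f s ∈ C := by rw [← hnl, map_mul]; exact C.mul_mem hfn hfl
    rw [hs] at this
    exact hsrC 0 this
  obtain ⟨t, ht⟩ : ∃ t, f n = DihedralGroup.sr t := by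
    rcases hfn' : f n with t | t
    · exact absurd (hfn' ▸ hrC t) hfn
    · exact ⟨t, rfl⟩
  -- the 2-part
  obtain ⟨a, m, hm, ham⟩ := Nat.exists_eq_two_pow_mul_odd (orderOf_pos n).ne'
  set n₂ := n ^ m with hn₂
  have hn₂ord : orderOf n₂ = 2 ^ a := by
    rw [hn₂, orderOf_pow, ham]
    have : (2 ^ a * m).gcd m = m := Nat.gcd_eq_right (Dvd.intro_left _ rfl)
    rw [this]
    have hmpos : 0 < m := hm.pos
    exact Nat.mul_div_cancel _ hmpos
  have hfn₂ : f n₂ = DihedralGroup.sr t := by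
    obtain ⟨j, hj⟩ := hm
    rw [hn₂, map_pow, ht, hj, pow_succ, pow_mul, pow_two, DihedralGroup.sr_mul_self, one_pow, one_mul]
  have hn₂N : n₂ ∈ Subgroup.normalizer (((P₀ : Subgroup L).map L.subtype : Subgroup K) : Set K) :=
    Subgroup.pow_mem _ hn _
  refine ⟨(n₂ : G), (((P₀ : Subgroup L).map L.subtype).map K.subtype), ⟨a, ?_⟩, ?_, ?_, ?_⟩
  · rw [Subgroup.orderOf_coe, hn₂ord]
  · exact (P₀.isPGroup'.map _).map _
  · apply mem_normalizer_of_forall_conj_mem
    rintro _ ⟨q, hq, rfl⟩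
    refine ⟨n₂ * q * n₂⁻¹, (Subgroup.mem_normalizer_iff.mp hn₂N q).mp hq, ?_⟩
    simp
  · intro hcen
    have hy₀mem : ((y₀ : K) : G) ∈ (((P₀ : Subgroup L).map L.subtype).map K.subtype) :=
      ⟨(y₀ : K), ⟨y₀, hy₀P, rfl⟩, rfl⟩
    have hcomm := Subgroup.mem_centralizer_iff.mp hcen _ hy₀mem
    have hcommK : (y₀ : K) * n₂ = n₂ * (y₀ : K) := Subtype.ext hcomm
    have := congrArg f hcommK
    rw [map_mul, map_mul, hfy₀, hfn₂, DihedralGroup.r_mul_sr, DihedralGroup.sr_mul_r] at this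
    have h2 : t - 1 = t + 1 := by
      injection this
    have h3 : (2 : ZMod p) = 0 := by
      have : (t + 1) - (t - 1) = 0 := by rw [h2]; ring
      have h4 : (t + 1) - (t - 1) = (2 : ZMod p) := by ring
      rw [← h4, this]
    have h4 : ((2 : ℕ) : ZMod p) = 0 := by exact_mod_cast h3
    rw [ZMod.natCast_eq_zero_iff] at h4
    exact hp ((Nat.prime_dvd_prime_iff_eq hpp Nat.prime_two).mp h4)

theorem result {G : Type*} [Group G] [Finite G] {p : ℕ} [Fact p.Prime] (hp : p ≠ 2) : (Cfsg.Involves (DihedralGroup p) G ↔ ∃ (x : G) (P : Subgroup G), (∃ k : ℕ, orderOf x = 2 ^ k) ∧ IsPGroup p ↥P ∧ x ∈ Subgroup.normalizer (P : Set G) ∧ x ∉ Subgroup.centralizer (P : Set G)) ∧ (Cfsg.Involves (DihedralGroup p) G ↔ ∃ x y : G, (∃ k : ℕ, orderOf x = 2 ^ k) ∧ (∃ k : ℕ, orderOf y = p ^ k) ∧ y ≠ 1 ∧ x * y * x⁻¹ = y⁻¹) := by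
  refine ⟨⟨partC hp, ?_⟩, ⟨?_, ?_⟩⟩
  · rintro ⟨x, P, hx, hP, hxN, hxC⟩
    obtain ⟨x', y, hx', hy, hy1, hinv⟩ := partA hx hP hxN hxC
    exact partB hp hx' hy hy1 hinv
  · intro h
    obtain ⟨x, P, hx, hP, hxN, hxC⟩ := partC hp h
    exact partA hx hP hxN hxC
  · rintro ⟨x, y, hx, hy, hy1, hinv⟩
    exact partB hp hx hy hy1 hinv

end Cfsg.Agent.S2758
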