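import Mathlib
import Cfsg.Statements.S4062
import Cfsg.Agent.Lib.Helper7.SameOrderConj

set_option autoImplicit false
open Cfsg

namespace Cfsg.Agent.S4062

open Cfsg.Agent.Lib.Helper7.SOC
open scoped commutatorElement

universe u

theorem card_perm_fin_three : Nat.card (Equiv.Perm (Fin 3)) = 6 := by
  rw [Nat.card_perm, Nat.card_eq_fintype_card, Fintype.card_fin]
  rfl

/-- a noncommutative group of order 6 is isomorphic to `S₃` -/
theorem s3_of_card_six {G : Type*} [Group G] [Finite G] (hcard : Nat.card G = 6)
    (hnc : ¬ ∀ a b : G, a * b = b * a) : Nonempty (G ≃* Equiv.Perm (Fin 3)) := by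
  classical
  haveI : Fact (Nat.Prime 2) := ⟨Nat.prime_two⟩
  haveI : Fact (Nat.Prime 3) := ⟨Nat.prime_three⟩
  obtain ⟨t, ht⟩ := exists_prime_orderOf_dvd_card' (G := G) 2 (by rw [hcard]; norm_num)
  set H := Subgroup.zpowers t with hH
  have hHcard : Nat.card H = 2 := by rw [Nat.card_zpowers, ht]
  have hidx : H.index = 3 := by
    have := H.card_mul_index
    rw [hHcard, hcard] at this
    omega
  have hcore : H.normalCore = ⊥ := by
    by_contra hne
    have hle : H.normalCore ≤ H := Subgroup.normalCore_le H
    have h1 : Nat.card H.normalCore ∣ 2 := hHcard ▸ Subgroup.card_dvd_of_le hle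
    have h2 : Nat.card H.normalCore ≠ 1 := by
      intro h
      exact hne (Subgroup.card_eq_one.mp h)
    have h3 : Nat.card H.normalCore = 2 := by
      rcases (Nat.dvd_prime Nat.prime_two).mp h1 with h | h
      · exact absurd h h2
      · exact h
    have h4 : H.normalCore = H := Subgroup.eq_of_le_of_card_ge hle (by rw [h3, hHcard])
    have hHn : H.Normal := h4 ▸ Subgroup.normalCore_normal H
    have ht1 : t ≠ 1 := by
      intro h1
      rw [h1, orderOf_one] at ht
      omega
    have htc : ∀ g : G, g * t * g⁻¹ = t := by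
      intro g
      have hm : g * t * g⁻¹ ∈ H := hHn.conj_mem t (Subgroup.mem_zpowers t) g
      obtain ⟨k, hk⟩ := Subgroup.mem_zpowers_iff.mp hm
      have hmod : t ^ (k % 2) = t ^ k := by
        have := zpow_mod_orderOf t k
        rw [ht] at this
        exact_mod_cast this
      rcases Int.emod_two_eq_zero_or_one k with h0 | h0
      · exfalso
        rw [h0, zpow_zero] at hmod
        rw [← hmod] at hk
        apply ht1
        have h5 : g * t * g⁻¹ = g * 1 * g⁻¹ := by rw [← hk]; group
        exact mul_left_cancel (mul_right_cancel h5)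
      · rw [h0, zpow_one] at hmod
        rw [← hk, ← hmod]
    obtain ⟨x, hx⟩ := exists_prime_orderOf_dvd_card' (G := G) 3 (by rw [hcard]; norm_num)
    have hcomm : Commute t x := by
      have h5 := htc x
      show t * x = x * t
      calc t * x = x * t * x⁻¹ * x := by rw [h5]
        _ = x * t := by group
    have hord : orderOf (t * x) = 6 := by
      rw [hcomm.orderOf_mul_eq_mul_orderOf_of_coprime (by rw [ht, hx]; norm_num), ht, hx]
    have hcyc : IsCyclic G := isCyclic_of_orderOf_eq_card (t * x) (by rw [hord, hcard])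
    apply hnc
    intro a b
    exact (IsCyclic.isMulCommutative (α := G)).is_comm.comm a b
  let f := MulAction.toPermHom G (G ⧸ H)
  have hker : f.ker = ⊥ := by rw [← Subgroup.normalCore_eq_ker, hcore]
  have hinj : Function.Injective f := (MonoidHom.ker_eq_bot_iff f).mp hker
  have hcardQ : Nat.card (G ⧸ H) = 3 := hidx
  let e : G ⧸ H ≃ Fin 3 := Finite.equivFinOfCardEq hcardQ
  let f' : G →* Equiv.Perm (Fin 3) := e.permCongrHom.toMonoidHom.comp f
  have hinj' : Function.Injective f' := e.permCongrHom.injective.comp hinj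
  have hbij : Function.Bijective f' :=
    hinj'.bijective_of_nat_card_le (by rw [card_perm_fin_three, hcard])
  exact ⟨MulEquiv.ofBijective f' hbij⟩

theorem orderOf_swap01 : orderOf (Equiv.swap (0 : Fin 3) 1) = 2 := by
  haveI : Fact (Nat.Prime 2) := ⟨Nat.prime_two⟩
  exact orderOf_eq_prime (by decide) (by decide)

theorem orderOf_swap02 : orderOf (Equiv.swap (0 : Fin 3) 2) = 2 := by
  haveI : Fact (Nat.Prime 2) := ⟨Nat.prime_two⟩
  exact orderOf_eq_prime (by decide) (by decide)

theorem orderOf_c3 : orderOf (Equiv.swap (0 : Fin 3) 1 * Equiv.swap 1 2) = 3 := by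
  haveI : Fact (Nat.Prime 3) := ⟨Nat.prime_three⟩
  exact orderOf_eq_prime (by decide) (by decide)

theorem orderOf_c3' : orderOf (Equiv.swap (1 : Fin 3) 2 * Equiv.swap 0 1) = 3 := by
  haveI : Fact (Nat.Prime 3) := ⟨Nat.prime_three⟩
  exact orderOf_eq_prime (by decide) (by decide)

theorem main : ∀ (n : ℕ) (G : Type u) [Group G] [Finite G] [Group.IsSolvable G],
    Nat.card G = n → Hyp G →
    Nat.card G = 1 ∨ Nat.card G = 2 ∨ Nonempty (G ≃* Equiv.Perm (Fin 3)) := by
  intro n
  induction n using Nat.strong_induction_on with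
  | _ n ih =>
  intro G _ _ _ hn h
  by_cases htriv : Nat.card G = 1
  · exact Or.inl htriv
  haveI : Nontrivial G := by
    rw [← Finite.one_lt_card_iff_nontrivial]
    have := Nat.card_pos (α := G)
    omega
  obtain ⟨M, r, hMn, d⟩ := exists_data h
  haveI := hMn
  have hQ : Hyp (G ⧸ M) := d.hyp_quotient h
  have hMcard : 2 ≤ Nat.card M := by
    have h1 : Nat.card M ≠ 1 := fun h1 => d.ne_bot (Subgroup.card_eq_one.mp h1)
    have := Nat.card_pos (α := M)
    omega
  have hmul := M.card_mul_index
  have hidx0 : 0 < M.index := Nat.pos_of_ne_zero Subgroup.index_ne_zero_of_finite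
  have hlt : Nat.card (G ⧸ M) < n := by
    rw [← hn, ← hmul]
    show M.index < _
    nlinarith
  have hdvd := d.pred_card_dvd_index h
  obtain ⟨x, hxM, hx1, hox⟩ := d.exists_mem
  have hrM : r ∣ Nat.card M := by
    have := orderOf_dvd_natCard (⟨x, hxM⟩ : M)
    rwa [← Subgroup.orderOf_coe, hox] at this
  rcases ih _ hlt (G ⧸ M) rfl hQ with h1 | h2 | ⟨⟨φ⟩⟩
  · have hi : M.index = 1 := h1
    rw [hi] at hdvd hmul
    have : Nat.card M - 1 = 1 := Nat.dvd_one.mp hdvd
    right; left
    omega
  · have hi : M.index = 2 := h2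
    rw [hi] at hdvd hmul
    have hle := Nat.le_of_dvd (by norm_num) hdvd
    have hM23 : Nat.card M = 2 ∨ Nat.card M = 3 := by omega
    rcases hM23 with hM2 | hM3
    · exfalso
      have hG4 : Nat.card G = 2 ^ 2 := by omega
      haveI : Fact (Nat.Prime 2) := ⟨Nat.prime_two⟩
      have hcomm := (IsPGroup.isMulCommutative_of_card_eq_prime_sq hG4).is_comm.comm
      have hr2 : r = 2 := by
        rw [hM2] at hrM
        exact (Nat.prime_dvd_prime_iff_eq d.prime Nat.prime_two).mp hrM
      have hall : ∀ g : G, g ∈ M := by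
        intro g
        rw [d.mem_iff, hr2]
        have hc : IsConj g g⁻¹ := h g g⁻¹ (orderOf_inv g).symm
        rw [isConj_iff] at hc
        obtain ⟨c, hc⟩ := hc
        rw [hcomm c g, mul_assoc, mul_inv_cancel, mul_one] at hc
        rw [pow_two]
        nth_rewrite 2 [hc]
        exact mul_inv_cancel g
      have : M = ⊤ := (Subgroup.eq_top_iff' M).mpr hall
      rw [this, Subgroup.index_top] at hi
      omega
    · right; right
      apply s3_of_card_six (by omega)
      intro hcomm
      have hr3 : r = 3 := by
        rw [hM3] at hrM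
        exact (Nat.prime_dvd_prime_iff_eq d.prime Nat.prime_three).mp hrM
      have hc : IsConj x x⁻¹ := h x x⁻¹ (orderOf_inv x).symm
      rw [isConj_iff] at hc
      obtain ⟨c, hc⟩ := hc
      rw [hcomm c x, mul_assoc, mul_inv_cancel, mul_one] at hc
      have h2 : x ^ 2 = 1 := by
        rw [pow_two]
        nth_rewrite 2 [hc]
        exact mul_inv_cancel x
      have h3 := orderOf_dvd_of_pow_eq_one h2
      rw [hox, hr3] at h3
      omega
  · exfalso
    have hi : M.index = 6 := by
      show Nat.card (G ⧸ M) = 6
      rw [Nat.card_congr φ.toEquiv, card_perm_fin_three]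
    rw [hi] at hdvd hmul
    have hlift : ∀ σ : Equiv.Perm (Fin 3), ∃ g : G, φ (QuotientGroup.mk g) = σ := by
      intro σ
      obtain ⟨g, hg⟩ := QuotientGroup.mk_surjective (φ.symm σ)
      exact ⟨g, by rw [hg, MulEquiv.apply_symm_apply]⟩
    have hord : ∀ g : G, orderOf (QuotientGroup.mk g : G ⧸ M) =
        orderOf (φ (QuotientGroup.mk g)) := fun g => (MulEquiv.orderOf_eq φ _).symm
    have hGpos : 0 < Nat.card M * 6 := by positivity
    by_cases hr2 : r = 2
    · obtain ⟨g₁, hg₁⟩ := hlift (Equiv.swap 0 1)
      obtain ⟨g₂, hg₂⟩ := hlift (Equiv.swap 0 2)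
      have ho1 : orderOf (QuotientGroup.mk g₁ : G ⧸ M) = 2 := by
        rw [hord, hg₁]; exact orderOf_swap01
      have ho2 : orderOf (QuotientGroup.mk g₂ : G ⧸ M) = 2 := by
        rw [hord, hg₂]; exact orderOf_swap02
      have hne : (QuotientGroup.mk g₁ : G ⧸ M) ≠ QuotientGroup.mk g₂ := by
        intro he
        have := congrArg φ he
        rw [hg₁, hg₂] at this
        revert this
        decide
      have h2f := d.two_fibers g₁ g₂ hne 2 ho1 ho2 (by rw [hr2])
      have hog : orderOf g₁ = r * 2 := by
        have := d.orderOf_lift g₁ (by rw [ho1, hr2])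
        rw [ho1] at this
        exact this
      have hC := ncard_order_mul_order_dvd h g₁
      rw [hog, ← hmul] at hC
      have := Nat.le_of_dvd hGpos hC
      rw [hr2] at this h2f
      nlinarith
    by_cases hr3 : r = 3
    · obtain ⟨g₁, hg₁⟩ := hlift (Equiv.swap 0 1 * Equiv.swap 1 2)
      obtain ⟨g₂, hg₂⟩ := hlift (Equiv.swap 1 2 * Equiv.swap 0 1)
      have ho1 : orderOf (QuotientGroup.mk g₁ : G ⧸ M) = 3 := by
        rw [hord, hg₁]; exact orderOf_c3
      have ho2 : orderOf (QuotientGroup.mk g₂ : G ⧸ M) = 3 := by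
        rw [hord, hg₂]; exact orderOf_c3'
      have hne : (QuotientGroup.mk g₁ : G ⧸ M) ≠ QuotientGroup.mk g₂ := by
        intro he
        have := congrArg φ he
        rw [hg₁, hg₂] at this
        revert this
        decide
      have h2f := d.two_fibers g₁ g₂ hne 3 ho1 ho2 (by rw [hr3])
      have hog : orderOf g₁ = r * 3 := by
        have := d.orderOf_lift g₁ (by rw [ho1, hr3])
        rw [ho1] at this
        exact this
      have hC := ncard_order_mul_order_dvd h g₁
      rw [hog, ← hmul] at hC
      have := Nat.le_of_dvd hGpos hC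
      rw [hr3] at this h2f
      nlinarith
    · have hr4 : r ≠ 4 := by
        intro h4
        have := d.prime
        rw [h4] at this
        exact absurd this (by norm_num)
      have hr5 : 5 ≤ r := by
        have := d.prime.two_le
        omega
      have hle := Nat.le_of_dvd (by norm_num) hdvd
      obtain ⟨c, hc⟩ := hrM
      have hc1 : c = 1 := by
        rcases Nat.lt_or_ge c 2 with hc2 | hc2
        · interval_cases c
          · omega
          · rfl
        · exfalso
          have h10 : 5 * 2 ≤ r * c := Nat.mul_le_mul hr5 hc2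
          omega
      rw [hc1, mul_one] at hc
      have hM7 : Nat.card M = 7 := by
        rw [hc] at hdvd hle ⊢
        have : r = 5 ∨ r = 6 ∨ r = 7 := by omega
        rcases this with h5 | h5 | h5
        · rw [h5] at hdvd; norm_num at hdvd
        · rw [h5] at hdvd; norm_num at hdvd
        · exact h5
      have heq : Nat.card M - 1 = M.index := by rw [hM7, hi]
      have hcent := d.centralizer_eq h heq hxM hx1
      haveI : Fact (Nat.Prime 7) := ⟨by norm_num⟩
      haveI : IsCyclic M := isCyclic_of_prime_card (p := 7) hM7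
      have hcomm : ∀ a b : G, ⁅a, b⁆ ∈ M := by
        intro a b
        have h1 : (MulAut.conjNormal ⁅a, b⁆ : MulAut M) = 1 := by
          rw [map_commutatorElement, commutatorElement_eq_one_iff_mul_comm]
          apply (IsCyclic.mulAutMulEquiv M).injective
          rw [map_mul, map_mul, mul_comm]
        have h2 : ((MulAut.conjNormal ⁅a, b⁆ : MulAut M) ⟨x, hxM⟩ : G) = x := by
          rw [h1]; rfl
        rw [MulAut.conjNormal_apply] at h2
        rw [← hcent, Subgroup.mem_centralizer_iff]
        intro y hy
        rw [Set.mem_singleton_iff] at hy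
        subst hy
        calc y * ⁅a, b⁆ = ⁅a, b⁆ * y * ⁅a, b⁆⁻¹ * ⁅a, b⁆ := by rw [h2]
          _ = ⁅a, b⁆ * y := by group
      have hQcomm : ∀ a b : G ⧸ M, a * b = b * a := by
        intro a b
        obtain ⟨a, rfl⟩ := QuotientGroup.mk_surjective a
        obtain ⟨b, rfl⟩ := QuotientGroup.mk_surjective b
        have h1 := (QuotientGroup.eq_one_iff _).mpr (hcomm a b)
        rw [← commutatorElement_eq_one_iff_mul_comm, ← h1]
        exact (map_commutatorElement (QuotientGroup.mk' M) a b).symm
      have h1 := hQcomm (φ.symm (Equiv.swap 0 1)) (φ.symm (Equiv.swap 1 2))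
      have h2 := congrArg φ h1
      rw [map_mul, map_mul, MulEquiv.apply_symm_apply, MulEquiv.apply_symm_apply] at h2
      revert h2
      decide

/-- A finite solvable group in which any two elements of the same order are conjugate has order 1 or 2 or is isomorphic to the symmetric group of degree 3. -/
theorem result {G : Type*} [Group G] [Finite G] [Group.IsSolvable G]
    (h : ∀ x y : G, orderOf x = orderOf y → IsConj x y) :
    Nat.card G = 1 ∨ Nat.card G = 2 ∨ Nonempty (G ≃* Equiv.Perm (Fin 3)) := by
  exact main _ G rfl h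

end Cfsg.Agent.S4062
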