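import Mathlib
import Cfsg.Agent.Lib.Helper9.Sections
import Cfsg.Agent.Lib.Lead.S4e
import Cfsg.Agent.Lib.Lead.S4F1
import Cfsg.Agent.Lib.Lead.CoprimeAction
import Cfsg.Agent.Lib.Lead.CoprimeFrattini
import Cfsg.Agent.Lib.Lead.Frattini
import Cfsg.Agent.Lib.Lead.Thom11
import Cfsg.Agent.S4062
import Cfsg.Statements.S2759

set_option autoImplicit false
open Cfsg

namespace Cfsg.Agent.S2759

open scoped commutatorElement

section helpers

open Equiv Cfsg.Agent.Lib.Helper9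

/-- a section from a hom whose kernel is contained in the kernel of a surjection -/
theorem isSectionOf_of_ker_le {M X A : Type*} [Group M] [Group X] [Group A] (φ : M →* X) (g : M →* A)
    (hg : Function.Surjective g) (hker : φ.ker ≤ g.ker) : IsSectionOf A X := by
  refine ⟨φ.range, (QuotientGroup.lift φ.ker g hker).comp
    (QuotientGroup.quotientKerEquivRange φ).symm.toMonoidHom, ?_⟩
  intro a
  obtain ⟨m, rfl⟩ := hg a
  refine ⟨(QuotientGroup.quotientKerEquivRange φ) (QuotientGroup.mk m), ?_⟩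
  simp

set_option maxRecDepth 100000 in
theorem V4_key : ∀ a b : Perm (Fin 4), (a * a = 1 ∧ Perm.sign a = 1) → (b * b = 1 ∧ Perm.sign b = 1) →
    (a * b * (a * b) = 1 ∧ Perm.sign (a * b) = 1) := by decide

/-- the normal four-group of `S₄` -/
def V4 : Subgroup (Perm (Fin 4)) where
  carrier := {σ | σ * σ = 1 ∧ Perm.sign σ = 1}
  one_mem' := by constructor <;> simp
  mul_mem' := by
    intro a b ha hb
    exact V4_key a b ha hb
  inv_mem' := by
    intro a ha
    have h1 : a⁻¹ = a := inv_eq_of_mul_eq_one_right ha.1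
    show a⁻¹ * a⁻¹ = 1 ∧ Perm.sign a⁻¹ = 1
    rw [h1]; exact ha

theorem mem_V4 {σ : Perm (Fin 4)} : σ ∈ V4 ↔ σ * σ = 1 ∧ Perm.sign σ = 1 := Iff.rfl

instance V4_normal : V4.Normal := by
  constructor
  intro n hn g
  rw [mem_V4] at hn ⊢
  constructor
  · calc g * n * g⁻¹ * (g * n * g⁻¹) = g * (n * n) * g⁻¹ := by group
      _ = 1 := by rw [hn.1]; group
  · rw [Perm.sign_mul, Perm.sign_mul, Perm.sign_inv, hn.2, mul_one, ← Perm.sign_inv, ← Perm.sign_mul]
    simp

instance : DecidablePred (· ∈ V4) := fun σ => by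
  unfold V4; exact inferInstanceAs (Decidable (σ * σ = 1 ∧ Perm.sign σ = 1))

theorem card_V4 : Nat.card V4 = 4 := by
  rw [Nat.card_eq_fintype_card]
  decide

set_option maxRecDepth 100000 in
theorem centralizer_V4 : ∀ σ : Perm (Fin 4), (∀ τ : Perm (Fin 4), τ ∈ V4 → τ * σ = σ * τ) → σ ∈ V4 := by
  decide

theorem card_quot_V4 : Nat.card (Perm (Fin 4) ⧸ V4) = 6 := by
  have h := Subgroup.card_eq_card_quotient_mul_card_subgroup V4
  rw [card_V4, Nat.card_perm, Nat.card_eq_fintype_card, Fintype.card_fin] at h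
  have : Nat.factorial 4 = 24 := rfl
  omega

set_option maxRecDepth 100000 in
theorem quot_V4_noncomm : ¬ ∀ a b : Perm (Fin 4) ⧸ V4, a * b = b * a := by
  intro h
  have h1 := h (QuotientGroup.mk (swap 0 1)) (QuotientGroup.mk (swap 0 2))
  rw [← QuotientGroup.mk_mul, ← QuotientGroup.mk_mul, QuotientGroup.eq] at h1
  revert h1
  decide

theorem forward {G : Type*} [Group G] [Finite G] (h : IsSectionOf (Perm (Fin 4)) G) :
    ∃ T : Subgroup G, IsPGroup 2 T ∧ IsSectionOf (Perm (Fin 3))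
      (↥(Subgroup.normalizer (T : Set G)) ⧸
        (Subgroup.centralizer (T : Set G)).subgroupOf (Subgroup.normalizer (T : Set G))) := by
  obtain ⟨K, f, hf⟩ := h
  haveI : Fact (Nat.Prime 2) := ⟨Nat.prime_two⟩
  set U : Subgroup K := V4.comap f with hU
  haveI hUn : U.Normal := inferInstance
  let T₀ : Sylow 2 U := default
  set T₁ : Subgroup K := (T₀ : Subgroup U).map U.subtype with hT₁
  have hfrat : Subgroup.normalizer (T₁ : Set K) ⊔ U = ⊤ := Sylow.normalizer_sup_eq_top T₀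
  set T : Subgroup G := T₁.map K.subtype with hT
  have hT₁2 : IsPGroup 2 T₁ := T₀.2.map _
  have hT2 : IsPGroup 2 T := hT₁2.map _
  refine ⟨T, hT2, ?_⟩
  -- the image of `T₁` is `V4`
  have hfT : T₁.map f = V4 := by
    have hf' : Function.Surjective (f.subgroupComap V4) :=
      MonoidHom.subgroupComap_surjective_of_surjective f V4 hf
    have h1 : ((T₀.mapSurjective hf' : Sylow 2 V4) : Subgroup V4) = ⊤ := by
      have hV2 : IsPGroup 2 (⊤ : Subgroup V4) := by
        apply IsPGroup.to_subgroup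
        apply IsPGroup.of_card (n := 2)
        rw [card_V4]; norm_num
      exact ((T₀.mapSurjective hf').is_maximal' hV2 le_top).symm
    rw [Sylow.coe_mapSurjective] at h1
    apply le_antisymm
    · rintro _ ⟨t, ht, rfl⟩
      obtain ⟨u, hu, rfl⟩ := ht
      exact u.2
    · intro v hv
      have : (⟨v, hv⟩ : V4) ∈ (T₀ : Subgroup U).map (f.subgroupComap V4) := by
        rw [h1]; exact Subgroup.mem_top _
      obtain ⟨u, hu, hu'⟩ := this
      refine ⟨u, ⟨u, hu, rfl⟩, ?_⟩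
      exact congrArg Subtype.val hu'
  obtain ⟨e⟩ := Cfsg.Agent.S4062.s3_of_card_six card_quot_V4 quot_V4_noncomm
  set N := Subgroup.normalizer (T : Set G) with hN
  set C := Subgroup.centralizer (T : Set G) with hC
  set M := Subgroup.normalizer (T₁ : Set K) with hM
  -- the map from `M` to `N`
  have hMN : ∀ m : M, ((m : K) : G) ∈ N := by
    intro m
    apply Subgroup.mem_normalizer_fintype
    rintro _ ⟨t, ht, rfl⟩
    refine ⟨(m : K) * t * (m : K)⁻¹, ?_, ?_⟩
    · exact ((Subgroup.mem_normalizer_iff.mp m.2) t).mp ht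
    · simp
  let φ₀ : M →* N :=
    { toFun := fun m => ⟨((m : K) : G), hMN m⟩
      map_one' := rfl
      map_mul' := fun _ _ => rfl }
  let φ : M →* N ⧸ C.subgroupOf N := (QuotientGroup.mk' _).comp φ₀
  let g : M →* Perm (Fin 3) :=
    e.toMonoidHom.comp ((QuotientGroup.mk' V4).comp (f.comp M.subtype))
  refine isSectionOf_of_ker_le φ g ?_ ?_
  · intro σ
    obtain ⟨q, rfl⟩ := e.surjective σ
    obtain ⟨τ, rfl⟩ := QuotientGroup.mk'_surjective V4 q
    obtain ⟨k, rfl⟩ := hf τ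
    have hk : k ∈ Subgroup.normalizer (T₁ : Set K) ⊔ U := by rw [hfrat]; exact Subgroup.mem_top _
    rw [Subgroup.mem_sup_of_normal_right] at hk
    obtain ⟨m, hm, u, hu, rfl⟩ := hk
    refine ⟨⟨m, hm⟩, ?_⟩
    show e (QuotientGroup.mk' V4 (f m)) = e (QuotientGroup.mk' V4 (f (m * u)))
    congr 1
    rw [map_mul]
    show (QuotientGroup.mk (f m) : Perm (Fin 4) ⧸ V4) = QuotientGroup.mk (f m * f u)
    rw [QuotientGroup.eq]
    have : (f m)⁻¹ * (f m * f u) = f u := by group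
    rw [this]
    exact hu
  · intro m hm
    rw [MonoidHom.mem_ker] at hm ⊢
    have h1 : φ₀ m ∈ C.subgroupOf N := by
      rw [← QuotientGroup.eq_one_iff]; exact hm
    have h2 : ((m : K) : G) ∈ C := h1
    rw [hC, Subgroup.mem_centralizer_iff] at h2
    have h3 : f (m : K) ∈ V4 := by
      apply centralizer_V4
      intro τ hτ
      rw [← hfT] at hτ
      obtain ⟨t, ht, rfl⟩ := hτ
      have h4 := h2 ((t : K) : G) ⟨t, ht, rfl⟩
      have h5 : t * (m : K) = (m : K) * t := by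
        apply Subtype.ext
        exact h4
      rw [← map_mul, ← map_mul, h5]
    show e (QuotientGroup.mk' V4 (f (m : K))) = 1
    rw [show (QuotientGroup.mk' V4 (f (m : K))) = 1 from (QuotientGroup.eq_one_iff _).mpr h3, map_one]

theorem S3_sign_sq : ∀ σ : Perm (Fin 3), Perm.sign σ = -1 → σ * σ = 1 := by decide

theorem S3_invert : ∀ σ τ : Perm (Fin 3), Perm.sign σ = -1 → Perm.sign τ = 1 → τ ≠ 1 →
    τ⁻¹ * (σ * τ * σ⁻¹) ≠ 1 := by decide

theorem S3_cube : ∀ τ : Perm (Fin 3), Perm.sign τ = 1 → τ ^ 3 = 1 := by decide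

theorem isPGroup_zpowers {Γ : Type*} [Group Γ] {p : ℕ} (hp : p.Prime) (z : Γ) (j : ℕ)
    (h : z ^ p ^ j = 1) : IsPGroup p (Subgroup.zpowers z) := by
  haveI : Fact p.Prime := ⟨hp⟩
  have h1 : orderOf z ∣ p ^ j := orderOf_dvd_of_pow_eq_one h
  obtain ⟨i, _, hio⟩ := (Nat.dvd_prime_pow hp).mp h1
  exact IsPGroup.of_card (n := i) (by rw [Nat.card_zpowers, hio])

/-- Step A: a surjection onto `S₃` gives a `2`-element inverting a `3`-element with nontrivial image -/
theorem stepA {Y : Type*} [Group Y] [Finite Y] (f : Y →* Perm (Fin 3)) (hf : Function.Surjective f) :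
    ∃ a x : Y, (∃ k : ℕ, a ^ 2 ^ k = 1) ∧ (∃ j : ℕ, x ^ 3 ^ j = 1) ∧ a * x * a⁻¹ = x⁻¹ ∧ f x ≠ 1 := by
  haveI : Fact (Nat.Prime 3) := ⟨Nat.prime_three⟩
  set s : Y →* ℤˣ := Perm.sign.comp f with hs
  set M : Subgroup Y := s.ker with hM
  -- a `3`-element of `M` with nontrivial image
  obtain ⟨y₁, hy₁⟩ := hf (swap 0 1 * swap 1 2)
  have hsy₁ : s y₁ = 1 := by
    show Perm.sign (f y₁) = 1
    rw [hy₁]; decide
  obtain ⟨j₁, m₁, hm₁, hord₁⟩ := Nat.exists_eq_pow_mul_and_not_dvd (n := orderOf y₁)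
    (orderOf_pos y₁).ne' 3 (by norm_num)
  set y₂ : Y := y₁ ^ m₁ with hy₂
  have hy₂3 : y₂ ^ 3 ^ j₁ = 1 := by
    rw [hy₂, ← pow_mul, mul_comm, ← hord₁, pow_orderOf_eq_one]
  have hfy₂ : f y₂ ≠ 1 := by
    rw [hy₂, map_pow, hy₁]
    intro h
    have h3 : orderOf (swap (0 : Fin 3) 1 * swap 1 2) = 3 := by
      apply orderOf_eq_prime
      · decide
      · decide
    have := orderOf_dvd_of_pow_eq_one h
    rw [h3] at this
    exact hm₁ this
  have hy₂M : y₂ ∈ M := by
    rw [hM, MonoidHom.mem_ker, hy₂, map_pow, hsy₁, one_pow]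
  have hz3 : IsPGroup 3 (Subgroup.zpowers (⟨y₂, hy₂M⟩ : M)) := by
    apply isPGroup_zpowers Nat.prime_three _ j₁
    apply Subtype.ext
    rw [Subgroup.coe_pow]
    exact hy₂3
  obtain ⟨P, hP⟩ := hz3.exists_le_sylow
  set P' : Subgroup Y := (P : Subgroup M).map M.subtype with hP'
  have hP'3 : IsPGroup 3 P' := P.2.map _
  have hy₂P : y₂ ∈ P' := ⟨⟨y₂, hy₂M⟩, hP (Subgroup.mem_zpowers _), rfl⟩
  have hP'M : P' ≤ M := Subgroup.map_subtype_le _
  have hfrat : Subgroup.normalizer (P' : Set Y) ⊔ M = ⊤ := Sylow.normalizer_sup_eq_top P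
  -- a `2`-element of the normalizer outside `M`
  obtain ⟨n₀, hn₀⟩ := hf (swap 0 1)
  have hn₀' : n₀ ∈ Subgroup.normalizer (P' : Set Y) ⊔ M := by rw [hfrat]; exact Subgroup.mem_top _
  rw [Subgroup.mem_sup_of_normal_right] at hn₀'
  obtain ⟨n, hn, m, hm, hnm⟩ := hn₀'
  have hsn : s n = -1 := by
    have h1 : s n₀ = -1 := by
      show Perm.sign (f n₀) = -1
      rw [hn₀]; decide
    have h2 : s m = 1 := hm
    rw [← hnm, map_mul, h2, mul_one] at h1
    exact h1
  obtain ⟨k, m₂, hm₂, hord₂⟩ := Nat.exists_eq_two_pow_mul_odd (n := orderOf n) (orderOf_pos n).ne'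
  set a : Y := n ^ m₂ with ha
  have ha2 : a ^ 2 ^ k = 1 := by
    rw [ha, ← pow_mul, mul_comm, ← hord₂, pow_orderOf_eq_one]
  have hsa : s a = -1 := by
    rw [ha, map_pow, hsn, hm₂.neg_one_pow]
  have haN : a ∈ Subgroup.normalizer (P' : Set Y) := Subgroup.pow_mem _ hn _
  have hfa2 : f (a * a) = 1 := by
    rw [map_mul]
    exact S3_sign_sq _ hsa
  haveI : Fact (Nat.Prime 2) := ⟨Nat.prime_two⟩
  set A : Subgroup Y := Subgroup.zpowers (a * a) with hA
  have hA2 : IsPGroup 2 A := by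
    apply isPGroup_zpowers Nat.prime_two _ k
    rw [(Commute.refl a).mul_pow, ha2, one_mul]
  have hAN : A ≤ Subgroup.normalizer (P' : Set Y) :=
    Subgroup.zpowers_le.mpr (Subgroup.mul_mem _ haN haN)
  have hAker : A ≤ f.ker := Subgroup.zpowers_le.mpr hfa2
  have hcop : (Nat.card A).Coprime (Nat.card P') :=
    IsPGroup.coprime_card_of_ne 2 3 (by norm_num) A P' hA2 hP'3
  have hsolv : Group.IsSolvable A ∨ Group.IsSolvable P' := by
    right
    haveI := hP'3.isNilpotent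
    infer_instance
  set N₀ : Subgroup Y := P' ⊓ f.ker with hN₀
  have hnorm : ∀ g ∈ Subgroup.normalizer (P' : Set Y), g ∈ Subgroup.normalizer (N₀ : Set Y) := by
    intro g hg
    apply Subgroup.mem_normalizer_fintype
    intro u hu
    have hu' : u ∈ N₀ := hu
    rw [hN₀, Subgroup.mem_inf] at hu'
    show g * u * g⁻¹ ∈ N₀
    rw [hN₀, Subgroup.mem_inf]
    refine ⟨((Subgroup.mem_normalizer_iff.mp hg) u).mp hu'.1, ?_⟩
    exact (MonoidHom.normal_ker f).conj_mem u hu'.2 g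
  obtain ⟨c, hc, hcN⟩ := Cfsg.Agent.Lib.Lead.coprime_fixed_coset A P' hAN hcop hsolv N₀ inf_le_left
    (fun g hg => hnorm g (Subgroup.le_normalizer hg)) (fun g hg => hnorm g (hAN hg)) y₂ hy₂P
    (by
      intro b hb
      rw [hN₀, Subgroup.mem_inf]
      constructor
      · exact Subgroup.mul_mem _ (((Subgroup.mem_normalizer_iff.mp (hAN hb)) y₂).mp hy₂P)
          (Subgroup.inv_mem _ hy₂P)
      · have hb1 : f b = 1 := hAker hb
        rw [MonoidHom.mem_ker, map_mul, map_mul, map_mul, map_inv, map_inv, hb1]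
        group)
  rw [Subgroup.mem_inf] at hc
  obtain ⟨hcP, hcA⟩ := hc
  have hcaa : (a * a) * c = c * (a * a) :=
    (Subgroup.mem_centralizer_iff.mp hcA (a * a) (Subgroup.mem_zpowers _))
  have hfc : f c = f y₂ := by
    have h1 : f (y₂⁻¹ * c) = 1 := (Subgroup.mem_inf.mp hcN).2
    rw [map_mul, map_inv, inv_mul_eq_one] at h1
    exact h1.symm
  have hsc : s c = 1 := hP'M hcP
  refine ⟨a, c⁻¹ * (a * c * a⁻¹), ⟨k, ha2⟩, ?_, ?_, ?_⟩
  · have hxP : c⁻¹ * (a * c * a⁻¹) ∈ P' :=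
      Subgroup.mul_mem _ (Subgroup.inv_mem _ hcP) (((Subgroup.mem_normalizer_iff.mp haN) c).mp hcP)
    obtain ⟨j, hj⟩ := hP'3 ⟨_, hxP⟩
    refine ⟨j, ?_⟩
    have := congrArg Subtype.val hj
    rwa [Subgroup.coe_pow] at this
  · have h1 : a * a * c * (a * a)⁻¹ = c := by rw [hcaa]; group
    calc a * (c⁻¹ * (a * c * a⁻¹)) * a⁻¹ = (a * c * a⁻¹)⁻¹ * (a * a * c * (a * a)⁻¹) := by group
      _ = (a * c * a⁻¹)⁻¹ * c := by rw [h1]
      _ = (c⁻¹ * (a * c * a⁻¹))⁻¹ := by group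
  · rw [map_mul, map_mul, map_mul, map_inv, map_inv]
    apply S3_invert _ _ hsa hsc
    rw [hfc]; exact hfy₂

theorem comm_of_sq {X : Type*} [Group X] (W : Subgroup X) (hW2 : ∀ u ∈ W, u * u = 1) {u v : X}
    (hu : u ∈ W) (hv : v ∈ W) : u * v = v * u := by
  have h1 := hW2 _ (W.mul_mem hu hv)
  have h2 : (u * v)⁻¹ = u * v := inv_eq_of_mul_eq_one_right h1
  rw [← h2, mul_inv_rev, inv_eq_of_mul_eq_one_right (hW2 v hv), inv_eq_of_mul_eq_one_right (hW2 u hu)]

theorem conj_pow_mem {X : Type*} [Group X] (V : Subgroup X) (a : X) (haV : ∀ u ∈ V, a * u * a⁻¹ ∈ V)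
    (n : ℕ) : ∀ u ∈ V, a ^ n * u * (a ^ n)⁻¹ ∈ V := by
  induction n with
  | zero => intro u hu; simpa using hu
  | succ n ih =>
    intro u hu
    have h1 := haV _ (ih u hu)
    have h2 : a * (a ^ n * u * (a ^ n)⁻¹) * a⁻¹ = a ^ (n + 1) * u * (a ^ (n + 1))⁻¹ := by
      rw [pow_succ']; group
    rwa [h2] at h1

theorem fixed_pt {X : Type*} [Group X] (a : X) : ∀ (k : ℕ) (V : Subgroup X), (∀ u ∈ V, u * u = 1) →
    (∀ u ∈ V, a * u * a⁻¹ ∈ V) → (∀ u ∈ V, a ^ 2 ^ k * u * (a ^ 2 ^ k)⁻¹ = u) → V ≠ ⊥ →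
    ∃ v ∈ V, v ≠ 1 ∧ a * v * a⁻¹ = v := by
  intro k
  induction k with
  | zero =>
    intro V hV2 haV hak hne
    rcases Subgroup.bot_or_exists_ne_one V with h | ⟨v, hv, hv1⟩
    · exact absurd h hne
    · refine ⟨v, hv, hv1, ?_⟩
      have := hak v hv
      simpa using this
  | succ k ih =>
    intro V hV2 haV hak hne
    set δ : X := a ^ 2 ^ k with hδ
    have hδδ : a ^ 2 ^ (k + 1) = δ * δ := by
      rw [hδ, pow_succ, pow_mul, pow_two]
    have hδV : ∀ u ∈ V, δ * u * δ⁻¹ ∈ V := conj_pow_mem V a haV _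
    have hcomm : a * δ = δ * a := ((Commute.refl a).pow_right _).eq
    set V' : Subgroup X := V ⊓ Subgroup.centralizer {δ} with hV'
    have hmem : ∀ u, u ∈ V' ↔ u ∈ V ∧ u * δ = δ * u := by
      intro u
      rw [hV', Subgroup.mem_inf, Subgroup.mem_centralizer_singleton_iff]
    have h1 : ∀ u ∈ V', u * u = 1 := fun u hu => hV2 u ((hmem u).mp hu).1
    have h2 : ∀ u ∈ V', a * u * a⁻¹ ∈ V' := by
      intro u hu
      rw [hmem] at hu ⊢
      refine ⟨haV u hu.1, ?_⟩
      have hcomm' : a⁻¹ * δ = δ * a⁻¹ := by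
        have : a⁻¹ * δ = a⁻¹ * (δ * a) * a⁻¹ := by group
        rw [this, ← hcomm]; group
      calc a * u * a⁻¹ * δ = a * u * (a⁻¹ * δ) := by group
        _ = a * (u * δ) * a⁻¹ := by rw [hcomm']; group
        _ = (a * δ) * u * a⁻¹ := by rw [hu.2]; group
        _ = δ * (a * u * a⁻¹) := by rw [hcomm]; group
    have h3 : ∀ u ∈ V', a ^ 2 ^ k * u * (a ^ 2 ^ k)⁻¹ = u := by
      intro u hu
      rw [hmem] at hu
      rw [← hδ, ← hu.2]; group
    have h4 : V' ≠ ⊥ := by
      rcases Subgroup.bot_or_exists_ne_one V with h | ⟨u, hu, hu1⟩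
      · exact absurd h hne
      · by_cases hfix : u * δ = δ * u
        · intro hbot
          have : u ∈ V' := (hmem u).mpr ⟨hu, hfix⟩
          rw [hbot, Subgroup.mem_bot] at this
          exact hu1 this
        · intro hbot
          have hδu : δ * u * δ⁻¹ ∈ V := hδV u hu
          have hfix2 : δ * (δ * u * δ⁻¹) * δ⁻¹ = u := by
            have := hak u hu
            rw [hδδ] at this
            calc δ * (δ * u * δ⁻¹) * δ⁻¹ = δ * δ * u * (δ * δ)⁻¹ := by group
              _ = u := this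
          have : u * (δ * u * δ⁻¹) ∈ V' := by
            rw [hmem]
            refine ⟨V.mul_mem hu hδu, ?_⟩
            calc u * (δ * u * δ⁻¹) * δ = (δ * u * δ⁻¹) * u * δ := by
                  rw [comm_of_sq V hV2 hu hδu]
              _ = (δ * u * δ⁻¹) * (δ * (δ * u * δ⁻¹) * δ⁻¹) * δ := by rw [hfix2]
              _ = δ * (u * (δ * u * δ⁻¹)) := by group
          rw [hbot, Subgroup.mem_bot] at this
          apply hfix
          have h5 : δ * u * δ⁻¹ = u⁻¹ := by
            rw [eq_inv_iff_mul_eq_one, ← this]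
            exact (comm_of_sq V hV2 hu hδu).symm
          rw [inv_eq_of_mul_eq_one_right (hV2 u hu)] at h5
          calc u * δ = (δ * u * δ⁻¹) * δ := by rw [h5]
            _ = δ * u := by group
    obtain ⟨v, hv, hv1, hav⟩ := ih V' h1 h2 h3 h4
    exact ⟨v, ((hmem v).mp hv).1, hv1, hav⟩

theorem card_four {X : Type*} [Group X] {v b : X} (hv : v * v = 1) (hb : b * b = 1) (hvb : v * b = b * v)
    (hv1 : v ≠ 1) (hb1 : b ≠ 1) (hne : v ≠ b) :
    Nat.card (Cfsg.Agent.Lib.Lead.S4F.four v b hv hb hvb) = 4 := by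
  classical
  have h1 : ((Cfsg.Agent.Lib.Lead.S4F.four v b hv hb hvb : Subgroup X) : Set X) =
      (({1, v, b, v * b} : Finset X) : Set X) := by
    ext y
    simp [Cfsg.Agent.Lib.Lead.S4F.mem_four]
  have h2 : Nat.card (Cfsg.Agent.Lib.Lead.S4F.four v b hv hb hvb) =
      Nat.card ((Cfsg.Agent.Lib.Lead.S4F.four v b hv hb hvb : Subgroup X) : Set X) := rfl
  rw [h2, h1, Nat.card_coe_set_eq, Set.ncard_coe_finset]
  have hvb1 : v * b ≠ 1 := by
    intro h
    apply hne
    have : v = b⁻¹ := eq_inv_of_mul_eq_one_left h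
    rw [this, inv_eq_of_mul_eq_one_right hb]
  have hvbv : v * b ≠ v := by
    intro h
    apply hb1
    have : v * b = v * 1 := by rw [mul_one]; exact h
    exact mul_left_cancel this
  have hvbb : v * b ≠ b := by
    intro h
    apply hv1
    have : v * b = 1 * b := by rw [one_mul]; exact h
    exact mul_right_cancel this
  rw [Finset.card_insert_of_notMem, Finset.card_insert_of_notMem, Finset.card_insert_of_notMem,
    Finset.card_singleton]
  · simp only [Finset.mem_singleton]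
    exact fun h => hvbb h.symm
  · simp only [Finset.mem_insert, Finset.mem_singleton, not_or]
    exact ⟨hne, fun h => hvbv h.symm⟩
  · simp only [Finset.mem_insert, Finset.mem_singleton, not_or]
    exact ⟨fun h => hv1 h.symm, fun h => hb1 h.symm, fun h => hvb1 h.symm⟩

/-- the subgroup `{w * (x w x⁻¹)}` of an elementary abelian `2`-group `W` normalized by `x` -/
def imgSub {X : Type*} [Group X] (W : Subgroup X) (hW2 : ∀ u ∈ W, u * u = 1) (x : X)
    (hx : ∀ u ∈ W, x * u * x⁻¹ ∈ W) : Subgroup X where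
  carrier := {v | ∃ w ∈ W, v = w * (x * w * x⁻¹)}
  one_mem' := ⟨1, W.one_mem, by group⟩
  mul_mem' := by
    rintro _ _ ⟨w, hw, rfl⟩ ⟨w', hw', rfl⟩
    refine ⟨w * w', W.mul_mem hw hw', ?_⟩
    have h1 : x * w * x⁻¹ * w' = w' * (x * w * x⁻¹) := comm_of_sq W hW2 (hx w hw) hw'
    calc w * (x * w * x⁻¹) * (w' * (x * w' * x⁻¹)) = w * (x * w * x⁻¹ * w') * (x * w' * x⁻¹) := by group
      _ = w * (w' * (x * w * x⁻¹)) * (x * w' * x⁻¹) := by rw [h1]
      _ = w * w' * (x * (w * w') * x⁻¹) := by group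
  inv_mem' := by
    rintro _ ⟨w, hw, rfl⟩
    refine ⟨w, hw, ?_⟩
    exact inv_eq_of_mul_eq_one_right (hW2 _ (W.mul_mem hw (hx w hw)))

theorem mem_imgSub {X : Type*} [Group X] {W : Subgroup X} {hW2 : ∀ u ∈ W, u * u = 1} {x : X}
    {hx : ∀ u ∈ W, x * u * x⁻¹ ∈ W} {v : X} :
    v ∈ imgSub W hW2 x hx ↔ ∃ w ∈ W, v = w * (x * w * x⁻¹) := Iff.rfl

theorem stepD {X : Type*} [Group X] [Finite X] (W : Subgroup X) (hW2 : ∀ u ∈ W, u * u = 1) (x a : X)
    (hxN : x ∈ Subgroup.normalizer (W : Set X)) (haN : a ∈ Subgroup.normalizer (W : Set X))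
    (hinv : a * x * a⁻¹ = x⁻¹) (hx3 : x ^ 3 ∈ Subgroup.centralizer (W : Set X))
    (hxC : x ∉ Subgroup.centralizer (W : Set X))
    (ha2 : ∃ k : ℕ, a ^ 2 ^ k ∈ Subgroup.centralizer (W : Set X)) :
    Cfsg.Involves (Perm (Fin 4)) X := by
  have hx : ∀ u ∈ W, x * u * x⁻¹ ∈ W := fun u hu => ((Subgroup.mem_normalizer_iff.mp hxN) u).mp hu
  have hx' : ∀ u ∈ W, x⁻¹ * u * x ∈ W := by
    intro u hu
    have := ((Subgroup.mem_normalizer_iff.mp (Subgroup.inv_mem _ hxN)) u).mp hu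
    rwa [inv_inv] at this
  have ha : ∀ u ∈ W, a * u * a⁻¹ ∈ W := fun u hu => ((Subgroup.mem_normalizer_iff.mp haN) u).mp hu
  have hx3' : ∀ u ∈ W, x * (x * (x * u * x⁻¹) * x⁻¹) * x⁻¹ = u := by
    intro u hu
    have := Subgroup.mem_centralizer_iff.mp hx3 u hu
    have e3 : x ^ 3 = x * x * x := by rw [pow_succ, pow_two]
    rw [e3] at this
    calc x * (x * (x * u * x⁻¹) * x⁻¹) * x⁻¹ = (x * x * x * u) * (x * x * x)⁻¹ := by group
      _ = (u * (x * x * x)) * (x * x * x)⁻¹ := by rw [this]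
      _ = u := by group
  have hax : a * x = x⁻¹ * a := by rw [← hinv]; group
  have hax' : x⁻¹ * a⁻¹ = a⁻¹ * x := by
    have : (a * x)⁻¹ = (x⁻¹ * a)⁻¹ := by rw [hax]
    simpa [mul_inv_rev] using this
  set V := imgSub W hW2 x hx with hV
  have hVW : V ≤ W := by
    rintro _ ⟨w, hw, rfl⟩
    exact W.mul_mem hw (hx w hw)
  have hV2 : ∀ u ∈ V, u * u = 1 := fun u hu => hW2 u (hVW hu)
  have hVne : V ≠ ⊥ := by
    have : ∃ w₀ ∈ W, w₀ * x ≠ x * w₀ := by
      by_contra hall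
      push Not at hall
      apply hxC
      rw [Subgroup.mem_centralizer_iff]
      exact hall
    obtain ⟨w₀, hw₀, hne⟩ := this
    intro hbot
    have h1 : w₀ * (x * w₀ * x⁻¹) ∈ V := ⟨w₀, hw₀, rfl⟩
    rw [hbot, Subgroup.mem_bot] at h1
    apply hne
    have h2 : x * w₀ * x⁻¹ = w₀⁻¹ := by
      rw [eq_inv_iff_mul_eq_one, ← h1]
      exact (comm_of_sq W hW2 hw₀ (hx w₀ hw₀)).symm
    rw [inv_eq_of_mul_eq_one_right (hW2 w₀ hw₀)] at h2
    calc w₀ * x = (x * w₀ * x⁻¹) * x := by rw [h2]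
      _ = x * w₀ := by group
  have haV : ∀ u ∈ V, a * u * a⁻¹ ∈ V := by
    rintro _ ⟨w, hw, rfl⟩
    have hw₁ : a * w * a⁻¹ ∈ W := ha w hw
    refine ⟨x⁻¹ * (a * w * a⁻¹) * x, hx' _ hw₁, ?_⟩
    calc a * (w * (x * w * x⁻¹)) * a⁻¹ = (a * w * a⁻¹) * ((a * x) * w * (x⁻¹ * a⁻¹)) := by group
      _ = (a * w * a⁻¹) * ((x⁻¹ * a) * w * (a⁻¹ * x)) := by rw [hax, hax']
      _ = (a * w * a⁻¹) * (x⁻¹ * (a * w * a⁻¹) * x) := by group
      _ = (x⁻¹ * (a * w * a⁻¹) * x) * (a * w * a⁻¹) := comm_of_sq W hW2 hw₁ (hx' _ hw₁)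
      _ = x⁻¹ * (a * w * a⁻¹) * x * (x * (x⁻¹ * (a * w * a⁻¹) * x) * x⁻¹) := by group
  obtain ⟨k, hk⟩ := ha2
  have hakV : ∀ u ∈ V, a ^ 2 ^ k * u * (a ^ 2 ^ k)⁻¹ = u := by
    intro u hu
    have := Subgroup.mem_centralizer_iff.mp hk u (hVW hu)
    rw [← this]; group
  obtain ⟨v, hvV, hv1, hav⟩ := fixed_pt a k V hV2 haV hakV hVne
  have hvW : v ∈ W := hVW hvV
  set b : X := x * v * x⁻¹ with hb
  have hbW : b ∈ W := hx v hvW
  -- the key relation
  have hrel : v * b * (x * b * x⁻¹) = 1 := by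
    obtain ⟨w, hw, hvw⟩ := hvV
    set q : X := x * w * x⁻¹ with hq
    set r : X := x * q * x⁻¹ with hr
    have hqW : q ∈ W := hx w hw
    have hrW : r ∈ W := hx q hqW
    have hrw : x * r * x⁻¹ = w := hx3' w hw
    have hb' : b = q * r := by rw [hb, hvw, hr, hq]; group
    have hb'' : x * b * x⁻¹ = r * w := by
      rw [hb', ← hrw, hr]; group
    rw [hb'', hb', hvw]
    calc w * q * (q * r) * (r * w) = w * (q * q) * (r * r) * w := by group
      _ = 1 := by rw [hW2 q hqW, hW2 r hrW, mul_one, mul_one, hW2 w hw]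
  have hvv : v * v = 1 := hW2 v hvW
  have hbb : b * b = 1 := hW2 b hbW
  have hvb : v * b = b * v := comm_of_sq W hW2 hvW hbW
  have hvbW : v * b ∈ W := W.mul_mem hvW hbW
  have hxb : x * b * x⁻¹ = v * b := by
    have h1 : x * b * x⁻¹ = (v * b)⁻¹ := by
      rw [eq_inv_iff_mul_eq_one]
      rw [comm_of_sq W hW2 (hx b hbW) hvbW]
      exact hrel
    rw [h1, inv_eq_of_mul_eq_one_right (hW2 _ hvbW)]
  have hxvb : x * (v * b) * x⁻¹ = v := by
    calc x * (v * b) * x⁻¹ = (x * v * x⁻¹) * (x * b * x⁻¹) := by group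
      _ = b * (v * b) := by rw [hxb]
      _ = b * (b * v) := by rw [hvb]
      _ = v := by rw [← mul_assoc, hbb, one_mul]
  have hb1 : b ≠ 1 := by
    intro h
    apply hv1
    have : x * v * x⁻¹ = 1 := h
    calc v = x⁻¹ * (x * v * x⁻¹) * x := by group
      _ = 1 := by rw [this]; group
  have hne : v ≠ b := by
    intro h
    apply hv1
    have h2 : x * b * x⁻¹ = b := by
      calc x * b * x⁻¹ = x * v * x⁻¹ := by rw [← h]
        _ = b := hb.symm
    rw [hxb] at h2
    have : v * b = 1 * b := by rw [one_mul]; exact h2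
    exact mul_right_cancel this
  set U := Cfsg.Agent.Lib.Lead.S4F.four v b hvv hbb hvb with hU
  have hU4 : Nat.card U = 4 := card_four hvv hbb hvb hv1 hb1 hne
  have hU2 : ∀ u ∈ U, u * u = 1 := fun u hu => Cfsg.Agent.Lib.Lead.S4F.four_sq hu
  have hUW : U ≤ W := by
    intro u hu
    rcases Cfsg.Agent.Lib.Lead.S4F.mem_four.mp hu with rfl | rfl | rfl | rfl
    · exact W.one_mem
    · exact hvW
    · exact hbW
    · exact hvbW
  have hCle : Subgroup.centralizer (W : Set X) ≤ Subgroup.centralizer (U : Set X) :=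
    Subgroup.centralizer_le hUW
  have hxU : x ∈ Subgroup.normalizer (U : Set X) := by
    apply Subgroup.mem_normalizer_fintype
    intro u hu
    rcases Cfsg.Agent.Lib.Lead.S4F.mem_four.mp hu with rfl | rfl | rfl | rfl
    · apply Cfsg.Agent.Lib.Lead.S4F.mem_four.mpr; left; group
    · apply Cfsg.Agent.Lib.Lead.S4F.mem_four.mpr; right; right; left; rfl
    · apply Cfsg.Agent.Lib.Lead.S4F.mem_four.mpr; right; right; right; exact hxb
    · apply Cfsg.Agent.Lib.Lead.S4F.mem_four.mpr; right; left; exact hxvb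
  have hab : a * b * a⁻¹ = v * b := by
    have h1 : x⁻¹ * v * x = x * b * x⁻¹ := by
      have := hx3' v hvW
      calc x⁻¹ * v * x = x⁻¹ * (x * (x * (x * v * x⁻¹) * x⁻¹) * x⁻¹) * x := by rw [this]
        _ = x * (x * v * x⁻¹) * x⁻¹ := by group
    calc a * b * a⁻¹ = (a * x) * v * (x⁻¹ * a⁻¹) := by rw [hb]; group
      _ = (x⁻¹ * a) * v * (a⁻¹ * x) := by rw [hax, hax']
      _ = x⁻¹ * (a * v * a⁻¹) * x := by group
      _ = x⁻¹ * v * x := by rw [hav]
      _ = v * b := by rw [h1, hxb]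
  have haU : a ∈ Subgroup.normalizer (U : Set X) := by
    apply Subgroup.mem_normalizer_fintype
    intro u hu
    rcases Cfsg.Agent.Lib.Lead.S4F.mem_four.mp hu with rfl | rfl | rfl | rfl
    · apply Cfsg.Agent.Lib.Lead.S4F.mem_four.mpr; left; group
    · apply Cfsg.Agent.Lib.Lead.S4F.mem_four.mpr; right; left; exact hav
    · apply Cfsg.Agent.Lib.Lead.S4F.mem_four.mpr; right; right; right; exact hab
    · apply Cfsg.Agent.Lib.Lead.S4F.mem_four.mpr; right; right; left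
      calc a * (v * b) * a⁻¹ = (a * v * a⁻¹) * (a * b * a⁻¹) := by group
        _ = v * (v * b) := by rw [hav, hab]
        _ = b := by rw [← mul_assoc, hvv, one_mul]
  refine Cfsg.Agent.Lib.Lead.S4.involves_S4 U hU4 hU2 x a hxU haU ?_ ⟨3, by decide, hCle hx3⟩ ?_
    ⟨k, hCle hk⟩
  · intro u hu hfix
    rcases Cfsg.Agent.Lib.Lead.S4F.mem_four.mp hu with rfl | rfl | rfl | rfl
    · rfl
    · exact absurd hfix.symm hne
    · rw [hxb] at hfix
      exfalso; apply hv1
      have : v * b = 1 * b := by rw [one_mul]; exact hfix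
      exact mul_right_cancel this
    · rw [hxvb] at hfix
      exfalso; apply hb1
      have : v * 1 = v * b := by rw [mul_one]; exact hfix
      exact (mul_left_cancel this).symm
  · intro haC
    have := Subgroup.mem_centralizer_iff.mp haC b (Cfsg.Agent.Lib.Lead.S4F.mem_four.mpr (Or.inr (Or.inr (Or.inl rfl))))
    apply hv1
    have h2 : a * b * a⁻¹ = b := by rw [← this]; group
    rw [hab] at h2
    have : v * b = 1 * b := by rw [one_mul]; exact h2
    exact mul_right_cancel this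

theorem stepD' {X : Type*} [Group X] [Finite X] (W : Subgroup X) (hW2 : ∀ u ∈ W, u * u = 1) (x a : X)
    (hxN : x ∈ Subgroup.normalizer (W : Set X)) (haN : a ∈ Subgroup.normalizer (W : Set X))
    (hinv : a * x * a⁻¹ = x⁻¹) (hx3 : ∃ j : ℕ, x ^ 3 ^ j ∈ Subgroup.centralizer (W : Set X))
    (hxC : x ∉ Subgroup.centralizer (W : Set X))
    (ha2 : ∃ k : ℕ, a ^ 2 ^ k ∈ Subgroup.centralizer (W : Set X)) :
    Cfsg.Involves (Perm (Fin 4)) X := by
  classical
  set j := Nat.find hx3 with hj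
  have hjs : x ^ 3 ^ j ∈ Subgroup.centralizer (W : Set X) := Nat.find_spec hx3
  have hj0 : j ≠ 0 := by
    intro h0
    rw [h0, pow_zero, pow_one] at hjs
    exact hxC hjs
  obtain ⟨i, hi⟩ := Nat.exists_eq_succ_of_ne_zero hj0
  have hmin : x ^ 3 ^ i ∉ Subgroup.centralizer (W : Set X) := by
    apply Nat.find_min hx3
    rw [← hj, hi]; exact Nat.lt_succ_self i
  refine stepD W hW2 (x ^ 3 ^ i) a (Subgroup.pow_mem _ hxN _) haN ?_ ?_ hmin ha2
  · rw [← conj_pow, hinv, inv_pow]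
  · rw [← pow_mul, ← pow_succ, ← Nat.succ_eq_add_one, ← hi]
    exact hjs

theorem backward {G : Type*} [Group G] [Finite G] (T : Subgroup G) (hT2 : IsPGroup 2 T)
    (h : IsSectionOf (Perm (Fin 3)) (↥(Subgroup.normalizer (T : Set G)) ⧸
        (Subgroup.centralizer (T : Set G)).subgroupOf (Subgroup.normalizer (T : Set G)))) :
    Cfsg.Involves (Perm (Fin 4)) G := by
  haveI : Fact (Nat.Prime 2) := ⟨Nat.prime_two⟩
  haveI : Fact (Nat.Prime 3) := ⟨Nat.prime_three⟩
  obtain ⟨K', f, hf⟩ := h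
  set N := Subgroup.normalizer (T : Set G) with hN
  set C := Subgroup.centralizer (T : Set G) with hC
  set H : Subgroup N := K'.comap (QuotientGroup.mk' (C.subgroupOf N)) with hH
  set f' : H →* Perm (Fin 3) := f.comp ((QuotientGroup.mk' (C.subgroupOf N)).subgroupComap K') with hf'
  have hf's : Function.Surjective f' :=
    hf.comp (MonoidHom.subgroupComap_surjective_of_surjective _ K' (QuotientGroup.mk'_surjective _))
  obtain ⟨a, x, ⟨k, hak⟩, ⟨j, hxj⟩, hinv, hfx⟩ := stepA f' hf's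
  -- `x` does not centralize `T`
  have hxC : ((x : N) : G) ∉ C := by
    intro hx
    apply hfx
    have h1 : (x : N) ∈ C.subgroupOf N := hx
    have h2 : (QuotientGroup.mk' (C.subgroupOf N)).subgroupComap K' x = 1 := by
      apply Subtype.ext
      exact (QuotientGroup.eq_one_iff _).mpr h1
    show f ((QuotientGroup.mk' (C.subgroupOf N)).subgroupComap K' x) = 1
    rw [h2, map_one]
  -- the Frattini quotient
  set Φ : Subgroup G := (frattini T).map T.subtype with hΦ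
  have hΦN : N ≤ Subgroup.normalizer (Φ : Set G) :=
    Cfsg.Agent.Lib.Lead.le_normalizer_map_characteristic T (frattini T)
  set Φn : Subgroup N := Φ.subgroupOf N with hΦn
  haveI hΦnn : Φn.Normal := by
    constructor
    intro n hn g
    rw [hΦn, Subgroup.mem_subgroupOf] at hn ⊢
    exact ((Subgroup.mem_normalizer_iff.mp (hΦN g.2)) _).mp hn
  set Tn : Subgroup N := T.subgroupOf N with hTn
  haveI hTnn : Tn.Normal := Subgroup.normal_in_normalizer
  set W : Subgroup (N ⧸ Φn) := Tn.map (QuotientGroup.mk' Φn) with hW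
  haveI hWn : W.Normal := hTnn.map _ (QuotientGroup.mk'_surjective _)
  have hW2 : ∀ u ∈ W, u * u = 1 := by
    rintro _ ⟨t, ht, rfl⟩
    rw [← map_mul]
    show (QuotientGroup.mk (t * t) : N ⧸ Φn) = 1
    rw [QuotientGroup.eq_one_iff, hΦn, Subgroup.mem_subgroupOf]
    have ht' : (t : G) ∈ T := ht
    have := Cfsg.Agent.Lib.Lead.pow_mem_frattini_of_isPGroup hT2 (⟨(t : G), ht'⟩ : T)
    refine ⟨_, this, ?_⟩
    simp [pow_two]
  set xq : N ⧸ Φn := QuotientGroup.mk' Φn (x : N) with hxq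
  set aq : N ⧸ Φn := QuotientGroup.mk' Φn (a : N) with haq
  apply Cfsg.Agent.Lib.Lead.Thom.involves_of_subgroup N
  apply Cfsg.Agent.Lib.Lead.Thom.involves_of_quotient Φn
  have hWnorm : ∀ g : N ⧸ Φn, g ∈ Subgroup.normalizer (W : Set (N ⧸ Φn)) := by
    intro g
    rw [Subgroup.normalizer_eq_top]
    exact Subgroup.mem_top g
  refine stepD' W hW2 xq aq (hWnorm _) (hWnorm _) ?_ ⟨j, ?_⟩ ?_ ⟨k, ?_⟩
  · rw [hxq, haq, ← map_inv, ← map_mul, ← map_mul, ← map_inv]
    congr 1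
    have := congrArg Subtype.val hinv
    simpa using this
  · rw [hxq, ← map_pow]
    have : (x : N) ^ 3 ^ j = 1 := by
      have := congrArg Subtype.val hxj
      simpa using this
    rw [this, map_one]
    exact Subgroup.one_mem _
  · intro hxW
    apply hxC
    have hz : Subgroup.zpowers ((x : N) : G) ≤ C := by
      rw [hC]
      apply Cfsg.Agent.Lib.Lead.coprime_trivial_on_frattini_quotient
      · exact Subgroup.zpowers_le.mpr (x : N).2
      · have hz3 : IsPGroup 3 (Subgroup.zpowers ((x : N) : G)) := by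
          apply isPGroup_zpowers Nat.prime_three _ j
          have := congrArg (fun y : H => ((y : N) : G)) hxj
          simpa using this
        exact IsPGroup.coprime_card_of_ne 3 2 (by norm_num) _ _ hz3 (hT2.to_subgroup _)
      · intro b hb t ht
        obtain ⟨n, rfl⟩ := Subgroup.mem_zpowers_iff.mp hb
        have htN : t ∈ N := Subgroup.le_normalizer ht
        have h1 : xq ^ n ∈ Subgroup.centralizer (W : Set (N ⧸ Φn)) := Subgroup.zpow_mem _ hxW n
        have h2 : QuotientGroup.mk' Φn (⟨t, htN⟩ : N) ∈ W := ⟨⟨t, htN⟩, ht, rfl⟩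
        have h3 := Subgroup.mem_centralizer_iff.mp h1 _ h2
        rw [hxq, ← map_zpow, ← map_mul, ← map_mul] at h3
        have h4 : ((x : N) ^ n * ⟨t, htN⟩)⁻¹ * (⟨t, htN⟩ * (x : N) ^ n) ∈ Φn :=
          QuotientGroup.eq.mp h3.symm
        have h5 : (x : N) ^ n * ⟨t, htN⟩ * ((x : N) ^ n)⁻¹ * (⟨t, htN⟩ : N)⁻¹ ∈ Φn := by
          have h6 := hΦnn.conj_mem _ (Φn.inv_mem h4) ((x : N) ^ n * ⟨t, htN⟩)
          have h7 : (x : N) ^ n * ⟨t, htN⟩ * (((x : N) ^ n * ⟨t, htN⟩)⁻¹ * (⟨t, htN⟩ * (x : N) ^ n))⁻¹ *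
              ((x : N) ^ n * ⟨t, htN⟩)⁻¹ =
              (x : N) ^ n * ⟨t, htN⟩ * ((x : N) ^ n)⁻¹ * (⟨t, htN⟩ : N)⁻¹ := by group
          rwa [h7] at h6
        rw [hΦn, Subgroup.mem_subgroupOf] at h5
        have h8 : (((x : N) ^ n * ⟨t, htN⟩ * ((x : N) ^ n)⁻¹ * (⟨t, htN⟩ : N)⁻¹ : N) : G) =
            ((x : N) : G) ^ n * t * (((x : N) : G) ^ n)⁻¹ * t⁻¹ := by
          simp
        rw [h8] at h5
        exact h5
    exact hz (Subgroup.mem_zpowers _)
  · rw [haq, ← map_pow]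
    have : (a : N) ^ 2 ^ k = 1 := by
      have := congrArg Subtype.val hak
      simpa using this
    rw [this, map_one]
    exact Subgroup.one_mem _

end helpers



/-- For a finite group G, the symmetric group of degree 4 is involved in G if and only if there is a 2-subgroup T of G such that the symmetric group of degree 3 is involved in N(T)/C(T). -/
theorem result {G : Type*} [Group G] [Finite G] : Cfsg.Involves (Equiv.Perm (Fin 4)) G ↔ ∃ T : Subgroup G, IsPGroup 2 ↥T ∧ Cfsg.Involves (Equiv.Perm (Fin 3)) (↥(Subgroup.normalizer (T : Set G)) ⧸ (Subgroup.centralizer (T : Set G)).subgroupOf (Subgroup.normalizer (T : Set G))) := by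
  constructor
  · intro h
    obtain ⟨T, hT, hs⟩ := forward (Cfsg.Agent.Lib.Helper9.isSectionOf_of_involves h)
    exact ⟨T, hT, Cfsg.Agent.Lib.Helper9.involves_of_isSectionOf hs⟩
  · rintro ⟨T, hT, hs⟩
    exact backward T hT (Cfsg.Agent.Lib.Helper9.isSectionOf_of_involves hs)


end Cfsg.Agent.S2759
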