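import Mathlib
import Cfsg.Agent.Lib.Helper6.CharP
import Cfsg.Statements.S2760

set_option autoImplicit false
open Cfsg Cfsg.Agent.Lib.Helper6
open scoped commutatorElement

namespace Cfsg.Agent.S2760

/-- Let G be a finite group with C_G(O₂(G)) ≤ O₂(G) and H a subgroup of G such that H is normal in G, or the subgroup O²(H) generated by the elements of H of odd order is normal in G. Then C_H(O₂(H)) ≤ O₂(H). -/
theorem result {G : Type*} [Group G] [Finite G] (hchar : Subgroup.centralizer (Cfsg.pCore 2 G : Set G) ≤ Cfsg.pCore 2 G) (H : Subgroup G) (hH : H.Normal ∨ ((Cfsg.pResidual 2 ↥H).map H.subtype).Normal) : Subgroup.centralizer (Cfsg.pCore 2 ↥H : Set ↥H) ≤ Cfsg.pCore 2 ↥H := by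
  haveI : Fact (Nat.Prime 2) := ⟨Nat.prime_two⟩
  rcases hH with hH | hH
  · exact IsCharP.of_normal (p := 2) hchar H
  · -- K = O²(H) is normal in G, so has characteristic 2
    set K : Subgroup G := (pResidual 2 ↥H).map H.subtype with hK
    have hKH : K ≤ H := by
      rintro _ ⟨y, _, rfl⟩; exact y.2
    have hKchar : IsCharP 2 K := IsCharP.of_normal (p := 2) hchar K
    -- O_2(K) is normal in G
    have hRn : (pCoreOf 2 K).Normal := by
      constructor
      intro n hn g
      have h1 : K.map (MulAut.conj g).toMonoidHom = K := by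
        apply le_antisymm
        · rintro _ ⟨y, hy, rfl⟩
          exact hH.conj_mem y hy g
        · intro y hy
          refine ⟨g⁻¹ * y * g, ?_, ?_⟩
          · have := hH.conj_mem y hy g⁻¹
            simpa using this
          · simp [MulAut.conj_apply]; group
      have h2 := pCoreOf_map_conj 2 K g
      rw [h1] at h2
      rw [← h2]
      exact ⟨n, hn, by simp [MulAut.conj_apply]⟩
    have hRle : (pCoreOf 2 K).subgroupOf H ≤ pCore 2 H := by
      apply le_pCore
      · infer_instance
      · exact (pCoreOf_isPGroup 2 K).comap_subtype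
    have hCn : (Subgroup.centralizer (pCore 2 H : Set H)).Normal := inferInstance
    apply le_pCore hCn
    apply isPGroup_of_pPrime_elements_trivial
    intro x hxC hxc
    -- x lies in O²(H)
    have hxres : x ∈ pResidual 2 ↥H := Subgroup.subset_closure hxc
    have hxK : (x : G) ∈ K := ⟨x, hxres, rfl⟩
    -- x centralizes O_2(K)
    have hxcent : (⟨(x : G), hxK⟩ : K) ∈ Subgroup.centralizer (pCore 2 K : Set K) := by
      rw [Subgroup.mem_centralizer_iff]
      intro y hy
      have hyR : ((y : K) : G) ∈ pCoreOf 2 K := ⟨y, hy, rfl⟩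
      have hyH : (⟨(y : G), hKH y.2⟩ : H) ∈ pCore 2 H := hRle (by
        rw [Subgroup.mem_subgroupOf]; exact hyR)
      have := (Subgroup.mem_centralizer_iff.mp hxC) _ hyH
      have h3 : (y : G) * (x : G) = (x : G) * (y : G) := by
        have := congrArg Subtype.val this
        simpa using this
      exact Subtype.ext h3
    have hxQ : (⟨(x : G), hxK⟩ : K) ∈ pCore 2 K := hKchar hxcent
    have hxc' : (orderOf (⟨(x : G), hxK⟩ : K)).Coprime 2 := by
      have h4 : orderOf (⟨(x : G), hxK⟩ : K) = orderOf (x : G) := by
        rw [← Subgroup.orderOf_coe]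
      rw [h4, Subgroup.orderOf_coe]; exact hxc
    have := eq_one_of_coprime_of_mem_pGroup (pCore_isPGroup 2) hxQ hxc'
    have h5 : (x : G) = 1 := by
      have := congrArg Subtype.val this
      simpa using this
    exact Subtype.ext h5

end Cfsg.Agent.S2760
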