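import Mathlib
import Cfsg.Agent.Lib.Lead.Qd5
import Cfsg.Agent.Lib.Lead.Qd7
import Cfsg.Agent.Lib.Helper4.QdKInf
import Cfsg.Statements.S2761

set_option autoImplicit false
open Cfsg

namespace Cfsg.Agent.S2761

open scoped commutatorElement

section helpers

/-- the affine action of a `3 × 3` matrix on `F₂²` -/
def act (M : Matrix (Fin 3) (Fin 3) (ZMod 2)) (v : Fin 2 → ZMod 2) : Fin 2 → ZMod 2 :=
  fun i => M (Fin.castSucc i) 0 * v 0 + M (Fin.castSucc i) 1 * v 1 + M (Fin.castSucc i) 2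

theorem act_one (v : Fin 2 → ZMod 2) : act 1 v = v := by
  funext i
  fin_cases i
  · show (1 : Matrix (Fin 3) (Fin 3) (ZMod 2)) 0 0 * v 0 + (1 : Matrix (Fin 3) (Fin 3) (ZMod 2)) 0 1 * v 1 +
      (1 : Matrix (Fin 3) (Fin 3) (ZMod 2)) 0 2 = v 0
    simp
  · show (1 : Matrix (Fin 3) (Fin 3) (ZMod 2)) 1 0 * v 0 + (1 : Matrix (Fin 3) (Fin 3) (ZMod 2)) 1 1 * v 1 +
      (1 : Matrix (Fin 3) (Fin 3) (ZMod 2)) 1 2 = v 1
    simp

theorem act_mul (M N : Matrix (Fin 3) (Fin 3) (ZMod 2))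
    (h0 : N 2 0 = 0) (h1 : N 2 1 = 0) (h2 : N 2 2 = 1) (v : Fin 2 → ZMod 2) :
    act (M * N) v = act M (act N v) := by
  funext i
  fin_cases i <;> simp [act, Matrix.mul_apply, Fin.sum_univ_three, h0, h1, h2] <;> ring

/-- the action hom -/
def actHom : ↥(Cfsg.qd 2) →* Function.End (Fin 2 → ZMod 2) where
  toFun M := act M.1.1
  map_one' := by
    funext v
    exact act_one v
  map_mul' M N := by
    funext v
    obtain ⟨h0, h1, h2⟩ := Cfsg.Agent.Lib.Lead.QdLib.last_row_of_mem_qd 2 N.2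
    exact act_mul M.1.1 N.1.1 h0 h1 h2 v

theorem actHom_injective : Function.Injective (MonoidHom.toHomPerm actHom) := by
  rw [injective_iff_map_eq_one]
  intro M hM
  obtain ⟨h0, h1, h2⟩ := Cfsg.Agent.Lib.Lead.QdLib.last_row_of_mem_qd 2 M.2
  have key : ∀ v, act M.1.1 v = v := by
    intro v
    have := congrArg (fun σ : Equiv.Perm (Fin 2 → ZMod 2) => σ v) hM
    exact this
  have k0 := key ![0, 0]
  have k1 := key ![1, 0]
  have k2 := key ![0, 1]
  have a0 := congrFun k0 0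
  have a1 := congrFun k0 1
  have b0 := congrFun k1 0
  have b1 := congrFun k1 1
  have c0 := congrFun k2 0
  have c1 := congrFun k2 1
  simp [act] at a0 a1 b0 b1 c0 c1
  apply Subtype.ext
  apply Subtype.ext
  ext i j
  fin_cases i <;> fin_cases j <;> simp [h0, h1, h2, a0, a1] <;> simp_all

end helpers



/-- The group Qd(2), the natural semidirect product of an elementary abelian group of order 4 by SL₂(2) (realised as the affine subgroup of SL₃(2)), is isomorphic to the symmetric group of degree 4. -/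
theorem result : Nonempty (↥(Cfsg.qd 2) ≃* Equiv.Perm (Fin 4)) := by
  haveI : Fact (Nat.Prime 2) := ⟨Nat.prime_two⟩
  let e : ↥(Cfsg.qd 2) ≃* ↥(Cfsg.qd 2) := MulEquiv.refl _
  have hsurj : Function.Surjective (Cfsg.Agent.Lib.Lead.QdLib.bX e) :=
    fun A => ⟨Cfsg.Agent.Lib.Lead.QdLib.dX e A, Cfsg.Agent.Lib.Lead.QdLib.bX_dX e A⟩
  have hcardX : Nat.card ↥(Cfsg.qd 2) = 24 := by
    have h1 : Nat.card ↥(Cfsg.qd 2) = Nat.card (↥(Cfsg.qd 2) ⧸ (Cfsg.Agent.Lib.Lead.QdLib.bX e).ker) *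
        Nat.card ↥(Cfsg.Agent.Lib.Lead.QdLib.bX e).ker :=
      Subgroup.card_eq_card_quotient_mul_card_subgroup _
    have h2 : Nat.card (↥(Cfsg.qd 2) ⧸ (Cfsg.Agent.Lib.Lead.QdLib.bX e).ker) =
        Nat.card (Matrix.SpecialLinearGroup (Fin 2) (ZMod 2)) :=
      Nat.card_congr (QuotientGroup.quotientKerEquivOfSurjective _ hsurj).toEquiv
    rw [h2, Cfsg.Agent.Lib.Lead.QdLib.card_ker_bX, Cfsg.Agent.Lib.Helper1.card_SL2, ZMod.card] at h1
    rw [h1]; norm_num
  have hcardP : Nat.card (Equiv.Perm (Fin 2 → ZMod 2)) = 24 := by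
    rw [Nat.card_eq_fintype_card, Fintype.card_perm, Fintype.card_fun, ZMod.card, Fintype.card_fin]
    rfl
  have hbij : Function.Bijective (MonoidHom.toHomPerm actHom) := by
    haveI : Finite ↥(Cfsg.qd 2) := Nat.finite_of_card_ne_zero (by rw [hcardX]; norm_num)
    exact (Function.Injective.bijective_of_nat_card_le actHom_injective (by rw [hcardX, hcardP]))
  have hc4 : Fintype.card (Fin 2 → ZMod 2) = 4 := by
    rw [Fintype.card_fun, ZMod.card, Fintype.card_fin]; norm_num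
  exact ⟨(MulEquiv.ofBijective _ hbij).trans
    (Equiv.permCongrHom (Fintype.equivFinOfCardEq hc4))⟩


end Cfsg.Agent.S2761
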