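import Mathlib
import Cfsg.Agent.Lib.Helper6.QdF2
import Cfsg.Statements.S2762

set_option autoImplicit false
open Cfsg

namespace Cfsg.Agent.S2762

open Cfsg.Agent.Lib.Helper6.QdF
open scoped commutatorElement

section helpers

open Cfsg.Agent.Lib.Helper6.QdF

variable (F : Type*) [Field F]

theorem deltaQ_injective : Function.Injective (deltaQ F) := by
  intro A B h
  have := congrArg (beta F) h
  rwa [beta_deltaQ, beta_deltaQ] at this

theorem entries_tau_mul_delta (v : Multiplicative (Fin 2 → F))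
    (A : Matrix.SpecialLinearGroup (Fin 2) F) :
    (((tauQ F v * deltaQ F A : ↥(Cfsg.qdOver F)) : Matrix.SpecialLinearGroup (Fin 3) F) :
      Matrix (Fin 3) (Fin 3) F) 0 2 = v.toAdd 0 ∧
    (((tauQ F v * deltaQ F A : ↥(Cfsg.qdOver F)) : Matrix.SpecialLinearGroup (Fin 3) F) :
      Matrix (Fin 3) (Fin 3) F) 1 2 = v.toAdd 1 := by
  have e : (((tauQ F v * deltaQ F A : ↥(Cfsg.qdOver F)) : Matrix.SpecialLinearGroup (Fin 3) F) :
      Matrix (Fin 3) (Fin 3) F) = tauMat F v.toAdd * deltaMat F A.1 := rfl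
  rw [e]
  constructor <;> simp [tauMat, deltaMat, Matrix.mul_apply, Fin.sum_univ_three]

theorem mem_range_deltaQ_iff (M : ↥(Cfsg.qdOver F)) :
    M ∈ (deltaQ F).range ↔
      ((M : Matrix.SpecialLinearGroup (Fin 3) F) : Matrix (Fin 3) (Fin 3) F) 0 2 = 0 ∧
      ((M : Matrix.SpecialLinearGroup (Fin 3) F) : Matrix (Fin 3) (Fin 3) F) 1 2 = 0 := by
  obtain ⟨v, hv⟩ := eq_tauQ_mul_deltaQ F M
  obtain ⟨e0, e1⟩ := entries_tau_mul_delta F v (beta F M)
  rw [← hv] at e0 e1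
  constructor
  · rintro ⟨A, rfl⟩
    have h1 : tauQ F v = 1 := by
      have := hv
      rw [beta_deltaQ] at this
      have h2 : tauQ F v * deltaQ F A = 1 * deltaQ F A := by rw [← this, one_mul]
      exact mul_right_cancel h2
    have h2 : v = 1 := tauQ_injective F (by rw [h1, map_one])
    rw [e0, e1, h2]
    exact ⟨rfl, rfl⟩
  · rintro ⟨h0, h1⟩
    rw [e0] at h0
    rw [e1] at h1
    have h2 : v = 1 := by
      have : v.toAdd = 0 := by
        funext i
        fin_cases i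
        · exact h0
        · exact h1
      exact this
    rw [h2, map_one, one_mul] at hv
    exact ⟨_, hv.symm⟩

theorem range_inf_ker : (deltaQ F).range ⊓ (beta F).ker = ⊥ := by
  rw [eq_bot_iff]
  rintro M ⟨⟨A, rfl⟩, h2⟩
  have h2 : deltaQ F A ∈ (beta F).ker := h2
  rw [MonoidHom.mem_ker, beta_deltaQ] at h2
  rw [h2, map_one]
  exact Subgroup.one_mem _

theorem range_sup_ker : (deltaQ F).range ⊔ (beta F).ker = ⊤ := by
  rw [eq_top_iff]
  intro M _
  obtain ⟨v, hv⟩ := eq_tauQ_mul_deltaQ F M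
  rw [hv, sup_comm]
  exact Subgroup.mul_mem_sup (beta_tauQ F v) ⟨_, rfl⟩

/-- the coordinates on the translation subgroup -/
noncomputable def psi : Additive ↥(beta F).ker ≃+ (Fin 2 → F) :=
  let e : Multiplicative (Fin 2 → F) ≃* ↥(beta F).ker :=
    MulEquiv.ofBijective ((tauQ F).codRestrict (beta F).ker (fun v => beta_tauQ F v))
      ⟨fun v w h => tauQ_injective F (congrArg Subtype.val h), by
        rintro ⟨M, hM⟩
        obtain ⟨v, rfl⟩ := (mem_ker_beta_iff F M).1 hM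
        exact ⟨v, rfl⟩⟩
  (MulEquiv.toAdditive e.symm).trans (AddEquiv.additiveMultiplicative _)

theorem psi_tauQ (v : Multiplicative (Fin 2 → F)) :
    psi F (Additive.ofMul ⟨tauQ F v, beta_tauQ F v⟩) = v.toAdd := by
  unfold psi
  simp only [AddEquiv.trans_apply]
  have : (MulEquiv.ofBijective ((tauQ F).codRestrict (beta F).ker (fun v => beta_tauQ F v))
      ⟨fun v w h => tauQ_injective F (congrArg Subtype.val h), by
        rintro ⟨M, hM⟩
        obtain ⟨v, rfl⟩ := (mem_ker_beta_iff F M).1 hM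
        exact ⟨v, rfl⟩⟩).symm ⟨tauQ F v, beta_tauQ F v⟩ = v := by
    rw [MulEquiv.symm_apply_eq]
    rfl
  simp [this]

theorem natural_module :
    Cfsg.IsNaturalSL2Module F (beta F).ker (deltaQ F).range := by
  refine ⟨?_, (beta F).comp (deltaQ F).range.subtype, psi F, ?_, ?_, ?_⟩
  · rw [Subgroup.normalizer_eq_top]
    exact le_top
  · intro A
    exact ⟨⟨deltaQ F A, ⟨A, rfl⟩⟩, beta_deltaQ F A⟩
  · have hinj : Function.Injective ((beta F).comp (deltaQ F).range.subtype) := by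
      rintro ⟨_, ⟨A, rfl⟩⟩ ⟨_, ⟨B, rfl⟩⟩ h
      have h' : beta F (deltaQ F A) = beta F (deltaQ F B) := h
      rw [beta_deltaQ, beta_deltaQ] at h'
      subst h'
      rfl
    rw [(MonoidHom.ker_eq_bot_iff _).2 hinj]
    symm
    rw [eq_bot_iff]
    intro x hx
    rw [Subgroup.mem_subgroupOf] at hx
    have h1 : (x : ↥(Cfsg.qdOver F)) ∈ (deltaQ F).range ⊓ (beta F).ker :=
      ⟨x.2, centralizer_ker_beta_le F hx⟩
    rw [range_inf_ker, Subgroup.mem_bot] at h1
    rw [Subgroup.mem_bot]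
    exact Subtype.ext h1
  · rintro ⟨_, ⟨A, rfl⟩⟩ ⟨M, hM⟩
    obtain ⟨v, rfl⟩ := (mem_ker_beta_iff F M).1 hM
    refine ⟨⟨tauQ F (Multiplicative.ofAdd (A.1.mulVec v.toAdd)), beta_tauQ F _⟩, ?_, ?_⟩
    · show tauQ F (Multiplicative.ofAdd (A.1.mulVec v.toAdd)) = deltaQ F A * tauQ F v * (deltaQ F A)⁻¹
      rw [deltaQ_mul_tauQ]
      group
    · rw [psi_tauQ, psi_tauQ]
      show _ = (beta F (deltaQ F A)).1.mulVec _
      rw [beta_deltaQ]
      rfl

end helpers



/-- Structure of Qd over a finite field F of characteristic p (the affine subgroup of SL₃(F)): its largest normal p-subgroup is the group of translations (matrices with upper-left block the identity), the block-diagonal matrices form a complement isomorphic to SL₂(F), and the translation subgroup is a natural SL₂(F)-module for that complement. -/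
theorem result {F : Type*} [Field F] [Fintype F] {p : ℕ} [Fact p.Prime] [CharP F p] : (∀ M : ↥(Cfsg.qdOver F), M ∈ Cfsg.pCore p ↥(Cfsg.qdOver F) ↔ ((M : Matrix.SpecialLinearGroup (Fin 3) F) : Matrix (Fin 3) (Fin 3) F) 0 0 = 1 ∧ ((M : Matrix.SpecialLinearGroup (Fin 3) F) : Matrix (Fin 3) (Fin 3) F) 0 1 = 0 ∧ ((M : Matrix.SpecialLinearGroup (Fin 3) F) : Matrix (Fin 3) (Fin 3) F) 1 0 = 0 ∧ ((M : Matrix.SpecialLinearGroup (Fin 3) F) : Matrix (Fin 3) (Fin 3) F) 1 1 = 1) ∧ ∃ K : Subgroup ↥(Cfsg.qdOver F), (∀ M : ↥(Cfsg.qdOver F), M ∈ K ↔ ((M : Matrix.SpecialLinearGroup (Fin 3) F) : Matrix (Fin 3) (Fin 3) F) 0 2 = 0 ∧ ((M : Matrix.SpecialLinearGroup (Fin 3) F) : Matrix (Fin 3) (Fin 3) F) 1 2 = 0) ∧ K ⊓ Cfsg.pCore p ↥(Cfsg.qdOver F) = ⊥ ∧ K ⊔ Cfsg.pCore p ↥(Cfsg.qdOver F) = ⊤ ∧ Nonempty (↥K ≃* Matrix.SpecialLinearGroup (Fin 2) F) ∧ Cfsg.IsNaturalSL2Module F (Cfsg.pCore p ↥(Cfsg.qdOver F)) K := by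
  rw [Cfsg.Agent.Lib.Helper6.QdF.pCore_eq_ker_beta F p]
  refine ⟨Cfsg.Agent.Lib.Helper6.QdF.mem_ker_beta_iff_entries F, (Cfsg.Agent.Lib.Helper6.QdF.deltaQ F).range,
    mem_range_deltaQ_iff F, range_inf_ker F, range_sup_ker F,
    ⟨(MonoidHom.ofInjective (deltaQ_injective F)).symm⟩, natural_module F⟩


end Cfsg.Agent.S2762
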