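import Mathlib
import Cfsg.Agent.Lib.Helper6.QdChar4
import Cfsg.Agent.Lib.Lead.CoprimeFrattini
import Cfsg.Agent.Lib.Lead.Qd4
import Cfsg.Statements.S2763

set_option autoImplicit false
open Cfsg

namespace Cfsg.Agent.S2763

open scoped commutatorElement

section helpers

open Matrix Cfsg.Agent.Lib.Lead.QdLib Cfsg.Agent.Lib.Helper1 Cfsg.Agent.Lib.Helper6.NatSL2
  Cfsg.Agent.Lib.Helper6.QdChar

variable {p : ℕ} [hp : Fact p.Prime]

/-- the `p`-th... scalar multiples of translations stay in a subgroup -/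
theorem tauQ_smul_mem (H : Subgroup ↥(Cfsg.qd p)) (v : Fin 2 → ZMod p)
    (hv : tauQ p (Multiplicative.ofAdd v) ∈ H) (c : ZMod p) :
    tauQ p (Multiplicative.ofAdd (c • v)) ∈ H := by
  have h1 : c • v = c.val • v := by
    rw [← Nat.cast_smul_eq_nsmul (ZMod p), ZMod.natCast_zmod_val]
  rw [h1]
  have h2 : Multiplicative.ofAdd (c.val • v) = (Multiplicative.ofAdd v) ^ c.val := rfl
  rw [h2, map_pow]
  exact H.pow_mem hv _

theorem tauQ_add_mem (H : Subgroup ↥(Cfsg.qd p)) (v w : Fin 2 → ZMod p)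
    (hv : tauQ p (Multiplicative.ofAdd v) ∈ H) (hw : tauQ p (Multiplicative.ofAdd w) ∈ H) :
    tauQ p (Multiplicative.ofAdd (v + w)) ∈ H := by
  have h2 : Multiplicative.ofAdd (v + w) = Multiplicative.ofAdd v * Multiplicative.ofAdd w := rfl
  rw [h2, map_mul]
  exact H.mul_mem hv hw

/-- the main step: the normalizer of a proper nontrivial `S`-invariant subgroup of the translation
group lies in the normalizer of `S` -/
theorem normalizer_line_le (S : Sylow p ↥(Cfsg.qd p)) (T₁ : Subgroup ↥(Cfsg.qd p))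
    (hT₁N : T₁ ≤ (beta p).ker) (hne : T₁ ≠ ⊥) (hneN : T₁ ≠ (beta p).ker)
    (hST₁ : (S : Subgroup ↥(Cfsg.qd p)) ≤ Subgroup.normalizer (T₁ : Set ↥(Cfsg.qd p)))
    (g : ↥(Cfsg.qd p)) (hg : g ∈ Subgroup.normalizer (T₁ : Set ↥(Cfsg.qd p))) :
    g ∈ Subgroup.normalizer ((S : Subgroup ↥(Cfsg.qd p)) : Set ↥(Cfsg.qd p)) := by
  obtain ⟨h, hh⟩ := exists_frame S
  -- the line
  set L : (Fin 2 → ZMod p) → Prop := fun v => tauQ p (Multiplicative.ofAdd v) ∈ T₁ with hL
  -- a nonzero vector on the line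
  obtain ⟨⟨t, ht⟩, ht1⟩ := Subgroup.ne_bot_iff_exists_ne_one.1 hne
  have ht1' : t ≠ 1 := fun h0 => ht1 (Subtype.ext h0)
  obtain ⟨v₀m, hv₀⟩ := (mem_ker_beta_iff p t).1 (hT₁N ht)
  set v₀ := v₀m.toAdd with hv₀def
  have hLv₀ : L v₀ := by
    show tauQ p (Multiplicative.ofAdd v₀) ∈ T₁
    have : Multiplicative.ofAdd v₀ = v₀m := rfl
    rw [this, ← hv₀]; exact ht
  have hv₀ne : v₀ ≠ 0 := by
    intro h0
    apply ht1'
    rw [hv₀]
    have : v₀m = 1 := h0
    rw [this, map_one]
  -- the unipotent element of `S`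
  set c := deltaQ p h with hcdef
  set s := c * deltaQ p (t01 1) * c⁻¹ with hs
  have hbs : beta p s = h * t01 1 * h⁻¹ := by
    rw [hs, map_mul, map_mul, map_inv, hcdef, beta_deltaQ, beta_deltaQ]
  have hsS : s ∈ (S : Subgroup ↥(Cfsg.qd p)) := by
    rw [← comap_map_sylow S, Subgroup.mem_comap, hh, hbs]
    exact conj_mem_cj h _ (t01_mem 1)
  -- normalizing elements act on the line
  have hact : ∀ x ∈ Subgroup.normalizer (T₁ : Set ↥(Cfsg.qd p)), ∀ v, L v →
      L ((beta p x).1 *ᵥ v) := by
    intro x hx v hv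
    have := (Subgroup.mem_normalizer_iff.1 hx _).1 hv
    rw [conj_tauQ] at this
    exact this
  -- every vector on the line is killed by `lam`
  have hlam : ∀ v, L v → lam h v = 0 := by
    intro v hv
    by_contra hne0
    have h1 := hact s (hST₁ hsS) v hv
    rw [hbs, mulVec_conj_t01, one_mul] at h1
    -- `lam h v • wv h` on the line
    have h2 : L (lam h v • wv h) := by
      have h3 := tauQ_add_mem T₁ _ _ h1 (tauQ_smul_mem T₁ v hv (-1))
      have e : v + lam h v • wv h + (-1 : ZMod p) • v = lam h v • wv h := by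
        rw [neg_one_smul]; abel
      rw [e] at h3
      exact h3
    have h4 : L (wv h) := by
      have h5 := tauQ_smul_mem T₁ _ h2 (lam h v)⁻¹
      rw [smul_smul, inv_mul_cancel₀ hne0, one_smul] at h5
      exact h5
    -- then the line is everything
    apply hneN
    apply le_antisymm hT₁N
    intro n hn
    obtain ⟨xm, hx⟩ := (mem_ker_beta_iff p n).1 hn
    set x := xm.toAdd with hxdef
    have h6 : lam h (x - (lam h x / lam h v) • v) = 0 := by
      rw [sub_eq_add_neg, lam_add, lam_neg, lam_smul]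
      field_simp
      ring
    obtain ⟨c', hc'⟩ := (lam_eq_zero_iff h _).1 h6
    have h7 : x = c' • wv h + (lam h x / lam h v) • v := by
      rw [← hc']; abel
    have h8 : L x := by
      show tauQ p (Multiplicative.ofAdd x) ∈ T₁
      rw [h7]
      exact tauQ_add_mem T₁ _ _ (tauQ_smul_mem T₁ _ h4 c') (tauQ_smul_mem T₁ _ hv _)
    have : Multiplicative.ofAdd x = xm := rfl
    rw [hx, ← this]
    exact h8
  -- `wv h` is on the line
  have hwv : L (wv h) := by
    obtain ⟨c', hc'⟩ := (lam_eq_zero_iff h _).1 (hlam v₀ hLv₀)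
    have hc'0 : c' ≠ 0 := by
      intro h0
      rw [h0, zero_smul] at hc'
      exact hv₀ne hc'
    have h5 := tauQ_smul_mem T₁ _ hLv₀ c'⁻¹
    rw [hc', smul_smul, inv_mul_cancel₀ hc'0, one_smul] at h5
    exact h5
  -- `beta g` stabilizes the line
  have hkey : lam h ((beta p g).1 *ᵥ wv h) = 0 := hlam _ (hact g hg _ hwv)
  have hcj := cj_eq_of_lam_eq_zero h (beta p g) hkey
  rw [← hh] at hcj
  -- conclude
  have hcj' : cj (beta p g)⁻¹ ((S : Subgroup ↥(Cfsg.qd p)).map (beta p)) =
      (S : Subgroup ↥(Cfsg.qd p)).map (beta p) := by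
    conv_lhs => rw [← hcj]
    rw [cj_cj, inv_mul_cancel, cj_one]
  rw [Subgroup.mem_normalizer_iff]
  intro x
  rw [← comap_map_sylow S, Subgroup.mem_comap, Subgroup.mem_comap, map_mul, map_mul, map_inv]
  constructor
  · intro hx
    rw [← hcj]
    exact conj_mem_cj _ _ hx
  · intro hx
    have := conj_mem_cj (beta p g)⁻¹ _ hx
    rw [hcj'] at this
    have e : (beta p g)⁻¹ * (beta p g * beta p x * (beta p g)⁻¹) * (beta p g)⁻¹⁻¹ = beta p x := by
      group
    rwa [e] at this

end helpers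



/-- In the group Qd(p) (p prime; the natural semidirect product of an elementary abelian group of order p² by SL₂(p)), the normalizer of every nontrivial characteristic subgroup of a Sylow p-subgroup S equals the normalizer of S, which is a proper subgroup; in particular no such characteristic subgroup is normal. -/
theorem result {p : ℕ} [Fact p.Prime] (S : Sylow p ↥(Cfsg.qd p)) (T : Subgroup ↥(S : Subgroup ↥(Cfsg.qd p))) (hT : T ≠ ⊥) (hTc : T.Characteristic) : Subgroup.normalizer ((T.map (S : Subgroup ↥(Cfsg.qd p)).subtype : Subgroup ↥(Cfsg.qd p)) : Set ↥(Cfsg.qd p)) = Subgroup.normalizer ((S : Subgroup ↥(Cfsg.qd p)) : Set ↥(Cfsg.qd p)) ∧ Subgroup.normalizer ((S : Subgroup ↥(Cfsg.qd p)) : Set ↥(Cfsg.qd p)) ≠ ⊤ := by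
  haveI hpF : Fact p.Prime := inferInstance
  have hpp := hpF.out
  set T' := (T.map (S : Subgroup ↥(Cfsg.qd p)).subtype : Subgroup ↥(Cfsg.qd p)) with hT'
  set N := (Cfsg.Agent.Lib.Lead.QdLib.beta p).ker with hN
  have hNn : N.Normal := inferInstance
  have hNS : N ≤ (S : Subgroup ↥(Cfsg.qd p)) := Cfsg.Agent.Lib.Helper6.QdChar.ker_le_sylow S
  have hT'S : T' ≤ (S : Subgroup ↥(Cfsg.qd p)) := Subgroup.map_subtype_le _
  have h1 : Subgroup.normalizer ((S : Subgroup ↥(Cfsg.qd p)) : Set ↥(Cfsg.qd p)) ≤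
      Subgroup.normalizer (T' : Set ↥(Cfsg.qd p)) :=
    Cfsg.Agent.Lib.Lead.le_normalizer_map_characteristic (S : Subgroup ↥(Cfsg.qd p)) T
  have hSnT : (S : Subgroup ↥(Cfsg.qd p)) ≤ Subgroup.normalizer (T' : Set ↥(Cfsg.qd p)) :=
    Subgroup.le_normalizer.trans h1
  refine ⟨le_antisymm ?_ h1, ?_⟩
  · intro g hg
    by_cases hTS : T' = (S : Subgroup ↥(Cfsg.qd p))
    · rw [← hTS]; exact hg
    · -- normalizers of the intersection
      have hninf : ∀ x ∈ Subgroup.normalizer (T' : Set ↥(Cfsg.qd p)),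
          x ∈ Subgroup.normalizer ((T' ⊓ N : Subgroup ↥(Cfsg.qd p)) : Set ↥(Cfsg.qd p)) := by
        intro x hx
        rw [Subgroup.mem_normalizer_iff]
        intro y
        rw [Subgroup.mem_inf, Subgroup.mem_inf, ← (Subgroup.mem_normalizer_iff.1 hx y)]
        constructor
        · rintro ⟨h2, h3⟩
          exact ⟨h2, hNn.conj_mem y h3 x⟩
        · rintro ⟨h2, h3⟩
          refine ⟨h2, ?_⟩
          have := hNn.conj_mem _ h3 x⁻¹
          have e : x⁻¹ * (x * y * x⁻¹) * x⁻¹⁻¹ = y := by group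
          rwa [e] at this
      apply normalizer_line_le S (T' ⊓ N) inf_le_right ?_ ?_ (fun x hx => hninf x (hSnT hx)) g
        (hninf g hg)
      · -- nontrivial
        intro hbot
        apply hT
        have hcent : T' ≤ Subgroup.centralizer (N : Set ↥(Cfsg.qd p)) := by
          intro t ht
          rw [Subgroup.mem_centralizer_iff]
          intro n hn
          have h2 : t * n * t⁻¹ * n⁻¹ ∈ T' ⊓ N := by
            constructor
            · have h3 : n * t⁻¹ * n⁻¹ ∈ T' :=
                (Subgroup.mem_normalizer_iff.1 (hSnT (hNS hn)) _).1 (T'.inv_mem ht)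
              have e : t * n * t⁻¹ * n⁻¹ = t * (n * t⁻¹ * n⁻¹) := by group
              rw [e]
              exact T'.mul_mem ht h3
            · exact N.mul_mem (hNn.conj_mem n hn t) (N.inv_mem hn)
          rw [hbot, Subgroup.mem_bot] at h2
          calc n * t = (t * n * t⁻¹ * n⁻¹)⁻¹ * (t * n) := by group
            _ = t * n := by rw [h2, inv_one, one_mul]
        have hT'N : T' ≤ N := hcent.trans Cfsg.Agent.Lib.Lead.QdLib.centralizer_ker_beta_le
        have hT'bot : T' = ⊥ := by
          rw [← hbot]; exact (inf_eq_left.2 hT'N).symm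
        rw [hT', Subgroup.map_eq_bot_iff_of_injective _ (Subgroup.subtype_injective _)] at hT'bot
        exact hT'bot
      · -- not everything
        intro hall
        have hall' : T' ⊓ N = N := hall
        have hNT' : N ≤ T' := by rw [← hall']; exact inf_le_left
        have hcS : Nat.card (S : Subgroup ↥(Cfsg.qd p)) = p ^ 3 := Cfsg.Agent.Lib.Helper6.QdChar.card_sylow S
        have hcN : Nat.card N = p ^ 2 := Cfsg.Agent.Lib.Helper6.QdChar.card_ker_beta
        have hdvd : Nat.card T' ∣ p ^ 3 := by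
          rw [← hcS]; exact Subgroup.card_dvd_of_le hT'S
        obtain ⟨k, hk3, hk⟩ := (Nat.dvd_prime_pow hpp).1 hdvd
        have hk3' : k ≠ 3 := by
          intro h3
          apply hTS
          apply Subgroup.eq_of_le_of_card_ge hT'S
          rw [hcS, hk, h3]
        have hle := Subgroup.card_le_of_le hNT'
        rw [hcN, hk] at hle
        have hk2 : 2 ≤ k := (Nat.pow_le_pow_iff_right hpp.one_lt).1 hle
        have hk2' : k = 2 := by omega
        have hT'N : T' = N := by
          symm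
          apply Subgroup.eq_of_le_of_card_ge hNT'
          rw [hcN, hk, hk2']
        have hTN : T = N.subgroupOf (S : Subgroup ↥(Cfsg.qd p)) := by
          have h5 : (T.map (S : Subgroup ↥(Cfsg.qd p)).subtype).comap (S : Subgroup ↥(Cfsg.qd p)).subtype = T :=
            Subgroup.comap_map_eq_self_of_injective (Subgroup.subtype_injective _) T
          rw [← h5]
          show (T'.comap (S : Subgroup ↥(Cfsg.qd p)).subtype) = _
          rw [hT'N]
          rfl
        rw [hTN] at hTc
        exact Cfsg.Agent.Lib.Helper6.QdChar.not_characteristic S hTc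
  · intro htop
    have hSn : (S : Subgroup ↥(Cfsg.qd p)).Normal := Subgroup.normalizer_eq_top_iff.1 htop
    have h2 : ((S : Subgroup ↥(Cfsg.qd p)).map (Cfsg.Agent.Lib.Lead.QdLib.beta p)) = ⊥ := by
      apply Cfsg.Agent.Lib.Lead.QdLib.eq_bot_of_normal_pgroup
      · exact Subgroup.Normal.map hSn _ (Cfsg.Agent.Lib.Lead.QdLib.beta_surjective p)
      · exact S.isPGroup'.map _
    have h3 := Cfsg.Agent.Lib.Helper6.QdChar.card_map_sylow S
    rw [h2, Subgroup.card_bot] at h3
    exact hpp.one_lt.ne' h3.symm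


end Cfsg.Agent.S2763
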