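import Cfsg.Statements.S2770
import Mathlib
import Cfsg.Agent.Lib.Lead.QuadJ
import Cfsg.Agent.Lib.Lead.ZJ6
import Cfsg.Agent.Lib.Helper9.TH2

set_option autoImplicit false
open Cfsg

namespace Cfsg.Agent.S2770

/-- Let G be a finite group and p a prime with C_G(O_p(G)) ≤ O_p(G), S a Sylow p-subgroup lying in exactly one maximal subgroup of G, and G/K ≅ PSL₂(p^n) for some normal K and n ≥ 1. If Z(S) is not elementary abelian, then either ℧¹(Z(S)) (the subgroup generated by the p-th powers of the elements of Z(S)) is normal in G or C_S(Z(J(S))) is normal in G, J(S) being generated by the abelian subgroups of S of largest order. -/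
theorem result {G : Type*} [Group G] [Finite G] {p : ℕ} [Fact p.Prime] (S : Sylow p G) (hE₁ : Subgroup.centralizer (Cfsg.pCore p G : Set G) ≤ Cfsg.pCore p G) (hE₂ : ∃! M : Subgroup G, IsCoatom M ∧ (S : Subgroup G) ≤ M) (K : Subgroup G) [K.Normal] (F : Type) [Field F] [Fintype F] (n : ℕ) (hn : 1 ≤ n) (hF : Fintype.card F = p ^ n) (hE₃ : Nonempty (G ⧸ K ≃* Matrix.ProjectiveSpecialLinearGroup (Fin 2) F)) (h : ¬ Cfsg.IsElementaryAbelian p ((S : Subgroup G) ⊓ Subgroup.centralizer ((S : Subgroup G) : Set G))) : (Cfsg.powerClosure p 1 ((S : Subgroup G) ⊓ Subgroup.centralizer ((S : Subgroup G) : Set G))).Normal ∨ (((S : Subgroup G) ⊓ Subgroup.centralizer (Cfsg.centerThompsonAOf (S : Subgroup G) : Set G))).Normal := by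
  classical
  obtain ⟨M, ⟨hMco, hSM⟩, hMuniq⟩ := hE₂
  -- every proper subgroup containing `S` lies in `M`
  have hprop : ∀ H : Subgroup G, (S : Subgroup G) ≤ H → H ≠ ⊤ → H ≤ M := by
    intro H hSH hH
    obtain ⟨M', hM', hHM'⟩ := (eq_top_or_exists_le_coatom H).resolve_left hH
    have := hMuniq M' ⟨hM', hSH.trans hHM'⟩
    rw [← this]
    exact hHM'
  set ZS := (S : Subgroup G) ⊓ Subgroup.centralizer ((S : Subgroup G) : Set G) with hZS
  have hcentral_normal : (∀ x ∈ ZS, x ∈ Subgroup.center G) → (Cfsg.powerClosure p 1 ZS).Normal := by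
    intro hall
    have hle : Cfsg.powerClosure p 1 ZS ≤ Subgroup.center G := by
      unfold Cfsg.powerClosure
      rw [Subgroup.closure_le]
      rintro _ ⟨x, hx, rfl⟩
      exact Subgroup.pow_mem _ (hall x hx) _
    constructor
    intro n hn g
    have h1 := Subgroup.mem_center_iff.mp (hle hn) g
    have : g * n * g⁻¹ = n := by rw [h1]; group
    rw [this]
    exact hn
  set T : Set G := {z | ∃ x ∈ ZS, z = x ^ (p ^ 1)} with hT
  set CT := Subgroup.centralizer T with hCT
  set J := Cfsg.thompsonSubgroupAOf (S : Subgroup G) with hJ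
  set NJ := Subgroup.normalizer (J : Set G) with hNJ
  have hSCT : (S : Subgroup G) ≤ CT := by
    intro s hs
    rw [hCT, Subgroup.mem_centralizer_iff]
    rintro _ ⟨x, hx, rfl⟩
    have h1 : s * x = x * s := (Subgroup.mem_centralizer_iff.mp hx.2) s hs
    exact ((show Commute x s from h1.symm).pow_left _).eq
  have hSNJ : (S : Subgroup G) ≤ NJ :=
    Subgroup.le_normalizer.trans (Cfsg.Agent.H9ZJ.normalizer_le_normalizer_thompsonA (S : Subgroup G))
  by_cases hCTtop : CT = ⊤
  · left
    unfold Cfsg.powerClosure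
    have hle : Subgroup.closure {y : G | ∃ x ∈ ZS, y = x ^ (p ^ 1)} ≤ Subgroup.center G := by
      rw [Subgroup.closure_le]
      rintro _ ⟨x, hx, rfl⟩
      rw [SetLike.mem_coe, Subgroup.mem_center_iff]
      intro g
      have hg : g ∈ CT := by rw [hCTtop]; trivial
      rw [hCT, Subgroup.mem_centralizer_iff] at hg
      exact (hg _ ⟨x, hx, rfl⟩).symm
    constructor
    intro n hn g
    have h1 := Subgroup.mem_center_iff.mp (hle hn) g
    have : g * n * g⁻¹ = n := by rw [h1]; group
    rw [this]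
    exact hn
  by_cases hNJtop : NJ = ⊤
  · -- `J(S)` is normal
    have hJn : J.Normal := Subgroup.normalizer_eq_top_iff.mp hNJtop
    set V := Cfsg.centerThompsonAOf (S : Subgroup G) with hV
    have hVdef : V = J ⊓ Subgroup.centralizer (J : Set G) := rfl
    have hVn : V.Normal := by
      constructor
      intro v hv g
      rw [hVdef] at hv ⊢
      refine ⟨hJn.conj_mem v hv.1 g, ?_⟩
      show g * v * g⁻¹ ∈ Subgroup.centralizer (J : Set G)
      rw [Subgroup.mem_centralizer_iff]
      intro j hj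
      have hj' : g⁻¹ * j * g⁻¹⁻¹ ∈ J := hJn.conj_mem j hj g⁻¹
      have := (Subgroup.mem_centralizer_iff.mp hv.2) _ hj'
      calc j * (g * v * g⁻¹) = g * ((g⁻¹ * j * g⁻¹⁻¹) * v) * g⁻¹ := by group
        _ = g * (v * (g⁻¹ * j * g⁻¹⁻¹)) * g⁻¹ := by rw [this]
        _ = g * v * g⁻¹ * j := by group
    set C := Subgroup.centralizer (V : Set G) with hC
    haveI hCn : C.Normal := by
      constructor
      intro c hc g
      rw [hC, Subgroup.mem_centralizer_iff] at hc ⊢
      intro v hv
      have hv' : g⁻¹ * v * g⁻¹⁻¹ ∈ V := hVn.conj_mem v hv g⁻¹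
      have := hc _ hv'
      calc v * (g * c * g⁻¹) = g * ((g⁻¹ * v * g⁻¹⁻¹) * c) * g⁻¹ := by group
        _ = g * (c * (g⁻¹ * v * g⁻¹⁻¹)) * g⁻¹ := by rw [this]
        _ = g * c * g⁻¹ * v := by group
    by_cases hSC : (S : Subgroup G) ⊔ C = ⊤
    · left
      apply hcentral_normal
      intro x hx
      -- `Z(S) ≤ Z(J(S))`
      have hxV : x ∈ V := by
        rw [hV, Cfsg.Agent.Lib.Lead.ZJ.centerThompsonAOf_eq]
        have hle : ZS ≤ Cfsg.Agent.Lib.Lead.ZJ.wsub 0 (S : Subgroup G) := by
          apply Cfsg.Agent.Lib.Lead.ZJ.le_wsub_of_centralizes inf_le_left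
          · refine ⟨fun a ha b hb => ?_, fun a _ => pow_zero a⟩
            exact ((Subgroup.mem_centralizer_iff.mp hb.2) a ha.1)
          · intro A hA y hy a ha
            exact ((Subgroup.mem_centralizer_iff.mp hy.2) a (hA.1 ha)).symm
        exact hle hx
      rw [Subgroup.mem_center_iff]
      intro g
      have hg : g ∈ (S : Subgroup G) ⊔ C := by rw [hSC]; trivial
      obtain ⟨s, hs, c, hc, rfl⟩ := Subgroup.mem_sup_of_normal_right.mp hg
      have h1 : s * x = x * s := (Subgroup.mem_centralizer_iff.mp hx.2) s hs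
      have h2 : x * c = c * x := (Subgroup.mem_centralizer_iff.mp hc) x hxV
      calc s * c * x = s * (c * x) := by group
        _ = s * (x * c) := by rw [h2]
        _ = (s * x) * c := by group
        _ = x * s * c := by rw [h1]
        _ = x * (s * c) := by group
    · right
      have hSCM : (S : Subgroup G) ⊔ C ≤ M := hprop _ le_sup_left hSC
      obtain ⟨T₀, hT₀⟩ := Cfsg.Agent.Lib.Helper9.exists_sylow_map_eq_inf S C
      have hfr := Sylow.normalizer_sup_eq_top T₀
      rw [hT₀] at hfr
      have hSN : (S : Subgroup G) ≤ Subgroup.normalizer ((((S : Subgroup G) ⊓ C : Subgroup G)) : Set G) := by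
        intro y hy
        rw [Subgroup.mem_normalizer_iff]
        intro w
        constructor
        · rintro ⟨hw1, hw2⟩
          exact ⟨Subgroup.mul_mem _ (Subgroup.mul_mem _ hy hw1) (Subgroup.inv_mem _ hy), hCn.conj_mem w hw2 y⟩
        · rintro ⟨hw1, hw2⟩
          have e : w = y⁻¹ * (y * w * y⁻¹) * y⁻¹⁻¹ := by group
          rw [e]
          exact ⟨Subgroup.mul_mem _ (Subgroup.mul_mem _ (Subgroup.inv_mem _ hy) hw1)
            (Subgroup.inv_mem _ (Subgroup.inv_mem _ hy)), hCn.conj_mem _ hw2 y⁻¹⟩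
      by_contra hnn
      have hNtop : Subgroup.normalizer ((((S : Subgroup G) ⊓ C : Subgroup G)) : Set G) ≠ ⊤ := by
        intro h
        exact hnn (Subgroup.normalizer_eq_top_iff.mp h)
      have hNM := hprop _ hSN hNtop
      have : (⊤ : Subgroup G) ≤ M := by
        rw [← hfr]
        exact sup_le hNM (le_sup_right.trans hSCM)
      exact hMco.1 (top_le_iff.mp this)
  · exfalso
    have hCTM : CT ≤ M := hprop CT hSCT hCTtop
    have hNJM : NJ ≤ M := hprop NJ hSNJ hNJtop
    have := Cfsg.Agent.Lib.Lead.QuadJ.thompsonA_gen G S hE₁ M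
      (by
        intro g hg
        apply hCTM
        rw [hCT, Subgroup.mem_centralizer_iff]
        rintro _ ⟨x, hx, rfl⟩
        rw [pow_one]
        exact (hg x hx.1 (fun y hy => (Subgroup.mem_centralizer_iff.mp hx.2) y hy)).symm)
      hNJM
    exact hMco.1 this

end Cfsg.Agent.S2770
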