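import Mathlib
import Cfsg.Statements.S2772
import Cfsg.Agent.Lib.Helper7.Sims3_19
import Cfsg.Agent.Lib.Helper9.SimsLoc
import Cfsg.Agent.Lib.Helper9.PCore

set_option autoImplicit false
set_option linter.style.haveILetI false
set_option linter.unusedSectionVars false
set_option linter.deprecated false
open Cfsg

namespace Cfsg.Agent.S2772

open Cfsg.Agent.Lib.Helper7 Cfsg.Agent.Lib.Helper9 Cfsg.Agent.Lib.Helper9.SimsLoc

/-- order of a Sylow `2`-subgroup when `|X| = 2 q 2^a`, `q` odd -/
theorem s2772_card_sylow {X : Type*} [Group X] [Finite X] {q a : ℕ} (hq0 : q ≠ 0) (hq : ¬ 2 ∣ q)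
    (hcard : Nat.card X = 2 * q * 2 ^ a) (P : Sylow 2 X) : Nat.card P = 2 * 2 ^ a := by
  haveI : Fact (Nat.Prime 2) := ⟨Nat.prime_two⟩
  rw [Sylow.card_eq_multiplicity, hcard]
  have e : 2 * q * 2 ^ a = 2 ^ (a + 1) * q := by ring
  rw [e, Nat.factorization_mul (pow_ne_zero _ (by norm_num)) hq0, Finsupp.add_apply,
    Nat.Prime.factorization_pow Nat.prime_two, Finsupp.single_eq_same,
    Nat.factorization_eq_zero_of_not_dvd hq, add_zero]
  ring

theorem s2772_cj_ne {H : Type*} [Group H] {G : Subgroup H} (hG : IsCoatom G)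
    (hcore : ∀ N : Subgroup H, N.Normal → N ≤ G → N = ⊥) (hGne : G ≠ ⊥) {g : H} (hg : g ∉ G) :
    cj g G ≠ G := by
  intro h
  have h1 : g ∈ Subgroup.normalizer (G : Set H) := mem_normalizer_iff_cj.2 h
  have h2 : G ≤ Subgroup.normalizer (G : Set H) := Subgroup.le_normalizer
  rcases eq_or_lt_of_le h2 with h3 | h3
  · rw [← h3] at h1
    exact hg h1
  · have h4 := hG.2 _ h3
    have h5 : G.Normal := Subgroup.normalizer_eq_top_iff.1 h4
    exact hGne (hcore G h5 le_rfl)

/-- Sims' Theorem in local form: let H be a finite non-abelian simple group and G a maximal subgroup of H with C_G(O₂(G)) ≤ O₂(G), such that N_H(S) is not contained in G for a Sylow 2-subgroup S of G and G/O₂(G) is dihedral of order 2q for a prime q. Then G is isomorphic to the symmetric group of degree 4 or to its direct product with a group of order 2. -/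
theorem result {H : Type*} [Group H] [Finite H] [IsSimpleGroup H] (hna : ¬ IsMulCommutative H) (G : Subgroup H) (hG : IsCoatom G) (hchar : Subgroup.centralizer (Cfsg.pCore 2 ↥G : Set ↥G) ≤ Cfsg.pCore 2 ↥G) (S : Sylow 2 ↥G) (hN : ¬ Subgroup.normalizer (((S : Subgroup ↥G).map G.subtype : Subgroup H) : Set H) ≤ G) (q : ℕ) (hq : q.Prime) (hD : Nonempty (↥G ⧸ Cfsg.pCore 2 ↥G ≃* DihedralGroup q)) : Nonempty (↥G ≃* Equiv.Perm (Fin 4)) ∨ Nonempty (↥G ≃* Equiv.Perm (Fin 4) × Multiplicative (ZMod 2)) := by
  classical
  haveI : Fact (Nat.Prime 2) := ⟨Nat.prime_two⟩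
  have hQn : (Cfsg.pCore 2 ↥G).Normal := pCore_normal' 2
  have hQ2 : IsPGroup 2 (Cfsg.pCore 2 ↥G) := pCore_isPGroup' 2
  obtain ⟨e⟩ := hD
  have hcardquot : Nat.card (↥G ⧸ Cfsg.pCore 2 ↥G) = 2 * q := by
    rw [Nat.card_congr e.toEquiv, DihedralGroup.nat_card]
  have hcardG : Nat.card G = 2 * q * Nat.card (Cfsg.pCore 2 ↥G) := by
    rw [Subgroup.card_eq_card_quotient_mul_card_subgroup (Cfsg.pCore 2 ↥G), hcardquot]
  obtain ⟨a, ha⟩ := IsPGroup.iff_card.1 hQ2
  obtain ⟨g, hgN, hgG⟩ := SetLike.not_le_iff_exists.1 hN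
  have hcore : ∀ N : Subgroup H, N.Normal → N ≤ G → N = ⊥ := by
    intro N hN hNG
    rcases hN.eq_bot_or_eq_top with h | h
    · exact h
    · exfalso
      apply hG.1
      rw [eq_top_iff, ← h]
      exact hNG
  have hcenter : ∀ z : H, (∀ x : H, x * z = z * x) → z = 1 := by
    intro z hz
    have hzc : z ∈ Subgroup.center H := Subgroup.mem_center_iff.2 hz
    rcases (inferInstance : (Subgroup.center H).Normal).eq_bot_or_eq_top with h | h
    · rw [h, Subgroup.mem_bot] at hzc
      exact hzc
    · exfalso
      apply hna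
      refine ⟨⟨fun x y => ?_⟩⟩
      have hy : y ∈ Subgroup.center H := by rw [h]; exact Subgroup.mem_top y
      exact (Subgroup.mem_center_iff.1 hy x)
  have hqpos : 0 < q := hq.pos
  have hGne : G ≠ ⊥ := by
    intro h
    have h1 : Nat.card G = 1 := by rw [h, Subgroup.card_bot]
    have h2 : 0 < Nat.card (Cfsg.pCore 2 ↥G) := Nat.card_pos
    have h3 : 1 ≤ q * Nat.card (Cfsg.pCore 2 ↥G) := Nat.mul_pos hqpos h2
    rw [h1, mul_assoc] at hcardG
    omega
  have hcjne : cj g G ≠ G := s2772_cj_ne hG hcore hGne hgG
  have hgS : cj g ((S : Subgroup ↥G).map G.subtype) = (S : Subgroup ↥G).map G.subtype :=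
    mem_normalizer_iff_cj.1 hgN
  have hSG : (S : Subgroup ↥G).map G.subtype ≤ G := Subgroup.map_subtype_le _
  -- the three cases
  have hq3 : q = 2 ∨ q = 3 ∨ 5 ≤ q := by
    have h2 := hq.two_le
    rcases Nat.lt_or_ge q 5 with h | h
    · interval_cases q
      · left; rfl
      · right; left; rfl
      · exact absurd hq (by norm_num)
    · right; right; exact h
  rcases hq3 with rfl | rfl | hq5
  · -- `q = 2`: `G` is a `2`-group
    exfalso
    have h1 : IsPGroup 2 (⊤ : Subgroup ↥G) := by
      apply IsPGroup.of_card (n := a + 2)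
      rw [Subgroup.card_top, hcardG, ha]
      ring
    have h2 : (⊤ : Subgroup ↥G) ≤ Cfsg.pCore 2 ↥G := le_pCore inferInstance h1
    have h3 : Nat.card (Cfsg.pCore 2 ↥G) = Nat.card G := by
      rw [top_le_iff.1 h2, Subgroup.card_top]
    have : 0 < Nat.card (Cfsg.pCore 2 ↥G) := Nat.card_pos
    omega
  · -- `q = 3`: Sims' theorem
    have hcardS : Nat.card (S : Subgroup ↥G) = 2 * 2 ^ a :=
      s2772_card_sylow (q := 3) (a := a) (by norm_num) (by norm_num) (by rw [hcardG, ha]) S
    have hidx : ((S : Subgroup ↥G).map G.subtype).relIndex G = 3 := by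
      have h1 := Sims3.card_eq_relIndex_mul hSG
      rw [Subgroup.card_map_of_injective G.subtype_injective, hcardS, hcardG, ha] at h1
      have : 0 < 2 * 2 ^ a := by positivity
      nlinarith [Nat.eq_of_mul_eq_mul_right this (by rw [← h1]; ring :
        3 * (2 * 2 ^ a) = ((S : Subgroup ↥G).map G.subtype).relIndex G * (2 * 2 ^ a))]
    have hHyp : Sims3.Hyp G ((S : Subgroup ↥G).map G.subtype) g :=
      { coatom := hG
        core := hcore
        le := hSG
        le' := by
          conv_lhs => rw [← hgS]
          exact cj_mono g hSG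
        idx := hidx
        ne := hcjne }
    rcases hHyp.iso_cases with h | h | h | h | h
    · exfalso
      obtain ⟨f⟩ := h
      have h1 := Nat.card_congr f.toEquiv
      rw [hcardG, Nat.card_eq_fintype_card (α := Multiplicative (ZMod 3))] at h1
      have h2 : Fintype.card (Multiplicative (ZMod 3)) = 3 := by
        rw [Fintype.card_multiplicative, ZMod.card]
      rw [h2] at h1
      have : 0 < Nat.card (Cfsg.pCore 2 ↥G) := Nat.card_pos
      omega
    · exfalso
      obtain ⟨f⟩ := h
      have h1 := Nat.card_congr f.toEquiv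
      rw [hcardG, Nat.card_perm, Nat.card_fin] at h1
      have h2 : Nat.card (Cfsg.pCore 2 ↥G) = 1 := by
        have : (3 : ℕ).factorial = 6 := by decide
        rw [this] at h1
        omega
      have h3 : Cfsg.pCore 2 ↥G = ⊥ := Subgroup.card_eq_one.1 h2
      have h4 : (⊤ : Subgroup ↥G) ≤ Cfsg.pCore 2 ↥G := by
        refine le_trans ?_ hchar
        intro x _
        rw [Subgroup.mem_centralizer_iff]
        intro y hy
        rw [SetLike.mem_coe, h3, Subgroup.mem_bot] at hy
        rw [hy, one_mul, mul_one]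
      have h5 : Nat.card (Cfsg.pCore 2 ↥G) = Nat.card G := by
        rw [top_le_iff.1 h4, Subgroup.card_top]
      rw [h5] at h2
      rw [h2] at hcardG
      have : 0 < Nat.card (Cfsg.pCore 2 ↥G) := Nat.card_pos
      omega
    · exfalso
      obtain ⟨f⟩ := h
      have h1 := Nat.card_congr f.toEquiv
      rw [hcardG, DihedralGroup.nat_card] at h1
      have h2 : Nat.card (Cfsg.pCore 2 ↥G) = 2 := by omega
      obtain ⟨y, hy1, hyuniq⟩ := (Nat.card_eq_two_iff' (1 : ↥(Cfsg.pCore 2 ↥G))).1 h2
      have h4 : (⊤ : Subgroup ↥G) ≤ Cfsg.pCore 2 ↥G := by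
        refine le_trans ?_ hchar
        intro x _
        rw [Subgroup.mem_centralizer_iff]
        intro z hz
        rw [SetLike.mem_coe] at hz
        by_cases hz1 : z = 1
        · rw [hz1, one_mul, mul_one]
        · have hzy : (⟨z, hz⟩ : ↥(Cfsg.pCore 2 ↥G)) = y := hyuniq _ (fun h => hz1 (congrArg Subtype.val h))
          have hconj : x * z * x⁻¹ ∈ Cfsg.pCore 2 ↥G := hQn.conj_mem z hz x
          have hconj1 : (⟨x * z * x⁻¹, hconj⟩ : ↥(Cfsg.pCore 2 ↥G)) ≠ 1 := by
            intro h
            have h' : x * z * x⁻¹ = 1 := congrArg Subtype.val h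
            apply hz1
            have : z = x⁻¹ * (x * z * x⁻¹) * x := by group
            rw [this, h']; group
          have hxy := hyuniq _ hconj1
          have : x * z * x⁻¹ = z := by
            have := congrArg Subtype.val (hxy.trans hzy.symm)
            exact this
          calc z * x = (x * z * x⁻¹) * x := by rw [this]
            _ = x * z := by group
      have h5 : Nat.card (Cfsg.pCore 2 ↥G) = Nat.card G := by
        rw [top_le_iff.1 h4, Subgroup.card_top]
      omega
    · left; exact h
    · right; exact h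
  · -- `q ≥ 5`: impossible
    exfalso
    have hqodd : ¬ 2 ∣ q := by
      intro h
      have := (Nat.prime_dvd_prime_iff_eq Nat.prime_two hq).1 h
      omega
    have hcardS : Nat.card (S : Subgroup ↥G) = 2 * 2 ^ a :=
      s2772_card_sylow (q := q) (a := a) hq.ne_zero hqodd (by rw [hcardG, ha]) S
    have hcjQ : ∀ x : ↥G, cj x (Cfsg.pCore 2 ↥G) = Cfsg.pCore 2 ↥G := by
      intro x
      apply mem_normalizer_iff_cj.1
      rw [Subgroup.normalizer_eq_top_iff.2 hQn]
      exact Subgroup.mem_top x
    have L : Loc G ((Cfsg.pCore 2 ↥G).map G.subtype) ((S : Subgroup ↥G).map G.subtype) g q :=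
      { coatom := hG
        qprime := hq
        q5 := hq5
        QS := Subgroup.map_mono (pCore_le_sylow S)
        SG := hSG
        Qtwo := hQ2.map _
        Stwo := S.isPGroup'.map _
        Qnorm := by
          intro x hx
          have := map_subtype_cj G ⟨x, hx⟩ (Cfsg.pCore 2 ↥G)
          rw [hcjQ] at this
          exact this.symm
        Qmax := by
          intro N hNG hN2 hNn
          have hnorm : (N.subgroupOf G).Normal := by
            refine ⟨fun n hn x => ?_⟩
            rw [Subgroup.mem_subgroupOf] at hn ⊢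
            have h1 : ((x : H) * (n : H) * (x : H)⁻¹) ∈ cj (x : H) N := by
              rw [mem_cj]
              have : (x : H)⁻¹ * ((x : H) * (n : H) * (x : H)⁻¹) * (x : H) = (n : H) := by group
              rw [this]; exact hn
            rw [hNn _ x.2] at h1
            simpa using h1
          have h2 : IsPGroup 2 (N.subgroupOf G) := hN2.comap_subtype
          have h3 : N.subgroupOf G ≤ Cfsg.pCore 2 ↥G := le_pCore hnorm h2
          have h4 := Subgroup.map_mono (f := G.subtype) h3
          rwa [Subgroup.map_subgroupOf_eq_of_le hNG] at h4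
        cent := by
          intro x hx hcomm
          have h1 : (⟨x, hx⟩ : ↥G) ∈ Subgroup.centralizer (Cfsg.pCore 2 ↥G : Set ↥G) := by
            rw [Subgroup.mem_centralizer_iff]
            intro y hy
            apply Subtype.ext
            exact hcomm (y : H) (Subgroup.mem_map_of_mem G.subtype hy)
          exact Subgroup.mem_map_of_mem G.subtype (hchar h1)
        cardG := by
          rw [Subgroup.card_map_of_injective G.subtype_injective]
          exact hcardG
        cardS := by
          rw [Subgroup.card_map_of_injective G.subtype_injective,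
            Subgroup.card_map_of_injective G.subtype_injective, hcardS, ha]
        gN := hgS
        gG := hgG
        core := hcore
        center := hcenter }
    exact L.false_of_loc

end Cfsg.Agent.S2772
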