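import Mathlib
import Cfsg.Prelude.Def_PLocal
import Cfsg.Agent.Lib.Helper6.PRes
import Cfsg.Agent.Lib.Helper6.Conj
import Cfsg.Agent.Lib.Helper6.Conj2
import Cfsg.Agent.Lib.Helper6.Amalgam2
import Cfsg.Statements.S2781

set_option autoImplicit false
open Cfsg

namespace Cfsg.Agent.S2781

open Cfsg.Agent.Lib.Helper6
open scoped commutatorElement

section helpers

open scoped IsMulCommutative

/-- the trace of a `T`-fixed vector over the cosets of `T` in `R` -/
theorem trace_lemma {G : Type*} [Group G] (V R : Subgroup G) [Finite R] [IsMulCommutative V]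
    (hRV : R ≤ Subgroup.normalizer (V : Set G)) (S : Subgroup ↥R) (v : G) (hv : v ∈ V)
    (hvS : ∀ s ∈ S, (s : G) * v = v * (s : G)) :
    ∃ τ ∈ V ⊓ Subgroup.centralizer (R : Set G), ∃ u ∈ ⁅V, R⁆, τ = u * v ^ S.index := by
  classical
  haveI : Fintype (↥R ⧸ S) := Fintype.ofFinite _
  let cj : ↥R → (↥V →* ↥V) := fun r =>
    { toFun := fun x => ⟨(r : G) * x * (r : G)⁻¹,
        (Subgroup.mem_normalizer_iff.mp (hRV r.2) x).mp x.2⟩
      map_one' := Subtype.ext (by simp)
      map_mul' := fun x y => Subtype.ext (by simp [mul_assoc]) }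
  have hcj : ∀ (r : ↥R) (x : ↥V), ((cj r x : ↥V) : G) = (r : G) * x * (r : G)⁻¹ := fun r x => rfl
  let c : ↥R → ↥V := fun r => cj r ⟨v, hv⟩
  have hcv : ∀ r : ↥R, ((c r : ↥V) : G) = (r : G) * v * (r : G)⁻¹ := fun r => rfl
  have hc : ∀ r : ↥R, ∀ s ∈ S, c (r * s) = c r := by
    intro r s hs
    apply Subtype.ext
    rw [hcv, hcv, Subgroup.coe_mul]
    have := hvS s hs
    calc (r : G) * (s : G) * v * ((r : G) * (s : G))⁻¹
        = (r : G) * ((s : G) * v) * (s : G)⁻¹ * (r : G)⁻¹ := by group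
      _ = (r : G) * (v * (s : G)) * (s : G)⁻¹ * (r : G)⁻¹ := by rw [this]
      _ = (r : G) * v * (r : G)⁻¹ := by group
  let f : ↥R ⧸ S → ↥V := fun q => c q.out
  have hf : ∀ (r : ↥R) (q : ↥R ⧸ S), cj r (f q) = f (r • q) := by
    intro r q
    have h1 : r • q = ((r * q.out : ↥R) : ↥R ⧸ S) := by
      conv_lhs => rw [← QuotientGroup.out_eq' q]
      rfl
    obtain ⟨h, hh⟩ := QuotientGroup.mk_out_eq_mul S (r * q.out)
    show cj r (c q.out) = c (r • q).out
    rw [h1, hh, hc _ _ h.2]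
    apply Subtype.ext
    rw [hcj, hcv, hcv, Subgroup.coe_mul]
    group
  have hinv : ∀ r : ↥R, cj r (∏ q, f q) = ∏ q, f q := by
    intro r
    rw [map_prod]
    simp_rw [hf]
    exact Equiv.prod_comp (MulAction.toPerm r) f
  have hsplit : (∏ q, f q) = (∏ q, (f q * (⟨v, hv⟩ : ↥V)⁻¹)) * (⟨v, hv⟩ : ↥V) ^ S.index := by
    have : ∀ q, f q = (f q * (⟨v, hv⟩ : ↥V)⁻¹) * (⟨v, hv⟩ : ↥V) := fun q => by group
    conv_lhs => rw [Finset.prod_congr rfl (fun q _ => this q)]
    rw [Finset.prod_mul_distrib, Finset.prod_const, Finset.card_univ, Subgroup.index_eq_card,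
      Nat.card_eq_fintype_card]
  have hu : (∏ q, (f q * (⟨v, hv⟩ : ↥V)⁻¹)) ∈ (⁅V, R⁆).subgroupOf V := by
    apply Subgroup.prod_mem
    intro q _
    rw [Subgroup.mem_subgroupOf]
    have : ((f q * (⟨v, hv⟩ : ↥V)⁻¹ : ↥V) : G) = ⁅((q.out : ↥R) : G), v⁆ := by
      rw [commutatorElement_def]
      rfl
    rw [this, Subgroup.commutator_comm]
    exact Subgroup.commutator_mem_commutator q.out.2 hv
  refine ⟨((∏ q, f q : ↥V) : G), Subgroup.mem_inf.mpr ⟨(∏ q, f q : ↥V).2, ?_⟩,
    ((∏ q, (f q * (⟨v, hv⟩ : ↥V)⁻¹) : ↥V) : G), hu, ?_⟩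
  · rw [Subgroup.mem_centralizer_iff]
    intro r hr
    have := congrArg Subtype.val (hinv ⟨r, hr⟩)
    rw [hcj] at this
    calc r * ((∏ q, f q : ↥V) : G) = (r * ((∏ q, f q : ↥V) : G) * r⁻¹) * r := by group
      _ = ((∏ q, f q : ↥V) : G) * r := by rw [this]
  · have := congrArg Subtype.val hsplit
    rw [this]
    rfl

end helpers



/-- Let H act faithfully by conjugation on the elementary abelian p-subgroup V of a finite group, let O^p(H) be the subgroup of H generated by its elements of order prime to p, and T a Sylow p-subgroup of O^p(H). If V is generated by the H-conjugates of C_V(T) (V is the smallest H-invariant subgroup containing C_V(T)), then V = [V, O^p(H)]·C_V(O^p(H)). -/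
theorem result {G : Type*} [Group G] [Finite G] {p : ℕ} [Fact p.Prime] (V H : Subgroup G) (hV : Cfsg.IsElementaryAbelian p V) (hHV : H ≤ Subgroup.normalizer (V : Set G)) (hf : H ⊓ Subgroup.centralizer (V : Set G) = ⊥) (R : Subgroup G) (hR : R = (Cfsg.pResidual p ↥H).map H.subtype) (S : Sylow p ↥R) (T : Subgroup G) (hT : T = ((S : Subgroup ↥R).map R.subtype)) (hgen : ∀ W : Subgroup G, H ≤ Subgroup.normalizer (W : Set G) → (V ⊓ Subgroup.centralizer ((T : Subgroup G) : Set G)) ≤ W → V ≤ W) : ⁅V, R⁆ ⊔ (V ⊓ Subgroup.centralizer ((R : Subgroup G) : Set G)) = V := by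
  haveI := hV.1
  have hp : p.Prime := Fact.out
  have hRH : R ≤ H := by rw [hR]; exact Subgroup.map_subtype_le _
  have hRnorm : ∀ h ∈ H, R.map (MulAut.conj h).toMonoidHom = R := by
    intro h hh
    apply map_conj_eq_self_of_le
    rintro _ ⟨r, hr, rfl⟩
    rw [hR] at hr ⊢
    obtain ⟨r', hr', rfl⟩ := hr
    exact ⟨⟨h, hh⟩ * r' * ⟨h, hh⟩⁻¹, (pResidual_normal' p).conj_mem r' hr' ⟨h, hh⟩, rfl⟩
  have hRV : R ≤ Subgroup.normalizer (V : Set G) := hRH.trans hHV
  apply le_antisymm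
  · apply sup_le
    · rw [Subgroup.commutator_le]
      intro v hv r hr
      have := (Subgroup.mem_normalizer_iff.mp (hRV hr) v⁻¹).mp (inv_mem hv)
      rw [commutatorElement_def]
      have e : v * r * v⁻¹ * r⁻¹ = v * (r * v⁻¹ * r⁻¹) := by group
      rw [e]
      exact mul_mem hv this
    · exact inf_le_left
  · apply hgen
    · intro h hh
      apply mem_normalizer_of_map_conj_eq_self
      rw [Subgroup.map_sup, Subgroup.map_commutator,
        Subgroup.map_inf_eq _ _ _ (MulAut.conj h).injective, centralizer_map_conj, hRnorm h hh,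
        map_conj_eq_self_of_mem_normalizer (hHV hh)]
    · intro v hv
      obtain ⟨hvV, hvT⟩ := Subgroup.mem_inf.mp hv
      have hvS : ∀ s ∈ (S : Subgroup ↥R), (s : G) * v = v * (s : G) := by
        intro s hs
        have hsT : (s : G) ∈ T := by rw [hT]; exact ⟨s, hs, rfl⟩
        exact (Subgroup.mem_centralizer_iff.mp hvT _ hsT)
      obtain ⟨τ, hτ, u, hu, hτu⟩ := trace_lemma V R hRV (S : Subgroup ↥R) v hvV hvS
      set W := ⁅V, R⁆ ⊔ (V ⊓ Subgroup.centralizer ((R : Subgroup G) : Set G)) with hW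
      have hτW : τ ∈ W := (le_sup_right : _ ≤ W) hτ
      have huW : u ∈ W := (le_sup_left : _ ≤ W) hu
      have hvk : v ^ (S : Subgroup ↥R).index ∈ W := by
        have : v ^ (S : Subgroup ↥R).index = u⁻¹ * τ := by rw [hτu]; group
        rw [this]
        exact mul_mem (inv_mem huW) hτW
      have hvp : v ^ p = 1 := hV.2 v hvV
      have hcop : Nat.Coprime (S : Subgroup ↥R).index p :=
        ((Nat.Prime.coprime_iff_not_dvd hp).mpr S.not_dvd_index).symm
      obtain ⟨m, _, hm⟩ := Nat.exists_mul_mod_eq_one_of_coprime hcop hp.one_lt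
      have h1 := Nat.div_add_mod ((S : Subgroup ↥R).index * m) p
      rw [hm] at h1
      have h2 : (v ^ (S : Subgroup ↥R).index) ^ m = v := by
        rw [← pow_mul, ← h1, pow_succ, pow_mul, hvp, one_pow, one_mul]
      rw [← h2]
      exact pow_mem hvk m


end Cfsg.Agent.S2781
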