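import Mathlib
import Cfsg.Statements.S2788
import Cfsg.Agent.Lib.Helper3.ModB6

set_option autoImplicit false
open Cfsg

namespace Cfsg.Agent.S2788

/-- Let H act faithfully by conjugation on the elementary abelian p-subgroup V of a finite group with H ≅ SL₂(F), F a field with p^n elements, S a Sylow p-subgroup of H, and A ≤ S a subgroup of order at least 3 acting quadratically on V ([V, A, A] = 1). Then |V/C_V(a)| ≥ p^n for every nonidentity a ∈ A. -/
theorem result {G : Type*} [Group G] [Finite G] {p : ℕ} [Fact p.Prime] (V H : Subgroup G) (hV : Cfsg.IsElementaryAbelian p V) (hHV : H ≤ Subgroup.normalizer (V : Set G)) (hf : H ⊓ Subgroup.centralizer (V : Set G) = ⊥) {F : Type*} [Field F] [Fintype F] (n : ℕ) (hF : Fintype.card F = p ^ n) (hiso : Nonempty (↥H ≃* Matrix.SpecialLinearGroup (Fin 2) F)) (S : Sylow p ↥H) (T : Subgroup G) (hT : T = ((S : Subgroup ↥H).map H.subtype)) (A : Subgroup G) (hA : A ≤ T) (hA3 : 3 ≤ Nat.card A) (hquad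 : ⁅⁅V, A⁆, A⁆ = ⊥) : ∀ a ∈ A, a ≠ 1 → p ^ n ≤ ((V ⊓ Subgroup.centralizer ({a} : Set G))).relIndex V := by
  intro a ha ha1
  obtain ⟨e⟩ := hiso
  obtain ⟨hVc, hexp⟩ := hV
  have hcomm : ∀ a ∈ V, ∀ b ∈ V, a * b = b * a := by
    intro a ha b hb
    have h := hVc.is_comm.comm ⟨a, ha⟩ ⟨b, hb⟩
    exact congrArg Subtype.val h
  have haT : a ∈ T := hA ha
  rw [hT, Subgroup.mem_map] at haT
  obtain ⟨s, hsS, rfl⟩ := haT
  have hs1 : s ≠ 1 := by
    intro h
    apply ha1
    rw [h]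
    rfl
  obtain ⟨k, hk⟩ := S.2 ⟨s, hsS⟩
  have hs : s ^ p ^ k = 1 := by
    have h := congrArg Subtype.val hk
    simpa using h
  exact Cfsg.Agent.Lib.Helper3.ModB.sl2_bound V H hcomm p hexp hHV hf n hF e s hs1 k hs

end Cfsg.Agent.S2788
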