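import Mathlib
import Cfsg.Statements.S2791
import Cfsg.Agent.S5076
import Cfsg.Agent.Lib.Helper9.FusionNormal5
import Cfsg.Agent.Lib.Helper9.FusionMorph5

set_option autoImplicit false
open Cfsg

namespace Cfsg.Agent.S2791

open Cfsg.FusionSystem Cfsg.Agent.Lib.Helper9

section
variable {G : Type*} [Group G]

theorem gfs_stronglyClosed {S A : Subgroup G} (hsc : Cfsg.IsStronglyClosed A S) :
    (groupFusionSystem S).StronglyClosed A := by
  refine ⟨hsc.1, ?_⟩
  rintro R hRA φ ⟨_, hφS, g, hg⟩ x
  rw [hg]
  apply hsc.2 _ (hRA x.2) g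
  rw [← hg]
  exact hφS x

/-- A subgroup normal in the fusion system of `G` on `S` controls strong fusion in `S`. -/
theorem controls_of_isNormal [Finite G] {S A : Subgroup G}
    (hN : (groupFusionSystem S).IsNormal A) (X : Set G) (hX : X ⊆ S) :
    Cfsg.ControlsStrongFusionOf (Subgroup.normalizer (A : Set G)) S X := by
  refine ⟨hX, ?_⟩
  intro g hg
  set P := Subgroup.closure X with hP
  have hPS : P ≤ S := (Subgroup.closure_le _).2 hX
  have hPT : P ≤ S.comap (MulAut.conj g).toMonoidHom := by
    rw [hP, Subgroup.closure_le]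
    intro x hx
    show (MulAut.conj g) x ∈ S
    rw [MulAut.conj_apply]
    exact hg ⟨x, hx, rfl⟩
  have hconj : ∀ x : P, g * (x : G) * g⁻¹ ∈ S := by
    intro x
    have := hPT x.2
    rw [Subgroup.mem_comap] at this
    exact this
  have hφ : conjHom P g ∈ (groupFusionSystem S).Hom P := ⟨hPS, hconj, g, fun x => rfl⟩
  obtain ⟨ψ, hψ, hext, himg⟩ := hN.2 P (conjHom P g) hφ
  obtain ⟨-, -, n, hn⟩ := hψ
  refine ⟨n, ?_, ?_⟩
  · apply mem_normalizer_of_conj_mem
    intro a ha
    have haPA : a ∈ P ⊔ A := (le_sup_right : A ≤ P ⊔ A) ha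
    have h1 : ψ ⟨a, haPA⟩ ∈ (A.subgroupOf (P ⊔ A)).map ψ := by
      refine ⟨⟨a, haPA⟩, ?_, rfl⟩
      rw [SetLike.mem_coe, Subgroup.mem_subgroupOf]
      exact ha
    rw [himg, hn] at h1
    exact h1
  · intro a ha
    have haP : a ∈ P := Subgroup.subset_closure ha
    have h1 := hext ⟨a, haP⟩
    rw [hn] at h1
    exact h1.symm

end

/-- Let S be a Sylow p-subgroup of the finite group G and A an abelian subgroup of S that is strongly closed in S with respect to G. Then A controls strong fusion in G: for some Sylow p-subgroup T containing A, whenever a subset of T is conjugated into T by an element of G, the same elementwise conjugation is induced by an element of N_G(A). -/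
theorem result {G : Type*} [Group G] [Finite G] {p : ℕ} [Fact p.Prime] (S : Sylow p G) (A : Subgroup G) (hA : IsMulCommutative ↥A) (hsc : Cfsg.IsStronglyClosed A (S : Subgroup G)) : Cfsg.ControlsStrongFusion p A := by
  refine ⟨S, hsc.1, ?_⟩
  have hsat : (groupFusionSystem (S : Subgroup G)).IsSaturated p := Cfsg.Agent.S5076.result p S
  have hSp : IsPGroup p (S : Subgroup G) := S.isPGroup'
  have hAsc := gfs_stronglyClosed hsc
  have hcomm : ⁅A, A⁆ = ⊥ := by
    rw [Subgroup.commutator_eq_bot_iff_le_centralizer]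
    intro a ha
    rw [Subgroup.mem_centralizer_iff]
    intro b hb
    have := hA.is_comm.comm (⟨b, hb⟩ : A) ⟨a, ha⟩
    exact congrArg Subtype.val this
  have hN : (groupFusionSystem (S : Subgroup G)).IsNormal A := by
    apply fs_isNormal_of_series p hSp _ hsat A 1 ![⊥, A] rfl rfl
    · intro i j hij
      fin_cases i <;> fin_cases j
      · exact le_refl _
      · exact bot_le
      · exact absurd hij (by decide)
      · exact le_refl _
    · intro i
      fin_cases i
      refine ⟨hAsc, ?_⟩
      show ⁅A, A⁆ ≤ ⊥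
      rw [hcomm]
  intro X hX
  exact controls_of_isNormal hN X hX

end Cfsg.Agent.S2791
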