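import Mathlib
import Cfsg.Agent.Lib.Lead.WCLocal
import Cfsg.Agent.Lib.Lead.GlaubB2
import Cfsg.Agent.Lib.Lead.GlaubD7
import Cfsg.Agent.Lib.Lead.Thom11
import Cfsg.Agent.S1974
-- Template for statement S2799 (row 2799; see /opt/grader/pristine/manifest.json for weights).
-- Copy to Cfsg/Agent/S2799.lean and replace the sorry. The statement below is byte-identical to the frozen
-- statement Cfsg.CfsgFrozen.S2799 (Cfsg/Statements/S2799.lean; the theorem Cfsg.loc_thompson_normalizer_center_weakly_closed);
-- the grader kernel-checks Cfsg.Agent.S2799.result against that frozen type. Keep the theorem IN THIS FILE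
-- (a `result` declared elsewhere and merely imported here is not credited); helpers may live anywhere
-- under Cfsg/Agent/.
import Cfsg.Statements.S2799
-- import your own Cfsg.Agent.* helpers here

set_option autoImplicit false
open Cfsg

namespace Cfsg.Agent.S2799

/-- Let S be a Sylow p-subgroup of the finite group G, J(S) the subgroup generated by the abelian subgroups of S of largest order, and x an element of S lying in the centre of N_G(J(S)). Assume that p is odd, or that x is a p-th power of an element of Z(S), or that the symmetric group of degree 4 is not involved in G. Then x is weakly closed in S with respect to G: every G-conjugate of x that lies in S equals x. -/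
theorem result {G : Type*} [Group G] [Finite G] {p : ℕ} [Fact p.Prime] (S : Sylow p G) (x : G) (hxS : x ∈ (S : Subgroup G)) (hxZ : x ∈ (Subgroup.center ↥(Subgroup.normalizer ((Cfsg.thompsonSubgroupAOf (S : Subgroup G)) : Set G))).map (Subgroup.normalizer ((Cfsg.thompsonSubgroupAOf (S : Subgroup G)) : Set G)).subtype) (h : p ≠ 2 ∨ (∃ z ∈ (S : Subgroup G) ⊓ Subgroup.centralizer ((S : Subgroup G) : Set G), z ^ p = x) ∨ ¬ Cfsg.Involves (Equiv.Perm (Fin 4)) G) : ∀ g : G, g * x * g⁻¹ ∈ (S : Subgroup G) → g * x * g⁻¹ = x := by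
  classical
  -- `x` commutes with `N_G(J(S))`
  have hcomm : ∀ n ∈ Subgroup.normalizer ((Cfsg.thompsonSubgroupAOf (S : Subgroup G) : Subgroup G) : Set G),
      n * x = x * n := by
    intro n hn
    obtain ⟨x', hx', rfl⟩ := hxZ
    have h1 := Subgroup.mem_center_iff.mp hx' ⟨n, hn⟩
    exact congrArg Subtype.val h1
  have hxN : ∀ n ∈ Subgroup.normalizer ((Cfsg.thompsonSubgroupAOf (S : Subgroup G) : Subgroup G) : Set G),
      n * x * n⁻¹ = x := by
    intro n hn
    rw [hcomm n hn]; group
  have hSN : (S : Subgroup G) ≤ Subgroup.normalizer ((Cfsg.thompsonSubgroupAOf (S : Subgroup G) : Subgroup G) : Set G) :=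
    Subgroup.le_normalizer.trans (Cfsg.Agent.H9ZJ.normalizer_le_normalizer_thompsonA (S : Subgroup G))
  have hxc : ∀ y ∈ (S : Subgroup G), y * x = x * y := fun y hy => hcomm y (hSN hy)
  by_cases hp2 : p ≠ 2
  · -- odd `p`
    exact Cfsg.Agent.Lib.Lead.WCLocal.wc_of_local_pcore S x hxS hxc hxN
      (fun L P x' _ hQ hP hc hN =>
        Cfsg.Agent.Lib.Lead.GlaubB.glauberman_center_odd_pcore hp2 ↥L P x' hQ hP hc hN)
  · push Not at hp2
    rcases h with h | h | h
    · exact absurd hp2 h
    · -- `p`-th powers
      obtain ⟨z, hz, hzx⟩ := h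
      have hres := Cfsg.Agent.S1974.result (G := G) (p := p) S (fun P : Subgroup G => thompsonSubgroupAOf P)
        Cfsg.Agent.Lib.Lead.WCLocal.isConjugacyFunctor_J
        (fun P _ => Cfsg.Agent.Lib.Lead.WCLocal.zOf_le_J P)
        (fun H T hTH hTp hTi hnot => Cfsg.Agent.Lib.Lead.WCLocal.exists_quadratic_J H T hTH hTp hTi hnot)
        _ rfl
      apply hres.1 x
      rw [Subgroup.mem_inf]
      refine ⟨Subgroup.subset_closure ⟨z, hz, hzx⟩, ?_⟩
      rw [Subgroup.mem_centralizer_iff]
      intro n hn
      exact hcomm n hn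
    · -- `S₄`-free, `p = 2`
      subst hp2
      exact Cfsg.Agent.Lib.Lead.WCLocal.wc_of_local_pcore S x hxS hxc hxN
        (fun L P x' _ hQ hP hc hN =>
          Cfsg.Agent.Lib.Lead.GlaubD.glauberman_center_S4free_pcore ↥L
            (fun hL => h (Cfsg.Agent.Lib.Lead.Thom.involves_of_subgroup L hL)) P x' hQ hP hc hN)

end Cfsg.Agent.S2799
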