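import Mathlib
import Cfsg.Agent.Lib.Helper6.LocalKieler
import Cfsg.Statements.S2806

set_option autoImplicit false
open Cfsg

namespace Cfsg.Agent.S2806

open Cfsg.Agent.Lib.Helper3 Cfsg.Agent.Lib.Helper6 Cfsg.Agent.Lib.Helper7

section helpers
variable {H : Type*} [Group H] [Finite H] {p : ℕ} [hp : Fact p.Prime]

/-- a `p`-element of a subnormal subgroup meeting a Sylow subgroup trivially is trivial -/
theorem eq_one_of_sylow_inf_eq_bot (T : Sylow p H) {X : Subgroup H} (hX : X.IsSubnormal)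
    (hTX : (T : Subgroup H) ⊓ X = ⊥) {x : H} (hx : x ∈ X) (hxp : ∃ k : ℕ, orderOf x = p ^ k) :
    x = 1 := by
  have hS := isSylowOf_inf_of_isSubnormal T hX
  have hP : IsPGroup p (Subgroup.zpowers x) := by
    obtain ⟨k, hk⟩ := hxp
    apply IsPGroup.of_card (n := k)
    rw [Nat.card_zpowers, hk]
  obtain ⟨k, _, hk⟩ := hS.exists_conj_ge hP (Subgroup.zpowers_le.mpr hx)
  rw [hTX, Subgroup.map_bot] at hk
  have := hk (Subgroup.mem_zpowers x)
  exact Subgroup.mem_bot.mp this

theorem key_fact (hH : Cfsg.IsOfLocalCharacteristic p H) (T : Sylow p H) {L X : Subgroup H}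
    (hL : L.IsSubnormal) (hX : X.IsSubnormal) (hXL : X ≤ L) (hTX : (T : Subgroup H) ⊓ X ≠ ⊥) :
    X ⊓ Subgroup.centralizer ((omegaZ p ((T : Subgroup H) ⊓ L) : Subgroup H) : Set H) =
      X ⊓ Subgroup.centralizer ((omegaZ p ((T : Subgroup H) ⊓ X) : Subgroup H) : Set H) := by
  have hTL : (T : Subgroup H) ⊓ L ≠ ⊥ := by
    intro h
    apply hTX
    rw [eq_bot_iff, ← h]
    exact inf_le_inf_left _ hXL
  have h1 := local_kieler hH T hL hTL
  have h2 := local_kieler hH T hX hTX
  calc X ⊓ Subgroup.centralizer ((omegaZ p ((T : Subgroup H) ⊓ L) : Subgroup H) : Set H)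
      = X ⊓ (L ⊓ Subgroup.centralizer ((omegaZ p ((T : Subgroup H) ⊓ L) : Subgroup H) : Set H)) := by
        rw [← inf_assoc, inf_eq_left.mpr hXL]
    _ = X ⊓ (L ⊓ Subgroup.centralizer ((omegaZ p (T : Subgroup H) : Subgroup H) : Set H)) := by
        rw [h1]
    _ = X ⊓ Subgroup.centralizer ((omegaZ p (T : Subgroup H) : Subgroup H) : Set H) := by
        rw [← inf_assoc, inf_eq_left.mpr hXL]
    _ = _ := h2

/-- `p`-elements of `X` centralizing `Ω₁Z(T ∩ L)` lie in the point stabilizer of `X` -/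
theorem mem_pointStabilizer_of (hH : Cfsg.IsOfLocalCharacteristic p H) (T : Sylow p H) {L X : Subgroup H}
    (hL : L.IsSubnormal) (hX : X.IsSubnormal) (hXL : X ≤ L) {y : H}
    (hy : y ∈ X ⊓ Subgroup.centralizer ((omegaZ p ((T : Subgroup H) ⊓ L) : Subgroup H) : Set H))
    (hyp : ∃ k : ℕ, orderOf y = p ^ k) :
    y ∈ Cfsg.pointStabilizer p X ((T : Subgroup H) ⊓ X) := by
  by_cases hTX : (T : Subgroup H) ⊓ X = ⊥
  · rw [eq_one_of_sylow_inf_eq_bot T hX hTX hy.1 hyp]
    exact Subgroup.one_mem _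
  · apply Subgroup.subset_closure
    refine ⟨?_, hyp⟩
    rw [key_fact hH T hL hX hXL hTX] at hy
    exact hy

end helpers



/-- Let H be a finite group of local characteristic p, T a Sylow p-subgroup, and L₁, L₂ subnormal subgroups of H generating the subgroup L. Then the point stabilizer of L with respect to T ∩ L is generated by the point stabilizers of L₁ and L₂ with respect to T ∩ L₁ and T ∩ L₂ (point stabilizer of X w.r.t. R: the subgroup generated by the p-elements of X centralizing Ω₁(Z(R))). -/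
theorem result {H : Type*} [Group H] [Finite H] {p : ℕ} [Fact p.Prime] (hH : Cfsg.IsOfLocalCharacteristic p H) (T : Sylow p H) (L₁ L₂ : Subgroup H) (h₁ : L₁.IsSubnormal) (h₂ : L₂.IsSubnormal) : Cfsg.pointStabilizer p (L₁ ⊔ L₂) ((T : Subgroup H) ⊓ (L₁ ⊔ L₂)) = Cfsg.pointStabilizer p L₁ ((T : Subgroup H) ⊓ L₁) ⊔ Cfsg.pointStabilizer p L₂ ((T : Subgroup H) ⊓ L₂) := by
  set L := L₁ ⊔ L₂ with hLdef
  have hL : L.IsSubnormal := isSubnormal_sup h₁ h₂
  set S := (T : Subgroup H) ⊓ L with hS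
  set Z := omegaZ p S with hZ
  set CZ := Subgroup.centralizer ((Z : Subgroup H) : Set H) with hCZ
  apply le_antisymm
  · -- ≤
    unfold Cfsg.pointStabilizer
    rw [Subgroup.closure_le]
    rintro x ⟨hxC, hxp⟩
    change x ∈ L ⊓ CZ at hxC
    have hSL : IsSylowOf p L S := isSylowOf_inf_of_isSubnormal T hL
    have hSCZ : S ≤ CZ := by
      intro s hs
      rw [hCZ, Subgroup.mem_centralizer_iff]
      intro z hz
      exact (Subgroup.mem_centralizer_iff.mp (omegaZ_le_centralizer p S hz) s hs).symm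
    set C := L ⊓ CZ with hC
    have hSC : IsSylowOf p C S := hSL.of_le (le_inf hSL.1 hSCZ) inf_le_left
    set A := L₁ ⊓ CZ with hA
    set B := L₂ ⊓ CZ with hB
    have hL₁L : SubnIn L₁ L := (subnIn_top_iff.mpr h₁).of_le le_sup_left le_top
    have hL₂L : SubnIn L₂ L := (subnIn_top_iff.mpr h₂).of_le le_sup_right le_top
    have hAC : SubnIn A C := hL₁L.inf_right CZ
    have hBC : SubnIn B C := hL₂L.inf_right CZ
    set D := A ⊔ B with hD
    have hDC : SubnIn D C := hAC.sup hBC
    have hSD : S ≤ D := by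
      rw [hS, hLdef, sylow_inf_sup_of_isSubnormal h₁ h₂ T]
      apply sup_le_sup
      · exact le_inf inf_le_right ((inf_le_inf_left _ le_sup_left).trans hSCZ)
      · exact le_inf inf_le_right ((inf_le_inf_left _ le_sup_right).trans hSCZ)
    have hxP : IsPGroup p (Subgroup.zpowers x) := by
      obtain ⟨k, hk⟩ := hxp
      apply IsPGroup.of_card (n := k)
      rw [Nat.card_zpowers, hk]
    have hxD : Subgroup.zpowers x ≤ D :=
      le_of_subnIn_of_sylow_le hDC hSC hSD hxP (Subgroup.zpowers_le.mpr hxC)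
    have hSDs : IsSylowOf p D S := hSC.of_le hSD hDC.le
    obtain ⟨d, hd, hxd⟩ := hSDs.exists_conj_ge hxP hxD
    set S' := S.map (MulAut.conj d).toMonoidHom with hS'
    have hDd : D.map (MulAut.conj d).toMonoidHom = D := cj_eq_self_of_mem hd
    have hS'D : IsSylowOf p D S' := by
      have := hSDs.map_conj d
      rwa [hDd] at this
    have hAD : SubnIn A D := hAC.of_le le_sup_left hDC.le
    have hBD : SubnIn B D := hBC.of_le le_sup_right hDC.le
    have h1 := IsSylowOf.le_sup_of_subnIn hAD hBD hS'D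
    have hxS' : x ∈ S' := hxd (Subgroup.mem_zpowers x)
    have h2 : (S' ⊓ A) ⊔ (S' ⊓ B) ≤ Cfsg.pointStabilizer p L₁ ((T : Subgroup H) ⊓ L₁) ⊔
        Cfsg.pointStabilizer p L₂ ((T : Subgroup H) ⊓ L₂) := by
      apply sup_le_sup
      · intro y hy
        have hyp : ∃ k : ℕ, orderOf y = p ^ k := by
          obtain ⟨k, hk⟩ := (IsPGroup.iff_orderOf.mp hS'D.2.1) ⟨y, hy.1⟩
          exact ⟨k, by rw [← hk]; simp⟩
        exact mem_pointStabilizer_of hH T hL h₁ le_sup_left hy.2 hyp
      · intro y hy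
        have hyp : ∃ k : ℕ, orderOf y = p ^ k := by
          obtain ⟨k, hk⟩ := (IsPGroup.iff_orderOf.mp hS'D.2.1) ⟨y, hy.1⟩
          exact ⟨k, by rw [← hk]; simp⟩
        exact mem_pointStabilizer_of hH T hL h₂ le_sup_right hy.2 hyp
    exact h2 (h1 hxS')
  · apply sup_le
    · unfold Cfsg.pointStabilizer
      rw [Subgroup.closure_le]
      rintro x ⟨hxC, hxp⟩
      by_cases hTX : (T : Subgroup H) ⊓ L₁ = ⊥
      · rw [eq_one_of_sylow_inf_eq_bot T h₁ hTX hxC.1 hxp]
        exact Subgroup.one_mem _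
      · apply Subgroup.subset_closure
        refine ⟨?_, hxp⟩
        change x ∈ L₁ ⊓ _ at hxC
        have := key_fact hH T hL h₁ le_sup_left hTX
        change x ∈ L₁ ⊓ Subgroup.centralizer ((omegaZ p ((T : Subgroup H) ⊓ L₁) : Subgroup H) : Set H) at hxC
        rw [← this] at hxC
        exact ⟨le_sup_left (a := L₁) hxC.1, hxC.2⟩
    · unfold Cfsg.pointStabilizer
      rw [Subgroup.closure_le]
      rintro x ⟨hxC, hxp⟩
      by_cases hTX : (T : Subgroup H) ⊓ L₂ = ⊥
      · rw [eq_one_of_sylow_inf_eq_bot T h₂ hTX hxC.1 hxp]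
        exact Subgroup.one_mem _
      · apply Subgroup.subset_closure
        refine ⟨?_, hxp⟩
        have := key_fact hH T hL h₂ le_sup_right hTX
        change x ∈ L₂ ⊓ Subgroup.centralizer ((omegaZ p ((T : Subgroup H) ⊓ L₂) : Subgroup H) : Set H) at hxC
        rw [← this] at hxC
        exact ⟨le_sup_right (b := L₂) hxC.1, hxC.2⟩


end Cfsg.Agent.S2806
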