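import Mathlib
import Cfsg.Agent.Lib.Helper6.Stability
import Cfsg.Statements.S2809

set_option autoImplicit false
open Cfsg Cfsg.Agent.Lib.Helper6
open scoped commutatorElement

namespace Cfsg.Agent.S2809

/-- Let H be a finite group, p a prime, R a p-subgroup of H with C_H(R) ≤ R, and L a subgroup of N_H(R) acting nilpotently on R (some iterated commutator [R, L, …, L] is trivial). Then L is a p-group. -/
theorem result {H : Type*} [Group H] [Finite H] {p : ℕ} [Fact p.Prime] (R : Subgroup H) (hR : IsPGroup p ↥R) (hC : Subgroup.centralizer (R : Set H) ≤ R) (L : Subgroup H) (hL : L ≤ Subgroup.normalizer (R : Set H)) (hnil : ∃ n : ℕ, Cfsg.iterCommutator R L n = ⊥) : IsPGroup p ↥L := by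
  obtain ⟨n, hn⟩ := hnil
  have hp : p.Prime := Fact.out
  -- all terms of the chain lie in R
  have hle : ∀ i, iterCommutator R L i ≤ R := by
    intro i
    induction i with
    | zero => exact le_refl _
    | succ i ih =>
      show ⁅iterCommutator R L i, L⁆ ≤ R
      rw [Subgroup.commutator_le]
      intro a ha b hb
      have hb' := hL hb
      have : b * a⁻¹ * b⁻¹ ∈ R := by
        have := (Subgroup.mem_normalizer_iff.mp hb' a⁻¹).mp (R.inv_mem (ih ha))
        exact this
      have h2 : ⁅a, b⁆ = a * (b * a⁻¹ * b⁻¹) := by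
        rw [commutatorElement_def]; group
      rw [h2]
      exact R.mul_mem (ih ha) this
  apply isPGroup_of_pPrime_elements_trivial
  intro x hxL hxc
  let A : ℕ → Subgroup H := fun i => iterCommutator R L (n - i)
  have hA0 : A 0 = ⊥ := by simpa [A] using hn
  have hAp : ∀ i ≤ n, IsPGroup p (A i) := fun i _ => hR.to_le (hle _)
  have hstep : ∀ i < n, ∀ r ∈ A (i + 1), r⁻¹ * x * r * x⁻¹ ∈ A i := by
    intro i hi r hr
    have h1 : n - i = (n - (i + 1)) + 1 := by omega
    show r⁻¹ * x * r * x⁻¹ ∈ iterCommutator R L (n - i)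
    rw [h1]
    show r⁻¹ * x * r * x⁻¹ ∈ ⁅iterCommutator R L (n - (i + 1)), L⁆
    have h2 : r⁻¹ * x * r * x⁻¹ = ⁅r⁻¹, x⁆ := by
      rw [commutatorElement_def]; group
    rw [h2]
    exact Subgroup.commutator_mem_commutator (Subgroup.inv_mem _ hr) hxL
  have hcomm := commute_of_stabilizes_chain x hxc A hA0 n hAp hstep n (le_refl n)
  have hAn : A n = R := by simp [A, iterCommutator]
  have hxC : x ∈ Subgroup.centralizer (R : Set H) := by
    rw [Subgroup.mem_centralizer_iff]
    intro r hr
    rw [← hAn] at hr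
    exact (hcomm r hr).symm
  have hxR : x ∈ R := hC hxC
  obtain ⟨k, hk⟩ := hR ⟨x, hxR⟩
  have hk' : x ^ p ^ k = 1 := by
    have := congrArg Subtype.val hk
    simpa using this
  have hdvd : orderOf x ∣ p ^ k := orderOf_dvd_of_pow_eq_one hk'
  have : orderOf x = 1 := Nat.Coprime.eq_one_of_dvd (Nat.Coprime.pow_right k hxc) hdvd
  exact orderOf_eq_one_iff.mp this

end Cfsg.Agent.S2809
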