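import Mathlib
import Cfsg.Agent.Lib.Helper6.Stability
import Cfsg.Agent.Lib.Helper6.PCore
import Cfsg.Statements.S2810

set_option autoImplicit false
open Cfsg Cfsg.Agent.Lib.Helper6
open scoped commutatorElement

namespace Cfsg.Agent.S2810

/-- Let H be a finite group of characteristic p and L a subgroup of H centralizing every factor of some H-invariant chain 1 = A₀ ≤ A₁ ≤ … ≤ Aₙ = O_p(H) of normal subgroups (that is, [A_{i+1}, L] ≤ Aᵢ for each i). Then L ≤ O_p(H). -/
theorem result {H : Type*} [Group H] [Finite H] {p : ℕ} [Fact p.Prime] (hchar : Subgroup.centralizer (Cfsg.pCore p H : Set H) ≤ Cfsg.pCore p H) (L : Subgroup H) (n : ℕ) (A : Fin (n + 1) → Subgroup H) (h0 : A 0 = ⊥) (hn : A (Fin.last n) = Cfsg.pCore p H) (hmono : Monotone A) (hnorm : ∀ i, (A i).Normal) (hcent : ∀ i : Fin n, ⁅A i.succ, L⁆ ≤ A i.castSucc) : L ≤ Cfsg.pCore p H := by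
  have hp : p.Prime := Fact.out
  -- K : the elements centralizing every factor of the chain
  let K : Subgroup H := ⨅ i : Fin n,
    haveI := hnorm i.castSucc
    sectionKernel (A i.succ) (A i.castSucc)
  have hKmem : ∀ g : H, g ∈ K ↔ ∀ i : Fin n, ∀ a ∈ A i.succ, a⁻¹ * g * a * g⁻¹ ∈ A i.castSucc := by
    intro g
    simp only [K, Subgroup.mem_iInf]
    refine forall_congr' fun i => ?_
    haveI := hnorm i.castSucc
    unfold sectionKernel
    rw [Subgroup.mem_comap, Subgroup.mem_centralizer_iff]
    constructor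
    · intro h a ha
      have h1 := h (QuotientGroup.mk' (A i.castSucc) a) ⟨a, ha, rfl⟩
      simp only [QuotientGroup.mk'_apply] at h1
      rw [← QuotientGroup.mk_mul, ← QuotientGroup.mk_mul, QuotientGroup.eq] at h1
      have h3 : a⁻¹ * g * a * g⁻¹ = g * ((a * g)⁻¹ * (g * a)) * g⁻¹ := by group
      rw [h3]
      exact (hnorm i.castSucc).conj_mem _ h1 g
    · intro h y hy
      obtain ⟨a, ha, rfl⟩ := hy
      simp only [QuotientGroup.mk'_apply]
      rw [← QuotientGroup.mk_mul, ← QuotientGroup.mk_mul, QuotientGroup.eq]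
      have h1 := h a ha
      have h3 : (a * g)⁻¹ * (g * a) = g⁻¹ * (a⁻¹ * g * a * g⁻¹) * g⁻¹⁻¹ := by group
      rw [h3]
      exact (hnorm i.castSucc).conj_mem _ h1 g⁻¹
  have hKn : K.Normal := by
    apply Subgroup.normal_iInf_normal
    intro i
    have := hnorm i.castSucc
    have := hnorm i.succ
    unfold sectionKernel
    haveI : ((A i.succ).map (QuotientGroup.mk' (A i.castSucc))).Normal :=
      Subgroup.Normal.map inferInstance _ (QuotientGroup.mk'_surjective _)
    infer_instance
  have hLK : L ≤ K := by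
    intro g hg
    rw [hKmem]
    intro i a ha
    apply hcent i
    have : a⁻¹ * g * a * g⁻¹ = ⁅a⁻¹, g⁆ := by rw [commutatorElement_def]; group
    rw [this]
    exact Subgroup.commutator_mem_commutator (Subgroup.inv_mem _ ha) hg
  have hKp : IsPGroup p K := by
    apply isPGroup_of_pPrime_elements_trivial
    intro x hxK hxc
    rw [hKmem] at hxK
    let B : ℕ → Subgroup H := fun j => if h : j < n + 1 then A ⟨j, h⟩ else ⊥
    have hBeq : ∀ j (h : j < n + 1), B j = A ⟨j, h⟩ := fun j h => dif_pos h
    have hB0 : B 0 = ⊥ := by rw [hBeq 0 (by omega)]; exact h0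
    have hle : ∀ i : Fin (n + 1), A i ≤ pCore p H := by
      intro i
      rw [← hn]
      exact hmono (Fin.le_last i)
    have hBp : ∀ j ≤ n, IsPGroup p (B j) := by
      intro j hj
      have hj' : j < n + 1 := by omega
      rw [hBeq j hj']
      exact (pCore_isPGroup p).to_le (hle _)
    have hstep : ∀ j < n, ∀ r ∈ B (j + 1), r⁻¹ * x * r * x⁻¹ ∈ B j := by
      intro j hj r hr
      have hj1 : j + 1 < n + 1 := by omega
      have hj0 : j < n + 1 := by omega
      rw [hBeq _ hj1] at hr
      rw [hBeq _ hj0]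
      exact hxK ⟨j, hj⟩ r hr
    have hcomm := commute_of_stabilizes_chain x hxc B hB0 n hBp hstep n (le_refl n)
    have hBn : B n = pCore p H := by
      rw [hBeq n (by omega), ← hn]; rfl
    have hxC : x ∈ Subgroup.centralizer (pCore p H : Set H) := by
      rw [Subgroup.mem_centralizer_iff]
      intro r hr
      have hr' : r ∈ B n := by rw [hBn]; exact hr
      exact (hcomm r hr').symm
    have hxR : x ∈ pCore p H := hchar hxC
    obtain ⟨k, hk⟩ := (pCore_isPGroup (G := H) p) ⟨x, hxR⟩
    have hk' : x ^ p ^ k = 1 := by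
      have := congrArg Subtype.val hk
      simpa using this
    have hdvd : orderOf x ∣ p ^ k := orderOf_dvd_of_pow_eq_one hk'
    have : orderOf x = 1 := Nat.Coprime.eq_one_of_dvd (Nat.Coprime.pow_right k hxc) hdvd
    exact orderOf_eq_one_iff.mp this
  exact hLK.trans (le_pCore hKn hKp)

end Cfsg.Agent.S2810
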