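import Mathlib
import Cfsg.Agent.Lib.Helper6.PCore
import Cfsg.Statements.S2813

set_option autoImplicit false
open Cfsg Cfsg.Agent.Lib.Helper6
open scoped commutatorElement

namespace Cfsg.Agent.S2813

/-- Let K be a subgroup of the finite group H with O_p(K) = 1 and Y a p-subgroup of N_H(K) with [K, Y, Y] = 1. Then [K, Y] = 1. -/
theorem result {H : Type*} [Group H] [Finite H] {p : ℕ} [Fact p.Prime] (K : Subgroup H) (hO : Cfsg.pCore p ↥K = ⊥) (Y : Subgroup H) (hY : IsPGroup p ↥Y) (hYK : Y ≤ Subgroup.normalizer (K : Set H)) (hq : ⁅⁅K, Y⁆, Y⁆ = ⊥) : ⁅K, Y⁆ = ⊥ := by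
  have hp : p.Prime := Fact.out
  set A : Subgroup H := ⁅K, Y⁆ with hA
  have hAcent : A ≤ Subgroup.centralizer (Y : Set H) :=
    Subgroup.commutator_eq_bot_iff_le_centralizer.mp hq
  -- A ≤ K
  have hAK : A ≤ K := by
    rw [hA, Subgroup.commutator_le]
    intro k hk y hy
    have h1 : y * k⁻¹ * y⁻¹ ∈ K := (Subgroup.mem_normalizer_iff.mp (hYK hy) k⁻¹).mp (K.inv_mem hk)
    have : ⁅k, y⁆ = k * (y * k⁻¹ * y⁻¹) := by rw [commutatorElement_def]; group
    rw [this]
    exact K.mul_mem hk h1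
  -- K normalizes A
  have hKA : ∀ k' ∈ K, ∀ a ∈ A, k' * a * k'⁻¹ ∈ A := by
    intro k' hk'
    have hle : A.map (MulAut.conj k').toMonoidHom ≤ A := by
      rw [hA, Subgroup.commutator_def, MonoidHom.map_closure, Subgroup.closure_le]
      rintro _ ⟨_, ⟨k, hk, y, hy, rfl⟩, rfl⟩
      simp only [MulEquiv.coe_toMonoidHom, MulAut.conj_apply]
      have e : k' * ⁅k, y⁆ * k'⁻¹ = ⁅k' * k, y⁆ * ⁅k', y⁆⁻¹ := by
        simp only [commutatorElement_def]; group
      rw [e]
      exact Subgroup.mul_mem _ (Subgroup.commutator_mem_commutator (K.mul_mem hk' hk) hy)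
        (Subgroup.inv_mem _ (Subgroup.commutator_mem_commutator hk' hy))
    intro a ha
    exact hle ⟨a, ha, by simp [MulAut.conj_apply]⟩
  -- generators commute with A
  have hgen_comm : ∀ k ∈ K, ∀ y ∈ Y, ∀ a ∈ A, ⁅k, y⁆ * a = a * ⁅k, y⁆ := by
    intro k hk y hy a ha
    have h1 : k⁻¹ * a * k ∈ A := by
      have := hKA k⁻¹ (K.inv_mem hk) a ha
      simpa using this
    have h2 : y * (k⁻¹ * a * k) = (k⁻¹ * a * k) * y :=
      (Subgroup.mem_centralizer_iff.mp (hAcent h1) y hy)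
    have h3 : y * a = a * y := (Subgroup.mem_centralizer_iff.mp (hAcent ha) y hy)
    have h3' : y⁻¹ * a = a * y⁻¹ := by
      have : y⁻¹ * (y * a) * y⁻¹ = y⁻¹ * (a * y) * y⁻¹ := by rw [h3]
      calc y⁻¹ * a = y⁻¹ * (a * y) * y⁻¹ := by group
        _ = y⁻¹ * (y * a) * y⁻¹ := by rw [h3]
        _ = a * y⁻¹ := by group
    rw [commutatorElement_def]
    calc k * y * k⁻¹ * y⁻¹ * a = k * y * k⁻¹ * (y⁻¹ * a) := by group
      _ = k * y * k⁻¹ * (a * y⁻¹) := by rw [h3']
      _ = k * (y * (k⁻¹ * a * k)) * k⁻¹ * y⁻¹ := by group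
      _ = k * ((k⁻¹ * a * k) * y) * k⁻¹ * y⁻¹ := by rw [h2]
      _ = a * (k * y * k⁻¹ * y⁻¹) := by group
  -- generators are p-elements
  have hgen_p : ∀ k ∈ K, ∀ y ∈ Y, ∃ m : ℕ, ⁅k, y⁆ ^ p ^ m = 1 := by
    intro k hk y hy
    obtain ⟨m, hm⟩ := hY ⟨y, hy⟩
    have hym : y ^ p ^ m = 1 := by
      have := congrArg Subtype.val hm
      simpa using this
    refine ⟨m, ?_⟩
    have ha : ⁅k, y⁆ ∈ A := Subgroup.commutator_mem_commutator hk hy
    have hc : Commute ⁅k, y⁆ y := (Subgroup.mem_centralizer_iff.mp (hAcent ha) y hy).symm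
    have e : k * y * k⁻¹ = ⁅k, y⁆ * y := by rw [commutatorElement_def]; group
    have h1 : (k * y * k⁻¹) ^ p ^ m = 1 := by rw [conj_pow, hym]; group
    rw [e, hc.mul_pow, hym, mul_one] at h1
    exact h1
  -- A is a p-group
  have hAp : IsPGroup p A := by
    have key : ∀ a ∈ A, (∃ m : ℕ, a ^ p ^ m = 1) ∧ ∀ b ∈ A, a * b = b * a := by
      intro a ha
      rw [hA, Subgroup.commutator_def] at ha
      induction ha using Subgroup.closure_induction with
      | mem x hx =>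
        obtain ⟨k, hk, y, hy, rfl⟩ := hx
        exact ⟨hgen_p k hk y hy, hgen_comm k hk y hy⟩
      | one => exact ⟨⟨0, by simp⟩, fun b _ => by simp⟩
      | mul x y _ _ hx hy =>
        obtain ⟨⟨m1, h1⟩, c1⟩ := hx
        obtain ⟨⟨m2, h2⟩, c2⟩ := hy
        have hyA : y ∈ A := by rw [hA, Subgroup.commutator_def]; assumption
        refine ⟨⟨m1 + m2, ?_⟩, ?_⟩
        · have hc : Commute x y := c1 y hyA
          rw [hc.mul_pow, pow_add, pow_mul, h1, one_pow, mul_comm (p ^ m1), pow_mul, h2, one_pow,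
            one_mul]
        · intro b hb
          rw [mul_assoc, c2 b hb, ← mul_assoc, c1 b hb, mul_assoc]
      | inv x _ hx =>
        obtain ⟨⟨m1, h1⟩, c1⟩ := hx
        refine ⟨⟨m1, by rw [inv_pow, h1, inv_one]⟩, ?_⟩
        intro b hb
        have := c1 b hb
        calc x⁻¹ * b = x⁻¹ * (b * x) * x⁻¹ := by group
          _ = x⁻¹ * (x * b) * x⁻¹ := by rw [this]
          _ = b * x⁻¹ := by group
    rintro ⟨a, ha⟩
    obtain ⟨m, hm⟩ := (key a ha).1
    exact ⟨m, Subtype.ext (by simpa using hm)⟩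
  -- A.subgroupOf K is a normal p-subgroup of K
  have hnorm : (A.subgroupOf K).Normal := by
    constructor
    intro n hn g
    rw [Subgroup.mem_subgroupOf] at hn ⊢
    simpa using hKA g g.2 n hn
  have hle := le_pCore hnorm (hAp.comap_subtype)
  rw [hO, le_bot_iff, Subgroup.subgroupOf_eq_bot, disjoint_iff, inf_eq_left.mpr hAK] at hle
  exact hle

end Cfsg.Agent.S2813
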