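import Mathlib
import Cfsg.Agent.Lib.Helper6.SubnCl
import Cfsg.Agent.Lib.Helper6.PRes
import Cfsg.Agent.Lib.Lead.CoprimeAction2
import Cfsg.Statements.S2814

set_option autoImplicit false
open Cfsg

namespace Cfsg.Agent.S2814

open Cfsg.Agent.Lib.Helper6 Cfsg.Agent.Lib.Lead
open scoped commutatorElement

section
variable {H : Type*} [Group H]

theorem part1 [Finite H] (A K : Subgroup H) (hK : K = Cfsg.subnormalClosure A) :
    (Subgroup.normalClosure ((A.subgroupOf K : Subgroup ↥K) : Set ↥K)).map K.subtype = K := by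
  have hKsn : K.IsSubnormal := hK ▸ subnormalClosure_isSubnormal A
  have hAK : A ≤ K := hK ▸ le_subnormalClosure A
  apply le_antisymm (Subgroup.map_subtype_le _)
  have h1 : ((Subgroup.normalClosure ((A.subgroupOf K : Subgroup ↥K) : Set ↥K)).map
      K.subtype).IsSubnormal :=
    isSubnormal_map_subtype hKsn (Subgroup.normalClosure_normal.isSubnormal)
  have h2 : A ≤ (Subgroup.normalClosure ((A.subgroupOf K : Subgroup ↥K) : Set ↥K)).map
      K.subtype := by
    intro a ha
    exact ⟨⟨a, hAK ha⟩, Subgroup.subset_normalClosure (Subgroup.mem_subgroupOf.mpr ha), rfl⟩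
  calc K = Cfsg.subnormalClosure A := hK
    _ ≤ _ := subnormalClosure_le h2 h1

theorem part2 [Finite H] (A K : Subgroup H) (hK : K = Cfsg.subnormalClosure A) :
    Subgroup.normalizer (A : Set H) ≤ Subgroup.normalizer (K : Set H) := by
  have hKsn : K.IsSubnormal := hK ▸ subnormalClosure_isSubnormal A
  have hAK : A ≤ K := hK ▸ le_subnormalClosure A
  have key : ∀ n ∈ Subgroup.normalizer (A : Set H), ∀ x ∈ K, n * x * n⁻¹ ∈ K := by
    intro n hn x hx
    have h1 : (K.comap (MulAut.conj n).toMonoidHom).IsSubnormal := hKsn.comap _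
    have h2 : A ≤ K.comap (MulAut.conj n).toMonoidHom := by
      intro a ha
      rw [Subgroup.mem_comap]
      show n * a * n⁻¹ ∈ K
      exact hAK ((Subgroup.mem_normalizer_iff.mp hn a).mp ha)
    have h3 : K ≤ K.comap (MulAut.conj n).toMonoidHom := by
      calc K = Cfsg.subnormalClosure A := hK
        _ ≤ _ := subnormalClosure_le h2 h1
    exact h3 hx
  intro n hn
  rw [Subgroup.mem_normalizer_iff]
  intro x
  constructor
  · exact key n hn x
  · intro hx
    have := key n⁻¹ (Subgroup.inv_mem _ hn) _ hx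
    simpa [mul_assoc] using this

theorem part3 [Finite H] {p : ℕ} [Fact p.Prime] (A K : Subgroup H)
    (hK : K = Cfsg.subnormalClosure A) :
    A ⊔ (Cfsg.pResidual p ↥K).map K.subtype = K := by
  have hKsn : K.IsSubnormal := hK ▸ subnormalClosure_isSubnormal A
  have hAK : A ≤ K := hK ▸ le_subnormalClosure A
  apply le_antisymm (sup_le hAK (Subgroup.map_subtype_le _))
  set R : Subgroup ↥K := Cfsg.pResidual p ↥K with hR
  haveI hRn : R.Normal := pResidual_normal' p
  set B : Subgroup ↥K := A.subgroupOf K ⊔ R with hB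
  have hq : IsPGroup p (↥K ⧸ R) := isPGroup_quotient_pResidual p
  have hBsn : B.IsSubnormal := by
    have h1 : (B.map (QuotientGroup.mk' R)).IsSubnormal := isSubnormal_of_isPGroup hq _
    have h2 := h1.comap (QuotientGroup.mk' R)
    rwa [Subgroup.comap_map_eq_self] at h2
    rw [QuotientGroup.ker_mk']
    exact le_sup_right
  have h3 : (B.map K.subtype).IsSubnormal := isSubnormal_map_subtype hKsn hBsn
  have h4 : B.map K.subtype = A ⊔ R.map K.subtype := by
    rw [hB, Subgroup.map_sup, Subgroup.map_subgroupOf_eq_of_le hAK]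
  rw [← h4]
  have h5 : A ≤ B.map K.subtype := by rw [h4]; exact le_sup_left
  calc K = Cfsg.subnormalClosure A := hK
    _ ≤ _ := subnormalClosure_le h5 h3

theorem conj_mem_of_le_normalizer {D X : Subgroup H} (h : X ≤ Subgroup.normalizer (D : Set H))
    {x d : H} (hx : x ∈ X) (hd : d ∈ D) : x * d * x⁻¹ ∈ D :=
  (Subgroup.mem_normalizer_iff.mp (h hx) d).mp hd

theorem le_normalizer_of_conj_mem {D X : Subgroup H}
    (h : ∀ x ∈ X, ∀ d ∈ D, x * d * x⁻¹ ∈ D) : X ≤ Subgroup.normalizer (D : Set H) := by
  intro n hn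
  rw [Subgroup.mem_normalizer_iff]
  intro x
  constructor
  · exact h n hn x
  · intro hx
    have := h n⁻¹ (Subgroup.inv_mem _ hn) _ hx
    simpa [mul_assoc] using this

theorem part4 [Finite H] {p : ℕ} [Fact p.Prime] (A K : Subgroup H)
    (hK : K = Cfsg.subnormalClosure A) (hA : IsPGroup p ↥A) :
    ⁅(Cfsg.pResidual p ↥K).map K.subtype, A⁆ = (Cfsg.pResidual p ↥K).map K.subtype := by
  have hAK : A ≤ K := hK ▸ le_subnormalClosure A
  set R : Subgroup ↥K := Cfsg.pResidual p ↥K with hR
  haveI hRn : R.Normal := pResidual_normal' p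
  set R' : Subgroup H := R.map K.subtype with hR'
  have hR'K : R' ≤ K := Subgroup.map_subtype_le _
  have hKR' : K ≤ Subgroup.normalizer (R' : Set H) := by
    apply le_normalizer_of_conj_mem
    rintro k hk _ ⟨r, hr, rfl⟩
    exact ⟨⟨k, hk⟩ * r * ⟨k, hk⟩⁻¹, hRn.conj_mem r hr ⟨k, hk⟩, by simp⟩
  have hAR' : A ≤ Subgroup.normalizer (R' : Set H) := hAK.trans hKR'
  set C : Subgroup H := ⁅R', A⁆ with hC
  have hCR' : C ≤ R' := commutator_le_left_of_le_normalizer R' A hAR'
  have hAC : A ≤ Subgroup.normalizer (C : Set H) := le_normalizer_commutator_right R' A hAR'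
  have hRC : R' ≤ Subgroup.normalizer (C : Set H) := le_normalizer_commutator_left R' A
  have hKeq : A ⊔ R' = K := part3 A K hK
  have hKC : K ≤ Subgroup.normalizer (C : Set H) := by
    rw [← hKeq]; exact sup_le hAC hRC
  -- D = A ⊔ C is normal in K
  set D : Subgroup H := A ⊔ C with hD
  have hKD : K ≤ Subgroup.normalizer (D : Set H) := by
    rw [← hKeq]
    apply sup_le
    · -- A normalizes A ⊔ C
      apply le_normalizer_of_conj_mem
      intro a ha d hd
      have h1 : D ≤ D.comap (MulAut.conj a).toMonoidHom := by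
        rw [hD]
        apply sup_le
        · intro b hb
          rw [Subgroup.mem_comap]
          show a * b * a⁻¹ ∈ A ⊔ C
          exact Subgroup.mem_sup_left (A.mul_mem (A.mul_mem ha hb) (A.inv_mem ha))
        · intro c hc
          rw [Subgroup.mem_comap]
          show a * c * a⁻¹ ∈ A ⊔ C
          exact Subgroup.mem_sup_right (conj_mem_of_le_normalizer hAC ha hc)
      exact h1 hd
    · apply le_normalizer_of_conj_mem
      intro r hr d hd
      have h1 : D ≤ D.comap (MulAut.conj r).toMonoidHom := by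
        rw [hD]
        apply sup_le
        · intro b hb
          rw [Subgroup.mem_comap]
          show r * b * r⁻¹ ∈ A ⊔ C
          have e : r * b * r⁻¹ = ⁅r, b⁆ * b := by rw [commutatorElement_def]; group
          rw [e]
          exact Subgroup.mul_mem _
            (Subgroup.mem_sup_right (Subgroup.commutator_mem_commutator hr hb))
            (Subgroup.mem_sup_left hb)
        · intro c hc
          rw [Subgroup.mem_comap]
          show r * c * r⁻¹ ∈ A ⊔ C
          exact Subgroup.mem_sup_right (conj_mem_of_le_normalizer hRC hr hc)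
      exact h1 hd
  have hDn : (D.subgroupOf K).Normal := by
    constructor
    intro n hn k
    rw [Subgroup.mem_subgroupOf] at hn ⊢
    have := conj_mem_of_le_normalizer hKD k.2 hn
    simpa using this
  have hKD' : K ≤ D := by
    have h1 := part1 A K hK
    have h2 : A.subgroupOf K ≤ D.subgroupOf K := by
      intro a ha
      rw [Subgroup.mem_subgroupOf] at ha ⊢
      exact Subgroup.mem_sup_left ha
    have h3 := @Subgroup.normalClosure_le_normal _ _ _ _ hDn h2
    calc K = _ := h1.symm
      _ ≤ (D.subgroupOf K).map K.subtype := Subgroup.map_mono h3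
      _ ≤ D := by
        rintro _ ⟨x, hx, rfl⟩
        exact Subgroup.mem_subgroupOf.mp hx
  -- the quotient K / C is a p-group
  have hCn : (C.subgroupOf K).Normal := by
    constructor
    intro n hn k
    rw [Subgroup.mem_subgroupOf] at hn ⊢
    have := conj_mem_of_le_normalizer hKC k.2 hn
    simpa using this
  have hCK : C ≤ K := hCR'.trans hR'K
  have htop : A.subgroupOf K ⊔ C.subgroupOf K = ⊤ := by
    rw [← Subgroup.subgroupOf_sup hAK hCK, ← hD]
    rw [eq_top_iff]
    intro x _
    rw [Subgroup.mem_subgroupOf]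
    exact hKD' x.2
  have hq : IsPGroup p (↥K ⧸ C.subgroupOf K) := by
    intro x
    obtain ⟨x, rfl⟩ := QuotientGroup.mk_surjective x
    have hx : x ∈ A.subgroupOf K ⊔ C.subgroupOf K := by rw [htop]; trivial
    rw [Subgroup.mem_sup_of_normal_right] at hx
    obtain ⟨y, hy, z, hz, rfl⟩ := hx
    obtain ⟨k, hk⟩ := hA ⟨(y : H), Subgroup.mem_subgroupOf.mp hy⟩
    refine ⟨k, ?_⟩
    have hyk : y ^ p ^ k = 1 := by
      apply Subtype.ext
      have := congrArg Subtype.val hk
      simpa using this
    have e : ((y * z : ↥K) : ↥K ⧸ C.subgroupOf K) = (y : ↥K ⧸ C.subgroupOf K) := by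
      rw [QuotientGroup.mk_mul, (QuotientGroup.eq_one_iff z).mpr hz, mul_one]
    rw [e, ← QuotientGroup.mk_pow, hyk]
    rfl
  have hRC' : R ≤ C.subgroupOf K := pResidual_le_of_isPGroup_quotient _ hq
  apply le_antisymm hCR'
  rintro _ ⟨r, hr, rfl⟩
  exact Subgroup.mem_subgroupOf.mp (hRC' hr)

end

/-- Let A be a subgroup of the finite group H and K the subnormal closure of A (intersection of the subnormal subgroups containing A). Then K is the normal closure of A inside K and N_H(A) ≤ N_H(K); K = A·O^p(K), O^p(K) being generated by the elements of K of order prime to p; and if A is a p-group, O^p(K) = [O^p(K), A]. -/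
theorem result {H : Type*} [Group H] [Finite H] {p : ℕ} [Fact p.Prime] (A : Subgroup H) (K : Subgroup H) (hK : K = Cfsg.subnormalClosure A) : (Subgroup.normalClosure ((A.subgroupOf K : Subgroup ↥K) : Set ↥K)).map K.subtype = K ∧ Subgroup.normalizer (A : Set H) ≤ Subgroup.normalizer (K : Set H) ∧ A ⊔ (Cfsg.pResidual p ↥K).map K.subtype = K ∧ (IsPGroup p ↥A → ⁅(Cfsg.pResidual p ↥K).map K.subtype, A⁆ = (Cfsg.pResidual p ↥K).map K.subtype) := by
  exact ⟨part1 A K hK, part2 A K hK, part3 A K hK, part4 A K hK⟩

end Cfsg.Agent.S2814
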