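import Mathlib
import Cfsg.Agent.Lib.Helper6.FStarAct2
import Cfsg.Statements.S2816

set_option autoImplicit false
open Cfsg

namespace Cfsg.Agent.S2816

open Cfsg.Agent.Lib.Helper3 Cfsg.Agent.Lib.Helper6


/-- Let H be a finite group and p a prime with O_p(H) = 1, and Y a p-subgroup of H. Then for every subnormal subgroup K of H containing Y, [F*(H), Y] = [F*(K), Y] = [F*(K), Y, Y]; and if Y₀ ≤ Y with [F*(H), Y, Y₀] = 1 then Y₀ = 1 (in particular [F*(H), Y] = 1 forces Y = 1). -/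
theorem result {H : Type*} [Group H] [Finite H] {p : ℕ} [Fact p.Prime] (hO : Cfsg.pCore p H = ⊥) (Y : Subgroup H) (hY : IsPGroup p ↥Y) : (∀ K : Subgroup H, K.IsSubnormal → Y ≤ K → ⁅Cfsg.generalizedFittingSubgroup H, Y⁆ = ⁅(Cfsg.generalizedFittingSubgroup ↥K).map K.subtype, Y⁆ ∧ ⁅(Cfsg.generalizedFittingSubgroup ↥K).map K.subtype, Y⁆ = ⁅⁅(Cfsg.generalizedFittingSubgroup ↥K).map K.subtype, Y⁆, Y⁆) ∧ (∀ Y₀ : Subgroup H, Y₀ ≤ Y → ⁅⁅Cfsg.generalizedFittingSubgroup H, Y⁆, Y₀⁆ = ⊥ → Y₀ = ⊥) := by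
  set L := Cfsg.generalizedFittingSubgroup H with hL
  haveI hLn : L.Normal := generalizedFittingSubgroup_normal
  have hnorm : ∀ Z : Subgroup H, Z ≤ Subgroup.normalizer (L : Set H) := by
    intro Z
    rw [Subgroup.normalizer_eq_top_iff.mpr hLn]; exact le_top
  have hdec : ∀ Z : Subgroup H, IsPGroup p Z → ⁅L, Z⁆ = ⁅⁅L, Z⁆, Z⁆ := fun Z hZ =>
    (commutator_decomp_of_le_generalizedFittingSubgroup hO Z hZ L le_rfl hLn.isSubnormal (hnorm Z)).2
  constructor
  · intro K hK hYK
    set LK := (Cfsg.generalizedFittingSubgroup ↥K).map K.subtype with hLK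
    have hLKeq : LK = L ⊓ K := generalizedFittingSubgroup_map_subtype_eq_of_isSubnormal hK
    have hLKsn : LK.IsSubnormal := by
      rw [hLKeq]; exact hLn.isSubnormal.inf hK
    have hYLK : Y ≤ Subgroup.normalizer (LK : Set H) := by
      rw [hLKeq]
      refine le_trans (le_inf (hnorm Y) (hYK.trans Subgroup.le_normalizer)) (normalizer_inf_le _ _)
    have h2 := (commutator_decomp_of_le_generalizedFittingSubgroup hO Y hY LK
      (hLKeq ▸ inf_le_left) hLKsn hYLK).2
    refine ⟨?_, h2⟩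
    apply le_antisymm
    · have h3 : ⁅L, Y⁆ ≤ K := commutator_le_of_isSubnormal_of_stable L Y (hdec Y hY) hK hYK
      have h4 : ⁅L, Y⁆ ≤ L := Cfsg.Agent.Lib.Lead.commutator_le_left_of_le_normalizer L Y (hnorm Y)
      rw [hdec Y hY]
      refine Subgroup.commutator_mono ?_ le_rfl
      rw [hLKeq]; exact le_inf h4 h3
    · exact Subgroup.commutator_mono (hLKeq ▸ inf_le_left) le_rfl
  · intro Y₀ hY₀ h0
    have hY₀p : IsPGroup p Y₀ := hY.to_le hY₀
    have h1 : ⁅L, Y₀⁆ = ⊥ := by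
      rw [hdec Y₀ hY₀p, eq_bot_iff, ← h0]
      exact Subgroup.commutator_mono (Subgroup.commutator_mono le_rfl hY₀) le_rfl
    rw [Subgroup.commutator_comm, Subgroup.commutator_eq_bot_iff_le_centralizer] at h1
    have h2 : Y₀ ≤ L ⊓ Subgroup.centralizer (L : Set H) :=
      le_inf (h1.trans centralizer_generalizedFittingSubgroup_le) h1
    set Z := L ⊓ Subgroup.centralizer (L : Set H) with hZ
    haveI hCn : (Subgroup.centralizer (L : Set H)).Normal := Subgroup.normal_centralizer (H := L)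
    haveI hZn : Z.Normal := inferInstance
    haveI hZnil : Group.IsNilpotent Z := by
      apply isNilpotent_of_le_centralizer
      exact inf_le_right.trans (Subgroup.centralizer_le inf_le_left)
    have hcop := coprime_card_of_nilpotent_normal_of_pCore_eq_bot hO Z
    obtain ⟨k, hk⟩ := IsPGroup.iff_card.mp hY₀p
    have hdvd : Nat.card Y₀ ∣ Nat.card Z := Subgroup.card_dvd_of_le h2
    have h3 : Nat.card Y₀ = 1 := by
      have h4 : (Nat.card Y₀).Coprime (Nat.card Y₀) := by
        refine Nat.Coprime.coprime_dvd_right hdvd ?_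
        rw [hk]
        exact Nat.Coprime.pow_left k hcop.symm
      exact (Nat.coprime_self _).mp h4
    exact Subgroup.card_eq_one.mp h3

end Cfsg.Agent.S2816
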