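import Mathlib
import Cfsg.Agent.Lib.Helper6.FStarAct3
import Cfsg.Agent.Lib.Helper6.PRes
import Cfsg.Agent.S2816
import Cfsg.Statements.S2815

set_option autoImplicit false
open Cfsg

namespace Cfsg.Agent.S2815

open Cfsg.Agent.Lib.Helper3 Cfsg.Agent.Lib.Helper6
open scoped commutatorElement

section helpers
variable {G : Type*} [Group G]

/-- a perfect subgroup lies in the kernel of every homomorphism to a solvable group -/
theorem perfect_le_ker {S : Type*} [Group S] [hS : Group.IsSolvable S] (f : G →* S) (J : Subgroup G)
    (hJ : ⁅J, J⁆ = J) : J ≤ f.ker := by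
  have h : ∀ n : ℕ, J.map f ≤ derivedSeries S n := by
    intro n
    induction n with
    | zero => exact le_top
    | succ n ih =>
      rw [derivedSeries_succ]
      calc J.map f = (⁅J, J⁆).map f := by rw [hJ]
        _ = ⁅J.map f, J.map f⁆ := Subgroup.map_commutator _ _ _
        _ ≤ _ := Subgroup.commutator_mono ih ih
  obtain ⟨n, hn⟩ := hS.solvable
  intro x hx
  have := h n ⟨x, hx, rfl⟩
  rw [hn, Subgroup.mem_bot] at this
  exact this

end helpers



/-- Let H be a finite group and p a prime dividing its order with O_p(H) = 1, and suppose K = O^p(H) (generated by the elements of order prime to p) is quasisimple. Then K = F*(H); for every nontrivial p-subgroup Y of H, K = [K, Y] and K lies in the subgroup generated by the K-conjugates of Y; every normal subgroup of H not containing K has order prime to p; and H is p-irreducible. -/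
theorem result {H : Type*} [Group H] [Finite H] {p : ℕ} [Fact p.Prime] (hp : p ∣ Nat.card H) (hO : Cfsg.pCore p H = ⊥) (hq : Cfsg.IsQuasisimple ↥(Cfsg.pResidual p H)) : Cfsg.pResidual p H = Cfsg.generalizedFittingSubgroup H ∧ (∀ Y : Subgroup H, IsPGroup p ↥Y → Y ≠ ⊥ → ⁅Cfsg.pResidual p H, Y⁆ = Cfsg.pResidual p H ∧ Cfsg.pResidual p H ≤ ⨆ k : ↥(Cfsg.pResidual p H), Y.map (MulAut.conj (k : H)).toMonoidHom) ∧ (∀ C : Subgroup H, C.Normal → ¬ Cfsg.pResidual p H ≤ C → (Nat.card ↥C).Coprime p) ∧ Cfsg.IsPIrreducible p H := by
  classical
  set K := Cfsg.pResidual p H with hK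
  haveI hKn : K.Normal := inferInstance
  have hnormK : ∀ Z : Subgroup H, Z ≤ Subgroup.normalizer (K : Set H) := by
    intro Z
    rw [Subgroup.normalizer_eq_top_iff.mpr hKn]; exact le_top
  have hKcomp : IsComponent K := ⟨hKn.isSubnormal, hq⟩
  have hpg : IsPGroup p (H ⧸ K) := isPGroup_quotient_pResidual p
  haveI : Group.IsNilpotent (H ⧸ K) := hpg.isNilpotent
  have h1 : K = Cfsg.generalizedFittingSubgroup H := by
    apply le_antisymm
    · exact (IsComponent.le_layer hKcomp).trans layer_le_generalizedFittingSubgroup
    · unfold Cfsg.generalizedFittingSubgroup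
      apply sup_le
      · rw [layer_le_iff]
        intro J hJ
        have := perfect_le_ker (QuotientGroup.mk' K) J (IsQuasisimple.commutator_eq_self hJ.2)
        rwa [QuotientGroup.ker_mk'] at this
      · intro x hx
        apply mem_pResidual_of_coprime'
        refine Nat.Coprime.coprime_dvd_left ?_ (coprime_card_fittingSubgroup hO)
        have : orderOf x = orderOf (⟨x, hx⟩ : fittingSubgroup H) := (Subgroup.orderOf_mk x hx).symm
        rw [this]
        exact orderOf_dvd_natCard _
  have hcent : Subgroup.centralizer (K : Set H) ≤ K := by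
    have := centralizer_generalizedFittingSubgroup_le (G := H)
    rwa [← h1] at this
  have hperf : ⁅K, K⁆ = K := IsQuasisimple.commutator_eq_self hq
  -- normal subgroups not containing `K` have order prime to `p`
  have h3 : ∀ C : Subgroup H, C.Normal → ¬ K ≤ C → (Nat.card ↥C).Coprime p := by
    intro C hC hKC
    have hCK : ⁅K, C⁆ = ⊥ := by
      rcases quasisimple_le_commutator_or K C K (hnormK C) hq le_rfl (hnormK K) with h | h
      · exfalso
        apply hKC
        refine h.trans ?_
        rw [Subgroup.commutator_comm]
        apply Cfsg.Agent.Lib.Lead.commutator_le_left_of_le_normalizer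
        rw [Subgroup.normalizer_eq_top_iff.mpr hC]; exact le_top
      · exact h
    rw [Subgroup.commutator_comm, Subgroup.commutator_eq_bot_iff_le_centralizer] at hCK
    set Z := K ⊓ Subgroup.centralizer (K : Set H) with hZ
    have hCZ : C ≤ Z := le_inf (hCK.trans hcent) hCK
    haveI hCn : (Subgroup.centralizer (K : Set H)).Normal := Subgroup.normal_centralizer (H := K)
    haveI hZn : Z.Normal := inferInstance
    haveI hZnil : Group.IsNilpotent Z := by
      apply isNilpotent_of_le_centralizer
      exact inf_le_right.trans (Subgroup.centralizer_le inf_le_left)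
    exact Nat.Coprime.coprime_dvd_left (Subgroup.card_dvd_of_le hCZ)
      (coprime_card_of_nilpotent_normal_of_pCore_eq_bot hO Z)
  refine ⟨h1, ?_, h3, ?_⟩
  · intro Y hY hYne
    have h2 : ⁅K, Y⁆ = K := by
      rcases quasisimple_le_commutator_or K Y K (hnormK Y) hq le_rfl (hnormK K) with h | h
      · exact le_antisymm
          (Cfsg.Agent.Lib.Lead.commutator_le_left_of_le_normalizer K Y (hnormK Y)) h
      · exfalso
        apply hYne
        apply (Cfsg.Agent.S2816.result hO Y hY).2 Y le_rfl
        rw [← h1, h, Subgroup.commutator_bot_left]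
    refine ⟨h2, ?_⟩
    set W := ⨆ k : ↥K, Y.map (MulAut.conj (k : H)).toMonoidHom with hW
    have hYW : Y ≤ W := by
      refine le_trans ?_ (le_iSup (fun k : ↥K => Y.map (MulAut.conj (k : H)).toMonoidHom) 1)
      intro y hy
      exact ⟨y, hy, by simp⟩
    calc K = ⁅K, Y⁆ := h2.symm
      _ ≤ W := by
        rw [Subgroup.commutator_le]
        intro k hk y hy
        rw [commutatorElement_def]
        have h3 : k * y * k⁻¹ ∈ W := by
          have := le_iSup (fun k : ↥K => Y.map (MulAut.conj (k : H)).toMonoidHom) ⟨k, hk⟩
          apply this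
          exact ⟨y, hy, by simp [MulAut.conj_apply]⟩
        exact W.mul_mem h3 (W.inv_mem (hYW hy))
  · constructor
    · intro hcl
      obtain ⟨P⟩ : Nonempty (Sylow p H) := inferInstance
      have hPn := hcl P
      have hle := Cfsg.Agent.Lib.Lead.le_pCore hPn P.isPGroup'
      rw [hO, le_bot_iff] at hle
      exact P.ne_bot_of_dvd_card hp hle
    · intro N hN hNcl
      by_contra hKN
      apply hNcl
      intro P
      have hcop := h3 N hN hKN
      have hP : (P : Subgroup N) = ⊥ := by
        by_contra hne
        apply hne
        rw [← Subgroup.card_eq_one]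
        obtain ⟨k, hk⟩ := IsPGroup.iff_card.mp P.isPGroup'
        have hdvd : Nat.card (P : Subgroup N) ∣ Nat.card N := Subgroup.card_subgroup_dvd_card _
        have h4 : (Nat.card (P : Subgroup N)).Coprime (Nat.card (P : Subgroup N)) := by
          refine Nat.Coprime.coprime_dvd_right hdvd ?_
          rw [hk]
          exact Nat.Coprime.pow_left k hcop.symm
        exact (Nat.coprime_self _).mp h4
      rw [hP]
      infer_instance

end Cfsg.Agent.S2815
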