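import Mathlib
import Cfsg.Agent.Lib.Helper6.FStarAct3
import Cfsg.Agent.S2816
import Cfsg.Agent.S2811
import Cfsg.Statements.S2817

set_option autoImplicit false
open Cfsg

namespace Cfsg.Agent.S2817

open Cfsg.Agent.Lib.Helper3 Cfsg.Agent.Lib.Helper6
open scoped commutatorElement

section helpers
variable {G : Type*} [Group G]

theorem normalizer_inf_le_normalizer_sup (A B : Subgroup G) :
    Subgroup.normalizer (A : Set G) ⊓ Subgroup.normalizer (B : Set G) ≤
      Subgroup.normalizer ((A ⊔ B : Subgroup G) : Set G) := by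
  intro g hg
  rw [Cfsg.Agent.Lib.Lead.mem_normalizer_iff_conj_smul, Subgroup.smul_sup,
    (Cfsg.Agent.Lib.Lead.mem_normalizer_iff_conj_smul g A).mp hg.1,
    (Cfsg.Agent.Lib.Lead.mem_normalizer_iff_conj_smul g B).mp hg.2]

theorem normalizer_le_normalizer_centralizer (A : Subgroup G) :
    Subgroup.normalizer (A : Set G) ≤
      Subgroup.normalizer ((Subgroup.centralizer (A : Set G) : Subgroup G) : Set G) := by
  have key : ∀ g ∈ Subgroup.normalizer (A : Set G), ∀ c ∈ Subgroup.centralizer (A : Set G),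
      g * c * g⁻¹ ∈ Subgroup.centralizer (A : Set G) := by
    intro g hg c hc
    rw [Subgroup.mem_centralizer_iff]
    intro a ha
    have ha' : g⁻¹ * a * g ∈ A := by
      have := (Subgroup.mem_normalizer_iff.mp (Subgroup.inv_mem _ hg) a).mp ha
      simpa using this
    have h1 := Subgroup.mem_centralizer_iff.mp hc _ ha'
    calc a * (g * c * g⁻¹) = g * ((g⁻¹ * a * g) * c) * g⁻¹ := by group
      _ = g * (c * (g⁻¹ * a * g)) * g⁻¹ := by rw [h1]
      _ = g * c * g⁻¹ * a := by group
  intro g hg
  rw [Subgroup.mem_normalizer_iff]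
  intro c
  constructor
  · exact key g hg c
  · intro h
    have := key g⁻¹ (Subgroup.inv_mem _ hg) _ h
    have e1 : g⁻¹ * (g * c * g⁻¹) * g⁻¹⁻¹ = c := by group
    rwa [e1] at this

end helpers



/-- Let H be a finite group and p a prime with O_p(H) = 1, Q a p-subgroup of H, L = [F*(H), Q], and F the largest normal subgroup of F*(H) centralized by Q (a normal subgroup of F*(H) centralized by Q and containing every such). Then F = C_{F*(H)}(LQ); L = [L, Q]; L ∩ F ≤ Φ(L); every p-subgroup B of N_H(Q) with [L, B] ≤ F satisfies [L, B] = 1; and C_H(FL) has order prime to p. -/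
theorem result {H : Type*} [Group H] [Finite H] {p : ℕ} [Fact p.Prime] (hO : Cfsg.pCore p H = ⊥) (Q : Subgroup H) (hQ : IsPGroup p ↥Q) (L : Subgroup H) (hL : L = ⁅Cfsg.generalizedFittingSubgroup H, Q⁆) (F : Subgroup H) (hF : F ≤ Cfsg.generalizedFittingSubgroup H ∧ Cfsg.generalizedFittingSubgroup H ≤ Subgroup.normalizer (F : Set H) ∧ Q ≤ Subgroup.centralizer (F : Set H) ∧ ∀ N : Subgroup H, N ≤ Cfsg.generalizedFittingSubgroup H → Cfsg.generalizedFittingSubgroup H ≤ Subgroup.normalizer (N : Set H) → Q ≤ Subgroup.centralizer (N : Set H) → N ≤ F) : F = Cfsg.generalizedFittingSubgroup H ⊓ Subgroup.centralizer ((L ⊔ Q : Subgroup H) : Set H) ∧ ⁅L, Q⁆ = L ∧ L ⊓ F ≤ (frattini ↥L).map L.subtype ∧ (∀ B : Subgroup H, IsPGroup p ↥B → B ≤ Subgroup.normalizer (Q : Set H) → ⁅L, B⁆ ≤ F → ⁅L, B⁆ = ⊥) ∧ (Nat.card ↥(Subgroup.centralizer ((F ⊔ L : Subgroup H) : Set H))).Coprime p := by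
  classical
  obtain ⟨hFE, hEF, hQF, hFmax⟩ := hF
  set E := Cfsg.generalizedFittingSubgroup H with hE
  haveI hEn : E.Normal := generalizedFittingSubgroup_normal
  have hnormE : ∀ Z : Subgroup H, Z ≤ Subgroup.normalizer (E : Set H) := by
    intro Z
    rw [Subgroup.normalizer_eq_top_iff.mpr hEn]; exact le_top
  have hdecE := commutator_decomp_of_le_generalizedFittingSubgroup hO Q hQ E le_rfl
    hEn.isSubnormal (hnormE Q)
  rw [← hL] at hdecE
  obtain ⟨hE1, hE2⟩ := hdecE
  have hLE : L ≤ E := hL ▸ Cfsg.Agent.Lib.Lead.commutator_le_left_of_le_normalizer E Q (hnormE Q)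
  have hEL : E ≤ Subgroup.normalizer (L : Set H) :=
    hL ▸ Cfsg.Agent.Lib.Lead.le_normalizer_commutator_left E Q
  have hQL : Q ≤ Subgroup.normalizer (L : Set H) :=
    hL ▸ Cfsg.Agent.Lib.Lead.le_normalizer_commutator_right E Q (hnormE Q)
  have hLsn : L.IsSubnormal := by
    apply Subgroup.IsSubnormal.trans hLE _ hEn.isSubnormal
    exact ((Subgroup.normal_subgroupOf_iff_le_normalizer hLE).mpr hEL).isSubnormal
  -- `F` centralises `L`
  have hFQ : ⁅Q, F⁆ = ⊥ := Subgroup.commutator_eq_bot_iff_le_centralizer.mpr hQF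
  have hFL : ⁅L, F⁆ = ⊥ := by
    rw [hL]
    apply Subgroup.commutator_commutator_eq_bot_of_rotate
    · rw [hFQ, Subgroup.commutator_bot_left]
    · rw [eq_bot_iff, ← hFQ, Subgroup.commutator_comm Q F]
      refine Subgroup.commutator_mono ?_ le_rfl
      exact Cfsg.Agent.Lib.Lead.commutator_le_left_of_le_normalizer F E hEF
  have hFcL : F ≤ Subgroup.centralizer (L : Set H) := by
    rw [← Subgroup.commutator_eq_bot_iff_le_centralizer, Subgroup.commutator_comm]; exact hFL
  have hFcQ : F ≤ Subgroup.centralizer (Q : Set H) := by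
    rw [← Subgroup.commutator_eq_bot_iff_le_centralizer, Subgroup.commutator_comm]; exact hFQ
  -- (a)
  have ha : F = E ⊓ Subgroup.centralizer ((L ⊔ Q : Subgroup H) : Set H) := by
    apply le_antisymm
    · intro x hx
      exact ⟨hFE hx, mem_centralizer_sup.mpr ⟨hFcL hx, hFcQ hx⟩⟩
    · apply hFmax _ inf_le_left
      · intro e he
        have key : ∀ e ∈ E, ∀ n ∈ E ⊓ Subgroup.centralizer ((L ⊔ Q : Subgroup H) : Set H),
            e * n * e⁻¹ ∈ E ⊓ Subgroup.centralizer ((L ⊔ Q : Subgroup H) : Set H) := by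
          intro e he n hn
          obtain ⟨hnE, hnc⟩ := hn
          obtain ⟨hnL, hnQ⟩ := mem_centralizer_sup.mp hnc
          have hcL : e * n * e⁻¹ ∈ Subgroup.centralizer (L : Set H) := by
            rw [Subgroup.mem_centralizer_iff]
            intro l hl
            have hl' : e⁻¹ * l * e ∈ L := by
              have := (Subgroup.mem_normalizer_iff.mp (hEL (E.inv_mem he)) l).mp hl
              simpa using this
            have h1 := Subgroup.mem_centralizer_iff.mp hnL _ hl'
            calc l * (e * n * e⁻¹) = e * ((e⁻¹ * l * e) * n) * e⁻¹ := by group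
              _ = e * (n * (e⁻¹ * l * e)) * e⁻¹ := by rw [h1]
              _ = e * n * e⁻¹ * l := by group
          refine ⟨hEn.conj_mem n hnE e, mem_centralizer_sup.mpr ⟨hcL, ?_⟩⟩
          rw [Subgroup.mem_centralizer_iff]
          intro q hq
          -- `q e q⁻¹ = c e` with `c ∈ L`
          have hc : q * e * q⁻¹ * e⁻¹ ∈ L := by
            rw [hL, Subgroup.commutator_comm]
            exact Subgroup.commutator_mem_commutator hq he
          have h1 := Subgroup.mem_centralizer_iff.mp hcL _ hc
          have h2 := Subgroup.mem_centralizer_iff.mp hnQ q hq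
          have h3 : q * n * q⁻¹ = n := by rw [h2]; group
          calc q * (e * n * e⁻¹) = (q * e * q⁻¹ * e⁻¹) * (e * (q * n * q⁻¹) * e⁻¹) * (q * e * q⁻¹ * e⁻¹)⁻¹ * q := by
                group
            _ = (q * e * q⁻¹ * e⁻¹) * (e * n * e⁻¹) * (q * e * q⁻¹ * e⁻¹)⁻¹ * q := by rw [h3]
            _ = (e * n * e⁻¹) * (q * e * q⁻¹ * e⁻¹) * (q * e * q⁻¹ * e⁻¹)⁻¹ * q := by rw [h1]
            _ = e * n * e⁻¹ * q := by group
        rw [Subgroup.mem_normalizer_iff]
        intro n
        constructor
        · exact key e he n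
        · intro h
          have := key e⁻¹ (E.inv_mem he) _ h
          have e1 : e⁻¹ * (e * n * e⁻¹) * e⁻¹⁻¹ = n := by group
          rwa [e1] at this
      · intro q hq
        rw [Subgroup.mem_centralizer_iff]
        intro n hn
        have := (mem_centralizer_sup.mp hn.2).2
        exact (Subgroup.mem_centralizer_iff.mp this q hq).symm
  have hcopF : ∀ R : Subgroup H, R ≤ fittingSubgroup H → ∀ Z : Subgroup H, IsPGroup p Z →
      (Nat.card Z).Coprime (Nat.card R) := by
    intro R hR Z hZ
    obtain ⟨k, hk⟩ := IsPGroup.iff_card.mp hZ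
    rw [hk]
    apply Nat.Coprime.pow_left
    rw [Nat.coprime_comm]
    exact Nat.Coprime.coprime_dvd_left (Subgroup.card_dvd_of_le hR) (coprime_card_fittingSubgroup hO)
  -- (c)
  have hc : L ⊓ F ≤ (frattini ↥L).map L.subtype := by
    intro x hx
    have hxL : x ∈ L := hx.1
    have h1 : x ∈ ⁅L, L⁆ := by
      apply coprime_fixed_le_commutator Q L (fittingSubgroup H ⊓ L) hQL hE2.symm inf_le_right ?_
        (hcopF _ inf_le_left Q hQ) ⟨hxL, hFcQ hx.2⟩
      have h2 := le_layer_sup_fitting_of_le_generalizedFittingSubgroup hLsn hLE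
      rw [layer_map_subtype_eq hLsn, sup_comm] at h2
      refine h2.trans (sup_le_sup le_rfl (sSup_le ?_))
      rintro K ⟨hK, hKL⟩
      rw [← IsQuasisimple.commutator_eq_self hK.2]
      exact Subgroup.commutator_mono hKL hKL
    rw [← Subgroup.map_subtype_commutator] at h1
    obtain ⟨y, hy, hyx⟩ := h1
    refine ⟨y, ?_, hyx⟩
    apply center_inf_commutator_le_frattini
    refine ⟨?_, hy⟩
    show y ∈ Subgroup.center L
    rw [Subgroup.mem_center_iff]
    intro z
    apply Subtype.ext
    have := Subgroup.mem_centralizer_iff.mp (hFcL hx.2) z z.2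
    rw [Subgroup.coe_mul, Subgroup.coe_mul]
    have hyx' : (y : H) = x := hyx
    rw [hyx']
    exact this
  -- (d)
  have hd : ∀ B : Subgroup H, IsPGroup p ↥B → B ≤ Subgroup.normalizer (Q : Set H) → ⁅L, B⁆ ≤ F →
      ⁅L, B⁆ = ⊥ := by
    intro B hBp hBQ hLB
    have hBL : B ≤ Subgroup.normalizer (L : Set H) := by
      rw [hL]
      exact (le_inf (hnormE B) hBQ).trans
        (Cfsg.Agent.Lib.Lead.normalizer_inf_le_normalizer_commutator E Q)
    have h1 := (commutator_decomp_of_le_generalizedFittingSubgroup hO B hBp L hLE hLsn hBL).1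
    have h2 : ⁅L, B⁆ ≤ Cfsg.Agent.S2811.Fr L :=
      (le_inf (Cfsg.Agent.Lib.Lead.commutator_le_left_of_le_normalizer L B hBL) hLB).trans hc
    have h3 : (L ⊓ Subgroup.centralizer (B : Set H)) ⊔ Cfsg.Agent.S2811.Fr L = L := by
      apply le_antisymm (sup_le inf_le_left (Cfsg.Agent.S2811.Fr_le L))
      rw [sup_comm]
      calc L = ⁅L, B⁆ ⊔ (L ⊓ Subgroup.centralizer (B : Set H)) := h1.symm
        _ ≤ _ := sup_le_sup h2 le_rfl
    have h4 := Cfsg.Agent.S2811.Fr_nongen inf_le_left h3
    rw [Subgroup.commutator_eq_bot_iff_le_centralizer, ← h4]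
    exact inf_le_right
  refine ⟨ha, hE2.symm, hc, hd, ?_⟩
  -- (e)
  set A := F ⊔ L with hA
  set C := Subgroup.centralizer (A : Set H) with hC
  have hEA : E ≤ Subgroup.normalizer (A : Set H) :=
    (le_inf hEF hEL).trans (normalizer_inf_le_normalizer_sup F L)
  have hQA : Q ≤ Subgroup.normalizer (A : Set H) :=
    (le_inf (hQF.trans (Subgroup.centralizer_le_normalizer _)) hQL).trans
      (normalizer_inf_le_normalizer_sup F L)
  set D := E ⊓ C with hD
  have hED : E ≤ Subgroup.normalizer (D : Set H) :=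
    (le_inf (hnormE E) (hEA.trans (normalizer_le_normalizer_centralizer A))).trans
      (normalizer_inf_le E C)
  have hQD : Q ≤ Subgroup.normalizer (D : Set H) :=
    (le_inf (hnormE Q) (hQA.trans (normalizer_le_normalizer_centralizer A))).trans
      (normalizer_inf_le E C)
  have hDsn : D.IsSubnormal := by
    apply Subgroup.IsSubnormal.trans (inf_le_left : D ≤ E) _ hEn.isSubnormal
    exact ((Subgroup.normal_subgroupOf_iff_le_normalizer inf_le_left).mpr hED).isSubnormal
  have hDA : D ≤ A := by
    have h1 := (commutator_decomp_of_le_generalizedFittingSubgroup hO Q hQ D inf_le_left hDsn hQD).1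
    rw [← h1]
    apply sup_le
    · refine le_trans ?_ (le_sup_right : L ≤ A)
      rw [hL]
      exact Subgroup.commutator_mono inf_le_left le_rfl
    · refine le_trans ?_ (le_sup_left : F ≤ A)
      apply hFmax _ (inf_le_left.trans inf_le_left)
      · refine hE1.ge.trans (sup_le ?_ ?_)
        · -- `L` centralises `D`
          have h2 : L ≤ Subgroup.centralizer (D : Set H) := by
            intro l hl
            rw [Subgroup.mem_centralizer_iff]
            intro d hd
            have := (mem_centralizer_sup.mp hd.2).2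
            exact (Subgroup.mem_centralizer_iff.mp this l hl).symm
          refine le_trans ?_ (Subgroup.centralizer_le_normalizer _)
          exact h2.trans (Subgroup.centralizer_le (fun y hy => hy.1))
        · exact (le_inf (inf_le_left.trans hED) (inf_le_right.trans Subgroup.le_normalizer)).trans
            (normalizer_inf_le D _)
      · intro q hq
        rw [Subgroup.mem_centralizer_iff]
        intro n hn
        exact (Subgroup.mem_centralizer_iff.mp hn.2 q hq).symm
  have hP : ∀ P : Subgroup H, IsPGroup p P → P ≤ C → P = ⊥ := by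
    intro P hPp hPC
    have h1 : ⁅P, A⁆ = ⊥ := Subgroup.commutator_eq_bot_iff_le_centralizer.mpr hPC
    have h2 : ⁅⁅E, P⁆, A⁆ = ⊥ := by
      apply Subgroup.commutator_commutator_eq_bot_of_rotate
      · rw [h1, Subgroup.commutator_bot_left]
      · rw [eq_bot_iff, ← h1, Subgroup.commutator_comm P A]
        refine Subgroup.commutator_mono ?_ le_rfl
        exact Cfsg.Agent.Lib.Lead.commutator_le_left_of_le_normalizer A E hEA
    have h3 : ⁅E, P⁆ ≤ A := by
      refine le_trans (le_inf ?_ ?_) hDA
      · exact Cfsg.Agent.Lib.Lead.commutator_le_left_of_le_normalizer E P (hnormE P)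
      · exact Subgroup.commutator_eq_bot_iff_le_centralizer.mp h2
    have h4 : ⁅⁅E, P⁆, P⁆ = ⊥ := by
      rw [eq_bot_iff, ← h1, Subgroup.commutator_comm P A]
      exact Subgroup.commutator_mono h3 le_rfl
    exact (Cfsg.Agent.S2816.result hO P hPp).2 P le_rfl h4
  rw [Nat.coprime_comm, Nat.Prime.coprime_iff_not_dvd Fact.out]
  intro hdvd
  obtain ⟨c, hc⟩ := exists_prime_orderOf_dvd_card' (G := C) p hdvd
  have hcH : orderOf (c : H) = p := by rw [Subgroup.orderOf_coe, hc]
  have hPp : IsPGroup p (Subgroup.zpowers (c : H)) := by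
    apply IsPGroup.of_card (n := 1)
    rw [Nat.card_zpowers, hcH, pow_one]
  have := hP _ hPp (by rw [Subgroup.zpowers_le]; exact c.2)
  rw [Subgroup.zpowers_eq_bot] at this
  rw [this, orderOf_one] at hcH
  exact (Fact.out : p.Prime).one_lt.ne hcH

end Cfsg.Agent.S2817
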