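import Mathlib
import Cfsg.Agent.Lib.Helper6.Frattini
import Cfsg.Statements.S2818

set_option autoImplicit false
open Cfsg Cfsg.Agent.Lib.Helper6
open scoped commutatorElement

namespace Cfsg.Agent.S2818

/-- Let P be a finite p-subgroup of a group G and H a subgroup of N_G(P) with [P, H] ≤ Ω₁(Z(P)) (the elements of order dividing p in the centre of P). Then H centralizes the Frattini subgroup of P. -/
theorem result {G : Type*} [Group G] [Finite G] {p : ℕ} [Fact p.Prime] (P : Subgroup G) (hP : IsPGroup p ↥P) (H : Subgroup G) (hH : H ≤ Subgroup.normalizer (P : Set G)) (h : ⁅P, H⁆ ≤ Cfsg.omegaOne p (P ⊓ Subgroup.centralizer (P : Set G))) : ⁅(frattini ↥P).map P.subtype, H⁆ = ⊥ := by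
  have hp : p.Prime := Fact.out
  have hOle : Cfsg.omegaOne p (P ⊓ Subgroup.centralizer (P : Set G)) ≤ P := by
    unfold omegaOne
    rw [Subgroup.closure_le]; intro z hz; exact (Subgroup.mem_inf.mp hz.1).1
  -- elements of Ω₁(Z(P)) are central in P and killed by p
  have hOZ : ∀ w ∈ Cfsg.omegaOne p (P ⊓ Subgroup.centralizer (P : Set G)),
      (∀ y ∈ P, Commute w y) ∧ w ^ p = 1 := by
    intro w hw
    have hw' := hw
    unfold omegaOne at hw
    induction hw using Subgroup.closure_induction with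
    | mem x hx =>
      exact ⟨fun y hy => (Subgroup.mem_centralizer_iff.mp (Subgroup.mem_inf.mp hx.1).2 y hy).symm,
        hx.2⟩
    | one => exact ⟨fun y _ => Commute.one_left y, one_pow p⟩
    | mul x y hx' hy' hx hy =>
      have hxO : x ∈ Cfsg.omegaOne p (P ⊓ Subgroup.centralizer (P : Set G)) := hx'
      have hyO : y ∈ Cfsg.omegaOne p (P ⊓ Subgroup.centralizer (P : Set G)) := hy'
      obtain ⟨cx, px⟩ := hx hxO
      obtain ⟨cy, py⟩ := hy hyO
      refine ⟨fun z hz => (cx z hz).mul_left (cy z hz), ?_⟩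
      have hc : Commute x y := cx y (hOle hyO)
      rw [hc.mul_pow, px, py, one_mul]
    | inv x hx' hx =>
      have hxO : x ∈ Cfsg.omegaOne p (P ⊓ Subgroup.centralizer (P : Set G)) := hx'
      obtain ⟨cx, px⟩ := hx hxO
      exact ⟨fun z hz => (cx z hz).inv_left, by rw [inv_pow, px, inv_one]⟩
  rw [Subgroup.commutator_eq_bot_iff_le_centralizer]
  rintro _ ⟨x, hxF, rfl⟩
  rw [Subgroup.mem_centralizer_iff]
  intro h' hh'
  set N : Subgroup P := (Subgroup.centralizer ({h'} : Set G)).subgroupOf P with hN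
  have hconj : ∀ y : P, ∃ z : G, z ∈ P ∧ (∀ w ∈ P, Commute z w) ∧ z ^ p = 1 ∧
      h' * (y : G) * h'⁻¹ = z * y := by
    intro y
    have hz : ⁅(y : G), h'⁆ ∈ ⁅P, H⁆ := Subgroup.commutator_mem_commutator y.2 hh'
    obtain ⟨hc, hzp⟩ := hOZ _ (h hz)
    exact ⟨⁅(y : G), h'⁆⁻¹, P.inv_mem (hOle (h hz)), fun w hw => (hc w hw).inv_left,
      by rw [inv_pow, hzp, inv_one], by rw [commutatorElement_def]; group⟩
  have hmemN : ∀ y : P, y ∈ N ↔ h' * (y : G) * h'⁻¹ = y := by
    intro y
    rw [hN, Subgroup.mem_subgroupOf, Subgroup.mem_centralizer_singleton_iff]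
    constructor
    · intro e; rw [← e]; group
    · intro e
      calc (y : G) * h' = (h' * (y : G) * h'⁻¹) * h' := by rw [e]
        _ = h' * y := by group
  have hF : frattini P ≤ N := by
    apply frattini_le_of_elemAb (p := p)
    · intro a b
      rw [hmemN]
      obtain ⟨za, hzaP, hza, _, ea⟩ := hconj a
      obtain ⟨zb, hzbP, hzb, _, eb⟩ := hconj b
      have e1 : h' * ((⁅a, b⁆ : P) : G) * h'⁻¹ = ⁅h' * (a : G) * h'⁻¹, h' * (b : G) * h'⁻¹⁆ := by
        simp only [commutatorElement_def, Subgroup.coe_mul, Subgroup.coe_inv]; group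
      rw [e1, ea, eb,
        commutatorElement_mul_left_of_commute (hza a a.2) ((hza zb hzbP).mul_right (hza b b.2)),
        commutatorElement_mul_right_of_commute (hzb b b.2) (hzb a a.2)]
      simp [commutatorElement_def]
    · intro a
      rw [hmemN]
      obtain ⟨za, _, hza, hzap, ea⟩ := hconj a
      have e1 : h' * ((a ^ p : P) : G) * h'⁻¹ = (h' * (a : G) * h'⁻¹) ^ p := by
        rw [conj_pow]; simp
      rw [e1, ea, (hza a a.2).mul_pow, hzap, one_mul]
      simp
  have := (hmemN x).mp (hF hxF)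
  symm
  calc P.subtype x * h' = (h' * (x : G) * h'⁻¹) * h' := by rw [this]; rfl
    _ = h' * P.subtype x := by simp

end Cfsg.Agent.S2818
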