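import Mathlib
import Cfsg.Agent.Lib.Helper6.Stability
import Cfsg.Agent.Lib.Helper6.Frattini
import Cfsg.Statements.S2819

set_option autoImplicit false
open Cfsg

namespace Cfsg.Agent.S2819

open scoped commutatorElement

section
variable {G : Type*} [Group G]

theorem map_conj_eq_of_normalizer (P : Subgroup G) {h : G}
    (hh : h ∈ Subgroup.normalizer (P : Set G)) :
    P.map (MulAut.conj h).toMonoidHom = P := by
  ext x
  rw [Subgroup.mem_map]
  constructor
  · rintro ⟨y, hy, rfl⟩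
    exact (Subgroup.mem_normalizer_iff.mp hh y).mp hy
  · intro hx
    refine ⟨h⁻¹ * x * h, ?_, by simp [mul_assoc]⟩
    have := (Subgroup.mem_normalizer_iff.mp (Subgroup.inv_mem _ hh) x).mp hx
    simpa using this

/-- `N(P)` normalizes `⁅P,P⁆`. -/
theorem conj_mem_commutator_self (P : Subgroup G) {h : G}
    (hh : h ∈ Subgroup.normalizer (P : Set G)) {c : G} (hc : c ∈ ⁅P, P⁆) :
    h * c * h⁻¹ ∈ ⁅P, P⁆ := by
  have h1 : (⁅P, P⁆ : Subgroup G).map (MulAut.conj h).toMonoidHom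
      = ⁅P.map (MulAut.conj h).toMonoidHom, P.map (MulAut.conj h).toMonoidHom⁆ :=
    Subgroup.map_commutator _ _ _
  rw [map_conj_eq_of_normalizer P hh] at h1
  rw [← h1]
  exact ⟨c, hc, rfl⟩

theorem conj_mem_of_normalizer (P : Subgroup G) {h : G}
    (hh : h ∈ Subgroup.normalizer (P : Set G)) {x : G} (hx : x ∈ P) : h * x * h⁻¹ ∈ P :=
  (Subgroup.mem_normalizer_iff.mp hh x).mp hx

theorem conj_mem_of_normalizer' (P : Subgroup G) {h : G}
    (hh : h ∈ Subgroup.normalizer (P : Set G)) {x : G} (hx : x ∈ P) : h⁻¹ * x * h ∈ P := by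
  have := conj_mem_of_normalizer P (Subgroup.inv_mem _ hh) hx
  simpa using this

/-- the stabilizer of the chain `1 ≤ P' ≤ P' ℧¹(P)`. -/
def stab (P : Subgroup G) (p : ℕ) : Subgroup G where
  carrier := {g | g ∈ Subgroup.normalizer (P : Set G) ∧
    g ∈ Subgroup.centralizer ((⁅P, P⁆ : Subgroup G) : Set G) ∧
    ∀ x ∈ P, (x ^ p)⁻¹ * g * x ^ p * g⁻¹ ∈ ⁅P, P⁆}
  one_mem' := by
    refine ⟨Subgroup.one_mem _, Subgroup.one_mem _, ?_⟩
    intro x _
    simp
  mul_mem' := by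
    rintro g h ⟨hg1, hg2, hg3⟩ ⟨hh1, hh2, hh3⟩
    refine ⟨Subgroup.mul_mem _ hg1 hh1, Subgroup.mul_mem _ hg2 hh2, ?_⟩
    intro x hx
    have hx' : h * x * h⁻¹ ∈ P := conj_mem_of_normalizer P hh1 hx
    have e1 : (h * x * h⁻¹) ^ p = h * x ^ p * h⁻¹ := conj_pow
    have h1 := hh3 x hx
    have h2 := hg3 _ hx'
    rw [e1] at h2
    have e : (x ^ p)⁻¹ * (g * h) * x ^ p * (g * h)⁻¹
        = ((x ^ p)⁻¹ * h * x ^ p * h⁻¹) * ((h * x ^ p * h⁻¹)⁻¹ * g * (h * x ^ p * h⁻¹) * g⁻¹) := by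
      group
    rw [e]
    exact Subgroup.mul_mem _ h1 h2
  inv_mem' := by
    rintro g ⟨hg1, hg2, hg3⟩
    refine ⟨Subgroup.inv_mem _ hg1, Subgroup.inv_mem _ hg2, ?_⟩
    intro x hx
    have h1 := hg3 x hx
    have h2 := Subgroup.inv_mem _ h1
    have h3 := (Subgroup.mem_centralizer_iff.mp hg2) _ h2
    have e : (x ^ p)⁻¹ * g⁻¹ * x ^ p * g⁻¹⁻¹
        = g⁻¹ * (((x ^ p)⁻¹ * g * x ^ p * g⁻¹)⁻¹ * g) := by group
    rw [e, h3]
    have e2 : g⁻¹ * (g * ((x ^ p)⁻¹ * g * x ^ p * g⁻¹)⁻¹) = ((x ^ p)⁻¹ * g * x ^ p * g⁻¹)⁻¹ := by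
      group
    rw [e2]
    exact h2

theorem conj_mem_stab (P : Subgroup G) (p : ℕ) {h g : G}
    (hh : h ∈ Subgroup.normalizer (P : Set G)) (hg : g ∈ stab P p) :
    h * g * h⁻¹ ∈ stab P p := by
  obtain ⟨hg1, hg2, hg3⟩ := hg
  refine ⟨?_, ?_, ?_⟩
  · exact Subgroup.mul_mem _ (Subgroup.mul_mem _ hh hg1) (Subgroup.inv_mem _ hh)
  · rw [Subgroup.mem_centralizer_iff]
    intro c hc
    have hc' : h⁻¹ * c * h⁻¹⁻¹ ∈ ⁅P, P⁆ := conj_mem_commutator_self P (Subgroup.inv_mem _ hh) hc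
    have h1 := (Subgroup.mem_centralizer_iff.mp hg2) _ hc'
    have e1 : c * (h * g * h⁻¹) = h * ((h⁻¹ * c * h⁻¹⁻¹) * g) * h⁻¹ := by group
    rw [e1, h1]
    group
  · intro x hx
    have hx' : h⁻¹ * x * h ∈ P := conj_mem_of_normalizer' P hh hx
    have h1 := hg3 _ hx'
    have e1 : (h⁻¹ * x * h) ^ p = h⁻¹ * x ^ p * h := by
      have := conj_pow (a := h⁻¹) (b := x) (i := p)
      simpa using this
    rw [e1] at h1
    have h2 := conj_mem_commutator_self P hh h1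
    have e : (x ^ p)⁻¹ * (h * g * h⁻¹) * x ^ p * (h * g * h⁻¹)⁻¹
        = h * ((h⁻¹ * x ^ p * h)⁻¹ * g * (h⁻¹ * x ^ p * h) * g⁻¹) * h⁻¹ := by group
    rw [e]
    exact h2

/-- In any group, `(x a)^n ≡ x^n a^n` modulo the derived subgroup. -/
theorem mul_pow_mod_commutator (P : Subgroup G) {x a : G} (hx : x ∈ P) (ha : a ∈ P) (n : ℕ) :
    (x ^ n * a ^ n)⁻¹ * (x * a) ^ n ∈ ⁅P, P⁆ := by
  have h1 : Abelianization.of ((⟨x, hx⟩ * ⟨a, ha⟩ : P) ^ n)
      = Abelianization.of ((⟨x, hx⟩ : P) ^ n * (⟨a, ha⟩ : P) ^ n) := by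
    rw [map_pow, map_mul, mul_pow, map_mul, map_pow, map_pow]
  have h2 : ((⟨x, hx⟩ : P) ^ n * (⟨a, ha⟩ : P) ^ n)⁻¹ * ((⟨x, hx⟩ * ⟨a, ha⟩ : P) ^ n)
      ∈ commutator P := by
    rw [← Abelianization.ker_of, MonoidHom.mem_ker, map_mul, map_inv, h1]
    simp
  rw [← Subgroup.map_subtype_commutator]
  exact ⟨_, h2, by simp⟩

theorem le_stab {p : ℕ} (P : Subgroup G) (Y : Subgroup G)
    (hYN : Y ≤ Subgroup.normalizer (P : Set G))
    (hYc : Y ≤ Subgroup.centralizer ((⁅P, P⁆ : Subgroup G) : Set G))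
    (hel : Cfsg.IsElementaryAbelian p ⁅P, Y⁆) : Y ≤ stab P p := by
  intro y hy
  refine ⟨hYN hy, hYc hy, ?_⟩
  intro x hx
  have hyx : y * x * y⁻¹ ∈ P := conj_mem_of_normalizer P (hYN hy) hx
  set a : G := x⁻¹ * (y * x * y⁻¹) with ha
  have haP : a ∈ P := P.mul_mem (P.inv_mem hx) hyx
  have haC : a ∈ ⁅P, Y⁆ := by
    have : a = ⁅x⁻¹, y⁆ := by rw [commutatorElement_def, ha]; group
    rw [this]
    exact Subgroup.commutator_mem_commutator (P.inv_mem hx) hy
  have hap : a ^ p = 1 := hel.2 a haC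
  have e1 : y * x ^ p * y⁻¹ = (x * a) ^ p := by
    rw [← conj_pow, ha]
    congr 1
    group
  have h1 := mul_pow_mod_commutator P hx haP p
  rw [hap, mul_one, ← e1] at h1
  have e : (x ^ p)⁻¹ * y * x ^ p * y⁻¹ = (x ^ p)⁻¹ * (y * x ^ p * y⁻¹) := by group
  rw [e]
  exact h1

/-- The subgroup of `P` on which `g` acts trivially modulo `P'`. -/
def fixMod (P : Subgroup G) (g : G) : Subgroup G where
  carrier := {r | r ∈ P ∧ r⁻¹ * g * r * g⁻¹ ∈ ⁅P, P⁆}
  one_mem' := ⟨P.one_mem, by simp⟩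
  mul_mem' := by
    rintro r s ⟨hr1, hr2⟩ ⟨hs1, hs2⟩
    refine ⟨P.mul_mem hr1 hs1, ?_⟩
    have h1 : s⁻¹ * (r⁻¹ * g * r * g⁻¹) * s⁻¹⁻¹ ∈ ⁅P, P⁆ :=
      conj_mem_commutator_self P (Subgroup.le_normalizer (P.inv_mem hs1)) hr2
    have e : (r * s)⁻¹ * g * (r * s) * g⁻¹
        = (s⁻¹ * (r⁻¹ * g * r * g⁻¹) * s⁻¹⁻¹) * (s⁻¹ * g * s * g⁻¹) := by group
    rw [e]
    exact Subgroup.mul_mem _ h1 hs2
  inv_mem' := by
    rintro r ⟨hr1, hr2⟩
    refine ⟨P.inv_mem hr1, ?_⟩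
    have h1 : r * (r⁻¹ * g * r * g⁻¹)⁻¹ * r⁻¹ ∈ ⁅P, P⁆ :=
      conj_mem_commutator_self P (Subgroup.le_normalizer hr1) (Subgroup.inv_mem _ hr2)
    have e : r⁻¹⁻¹ * g * r⁻¹ * g⁻¹ = r * (r⁻¹ * g * r * g⁻¹)⁻¹ * r⁻¹ := by group
    rw [e]
    exact h1

theorem frattini_le_fixMod [Finite G] {p : ℕ} [Fact p.Prime] (P : Subgroup G) {g : G}
    (hg : g ∈ stab P p) : (frattini ↥P).map P.subtype ≤ fixMod P g := by
  obtain ⟨hg1, hg2, hg3⟩ := hg
  have hP' : ⁅P, P⁆ ≤ fixMod P g := by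
    intro c hc
    refine ⟨Subgroup.commutator_le_self P hc, ?_⟩
    have h1 := (Subgroup.mem_centralizer_iff.mp hg2) c hc
    have e : c⁻¹ * g * c * g⁻¹ = c⁻¹ * (g * c) * g⁻¹ := by group
    rw [e, ← h1]
    simp
  have h := Cfsg.Agent.Lib.Helper6.frattini_le_of_elemAb (P := ↥P) (p := p)
    ((fixMod P g).subgroupOf P) ?_ ?_
  · rw [Subgroup.map_le_iff_le_comap]
    exact h
  · intro x y
    rw [Subgroup.mem_subgroupOf]
    apply hP'
    have : ((⁅x, y⁆ : ↥P) : G) = ⁅(x : G), (y : G)⁆ := by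
      simp [commutatorElement_def]
    rw [this]
    exact Subgroup.commutator_mem_commutator x.2 y.2
  · intro x
    rw [Subgroup.mem_subgroupOf]
    refine ⟨(x ^ p).2, ?_⟩
    have := hg3 x x.2
    simpa using this

end

/-- Let P be a finite p-subgroup of a group G, H a subgroup of N_G(P), and Y a subgroup of H centralizing the derived subgroup P' such that [P, Y] is elementary abelian. Then O^p(⟨Y^H⟩), the subgroup of the normal closure of Y in H generated by its elements of order prime to p, centralizes the Frattini subgroup of P. -/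
theorem result {G : Type*} [Group G] [Finite G] {p : ℕ} [Fact p.Prime] (P : Subgroup G) (hP : IsPGroup p ↥P) (H : Subgroup G) (hH : H ≤ Subgroup.normalizer (P : Set G)) (Y : Subgroup G) (hYH : Y ≤ H) (hYc : Y ≤ Subgroup.centralizer ((⁅P, P⁆ : Subgroup G) : Set G)) (hel : Cfsg.IsElementaryAbelian p ⁅P, Y⁆) (NY : Subgroup G) (hNY : NY = (Subgroup.normalClosure ((Y.subgroupOf H : Subgroup ↥H) : Set ↥H)).map H.subtype) : (Cfsg.pResidual p ↥NY).map NY.subtype ≤ Subgroup.centralizer (((frattini ↥P).map P.subtype : Subgroup G) : Set G) := by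
  classical
  have hT : NY ≤ stab P p := by
    rw [hNY, Subgroup.map_le_iff_le_comap]
    have hn : ((stab P p).subgroupOf H).Normal := by
      constructor
      intro n hn h
      rw [Subgroup.mem_subgroupOf] at hn ⊢
      have := conj_mem_stab P p (hH h.2) hn
      simpa using this
    have hle : Y.subgroupOf H ≤ (stab P p).subgroupOf H := by
      intro y hy
      rw [Subgroup.mem_subgroupOf] at hy ⊢
      exact le_stab P Y (hYH.trans hH) hYc hel hy
    have h3 := @Subgroup.normalClosure_le_normal _ _ _ _ hn hle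
    exact h3
  have key : ∀ g : G, g ∈ NY → (orderOf g).Coprime p →
      g ∈ Subgroup.centralizer (((frattini ↥P).map P.subtype : Subgroup G) : Set G) := by
    intro g hg hco
    have hgT := hT hg
    have hF := frattini_le_fixMod P hgT
    let A : ℕ → Subgroup G := fun i => if i = 0 then ⊥ else if i = 1 then ⁅P, P⁆ else fixMod P g
    have hA := Cfsg.Agent.Lib.Helper6.commute_of_stabilizes_chain g hco A (by simp [A]) 2 ?_ ?_ 2
      le_rfl
    · rw [Subgroup.mem_centralizer_iff]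
      intro r hr
      have := hA r (by simpa [A] using hF hr)
      exact this.symm
    · intro i hi
      have hle : A i ≤ P := by
        by_cases h0 : i = 0
        · simp [A, h0]
        by_cases h1 : i = 1
        · simp only [A, h1]
          simpa using Subgroup.commutator_le_self P
        · simp only [A, h0, h1, if_false]
          intro r hr
          exact hr.1
      exact hP.to_le hle
    · intro i hi r hr
      interval_cases i
      · have hr' : r ∈ ⁅P, P⁆ := by simpa [A] using hr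
        have h1 := (Subgroup.mem_centralizer_iff.mp hgT.2.1) r hr'
        have e : r⁻¹ * g * r * g⁻¹ = r⁻¹ * (g * r) * g⁻¹ := by group
        rw [e, ← h1]
        simp [A]
      · have hr' : r ∈ fixMod P g := by simpa [A] using hr
        have : r⁻¹ * g * r * g⁻¹ ∈ ⁅P, P⁆ := hr'.2
        simpa [A] using this
  unfold Cfsg.pResidual
  rw [MonoidHom.map_closure, Subgroup.closure_le]
  rintro _ ⟨g, hg, rfl⟩
  apply key _ g.2
  have : orderOf (g : G) = orderOf g := Subgroup.orderOf_coe g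
  rw [this]
  exact hg

end Cfsg.Agent.S2819
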