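import Mathlib
import Cfsg.Agent.Lib.Helper6.Subn
import Cfsg.Statements.S2820

set_option autoImplicit false
open Cfsg Cfsg.Agent.Lib.Helper6
open scoped commutatorElement

namespace Cfsg.Agent.S2820

/-- Let A and B be subnormal subgroups of the finite group H with A a p-group and B = O^p(B) (B generated by its elements of order prime to p). Then A normalizes B and B = O^p(AB), the subgroup of ⟨A, B⟩ generated by its elements of order prime to p. -/
theorem result {H : Type*} [Group H] [Finite H] {p : ℕ} [Fact p.Prime] (A B : Subgroup H) (hA : A.IsSubnormal) (hB : B.IsSubnormal) (hAp : IsPGroup p ↥A) (hBres : (Cfsg.pResidual p ↥B).map B.subtype = B) : A ≤ Subgroup.normalizer (B : Set H) ∧ (Cfsg.pResidual p ↥(A ⊔ B)).map (A ⊔ B).subtype = B := by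
  have hBres' : pResSub p B = B := by rw [← pResSub_eq]; exact hBres
  have hAO : A ≤ pCore p H := le_pCore_of_isSubnormal_of_isPGroup hA hAp
  obtain ⟨hN, hc⟩ := normalizes_of_subnormal_pRes (pCore p H) B (pCore_isPGroup p) hB hBres'
  refine ⟨hAO.trans hN, ?_⟩
  rw [pResSub_eq]
  apply le_antisymm
  · rw [pResSub_le_iff]
    intro g hg hgc
    exact hc g (sup_le_sup_right hAO B hg) hgc
  · have h := pResSub_mono p (le_sup_right : B ≤ A ⊔ B)
    rw [hBres'] at h
    exact h

end Cfsg.Agent.S2820
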