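import Mathlib
import Cfsg.Agent.Lib.Helper6.YL
import Cfsg.Statements.S2821

set_option autoImplicit false
open Cfsg Cfsg.Agent.Lib.Helper6
open scoped commutatorElement

namespace Cfsg.Agent.S2821

/-- Let H be a finite group, p a prime, T a Sylow p-subgroup and L a subgroup of characteristic p containing T; let Y_L be the largest p-reduced normal subgroup of L (the join of the normal elementary abelian p-subgroups V of L with O_p(L/C_L(V)) = 1). Then T₀ := C_T(Y_L) is a Sylow p-subgroup of C_H(Y_L); moreover O_p(L) ≤ T₀ ≤ C_L(Y_L) and Ω₁(Z(T)) ≤ Z_L ≤ Y_L ≤ Ω₁(Z(O_p(L))), where Z_L is generated by the Ω₁(Z(S)) over the Sylow p-subgroups S of L. -/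
theorem result {H : Type*} [Group H] [Finite H] {p : ℕ} [Fact p.Prime] (T : Sylow p H) (L : Subgroup H) (hTL : (T : Subgroup H) ≤ L) (hL : Subgroup.centralizer (Cfsg.pCore p ↥L : Set ↥L) ≤ Cfsg.pCore p ↥L) (T₀ : Subgroup H) (hT₀ : T₀ = (T : Subgroup H) ⊓ Subgroup.centralizer (((Cfsg.largestPReducedOf p L) : Subgroup H) : Set H)) : (∃ P : Sylow p ↥(Subgroup.centralizer (((Cfsg.largestPReducedOf p L) : Subgroup H) : Set H)), (P : Subgroup ↥(Subgroup.centralizer (((Cfsg.largestPReducedOf p L) : Subgroup H) : Set H))) = T₀.subgroupOf (Subgroup.centralizer (((Cfsg.largestPReducedOf p L) : Subgroup H) : Set H))) ∧ (Cfsg.pCoreOf p L) ≤ T₀ ∧ T₀ ≤ L ⊓ Subgroup.centralizer (((Cfsg.largestPReducedOf p L) : Subgroup H) : Set H) ∧ (Cfsg.omegaOne p ((T : Subgroup H) ⊓ Subgroup.centralizer (((T : Subgroup H) : Subgroup H) : Set H))) ≤ Cfsg.sylowCenterClosure p L ∧ Cfsg.sylowCenterClosure p L ≤ (Cfsg.largestPReducedOf p L) ∧ (Cfsg.largestPReducedOf p L) ≤ (Cfsg.omegaOne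 p ((Cfsg.pCoreOf p L) ⊓ Subgroup.centralizer (((Cfsg.pCoreOf p L) : Subgroup H) : Set H))) := by
  set Y := Cfsg.largestPReducedOf p L with hY
  set C := Subgroup.centralizer ((Y : Subgroup H) : Set H) with hC
  have hTS : IsSylowOf p L (T : Subgroup H) := isSylowOf_of_sylow_le T hTL
  have hLC : L ≤ Subgroup.normalizer (C : Set H) := by
    intro g hg
    have hgY := le_normalizer_largestPReducedOf L hL hg
    apply mem_normalizer_of_map_conj_eq_self
    rw [hC, centralizer_map_conj, map_conj_eq_self_of_mem_normalizer hgY]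
  have hT₀S : IsSylowOf p C T₀ := by
    rw [hT₀]
    exact isSylowOf_inf_of_le_normalizer T C (hTL.trans hLC)
  have hQT : Cfsg.pCoreOf p L ≤ (T : Subgroup H) := pCoreOf_le_of_isSylowOf hTS
  have hQC : Cfsg.pCoreOf p L ≤ C := pCoreOf_le_centralizer_largestPReducedOf L hL
  refine ⟨?_, ?_, ?_, ?_, ?_, ?_⟩
  · obtain ⟨P, hP⟩ := hT₀S.exists_sylow
    refine ⟨P, ?_⟩
    rw [← hP]
    exact (Subgroup.comap_map_eq_self_of_injective C.subtype_injective _).symm
  · rw [hT₀]; exact le_inf hQT hQC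
  · rw [hT₀]; exact inf_le_inf_right _ hTL
  · exact omegaZ_le_sylowCenterClosure hTS
  · exact sylowCenterClosure_le_largestPReducedOf L hL
  · exact largestPReducedOf_le_omegaZ_pCoreOf L hL

end Cfsg.Agent.S2821
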