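import Mathlib
import Cfsg.Agent.Lib.Helper6.YL2
import Cfsg.Statements.S2822

set_option autoImplicit false
open Cfsg Cfsg.Agent.Lib.Helper6
open scoped commutatorElement

namespace Cfsg.Agent.S2822

/-- Let H be a finite group, p a prime, T a Sylow p-subgroup, and L, M subgroups of characteristic p containing T, with largest p-reduced normal subgroups Y_L, Y_M. If L·C_H(Y_M) = M·C_H(Y_M), then Y_M ≤ Y_L. -/
theorem result {H : Type*} [Group H] [Finite H] {p : ℕ} [Fact p.Prime] (T : Sylow p H) (L M : Subgroup H) (hTL : (T : Subgroup H) ≤ L) (hTM : (T : Subgroup H) ≤ M) (hL : Subgroup.centralizer (Cfsg.pCore p ↥L : Set ↥L) ≤ Cfsg.pCore p ↥L) (hM : Subgroup.centralizer (Cfsg.pCore p ↥M : Set ↥M) ≤ Cfsg.pCore p ↥M) : L ⊔ Subgroup.centralizer (((Cfsg.largestPReducedOf p M) : Subgroup H) : Set H) = M ⊔ Subgroup.centralizer (((Cfsg.largestPReducedOf p M) : Subgroup H) : Set H) → (Cfsg.largestPReducedOf p M) ≤ (Cfsg.largestPReducedOf p L) := by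
  intro hsup
  set Y := Cfsg.largestPReducedOf p M with hY
  have hYM : Y ≤ M := by rintro _ ⟨y, _, rfl⟩; exact y.2
  have hsub : Y.subgroupOf M = Cfsg.largestPReduced p ↥M := by
    rw [hY]; unfold largestPReducedOf
    exact Subgroup.comap_map_eq_self_of_injective M.subtype_injective _
  have hMred : IsPReducedNormal p (Y.subgroupOf M) := hsub ▸ (largestPReduced_spec hM).1
  obtain ⟨hMN, hYe, hMR⟩ := (isPReducedNormal_subgroupOf_iff hYM).mp hMred
  have hTS : IsSylowOf p M (T : Subgroup H) := isSylowOf_of_sylow_le T hTM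
  have hYL : Y ≤ L :=
    ((largestPReducedOf_le_omegaZ_pCoreOf M hM).trans (omegaZ_le p _)).trans
      ((pCoreOf_le_of_isSylowOf hTS).trans hTL)
  have hCN : Subgroup.centralizer (Y : Set H) ≤ Subgroup.normalizer (Y : Set H) :=
    Subgroup.centralizer_le_normalizer _
  have hLN : L ≤ Subgroup.normalizer (Y : Set H) :=
    le_sup_left.trans (hsup ▸ sup_le hMN hCN)
  have hLR : RedOn p Y L := RedOn.of_sup_eq hLN hMN hsup hMR
  have hLred : IsPReducedNormal p (Y.subgroupOf L) :=
    (isPReducedNormal_subgroupOf_iff hYL).mpr ⟨hLN, hYe, hLR⟩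
  have hle := (largestPReduced_spec hL).2 _ hLred
  intro y hy
  exact ⟨⟨y, hYL hy⟩, hle (by rw [Subgroup.mem_subgroupOf]; exact hy), rfl⟩

end Cfsg.Agent.S2822
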