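import Mathlib
import Cfsg.Agent.S2805
import Cfsg.Agent.S2909
import Cfsg.Agent.Lib.Helper6.OrbitProd
import Cfsg.Agent.Lib.Helper6.LocalKieler
import Cfsg.Agent.Lib.Helper6.StrEmb
import Cfsg.Agent.Lib.Helper6.PRes
import Cfsg.Statements.S2823

set_option autoImplicit false
open Cfsg

namespace Cfsg.Agent.S2823

open Cfsg.Agent.Lib.Helper6 Cfsg.Agent.Lib.Helper7 Cfsg.Agent.Lib.Lead
open scoped commutatorElement

section helpers
variable {H : Type*} [Group H] [Finite H] {p : ℕ} [hp : Fact p.Prime]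

/-- `Z_L ≤ Ω₁Z(O_p(L))` when `L` has characteristic `p` -/
theorem scc_le_omegaZ_pCoreOf (L : Subgroup H)
    (hL : Subgroup.centralizer (Cfsg.pCore p ↥L : Set ↥L) ≤ Cfsg.pCore p ↥L) :
    Cfsg.sylowCenterClosure p L ≤ omegaZ p ((Cfsg.pCore p ↥L).map L.subtype) := by
  rw [sylowCenterClosure_le_iff]
  intro S hS
  set Q := (Cfsg.pCore p ↥L).map L.subtype with hQ
  have hQL : Q ≤ L := Subgroup.map_subtype_le _
  have hLQ : L ≤ Subgroup.normalizer (Q : Set H) :=
    Cfsg.Agent.S2805.le_normalizer_map_subtype_of_normal L _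
  have hQp : IsPGroup p Q := (Cfsg.Agent.Lib.Helper6.pCore_isPGroup p).map _
  have hQS : Q ≤ S := hS.normal_le hQp hQL hLQ
  have hC := Cfsg.Agent.S2805.charp_ambient L hL
  intro x hx
  obtain ⟨hxS, hxC, hxp⟩ := mem_omegaZ.mp hx
  have hxCQ : x ∈ Subgroup.centralizer (Q : Set H) :=
    Subgroup.centralizer_le (fun y hy => hQS hy) hxC
  have hxQ : x ∈ Q := hC ⟨hxCQ, hS.1 hxS⟩
  exact mem_omegaZ.mpr ⟨hxQ, hxCQ, hxp⟩

end helpers



/-- Let H be a finite group, p a prime, T a Sylow p-subgroup and L a subgroup of characteristic p containing T; let Z_L be the subgroup generated by the Ω₁(Z(S)) over the Sylow p-subgroups S of L and O^p(L) the subgroup generated by the elements of L of order prime to p. Then Z_L = Ω₁(Z(L))·[Z_L, O^p(L)] and [Z_L, L] = [Z_L, O^p(L)]. -/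
theorem result {H : Type*} [Group H] [Finite H] {p : ℕ} [Fact p.Prime] (T : Sylow p H) (L : Subgroup H) (hTL : (T : Subgroup H) ≤ L) (hL : Subgroup.centralizer (Cfsg.pCore p ↥L : Set ↥L) ≤ Cfsg.pCore p ↥L) : Cfsg.sylowCenterClosure p L = (Cfsg.omegaOne p (L ⊓ Subgroup.centralizer ((L : Subgroup H) : Set H))) ⊔ ⁅Cfsg.sylowCenterClosure p L, (Cfsg.pResidual p ↥L).map L.subtype⁆ ∧ ⁅Cfsg.sylowCenterClosure p L, L⁆ = ⁅Cfsg.sylowCenterClosure p L, (Cfsg.pResidual p ↥L).map L.subtype⁆ := by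
  have hp : p.Prime := Fact.out
  set V := Cfsg.sylowCenterClosure p L with hV
  set Rp := (Cfsg.pResidual p ↥L).map L.subtype with hRp
  set Z₀ := Cfsg.omegaOne p (L ⊓ Subgroup.centralizer ((L : Subgroup H) : Set H)) with hZ₀
  set W := ⁅V, Rp⁆ with hW
  set ZT := omegaZ p (T : Subgroup H) with hZT
  have hTS : IsSylowOf p L (T : Subgroup H) := isSylowOf_of_sylow_le T hTL
  have hVL : V ≤ L := sylowCenterClosure_le p L
  have hRpL : Rp ≤ L := Subgroup.map_subtype_le _
  have hLV : L ≤ Subgroup.normalizer (V : Set H) := by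
    intro g hg
    rw [mem_normalizer_iff_cj]
    show (Cfsg.sylowCenterClosure p L).map (MulAut.conj g).toMonoidHom = _
    rw [sylowCenterClosure_map_conj]
    congr 1
    exact cj_eq_self_of_mem hg
  have hLRp : L ≤ Subgroup.normalizer (Rp : Set H) := by
    have := Cfsg.Agent.Lib.Lead.le_normalizer_map_characteristic L (Cfsg.pResidual p ↥L)
    exact Subgroup.le_normalizer.trans this
  have hVab := scc_le_omegaZ_pCoreOf L hL
  haveI hVc : IsMulCommutative V := by
    refine ⟨⟨fun a b => Subtype.ext ?_⟩⟩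
    have ha := mem_omegaZ.mp (hVab a.2)
    have hb := mem_omegaZ.mp (hVab b.2)
    exact (Subgroup.mem_centralizer_iff.mp hb.2.1 a ha.1)
  have hVexp : ∀ x ∈ V, x ^ p = 1 := fun x hx => (mem_omegaZ.mp (hVab hx)).2.2
  have hZTV : ZT ≤ V := omegaZ_le_sylowCenterClosure hTS
  have hWV : W ≤ V := commutator_le_left_of_le_normalizer V Rp (hRpL.trans hLV)
  have hLW : L ≤ Subgroup.normalizer (W : Set H) :=
    (le_inf hLV hLRp).trans (normalizer_inf_le_normalizer_commutator V Rp)
  -- `L = Rp T`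
  have hLRT : Rp ⊔ (T : Subgroup H) = L := by
    obtain ⟨P, hP⟩ := hTS.exists_sylow
    have := pResidual_sup_sylow P
    have h2 := congrArg (Subgroup.map L.subtype) this
    rw [Subgroup.map_sup, hP, ← MonoidHom.range_eq_map, Subgroup.range_subtype] at h2
    exact h2
  -- (F6) `V ≤ Ω₁Z(T) W`
  have hF6 : V ≤ ZT ⊔ W := by
    rw [hV, sylowCenterClosure_le_iff]
    intro S' hS'
    obtain ⟨g, hgL, hgS⟩ := hTS.exists_conj hS'
    have hg' : g ∈ Rp ⊔ (T : Subgroup H) := by rw [hLRT]; exact hgL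
    have hRpN : (T : Subgroup H) ≤ Subgroup.normalizer (Rp : Set H) := hTL.trans hLRp
    rw [← SetLike.mem_coe, Subgroup.coe_mul_of_right_le_normalizer_left Rp _ hRpN] at hg'
    obtain ⟨r, hr, t, ht, rfl⟩ := hg'
    have hS'r : S' = cj r (T : Subgroup H) := by
      rw [hgS]
      show cj (r * t) (T : Subgroup H) = _
      rw [cj_mul, cj_eq_self_of_mem ht]
    rw [hS'r]
    show omegaZ p ((T : Subgroup H).map (MulAut.conj r).toMonoidHom) ≤ _
    rw [← omegaZ_map_conj]
    rintro _ ⟨z, hz, rfl⟩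
    show r * z * r⁻¹ ∈ ZT ⊔ W
    have h1 : r * z * r⁻¹ = (⁅z, r⁆)⁻¹ * z := by
      rw [commutatorElement_def]; group
    rw [h1]
    refine Subgroup.mul_mem _ (Subgroup.mem_sup_right (W.inv_mem ?_)) (Subgroup.mem_sup_left hz)
    exact Subgroup.commutator_mem_commutator (hZTV hz) hr
  -- (F7) `[V, L] ≤ W`
  have hTZT : (T : Subgroup H) ≤ Subgroup.centralizer (ZT : Set H) := by
    intro t ht
    rw [Subgroup.mem_centralizer_iff]
    intro z hz
    exact (Subgroup.mem_centralizer_iff.mp (omegaZ_le_centralizer p _ hz) t ht).symm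
  have hF7 : ⁅V, L⁆ ≤ W := by
    have hRK : Rp ≤ Cfsg.Agent.S2909.actKer V W :=
      Cfsg.Agent.S2909.le_actKer (hRpL.trans hLV) (hRpL.trans hLW)
        (by rw [Subgroup.commutator_comm])
    have hTK : (T : Subgroup H) ≤ Cfsg.Agent.S2909.actKer V W := by
      apply Cfsg.Agent.S2909.le_actKer (hTL.trans hLV) (hTL.trans hLW)
      rw [Subgroup.commutator_le]
      intro t ht v hv
      have hv' := hF6 hv
      have hWn : W ≤ Subgroup.normalizer (ZT : Set H) := by
        refine le_trans ?_ (Subgroup.centralizer_le_normalizer _)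
        intro w hw
        rw [Subgroup.mem_centralizer_iff]
        intro z hz
        have := hVc.is_comm.comm (⟨z, hZTV hz⟩ : V) ⟨w, hWV hw⟩
        exact congrArg Subtype.val this
      rw [← SetLike.mem_coe, Subgroup.coe_mul_of_right_le_normalizer_left ZT W hWn] at hv'
      obtain ⟨z, hz, w, hw, rfl⟩ := hv'
      have htz : t * z = z * t := (Subgroup.mem_centralizer_iff.mp (hTZT ht) z hz).symm
      have h1 : ⁅t, z * w⁆ = z * ⁅t, w⁆ * z⁻¹ := by
        simp only [commutatorElement_def]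
        have : t * (z * w) * t⁻¹ * (z * w)⁻¹ = (t * z) * w * t⁻¹ * w⁻¹ * z⁻¹ := by group
        rw [this, htz]; group
      rw [h1]
      have h2 : ⁅t, w⁆ ∈ W := by
        rw [commutatorElement_def]
        have h3 : t * w * t⁻¹ ∈ W := (Subgroup.mem_normalizer_iff.mp (hLW (hTL ht)) w).mp hw
        exact W.mul_mem h3 (W.inv_mem hw)
      exact (Subgroup.mem_normalizer_iff.mp (hLW (hVL (hZTV hz))) _).mp h2
    have hLK : L ≤ Cfsg.Agent.S2909.actKer V W := hLRT ▸ sup_le hRK hTK
    rw [Subgroup.commutator_comm]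
    exact Cfsg.Agent.S2909.commutator_le_of_le_actKer hLK
  have hWeq : ⁅V, L⁆ = W := le_antisymm hF7 (Subgroup.commutator_mono le_rfl hRpL)
  -- (F8) `Z₀ ≤ ZT`
  have hF8 : Z₀ ≤ ZT := by
    rw [hZ₀]
    unfold Cfsg.omegaOne
    rw [Subgroup.closure_le]
    rintro x ⟨⟨hxL, hxC⟩, hxp⟩
    have hxT : x ∈ (T : Subgroup H) := by
      have hZp : IsPGroup p (Subgroup.zpowers x) :=
        isPGroup_zpowers_of_pow_eq_one ⟨1, by rw [pow_one]; exact hxp⟩
      have hLx : L ≤ Subgroup.normalizer ((Subgroup.zpowers x : Subgroup H) : Set H) := by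
        refine le_trans ?_ (Subgroup.centralizer_le_normalizer _)
        intro l hl
        rw [Subgroup.mem_centralizer_iff]
        intro y hy
        obtain ⟨k, rfl⟩ := Subgroup.mem_zpowers_iff.mp hy
        have : Commute x l := Subgroup.mem_centralizer_iff.mp hxC l hl |>.symm
        exact (Commute.zpow_left this k).eq
      exact hTS.normal_le hZp (Subgroup.zpowers_le.mpr hxL) hLx (Subgroup.mem_zpowers x)
    exact mem_omegaZ.mpr ⟨hxT, Subgroup.centralizer_le (fun y hy => hTL hy) hxC, hxp⟩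
  -- (F9) `ZT ≤ Z₀ W`
  have hF9 : ZT ≤ Z₀ ⊔ W := by
    intro z hz
    have hzV : z ∈ V := hZTV hz
    set w : V := ⟨z, hzV⟩ with hw
    set m := (orbFin V L w).card with hm
    have hTw : (T : Subgroup H) ≤ Subgroup.centralizer ({(w : H)} : Set H) := by
      intro t ht
      rw [Subgroup.mem_centralizer_singleton_iff]
      exact (Subgroup.mem_centralizer_iff.mp (hTZT ht) z hz).symm
    have hmdvd : m ∣ (T : Subgroup H).relIndex L := card_orbFin_dvd V L hLV w _ hTL hTw
    have hmcop : m.Coprime p := by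
      have h1 : ¬ p ∣ m := fun h => hTS.not_dvd_relIndex (h.trans hmdvd)
      exact ((Nat.Prime.coprime_iff_not_dvd hp).mpr h1).symm
    set a := orbProd V L w with ha
    have haC : ((a : V) : H) ∈ Subgroup.centralizer (L : Set H) :=
      orbProd_mem_centralizer V L hLV w
    have haZ₀ : ((a : V) : H) ∈ Z₀ := by
      apply Subgroup.subset_closure
      exact ⟨⟨hVL a.2, haC⟩, hVexp _ a.2⟩
    have hb : ((w ^ m * a⁻¹ : V) : H) ∈ W := by
      rw [← hWeq]
      apply pow_card_mul_inv_orbProd_mem V L w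
      intro d hd
      have : (w : H) * (d * w * d⁻¹)⁻¹ = ⁅(w : H), d⁆ := by
        rw [commutatorElement_def]; group
      rw [this]
      exact Subgroup.commutator_mem_commutator hzV hd
    have hzm : z ^ m ∈ Z₀ ⊔ W := by
      have h1 : z ^ m = ((w ^ m * a⁻¹ : V) : H) * ((a : V) : H) := by
        rw [← Subgroup.coe_mul, inv_mul_cancel_right]
        rfl
      rw [h1]
      exact Subgroup.mul_mem _ (Subgroup.mem_sup_right hb) (Subgroup.mem_sup_left haZ₀)
    have hcop2 : m.Coprime (orderOf z) := by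
      have : orderOf z ∣ p := orderOf_dvd_of_pow_eq_one (hVexp z hzV)
      exact Nat.Coprime.coprime_dvd_right this hmcop
    obtain ⟨k, hk⟩ := exists_pow_eq_self_of_coprime hcop2
    rw [← hk]
    exact Subgroup.pow_mem _ hzm k
  refine ⟨?_, hWeq⟩
  apply le_antisymm
  · exact hF6.trans (sup_le hF9 le_sup_right)
  · exact sup_le (hF8.trans hZTV) hWV


end Cfsg.Agent.S2823
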