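import Mathlib
import Cfsg.Agent.Lib.Helper6.PReduced5
import Cfsg.Agent.Lib.Helper6.Amalgam4
import Cfsg.Agent.Lib.Helper3.CharP2
import Cfsg.Statements.S2824

set_option autoImplicit false
open Cfsg

namespace Cfsg.Agent.S2824

open Cfsg.Agent.Lib.Helper6 Cfsg.Agent.Lib.Helper3

section
variable {H : Type*} [Group H]

theorem conj_mem_of_le_normalizer {D X : Subgroup H} (h : X ≤ Subgroup.normalizer (D : Set H))
    {x d : H} (hx : x ∈ X) (hd : d ∈ D) : x * d * x⁻¹ ∈ D :=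
  (Subgroup.mem_normalizer_iff.mp (h hx) d).mp hd

theorem le_normalizer_of_conj_mem {D X : Subgroup H}
    (h : ∀ x ∈ X, ∀ d ∈ D, x * d * x⁻¹ ∈ D) : X ≤ Subgroup.normalizer (D : Set H) := by
  intro n hn
  rw [Subgroup.mem_normalizer_iff]
  intro x
  constructor
  · exact h n hn x
  · intro hx
    have := h n⁻¹ (Subgroup.inv_mem _ hn) _ hx
    simpa [mul_assoc] using this

theorem pCoreOf_le_sylow_of_le {p : ℕ} [Fact p.Prime] [Finite H] (T : Sylow p H) (X : Subgroup H)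
    (hTX : (T : Subgroup H) ≤ X) : Cfsg.pCoreOf p X ≤ T := by
  rintro _ ⟨x, hx, rfl⟩
  have h1 : x ∈ ((T.subtype hTX : Sylow p ↥X) : Subgroup ↥X) := pCore_le_sylow (T.subtype hTX) hx
  have h2 : x ∈ (T : Subgroup H).subgroupOf X := h1
  exact Subgroup.mem_subgroupOf.mp h2

end

/-- Let H be a finite group, p a prime, T a Sylow p-subgroup, L and M subgroups of characteristic p containing T, Y_L the largest p-reduced normal subgroup of L and T₀ = C_T(Y_L). If M·C_H(Y_L) = L·C_H(Y_L), then L* := N_M(T₀) has Y_{L*} = Y_L and L·C_H(Y_L) = L*·C_H(Y_L). -/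
theorem result {H : Type*} [Group H] [Finite H] {p : ℕ} [Fact p.Prime] (T : Sylow p H) (L M : Subgroup H) (hTL : (T : Subgroup H) ≤ L) (hTM : (T : Subgroup H) ≤ M) (hL : Subgroup.centralizer (Cfsg.pCore p ↥L : Set ↥L) ≤ Cfsg.pCore p ↥L) (hM : Subgroup.centralizer (Cfsg.pCore p ↥M : Set ↥M) ≤ Cfsg.pCore p ↥M) (T₀ : Subgroup H) (hT₀ : T₀ = (T : Subgroup H) ⊓ Subgroup.centralizer (((Cfsg.largestPReducedOf p L) : Subgroup H) : Set H)) (hfac : M ⊔ Subgroup.centralizer (((Cfsg.largestPReducedOf p L) : Subgroup H) : Set H) = L ⊔ Subgroup.centralizer (((Cfsg.largestPReducedOf p L) : Subgroup H) : Set H)) (Ls : Subgroup H) (hLs : Ls = M ⊓ Subgroup.normalizer ((T₀ : Subgroup H) : Set H)) : (Cfsg.largestPReducedOf p Ls) = (Cfsg.largestPReducedOf p L) ∧ L ⊔ Subgroup.centralizer (((Cfsg.largestPReducedOf p L) : Subgroup H) : Set H) = Ls ⊔ Subgroup.centralizer (((Cfsg.largestPReducedOf p L) : Subgroup H) : Set H) := by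
  classical
  set Y : Subgroup H := Cfsg.largestPReducedOf p L with hY
  set C : Subgroup H := Subgroup.centralizer (Y : Set H) with hC
  obtain ⟨hLY, hYe, hYr⟩ := largestPReducedOf_spec p L
  rw [← hY] at hLY hYe hYr
  have hCY : C ≤ Subgroup.normalizer (Y : Set H) := Subgroup.centralizer_le_normalizer _
  have hMY : M ≤ Subgroup.normalizer (Y : Set H) := by
    calc M ≤ M ⊔ C := le_sup_left
      _ = L ⊔ C := hfac
      _ ≤ _ := sup_le hLY hCY
  have hNC : Subgroup.normalizer (Y : Set H) ≤ Subgroup.normalizer (C : Set H) :=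
    normalizer_le_normalizer_centralizer Y
  set K : Subgroup H := M ⊓ C with hK
  have hMK : ∀ g ∈ M, ∀ n ∈ K, g * n * g⁻¹ ∈ K := by
    intro g hg n hn
    obtain ⟨hn1, hn2⟩ := Subgroup.mem_inf.mp hn
    exact Subgroup.mem_inf.mpr ⟨M.mul_mem (M.mul_mem hg hn1) (M.inv_mem hg),
      conj_mem_of_le_normalizer (hMY.trans hNC) hg hn2⟩
  have hTK : (T : Subgroup H) ≤ Subgroup.normalizer (K : Set H) :=
    le_normalizer_of_conj_mem (fun t ht n hn => hMK t (hTM ht) n hn)
  have hT₀K : (T : Subgroup H) ⊓ K = T₀ := by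
    rw [hT₀, hK, ← inf_assoc, inf_of_le_left hTM]
  have hsyl : IsSylowOf p K T₀ := by
    rw [← hT₀K]; exact isSylowOf_inf_of_le_normalizer T K hTK
  have hfrat := frattini_isSylowOf (inf_le_left : K ≤ M) hMK hsyl
  have hLsM : Ls ≤ M := by rw [hLs]; exact inf_le_left
  have h2 : L ⊔ C = Ls ⊔ C := by
    rw [← hfac]
    apply le_antisymm
    · apply sup_le _ le_sup_right
      intro g hg
      obtain ⟨l, hl, b, hb, rfl⟩ := hfrat g hg
      exact Subgroup.mul_mem _ (Subgroup.mem_sup_right (Subgroup.mem_inf.mp hl).2)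
        (Subgroup.mem_sup_left (by rw [hLs]; exact hb))
    · exact sup_le (hLsM.trans le_sup_left) le_sup_right
  refine ⟨?_, h2⟩
  have hT₀T : T₀ ≤ T := by rw [hT₀]; exact inf_le_left
  have hT₀C : T₀ ≤ C := by rw [hT₀]; exact inf_le_right
  have hT₀p : IsPGroup p T₀ := T.isPGroup'.to_le hT₀T
  have hT₀Ls : T₀ ≤ Ls := by
    rw [hLs]; exact le_inf (hT₀T.trans hTM) Subgroup.le_normalizer
  have hLsT₀ : Ls ≤ Subgroup.normalizer (T₀ : Set H) := by rw [hLs]; exact inf_le_right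
  have hTLs : (T : Subgroup H) ≤ Ls := by
    rw [hLs]
    apply le_inf hTM
    apply le_normalizer_of_conj_mem
    intro t ht d hd
    rw [hT₀] at hd ⊢
    obtain ⟨hd1, hd2⟩ := Subgroup.mem_inf.mp hd
    exact Subgroup.mem_inf.mpr ⟨Subgroup.mul_mem _ (Subgroup.mul_mem _ ht hd1) (Subgroup.inv_mem _ ht),
      conj_mem_of_le_normalizer (hMY.trans hNC) (hTM ht) hd2⟩
  have hYT₀ : Y ≤ T₀ := by
    rw [hT₀]
    exact le_inf ((largestPReducedOf_le_pCoreOf p L).trans (pCoreOf_le_sylow_of_le T L hTL))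
      (largestPReducedOf_le_centralizer p L)
  have hLsY : Ls ≤ Subgroup.normalizer (Y : Set H) := hLsM.trans hMY
  apply le_antisymm
  · -- `Y_{L*} ≤ Ω₁(Z(T₀)) = Y`
    have hYeq : Y = omegaZ p T₀ := by
      rw [hT₀]; exact largestPReducedOf_eq_omegaZ T L hTL hL
    have hYV : Y ≤ Cfsg.largestPReducedOf p Ls :=
      le_largestPReducedOf (hYT₀.trans hT₀Ls) hLsY hYe
        (RedOn.of_sup_eq hLsY hLY h2.symm hYr)
    obtain ⟨hLsV, hVe, hVr⟩ := largestPReducedOf_spec p Ls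
    intro v hv
    rw [hYeq]
    apply mem_omegaZ_of
    · rw [hT₀]
      refine Subgroup.mem_inf.mpr ⟨?_, ?_⟩
      · exact pCoreOf_le_sylow_of_le T Ls hTLs (largestPReducedOf_le_pCoreOf p Ls hv)
      · exact Subgroup.centralizer_le (by exact_mod_cast hYV)
          (largestPReducedOf_le_centralizer p Ls hv)
    · intro t ht
      have h3 : T₀ ≤ Cfsg.pCoreOf p Ls := le_map_pCore_of_le_normalizer hT₀p hT₀Ls hLsT₀
      have h4 := pCoreOf_le_centralizer_largestPReducedOf' p Ls (h3 ht)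
      exact (Subgroup.mem_centralizer_iff.mp h4) v hv
    · exact hVe.2 v hv
  · exact le_largestPReducedOf (hYT₀.trans hT₀Ls) hLsY hYe
      (RedOn.of_sup_eq hLsY hLY h2.symm hYr)

end Cfsg.Agent.S2824
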