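import Mathlib
import Cfsg.Agent.Lib.Helper6.PReduced8
import Cfsg.Statements.S2825

set_option autoImplicit false
open Cfsg

namespace Cfsg.Agent.S2825

open Cfsg.Agent.Lib.Helper6
open scoped commutatorElement

/-- Let L be a subnormal subgroup of the finite group H, p a prime, Y_H and Y_L the largest p-reduced normal subgroups. Then Y_H ∩ L = Y_H ∩ Y_L and this subgroup is a p-reduced normal subgroup of L; C_L(Y_L) = C_L(Y_H) = C_L(Y_H ∩ L); and if O^p(H) ≤ L, then [Y_L, L] = 1 if and only if [Y_H, H] = 1. -/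
theorem result {H : Type*} [Group H] [Finite H] {p : ℕ} [Fact p.Prime] (L : Subgroup H) (hL : L.IsSubnormal) : Cfsg.largestPReduced p H ⊓ L = Cfsg.largestPReduced p H ⊓ (Cfsg.largestPReducedOf p L) ∧ Cfsg.IsPReducedNormal p ((Cfsg.largestPReduced p H ⊓ L).subgroupOf L) ∧ L ⊓ Subgroup.centralizer ((Cfsg.largestPReducedOf p L : Subgroup H) : Set H) = L ⊓ Subgroup.centralizer (Cfsg.largestPReduced p H : Set H) ∧ L ⊓ Subgroup.centralizer (Cfsg.largestPReduced p H : Set H) = L ⊓ Subgroup.centralizer ((Cfsg.largestPReduced p H ⊓ L : Subgroup H) : Set H) ∧ (Cfsg.pResidual p H ≤ L → (⁅(Cfsg.largestPReducedOf p L), L⁆ = ⊥ ↔ ⁅Cfsg.largestPReduced p H, (⊤ : Subgroup H)⁆ = ⊥)) := by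
  classical
  set Y : Subgroup H := Cfsg.largestPReduced p H with hYdef
  have hY : Cfsg.IsPReducedNormal p Y := (largestPReduced_spec' (p := p) (L := H)).1
  haveI hYn : Y.Normal := hY.1
  set YL : Subgroup H := Cfsg.largestPReducedOf p L with hYLdef
  set V : Subgroup H := Y ⊓ L with hV
  have hVL : V ≤ L := inf_le_right
  have hVY : V ≤ Y := inf_le_left
  have hLV : L ≤ Subgroup.normalizer (V : Set H) := by
    apply le_normalizer_of_conj_mem
    intro l hl v hv
    obtain ⟨hv1, hv2⟩ := Subgroup.mem_inf.mp hv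
    exact Subgroup.mem_inf.mpr ⟨hYn.conj_mem v hv1 l, L.mul_mem (L.mul_mem hl hv2) (L.inv_mem hl)⟩
  haveI := hY.2.1.1
  have hVe : Cfsg.IsElementaryAbelian p V :=
    ⟨isMulCommutative_of_le hVY, fun a ha => hY.2.1.2 a (hVY ha)⟩
  have hCYV : Subgroup.centralizer (Y : Set H) ≤ Subgroup.centralizer (V : Set H) :=
    Subgroup.centralizer_le (by exact_mod_cast hVY)
  have hsn : ∀ D : Subgroup H, D ≤ L → L ≤ Subgroup.normalizer (D : Set H) → D.IsSubnormal := by
    intro D hDL hLD
    exact Subgroup.IsSubnormal.trans hDL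
      ((Subgroup.normal_subgroupOf_iff_le_normalizer hDL).mpr hLD).isSubnormal hL
  have hVr : RedOn p V L := by
    intro D hDL hLD hDp
    exact (le_centralizer_of_subnormal_of_acts hY hL (hsn D hDL hLD) hDL hDp).trans hCYV
  have hVYL : V ≤ YL := le_largestPReducedOf hVL hLV hVe hVr
  have h4 : L ⊓ Subgroup.centralizer (Y : Set H) = L ⊓ Subgroup.centralizer (V : Set H) := by
    apply le_antisymm (inf_le_inf_left _ hCYV)
    apply le_inf inf_le_left
    apply le_centralizer_of_subnormal_of_acts hY hL (hsn _ inf_le_left ?_) inf_le_left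
    · intro d hd
      exact ⟨0, by rw [pow_zero, pow_one]; exact (Subgroup.mem_inf.mp hd).2⟩
    · apply le_normalizer_of_conj_mem
      intro l hl f hf
      obtain ⟨hf1, hf2⟩ := Subgroup.mem_inf.mp hf
      exact Subgroup.mem_inf.mpr ⟨L.mul_mem (L.mul_mem hl hf1) (L.inv_mem hl),
        conj_mem_of_le_normalizer (hLV.trans (normalizer_le_normalizer_centralizer V)) hl hf2⟩
  have h3 : L ⊓ Subgroup.centralizer (YL : Set H) = L ⊓ Subgroup.centralizer (Y : Set H) := by
    apply le_antisymm
    · rw [h4]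
      exact inf_le_inf_left _ (Subgroup.centralizer_le (by exact_mod_cast hVYL))
    · exact le_inf inf_le_left (inf_centralizer_largestPReduced_le hL)
  refine ⟨?_, ?_, h3, h4, ?_⟩
  · apply le_antisymm
    · exact le_inf inf_le_left hVYL
    · exact inf_le_inf_left _ (largestPReducedOf_le p L)
  · exact (isPReducedNormal_subgroupOf_iff hVL).mpr ⟨hLV, hVe, hVr⟩
  · intro hO
    rw [Subgroup.commutator_eq_bot_iff_le_centralizer, Subgroup.commutator_eq_bot_iff_le_centralizer,
      Subgroup.le_centralizer_iff, Subgroup.le_centralizer_iff (H := Y)]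
    constructor
    · intro h
      have h1 : L ≤ Subgroup.centralizer (Y : Set H) := by
        have : L ≤ L ⊓ Subgroup.centralizer (YL : Set H) := le_inf le_rfl h
        rw [h3] at this
        exact this.trans inf_le_right
      apply ((isPReducedNormal_iff Y).mp hY).2.2 ⊤ inferInstance
      intro d _
      obtain ⟨a, ha⟩ := exists_pow_coprime p d
      refine ⟨a, ?_⟩
      have := ha 0
      rw [add_zero] at this
      exact h1 (hO (mem_pResidual_of_coprime' this))
    · intro h
      have : L ≤ L ⊓ Subgroup.centralizer (Y : Set H) := le_inf le_rfl (le_top.trans h)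
      rw [← h3] at this
      exact this.trans inf_le_right

end Cfsg.Agent.S2825
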