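import Mathlib
import Cfsg.Agent.Lib.Helper6.CocycleSylow
import Cfsg.Agent.Lib.Helper6.PReduced7
import Cfsg.Statements.S2826

set_option autoImplicit false
open Cfsg

namespace Cfsg.Agent.S2826

open Cfsg.Agent.Lib.Helper6
open scoped commutatorElement

/-- Let H be a finite group of characteristic p, T a Sylow p-subgroup, and V a normal elementary abelian p-subgroup of H containing Ω₁(Z(T)). Then C_H(Ω₁(Z(T))) = C_H([V, O^p(H)] ∩ Ω₁(Z(T))), O^p(H) being generated by the elements of order prime to p. -/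
theorem result {H : Type*} [Group H] [Finite H] {p : ℕ} [Fact p.Prime] (hH : Subgroup.centralizer (Cfsg.pCore p H : Set H) ≤ Cfsg.pCore p H) (T : Sylow p H) (V : Subgroup H) [V.Normal] (hV : Cfsg.IsElementaryAbelian p V) (hZV : (Cfsg.omegaOne p ((T : Subgroup H) ⊓ Subgroup.centralizer (((T : Subgroup H) : Subgroup H) : Set H))) ≤ V) : Subgroup.centralizer ((Cfsg.omegaOne p ((T : Subgroup H) ⊓ Subgroup.centralizer (((T : Subgroup H) : Subgroup H) : Set H))) : Set H) = Subgroup.centralizer (((⁅V, Cfsg.pResidual p H⁆ ⊓ (Cfsg.omegaOne p ((T : Subgroup H) ⊓ Subgroup.centralizer (((T : Subgroup H) : Subgroup H) : Set H)))) : Subgroup H) : Set H) := by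
  classical
  set Z : Subgroup H := Cfsg.omegaOne p ((T : Subgroup H) ⊓
    Subgroup.centralizer (((T : Subgroup H) : Subgroup H) : Set H)) with hZ
  set R : Subgroup H := Cfsg.pResidual p H with hR
  set W : Subgroup H := ⁅V, R⁆ with hW
  haveI hRn : R.Normal := pResidual_normal' p
  haveI hWn : W.Normal := by rw [hW]; infer_instance
  have hWV : W ≤ V := Subgroup.commutator_le_left V R
  haveI := hV.1
  haveI hWc : IsMulCommutative W := isMulCommutative_of_le hWV
  have hVp : IsPGroup p V := isPGroup_of_isElementaryAbelian hV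
  have hVT : V ≤ T := (le_pCore inferInstance hVp).trans (pCore_le_sylow T)
  apply le_antisymm
  · exact Subgroup.centralizer_le (by exact_mod_cast (inf_le_right : W ⊓ Z ≤ Z))
  set K : Subgroup H := Subgroup.centralizer (((W ⊓ Z : Subgroup H)) : Set H) with hK
  -- `T ≤ K`
  have hZT : ∀ z ∈ Z, z ∈ (T : Subgroup H) ∧ (∀ t ∈ (T : Subgroup H), t * z = z * t) := by
    intro z hz
    have h1 := omegaOne_le p _ hz
    obtain ⟨h2, h3⟩ := Subgroup.mem_inf.mp h1
    exact ⟨h2, fun t ht => (Subgroup.mem_centralizer_iff.mp h3) t ht⟩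
  have hTK : (T : Subgroup H) ≤ K := by
    intro t ht
    rw [hK, Subgroup.mem_centralizer_iff]
    intro z hz
    exact ((hZT z (Subgroup.mem_inf.mp hz).2).2 t ht).symm
  have hidx : ((T : Subgroup H).relIndex K).Coprime p := by
    have h1 : (T : Subgroup H).relIndex K ∣ (T : Subgroup H).index :=
      Subgroup.relIndex_dvd_index_of_le hTK
    have h2 : ¬ p ∣ (T : Subgroup H).index := T.not_dvd_index
    have h3 : ((T : Subgroup H).index).Coprime p :=
      ((Nat.Prime.coprime_iff_not_dvd Fact.out).mpr h2).symm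
    exact Nat.Coprime.coprime_dvd_left h1 h3
  rw [Subgroup.le_centralizer_iff]
  rw [hZ]
  unfold Cfsg.omegaOne
  rw [Subgroup.closure_le]
  rintro z ⟨hz1, hz2⟩
  obtain ⟨hzT, hzC⟩ := Subgroup.mem_inf.mp hz1
  have hzZ : z ∈ Z := Subgroup.subset_closure ⟨hz1, hz2⟩
  have hzV : z ∈ V := hZV hzZ
  have hzt : ∀ t ∈ (T : Subgroup H), t * z * t⁻¹ = z := by
    intro t ht
    have := (Subgroup.mem_centralizer_iff.mp hzC) t ht
    rw [this, mul_inv_cancel_right]
  have hzW : ∀ k ∈ K, k * z * k⁻¹ * z⁻¹ ∈ W := by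
    intro k _
    have htop := pResidual_sup_sylow (p := p) T
    have hk' : k ∈ R ⊔ (T : Subgroup H) := by rw [hR, htop]; trivial
    rw [Subgroup.mem_sup_of_normal_left] at hk'
    obtain ⟨r, hr, t, ht, rfl⟩ := hk'
    have e : r * t * z * (r * t)⁻¹ * z⁻¹ = r * (t * z * t⁻¹) * r⁻¹ * z⁻¹ := by group
    rw [e, hzt t ht, hW, Subgroup.commutator_comm]
    have : r * z * r⁻¹ * z⁻¹ = ⁅r, z⁆ := by rw [commutatorElement_def]
    rw [this]
    exact Subgroup.commutator_mem_commutator hr hzV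
  obtain ⟨w, hwW, hw⟩ := exists_coboundary_of_sylow_trivial W K (T : Subgroup H)
    (fun w hw => hV.2 w (hWV hw)) (by rw [Subgroup.normalizer_eq_top_iff.mpr hWn]; exact le_top)
    hTK hidx z hzW hzt
  -- `w ∈ W ⊓ Z`
  have hwT : w ∈ (T : Subgroup H) := hVT (hWV hwW)
  have hwC : w ∈ Subgroup.centralizer (((T : Subgroup H) : Subgroup H) : Set H) := by
    rw [Subgroup.mem_centralizer_iff]
    intro t ht
    have h1 := hw t (hTK ht)
    rw [hzt t ht, mul_inv_cancel] at h1
    have h2 : t * w * t⁻¹ = w := by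
      have := h1.symm
      rwa [mul_inv_eq_one] at this
    calc t * w = (t * w * t⁻¹) * t := by group
      _ = w * t := by rw [h2]
  have hwZ : w ∈ Z := Subgroup.subset_closure ⟨Subgroup.mem_inf.mpr ⟨hwT, hwC⟩, hV.2 w (hWV hwW)⟩
  -- conclude
  show z ∈ Subgroup.centralizer (K : Set H)
  rw [Subgroup.mem_centralizer_iff]
  intro k hk
  have h1 := hw k hk
  have h2 : w * k = k * w :=
    (Subgroup.mem_centralizer_iff.mp hk) w (Subgroup.mem_inf.mpr ⟨hwW, hwZ⟩)
  have h3 : k * w * k⁻¹ * w⁻¹ = 1 := by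
    rw [← h2]; group
  rw [h3] at h1
  have h4 : k * z * k⁻¹ = z := by rwa [mul_inv_eq_one] at h1
  calc k * z = (k * z * k⁻¹) * k := by group
    _ = z * k := by rw [h4]

end Cfsg.Agent.S2826
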