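import Mathlib
import Cfsg.Agent.Lib.Helper6.PRes
import Cfsg.Agent.Lib.Helper6.Conj2
import Cfsg.Agent.Lib.Helper6.StrEmb2
import Cfsg.Statements.S2827

set_option autoImplicit false
open Cfsg Cfsg.Agent.Lib.Helper6
open scoped commutatorElement

namespace Cfsg.Agent.S2827

/-- Let H be a finite p-irreducible group (not p-closed, and O^p(H) lies in every normal subgroup that is not p-closed) and T a Sylow p-subgroup. Then H is generated by the conjugates of T and H = H'·T; O^p(H) ≤ H'; and for every normal subgroup Y of T not contained in O_p(H), O^p(H) = [O^p(H), Y] and O^p(H) is contained in the normal closure of Y in H. -/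
theorem result {H : Type*} [Group H] [Finite H] {p : ℕ} [Fact p.Prime] (hH : Cfsg.IsPIrreducible p H) (T : Sylow p H) : Subgroup.normalClosure ((T : Subgroup H) : Set H) = ⊤ ∧ commutator H ⊔ (T : Subgroup H) = ⊤ ∧ Cfsg.pResidual p H ≤ commutator H ∧ ∀ Y : Subgroup H, Y ≤ (T : Subgroup H) → (T : Subgroup H) ≤ Subgroup.normalizer (Y : Set H) → ¬ Y ≤ Cfsg.pCore p H → ⁅Cfsg.pResidual p H, Y⁆ = Cfsg.pResidual p H ∧ Cfsg.pResidual p H ≤ Subgroup.normalClosure (Y : Set H) := by
  obtain ⟨hncl, hirr⟩ := hH
  set R := pResidual p H with hR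
  have hRT : R ⊔ (T : Subgroup H) = ⊤ := pResidual_sup_sylow T
  have ha : Subgroup.normalClosure ((T : Subgroup H) : Set H) = ⊤ := by
    have hTN : (T : Subgroup H) ≤ Subgroup.normalClosure ((T : Subgroup H) : Set H) :=
      Subgroup.le_normalClosure
    have h1 : ¬ IsPClosed p ↥(Subgroup.normalClosure ((T : Subgroup H) : Set H)) :=
      not_isPClosed_of_sylow_le hncl _ T hTN
    have h2 := hirr _ Subgroup.normalClosure_normal h1
    rw [eq_top_iff, ← hRT]
    exact sup_le h2 hTN
  have hb : commutator H ⊔ (T : Subgroup H) = ⊤ := by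
    have hn : (commutator H ⊔ (T : Subgroup H)).Normal :=
      Subgroup.Normal.of_commutator_le _ le_sup_left
    rw [eq_top_iff, ← ha]
    exact Subgroup.normalClosure_le_normal (fun x hx => (le_sup_right : (T : Subgroup H) ≤ commutator H ⊔ (T : Subgroup H)) hx)
  have hc : R ≤ commutator H := by
    apply pResidual_le_of_isPGroup_quotient
    apply isPGroup_quotient_of_sylow_sup_eq_top _ (T : Subgroup H) T.isPGroup'
    rw [sup_comm]; exact hb
  refine ⟨ha, hb, hc, ?_⟩
  intro Y hYT hTY hYO
  have hYp : IsPGroup p Y := T.isPGroup'.to_le hYT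
  have hkey : ∀ N : Subgroup H, N.Normal → Y ≤ N → R ≤ N := by
    intro N hN hYN
    have := hN
    apply hirr N hN
    intro hcl
    exact hYO (le_pCore_of_isPClosed_normal N hcl hYN hYp)
  constructor
  · set K := ⁅R, Y⁆ with hK
    have hKR : K ≤ R := Subgroup.commutator_le_left _ _
    have hTK : (T : Subgroup H) ≤ Subgroup.normalizer (K : Set H) := by
      intro t ht
      apply mem_normalizer_of_map_conj_eq_self
      rw [hK, Subgroup.map_commutator, map_conj_eq_self_of_normal,
        map_conj_eq_self_of_mem_normalizer (hTY ht)]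
    have hKn : K.Normal := by
      have h1 : R ≤ Subgroup.normalizer (K : Set H) := Subgroup.normalizer_commutator_ge_left R Y
      have : Subgroup.normalizer (K : Set H) = ⊤ := by
        rw [eq_top_iff, ← hRT]; exact sup_le h1 hTK
      exact Subgroup.normalizer_eq_top_iff.mp this
    have hKYn : (K ⊔ Y).Normal := by
      have h1 : R ≤ Subgroup.normalizer ((K ⊔ Y : Subgroup H) : Set H) := by
        intro r hr
        apply mem_normalizer_of_forall_conj_mem
        intro x hx
        obtain ⟨k, hk, y, hy, rfl⟩ := Subgroup.mem_sup_of_normal_left.mp hx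
        have e : r * (k * y) * r⁻¹ = (r * k * r⁻¹) * ⁅r, y⁆ * y := by
          simp [commutatorElement_def]; group
        rw [e]
        exact (K ⊔ Y).mul_mem ((K ⊔ Y).mul_mem (Subgroup.mem_sup_left (hKn.conj_mem k hk r))
          (Subgroup.mem_sup_left (Subgroup.commutator_mem_commutator hr hy)))
          (Subgroup.mem_sup_right hy)
      have h2 : (T : Subgroup H) ≤ Subgroup.normalizer ((K ⊔ Y : Subgroup H) : Set H) := by
        intro t ht
        apply mem_normalizer_of_map_conj_eq_self
        rw [Subgroup.map_sup, map_conj_eq_self_of_normal,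
          map_conj_eq_self_of_mem_normalizer (hTY ht)]
      have : Subgroup.normalizer ((K ⊔ Y : Subgroup H) : Set H) = ⊤ := by
        rw [eq_top_iff, ← hRT]; exact sup_le h1 h2
      exact Subgroup.normalizer_eq_top_iff.mp this
    have h3 : R ≤ K ⊔ Y := hkey _ hKYn le_sup_right
    apply le_antisymm hKR
    apply pResidual_le_of_forall
    intro g hg
    exact mem_of_coprime_of_mem_sup K hYp hg (h3 (mem_pResidual_of_coprime' hg))
  · exact hkey _ Subgroup.normalClosure_normal Subgroup.le_normalClosure

end Cfsg.Agent.S2827
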