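import Mathlib
import Cfsg.Agent.Lib.Helper6.PRes
import Cfsg.Agent.Lib.Helper6.QuotLattice
import Cfsg.Statements.S2828

set_option autoImplicit false
open Cfsg Cfsg.Agent.Lib.Helper6
open scoped commutatorElement

namespace Cfsg.Agent.S2828

/-- Let H be a finite group, p a prime and D a normal p-subgroup of H. Then H is p-irreducible if and only if H/D is p-irreducible, and H is strongly p-irreducible if and only if H/D is strongly p-irreducible. -/
theorem result {H : Type*} [Group H] [Finite H] {p : ℕ} [Fact p.Prime] (D : Subgroup H) [D.Normal] (hD : IsPGroup p ↥D) : (Cfsg.IsPIrreducible p H ↔ Cfsg.IsPIrreducible p (H ⧸ D)) ∧ (Cfsg.IsStronglyPIrreducible p H ↔ Cfsg.IsStronglyPIrreducible p (H ⧸ D)) := by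
  set π := QuotientGroup.mk' D with hπ
  have hsurj : Function.Surjective π := QuotientGroup.mk'_surjective D
  have hres : (pResidual p H).map π = pResidual p (H ⧸ D) := pResidual_map_of_surjective π hsurj
  have hcl : IsPClosed p H ↔ IsPClosed p (H ⧸ D) := isPClosed_quotient_iff D hD
  have hDO : D ≤ pCore p H := le_pCore inferInstance hD
  have hcore : pCore p (H ⧸ D) = (pCore p H).map π := pCore_quotient_of_isPGroup D hD
  -- transfer of the conclusion
  have down : ∀ N : Subgroup (H ⧸ D), pResidual p H ≤ N.comap π → pResidual p (H ⧸ D) ≤ N := by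
    intro N h
    rw [← hres, ← Subgroup.map_comap_eq_self_of_surjective hsurj N]
    exact Subgroup.map_mono h
  have up : ∀ N : Subgroup H, N.Normal → pResidual p (H ⧸ D) ≤ N.map π → pResidual p H ≤ N := by
    intro N hN h
    haveI := hN
    apply pResidual_le_of_le_sup N hD
    rw [← hres] at h
    have := Subgroup.comap_mono (f := π) h
    rw [comap_mk_map_mk D N] at this
    exact (Subgroup.le_comap_map π _).trans this
  constructor
  · constructor
    · rintro ⟨hncl, hirr⟩
      refine ⟨fun h => hncl (hcl.mpr h), ?_⟩
      intro N hN hNcl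
      apply down
      apply hirr _ (hN.comap π)
      rw [isPClosed_comap_mk_iff D hD N]
      exact hNcl
    · rintro ⟨hncl, hirr⟩
      refine ⟨fun h => hncl (hcl.mp h), ?_⟩
      intro N hN hNcl
      apply up N hN
      apply hirr _ (Subgroup.Normal.map hN π hsurj)
      rw [← isPClosed_map_mk_iff D hD N]
      exact hNcl
  · constructor
    · rintro ⟨hncl, hs⟩
      refine ⟨fun h => hncl (hcl.mpr h), ?_⟩
      intro N hN hNc
      apply down
      apply hs _ (hN.comap π)
      intro hle
      apply hNc
      have h1 := Subgroup.map_mono (f := π) hle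
      rw [Subgroup.map_commutator, Subgroup.map_comap_eq_self_of_surjective hsurj N,
        ← MonoidHom.range_eq_map, MonoidHom.range_eq_top.mpr hsurj, ← hcore] at h1
      exact h1
    · rintro ⟨hncl, hs⟩
      refine ⟨fun h => hncl (hcl.mp h), ?_⟩
      intro N hN hNc
      apply up N hN
      apply hs _ (Subgroup.Normal.map hN π hsurj)
      intro hle
      apply hNc
      have h0 : (⊤ : Subgroup (H ⧸ D)) = (⊤ : Subgroup H).map π := by
        rw [← MonoidHom.range_eq_map, MonoidHom.range_eq_top.mpr hsurj]
      rw [h0, ← Subgroup.map_commutator, hcore] at hle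
      have := Subgroup.comap_mono (f := π) hle
      rw [comap_mk_map_mk D (pCore p H), sup_eq_left.mpr hDO] at this
      exact (Subgroup.le_comap_map π _).trans this

end Cfsg.Agent.S2828
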