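import Mathlib
import Cfsg.Agent.Lib.Helper6.PCore
import Cfsg.Statements.S2829

set_option autoImplicit false
open Cfsg Cfsg.Agent.Lib.Helper6
open scoped commutatorElement

namespace Cfsg.Agent.S2829

/-- Every strongly p-irreducible finite group is p-irreducible. -/
theorem result {H : Type*} [Group H] [Finite H] {p : ℕ} [Fact p.Prime] (hH : Cfsg.IsStronglyPIrreducible p H) : Cfsg.IsPIrreducible p H := by
  refine ⟨hH.1, ?_⟩
  intro N hN hNc
  apply hH.2 N hN
  intro hle
  apply hNc
  -- N is p-closed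
  intro P
  -- R = O_p(H) ⊓ N inside N
  have hR : (pCore p H).subgroupOf N ≤ (P : Subgroup N) := by
    apply IsPGroup.le_sylow_of_normal
    exact (pCore_isPGroup p).comap_subtype
  constructor
  intro x hx n
  -- n x n⁻¹ = [n, x] x
  have h1 : n * x * n⁻¹ = ⁅n, x⁆ * x := by rw [commutatorElement_def]; group
  rw [h1]
  refine Subgroup.mul_mem _ (hR ?_) hx
  rw [Subgroup.mem_subgroupOf]
  apply hle
  have h2 : ((⁅n, x⁆ : N) : H) = ⁅(n : H), (x : H)⁆ := by
    simp [commutatorElement_def]
  rw [h2]
  exact Subgroup.commutator_mem_commutator n.2 (Subgroup.mem_top _)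

end Cfsg.Agent.S2829
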