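import Mathlib
import Cfsg.Agent.Lib.Helper6.PRes
import Cfsg.Statements.S2830

set_option autoImplicit false
open Cfsg Cfsg.Agent.Lib.Helper6
open scoped commutatorElement

namespace Cfsg.Agent.S2830

/-- Let H act by conjugation on the elementary abelian p-subgroup V of a finite group G (H ≤ N(V)), with H p-irreducible and O^p(H) not centralizing V. Then C_H(V) is p-closed and C_T(V) ≤ O_p(H) for every p-subgroup T of H. If in addition O_p(H) centralizes V, then C_T(V) = T ∩ O_p(H) for every p-subgroup T of H, and V is p-reduced for H: O_p(H/C_H(V)) = 1. -/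
theorem result {G : Type*} [Group G] [Finite G] {p : ℕ} [Fact p.Prime] (V H : Subgroup G) (hV : Cfsg.IsElementaryAbelian p V) (hHV : H ≤ Subgroup.normalizer (V : Set G)) (hH : Cfsg.IsPIrreducible p ↥H) (hnc : ¬ (Cfsg.pResidual p ↥H).map H.subtype ≤ Subgroup.centralizer (V : Set G)) [hn : ((Subgroup.centralizer (V : Set G)).subgroupOf H).Normal] : Cfsg.IsPClosed p ↥(H ⊓ Subgroup.centralizer (V : Set G)) ∧ (∀ T : Subgroup G, T ≤ H → IsPGroup p ↥T → T ⊓ Subgroup.centralizer (V : Set G) ≤ Cfsg.pCoreOf p H) ∧ (Cfsg.pCoreOf p H ≤ Subgroup.centralizer (V : Set G) → (∀ T : Subgroup G, T ≤ H → IsPGroup p ↥T → T ⊓ Subgroup.centralizer (V : Set G) = T ⊓ Cfsg.pCoreOf p H) ∧ Cfsg.pCore p (↥H ⧸ (Subgroup.centralizer (V : Set G)).subgroupOf H) = ⊥) := by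
  obtain ⟨hncl, hirr⟩ := hH
  set C : Subgroup ↥H := (Subgroup.centralizer (V : Set G)).subgroupOf H with hC
  have hCcl : IsPClosed p ↥C := by
    by_contra hcon
    apply hnc
    have h1 := hirr C hn hcon
    rintro _ ⟨x, hx, rfl⟩
    have h2 := h1 hx
    rw [hC, Subgroup.mem_subgroupOf] at h2
    exact h2
  have h2 : ∀ T : Subgroup G, T ≤ H → IsPGroup p ↥T →
      T ⊓ Subgroup.centralizer (V : Set G) ≤ pCoreOf p H := by
    intro T hTH hTp x hx
    have hQ : ((T ⊓ Subgroup.centralizer (V : Set G)).subgroupOf H) ≤ pCore p ↥H := by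
      apply le_pCore_of_isPClosed_normal C hCcl
      · intro y hy
        rw [Subgroup.mem_subgroupOf] at hy
        rw [hC, Subgroup.mem_subgroupOf]; exact hy.2
      · exact (hTp.to_le inf_le_left).comap_subtype
    exact ⟨⟨x, hTH hx.1⟩, hQ (by rw [Subgroup.mem_subgroupOf]; exact hx), rfl⟩
  refine ⟨?_, h2, ?_⟩
  · let f : ↥C →* ↥(H ⊓ Subgroup.centralizer (V : Set G)) :=
      (H.subtype.comp C.subtype).codRestrict (H ⊓ Subgroup.centralizer (V : Set G))
        (fun x => ⟨x.1.2, x.2⟩)
    have hf : Function.Surjective f := by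
      intro y
      exact ⟨⟨⟨y.1, y.2.1⟩, y.2.2⟩, Subtype.ext rfl⟩
    exact isPClosed_of_surjective f hf hCcl
  · intro hO
    refine ⟨fun T hTH hTp => le_antisymm (le_inf inf_le_left (h2 T hTH hTp))
      (inf_le_inf_left _ hO), ?_⟩
    have hOC : pCore p ↥H ≤ C := by
      intro y hy
      rw [hC, Subgroup.mem_subgroupOf]
      exact hO ⟨y, hy, rfl⟩
    set P := (pCore p (↥H ⧸ C)).comap (QuotientGroup.mk' C) with hP
    haveI hPn : P.Normal := Subgroup.Normal.comap inferInstance _
    have hPmap : P.map (QuotientGroup.mk' C) = pCore p (↥H ⧸ C) :=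
      Subgroup.map_comap_eq_self_of_surjective (QuotientGroup.mk'_surjective C) _
    have hPCp : IsPGroup p (P.map (QuotientGroup.mk' C)) := by
      rw [hPmap]; exact pCore_isPGroup p
    have hPcl : IsPClosed p ↥P := by
      by_contra hcon
      have h1 := hirr P hPn hcon
      apply hnc
      have h3 : pResidual p ↥H ≤ C := by
        apply pResidual_le_of_forall
        intro g hg
        exact mem_of_coprime_of_isPGroup_map P C hPCp (h1 (mem_pResidual_of_coprime' hg)) hg
      rintro _ ⟨x, hx, rfl⟩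
      have h4 := h3 hx
      rw [hC, Subgroup.mem_subgroupOf] at h4
      exact h4
    have hPC : P ≤ C := le_of_isPClosed_of_isPGroup_map P C hPcl hOC hPCp
    rw [eq_bot_iff, ← hPmap]
    rintro _ ⟨x, hx, rfl⟩
    rw [Subgroup.mem_bot]
    exact (QuotientGroup.eq_one_iff x).mpr (hPC hx)

end Cfsg.Agent.S2830
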