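import Mathlib
import Cfsg.Agent.Lib.Helper6.PRes
import Cfsg.Agent.Lib.Helper6.YL
import Cfsg.Agent.Lib.Helper6.Amalgam4
import Cfsg.Agent.Lib.Helper6.Conj2
import Cfsg.Statements.S2831

set_option autoImplicit false
open Cfsg Cfsg.Agent.Lib.Helper6
open scoped commutatorElement

namespace Cfsg.Agent.S2831

/-- Let H be a finite group with Sylow p-subgroup T such that H is T-minimal (H is generated by the conjugates of T and T lies in exactly one maximal subgroup of H). Then H is p-irreducible: H is not p-closed and O^p(H) lies in every normal subgroup of H that is not p-closed. -/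
theorem result {H : Type*} [Group H] [Finite H] {p : ℕ} [Fact p.Prime] (T : Sylow p H) (hmin : Cfsg.IsMinimalOver (T : Subgroup H)) : Cfsg.IsPIrreducible p H := by
  obtain ⟨hnc, M, ⟨hMco, hTM⟩, hMuniq⟩ := hmin
  -- any proper subgroup containing T is ≤ M
  have hle : ∀ K : Subgroup H, (T : Subgroup H) ≤ K → K ≠ ⊤ → K ≤ M := by
    intro K hTK hK
    obtain ⟨M', hM', hKM'⟩ := (eq_top_or_exists_le_coatom K).resolve_left hK
    have := hMuniq M' ⟨hM', hTK.trans hKM'⟩
    rw [← this]; exact hKM'
  constructor
  · intro hcl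
    have hTn : (T : Subgroup H).Normal := hcl T
    have : Subgroup.normalClosure ((T : Subgroup H) : Set H) = T := Subgroup.normalClosure_eq_self _
    rw [this] at hnc
    apply hMco.1
    rw [eq_top_iff, ← hnc]
    exact hTM
  · intro N hN hNcl
    haveI := hN
    set T₀ : Subgroup H := (T : Subgroup H) ⊓ N with hT₀
    have hS : IsSylowOf p N T₀ := isSylowOf_inf_of_le_normalizer T N (by
      rw [Subgroup.normalizer_eq_top]; exact le_top)
    have hfr := frattini_isSylowOf (G := (⊤ : Subgroup H)) (N := N) le_top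
      (fun g _ n hn => hN.conj_mem n hn g) hS
    have hTnorm : (T : Subgroup H) ≤ Subgroup.normalizer (T₀ : Set H) := by
      intro t ht
      apply mem_normalizer_of_forall_conj_mem
      intro y hy
      exact Subgroup.mem_inf.mpr ⟨(T : Subgroup H).mul_mem ((T : Subgroup H).mul_mem ht hy.1)
        ((T : Subgroup H).inv_mem ht), hN.conj_mem y hy.2 t⟩
    by_cases hcase : Subgroup.normalizer (T₀ : Set H) = ⊤
    · exfalso
      apply hNcl
      obtain ⟨S, hSmap⟩ := hS.exists_sylow
      apply isPClosed_of_normal_sylow S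
      constructor
      intro s hs n
      have h1 : ((s : N) : H) ∈ T₀ := by rw [← hSmap]; exact ⟨s, hs, rfl⟩
      have h2 : (n : H) ∈ Subgroup.normalizer (T₀ : Set H) := by rw [hcase]; trivial
      have h3 : (n : H) * (s : H) * (n : H)⁻¹ ∈ T₀ :=
        (Subgroup.mem_normalizer_iff.mp h2 (s : H)).mp h1
      rw [← hSmap] at h3
      obtain ⟨y, hy, hyeq⟩ := h3
      have : y = n * s * n⁻¹ := Subtype.ext (by simpa using hyeq)
      rw [← this]; exact hy
    · have hNM : Subgroup.normalizer (T₀ : Set H) ≤ M := hle _ hTnorm hcase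
      have htop : (T : Subgroup H) ⊔ N = ⊤ := by
        by_contra hne
        have h1 : (T : Subgroup H) ⊔ N ≤ M := hle _ le_sup_left hne
        apply hMco.1
        rw [eq_top_iff]
        intro g _
        obtain ⟨l, hl, b, hb, rfl⟩ := hfr g trivial
        exact M.mul_mem (h1 (Subgroup.mem_sup_right hl)) (hNM hb.2)
      apply pResidual_le_of_isPGroup_quotient N
      intro x
      obtain ⟨g, rfl⟩ := QuotientGroup.mk_surjective x
      have hg : g ∈ (T : Subgroup H) ⊔ N := by rw [htop]; trivial
      obtain ⟨t, ht, n, hn, rfl⟩ := Subgroup.mem_sup_of_normal_right.mp hg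
      obtain ⟨k, hk⟩ := T.isPGroup' ⟨t, ht⟩
      refine ⟨k, ?_⟩
      have h1 : ((t * n : H) : H ⧸ N) = (t : H ⧸ N) := by
        rw [QuotientGroup.mk_mul, (QuotientGroup.eq_one_iff n).mpr hn, mul_one]
      rw [h1, ← QuotientGroup.mk_pow]
      have : t ^ p ^ k = 1 := by
        have := congrArg Subtype.val hk
        simpa using this
      rw [this]; rfl

end Cfsg.Agent.S2831
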