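import Mathlib
import Cfsg.Agent.Lib.Helper6.PRes
import Cfsg.Agent.Lib.Helper6.QuotLattice
import Cfsg.Statements.S2832

set_option autoImplicit false
open Cfsg Cfsg.Agent.Lib.Helper6
open scoped commutatorElement

namespace Cfsg.Agent.S2832

/-- Let H be a finite group with Sylow p-subgroup T such that H is T-minimal (generated by the conjugates of T, with T in exactly one maximal subgroup), and let N be a normal subgroup of H. Then either H/N is a p-group or H/N is minimal over the image of T in the same sense. -/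
theorem result {H : Type*} [Group H] [Finite H] {p : ℕ} [Fact p.Prime] (T : Sylow p H) (hmin : Cfsg.IsMinimalOver (T : Subgroup H)) (N : Subgroup H) [N.Normal] : IsPGroup p (H ⧸ N) ∨ Cfsg.IsMinimalOver ((T : Subgroup H).map (QuotientGroup.mk' N)) := by
  obtain ⟨hnc, M, ⟨hMco, hTM⟩, hMuniq⟩ := hmin
  have hle : ∀ K : Subgroup H, (T : Subgroup H) ≤ K → K ≠ ⊤ → K ≤ M := by
    intro K hTK hK
    obtain ⟨M', hM', hKM'⟩ := (eq_top_or_exists_le_coatom K).resolve_left hK
    have := hMuniq M' ⟨hM', hTK.trans hKM'⟩
    rw [← this]; exact hKM'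
  by_cases htop : (T : Subgroup H) ⊔ N = ⊤
  · left
    exact isPGroup_quotient_of_sylow_sup_eq_top N (T : Subgroup H) T.isPGroup' htop
  · right
    have hTNM : (T : Subgroup H) ⊔ N ≤ M := hle _ le_sup_left htop
    have hNM : N ≤ M := le_sup_right.trans hTNM
    constructor
    · have := Subgroup.map_normalClosure ((T : Subgroup H) : Set H) (QuotientGroup.mk' N)
        (QuotientGroup.mk'_surjective N)
      rw [Subgroup.coe_map, ← this, hnc, ← MonoidHom.range_eq_map,
        MonoidHom.range_eq_top.mpr (QuotientGroup.mk'_surjective N)]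
    · refine ⟨M.map (QuotientGroup.mk' N), ⟨(isCoatom_map_mk_iff N hNM).mpr hMco,
        Subgroup.map_mono hTM⟩, ?_⟩
      rintro M' ⟨hM'co, hTM'⟩
      have h1 : IsCoatom (M'.comap (QuotientGroup.mk' N)) := (isCoatom_comap_mk_iff N M').mpr hM'co
      have h2 : (T : Subgroup H) ≤ M'.comap (QuotientGroup.mk' N) := by
        intro t ht
        rw [Subgroup.mem_comap]
        exact hTM' ⟨t, ht, rfl⟩
      have h3 := hMuniq _ ⟨h1, h2⟩
      rw [← h3, map_mk_comap_mk]

end Cfsg.Agent.S2832
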