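import Mathlib
import Cfsg.Agent.Lib.Helper6.Comm
import Cfsg.Agent.Lib.Helper6.Conj2
import Cfsg.Agent.Lib.Helper6.Amalgam2
import Cfsg.Statements.S2833

set_option autoImplicit false
open Cfsg Cfsg.Agent.Lib.Helper6
open scoped commutatorElement Pointwise

namespace Cfsg.Agent.S2833

/-- Let V be a subgroup of a finite group G normalized by the subgroup L, let X ≤ L and g ∈ L with [V, X, X] = 1 and L generated by X and gXg⁻¹. Put W = [V, L]. Then W = [V, X]·[V, gXg⁻¹], C_W(X) = [V, X], and C_W(L) = [V, X] ∩ [V, gXg⁻¹]. -/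
theorem result {G : Type*} [Group G] [Finite G] (V L : Subgroup G) (hLV : L ≤ Subgroup.normalizer (V : Set G)) (X : Subgroup G) (hX : X ≤ L) (g : G) (hg : g ∈ L) (hq : ⁅⁅V, X⁆, X⁆ = ⊥) (hgen : X ⊔ X.map (MulAut.conj g).toMonoidHom = L) (W : Subgroup G) (hW : W = ⁅V, L⁆) : ⁅V, X⁆ ⊔ ⁅V, X.map (MulAut.conj g).toMonoidHom⁆ = W ∧ W ⊓ Subgroup.centralizer (X : Set G) = ⁅V, X⁆ ∧ W ⊓ Subgroup.centralizer (L : Set G) = ⁅V, X⁆ ⊓ ⁅V, X.map (MulAut.conj g).toMonoidHom⁆ := by
  set Xg : Subgroup G := X.map (MulAut.conj g).toMonoidHom with hXg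
  set A : Subgroup G := ⁅V, X⁆ with hA
  set B : Subgroup G := ⁅V, Xg⁆ with hB
  have hgV : g ∈ Subgroup.normalizer (V : Set G) := hLV hg
  have hXgL : Xg ≤ L := by rw [← hgen]; exact le_sup_right
  have hAV : A ≤ V := Subgroup.le_normalizer_iff_commutator_le_left.mp (hX.trans hLV)
  have hBV : B ≤ V := Subgroup.le_normalizer_iff_commutator_le_left.mp (hXgL.trans hLV)
  have hBA : B = A.map (MulAut.conj g).toMonoidHom := by
    rw [hA, Subgroup.map_commutator, map_conj_eq_self_of_mem_normalizer hgV]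
  have hAX : A ≤ Subgroup.centralizer (X : Set G) :=
    Subgroup.commutator_eq_bot_iff_le_centralizer.mp hq
  have hBXg : B ≤ Subgroup.centralizer (Xg : Set G) := by
    rw [hBA, hXg, ← centralizer_map_conj]
    exact Subgroup.map_mono hAX
  have hVA : V ≤ Subgroup.normalizer (A : Set G) := Subgroup.normalizer_commutator_ge_left V X
  have hVB : V ≤ Subgroup.normalizer (B : Set G) := Subgroup.normalizer_commutator_ge_left V Xg
  -- X and Xg normalize A ⊔ B
  have hXN : X ≤ Subgroup.normalizer ((A ⊔ B : Subgroup G) : Set G) := by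
    intro x hx
    have hxA : x ∈ Subgroup.normalizer (A : Set G) := Subgroup.normalizer_commutator_ge_right V X hx
    apply mem_normalizer_of_map_conj_le
    rw [Subgroup.map_sup]
    apply sup_le
    · rw [map_conj_eq_self_of_mem_normalizer hxA]; exact le_sup_left
    · rintro _ ⟨b, hb, rfl⟩
      have e : (MulAut.conj x).toMonoidHom b = ⁅b, x⁆⁻¹ * b := by
        simp only [MulEquiv.coe_toMonoidHom, MulAut.conj_apply, commutatorElement_def]; group
      rw [e]
      exact (A ⊔ B).mul_mem (Subgroup.mem_sup_left (A.inv_mem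
        (Subgroup.commutator_mem_commutator (hBV hb) hx))) (Subgroup.mem_sup_right hb)
  have hXgN : Xg ≤ Subgroup.normalizer ((A ⊔ B : Subgroup G) : Set G) := by
    intro x hx
    have hxB : x ∈ Subgroup.normalizer (B : Set G) :=
      Subgroup.normalizer_commutator_ge_right V Xg hx
    apply mem_normalizer_of_map_conj_le
    rw [Subgroup.map_sup]
    apply sup_le
    · rintro _ ⟨a, ha, rfl⟩
      have e : (MulAut.conj x).toMonoidHom a = ⁅a, x⁆⁻¹ * a := by
        simp only [MulEquiv.coe_toMonoidHom, MulAut.conj_apply, commutatorElement_def]; group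
      rw [e]
      exact (A ⊔ B).mul_mem (Subgroup.mem_sup_right (B.inv_mem
        (Subgroup.commutator_mem_commutator (hAV ha) hx))) (Subgroup.mem_sup_left ha)
    · rw [map_conj_eq_self_of_mem_normalizer hxB]; exact le_sup_right
  have ha : A ⊔ B = W := by
    rw [hW]
    apply le_antisymm
    · exact sup_le (Subgroup.commutator_mono le_rfl hX) (Subgroup.commutator_mono le_rfl hXgL)
    · rw [← hgen]
      exact commutator_sup_right_le V X Xg (A ⊔ B) le_sup_left le_sup_right hXN hXgN
  -- key: elements of B centralizing X lie in A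
  have hkey : ∀ b ∈ B, b ∈ Subgroup.centralizer (X : Set G) → b ∈ A ∧
      b ∈ Subgroup.centralizer (L : Set G) := by
    intro b hb hbX
    have hbL : b ∈ Subgroup.centralizer (L : Set G) := by
      rw [← hgen, centralizer_sup_eq]
      exact ⟨hbX, hBXg hb⟩
    refine ⟨?_, hbL⟩
    rw [hBA] at hb
    obtain ⟨a, ha', hab⟩ := hb
    have h1 : g * b = b * g := Subgroup.mem_centralizer_iff.mp hbL g hg
    have h2 : a = b := by
      simp only [MulEquiv.coe_toMonoidHom, MulAut.conj_apply] at hab
      have : a = g⁻¹ * b * g := by rw [← hab]; group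
      rw [this, mul_assoc, ← h1]; group
    rw [← h2]; exact ha'
  have hb : W ⊓ Subgroup.centralizer (X : Set G) = A := by
    apply le_antisymm
    · intro w hw
      have hwW : w ∈ B ⊔ A := by rw [sup_comm, ha]; exact hw.1
      have hmem : w ∈ ((B : Set G) * (A : Set G)) := by
        rw [← Subgroup.coe_mul_of_left_le_normalizer_right B A (hBV.trans hVA)]; exact hwW
      obtain ⟨b, hb', a, ha', rfl⟩ := Set.mem_mul.mp hmem
      have hbX : b ∈ Subgroup.centralizer (X : Set G) := by
        have : b = (b * a) * a⁻¹ := by group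
        rw [this]
        exact Subgroup.mul_mem _ hw.2 (Subgroup.inv_mem _ (hAX ha'))
      exact A.mul_mem (hkey b hb' hbX).1 ha'
    · refine le_inf ?_ hAX
      rw [← ha]; exact le_sup_left
  refine ⟨ha, hb, ?_⟩
  apply le_antisymm
  · intro x hx
    have hxX : x ∈ Subgroup.centralizer (X : Set G) :=
      Subgroup.centralizer_le (fun y hy => hX hy) hx.2
    have hxA : x ∈ A := by rw [← hb]; exact ⟨hx.1, hxX⟩
    refine ⟨hxA, ?_⟩
    rw [hBA]
    refine ⟨x, hxA, ?_⟩
    have h1 : g * x = x * g := Subgroup.mem_centralizer_iff.mp hx.2 g hg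
    simp only [MulEquiv.coe_toMonoidHom, MulAut.conj_apply]
    rw [h1]; group
  · intro x hx
    refine ⟨?_, ?_⟩
    · rw [← ha]; exact Subgroup.mem_sup_left hx.1
    · exact (hkey x hx.2 (hAX hx.1)).2

end Cfsg.Agent.S2833
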