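import Cfsg.Statements.S2834
import Cfsg.Agent.Lib.Helper9.LL2
import Cfsg.Agent.Lib.Helper6.PRes
import Cfsg.Agent.Lib.Lead.Core

set_option autoImplicit false
open Cfsg

namespace Cfsg.Agent.S2834

/-- The L-Lemma: let H be a finite group with Sylow p-subgroup T such that H is T-minimal (generated by the conjugates of T, T in exactly one maximal subgroup M), and let A ≤ T with A not contained in O_p(H). Then there is a subgroup L of H containing A·O_p(H) such that (a) A·O_p(L) lies in exactly one maximal subgroup L₀ of L, and L₀ = L ∩ gMg⁻¹ for some g ∈ H; (b) L = ⟨A, xAx⁻¹⟩·O_p(L) for every x ∈ L outside L₀. -/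
theorem result {H : Type*} [Group H] [Finite H] {p : ℕ} [Fact p.Prime] (T : Sylow p H) (hmin : Cfsg.IsMinimalOver (T : Subgroup H)) (M : Subgroup H) (hM : IsCoatom M ∧ (T : Subgroup H) ≤ M) (A : Subgroup H) (hAT : A ≤ (T : Subgroup H)) (hA : ¬ A ≤ Cfsg.pCore p H) : ∃ L : Subgroup H, A ⊔ Cfsg.pCore p H ≤ L ∧ ∃ L₀ : Subgroup H, A ⊔ (Cfsg.pCoreOf p L) ≤ L₀ ∧ L₀ < L ∧ (∀ X : Subgroup H, A ⊔ (Cfsg.pCoreOf p L) ≤ X → X < L → X ≤ L₀) ∧ (∃ g : H, L₀ = L ⊓ ((M : Subgroup H).map (MulAut.conj (g : H)).toMonoidHom)) ∧ ∀ x ∈ L, x ∉ L₀ → (A ⊔ ((A : Subgroup H).map (MulAut.conj (x : H)).toMonoidHom)) ⊔ (Cfsg.pCoreOf p L) = L := by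
  classical
  have hU : Cfsg.Agent.H9LL.UMax (⊤ : Subgroup H) M (T : Subgroup H) := by
    refine ⟨hM.1.lt_top, hM.2, ?_⟩
    intro Z hTZ hZ
    obtain ⟨K, hK, hZK⟩ := (eq_top_or_exists_le_coatom Z).resolve_left hZ.ne
    have h1 : K = M := by
      obtain ⟨M', _, huniq⟩ := hmin.2
      rw [huniq K ⟨hK, hTZ.trans hZK⟩, huniq M hM]
    exact h1 ▸ hZK
  have hcore1 : Cfsg.pCoreOf p (⊤ : Subgroup H) ≤ Cfsg.pCore p H :=
    Cfsg.Agent.Lib.Helper6.pCoreOf_le_pCore p ⊤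
  have hcore2 : Cfsg.pCore p H ≤ Cfsg.pCoreOf p (⊤ : Subgroup H) := by
    have hn : (Cfsg.pCore p H).Normal := Cfsg.Agent.Lib.Lead.pCore_normal p
    refine Cfsg.Agent.Lib.Lead.Subnormalizer.le_pCoreOf le_top
      (Cfsg.Agent.Lib.Lead.pCore_isPGroup p) ?_
    rw [Subgroup.normalizer_eq_top]
  have hA' : ¬ A ≤ Cfsg.pCoreOf p (⊤ : Subgroup H) := fun h => hA (h.trans hcore1)
  obtain ⟨L, _, hBL, x, _, h1, h2, h3, h4⟩ :=
    Cfsg.Agent.H9LL.main (p := p) _ (⊤ : Subgroup H) M (T : Subgroup H) A rfl hU T.2 hAT hA'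
  refine ⟨L, (sup_le_sup_left hcore2 A).trans hBL, L ⊓ Cfsg.Agent.Lib.Helper7.cj x M, h1, h2, h3,
    ⟨x, rfl⟩, ?_⟩
  intro y hy hy'
  exact h4 y hy hy'

end Cfsg.Agent.S2834
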