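import Mathlib
import Cfsg.Agent.Lib.Helper6.PRes
import Cfsg.Agent.Lib.Helper6.Conj
import Cfsg.Agent.Lib.Helper6.Amalgam2
import Cfsg.Statements.S2835

set_option autoImplicit false
open Cfsg Cfsg.Agent.Lib.Helper6
open scoped commutatorElement

namespace Cfsg.Agent.S2835

/-- Let L be a finite group, L₀ a maximal subgroup, T a Sylow p-subgroup of L₀ and Y ≤ T, and suppose L is Y-minimal (generated by the conjugates of Y, with Y in exactly one maximal subgroup, necessarily L₀). Then N_L(T) ≤ L₀, O_p(L) ≤ L₀ and T is a Sylow p-subgroup of L; N_L(L₀) = L₀; L = ⟨Y, gYg⁻¹⟩ for each g ∈ L outside L₀; and if Y is abelian then Y ∩ gYg⁻¹ = C_Y(L) for each such g. -/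
theorem result {L : Type*} [Group L] [Finite L] {p : ℕ} [Fact p.Prime] (L₀ : Subgroup L) (hL₀ : IsCoatom L₀) (T : Sylow p ↥L₀) (Y : Subgroup L) (hYT : Y ≤ (T : Subgroup ↥L₀).map L₀.subtype) (hmin : Cfsg.IsMinimalOver Y) : Subgroup.normalizer (((T : Subgroup ↥L₀).map L₀.subtype : Subgroup L) : Set L) ≤ L₀ ∧ Cfsg.pCore p L ≤ L₀ ∧ (∃ P : Sylow p L, (P : Subgroup L) = (T : Subgroup ↥L₀).map L₀.subtype) ∧ Subgroup.normalizer (L₀ : Set L) = L₀ ∧ (∀ g : L, g ∉ L₀ → Y ⊔ Y.map (MulAut.conj g).toMonoidHom = ⊤) ∧ (IsMulCommutative ↥Y → ∀ g : L, g ∉ L₀ → Y ⊓ Y.map (MulAut.conj g).toMonoidHom = Y ⊓ Subgroup.center L) := by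
  obtain ⟨hnc, M, ⟨hMco, hYM⟩, huniq⟩ := hmin
  set Tm : Subgroup L := (T : Subgroup ↥L₀).map L₀.subtype with hTm
  have hTmL₀ : Tm ≤ L₀ := by rintro _ ⟨y, _, rfl⟩; exact y.2
  have hYL₀ : Y ≤ L₀ := hYT.trans hTmL₀
  have hML₀ : L₀ = M := huniq L₀ ⟨hL₀, hYL₀⟩
  have hle : ∀ K : Subgroup L, Y ≤ K → K ≠ ⊤ → K ≤ L₀ := by
    intro K hYK hK
    obtain ⟨M', hM', hKM'⟩ := (eq_top_or_exists_le_coatom K).resolve_left hK
    have h1 := huniq M' ⟨hM', hYK.trans hKM'⟩
    rw [hML₀, ← h1]; exact hKM'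
  have hnn : ∀ K : Subgroup L, K.Normal → Y ≤ K → K = ⊤ := by
    intro K hK hYK
    haveI := hK
    rw [eq_top_iff, ← hnc]
    exact Subgroup.normalClosure_le_normal hYK
  have hL₀nn : ¬ L₀.Normal := fun h => hL₀.1 (hnn L₀ h hYL₀)
  have hTmp : IsPGroup p Tm := T.isPGroup'.map _
  -- (3)
  have h3 : ∃ P : Sylow p L, (P : Subgroup L) = Tm := by
    obtain ⟨P, hP⟩ := hTmp.exists_le_sylow
    refine ⟨P, ?_⟩
    have hPne : (P : Subgroup L) ≠ ⊤ := by
      intro hPtop
      have hLp : IsPGroup p L := by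
        intro x
        obtain ⟨k, hk⟩ := P.isPGroup' ⟨x, by rw [hPtop]; trivial⟩
        exact ⟨k, by simpa using congrArg Subtype.val hk⟩
      haveI := hLp.isNilpotent
      exact hL₀nn (Subgroup.NormalizerCondition.normal_of_coatom L₀
        normalizerCondition_of_isNilpotent hL₀)
    have hPL₀ : (P : Subgroup L) ≤ L₀ := hle _ (hYT.trans hP) hPne
    exact (isSylowOf_of_sylow T).2.2 _ P.isPGroup' hPL₀ hP
  obtain ⟨P, hP⟩ := h3
  -- (4)
  have h4 : Subgroup.normalizer (L₀ : Set L) = L₀ := by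
    apply le_antisymm _ Subgroup.le_normalizer
    by_contra hcon
    have hlt : L₀ < Subgroup.normalizer (L₀ : Set L) :=
      lt_of_le_of_ne Subgroup.le_normalizer (fun h => hcon (h ▸ le_refl _))
    exact hL₀nn (Subgroup.normalizer_eq_top_iff.mp (hL₀.2 _ hlt))
  -- (5)
  have h5 : ∀ g : L, g ∉ L₀ → Y ⊔ Y.map (MulAut.conj g).toMonoidHom = ⊤ := by
    intro g hg
    by_contra hcon
    have h1 : Y ⊔ Y.map (MulAut.conj g).toMonoidHom ≤ L₀ := hle _ le_sup_left hcon
    have h2 : Y.map (MulAut.conj g).toMonoidHom ≤ L₀ := le_sup_right.trans h1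
    -- Y ≤ L₀ conjugated by g⁻¹
    have h3 : Y ≤ L₀.map (MulAut.conj g⁻¹).toMonoidHom := by
      intro y hy
      refine ⟨g * y * g⁻¹, h2 ⟨y, hy, rfl⟩, ?_⟩
      simp [MulAut.conj_apply]; group
    have h4' : IsCoatom (L₀.map (MulAut.conj g⁻¹).toMonoidHom) :=
      ((MulAut.conj g⁻¹).mapSubgroup.isCoatom_iff (a := L₀)).mpr hL₀
    have h5' := huniq _ ⟨h4', h3⟩
    rw [← hML₀] at h5'
    have h6 : g⁻¹ ∈ Subgroup.normalizer (L₀ : Set L) := mem_normalizer_of_map_conj_eq_self h5'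
    rw [h4] at h6
    exact hg (by simpa using L₀.inv_mem h6)
  refine ⟨?_, ?_, ⟨P, hP⟩, h4, h5, ?_⟩
  · apply hle _ (hYT.trans Subgroup.le_normalizer)
    intro htop
    have hn : Tm.Normal := Subgroup.normalizer_eq_top_iff.mp htop
    have := hnn Tm hn hYT
    exact hL₀.1 (top_le_iff.mp (this ▸ hTmL₀))
  · rw [← hP] at hTmL₀
    exact (pCore_le_sylow P).trans hTmL₀
  · intro hYab g hg
    apply le_antisymm
    · intro x hx
      refine Subgroup.mem_inf.mpr ⟨hx.1, ?_⟩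
      rw [Subgroup.mem_center_iff]
      have hcent : (⊤ : Subgroup L) ≤ Subgroup.centralizer ({x} : Set L) := by
        rw [← h5 g hg]
        apply sup_le
        · intro y hy
          rw [Subgroup.mem_centralizer_singleton_iff]
          have := hYab.is_comm.comm (⟨y, hy⟩ : Y) ⟨x, hx.1⟩
          exact congrArg Subtype.val this
        · rintro _ ⟨y, hy, rfl⟩
          obtain ⟨x', hx', hxx'⟩ := hx.2
          rw [Subgroup.mem_centralizer_singleton_iff, ← hxx']
          have := hYab.is_comm.comm (⟨y, hy⟩ : Y) ⟨x', hx'⟩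
          have h := congrArg Subtype.val this
          simp only [Subgroup.coe_mul] at h
          simp only [MulEquiv.coe_toMonoidHom, MulAut.conj_apply]
          calc g * y * g⁻¹ * (g * x' * g⁻¹) = g * (y * x') * g⁻¹ := by group
            _ = g * (x' * y) * g⁻¹ := by rw [h]
            _ = g * x' * g⁻¹ * (g * y * g⁻¹) := by group
      intro y
      have := hcent (Subgroup.mem_top y)
      rw [Subgroup.mem_centralizer_singleton_iff] at this
      exact this
    · intro x hx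
      refine Subgroup.mem_inf.mpr ⟨hx.1, ⟨x, hx.1, ?_⟩⟩
      have := Subgroup.mem_center_iff.mp hx.2 g
      simp only [MulEquiv.coe_toMonoidHom, MulAut.conj_apply]
      rw [this]; group

end Cfsg.Agent.S2835
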