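import Mathlib
import Cfsg.Agent.S2835
import Cfsg.Agent.Lib.Helper9.Hyperfocal1
import Cfsg.Agent.Lib.Lead.Frattini
import Cfsg.Agent.Lib.Lead.CoprimeTools
import Cfsg.Statements.S2836

set_option autoImplicit false
open Cfsg

namespace Cfsg.Agent.S2836

open Cfsg.Agent.Lib.Helper6
open scoped commutatorElement

section
variable {L : Type*} [Group L] [Finite L] {p : ℕ} [Fact p.Prime]

/-- a proper subgroup containing `Y` lies in `L₀` -/
theorem le_of_ne_top {L₀ Y : Subgroup L} (hL₀ : IsCoatom L₀) (hYL₀ : Y ≤ L₀)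
    (hmin : Cfsg.IsMinimalOver Y) {X : Subgroup L} (hYX : Y ≤ X) (hX : X ≠ ⊤) : X ≤ L₀ := by
  obtain ⟨M, hM, hXM⟩ := (eq_top_or_exists_le_coatom X).resolve_left hX
  have := hmin.2.unique ⟨hM, hYX.trans hXM⟩ ⟨hL₀, hYL₀⟩
  rw [← this]; exact hXM

/-- a maximal subgroup containing a conjugate of `Y` is a conjugate of `L₀` -/
theorem eq_conj_of_coatom {L₀ Y : Subgroup L} (hL₀ : IsCoatom L₀) (hYL₀ : Y ≤ L₀)
    (hmin : Cfsg.IsMinimalOver Y) {M : Subgroup L} (hM : IsCoatom M) (g : L)
    (hg : Y.map (MulAut.conj g).toMonoidHom ≤ M) : L₀.map (MulAut.conj g).toMonoidHom ≤ M := by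
  have h1 : Y ≤ M.map (MulAut.conj g⁻¹).toMonoidHom := map_conj_le_iff.mp hg
  have h2 : M.map (MulAut.conj g⁻¹).toMonoidHom ≠ ⊤ := by
    intro h
    apply hM.1
    have := congrArg (Subgroup.map (MulAut.conj g).toMonoidHom) h
    rw [map_conj_map_conj, mul_inv_cancel, map_conj_one] at this
    rw [this, ← MonoidHom.range_eq_map]
    exact MonoidHom.range_eq_top.mpr (MulAut.conj g).surjective
  have h3 := le_of_ne_top hL₀ hYL₀ hmin h1 h2
  -- so `M^{g⁻¹} ≤ L₀`; both are maximal
  have h4 : M ≤ L₀.map (MulAut.conj g).toMonoidHom := by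
    have := Subgroup.map_mono (f := (MulAut.conj g).toMonoidHom) h3
    rwa [map_conj_map_conj, mul_inv_cancel, map_conj_one] at this
  have h5 : L₀.map (MulAut.conj g).toMonoidHom ≠ ⊤ := by
    intro h
    apply hL₀.1
    have := congrArg (Subgroup.map (MulAut.conj g⁻¹).toMonoidHom) h
    rw [map_conj_map_conj, inv_mul_cancel, map_conj_one] at this
    rw [this, ← MonoidHom.range_eq_map]
    exact MonoidHom.range_eq_top.mpr (MulAut.conj g⁻¹).surjective
  rcases eq_or_lt_of_le h4 with h | h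
  · rw [h]
  · exact absurd (hM.2 _ h) h5

/-- **Key**: a normal subgroup inside `L₀` meets the Sylow subgroup in a subgroup of `O_p(L)`. -/
theorem inf_sylow_le_pCore {L₀ Y : Subgroup L} (hL₀ : IsCoatom L₀) (hYL₀ : Y ≤ L₀)
    (hmin : Cfsg.IsMinimalOver Y) (P₀ : Sylow p L) (hYP : Y ≤ (P₀ : Subgroup L))
    (N : Subgroup L) [hN : N.Normal] (hNL : N ≤ L₀) :
    (P₀ : Subgroup L) ⊓ N ≤ Cfsg.pCore p L := by
  obtain ⟨PC, hPC⟩ := Cfsg.Agent.Lib.Helper9.exists_sylow_map_eq_inf P₀ N
  have hfrat := Sylow.normalizer_sup_eq_top PC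
  rw [hPC] at hfrat
  have hYn : Y ≤ Subgroup.normalizer ((((P₀ : Subgroup L) ⊓ N : Subgroup L)) : Set L) := by
    intro y hy
    apply mem_normalizer_of_forall_conj_mem
    intro s hs
    obtain ⟨hs1, hs2⟩ := Subgroup.mem_inf.mp hs
    exact Subgroup.mem_inf.mpr
      ⟨Subgroup.mul_mem _ (Subgroup.mul_mem _ (hYP hy) hs1) (Subgroup.inv_mem _ (hYP hy)),
        hN.conj_mem s hs2 y⟩
  have htop : Subgroup.normalizer ((((P₀ : Subgroup L) ⊓ N : Subgroup L)) : Set L) = ⊤ := by
    by_contra hne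
    have h1 := le_of_ne_top hL₀ hYL₀ hmin hYn hne
    apply hL₀.1
    rw [eq_top_iff, ← hfrat]
    exact sup_le h1 hNL
  have hn : ((P₀ : Subgroup L) ⊓ N).Normal := Subgroup.normalizer_eq_top_iff.mp htop
  exact le_pCore hn (P₀.isPGroup'.to_le inf_le_left)

/-- consequences for a normal subgroup `N ≤ L₀` -/
theorem normal_facts {L₀ Y : Subgroup L} (hL₀ : IsCoatom L₀) (hYL₀ : Y ≤ L₀)
    (hmin : Cfsg.IsMinimalOver Y) (P₀ : Sylow p L) (hYP : Y ≤ (P₀ : Subgroup L))
    (N : Subgroup L) [hN : N.Normal] (hNL : N ≤ L₀) :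
    Cfsg.IsPClosed p ↥N ∧ Cfsg.pCore p ↥N = (Cfsg.pCore p L).subgroupOf N ∧
      (Nat.card (↥N ⧸ Cfsg.pCore p ↥N)).Coprime p := by
  obtain ⟨PC, hPC⟩ := Cfsg.Agent.Lib.Helper9.exists_sylow_map_eq_inf P₀ N
  have h1 := inf_sylow_le_pCore hL₀ hYL₀ hmin P₀ hYP N hNL
  have h2 : (PC : Subgroup ↥N) = (Cfsg.pCore p L).subgroupOf N := by
    ext x
    rw [Subgroup.mem_subgroupOf]
    constructor
    · intro hx
      apply h1
      rw [← hPC]
      exact ⟨x, hx, rfl⟩
    · intro hx
      have : (x : L) ∈ (PC : Subgroup ↥N).map N.subtype := by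
        rw [hPC]
        exact Subgroup.mem_inf.mpr ⟨pCore_le_sylow P₀ hx, x.2⟩
      obtain ⟨y, hy, hyx⟩ := this
      have : y = x := Subtype.ext hyx
      rw [← this]; exact hy
  have hPCn : (PC : Subgroup ↥N).Normal := by
    rw [h2]; infer_instance
  have h3 : Cfsg.pCore p ↥N = (PC : Subgroup ↥N) :=
    le_antisymm (pCore_le_sylow PC) (le_pCore hPCn PC.isPGroup')
  refine ⟨?_, h3.trans h2, ?_⟩
  · intro S
    haveI := Sylow.unique_of_normal PC hPCn
    have : S = PC := Subsingleton.elim _ _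
    rw [this]; exact hPCn
  · have h4 : Nat.card (↥N ⧸ Cfsg.pCore p ↥N) = (PC : Subgroup ↥N).index := by
      rw [h3]; rfl
    rw [h4]
    exact ((Nat.Prime.coprime_iff_not_dvd Fact.out).mpr PC.not_dvd_index).symm

end

section
variable {L : Type*} [Group L]

theorem isCoatom_map_mk (P : Subgroup L) [P.Normal] {M : Subgroup L} (hM : IsCoatom M)
    (hPM : P ≤ M) : IsCoatom (M.map (QuotientGroup.mk' P)) := by
  have hker : (QuotientGroup.mk' P).ker ≤ M := by rw [QuotientGroup.ker_mk']; exact hPM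
  have hsurj := QuotientGroup.mk'_surjective P
  constructor
  · intro h
    apply hM.1
    have := congrArg (Subgroup.comap (QuotientGroup.mk' P)) h
    rwa [Subgroup.comap_map_eq_self hker, Subgroup.comap_top] at this
  · intro K hK
    have h1 : M ≤ K.comap (QuotientGroup.mk' P) := by
      rw [← Subgroup.map_le_iff_le_comap]; exact hK.le
    rcases eq_or_lt_of_le h1 with h | h
    · exfalso
      have := congrArg (Subgroup.map (QuotientGroup.mk' P)) h
      rw [Subgroup.map_comap_eq_self_of_surjective hsurj] at this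
      exact hK.ne this
    · have h2 := hM.2 _ h
      have := congrArg (Subgroup.map (QuotientGroup.mk' P)) h2
      rw [Subgroup.map_comap_eq_self_of_surjective hsurj, Subgroup.map_top_of_surjective _ hsurj]
        at this
      exact this

theorem isCoatom_comap_mk (P : Subgroup L) [P.Normal] {M : Subgroup (L ⧸ P)} (hM : IsCoatom M) :
    IsCoatom (M.comap (QuotientGroup.mk' P)) := by
  have hsurj := QuotientGroup.mk'_surjective P
  constructor
  · intro h
    apply hM.1
    have := congrArg (Subgroup.map (QuotientGroup.mk' P)) h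
    rwa [Subgroup.map_comap_eq_self_of_surjective hsurj, Subgroup.map_top_of_surjective _ hsurj]
      at this
  · intro K hK
    have hker : (QuotientGroup.mk' P).ker ≤ K := by
      refine le_trans ?_ hK.le
      intro x hx
      rw [Subgroup.mem_comap, MonoidHom.mem_ker.mp hx]
      exact M.one_mem
    have h1 : M ≤ K.map (QuotientGroup.mk' P) := by
      have := Subgroup.map_mono (f := QuotientGroup.mk' P) hK.le
      rwa [Subgroup.map_comap_eq_self_of_surjective hsurj] at this
    rcases eq_or_lt_of_le h1 with h | h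
    · exfalso
      have := congrArg (Subgroup.comap (QuotientGroup.mk' P)) h
      rw [Subgroup.comap_map_eq_self hker] at this
      exact hK.ne this
    · have h2 := hM.2 _ h
      have := congrArg (Subgroup.comap (QuotientGroup.mk' P)) h2
      rwa [Subgroup.comap_map_eq_self hker, Subgroup.comap_top] at this

theorem isCoatom_map_conj {M : Subgroup L} (hM : IsCoatom M) (g : L) :
    IsCoatom (M.map (MulAut.conj g).toMonoidHom) :=
  ((MulAut.conj g).mapSubgroup.isCoatom_iff M).mpr hM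

end

section
variable {L : Type*} [Group L] [Finite L] {p : ℕ} [Fact p.Prime]

theorem core_map_eq_frattini {L₀ Y : Subgroup L} (hL₀ : IsCoatom L₀) (hYL₀ : Y ≤ L₀)
    (hmin : Cfsg.IsMinimalOver Y) (P₀ : Sylow p L) (hYP : Y ≤ (P₀ : Subgroup L))
    (hPL₀ : Cfsg.pCore p L ≤ L₀) :
    (L₀.normalCore).map (QuotientGroup.mk' (Cfsg.pCore p L)) = frattini (L ⧸ Cfsg.pCore p L) := by
  classical
  set P : Subgroup L := Cfsg.pCore p L with hP
  set D : Subgroup L := L₀.normalCore with hD
  set f := QuotientGroup.mk' P with hf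
  have hsurj := QuotientGroup.mk'_surjective P
  have hPD : P ≤ D := Subgroup.normal_le_normalCore.mpr hPL₀
  have hDL₀ : D ≤ L₀ := Subgroup.normalCore_le L₀
  apply le_antisymm
  · -- `D / P ≤ Φ(L / P)`
    rw [Cfsg.Agent.Lib.Lead.le_frattini_iff]
    intro Mb hMb
    set M : Subgroup L := Mb.comap f with hMdef
    have hM : IsCoatom M := isCoatom_comap_mk P hMb
    have hPM : P ≤ M := by
      intro x hx
      rw [hMdef, Subgroup.mem_comap]
      have : f x = 1 := (QuotientGroup.eq_one_iff x).mpr hx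
      rw [this]; exact Mb.one_mem
    suffices hDM : D ≤ M by
      rw [Subgroup.map_le_iff_le_comap]; exact hDM
    by_contra hDM
    have hsup : M ⊔ D = ⊤ := by
      apply hM.2
      refine lt_of_le_of_ne le_sup_left ?_
      intro h
      apply hDM
      rw [h]; exact le_sup_right
    -- cardinalities
    have hcard := Cfsg.Agent.Lib.Lead.card_sup_mul_card_inf M D
      (by rw [Subgroup.normalizer_eq_top_iff.mpr (inferInstance : D.Normal)]; exact le_top)
    rw [hsup, Subgroup.card_top] at hcard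
    obtain ⟨PC, hPC⟩ := Cfsg.Agent.Lib.Helper9.exists_sylow_map_eq_inf P₀ D
    have h1 := inf_sylow_le_pCore hL₀ hYL₀ hmin P₀ hYP D hDL₀
    have hPCeq : (PC : Subgroup ↥D).map D.subtype = P := by
      rw [hPC]
      apply le_antisymm h1
      exact le_inf (pCore_le_sylow P₀) hPD
    have hcardP : Nat.card P = p ^ (Nat.card D).factorization p := by
      rw [← PC.card_eq_multiplicity, ← hPCeq]
      exact Subgroup.card_map_of_injective D.subtype_injective
    have hp : p.Prime := Fact.out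
    have hv1 : (Nat.card D).factorization p ≤ (Nat.card (M ⊓ D : Subgroup L)).factorization p := by
      have hdvd : Nat.card P ∣ Nat.card (M ⊓ D : Subgroup L) :=
        Subgroup.card_dvd_of_le (le_inf hPM hPD)
      rw [hcardP] at hdvd
      exact (hp.pow_dvd_iff_le_factorization Nat.card_pos.ne').mp hdvd
    have hv2 : (Nat.card (M ⊓ D : Subgroup L)).factorization p ≤ (Nat.card D).factorization p := by
      have hdvd : Nat.card (M ⊓ D : Subgroup L) ∣ Nat.card D :=
        Subgroup.card_dvd_of_le inf_le_right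
      exact (Nat.factorization_le_iff_dvd Nat.card_pos.ne' Nat.card_pos.ne').mpr hdvd p
    have hv3 : (Nat.card L).factorization p = (Nat.card M).factorization p := by
      have h2 := congrArg (fun n => n.factorization p) hcard
      rw [Nat.factorization_mul Nat.card_pos.ne' Nat.card_pos.ne',
        Nat.factorization_mul Nat.card_pos.ne' Nat.card_pos.ne'] at h2
      simp only [Finsupp.coe_add, Pi.add_apply] at h2
      omega
    -- a Sylow subgroup of `M` is a Sylow subgroup of `L`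
    obtain ⟨S⟩ : Nonempty (Sylow p ↥M) := inferInstance
    have hScard : Nat.card ((S : Subgroup ↥M).map M.subtype) = p ^ (Nat.card L).factorization p := by
      rw [Subgroup.card_map_of_injective M.subtype_injective, S.card_eq_multiplicity, hv3]
    set S' : Sylow p L := Sylow.ofCard ((S : Subgroup ↥M).map M.subtype) hScard with hS'
    obtain ⟨g, hg⟩ := MulAction.exists_smul_eq L P₀ S'
    have hgM : (P₀ : Subgroup L).map (MulAut.conj g).toMonoidHom ≤ M := by
      rw [← sylow_smul_eq_map_conj, hg]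
      show (S : Subgroup ↥M).map M.subtype ≤ M
      exact Subgroup.map_subtype_le _
    have hYM : Y.map (MulAut.conj g).toMonoidHom ≤ M := (Subgroup.map_mono hYP).trans hgM
    have h3 := eq_conj_of_coatom hL₀ hYL₀ hmin hM g hYM
    apply hDM
    refine le_trans ?_ h3
    have h4 : D.map (MulAut.conj g).toMonoidHom = D :=
      map_conj_eq_self_of_mem_normalizer
        (by rw [Subgroup.normalizer_eq_top_iff.mpr (inferInstance : D.Normal)]; trivial)
    rw [← h4]
    exact Subgroup.map_mono hDL₀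
  · -- `Φ(L / P) ≤ D / P`
    intro xb hxb
    obtain ⟨x, rfl⟩ := hsurj xb
    refine ⟨x, ?_, rfl⟩
    intro b
    -- `x ∈ L₀^{b⁻¹}`
    have hco : IsCoatom (L₀.map (MulAut.conj b⁻¹).toMonoidHom) := isCoatom_map_conj hL₀ b⁻¹
    have hPle : P ≤ L₀.map (MulAut.conj b⁻¹).toMonoidHom := by
      have h4 : P.map (MulAut.conj b⁻¹).toMonoidHom = P :=
        map_conj_eq_self_of_mem_normalizer
          (by rw [Subgroup.normalizer_eq_top_iff.mpr (inferInstance : P.Normal)]; trivial)
      rw [← h4]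
      exact Subgroup.map_mono hPL₀
    have h5 := (Cfsg.Agent.Lib.Lead.mem_frattini_iff.mp hxb) _ (isCoatom_map_mk P hco hPle)
    have hker : (QuotientGroup.mk' P).ker ≤ L₀.map (MulAut.conj b⁻¹).toMonoidHom := by
      rw [QuotientGroup.ker_mk']; exact hPle
    have h6 : x ∈ (L₀.map (MulAut.conj b⁻¹).toMonoidHom) := by
      rw [← Subgroup.comap_map_eq_self hker]
      exact h5
    rw [mem_map_conj] at h6
    simpa using h6

theorem nilpotent_quotient {L₀ Y : Subgroup L} (hL₀ : IsCoatom L₀) (hYL₀ : Y ≤ L₀)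
    (hmin : Cfsg.IsMinimalOver Y) (P₀ : Sylow p L) (hYP : Y ≤ (P₀ : Subgroup L))
    (hPL₀ : Cfsg.pCore p L ≤ L₀) (N : Subgroup L) [hN : N.Normal] (hNL : N ≤ L₀) :
    Group.IsNilpotent (↥N ⧸ Cfsg.pCore p ↥N) := by
  have hfr := core_map_eq_frattini hL₀ hYL₀ hmin P₀ hYP hPL₀
  obtain ⟨-, hcore, -⟩ := normal_facts hL₀ hYL₀ hmin P₀ hYP N hNL
  have hND : N ≤ L₀.normalCore := Subgroup.normal_le_normalCore.mpr hNL
  set P : Subgroup L := Cfsg.pCore p L with hP
  let f' : ↥N →* L ⧸ P := (QuotientGroup.mk' P).comp N.subtype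
  have hmem : ∀ x : ↥N, f' x ∈ frattini (L ⧸ P) := by
    intro x
    rw [← hfr]
    exact ⟨(x : L), hND x.2, rfl⟩
  let f'' : ↥N →* ↥(frattini (L ⧸ P)) := f'.codRestrict (frattini (L ⧸ P)) hmem
  have hker : ∀ x : ↥N, f'' x = 1 ↔ x ∈ Cfsg.pCore p ↥N := by
    intro x
    rw [hcore, Subgroup.mem_subgroupOf]
    constructor
    · intro h
      have h1 : f' x = 1 := by
        have := congrArg Subtype.val h
        exact this
      exact (QuotientGroup.eq_one_iff (x : L)).mp h1
    · intro h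
      apply Subtype.ext
      exact (QuotientGroup.eq_one_iff (x : L)).mpr h
  let ψ : ↥N ⧸ Cfsg.pCore p ↥N →* ↥(frattini (L ⧸ P)) :=
    QuotientGroup.lift (Cfsg.pCore p ↥N) f'' (fun x hx => (hker x).mpr hx)
  have hψ : ψ.ker ≤ Subgroup.center (↥N ⧸ Cfsg.pCore p ↥N) := by
    intro y hy
    obtain ⟨x, rfl⟩ := QuotientGroup.mk_surjective y
    have h1 : f'' x = 1 := MonoidHom.mem_ker.mp hy
    have h2 := (hker x).mp h1
    have : (QuotientGroup.mk x : ↥N ⧸ Cfsg.pCore p ↥N) = 1 := (QuotientGroup.eq_one_iff x).mpr h2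
    rw [this]
    exact Subgroup.one_mem _
  haveI : Group.IsNilpotent ↥(frattini (L ⧸ P)) := frattini_nilpotent
  exact Subgroup.isNilpotent_of_ker_le_center ψ hψ

end

/-- Let L be a finite group, L₀ a maximal subgroup, T a Sylow p-subgroup of L₀, Y ≤ T, and suppose L is Y-minimal. Let D be the intersection of the conjugates of L₀ (the core of L₀). Then D contains O_p(L) and D/O_p(L) is the Frattini subgroup of L/O_p(L), so D is p-closed; and every normal subgroup N of L contained in L₀ is p-closed with N/O_p(N) a nilpotent group of order prime to p. -/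
theorem result {L : Type*} [Group L] [Finite L] {p : ℕ} [Fact p.Prime] (L₀ : Subgroup L) (hL₀ : IsCoatom L₀) (T : Sylow p ↥L₀) (Y : Subgroup L) (hYT : Y ≤ (T : Subgroup ↥L₀).map L₀.subtype) (hmin : Cfsg.IsMinimalOver Y) : (Cfsg.pCore p L ≤ L₀.normalCore ∧ (L₀.normalCore).map (QuotientGroup.mk' (Cfsg.pCore p L)) = frattini (L ⧸ Cfsg.pCore p L) ∧ Cfsg.IsPClosed p ↥(L₀.normalCore)) ∧ ∀ (N : Subgroup L) [N.Normal], N ≤ L₀ → Cfsg.IsPClosed p ↥N ∧ Group.IsNilpotent (↥N ⧸ Cfsg.pCore p ↥N) ∧ (Nat.card (↥N ⧸ Cfsg.pCore p ↥N)).Coprime p := by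
  obtain ⟨-, hPL₀, ⟨P₀, hP₀⟩, -, -, -⟩ := Cfsg.Agent.S2835.result L₀ hL₀ T Y hYT hmin
  have hTL₀ : (T : Subgroup ↥L₀).map L₀.subtype ≤ L₀ := Subgroup.map_subtype_le _
  have hYL₀ : Y ≤ L₀ := hYT.trans hTL₀
  have hYP : Y ≤ (P₀ : Subgroup L) := by rw [hP₀]; exact hYT
  refine ⟨⟨Subgroup.normal_le_normalCore.mpr hPL₀,
    core_map_eq_frattini hL₀ hYL₀ hmin P₀ hYP hPL₀,
    (normal_facts hL₀ hYL₀ hmin P₀ hYP L₀.normalCore (Subgroup.normalCore_le L₀)).1⟩, ?_⟩
  intro N hN hNL
  obtain ⟨h1, -, h3⟩ := normal_facts hL₀ hYL₀ hmin P₀ hYP N hNL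
  exact ⟨h1, nilpotent_quotient hL₀ hYL₀ hmin P₀ hYP hPL₀ N hNL, h3⟩

end Cfsg.Agent.S2836
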