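import Mathlib
import Cfsg.Agent.S2835
import Cfsg.Agent.S2819
import Cfsg.Agent.Lib.Helper6.Conj2
import Cfsg.Agent.Lib.Helper6.Amalgam4
import Cfsg.Agent.Lib.Helper6.Frattini
import Cfsg.Agent.Lib.Lead.Frattini
import Cfsg.Statements.S2837

set_option autoImplicit false
open Cfsg

namespace Cfsg.Agent.S2837

open Cfsg.Agent.Lib.Helper6
open scoped commutatorElement

local notation "cj[" g "]" Q:max => Subgroup.map (MulEquiv.toMonoidHom (MulAut.conj g)) Q

section
variable {L : Type*} [Group L]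

/-- elements commuting with all of `X` modulo the central subgroup `Z` -/
def commTo (X Z : Subgroup L) (hZ : Z ≤ Subgroup.center L) : Subgroup L where
  carrier := {m | ∀ x ∈ X, ⁅x, m⁆ ∈ Z}
  one_mem' := fun x _ => by simp [Z.one_mem]
  mul_mem' := by
    intro m n hm hn x hx
    have hc := Subgroup.mem_center_iff.mp (hZ (hn x hx))
    have e : ⁅x, m * n⁆ = ⁅x, m⁆ * (m * ⁅x, n⁆ * m⁻¹) := by
      simp only [commutatorElement_def]; group
    rw [e]
    have e2 : m * ⁅x, n⁆ * m⁻¹ = ⁅x, n⁆ := by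
      rw [hc m]; group
    rw [e2]
    exact Z.mul_mem (hm x hx) (hn x hx)
  inv_mem' := by
    intro m hm x hx
    have hc := Subgroup.mem_center_iff.mp (hZ (hm x hx))
    have e : ⁅x, m⁻¹⁆ = m⁻¹ * (⁅x, m⁆)⁻¹ * m := by
      simp only [commutatorElement_def]; group
    rw [e]
    have e2 : m⁻¹ * (⁅x, m⁆)⁻¹ * m = (⁅x, m⁆)⁻¹ := by
      have h1 := hc m⁻¹
      have : m⁻¹ * (⁅x, m⁆)⁻¹ * m = (m⁻¹ * ⁅x, m⁆ * m)⁻¹ := by group
      rw [this, h1]; group
    rw [e2]
    exact Z.inv_mem (hm x hx)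

theorem commutator_le_of_le_commTo {X M Z : Subgroup L} (hZ : Z ≤ Subgroup.center L)
    (h : M ≤ commTo X Z hZ) : ⁅X, M⁆ ≤ Z := by
  rw [Subgroup.commutator_le]
  intro x hx m hm
  exact h hm x hx

end

/-- Let L be a finite group of characteristic p, L₀ a maximal subgroup, Y an elementary abelian p-subgroup of L₀ with L Y-minimal and O_p(L) ≤ N_L(Y). Put A = the normal closure of O_p(L) ∩ Y in L. Then for every g ∈ L outside L₀: Φ(A) = A' = [A ∩ Y, A] = [A ∩ Y, A ∩ gYg⁻¹] ≤ C_Y(L), and Y ∩ gYg⁻¹ = (A ∩ Y) ∩ (A ∩ gYg⁻¹) = C_Y(L) = C_A(L). -/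
theorem result {L : Type*} [Group L] [Finite L] {p : ℕ} [Fact p.Prime] (hchar : Subgroup.centralizer (Cfsg.pCore p L : Set L) ≤ Cfsg.pCore p L) (L₀ : Subgroup L) (hL₀ : IsCoatom L₀) (Y : Subgroup L) (hYL₀ : Y ≤ L₀) (hYel : Cfsg.IsElementaryAbelian p Y) (hmin : Cfsg.IsMinimalOver Y) (hOY : Cfsg.pCore p L ≤ Subgroup.normalizer (Y : Set L)) (A : Subgroup L) (hA : A = Subgroup.normalClosure (((Cfsg.pCore p L ⊓ Y : Subgroup L)) : Set L)) (g : L) (hg : g ∉ L₀) : (frattini ↥A).map A.subtype = ⁅A, A⁆ ∧ ⁅A, A⁆ = ⁅A ⊓ Y, A⁆ ∧ ⁅A ⊓ Y, A⁆ = ⁅A ⊓ Y, A ⊓ Y.map (MulAut.conj g).toMonoidHom⁆ ∧ ⁅A ⊓ Y, A⁆ ≤ Y ⊓ Subgroup.center L ∧ Y ⊓ Y.map (MulAut.conj g).toMonoidHom = Y ⊓ Subgroup.center L ∧ (A ⊓ Y) ⊓ (A ⊓ Y.map (MulAut.conj g).toMonoidHom) = Y ⊓ Subgroup.center L ∧ A ⊓ Subgroup.center L = Y ⊓ Subgroup.center L := by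
  classical
  set Q : Subgroup L := Cfsg.pCore p L with hQ
  haveI hQn : Q.Normal := by rw [hQ]; infer_instance
  have hQp : IsPGroup p Q := pCore_isPGroup p
  set Yg : Subgroup L := cj[g] Y with hYg
  set B : Subgroup L := Q ⊓ Y with hB
  set Bg : Subgroup L := Q ⊓ Yg with hBg
  -- Sylow subgroup of `L₀` containing `Y`
  have hYp : IsPGroup p Y := by
    intro ⟨y, hy⟩
    exact ⟨1, Subtype.ext (by simpa using hYel.2 y hy)⟩
  obtain ⟨T, hT⟩ := (hYp.comap_subtype (K := L₀)).exists_le_sylow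
  have hYT : Y ≤ (T : Subgroup ↥L₀).map L₀.subtype := by
    intro y hy
    exact ⟨⟨y, hYL₀ hy⟩, hT (Subgroup.mem_subgroupOf.mpr hy), rfl⟩
  obtain ⟨-, -, -, -, h5, h6⟩ := Cfsg.Agent.S2835.result L₀ hL₀ T Y hYT hmin
  have hgen : Y ⊔ Yg = ⊤ := h5 g hg
  haveI hYc : IsMulCommutative Y := hYel.1
  have hint : Y ⊓ Yg = Y ⊓ Subgroup.center L := h6 hYc g hg
  set Z₀ : Subgroup L := Y ⊓ Subgroup.center L with hZ₀
  have hZ₀c : Z₀ ≤ Subgroup.center L := inf_le_right
  -- commutativity of `Y` and `Yg`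
  have hYcomm : ∀ a ∈ Y, ∀ b ∈ Y, a * b = b * a := by
    intro a ha b hb
    have := hYc.is_comm.comm ⟨a, ha⟩ ⟨b, hb⟩
    exact congrArg Subtype.val this
  have hYgcomm : ∀ a ∈ Yg, ∀ b ∈ Yg, a * b = b * a := by
    rintro _ ⟨a, ha, rfl⟩ _ ⟨b, hb, rfl⟩
    simp only [MulEquiv.coe_toMonoidHom, MulAut.conj_apply]
    have := hYcomm a ha b hb
    calc g * a * g⁻¹ * (g * b * g⁻¹) = g * (a * b) * g⁻¹ := by group
      _ = g * (b * a) * g⁻¹ := by rw [this]
      _ = g * b * g⁻¹ * (g * a * g⁻¹) := by group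
  have hYgp : ∀ a ∈ Yg, a ^ p = 1 := by
    rintro _ ⟨a, ha, rfl⟩
    simp only [MulEquiv.coe_toMonoidHom, MulAut.conj_apply]
    rw [conj_pow, hYel.2 a ha]; simp
  -- `Q` normalizes `Y` and `Yg`
  have hQYg : Q ≤ Subgroup.normalizer (Yg : Set L) := by
    intro q hq
    have h1 : g⁻¹ * q * g ∈ Q := by
      have := hQn.conj_mem q hq g⁻¹
      simpa using this
    have h2 := hOY h1
    have h3 : cj[g] (Subgroup.normalizer (Y : Set L)) = Subgroup.normalizer (Yg : Set L) :=
      normalizer_map_conj Y g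
    rw [← h3, mem_map_conj]
    exact h2
  have hcommY : ∀ q ∈ Q, ∀ y ∈ Y, ⁅q, y⁆ ∈ B := by
    intro q hq y hy
    rw [commutatorElement_def]
    refine Subgroup.mem_inf.mpr ⟨?_, ?_⟩
    · have : y * q⁻¹ * y⁻¹ ∈ Q := hQn.conj_mem _ (Q.inv_mem hq) y
      have e : q * y * q⁻¹ * y⁻¹ = q * (y * q⁻¹ * y⁻¹) := by group
      rw [e]; exact Q.mul_mem hq this
    · have : q * y * q⁻¹ ∈ Y := (Subgroup.mem_normalizer_iff.mp (hOY hq) y).mp hy
      exact Y.mul_mem this (Y.inv_mem hy)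
  have hcommYg : ∀ q ∈ Q, ∀ y ∈ Yg, ⁅q, y⁆ ∈ Bg := by
    intro q hq y hy
    rw [commutatorElement_def]
    refine Subgroup.mem_inf.mpr ⟨?_, ?_⟩
    · have : y * q⁻¹ * y⁻¹ ∈ Q := hQn.conj_mem _ (Q.inv_mem hq) y
      have e : q * y * q⁻¹ * y⁻¹ = q * (y * q⁻¹ * y⁻¹) := by group
      rw [e]; exact Q.mul_mem hq this
    · have : q * y * q⁻¹ ∈ Yg := (Subgroup.mem_normalizer_iff.mp (hQYg hq) y).mp hy
      exact Yg.mul_mem this (Yg.inv_mem hy)
  -- `⁅B, Bg⁆ ≤ Z₀`
  have hBBg : ∀ b ∈ B, ∀ c ∈ Bg, ⁅b, c⁆ ∈ Z₀ := by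
    intro b hb c hc
    obtain ⟨hb1, hb2⟩ := Subgroup.mem_inf.mp hb
    obtain ⟨hc1, hc2⟩ := Subgroup.mem_inf.mp hc
    rw [← hint]
    refine Subgroup.mem_inf.mpr ⟨?_, ?_⟩
    · have h1 := (Subgroup.mem_inf.mp (hcommY c hc1 b hb2)).2
      have e : ⁅b, c⁆ = (⁅c, b⁆)⁻¹ := by simp only [commutatorElement_def]; group
      rw [e]; exact Y.inv_mem h1
    · exact (Subgroup.mem_inf.mp (hcommYg b hb1 c hc2)).2
  set C₀ : Subgroup L := ⁅B, Bg⁆ with hC₀
  have hC₀Z : C₀ ≤ Z₀ := by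
    rw [hC₀, Subgroup.commutator_le]; exact hBBg
  have hC₀c : C₀ ≤ Subgroup.center L := hC₀Z.trans hZ₀c
  -- `Z₀ ≤ B ⊓ Bg`
  have hZ₀Q : Z₀ ≤ Q := by
    have hn : Z₀.Normal := by
      constructor
      intro z hz x
      have := Subgroup.mem_center_iff.mp (hZ₀c hz) x
      have e : x * z * x⁻¹ = z := by rw [this, mul_inv_cancel_right]
      rw [e]; exact hz
    exact le_pCore hn (hYp.to_le inf_le_left)
  have hZ₀B : Z₀ ≤ B := le_inf hZ₀Q inf_le_left
  have hZ₀Bg : Z₀ ≤ Bg := by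
    refine le_inf hZ₀Q ?_
    rw [← hint]; exact inf_le_right
  -- `M = B ⊔ Bg` is normal
  set M : Subgroup L := B ⊔ Bg with hM
  have hYM : Y ≤ Subgroup.normalizer (M : Set L) := by
    intro y hy
    apply mem_normalizer_of_map_conj_le
    rw [hM, Subgroup.map_sup]
    apply sup_le
    · rintro _ ⟨b, hb, rfl⟩
      simp only [MulEquiv.coe_toMonoidHom, MulAut.conj_apply]
      have := hYcomm y hy b (Subgroup.mem_inf.mp hb).2
      rw [this, mul_inv_cancel_right]
      exact Subgroup.mem_sup_left hb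
    · rintro _ ⟨c, hc, rfl⟩
      simp only [MulEquiv.coe_toMonoidHom, MulAut.conj_apply]
      have h1 := hcommY c (Subgroup.mem_inf.mp hc).1 y hy
      have e : y * c * y⁻¹ = (⁅c, y⁆)⁻¹ * c := by simp only [commutatorElement_def]; group
      rw [e]
      exact Subgroup.mul_mem _ (Subgroup.mem_sup_left (B.inv_mem h1)) (Subgroup.mem_sup_right hc)
  have hYgM : Yg ≤ Subgroup.normalizer (M : Set L) := by
    intro y hy
    apply mem_normalizer_of_map_conj_le
    rw [hM, Subgroup.map_sup]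
    apply sup_le
    · rintro _ ⟨b, hb, rfl⟩
      simp only [MulEquiv.coe_toMonoidHom, MulAut.conj_apply]
      have h1 := hcommYg b (Subgroup.mem_inf.mp hb).1 y hy
      have e : y * b * y⁻¹ = (⁅b, y⁆)⁻¹ * b := by simp only [commutatorElement_def]; group
      rw [e]
      exact Subgroup.mul_mem _ (Subgroup.mem_sup_right (Bg.inv_mem h1)) (Subgroup.mem_sup_left hb)
    · rintro _ ⟨c, hc, rfl⟩
      simp only [MulEquiv.coe_toMonoidHom, MulAut.conj_apply]
      have := hYgcomm y hy c (Subgroup.mem_inf.mp hc).2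
      rw [this, mul_inv_cancel_right]
      exact Subgroup.mem_sup_right hc
  haveI hMn : M.Normal := by
    rw [← Subgroup.normalizer_eq_top_iff, eq_top_iff, ← hgen]
    exact sup_le hYM hYgM
  -- `A = M`
  have hBA : B ≤ A := by rw [hA]; exact Subgroup.subset_normalClosure
  haveI hAn : A.Normal := by rw [hA]; exact Subgroup.normalClosure_normal
  have hBgA : Bg ≤ A := by
    intro c hc
    obtain ⟨hc1, hc2⟩ := Subgroup.mem_inf.mp hc
    obtain ⟨y, hy, rfl⟩ := hc2
    simp only [MulEquiv.coe_toMonoidHom, MulAut.conj_apply] at hc1 ⊢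
    have h1 : y ∈ Q := by
      have := hQn.conj_mem _ hc1 g⁻¹
      simpa [mul_assoc] using this
    exact hAn.conj_mem y (hBA (Subgroup.mem_inf.mpr ⟨h1, hy⟩)) g
  have hAM : A = M := by
    apply le_antisymm
    · rw [hA]; exact Subgroup.normalClosure_le_normal (le_sup_left : B ≤ M)
    · exact sup_le hBA hBgA
  have hAQ : A ≤ Q := by
    rw [hA]; exact Subgroup.normalClosure_le_normal (inf_le_left : B ≤ Q)
  have hAY : A ⊓ Y = B := le_antisymm (inf_le_inf_right _ hAQ) (le_inf hBA inf_le_right)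
  have hAYg : A ⊓ Yg = Bg := le_antisymm (inf_le_inf_right _ hAQ) (le_inf hBgA inf_le_right)
  rw [hAY, hAYg]
  -- commutators
  have hBself : B ≤ commTo B C₀ hC₀c := by
    intro b hb x hx
    have := hYcomm x (Subgroup.mem_inf.mp hx).2 b (Subgroup.mem_inf.mp hb).2
    rw [commutatorElement_def, this, mul_inv_cancel_right, mul_inv_cancel]
    exact C₀.one_mem
  have hBgB : Bg ≤ commTo B C₀ hC₀c := by
    intro c hc x hx
    exact Subgroup.commutator_mem_commutator hx hc
  have hAB : A ≤ commTo B C₀ hC₀c := by rw [hAM]; exact sup_le hBself hBgB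
  have hBgself : Bg ≤ commTo Bg C₀ hC₀c := by
    intro b hb x hx
    have := hYgcomm x (Subgroup.mem_inf.mp hx).2 b (Subgroup.mem_inf.mp hb).2
    rw [commutatorElement_def, this, mul_inv_cancel_right, mul_inv_cancel]
    exact C₀.one_mem
  have hBBg' : B ≤ commTo Bg C₀ hC₀c := by
    intro b hb x hx
    have h1 : ⁅b, x⁆ ∈ C₀ := Subgroup.commutator_mem_commutator hb hx
    have e : ⁅x, b⁆ = (⁅b, x⁆)⁻¹ := by simp only [commutatorElement_def]; group
    rw [e]; exact C₀.inv_mem h1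
  have hABg : A ≤ commTo Bg C₀ hC₀c := by rw [hAM]; exact sup_le hBBg' hBgself
  have hinv : ∀ {X : Subgroup L}, A ≤ commTo X C₀ hC₀c → X ≤ commTo A C₀ hC₀c := by
    intro X h x hx a ha
    have h1 := h ha x hx
    have e : ⁅a, x⁆ = (⁅x, a⁆)⁻¹ := by simp only [commutatorElement_def]; group
    rw [e]; exact C₀.inv_mem h1
  have hAA : A ≤ commTo A C₀ hC₀c := by
    conv_lhs => rw [hAM]
    exact sup_le (hinv hAB) (hinv hABg)
  have hAA' : ⁅A, A⁆ ≤ C₀ := commutator_le_of_le_commTo hC₀c hAA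
  have hBA' : ⁅B, A⁆ ≤ C₀ := commutator_le_of_le_commTo hC₀c hAB
  have hC₀BA : C₀ ≤ ⁅B, A⁆ := Subgroup.commutator_mono le_rfl hBgA
  have hBAAA : ⁅B, A⁆ ≤ ⁅A, A⁆ := Subgroup.commutator_mono hBA le_rfl
  have e1 : ⁅A, A⁆ = ⁅B, A⁆ := le_antisymm (hAA'.trans hC₀BA) hBAAA
  have e2 : ⁅B, A⁆ = C₀ := le_antisymm hBA' hC₀BA
  -- Frattini subgroup
  have hAp : IsPGroup p A := hQp.to_le hAQ
  have hfr : (frattini ↥A).map A.subtype = ⁅A, A⁆ := by
    apply le_antisymm
    · have h1 := frattini_le_of_elemAb (P := ↥A) (p := p) ((⁅A, A⁆ : Subgroup L).subgroupOf A) ?_ ?_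
      · rw [Subgroup.map_le_iff_le_comap]; exact h1
      · intro x y
        rw [Subgroup.mem_subgroupOf]
        have : ((⁅x, y⁆ : ↥A) : L) = ⁅(x : L), (y : L)⁆ := by simp [commutatorElement_def]
        rw [this]
        exact Subgroup.commutator_mem_commutator x.2 y.2
      · intro x
        rw [Subgroup.mem_subgroupOf]
        have hx : (x : L) ∈ ((B ⊔ Bg : Subgroup L) : Set L) := by rw [← hM, ← hAM]; exact x.2
        have hBgB' : Bg ≤ Subgroup.normalizer (B : Set L) := by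
          intro c hc
          apply mem_normalizer_of_forall_conj_mem
          intro b hb
          have h1 : ⁅c, b⁆ ∈ B := hcommY c (Subgroup.mem_inf.mp hc).1 b (Subgroup.mem_inf.mp hb).2
          have e : c * b * c⁻¹ = ⁅c, b⁆ * b := by simp only [commutatorElement_def]; group
          rw [e]; exact B.mul_mem h1 hb
        rw [Subgroup.coe_mul_of_right_le_normalizer_left _ _ hBgB'] at hx
        obtain ⟨b, hb, c, hc, hbc⟩ := Set.mem_mul.mp hx
        have h2 := Cfsg.Agent.S2819.mul_pow_mod_commutator A (hBA hb) (hBgA hc) p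
        rw [hYel.2 b (Subgroup.mem_inf.mp hb).2, hYgp c (Subgroup.mem_inf.mp hc).2, one_mul,
          inv_one, one_mul, hbc] at h2
        simpa using h2
    · have h1 := Cfsg.Agent.Lib.Lead.commutator_le_frattini_of_isPGroup (G := ↥A) hAp
      have h2 := Subgroup.map_mono (f := A.subtype) h1
      rwa [Subgroup.map_subtype_commutator] at h2
  refine ⟨hfr, e1, e2, ?_, hint, ?_, ?_⟩
  · rw [e2]; exact hC₀Z
  · apply le_antisymm
    · rw [← hint]
      exact inf_le_inf inf_le_right inf_le_right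
    · exact le_inf hZ₀B hZ₀Bg
  · apply le_antisymm
    · intro a ha
      obtain ⟨haA, haZ⟩ := Subgroup.mem_inf.mp ha
      have hx : a ∈ ((B ⊔ Bg : Subgroup L) : Set L) := by rw [← hM, ← hAM]; exact haA
      have hBgB' : Bg ≤ Subgroup.normalizer (B : Set L) := by
        intro c hc
        apply mem_normalizer_of_forall_conj_mem
        intro b hb
        have h1 : ⁅c, b⁆ ∈ B := hcommY c (Subgroup.mem_inf.mp hc).1 b (Subgroup.mem_inf.mp hb).2
        have e : c * b * c⁻¹ = ⁅c, b⁆ * b := by simp only [commutatorElement_def]; group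
        rw [e]; exact B.mul_mem h1 hb
      rw [Subgroup.coe_mul_of_right_le_normalizer_left _ _ hBgB'] at hx
      obtain ⟨b, hb, c, hc, hbc⟩ := Set.mem_mul.mp hx
      have hbY : b ∈ Y := (Subgroup.mem_inf.mp hb).2
      have hcYg : c ∈ Yg := (Subgroup.mem_inf.mp hc).2
      -- `c` centralizes `Y`
      have hcY : ∀ y ∈ Y, y * c = c * y := by
        intro y hy
        have h1 := Subgroup.mem_center_iff.mp haZ y
        rw [← hbc] at h1
        have h2 := hYcomm y hy b hbY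
        have : b * (y * c) = b * (c * y) := by
          calc b * (y * c) = (b * y) * c := by group
            _ = (y * b) * c := by rw [h2]
            _ = y * (b * c) := by group
            _ = b * c * y := h1
            _ = b * (c * y) := by group
        exact mul_left_cancel this
      have hcZ : c ∈ Subgroup.center L := by
        have h1 : (⊤ : Subgroup L) ≤ Subgroup.centralizer ({c} : Set L) := by
          rw [← hgen]
          apply sup_le
          · intro y hy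
            rw [Subgroup.mem_centralizer_iff]
            intro z hz
            rw [Set.mem_singleton_iff] at hz
            rw [hz]; exact (hcY y hy).symm
          · intro y hy
            rw [Subgroup.mem_centralizer_iff]
            intro z hz
            rw [Set.mem_singleton_iff] at hz
            rw [hz]; exact hYgcomm c hcYg y hy
        rw [Subgroup.mem_center_iff]
        intro x
        have := (Subgroup.mem_centralizer_iff.mp (h1 (Subgroup.mem_top x))) c rfl
        exact this.symm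
      have hcYmem : c ∈ Y := by
        obtain ⟨y, hy, hyc⟩ := hcYg
        simp only [MulEquiv.coe_toMonoidHom, MulAut.conj_apply] at hyc
        have h1 := Subgroup.mem_center_iff.mp hcZ g
        have : y = c := by
          have : g * y * g⁻¹ = g * c * g⁻¹ := by
            rw [hyc, h1]; group
          exact mul_left_cancel (mul_right_cancel this)
        rw [← this]; exact hy
      exact Subgroup.mem_inf.mpr ⟨by rw [← hbc]; exact Y.mul_mem hbY hcYmem, haZ⟩
    · exact le_inf (hZ₀B.trans hBA) hZ₀c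

end Cfsg.Agent.S2837
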