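import Mathlib
import Cfsg.Agent.Lib.Helper6.WeakCl2
import Cfsg.Statements.S2841

set_option autoImplicit false
open Cfsg Cfsg.Agent.Lib.Helper6
open scoped commutatorElement Pointwise

namespace Cfsg.Agent.S2841

/-- Let Q be a nontrivial p-subgroup of the finite group H that is a weakly closed subgroup and N a normal subgroup of H. Then N = N_N(Q)·[N, Q] and [N, Q] = (Q ∩ [N, Q])·[N, Q, Q]. -/
theorem result {H : Type*} [Group H] [Finite H] {p : ℕ} [Fact p.Prime] (Q : Subgroup H) (hQp : IsPGroup p ↥Q) (hQ1 : Q ≠ ⊥) (hwc : Cfsg.IsWeaklyClosedSubgroup p Q) (N' : Subgroup H) [N'.Normal] : (∀ n : H, n ∈ N' → ∃ a ∈ N' ⊓ Subgroup.normalizer ((Q : Subgroup H) : Set H), ∃ b ∈ ⁅N', Q⁆, n = a * b) ∧ (∀ c : H, c ∈ ⁅N', Q⁆ → ∃ a ∈ Q ⊓ ⁅N', Q⁆, ∃ b ∈ ⁅⁅N', Q⁆, Q⁆, c = a * b) := by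
  set M : Subgroup H := ⁅N', Q⁆ with hM
  have hMN : M ≤ N' := Subgroup.commutator_le_left _ _
  have hNM : N' ≤ Subgroup.normalizer (M : Set H) := Subgroup.normalizer_commutator_ge_left N' Q
  have hQM : Q ≤ Subgroup.normalizer (M : Set H) := Subgroup.normalizer_commutator_ge_right N' Q
  have h1 : ∀ n : H, n ∈ N' → ∃ a ∈ N' ⊓ Subgroup.normalizer ((Q : Subgroup H) : Set H),
      ∃ b ∈ M, n = a * b := by
    intro n hn
    have hnQ : Q.map (MulAut.conj n).toMonoidHom ≤ M ⊔ Q := by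
      rintro _ ⟨q, hq, rfl⟩
      have e : (MulAut.conj n).toMonoidHom q = ⁅n, q⁆ * q := by
        simp only [MulEquiv.coe_toMonoidHom, MulAut.conj_apply, commutatorElement_def]; group
      rw [e]
      exact Subgroup.mul_mem _ (Subgroup.mem_sup_left (Subgroup.commutator_mem_commutator hn hq))
        (Subgroup.mem_sup_right hq)
    obtain ⟨k, hk, hnk⟩ := IsWeaklyClosedSubgroup_exists_conj_in hQp hwc
      (le_sup_right : Q ≤ M ⊔ Q) hnQ
    -- k⁻¹ = q * m
    have hk' : k⁻¹ ∈ ((Q : Set H) * (M : Set H)) := by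
      rw [← Subgroup.coe_mul_of_left_le_normalizer_right Q M hQM, sup_comm]
      exact Subgroup.inv_mem _ hk
    obtain ⟨q, hq, m, hm, hqm⟩ := Set.mem_mul.mp hk'
    have hkeq : k = m⁻¹ * q⁻¹ := by
      have : k = (k⁻¹)⁻¹ := by simp
      rw [this, ← hqm]; group
    have h2 : Q.map (MulAut.conj n).toMonoidHom = Q.map (MulAut.conj m⁻¹).toMonoidHom := by
      rw [hnk, hkeq, ← map_conj_map_conj,
        map_conj_eq_self_of_mem_normalizer (Subgroup.le_normalizer (Q.inv_mem hq))]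
    have h3 : m * n ∈ Subgroup.normalizer ((Q : Subgroup H) : Set H) := by
      apply mem_normalizer_of_map_conj_eq_self
      rw [← map_conj_map_conj, h2, map_conj_map_conj, mul_inv_cancel, map_conj_one]
    have h4 : m * n ∈ N' := N'.mul_mem (hMN hm) hn
    refine ⟨m * n, ⟨h4, h3⟩, (m * n)⁻¹ * m⁻¹ * (m * n), ?_, by group⟩
    have h5 := (Subgroup.mem_normalizer_iff.mp (Subgroup.inv_mem _ (hNM h4)) m⁻¹).mp (M.inv_mem hm)
    simpa using h5
  refine ⟨h1, ?_⟩
  have hQMQ : Q ≤ Subgroup.normalizer ((⁅M, Q⁆ : Subgroup H) : Set H) :=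
    Subgroup.normalizer_commutator_ge_right M Q
  have hD : M ≤ (Q ⊓ M) ⊔ ⁅M, Q⁆ := by
    rw [hM, Subgroup.commutator_le]
    intro n hn q hq
    obtain ⟨a, ha, b, hb, rfl⟩ := h1 n hn
    rw [commutatorElement_mul_left_eq_conj_mul]
    apply Subgroup.mul_mem
    · apply Subgroup.mem_sup_right
      have haN : a ∈ Subgroup.normalizer ((⁅M, Q⁆ : Subgroup H) : Set H) := by
        apply mem_normalizer_of_map_conj_eq_self
        rw [Subgroup.map_commutator, map_conj_eq_self_of_mem_normalizer (hNM ha.1),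
          map_conj_eq_self_of_mem_normalizer ha.2]
      exact (Subgroup.mem_normalizer_iff.mp haN _).mp (Subgroup.commutator_mem_commutator hb hq)
    · apply Subgroup.mem_sup_left
      refine ⟨?_, Subgroup.commutator_mem_commutator ha.1 hq⟩
      have := (Subgroup.mem_normalizer_iff.mp ha.2 q).mp hq
      rw [commutatorElement_def]
      exact Q.mul_mem this (Q.inv_mem hq)
  intro c hc
  have hc' := hD hc
  have hmem : c ∈ (((Q ⊓ M : Subgroup H) : Set H) * ((⁅M, Q⁆ : Subgroup H) : Set H)) := by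
    rw [← Subgroup.coe_mul_of_left_le_normalizer_right (Q ⊓ M) ⁅M, Q⁆ (inf_le_left.trans hQMQ)]
    exact hc'
  obtain ⟨a, ha, b, hb, rfl⟩ := Set.mem_mul.mp hmem
  exact ⟨a, ha, b, hb, rfl⟩

end Cfsg.Agent.S2841
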