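import Mathlib
import Cfsg.Agent.Lib.Helper6.Large
import Cfsg.Statements.S2844

set_option autoImplicit false
open Cfsg Cfsg.Agent.Lib.Helper6
open scoped commutatorElement

namespace Cfsg.Agent.S2844

/-- Let Q be a nontrivial large p-subgroup of the finite group H and Q• = O_p(N_H(Q)). Then for every g ∈ H outside N_H(Q): C_H(Q) ∩ C_H(gQg⁻¹) = 1, C_H(Q•) ∩ C_H(gQ•g⁻¹) = 1, Z(Q) ∩ Z(gQg⁻¹) = 1 and Z(Q•) ∩ Z(gQ•g⁻¹) = 1; moreover N_H(Q) = N_H(Q•) and Q• is large in H. -/
theorem result {H : Type*} [Group H] [Finite H] {p : ℕ} [Fact p.Prime] (Q : Subgroup H) (hQp : IsPGroup p ↥Q) (hQ1 : Q ≠ ⊥) (hL : Cfsg.IsLarge Q) (Qb : Subgroup H) (hQb : Qb = Cfsg.largeBullet p Q) : (∀ g : H, g ∉ Subgroup.normalizer ((Q : Subgroup H) : Set H) → Subgroup.centralizer ((Q : Subgroup H) : Set H) ⊓ Subgroup.centralizer ((((Q : Subgroup H).map (MulAut.conj (g : H)).toMonoidHom) : Subgroup H) : Set H) = ⊥ ∧ Subgroup.centralizer ((Qb : Subgroup H) : Set H) ⊓ Subgroup.centralizer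 ((((Qb : Subgroup H).map (MulAut.conj (g : H)).toMonoidHom) : Subgroup H) : Set H) = ⊥ ∧ (Q ⊓ Subgroup.centralizer ((Q : Subgroup H) : Set H)) ⊓ (((Q : Subgroup H).map (MulAut.conj (g : H)).toMonoidHom) ⊓ Subgroup.centralizer ((((Q : Subgroup H).map (MulAut.conj (g : H)).toMonoidHom) : Subgroup H) : Set H)) = ⊥ ∧ (Qb ⊓ Subgroup.centralizer ((Qb : Subgroup H) : Set H)) ⊓ (((Qb : Subgroup H).map (MulAut.conj (g : H)).toMonoidHom) ⊓ Subgroup.centralizer ((((Qb : Subgroup H).map (MulAut.conj (g : H)).toMonoidHom) : Subgroup H) : Set H)) = ⊥) ∧ Subgroup.normalizer ((Q : Subgroup H) : Set H) = Subgroup.normalizer ((Qb : Subgroup H) : Set H) ∧ Cfsg.IsLarge Qb := by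
  have hwc := isWeaklyClosedSubgroup_of_isLarge hQp hQ1 hL
  have hQbp : IsPGroup p Qb := by rw [hQb]; exact pCoreOf_isPGroup p _
  have hQQb : Q ≤ Qb := by
    rw [hQb]
    unfold largeBullet
    intro q hq
    have hn : (Q.subgroupOf (Subgroup.normalizer (Q : Set H))).Normal :=
      Subgroup.normal_in_normalizer
    have := le_pCore hn (hQp.comap_subtype (K := Subgroup.normalizer (Q : Set H)))
    exact ⟨⟨q, Subgroup.le_normalizer hq⟩, this (by rw [Subgroup.mem_subgroupOf]; exact hq), rfl⟩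
  have hN1 : Subgroup.normalizer ((Q : Subgroup H) : Set H) ≤
      Subgroup.normalizer ((Qb : Subgroup H) : Set H) := by
    intro x hx
    apply mem_normalizer_of_map_conj_eq_self
    rw [hQb]
    unfold largeBullet
    rw [pCoreOf_map_conj, map_conj_eq_self_of_mem_normalizer (Subgroup.le_normalizer hx)]
  have hN2 : Subgroup.normalizer ((Qb : Subgroup H) : Set H) ≤
      Subgroup.normalizer ((Q : Subgroup H) : Set H) :=
    IsWeaklyClosedSubgroup_normalizer_le hwc hQbp hQQb
  have hN : Subgroup.normalizer ((Q : Subgroup H) : Set H) =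
      Subgroup.normalizer ((Qb : Subgroup H) : Set H) := le_antisymm hN1 hN2
  have hCb : Subgroup.centralizer ((Qb : Subgroup H) : Set H) ≤
      Subgroup.centralizer ((Q : Subgroup H) : Set H) :=
    Subgroup.centralizer_le (fun x hx => hQQb hx)
  refine ⟨?_, hN, ?_⟩
  · intro g hg
    have h1 := isLarge_centralizer_inf_eq_bot hQp hQ1 hL hg
    have hCbg : Subgroup.centralizer ((((Qb : Subgroup H).map (MulAut.conj (g : H)).toMonoidHom) :
        Subgroup H) : Set H) ≤ Subgroup.centralizer ((((Q : Subgroup H).map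
          (MulAut.conj (g : H)).toMonoidHom) : Subgroup H) : Set H) :=
      Subgroup.centralizer_le (fun x hx => Subgroup.map_mono hQQb hx)
    have h2 : Subgroup.centralizer ((Qb : Subgroup H) : Set H) ⊓ Subgroup.centralizer
        ((((Qb : Subgroup H).map (MulAut.conj (g : H)).toMonoidHom) : Subgroup H) : Set H) = ⊥ := by
      rw [eq_bot_iff, ← h1]
      exact inf_le_inf hCb hCbg
    refine ⟨h1, h2, ?_, ?_⟩
    · rw [eq_bot_iff, ← h1]
      exact inf_le_inf inf_le_right inf_le_right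
    · rw [eq_bot_iff, ← h2]
      exact inf_le_inf inf_le_right inf_le_right
  · refine ⟨hCb.trans (hL.1.trans hQQb), ?_⟩
    intro U hU hU1
    rw [← hN]
    exact hL.2 U (hU.trans hCb) hU1

end Cfsg.Agent.S2844
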