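import Cfsg.Statements.S2846
import Mathlib
import Cfsg.Agent.Lib.Lead.MSS5
import Cfsg.Agent.S2843
import Cfsg.Agent.S2845

set_option autoImplicit false
open Cfsg

namespace Cfsg.Agent.S2846

/-- Let Q be a nontrivial large p-subgroup of the finite group H, S a Sylow p-subgroup containing Q, and L a subgroup containing S with O_p(L) ≠ 1 and C_H(O_p(L)) ≤ O_p(L). Then there are a subgroup M containing S having the basic property (M ∈ 𝔐_H, writing Y_X for the largest p-reduced normal subgroup of X and 𝓛_H for the set of subgroups X with O_p(X) ≠ 1 and C_H(O_p(X)) ≤ O_p(X): M ∈ 𝓛_H, M·C_H(Y_M) is the only maximal member of 𝓛_H containing M and its largest p-reduced normal subgroup is again Y_M, C_M(Y_M) is p-closed, and the image of C_M(Y_M) in M/O_p(M) lies in the Frattini subgroup of M/O_p(M)) and a subgroup L* with S ≤ L* ≤ M, O_p(L*) ≠ 1, C_H(O_p(L*)) ≤ O_p(L*), such that L·C_H(Y_L) = L*·C_H(Y_L),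 the weak closures of Q in L and in L* agree and lie in that of M, and Y_L = Y_{L*} ≤ Y_M. If moreover Q is not normal in L, then Q is normal in neither L* nor M. -/
theorem result {H : Type*} [Group H] [Finite H] {p : ℕ} [Fact p.Prime] (Q : Subgroup H) (hQp : IsPGroup p ↥Q) (hQ1 : Q ≠ ⊥) (hLg : Cfsg.IsLarge Q) (S : Sylow p H) (hQS : Q ≤ (S : Subgroup H)) (L : Subgroup H) (hSL : (S : Subgroup H) ≤ L) (hL : L ∈ Cfsg.charPSubgroups p H) : ∃ M Ls : Subgroup H, (S : Subgroup H) ≤ M ∧ Cfsg.IsInFrakM p M ∧ (S : Subgroup H) ≤ Ls ∧ Ls ≤ M ∧ Ls ∈ Cfsg.charPSubgroups p H ∧ L ⊔ Subgroup.centralizer (((Cfsg.largestPReducedOf p L) : Subgroup H) : Set H) = Ls ⊔ Subgroup.centralizer (((Cfsg.largestPReducedOf p L) : Subgroup H) : Set H) ∧ Cfsg.weakClosure Q L = Cfsg.weakClosure Q Ls ∧ Cfsg.weakClosure Q Ls ≤ Cfsg.weakClosure Q M ∧ (Cfsg.largestPReducedOf p L) = (Cfsg.largestPReducedOf p Ls) ∧ (Cfsg.largestPReducedOf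 p Ls) ≤ (Cfsg.largestPReducedOf p M) ∧ (¬ L ≤ Subgroup.normalizer ((Q : Subgroup H) : Set H) → ¬ Ls ≤ Subgroup.normalizer ((Q : Subgroup H) : Set H) ∧ ¬ M ≤ Subgroup.normalizer ((Q : Subgroup H) : Set H)) := by
  classical
  have hpar : Cfsg.Agent.Lib.Lead.MSS.ParHyp S := by
    intro R hSR hne
    exact (Cfsg.Agent.S2845.result Q hQp hQ1 hLg).2.1 R ⟨S, hSR⟩
      ((Cfsg.Agent.Lib.Lead.MSS.pCore_ne_bot_iff R).mpr hne)
  obtain ⟨M, Ls, h1, h2, h3, h4, h5, h6, h7, h8⟩ :=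
    Cfsg.Agent.Lib.Lead.MSS.exists_frakM S hpar L hSL hL
  have hwc := Cfsg.Agent.Lib.Helper6.isWeaklyClosedSubgroup_of_isLarge hQp hQ1 hLg
  have hQL : Q ≤ L := hQS.trans hSL
  have hQLs : Q ≤ Ls := hQS.trans h3
  obtain ⟨hLn, hLe, _⟩ := Cfsg.Agent.Lib.Helper6.largestPReducedOf_spec p L
  obtain ⟨hLsn, _, _⟩ := Cfsg.Agent.Lib.Helper6.largestPReducedOf_spec p Ls
  have hYp : IsPGroup p ↥(Cfsg.largestPReducedOf p L) :=
    Cfsg.Agent.Lib.Helper6.isPGroup_of_isElementaryAbelian hLe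
  have hY1 : Cfsg.largestPReducedOf p L ≠ ⊥ :=
    Cfsg.Agent.Lib.Lead.MSS.largestPReducedOf_ne_bot S hSL hL
  have hw1 := (Cfsg.Agent.S2843.result Q hQp hQ1 hLg L hQL _ hYp hY1 hLn).1
  have hw2 := (Cfsg.Agent.S2843.result Q hQp hQ1 hLg Ls hQLs _ hYp hY1 (h6 ▸ hLsn)).1
  have hwcl : Cfsg.weakClosure Q L = Cfsg.weakClosure Q Ls := by
    rw [hw1, hw2, h8]
  refine ⟨M, Ls, h1, h2, h3, h4, h5, h8, hwcl, Cfsg.Agent.Lib.Lead.MSS.weakClosure_mono Q h4, h6,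
    h6 ▸ h7, ?_⟩
  intro hLN
  have key : ¬ Ls ≤ Subgroup.normalizer ((Q : Subgroup H) : Set H) := by
    intro hLsN
    apply hLN
    have e := Cfsg.Agent.Lib.Lead.MSS.weakClosure_eq_self_of_le_normalizer hQp hwc hQLs hLsN
    have := Cfsg.Agent.Lib.Lead.MSS.le_normalizer_weakClosure Q L
    rwa [hwcl, e] at this
  exact ⟨key, fun hMN => key (h4.trans hMN)⟩

end Cfsg.Agent.S2846
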