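import Mathlib
import Cfsg.Agent.Lib.Helper6.WeakCl2
import Cfsg.Agent.Lib.Helper6.YL
import Cfsg.Agent.Lib.Helper6.YL2
import Cfsg.Agent.Lib.Helper6.PRes
import Cfsg.Statements.S2848

set_option autoImplicit false
open Cfsg Cfsg.Agent.Lib.Helper6
open scoped commutatorElement

namespace Cfsg.Agent.S2848

/-- Standing hypotheses: G a finite group, S a Sylow p-subgroup, Q a nontrivial large p-subgroup of G contained in S (C_G(Q) ≤ Q and N_G(U) ≤ N_G(Q) for all nontrivial U ≤ C_G(Q)), and M a subgroup containing S with the basic property (M ∈ 𝔐_G(S)); Y_M denotes the largest p-reduced normal subgroup of M and M† = M·C_G(Y_M). Then O_p(M) is a weakly closed subgroup of M† (for p): it is the only M†-conjugate of itself inside some Sylow p-subgroup of M† containing it. -/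
theorem result {G : Type*} [Group G] [Finite G] {p : ℕ} [Fact p.Prime] (S : Sylow p G) (Q : Subgroup G) (hQp : IsPGroup p ↥Q) (hQ1 : Q ≠ ⊥) (hQS : Q ≤ (S : Subgroup G)) (hQ : Cfsg.IsLarge Q) (M : Subgroup G) (hSM : (S : Subgroup G) ≤ M) (hM : Cfsg.IsInFrakM p M) : Cfsg.IsWeaklyClosedSubgroup p (((Cfsg.pCoreOf p M)).subgroupOf (M ⊔ Subgroup.centralizer (((Cfsg.largestPReducedOf p M) : Subgroup G) : Set G))) := by
  obtain ⟨⟨hne, hC⟩, _, _, _, hcl, _⟩ := hM
  -- M has characteristic p
  have hchar : Subgroup.centralizer (pCore p ↥M : Set ↥M) ≤ pCore p ↥M := by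
    intro x hx
    have h1 : (x : G) ∈ Subgroup.centralizer (((pCore p ↥M).map M.subtype : Subgroup G) : Set G) := by
      rw [Subgroup.mem_centralizer_iff]
      rintro _ ⟨y, hy, rfl⟩
      have := Subgroup.mem_centralizer_iff.mp hx y hy
      exact congrArg Subtype.val this
    obtain ⟨y, hy, hyx⟩ := hC h1
    have : y = x := Subtype.ext hyx
    rwa [← this]
  set Y := largestPReducedOf p M with hY
  set C := Subgroup.centralizer (Y : Set G) with hCdef
  set P := pCoreOf p M with hP
  have hMNY : M ≤ Subgroup.normalizer (Y : Set G) := le_normalizer_largestPReducedOf M hchar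
  have hNYC : Subgroup.normalizer (Y : Set G) ≤ Subgroup.normalizer (C : Set G) :=
    normalizer_le_normalizer_centralizer Y
  have hMdN : M ⊔ C ≤ Subgroup.normalizer (C : Set G) :=
    sup_le (hMNY.trans hNYC) Subgroup.le_normalizer
  have hPC : P ≤ C := pCoreOf_le_centralizer_largestPReducedOf M hchar
  have hPM : P ≤ M := pCoreOf_le M
  have hPp : IsPGroup p P := pCoreOf_isPGroup p M
  -- P ≤ S
  have hPS : P ≤ (S : Subgroup G) := by
    have hSP : (S : Subgroup G) ≤ Subgroup.normalizer (P : Set G) := by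
      intro s hs
      apply mem_normalizer_of_map_conj_eq_self
      rw [hP, pCoreOf_map_conj, map_conj_eq_self_of_mem_normalizer (Subgroup.le_normalizer (hSM hs))]
    have h1 : IsPGroup p ((S : Subgroup G) ⊔ P : Subgroup G) :=
      IsPGroup.to_sup_of_normal_right' S.isPGroup' hPp hSP
    have h2 := S.is_maximal' h1 le_sup_left
    rw [← h2]; exact le_sup_right
  have hSyl : IsSylowOf p C ((S : Subgroup G) ⊓ C) :=
    isSylowOf_inf_of_le_normalizer S C ((hSM.trans le_sup_left).trans hMdN)
  -- S ∩ C ≤ P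
  have hSCP : (S : Subgroup G) ⊓ C ≤ P := by
    have hn : ((M ⊓ C).subgroupOf M).Normal := by
      rw [Subgroup.normal_subgroupOf_iff_le_normalizer inf_le_left]
      intro m hm
      apply mem_normalizer_of_map_conj_eq_self
      rw [Subgroup.map_inf_eq _ _ _ (MulAut.conj m).injective,
        map_conj_eq_self_of_mem_normalizer (Subgroup.le_normalizer hm),
        map_conj_eq_self_of_mem_normalizer ((le_sup_left.trans hMdN) hm)]
    have hcl' : IsPClosed p ↥((M ⊓ C).subgroupOf M) :=
      isPClosed_of_surjective (Subgroup.subgroupOfEquivOfLe (inf_le_left : M ⊓ C ≤ M)).symm.toMonoidHom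
        (Subgroup.subgroupOfEquivOfLe (inf_le_left : M ⊓ C ≤ M)).symm.surjective hcl
    have h1 : (((S : Subgroup G) ⊓ C).subgroupOf M) ≤ pCore p ↥M := by
      apply le_pCore_of_isPClosed_normal ((M ⊓ C).subgroupOf M) hcl'
      · intro x hx
        rw [Subgroup.mem_subgroupOf] at hx ⊢
        exact ⟨x.2, hx.2⟩
      · exact (S.isPGroup'.to_le inf_le_left).comap_subtype
    intro x hx
    exact ⟨⟨x, hSM hx.1⟩, h1 (by rw [Subgroup.mem_subgroupOf]; exact hx), rfl⟩
  have hPeq : P = (S : Subgroup G) ⊓ C := le_antisymm (le_inf hPS hPC) hSCP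
  rw [← hPeq] at hSyl
  exact isWeaklyClosedSubgroup_subgroupOf_of_isSylowOf hSyl hMdN (hPM.trans le_sup_left)

end Cfsg.Agent.S2848
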