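import Mathlib
import Cfsg.Agent.Lib.Helper6.ElemAb
import Cfsg.Agent.Lib.Helper6.YL
import Cfsg.Agent.Lib.Helper6.YL2
import Cfsg.Agent.Lib.Helper6.Amalgam4
import Cfsg.Statements.S2849

set_option autoImplicit false
open Cfsg Cfsg.Agent.Lib.Helper6
open scoped commutatorElement

namespace Cfsg.Agent.S2849

/-- Standing hypotheses: G a finite group, S a Sylow p-subgroup, Q a nontrivial large p-subgroup of G contained in S (C_G(Q) ≤ Q and N_G(U) ≤ N_G(Q) for all nontrivial U ≤ C_G(Q)), and M a subgroup containing S with the basic property (M ∈ 𝔐_G(S)); Y_M denotes the largest p-reduced normal subgroup of M and M† = M·C_G(Y_M). Suppose Y_M is asymmetric in G. Then for every subgroup R with Y_M ≤ R ≤ M†, the normal closure of Y_M in N_G(R) is elementary abelian. -/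
theorem result {G : Type*} [Group G] [Finite G] {p : ℕ} [Fact p.Prime] (S : Sylow p G) (Q : Subgroup G) (hQp : IsPGroup p ↥Q) (hQ1 : Q ≠ ⊥) (hQS : Q ≤ (S : Subgroup G)) (hQ : Cfsg.IsLarge Q) (M : Subgroup G) (hSM : (S : Subgroup G) ≤ M) (hM : Cfsg.IsInFrakM p M) (hasym : ¬ Cfsg.IsSymmetricIn (Cfsg.largestPReducedOf p M)) (R : Subgroup G) (hYR : (Cfsg.largestPReducedOf p M) ≤ R) (hRM : R ≤ (M ⊔ Subgroup.centralizer (((Cfsg.largestPReducedOf p M) : Subgroup G) : Set G))) : Cfsg.IsElementaryAbelian p ((Subgroup.normalClosure ((((Cfsg.largestPReducedOf p M)).subgroupOf (Subgroup.normalizer ((R : Subgroup G) : Set G)) : Subgroup ↥(Subgroup.normalizer ((R : Subgroup G) : Set G))) : Set ↥(Subgroup.normalizer ((R : Subgroup G) : Set G)))).map (Subgroup.normalizer ((R : Subgroup G) : Set G)).subtype) := by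
  obtain ⟨⟨hne, hC⟩, _, _, _, hcl, _⟩ := hM
  have hchar : Subgroup.centralizer (pCore p ↥M : Set ↥M) ≤ pCore p ↥M := by
    intro x hx
    have h1 : (x : G) ∈ Subgroup.centralizer (((pCore p ↥M).map M.subtype : Subgroup G) : Set G) := by
      rw [Subgroup.mem_centralizer_iff]
      rintro _ ⟨y, hy, rfl⟩
      have := Subgroup.mem_centralizer_iff.mp hx y hy
      exact congrArg Subtype.val this
    obtain ⟨y, hy, hyx⟩ := hC h1
    have : y = x := Subtype.ext hyx
    rwa [← this]
  set Y := largestPReducedOf p M with hY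
  set NR := Subgroup.normalizer (R : Set G) with hNR
  have hYM : Y ≤ M := by rintro _ ⟨y, _, rfl⟩; exact y.2
  have hYel : IsElementaryAbelian p Y := by
    have h1 := (largestPReduced_spec hchar).1.2.1
    have h2 : Y.subgroupOf M = largestPReduced p ↥M := by
      rw [hY]; unfold largestPReducedOf
      exact Subgroup.comap_map_eq_self_of_injective M.subtype_injective _
    rw [← h2] at h1
    exact (isElementaryAbelian_subgroupOf_iff hYM).mp h1
  obtain ⟨hYc, hYp⟩ := isElementaryAbelian_iff_forall.mp hYel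
  have hMdNY : M ⊔ Subgroup.centralizer (Y : Set G) ≤ Subgroup.normalizer (Y : Set G) :=
    sup_le (le_normalizer_largestPReducedOf M hchar) (Subgroup.centralizer_le_normalizer _)
  -- Step 1
  have step1 : ∀ x ∈ NR, ⁅Y, Y.map (MulAut.conj x).toMonoidHom⁆ = ⊥ := by
    intro x hx
    have hRx : R.map (MulAut.conj x).toMonoidHom = R := map_conj_eq_self_of_mem_normalizer hx
    have h1 : Y.map (MulAut.conj x).toMonoidHom ≤ Subgroup.normalizer (Y : Set G) := by
      refine le_trans ?_ (hRM.trans hMdNY)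
      rw [← hRx]; exact Subgroup.map_mono hYR
    have h2 : Y ≤ Subgroup.normalizer ((Y.map (MulAut.conj x).toMonoidHom : Subgroup G) : Set G) := by
      rw [← normalizer_map_conj]
      refine le_trans hYR ?_
      rw [← hRx]
      exact Subgroup.map_mono (hRM.trans hMdNY)
    by_contra hne'
    exact hasym ⟨x, hne', le_inf (Subgroup.le_normalizer_iff_commutator_le_left.mp h1)
      (Subgroup.le_normalizer_iff_commutator_le_right.mp h2)⟩
  -- Step 2
  set T : Set G := {g | ∃ x ∈ NR, ∃ y ∈ Y, g = x * y * x⁻¹} with hT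
  have hTel : IsElementaryAbelian p (Subgroup.closure T) := by
    apply isElementaryAbelian_closure
    · rintro _ ⟨x, hx, y, hy, rfl⟩ _ ⟨x', hx', y', hy', rfl⟩
      have hz : x⁻¹ * x' ∈ NR := NR.mul_mem (NR.inv_mem hx) hx'
      have h1 := Subgroup.commutator_eq_bot_iff_le_centralizer.mp (step1 _ hz) hy
      have h2 := Subgroup.mem_centralizer_iff.mp h1 ((x⁻¹ * x') * y' * (x⁻¹ * x')⁻¹)
        ⟨y', hy', by simp only [MulEquiv.coe_toMonoidHom, MulAut.conj_apply]⟩
      calc x * y * x⁻¹ * (x' * y' * x'⁻¹)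
          = x * (y * ((x⁻¹ * x') * y' * (x⁻¹ * x')⁻¹)) * x⁻¹ := by group
        _ = x * (((x⁻¹ * x') * y' * (x⁻¹ * x')⁻¹) * y) * x⁻¹ := by rw [h2]
        _ = x' * y' * x'⁻¹ * (x * y * x⁻¹) := by group
    · rintro _ ⟨x, hx, y, hy, rfl⟩
      rw [conj_pow, hYp y hy]; group
  apply isElementaryAbelian_of_le hTel
  unfold Subgroup.normalClosure
  rw [MonoidHom.map_closure]
  apply Subgroup.closure_mono
  rintro _ ⟨w, hw, rfl⟩
  obtain ⟨a, ha, hconj⟩ := Group.mem_conjugatesOfSet_iff.mp hw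
  obtain ⟨c, hc⟩ := isConj_iff.mp hconj
  refine ⟨(c : G), c.2, (a : G), ?_, ?_⟩
  · have : a ∈ Y.subgroupOf NR := ha
    rwa [Subgroup.mem_subgroupOf] at this
  · rw [← hc]; simp

end Cfsg.Agent.S2849
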