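import Cfsg.Statements.S2850
import Mathlib
import Cfsg.Agent.Lib.Helper6.WeakCl2
import Cfsg.Agent.Lib.Helper6.YL
import Cfsg.Agent.Lib.Helper6.YL2
import Cfsg.Agent.Lib.Helper6.PRes
import Cfsg.Agent.Lib.Helper6.ElemAb
import Cfsg.Agent.Lib.Helper6.Amalgam4
import Cfsg.Agent.Lib.Lead.MSS3
import Cfsg.Agent.Lib.Lead.MSS6
import Cfsg.Agent.S2859
import Cfsg.Agent.S2864

set_option autoImplicit false
open Cfsg Cfsg.Agent.Lib.Helper6
open scoped commutatorElement

namespace Cfsg.Agent.S2850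

/-- Standing hypotheses: G a finite group, S a Sylow p-subgroup, Q a nontrivial large p-subgroup of G contained in S (C_G(Q) ≤ Q and N_G(U) ≤ N_G(Q) for all nontrivial U ≤ C_G(Q)), and M a subgroup containing S with the basic property (M ∈ 𝔐_G(S)); Y_M denotes the largest p-reduced normal subgroup of M and M† = M·C_G(Y_M). Suppose Y_M is asymmetric in G. Then N_G(L) ≤ N_G(O_p(M)) ≤ M† for every p-subgroup L containing O_p(M); O_p(M) is a weakly closed subgroup of G; for every subgroup L containing O_p(M), L ∩ M† contains a Sylow p-subgroup of L; and two elements of Y_M conjugate in G are conjugate in M. -/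
theorem result {G : Type*} [Group G] [Finite G] {p : ℕ} [Fact p.Prime] (S : Sylow p G) (Q : Subgroup G) (hQp : IsPGroup p ↥Q) (hQ1 : Q ≠ ⊥) (hQS : Q ≤ (S : Subgroup G)) (hQ : Cfsg.IsLarge Q) (M : Subgroup G) (hSM : (S : Subgroup G) ≤ M) (hM : Cfsg.IsInFrakM p M) (hasym : ¬ Cfsg.IsSymmetricIn (Cfsg.largestPReducedOf p M)) : (∀ L : Subgroup G, IsPGroup p ↥L → (Cfsg.pCoreOf p M) ≤ L → Subgroup.normalizer ((L : Subgroup G) : Set G) ≤ Subgroup.normalizer (((Cfsg.pCoreOf p M) : Subgroup G) : Set G) ∧ Subgroup.normalizer (((Cfsg.pCoreOf p M) : Subgroup G) : Set G) ≤ (M ⊔ Subgroup.centralizer (((Cfsg.largestPReducedOf p M) : Subgroup G) : Set G))) ∧ Cfsg.IsWeaklyClosedSubgroup p (Cfsg.pCoreOf p M) ∧ (∀ L : Subgroup G, (Cfsg.pCoreOf p M) ≤ L → Cfsg.IsParabolic p ((L ⊓ (M ⊔ Subgroup.centralizer (((Cfsg.largestPReducedOf p M) : Subgroup G) : Set G))).subgroupOf L)) ∧ (∀ x ∈ (Cfsg.largestPReducedOf p M), ∀ g : G, g * x * g⁻¹ ∈ (Cfsg.largestPReducedOf p M) → ∃ m ∈ M, m * x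 * m⁻¹ = g * x * g⁻¹) := by
  have hM' := hM
  obtain ⟨⟨hne, hC⟩, _, _, _, hcl, _⟩ := hM
  have hchar : Subgroup.centralizer (pCore p ↥M : Set ↥M) ≤ pCore p ↥M := by
    intro x hx
    have h1 : (x : G) ∈ Subgroup.centralizer (((pCore p ↥M).map M.subtype : Subgroup G) : Set G) := by
      rw [Subgroup.mem_centralizer_iff]
      rintro _ ⟨y, hy, rfl⟩
      have := Subgroup.mem_centralizer_iff.mp hx y hy
      exact congrArg Subtype.val this
    obtain ⟨y, hy, hyx⟩ := hC h1
    have : y = x := Subtype.ext hyx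
    rwa [← this]
  set Y := largestPReducedOf p M with hY
  set C := Subgroup.centralizer (Y : Set G) with hCdef
  set P := pCoreOf p M with hP
  have hMNY : M ≤ Subgroup.normalizer (Y : Set G) := le_normalizer_largestPReducedOf M hchar
  have hNYC : Subgroup.normalizer (Y : Set G) ≤ Subgroup.normalizer (C : Set G) :=
    normalizer_le_normalizer_centralizer Y
  have hMdNY : M ⊔ C ≤ Subgroup.normalizer (Y : Set G) :=
    sup_le hMNY (Subgroup.centralizer_le_normalizer _)
  have hMdN : M ⊔ C ≤ Subgroup.normalizer (C : Set G) := hMdNY.trans hNYC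
  have hPC : P ≤ C := pCoreOf_le_centralizer_largestPReducedOf M hchar
  have hPM : P ≤ M := pCoreOf_le M
  have hPp : IsPGroup p P := pCoreOf_isPGroup p M
  have hMP : M ≤ Subgroup.normalizer (P : Set G) :=
    Subgroup.le_normalizer.trans (Cfsg.Agent.S2859.normalizer_le_normalizer_pCoreOf p M)
  -- P ≤ S
  have hPS : P ≤ (S : Subgroup G) := by
    have hSP : (S : Subgroup G) ≤ Subgroup.normalizer (P : Set G) := hSM.trans hMP
    have h1 : IsPGroup p ((S : Subgroup G) ⊔ P : Subgroup G) :=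
      IsPGroup.to_sup_of_normal_right' S.isPGroup' hPp hSP
    have h2 := S.is_maximal' h1 le_sup_left
    rw [← h2]; exact le_sup_right
  have hSyl : IsSylowOf p C ((S : Subgroup G) ⊓ C) :=
    isSylowOf_inf_of_le_normalizer S C ((hSM.trans le_sup_left).trans hMdN)
  have hSCP : (S : Subgroup G) ⊓ C ≤ P := by
    have hn : ((M ⊓ C).subgroupOf M).Normal := by
      rw [Subgroup.normal_subgroupOf_iff_le_normalizer inf_le_left]
      intro m hm
      apply mem_normalizer_of_map_conj_eq_self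
      rw [Subgroup.map_inf_eq _ _ _ (MulAut.conj m).injective,
        map_conj_eq_self_of_mem_normalizer (Subgroup.le_normalizer hm),
        map_conj_eq_self_of_mem_normalizer ((le_sup_left.trans hMdN) hm)]
    have hcl' : IsPClosed p ↥((M ⊓ C).subgroupOf M) :=
      isPClosed_of_surjective (Subgroup.subgroupOfEquivOfLe (inf_le_left : M ⊓ C ≤ M)).symm.toMonoidHom
        (Subgroup.subgroupOfEquivOfLe (inf_le_left : M ⊓ C ≤ M)).symm.surjective hcl
    have h1 : (((S : Subgroup G) ⊓ C).subgroupOf M) ≤ pCore p ↥M := by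
      apply le_pCore_of_isPClosed_normal ((M ⊓ C).subgroupOf M) hcl'
      · intro x hx
        rw [Subgroup.mem_subgroupOf] at hx ⊢
        exact ⟨x.2, hx.2⟩
      · exact (S.isPGroup'.to_le inf_le_left).comap_subtype
    intro x hx
    exact ⟨⟨x, hSM hx.1⟩, h1 (by rw [Subgroup.mem_subgroupOf]; exact hx), rfl⟩
  have hPeq : P = (S : Subgroup G) ⊓ C := le_antisymm (le_inf hPS hPC) hSCP
  rw [← hPeq] at hSyl
  -- Y ≤ P
  have hYM : Y ≤ M := by rintro _ ⟨y, _, rfl⟩; exact y.2
  have hYel : IsElementaryAbelian p Y := by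
    have h1 := (largestPReduced_spec hchar).1.2.1
    have h2 : Y.subgroupOf M = largestPReduced p ↥M := by
      rw [hY]; unfold largestPReducedOf
      exact Subgroup.comap_map_eq_self_of_injective M.subtype_injective _
    rw [← h2] at h1
    exact (isElementaryAbelian_subgroupOf_iff hYM).mp h1
  have hYp : IsPGroup p Y := by
    obtain ⟨_, hYp'⟩ := isElementaryAbelian_iff_forall.mp hYel
    intro y
    refine ⟨1, ?_⟩
    have := hYp' y y.2
    apply Subtype.ext
    simpa using this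
  have hYP : Y ≤ P := Cfsg.Agent.S2859.le_pCoreOf' hYM hMNY hYp
  have hY1 : Y ≠ ⊥ := Cfsg.Agent.Lib.Lead.MSS.largestPReducedOf_ne_bot S hSM hM'.1
  have hD : Cfsg.Agent.Lib.Lead.MSS.AsymData p Y P M (M ⊔ C) :=
    { asym := hasym
      syl := hSyl
      hYP := hYP
      hY1 := hY1
      hMP := hMP
      hMd := hMdNY
      dag := fun I hI1 hIp hMI =>
        Cfsg.Agent.S2864.normalizer_le_dagger S Q hQp hQ1 hQ M hSM hM' I hI1 hIp hMI }
  have hwc : IsWeaklyClosedSubgroup p P := hD.isWeaklyClosedSubgroup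
  have hNP : Subgroup.normalizer (P : Set G) ≤ M ⊔ C := hD.normalizer_P_le
  refine ⟨fun L hL hPL => ⟨hD.normalizer_le_normalizer hL hPL, hNP⟩, hwc, ?_, ?_⟩
  · intro L hPL
    obtain ⟨T, hT⟩ := IsWeaklyClosedSubgroup_isParabolic_normalizer hPp hwc hPL
    refine ⟨T, hT.trans ?_⟩
    intro x hx
    rw [Subgroup.mem_subgroupOf] at hx ⊢
    exact ⟨x.2, hNP hx⟩
  · intro x hx g hgx
    set x' := g * x * g⁻¹ with hx'
    set K := Subgroup.centralizer ({x'} : Set G) with hK
    have hPK : P ≤ K := by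
      intro q hq
      rw [hK, Subgroup.mem_centralizer_iff]
      intro z hz
      rw [Set.mem_singleton_iff] at hz
      subst hz
      exact Subgroup.mem_centralizer_iff.mp (hPC hq) x' hgx
    have hgK : P.map (MulAut.conj g).toMonoidHom ≤ K := by
      rintro _ ⟨q, hq, rfl⟩
      rw [hK, Subgroup.mem_centralizer_iff]
      intro z hz
      rw [Set.mem_singleton_iff] at hz
      subst hz
      have h1 : x * q = q * x := Subgroup.mem_centralizer_iff.mp (hPC hq) x hx
      simp only [MulEquiv.coe_toMonoidHom, MulAut.conj_apply, hx']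
      calc g * x * g⁻¹ * (g * q * g⁻¹) = g * (x * q) * g⁻¹ := by group
        _ = g * (q * x) * g⁻¹ := by rw [h1]
        _ = g * q * g⁻¹ * (g * x * g⁻¹) := by group
    obtain ⟨k, hkK, hk⟩ := IsWeaklyClosedSubgroup_exists_conj_in hPp hwc hPK hgK
    have h1 : P.map (MulAut.conj (k⁻¹ * g)).toMonoidHom = P := by
      rw [← map_conj_map_conj, hk, map_conj_inv_map_conj]
    have h2 : k⁻¹ * g ∈ M ⊔ C := hNP (mem_normalizer_of_map_conj_eq_self h1)
    have h3 : k⁻¹ * g ∈ ((M ⊔ C : Subgroup G) : Set G) := h2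
    rw [Subgroup.coe_mul_of_left_le_normalizer_right M C (hMNY.trans hNYC)] at h3
    obtain ⟨m, hm, c, hc, hmc⟩ := h3
    refine ⟨m, hm, ?_⟩
    have hcx : c * x = x * c := (Subgroup.mem_centralizer_iff.mp hc x hx).symm
    have hkx : k * x' = x' * k := (Subgroup.mem_centralizer_iff.mp hkK x' rfl).symm
    have hm' : m = k⁻¹ * g * c⁻¹ := by
      have : m * c = k⁻¹ * g := hmc
      rw [← this]; group
    have hcx' : c⁻¹ * x * c = x := by
      rw [mul_assoc, ← hcx, ← mul_assoc, inv_mul_cancel, one_mul]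
    calc m * x * m⁻¹ = k⁻¹ * (g * (c⁻¹ * x * c) * g⁻¹) * k := by rw [hm']; group
      _ = k⁻¹ * x' * k := by rw [hcx']
      _ = x' := by rw [mul_assoc, ← hkx, ← mul_assoc, inv_mul_cancel, one_mul]

end Cfsg.Agent.S2850
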