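import Cfsg.Statements.S2851
import Mathlib
import Cfsg.Agent.Lib.Helper6.WeakCl2
import Cfsg.Agent.Lib.Helper6.YL
import Cfsg.Agent.Lib.Helper6.YL2
import Cfsg.Agent.Lib.Helper6.PRes
import Cfsg.Agent.Lib.Helper6.ElemAb
import Cfsg.Agent.Lib.Helper6.Amalgam4
import Cfsg.Agent.Lib.Helper6.PReduced5
import Cfsg.Agent.Lib.Lead.MSS3
import Cfsg.Agent.Lib.Lead.MSS7
import Cfsg.Agent.S2859
import Cfsg.Agent.S2850

set_option autoImplicit false
open Cfsg Cfsg.Agent.Lib.Helper6
open scoped commutatorElement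

namespace Cfsg.Agent.S2851

/-- Standing hypotheses: G a finite group, S a Sylow p-subgroup, Q a nontrivial large p-subgroup of G contained in S, M a subgroup containing S with the basic property (M ∈ 𝔐_G(S)); Y_M the largest p-reduced normal subgroup of M and M† = M·C_G(Y_M). Let F be the preimage in M† of the generalized Fitting subgroup of M†/C_{M†}(Y_M). If Y_M is asymmetric in G and H is a subgroup of characteristic p containing F, then Y_M ≤ Y_H. -/
theorem result {G : Type*} [Group G] [Finite G] {p : ℕ} [Fact p.Prime] (S : Sylow p G) (Q : Subgroup G) (hQp : IsPGroup p ↥Q) (hQ1 : Q ≠ ⊥) (hQS : Q ≤ (S : Subgroup G)) (hQ : Cfsg.IsLarge Q) (M : Subgroup G) (hSM : (S : Subgroup G) ≤ M) (hM : Cfsg.IsInFrakM p M) (hasym : ¬ Cfsg.IsSymmetricIn (Cfsg.largestPReducedOf p M)) [hn : ((Subgroup.centralizer (((Cfsg.largestPReducedOf p M) : Subgroup G) : Set G)).subgroupOf (M ⊔ Subgroup.centralizer (((Cfsg.largestPReducedOf p M) : Subgroup G) : Set G))).Normal] (F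 : Subgroup G) (hF : F = ((Cfsg.generalizedFittingSubgroup (↥(M ⊔ Subgroup.centralizer (((Cfsg.largestPReducedOf p M) : Subgroup G) : Set G)) ⧸ (Subgroup.centralizer (((Cfsg.largestPReducedOf p M) : Subgroup G) : Set G)).subgroupOf (M ⊔ Subgroup.centralizer (((Cfsg.largestPReducedOf p M) : Subgroup G) : Set G)))).comap (QuotientGroup.mk' ((Subgroup.centralizer (((Cfsg.largestPReducedOf p M) : Subgroup G) : Set G)).subgroupOf (M ⊔ Subgroup.centralizer (((Cfsg.largestPReducedOf p M) : Subgroup G) : Set G))))).map ((M ⊔ Subgroup.centralizer (((Cfsg.largestPReducedOf p M) : Subgroup G) : Set G))).subtype) (H : Subgroup G) (hFH : F ≤ H) (hH : Subgroup.centralizer (Cfsg.pCore p ↥H : Set ↥H) ≤ Cfsg.pCore p ↥H) : (Cfsg.largestPReducedOf p M) ≤ Cfsg.largestPReducedOf p H := by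
  have hM' := hM
  obtain ⟨⟨hne, hC⟩, _, _, hYeq, hcl, _⟩ := hM
  have hchar : Subgroup.centralizer (pCore p ↥M : Set ↥M) ≤ pCore p ↥M := by
    intro x hx
    have h1 : (x : G) ∈ Subgroup.centralizer (((pCore p ↥M).map M.subtype : Subgroup G) : Set G) := by
      rw [Subgroup.mem_centralizer_iff]
      rintro _ ⟨y, hy, rfl⟩
      have := Subgroup.mem_centralizer_iff.mp hx y hy
      exact congrArg Subtype.val this
    obtain ⟨y, hy, hyx⟩ := hC h1
    have : y = x := Subtype.ext hyx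
    rwa [← this]
  have h50 := Cfsg.Agent.S2850.result S Q hQp hQ1 hQS hQ M hSM hM' hasym
  set Y := largestPReducedOf p M with hY
  set C := Subgroup.centralizer (Y : Set G) with hCdef
  set Md := M ⊔ C with hMd
  set P := pCoreOf p M with hP
  have hCMd : C ≤ Md := le_sup_right
  have hPC : P ≤ C := pCoreOf_le_centralizer_largestPReducedOf M hchar
  have hMNY : M ≤ Subgroup.normalizer (Y : Set G) := le_normalizer_largestPReducedOf M hchar
  have hFeq : F = Cfsg.Agent.Lib.Lead.MSS.fstarPre Md C := hF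
  have hCF : C ≤ F := by rw [hFeq]; exact Cfsg.Agent.Lib.Lead.MSS.le_fstarPre hCMd
  have hFMd : F ≤ Md := by rw [hFeq]; exact Cfsg.Agent.Lib.Lead.MSS.fstarPre_le Md C
  -- Y elementary abelian
  have hYM : Y ≤ M := by rintro _ ⟨y, _, rfl⟩; exact y.2
  have hYel : IsElementaryAbelian p Y := by
    have h1 := (largestPReduced_spec hchar).1.2.1
    have h2 : Y.subgroupOf M = largestPReduced p ↥M := by
      rw [hY]; unfold largestPReducedOf
      exact Subgroup.comap_map_eq_self_of_injective M.subtype_injective _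
    rw [← h2] at h1
    exact (isElementaryAbelian_subgroupOf_iff hYM).mp h1
  obtain ⟨hYc, hYp⟩ := isElementaryAbelian_iff_forall.mp hYel
  have hYC : Y ≤ C := by
    intro y hy
    rw [hCdef, Subgroup.mem_centralizer_iff]
    intro z hz
    exact hYc z hz y hy
  have hYH : Y ≤ H := (hYC.trans hCF).trans hFH
  have hPH : P ≤ H := (hPC.trans hCF).trans hFH
  -- RedOn p Y Md and O_p(Md/C) = 1
  have hRed : RedOn p Y Md := by
    have := (largestPReducedOf_spec p Md).2.2
    rw [← hYeq] at this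
    exact this
  have hO : pCore p (↥Md ⧸ C.subgroupOf Md) = ⊥ :=
    Cfsg.Agent.Lib.Lead.MSS.pCore_quotient_eq_bot_of_redOn hRed
  -- Sylow of H inside Md
  obtain ⟨T, hT⟩ := h50.2.2.1 H hPH
  set T₀ := (T : Subgroup ↥H).map H.subtype with hT₀
  have hT₀syl : IsSylowOf p H T₀ := isSylowOf_of_sylow T
  have hT₀Md : T₀ ≤ Md := by
    rintro _ ⟨t, ht, rfl⟩
    have := hT ht
    rw [Subgroup.mem_subgroupOf] at this
    exact this.2
  -- O_p(H) ≤ C
  set O := pCoreOf p H with hOdef
  have hOT : O ≤ T₀ := pCoreOf_le_sylow_map H T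
  have hHO : H ≤ Subgroup.normalizer (O : Set G) :=
    Subgroup.le_normalizer.trans (Cfsg.Agent.S2859.normalizer_le_normalizer_pCoreOf p H)
  have hOp : IsPGroup p O := pCoreOf_isPGroup p H
  have hOC : O ≤ C := by
    apply Cfsg.Agent.Lib.Lead.MSS.le_of_fstarPre_le_normalizer hO (hOT.trans hT₀Md)
    · rw [← hFeq]; exact hFH.trans hHO
    · intro d hd
      obtain ⟨k, hk⟩ := hOp ⟨d, hd⟩
      refine ⟨k, ?_⟩
      have := congrArg Subtype.val hk
      simp only [Subgroup.coe_pow, Subgroup.coe_one] at this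
      rw [this]; exact Subgroup.one_mem _
  -- Y ≤ O ⊓ C_G(O)
  have hYcO : Y ≤ Subgroup.centralizer (O : Set G) := by
    rw [Subgroup.le_centralizer_iff]; exact hOC
  have hYO : Y ≤ O := by
    intro y hy
    have h1 : (⟨y, hYH hy⟩ : ↥H) ∈ Subgroup.centralizer (pCore p ↥H : Set ↥H) := by
      rw [Subgroup.mem_centralizer_iff]
      intro z hz
      apply Subtype.ext
      have hz' : (z : G) ∈ O := ⟨z, hz, rfl⟩
      exact Subgroup.mem_centralizer_iff.mp (hYcO hy) (z : G) hz'
    exact ⟨⟨y, hYH hy⟩, hH h1, rfl⟩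
  set ZO := O ⊓ Subgroup.centralizer (O : Set G) with hZO
  have hHZO : H ≤ Subgroup.normalizer (ZO : Set G) :=
    Cfsg.Agent.Lib.Lead.MSS.le_normalizer_inf hHO
      (hHO.trans (normalizer_le_normalizer_centralizer O))
  set V := Cfsg.Agent.Lib.Lead.MSS.ncl H Y with hV
  have hYV : Y ≤ V := Cfsg.Agent.Lib.Lead.MSS.le_ncl H Y
  have hVZO : V ≤ ZO := Cfsg.Agent.Lib.Lead.MSS.ncl_le (le_inf hYO hYcO) hHZO
  have hVH : V ≤ H := Cfsg.Agent.Lib.Lead.MSS.ncl_le hYH Subgroup.le_normalizer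
  have hHV : H ≤ Subgroup.normalizer (V : Set G) := Cfsg.Agent.Lib.Lead.MSS.le_normalizer_ncl H Y
  have hZOcomm : ∀ a ∈ ZO, ∀ b ∈ ZO, a * b = b * a := by
    intro a ha b hb
    exact (Subgroup.mem_centralizer_iff.mp hb.2 a ha.1)
  have hVel : IsElementaryAbelian p V := by
    rw [hV]; unfold Cfsg.Agent.Lib.Lead.MSS.ncl
    apply isElementaryAbelian_closure
    · intro a ha b hb
      have ha' : a ∈ ZO := hVZO (Subgroup.subset_closure ha)
      have hb' : b ∈ ZO := hVZO (Subgroup.subset_closure hb)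
      exact hZOcomm a ha' b hb'
    · rintro _ ⟨b, hb, y, hy, rfl⟩
      rw [conj_pow, hYp y hy]; group
  have hCVC : Subgroup.centralizer (V : Set G) ≤ C := Subgroup.centralizer_le hYV
  have hVred : RedOn p V H := by
    intro D hDH hHD hDp
    apply Cfsg.Agent.Lib.Lead.MSS.le_centralizer_ncl hHD
    -- D ≤ C
    set K := D ⊓ Subgroup.centralizer (V : Set G) with hK
    have hDK : D ≤ Subgroup.normalizer (K : Set G) :=
      Cfsg.Agent.Lib.Lead.MSS.le_normalizer_inf Subgroup.le_normalizer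
        ((hDH.trans hHV).trans (normalizer_le_normalizer_centralizer V))
    have hpK : ∀ d ∈ D, ∃ k : ℕ, d ^ p ^ k ∈ K := by
      intro d hd
      obtain ⟨k, hk⟩ := hDp d hd
      exact ⟨k, Subgroup.pow_mem _ hd _, hk⟩
    have hKW : K ≤ D ⊓ C := inf_le_inf_left D hCVC
    have hTW : T₀ ⊓ D ≤ D ⊓ C := by
      have h1 : D ⊓ Md ≤ C := by
        apply Cfsg.Agent.Lib.Lead.MSS.le_of_fstarPre_le_normalizer hO inf_le_right
        · rw [← hFeq]
          exact Cfsg.Agent.Lib.Lead.MSS.le_normalizer_inf (hFH.trans hHD)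
            (hFMd.trans Subgroup.le_normalizer)
        · intro d hd
          obtain ⟨k, hk⟩ := hDp d hd.1
          exact ⟨k, hCVC hk⟩
      intro x hx
      exact ⟨hx.2, h1 ⟨hx.2, hT₀Md hx.1⟩⟩
    have := Cfsg.Agent.Lib.Lead.MSS.le_of_isSylowOf_inf_le hT₀syl hDH hHD hDK hpK hKW hTW
    exact this.trans inf_le_right
  exact hYV.trans (le_largestPReducedOf hVH hHV hVel hVred)

end Cfsg.Agent.S2851
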