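import Cfsg.Statements.S2852
import Mathlib
import Cfsg.Agent.Lib.Lead.MSS8
import Cfsg.Agent.Lib.Lead.MSS9

set_option autoImplicit false
open Cfsg Cfsg.Agent.Lib.Helper6
open scoped commutatorElement

namespace Cfsg.Agent.S2852

/-- Standing hypotheses: G a finite group, S a Sylow p-subgroup, Q a nontrivial large p-subgroup of G contained in S, M a subgroup containing S with the basic property (M ∈ 𝔐_G(S)); Y_M the largest p-reduced normal subgroup of M. If Y_M is char-p-tall and asymmetric in G, then some subgroup H of G lies in ℌ_G(O_p(M)): H has characteristic p, O_p(M) ≤ H, Y_M ≰ O_p(H), and Y_M ≤ O_p(P) for every proper subgroup P of H containing O_p(M). -/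
theorem result {G : Type*} [Group G] [Finite G] {p : ℕ} [Fact p.Prime] (S : Sylow p G) (Q : Subgroup G) (hQp : IsPGroup p ↥Q) (hQ1 : Q ≠ ⊥) (hQS : Q ≤ (S : Subgroup G)) (hQ : Cfsg.IsLarge Q) (M : Subgroup G) (hSM : (S : Subgroup G) ≤ M) (hM : Cfsg.IsInFrakM p M) (htall : Cfsg.IsCharPTall p (Cfsg.largestPReducedOf p M)) (hasym : ¬ Cfsg.IsSymmetricIn (Cfsg.largestPReducedOf p M)) : ∃ H : Subgroup G, Cfsg.IsInFrakH p M H := by
  have hM' := hM
  obtain ⟨⟨hne, hC⟩, _, _, hYeq, hcl, _⟩ := hM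
  have hchar : Subgroup.centralizer (pCore p ↥M : Set ↥M) ≤ pCore p ↥M := by
    intro x hx
    have h1 : (x : G) ∈ Subgroup.centralizer (((pCore p ↥M).map M.subtype : Subgroup G) : Set G) := by
      rw [Subgroup.mem_centralizer_iff]
      rintro _ ⟨y, hy, rfl⟩
      have := Subgroup.mem_centralizer_iff.mp hx y hy
      exact congrArg Subtype.val this
    obtain ⟨y, hy, hyx⟩ := hC h1
    have : y = x := Subtype.ext hyx
    rwa [← this]
  have hD := Cfsg.Agent.Lib.Lead.MSS.asymData_of_frakM S Q hQp hQ1 hQS hQ M hSM hM' hasym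
  set Y := largestPReducedOf p M with hY
  set C := Subgroup.centralizer (Y : Set G) with hCdef
  set P := pCoreOf p M with hP
  obtain ⟨T, L, hTL, hLc, hYL⟩ := htall
  have hTsyl : IsSylowOf p C ((T : Subgroup ↥C).map C.subtype) := isSylowOf_of_sylow T
  obtain ⟨c, hc, hPc⟩ := hTsyl.exists_conj hD.syl
  -- P = c T c⁻¹
  set L₀ := L.map (MulAut.conj c).toMonoidHom with hL₀
  have hPL₀ : P ≤ L₀ := by
    rw [hPc]; exact Subgroup.map_mono hTL
  have hL₀c : Cfsg.Agent.Lib.Lead.MSS.CharPA p L₀ :=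
    ((Cfsg.Agent.Lib.Lead.MSS.charPA_iff p L).mpr hLc).map_conj c
  have hYc : Y.map (MulAut.conj c).toMonoidHom = Y :=
    map_conj_eq_self_of_mem_normalizer (Subgroup.centralizer_le_normalizer _ hc)
  have hYL₀ : ¬ Y ≤ pCoreOf p L₀ := by
    intro h
    apply hYL
    rw [hL₀, ← pCoreOf_map_conj, ← hYc] at h
    have h2 := Subgroup.map_mono (f := (MulAut.conj c⁻¹).toMonoidHom) h
    rw [map_conj_inv_map_conj, map_conj_inv_map_conj] at h2
    exact h2
  obtain ⟨H, hHc, hPH, hYH, hmin⟩ := hD.exists_frakH L₀ hPL₀ hL₀c hYL₀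
  exact ⟨H, (Cfsg.Agent.Lib.Lead.MSS.charPA_iff p H).mp hHc, hPH, hYH, hmin⟩

end Cfsg.Agent.S2852
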