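import Cfsg.Statements.S2853
import Mathlib
import Cfsg.Agent.Lib.Lead.MSS9
import Cfsg.Agent.Lib.Lead.MSS10
import Cfsg.Agent.S2850

set_option autoImplicit false
open Cfsg Cfsg.Agent.Lib.Helper6
open scoped commutatorElement

namespace Cfsg.Agent.S2853

/-- Standing hypotheses: G a finite group, S a Sylow p-subgroup, Q a nontrivial large p-subgroup of G contained in S, M a subgroup containing S with the basic property (M ∈ 𝔐_G(S)); Y_M the largest p-reduced normal subgroup of M and M† = M·C_G(Y_M). Suppose Y_M is char-p-tall and asymmetric in G and H ∈ ℌ_G(O_p(M)). Then every Sylow p-subgroup of H ∩ M† is a Sylow p-subgroup of H; O_p(H) normalizes O_p(M) and Y_M; O^p(H) = [O^p(H), Y_M] and H = O^p(H)·O_p(M); O^p(H)·Y_M is the normal closure of Y_M in H; and H is the normal closure of O_p(M) in H. Here O^p(H) is the subgroup generated by the elements of H of order prime to p. -/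
theorem result {G : Type*} [Group G] [Finite G] {p : ℕ} [Fact p.Prime] (S : Sylow p G) (Q : Subgroup G) (hQp : IsPGroup p ↥Q) (hQ1 : Q ≠ ⊥) (hQS : Q ≤ (S : Subgroup G)) (hQ : Cfsg.IsLarge Q) (M : Subgroup G) (hSM : (S : Subgroup G) ≤ M) (hM : Cfsg.IsInFrakM p M) (htall : Cfsg.IsCharPTall p (Cfsg.largestPReducedOf p M)) (hasym : ¬ Cfsg.IsSymmetricIn (Cfsg.largestPReducedOf p M)) (H : Subgroup G) (hH : Cfsg.IsInFrakH p M H) (R : Subgroup G) (hR : R = (Cfsg.pResidual p ↥H).map H.subtype) : (∀ T : Sylow p ↥(H ⊓ (M ⊔ Subgroup.centralizer (((Cfsg.largestPReducedOf p M) : Subgroup G) : Set G))), ∃ P : Sylow p ↥H, ((P : Subgroup ↥H).map H.subtype) = (T : Subgroup ↥(H ⊓ (M ⊔ Subgroup.centralizer (((Cfsg.largestPReducedOf p M) : Subgroup G) : Set G)))).map (H ⊓ (M ⊔ Subgroup.centralizer (((Cfsg.largestPReducedOf p M) : Subgroup G) : Set G))).subtype) ∧ Cfsg.pCoreOf p H ≤ Subgroup.normalizer (((Cfsg.pCoreOf p M) : Subgroup G) : Set G) ⊓ Subgroup.normalizer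 (((Cfsg.largestPReducedOf p M) : Subgroup G) : Set G) ∧ ⁅R, (Cfsg.largestPReducedOf p M)⁆ = R ∧ R ⊔ (Cfsg.pCoreOf p M) = H ∧ R ⊔ (Cfsg.largestPReducedOf p M) = (Subgroup.normalClosure ((((Cfsg.largestPReducedOf p M)).subgroupOf H : Subgroup ↥H) : Set ↥H)).map H.subtype ∧ (Subgroup.normalClosure ((((Cfsg.pCoreOf p M)).subgroupOf H : Subgroup ↥H) : Set ↥H)).map H.subtype = H := by
  have hM' := hM
  obtain ⟨⟨hne, hC⟩, _, _, hYeq, hcl, _⟩ := hM
  have hchar : Subgroup.centralizer (pCore p ↥M : Set ↥M) ≤ pCore p ↥M := by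
    intro x hx
    have h1 : (x : G) ∈ Subgroup.centralizer (((pCore p ↥M).map M.subtype : Subgroup G) : Set G) := by
      rw [Subgroup.mem_centralizer_iff]
      rintro _ ⟨y, hy, rfl⟩
      have := Subgroup.mem_centralizer_iff.mp hx y hy
      exact congrArg Subtype.val this
    obtain ⟨y, hy, hyx⟩ := hC h1
    have : y = x := Subtype.ext hyx
    rwa [← this]
  have hD := Cfsg.Agent.Lib.Lead.MSS.asymData_of_frakM S Q hQp hQ1 hQS hQ M hSM hM' hasym
  have h50 := Cfsg.Agent.S2850.result S Q hQp hQ1 hQS hQ M hSM hM' hasym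
  set Y := largestPReducedOf p M with hY
  set C := Subgroup.centralizer (Y : Set G) with hCdef
  set Md := M ⊔ C with hMd
  set P := pCoreOf p M with hP
  obtain ⟨hHc, hPH, hYH, hmin⟩ := hH
  have hFH : Cfsg.Agent.Lib.Lead.MSS.FrakHData p Y P H := ⟨hPH, hYH, hmin⟩
  have hPp : IsPGroup p P := hD.syl.2.1
  have hMNY : M ≤ Subgroup.normalizer (Y : Set G) := le_normalizer_largestPReducedOf M hchar
  have hPY : P ≤ Subgroup.normalizer (Y : Set G) := (pCoreOf_le M).trans hMNY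
  have hReq : R = pResSub p H := by rw [hR, pResSub_eq]
  have hYHle : Y ≤ H := hD.hYP.trans hPH
  refine ⟨?_, ?_, ?_, ?_, ?_, ?_⟩
  · -- (1)
    intro T
    obtain ⟨T', hT'⟩ := h50.2.2.1 H hPH
    set T'₀ := (T' : Subgroup ↥H).map H.subtype with hT'₀
    have h1 : IsSylowOf p H T'₀ := isSylowOf_of_sylow T'
    have h2 : T'₀ ≤ H ⊓ Md := by
      rintro _ ⟨t, ht, rfl⟩
      have := hT' ht
      rw [Subgroup.mem_subgroupOf] at this
      exact this
    have h3 : IsSylowOf p (H ⊓ Md) T'₀ := h1.of_le h2 inf_le_left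
    have h4 : IsSylowOf p (H ⊓ Md) ((T : Subgroup ↥(H ⊓ Md)).map (H ⊓ Md).subtype) :=
      isSylowOf_of_sylow T
    obtain ⟨g, hg, hgT⟩ := h3.exists_conj h4
    have h5 := h1.map_conj g
    rw [map_conj_eq_self_of_mem_normalizer (Subgroup.le_normalizer hg.1), ← hgT] at h5
    obtain ⟨P', hP'⟩ := h5.exists_sylow
    exact ⟨P', hP'⟩
  · -- (2)
    have hOp : IsPGroup p (pCoreOf p H) := pCoreOf_isPGroup p H
    have hHO : H ≤ Subgroup.normalizer ((pCoreOf p H : Subgroup G) : Set G) :=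
      Cfsg.Agent.Lib.Lead.Subnormalizer.le_normalizer_pCoreOf p H
    have h1 : IsPGroup p ↥(P ⊔ pCoreOf p H : Subgroup G) :=
      IsPGroup.to_sup_of_normal_right' hPp hOp (hPH.trans hHO)
    have h2 : pCoreOf p H ≤ Subgroup.normalizer (P : Set G) :=
      le_sup_right.trans (hD.le_normalizer h1 le_sup_left)
    exact le_inf h2 (h2.trans (hD.normalizer_P_le.trans hD.hMd))
  · rw [hReq]; exact hFH.commutator_eq hD.hYP hPp hPY
  · rw [hReq]; exact hFH.pResSub_sup
  · rw [hReq, Cfsg.Agent.Lib.Lead.MSS.map_normalClosure_subgroupOf hYHle]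
    exact hFH.pResSub_sup_eq_ncl hD.hYP hPp hPY
  · rw [Cfsg.Agent.Lib.Lead.MSS.map_normalClosure_subgroupOf hPH]
    exact hFH.ncl_eq

end Cfsg.Agent.S2853
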