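import Cfsg.Statements.S2854
import Mathlib
import Cfsg.Agent.Lib.Lead.MSS9
import Cfsg.Agent.Lib.Lead.MSS11

set_option autoImplicit false
open Cfsg Cfsg.Agent.Lib.Helper6
open scoped commutatorElement Pointwise

namespace Cfsg.Agent.S2854

/-- Standing hypotheses: G a finite group, S a Sylow p-subgroup, Q a nontrivial large p-subgroup of G contained in S, M a subgroup containing S with the basic property (M ∈ 𝔐_G(S)); Y_M the largest p-reduced normal subgroup of M and M† = M·C_G(Y_M). Suppose Y_M is asymmetric in G, H ∈ ℌ_G(O_p(M)), and H ≤ N_G(gQg⁻¹) for some g ∈ G. Then gQg⁻¹ ≤ O_p(H·gQg⁻¹) ≤ N_G(O_p(M)) ≤ N_G(Y_M) = M†; H is normal in H·gQg⁻¹ with O^p(H) = O^p(H·gQg⁻¹); and H·gQg⁻¹ is p-irreducible. -/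
theorem result {G : Type*} [Group G] [Finite G] {p : ℕ} [Fact p.Prime] (S : Sylow p G) (Q : Subgroup G) (hQp : IsPGroup p ↥Q) (hQ1 : Q ≠ ⊥) (hQS : Q ≤ (S : Subgroup G)) (hQ : Cfsg.IsLarge Q) (M : Subgroup G) (hSM : (S : Subgroup G) ≤ M) (hM : Cfsg.IsInFrakM p M) (hasym : ¬ Cfsg.IsSymmetricIn (Cfsg.largestPReducedOf p M)) (H : Subgroup G) (hH : Cfsg.IsInFrakH p M H) (g : G) (hHQ : H ≤ Subgroup.normalizer ((((Q : Subgroup G).map (MulAut.conj (g : G)).toMonoidHom) : Subgroup G) : Set G)) : ((Q : Subgroup G).map (MulAut.conj (g : G)).toMonoidHom) ≤ Cfsg.pCoreOf p (H ⊔ ((Q : Subgroup G).map (MulAut.conj (g : G)).toMonoidHom)) ∧ Cfsg.pCoreOf p (H ⊔ ((Q : Subgroup G).map (MulAut.conj (g : G)).toMonoidHom)) ≤ Subgroup.normalizer (((Cfsg.pCoreOf p M) : Subgroup G) : Set G) ∧ Subgroup.normalizer (((Cfsg.pCoreOf p M) : Subgroup G) : Set G) ≤ Subgroup.normalizer (((Cfsg.largestPReducedOf p M) : Subgroup G) : Set G) ∧ Subgroup.normalizer (((Cfsg.largestPReducedOf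 p M) : Subgroup G) : Set G) = (M ⊔ Subgroup.centralizer (((Cfsg.largestPReducedOf p M) : Subgroup G) : Set G)) ∧ (H.subgroupOf (H ⊔ ((Q : Subgroup G).map (MulAut.conj (g : G)).toMonoidHom))).Normal ∧ (Cfsg.pResidual p ↥H).map H.subtype = (Cfsg.pResidual p ↥(H ⊔ ((Q : Subgroup G).map (MulAut.conj (g : G)).toMonoidHom))).map (H ⊔ ((Q : Subgroup G).map (MulAut.conj (g : G)).toMonoidHom)).subtype ∧ Cfsg.IsPIrreducible p ↥(H ⊔ ((Q : Subgroup G).map (MulAut.conj (g : G)).toMonoidHom)) := by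
  have hM' := hM
  obtain ⟨⟨hne, hC⟩, _, _, hYeq, hcl, _⟩ := hM
  have hchar : Subgroup.centralizer (pCore p ↥M : Set ↥M) ≤ pCore p ↥M := by
    intro x hx
    have h1 : (x : G) ∈ Subgroup.centralizer (((pCore p ↥M).map M.subtype : Subgroup G) : Set G) := by
      rw [Subgroup.mem_centralizer_iff]
      rintro _ ⟨y, hy, rfl⟩
      have := Subgroup.mem_centralizer_iff.mp hx y hy
      exact congrArg Subtype.val this
    obtain ⟨y, hy, hyx⟩ := hC h1
    have : y = x := Subtype.ext hyx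
    rwa [← this]
  have hD := Cfsg.Agent.Lib.Lead.MSS.asymData_of_frakM S Q hQp hQ1 hQS hQ M hSM hM' hasym
  set Y := largestPReducedOf p M with hY
  set C := Subgroup.centralizer (Y : Set G) with hCdef
  set Md := M ⊔ C with hMd
  set P := pCoreOf p M with hP
  set Q' := Q.map (MulAut.conj g).toMonoidHom with hQ'
  set H' := H ⊔ Q' with hH'
  obtain ⟨hHc, hPH, hYH, hmin⟩ := hH
  have hFH : Cfsg.Agent.Lib.Lead.MSS.FrakHData p Y P H := ⟨hPH, hYH, hmin⟩
  have hPp : IsPGroup p P := hD.syl.2.1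
  have hYp : IsPGroup p Y := hPp.to_le hD.hYP
  have hMNY : M ≤ Subgroup.normalizer (Y : Set G) := le_normalizer_largestPReducedOf M hchar
  have hPY : P ≤ Subgroup.normalizer (Y : Set G) := (pCoreOf_le M).trans hMNY
  have hYHle : Y ≤ H := hD.hYP.trans hPH
  have hQ'p : IsPGroup p Q' := hQp.map _
  have hHH' : H ≤ H' := le_sup_left
  have hQ'H' : Q' ≤ H' := le_sup_right
  have hH'Q' : H' ≤ Subgroup.normalizer (Q' : Set G) := sup_le hHQ Subgroup.le_normalizer
  set O' := pCoreOf p H' with hO'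
  have hO'p : IsPGroup p O' := pCoreOf_isPGroup p H'
  have hO'H' : O' ≤ H' := pCoreOf_le H'
  have hH'O' : H' ≤ Subgroup.normalizer (O' : Set G) :=
    Cfsg.Agent.Lib.Lead.Subnormalizer.le_normalizer_pCoreOf p H'
  have h1 : Q' ≤ O' := Cfsg.Agent.Lib.Lead.Subnormalizer.le_pCoreOf hQ'H' hQ'p hH'Q'
  have h2 : O' ≤ Subgroup.normalizer (P : Set G) := by
    have h : IsPGroup p ↥(P ⊔ O' : Subgroup G) :=
      IsPGroup.to_sup_of_normal_right' hPp hO'p ((hPH.trans hHH').trans hH'O')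
    exact le_sup_right.trans (hD.le_normalizer h le_sup_left)
  have h3 : Subgroup.normalizer (P : Set G) ≤ Subgroup.normalizer (Y : Set G) :=
    hD.normalizer_P_le.trans hD.hMd
  have h4 : Subgroup.normalizer (Y : Set G) = Md :=
    le_antisymm (hD.dag Y hD.hY1 hYp hMNY) hD.hMd
  have hsup : H ⊔ O' = H' := le_antisymm (sup_le hHH' hO'H') (sup_le le_sup_left (h1.trans le_sup_right))
  -- H = ncl H' P
  have hncl : Cfsg.Agent.Lib.Lead.MSS.ncl H' P = H := by
    apply le_antisymm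
    · unfold Cfsg.Agent.Lib.Lead.MSS.ncl
      rw [Subgroup.closure_le]
      rintro _ ⟨x, hx, y, hy, rfl⟩
      have hx' : x ∈ ((H ⊔ O' : Subgroup G) : Set G) := by rw [hsup]; exact hx
      rw [Subgroup.coe_mul_of_left_le_normalizer_right H O' (hHH'.trans hH'O')] at hx'
      obtain ⟨h, hh, o, ho, rfl⟩ := hx'
      have hoy : o * y * o⁻¹ ∈ P := (Subgroup.mem_normalizer_iff.mp (h2 ho) y).mp hy
      have e : h * o * y * (h * o)⁻¹ = h * (o * y * o⁻¹) * h⁻¹ := by group
      rw [e]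
      exact Subgroup.mul_mem _ (Subgroup.mul_mem _ hh (hPH hoy)) (Subgroup.inv_mem _ hh)
    · have hmono : Cfsg.Agent.Lib.Lead.MSS.ncl H P ≤ Cfsg.Agent.Lib.Lead.MSS.ncl H' P := by
        unfold Cfsg.Agent.Lib.Lead.MSS.ncl
        apply Subgroup.closure_mono
        rintro _ ⟨b, hb, y, hy, rfl⟩
        exact ⟨b, hHH' hb, y, hy, rfl⟩
      exact hFH.ncl_eq.symm.le.trans hmono
  have hH'H : H' ≤ Subgroup.normalizer (H : Set G) := by
    have := Cfsg.Agent.Lib.Lead.MSS.le_normalizer_ncl H' P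
    rwa [hncl] at this
  have h5 : (H.subgroupOf H').Normal :=
    (Subgroup.normal_subgroupOf_iff_le_normalizer hHH').mpr hH'H
  -- residuals
  have hres : pResSub p H = pResSub p H' := by
    apply le_antisymm (pResSub_mono p hHH')
    have hle : pResSub p H' ≤ H := by
      rw [pResSub_le_iff]
      intro x hx hc
      have hx' : x ∈ ((H ⊔ Q' : Subgroup G) : Set G) := hx
      rw [Subgroup.coe_mul_of_right_le_normalizer_left H Q' (hQ'H'.trans hH'H)] at hx'
      obtain ⟨b, hb, y, hy, rfl⟩ := hx'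
      apply mem_of_coprime_of_mem_mul hb (hH'H (hQ'H' hy)) _ hc
      obtain ⟨k, hk⟩ := hQ'p ⟨y, hy⟩
      refine ⟨k, ?_⟩
      have := congrArg Subtype.val hk
      simpa using this
    have := pResSub_mono p hle
    rwa [pResSub_pResSub] at this
  have h6 : (pResidual p ↥H).map H.subtype = (pResidual p ↥H').map H'.subtype := by
    rw [pResSub_eq, pResSub_eq]; exact hres
  refine ⟨h1, h2, h3, h4, h5, h6, ?_, ?_⟩
  · -- not p-closed
    intro hcl
    have hA : Cfsg.Agent.Lib.Lead.MSS.PClA p H' := (Cfsg.Agent.Lib.Lead.MSS.pclA_iff H').mpr hcl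
    exact hYH ((hA.of_le hHH') Y hYp hYHle)
  · intro N hNn hNcl
    set N₁ := N.map H'.subtype with hN₁
    have hN₁H' : N₁ ≤ H' := by rintro _ ⟨y, _, rfl⟩; exact y.2
    have hH'N₁ : H' ≤ Subgroup.normalizer (N₁ : Set G) := by
      rw [← Subgroup.normal_subgroupOf_iff_le_normalizer hN₁H']
      have : N₁.subgroupOf H' = N :=
        Subgroup.comap_map_eq_self_of_injective H'.subtype_injective _
      rw [this]; exact hNn
    have hN₁cl : ¬ Cfsg.Agent.Lib.Lead.MSS.PClA p N₁ := by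
      intro hA
      apply hNcl
      have h := (Cfsg.Agent.Lib.Lead.MSS.pclA_iff N₁).mp hA
      exact isPClosed_of_surjective
        (N.equivMapOfInjective H'.subtype H'.subtype_injective).symm.toMonoidHom
        (N.equivMapOfInjective H'.subtype H'.subtype_injective).symm.surjective h
    have h7 : pResSub p H ≤ N₁ :=
      Cfsg.Agent.Lib.Lead.MSS.pIrr_sup hHH' hO'H' hsup hO'p hH'O' hH'H
        (fun N hN1 hN2 hN3 => hFH.pIrr hD.hYP hPp hN1 hN2 hN3) hN₁H' hH'N₁ hN₁cl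
    intro x hx
    have h8 : (x : G) ∈ pResSub p H' := by
      rw [← pResSub_eq]; exact ⟨x, hx, rfl⟩
    rw [← hres] at h8
    obtain ⟨n, hn, hnx⟩ := h7 h8
    have : n = x := Subtype.ext hnx
    rwa [← this]

end Cfsg.Agent.S2854
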