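import Mathlib
import Cfsg.Agent.S2859
import Cfsg.Agent.Lib.Helper6.Large
import Cfsg.Agent.Lib.Helper6.FStarAct
import Cfsg.Agent.Lib.Helper6.PPrimeCore
import Cfsg.Agent.Lib.Helper3.Components1
import Cfsg.Agent.Lib.Helper3.Components2
import Cfsg.Agent.Lib.Helper6.SylowJoin
import Cfsg.Statements.S2860

set_option autoImplicit false
open Cfsg

namespace Cfsg.Agent.S2860

open Cfsg.Agent.Lib.Helper6 Cfsg.Agent.Lib.Helper7 Cfsg.Agent.Lib.Helper3
open scoped commutatorElement

section helpers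

/-- in a group `X` with `O_p(X) = 1` and a quasisimple normal subgroup `K` of `p`-power index,
every nontrivial `p`-subgroup `Y` satisfies `[K, Y] = K` -/
theorem commutator_eq_of_quasisimple_normal {X : Type*} [Group X] [Finite X] {p : ℕ} [Fact p.Prime]
    (K : Subgroup X) [hKn : K.Normal] (hK : Cfsg.IsQuasisimple ↥K) (hXK : IsPGroup p (X ⧸ K))
    (hO : Cfsg.pCore p X = ⊥) (Y : Subgroup X) (hY : IsPGroup p Y) (hY1 : Y ≠ ⊥) : ⁅K, Y⁆ = K := by
  have hle : ⁅K, Y⁆ ≤ K := Subgroup.commutator_le_left K Y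
  apply le_antisymm hle
  have hKN : K ≤ Subgroup.normalizer ((⁅K, Y⁆ : Subgroup X) : Set X) :=
    le_normalizer_commutator_left K Y
  haveI : ((⁅K, Y⁆).subgroupOf K).Normal :=
    (Subgroup.normal_subgroupOf_iff_le_normalizer hle).mpr hKN
  rcases IsQuasisimple.normal_eq_top_or_le_center hK ((⁅K, Y⁆).subgroupOf K) with h | h
  · intro k hk
    have : (⟨k, hk⟩ : K) ∈ (⁅K, Y⁆).subgroupOf K := by rw [h]; trivial
    exact Subgroup.mem_subgroupOf.mp this
  · exfalso
    have h1 : ⁅⁅K, Y⁆, K⁆ = ⊥ := by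
      rw [Subgroup.commutator_eq_bot_iff_le_centralizer]
      intro n hn
      rw [Subgroup.mem_centralizer_iff]
      intro k hk
      have := Subgroup.mem_center_iff.mp (h (show (⟨n, hle hn⟩ : K) ∈ _ from
        Subgroup.mem_subgroupOf.mpr hn)) ⟨k, hk⟩
      exact congrArg Subtype.val this
    have h2 : ⁅⁅Y, K⁆, K⁆ = ⊥ := by rw [Subgroup.commutator_comm Y K]; exact h1
    have h3 : ⁅⁅K, K⁆, Y⁆ = ⊥ := Subgroup.commutator_commutator_eq_bot_of_rotate h1 h2
    rw [IsQuasisimple.commutator_eq_self hK] at h3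
    have hYC : Y ≤ Subgroup.centralizer (K : Set X) := by
      rw [Subgroup.commutator_comm, Subgroup.commutator_eq_bot_iff_le_centralizer] at h3
      exact h3
    set C := Subgroup.centralizer (K : Set X) with hC
    haveI hCn : C.Normal := Subgroup.normal_centralizer
    haveI : Group.IsNilpotent (X ⧸ K) := hXK.isNilpotent
    haveI : Group.IsNilpotent C := by
      apply Subgroup.isNilpotent_of_ker_le_center ((QuotientGroup.mk' K).comp C.subtype)
      intro c hc
      rw [MonoidHom.mem_ker, MonoidHom.comp_apply, QuotientGroup.mk'_apply,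
        QuotientGroup.eq_one_iff] at hc
      rw [Subgroup.mem_center_iff]
      intro d
      apply Subtype.ext
      have := Subgroup.mem_centralizer_iff.mp d.2 (c : X) hc
      simpa using this.symm
    have hcop := coprime_card_of_nilpotent_normal_of_pCore_eq_bot hO C
    have := isPGroup_inf_coprime_eq_bot hcop hY
    rw [inf_of_le_left hYC] at this
    exact hY1 this

/-- a perfect central extension of a quasisimple group is quasisimple -/
theorem isQuasisimple_of_central_extension {X Y : Type*} [Group X] [Group Y]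
    (hX : commutator X = ⊤) (f : X →* Y) (hf : Function.Surjective f)
    (hker : f.ker ≤ Subgroup.center X) (hY : Cfsg.IsQuasisimple Y) : Cfsg.IsQuasisimple X := by
  refine ⟨⟨hX⟩, ?_⟩
  have hcenter : Subgroup.center X = (Subgroup.center Y).comap f := by
    apply le_antisymm
    · intro z hz
      rw [Subgroup.mem_comap, Subgroup.mem_center_iff]
      intro y
      obtain ⟨x, rfl⟩ := hf y
      rw [← map_mul, ← map_mul, Subgroup.mem_center_iff.mp hz x]
    · intro w hw
      rw [Subgroup.mem_comap, Subgroup.mem_center_iff] at hw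
      -- `x ↦ [w, x]` is a homomorphism into the centre
      have hc : ∀ x : X, w * x * w⁻¹ * x⁻¹ ∈ Subgroup.center X := by
        intro x
        apply hker
        rw [MonoidHom.mem_ker, map_mul, map_mul, map_mul, map_inv, map_inv, ← hw (f x)]
        group
      have hcomm : commutator X ≤ Subgroup.centralizer ({w} : Set X) := by
        rw [commutator_eq_closure, Subgroup.closure_le]
        rintro _ ⟨x, y, rfl⟩
        rw [SetLike.mem_coe, Subgroup.mem_centralizer_iff]
        intro v hv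
        rw [Set.mem_singleton_iff] at hv
        subst hv
        have hx : ∀ t : X, (v * x * v⁻¹ * x⁻¹) * t = t * (v * x * v⁻¹ * x⁻¹) := fun t =>
          (Subgroup.mem_center_iff.mp (hc x) t).symm
        have hy : ∀ t : X, (v * y * v⁻¹ * y⁻¹) * t = t * (v * y * v⁻¹ * y⁻¹) := fun t =>
          (Subgroup.mem_center_iff.mp (hc y) t).symm
        have e1 : v * ⁅x, y⁆ * v⁻¹ = ⁅(v * x * v⁻¹ * x⁻¹) * x, (v * y * v⁻¹ * y⁻¹) * y⁆ := by
          simp only [commutatorElement_def]; group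
        rw [commutatorElement_central_mul_left hx, commutatorElement_central_mul_right hy] at e1
        calc v * ⁅x, y⁆ = (v * ⁅x, y⁆ * v⁻¹) * v := by group
          _ = ⁅x, y⁆ * v := by rw [e1]
      rw [hX] at hcomm
      rw [Subgroup.mem_center_iff]
      intro x
      have := Subgroup.mem_centralizer_iff.mp (hcomm (Subgroup.mem_top x)) w (Set.mem_singleton w)
      exact this.symm
  haveI := hY.2
  set g : X →* Y ⧸ Subgroup.center Y := (QuotientGroup.mk' (Subgroup.center Y)).comp f with hg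
  have hgs : Function.Surjective g := (QuotientGroup.mk'_surjective _).comp hf
  have hgk : g.ker = Subgroup.center X := by
    rw [hcenter, hg, ← MonoidHom.comap_ker, QuotientGroup.ker_mk']
  have e1 : X ⧸ g.ker ≃* Y ⧸ Subgroup.center Y := QuotientGroup.quotientKerEquivOfSurjective g hgs
  have e2 : X ⧸ Subgroup.center X ≃* X ⧸ g.ker := QuotientGroup.quotientMulEquivOfEq hgk.symm
  exact (e2.trans e1).isSimpleGroup


section im
variable {G : Type*} [Group G] (E C : Subgroup G) [hn : (C.subgroupOf E).Normal]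

/-- image of a subgroup of `G` in `E / C_E` -/
def im (A : Subgroup G) : Subgroup (↥E ⧸ C.subgroupOf E) :=
  (A.subgroupOf E).map (QuotientGroup.mk' (C.subgroupOf E))

theorem im_mono {A B : Subgroup G} (h : A ≤ B) : im E C A ≤ im E C B :=
  Subgroup.map_mono (Subgroup.comap_mono h)

theorem im_sup {A B : Subgroup G} (hA : A ≤ E) (hB : B ≤ E) :
    im E C (A ⊔ B) = im E C A ⊔ im E C B := by
  unfold im
  rw [Subgroup.subgroupOf_sup hA hB, Subgroup.map_sup]

theorem im_commutator {A B : Subgroup G} (hA : A ≤ E) (hB : B ≤ E) :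
    im E C ⁅A, B⁆ = ⁅im E C A, im E C B⁆ := by
  unfold im
  rw [← Cfsg.Agent.S2859.commutator_subgroupOf hA hB, Subgroup.map_commutator]

theorem im_le_im_iff {A B : Subgroup G} (hA : A ≤ E) :
    im E C A ≤ im E C B ↔ A ≤ (B ⊓ E) ⊔ (E ⊓ C) := by
  unfold im
  rw [Subgroup.map_le_map_iff, QuotientGroup.ker_mk']
  have e : B.subgroupOf E ⊔ C.subgroupOf E = ((B ⊓ E) ⊔ (E ⊓ C)).subgroupOf E := by
    rw [Subgroup.subgroupOf_sup inf_le_right inf_le_left]
    congr 1
    · ext x; simp [Subgroup.mem_subgroupOf]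
    · ext x; simp [Subgroup.mem_subgroupOf]
  rw [e]
  constructor
  · intro h a ha
    exact Subgroup.mem_subgroupOf.mp (h (show (⟨a, hA ha⟩ : E) ∈ A.subgroupOf E from
      Subgroup.mem_subgroupOf.mpr ha))
  · intro h x hx
    exact Subgroup.mem_subgroupOf.mpr (h (Subgroup.mem_subgroupOf.mp hx))

theorem im_eq_bot_iff {A : Subgroup G} (hA : A ≤ E) : im E C A = ⊥ ↔ A ≤ C := by
  unfold im
  rw [Subgroup.map_eq_bot_iff, QuotientGroup.ker_mk']
  constructor
  · intro h a ha
    exact Subgroup.mem_subgroupOf.mp (h (show (⟨a, hA ha⟩ : E) ∈ A.subgroupOf E from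
      Subgroup.mem_subgroupOf.mpr ha))
  · intro h x hx
    exact Subgroup.mem_subgroupOf.mpr (h (Subgroup.mem_subgroupOf.mp hx))

theorem im_normal {A : Subgroup G} (hA : A ≤ E) (hEA : E ≤ Subgroup.normalizer (A : Set G)) :
    (im E C A).Normal := by
  haveI : (A.subgroupOf E).Normal := (Subgroup.normal_subgroupOf_iff_le_normalizer hA).mpr hEA
  exact Subgroup.Normal.map inferInstance _ (QuotientGroup.mk'_surjective _)

theorem im_isPGroup {p : ℕ} {A : Subgroup G} (hA : IsPGroup p A) : IsPGroup p (im E C A) :=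
  (hA.comap_subtype).map _

end im


section main
variable {G : Type*} [Group G] [Finite G] {p : ℕ} [hp : Fact p.Prime]

theorem main1 (Q : Subgroup G) (hQp : IsPGroup p ↥Q) (hQ1 : Q ≠ ⊥) (hQ : Cfsg.IsLarge Q)
    (U : Subgroup G) (hUp : IsPGroup p U) (hU1 : U ≠ ⊥) (E : Subgroup G) (hQE : Q ≤ E)
    (hEU : E ≤ Subgroup.normalizer ((U : Subgroup G) : Set G))
    (hQn : ¬ E ≤ Subgroup.normalizer ((Q : Subgroup G) : Set G))
    [hn : ((Subgroup.centralizer ((U : Subgroup G) : Set G)).subgroupOf E).Normal]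
    (hred : Cfsg.pCore p (↥E ⧸ (Subgroup.centralizer ((U : Subgroup G) : Set G)).subgroupOf E) = ⊥)
    (hqs : Cfsg.IsQuasisimple ↥(((Cfsg.pResidual p ↥E) ⊔
      (Subgroup.centralizer ((U : Subgroup G) : Set G)).subgroupOf E).map
        (QuotientGroup.mk' ((Subgroup.centralizer ((U : Subgroup G) : Set G)).subgroupOf E)))) :
    ((Cfsg.pResidual p ↥E) ⊔ (Subgroup.centralizer ((U : Subgroup G) : Set G)).subgroupOf E).map
        (QuotientGroup.mk' ((Subgroup.centralizer ((U : Subgroup G) : Set G)).subgroupOf E)) =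
      im E (Subgroup.centralizer ((U : Subgroup G) : Set G)) (pResSub p (Cfsg.weakClosure Q E)) ∧
    (∀ Y : Subgroup G, Y ≤ E → IsPGroup p Y → ¬ Y ≤ Subgroup.centralizer ((U : Subgroup G) : Set G) →
      ⁅im E (Subgroup.centralizer ((U : Subgroup G) : Set G)) (pResSub p (Cfsg.weakClosure Q E)),
        im E (Subgroup.centralizer ((U : Subgroup G) : Set G)) Y⁆ =
      im E (Subgroup.centralizer ((U : Subgroup G) : Set G)) (pResSub p (Cfsg.weakClosure Q E))) ∧
    pResSub p E ⊔ (E ⊓ Subgroup.centralizer ((U : Subgroup G) : Set G)) =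
      pResSub p (Cfsg.weakClosure Q E) ⊔ (E ⊓ Subgroup.centralizer ((U : Subgroup G) : Set G)) := by
  set C := Subgroup.centralizer ((U : Subgroup G) : Set G) with hC
  set Ec := Cfsg.weakClosure Q E with hEc
  set Er := pResSub p Ec with hEr
  set R' := pCoreOf p Ec with hR'
  set KK := ((Cfsg.pResidual p ↥E) ⊔ C.subgroupOf E).map (QuotientGroup.mk' (C.subgroupOf E)) with hKK
  have hwc := isWeaklyClosedSubgroup_of_isLarge hQp hQ1 hQ
  obtain ⟨-, hcomm, -⟩ := Cfsg.Agent.S2843.main Q hQp hQ1 hQ E hQE U hUp hU1 hEU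
  have hEcE : Ec ≤ E := Cfsg.Agent.S2843.weakClosure_le_self _ _
  have hQEc : Q ≤ Ec := Cfsg.Agent.S2859.le_wc hQE
  have hE_Ec : E ≤ Subgroup.normalizer (Ec : Set G) := Cfsg.Agent.S2859.le_normalizer_wc
  have hE_Er : E ≤ Subgroup.normalizer (Er : Set G) :=
    hE_Ec.trans (Cfsg.Agent.S2859.normalizer_le_normalizer_pResSub p Ec)
  have hE_R' : E ≤ Subgroup.normalizer (R' : Set G) :=
    hE_Ec.trans (Cfsg.Agent.S2859.normalizer_le_normalizer_pCoreOf p Ec)
  have hR'p : IsPGroup p R' := pCoreOf_isPGroup p Ec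
  have hR'Ec : R' ≤ Ec := pCoreOf_le Ec
  have hErEc : Er ≤ Ec := pResSub_le p Ec
  have hErE : Er ≤ E := hErEc.trans hEcE
  have hE_C : E ≤ Subgroup.normalizer (C : Set G) := hEU.trans (normalizer_le_normalizer_centralizer U)
  -- `KK` is the image of `O^p(E)`
  have hKK' : KK = im E C (pResSub p E) := by
    rw [hKK, Subgroup.map_sup]
    have h1 : (C.subgroupOf E).map (QuotientGroup.mk' (C.subgroupOf E)) = ⊥ := by
      rw [Subgroup.map_eq_bot_iff, QuotientGroup.ker_mk']
    rw [h1, sup_bot_eq]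
    unfold im
    rw [← pResSub_eq]
    congr 1
    exact (Subgroup.comap_map_eq_self_of_injective E.subtype_injective _).symm
  haveI hKKn : KK.Normal := by
    rw [hKK]
    exact Subgroup.Normal.map inferInstance _ (QuotientGroup.mk'_surjective _)
  have hXK : IsPGroup p ((↥E ⧸ C.subgroupOf E) ⧸ KK) := by
    rw [← pResidual_le_iff]
    rw [← pResidual_map_of_surjective (QuotientGroup.mk' (C.subgroupOf E)) (QuotientGroup.mk'_surjective _)]
    rw [hKK]
    exact Subgroup.map_mono le_sup_left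
  have B := fun Y hY hY1 => commutator_eq_of_quasisimple_normal KK hqs hXK hred Y hY hY1
  -- `Q` does not centralize `U`
  have hQC : ¬ Q ≤ C := by
    intro hQC
    have hEcC : Ec ≤ C := by
      rw [hEc, Cfsg.Agent.S2859.wc_eq_iSup hQp hQ1 hwc hQE]
      exact Cfsg.Agent.S2859.iSup_cj_le hQC hE_C
    have h1 : ⁅Ec, Q⁆ ≤ R' := (Subgroup.commutator_mono le_rfl hQC).trans hcomm
    have h2 : Ec ≤ Subgroup.normalizer ((R' ⊔ Q : Subgroup G) : Set G) := by
      intro e he
      rw [mem_normalizer_iff_cj]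
      apply cj_eq_of_le
      rw [cj_sup, mem_normalizer_iff_cj.mp (hE_R' (hEcE he))]
      apply sup_le le_sup_left
      rintro _ ⟨q, hq, rfl⟩
      have e1 : (MulAut.conj e).toMonoidHom q = ⁅e, q⁆ * q := by
        simp only [MulEquiv.toMonoidHom_eq_coe, MonoidHom.coe_coe, MulAut.conj_apply,
          commutatorElement_def]
        group
      rw [e1]
      exact Subgroup.mul_mem_sup (h1 (Subgroup.commutator_mem_commutator he hq)) hq
    have h3 : Ec ≤ R' ⊔ Q := by
      have := Cfsg.Agent.S2859.wc_le_of_le_normalizer hQp hQ1 hwc hQEc (le_sup_right : Q ≤ R' ⊔ Q) h2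
      rwa [Cfsg.Agent.S2859.wc_idem] at this
    have hP₀ : IsPGroup p (R' ⊔ Q : Subgroup G) :=
      IsPGroup.to_sup_of_normal_left' hR'p hQp (hQE.trans hE_R')
    apply hQn
    intro e he
    apply mem_normalizer_of_map_conj_eq_self
    apply IsWeaklyClosedSubgroup_unique hwc hP₀ le_sup_right
    refine le_trans ?_ h3
    exact Cfsg.Agent.S2843.le_weakClosure (cj_le_of_mem he hQE)
  -- (1)
  have himQ : im E C Q ≠ ⊥ := fun h => hQC ((im_eq_bot_iff E C hQE).mp h)
  haveI hEcn : (im E C Ec).Normal := im_normal E C hEcE hE_Ec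
  have h1 : KK ≤ im E C Ec := by
    rw [← B (im E C Q) (im_isPGroup E C hQp) himQ]
    exact (Subgroup.commutator_mono le_rfl (im_mono E C hQEc)).trans
      (Subgroup.commutator_le_right KK (im E C Ec))
  have hresE : pResSub p E ≤ E := pResSub_le p E
  have h2 : pResSub p E ≤ Ec ⊔ (E ⊓ C) := by
    rw [hKK', im_le_im_iff E C hresE, inf_of_le_left hEcE] at h1
    exact h1
  have hQN : Q ≤ Subgroup.normalizer ((Er ⊔ (E ⊓ C) : Subgroup G) : Set G) :=
    (le_inf (hQE.trans hE_Er) ((le_inf (hQE.trans Subgroup.le_normalizer) (hQE.trans hE_C)).trans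
      (normalizer_inf_le' E C))).trans
      (Cfsg.Agent.S2905.normalizer_inf_le_normalizer_sup'' Er (E ⊓ C))
  have h3 : pResSub p E ≤ Er ⊔ (E ⊓ C) := by
    rw [← pResSub_pResSub p E]
    apply Cfsg.Agent.S2859.pResSub_le_of_le_sup hQp hQN
    refine h2.trans (sup_le ?_ (le_sup_right.trans le_sup_left))
    refine (Cfsg.Agent.S2859.wc_le_res_sup hQp hQ1 hwc hQE).trans ?_
    exact sup_le (le_sup_left.trans le_sup_left) le_sup_right
  have hone : pResSub p E ⊔ (E ⊓ C) = Er ⊔ (E ⊓ C) :=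
    le_antisymm (sup_le h3 le_sup_right) (sup_le_sup_right (pResSub_mono p hEcE) _)
  have himC : im E C (E ⊓ C) = ⊥ := (im_eq_bot_iff E C inf_le_left).mpr inf_le_right
  have hKKEr : KK = im E C Er := by
    have := congrArg (im E C) hone
    rw [im_sup E C hresE inf_le_left, im_sup E C hErE inf_le_left, himC, sup_bot_eq, sup_bot_eq] at this
    rw [hKK', this]
  refine ⟨hKKEr, ?_, hone⟩
  intro Y hYE hYp hYC
  rw [← hKKEr]
  exact B (im E C Y) (im_isPGroup E C hYp) (fun h => hYC ((im_eq_bot_iff E C hYE).mp h))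


theorem main2 (Q : Subgroup G) (hQp : IsPGroup p ↥Q) (hQ1 : Q ≠ ⊥) (hQ : Cfsg.IsLarge Q)
    (U : Subgroup G) (hUp : IsPGroup p U) (hU1 : U ≠ ⊥) (E : Subgroup G) (hQE : Q ≤ E)
    (hEU : E ≤ Subgroup.normalizer ((U : Subgroup G) : Set G))
    (hQn : ¬ E ≤ Subgroup.normalizer ((Q : Subgroup G) : Set G))
    [hn : ((Subgroup.centralizer ((U : Subgroup G) : Set G)).subgroupOf E).Normal]
    (hred : Cfsg.pCore p (↥E ⧸ (Subgroup.centralizer ((U : Subgroup G) : Set G)).subgroupOf E) = ⊥)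
    (hqs : Cfsg.IsQuasisimple ↥(((Cfsg.pResidual p ↥E) ⊔
      (Subgroup.centralizer ((U : Subgroup G) : Set G)).subgroupOf E).map
        (QuotientGroup.mk' ((Subgroup.centralizer ((U : Subgroup G) : Set G)).subgroupOf E)))) :
    ⁅pResSub p (Cfsg.weakClosure Q E), pResSub p (Cfsg.weakClosure Q E)⁆ =
      pResSub p (Cfsg.weakClosure Q E) ∧
    (∀ Y : Subgroup G, Y ≤ E → IsPGroup p Y → ¬ Y ≤ Subgroup.centralizer ((U : Subgroup G) : Set G) →
      ⁅pResSub p (Cfsg.weakClosure Q E), Y⁆ = pResSub p (Cfsg.weakClosure Q E)) ∧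
    pCoreOf p (pResSub p (Cfsg.weakClosure Q E)) ≤ Subgroup.centralizer ((U : Subgroup G) : Set G) ∧
    ⁅Subgroup.centralizer ((U : Subgroup G) : Set G) ⊓ pResSub p (Cfsg.weakClosure Q E),
      pResSub p (Cfsg.weakClosure Q E)⁆ ≤ pCoreOf p (pResSub p (Cfsg.weakClosure Q E)) := by
  obtain ⟨hKKEr, hB, hone⟩ := main1 Q hQp hQ1 hQ U hUp hU1 E hQE hEU hQn hred hqs
  set C := Subgroup.centralizer ((U : Subgroup G) : Set G) with hC
  set Ec := Cfsg.weakClosure Q E with hEc
  set Er := pResSub p Ec with hEr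
  set R' := pCoreOf p Ec with hR'
  set KK := ((Cfsg.pResidual p ↥E) ⊔ C.subgroupOf E).map (QuotientGroup.mk' (C.subgroupOf E)) with hKK
  have hwc := isWeaklyClosedSubgroup_of_isLarge hQp hQ1 hQ
  obtain ⟨-, hcomm, -⟩ := Cfsg.Agent.S2843.main Q hQp hQ1 hQ E hQE U hUp hU1 hEU
  have hEcE : Ec ≤ E := Cfsg.Agent.S2843.weakClosure_le_self _ _
  have hQEc : Q ≤ Ec := Cfsg.Agent.S2859.le_wc hQE
  have hE_Ec : E ≤ Subgroup.normalizer (Ec : Set G) := Cfsg.Agent.S2859.le_normalizer_wc
  have hE_Er : E ≤ Subgroup.normalizer (Er : Set G) :=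
    hE_Ec.trans (Cfsg.Agent.S2859.normalizer_le_normalizer_pResSub p Ec)
  have hE_R' : E ≤ Subgroup.normalizer (R' : Set G) :=
    hE_Ec.trans (Cfsg.Agent.S2859.normalizer_le_normalizer_pCoreOf p Ec)
  have hR'p : IsPGroup p R' := pCoreOf_isPGroup p Ec
  have hR'Ec : R' ≤ Ec := pCoreOf_le Ec
  have hErEc : Er ≤ Ec := pResSub_le p Ec
  have hErE : Er ≤ E := hErEc.trans hEcE
  have hE_C : E ≤ Subgroup.normalizer (C : Set G) := hEU.trans (normalizer_le_normalizer_centralizer U)
  have hE_EC : E ≤ Subgroup.normalizer ((E ⊓ C : Subgroup G) : Set G) :=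
    (le_inf Subgroup.le_normalizer hE_C).trans (normalizer_inf_le' E C)
  have hErres : pResSub p Er = Er := pResSub_pResSub p Ec
  have hcomm' : ⁅C, Ec⁆ ≤ R' := by rw [Subgroup.commutator_comm]; exact hcomm
  -- modular law
  have hmod : ∀ N : Subgroup G, N ≤ Er → Er ≤ N ⊔ (E ⊓ C) → Er ≤ N ⊔ (C ⊓ Er) := by
    intro N hN h x hx
    have hx' : x ∈ (E ⊓ C) ⊔ N := by rw [sup_comm]; exact h hx
    obtain ⟨a, ha, b, hb, rfl⟩ := Cfsg.Agent.S2859.exists_mul_of_mem_sup''
      ((hN.trans hErE).trans hE_EC) hx'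
    have haEr : a ∈ Er := by
      have := Er.mul_mem hx (Er.inv_mem (hN hb))
      simpa using this
    have : a * b = b * (b⁻¹ * a * b) := by group
    rw [this]
    refine Subgroup.mul_mem_sup hb (Subgroup.mem_inf.mpr ⟨?_, ?_⟩)
    · have hbN : b⁻¹ ∈ Subgroup.normalizer (C : Set G) := hE_C (E.inv_mem (hErE (hN hb)))
      have := (Subgroup.mem_normalizer_iff.mp hbN a).mp ha.2
      simpa using this
    · exact Er.mul_mem (Er.mul_mem (Er.inv_mem (hN hb)) haEr) (hN hb)
  -- (2)
  have hqsc : ⁅KK, KK⁆ = KK := IsQuasisimple.commutator_eq_self hqs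
  have hErcomm : ⁅Er, Er⁆ ≤ Er := Subgroup.commutator_le_self Er
  have h2a : Er ≤ ⁅Er, Er⁆ ⊔ (C ⊓ Er) := by
    apply hmod _ hErcomm
    have h1 : im E C Er ≤ im E C ⁅Er, Er⁆ := by
      rw [im_commutator E C hErE hErE, ← hKKEr, hqsc]
    rw [im_le_im_iff E C hErE, inf_of_le_left (hErcomm.trans hErE)] at h1
    exact h1
  have hE_Er' : E ≤ Subgroup.normalizer ((⁅Er, Er⁆ : Subgroup G) : Set G) :=
    (le_inf hE_Er hE_Er).trans (Cfsg.Agent.Lib.Lead.normalizer_inf_le_normalizer_commutator Er Er)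
  have hperf : ⁅Er, Er⁆ = Er := by
    apply le_antisymm hErcomm
    have hres := Cfsg.Agent.S2859.res_eq_commutator hQp hQ1 hwc hQE
    have h3 : Er ≤ ⁅Er, Er⁆ ⊔ R' := by
      calc Er = ⁅Er, Q⁆ := hres.symm
        _ ≤ ⁅⁅Er, Er⁆ ⊔ (C ⊓ Er), Q⁆ := Subgroup.commutator_mono h2a le_rfl
        _ ≤ _ := by
          rw [Subgroup.commutator_le]
          intro y hy q hq
          obtain ⟨c, hc, z, hz, rfl⟩ := Cfsg.Agent.S2859.exists_mul_of_mem_sup''
            ((inf_le_right.trans hErE).trans hE_Er') hy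
          have e : ⁅c * z, q⁆ = (c * ⁅z, q⁆ * c⁻¹) * ⁅c, q⁆ := by
            simp only [commutatorElement_def]; group
          rw [e, sup_comm]
          refine Subgroup.mul_mem_sup ?_ ?_
          · exact (Subgroup.mem_normalizer_iff.mp (hE_R' (hErE (hErcomm hc))) _).mp
              (hcomm' (Subgroup.commutator_mem_commutator hz.1 (hQEc hq)))
          · exact Subgroup.le_normalizer_iff_commutator_le_left.mp (hQE.trans hE_Er')
              (Subgroup.commutator_mem_commutator hc hq)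
    have := Cfsg.Agent.S2859.pResSub_le_of_le_sup hR'p ((hR'Ec.trans hEcE).trans hE_Er') h3
    rwa [hErres] at this
  -- the central part
  have hcentral : ⁅C ⊓ Er, Er⁆ ≤ R' ⊓ Er :=
    le_inf ((Subgroup.commutator_mono inf_le_left hErEc).trans hcomm')
      ((Subgroup.commutator_mono inf_le_right le_rfl).trans hErcomm)
  have hR'Erp : IsPGroup p (R' ⊓ Er : Subgroup G) := hR'p.to_le inf_le_left
  have hE_R'Er : E ≤ Subgroup.normalizer ((R' ⊓ Er : Subgroup G) : Set G) :=
    (le_inf hE_R' hE_Er).trans (normalizer_inf_le' R' Er)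
  refine ⟨hperf, ?_, ?_, ?_⟩
  · -- (6)
    intro Y hYE hYp hYC
    have hN : ⁅Er, Y⁆ ≤ Er := Subgroup.le_normalizer_iff_commutator_le_left.mp (hYE.trans hE_Er)
    apply le_antisymm hN
    have hErN : Er ≤ Subgroup.normalizer ((⁅Er, Y⁆ : Subgroup G) : Set G) :=
      le_normalizer_commutator_left Er Y
    have h1 : Er ≤ ⁅Er, Y⁆ ⊔ (C ⊓ Er) := by
      apply hmod _ hN
      have h1 : im E C Er ≤ im E C ⁅Er, Y⁆ := by
        rw [im_commutator E C hErE hYE, hB Y hYE hYp hYC]
      rw [im_le_im_iff E C hErE, inf_of_le_left (hN.trans hErE)] at h1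
      exact h1
    have h3 : Er ≤ ⁅Er, Y⁆ ⊔ (R' ⊓ Er) := by
      calc Er = ⁅Er, Er⁆ := hperf.symm
        _ ≤ ⁅⁅Er, Y⁆ ⊔ (C ⊓ Er), Er⁆ := Subgroup.commutator_mono h1 le_rfl
        _ ≤ _ := by
          rw [Subgroup.commutator_le]
          intro y hy e he
          obtain ⟨n, hn', z, hz, rfl⟩ := Cfsg.Agent.S2859.exists_mul_of_mem_sup''
            (inf_le_right.trans hErN) hy
          have e' : ⁅n * z, e⁆ = (n * ⁅z, e⁆ * n⁻¹) * ⁅n, e⁆ := by
            simp only [commutatorElement_def]; group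
          rw [e', sup_comm]
          refine Subgroup.mul_mem_sup ?_ ?_
          · exact (Subgroup.mem_normalizer_iff.mp (hE_R'Er (hErE (hN hn'))) _).mp
              (hcentral (Subgroup.commutator_mem_commutator hz he))
          · exact Subgroup.le_normalizer_iff_commutator_le_left.mp hErN
              (Subgroup.commutator_mem_commutator hn' he)
    have := Cfsg.Agent.S2859.pResSub_le_of_le_sup hR'Erp (inf_le_right.trans hErN) h3
    rwa [hErres] at this
  · -- `O_p(Er) ≤ C`
    have hR₁E : pCoreOf p Er ≤ E := (pCoreOf_le Er).trans hErE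
    rw [← im_eq_bot_iff E C hR₁E, ← le_bot_iff, ← hred]
    haveI := im_normal E C hR₁E (hE_Er.trans (Cfsg.Agent.S2859.normalizer_le_normalizer_pCoreOf p Er))
    exact le_pCore inferInstance (im_isPGroup E C (pCoreOf_isPGroup p Er))
  · exact hcentral.trans (Cfsg.Agent.S2859.le_pCoreOf' inf_le_right
      (hErE.trans hE_R'Er) hR'Erp)

end main

end helpers



/-- Let Q be a nontrivial large p-subgroup of the finite group H, U a nontrivial elementary abelian p-subgroup of H, and Q ≤ E ≤ N_H(U) with Q not normal in E. Suppose O_p(E/C_E(U)) = 1 and O^p(E)·C_E(U)/C_E(U) is quasisimple. Let E° be the weak closure of Q in E (generated by the conjugates of Q inside E) and E_∘ = O^p(E°). Then O^p(E)·C_E(U) = E_∘·C_E(U); E_∘ is perfect and equals O^p(E_∘); E_∘/C_{E_∘}(U) and E_∘/O_p(E_∘) are quasisimple; and E_∘ = [E_∘, Y] for every p-subgroup Y of E not centralizing U. -/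
theorem result {G : Type*} [Group G] [Finite G] {p : ℕ} [Fact p.Prime] (Q : Subgroup G) (hQp : IsPGroup p ↥Q) (hQ1 : Q ≠ ⊥) (hQ : Cfsg.IsLarge Q) (U : Subgroup G) (hU : Cfsg.IsElementaryAbelian p U) (hU1 : U ≠ ⊥) (E : Subgroup G) (hQE : Q ≤ E) (hEU : E ≤ Subgroup.normalizer ((U : Subgroup G) : Set G)) (hQn : ¬ E ≤ Subgroup.normalizer ((Q : Subgroup G) : Set G)) [hn : ((Subgroup.centralizer ((U : Subgroup G) : Set G)).subgroupOf E).Normal] (hred : Cfsg.pCore p (↥E ⧸ (Subgroup.centralizer ((U : Subgroup G) : Set G)).subgroupOf E) = ⊥) (hqs : Cfsg.IsQuasisimple ↥(((Cfsg.pResidual p ↥E) ⊔ (Subgroup.centralizer ((U : Subgroup G) : Set G)).subgroupOf E).map (QuotientGroup.mk' ((Subgroup.centralizer ((U : Subgroup G) : Set G)).subgroupOf E)))) (Er : Subgroup G) (hEr : Er = ((Cfsg.pResidual p ↥(Cfsg.weakClosure Q E)).map ((Cfsg.weakClosure Q E)).subtype)) [hn2 : ((Subgroup.centralizer ((U : Subgroup G) : Set G)).subgroupOf Er).Normal] : ((Cfsg.pResidual p ↥E).map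 (E).subtype) ⊔ (E ⊓ Subgroup.centralizer ((U : Subgroup G) : Set G)) = Er ⊔ (E ⊓ Subgroup.centralizer ((U : Subgroup G) : Set G)) ∧ ⁅Er, Er⁆ = Er ∧ ((Cfsg.pResidual p ↥Er).map (Er).subtype) = Er ∧ Cfsg.IsQuasisimple (↥Er ⧸ (Subgroup.centralizer ((U : Subgroup G) : Set G)).subgroupOf Er) ∧ Cfsg.IsQuasisimple (↥Er ⧸ Cfsg.pCore p ↥Er) ∧ ∀ Y : Subgroup G, Y ≤ E → IsPGroup p ↥Y → ¬ Y ≤ Subgroup.centralizer ((U : Subgroup G) : Set G) → ⁅Er, Y⁆ = Er := by
  rw [pResSub_eq] at hEr
  subst hEr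
  have hUp : IsPGroup p U := by
    rintro ⟨u, hu⟩
    exact ⟨1, Subtype.ext (by simpa using hU.2 u hu)⟩
  obtain ⟨hKKEr, -, hone⟩ := main1 Q hQp hQ1 hQ U hUp hU1 E hQE hEU hQn hred hqs
  obtain ⟨hperf, h6, hR₁C, hcentral⟩ := main2 Q hQp hQ1 hQ U hUp hU1 E hQE hEU hQn hred hqs
  set C := Subgroup.centralizer ((U : Subgroup G) : Set G) with hC
  set Ec := Cfsg.weakClosure Q E with hEc
  set Er := pResSub p Ec with hEr
  have hErE : Er ≤ E := (pResSub_le p Ec).trans (Cfsg.Agent.S2843.weakClosure_le_self _ _)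
  -- (4)
  set φ : ↥Er →* ↥E ⧸ C.subgroupOf E :=
    (QuotientGroup.mk' (C.subgroupOf E)).comp (Subgroup.inclusion hErE) with hφ
  have hφker : C.subgroupOf Er = φ.ker := by
    ext x
    rw [MonoidHom.mem_ker, hφ, MonoidHom.comp_apply, QuotientGroup.mk'_apply,
      QuotientGroup.eq_one_iff, Subgroup.mem_subgroupOf, Subgroup.mem_subgroupOf]
    rfl
  have hφrange : φ.range = ((Cfsg.pResidual p ↥E) ⊔ C.subgroupOf E).map
      (QuotientGroup.mk' (C.subgroupOf E)) := by
    rw [hKKEr]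
    ext y
    unfold im
    rw [MonoidHom.mem_range, Subgroup.mem_map]
    constructor
    · rintro ⟨x, rfl⟩
      exact ⟨Subgroup.inclusion hErE x, Subgroup.mem_subgroupOf.mpr x.2, rfl⟩
    · rintro ⟨z, hz, rfl⟩
      exact ⟨⟨(z : G), Subgroup.mem_subgroupOf.mp hz⟩, rfl⟩
  have e4 : ↥Er ⧸ C.subgroupOf Er ≃* ↥(((Cfsg.pResidual p ↥E) ⊔ C.subgroupOf E).map
      (QuotientGroup.mk' (C.subgroupOf E))) :=
    ((QuotientGroup.quotientMulEquivOfEq hφker).trans (QuotientGroup.quotientKerEquivRange φ)).trans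
      (MulEquiv.subgroupCongr hφrange)
  have h4 : Cfsg.IsQuasisimple (↥Er ⧸ C.subgroupOf Er) := isQuasisimple_of_mulEquiv e4.symm hqs
  refine ⟨?_, hperf, ?_, h4, ?_, h6⟩
  · rw [pResSub_eq]; exact hone
  · rw [pResSub_eq]; exact pResSub_pResSub p Ec
  · -- (5)
    have hle : Cfsg.pCore p ↥Er ≤ (C.subgroupOf Er).comap (MonoidHom.id ↥Er) := by
      intro x hx
      rw [Subgroup.mem_comap, MonoidHom.id_apply, Subgroup.mem_subgroupOf]
      exact hR₁C ⟨x, hx, rfl⟩
    set f : ↥Er ⧸ Cfsg.pCore p ↥Er →* ↥Er ⧸ C.subgroupOf Er :=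
      QuotientGroup.map _ _ (MonoidHom.id ↥Er) hle with hf
    have hfs : Function.Surjective f := by
      intro y
      obtain ⟨x, rfl⟩ := QuotientGroup.mk_surjective y
      exact ⟨QuotientGroup.mk x, rfl⟩
    have hperf' : commutator ↥Er = ⊤ := by
      apply Subgroup.map_injective Er.subtype_injective
      rw [commutator_def, Subgroup.map_commutator, ← MonoidHom.range_eq_map, Subgroup.range_subtype]
      exact hperf
    have hX : commutator (↥Er ⧸ Cfsg.pCore p ↥Er) = ⊤ := by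
      rw [commutator_def, ← Subgroup.map_top_of_surjective (QuotientGroup.mk' (Cfsg.pCore p ↥Er))
        (QuotientGroup.mk'_surjective _), ← Subgroup.map_commutator, ← commutator_def, hperf']
    have hker : f.ker ≤ Subgroup.center (↥Er ⧸ Cfsg.pCore p ↥Er) := by
      intro x hx
      obtain ⟨x, rfl⟩ := QuotientGroup.mk_surjective x
      rw [MonoidHom.mem_ker, hf, QuotientGroup.map_mk, MonoidHom.id_apply,
        QuotientGroup.eq_one_iff, Subgroup.mem_subgroupOf] at hx
      rw [Subgroup.mem_center_iff]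
      intro y
      obtain ⟨y, rfl⟩ := QuotientGroup.mk_surjective y
      rw [← QuotientGroup.mk_mul, ← QuotientGroup.mk_mul, QuotientGroup.eq]
      have h1 : ⁅(x : G)⁻¹, (y : G)⁻¹⁆ ∈ pCoreOf p Er :=
        hcentral (Subgroup.commutator_mem_commutator
          (Subgroup.mem_inf.mpr ⟨C.inv_mem hx, Er.inv_mem x.2⟩) (Er.inv_mem y.2))
      obtain ⟨z, hz, hz'⟩ := h1
      have : z = (y * x)⁻¹ * (x * y) := by
        apply Subtype.ext
        rw [show Er.subtype z = (z : G) from rfl] at hz'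
        rw [hz', commutatorElement_def]
        simp only [Subgroup.coe_mul, Subgroup.coe_inv]
        group
      rw [← this]
      exact hz
    exact isQuasisimple_of_central_extension hX f hfs hker h4

end Cfsg.Agent.S2860
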