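import Cfsg.Statements.S2861
import Cfsg.Agent.Lib.Lead.FrakL2b
import Cfsg.Agent.Lib.Lead.FrakL3b
import Cfsg.Agent.Lib.Lead.FrakL6
import Cfsg.Agent.Lib.Lead.FrakL8
import Cfsg.Agent.Lib.Helper6.PReduced5

set_option autoImplicit false
open Cfsg

namespace Cfsg.Agent.S2861

/-- Standing hypotheses: G a finite group, S a Sylow p-subgroup, Q a nontrivial large p-subgroup of G contained in S, M a subgroup containing S with the basic property (M ∈ 𝔐_G(S)); Y_M the largest p-reduced normal subgroup of M and M† = M·C_G(Y_M). Let L ∈ 𝔏_G(Y_M) (L ∈ 𝔏_G(Y_M): Y_M ≤ L; O_p(L) is the normal closure in L of Y_M ∩ O_p(L) and normalizes Y_M; L is Y_M-minimal of characteristic p with N_L(Y_M) its unique maximal subgroup over Y_M; and L/O_p(L) ≅ SL₂(q) with q = |Y_M : Y_M ∩ O_p(L)|, or p = 2 and L/O_p(L) is a Suzuki group Sz(q) or dihedral of order 2r, r an odd prime) and A = O_p(L). Then Y_M·A/A is the unique nontrivial elementary abelian normal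 p-subgroup of N_L(Y_M)/A. -/
theorem result {G : Type*} [Group G] [Finite G] {p : ℕ} [Fact p.Prime] (S : Sylow p G) (Q : Subgroup G) (hQp : IsPGroup p ↥Q) (hQ1 : Q ≠ ⊥) (hQS : Q ≤ (S : Subgroup G)) (hQ : Cfsg.IsLarge Q) (M : Subgroup G) (hSM : (S : Subgroup G) ≤ M) (hM : Cfsg.IsInFrakM p M) (L : Subgroup G) (hL : Cfsg.IsInFrakL p M L) (NL : Subgroup G) (hNL : NL = L ⊓ Subgroup.normalizer (((Cfsg.largestPReducedOf p M) : Subgroup G) : Set G)) [hn : (((Cfsg.pCoreOf p L)).subgroupOf NL).Normal] : let Ybar : Subgroup (↥NL ⧸ ((Cfsg.pCoreOf p L)).subgroupOf NL) := (((Cfsg.largestPReducedOf p M)).subgroupOf NL).map (QuotientGroup.mk' (((Cfsg.pCoreOf p L)).subgroupOf NL)); Ybar ≠ ⊥ ∧ Ybar.Normal ∧ Cfsg.IsElementaryAbelian p Ybar ∧ ∀ (V : Subgroup (↥NL ⧸ ((Cfsg.pCoreOf p L)).subgroupOf NL)), V.Normal → Cfsg.IsElementaryAbelian p V → V ≠ ⊥ → V = Ybar := by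
  classical
  obtain ⟨hYL, _, hAY, hmin, _, ⟨hlt, hmax⟩, hcases⟩ := hL
  have hYea : IsElementaryAbelian p (Cfsg.largestPReducedOf p M) :=
    (Cfsg.Agent.Lib.Helper6.largestPReducedOf_spec p M).2.1
  have hcl := hmin.1
  have hfacts := Cfsg.Agent.Lib.Lead.FrakL.image_facts (Cfsg.largestPReducedOf p M) L
    (Cfsg.pCore p ↥L) hYL hAY hcl hlt
  have hcardE : Nat.card (((Cfsg.largestPReducedOf p M).subgroupOf L).map
      (QuotientGroup.mk' (Cfsg.pCore p ↥L))) =
      (Cfsg.largestPReducedOf p M ⊓ Cfsg.pCoreOf p L).relIndex (Cfsg.largestPReducedOf p M) :=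
    Cfsg.Agent.Lib.Lead.FrakL.card_image (Cfsg.largestPReducedOf p M) L (Cfsg.pCore p ↥L) hYL
  have hEea : IsElementaryAbelian p (((Cfsg.largestPReducedOf p M).subgroupOf L).map
      (QuotientGroup.mk' (Cfsg.pCore p ↥L))) :=
    Cfsg.Agent.Lib.Helper9.isElementaryAbelian_map
      (Cfsg.Agent.Lib.Helper9.isElementaryAbelian_subgroupOf hYea L) _
  refine Cfsg.Agent.Lib.Lead.FrakL.glue (hn := hn) (Cfsg.largestPReducedOf p M) L (Cfsg.pCore p ↥L) NL
    hYL hAY hcl hNL (hNL ▸ hlt) (fun X h1 h2 => hNL ▸ hmax X h1 h2) hYea ?_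
  rcases hcases with ⟨F, hField, hFt, hcard, ⟨φ⟩⟩ | ⟨hp2, F, hField, hFt, m, hF, hcard, ⟨φ⟩⟩ |
      ⟨hp2, r, hr, hr2, ⟨φ⟩⟩
  · -- `SL₂(q)`
    letI := hField
    letI := hFt
    apply Cfsg.Agent.Lib.Lead.FrakL.UniqEA.of_map_equiv φ
    apply Cfsg.Agent.Lib.Lead.FrakL.uniqEA_SL2
    · exact Cfsg.Agent.Lib.Helper9.isElementaryAbelian_map hEea _
    · rw [hcard, ← hcardE]
      exact (Nat.card_congr (Subgroup.equivMapOfInjective _ _ φ.injective).toEquiv).symm
  · -- Suzuki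
    letI := hField
    letI := hFt
    subst hp2
    rcases Nat.eq_zero_or_pos m with rfl | hm
    · -- `Sz(2)`: impossible
      exfalso
      have hF2 : Fintype.card F = 2 := by rw [hF]; norm_num
      set ψ : ↥L →* ↥(Cfsg.Lie.Sz F (2 ^ (0 + 1))) :=
        φ.toMonoidHom.comp (QuotientGroup.mk' (Cfsg.pCore 2 ↥L)) with hψ
      have hψs : Function.Surjective ψ :=
        φ.surjective.comp (QuotientGroup.mk'_surjective _)
      apply Cfsg.Agent.Lib.Lead.FrakL.sz2_normalClosure_ne_top hF2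
        (((Cfsg.largestPReducedOf 2 M).subgroupOf L).map ψ)
      · rintro _ ⟨y, hy, rfl⟩
        rw [← map_pow]
        have h1 : (y : G) ^ 2 = 1 := hYea.2 _ (Subgroup.mem_subgroupOf.mp hy)
        have h2 : y ^ 2 = 1 := Subtype.ext (by simpa using h1)
        rw [h2, map_one]
      · have h1 := Subgroup.map_normalClosure
          (((Cfsg.largestPReducedOf 2 M).subgroupOf L : Subgroup ↥L) : Set ↥L) ψ hψs
        rw [hcl] at h1
        rw [Subgroup.coe_map, ← h1, ← MonoidHom.range_eq_map]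
        exact MonoidHom.range_eq_top.mpr hψs
    · apply Cfsg.Agent.Lib.Lead.FrakL.UniqEA.of_map_equiv φ
      apply Cfsg.Agent.Lib.Lead.FrakL.uniqEA_lieSz hm hF
      · exact Cfsg.Agent.Lib.Helper9.isElementaryAbelian_map hEea _
      · rw [hcard, ← hcardE]
        exact (Nat.card_congr (Subgroup.equivMapOfInjective _ _ φ.injective).toEquiv).symm
  · -- dihedral
    subst hp2
    apply Cfsg.Agent.Lib.Lead.FrakL.UniqEA.of_map_equiv φ
    apply Cfsg.Agent.Lib.Lead.FrakL.uniqEA_dihedral hr hr2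
    · exact Cfsg.Agent.Lib.Helper9.isElementaryAbelian_map hEea _
    · intro hb
      exact hfacts.1 ((Subgroup.map_eq_bot_iff_of_injective _ φ.injective).mp hb)
    · intro hb
      apply hfacts.2
      rw [← Subgroup.map_equiv_normalizer_eq] at hb
      have h1 : Subgroup.map φ.toMonoidHom (Subgroup.normalizer
          ((((Cfsg.largestPReducedOf 2 M).subgroupOf L).map
            (QuotientGroup.mk' (Cfsg.pCore 2 ↥L)) : Subgroup (↥L ⧸ Cfsg.pCore 2 ↥L)) :
            Set (↥L ⧸ Cfsg.pCore 2 ↥L))) = Subgroup.map φ.toMonoidHom ⊤ := by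
        rw [hb, ← MonoidHom.range_eq_map]
        exact (MonoidHom.range_eq_top.mpr φ.surjective).symm
      exact Subgroup.map_injective φ.injective h1

end Cfsg.Agent.S2861
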