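import Cfsg.Statements.S2863
import Cfsg.Agent.Lib.Lead.FrakV5
import Cfsg.Agent.Lib.Lead.FrakV6
import Cfsg.Agent.Lib.Lead.FrakV7
import Cfsg.Agent.Lib.Lead.FrakV8
import Cfsg.Agent.Lib.Lead.FrakL3b
import Cfsg.Agent.Lib.Lead.FrakL8
import Cfsg.Agent.Lib.Helper6.PReduced5
-- import your own Cfsg.Agent.* helpers here

set_option autoImplicit false
open Cfsg

namespace Cfsg.Agent.S2863

/-- Standing hypotheses: G a finite group, S a Sylow p-subgroup, Q a nontrivial large p-subgroup of G contained in S, M a subgroup containing S with the basic property (M ∈ 𝔐_G(S)); Y_M the largest p-reduced normal subgroup of M and M† = M·C_G(Y_M). Let L ∈ 𝔏_G(Y_M) (L ∈ 𝔏_G(Y_M): Y_M ≤ L; O_p(L) is the normal closure in L of Y_M ∩ O_p(L) and normalizes Y_M; L is Y_M-minimal of characteristic p with N_L(Y_M) its unique maximal subgroup over Y_M; and L/O_p(L) ≅ SL₂(q) with q = |Y_M : Y_M ∩ O_p(L)|, or p = 2 and L/O_p(L) is a Suzuki group Sz(q) or dihedral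 of order 2r, r an odd prime), A = O_p(L), and C = C_{Y_M}(L). Then every element h of L whose order is not a power of p acts without nontrivial fixed points on A/C: for a ∈ A, hah⁻¹a⁻¹ ∈ C implies a ∈ C. -/
theorem result {G : Type*} [Group G] [Finite G] {p : ℕ} [Fact p.Prime] (S : Sylow p G) (Q : Subgroup G) (hQp : IsPGroup p ↥Q) (hQ1 : Q ≠ ⊥) (hQS : Q ≤ (S : Subgroup G)) (hQ : Cfsg.IsLarge Q) (M : Subgroup G) (hSM : (S : Subgroup G) ≤ M) (hM : Cfsg.IsInFrakM p M) (L : Subgroup G) (hL : Cfsg.IsInFrakL p M L) (h : G) (hh : h ∈ L) (hnp : ¬ ∃ k : ℕ, orderOf h = p ^ k) : ∀ a ∈ (Cfsg.pCoreOf p L), h * a * h⁻¹ * a⁻¹ ∈ (Cfsg.largestPReducedOf p M) ⊓ Subgroup.centralizer ((L : Subgroup G) : Set G) → a ∈ (Cfsg.largestPReducedOf p M) ⊓ Subgroup.centralizer ((L : Subgroup G) : Set G) := by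
  classical
  intro a ha hc
  obtain ⟨hYL, hAcl, hAY, hmin, _, ⟨hlt, hmax⟩, hcases⟩ := hL
  have hYea : IsElementaryAbelian p (Cfsg.largestPReducedOf p M) :=
    (Cfsg.Agent.Lib.Helper6.largestPReducedOf_spec p M).2.1
  have hcl := hmin.1
  have hYab : ∀ y ∈ Cfsg.largestPReducedOf p M, ∀ y' ∈ Cfsg.largestPReducedOf p M,
      y * y' = y' * y := by
    intro y hy y' hy'
    have := hYea.1.is_comm.comm (⟨y, hy⟩ : ↥(Cfsg.largestPReducedOf p M)) ⟨y', hy'⟩
    exact congrArg Subtype.val this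
  have hCA := Cfsg.Agent.Lib.Lead.FrakV.C_le_pCore (p := p) (Cfsg.largestPReducedOf p M) L hYea.2
  have hfacts := Cfsg.Agent.Lib.Lead.FrakL.image_facts (Cfsg.largestPReducedOf p M) L
    (Cfsg.pCore p ↥L) hYL hAY hcl hlt
  have hcardE : Nat.card (((Cfsg.largestPReducedOf p M).subgroupOf L).map
      (QuotientGroup.mk' (Cfsg.pCore p ↥L))) =
      (Cfsg.largestPReducedOf p M ⊓ Cfsg.pCoreOf p L).relIndex (Cfsg.largestPReducedOf p M) :=
    Cfsg.Agent.Lib.Lead.FrakL.card_image (Cfsg.largestPReducedOf p M) L (Cfsg.pCore p ↥L) hYL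
  have hEea : IsElementaryAbelian p (((Cfsg.largestPReducedOf p M).subgroupOf L).map
      (QuotientGroup.mk' (Cfsg.pCore p ↥L))) :=
    Cfsg.Agent.Lib.Helper9.isElementaryAbelian_map
      (Cfsg.Agent.Lib.Helper9.isElementaryAbelian_subgroupOf hYea L) _
  refine Cfsg.Agent.Lib.Lead.FrakV.main_glue (Cfsg.largestPReducedOf p M) L (Cfsg.pCore p ↥L)
    hYL hAcl hAY hcl hmax hYab hCA (Cfsg.Agent.Lib.Helper6.pCore_isPGroup p) ?_ hh hnp ha hc
  rcases hcases with ⟨F, hField, hFt, hcard, ⟨φ⟩⟩ | ⟨hp2, F, hField, hFt, m, hF, hcard, ⟨φ⟩⟩ |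
      ⟨hp2, r, hr, hr2, ⟨φ⟩⟩
  · -- `SL₂(q)`
    letI := hField
    letI := hFt
    apply Cfsg.Agent.Lib.Lead.FrakV.Good.of_map_equiv φ
    apply Cfsg.Agent.Lib.Lead.FrakV.good_SL2
    · exact Cfsg.Agent.Lib.Helper9.isElementaryAbelian_map hEea _
    · rw [hcard, ← hcardE]
      exact (Nat.card_congr (Subgroup.equivMapOfInjective _ _ φ.injective).toEquiv).symm
  · -- Suzuki
    letI := hField
    letI := hFt
    subst hp2
    rcases Nat.eq_zero_or_pos m with rfl | hm
    · -- `Sz(2)`: impossible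
      exfalso
      have hF2 : Fintype.card F = 2 := by rw [hF]; norm_num
      set ψ : ↥L →* ↥(Cfsg.Lie.Sz F (2 ^ (0 + 1))) :=
        φ.toMonoidHom.comp (QuotientGroup.mk' (Cfsg.pCore 2 ↥L)) with hψ
      have hψs : Function.Surjective ψ :=
        φ.surjective.comp (QuotientGroup.mk'_surjective _)
      apply Cfsg.Agent.Lib.Lead.FrakL.sz2_normalClosure_ne_top hF2
        (((Cfsg.largestPReducedOf 2 M).subgroupOf L).map ψ)
      · rintro _ ⟨y, hy, rfl⟩
        rw [← map_pow]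
        have h1 : (y : G) ^ 2 = 1 := hYea.2 _ (Subgroup.mem_subgroupOf.mp hy)
        have h2 : y ^ 2 = 1 := Subtype.ext (by simpa using h1)
        rw [h2, map_one]
      · have h1 := Subgroup.map_normalClosure
          (((Cfsg.largestPReducedOf 2 M).subgroupOf L : Subgroup ↥L) : Set ↥L) ψ hψs
        rw [hcl] at h1
        rw [Subgroup.coe_map, ← h1, ← MonoidHom.range_eq_map]
        exact MonoidHom.range_eq_top.mpr hψs
    · apply Cfsg.Agent.Lib.Lead.FrakV.Good.of_map_equiv φ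
      apply Cfsg.Agent.Lib.Lead.FrakV.good_lieSz hm hF
      · exact Cfsg.Agent.Lib.Helper9.isElementaryAbelian_map hEea _
      · rw [hcard, ← hcardE]
        exact (Nat.card_congr (Subgroup.equivMapOfInjective _ _ φ.injective).toEquiv).symm
  · -- dihedral
    subst hp2
    apply Cfsg.Agent.Lib.Lead.FrakV.Good.of_map_equiv φ
    apply Cfsg.Agent.Lib.Lead.FrakV.good_dihedral hr hr2
    · exact Cfsg.Agent.Lib.Helper9.isElementaryAbelian_map hEea _
    · intro hb
      exact hfacts.1 ((Subgroup.map_eq_bot_iff_of_injective _ φ.injective).mp hb)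


end Cfsg.Agent.S2863
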