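import Mathlib
import Cfsg.Agent.Lib.Helper6.CentralTransfer
import Cfsg.Agent.Lib.Helper6.PRes
import Cfsg.Agent.Lib.Lead.Frattini
import Cfsg.Statements.S2872

set_option autoImplicit false
open Cfsg Cfsg.Agent.Lib.Helper6

namespace Cfsg.Agent.S2872

/-- Let S be a Sylow 2-subgroup of the finite group G. Then G has a proper normal subgroup of 2-power index (O²(G) ≠ G), or Ω₁(Z(S)) is contained in the Frattini subgroup of S, or N_G(S) acts nontrivially on Ω₁(Z(S)) by conjugation. -/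
theorem result {G : Type*} [Group G] [Finite G] (S : Sylow 2 G) : Cfsg.pResidual 2 G ≠ ⊤ ∨ Cfsg.omegaOne 2 ((S : Subgroup G) ⊓ Subgroup.centralizer ((S : Subgroup G) : Set G)) ≤ (frattini ↥(S : Subgroup G)).map (S : Subgroup G).subtype ∨ ∃ g ∈ Subgroup.normalizer ((S : Subgroup G) : Set G), ∃ z ∈ Cfsg.omegaOne 2 ((S : Subgroup G) ⊓ Subgroup.centralizer ((S : Subgroup G) : Set G)), g * z * g⁻¹ ≠ z := by
  by_contra hcon
  push Not at hcon
  obtain ⟨h1, h2, h3⟩ := hcon
  have hex : ∃ z, z ∈ (S : Subgroup G) ⊓ Subgroup.centralizer ((S : Subgroup G) : Set G) ∧ z ^ 2 = 1 ∧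
      z ∉ (frattini ↥(S : Subgroup G)).map (S : Subgroup G).subtype := by
    by_contra hno
    push Not at hno
    apply h2
    unfold Cfsg.omegaOne
    rw [Subgroup.closure_le]
    rintro x ⟨hx1, hx2⟩
    exact hno x hx1 hx2
  obtain ⟨z, hzZ, hz2, hzF⟩ := hex
  have hzS : z ∈ (S : Subgroup G) := hzZ.1
  have hzΩ : z ∈ Cfsg.omegaOne 2 ((S : Subgroup G) ⊓ Subgroup.centralizer ((S : Subgroup G) : Set G)) :=
    Subgroup.subset_closure ⟨hzZ, hz2⟩
  have hzF' : (⟨z, hzS⟩ : (S : Subgroup G)) ∉ frattini ↥(S : Subgroup G) := fun h => hzF ⟨_, h, rfl⟩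
  rw [Cfsg.Agent.Lib.Lead.mem_frattini_iff] at hzF'
  push Not at hzF'
  obtain ⟨K, hK, hzK⟩ := hzF'
  obtain ⟨hKn, hKi⟩ := Cfsg.Agent.Lib.Lead.coatom_normal_index_of_isPGroup S.2 hK
  have hQi : (K.map (S : Subgroup G).subtype).relIndex (S : Subgroup G) = 2 := by
    have e1 : (K.map (S : Subgroup G).subtype).subgroupOf (S : Subgroup G) = K :=
      Subgroup.comap_map_eq_self_of_injective (Subgroup.subtype_injective _) _
    rw [Subgroup.relIndex, e1, hKi]
  have hzQ : z ∉ K.map (S : Subgroup G).subtype := by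
    rintro ⟨y, hy, hyz⟩
    apply hzK
    have : y = ⟨z, hzS⟩ := Subtype.ext hyz
    rwa [← this]
  have hzc : ∀ s ∈ (S : Subgroup G), s * z = z * s := by
    intro s hs
    exact (Subgroup.mem_centralizer_iff.mp hzZ.2 s hs)
  have hN : ∀ g ∈ Subgroup.normalizer ((S : Subgroup G) : Set G),
      g⁻¹ * z * g ∉ K.map (S : Subgroup G).subtype := by
    intro g hg
    have := h3 g⁻¹ (inv_mem hg) z hzΩ
    rw [inv_inv] at this
    rw [this]
    exact hzQ
  obtain ⟨M, hMn, hMi, hzM⟩ := central_transfer S _ hQi z hzS hz2 hzc hN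
  have hle : Cfsg.pResidual 2 G ≤ M := by
    apply pResidual_le_of_isPGroup_quotient M
    apply IsPGroup.of_card (n := 1)
    rw [← Subgroup.index_eq_card, hMi, pow_one]
  rw [h1, top_le_iff] at hle
  rw [hle, Subgroup.index_top] at hMi
  exact absurd hMi (by norm_num)

end Cfsg.Agent.S2872
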