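import Mathlib
import Cfsg.Prelude.Def_Solvable
import Cfsg.Agent.Lib.Lead.Core
import Cfsg.Agent.Lib.Helper6.Conj
import Cfsg.Agent.Lib.Helper6.Conj2
import Cfsg.Statements.S2873

set_option autoImplicit false
open Cfsg

namespace Cfsg.Agent.S2873

open Cfsg.Agent.Lib.Helper6
open scoped commutatorElement

section helpers

section dihedral

variable {r : ℕ} [hr : Fact r.Prime]

theorem two_ne_zero_zmod (hr2 : r ≠ 2) : (2 : ZMod r) ≠ 0 := by
  intro h
  have h1 : ((2 : ℕ) : ZMod r) = 0 := by exact_mod_cast h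
  rw [ZMod.natCast_eq_zero_iff] at h1
  exact hr2 ((Nat.prime_dvd_prime_iff_eq hr.out Nat.prime_two).mp h1)

theorem dihedral_involution (hr2 : r ≠ 2) (x : DihedralGroup r) (hx : orderOf x = 2) :
    ∃ i, x = DihedralGroup.sr i := by
  cases x with
  | r i =>
    exfalso
    have h1 : (DihedralGroup.r i) ^ 2 = 1 := by rw [← hx]; exact pow_orderOf_eq_one _
    rw [pow_two, DihedralGroup.r_mul_r, DihedralGroup.one_def] at h1
    have h2 : i + i = 0 := by
      injection h1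
    have h3 : (2 : ZMod r) * i = 0 := by rw [two_mul]; exact h2
    have h4 : i = 0 := by
      rcases mul_eq_zero.mp h3 with h | h
      · exact absurd h (two_ne_zero_zmod hr2)
      · exact h
    rw [h4, ← DihedralGroup.one_def, orderOf_one] at hx
    omega
  | sr i => exact ⟨i, rfl⟩

theorem dihedral_conj (hr2 : r ≠ 2) (i j : ZMod r) :
    ∃ d : DihedralGroup r, d * DihedralGroup.sr i * d⁻¹ = DihedralGroup.sr j := by
  refine ⟨DihedralGroup.r ((i - j) * (2 : ZMod r)⁻¹), ?_⟩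
  rw [DihedralGroup.r_mul_sr, DihedralGroup.inv_r, DihedralGroup.sr_mul_r]
  congr 1
  have h2 := two_ne_zero_zmod hr2
  field_simp
  ring

theorem dihedral_other (x : DihedralGroup r) : ∃ y : DihedralGroup r, orderOf y = 2 ∧ y ≠ x := by
  haveI : NeZero r := ⟨hr.out.ne_zero⟩
  by_cases h : x = DihedralGroup.sr 0
  · refine ⟨DihedralGroup.sr 1, DihedralGroup.orderOf_sr 1, ?_⟩
    rw [h]
    intro h1
    injection h1 with h2
    haveI : Fact (1 < r) := ⟨hr.out.one_lt⟩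
    exact one_ne_zero h2
  · exact ⟨DihedralGroup.sr 0, DihedralGroup.orderOf_sr 0, fun h1 => h h1.symm⟩

theorem conj_of_iso {D : Type*} [Group D] (e : D ≃* DihedralGroup r) (hr2 : r ≠ 2) (x y : D)
    (hx : orderOf x = 2) (hy : orderOf y = 2) : ∃ d : D, d * x * d⁻¹ = y := by
  obtain ⟨i, hi⟩ := dihedral_involution hr2 (e x) (by rw [MulEquiv.orderOf_eq]; exact hx)
  obtain ⟨j, hj⟩ := dihedral_involution hr2 (e y) (by rw [MulEquiv.orderOf_eq]; exact hy)
  obtain ⟨d, hd⟩ := dihedral_conj hr2 i j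
  refine ⟨e.symm d, ?_⟩
  apply e.injective
  rw [map_mul, map_mul, map_inv, MulEquiv.apply_symm_apply, hi, hj, hd]

theorem other_of_iso {D : Type*} [Group D] (e : D ≃* DihedralGroup r) (x : D) :
    ∃ y : D, orderOf y = 2 ∧ y ≠ x := by
  obtain ⟨y, hy, hne⟩ := dihedral_other (e x)
  refine ⟨e.symm y, by rw [MulEquiv.orderOf_eq]; exact hy, ?_⟩
  intro h
  apply hne
  rw [← h, MulEquiv.apply_symm_apply]

end dihedral

section main

variable {G : Type*} [Group G] [Finite G] {r : ℕ} [hr : Fact r.Prime]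

/-- the situation of the statement -/
structure Sit (r : ℕ) [Fact r.Prime] (Q : Subgroup G) (R : Sylow r G) : Prop where
  hQn : Q.Normal
  hQ2 : IsPGroup 2 Q
  hRcard : Nat.card R = r
  hCQR : Q ⊓ Subgroup.centralizer ((R : Subgroup G) : Set G) = ⊥
  hidx : Q.index = 2 * r
  hr2 : r ≠ 2

variable {Q : Subgroup G} {R : Sylow r G}

theorem Sit.inf_eq_bot (h : Sit r Q R) : (R : Subgroup G) ⊓ Q = ⊥ := by
  apply (Subgroup.disjoint_of_coprime_natCard _).eq_bot
  rw [h.hRcard]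
  obtain ⟨n, hn⟩ := (IsPGroup.iff_card).mp h.hQ2
  rw [hn]
  apply Nat.Coprime.pow_right
  exact (Nat.coprime_primes hr.out Nat.prime_two).mpr h.hr2

theorem Sit.index_sup (h : Sit r Q R) : ((R : Subgroup G) ⊔ Q).index = 2 := by
  haveI := h.hQn
  have h1 : Q.relIndex ((R : Subgroup G) ⊔ Q) = r := by
    rw [Subgroup.relIndex_sup_right, ← Subgroup.inf_relIndex_right, inf_comm, h.inf_eq_bot,
      Subgroup.relIndex_bot_left, h.hRcard]
  have h2 := Subgroup.relIndex_mul_index (le_sup_right : Q ≤ (R : Subgroup G) ⊔ Q)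
  rw [h1, h.hidx] at h2
  have hr0 : 0 < r := hr.out.pos
  have : r * ((R : Subgroup G) ⊔ Q).index = r * 2 := by rw [h2]; ring
  exact Nat.eq_of_mul_eq_mul_left hr0 this

theorem Sit.normal_sup (h : Sit r Q R) : ((R : Subgroup G) ⊔ Q).Normal :=
  Subgroup.normal_of_index_eq_two h.index_sup

theorem Sit.mem_sup (h : Sit r Q R) {n : G} (hn : n ∈ (R : Subgroup G) ⊔ Q) :
    ∃ q ∈ Q, ∃ x ∈ (R : Subgroup G), n = q * x := by
  haveI := h.hQn
  rw [sup_comm, ← SetLike.mem_coe, Subgroup.normal_mul] at hn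
  obtain ⟨q, hq, x, hx, rfl⟩ := hn
  exact ⟨q, hq, x, hx, rfl⟩

theorem Sit.normalizer_inf (h : Sit r Q R) :
    Subgroup.normalizer ((R : Subgroup G) : Set G) ⊓ Q = ⊥ := by
  haveI := h.hQn
  rw [eq_bot_iff]
  intro x hx0
  obtain ⟨hxD, hxQ⟩ := Subgroup.mem_inf.mp hx0
  rw [Subgroup.mem_bot]
  have hx : x ∈ Q ⊓ Subgroup.centralizer ((R : Subgroup G) : Set G) := by
    refine Subgroup.mem_inf.mpr ⟨hxQ, Subgroup.mem_centralizer_iff.mpr ?_⟩
    intro y hy
    have h1 : x * y * x⁻¹ * y⁻¹ ∈ (R : Subgroup G) :=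
      mul_mem ((Subgroup.mem_normalizer_iff.mp hxD y).mp hy) (inv_mem hy)
    have h2 : x * y * x⁻¹ * y⁻¹ ∈ Q := by
      have : x * y * x⁻¹ * y⁻¹ = x * (y * x⁻¹ * y⁻¹) := by group
      rw [this]
      exact mul_mem hxQ (h.hQn.conj_mem _ (inv_mem hxQ) y)
    have h3 : x * y * x⁻¹ * y⁻¹ ∈ (R : Subgroup G) ⊓ Q := ⟨h1, h2⟩
    rw [h.inf_eq_bot, Subgroup.mem_bot] at h3
    calc y * x = (x * y * x⁻¹ * y⁻¹)⁻¹ * (x * y) := by group
      _ = x * y := by rw [h3]; group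
  rw [h.hCQR, Subgroup.mem_bot] at hx
  exact hx

theorem Sit.normalizer_sup (h : Sit r Q R) :
    Subgroup.normalizer ((R : Subgroup G) : Set G) ⊔ Q = ⊤ := by
  haveI := h.normal_sup
  have h1 : Subgroup.normalizer ((R : Subgroup G) : Set G) ⊔ ((R : Subgroup G) ⊔ Q) = ⊤ :=
    Sylow.normalizer_sup_eq_top' R (le_sup_left : (R : Subgroup G) ≤ (R : Subgroup G) ⊔ Q)
  have h2 : (R : Subgroup G) ≤ Subgroup.normalizer ((R : Subgroup G) : Set G) :=
    Subgroup.le_normalizer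
  rw [← sup_assoc, sup_eq_left.mpr h2] at h1
  exact h1

theorem Sit.exists_iso (h : Sit r Q R) [hQn : Q.Normal] :
    ∃ e : ↥(Subgroup.normalizer ((R : Subgroup G) : Set G)) ≃* G ⧸ Q,
      ∀ d, e d = ((d : G) : G ⧸ Q) := by
  let f : ↥(Subgroup.normalizer ((R : Subgroup G) : Set G)) →* G ⧸ Q :=
    (QuotientGroup.mk' Q).comp (Subgroup.normalizer ((R : Subgroup G) : Set G)).subtype
  have hinj : Function.Injective f := by
    rw [injective_iff_map_eq_one]
    intro d hd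
    have hdQ : (d : G) ∈ Q := by
      have : ((d : G) : G ⧸ Q) = 1 := hd
      exact (QuotientGroup.eq_one_iff _).mp this
    have : (d : G) ∈ Subgroup.normalizer ((R : Subgroup G) : Set G) ⊓ Q := ⟨d.2, hdQ⟩
    rw [h.normalizer_inf, Subgroup.mem_bot] at this
    exact Subtype.ext this
  have hsurj : Function.Surjective f := by
    intro g
    obtain ⟨g₀, rfl⟩ := QuotientGroup.mk_surjective g
    have hg : g₀ ∈ Subgroup.normalizer ((R : Subgroup G) : Set G) ⊔ Q := by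
      rw [h.normalizer_sup]; exact Subgroup.mem_top _
    rw [← SetLike.mem_coe, Subgroup.mul_normal] at hg
    obtain ⟨d, hd, q, hq, rfl⟩ := hg
    refine ⟨⟨d, hd⟩, ?_⟩
    show ((d : G) : G ⧸ Q) = ((d * q : G) : G ⧸ Q)
    rw [QuotientGroup.eq]
    have : d⁻¹ * (d * q) = q := by group
    rw [this]; exact hq
  exact ⟨MulEquiv.ofBijective f ⟨hinj, hsurj⟩, fun d => rfl⟩

theorem Sit.zpowers_eq (h : Sit r Q R) {y : G} (hy : y ∈ (R : Subgroup G)) (hy1 : y ≠ 1) :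
    Subgroup.zpowers y = (R : Subgroup G) := by
  have hle : Subgroup.zpowers y ≤ (R : Subgroup G) := (Subgroup.zpowers_le).mpr hy
  apply Subgroup.eq_of_le_of_card_ge hle
  have h1 : Nat.card (Subgroup.zpowers y) ∣ r := h.hRcard ▸ Subgroup.card_dvd_of_le hle
  rcases (Nat.dvd_prime hr.out).mp h1 with h2 | h2
  · exfalso
    rw [Subgroup.card_eq_one, Subgroup.zpowers_eq_bot] at h2
    exact hy1 h2
  · rw [h2, h.hRcard]

/-- elements of `QR` outside `Q` are `Q`-conjugate to elements of `R` -/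
theorem Sit.exists_conj (h : Sit r Q R) {x : G} (hx : x ∈ (R : Subgroup G) ⊔ Q) (hxQ : x ∉ Q) :
    ∃ s ∈ Q, ∃ y ∈ (R : Subgroup G), y ≠ 1 ∧ x = s * y * s⁻¹ := by
  haveI := h.hQn
  obtain ⟨q₀, hq₀, y, hy, rfl⟩ := h.mem_sup hx
  have hy1 : y ≠ 1 := by
    intro h0
    apply hxQ
    rw [h0, mul_one]; exact hq₀
  let f : ↥Q → ↥Q := fun s => ⟨(s : G)⁻¹ * (y * (s : G) * y⁻¹),
    mul_mem (inv_mem s.2) (h.hQn.conj_mem _ s.2 y)⟩
  have hinj : Function.Injective f := by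
    intro s t hst
    have h1 : (s : G)⁻¹ * (y * (s : G) * y⁻¹) = (t : G)⁻¹ * (y * (t : G) * y⁻¹) :=
      congrArg Subtype.val hst
    have h2 : ((t : G) * (s : G)⁻¹) * y = y * ((t : G) * (s : G)⁻¹) := by
      have e1 : (t : G) * ((s : G)⁻¹ * (y * (s : G) * y⁻¹)) * y * (s : G)⁻¹ =
          ((t : G) * (s : G)⁻¹) * y := by group
      have e2 : (t : G) * ((t : G)⁻¹ * (y * (t : G) * y⁻¹)) * y * (s : G)⁻¹ =
          y * ((t : G) * (s : G)⁻¹) := by group
      rw [← e1, h1, e2]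
    have h3 : (t : G) * (s : G)⁻¹ ∈ Q ⊓ Subgroup.centralizer ((R : Subgroup G) : Set G) := by
      refine Subgroup.mem_inf.mpr ⟨mul_mem t.2 (inv_mem s.2), ?_⟩
      rw [← h.zpowers_eq hy hy1, Subgroup.mem_centralizer_iff]
      intro z hz
      obtain ⟨k, rfl⟩ := Subgroup.mem_zpowers_iff.mp hz
      have : Commute ((t : G) * (s : G)⁻¹) y := h2
      exact ((this.zpow_right k).eq).symm
    rw [h.hCQR, Subgroup.mem_bot] at h3
    apply Subtype.ext
    have : (t : G) = (s : G) := by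
      calc (t : G) = ((t : G) * (s : G)⁻¹) * (s : G) := by group
        _ = (s : G) := by rw [h3, one_mul]
    exact this.symm
  have hsurj : Function.Surjective f := Finite.injective_iff_surjective.mp hinj
  obtain ⟨s, hs⟩ := hsurj ⟨q₀, hq₀⟩
  have hs' : (s : G)⁻¹ * (y * (s : G) * y⁻¹) = q₀ := congrArg Subtype.val hs
  refine ⟨(s : G)⁻¹, inv_mem s.2, y, hy, hy1, ?_⟩
  rw [← hs']; group

/-- involutions outside `Q` lie outside `QR` -/
theorem Sit.not_mem_sup (h : Sit r Q R) {b : G} (hb : orderOf b = 2) (hbQ : b ∉ Q) :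
    b ∉ (R : Subgroup G) ⊔ Q := by
  haveI := h.hQn
  intro hbN
  obtain ⟨q, hq, x, hx, rfl⟩ := h.mem_sup hbN
  have hb2 : (q * x) * (q * x) = 1 := by
    rw [← pow_two, ← hb]; exact pow_orderOf_eq_one _
  have hx2Q : x * x ∈ Q := by
    have e : x * x = (x * q⁻¹ * x⁻¹) * q⁻¹ * ((q * x) * (q * x)) := by group
    rw [e, hb2, mul_one]
    exact mul_mem (h.hQn.conj_mem _ (inv_mem hq) x) (inv_mem hq)
  have hx2 : x * x ∈ (R : Subgroup G) ⊓ Q := ⟨mul_mem hx hx, hx2Q⟩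
  rw [h.inf_eq_bot, Subgroup.mem_bot] at hx2
  have hxr : x ^ r = 1 := by
    have := pow_card_eq_one' (G := (R : Subgroup G)) (x := ⟨x, hx⟩)
    rw [h.hRcard] at this
    exact congrArg Subtype.val this
  have hx1 : x = 1 := by
    have d1 : orderOf x ∣ r := orderOf_dvd_of_pow_eq_one hxr
    have d2 : orderOf x ∣ 2 := orderOf_dvd_of_pow_eq_one (by rw [pow_two]; exact hx2)
    have hcop : Nat.Coprime r 2 := (Nat.coprime_primes hr.out Nat.prime_two).mpr h.hr2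
    have : orderOf x ∣ 1 := hcop ▸ Nat.dvd_gcd d1 d2
    exact orderOf_eq_one_iff.mp (Nat.dvd_one.mp this)
  apply hbQ
  rw [hx1, mul_one]; exact hq

/-- an element inverting a generator of `R` normalizes `R` -/
theorem Sit.mem_normalizer_of_inverts (h : Sit r Q R) {y g : G} (hy : y ∈ (R : Subgroup G))
    (hy1 : y ≠ 1) (hg : g * y * g⁻¹ = y⁻¹) :
    g ∈ Subgroup.normalizer ((R : Subgroup G) : Set G) := by
  apply mem_normalizer_of_forall_conj_mem
  intro z hz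
  rw [← h.zpowers_eq hy hy1] at hz ⊢
  obtain ⟨k, rfl⟩ := Subgroup.mem_zpowers_iff.mp hz
  rw [← conj_zpow, hg]
  exact Subgroup.zpow_mem _ (inv_mem (Subgroup.mem_zpowers y)) k

/-- two involutions outside `Q` with product outside `Q` lie in a common `Q`-conjugate of `N_G(R)` -/
theorem Sit.claimC (h : Sit r Q R) {b₁ b₂ : G} (h1 : orderOf b₁ = 2) (h2 : orderOf b₂ = 2)
    (hb₁ : b₁ ∉ Q) (hb₂ : b₂ ∉ Q) (h12 : b₁ * b₂ ∉ Q) :
    ∃ s ∈ Q, s⁻¹ * b₁ * s ∈ Subgroup.normalizer ((R : Subgroup G) : Set G) ∧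
      s⁻¹ * b₂ * s ∈ Subgroup.normalizer ((R : Subgroup G) : Set G) := by
  have hn1 := h.not_mem_sup h1 hb₁
  have hn2 := h.not_mem_sup h2 hb₂
  have hyN : b₁ * b₂ ∈ (R : Subgroup G) ⊔ Q := by
    rw [Subgroup.mul_mem_iff_of_index_two h.index_sup]
    exact ⟨fun h' => absurd h' hn1, fun h' => absurd h' hn2⟩
  obtain ⟨s, hs, y, hy, hy1, hsy⟩ := h.exists_conj hyN h12
  have e1 : b₁ * b₁ = 1 := by rw [← pow_two, ← h1]; exact pow_orderOf_eq_one _
  have e2 : b₂ * b₂ = 1 := by rw [← pow_two, ← h2]; exact pow_orderOf_eq_one _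
  have i1 : b₁⁻¹ = b₁ := inv_eq_of_mul_eq_one_left e1
  have i2 : b₂⁻¹ = b₂ := inv_eq_of_mul_eq_one_left e2
  have hy_eq : y = s⁻¹ * (b₁ * b₂) * s := by rw [hsy]; group
  refine ⟨s, hs, ?_, ?_⟩
  · apply h.mem_normalizer_of_inverts hy hy1
    rw [hy_eq]
    calc s⁻¹ * b₁ * s * (s⁻¹ * (b₁ * b₂) * s) * (s⁻¹ * b₁ * s)⁻¹
        = s⁻¹ * ((b₁ * b₁) * b₂ * b₁⁻¹) * s := by group
      _ = s⁻¹ * (b₂⁻¹ * b₁⁻¹) * s := by rw [e1, one_mul, i1, i2]
      _ = (s⁻¹ * (b₁ * b₂) * s)⁻¹ := by group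
  · apply h.mem_normalizer_of_inverts hy hy1
    rw [hy_eq]
    calc s⁻¹ * b₂ * s * (s⁻¹ * (b₁ * b₂) * s) * (s⁻¹ * b₂ * s)⁻¹
        = s⁻¹ * (b₂ * b₁ * (b₂ * b₂⁻¹)) * s := by group
      _ = s⁻¹ * (b₂⁻¹ * b₁⁻¹) * s := by rw [mul_inv_cancel, mul_one, i1, i2]
      _ = (s⁻¹ * (b₁ * b₂) * s)⁻¹ := by group

omit [Finite G] hr in
theorem orderOf_conj' (s b : G) : orderOf (s⁻¹ * b * s) = orderOf b := by
  have := MulEquiv.orderOf_eq (MulAut.conj s⁻¹) b
  rw [MulAut.conj_apply, inv_inv] at this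
  exact this

theorem Sit.eq_one_of_mem (h : Sit r Q R) {d : G}
    (hd : d ∈ Subgroup.normalizer ((R : Subgroup G) : Set G)) (hdQ : d ∈ Q) : d = 1 := by
  have : d ∈ Subgroup.normalizer ((R : Subgroup G) : Set G) ⊓ Q := ⟨hd, hdQ⟩
  rw [h.normalizer_inf, Subgroup.mem_bot] at this
  exact this

theorem Sit.conj_involutions (h : Sit r Q R)
    (e : ↥(Subgroup.normalizer ((R : Subgroup G) : Set G)) ≃* DihedralGroup r) {a : G}
    (ha : a ∈ Subgroup.normalizer ((R : Subgroup G) : Set G)) (hao : orderOf a = 2) {b : G}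
    (hbo : orderOf b = 2) (hbQ : b ∉ Q) : ∃ g : G, g * a * g⁻¹ = b := by
  obtain ⟨a₁, ha₁o, _⟩ := other_of_iso e 1
  obtain ⟨a₂, ha₂o, ha₂ne⟩ := other_of_iso e a₁
  -- one of them has product with `b` outside `Q`
  have hex : ∃ c : ↥(Subgroup.normalizer ((R : Subgroup G) : Set G)), orderOf c = 2 ∧
      b * (c : G) ∉ Q := by
    by_cases h1 : b * (a₁ : G) ∈ Q
    · refine ⟨a₂, ha₂o, ?_⟩
      intro h2
      apply ha₂ne
      have h3 : (a₂ : G) * (a₁ : G)⁻¹ ∈ Q := by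
        have e1 : (a₂ : G) * (a₁ : G)⁻¹ =
            (a₂ : G) * ((b * (a₂ : G))⁻¹ * (b * (a₁ : G)))⁻¹ * (a₂ : G)⁻¹ := by group
        rw [e1]
        exact h.hQn.conj_mem _ (inv_mem (mul_mem (inv_mem h2) h1)) _
      have h4 := h.eq_one_of_mem (mul_mem a₂.2 (inv_mem a₁.2)) h3
      apply Subtype.ext
      calc (a₂ : G) = ((a₂ : G) * (a₁ : G)⁻¹) * (a₁ : G) := by group
        _ = (a₁ : G) := by rw [h4, one_mul]
    · exact ⟨a₁, ha₁o, h1⟩
  obtain ⟨c, hco, hbc⟩ := hex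
  have hcG : orderOf (c : G) = 2 := by rw [Subgroup.orderOf_coe]; exact hco
  have hcQ : (c : G) ∉ Q := by
    intro h0
    have := h.eq_one_of_mem c.2 h0
    rw [this, orderOf_one] at hcG
    omega
  obtain ⟨s, hs, hbD, hcD⟩ := h.claimC hbo hcG hbQ hcQ hbc
  have o1 : orderOf (⟨s⁻¹ * b * s, hbD⟩ : ↥(Subgroup.normalizer ((R : Subgroup G) : Set G))) = 2 := by
    rw [Subgroup.orderOf_mk, orderOf_conj', hbo]
  have o2 : orderOf (⟨s⁻¹ * (c : G) * s, hcD⟩ :
      ↥(Subgroup.normalizer ((R : Subgroup G) : Set G))) = 2 := by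
    rw [Subgroup.orderOf_mk, orderOf_conj', hcG]
  have o3 : orderOf (⟨a, ha⟩ : ↥(Subgroup.normalizer ((R : Subgroup G) : Set G))) = 2 := by
    rw [Subgroup.orderOf_mk, hao]
  obtain ⟨d₁, hd₁⟩ := conj_of_iso e h.hr2 _ _ o1 o2
  obtain ⟨d₂, hd₂⟩ := conj_of_iso e h.hr2 _ _ o3 hco
  have hd₁' : (d₁ : G) * (s⁻¹ * b * s) * (d₁ : G)⁻¹ = s⁻¹ * (c : G) * s :=
    congrArg Subtype.val hd₁
  have hd₂' : (d₂ : G) * a * (d₂ : G)⁻¹ = (c : G) := congrArg Subtype.val hd₂
  refine ⟨s * (d₁ : G)⁻¹ * s⁻¹ * (d₂ : G), ?_⟩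
  calc s * (d₁ : G)⁻¹ * s⁻¹ * (d₂ : G) * a * (s * (d₁ : G)⁻¹ * s⁻¹ * (d₂ : G))⁻¹
      = s * (d₁ : G)⁻¹ * (s⁻¹ * ((d₂ : G) * a * (d₂ : G)⁻¹) * s) * (d₁ : G) * s⁻¹ := by group
    _ = s * (d₁ : G)⁻¹ * ((d₁ : G) * (s⁻¹ * b * s) * (d₁ : G)⁻¹) * (d₁ : G) * s⁻¹ := by
        rw [hd₂', hd₁']
    _ = b := by group

theorem Sit.mem_centralizer_of_commute (h : Sit r Q R) {y z : G} (hy : y ∈ (R : Subgroup G))
    (hy1 : y ≠ 1) (hc : Commute z y) : z ∈ Subgroup.centralizer ((R : Subgroup G) : Set G) := by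
  rw [← h.zpowers_eq hy hy1, Subgroup.mem_centralizer_iff]
  intro w hw
  obtain ⟨k, rfl⟩ := Subgroup.mem_zpowers_iff.mp hw
  exact ((hc.zpow_right k).eq).symm

theorem Sit.card_sq (h : Sit r Q R)
    (e : ↥(Subgroup.normalizer ((R : Subgroup G) : Set G)) ≃* DihedralGroup r) {a : G}
    (ha : a ∈ Subgroup.normalizer ((R : Subgroup G) : Set G)) (hao : orderOf a = 2) :
    Nat.card ↥(Q ⊓ Subgroup.centralizer ({a} : Set G)) ^ 2 = Nat.card ↥Q := by
  haveI := h.hQn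
  obtain ⟨c, hco, hcne⟩ := other_of_iso e ⟨a, ha⟩
  have hcG : orderOf (c : G) = 2 := by rw [Subgroup.orderOf_coe]; exact hco
  have hca : (c : G) ≠ a := fun h0 => hcne (Subtype.ext h0)
  have inv_not_mem : ∀ {x : G}, x ∈ Subgroup.normalizer ((R : Subgroup G) : Set G) →
      orderOf x = 2 → x ∉ Q := by
    intro x hx hxo h0
    have := h.eq_one_of_mem hx h0
    rw [this, orderOf_one] at hxo
    omega
  have haQ : a ∉ Q := inv_not_mem ha hao
  have hcQ : (c : G) ∉ Q := inv_not_mem c.2 hcG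
  have ea : a * a = 1 := by rw [← pow_two, ← hao]; exact pow_orderOf_eq_one _
  have ec : (c : G) * (c : G) = 1 := by rw [← pow_two, ← hcG]; exact pow_orderOf_eq_one _
  have ia : a⁻¹ = a := inv_eq_of_mul_eq_one_left ea
  have ic : (c : G)⁻¹ = (c : G) := inv_eq_of_mul_eq_one_left ec
  -- y = a * c is a generator of R
  have hyD : a * (c : G) ∈ Subgroup.normalizer ((R : Subgroup G) : Set G) := mul_mem ha c.2
  have hy1 : a * (c : G) ≠ 1 := by
    intro h0
    apply hca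
    have : (c : G) = a⁻¹ := (inv_eq_of_mul_eq_one_right h0).symm
    rw [this, ia]
  have hyQ : a * (c : G) ∉ Q := fun h0 => hy1 (h.eq_one_of_mem hyD h0)
  have hyR : a * (c : G) ∈ (R : Subgroup G) := by
    have hyN : a * (c : G) ∈ (R : Subgroup G) ⊔ Q := by
      rw [Subgroup.mul_mem_iff_of_index_two h.index_sup]
      exact ⟨fun h' => absurd h' (h.not_mem_sup hao haQ),
        fun h' => absurd h' (h.not_mem_sup hcG hcQ)⟩
    obtain ⟨q, hq, x, hx, hqx⟩ := h.mem_sup hyN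
    have hqD : q ∈ Subgroup.normalizer ((R : Subgroup G) : Set G) := by
      have : q = (a * (c : G)) * x⁻¹ := by rw [hqx]; group
      rw [this]
      exact mul_mem hyD (inv_mem (Subgroup.le_normalizer hx))
    have := h.eq_one_of_mem hqD hq
    rw [hqx, this, one_mul]; exact hx
  -- elements of D congruent modulo Q are equal
  have cong : ∀ {d₁ d₂ : G}, d₁ ∈ Subgroup.normalizer ((R : Subgroup G) : Set G) →
      d₂ ∈ Subgroup.normalizer ((R : Subgroup G) : Set G) → d₁ * d₂⁻¹ ∈ Q → d₁ = d₂ := by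
    intro d₁ d₂ h1 h2 h3
    have := h.eq_one_of_mem (mul_mem h1 (inv_mem h2)) h3
    calc d₁ = (d₁ * d₂⁻¹) * d₂ := by group
      _ = d₂ := by rw [this, one_mul]
  let φ : ↥(Q ⊓ Subgroup.centralizer ({(c : G)} : Set G)) × ↥(Q ⊓ Subgroup.centralizer ({a} : Set G)) →
      ↥Q := fun uv => ⟨(uv.1 : G) * (uv.2 : G),
        mul_mem (Subgroup.mem_inf.mp uv.1.2).1 (Subgroup.mem_inf.mp uv.2.2).1⟩
  have hφinj : Function.Injective φ := by
    rintro ⟨u, v⟩ ⟨u', v'⟩ huv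
    have h1 : (u : G) * (v : G) = (u' : G) * (v' : G) := congrArg Subtype.val huv
    obtain ⟨huQ, huC⟩ := Subgroup.mem_inf.mp u.2
    obtain ⟨hu'Q, hu'C⟩ := Subgroup.mem_inf.mp u'.2
    obtain ⟨hvQ, hvC⟩ := Subgroup.mem_inf.mp v.2
    obtain ⟨hv'Q, hv'C⟩ := Subgroup.mem_inf.mp v'.2
    have hz : (u' : G)⁻¹ * (u : G) = (v' : G) * (v : G)⁻¹ := by
      calc (u' : G)⁻¹ * (u : G) = (u' : G)⁻¹ * ((u : G) * (v : G)) * (v : G)⁻¹ := by group
        _ = (u' : G)⁻¹ * ((u' : G) * (v' : G)) * (v : G)⁻¹ := by rw [h1]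
        _ = (v' : G) * (v : G)⁻¹ := by group
    have hzc : (u' : G)⁻¹ * (u : G) ∈ Subgroup.centralizer ({(c : G)} : Set G) :=
      mul_mem (inv_mem hu'C) huC
    have hza : (u' : G)⁻¹ * (u : G) ∈ Subgroup.centralizer ({a} : Set G) := by
      rw [hz]; exact mul_mem hv'C (inv_mem hvC)
    rw [Subgroup.mem_centralizer_singleton_iff] at hzc hza
    have hzy : Commute ((u' : G)⁻¹ * (u : G)) (a * (c : G)) :=
      Commute.mul_right hza hzc
    have hzR : (u' : G)⁻¹ * (u : G) ∈ Q ⊓ Subgroup.centralizer ((R : Subgroup G) : Set G) := by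
      exact Subgroup.mem_inf.mpr ⟨mul_mem (inv_mem hu'Q) huQ,
        h.mem_centralizer_of_commute hyR hy1 hzy⟩
    rw [h.hCQR, Subgroup.mem_bot] at hzR
    have huu : (u : G) = (u' : G) := by
      calc (u : G) = (u' : G) * ((u' : G)⁻¹ * (u : G)) := by group
        _ = (u' : G) := by rw [hzR, mul_one]
    have hvv : (v : G) = (v' : G) := by
      have : (v' : G) * (v : G)⁻¹ = 1 := by rw [← hz]; exact hzR
      calc (v : G) = ((v' : G) * (v : G)⁻¹)⁻¹ * (v' : G) := by group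
        _ = (v' : G) := by rw [this, inv_one, one_mul]
    exact Prod.ext (Subtype.ext huu) (Subtype.ext hvv)
  have hφsurj : Function.Surjective φ := by
    rintro ⟨q, hq⟩
    -- b = q a q⁻¹
    have hbo : orderOf (q * a * q⁻¹) = 2 := by
      have := orderOf_conj' q⁻¹ a
      rw [inv_inv] at this
      rw [this, hao]
    have hbQ : q * a * q⁻¹ ∉ Q := by
      intro h0
      apply haQ
      have : a = q⁻¹ * (q * a * q⁻¹) * q := by group
      rw [this]
      exact mul_mem (mul_mem (inv_mem hq) h0) hq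
    have hbc : q * a * q⁻¹ * (c : G) ∉ Q := by
      intro h0
      apply hyQ
      have : a * (c : G) = q⁻¹ * (q * a * q⁻¹ * (c : G)) * ((c : G)⁻¹ * q * (c : G)) := by group
      rw [this]
      exact mul_mem (mul_mem (inv_mem hq) h0) (by
        have := h.hQn.conj_mem q hq (c : G)⁻¹
        rwa [inv_inv] at this)
    obtain ⟨s, hs, hbD, hcD⟩ := h.claimC hbo hcG hbQ hcQ hbc
    -- s centralizes c
    have hsc : s⁻¹ * (c : G) * s = (c : G) := by
      apply cong hcD c.2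
      have : s⁻¹ * (c : G) * s * (c : G)⁻¹ = s⁻¹ * ((c : G) * s * (c : G)⁻¹) := by group
      rw [this]
      exact mul_mem (inv_mem hs) (h.hQn.conj_mem s hs _)
    -- w = s⁻¹ q centralizes a
    have hwa : s⁻¹ * (q * a * q⁻¹) * s = a := by
      apply cong hbD ha
      have : s⁻¹ * (q * a * q⁻¹) * s * a⁻¹ = (s⁻¹ * q) * (a * (s⁻¹ * q)⁻¹ * a⁻¹) := by group
      rw [this]
      exact mul_mem (mul_mem (inv_mem hs) hq)
        (h.hQn.conj_mem _ (inv_mem (mul_mem (inv_mem hs) hq)) a)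
    have hsC : s ∈ Q ⊓ Subgroup.centralizer ({(c : G)} : Set G) := by
      refine Subgroup.mem_inf.mpr ⟨hs, Subgroup.mem_centralizer_singleton_iff.mpr ?_⟩
      calc s * (c : G) = s * (s⁻¹ * (c : G) * s) := by rw [hsc]
        _ = (c : G) * s := by group
    have hwC : s⁻¹ * q ∈ Q ⊓ Subgroup.centralizer ({a} : Set G) := by
      refine Subgroup.mem_inf.mpr ⟨mul_mem (inv_mem hs) hq,
        Subgroup.mem_centralizer_singleton_iff.mpr ?_⟩
      calc s⁻¹ * q * a = (s⁻¹ * (q * a * q⁻¹) * s) * (s⁻¹ * q) := by group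
        _ = a * (s⁻¹ * q) := by rw [hwa]
    refine ⟨(⟨s, hsC⟩, ⟨s⁻¹ * q, hwC⟩), ?_⟩
    apply Subtype.ext
    show s * (s⁻¹ * q) = q
    group
  have hcard : Nat.card ↥Q = Nat.card ↥(Q ⊓ Subgroup.centralizer ({(c : G)} : Set G)) *
      Nat.card ↥(Q ⊓ Subgroup.centralizer ({a} : Set G)) := by
    rw [← Nat.card_prod]
    exact (Nat.card_congr (Equiv.ofBijective φ ⟨hφinj, hφsurj⟩)).symm
  -- the two centralizers have the same order
  have o3 : orderOf (⟨a, ha⟩ : ↥(Subgroup.normalizer ((R : Subgroup G) : Set G))) = 2 := by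
    rw [Subgroup.orderOf_mk, hao]
  obtain ⟨d, hd⟩ := conj_of_iso e h.hr2 _ _ o3 hco
  have hd' : (d : G) * a * (d : G)⁻¹ = (c : G) := congrArg Subtype.val hd
  have hmap : (Q ⊓ Subgroup.centralizer ({a} : Set G)).map (MulAut.conj (d : G)).toMonoidHom =
      Q ⊓ Subgroup.centralizer ({(c : G)} : Set G) := by
    ext y
    rw [mem_map_conj, Subgroup.mem_inf, Subgroup.mem_inf, Subgroup.mem_centralizer_singleton_iff,
      Subgroup.mem_centralizer_singleton_iff, ← hd']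
    constructor
    · rintro ⟨h1, h2⟩
      refine ⟨?_, ?_⟩
      · have := h.hQn.conj_mem _ h1 (d : G)
        have e1 : (d : G) * ((d : G)⁻¹ * y * (d : G)) * (d : G)⁻¹ = y := by group
        rwa [e1] at this
      · calc y * ((d : G) * a * (d : G)⁻¹)
            = (d : G) * (((d : G)⁻¹ * y * (d : G)) * a) * (d : G)⁻¹ := by group
          _ = (d : G) * (a * ((d : G)⁻¹ * y * (d : G))) * (d : G)⁻¹ := by rw [h2]
          _ = (d : G) * a * (d : G)⁻¹ * y := by group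
    · rintro ⟨h1, h2⟩
      refine ⟨?_, ?_⟩
      · have := h.hQn.conj_mem _ h1 (d : G)⁻¹
        rwa [inv_inv] at this
      · calc (d : G)⁻¹ * y * (d : G) * a
            = (d : G)⁻¹ * (y * ((d : G) * a * (d : G)⁻¹)) * (d : G) := by group
          _ = (d : G)⁻¹ * (((d : G) * a * (d : G)⁻¹) * y) * (d : G) := by rw [h2]
          _ = a * ((d : G)⁻¹ * y * (d : G)) := by group
  have hcc : Nat.card ↥(Q ⊓ Subgroup.centralizer ({(c : G)} : Set G)) =
      Nat.card ↥(Q ⊓ Subgroup.centralizer ({a} : Set G)) := by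
    rw [← hmap, card_map_conj]
  rw [hcard, hcc, pow_two]

end main

end helpers



/-- Let G be a finite group and r an odd prime such that G ⧸ O₂(G) is dihedral of order 2r, and let R be a Sylow r-subgroup of G with C_{O₂(G)}(R) = 1. Then N_G(R) is dihedral of order 2r; for any involution a of N_G(R), every involution of G outside O₂(G) is conjugate to a; and |C_{O₂(G)}(a)|² = |O₂(G)|. -/
theorem result {G : Type*} [Group G] [Finite G] {r : ℕ} [Fact r.Prime] (hr : r ≠ 2) [hN : (Cfsg.pCore 2 G).Normal] (hquot : Nonempty (G ⧸ Cfsg.pCore 2 G ≃* DihedralGroup r)) (R : Sylow r G) (hC : Cfsg.pCore 2 G ⊓ Subgroup.centralizer ((R : Subgroup G) : Set G) = ⊥) : Nonempty (↥(Subgroup.normalizer ((R : Subgroup G) : Set G)) ≃* DihedralGroup r) ∧ ∀ a : G, a ∈ Subgroup.normalizer ((R : Subgroup G) : Set G) → orderOf a = 2 → (∀ b : G, orderOf b = 2 → b ∉ Cfsg.pCore 2 G → ∃ g : G, g * a * g⁻¹ = b) ∧ Nat.card ↥(Cfsg.pCore 2 G ⊓ Subgroup.centralizer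 ({a} : Set G)) ^ 2 = Nat.card ↥(Cfsg.pCore 2 G) := by
  have hrp : r.Prime := Fact.out
  have hcop : Nat.Coprime r 2 := (Nat.coprime_primes hrp Nat.prime_two).mpr hr
  have hQ2 : IsPGroup 2 (Cfsg.pCore 2 G) := Cfsg.Agent.Lib.Lead.pCore_isPGroup 2
  have hidx : (Cfsg.pCore 2 G).index = 2 * r := by
    rw [Subgroup.index_eq_card, Nat.card_congr hquot.some.toEquiv, DihedralGroup.nat_card]
  have hdvdG : r ∣ Nat.card G := by
    rw [← Subgroup.card_mul_index (Cfsg.pCore 2 G), hidx]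
    exact Dvd.dvd.mul_left (Dvd.intro_left 2 rfl) _
  have hRne : (R : Subgroup G) ≠ ⊥ := Sylow.ne_bot_of_dvd_card R hdvdG
  obtain ⟨k, hk⟩ := (IsPGroup.iff_card).mp R.2
  obtain ⟨m, hm⟩ := (IsPGroup.iff_card).mp hQ2
  have hinf : Cfsg.pCore 2 G ⊓ (R : Subgroup G) = ⊥ := by
    apply (Subgroup.disjoint_of_coprime_natCard _).eq_bot
    rw [hk, hm]
    exact Nat.Coprime.pow _ _ hcop.symm
  have hRcard : Nat.card (R : Subgroup G) = r := by
    have h1 : (Cfsg.pCore 2 G).relIndex ((R : Subgroup G) ⊔ Cfsg.pCore 2 G) = Nat.card (R : Subgroup G) := by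
      rw [Subgroup.relIndex_sup_right, ← Subgroup.inf_relIndex_right, hinf,
        Subgroup.relIndex_bot_left]
    have h2 : Nat.card (R : Subgroup G) ∣ 2 * r := by
      rw [← h1, ← hidx]
      exact Subgroup.relIndex_dvd_index_of_le le_sup_right
    rw [hk] at h2 ⊢
    have h3 : r ^ k ∣ r := (Nat.Coprime.pow_left k hcop).dvd_of_dvd_mul_left h2
    have hk1 : k ≤ 1 := by
      by_contra hcon
      push Not at hcon
      have : r ^ 2 ∣ r := (pow_dvd_pow r hcon).trans h3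
      have h4 := Nat.le_of_dvd hrp.pos this
      nlinarith [hrp.two_le]
    have hk0 : k ≠ 0 := by
      intro h0
      apply hRne
      rw [← Subgroup.card_eq_one, hk, h0, pow_zero]
    have : k = 1 := by omega
    rw [this, pow_one]
  have hS : Sit r (Cfsg.pCore 2 G) R :=
    { hQn := hN
      hQ2 := hQ2
      hRcard := hRcard
      hCQR := hC
      hidx := hidx
      hr2 := hr }
  obtain ⟨eD, _⟩ := hS.exists_iso
  have e : ↥(Subgroup.normalizer ((R : Subgroup G) : Set G)) ≃* DihedralGroup r :=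
    eD.trans hquot.some
  refine ⟨⟨e⟩, ?_⟩
  intro a ha hao
  exact ⟨fun b hbo hbQ => hS.conj_involutions e ha hao hbo hbQ, hS.card_sq e ha hao⟩


end Cfsg.Agent.S2873
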