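import Mathlib
import Cfsg.Statements.S2874

set_option autoImplicit false
open Cfsg

namespace Cfsg.Agent.S2874

open scoped commutatorElement

section helpers

/-! ### the structure of `A₄` -/

def c0 : alternatingGroup (Fin 4) := ⟨Equiv.swap 0 1 * Equiv.swap 1 2, by rw [Equiv.Perm.mem_alternatingGroup]; decide⟩
def v0 : alternatingGroup (Fin 4) := ⟨Equiv.swap 0 1 * Equiv.swap 2 3, by rw [Equiv.Perm.mem_alternatingGroup]; decide⟩

theorem A4_c : c0 ^ 3 = 1 ∧ c0 ≠ 1 := by decide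

theorem A4_rel : ∀ a : alternatingGroup (Fin 4),
    (a = v0 ∨ a = c0 * v0 * c0⁻¹ ∨ a = c0 ^ 2 * v0 * (c0 ^ 2)⁻¹) →
    a ^ 2 = 1 ∧ a * (c0 * a * c0⁻¹) = c0 ^ 2 * a * (c0 ^ 2)⁻¹ ∧
      a * (c0 * a * c0⁻¹) = (c0 * a * c0⁻¹) * a ∧ a ≠ 1 := by decide

theorem A4_ne : v0 ≠ c0 * v0 * c0⁻¹ ∧ v0 ≠ c0 ^ 2 * v0 * (c0 ^ 2)⁻¹ ∧
    c0 * v0 * c0⁻¹ ≠ c0 ^ 2 * v0 * (c0 ^ 2)⁻¹ := by decide

theorem A4_gen : ∀ g : alternatingGroup (Fin 4), ∃ a : alternatingGroup (Fin 4),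
    (a = 1 ∨ a = v0 ∨ a = c0 * v0 * c0⁻¹ ∨ a = c0 ^ 2 * v0 * (c0 ^ 2)⁻¹) ∧
    ∃ i : Fin 3, g = a * c0 ^ (i : ℕ) := by decide


theorem A4_struct {K : Type*} [Group K] (e : K ≃* alternatingGroup (Fin 4)) :
    ∃ x b₁ : K, x ^ 3 = 1 ∧ x ≠ 1 ∧
      (∀ b : K, (b = b₁ ∨ b = x * b₁ * x⁻¹ ∨ b = x ^ 2 * b₁ * (x ^ 2)⁻¹) →
        b ^ 2 = 1 ∧ b * (x * b * x⁻¹) = x ^ 2 * b * (x ^ 2)⁻¹ ∧
        b * (x * b * x⁻¹) = (x * b * x⁻¹) * b ∧ b ≠ 1) ∧
      b₁ ≠ x * b₁ * x⁻¹ ∧ b₁ ≠ x ^ 2 * b₁ * (x ^ 2)⁻¹ ∧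
      x * b₁ * x⁻¹ ≠ x ^ 2 * b₁ * (x ^ 2)⁻¹ ∧
      ∀ g : K, ∃ b : K, (b = 1 ∨ b = b₁ ∨ b = x * b₁ * x⁻¹ ∨ b = x ^ 2 * b₁ * (x ^ 2)⁻¹) ∧
        ∃ i : ℕ, g = b * x ^ i := by
  have hx : e (e.symm c0) = c0 := e.apply_symm_apply c0
  have hv : e (e.symm v0) = v0 := e.apply_symm_apply v0
  refine ⟨e.symm c0, e.symm v0, ?_, ?_, ?_, ?_, ?_, ?_, ?_⟩
  · apply e.injective
    rw [map_pow, hx, map_one]
    exact A4_c.1
  · intro h
    apply A4_c.2
    rw [← hx, h, map_one]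
  · intro b hb
    have hb' : e b = v0 ∨ e b = c0 * v0 * c0⁻¹ ∨ e b = c0 ^ 2 * v0 * (c0 ^ 2)⁻¹ := by
      rcases hb with rfl | rfl | rfl
      · exact Or.inl hv
      · right; left
        rw [map_mul, map_mul, map_inv, hx, hv]
      · right; right
        rw [map_mul, map_mul, map_inv, map_pow, hx, hv]
    obtain ⟨h1, h2, h3, h4⟩ := A4_rel (e b) hb'
    refine ⟨?_, ?_, ?_, ?_⟩
    · apply e.injective
      rw [map_pow, map_one]; exact h1
    · apply e.injective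
      rw [map_mul, map_mul, map_mul, map_inv, hx, map_mul, map_mul, map_inv, map_pow, hx]
      exact h2
    · apply e.injective
      rw [map_mul, map_mul, map_mul, map_inv, hx, map_mul, map_mul, map_mul, map_inv, hx]
      exact h3
    · intro h
      apply h4
      rw [h, map_one]
  · intro h
    apply A4_ne.1
    have := congrArg e h
    rwa [map_mul, map_mul, map_inv, hx, hv] at this
  · intro h
    apply A4_ne.2.1
    have := congrArg e h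
    rwa [map_mul, map_mul, map_inv, map_pow, hx, hv] at this
  · intro h
    apply A4_ne.2.2
    have := congrArg e h
    rwa [map_mul, map_mul, map_inv, hx, hv, map_mul, map_mul, map_inv, map_pow, hx, hv] at this
  · intro g
    obtain ⟨a, ha, i, hi⟩ := A4_gen (e g)
    refine ⟨e.symm a, ?_, (i : ℕ), ?_⟩
    · rcases ha with rfl | rfl | rfl | rfl
      · left; exact map_one _
      · right; left; rfl
      · right; right; left
        rw [map_mul, map_mul, map_inv]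
      · right; right; right
        rw [map_mul, map_mul, map_inv, map_pow]
    · apply e.injective
      rw [map_mul, map_pow, hx, e.apply_symm_apply]
      exact hi


theorem A4_struct_sub {G : Type*} [Group G] (H : Subgroup G)
    (e : H ≃* alternatingGroup (Fin 4)) :
    ∃ X B : G, X ∈ H ∧ B ∈ H ∧ X ^ 3 = 1 ∧ X ≠ 1 ∧
      (∀ b : G, (b = B ∨ b = X * B * X⁻¹ ∨ b = X ^ 2 * B * (X ^ 2)⁻¹) →
        b ^ 2 = 1 ∧ b * (X * b * X⁻¹) = X ^ 2 * b * (X ^ 2)⁻¹ ∧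
        b * (X * b * X⁻¹) = (X * b * X⁻¹) * b ∧ b ≠ 1) ∧
      B ≠ X * B * X⁻¹ ∧ B ≠ X ^ 2 * B * (X ^ 2)⁻¹ ∧
      X * B * X⁻¹ ≠ X ^ 2 * B * (X ^ 2)⁻¹ ∧
      ∀ g ∈ H, ∃ b : G, (b = 1 ∨ b = B ∨ b = X * B * X⁻¹ ∨ b = X ^ 2 * B * (X ^ 2)⁻¹) ∧
        ∃ i : ℕ, g = b * X ^ i := by
  obtain ⟨x, b₁, hx3, hx1, hrel, hne1, hne2, hne3, hgen⟩ := A4_struct e
  have key : ∀ b' : H, (b' = b₁ ∨ b' = x * b₁ * x⁻¹ ∨ b' = x ^ 2 * b₁ * (x ^ 2)⁻¹) →
      (b' : G) ^ 2 = 1 ∧ (b' : G) * ((x : G) * b' * (x : G)⁻¹) = (x : G) ^ 2 * b' * ((x : G) ^ 2)⁻¹ ∧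
      (b' : G) * ((x : G) * b' * (x : G)⁻¹) = ((x : G) * b' * (x : G)⁻¹) * b' ∧ (b' : G) ≠ 1 := by
    intro b' hb'
    obtain ⟨h1, h2, h3, h4⟩ := hrel b' hb'
    refine ⟨?_, ?_, ?_, ?_⟩
    · have := congrArg Subtype.val h1
      simpa using this
    · have := congrArg Subtype.val h2
      simpa using this
    · have := congrArg Subtype.val h3
      simpa using this
    · intro h
      exact h4 (Subtype.ext h)
  refine ⟨x, b₁, x.2, b₁.2, ?_, ?_, ?_, ?_, ?_, ?_, ?_⟩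
  · have := congrArg Subtype.val hx3
    simpa using this
  · intro h
    exact hx1 (Subtype.ext h)
  · intro b hb
    rcases hb with rfl | rfl | rfl
    · exact key b₁ (Or.inl rfl)
    · have := key (x * b₁ * x⁻¹) (Or.inr (Or.inl rfl))
      simpa using this
    · have := key (x ^ 2 * b₁ * (x ^ 2)⁻¹) (Or.inr (Or.inr rfl))
      simpa using this
  · intro h
    apply hne1
    apply Subtype.ext
    simpa using h
  · intro h
    apply hne2
    apply Subtype.ext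
    simpa using h
  · intro h
    apply hne3
    apply Subtype.ext
    simpa using h
  · intro g hg
    obtain ⟨b, hb, i, hi⟩ := hgen ⟨g, hg⟩
    refine ⟨b, ?_, i, ?_⟩
    · rcases hb with rfl | rfl | rfl | rfl
      · left; rfl
      · right; left; rfl
      · right; right; left; simp
      · right; right; right; simp
    · have := congrArg Subtype.val hi
      simpa using this

/-! ### matrices over `ℤ/2ᵏ` -/

section mat

open Matrix

theorem F2_cube : ∀ m : Matrix (Fin 2) (Fin 2) (ZMod 2), m ^ 3 = 1 →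
    m = 1 ∨ (m ^ 2 + m + 1 = 0 ∧ m 1 0 = 1 ∧ (m - 1).det = 1) := by decide

variable {k : ℕ}

/-- reduction mod 2 -/
noncomputable def red (hk : 1 ≤ k) : ZMod (2 ^ k) →+* ZMod 2 :=
  ZMod.castHom (dvd_pow_self 2 (by omega)) (ZMod 2)

theorem isUnit_of_red (hk : 1 ≤ k) (t : ZMod (2 ^ k)) (h : red hk t = 1) : IsUnit t := by
  haveI : NeZero (2 ^ k) := ⟨by positivity⟩
  have h1 : ((t.val : ℕ) : ZMod (2 ^ k)) = t := ZMod.natCast_zmod_val t
  rw [← h1] at h ⊢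
  rw [map_natCast] at h
  rw [ZMod.isUnit_iff_coprime]
  have hodd : Odd t.val := (ZMod.natCast_eq_one_iff_odd).1 h
  exact Nat.Coprime.pow_right k (Nat.coprime_two_right.2 hodd)


theorem two_mul_eq_zero (hk : 1 ≤ k) (t : ZMod (2 ^ k)) (h : 2 * t = 0) :
    t = 0 ∨ t = 2 ^ (k - 1) := by
  haveI : NeZero (2 ^ k) := ⟨by positivity⟩
  have h1 : ((t.val : ℕ) : ZMod (2 ^ k)) = t := ZMod.natCast_zmod_val t
  have h2 : ((2 * t.val : ℕ) : ZMod (2 ^ k)) = 0 := by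
    rw [Nat.cast_mul, h1]; exact h
  rw [ZMod.natCast_eq_zero_iff] at h2
  have hlt : t.val < 2 ^ k := ZMod.val_lt t
  obtain ⟨n, hn⟩ : ∃ n, t.val = n := ⟨_, rfl⟩
  rw [hn] at h1 h2 hlt
  have hpow : 2 ^ k = 2 ^ (k - 1) * 2 := by
    rw [← pow_succ]; congr 1; omega
  have h3 : 2 ^ (k - 1) ∣ n := by
    obtain ⟨c, hc⟩ := h2
    rw [hpow] at hc
    exact ⟨c, by nlinarith⟩
  obtain ⟨c, hc⟩ := h3
  have hc2 : c < 2 := by
    by_contra hcon
    have : 2 ^ (k - 1) * 2 ≤ 2 ^ (k - 1) * c := Nat.mul_le_mul_left _ (by omega)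
    omega
  rw [← h1, hc]
  interval_cases c
  · left; simp
  · right; simp

/-- the companion matrix of `x² + x + 1` -/
def Cm (R : Type*) [CommRing R] : Matrix (Fin 2) (Fin 2) R := !![0, -1; 1, -1]

/-- its square -/
def Cm2 (R : Type*) [CommRing R] : Matrix (Fin 2) (Fin 2) R := !![-1, 1; -1, 0]

theorem Cm_mul_Cm2 (R : Type*) [CommRing R] : Cm R * Cm2 R = 1 := by
  ext i j; fin_cases i <;> fin_cases j <;> simp [Cm, Cm2, Matrix.mul_apply, Fin.sum_univ_two]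

theorem Cm2_mul_Cm (R : Type*) [CommRing R] : Cm2 R * Cm R = 1 := by
  ext i j; fin_cases i <;> fin_cases j <;> simp [Cm, Cm2, Matrix.mul_apply, Fin.sum_univ_two]

theorem Cm_mul_Cm (R : Type*) [CommRing R] : Cm R * Cm R = Cm2 R := by
  ext i j; fin_cases i <;> fin_cases j <;> simp [Cm, Cm2, Matrix.mul_apply, Fin.sum_univ_two]

/-- the companion matrix as an element of `GL₂` -/
def Cg (R : Type*) [CommRing R] : GL (Fin 2) R := ⟨Cm R, Cm2 R, Cm_mul_Cm2 R, Cm2_mul_Cm R⟩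

theorem key_linear {R : Type*} [CommRing R] (a : Matrix (Fin 2) (Fin 2) R) (h1 : a * a = 1)
    (h2 : a * (Cm R * a * Cm2 R) = Cm2 R * a * Cm R)
    (h3 : a * (Cm R * a * Cm2 R) = (Cm R * a * Cm2 R) * a) :
    a 0 0 + a 1 1 = 2 ∧ a 1 0 = a 0 1 + a 0 0 - 1 ∧ 2 * a 0 1 = 0 ∧ 2 * (a 0 0 - 1) = 0 := by
  have e1_00 := congrFun (congrFun h1 0) 0
  have e1_01 := congrFun (congrFun h1 0) 1
  have e1_10 := congrFun (congrFun h1 1) 0
  have e1_11 := congrFun (congrFun h1 1) 1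
  have e2_00 := congrFun (congrFun h2 0) 0
  have e2_01 := congrFun (congrFun h2 0) 1
  have e2_10 := congrFun (congrFun h2 1) 0
  have e2_11 := congrFun (congrFun h2 1) 1
  have e3_00 := congrFun (congrFun h3 0) 0
  have e3_01 := congrFun (congrFun h3 0) 1
  have e3_10 := congrFun (congrFun h3 1) 0
  have e3_11 := congrFun (congrFun h3 1) 1
  simp only [Matrix.mul_apply, Fin.sum_univ_two, Cm, Cm2, Matrix.one_apply_eq,
    Matrix.one_apply_ne, Matrix.of_apply, Matrix.cons_val', Matrix.cons_val_zero,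
    Matrix.cons_val_one, Matrix.empty_val', Matrix.cons_val_fin_one, ne_eq, one_ne_zero,
    zero_ne_one, not_false_eq_true, Fin.isValue] at e1_00 e1_01 e1_10 e1_11 e2_00 e2_01 e2_10 e2_11 e3_00 e3_01 e3_10 e3_11
  refine ⟨?_, ?_, ?_, ?_⟩
  · linear_combination e1_00 + e1_11 - e2_00 - e2_11 + e3_00 + e3_01 - e3_10
  · linear_combination -e1_00 - e1_01 + e1_10 + e2_00 + e2_01 - e2_10 - e3_00 - e3_01 + e3_10
  · linear_combination e1_00 + e1_01 - 2 * e1_10 - e1_11 + 2 * e2_10 - e3_10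
  · linear_combination -e1_01 + e1_10 + 2 * e1_11 - 2 * e2_10 - 2 * e2_11 + e3_01


theorem F2_three : ((1 : Matrix (Fin 2) (Fin 2) (ZMod 2)) ^ 2 + 1 + 1) = 1 := by decide

theorem order3_poly (hk : 1 ≤ k) (X : GL (Fin 2) (ZMod (2 ^ k))) (hX3 : X ^ 3 = 1) (hX1 : X ≠ 1) :
    (X : Matrix (Fin 2) (Fin 2) (ZMod (2 ^ k))) ^ 2 + (X : Matrix (Fin 2) (Fin 2) (ZMod (2 ^ k))) + 1 = 0 ∧
      IsUnit ((X : Matrix (Fin 2) (Fin 2) (ZMod (2 ^ k))) 1 0) := by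
  set Xm : Matrix (Fin 2) (Fin 2) (ZMod (2 ^ k)) := (X : Matrix (Fin 2) (Fin 2) (ZMod (2 ^ k))) with hXm
  have hXm3 : Xm ^ 3 = 1 := by
    have := congrArg Units.val hX3
    simpa using this
  have hfac : (Xm - 1) * (Xm ^ 2 + Xm + 1) = 0 := by
    have : (Xm - 1) * (Xm ^ 2 + Xm + 1) = Xm ^ 3 - 1 := by noncomm_ring
    rw [this, hXm3, sub_self]
  have hρ3 : ((red hk).mapMatrix Xm) ^ 3 = 1 := by
    rw [← map_pow, hXm3, map_one]
  have hunit : ∀ M : Matrix (Fin 2) (Fin 2) (ZMod (2 ^ k)),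
      ((red hk).mapMatrix M).det = 1 → IsUnit M := by
    intro M hM
    rw [Matrix.isUnit_iff_isUnit_det]
    apply isUnit_of_red hk
    rw [RingHom.map_det]
    exact hM
  rcases F2_cube _ hρ3 with h | ⟨h1, h2, h3⟩
  · exfalso
    have hY : IsUnit (Xm ^ 2 + Xm + 1) := by
      apply hunit
      rw [map_add, map_add, map_pow, map_one, h, F2_three, Matrix.det_one]
    have : Xm - 1 = 0 := (hY.mul_left_eq_zero).1 hfac
    apply hX1
    apply Units.ext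
    rw [Units.val_one]
    exact sub_eq_zero.1 this
  · have hU : IsUnit (Xm - 1) := by
      apply hunit
      rw [map_sub, map_one]
      exact h3
    refine ⟨(hU.mul_right_eq_zero).1 hfac, ?_⟩
    apply isUnit_of_red hk
    have : ((red hk).mapMatrix Xm) 1 0 = red hk (Xm 1 0) := rfl
    rw [← this, h2]

theorem Cm2_mul_Cm2 (R : Type*) [CommRing R] : Cm2 R * Cm2 R = Cm R := by
  ext i j; fin_cases i <;> fin_cases j <;> simp [Cm, Cm2, Matrix.mul_apply, Fin.sum_univ_two]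

/-- the shape of the involutions -/
def Mm {R : Type*} [CommRing R] (e q : R) : Matrix (Fin 2) (Fin 2) R := !![1 + e, q; q + e, 1 + e]

theorem Mm_zero (R : Type*) [CommRing R] : Mm (0 : R) 0 = 1 := by
  ext i j; fin_cases i <;> fin_cases j <;> simp [Mm]

theorem invol_form {R : Type*} [CommRing R] (a : Matrix (Fin 2) (Fin 2) R) (h1 : a * a = 1)
    (h2 : a * (Cm R * a * Cm2 R) = Cm2 R * a * Cm R)
    (h3 : a * (Cm R * a * Cm2 R) = (Cm R * a * Cm2 R) * a) :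
    2 * (a 0 0 - 1) = 0 ∧ 2 * a 0 1 = 0 ∧ a = Mm (a 0 0 - 1) (a 0 1) := by
  obtain ⟨k1, k2, k3, k4⟩ := key_linear a h1 h2 h3
  refine ⟨k4, k3, ?_⟩
  ext i j; fin_cases i <;> fin_cases j <;> simp [Mm]
  · rw [k2]; ring
  · linear_combination k1 - k4

theorem pigeon3 {α : Type*} [DecidableEq α] (s : Finset α) (hs : s.card ≤ 3) (a b c : α)
    (ha : a ∈ s) (hb : b ∈ s) (hc : c ∈ s) (hab : a ≠ b) (hac : a ≠ c) (hbc : b ≠ c)
    (x : α) (hx : x ∈ s) : x = a ∨ x = b ∨ x = c := by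
  have hsub : ({a, b, c} : Finset α) ⊆ s := by
    intro y hy
    simp only [Finset.mem_insert, Finset.mem_singleton] at hy
    rcases hy with rfl | rfl | rfl <;> assumption
  have hcard : ({a, b, c} : Finset α).card = 3 := Finset.card_eq_three.2 ⟨a, b, c, hab, hac, hbc, rfl⟩
  have := Finset.eq_of_subset_of_card_le hsub (by rw [hcard]; exact hs)
  rw [← this] at hx
  simpa using hx

/-- the standard copy of `A₄` (as a set) -/
def S0 (k : ℕ) : Set (GL (Fin 2) (ZMod (2 ^ k))) :=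
  {g | ∃ e q : ZMod (2 ^ k), 2 * e = 0 ∧ 2 * q = 0 ∧ ∃ i : ℕ,
    (g : Matrix (Fin 2) (Fin 2) (ZMod (2 ^ k))) = Mm e q * Cm (ZMod (2 ^ k)) ^ i}

theorem exists_Q (hk : 1 ≤ k) (X : GL (Fin 2) (ZMod (2 ^ k))) (hX3 : X ^ 3 = 1) (hX1 : X ≠ 1) :
    ∃ Q : GL (Fin 2) (ZMod (2 ^ k)), Q⁻¹ * X * Q = Cg (ZMod (2 ^ k)) := by
  obtain ⟨hpoly, hunit⟩ := order3_poly hk X hX3 hX1
  obtain ⟨u, hu⟩ := hunit
  set Xm : Matrix (Fin 2) (Fin 2) (ZMod (2 ^ k)) := (X : Matrix (Fin 2) (Fin 2) (ZMod (2 ^ k))) with hXm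
  have huu : Xm 1 0 * (↑(u⁻¹) : ZMod (2 ^ k)) = 1 := by rw [← hu]; exact u.mul_inv
  have huu' : (↑(u⁻¹) : ZMod (2 ^ k)) * Xm 1 0 = 1 := by rw [← hu]; exact u.inv_mul
  have hXeta : Xm = !![Xm 0 0, Xm 0 1; Xm 1 0, Xm 1 1] := Matrix.eta_fin_two Xm
  have p00 := congrFun (congrFun hpoly 0) 0
  have p10 := congrFun (congrFun hpoly 1) 0
  rw [pow_two] at p00 p10
  simp only [Matrix.add_apply, Matrix.mul_apply, Fin.sum_univ_two, Matrix.one_apply_eq,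
    Matrix.one_apply_ne, Matrix.zero_apply, ne_eq, one_ne_zero, not_false_eq_true] at p00 p10
  let Q : GL (Fin 2) (ZMod (2 ^ k)) :=
    ⟨!![1, Xm 0 0; 0, Xm 1 0], !![1, -(Xm 0 0) * (↑(u⁻¹) : ZMod (2 ^ k)); 0, (↑(u⁻¹) : ZMod (2 ^ k))], by
      ext i j; fin_cases i <;> fin_cases j <;> simp [Matrix.mul_apply, Fin.sum_univ_two, huu], by
      ext i j; fin_cases i <;> fin_cases j <;> simp [Matrix.mul_apply, Fin.sum_univ_two, huu']
      rw [mul_comm]; linear_combination (-(Xm 0 0)) * huu'⟩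
  refine ⟨Q, ?_⟩
  rw [mul_assoc, inv_mul_eq_iff_eq_mul]
  apply Units.ext
  rw [Units.val_mul, Units.val_mul]
  change Xm * !![1, Xm 0 0; 0, Xm 1 0] = !![1, Xm 0 0; 0, Xm 1 0] * Cm _
  ext i j; fin_cases i <;> fin_cases j <;> simp [Cm, Matrix.mul_apply, Fin.sum_univ_two]
  · linear_combination p00
  · linear_combination p10

theorem normal_form (hk : 1 ≤ k) (H : Subgroup (GL (Fin 2) (ZMod (2 ^ k))))
    (e : H ≃* alternatingGroup (Fin 4)) :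
    ∃ Q : GL (Fin 2) (ZMod (2 ^ k)), ∀ g, g ∈ H ↔ Q⁻¹ * g * Q ∈ S0 k := by
  obtain ⟨X, B, hXH, hBH, hX3, hX1, hrel, hne1, hne2, hne3, hgen⟩ := A4_struct_sub H e
  obtain ⟨Q, hQ⟩ := exists_Q hk X hX3 hX1
  refine ⟨Q, ?_⟩
  set φ : MulAut (GL (Fin 2) (ZMod (2 ^ k))) := MulAut.conj Q⁻¹ with hφdef
  have hφ : ∀ g, Q⁻¹ * g * Q = φ g := by
    intro g; rw [hφdef, MulAut.conj_apply, inv_inv]
  have hφX : φ X = Cg _ := by rw [← hφ]; exact hQ
  have hCgpow : ∀ i : ℕ, ((φ (X ^ i) : GL (Fin 2) (ZMod (2 ^ k))) : Matrix (Fin 2) (Fin 2) (ZMod (2 ^ k)))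
      = Cm _ ^ i := by
    intro i
    rw [map_pow, hφX, Units.val_pow_eq_pow_val]; rfl
  -- form of the three involutions
  have hform : ∀ b : GL (Fin 2) (ZMod (2 ^ k)),
      (b = B ∨ b = X * B * X⁻¹ ∨ b = X ^ 2 * B * (X ^ 2)⁻¹) →
      2 * ((φ b).val 0 0 - 1) = 0 ∧ 2 * (φ b).val 0 1 = 0 ∧
        (φ b).val = Mm ((φ b).val 0 0 - 1) ((φ b).val 0 1) := by
    intro b hb
    obtain ⟨h1, h2, h3, -⟩ := hrel b hb
    have hc2 : ((Cg (ZMod (2 ^ k))) ^ 2).val = Cm2 _ := by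
      rw [Units.val_pow_eq_pow_val, pow_two]; exact Cm_mul_Cm _
    have hc2i : (((Cg (ZMod (2 ^ k))) ^ 2)⁻¹).val = Cm _ := by
      rw [← inv_pow, Units.val_pow_eq_pow_val, pow_two]; exact Cm2_mul_Cm2 _
    apply invol_form
    · have := congrArg (fun t => (φ t).val) h1
      simp only [map_pow, map_one, Units.val_one, Units.val_pow_eq_pow_val] at this
      rw [← pow_two]; exact this
    · have := congrArg (fun t => (φ t).val) h2
      simp only [map_mul, map_inv, map_pow, hφX, Units.val_mul, hc2, hc2i] at this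
      exact this
    · have := congrArg (fun t => (φ t).val) h3
      simp only [map_mul, map_inv, hφX, Units.val_mul] at this
      exact this
  -- the parameters
  set f : GL (Fin 2) (ZMod (2 ^ k)) → ZMod (2 ^ k) × ZMod (2 ^ k) :=
    fun b => ((φ b).val 0 0 - 1, (φ b).val 0 1) with hf
  have hfinj : ∀ b b' : GL (Fin 2) (ZMod (2 ^ k)),
      (b = B ∨ b = X * B * X⁻¹ ∨ b = X ^ 2 * B * (X ^ 2)⁻¹) →
      (b' = B ∨ b' = X * B * X⁻¹ ∨ b' = X ^ 2 * B * (X ^ 2)⁻¹) → f b = f b' → b = b' := by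
    intro b b' hb hb' hff
    obtain ⟨-, -, h3⟩ := hform b hb
    obtain ⟨-, -, h3'⟩ := hform b' hb'
    have h1 : (φ b).val 0 0 - 1 = (φ b').val 0 0 - 1 := congrArg Prod.fst hff
    have h2 : (φ b).val 0 1 = (φ b').val 0 1 := congrArg Prod.snd hff
    apply φ.injective
    apply Units.ext
    rw [h3, h3', h1, h2]
  set h : ZMod (2 ^ k) := 2 ^ (k - 1) with hh
  have hfmem : ∀ b : GL (Fin 2) (ZMod (2 ^ k)),
      (b = B ∨ b = X * B * X⁻¹ ∨ b = X ^ 2 * B * (X ^ 2)⁻¹) →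
      f b ∈ ({(h, 0), (0, h), (h, h)} : Finset (ZMod (2 ^ k) × ZMod (2 ^ k))) := by
    intro b hb
    obtain ⟨h1, h2, h3⟩ := hform b hb
    obtain ⟨-, -, -, hb1⟩ := hrel b hb
    have hne : ¬ ((φ b).val 0 0 - 1 = 0 ∧ (φ b).val 0 1 = 0) := by
      rintro ⟨h4, h5⟩
      apply hb1
      apply φ.injective
      apply Units.ext
      rw [h3, h4, h5, Mm_zero, map_one, Units.val_one]
    simp only [Finset.mem_insert, Finset.mem_singleton, hf, Prod.mk.injEq]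
    rcases two_mul_eq_zero hk _ h1 with h4 | h4 <;> rcases two_mul_eq_zero hk _ h2 with h5 | h5
    · exact absurd ⟨h4, h5⟩ hne
    · right; left; exact ⟨h4, h5⟩
    · left; exact ⟨h4, h5⟩
    · right; right; exact ⟨h4, h5⟩
  have hcover : ∀ e q : ZMod (2 ^ k), 2 * e = 0 → 2 * q = 0 →
      ∃ b ∈ H, (φ b).val = Mm e q := by
    intro e q he hq
    by_cases h0 : e = 0 ∧ q = 0
    · refine ⟨1, H.one_mem, ?_⟩
      rw [h0.1, h0.2, Mm_zero, map_one, Units.val_one]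
    · have hmem : (e, q) ∈ ({(h, 0), (0, h), (h, h)} : Finset (ZMod (2 ^ k) × ZMod (2 ^ k))) := by
        simp only [Finset.mem_insert, Finset.mem_singleton, Prod.mk.injEq]
        rcases two_mul_eq_zero hk _ he with h4 | h4 <;> rcases two_mul_eq_zero hk _ hq with h5 | h5
        · exact absurd ⟨h4, h5⟩ h0
        · right; left; exact ⟨h4, h5⟩
        · left; exact ⟨h4, h5⟩
        · right; right; exact ⟨h4, h5⟩
      have hB1 : (B = B ∨ B = X * B * X⁻¹ ∨ B = X ^ 2 * B * (X ^ 2)⁻¹) := Or.inl rfl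
      have hB2 : (X * B * X⁻¹ = B ∨ X * B * X⁻¹ = X * B * X⁻¹ ∨
          X * B * X⁻¹ = X ^ 2 * B * (X ^ 2)⁻¹) := Or.inr (Or.inl rfl)
      have hB3 : (X ^ 2 * B * (X ^ 2)⁻¹ = B ∨ X ^ 2 * B * (X ^ 2)⁻¹ = X * B * X⁻¹ ∨
          X ^ 2 * B * (X ^ 2)⁻¹ = X ^ 2 * B * (X ^ 2)⁻¹) := Or.inr (Or.inr rfl)
      have hpg := pigeon3 _ Finset.card_le_three (f B) (f (X * B * X⁻¹))
        (f (X ^ 2 * B * (X ^ 2)⁻¹)) (hfmem _ hB1) (hfmem _ hB2) (hfmem _ hB3)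
        (fun hc => hne1 (hfinj _ _ hB1 hB2 hc)) (fun hc => hne2 (hfinj _ _ hB1 hB3 hc))
        (fun hc => hne3 (hfinj _ _ hB2 hB3 hc)) (e, q) hmem
      have hfin : ∀ b : GL (Fin 2) (ZMod (2 ^ k)),
          (b = B ∨ b = X * B * X⁻¹ ∨ b = X ^ 2 * B * (X ^ 2)⁻¹) → b ∈ H → (e, q) = f b →
          ∃ b ∈ H, (φ b).val = Mm e q := by
        intro b hb hbH hfb
        refine ⟨b, hbH, ?_⟩
        obtain ⟨-, -, h3⟩ := hform b hb
        have h1 : e = (φ b).val 0 0 - 1 := congrArg Prod.fst hfb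
        have h2 : q = (φ b).val 0 1 := congrArg Prod.snd hfb
        rw [h1, h2]; exact h3
      have hX2H : X ^ 2 ∈ H := H.pow_mem hXH 2
      rcases hpg with h6 | h6 | h6
      · exact hfin _ hB1 hBH h6
      · exact hfin _ hB2 (H.mul_mem (H.mul_mem hXH hBH) (H.inv_mem hXH)) h6
      · exact hfin _ hB3 (H.mul_mem (H.mul_mem hX2H hBH) (H.inv_mem hX2H)) h6
  intro g
  rw [hφ]
  constructor
  · intro hg
    obtain ⟨b, hb, i, rfl⟩ := hgen g hg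
    rcases hb with rfl | hb
    · refine ⟨0, 0, mul_zero _, mul_zero _, i, ?_⟩
      rw [one_mul, hCgpow, Mm_zero, one_mul]
    · obtain ⟨h1, h2, h3⟩ := hform b hb
      refine ⟨_, _, h1, h2, i, ?_⟩
      rw [map_mul, Units.val_mul, hCgpow, ← h3]
  · rintro ⟨e, q, he, hq, i, hi⟩
    obtain ⟨b, hbH, hb⟩ := hcover e q he hq
    have : g = b * X ^ i := by
      apply φ.injective
      apply Units.ext
      rw [hi, map_mul, Units.val_mul, hCgpow, hb]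
    rw [this]
    exact H.mul_mem hbH (H.pow_mem hXH i)

end mat

end helpers



/-- For k ≥ 2, any two subgroups of GL₂(ℤ/2ᵏℤ) (the automorphism group of the homocyclic group ℤ/2ᵏ × ℤ/2ᵏ) that are isomorphic to the alternating group of degree 4 are conjugate. -/
theorem result (k : ℕ) (hk : 2 ≤ k) (H₁ H₂ : Subgroup (GL (Fin 2) (ZMod (2 ^ k)))) (h₁ : Nonempty (↥H₁ ≃* ↥(alternatingGroup (Fin 4)))) (h₂ : Nonempty (↥H₂ ≃* ↥(alternatingGroup (Fin 4)))) : ∃ g : GL (Fin 2) (ZMod (2 ^ k)), H₂ = H₁.map (MulAut.conj g).toMonoidHom := by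
  obtain ⟨e₁⟩ := h₁
  obtain ⟨e₂⟩ := h₂
  obtain ⟨Q₁, hQ₁⟩ := normal_form (by omega) H₁ e₁
  obtain ⟨Q₂, hQ₂⟩ := normal_form (by omega) H₂ e₂
  refine ⟨Q₂ * Q₁⁻¹, ?_⟩
  ext x
  rw [Subgroup.mem_map]
  constructor
  · intro hx
    refine ⟨(Q₂ * Q₁⁻¹)⁻¹ * x * (Q₂ * Q₁⁻¹), ?_, ?_⟩
    · rw [hQ₁]
      rw [hQ₂] at hx
      have : Q₁⁻¹ * ((Q₂ * Q₁⁻¹)⁻¹ * x * (Q₂ * Q₁⁻¹)) * Q₁ = Q₂⁻¹ * x * Q₂ := by group
      rw [this]; exact hx
    · change (MulAut.conj (Q₂ * Q₁⁻¹)) _ = x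
      rw [MulAut.conj_apply]; group
  · rintro ⟨y, hy, rfl⟩
    change (MulAut.conj (Q₂ * Q₁⁻¹)) y ∈ H₂
    rw [MulAut.conj_apply, hQ₂]
    rw [hQ₁] at hy
    have : Q₂⁻¹ * ((Q₂ * Q₁⁻¹) * y * (Q₂ * Q₁⁻¹)⁻¹) * Q₂ = Q₁⁻¹ * y * Q₁ := by group
    rw [this]; exact hy


end Cfsg.Agent.S2874
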