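import Mathlib
import Cfsg.Agent.Lib.Lead.OddStable
import Cfsg.Agent.Lib.Lead.HallThm
import Cfsg.Agent.Lib.Helper6.PCore
import Cfsg.Statements.S2879

set_option autoImplicit false
open Cfsg

namespace Cfsg.Agent.S2879

open scoped commutatorElement

section helpers

/-! ### automorphisms of odd order of `2`-groups -/

section oddaut

/-- if `α x = d x` with `d` fixed, then `α^k x = d^k x` -/
theorem aut_pow_apply {P : Type*} [Group P] (α : MulAut P) (x d : P) (hx : α x = d * x)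
    (hd : α d = d) : ∀ k : ℕ, (α ^ k) x = d ^ k * x := by
  intro k
  induction k with
  | zero => simp
  | succ k ih =>
    rw [pow_succ', MulAut.mul_apply, ih, map_mul, map_pow, hd, hx, ← mul_assoc, ← pow_succ]

theorem aut_fix_of_fix_quot {P : Type*} [Group P] (hP : IsPGroup 2 P) (α : MulAut P)
    (hα : Odd (orderOf α)) (x : P) (h : α (α x * x⁻¹) = α x * x⁻¹) : α x = x := by
  set d := α x * x⁻¹ with hd
  have hx : α x = d * x := by rw [hd]; group
  have h1 := aut_pow_apply α x d hx h (orderOf α)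
  rw [pow_orderOf_eq_one, MulAut.one_apply] at h1
  have h2 : d ^ orderOf α = 1 := by
    have : d ^ orderOf α * x = 1 * x := by rw [← h1, one_mul]
    exact mul_right_cancel this
  obtain ⟨k, hk⟩ := hP d
  have h3 : orderOf d ∣ Nat.gcd (orderOf α) (2 ^ k) :=
    Nat.dvd_gcd (orderOf_dvd_of_pow_eq_one h2) (orderOf_dvd_of_pow_eq_one hk)
  have h4 : Nat.gcd (orderOf α) (2 ^ k) = 1 := by
    apply Nat.Coprime.pow_right
    exact (Nat.coprime_two_right).mpr hα
  rw [h4, Nat.dvd_one, orderOf_eq_one_iff] at h3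
  rw [hx, h3, one_mul]

/-- a cyclic group has at most one involution -/
theorem invol_unique {P : Type*} [Group P] [Finite P] (d a b : P) (ha : a ∈ Subgroup.zpowers d)
    (hb : b ∈ Subgroup.zpowers d) (ha2 : a ^ 2 = 1) (hb2 : b ^ 2 = 1) (ha1 : a ≠ 1) (hb1 : b ≠ 1) :
    a = b := by
  classical
  by_contra hab
  haveI : Fintype (Subgroup.zpowers d) := Fintype.ofFinite _
  have hcyc : IsCyclic (Subgroup.zpowers d) := inferInstance
  have hle := IsCyclic.card_pow_eq_one_le (α := Subgroup.zpowers d) (n := 2) (by norm_num)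
  have hsub : ({(1 : Subgroup.zpowers d), ⟨a, ha⟩, ⟨b, hb⟩} : Finset (Subgroup.zpowers d)) ⊆
      Finset.univ.filter (fun w : Subgroup.zpowers d => w ^ 2 = 1) := by
    intro w hw
    simp only [Finset.mem_insert, Finset.mem_singleton] at hw
    simp only [Finset.mem_filter, Finset.mem_univ, true_and]
    rcases hw with rfl | rfl | rfl
    · simp
    · exact Subtype.ext ha2
    · exact Subtype.ext hb2
  have hcard : ({(1 : Subgroup.zpowers d), ⟨a, ha⟩, ⟨b, hb⟩} : Finset (Subgroup.zpowers d)).card = 3 := by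
    rw [Finset.card_eq_three]
    refine ⟨1, ⟨a, ha⟩, ⟨b, hb⟩, ?_, ?_, ?_, rfl⟩
    · intro h; exact ha1 (congrArg Subtype.val h).symm
    · intro h; exact hb1 (congrArg Subtype.val h).symm
    · intro h; exact hab (congrArg Subtype.val h)
  have := Finset.card_le_card hsub
  omega

/-- an automorphism of odd order normalizing a cyclic subgroup centralizes it -/
theorem aut_fix_cyclic {P : Type*} [Group P] [Finite P] (hP : IsPGroup 2 P) (α : MulAut P)
    (hα : Odd (orderOf α)) : ∀ m : ℕ, ∀ d : P, d ^ (2 ^ m) = 1 → α d ∈ Subgroup.zpowers d → α d = d := by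
  intro m
  induction m with
  | zero =>
    intro d hd _
    rw [pow_zero, pow_one] at hd
    rw [hd, map_one]
  | succ m ih =>
    intro d hd hαd
    obtain ⟨u, hu⟩ := Subgroup.mem_zpowers_iff.1 hαd
    have h2 : α (d ^ 2) = d ^ 2 := by
      apply ih
      · rw [← pow_mul, ← pow_succ']; exact hd
      · rw [map_pow, ← hu, Subgroup.mem_zpowers_iff]
        refine ⟨u, ?_⟩
        rw [← zpow_natCast, ← zpow_natCast, ← zpow_mul, ← zpow_mul, mul_comm]
    apply aut_fix_of_fix_quot hP α hα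
    set e := α d * d⁻¹ with he
    have heu : e = d ^ (u - 1) := by rw [he, ← hu, zpow_sub, zpow_one]
    have hemem : e ∈ Subgroup.zpowers d := by rw [heu]; exact Subgroup.zpow_mem_zpowers d _
    have hαe : α e ∈ Subgroup.zpowers d := by
      rw [heu, map_zpow, ← hu, ← zpow_mul]; exact Subgroup.zpow_mem_zpowers d _
    have hcomm : Commute (α d) d⁻¹ := by
      rw [← hu]
      exact (Commute.zpow_left (Commute.refl d) u).inv_right
    have he2 : e ^ 2 = 1 := by
      rw [he, hcomm.mul_pow, ← map_pow, h2, inv_pow, mul_inv_cancel]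
    by_cases he1 : e = 1
    · rw [he1, map_one]
    · apply invol_unique d (α e) e hαe hemem
      · rw [← map_pow, he2, map_one]
      · exact he2
      · intro h
        apply he1
        apply α.injective
        rw [h, map_one]
      · exact he1

/-- an automorphism of odd order of a `2`-group normalizing a cyclic subgroup of index at most `2` is trivial -/
theorem aut_trivial {P : Type*} [Group P] [Finite P] (hP : IsPGroup 2 P) (α : MulAut P)
    (hα : Odd (orderOf α)) (d : P) (hd : α d ∈ Subgroup.zpowers d)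
    (hidx : ∀ a b : P, a ∉ Subgroup.zpowers d → b ∉ Subgroup.zpowers d → a * b⁻¹ ∈ Subgroup.zpowers d) :
    α = 1 := by
  obtain ⟨m, hm⟩ := hP d
  have h1 : α d = d := aut_fix_cyclic hP α hα m d hm hd
  have h2 : ∀ y ∈ Subgroup.zpowers d, α y = y := by
    intro y hy
    obtain ⟨k, rfl⟩ := Subgroup.mem_zpowers_iff.1 hy
    rw [map_zpow, h1]
  ext y
  rw [MulAut.one_apply]
  by_cases hy : y ∈ Subgroup.zpowers d
  · exact h2 y hy
  · apply aut_fix_of_fix_quot hP α hα
    apply h2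
    apply hidx _ _ _ hy
    intro h
    apply hy
    have := h2 _ h
    rw [← α.injective this]
    exact h

theorem mem_zpowers_coe {G : Type*} [Group G] (H : Subgroup G) (x y : H) :
    x ∈ Subgroup.zpowers y ↔ (x : G) ∈ Subgroup.zpowers (y : G) := by
  rw [Subgroup.mem_zpowers_iff, Subgroup.mem_zpowers_iff]
  constructor
  · rintro ⟨k, hk⟩
    exact ⟨k, by rw [← hk, Subgroup.coe_zpow]⟩
  · rintro ⟨k, hk⟩
    exact ⟨k, Subtype.ext (by rw [Subgroup.coe_zpow, hk])⟩

/-- the version for conjugation on a normal `2`-subgroup -/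
theorem centralizes_of_normalizes_cyclic {G : Type*} [Group G] [Finite G] (Q : Subgroup G)
    [hQn : Q.Normal] (hQ : IsPGroup 2 Q) (g : G) (hg : Odd (orderOf g)) (d : G) (hdQ : d ∈ Q)
    (hd : g * d * g⁻¹ ∈ Subgroup.zpowers d)
    (hidx : ∀ a ∈ Q, ∀ b ∈ Q, a ∉ Subgroup.zpowers d → b ∉ Subgroup.zpowers d →
      a * b⁻¹ ∈ Subgroup.zpowers d) :
    ∀ q ∈ Q, g * q * g⁻¹ = q := by
  set α : MulAut Q := MulAut.conjNormal g with hα
  have hαodd : Odd (orderOf α) := by
    have : orderOf α ∣ orderOf g := orderOf_map_dvd (MulAut.conjNormal (H := Q)) g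
    exact Odd.of_dvd_nat hg this
  have key : α = 1 := by
    apply aut_trivial hQ α hαodd ⟨d, hdQ⟩
    · rw [mem_zpowers_coe]
      simpa [hα, MulAut.conjNormal_apply] using hd
    · intro a b ha hb
      rw [mem_zpowers_coe] at ha hb ⊢
      have := hidx a a.2 b b.2 ha hb
      simpa using this
  intro q hq
  have := congrArg (fun β : MulAut Q => ((β ⟨q, hq⟩ : Q) : G)) key
  simpa [hα, MulAut.conjNormal_apply] using this

end oddaut

/-! ### the common structure of dihedral and semidihedral `2`-groups -/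

section tspec

/-- a cyclic subgroup of index two with elements outside inverting the element of order `4` -/
def TSpec (S : Type*) [Group S] : Prop :=
  ∃ c c' : S, c' ∈ Subgroup.zpowers c ∧ orderOf c' = 4 ∧
    (∀ a b : S, a ∉ Subgroup.zpowers c → b ∉ Subgroup.zpowers c → a * b⁻¹ ∈ Subgroup.zpowers c) ∧
    (∀ g : S, g ∉ Subgroup.zpowers c → g * c' * g⁻¹ = c'⁻¹ ∧ (g ^ 2 = 1 ∨ g ^ 2 = c' ^ 2))

theorem TSpec.of_equiv {S S' : Type*} [Group S] [Group S'] (e : S ≃* S') (h : TSpec S) : TSpec S' := by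
  obtain ⟨c, c', h1, h2, h3, h4⟩ := h
  have hmem : ∀ w : S', w ∈ Subgroup.zpowers (e c) ↔ e.symm w ∈ Subgroup.zpowers c := by
    intro w
    rw [Subgroup.mem_zpowers_iff, Subgroup.mem_zpowers_iff]
    constructor
    · rintro ⟨k, rfl⟩
      exact ⟨k, by rw [← map_zpow, e.symm_apply_apply]⟩
    · rintro ⟨k, hk⟩
      refine ⟨k, ?_⟩
      rw [← map_zpow, hk, e.apply_symm_apply]
  refine ⟨e c, e c', ?_, ?_, ?_, ?_⟩
  · rw [hmem, e.symm_apply_apply]; exact h1
  · rw [MulEquiv.orderOf_eq]; exact h2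
  · intro a b ha hb
    rw [hmem] at ha hb ⊢
    rw [map_mul, map_inv]
    exact h3 _ _ ha hb
  · intro g hg
    rw [hmem] at hg
    obtain ⟨h5, h6⟩ := h4 _ hg
    refine ⟨?_, ?_⟩
    · apply e.symm.injective
      rw [map_mul, map_mul, map_inv, map_inv, e.symm_apply_apply]
      exact h5
    · rcases h6 with h6 | h6
      · left
        apply e.symm.injective
        rw [map_pow, map_one]; exact h6
      · right
        apply e.symm.injective
        rw [map_pow, map_pow, e.symm_apply_apply]; exact h6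

theorem TSpec.dihedral (n : ℕ) (hn : 4 ∣ n) (hn0 : n ≠ 0) : TSpec (DihedralGroup n) := by
  obtain ⟨m, rfl⟩ := hn
  have hm0 : m ≠ 0 := by rintro rfl; simp at hn0
  have hr : ∀ i : ZMod (4 * m), DihedralGroup.r i ∈ Subgroup.zpowers (DihedralGroup.r (1 : ZMod (4 * m))) := by
    intro i
    haveI : NeZero (4 * m) := ⟨hn0⟩
    rw [Subgroup.mem_zpowers_iff]
    refine ⟨(i.val : ℤ), ?_⟩
    rw [zpow_natCast, DihedralGroup.r_one_pow, ZMod.natCast_zmod_val]
  have hsr : ∀ g : DihedralGroup (4 * m), g ∉ Subgroup.zpowers (DihedralGroup.r (1 : ZMod (4 * m))) →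
      ∃ i, g = DihedralGroup.sr i := by
    intro g hg
    cases g with
    | r i => exact absurd (hr i) hg
    | sr i => exact ⟨i, rfl⟩
  refine ⟨DihedralGroup.r 1, DihedralGroup.r 1 ^ m, Subgroup.npow_mem_zpowers _ _, ?_, ?_, ?_⟩
  · rw [orderOf_pow_of_dvd hm0 (by rw [DihedralGroup.orderOf_r_one]; exact Dvd.intro_left 4 rfl),
      DihedralGroup.orderOf_r_one]
    exact Nat.mul_div_cancel 4 (Nat.pos_of_ne_zero hm0)
  · intro a b ha hb
    obtain ⟨i, rfl⟩ := hsr a ha
    obtain ⟨j, rfl⟩ := hsr b hb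
    rw [DihedralGroup.inv_sr, DihedralGroup.sr_mul_sr]
    exact hr _
  · intro g hg
    obtain ⟨i, rfl⟩ := hsr g hg
    refine ⟨?_, Or.inl ?_⟩
    · rw [DihedralGroup.r_one_pow, DihedralGroup.inv_sr, DihedralGroup.sr_mul_r,
        DihedralGroup.sr_mul_sr, DihedralGroup.inv_r]
      congr 1; ring
    · rw [pow_two, DihedralGroup.sr_mul_self]

theorem TSpec.quasidihedral {S : Type*} [Group S] (h : Cfsg.IsQuasiDihedral S) : TSpec S := by
  obtain ⟨n, hn, hcard, x, y, hx, hy, hyx⟩ := h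
  haveI : Finite S := Nat.finite_of_card_ne_zero (by rw [hcard]; positivity)
  obtain ⟨k, rfl⟩ : ∃ k, n = k + 3 := ⟨n - 3, by omega⟩
  -- notation
  have hx1 : x ^ (2 ^ (k + 3)) = 1 := by rw [← hx]; exact pow_orderOf_eq_one x
  have hy2 : y ^ 2 = 1 := by rw [← hy]; exact pow_orderOf_eq_one y
  have hyinv : y⁻¹ = y := by
    rw [inv_eq_iff_mul_eq_one, ← pow_two]; exact hy2
  have he : (2 : ℕ) ^ (k + 3 - 1) - 1 = 2 ^ (k + 2) - 1 := by
    congr 2
  rw [he] at hyx
  -- `y ∉ ⟨x⟩`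
  have hyC : y ∉ Subgroup.zpowers x := by
    intro hy'
    obtain ⟨u, hu⟩ := Subgroup.mem_zpowers_iff.1 hy'
    have hc : y * x = x * y := by
      rw [← hu]
      exact ((Commute.refl x).zpow_left u).eq
    have h1 : y * x * y⁻¹ = x := by rw [hc]; group
    rw [h1] at hyx
    have h2 : x ^ (2 ^ (k + 2) - 2) = 1 := by
      have h3 : x ^ (2 ^ (k + 2) - 1) = x ^ (2 ^ (k + 2) - 2) * x := by
        rw [← pow_succ]; congr 1
        have : 2 ≤ 2 ^ (k + 2) := by
          calc 2 = 2 ^ 1 := (pow_one 2).symm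
            _ ≤ 2 ^ (k + 2) := Nat.pow_le_pow_right (by norm_num) (by omega)
        omega
      have h4 : x ^ (2 ^ (k + 2) - 2) * x = 1 * x := by rw [← h3, one_mul]; exact hyx.symm
      exact mul_right_cancel h4
    have h5 := orderOf_dvd_of_pow_eq_one h2
    rw [hx] at h5
    have h6 : 4 ≤ 2 ^ (k + 2) := by
      calc 4 = 2 ^ 2 := by norm_num
        _ ≤ 2 ^ (k + 2) := Nat.pow_le_pow_right (by norm_num) (by omega)
    have h7 := Nat.le_of_dvd (by omega) h5
    have h8 : 2 ^ (k + 3) = 2 * 2 ^ (k + 2) := by rw [pow_succ]; ring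
    omega
  -- index two
  have hidx2 : (Subgroup.zpowers x).index = 2 := by
    have h1 := Subgroup.card_mul_index (Subgroup.zpowers x)
    rw [Nat.card_zpowers, hx, hcard, pow_succ 2 (k + 3)] at h1
    exact Nat.eq_of_mul_eq_mul_left (by positivity) h1
  have hidx : ∀ a b : S, a ∉ Subgroup.zpowers x → b ∉ Subgroup.zpowers x →
      a * b⁻¹ ∈ Subgroup.zpowers x := by
    intro a b ha hb
    rw [Subgroup.mul_mem_iff_of_index_two hidx2]
    constructor
    · intro h; exact absurd h ha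
    · intro h; exact absurd ((Subgroup.inv_mem_iff _).1 h) hb
  -- conjugation of powers
  have hconj : ∀ t : ℕ, y * x ^ t * y⁻¹ = x ^ ((2 ^ (k + 2) - 1) * t) := by
    intro t
    rw [← conj_pow, hyx, ← pow_mul]
  refine ⟨x, x ^ (2 ^ (k + 1)), Subgroup.npow_mem_zpowers _ _, ?_, hidx, ?_⟩
  · rw [orderOf_pow_of_dvd (by positivity) (by rw [hx]; exact pow_dvd_pow 2 (by omega)), hx]
    rw [show k + 3 = (k + 1) + 2 by ring, pow_add]
    rw [Nat.mul_div_cancel_left _ (by positivity)]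
    norm_num
  · intro g hg
    have hgy : g * y⁻¹ ∈ Subgroup.zpowers x := hidx g y hg hyC
    obtain ⟨t, ht⟩ : ∃ t : ℕ, x ^ t = g * y⁻¹ := by
      have := (mem_powers_iff_mem_zpowers (x := x) (y := g * y⁻¹)).2 hgy
      exact (Submonoid.mem_powers_iff _ _).1 this
    have hg' : g = x ^ t * y := by rw [ht]; group
    subst hg'
    refine ⟨?_, ?_⟩
    · have e1 : x ^ t * y * x ^ 2 ^ (k + 1) * (x ^ t * y)⁻¹
          = x ^ t * (y * x ^ 2 ^ (k + 1) * y⁻¹) * (x ^ t)⁻¹ := by group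
      rw [e1, hconj]
      have e2 : x ^ t * x ^ ((2 ^ (k + 2) - 1) * 2 ^ (k + 1)) * (x ^ t)⁻¹
          = x ^ ((2 ^ (k + 2) - 1) * 2 ^ (k + 1)) := by
        rw [← pow_add, mul_inv_eq_iff_eq_mul, ← pow_add, add_comm]
      rw [e2, eq_inv_iff_mul_eq_one, ← pow_add]
      have e3 : (2 ^ (k + 2) - 1) * 2 ^ (k + 1) + 2 ^ (k + 1) = 2 ^ (k + 3) * 2 ^ k := by
        have h6 : 1 ≤ 2 ^ (k + 2) := Nat.one_le_two_pow
        have : (2 ^ (k + 2) - 1) * 2 ^ (k + 1) + 2 ^ (k + 1) = 2 ^ (k + 2) * 2 ^ (k + 1) := by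
          rw [Nat.sub_mul, one_mul]
          have : 2 ^ (k + 1) ≤ 2 ^ (k + 2) * 2 ^ (k + 1) := Nat.le_mul_of_pos_left _ (by positivity)
          omega
        rw [this, ← pow_add, ← pow_add]; congr 1; ring
      rw [e3, pow_mul, hx1, one_pow]
    · have e1 : (x ^ t * y) ^ 2 = x ^ t * (y * x ^ t * y⁻¹) * y ^ 2 := by
        rw [pow_two, pow_two]; group
      rw [e1, hconj, hy2, mul_one, ← pow_add]
      have e2 : t + (2 ^ (k + 2) - 1) * t = 2 ^ (k + 2) * t := by
        have h6 : 1 ≤ 2 ^ (k + 2) := Nat.one_le_two_pow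
        rw [Nat.sub_mul, one_mul]
        have : t ≤ 2 ^ (k + 2) * t := Nat.le_mul_of_pos_left _ (by positivity)
        omega
      rw [e2, pow_mul, ← pow_mul x (2 ^ (k + 1)) 2]
      have e3 : 2 ^ (k + 1) * 2 = 2 ^ (k + 2) := by rw [← pow_succ]
      rw [e3]
      set z := x ^ 2 ^ (k + 2) with hz
      have hz2 : z ^ 2 = 1 := by
        rw [hz, ← pow_mul, ← pow_succ]; exact hx1
      rcases Nat.even_or_odd' t with ⟨s, hs | hs⟩
      · left; rw [hs, pow_mul, hz2, one_pow]
      · right; rw [hs, pow_succ, pow_mul, hz2, one_pow, one_mul]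

/-- the structure as a subgroup -/
theorem TSpec.sub {G : Type*} [Group G] (T : Subgroup G) (h : TSpec T) :
    ∃ c c' : G, c ∈ T ∧ c' ∈ Subgroup.zpowers c ∧ orderOf c' = 4 ∧
      (∀ a ∈ T, ∀ b ∈ T, a ∉ Subgroup.zpowers c → b ∉ Subgroup.zpowers c →
        a * b⁻¹ ∈ Subgroup.zpowers c) ∧
      (∀ g ∈ T, g ∉ Subgroup.zpowers c → g * c' * g⁻¹ = c'⁻¹ ∧ (g ^ 2 = 1 ∨ g ^ 2 = c' ^ 2)) := by
  obtain ⟨c, c', h1, h2, h3, h4⟩ := h
  refine ⟨c, c', c.2, (mem_zpowers_coe T c' c).1 h1, ?_, ?_, ?_⟩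
  · rw [Subgroup.orderOf_coe]; exact h2
  · intro a ha b hb hac hbc
    have := h3 ⟨a, ha⟩ ⟨b, hb⟩ (by rw [mem_zpowers_coe]; exact hac) (by rw [mem_zpowers_coe]; exact hbc)
    rw [mem_zpowers_coe] at this
    simpa using this
  · intro g hg hgc
    obtain ⟨h5, h6⟩ := h4 ⟨g, hg⟩ (by rw [mem_zpowers_coe]; exact hgc)
    refine ⟨?_, ?_⟩
    · have := congrArg Subtype.val h5
      simpa using this
    · rcases h6 with h6 | h6
      · left
        have := congrArg Subtype.val h6
        simpa using this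
      · right
        have := congrArg Subtype.val h6
        simpa using this

end tspec

/-! ### the structure of `O₂(G)` -/

section qstruct

theorem cyc4 {G : Type*} [Group G] [Finite G] (c c' w : G) (hc' : c' ∈ Subgroup.zpowers c)
    (ho : orderOf c' = 4) (hw : w ∈ Subgroup.zpowers c) (hw4 : w ^ 4 = 1) :
    w ∈ Subgroup.zpowers c' := by
  classical
  haveI : Fintype (Subgroup.zpowers c) := Fintype.ofFinite _
  have hle := IsCyclic.card_pow_eq_one_le (α := Subgroup.zpowers c) (n := 4) (by norm_num)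
  set c'' : Subgroup.zpowers c := ⟨c', hc'⟩ with hc''
  have ho' : orderOf c'' = 4 := by rw [← Subgroup.orderOf_coe]; exact ho
  set A : Finset (Subgroup.zpowers c) := (Finset.range 4).image (fun a => c'' ^ a) with hAdef
  have hA : A.card = 4 := by
    rw [Finset.card_image_of_injOn, Finset.card_range]
    intro a ha b hb hab
    have ha' : a < orderOf c'' := by rw [ho']; simpa using ha
    have hb' : b < orderOf c'' := by rw [ho']; simpa using hb
    exact pow_injOn_Iio_orderOf ha' hb' hab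
  have hsub : A ⊆ Finset.univ.filter (fun y : Subgroup.zpowers c => y ^ 4 = 1) := by
    intro y hy
    obtain ⟨a, -, rfl⟩ := Finset.mem_image.1 hy
    simp only [Finset.mem_filter, Finset.mem_univ, true_and]
    rw [← pow_mul, mul_comm, pow_mul, ← ho', pow_orderOf_eq_one, one_pow]
  have heq := Finset.eq_of_subset_of_card_le hsub (by rw [hA]; exact hle)
  have hwA : (⟨w, hw⟩ : Subgroup.zpowers c) ∈ A := by
    rw [heq]
    simp only [Finset.mem_filter, Finset.mem_univ, true_and]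
    exact Subtype.ext hw4
  obtain ⟨a, -, ha⟩ := Finset.mem_image.1 hwA
  have h1 := congrArg Subtype.val ha
  simp only [Subgroup.coe_pow, hc''] at h1
  rw [← h1]; exact Subgroup.npow_mem_zpowers _ _

theorem eq_or_inv_of_mem {G : Type*} [Group G] [Finite G] (c' d : G) (ho : orderOf c' = 4)
    (hd : d ∈ Subgroup.zpowers c') (hd2 : d ^ 2 ≠ 1) : d = c' ∨ d = c'⁻¹ := by
  have h4 : c' ^ 4 = 1 := by rw [← ho]; exact pow_orderOf_eq_one c'
  have := (mem_powers_iff_mem_zpowers (x := c') (y := d)).2 hd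
  obtain ⟨a, rfl⟩ := (Submonoid.mem_powers_iff _ _).1 this
  have hmod : c' ^ a = c' ^ (a % 4) := by
    conv_lhs => rw [← Nat.div_add_mod a 4]
    rw [pow_add, pow_mul, h4, one_pow, one_mul]
  rw [hmod] at hd2 ⊢
  have : a % 4 < 4 := Nat.mod_lt _ (by norm_num)
  interval_cases (a % 4)
  · simp at hd2
  · left; simp
  · exfalso; apply hd2; rw [← pow_mul]; exact h4
  · right
    rw [eq_inv_iff_mul_eq_one, ← pow_succ]; exact h4

/-- the quaternion structure of `Q` -/
structure Q8S {G : Type*} [Group G] (Q : Subgroup G) (i : G) : Prop where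
  mem : i ∈ Q
  i4 : i ^ 4 = 1
  i2 : i ^ 2 ≠ 1
  ex : ∃ s ∈ Q, s ∉ Subgroup.zpowers i
  idx : ∀ a ∈ Q, ∀ b ∈ Q, a ∉ Subgroup.zpowers i → b ∉ Subgroup.zpowers i →
    a * b⁻¹ ∈ Subgroup.zpowers i
  out : ∀ y ∈ Q, y ∉ Subgroup.zpowers i → y * i * y⁻¹ = i⁻¹ ∧ y ^ 2 = i ^ 2

theorem exists_gen_inf_zpowers {G : Type*} [Group G] (Q : Subgroup G) (c : G) :
    ∃ d : G, Subgroup.zpowers d = Q ⊓ Subgroup.zpowers c := by
  have hle : Q ⊓ Subgroup.zpowers c ≤ Subgroup.zpowers c := inf_le_right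
  haveI : IsCyclic ((Q ⊓ Subgroup.zpowers c).subgroupOf (Subgroup.zpowers c)) := inferInstance
  have hcyc : IsCyclic ↥(Q ⊓ Subgroup.zpowers c) :=
    isCyclic_of_surjective (Subgroup.subgroupOfEquivOfLe hle).toMonoidHom
      (Subgroup.subgroupOfEquivOfLe hle).surjective
  obtain ⟨d, hd⟩ := hcyc.exists_generator
  refine ⟨(d : G), ?_⟩
  apply le_antisymm
  · rw [Subgroup.zpowers_le]; exact d.2
  · intro y hy
    have := hd ⟨y, hy⟩
    rw [mem_zpowers_coe] at this
    exact this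

theorem Q_struct {G : Type*} [Group G] [Finite G] (Q T : Subgroup G) [hQn : Q.Normal]
    (hQ2 : IsPGroup 2 Q) (hQT : Q ≤ T) (hT8 : 8 ≤ Nat.card T)
    (hQmax : ∀ N : Subgroup G, N.Normal → IsPGroup 2 N → N ≤ Q)
    (hCQ : Subgroup.centralizer (Q : Set G) ≤ Q) (hT2 : IsPGroup 2 T)
    (hZ : (T ⊓ Subgroup.centralizer (T : Set G)).Normal) (hT : TSpec T)
    (g : G) (hg : Odd (orderOf g)) (hg1 : g ≠ 1) : ∃ i : G, Q8S Q i := by
  obtain ⟨c, c', hcT, hc'c, ho, hidx, hout⟩ := hT.sub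
  have hc'4 : c' ^ 4 = 1 := by rw [← ho]; exact pow_orderOf_eq_one c'
  have hc'2 : c' ^ 2 ≠ 1 := by
    intro h
    have := orderOf_dvd_of_pow_eq_one h
    rw [ho] at this
    omega
  have hCT : Subgroup.zpowers c ≤ T := by rw [Subgroup.zpowers_le]; exact hcT
  -- `g` does not centralize `Q`
  have hgQ : ¬ ∀ q ∈ Q, g * q * g⁻¹ = q := by
    intro h
    have h1 : g ∈ Subgroup.centralizer (Q : Set G) := by
      rw [Subgroup.mem_centralizer_iff]
      intro q hq
      have := h q hq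
      calc q * g = (g * q * g⁻¹) * g := by rw [this]
        _ = g * q := by group
    have h2 : g ∈ Q := hCQ h1
    obtain ⟨k, hk⟩ := hQ2 ⟨g, h2⟩
    have h3 : g ^ (2 ^ k) = 1 := by
      have := congrArg Subtype.val hk
      simpa using this
    have h4 : orderOf g ∣ Nat.gcd (orderOf g) (2 ^ k) :=
      Nat.dvd_gcd dvd_rfl (orderOf_dvd_of_pow_eq_one h3)
    have h5 : Nat.gcd (orderOf g) (2 ^ k) = 1 :=
      Nat.Coprime.pow_right _ ((Nat.coprime_two_right).mpr hg)
    rw [h5, Nat.dvd_one, orderOf_eq_one_iff] at h4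
    exact hg1 h4
  have star : ∀ d ∈ Q, (∀ a ∈ Q, ∀ b ∈ Q, a ∉ Subgroup.zpowers d → b ∉ Subgroup.zpowers d →
      a * b⁻¹ ∈ Subgroup.zpowers d) → g * d * g⁻¹ ∉ Subgroup.zpowers d := by
    intro d hd hi hcon
    exact hgQ (centralizes_of_normalizes_cyclic Q hQ2 g hg d hd hcon hi)
  obtain ⟨d, hd⟩ := exists_gen_inf_zpowers Q c
  have hdmem : d ∈ Q ⊓ Subgroup.zpowers c := by rw [← hd]; exact Subgroup.mem_zpowers d
  have hdQ : d ∈ Q := hdmem.1
  have hdC : d ∈ Subgroup.zpowers c := hdmem.2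
  have hidxd : ∀ a ∈ Q, ∀ b ∈ Q, a ∉ Subgroup.zpowers d → b ∉ Subgroup.zpowers d →
      a * b⁻¹ ∈ Subgroup.zpowers d := by
    intro a ha b hb had hbd
    rw [hd] at had hbd ⊢
    have hac : a ∉ Subgroup.zpowers c := fun h => had ⟨ha, h⟩
    have hbc : b ∉ Subgroup.zpowers c := fun h => hbd ⟨hb, h⟩
    exact ⟨Q.mul_mem ha (Q.inv_mem hb), hidx a (hQT ha) b (hQT hb) hac hbc⟩
  set w := g * d * g⁻¹ with hw
  have hwQ : w ∈ Q := hQn.conj_mem d hdQ g
  have hwd : w ∉ Subgroup.zpowers d := star d hdQ hidxd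
  have hwC : w ∉ Subgroup.zpowers c := by
    intro h
    apply hwd
    rw [hd]; exact ⟨hwQ, h⟩
  obtain ⟨hw1, hw2⟩ := hout w (hQT hwQ) hwC
  have hw2' : w ^ 2 = g * d ^ 2 * g⁻¹ := by rw [hw, conj_pow]
  by_cases hd2 : d ^ 2 = 1
  · -- the four-group case
    exfalso
    set z := c' ^ 2 with hz
    have hzC : z ∈ Subgroup.zpowers c := Subgroup.pow_mem _ hc'c 2
    have hz2 : z ^ 2 = 1 := by rw [hz, ← pow_mul]; exact hc'4
    -- `z` is central in `T`
    have hzZ : z ∈ T ⊓ Subgroup.centralizer (T : Set G) := by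
      rw [Subgroup.mem_inf]
      refine ⟨hCT hzC, ?_⟩
      rw [Subgroup.mem_centralizer_iff]
      intro t ht
      by_cases htC : t ∈ Subgroup.zpowers c
      · obtain ⟨a, rfl⟩ := Subgroup.mem_zpowers_iff.1 htC
        obtain ⟨b, hb⟩ := Subgroup.mem_zpowers_iff.1 hzC
        rw [← hb, ← zpow_add, ← zpow_add, add_comm]
      · obtain ⟨h1, -⟩ := hout t ht htC
        have h2 : t * z * t⁻¹ = z := by
          rw [hz, ← conj_pow, h1, inv_pow, inv_eq_iff_mul_eq_one, ← pow_add]; exact hc'4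
        calc t * z = (t * z * t⁻¹) * t := by group
          _ = z * t := by rw [h2]
    have hZQ : T ⊓ Subgroup.centralizer (T : Set G) ≤ Q := by
      apply hQmax _ hZ
      exact hT2.to_le inf_le_left
    have hzQ : z ∈ Q := hZQ hzZ
    have hzd : z ∈ Subgroup.zpowers d := by rw [hd]; exact ⟨hzQ, hzC⟩
    -- `z = d`
    have hdz : Subgroup.zpowers d = Subgroup.zpowers z := by
      apply le_antisymm
      · rw [Subgroup.zpowers_le]
        obtain ⟨a, ha⟩ := Subgroup.mem_zpowers_iff.1 hzd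
        rcases Int.even_or_odd' a with ⟨b, hb | hb⟩
        · exfalso
          rw [hb, zpow_mul, zpow_ofNat, hd2, one_zpow] at ha
          exact hc'2 ha.symm
        · rw [hb, zpow_add, zpow_mul, zpow_ofNat, hd2, one_zpow, one_mul, zpow_one] at ha
          rw [ha]; exact Subgroup.mem_zpowers z
      · rw [Subgroup.zpowers_le]; exact hzd
    have hidxz : ∀ a ∈ Q, ∀ b ∈ Q, a ∉ Subgroup.zpowers z → b ∉ Subgroup.zpowers z →
        a * b⁻¹ ∈ Subgroup.zpowers z := by
      rw [← hdz]; exact hidxd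
    set v := g * z * g⁻¹ with hv
    have hvz : v ∉ Subgroup.zpowers z := star z hzQ hidxz
    have hvZ : v ∈ T ⊓ Subgroup.centralizer (T : Set G) := hZ.conj_mem z hzZ g
    have hvQ : v ∈ Q := hZQ hvZ
    -- `Q ≤ Z(T)`
    have hzpZ : Subgroup.zpowers z ≤ T ⊓ Subgroup.centralizer (T : Set G) := by
      rw [Subgroup.zpowers_le]; exact hzZ
    have hQZ : Q ≤ T ⊓ Subgroup.centralizer (T : Set G) := by
      intro q hq
      by_cases hqz : q ∈ Subgroup.zpowers z
      · exact hzpZ hqz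
      · have h1 := hidxz q hq v hvQ hqz hvz
        have h2 := Subgroup.mul_mem _ (hzpZ h1) hvZ
        simpa using h2
    have hTQ : T ≤ Q := by
      intro t ht
      apply hCQ
      rw [Subgroup.mem_centralizer_iff]
      intro q hq
      have := (Subgroup.mem_inf.1 (hQZ hq)).2
      rw [Subgroup.mem_centralizer_iff] at this
      exact (this t ht).symm
    -- count
    have hsub : (Q : Set G) ⊆ ({1, z, v, z * v} : Set G) := by
      intro q hq
      have hz' : ∀ y ∈ Subgroup.zpowers z, y = 1 ∨ y = z := by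
        intro y hy
        obtain ⟨a, rfl⟩ := Subgroup.mem_zpowers_iff.1 hy
        rcases Int.even_or_odd' a with ⟨b, hb | hb⟩
        · left; rw [hb, zpow_mul, zpow_ofNat, hz2, one_zpow]
        · right; rw [hb, zpow_add, zpow_mul, zpow_ofNat, hz2, one_zpow, one_mul, zpow_one]
      by_cases hqz : q ∈ Subgroup.zpowers z
      · rcases hz' q hqz with h | h
        · left; exact h
        · right; left; exact h
      · have h1 := hidxz q hq v hvQ hqz hvz
        rcases hz' _ h1 with h | h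
        · right; right; left
          rw [mul_inv_eq_one] at h; exact h
        · right; right; right
          rw [mul_inv_eq_iff_eq_mul] at h; exact h
    have hcardQ : Nat.card Q ≤ 4 := by
      have h1 : Nat.card Q = (Q : Set G).ncard := rfl
      rw [h1]
      calc (Q : Set G).ncard ≤ ({1, z, v, z * v} : Set G).ncard :=
            Set.ncard_le_ncard hsub (Set.toFinite _)
        _ ≤ 4 := by
            classical
            have : ({1, z, v, z * v} : Set G) = (({1, z, v, z * v} : Finset G) : Set G) := by simp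
            rw [this, Set.ncard_coe_finset]
            exact Finset.card_le_four
    have : Nat.card T ≤ Nat.card Q := Subgroup.card_le_of_le hTQ
    omega
  · -- `d` has order four
    have hw4 : w ^ 4 = 1 := by
      rcases hw2 with h | h
      · rw [show (4 : ℕ) = 2 * 2 by norm_num, pow_mul, h, one_pow]
      · rw [show (4 : ℕ) = 2 * 2 by norm_num, pow_mul, h, ← pow_mul]; exact hc'4
    have hd4 : d ^ 4 = 1 := by
      have h1 : w ^ 4 = g * d ^ 4 * g⁻¹ := by rw [hw, conj_pow]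
      rw [hw4] at h1
      have h2 : d ^ 4 = g⁻¹ * (g * d ^ 4 * g⁻¹) * g := by group
      rw [h2, ← h1]; group
    have hdc' : d ∈ Subgroup.zpowers c' := cyc4 c c' d hc'c ho hdC hd4
    have hzeq : Subgroup.zpowers d = Subgroup.zpowers c' := by
      rcases eq_or_inv_of_mem c' d ho hdc' hd2 with h | h
      · rw [h]
      · rw [h, Subgroup.zpowers_inv]
    have hc'Q : c' ∈ Q := by
      have : c' ∈ Subgroup.zpowers d := by rw [hzeq]; exact Subgroup.mem_zpowers c'
      rw [hd] at this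
      exact this.1
    have hwne : w ^ 2 ≠ 1 := by
      intro h
      rw [hw2'] at h
      apply hd2
      have h2 : d ^ 2 = g⁻¹ * (g * d ^ 2 * g⁻¹) * g := by group
      rw [h2, h]; group
    have hw2'' : w ^ 2 = c' ^ 2 := by
      rcases hw2 with h | h
      · exact absurd h hwne
      · exact h
    refine ⟨c', hc'Q, hc'4, hc'2, ⟨w, hwQ, by rw [← hzeq]; exact hwd⟩, ?_, ?_⟩
    · rw [← hzeq]; exact hidxd
    · intro y hy hyc'
      have hyC : y ∉ Subgroup.zpowers c := by
        intro h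
        apply hyc'
        rw [← hzeq, hd]; exact ⟨hy, h⟩
      obtain ⟨hy1, -⟩ := hout y (hQT hy) hyC
      refine ⟨hy1, ?_⟩
      -- `y = q w` with `q ∈ ⟨c'⟩`
      have hq : y * w⁻¹ ∈ Subgroup.zpowers c' := by
        rw [← hzeq]
        exact hidxd y hy w hwQ (by rw [hzeq]; exact hyc') hwd
      obtain ⟨a, ha⟩ := Subgroup.mem_zpowers_iff.1 hq
      have hy' : y = c' ^ a * w := by rw [ha]; group
      have hwinv : w * c' ^ a * w⁻¹ = (c' ^ a)⁻¹ := by
        rw [← conj_zpow, hw1, inv_zpow]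
      have e1 : (c' ^ a * w) ^ 2 = c' ^ a * (w * c' ^ a * w⁻¹) * w ^ 2 := by
        rw [pow_two, pow_two]; group
      rw [hy', e1, hwinv, mul_inv_cancel, one_mul, hw2'']

end qstruct

/-! ### the order of `G / O₂(G)` -/

section order

theorem eq_one_of_odd_of_mem {G : Type*} [Group G] {Q : Subgroup G} (hQ2 : IsPGroup 2 Q) {k : G}
    (hk : k ∈ Q) (hodd : Odd (orderOf k)) : k = 1 := by
  obtain ⟨m, hm⟩ := hQ2 ⟨k, hk⟩
  have h3 : k ^ (2 ^ m) = 1 := by
    have := congrArg Subtype.val hm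
    simpa using this
  have h4 : orderOf k ∣ Nat.gcd (orderOf k) (2 ^ m) :=
    Nat.dvd_gcd dvd_rfl (orderOf_dvd_of_pow_eq_one h3)
  have h5 : Nat.gcd (orderOf k) (2 ^ m) = 1 :=
    Nat.Coprime.pow_right _ ((Nat.coprime_two_right).mpr hodd)
  rw [h5, Nat.dvd_one, orderOf_eq_one_iff] at h4
  exact h4

theorem Q8S.orderOf_i {G : Type*} [Group G] {Q : Subgroup G} {i : G} (h : Q8S Q i) : orderOf i = 4 := by
  have h1 : orderOf i ∣ 4 := orderOf_dvd_of_pow_eq_one h.i4
  have h2 : ¬ orderOf i ∣ 2 := fun hd => h.i2 (orderOf_dvd_iff_pow_eq_one.1 hd)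
  have h3 : orderOf i ≤ 4 := Nat.le_of_dvd (by norm_num) h1
  interval_cases (orderOf i) <;> simp_all

theorem Q8S.card {G : Type*} [Group G] [Finite G] {Q : Subgroup G} {i : G} (h : Q8S Q i) :
    Nat.card Q = 8 := by
  obtain ⟨s, hsQ, hs⟩ := h.ex
  have hle : Subgroup.zpowers i ≤ Q := by rw [Subgroup.zpowers_le]; exact h.mem
  have hidx : ((Subgroup.zpowers i).subgroupOf Q).index = 2 := by
    rw [Subgroup.index_eq_two_iff]
    refine ⟨⟨s, hsQ⟩⁻¹, ?_⟩
    intro b
    simp only [Subgroup.mem_subgroupOf, Subgroup.coe_mul, Subgroup.coe_inv]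
    by_cases hb : (b : G) ∈ Subgroup.zpowers i
    · right
      refine ⟨hb, ?_⟩
      intro hbs
      apply hs
      have := Subgroup.mul_mem _ (Subgroup.inv_mem _ hbs) hb
      simpa using this
    · left
      exact ⟨h.idx b b.2 s hsQ hb hs, hb⟩
  have h1 := Subgroup.card_mul_index ((Subgroup.zpowers i).subgroupOf Q)
  have h2 : Nat.card ((Subgroup.zpowers i).subgroupOf Q) = 4 := by
    rw [Nat.card_congr (Subgroup.subgroupOfEquivOfLe hle).toEquiv, Nat.card_zpowers, h.orderOf_i]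
  rw [hidx, h2] at h1
  omega

/-- elements of odd order normalizing `⟨i⟩` are trivial -/
theorem Q8S.eq_one_of_normalizes {G : Type*} [Group G] [Finite G] {Q : Subgroup G} [Q.Normal] {i : G}
    (h : Q8S Q i) (hQ2 : IsPGroup 2 Q) (hCQ : Subgroup.centralizer (Q : Set G) ≤ Q)
    (k : G) (hodd : Odd (orderOf k)) (hk : k * i * k⁻¹ ∈ Subgroup.zpowers i) : k = 1 := by
  have h1 := centralizes_of_normalizes_cyclic Q hQ2 k hodd i h.mem hk h.idx
  have h2 : k ∈ Subgroup.centralizer (Q : Set G) := by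
    rw [Subgroup.mem_centralizer_iff]
    intro q hq
    have := h1 q hq
    calc q * k = (k * q * k⁻¹) * k := by rw [this]
      _ = k * q := by group
  exact eq_one_of_odd_of_mem hQ2 (hCQ h2) hodd

theorem Q8S.odd_card_le {G : Type*} [Group G] [Finite G] {Q : Subgroup G} [hQn : Q.Normal] {i : G}
    (h : Q8S Q i) (hQ2 : IsPGroup 2 Q) (hCQ : Subgroup.centralizer (Q : Set G) ≤ Q)
    (H : Subgroup G) (hH : Odd (Nat.card H)) : Nat.card H ≤ 3 := by
  have hodd : ∀ k : H, Odd (orderOf (k : G)) := by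
    intro k
    rw [Subgroup.orderOf_coe]
    exact Odd.of_dvd_nat hH (orderOf_dvd_natCard k)
  have hi_ne : i ≠ i⁻¹ := by
    intro hc
    apply h.i2
    rw [pow_two]
    nth_rewrite 1 [hc]
    exact inv_mul_cancel i
  have hiQ : i⁻¹ ∈ Q := Q.inv_mem h.mem
  -- the map
  let e : Bool → G := fun b => if b then i else i⁻¹
  have heQ : ∀ b, e b ∈ Q := by
    intro b; cases b
    · exact hiQ
    · exact h.mem
  have he2 : ∀ b, (e b) ^ 2 ≠ 1 := by
    intro b; cases b
    · show (i⁻¹) ^ 2 ≠ 1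
      rw [inv_pow]
      intro hc
      exact h.i2 (inv_eq_one.1 hc)
    · exact h.i2
  have hez : ∀ b b', ∀ k : G, k * e b * k⁻¹ = e b' → k * i * k⁻¹ ∈ Subgroup.zpowers i := by
    intro b b' k hk
    have hb' : e b' ∈ Subgroup.zpowers i := by
      cases b'
      · exact Subgroup.inv_mem _ (Subgroup.mem_zpowers i)
      · exact Subgroup.mem_zpowers i
    cases b
    · have : k * i * k⁻¹ = (k * i⁻¹ * k⁻¹)⁻¹ := by group
      rw [this]
      apply Subgroup.inv_mem
      have hk' : k * i⁻¹ * k⁻¹ = e b' := hk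
      rw [hk']; exact hb'
    · have hk' : k * i * k⁻¹ = e b' := hk
      rw [hk']; exact hb'
  let F : (H × Bool) ⊕ Bool → Q := fun t =>
    match t with
    | Sum.inl (k, b) => ⟨(k : G) * e b * (k : G)⁻¹, hQn.conj_mem _ (heQ b) _⟩
    | Sum.inr false => 1
    | Sum.inr true => ⟨i ^ 2, Q.pow_mem h.mem 2⟩
  have hF : Function.Injective F := by
    intro t t' htt
    have hval := congrArg Subtype.val htt
    rcases t with ⟨k, b⟩ | b <;> rcases t' with ⟨k', b'⟩ | b'
    · have h1 : (k : G) * e b * (k : G)⁻¹ = (k' : G) * e b' * (k' : G)⁻¹ := hval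
      have h2 : ((k' : G)⁻¹ * (k : G)) * e b * ((k' : G)⁻¹ * (k : G))⁻¹ = e b' := by
        have : ((k' : G)⁻¹ * (k : G)) * e b * ((k' : G)⁻¹ * (k : G))⁻¹
            = (k' : G)⁻¹ * ((k : G) * e b * (k : G)⁻¹) * (k' : G) := by group
        rw [this, h1]; group
      have h3 := hez b b' _ h2
      have h4 : (k' : G)⁻¹ * (k : G) = 1 := by
        apply h.eq_one_of_normalizes hQ2 hCQ _ _ h3
        have := hodd (k'⁻¹ * k)
        simpa using this
      have hkk : k = k' := by
        apply Subtype.ext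
        have : (k : G) = (k' : G) * ((k' : G)⁻¹ * (k : G)) := by group
        rw [this, h4, mul_one]
      subst hkk
      have h5 : e b = e b' := by
        rw [h4] at h2
        simpa using h2
      have hbb : b = b' := by
        cases b <;> cases b'
        · rfl
        · exact absurd h5.symm hi_ne
        · exact absurd h5 hi_ne
        · rfl
      rw [hbb]
    · exfalso
      cases b'
      · have h1 : (k : G) * e b * (k : G)⁻¹ = 1 := hval
        have h2 : e b = 1 := by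
          have : e b = (k : G)⁻¹ * ((k : G) * e b * (k : G)⁻¹) * (k : G) := by group
          rw [this, h1]; group
        apply he2 b
        rw [h2, one_pow]
      · have h1 : (k : G) * e b * (k : G)⁻¹ = i ^ 2 := hval
        have h2 : (k : G) * (e b) ^ 2 * (k : G)⁻¹ = 1 := by
          rw [← conj_pow, h1, ← pow_mul]; exact h.i4
        apply he2 b
        have : (e b) ^ 2 = (k : G)⁻¹ * ((k : G) * (e b) ^ 2 * (k : G)⁻¹) * (k : G) := by group
        rw [this, h2]; group
    · exfalso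
      cases b
      · have h1 : (1 : G) = (k' : G) * e b' * (k' : G)⁻¹ := hval
        have h2 : e b' = 1 := by
          have : e b' = (k' : G)⁻¹ * ((k' : G) * e b' * (k' : G)⁻¹) * (k' : G) := by group
          rw [this, ← h1]; group
        apply he2 b'
        rw [h2, one_pow]
      · have h1 : i ^ 2 = (k' : G) * e b' * (k' : G)⁻¹ := hval
        have h2 : (k' : G) * (e b') ^ 2 * (k' : G)⁻¹ = 1 := by
          rw [← conj_pow, ← h1, ← pow_mul]; exact h.i4
        apply he2 b'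
        have : (e b') ^ 2 = (k' : G)⁻¹ * ((k' : G) * (e b') ^ 2 * (k' : G)⁻¹) * (k' : G) := by group
        rw [this, h2]; group
    · cases b <;> cases b'
      · rfl
      · exfalso
        have h1 : (1 : G) = i ^ 2 := hval
        exact h.i2 h1.symm
      · exfalso
        have h1 : i ^ 2 = (1 : G) := hval
        exact h.i2 h1
      · rfl
  have hcard := Nat.card_le_card_of_injective F hF
  rw [h.card, Nat.card_sum, Nat.card_prod] at hcard
  simp only [Nat.card_eq_fintype_card, Fintype.card_bool] at hcard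
  omega

theorem exists_U {G : Type*} [Group G] [Finite G] [Group.IsSolvable G] (Q : Subgroup G)
    [hQn : Q.Normal] (hQ2 : IsPGroup 2 Q)
    (hQmax : ∀ N : Subgroup G, N.Normal → IsPGroup 2 N → N ≤ Q)
    (hCQ : Subgroup.centralizer (Q : Set G) ≤ Q) {i : G} (h : Q8S Q i) (hQtop : Q ≠ ⊤) :
    ∃ U : Subgroup G, U.Normal ∧ Q ≤ U ∧ Nat.card U = 24 := by
  haveI : Nontrivial (G ⧸ Q) := QuotientGroup.nontrivial_iff.2 hQtop
  obtain ⟨p, M, hp, hMn, -, hMp, hMne, -⟩ :=
    Cfsg.Agent.Lib.Lead.exists_normal_abelian_pgroup (G := G ⧸ Q)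
  haveI : Fact p.Prime := ⟨hp⟩
  set N : Subgroup G := M.comap (QuotientGroup.mk' Q) with hN
  have hNn : N.Normal := hMn.comap _
  have hQN : Q ≤ N := by
    intro q hq
    rw [hN, Subgroup.mem_comap]
    have : (QuotientGroup.mk' Q) q = 1 := (QuotientGroup.eq_one_iff q).2 hq
    rw [this]; exact M.one_mem
  -- cardinality
  have hcardN : Nat.card N = Nat.card M * Nat.card Q := by
    have h1 := Subgroup.card_mul_index N
    have h2 : N.index = M.index :=
      Subgroup.index_comap_of_surjective M (QuotientGroup.mk'_surjective Q)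
    have h3 := Subgroup.card_mul_index M
    have h4 := Subgroup.card_eq_card_quotient_mul_card_subgroup Q
    have hpos : 0 < M.index := Nat.pos_of_ne_zero Subgroup.index_ne_zero_of_finite
    rw [h2] at h1
    have : Nat.card N * M.index = (Nat.card M * Nat.card Q) * M.index := by
      rw [h1, h4, ← h3]; ring
    exact Nat.eq_of_mul_eq_mul_right hpos this
  obtain ⟨k, hk⟩ := IsPGroup.iff_card.1 hMp
  have hk0 : k ≠ 0 := by
    rintro rfl
    rw [pow_zero] at hk
    exact hMne (Subgroup.card_eq_one.1 hk)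
  rw [h.card, hk] at hcardN
  have hp2 : p ≠ 2 := by
    rintro rfl
    apply hMne
    have hN2 : IsPGroup 2 N := by
      apply IsPGroup.of_card (n := k + 3)
      rw [hcardN, pow_add]; norm_num
    have hNQ : N ≤ Q := hQmax N hNn hN2
    rw [eq_bot_iff]
    intro m hm
    obtain ⟨g, rfl⟩ := QuotientGroup.mk'_surjective Q m
    have hgN : g ∈ N := by rw [hN, Subgroup.mem_comap]; exact hm
    rw [Subgroup.mem_bot]
    exact (QuotientGroup.eq_one_iff g).2 (hNQ hgN)
  -- the Sylow `p`-subgroups of `G` are small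
  obtain ⟨P⟩ : Nonempty (Sylow p G) := inferInstance
  have hPodd : Odd (Nat.card P) := by
    obtain ⟨e, he⟩ := IsPGroup.iff_card.1 P.isPGroup'
    rw [he]
    apply Odd.pow
    exact hp.odd_of_ne_two hp2
  have hP3 : Nat.card P ≤ 3 := h.odd_card_le hQ2 hCQ P hPodd
  have hdvd : p ^ k ∣ Nat.card G := by
    have h1 : Nat.card M ∣ Nat.card (G ⧸ Q) := Subgroup.card_subgroup_dvd_card M
    have h2 : Nat.card (G ⧸ Q) ∣ Nat.card G := by
      rw [Subgroup.card_eq_card_quotient_mul_card_subgroup Q]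
      exact Dvd.intro _ rfl
    rw [hk] at h1
    exact h1.trans h2
  have hdvd' := P.pow_dvd_card_of_pow_dvd_card hdvd
  have hle : p ^ k ≤ 3 := (Nat.le_of_dvd Nat.card_pos hdvd').trans hP3
  have hp3 : 3 ≤ p := by
    have := hp.two_le
    omega
  have hpk : p ^ k = 3 := by
    have h1 : p ^ 1 ≤ p ^ k := Nat.pow_le_pow_right (by omega) (Nat.one_le_iff_ne_zero.2 hk0)
    rw [pow_one] at h1
    omega
  refine ⟨N, hNn, hQN, ?_⟩
  rw [hcardN, hpk]

end order

/-! ### recognition of `SL₂(3)` -/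

section recog

variable {H : Type*} [Group H]

/-- the defining relations of `SL₂(3) = Q₈ ⋊ C₃` -/
structure Rel (i j x : H) : Prop where
  i4 : i ^ 4 = 1
  j2 : j ^ 2 = i ^ 2
  ji : j * i * j⁻¹ = i⁻¹
  x3 : x ^ 3 = 1
  xi : x * i * x⁻¹ = j
  xj : x * j * x⁻¹ = i * j

variable {i j x : H}

/-- the quaternion normal forms -/
def QF (i j : H) : Set H := {g | ∃ a b : ℕ, g = i ^ a * j ^ b}

theorem Rel.inv_i (h : Rel i j x) : i⁻¹ = i ^ 3 := by
  rw [inv_eq_iff_mul_eq_one, ← pow_succ']; exact h.i4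

theorem Rel.j_mul_i (h : Rel i j x) : j * i = i ^ 3 * j := by
  have := h.ji
  rw [h.inv_i] at this
  rw [← this]; group

theorem Rel.j_mul_pow (h : Rel i j x) (c : ℕ) : j * i ^ c = i ^ (3 * c) * j := by
  induction c with
  | zero => simp
  | succ c ih =>
    rw [pow_succ, ← mul_assoc, ih, mul_assoc, h.j_mul_i, ← mul_assoc, ← pow_add]
    congr 2

theorem Rel.pow_j_mul_i (h : Rel i j x) (b : ℕ) : ∃ c : ℕ, j ^ b * i = i ^ c * j ^ b := by
  induction b with
  | zero => exact ⟨1, by simp⟩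
  | succ b ih =>
    obtain ⟨c, hc⟩ := ih
    refine ⟨3 * c, ?_⟩
    rw [pow_succ', mul_assoc, hc, ← mul_assoc, h.j_mul_pow, mul_assoc]

theorem Rel.QF_mul_i (h : Rel i j x) {g : H} (hg : g ∈ QF i j) : g * i ∈ QF i j := by
  obtain ⟨a, b, rfl⟩ := hg
  obtain ⟨c, hc⟩ := h.pow_j_mul_i b
  exact ⟨a + c, b, by rw [mul_assoc, hc, ← mul_assoc, ← pow_add]⟩

theorem Rel.QF_mul_j (h : Rel i j x) {g : H} (hg : g ∈ QF i j) : g * j ∈ QF i j := by
  obtain ⟨a, b, rfl⟩ := hg
  exact ⟨a, b + 1, by rw [mul_assoc, ← pow_succ]⟩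

theorem Rel.QF_one (h : Rel i j x) : (1 : H) ∈ QF i j := ⟨0, 0, by simp⟩

theorem Rel.QF_mul_pow_i (h : Rel i j x) {g : H} (hg : g ∈ QF i j) (c : ℕ) : g * i ^ c ∈ QF i j := by
  induction c with
  | zero => simpa using hg
  | succ c ih => rw [pow_succ, ← mul_assoc]; exact h.QF_mul_i ih

theorem Rel.QF_mul_pow_j (h : Rel i j x) {g : H} (hg : g ∈ QF i j) (c : ℕ) : g * j ^ c ∈ QF i j := by
  induction c with
  | zero => simpa using hg
  | succ c ih => rw [pow_succ, ← mul_assoc]; exact h.QF_mul_j ih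

theorem Rel.QF_mul (h : Rel i j x) {g k : H} (hg : g ∈ QF i j) (hk : k ∈ QF i j) : g * k ∈ QF i j := by
  obtain ⟨a, b, rfl⟩ := hk
  rw [← mul_assoc]
  exact h.QF_mul_pow_j (h.QF_mul_pow_i hg a) b

theorem Rel.QF_pow (h : Rel i j x) {g : H} (hg : g ∈ QF i j) (n : ℕ) : g ^ n ∈ QF i j := by
  induction n with
  | zero => rw [pow_zero]; exact h.QF_one
  | succ n ih => rw [pow_succ]; exact h.QF_mul ih hg

theorem Rel.QF_i (h : Rel i j x) : i ∈ QF i j := ⟨1, 0, by simp⟩
theorem Rel.QF_j (h : Rel i j x) : j ∈ QF i j := ⟨0, 1, by simp⟩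

theorem Rel.QF_conj (h : Rel i j x) {g : H} (hg : g ∈ QF i j) : x * g * x⁻¹ ∈ QF i j := by
  obtain ⟨a, b, rfl⟩ := hg
  have e : x * (i ^ a * j ^ b) * x⁻¹ = (x * i * x⁻¹) ^ a * (x * j * x⁻¹) ^ b := by
    rw [conj_pow, conj_pow]; group
  rw [e, h.xi, h.xj]
  exact h.QF_mul (h.QF_pow h.QF_j a) (h.QF_pow (h.QF_mul h.QF_i h.QF_j) b)

theorem Rel.QF_conj_pow (h : Rel i j x) {g : H} (hg : g ∈ QF i j) (t : ℕ) :
    x ^ t * g * (x ^ t)⁻¹ ∈ QF i j := by
  induction t with
  | zero => simpa using hg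
  | succ t ih =>
    have e : x ^ (t + 1) * g * (x ^ (t + 1))⁻¹ = x * (x ^ t * g * (x ^ t)⁻¹) * x⁻¹ := by
      rw [pow_succ']; group
    rw [e]; exact h.QF_conj ih

/-- the full normal forms -/
def NF (i j x : H) : Set H := {g | ∃ q ∈ QF i j, ∃ t : ℕ, g = q * x ^ t}

theorem Rel.NF_mul_QF (h : Rel i j x) {g k : H} (hg : g ∈ NF i j x) (hk : k ∈ QF i j) :
    g * k ∈ NF i j x := by
  obtain ⟨q, hq, t, rfl⟩ := hg
  refine ⟨q * (x ^ t * k * (x ^ t)⁻¹), h.QF_mul hq (h.QF_conj_pow hk t), t, ?_⟩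
  group

theorem Rel.NF_mul_x (h : Rel i j x) {g : H} (hg : g ∈ NF i j x) : g * x ∈ NF i j x := by
  obtain ⟨q, hq, t, rfl⟩ := hg
  exact ⟨q, hq, t + 1, by rw [mul_assoc, ← pow_succ]⟩

theorem Rel.inv_j (h : Rel i j x) : j⁻¹ = j ^ 3 := by
  rw [inv_eq_iff_mul_eq_one, ← pow_succ']
  have : j ^ 4 = (j ^ 2) ^ 2 := by rw [← pow_mul]
  rw [this, h.j2, ← pow_mul]; exact h.i4

theorem Rel.inv_x (h : Rel i j x) : x⁻¹ = x ^ 2 := by
  rw [inv_eq_iff_mul_eq_one, ← pow_succ']; exact h.x3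

theorem Rel.closure_le (h : Rel i j x) : ((Subgroup.closure ({i, j, x} : Set H) : Subgroup H) : Set H) ⊆ NF i j x := by
  intro g hg
  induction hg using Subgroup.closure_induction_right with
  | one => exact ⟨1, h.QF_one, 0, by simp⟩
  | mul_right g y hg hy ih =>
    rcases hy with rfl | rfl | rfl
    · exact h.NF_mul_QF ih h.QF_i
    · exact h.NF_mul_QF ih h.QF_j
    · exact h.NF_mul_x ih
  | mul_inv_cancel g y hg hy ih =>
    rcases hy with rfl | rfl | rfl
    · rw [h.inv_i]; exact h.NF_mul_QF ih (h.QF_pow h.QF_i 3)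
    · rw [h.inv_j]; exact h.NF_mul_QF ih (h.QF_pow h.QF_j 3)
    · rw [h.inv_x, pow_two, ← mul_assoc]; exact h.NF_mul_x (h.NF_mul_x ih)

/-- reduction of the exponents -/
theorem Rel.NF_bounded (h : Rel i j x) {g : H} (hg : g ∈ NF i j x) :
    ∃ a : Fin 4, ∃ b : Fin 2, ∃ t : Fin 3, g = i ^ (a : ℕ) * j ^ (b : ℕ) * x ^ (t : ℕ) := by
  obtain ⟨q, ⟨a, b, rfl⟩, t, rfl⟩ := hg
  have hj : j ^ b = i ^ (2 * (b / 2)) * j ^ (b % 2) := by
    conv_lhs => rw [← Nat.div_add_mod b 2]
    rw [pow_add, pow_mul, h.j2, ← pow_mul]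
  have hi : ∀ n : ℕ, i ^ n = i ^ (n % 4) := by
    intro n
    conv_lhs => rw [← Nat.div_add_mod n 4]
    rw [pow_add, pow_mul, h.i4, one_pow, one_mul]
  have hx : x ^ t = x ^ (t % 3) := by
    conv_lhs => rw [← Nat.div_add_mod t 3]
    rw [pow_add, pow_mul, h.x3, one_pow, one_mul]
  refine ⟨⟨(a + 2 * (b / 2)) % 4, Nat.mod_lt _ (by norm_num)⟩, ⟨b % 2, Nat.mod_lt _ (by norm_num)⟩,
    ⟨t % 3, Nat.mod_lt _ (by norm_num)⟩, ?_⟩
  simp only
  rw [← hi, ← hx, hj, ← mul_assoc, ← pow_add]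

theorem Rel.card_closure_le (h : Rel i j x) :
    Nat.card (Subgroup.closure ({i, j, x} : Set H)) ≤ 24 := by
  classical
  have key : ∀ g : Subgroup.closure ({i, j, x} : Set H), ∃ a : Fin 4 × Fin 2 × Fin 3,
      (g : H) = i ^ (a.1 : ℕ) * j ^ (a.2.1 : ℕ) * x ^ (a.2.2 : ℕ) := by
    intro g
    obtain ⟨a, b, t, hg⟩ := h.NF_bounded (h.closure_le g.2)
    exact ⟨(a, b, t), hg⟩
  choose f hf using key
  have hinj : Function.Injective f := by
    intro g g' hgg
    apply Subtype.ext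
    rw [hf g, hf g', hgg]
  have := Nat.card_le_card_of_injective f hinj
  simpa using this

end recog

section model

open Matrix

/-- generators of the model -/
def I0 : SpecialLinearGroup (Fin 2) (ZMod 3) := ⟨!![0, 1; 2, 0], by decide⟩
def J0 : SpecialLinearGroup (Fin 2) (ZMod 3) := ⟨!![2, 1; 1, 1], by decide⟩
def X0 : SpecialLinearGroup (Fin 2) (ZMod 3) := ⟨!![1, 0; 1, 1], by decide⟩

theorem rel0 : Rel I0 J0 X0 :=
  ⟨by decide, by decide, by decide, by decide, by decide, by decide⟩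

theorem gen0_aux : ∀ g : SpecialLinearGroup (Fin 2) (ZMod 3),
    ∃ a : Fin 4, ∃ b : Fin 2, ∃ t : Fin 3, g = I0 ^ (a : ℕ) * J0 ^ (b : ℕ) * X0 ^ (t : ℕ) := by decide

theorem gen0 : Subgroup.closure ({I0, J0, X0} : Set (SpecialLinearGroup (Fin 2) (ZMod 3))) = ⊤ := by
  rw [eq_top_iff]
  intro g _
  obtain ⟨a, b, t, rfl⟩ := gen0_aux g
  have hI : I0 ∈ Subgroup.closure ({I0, J0, X0} : Set (SpecialLinearGroup (Fin 2) (ZMod 3))) :=
    Subgroup.subset_closure (by simp)
  have hJ : J0 ∈ Subgroup.closure ({I0, J0, X0} : Set (SpecialLinearGroup (Fin 2) (ZMod 3))) :=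
    Subgroup.subset_closure (by simp)
  have hX : X0 ∈ Subgroup.closure ({I0, J0, X0} : Set (SpecialLinearGroup (Fin 2) (ZMod 3))) :=
    Subgroup.subset_closure (by simp)
  exact Subgroup.mul_mem _ (Subgroup.mul_mem _ (Subgroup.pow_mem _ hI _) (Subgroup.pow_mem _ hJ _))
    (Subgroup.pow_mem _ hX _)

theorem card0 : Nat.card (SpecialLinearGroup (Fin 2) (ZMod 3)) = 24 := by
  rw [Nat.card_eq_fintype_card]; decide

/-- a group of order `24` generated by elements satisfying the relations is `SL₂(3)` -/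
theorem recog {U : Type*} [Group U] (hU : Nat.card U = 24) {i j x : U} (h : Rel i j x)
    (hgen : Subgroup.closure ({i, j, x} : Set U) = ⊤) :
    Nonempty (U ≃* SpecialLinearGroup (Fin 2) (ZMod 3)) := by
  haveI : Finite U := Nat.finite_of_card_ne_zero (by omega)
  set D : Subgroup (SpecialLinearGroup (Fin 2) (ZMod 3) × U) :=
    Subgroup.closure ({(I0, i), (J0, j), (X0, x)} : Set (SpecialLinearGroup (Fin 2) (ZMod 3) × U)) with hD
  have hrel : Rel ((I0, i) : SpecialLinearGroup (Fin 2) (ZMod 3) × U) (J0, j) (X0, x) :=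
    ⟨Prod.ext rel0.i4 h.i4, Prod.ext rel0.j2 h.j2, Prod.ext rel0.ji h.ji, Prod.ext rel0.x3 h.x3,
      Prod.ext rel0.xi h.xi, Prod.ext rel0.xj h.xj⟩
  have hcard : Nat.card D ≤ 24 := hrel.card_closure_le
  set π₁ : D →* SpecialLinearGroup (Fin 2) (ZMod 3) :=
    (MonoidHom.fst (SpecialLinearGroup (Fin 2) (ZMod 3)) U).comp D.subtype with hπ₁
  set π₂ : D →* U := (MonoidHom.snd (SpecialLinearGroup (Fin 2) (ZMod 3)) U).comp D.subtype with hπ₂
  have hs1 : Function.Surjective π₁ := by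
    rw [← MonoidHom.range_eq_top, hπ₁, MonoidHom.range_comp, Subgroup.range_subtype, hD,
      MonoidHom.map_closure]
    have : (MonoidHom.fst (SpecialLinearGroup (Fin 2) (ZMod 3)) U) ''
        ({(I0, i), (J0, j), (X0, x)} : Set (SpecialLinearGroup (Fin 2) (ZMod 3) × U)) = {I0, J0, X0} := by
      simp [Set.image_insert_eq]
    rw [this]; exact gen0
  have hs2 : Function.Surjective π₂ := by
    rw [← MonoidHom.range_eq_top, hπ₂, MonoidHom.range_comp, Subgroup.range_subtype, hD,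
      MonoidHom.map_closure]
    have : (MonoidHom.snd (SpecialLinearGroup (Fin 2) (ZMod 3)) U) ''
        ({(I0, i), (J0, j), (X0, x)} : Set (SpecialLinearGroup (Fin 2) (ZMod 3) × U)) = {i, j, x} := by
      simp [Set.image_insert_eq]
    rw [this]; exact hgen
  have hb1 : Function.Bijective π₁ :=
    hs1.bijective_of_nat_card_le (by rw [card0]; exact hcard)
  have hb2 : Function.Bijective π₂ :=
    hs2.bijective_of_nat_card_le (by rw [hU]; exact hcard)
  exact ⟨(MulEquiv.ofBijective π₂ hb2).symm.trans (MulEquiv.ofBijective π₁ hb1)⟩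

end model

/-! ### the relations -/

section relations

theorem Rel.sub {G : Type*} [Group G] (U : Subgroup G) {i j x : G} (hi : i ∈ U) (hj : j ∈ U)
    (hx : x ∈ U) (h : Rel i j x) : Rel (⟨i, hi⟩ : U) ⟨j, hj⟩ ⟨x, hx⟩ :=
  ⟨Subtype.ext (by simpa using h.i4), Subtype.ext (by simpa using h.j2),
    Subtype.ext (by simpa using h.ji), Subtype.ext (by simpa using h.x3),
    Subtype.ext (by simpa using h.xi), Subtype.ext (by simpa using h.xj)⟩

theorem exists_rel {G : Type*} [Group G] [Finite G] (Q : Subgroup G) [hQn : Q.Normal]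
    (hQ2 : IsPGroup 2 Q) (hCQ : Subgroup.centralizer (Q : Set G) ≤ Q) {i : G} (h : Q8S Q i)
    (x : G) (hx : orderOf x = 3) :
    ∃ i' j' : G, i' ∈ Q ∧ j' ∈ Q ∧ Rel i' j' x ∧ Q ≤ Subgroup.closure ({i', j', x} : Set G) := by
  have hx3 : x ^ 3 = 1 := by rw [← hx]; exact pow_orderOf_eq_one x
  have hx1 : x ≠ 1 := by
    intro h1
    rw [h1, orderOf_one] at hx
    omega
  have hxodd : Odd (orderOf x) := by rw [hx]; decide
  have hx2odd : Odd (orderOf (x ^ 2)) := by
    have : orderOf (x ^ 2) ∣ 3 := by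
      apply orderOf_dvd_of_pow_eq_one
      rw [← pow_mul, show 2 * 3 = 3 * 2 by norm_num, pow_mul, hx3, one_pow]
    exact Odd.of_dvd_nat (by decide) this
  have hx2ne : x ^ 2 ≠ 1 := by
    intro h2
    apply hx1
    have : x = x ^ 3 * (x ^ 2)⁻¹ := by group
    rw [this, hx3, h2]; simp
  set j := x * i * x⁻¹ with hj
  have hjQ : j ∈ Q := hQn.conj_mem i h.mem x
  have hji : j ∉ Subgroup.zpowers i := by
    intro hc
    exact hx1 (h.eq_one_of_normalizes hQ2 hCQ x hxodd hc)
  obtain ⟨hj1, hj2⟩ := h.out j hjQ hji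
  set k := x * j * x⁻¹ with hk
  have hkQ : k ∈ Q := hQn.conj_mem j hjQ x
  have hki : k ∉ Subgroup.zpowers i := by
    intro hc
    apply hx2ne
    apply h.eq_one_of_normalizes hQ2 hCQ (x ^ 2) hx2odd
    have : x ^ 2 * i * (x ^ 2)⁻¹ = k := by rw [hk, hj, pow_two]; group
    rw [this]; exact hc
  have hkj : k ∉ Subgroup.zpowers j := by
    intro hc
    obtain ⟨n, hn⟩ := Subgroup.mem_zpowers_iff.1 hc
    apply hji
    have h1 : j = x⁻¹ * k * x := by rw [hk]; group
    have h2 : x⁻¹ * j * x = i := by rw [hj]; group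
    rw [h1, ← hn]
    have : x⁻¹ * j ^ n * x = (x⁻¹ * j * x) ^ n := by
      have := conj_zpow (a := x⁻¹) (b := j) (i := n)
      simpa using this.symm
    rw [this, h2]
    exact Subgroup.zpow_mem_zpowers i n
  have hkj' : k * j⁻¹ ∈ Subgroup.zpowers i := h.idx k hkQ j hjQ hki hji
  have hpow := (mem_powers_iff_mem_zpowers (x := i) (y := k * j⁻¹)).2 hkj'
  obtain ⟨a, ha⟩ := (Submonoid.mem_powers_iff _ _).1 hpow
  have hmod : i ^ a = i ^ (a % 4) := by
    conv_lhs => rw [← Nat.div_add_mod a 4]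
    rw [pow_add, pow_mul, h.i4, one_pow, one_mul]
  rw [hmod] at ha
  have hkeq : k = i ^ (a % 4) * j := by rw [ha]; group
  have hlt : a % 4 < 4 := Nat.mod_lt _ (by norm_num)
  have hgen : ∀ i' j' : G, i ∈ Subgroup.closure ({i', j', x} : Set G) →
      j ∈ Subgroup.closure ({i', j', x} : Set G) → Q ≤ Subgroup.closure ({i', j', x} : Set G) := by
    intro i' j' hi' hj' q hq
    have hzp : Subgroup.zpowers i ≤ Subgroup.closure ({i', j', x} : Set G) := by
      rw [Subgroup.zpowers_le]; exact hi'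
    by_cases hqi : q ∈ Subgroup.zpowers i
    · exact hzp hqi
    · have h1 := h.idx q hq j hjQ hqi hji
      have h2 := Subgroup.mul_mem _ (hzp h1) hj'
      simpa using h2
  interval_cases hcase : (a % 4)
  · exfalso
    apply hkj
    rw [hkeq, pow_zero, one_mul]; exact Subgroup.mem_zpowers j
  · -- `k = i j`
    refine ⟨i, j, h.mem, hjQ, ⟨h.i4, hj2, hj1, hx3, rfl, ?_⟩, ?_⟩
    · rw [← hk, hkeq, pow_one]
    · apply hgen
      · exact Subgroup.subset_closure (by simp)
      · exact Subgroup.subset_closure (by simp)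
  · exfalso
    apply hkj
    rw [hkeq, ← hj2, ← pow_succ]; exact Subgroup.npow_mem_zpowers j 3
  · -- `k = i⁻¹ j`
    have hi3 : i ^ 3 = i⁻¹ := by
      rw [eq_inv_iff_mul_eq_one, ← pow_succ]; exact h.i4
    have hji' : j⁻¹ * i * j = i⁻¹ := by
      have : i = j⁻¹ * (j * i * j⁻¹) * j := by group
      rw [hj1] at this
      have h2 : i⁻¹ = (j⁻¹ * i⁻¹ * j)⁻¹ := by rw [← this]
      rw [h2]; group
    refine ⟨i⁻¹, j⁻¹, Q.inv_mem h.mem, Q.inv_mem hjQ, ⟨?_, ?_, ?_, hx3, ?_, ?_⟩, ?_⟩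
    · rw [inv_pow, h.i4, inv_one]
    · rw [inv_pow, inv_pow, hj2]
    · rw [inv_inv, inv_inv]
      have : j⁻¹ * i⁻¹ * j = (j⁻¹ * i * j)⁻¹ := by group
      rw [this, hji', inv_inv]
    · rw [hj]; group
    · have h1 : x * j⁻¹ * x⁻¹ = k⁻¹ := by rw [hk]; group
      rw [h1, hkeq, hi3]
      have : (i⁻¹ * j)⁻¹ = j⁻¹ * i := by group
      rw [this]
      have h2 : j⁻¹ * i = (j⁻¹ * i * j) * j⁻¹ := by group
      rw [h2, hji']
    · apply hgen
      · have : i = (i⁻¹)⁻¹ := (inv_inv i).symm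
        rw [this]
        exact Subgroup.inv_mem _ (Subgroup.subset_closure (by simp))
      · have : j = (j⁻¹)⁻¹ := (inv_inv j).symm
        rw [this]
        exact Subgroup.inv_mem _ (Subgroup.subset_closure (by simp))

end relations

end helpers



/-- Let G be a finite solvable group with O(G) = 1 whose Sylow 2-subgroup T is dihedral of order at least 8 or semidihedral, with G ≠ T and Z(T) normal in G. Then G has a normal subgroup isomorphic to SL₂(3). -/
theorem result {G : Type*} [Group G] [Finite G] (hsol : IsSolvable G) (hO : Cfsg.oddCore G = ⊥) (T : Sylow 2 G) (hT : (∃ n : ℕ, 4 ≤ n ∧ Nonempty (↥(T : Subgroup G) ≃* DihedralGroup n)) ∨ Cfsg.IsQuasiDihedral ↥(T : Subgroup G)) (hne : (T : Subgroup G) ≠ ⊤) (hZ : ((T : Subgroup G) ⊓ Subgroup.centralizer ((T : Subgroup G) : Set G)).Normal) : ∃ U : Subgroup G, U.Normal ∧ Nonempty (↥U ≃* Matrix.SpecialLinearGroup (Fin 2) (ZMod 3)) := by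
  haveI : Fact (Nat.Prime 2) := ⟨Nat.prime_two⟩
  haveI : Group.IsSolvable G := hsol
  set Q : Subgroup G := Cfsg.pCore 2 G with hQdef
  haveI hQn : Q.Normal := Cfsg.Agent.Lib.Lead.pCore_normal 2
  have hQ2 : IsPGroup 2 Q := Cfsg.Agent.Lib.Lead.pCore_isPGroup 2
  have hQT : Q ≤ (T : Subgroup G) := Cfsg.Agent.Lib.Helper6.pCore_le_sylow T
  have hQmax : ∀ N : Subgroup G, N.Normal → IsPGroup 2 N → N ≤ Q :=
    fun N hN hN2 => Cfsg.Agent.Lib.Lead.le_pCore hN hN2
  have hCQ : Subgroup.centralizer (Q : Set G) ≤ Q :=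
    Cfsg.Agent.Lib.Lead.OddStable.centralizer_pCore_le_of_solvable (p := 2) hO
  have hT2 : IsPGroup 2 (T : Subgroup G) := T.isPGroup'
  -- the structure of `T`
  have hTS : TSpec (T : Subgroup G) ∧ 8 ≤ Nat.card (T : Subgroup G) := by
    rcases hT with ⟨n, hn, ⟨e⟩⟩ | hqd
    · have hcard : Nat.card (T : Subgroup G) = 2 * n := by
        rw [Nat.card_congr e.toEquiv, DihedralGroup.nat_card]
      obtain ⟨k, hk⟩ := IsPGroup.iff_card.1 hT2
      rw [hcard] at hk
      have h4 : 4 ∣ n := by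
        obtain ⟨m, rfl⟩ : ∃ m, k = m + 3 := by
          refine ⟨k - 3, ?_⟩
          by_contra hlt
          have hk3 : k ≤ 2 := by omega
          have : 2 ^ k ≤ 2 ^ 2 := Nat.pow_le_pow_right (by norm_num) hk3
          omega
        have : n = 4 * 2 ^ m := by
          have h8 : 2 ^ (m + 3) = 2 * (4 * 2 ^ m) := by rw [pow_add]; ring
          omega
        exact Dvd.intro _ this.symm
      refine ⟨(TSpec.dihedral n h4 (by omega)).of_equiv e.symm, ?_⟩
      rw [hcard]; omega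
    · refine ⟨TSpec.quasidihedral hqd, ?_⟩
      obtain ⟨n, hn, hcard, -⟩ := hqd
      rw [hcard]
      calc 8 = 2 ^ 3 := by norm_num
        _ ≤ 2 ^ (n + 1) := Nat.pow_le_pow_right (by norm_num) (by omega)
  -- an element of odd order
  obtain ⟨g, hgodd, hg1⟩ : ∃ g : G, Odd (orderOf g) ∧ g ≠ 1 := by
    have hidx : (T : Subgroup G).index ≠ 1 := fun h => hne (Subgroup.index_eq_one.1 h)
    set r := (T : Subgroup G).index.minFac with hr
    have hrp : r.Prime := Nat.minFac_prime hidx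
    have hrd : r ∣ (T : Subgroup G).index := Nat.minFac_dvd _
    have hr2 : r ≠ 2 := by
      intro h2
      rw [h2] at hrd
      exact T.not_dvd_index hrd
    haveI : Fact r.Prime := ⟨hrp⟩
    have hrG : r ∣ Nat.card G := hrd.trans (Subgroup.index_dvd_card _)
    obtain ⟨g, hg⟩ := exists_prime_orderOf_dvd_card' r hrG
    refine ⟨g, by rw [hg]; exact hrp.odd_of_ne_two hr2, ?_⟩
    intro h1
    rw [h1, orderOf_one] at hg
    exact hrp.one_lt.ne hg
  obtain ⟨i, hi⟩ := Q_struct Q (T : Subgroup G) hQ2 hQT hTS.2 hQmax hCQ hT2 hZ hTS.1 g hgodd hg1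
  have hQtop : Q ≠ ⊤ := by
    intro h
    apply hne
    rw [eq_top_iff, ← h]; exact hQT
  obtain ⟨U, hUn, hQU, hUcard⟩ := exists_U Q hQ2 hQmax hCQ hi hQtop
  refine ⟨U, hUn, ?_⟩
  -- an element of order three
  haveI : Fact (Nat.Prime 3) := ⟨Nat.prime_three⟩
  obtain ⟨xU, hxU⟩ := exists_prime_orderOf_dvd_card' (G := U) 3 (by rw [hUcard]; norm_num)
  have hx : orderOf (xU : G) = 3 := by rw [Subgroup.orderOf_coe]; exact hxU
  obtain ⟨i', j', hi'Q, hj'Q, hrel, hgen⟩ := exists_rel Q hQ2 hCQ hi (xU : G) hx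
  have hrelU := hrel.sub U (hQU hi'Q) (hQU hj'Q) xU.2
  apply recog hUcard hrelU
  -- generation
  set K : Subgroup G := Subgroup.closure ({i', j', (xU : G)} : Set G) with hK
  have hKU : K ≤ U := by
    rw [hK, Subgroup.closure_le]
    intro y hy
    rcases hy with rfl | rfl | rfl
    · exact hQU hi'Q
    · exact hQU hj'Q
    · exact xU.2
  have h8 : 8 ∣ Nat.card K := by
    rw [← hi.card]; exact Subgroup.card_dvd_of_le hgen
  have h3 : 3 ∣ Nat.card K := by
    have hxK : (xU : G) ∈ K := Subgroup.subset_closure (by simp)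
    have := orderOf_dvd_natCard (⟨(xU : G), hxK⟩ : K)
    rw [← Subgroup.orderOf_coe] at this
    simpa [hx] using this
  have h24 : 24 ∣ Nat.card K := by
    have : Nat.Coprime 8 3 := by decide
    exact this.mul_dvd_of_dvd_of_dvd h8 h3
  have hKeq : K = U := by
    apply Subgroup.eq_of_le_of_card_ge hKU
    rw [hUcard]
    exact Nat.le_of_dvd Nat.card_pos h24
  apply Subgroup.map_injective U.subtype_injective
  rw [MonoidHom.map_closure, ← MonoidHom.range_eq_map, Subgroup.range_subtype]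
  have himg : (U.subtype : U → G) '' ({⟨i', hQU hi'Q⟩, ⟨j', hQU hj'Q⟩, ⟨(xU : G), xU.2⟩} : Set U)
      = ({i', j', (xU : G)} : Set G) := by
    simp [Set.image_insert_eq]
  rw [himg]
  exact hKeq


end Cfsg.Agent.S2879
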