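import Mathlib
import Cfsg.Agent.Lib.Helper6.Extra2
import Cfsg.Statements.S2880

set_option autoImplicit false
open Cfsg

namespace Cfsg.Agent.S2880

open Cfsg.Agent.Lib.Helper6
open scoped commutatorElement

/-- the number of elements with nontrivial square, given a self-centralising subgroup `A` of
exponent 2 -/
theorem card_sq_ne_one {E : Type*} [Group E] [Finite E]
    (hcomm : ∀ x y : E, ⁅x, y⁆ ∈ Subgroup.center E) (hsq : ∀ x : E, x ^ 2 ∈ Subgroup.center E)
    (hZ : Nat.card (Subgroup.center E) = 2) (A : Subgroup E)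
    (hA2 : ∀ a ∈ A, a ^ 2 = 1) (hCA : Subgroup.centralizer (A : Set E) = A) :
    2 * Nat.card {g : E // g ^ 2 ≠ 1} + Nat.card A = Nat.card E := by
  classical
  haveI : Fintype E := Fintype.ofFinite E
  have hTcard : Nat.card {g : E // g ^ 2 ≠ 1}
      = (Finset.univ.filter (fun g : E => g ^ 2 ≠ 1)).card :=
    Nat.subtype_card _ (by simp)
  rw [hTcard]
  -- the non-identity central element
  have hZ2 : ∀ c ∈ Subgroup.center E, ∀ d ∈ Subgroup.center E, c ≠ 1 → d ≠ 1 → c = d := by
    intro c hc d hd hc1 hd1
    obtain ⟨y, hy, huniq⟩ := (Nat.card_eq_two_iff' (1 : Subgroup.center E)).mp hZ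
    have h1 := huniq ⟨c, hc⟩ (fun h => hc1 (congrArg Subtype.val h))
    have h2 := huniq ⟨d, hd⟩ (fun h => hd1 (congrArg Subtype.val h))
    exact congrArg Subtype.val (h1.trans h2.symm)
  have hcnt : ∀ K : Subgroup E,
      (Finset.univ.filter (fun x : E => x ∈ K)).card = Nat.card K := by
    intro K; exact (Nat.subtype_card _ (by simp)).symm
  set T : Finset E := Finset.univ.filter (fun g : E => g ^ 2 ≠ 1) with hT
  -- row count
  have hrow : ∀ g : E, g ∉ A →
      2 * ((Finset.univ.filter (fun a : E => a ∈ A)).filter (fun a => (g * a) ^ 2 ≠ 1)).card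
        = Nat.card A := by
    intro g hg
    have hgC : g ∉ Subgroup.centralizer (A : Set E) := by rw [hCA]; exact hg
    have h1 := two_mul_card_inf_centralizer hcomm hZ A g hgC
    -- the square formula
    have hform : ∀ a ∈ A, (g * a) ^ 2 = g ^ 2 * ⁅g⁻¹, a⁆ := by
      intro a ha
      have ha' : a⁻¹ = a := by
        have := hA2 a ha
        rw [pow_two] at this
        exact inv_eq_of_mul_eq_one_left this
      rw [commutatorElement_def, inv_inv, ha', pow_two, pow_two]; group
    have hcomm1 : ∀ a : E, ⁅g⁻¹, a⁆ = 1 ↔ a ∈ Subgroup.centralizer ({g} : Set E) := by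
      intro a
      rw [commutatorElement_eq_one_iff_mul_comm, Subgroup.mem_centralizer_iff]
      constructor
      · intro h y hy
        rw [Set.mem_singleton_iff] at hy; rw [hy]
        calc g * a = g * (a * g⁻¹) * g := by group
          _ = g * (g⁻¹ * a) * g := by rw [h]
          _ = a * g := by group
      · intro h
        have h2 := h g rfl
        calc g⁻¹ * a = g⁻¹ * (a * g) * g⁻¹ := by group
          _ = g⁻¹ * (g * a) * g⁻¹ := by rw [h2]
          _ = a * g⁻¹ := by group
    have hcentfilter : (Finset.univ.filter (fun a : E => a ∈ A ⊓ Subgroup.centralizer ({g} : Set E))).card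
        = Nat.card ↥(A ⊓ Subgroup.centralizer ({g} : Set E)) := hcnt _
    by_cases hg2 : g ^ 2 = 1
    · -- (g a)^2 ≠ 1 iff a ∉ C_A(g)
      have hset : (Finset.univ.filter (fun a : E => a ∈ A)).filter (fun a => (g * a) ^ 2 ≠ 1)
          = (Finset.univ.filter (fun a : E => a ∈ A)) \
            (Finset.univ.filter (fun a : E => a ∈ A ⊓ Subgroup.centralizer ({g} : Set E))) := by
        ext a
        simp only [Finset.mem_filter, Finset.mem_univ, true_and, Finset.mem_sdiff,
          Subgroup.mem_inf]
        constructor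
        · rintro ⟨ha, h⟩
          refine ⟨ha, fun hh => h ?_⟩
          rw [hform a ha, hg2, one_mul, hcomm1]; exact hh.2
        · rintro ⟨ha, h⟩
          refine ⟨ha, fun hh => h ⟨ha, ?_⟩⟩
          rw [hform a ha, hg2, one_mul, hcomm1] at hh; exact hh
      rw [hset, Finset.card_sdiff_of_subset, hcnt A, hcentfilter]
      · omega
      · intro a; simp only [Finset.mem_filter, Finset.mem_univ, true_and, Subgroup.mem_inf]
        exact fun h => h.1
    · -- g^2 = z; (g a)^2 ≠ 1 iff a ∈ C_A(g)
      have hset : (Finset.univ.filter (fun a : E => a ∈ A)).filter (fun a => (g * a) ^ 2 ≠ 1)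
          = Finset.univ.filter (fun a : E => a ∈ A ⊓ Subgroup.centralizer ({g} : Set E)) := by
        ext a
        simp only [Finset.mem_filter, Finset.mem_univ, true_and, Subgroup.mem_inf]
        constructor
        · rintro ⟨ha, h⟩
          refine ⟨ha, ?_⟩
          rw [← hcomm1]
          by_contra hne
          apply h
          rw [hform a ha]
          have h2 := hZ2 _ (hsq g) _ (hcomm g⁻¹ a) hg2 hne
          rw [h2]
          have h3 : ⁅g⁻¹, a⁆ ^ 2 = 1 := by
            rw [← h2]
            have h4 : (g ^ 2) ^ 2 ∈ Subgroup.center E := Subgroup.pow_mem _ (hsq g) 2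
            by_contra h5
            -- (g^2)^2 would be a nontrivial central element equal to g^2
            have h6 := hZ2 _ h4 _ (hsq g) h5 hg2
            -- (g^2)^2 = g^2 → g^2 = 1
            apply hg2
            have : g ^ 2 * g ^ 2 = g ^ 2 * 1 := by rw [mul_one, ← pow_two]; exact h6
            exact mul_left_cancel this
          rw [← pow_two]; exact h3
        · rintro ⟨ha, h⟩
          refine ⟨ha, ?_⟩
          rw [hform a ha, (hcomm1 a).mpr h, mul_one]; exact hg2
      rw [hset, hcentfilter]; exact h1
  -- column count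
  have hcol : ∀ a : E, a ∈ A →
      ((Finset.univ.filter (fun g : E => g ∉ A)).filter (fun g => (g * a) ^ 2 ≠ 1)).card
        = T.card := by
    intro a ha
    apply Finset.card_bij (fun g _ => g * a)
    · intro g hg
      simp only [Finset.mem_filter, Finset.mem_univ, true_and] at hg
      simp only [hT, Finset.mem_filter, Finset.mem_univ, true_and]
      exact hg.2
    · intro g₁ _ g₂ _ h
      exact mul_right_cancel h
    · intro h hh
      simp only [hT, Finset.mem_filter, Finset.mem_univ, true_and] at hh
      refine ⟨h * a⁻¹, ?_, by group⟩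
      simp only [Finset.mem_filter, Finset.mem_univ, true_and]
      refine ⟨?_, by rw [inv_mul_cancel_right]; exact hh⟩
      intro hmem
      apply hh
      have : h ∈ A := by
        have := A.mul_mem hmem ha
        rwa [inv_mul_cancel_right] at this
      exact hA2 h this
  have hdc := Finset.sum_card_bipartiteAbove_eq_sum_card_bipartiteBelow
    (s := Finset.univ.filter (fun g : E => g ∉ A)) (t := Finset.univ.filter (fun a : E => a ∈ A))
    (fun g a => (g * a) ^ 2 ≠ 1)
  have hL : 2 * ∑ g ∈ Finset.univ.filter (fun g : E => g ∉ A),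
      ((Finset.univ.filter (fun a : E => a ∈ A)).bipartiteAbove
        (fun g a => (g * a) ^ 2 ≠ 1) g).card
      = (Finset.univ.filter (fun g : E => g ∉ A)).card * Nat.card A := by
    rw [Finset.mul_sum]
    have h1 : ∀ g ∈ Finset.univ.filter (fun g : E => g ∉ A),
        2 * ((Finset.univ.filter (fun a : E => a ∈ A)).bipartiteAbove
          (fun g a => (g * a) ^ 2 ≠ 1) g).card = Nat.card A := by
      intro g hg
      exact hrow g (Finset.mem_filter.mp hg).2
    rw [Finset.sum_congr rfl h1, Finset.sum_const, smul_eq_mul]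
  have hR : ∑ a ∈ Finset.univ.filter (fun a : E => a ∈ A),
      ((Finset.univ.filter (fun g : E => g ∉ A)).bipartiteBelow
        (fun g a => (g * a) ^ 2 ≠ 1) a).card
      = Nat.card A * T.card := by
    have h1 : ∀ a ∈ Finset.univ.filter (fun a : E => a ∈ A),
        ((Finset.univ.filter (fun g : E => g ∉ A)).bipartiteBelow
          (fun g a => (g * a) ^ 2 ≠ 1) a).card = T.card := by
      intro a ha
      exact hcol a (Finset.mem_filter.mp ha).2
    rw [Finset.sum_congr rfl h1, Finset.sum_const, smul_eq_mul, hcnt]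
  rw [hdc, hR] at hL
  have hnotA : (Finset.univ.filter (fun g : E => g ∉ A)).card + Nat.card A = Nat.card E := by
    rw [← hcnt A, Nat.card_eq_fintype_card, ← Finset.card_univ, add_comm]
    convert Finset.card_filter_add_card_filter_not (s := (Finset.univ : Finset E)) (fun g => g ∈ A)
  have hApos : 0 < Nat.card A := Nat.card_pos
  have h5 : 2 * T.card = (Finset.univ.filter (fun g : E => g ∉ A)).card := by
    have h6 : Nat.card A * (2 * T.card)
        = Nat.card A * (Finset.univ.filter (fun g : E => g ∉ A)).card := by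
      rw [mul_comm (Nat.card A) ((Finset.univ.filter (fun g : E => g ∉ A)).card), ← hL]; ring
    exact Nat.eq_of_mul_eq_mul_left hApos h6
  omega


/-- Let E be an extraspecial 2-group of order 2^(2m+1) of plus type, that is, containing an elementary abelian subgroup of order 2^(m+1) (equivalently, a central product of m dihedral groups of order 8). Then E has exactly 2^(2m) − 2^m elements of order 4. -/
theorem result {E : Type*} [Group E] [Finite E] (m : ℕ) (hm : 1 ≤ m) (hE : Cfsg.IsExtraspecial 2 E) (hcard : Nat.card E = 2 ^ (2 * m + 1)) (hplus : ∃ A : Subgroup E, Cfsg.IsElementaryAbelian 2 A ∧ Nat.card A = 2 ^ (m + 1)) : Nat.card {x : E // orderOf x = 4} = 2 ^ (2 * m) - 2 ^ m := by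
  classical
  haveI : Fintype E := Fintype.ofFinite E
  obtain ⟨hcomm, hsq, hZ⟩ := extraspecial_two_facts hE
  obtain ⟨A, ⟨hAc, hA2⟩, hAcard⟩ := hplus
  have hAcomm : ∀ a ∈ A, ∀ b ∈ A, a * b = b * a := by
    intro a ha b hb
    have := hAc.is_comm.comm (⟨a, ha⟩ : A) ⟨b, hb⟩
    exact congrArg Subtype.val this
  have hcardsq : Nat.card A * Nat.card A = 2 * Nat.card E := by
    rw [hAcard, hcard, ← pow_add, ← pow_succ']; congr 1; ring
  obtain ⟨hZA, hCA⟩ := self_centralizing_of_card hcomm hZ A hAcomm hcardsq
  have hmain := card_sq_ne_one hcomm hsq hZ A hA2 hCA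
  -- elements of order 4 are those with nontrivial square
  have hZ2 : ∀ c ∈ Subgroup.center E, c ^ 2 = 1 := by
    intro c hc
    have h1 : (⟨c, hc⟩ : Subgroup.center E) ^ Nat.card (Subgroup.center E) = 1 := pow_card_eq_one'
    rw [hZ] at h1
    have := congrArg Subtype.val h1
    simpa using this
  have hiff : ∀ x : E, orderOf x = 4 ↔ x ^ 2 ≠ 1 := by
    intro x
    constructor
    · intro h h2
      have := orderOf_dvd_of_pow_eq_one h2
      rw [h] at this; omega
    · intro h
      have h4 : x ^ 2 ^ (1 + 1) = 1 := by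
        have := hZ2 _ (hsq x)
        rw [← pow_mul] at this; exact this
      have := orderOf_eq_prime_pow (p := 2) (n := 1) (x := x) (by rwa [pow_one]) h4
      rw [this]; norm_num
  have hcount : Nat.card {x : E // orderOf x = 4} = Nat.card {g : E // g ^ 2 ≠ 1} :=
    Nat.card_congr (Equiv.subtypeEquivRight hiff)
  rw [hcount]
  rw [hAcard, hcard] at hmain
  have h1 : 2 ^ (2 * m + 1) = 2 * 2 ^ (2 * m) := by rw [pow_succ']
  have h2 : 2 ^ (m + 1) = 2 * 2 ^ m := by rw [pow_succ']
  have h3 : 2 ^ m ≤ 2 ^ (2 * m) := Nat.pow_le_pow_right (by norm_num) (by omega)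
  omega

end Cfsg.Agent.S2880
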