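import Mathlib
import Cfsg.Agent.Lib.Helper6.ParChar
import Cfsg.Agent.Lib.Helper6.Conj
import Cfsg.Statements.S2896

set_option autoImplicit false
open Cfsg Cfsg.Agent.Lib.Helper6 Cfsg.Agent.Lib.Helper3

namespace Cfsg.Agent.S2896

/-- a nontrivial finite `p`-subgroup has an element of order `p` -/
theorem exists_orderOf_eq_prime {G : Type*} [Group G] [Finite G] {p : ℕ} [Fact p.Prime]
    {H : Subgroup G} (hH : IsPGroup p H) (hne : H ≠ ⊥) : ∃ x ∈ H, orderOf x = p := by
  obtain ⟨k, hk⟩ := IsPGroup.iff_card.mp hH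
  have hk0 : k ≠ 0 := by
    intro h0
    rw [h0, pow_zero] at hk
    exact hne (Subgroup.card_eq_one.mp hk)
  have hdvd : p ∣ Nat.card H := by rw [hk]; exact dvd_pow_self p hk0
  obtain ⟨x, hx⟩ := exists_prime_orderOf_dvd_card' p hdvd
  exact ⟨x, x.2, by rw [← hx, Subgroup.orderOf_coe]⟩

/-- the key step: a `p`-subgroup `R` with a central element of order `p` lying in the centre of a
Sylow `p`-subgroup `T = g • S` -/
theorem conj_data {G : Type*} [Group G] [Finite G] {p : ℕ} [Fact p.Prime] (S T : Sylow p G)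
    (z' : G) (hzT : z' ∈ (T : Subgroup G)) (hzc : ∀ t ∈ (T : Subgroup G), t * z' = z' * t) :
    ∃ g z : G, z' = g * z * g⁻¹ ∧ z ∈ (S : Subgroup G) ∧
      z ∈ Subgroup.centralizer ((S : Subgroup G) : Set G) ∧ orderOf z = orderOf z' := by
  obtain ⟨g, hg⟩ := MulAction.exists_smul_eq G S T
  have hT : (T : Subgroup G) = (S : Subgroup G).map (MulAut.conj g).toMonoidHom := by
    rw [← hg, sylow_smul_eq_map_conj]
  refine ⟨g, g⁻¹ * z' * g, by group, ?_, ?_, ?_⟩
  · rw [hT, mem_map_conj] at hzT
    exact hzT
  · rw [Subgroup.mem_centralizer_iff]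
    intro s hs
    have hsT : g * s * g⁻¹ ∈ (T : Subgroup G) := by
      rw [hT, mem_map_conj]
      have : g⁻¹ * (g * s * g⁻¹) * g = s := by group
      rw [this]; exact hs
    have h := hzc _ hsT
    calc s * (g⁻¹ * z' * g) = g⁻¹ * (g * s * g⁻¹ * z') * g := by group
      _ = g⁻¹ * (z' * (g * s * g⁻¹)) * g := by rw [h]
      _ = _ := by group
  · have := MulEquiv.orderOf_eq (MulAut.conj g⁻¹) z'
    rw [MulAut.conj_apply, inv_inv] at this
    exact this

/-- Let p be a prime dividing the order of the finite group G, S a Sylow p-subgroup of G and X a subgroup of S. (i) If some nontrivial element z of the centre of X has F*(C_G(z)) = O_p(C_G(z)), then F*(N_G(X)) = O_p(N_G(X)). (ii) G has parabolic characteristic p if and only if F*(C_G(z)) = O_p(C_G(z)) for every nontrivial z ∈ Ω₁(Z(S)). (iii) If F*(C_G(z)) = O_p(C_G(z)) for every element z of S of order p, then G has local characteristic p. -/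
theorem result {G : Type*} [Group G] [Finite G] {p : ℕ} [Fact p.Prime] (hdiv : p ∣ Nat.card G) (S : Sylow p G) (X : Subgroup G) (hX : X ≤ (S : Subgroup G)) : (∀ z : G, z ≠ 1 → z ∈ X → (∀ x ∈ X, x * z = z * x) → Cfsg.generalizedFittingSubgroup ↥(Subgroup.centralizer ({z} : Set G)) = Cfsg.pCore p ↥(Subgroup.centralizer ({z} : Set G)) → Cfsg.generalizedFittingSubgroup ↥(Subgroup.normalizer (X : Set G)) = Cfsg.pCore p ↥(Subgroup.normalizer (X : Set G))) ∧ (Cfsg.IsOfParabolicCharacteristic p G ↔ ∀ z : G, z ≠ 1 → z ∈ Cfsg.omegaOne p ((S : Subgroup G) ⊓ Subgroup.centralizer ((S : Subgroup G) : Set G)) → Cfsg.generalizedFittingSubgroup ↥(Subgroup.centralizer ({z} : Set G)) = Cfsg.pCore p ↥(Subgroup.centralizer ({z} : Set G))) ∧ ((∀ z : G, z ∈ (S : Subgroup G) → orderOf z = p → Cfsg.generalizedFittingSubgroup ↥(Subgroup.centralizer ({z} : Set G)) = Cfsg.pCore p ↥(Subgroup.centralizer ({z} : Set G))) → Cfsg.IsOfLocalCharacteristic p G) := by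
  classical
  have hSp : IsPGroup p (S : Subgroup G) := S.isPGroup'
  refine ⟨?_, ?_, ?_⟩
  · intro z _ hzX hzc hF
    exact fstar_normalizer_eq_pCore_of_central (hSp.to_le hX) hzX hzc
      (by rw [hF]; exact pCore_isPGroup p)
  · constructor
    · intro hpar z hz1 hzΩ
      have hzZ : z ∈ (S : Subgroup G) ⊓ Subgroup.centralizer ((S : Subgroup G) : Set G) := by
        have hle : Cfsg.omegaOne p ((S : Subgroup G) ⊓ Subgroup.centralizer ((S : Subgroup G) : Set G)) ≤
            (S : Subgroup G) ⊓ Subgroup.centralizer ((S : Subgroup G) : Set G) := by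
          unfold Cfsg.omegaOne
          rw [Subgroup.closure_le]
          rintro x ⟨hx, _⟩
          exact hx
        exact hle hzΩ
      have hRp : IsPGroup p (Subgroup.zpowers z) := hSp.to_le (Subgroup.zpowers_le.mpr hzZ.1)
      have hRne : Subgroup.zpowers z ≠ ⊥ := by
        rw [Ne, Subgroup.zpowers_eq_bot]; exact hz1
      have hpara : Cfsg.IsParabolic p (Subgroup.normalizer ((Subgroup.zpowers z : Subgroup G) : Set G)) := by
        refine ⟨S, ?_⟩
        refine le_trans ?_ (Subgroup.centralizer_le_normalizer _)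
        rw [centralizer_zpowers_eq]
        intro s hs
        rw [Subgroup.mem_centralizer_iff]
        intro y hy
        rw [Set.mem_singleton_iff] at hy
        subst hy
        exact (Subgroup.mem_centralizer_iff.mp hzZ.2 s hs).symm
      have h1 := hpar _ hRp hRne hpara
      have h2 := (fstar_eq_pCore_iff_centralizer_le _).mpr h1
      have h3 := isPGroup_fstar_centralizer_of_normalizer_zpowers z
        (by rw [h2]; exact pCore_isPGroup p)
      exact generalizedFittingSubgroup_eq_pCore_of_isPGroup h3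
    · intro hz R hRp hRne hpara
      obtain ⟨T, hT⟩ := hpara
      rw [← fstar_eq_pCore_iff_centralizer_le]
      have hsup : IsPGroup p ↥(R ⊔ (T : Subgroup G)) := hRp.to_sup_of_normal_left' T.isPGroup' hT
      have hRT : R ≤ (T : Subgroup G) := by
        have := T.is_maximal' hsup le_sup_right
        rw [← this]; exact le_sup_left
      -- a central element of order `p` of `T` inside `R`
      haveI : Group.IsNilpotent (T : Subgroup G) := T.isPGroup'.isNilpotent
      haveI hRn : (R.subgroupOf (T : Subgroup G)).Normal :=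
        (Subgroup.normal_subgroupOf_iff_le_normalizer hRT).mpr hT
      have hne : R.subgroupOf (T : Subgroup G) ≠ ⊥ := by
        intro h
        rw [Subgroup.subgroupOf_eq_bot] at h
        have := h.eq_bot
        rw [inf_of_le_left hRT] at this
        exact hRne this
      have hne2 := Cfsg.Agent.Lib.Lead.inf_center_ne_bot (R.subgroupOf (T : Subgroup G)) hne
      have hp2 : IsPGroup p ↥(R.subgroupOf (T : Subgroup G) ⊓ Subgroup.center (T : Subgroup G)) :=
        T.isPGroup'.to_subgroup _
      obtain ⟨x, hx, hxo⟩ := exists_orderOf_eq_prime hp2 hne2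
      have hxR : (x : G) ∈ R := Subgroup.mem_subgroupOf.mp hx.1
      have hxc : ∀ t ∈ (T : Subgroup G), t * (x : G) = (x : G) * t := by
        intro t ht
        have := Subgroup.mem_center_iff.mp hx.2 ⟨t, ht⟩
        exact congrArg Subtype.val this
      obtain ⟨g, z, hxz, hzS, hzC, hzo⟩ := conj_data S T (x : G) x.2 hxc
      have hzo' : orderOf z = p := by rw [hzo, Subgroup.orderOf_coe, hxo]
      have hz1 : z ≠ 1 := by
        intro h
        rw [h, orderOf_one] at hzo'
        exact (Fact.out : p.Prime).one_lt.ne hzo'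
      have hzΩ : z ∈ Cfsg.omegaOne p ((S : Subgroup G) ⊓ Subgroup.centralizer ((S : Subgroup G) : Set G)) :=
        Subgroup.subset_closure ⟨⟨hzS, hzC⟩, by rw [← hzo']; exact pow_orderOf_eq_one z⟩
      have hF := hz z hz1 hzΩ
      have hF' : IsPGroup p (Cfsg.generalizedFittingSubgroup ↥(Subgroup.centralizer ({(x : G)} : Set G))) := by
        rw [hxz]
        apply isPGroup_fstar_centralizer_conj
        rw [hF]; exact pCore_isPGroup p
      exact fstar_normalizer_eq_pCore_of_central hRp hxR (fun r hr => hxc r (hRT hr)) hF'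
  · intro hz
    refine ⟨hdiv, ?_⟩
    intro T hTp hTne
    rw [← fstar_eq_pCore_iff_centralizer_le]
    obtain ⟨T', hT'⟩ := hTp.exists_le_sylow
    haveI : Nontrivial ↥T := (Subgroup.nontrivial_iff_ne_bot T).mpr hTne
    have hcn : Subgroup.center ↥T ≠ ⊥ := (hTp.bot_lt_center).ne'
    have hp2 : IsPGroup p ↥(Subgroup.center ↥T) := hTp.to_subgroup _
    obtain ⟨x, hx, hxo⟩ := exists_orderOf_eq_prime hp2 hcn
    have hxc : ∀ t ∈ T, t * (x : G) = (x : G) * t := by
      intro t ht
      have := Subgroup.mem_center_iff.mp hx ⟨t, ht⟩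
      exact congrArg Subtype.val this
    -- conjugate `x` into `S`
    obtain ⟨g, hg⟩ := MulAction.exists_smul_eq G S T'
    have hT'eq : (T' : Subgroup G) = (S : Subgroup G).map (MulAut.conj g).toMonoidHom := by
      rw [← hg, sylow_smul_eq_map_conj]
    have hzS : g⁻¹ * (x : G) * g ∈ (S : Subgroup G) := by
      have := hT' x.2
      rw [hT'eq, mem_map_conj] at this
      exact this
    have hzo : orderOf (g⁻¹ * (x : G) * g) = p := by
      have := MulEquiv.orderOf_eq (MulAut.conj g⁻¹) (x : G)
      rw [MulAut.conj_apply, inv_inv] at this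
      rw [this, Subgroup.orderOf_coe, hxo]
    have hF := hz _ hzS hzo
    have hF' : IsPGroup p (Cfsg.generalizedFittingSubgroup ↥(Subgroup.centralizer ({(x : G)} : Set G))) := by
      have e : (x : G) = g * (g⁻¹ * (x : G) * g) * g⁻¹ := by group
      rw [e]
      apply isPGroup_fstar_centralizer_conj
      rw [hF]; exact pCore_isPGroup p
    exact fstar_normalizer_eq_pCore_of_central hTp x.2 hxc hF'

end Cfsg.Agent.S2896
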