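import Mathlib
import Cfsg.Agent.Lib.Helper6.ParChar2
import Cfsg.Agent.Lib.Helper6.PPrimeCore
import Cfsg.Statements.S2898

set_option autoImplicit false
open Cfsg Cfsg.Agent.Lib.Helper6 Cfsg.Agent.Lib.Helper3

namespace Cfsg.Agent.S2898

/-- a normal subgroup of order prime to `p` in a group whose `F*` is a `p`-group is trivial -/
theorem eq_bot_of_coprime_of_fstar {X : Type*} [Group X] [Finite X] {p : ℕ} [Fact p.Prime]
    (hF : IsPGroup p (Cfsg.generalizedFittingSubgroup X)) (M : Subgroup X) [hM : M.Normal]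
    (hc : (Nat.card M).Coprime p) : M = ⊥ := by
  have hFn : (Cfsg.generalizedFittingSubgroup X).Normal := inferInstance
  have hbot : Cfsg.generalizedFittingSubgroup X ⊓ M = ⊥ := isPGroup_inf_coprime_eq_bot hc hF
  have hle : M ≤ Subgroup.centralizer (Cfsg.generalizedFittingSubgroup X : Set X) := by
    intro m hm
    rw [Subgroup.mem_centralizer_iff]
    intro f hf
    have h1 : f * m * f⁻¹ * m⁻¹ ∈ Cfsg.generalizedFittingSubgroup X ⊓ M := by
      refine Subgroup.mem_inf.mpr ⟨?_, ?_⟩
      · have h2 : m * f⁻¹ * m⁻¹ ∈ Cfsg.generalizedFittingSubgroup X :=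
          hFn.conj_mem _ (inv_mem hf) m
        have e : f * m * f⁻¹ * m⁻¹ = f * (m * f⁻¹ * m⁻¹) := by group
        rw [e]
        exact mul_mem hf h2
      · have h2 : f * m * f⁻¹ ∈ M := hM.conj_mem _ hm f
        exact mul_mem h2 (inv_mem hm)
    rw [hbot, Subgroup.mem_bot] at h1
    calc f * m = (f * m * f⁻¹ * m⁻¹) * m * f := by group
      _ = m * f := by rw [h1, one_mul]
  have h2 : M ≤ Cfsg.generalizedFittingSubgroup X :=
    hle.trans centralizer_generalizedFittingSubgroup_le
  rw [eq_bot_iff, ← hbot]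
  exact le_inf h2 le_rfl

/-- Let G be a finite group of even order with parabolic characteristic 2. If the centre of G ⧸ O(G) is trivial, then O(G) = 1. -/
theorem result {G : Type*} [Group G] [Finite G] (h2 : 2 ∣ Nat.card G) (hG : Cfsg.IsOfParabolicCharacteristic 2 G) [hN : (Cfsg.oddCore G).Normal] (hZ : Subgroup.center (G ⧸ Cfsg.oddCore G) = ⊥) : Cfsg.oddCore G = ⊥ := by
  classical
  haveI : Fact (Nat.Prime 2) := ⟨Nat.prime_two⟩
  set N := Cfsg.oddCore G with hNdef
  have hNcop : (Nat.card N).Coprime 2 := pPrimeCore_coprime 2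
  let S : Sylow 2 G := default
  have hSne : (S : Subgroup G) ≠ ⊥ := S.ne_bot_of_dvd_card h2
  have hpar := (isOfParabolicCharacteristic_iff S).mp hG
  -- Claim A: elements of `Ω₁(Z(S))` act without fixed points on `N`
  have hA : ∀ z : G, z ≠ 1 →
      z ∈ Cfsg.omegaOne 2 ((S : Subgroup G) ⊓ Subgroup.centralizer ((S : Subgroup G) : Set G)) →
      ∀ n ∈ N, z * n = n * z → n = 1 := by
    intro z hz1 hzΩ n hn hzn
    have hF := hpar z hz1 hzΩ
    haveI : (N.subgroupOf (Subgroup.centralizer ({z} : Set G))).Normal := Subgroup.normal_subgroupOf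
    have hc : (Nat.card (N.subgroupOf (Subgroup.centralizer ({z} : Set G)))).Coprime 2 := by
      have : Nat.card (N.subgroupOf (Subgroup.centralizer ({z} : Set G))) ∣ Nat.card N := by
        let f : ↥(N.subgroupOf (Subgroup.centralizer ({z} : Set G))) →* ↥N :=
          { toFun := fun x => ⟨((x : Subgroup.centralizer ({z} : Set G)) : G), x.2⟩
            map_one' := rfl
            map_mul' := fun _ _ => rfl }
        have hf : Function.Injective f := by
          intro a b hab
          have h := congrArg Subtype.val hab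
          exact Subtype.ext (Subtype.ext h)
        exact Subgroup.card_dvd_of_injective f hf
      exact Nat.Coprime.coprime_dvd_left this hNcop
    have hbot := eq_bot_of_coprime_of_fstar hF (N.subgroupOf (Subgroup.centralizer ({z} : Set G))) hc
    have hnC : n ∈ Subgroup.centralizer ({z} : Set G) := by
      rw [Subgroup.mem_centralizer_iff]
      intro y hy
      rw [Set.mem_singleton_iff] at hy
      subst hy
      exact hzn
    have : (⟨n, hnC⟩ : Subgroup.centralizer ({z} : Set G)) ∈
        N.subgroupOf (Subgroup.centralizer ({z} : Set G)) := Subgroup.mem_subgroupOf.mpr hn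
    rw [hbot, Subgroup.mem_bot] at this
    exact congrArg Subtype.val this
  -- elements of `Ω₁(Z(S))`
  have hΩmem : ∀ z : G, z ∈ (S : Subgroup G) → (∀ s ∈ (S : Subgroup G), s * z = z * s) →
      orderOf z = 2 →
      z ∈ Cfsg.omegaOne 2 ((S : Subgroup G) ⊓ Subgroup.centralizer ((S : Subgroup G) : Set G)) := by
    intro z hzS hzc hzo
    apply Subgroup.subset_closure
    refine ⟨Subgroup.mem_inf.mpr ⟨hzS, ?_⟩, by rw [← hzo]; exact pow_orderOf_eq_one z⟩
    rw [Subgroup.mem_centralizer_iff]
    exact hzc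
  have hne1 : ∀ z : G, orderOf z = 2 → z ≠ 1 := by
    intro z hz h
    rw [h, orderOf_one] at hz
    exact absurd hz (by norm_num)
  set C := Subgroup.centralizer (N : Set G) with hC
  haveI hCn : C.Normal := inferInstance
  haveI hnil : Group.IsNilpotent (S : Subgroup G) := S.isPGroup'.isNilpotent
  by_cases hSC : (S : Subgroup G) ⊓ C = ⊥
  · -- `C` has odd order, hence lies in `N`
    exfalso
    have hCodd : (Nat.card C).Coprime 2 := by
      have h1 := isSylowOf_inf_of_isSubnormal S (Subgroup.Normal.isSubnormal hCn)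
      obtain ⟨SC, hSCeq⟩ := h1.exists_sylow
      rw [hSC] at hSCeq
      have h3 : (SC : Subgroup C) = ⊥ := by
        rw [eq_bot_iff]
        intro x hx
        have : (x : G) ∈ (⊥ : Subgroup G) := by rw [← hSCeq]; exact ⟨x, hx, rfl⟩
        rw [Subgroup.mem_bot] at this
        exact Subgroup.mem_bot.mpr (Subtype.ext this)
      rw [Nat.coprime_comm, Nat.Prime.coprime_iff_not_dvd Nat.prime_two]
      intro hdvd
      exact SC.ne_bot_of_dvd_card hdvd h3
    have hCN : C ≤ N := le_pPrimeCore hCn hCodd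
    -- an involution in the centre of `S`
    haveI : Nontrivial ↥(S : Subgroup G) := (Subgroup.nontrivial_iff_ne_bot _).mpr hSne
    have hcn : Subgroup.center ↥(S : Subgroup G) ≠ ⊥ := (S.isPGroup'.bot_lt_center).ne'
    have hp2 : IsPGroup 2 ↥(Subgroup.center ↥(S : Subgroup G)) := S.isPGroup'.to_subgroup _
    obtain ⟨x, hx, hxo⟩ := exists_orderOf_eq_prime_of_ne_bot hp2 hcn
    have hxc : ∀ t ∈ (S : Subgroup G), t * (x : G) = (x : G) * t := by
      intro t ht
      have := Subgroup.mem_center_iff.mp hx ⟨t, ht⟩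
      exact congrArg Subtype.val this
    have hxo' : orderOf (x : G) = 2 := by rw [Subgroup.orderOf_coe, hxo]
    have hxΩ := hΩmem (x : G) x.2 hxc hxo'
    have hfix := hA (x : G) (hne1 _ hxo') hxΩ
    have hx2 : (x : G) * (x : G) = 1 := by
      have := pow_orderOf_eq_one (x : G)
      rw [hxo', pow_two] at this
      exact this
    have hxinv : (x : G)⁻¹ = (x : G) := inv_eq_of_mul_eq_one_left hx2
    -- conjugation by `x` on `N`
    let φ : ↥N →* ↥N :=
      { toFun := fun n => ⟨(x : G) * n * (x : G)⁻¹, hN.conj_mem _ n.2 _⟩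
        map_one' := by ext; simp
        map_mul' := by intro a b; ext; simp }
    have hφ : MonoidHom.FixedPointFree φ := by
      intro n hn
      have h1 : (x : G) * n * (x : G)⁻¹ = n := congrArg Subtype.val hn
      have h2 : (x : G) * n = n * (x : G) := by
        calc (x : G) * n = ((x : G) * n * (x : G)⁻¹) * (x : G) := by group
          _ = n * (x : G) := by rw [h1]
      exact Subtype.ext (hfix n n.2 h2)
    have hinv : Function.Involutive φ := by
      intro n
      apply Subtype.ext
      show (x : G) * ((x : G) * n * (x : G)⁻¹) * (x : G)⁻¹ = n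
      rw [hxinv]
      calc (x : G) * ((x : G) * n * (x : G)) * (x : G) = ((x : G) * (x : G)) * n * ((x : G) * (x : G)) := by
            group
        _ = n := by rw [hx2]; simp
    have hφinv := hφ.coe_eq_inv_of_involutive hinv
    have hinvert : ∀ n ∈ N, (x : G) * n * (x : G)⁻¹ = n⁻¹ := by
      intro n hn
      have := congrFun hφinv ⟨n, hn⟩
      exact congrArg Subtype.val this
    -- the image of `x` is central in the quotient
    have hcentral : (QuotientGroup.mk (x : G) : G ⧸ N) ∈ Subgroup.center (G ⧸ N) := by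
      rw [Subgroup.mem_center_iff]
      intro q
      obtain ⟨g, rfl⟩ := QuotientGroup.mk_surjective q
      rw [← QuotientGroup.mk_mul, ← QuotientGroup.mk_mul, QuotientGroup.eq]
      apply hCN
      rw [hC, Subgroup.mem_centralizer_iff]
      intro n hn
      -- the element (g x)⁻¹ (x g) centralizes n
      have h1 : (g * (x : G))⁻¹ * ((x : G) * g) = (x : G)⁻¹ * (g⁻¹ * (x : G) * g) := by group
      rw [h1]
      have hn1 : g * n * g⁻¹ ∈ N := hN.conj_mem _ hn _
      have e1 := hinvert _ hn1
      have hn2 : (x : G)⁻¹ * n * (x : G)⁻¹⁻¹ ∈ N := hN.conj_mem _ hn _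
      have e2 := hinvert n hn
      -- conjugating n by the element gives n back
      have key : ((x : G)⁻¹ * (g⁻¹ * (x : G) * g)) * n * ((x : G)⁻¹ * (g⁻¹ * (x : G) * g))⁻¹ = n := by
        calc ((x : G)⁻¹ * (g⁻¹ * (x : G) * g)) * n * ((x : G)⁻¹ * (g⁻¹ * (x : G) * g))⁻¹
            = (x : G)⁻¹ * (g⁻¹ * ((x : G) * (g * n * g⁻¹) * (x : G)⁻¹) * g) * (x : G) := by group
          _ = (x : G)⁻¹ * (g⁻¹ * (g * n * g⁻¹)⁻¹ * g) * (x : G) := by rw [e1]
          _ = (x : G)⁻¹ * n⁻¹ * (x : G) := by group
          _ = (x : G) * n⁻¹ * (x : G)⁻¹ := by rw [hxinv]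
          _ = ((x : G) * n * (x : G)⁻¹)⁻¹ := by group
          _ = n := by rw [e2, inv_inv]
      calc n * ((x : G)⁻¹ * (g⁻¹ * (x : G) * g))
          = (((x : G)⁻¹ * (g⁻¹ * (x : G) * g)) * n * ((x : G)⁻¹ * (g⁻¹ * (x : G) * g))⁻¹) *
            ((x : G)⁻¹ * (g⁻¹ * (x : G) * g)) := by rw [key]
        _ = _ := by group
    rw [hZ, Subgroup.mem_bot, QuotientGroup.eq_one_iff] at hcentral
    -- `x ∈ N` has odd order
    have hxodd : (orderOf (x : G)).Coprime 2 := by
      have h1 : orderOf (⟨(x : G), hcentral⟩ : N) ∣ Nat.card N := orderOf_dvd_natCard _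
      rw [Subgroup.orderOf_mk] at h1
      exact Nat.Coprime.coprime_dvd_left h1 hNcop
    rw [hxo'] at hxodd
    exact absurd hxodd (by norm_num)
  · -- an involution of `Ω₁(Z(S))` centralizing `N`
    have hSCn : (((S : Subgroup G) ⊓ C).subgroupOf (S : Subgroup G)).Normal := by
      have : (C.subgroupOf (S : Subgroup G)).Normal := Subgroup.normal_subgroupOf
      have e : ((S : Subgroup G) ⊓ C).subgroupOf (S : Subgroup G) = C.subgroupOf (S : Subgroup G) := by
        ext y
        simp [Subgroup.mem_subgroupOf]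
      rw [e]; exact this
    have hne : ((S : Subgroup G) ⊓ C).subgroupOf (S : Subgroup G) ≠ ⊥ := by
      intro h
      rw [Subgroup.subgroupOf_eq_bot] at h
      have := h.eq_bot
      rw [inf_of_le_left inf_le_left] at this
      exact hSC this
    have hne2 := Cfsg.Agent.Lib.Lead.inf_center_ne_bot
      (((S : Subgroup G) ⊓ C).subgroupOf (S : Subgroup G)) hne
    have hp2 : IsPGroup 2 ↥(((S : Subgroup G) ⊓ C).subgroupOf (S : Subgroup G) ⊓
        Subgroup.center (S : Subgroup G)) := S.isPGroup'.to_subgroup _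
    obtain ⟨x, hx, hxo⟩ := exists_orderOf_eq_prime_of_ne_bot hp2 hne2
    have hxC : (x : G) ∈ C := (Subgroup.mem_inf.mp (Subgroup.mem_subgroupOf.mp hx.1)).2
    have hxc : ∀ t ∈ (S : Subgroup G), t * (x : G) = (x : G) * t := by
      intro t ht
      have := Subgroup.mem_center_iff.mp hx.2 ⟨t, ht⟩
      exact congrArg Subtype.val this
    have hxo' : orderOf (x : G) = 2 := by rw [Subgroup.orderOf_coe, hxo]
    have hxΩ := hΩmem (x : G) x.2 hxc hxo'
    have hfix := hA (x : G) (hne1 _ hxo') hxΩ
    rw [eq_bot_iff]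
    intro n hn
    rw [Subgroup.mem_bot]
    apply hfix n hn
    exact ((Subgroup.mem_centralizer_iff.mp hxC) n hn).symm

end Cfsg.Agent.S2898
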