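import Mathlib
import Cfsg.Agent.S2905
import Cfsg.Agent.S2790
import Cfsg.Agent.Lib.Helper6.SylowJoin
import Cfsg.Agent.Lib.Helper6.LocalKieler
import Cfsg.Agent.Lib.Helper6.PRes
import Cfsg.Agent.Lib.Helper6.FStarAct
import Cfsg.Agent.Lib.Helper3.Components5
import Cfsg.Agent.Lib.Helper3.Components2
import Cfsg.Agent.Lib.Helper3.Components4
import Cfsg.Agent.Lib.Helper6.PPrimeCore
import Cfsg.Agent.Lib.Helper6.StrEmb2
import Cfsg.Agent.Lib.Helper6.YL2
import Cfsg.Agent.Lib.Helper6.Subn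
import Cfsg.Statements.S2906

set_option autoImplicit false
open Cfsg

namespace Cfsg.Agent.S2906

open Cfsg.Agent.Lib.Helper6 Cfsg.Agent.Lib.Helper7 Cfsg.Agent.Lib.Helper3
open scoped commutatorElement

section helpers
universe u
variable {P : Type u} [Group P] [Finite P] {p : ℕ} [hp : Fact p.Prime]

theorem sylow_inf_biSup {ι : Type*} (s : Finset ι) (A : ι → Subgroup P)
    (hA : ∀ i, (A i).IsSubnormal) (S : Sylow p P) :
    (S : Subgroup P) ⊓ (⨆ i ∈ s, A i) = ⨆ i ∈ s, (S : Subgroup P) ⊓ A i := by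
  classical
  induction s using Finset.induction_on with
  | empty => simp
  | insert a s ha ih =>
    rw [Finset.iSup_insert, Finset.iSup_insert, ← ih]
    apply sylow_inf_sup_of_isSubnormal (hA a)
    exact isSubnormal_iSup _ (fun i => isSubnormal_iSup _ (fun _ => hA i))

theorem sylow_inf_iSup {ι : Type*} [Finite ι] (A : ι → Subgroup P)
    (hA : ∀ i, (A i).IsSubnormal) (S : Sylow p P) :
    (S : Subgroup P) ⊓ (⨆ i, A i) = ⨆ i, (S : Subgroup P) ⊓ A i := by
  classical
  haveI := Fintype.ofFinite ι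
  have := sylow_inf_biSup Finset.univ A hA S
  simpa using this

omit [Finite P] hp in
theorem perfect_le_of_isSolvable_quotient {E N : Subgroup P} [N.Normal] (hE : ⁅E, E⁆ = E)
    (hs : Group.IsSolvable (P ⧸ N)) : E ≤ N := by
  obtain ⟨n, hn⟩ := hs.solvable
  have h1 : ∀ k, E.map (QuotientGroup.mk' N) ≤ derivedSeries (P ⧸ N) k := by
    intro k
    induction k with
    | zero => simp
    | succ k ih =>
      rw [derivedSeries_succ]
      calc E.map (QuotientGroup.mk' N) = ⁅E, E⁆.map (QuotientGroup.mk' N) := by rw [hE]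
        _ = ⁅E.map (QuotientGroup.mk' N), E.map (QuotientGroup.mk' N)⁆ := Subgroup.map_commutator _ _ _
        _ ≤ _ := Subgroup.commutator_mono ih ih
  have h2 := h1 n
  rw [hn, le_bot_iff, Subgroup.map_eq_bot_iff, QuotientGroup.ker_mk'] at h2
  exact h2


theorem coprime_card_of_sylow_inf_eq_bot (S : Sylow p P) {N : Subgroup P} (hN : N.IsSubnormal)
    (h : (S : Subgroup P) ⊓ N = ⊥) : (Nat.card N).Coprime p := by
  rw [Nat.coprime_comm, Nat.Prime.coprime_iff_not_dvd hp.out]
  intro hdvd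
  exact (isSylowOf_inf_of_isSubnormal S hN).ne_bot hdvd h

/-- a supplement of a normal `p'`-subgroup contains a Sylow `p`-subgroup -/
theorem exists_sylow_le_of_sup_eq_top {N X : Subgroup P} [N.Normal] (hN : (Nat.card N).Coprime p)
    (h : X ⊔ N = ⊤) : ∃ S : Sylow p P, (S : Subgroup P) ≤ X := by
  obtain ⟨S₁⟩ : Nonempty (Sylow p X) := inferInstance
  have hS₁ := isSylowOf_of_sylow S₁
  obtain ⟨S₂, hS₂⟩ := (S₁.isPGroup'.map X.subtype).exists_le_sylow
  have hinf : (S₂ : Subgroup P) ⊓ X = (S₁ : Subgroup X).map X.subtype :=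
    hS₁.2.2 _ (S₂.isPGroup'.to_le inf_le_left) inf_le_right (le_inf hS₂ hS₁.1)
  have hB : IsSylowOf p X ((S₂ : Subgroup P) ⊓ X) := by rw [hinf]; exact hS₁
  have h1 := sylow_le_sup_of_normal S₂ (A := N) (B := X) (by rw [sup_comm]; exact h) hB
  rw [isPGroup_inf_coprime_eq_bot hN S₂.isPGroup', bot_sup_eq] at h1
  exact ⟨S₂, h1.trans inf_le_right⟩

/-- a normal subgroup inside the maximal subgroup `M` is nilpotent (when `O_p(P) = 1`) -/
theorem isNilpotent_of_normal_le (hP : Cfsg.IsPMinimal p P) (hOp : Cfsg.pCore p P = ⊥) (S : Sylow p P)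
    {M : Subgroup P} (hM : IsCoatom M) (hSM : (S : Subgroup P) ≤ M) (N : Subgroup P) [hN : N.Normal]
    (hNM : N ≤ M) : Group.IsNilpotent N := by
  have r1 := (Cfsg.Agent.S2905.result hP S M hM hSM).1 N hN.isSubnormal hNM
  rw [hOp, le_bot_iff, inf_comm] at r1
  have hcop := coprime_card_of_sylow_inf_eq_bot S hN.isSubnormal r1
  refine ((isNilpotent_of_finite_tfae (G := N)).out 0 3).mpr ?_
  intro q hq Q
  haveI : Fact q.Prime := hq
  -- Frattini
  have hfr := Sylow.normalizer_sup_eq_top Q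
  set X := Subgroup.normalizer (((Q : Subgroup N).map N.subtype : Subgroup P) : Set P) with hX
  obtain ⟨S₂, hS₂⟩ := exists_sylow_le_of_sup_eq_top hcop hfr
  obtain ⟨g, hg⟩ := MulAction.exists_smul_eq P S₂ S
  have hSX : (S : Subgroup P) ≤ cj g X := by
    rw [← hg, sylow_smul_eq_map_conj]
    exact cj_mono g hS₂
  have hNg : cj g N = N := by
    apply mem_normalizer_iff_cj.mp
    rw [Subgroup.normalizer_eq_top_iff.mpr hN]; trivial
  have htop : cj g X ⊔ N = ⊤ := by
    have := congrArg (cj g) hfr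
    rw [cj_sup, hNg] at this
    rw [this]
    exact top_le_iff.mp (fun x _ => (mem_cj g x ⊤).mpr (Subgroup.mem_top _))
  have hXtop : cj g X = ⊤ := by
    by_contra hne
    have h2 := Cfsg.Agent.S2905.le_of_ne_top hP S hM hSM hSX hne
    have : (⊤ : Subgroup P) ≤ M := htop ▸ sup_le h2 hNM
    exact hM.1 (top_le_iff.mp this)
  have hXtop' : X = ⊤ := by
    have := congrArg (cj g⁻¹) hXtop
    rw [cj_inv_cj] at this
    rw [this]
    exact top_le_iff.mp (fun x _ => (mem_cj g⁻¹ x ⊤).mpr (Subgroup.mem_top _))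
  have hQn : ((Q : Subgroup N).map N.subtype).Normal := Subgroup.normalizer_eq_top_iff.mp hXtop'
  have : (Q : Subgroup N) = ((Q : Subgroup N).map N.subtype).subgroupOf N := by
    rw [Subgroup.subgroupOf, Subgroup.comap_map_eq_self_of_injective N.subtype_injective]
  rw [this]
  infer_instance


theorem struct (hP : Cfsg.IsPMinimal p P) (hOp : Cfsg.pCore p P = ⊥) (S : Sylow p P)
    {M : Subgroup P} (hM : IsCoatom M) (hSM : (S : Subgroup P) ≤ M) (K : Subgroup P)
    (hK : Cfsg.IsComponent K) :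
    Cfsg.pResidual p P = Cfsg.layer P ∧ Cfsg.fittingSubgroup P ≤ Cfsg.layer P ∧
      Cfsg.layer P = ⨆ s : ↥(S : Subgroup P), cj (s : P) K := by
  have r3 := (Cfsg.Agent.S2905.result hP S M hM hSM).2.2.1
  have hnotle : ∀ N : Subgroup P, N.Normal → N ≤ M.normalCore → ¬ K ≤ N := by
    intro N hN hNM hKN
    haveI := hN
    haveI := isNilpotent_of_normal_le hP hOp S hM hSM N (hNM.trans (Subgroup.normalCore_le M))
    exact IsQuasisimple.not_le_of_isSolvable hK.2 (H := N) inferInstance hKN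
  have hRE : Cfsg.pResidual p P ≤ Cfsg.layer P := by
    rcases r3 (Cfsg.layer P) inferInstance with h | h
    · exact h
    · exact (hnotle _ inferInstance h (IsComponent.le_layer hK)).elim
  have hER : Cfsg.layer P ≤ Cfsg.pResidual p P := by
    apply perfect_le_of_isSolvable_quotient commutator_layer_layer
    haveI := (isPGroup_quotient_pResidual (G := P) p).isNilpotent
    infer_instance
  have hRE' := le_antisymm hRE hER
  set L := ⨆ s : ↥(S : Subgroup P), cj (s : P) K with hL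
  have hLE : L ≤ Cfsg.layer P := by
    apply iSup_le
    intro s
    exact IsComponent.le_layer (IsComponent.map_conj hK s)
  have hKL : K ≤ L := by
    have := le_iSup (fun s : ↥(S : Subgroup P) => cj (s : P) K) 1
    rw [show ((1 : ↥(S : Subgroup P)) : P) = 1 from rfl, cj_one] at this
    exact this
  have hLn : L.Normal := by
    rw [← Subgroup.normalizer_eq_top_iff, eq_top_iff, ← pResidual_sup_sylow S, hRE']
    apply sup_le
    · intro x hx
      rw [mem_normalizer_iff_cj]
      rw [hL]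
      unfold Cfsg.Agent.Lib.Helper7.cj
      rw [Subgroup.map_iSup]
      congr 1
      funext s
      exact mem_normalizer_iff_cj.mp (IsComponent.layer_le_normalizer (IsComponent.map_conj hK s) hx)
    · intro t ht
      rw [mem_normalizer_iff_cj]
      apply cj_eq_of_le
      rw [hL]
      unfold Cfsg.Agent.Lib.Helper7.cj
      rw [Subgroup.map_iSup]
      apply iSup_le
      intro s
      have h1 : cj t (cj (s : P) K) = cj (t * (s : P)) K := (cj_mul t (s : P) K).symm
      exact h1.le.trans (le_iSup (fun s : ↥(S : Subgroup P) => cj (s : P) K)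
        (⟨t * (s : P), Subgroup.mul_mem _ ht s.2⟩))
  have hRL : Cfsg.pResidual p P ≤ L := by
    rcases r3 L hLn with h | h
    · exact h
    · exact (hnotle _ hLn h hKL).elim
  refine ⟨hRE', ?_, le_antisymm (hRE' ▸ hRL) hLE⟩
  rw [← hRE']
  intro x hx
  apply mem_pResidual_of_coprime'
  exact Nat.Coprime.coprime_dvd_left (Subgroup.orderOf_dvd_natCard _ hx) (coprime_card_fittingSubgroup hOp)


/-- a component of a `p`-minimal group with `O_p = 1` has order divisible by `p` -/
theorem sylow_inf_component_ne_bot (hP : Cfsg.IsPMinimal p P) (hOp : Cfsg.pCore p P = ⊥) (S : Sylow p P)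
    {M : Subgroup P} (hM : IsCoatom M) (hSM : (S : Subgroup P) ≤ M) (K : Subgroup P)
    (hK : Cfsg.IsComponent K) : (S : Subgroup P) ⊓ K ≠ ⊥ := by
  intro hbot
  obtain ⟨hRE, -, hEL⟩ := struct hP hOp S hM hSM K hK
  have r2 := (Cfsg.Agent.S2905.result hP S M hM hSM).2.1
  have hSE : (S : Subgroup P) ⊓ Cfsg.layer P = ⊥ := by
    rw [hEL, sylow_inf_iSup (fun s : ↥(S : Subgroup P) => cj (s : P) K)
      (fun s => (IsComponent.map_conj hK (s : P)).1)]
    rw [iSup_eq_bot]
    intro s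
    have h1 : cj (s : P) (S : Subgroup P) = S :=
      cj_eq_of_mem_normalizer (H := S) Subgroup.le_normalizer s.2
    have h2 := cj_inf (s : P) (S : Subgroup P) K
    rw [h1, hbot, cj_bot] at h2
    exact h2.symm
  have hcop := coprime_card_of_sylow_inf_eq_bot S (Subgroup.Normal.isSubnormal inferInstance) hSE
  rw [← hRE] at hcop
  have hle2 := r2 (by
    intro T
    have : (T : Subgroup ↥(Cfsg.pResidual p P)) = ⊥ := by
      have := isPGroup_inf_coprime_eq_bot (K := (⊤ : Subgroup ↥(Cfsg.pResidual p P)))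
        (by rw [Subgroup.card_top]; exact hcop) T.isPGroup'
      rwa [inf_top_eq] at this
    rw [this]; infer_instance)
  -- `p` divides `|P|`
  have hpP : p ∣ Nat.card P := by
    by_contra hnd
    have : (S : Subgroup P) = ⊥ := by
      have := isPGroup_inf_coprime_eq_bot (K := (⊤ : Subgroup P)) (p := p)
        (by rw [Subgroup.card_top, Nat.coprime_comm, Nat.Prime.coprime_iff_not_dvd hp.out]; exact hnd)
        S.isPGroup'
      rwa [inf_top_eq] at this
    apply (hP S).1
    rw [this]; infer_instance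
  have hcopK : (Nat.card K).Coprime p := by
    apply Nat.Coprime.coprime_dvd_left (Subgroup.card_dvd_of_le ((IsComponent.le_layer hK).trans hRE.ge)) hcop
  have hsub : (Nat.card K).primeFactors ⊆ (Nat.card P).primeFactors.erase p := by
    intro q hq
    rw [Finset.mem_erase]
    constructor
    · rintro rfl
      have := Nat.dvd_of_mem_primeFactors hq
      rw [Nat.coprime_comm, Nat.Prime.coprime_iff_not_dvd hp.out] at hcopK
      exact hcopK this
    · exact Nat.primeFactors_mono (Subgroup.card_subgroup_dvd_card K) Nat.card_pos.ne' hq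
  have hcard : (Nat.card K).primeFactors.card ≤ 1 := by
    have h1 := Finset.card_le_card hsub
    have h2 : ((Nat.card P).primeFactors.erase p).card = (Nat.card P).primeFactors.card - 1 :=
      Finset.card_erase_of_mem (Nat.mem_primeFactors.mpr ⟨hp.out, hpP, Nat.card_pos.ne'⟩)
    omega
  have hsolv : Group.IsSolvable K := by
    rcases Nat.lt_or_ge (Nat.card K).primeFactors.card 1 with h0 | h1
    · have : (Nat.card K).primeFactors = ∅ := Finset.card_eq_zero.mp (by omega)
      rw [Nat.primeFactors_eq_empty] at this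
      rcases this with h | h
      · exact (Nat.card_pos.ne' h).elim
      · haveI : Subsingleton K := (Nat.card_eq_one_iff_unique.mp h).1
        infer_instance
    · have h1' : (Nat.card K).primeFactors.card = 1 := le_antisymm hcard h1
      rw [← isPrimePow_iff_card_primeFactors_eq_one, isPrimePow_nat_iff] at h1'
      obtain ⟨q, k, hq, -, hqk⟩ := h1'
      haveI : Fact q.Prime := ⟨hq⟩
      haveI := (IsPGroup.of_card hqk.symm : IsPGroup q K).isNilpotent
      infer_instance
  exact IsQuasisimple.not_le_of_isSolvable hK.2 hsolv le_rfl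


omit [Finite P] hp in
theorem exists_mul_of_mem_sup {A B : Subgroup P} (hB : B ≤ Subgroup.normalizer (A : Set P)) {x : P}
    (hx : x ∈ A ⊔ B) : ∃ a ∈ A, ∃ b ∈ B, x = a * b := by
  rw [← SetLike.mem_coe, Subgroup.coe_mul_of_right_le_normalizer_left A B hB, Set.mem_mul] at hx
  obtain ⟨a, ha, b, hb, rfl⟩ := hx
  exact ⟨a, ha, b, hb, rfl⟩

omit [Finite P] hp in
theorem le_inf_sup_of_le_normalizer {A B X : Subgroup P} (hB : B ≤ Subgroup.normalizer (A : Set P))
    (hBX : B ≤ X) (hX : X ≤ A ⊔ B) : X ≤ (X ⊓ A) ⊔ B := by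
  intro x hx
  obtain ⟨a, ha, b, hb, rfl⟩ := exists_mul_of_mem_sup hB (hX hx)
  have : a ∈ X := by
    have := X.mul_mem hx (X.inv_mem (hBX hb))
    simpa using this
  exact Subgroup.mul_mem_sup (Subgroup.mem_inf.mpr ⟨this, ha⟩) hb

omit [Finite P] hp in
theorem isSylowOf_sup {K T : Subgroup P} (hT : IsPGroup p T)
    (hTK : T ≤ Subgroup.normalizer (K : Set P)) (hK : IsSylowOf p K (T ⊓ K)) :
    IsSylowOf p (K ⊔ T) T := by
  refine ⟨le_sup_right, hT, ?_⟩
  intro Q hQ hQle hTQ
  apply le_antisymm _ hTQ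
  have h1 := le_inf_sup_of_le_normalizer hTK hTQ hQle
  have h2 : Q ⊓ K = T ⊓ K :=
    hK.2.2 _ (hQ.to_le inf_le_left) inf_le_right (inf_le_inf_right K hTQ)
  rw [h2] at h1
  exact h1.trans (sup_le inf_le_left le_rfl)

omit [Finite P] hp in
/-- a perfect group `K = B Z(K)` equals `B` -/
theorem le_of_le_sup_centralizer {K B : Subgroup P} (hK : ⁅K, K⁆ = K) (hBK : B ≤ K)
    (h : K ≤ Subgroup.centralizer (K : Set P) ⊔ B) : K ≤ B := by
  have hBN : B ≤ Subgroup.normalizer ((Subgroup.centralizer (K : Set P) : Subgroup P) : Set P) :=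
    hBK.trans (Subgroup.le_normalizer.trans (normalizer_le_normalizer_centralizer K))
  have key : ∀ k ∈ K, ∃ c ∈ Subgroup.centralizer (K : Set P), ∃ b ∈ B, c ∈ K ∧ k = c * b := by
    intro k hk
    obtain ⟨c, hc, b, hb, rfl⟩ := exists_mul_of_mem_sup hBN (h hk)
    refine ⟨c, hc, b, hb, ?_, rfl⟩
    have := K.mul_mem hk (K.inv_mem (hBK hb))
    simpa using this
  rw [← hK, Subgroup.commutator_le]
  intro k₁ hk₁ k₂ hk₂
  obtain ⟨c₁, hc₁, b₁, hb₁, hc₁K, rfl⟩ := key k₁ hk₁
  obtain ⟨c₂, hc₂, b₂, hb₂, hc₂K, rfl⟩ := key k₂ hk₂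
  rw [Subgroup.mem_centralizer_iff] at hc₁ hc₂
  have e : ⁅c₁ * b₁, c₂ * b₂⁆ = ⁅b₁, b₂⁆ := by
    simp only [commutatorElement_def, mul_inv_rev]
    have hb₁K := hBK hb₁
    have hb₂K := hBK hb₂
    have e1 : c₁ * b₁ * (c₂ * b₂) * (b₁⁻¹ * c₁⁻¹) * (b₂⁻¹ * c₂⁻¹)
        = c₁ * (b₁ * (c₂ * b₂) * b₁⁻¹) * c₁⁻¹ * (b₂⁻¹ * c₂⁻¹) := by group
    have m1 : b₁ * (c₂ * b₂) * b₁⁻¹ ∈ K :=
      K.mul_mem (K.mul_mem hb₁K (K.mul_mem hc₂K hb₂K)) (K.inv_mem hb₁K)
    rw [e1, ← hc₁ _ m1]
    have e2 : b₁ * (c₂ * b₂) * b₁⁻¹ * c₁ * c₁⁻¹ * (b₂⁻¹ * c₂⁻¹)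
        = b₁ * (c₂ * (b₂ * b₁⁻¹ * b₂⁻¹)) * c₂⁻¹ := by group
    have m2 : b₂ * b₁⁻¹ * b₂⁻¹ ∈ K := K.mul_mem (K.mul_mem hb₂K (K.inv_mem hb₁K)) (K.inv_mem hb₂K)
    rw [e2, ← hc₂ _ m2]
    group
  rw [e, commutatorElement_def]
  exact B.mul_mem (B.mul_mem (B.mul_mem hb₁ hb₂) (B.inv_mem hb₁)) (B.inv_mem hb₂)


theorem isPMinimal_of_pMin' {S P₀ : Subgroup P} (hSyl : IsSylowOf p P₀ S)
    (h : Cfsg.Agent.S2790.PMin S P₀) : Cfsg.IsPMinimal p ↥P₀ := by
  obtain ⟨hSP, hnN, huniq⟩ := h
  obtain ⟨S₀, hS₀⟩ := hSyl.exists_sylow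
  intro S'
  obtain ⟨k, hk⟩ := MulAction.exists_smul_eq P₀ S₀ S'
  have hS'map : (S' : Subgroup ↥P₀).map P₀.subtype = cj (k : P) S := by
    rw [← hk, sylow_smul_eq_map_conj, ← hS₀]
    show ((S₀ : Subgroup ↥P₀).map (MulAut.conj k).toMonoidHom).map P₀.subtype = _
    rw [← map_subtype_cj]
  have hnn : ¬ (S' : Subgroup ↥P₀).Normal := by
    intro hn
    apply hnN
    have h1 := Cfsg.Agent.S2805.le_normalizer_map_subtype_of_normal P₀ (S' : Subgroup ↥P₀)
    rw [hS'map, normalizer_cj] at h1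
    have h2 := cj_mono (k : P)⁻¹ h1
    rw [cj_inv_cj, cj_eq_self_of_mem (P₀.inv_mem k.2)] at h2
    exact h2
  refine ⟨hnn, ?_⟩
  have hS'top : (S' : Subgroup ↥P₀) ≠ ⊤ := by
    intro h
    apply hnn
    rw [h]; infer_instance
  obtain ⟨M, hM, hS'M⟩ := (eq_top_or_exists_le_coatom (S' : Subgroup ↥P₀)).resolve_left hS'top
  refine ⟨M, ⟨hM, hS'M⟩, ?_⟩
  rintro M' ⟨hM', hS'M'⟩
  have key : ∀ {X : Subgroup ↥P₀}, IsCoatom X → (S' : Subgroup ↥P₀) ≤ X →
      MaxIn (cj (k : P)⁻¹ (X.map P₀.subtype)) P₀ ∧ S ≤ cj (k : P)⁻¹ (X.map P₀.subtype) := by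
    intro X hX hSX
    constructor
    · have := Cfsg.Agent.S2790.maxIn_cj (Cfsg.Agent.S2790.maxIn_map_subtype_of_isCoatom hX) (k : P)⁻¹
      rwa [cj_eq_self_of_mem (P₀.inv_mem k.2)] at this
    · have h1 : cj (k : P) S ≤ X.map P₀.subtype := by
        rw [← hS'map]; exact Subgroup.map_mono hSX
      have := cj_mono (k : P)⁻¹ h1
      rwa [cj_inv_cj] at this
  obtain ⟨a1, a2⟩ := key hM hS'M
  obtain ⟨b1, b2⟩ := key hM' hS'M'
  have h3 := huniq _ _ b1 b2 a1 a2
  have h4 := cj_injective _ h3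
  exact Subgroup.map_injective P₀.subtype_injective h4


theorem pMin_component (hP : Cfsg.IsPMinimal p P) (hOp : Cfsg.pCore p P = ⊥) (S : Sylow p P)
    {M : Subgroup P} (hM : IsCoatom M) (hSM : (S : Subgroup P) ≤ M) (K : Subgroup P)
    (hK : Cfsg.IsComponent K) :
    IsSylowOf p (K ⊔ ((S : Subgroup P) ⊓ Subgroup.normalizer (K : Set P)))
        ((S : Subgroup P) ⊓ Subgroup.normalizer (K : Set P)) ∧
      Cfsg.Agent.S2790.PMin ((S : Subgroup P) ⊓ Subgroup.normalizer (K : Set P))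
        (K ⊔ ((S : Subgroup P) ⊓ Subgroup.normalizer (K : Set P))) := by
  set NK := Subgroup.normalizer (K : Set P) with hNK
  set S₀ := (S : Subgroup P) ⊓ NK with hS₀
  set P₀ := K ⊔ S₀ with hP₀
  have hS₀N : S₀ ≤ NK := inf_le_right
  have hS₀S : S₀ ≤ S := inf_le_left
  have hS₀K : S₀ ⊓ K = (S : Subgroup P) ⊓ K := by
    rw [hS₀, inf_assoc, inf_eq_right.mpr (Subgroup.le_normalizer : K ≤ NK)]
  have hne := sylow_inf_component_ne_bot hP hOp S hM hSM K hK
  have hSylK : IsSylowOf p K (S₀ ⊓ K) := by rw [hS₀K]; exact isSylowOf_inf_of_isSubnormal S hK.1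
  have hSyl : IsSylowOf p P₀ S₀ := isSylowOf_sup (S.isPGroup'.to_le hS₀S) hS₀N hSylK
  obtain ⟨hRE, -, hEL⟩ := struct hP hOp S hM hSM K hK
  have r1 := (Cfsg.Agent.S2905.result hP S M hM hSM).1
  have hKM : ¬ K ≤ M := by
    intro hle
    have := r1 K hK.1 hle
    rw [hOp, le_bot_iff, inf_comm] at this
    exact hne this
  refine ⟨hSyl, le_sup_right, ?_, ?_⟩
  · intro hle
    have hK1 : K ≤ Subgroup.normalizer ((S₀ ⊓ K : Subgroup P) : Set P) :=
      (le_inf (le_sup_left.trans hle) Subgroup.le_normalizer).trans (normalizer_inf_le' S₀ K)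
    have hsn : (S₀ ⊓ K).IsSubnormal :=
      subnIn_top_iff.mp (SubnIn.step _ K ⊤ inf_le_right hK1 (subnIn_top_iff.mpr hK.1))
    have := le_pCore_of_isSubnormal_of_isPGroup hsn (S.isPGroup'.to_le (inf_le_left.trans hS₀S))
    rw [hOp, le_bot_iff, hS₀K] at this
    exact hne this
  · set M₀ := (M ⊓ K) ⊔ S₀ with hM₀
    have hM₀M : M₀ ≤ M := sup_le inf_le_left (hS₀S.trans hSM)
    have hM₀lt : M₀ < P₀ := by
      refine lt_of_le_of_ne (sup_le (inf_le_right.trans le_sup_left) le_sup_right) ?_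
      intro heq
      exact hKM ((le_sup_left.trans heq.ge).trans hM₀M)
    have KC : ∀ Y : Subgroup P, S₀ ≤ Y → Y < P₀ → Y ⊓ K ≤ M := by
      intro Y hSY hY
      by_contra hBM
      set B := Y ⊓ K with hB
      have hBK : B ≤ K := inf_le_right
      have hS₀B : S₀ ≤ Subgroup.normalizer (B : Set P) :=
        (le_inf (hSY.trans Subgroup.le_normalizer) hS₀N).trans (normalizer_inf_le' Y K)
      set Y' := ⨆ s : ↥(S : Subgroup P), cj (s : P) B with hY'
      have hBY' : B ≤ Y' := by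
        have := le_iSup (fun s : ↥(S : Subgroup P) => cj (s : P) B) 1
        rw [show ((1 : ↥(S : Subgroup P)) : P) = 1 from rfl, cj_one] at this
        exact this
      have hSY' : (S : Subgroup P) ≤ Subgroup.normalizer (Y' : Set P) := by
        intro t ht
        rw [mem_normalizer_iff_cj]
        apply cj_eq_of_le
        rw [hY']
        unfold Cfsg.Agent.Lib.Helper7.cj
        rw [Subgroup.map_iSup]
        apply iSup_le
        intro s
        have h1 : cj t (cj (s : P) B) = cj (t * (s : P)) B := (cj_mul t (s : P) B).symm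
        exact h1.le.trans (le_iSup (fun s : ↥(S : Subgroup P) => cj (s : P) B)
          (⟨t * (s : P), Subgroup.mul_mem _ ht s.2⟩))
      have htop : Y' ⊔ (S : Subgroup P) = ⊤ := by
        by_contra hne'
        have := Cfsg.Agent.S2905.le_of_ne_top hP S hM hSM le_sup_right hne'
        exact hBM ((hBY'.trans le_sup_left).trans this)
      set C := Subgroup.centralizer (K : Set P) with hC
      have hconj : ∀ s : ↥(S : Subgroup P), (s : P) ∈ NK ∨ cj (s : P) K ≤ C := by
        intro s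
        by_cases h : cj (s : P) K = K
        · left; exact mem_normalizer_iff_cj.mpr h
        · right
          have := IsComponent.commutator_eq_bot_of_ne (IsComponent.map_conj hK (s : P)) hK h
          rwa [Subgroup.commutator_eq_bot_iff_le_centralizer] at this
      have hY'BC : Y' ≤ C ⊔ B := by
        apply iSup_le
        intro s
        rcases hconj s with h | h
        · have : cj (s : P) B = B := cj_eq_of_mem_normalizer hS₀B (Subgroup.mem_inf.mpr ⟨s.2, h⟩)
          rw [this]; exact le_sup_right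
        · exact (cj_mono _ hBK).trans (h.trans le_sup_left)
      have hY'E : Y' ≤ Cfsg.layer P :=
        iSup_le (fun s => (cj_mono _ hBK).trans (IsComponent.le_layer (IsComponent.map_conj hK s)))
      have hE1 : Cfsg.layer P ≤ Y' ⊔ ((S : Subgroup P) ⊓ Cfsg.layer P) := by
        intro x hx
        have hx' : x ∈ Y' ⊔ (S : Subgroup P) := by rw [htop]; trivial
        obtain ⟨y, hy, s, hs, rfl⟩ := exists_mul_of_mem_sup hSY' hx'
        have : s ∈ Cfsg.layer P := by
          have := (Cfsg.layer P).mul_mem ((Cfsg.layer P).inv_mem (hY'E hy)) hx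
          simpa using this
        exact Subgroup.mul_mem_sup hy (Subgroup.mem_inf.mpr ⟨hs, this⟩)
      have hE2 : Cfsg.layer P ≤ K ⊔ (Cfsg.layer P ⊓ C) := by
        calc Cfsg.layer P = ⨆ s : ↥(S : Subgroup P), cj (s : P) K := hEL
          _ ≤ _ := by
            apply iSup_le
            intro s
            rcases hconj s with h | h
            · rw [mem_normalizer_iff_cj.mp h]; exact le_sup_left
            · exact (le_inf (IsComponent.le_layer (IsComponent.map_conj hK s)) h).trans le_sup_right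
      have hECsn : (Cfsg.layer P ⊓ C).IsSubnormal := by
        apply subnIn_top_iff.mp
        refine SubnIn.step _ (Cfsg.layer P) ⊤ inf_le_left ?_
          (subnIn_top_iff.mpr (Subgroup.Normal.isSubnormal inferInstance))
        refine (le_inf Subgroup.le_normalizer ?_).trans (normalizer_inf_le' _ _)
        exact (IsComponent.layer_le_normalizer hK).trans (normalizer_le_normalizer_centralizer K)
      have hSE : (S : Subgroup P) ⊓ Cfsg.layer P ≤ C ⊔ B := by
        calc (S : Subgroup P) ⊓ Cfsg.layer P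
            ≤ (S : Subgroup P) ⊓ (K ⊔ (Cfsg.layer P ⊓ C)) := inf_le_inf_left _ hE2
          _ = ((S : Subgroup P) ⊓ K) ⊔ ((S : Subgroup P) ⊓ (Cfsg.layer P ⊓ C)) :=
            sylow_inf_sup_of_isSubnormal hK.1 hECsn S
          _ ≤ C ⊔ B := sup_le ((hS₀K ▸ inf_le_inf_right K hSY).trans le_sup_right)
              ((inf_le_right.trans inf_le_right).trans le_sup_left)
      have hKB : K ≤ B := by
        apply le_of_le_sup_centralizer (IsQuasisimple.commutator_eq_self hK.2) hBK
        exact ((IsComponent.le_layer hK).trans hE1).trans (sup_le hY'BC hSE)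
      have : P₀ ≤ Y := sup_le (hKB.trans inf_le_left) hSY
      exact lt_irrefl _ (lt_of_lt_of_le hY this)
    have hYM₀ : ∀ Y : Subgroup P, S₀ ≤ Y → Y < P₀ → Y ≤ M₀ := by
      intro Y hSY hY
      have h1 := le_inf_sup_of_le_normalizer hS₀N hSY hY.le
      exact h1.trans (sup_le_sup_right (le_inf (KC Y hSY hY) inf_le_right) _)
    intro M₁ M₂ hM₁ hS₁ hM₂ hS₂
    have e1 : M₀ = M₁ := hM₁.2 M₀ (hYM₀ M₁ hS₁ hM₁.1) hM₀lt
    have e2 : M₀ = M₂ := hM₂.2 M₀ (hYM₀ M₂ hS₂ hM₂.1) hM₀lt
    rw [← e1, ← e2]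

end helpers



/-- Let P be a finite p-minimal group with O_p(P) = 1, S a Sylow p-subgroup of P and K a component of P. Then O^p(P) = F*(P) = E(P) is generated by the S-conjugates of K, and the subgroup K·N_S(K) is again p-minimal. -/
theorem result {P : Type*} [Group P] [Finite P] {p : ℕ} [Fact p.Prime] (hP : Cfsg.IsPMinimal p P) (hOp : Cfsg.pCore p P = ⊥) (S : Sylow p P) (K : Subgroup P) (hK : Cfsg.IsComponent K) : Cfsg.pResidual p P = Cfsg.generalizedFittingSubgroup P ∧ Cfsg.generalizedFittingSubgroup P = Cfsg.layer P ∧ Cfsg.layer P = ⨆ s : ↥(S : Subgroup P), K.map (MulAut.conj (s : P)).toMonoidHom ∧ Cfsg.IsPMinimal p ↥(K ⊔ ((S : Subgroup P) ⊓ Subgroup.normalizer (K : Set P))) := by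
  obtain ⟨-, M, ⟨hM, hSM⟩, -⟩ := hP S
  obtain ⟨h1, h2, h3⟩ := struct hP hOp S hM hSM K hK
  have hF : Cfsg.generalizedFittingSubgroup P = Cfsg.layer P := by
    unfold Cfsg.generalizedFittingSubgroup; exact sup_eq_left.mpr h2
  refine ⟨h1.trans hF.symm, hF, h3, ?_⟩
  obtain ⟨a, b⟩ := pMin_component hP hOp S hM hSM K hK
  exact isPMinimal_of_pMin' a b

end Cfsg.Agent.S2906
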