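import Mathlib
import Cfsg.Statements.S2907

set_option autoImplicit false
open Cfsg
open scoped commutatorElement

namespace Cfsg.Agent.S2907

/-- Let X be a finite semi-extraspecial p-group and x an element of X outside the centre. Then the index of C_X(x) in X equals the order of Z(X), and the commutators [x, y], y ∈ X, form exactly the centre Z(X). -/
theorem result {X : Type*} [Group X] [Finite X] {p : ℕ} [Fact p.Prime] (hX : Cfsg.IsSemiExtraspecial p X) (x : X) (hx : x ∉ Subgroup.center X) : (Subgroup.centralizer ({x} : Set X)).index = Nat.card ↥(Subgroup.center X) ∧ {z : X | ∃ y : X, z = x * y * x⁻¹ * y⁻¹} = (Subgroup.center X : Set X) := by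
  obtain ⟨⟨hpX, hfrat, hcomm⟩, hquot⟩ := hX
  -- class two
  have hcl2 : ∀ a b : X, a * b * a⁻¹ * b⁻¹ ∈ Subgroup.center X := by
    intro a b
    rw [← hcomm, commutator_def]
    exact Subgroup.commutator_mem_commutator (Subgroup.mem_top a) (Subgroup.mem_top b)
  -- the commutator homomorphism
  let φ : X →* X :=
    { toFun := fun y => x * y * x⁻¹ * y⁻¹
      map_one' := by simp
      map_mul' := by
        intro y z
        have hz := Subgroup.mem_center_iff.mp (hcl2 x z) y
        calc x * (y * z) * x⁻¹ * (y * z)⁻¹ = x * y * x⁻¹ * ((x * z * x⁻¹ * z⁻¹) * y⁻¹) := by group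
          _ = x * y * x⁻¹ * (y⁻¹ * (x * z * x⁻¹ * z⁻¹)) := by
              have : (x * z * x⁻¹ * z⁻¹) * y⁻¹ = y⁻¹ * (x * z * x⁻¹ * z⁻¹) := by
                calc (x * z * x⁻¹ * z⁻¹) * y⁻¹ = y⁻¹ * (y * (x * z * x⁻¹ * z⁻¹)) * y⁻¹ := by group
                  _ = y⁻¹ * ((x * z * x⁻¹ * z⁻¹) * y) * y⁻¹ := by rw [hz]
                  _ = y⁻¹ * (x * z * x⁻¹ * z⁻¹) := by group
              rw [this]
          _ = (x * y * x⁻¹ * y⁻¹) * (x * z * x⁻¹ * z⁻¹) := by group }
  have hφ : ∀ y, φ y = x * y * x⁻¹ * y⁻¹ := fun y => rfl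
  have hker : φ.ker = Subgroup.centralizer ({x} : Set X) := by
    ext y
    rw [MonoidHom.mem_ker, hφ, Subgroup.mem_centralizer_iff]
    constructor
    · intro h z hz
      have hz' : z = x := hz
      rw [hz']
      calc x * y = (x * y * x⁻¹ * y⁻¹) * (y * x) := by group
        _ = y * x := by rw [h, one_mul]
    · intro h
      have := h x rfl
      calc x * y * x⁻¹ * y⁻¹ = (x * y) * x⁻¹ * y⁻¹ := by group
        _ = (y * x) * x⁻¹ * y⁻¹ := by rw [this]
        _ = 1 := by group
  have hrange_le : φ.range ≤ Subgroup.center X := by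
    rintro _ ⟨y, rfl⟩
    exact hcl2 x y
  -- the range is the whole centre
  have hrange : φ.range = Subgroup.center X := by
    by_contra hne
    have hlt : φ.range.subgroupOf (Subgroup.center X) ≠ ⊤ := by
      intro h
      apply hne
      apply le_antisymm hrange_le
      exact Subgroup.subgroupOf_eq_top.mp h
    rcases eq_top_or_exists_le_coatom (φ.range.subgroupOf (Subgroup.center X)) with h | ⟨Y', hY', hle⟩
    · exact hlt h
    set Y := Y'.map (Subgroup.center X).subtype with hY
    have hYZ : Y ≤ Subgroup.center X := Subgroup.map_subtype_le Y'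
    have hYsub : Y.subgroupOf (Subgroup.center X) = Y' := by
      rw [hY, Subgroup.subgroupOf]
      exact Subgroup.comap_map_eq_self_of_injective (Subgroup.center X).subtype_injective Y'
    obtain ⟨hYn, hES⟩ := hquot Y hYZ (hYsub ▸ hY')
    obtain ⟨⟨_, _, hcommQ⟩, _⟩ := hES
    have hrY : φ.range ≤ Y := by
      intro z hz
      have hzZ := hrange_le hz
      have : (⟨z, hzZ⟩ : Subgroup.center X) ∈ Y' := hle (Subgroup.mem_subgroupOf.mpr hz)
      exact ⟨⟨z, hzZ⟩, this, rfl⟩
    have hxc : (QuotientGroup.mk' Y) x ∈ Subgroup.center (X ⧸ Y) := by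
      rw [Subgroup.mem_center_iff]
      intro q
      obtain ⟨y, rfl⟩ := QuotientGroup.mk'_surjective Y q
      rw [← map_mul, ← map_mul]
      show (QuotientGroup.mk (y * x) : X ⧸ Y) = QuotientGroup.mk (x * y)
      rw [QuotientGroup.eq]
      have h1 : φ y ∈ Y := hrY ⟨y, rfl⟩
      have h2 := hYn.conj_mem (φ y) h1 (x⁻¹ * y⁻¹)
      rw [hφ] at h2
      have : (y * x)⁻¹ * (x * y) = (x⁻¹ * y⁻¹) * (x * y * x⁻¹ * y⁻¹) * (x⁻¹ * y⁻¹)⁻¹ := by group
      rw [this]; exact h2
    have hcq : Subgroup.center (X ⧸ Y) = (Subgroup.center X).map (QuotientGroup.mk' Y) := by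
      have htop : Subgroup.map (QuotientGroup.mk' Y) ⊤ = ⊤ := by
        rw [← MonoidHom.range_eq_map, MonoidHom.range_eq_top]
        exact QuotientGroup.mk'_surjective Y
      rw [← hcommQ, commutator_def, ← hcomm, commutator_def, Subgroup.map_commutator, htop]
    rw [hcq] at hxc
    obtain ⟨z, hz, hzx⟩ := hxc
    have h3 : z⁻¹ * x ∈ Y := by
      have := QuotientGroup.eq.mp hzx
      exact this
    apply hx
    have : x = z * (z⁻¹ * x) := by group
    rw [this]
    exact (Subgroup.center X).mul_mem hz (hYZ h3)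
  refine ⟨?_, ?_⟩
  · rw [← hker, Subgroup.index_ker, hrange]
  · ext z
    constructor
    · rintro ⟨y, rfl⟩
      exact hcl2 x y
    · intro hz
      have : z ∈ φ.range := by rw [hrange]; exact hz
      obtain ⟨y, hy⟩ := this
      exact ⟨y, hy.symm⟩

end Cfsg.Agent.S2907
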