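import Mathlib
import Cfsg.Agent.Lib.Helper6.Conj2
import Cfsg.Agent.Lib.Lead.CoprimeFrattini
import Cfsg.Agent.Lib.Lead.Frattini
import Cfsg.Statements.S2908

set_option autoImplicit false
open Cfsg Cfsg.Agent.Lib.Helper6
open scoped commutatorElement

namespace Cfsg.Agent.S2908

/-- Let P be a p-subgroup of a finite group, normalized by a p-subgroup A and by a subgroup B of order prime to p that commutes elementwise with A. If [P, B] ≤ [P, A], then B centralizes P. -/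
theorem result {G : Type*} [Group G] [Finite G] {p : ℕ} [Fact p.Prime] (P A B : Subgroup G) (hP : IsPGroup p ↥P) (hA : IsPGroup p ↥A) (hB : ¬ p ∣ Nat.card ↥B) (hnA : A ≤ Subgroup.normalizer (P : Set G)) (hnB : B ≤ Subgroup.normalizer (P : Set G)) (hAB : ⁅A, B⁆ = ⊥) (hcomm : ⁅P, B⁆ ≤ ⁅P, A⁆) : ⁅P, B⁆ = ⊥ := by
  have hp : p.Prime := Fact.out
  set X := P ⊔ A with hXdef
  have hXp : IsPGroup p X := IsPGroup.to_sup_of_normal_left' hP hA hnA
  have hPX : P ≤ X := le_sup_left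
  have hAX : A ≤ X := le_sup_right
  have hBA : ∀ b ∈ B, ∀ a ∈ A, b * a = a * b := by
    intro b hb a ha
    have h1 : ⁅a, b⁆ ∈ ⁅A, B⁆ := Subgroup.commutator_mem_commutator ha hb
    rw [hAB, Subgroup.mem_bot] at h1
    exact (commutatorElement_eq_one_iff_commute.mp h1).eq.symm
  have hBX : B ≤ Subgroup.normalizer (X : Set G) := by
    intro b hb
    apply mem_normalizer_of_forall_conj_mem
    have h1 : X ≤ X.comap (MulAut.conj b).toMonoidHom := by
      apply sup_le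
      · intro x hx
        rw [Subgroup.mem_comap]
        apply hPX
        exact (Subgroup.mem_normalizer_iff.mp (hnB hb) x).mp hx
      · intro x hx
        rw [Subgroup.mem_comap]
        apply hAX
        show b * x * b⁻¹ ∈ A
        rw [hBA b hb x hx]
        simpa using hx
    intro s hs
    exact h1 hs
  set Φ' : Subgroup G := (frattini X).map X.subtype with hΦ'
  have hΦn : ∀ x ∈ X, ∀ n ∈ Φ', x * n * x⁻¹ ∈ Φ' := by
    intro x hx n hn
    obtain ⟨m, hm, rfl⟩ := hn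
    haveI : (frattini X).Normal := inferInstance
    exact ⟨⟨x, hx⟩ * m * ⟨x, hx⟩⁻¹, Subgroup.Normal.conj_mem inferInstance m hm _, rfl⟩
  have hΦX : Φ' ≤ X := Subgroup.map_subtype_le _
  have hcommΦ : ⁅X, X⁆ ≤ Φ' := by
    rw [← Subgroup.map_subtype_commutator]
    exact Subgroup.map_mono (Cfsg.Agent.Lib.Lead.commutator_le_frattini_of_isPGroup hXp)
  let T : Subgroup G :=
    { carrier := {x | x ∈ X ∧ ∀ b ∈ B, b * x * b⁻¹ * x⁻¹ ∈ Φ'}
      one_mem' := ⟨X.one_mem, fun b _ => by simp [Φ'.one_mem]⟩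
      mul_mem' := by
        rintro x y ⟨hx, hx'⟩ ⟨hy, hy'⟩
        refine ⟨X.mul_mem hx hy, fun b hb => ?_⟩
        have e : b * (x * y) * b⁻¹ * (x * y)⁻¹ =
            (b * x * b⁻¹ * x⁻¹) * (x * (b * y * b⁻¹ * y⁻¹) * x⁻¹) := by group
        rw [e]
        exact Φ'.mul_mem (hx' b hb) (hΦn x hx _ (hy' b hb))
      inv_mem' := by
        rintro x ⟨hx, hx'⟩
        refine ⟨X.inv_mem hx, fun b hb => ?_⟩
        have e : b * x⁻¹ * b⁻¹ * x⁻¹⁻¹ = x⁻¹ * (b * x * b⁻¹ * x⁻¹)⁻¹ * x⁻¹⁻¹ := by group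
        rw [e]
        exact hΦn x⁻¹ (X.inv_mem hx) _ (Φ'.inv_mem (hx' b hb)) }
  have hPT : P ≤ T := by
    intro x hx
    refine ⟨hPX hx, fun b hb => ?_⟩
    apply hcommΦ
    have h1 : ⁅x, b⁆ ∈ ⁅P, B⁆ := Subgroup.commutator_mem_commutator hx hb
    have h2 : ⁅x, b⁆ ∈ ⁅X, X⁆ :=
      Subgroup.commutator_mono hPX hAX (hcomm h1)
    have h3 : b * x * b⁻¹ * x⁻¹ = ⁅x, b⁆⁻¹ := by
      rw [commutatorElement_def]; group
    rw [h3]
    exact Subgroup.inv_mem _ h2
  have hAT : A ≤ T := by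
    intro x hx
    refine ⟨hAX hx, fun b hb => ?_⟩
    rw [hBA b hb x hx]
    simp [Φ'.one_mem]
  have hXT : X ≤ T := sup_le hPT hAT
  have hcop : (Nat.card B).Coprime (Nat.card (frattini X)) := by
    have h1 : IsPGroup p (frattini X) := hXp.to_subgroup _
    obtain ⟨k, hk⟩ := IsPGroup.iff_card.mp h1
    rw [hk]
    exact Nat.Coprime.pow_right k ((Nat.Prime.coprime_iff_not_dvd hp).mpr hB).symm
  have hcent := Cfsg.Agent.Lib.Lead.coprime_trivial_on_frattini_quotient B X hBX hcop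
    (fun b hb k hk => (hXT hk).2 b hb)
  rw [Subgroup.commutator_eq_bot_iff_le_centralizer]
  rw [Subgroup.le_centralizer_iff]
  exact hcent.trans (Subgroup.centralizer_le hPX)

end Cfsg.Agent.S2908
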