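import Mathlib
import Cfsg.Agent.Lib.Helper6.CentralTransfer
import Cfsg.Statements.S2911

set_option autoImplicit false
open Cfsg

namespace Cfsg.Agent.S2911

open Cfsg.Agent.Lib.Helper6

theorem key_H : ∀ w : Multiplicative (ZMod 2) × DihedralGroup 4,
    (∀ h, h * w = w * h) → (∀ y, y ^ 2 ≠ w) → w.1 ≠ 1 := by decide

/-- the normal subgroup of index two missing a suitable central involution -/
theorem exists_normal_index_two {G : Type*} [Group G] [Finite G] (S : Sylow 2 G)
    (e : ↥(S : Subgroup G) ≃* Multiplicative (ZMod 2) × DihedralGroup 4) :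
    ∃ M : Subgroup G, M.Normal ∧ M.index = 2 := by
  let ψ : (S : Subgroup G) →* Multiplicative (ZMod 2) :=
    (MonoidHom.fst _ _).comp e.toMonoidHom
  have hψ : ∀ s, ψ s = (e s).1 := fun s => rfl
  have hψsurj : Function.Surjective ψ := fun a => ⟨e.symm (a, 1), by simp [hψ]⟩
  let Q : Subgroup G := ψ.ker.map (S : Subgroup G).subtype
  have hQmem : ∀ (x : G) (hx : x ∈ (S : Subgroup G)), x ∈ Q ↔ ψ ⟨x, hx⟩ = 1 := by
    intro x hx
    constructor
    · rintro ⟨y, hy, rfl⟩
      exact hy
    · intro h
      exact ⟨⟨x, hx⟩, h, rfl⟩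
  have hQi : Q.relIndex (S : Subgroup G) = 2 := by
    have h1 : Q.subgroupOf (S : Subgroup G) = ψ.ker :=
      Subgroup.comap_map_eq_self_of_injective (Subgroup.subtype_injective _) _
    rw [Subgroup.relIndex, h1, Subgroup.index_ker, MonoidHom.range_eq_top.mpr hψsurj,
      Subgroup.card_top, Nat.card_eq_fintype_card]
    rfl
  let z0 : (S : Subgroup G) := e.symm (Multiplicative.ofAdd 1, 1)
  have hz0 : e z0 = (Multiplicative.ofAdd 1, 1) := by simp [z0]
  have hz2 : (z0 : G) ^ 2 = 1 := by
    have : z0 ^ 2 = 1 := by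
      apply e.injective
      rw [map_pow, hz0, map_one e]
      decide
    have := congrArg Subtype.val this
    simpa using this
  have hzc : ∀ s ∈ (S : Subgroup G), s * (z0 : G) = (z0 : G) * s := by
    intro s hs
    have : (⟨s, hs⟩ : (S : Subgroup G)) * z0 = z0 * ⟨s, hs⟩ := by
      apply e.injective
      rw [map_mul, map_mul, hz0]
      generalize e ⟨s, hs⟩ = h
      revert h
      decide
    have := congrArg Subtype.val this
    simpa using this
  have hnsq : ∀ t : (S : Subgroup G), t ^ 2 ≠ z0 := by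
    intro t ht
    have h1 : ψ (t ^ 2) = 1 := by
      rw [map_pow]
      generalize ψ t = a
      revert a
      decide
    rw [ht, hψ, hz0] at h1
    revert h1
    decide
  have hN : ∀ g ∈ Subgroup.normalizer ((S : Subgroup G) : Set G), g⁻¹ * (z0 : G) * g ∉ Q := by
    intro g hg
    have hg' := inv_mem hg
    have hmemS : ∀ x ∈ (S : Subgroup G), g⁻¹ * x * g ∈ (S : Subgroup G) := by
      intro x hx
      have := (Subgroup.mem_normalizer_iff.mp hg' x).mp hx
      simpa using this
    have hmemS' : ∀ x ∈ (S : Subgroup G), g * x * g⁻¹ ∈ (S : Subgroup G) := by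
      intro x hx
      exact (Subgroup.mem_normalizer_iff.mp hg x).mp hx
    have hw : g⁻¹ * (z0 : G) * g ∈ (S : Subgroup G) := hmemS _ z0.2
    rw [hQmem _ hw, hψ]
    apply key_H
    · intro h
      obtain ⟨s, rfl⟩ := e.surjective h
      rw [← map_mul, ← map_mul]
      congr 1
      apply Subtype.ext
      show (s : G) * (g⁻¹ * (z0 : G) * g) = g⁻¹ * (z0 : G) * g * (s : G)
      have h1 := hzc _ (hmemS' _ s.2)
      calc (s : G) * (g⁻¹ * (z0 : G) * g) = g⁻¹ * (g * s * g⁻¹ * (z0 : G)) * g := by group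
        _ = g⁻¹ * ((z0 : G) * (g * s * g⁻¹)) * g := by rw [h1]
        _ = _ := by group
    · intro y hy
      obtain ⟨t, rfl⟩ := e.surjective y
      rw [← map_pow] at hy
      have h1 := e.injective hy
      apply hnsq ⟨g * t * g⁻¹, hmemS' _ t.2⟩
      apply Subtype.ext
      have h2 : ((t : G)) ^ 2 = g⁻¹ * (z0 : G) * g := by
        have := congrArg Subtype.val h1
        simpa using this
      show (g * (t : G) * g⁻¹) ^ 2 = (z0 : G)
      rw [pow_two]
      calc g * (t : G) * g⁻¹ * (g * (t : G) * g⁻¹) = g * ((t : G) ^ 2) * g⁻¹ := by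
            rw [pow_two]; group
        _ = _ := by rw [h2]; group
  obtain ⟨M, hMn, hM, _⟩ := central_transfer S Q hQi (z0 : G) z0.2 hz2 hzc hN
  exact ⟨M, hMn, hM⟩

/-- A finite group whose Sylow 2-subgroups are isomorphic to the direct product of a group of order 2 and a dihedral group of order 8 has a subgroup of index two. -/
theorem result {G : Type*} [Group G] [Finite G] (S : Sylow 2 G) (hS : Nonempty (↥(S : Subgroup G) ≃* Multiplicative (ZMod 2) × DihedralGroup 4)) : ∃ H : Subgroup G, H.index = 2 := by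
  obtain ⟨e⟩ := hS
  obtain ⟨M, _, hM⟩ := exists_normal_index_two S e
  exact ⟨M, hM⟩

end Cfsg.Agent.S2911
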