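import Mathlib
import Cfsg.Agent.Lib.Helper3.CharP5
import Cfsg.Agent.Lib.Helper6.PCore
import Cfsg.Statements.S2922

set_option autoImplicit false
open Cfsg Cfsg.Agent.Lib.Helper3

namespace Cfsg.Agent.S2922

/-- Let p be a prime, X a finite group, B a p-subgroup of X and C a normal subgroup of B. If N_X(C) has characteristic p (its generalized Fitting subgroup is O_p(N_X(C))), then N_X(B) and C_X(B) have characteristic p. -/
theorem result {X : Type*} [Group X] [Finite X] {p : ℕ} [Fact p.Prime] (B C : Subgroup X) (hB : IsPGroup p ↥B) (hCB : C ≤ B) (hCn : (C.subgroupOf B).Normal) (hC : Cfsg.generalizedFittingSubgroup ↥(Subgroup.normalizer (C : Set X)) = Cfsg.pCore p ↥(Subgroup.normalizer (C : Set X))) : Cfsg.generalizedFittingSubgroup ↥(Subgroup.normalizer (B : Set X)) = Cfsg.pCore p ↥(Subgroup.normalizer (B : Set X)) ∧ Cfsg.generalizedFittingSubgroup ↥(Subgroup.centralizer (B : Set X)) = Cfsg.pCore p ↥(Subgroup.centralizer (B : Set X)) := by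
  classical
  -- `B ≤ N_X(C)`
  have hBN : B ≤ Subgroup.normalizer (C : Set X) := by
    intro b hb
    rw [Subgroup.mem_normalizer_iff]
    intro c
    constructor
    · intro hc
      have := hCn.conj_mem ⟨c, hCB hc⟩ (Subgroup.mem_subgroupOf.mpr hc) ⟨b, hb⟩
      simpa [Subgroup.mem_subgroupOf] using this
    · intro hc
      have hcB : b * c * b⁻¹ ∈ B := hCB hc
      have := hCn.conj_mem ⟨b * c * b⁻¹, hcB⟩ (Subgroup.mem_subgroupOf.mpr hc) ⟨b, hb⟩⁻¹
      simpa [Subgroup.mem_subgroupOf, mul_assoc] using this
  have hX : IsPGroup p (Cfsg.generalizedFittingSubgroup ↥(Subgroup.normalizer (C : Set X))) := by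
    rw [hC]; exact Cfsg.Agent.Lib.Helper6.pCore_isPGroup p
  have hF := isPGroup_generalizedFittingSubgroup_subgroupOf_normalizer hBN hB hX
  -- first part
  have h1 : Cfsg.generalizedFittingSubgroup ↥(Subgroup.normalizer (B : Set X)) =
      Cfsg.pCore p ↥(Subgroup.normalizer (B : Set X)) := by
    apply generalizedFittingSubgroup_eq_pCore_of_centralizer_le
      ((Subgroup.normalizer (C : Set X)).subgroupOf (Subgroup.normalizer (B : Set X))) _ hF
    intro m hm
    rw [Subgroup.mem_subgroupOf]
    -- `B` (inside its normalizer) lies in `O_p`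
    have hBle : B.subgroupOf (Subgroup.normalizer (B : Set X)) ≤
        Cfsg.pCore p ↥(Subgroup.normalizer (B : Set X)) :=
      Cfsg.Agent.Lib.Helper6.le_pCore inferInstance hB.comap_subtype
    have hmB : ∀ b ∈ B, b * (m : X) = (m : X) * b := by
      intro b hb
      have hb' : (⟨b, Subgroup.le_normalizer hb⟩ : Subgroup.normalizer (B : Set X)) ∈
          Cfsg.pCore p ↥(Subgroup.normalizer (B : Set X)) :=
        hBle (Subgroup.mem_subgroupOf.mpr hb)
      have := Subgroup.mem_centralizer_iff.mp hm _ hb'
      have := congrArg Subtype.val this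
      simpa using this
    rw [Subgroup.mem_normalizer_iff]
    intro c
    have key : ∀ c ∈ C, (m : X) * c * (m : X)⁻¹ = c := by
      intro c hc
      have := hmB c (hCB hc)
      rw [← this]; group
    constructor
    · intro hc
      rw [key c hc]; exact hc
    · intro hc
      have h2 := key _ hc
      have h3 : c = (m : X) * c * (m : X)⁻¹ := by
        have := congrArg (fun t => (m : X)⁻¹ * t * (m : X)) h2
        have e1 : (m : X)⁻¹ * ((m : X) * ((m : X) * c * (m : X)⁻¹) * (m : X)⁻¹) * (m : X) =
          (m : X) * c * (m : X)⁻¹ := by group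
        have e2 : (m : X)⁻¹ * ((m : X) * c * (m : X)⁻¹) * (m : X) = c := by group
        change (m : X)⁻¹ * ((m : X) * ((m : X) * c * (m : X)⁻¹) * (m : X)⁻¹) * (m : X) =
          (m : X)⁻¹ * ((m : X) * c * (m : X)⁻¹) * (m : X) at this
        rw [e1, e2] at this
        exact this.symm
      rw [h3]; exact hc
  refine ⟨h1, ?_⟩
  -- second part: `C_X(B)` is normal in `N_X(B)`
  have hN' : IsPGroup p (Cfsg.generalizedFittingSubgroup ↥(Subgroup.normalizer (B : Set X))) := by
    rw [h1]; exact Cfsg.Agent.Lib.Helper6.pCore_isPGroup p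
  have hMn : ((Subgroup.centralizer (B : Set X)).subgroupOf (Subgroup.normalizer (B : Set X))).Normal :=
    Subgroup.normal_subgroupOf_of_le_normalizer
      (Cfsg.Agent.Lib.Helper2.normalizer_le_normalizer_centralizer _)
  have hM := isPGroup_generalizedFittingSubgroup_of_isSubnormal hMn.isSubnormal hN'
  have e1 := Subgroup.subgroupOfEquivOfLe (Subgroup.centralizer_le_normalizer (B : Set X))
  exact generalizedFittingSubgroup_eq_pCore_of_isPGroup
    (isPGroup_generalizedFittingSubgroup_of_mulEquiv e1 hM)

end Cfsg.Agent.S2922
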