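import Mathlib
import Cfsg.Agent.Lib.Helper3.Components4
import Cfsg.Agent.Lib.Helper6.ParChar2
import Cfsg.Agent.Lib.Helper6.Conj2
import Cfsg.Statements.S2925

set_option autoImplicit false
open Cfsg

namespace Cfsg.Agent.S2925

open Cfsg.Agent.Lib.Helper3 Cfsg.Agent.Lib.Helper6

/-- the key computation: commutators of elements of `T ∩ K` are central in `K` -/
theorem key {X : Type*} [Group X] [Finite X] (K : Subgroup X) (hK : Cfsg.IsComponent K)
    (T Y : Subgroup X) (hYT : Y ≤ T) (hYn : (Y.subgroupOf T).Normal)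
    (hYab : ∀ u ∈ Y, ∀ v ∈ Y, u * v = v * u) (hnot : ¬ Y ≤ Subgroup.normalizer (K : Set X))
    (a b : X) (ha : a ∈ T ⊓ K) (hb : b ∈ T ⊓ K) :
    ∀ k ∈ K, k * (a⁻¹ * b⁻¹ * a * b) = (a⁻¹ * b⁻¹ * a * b) * k := by
  classical
  obtain ⟨y, hyY, hyN⟩ : ∃ y ∈ Y, y ∉ Subgroup.normalizer (K : Set X) := by
    by_contra hcon
    push Not at hcon
    exact hnot (fun y hy => hcon y hy)
  set K' := K.map (MulAut.conj y).toMonoidHom with hK'
  have hK'c : Cfsg.IsComponent K' := IsComponent.map_conj hK y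
  have hne : K ≠ K' := by
    intro h
    apply hyN
    apply mem_normalizer_of_map_conj_le
    rw [← hK'] ; exact h.ge
  have hcomm := IsComponent.commutator_eq_bot_of_ne hK hK'c hne
  rw [Subgroup.commutator_eq_bot_iff_le_centralizer] at hcomm
  have hKK' : ∀ k ∈ K, ∀ k' ∈ K', k' * k = k * k' := by
    intro k hk k' hk'
    exact Subgroup.mem_centralizer_iff.mp (hcomm hk) k' hk'
  have hconjmem : ∀ k ∈ K, y * k * y⁻¹ ∈ K' := by
    intro k hk
    exact ⟨k, hk, by simp [MulAut.conj_apply]⟩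
  have hα : ∀ c ∈ T ⊓ K, c * (y * c⁻¹ * y⁻¹) ∈ Y := by
    intro c hc
    have h1 : (⟨c, hc.1⟩ : T) * ⟨y, hYT hyY⟩ * (⟨c, hc.1⟩ : T)⁻¹ ∈ Y.subgroupOf T :=
      hYn.conj_mem _ (by rw [Subgroup.mem_subgroupOf]; exact hyY) _
    rw [Subgroup.mem_subgroupOf] at h1
    have h2 : c * y * c⁻¹ ∈ Y := by simpa using h1
    have h3 : c * (y * c⁻¹ * y⁻¹) = (c * y * c⁻¹) * y⁻¹ := by group
    rw [h3]
    exact Y.mul_mem h2 (Y.inv_mem hyY)
  set p := y * a⁻¹ * y⁻¹ with hp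
  set q := y * b⁻¹ * y⁻¹ with hq
  have hpK' : p ∈ K' := hconjmem _ (K.inv_mem ha.2)
  have hqK' : q ∈ K' := hconjmem _ (K.inv_mem hb.2)
  have h1 := hYab _ (hα a ha) _ (hα b hb)
  -- h1 : a * p * (b * q) = b * q * (a * p)
  have hpb : p * b = b * p := hKK' b hb.2 p hpK'
  have hqa : q * a = a * q := hKK' a ha.2 q hqK'
  have e1 : a * b * p * q = b * a * q * p := by
    calc a * b * p * q = a * (b * p) * q := by group
      _ = a * (p * b) * q := by rw [hpb]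
      _ = a * p * (b * q) := by group
      _ = b * q * (a * p) := h1
      _ = b * (q * a) * p := by group
      _ = b * (a * q) * p := by rw [hqa]
      _ = b * a * q * p := by group
  have e2 : a⁻¹ * b⁻¹ * a * b = q * p * q⁻¹ * p⁻¹ := by
    calc a⁻¹ * b⁻¹ * a * b = (b * a)⁻¹ * (a * b * p * q) * (p * q)⁻¹ := by group
      _ = (b * a)⁻¹ * (b * a * q * p) * (p * q)⁻¹ := by rw [e1]
      _ = q * p * q⁻¹ * p⁻¹ := by group
  have hw : a⁻¹ * b⁻¹ * a * b ∈ K' := by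
    rw [e2]
    exact K'.mul_mem (K'.mul_mem (K'.mul_mem hqK' hpK') (K'.inv_mem hqK')) (K'.inv_mem hpK')
  intro k hk
  exact (hKK' k hk _ hw).symm


/-- Let K be a component of the finite group X and T a Sylow 2-subgroup of X. If some abelian normal subgroup Y of T does not normalize K, then K ⧸ Z(K) has abelian Sylow 2-subgroups. -/
theorem result {X : Type*} [Group X] [Finite X] (K : Subgroup X) (hK : Cfsg.IsComponent K) (T : Sylow 2 X) (Y : Subgroup X) (hYT : Y ≤ (T : Subgroup X)) (hYn : (Y.subgroupOf (T : Subgroup X)).Normal) (hYab : IsMulCommutative ↥Y) (hnot : ¬ Y ≤ Subgroup.normalizer (K : Set X)) (P : Sylow 2 (↥K ⧸ Subgroup.center ↥K)) : IsMulCommutative ↥(P : Subgroup (↥K ⧸ Subgroup.center ↥K)) := by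
  classical
  haveI : Fact (Nat.Prime 2) := ⟨Nat.prime_two⟩
  have hYab' : ∀ u ∈ Y, ∀ v ∈ Y, u * v = v * u := by
    intro u hu v hv
    exact congrArg Subtype.val (hYab.is_comm.comm (⟨u, hu⟩ : Y) ⟨v, hv⟩)
  have hsyl := isSylowOf_inf_of_isSubnormal T hK.1
  obtain ⟨S₀, hS₀⟩ := hsyl.exists_sylow
  -- the image Sylow subgroup of the quotient
  let Q : Sylow 2 (↥K ⧸ Subgroup.center ↥K) :=
    S₀.mapSurjective (QuotientGroup.mk'_surjective (Subgroup.center ↥K))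
  have hcen : ∀ a b : ↥K, (a : X) ∈ (T : Subgroup X) ⊓ K → (b : X) ∈ (T : Subgroup X) ⊓ K →
      a⁻¹ * b⁻¹ * a * b ∈ Subgroup.center ↥K := by
    intro a b haT hbT
    rw [Subgroup.mem_center_iff]
    intro k
    apply Subtype.ext
    have := key K hK (T : Subgroup X) Y hYT hYn hYab' hnot a b haT hbT k k.2
    simpa using this
  have hQcomm : ∀ u ∈ (Q : Subgroup (↥K ⧸ Subgroup.center ↥K)),
      ∀ v ∈ (Q : Subgroup (↥K ⧸ Subgroup.center ↥K)), u * v = v * u := by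
    intro u hu v hv
    rw [Sylow.coe_mapSurjective] at hu hv
    obtain ⟨a, ha, rfl⟩ := hu
    obtain ⟨b, hb, rfl⟩ := hv
    have haT : (a : X) ∈ (T : Subgroup X) ⊓ K := by
      rw [← hS₀]; exact ⟨a, ha, rfl⟩
    have hbT : (b : X) ∈ (T : Subgroup X) ⊓ K := by
      rw [← hS₀]; exact ⟨b, hb, rfl⟩
    rw [← map_mul, ← map_mul, QuotientGroup.mk'_apply, QuotientGroup.mk'_apply, QuotientGroup.eq]
    have h1 : (a * b)⁻¹ * (b * a) = b⁻¹ * a⁻¹ * b * a := by group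
    rw [h1]
    exact hcen b a hbT haT
  obtain ⟨g, hg⟩ := MulAction.exists_smul_eq (↥K ⧸ Subgroup.center ↥K) Q P
  have hmem : ∀ x : ↥K ⧸ Subgroup.center ↥K, x ∈ (P : Subgroup (↥K ⧸ Subgroup.center ↥K)) →
      g⁻¹ * x * g ∈ (Q : Subgroup (↥K ⧸ Subgroup.center ↥K)) := by
    intro x hx
    rw [← hg, Sylow.coe_subgroup_smul, Subgroup.mem_pointwise_smul_iff_inv_smul_mem] at hx
    simpa [MulAut.smul_def, MulAut.conj_symm_apply] using hx
  refine ⟨⟨fun x y => ?_⟩⟩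
  apply Subtype.ext
  have h1 := hQcomm _ (hmem x x.2) _ (hmem y y.2)
  have h2 : (x : ↥K ⧸ Subgroup.center ↥K) * y = g * ((g⁻¹ * x * g) * (g⁻¹ * y * g)) * g⁻¹ := by
    group
  have h3 : (y : ↥K ⧸ Subgroup.center ↥K) * x = g * ((g⁻¹ * y * g) * (g⁻¹ * x * g)) * g⁻¹ := by
    group
  show (x : ↥K ⧸ Subgroup.center ↥K) * y = y * x
  rw [h2, h3, h1]

end Cfsg.Agent.S2925
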