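import Cfsg.Statements.S2928
import Cfsg.Agent.S2929
import Cfsg.Agent.Lib.Helper7.TetGroup
import Cfsg.Agent.Lib.Helper8.TetMain
import Cfsg.Agent.Lib.Helper9.TetSylow

set_option autoImplicit false
open Cfsg

namespace Cfsg.Agent.S2928

open Cfsg.Agent.Lib.Helper3 Cfsg.Agent.Lib.Helper8.Tet

/-- Let n ≥ 8 and let H be a subgroup of the symmetric group of degree n whose generalized Fitting subgroup F*(H) is quasisimple. If H contains a Sylow 2-subgroup of the alternating group of degree n, then F*(H) is isomorphic to an alternating group of degree m for some m ∈ {n − 3, n − 2, n − 1, n}. -/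
theorem result (n : ℕ) (hn : 8 ≤ n) (H : Subgroup (Equiv.Perm (Fin n))) (hF : Cfsg.IsQuasisimple ↥(Cfsg.generalizedFittingSubgroup ↥H)) (hS : ∃ P : Sylow 2 ↥(alternatingGroup (Fin n)), ((P : Subgroup ↥(alternatingGroup (Fin n))).map (alternatingGroup (Fin n)).subtype) ≤ H) : ∃ m : ℕ, (m = n - 3 ∨ m = n - 2 ∨ m = n - 1 ∨ m = n) ∧ Nonempty (↥(Cfsg.generalizedFittingSubgroup ↥H) ≃* ↥(alternatingGroup (Fin m))) := by
  classical
  set L : Subgroup (Equiv.Perm (Fin n)) :=
    (Cfsg.generalizedFittingSubgroup ↥H).map H.subtype with hL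
  have hLH : L ≤ H := Subgroup.map_subtype_le _
  have hN : H ≤ Subgroup.normalizer (L : Set (Equiv.Perm (Fin n))) := by
    have h1 := Subgroup.le_normalizer_map (H := Cfsg.generalizedFittingSubgroup ↥H) H.subtype
    rw [Subgroup.normalizer_eq_top, ← MonoidHom.range_eq_map, Subgroup.range_subtype] at h1
    exact h1
  have hQ : Cfsg.IsQuasisimple L :=
    isQuasisimple_map_of_injective H.subtype H.subtype_injective hF
  have hC : H ⊓ Subgroup.centralizer (L : Set (Equiv.Perm (Fin n))) ≤ L := by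
    rintro x ⟨hxH, hxC⟩
    have h1 : (⟨x, hxH⟩ : H) ∈ Subgroup.centralizer
        (Cfsg.generalizedFittingSubgroup ↥H : Set ↥H) := by
      rw [Subgroup.mem_centralizer_iff]
      intro y hy
      apply Subtype.ext
      have hyL : (y : Equiv.Perm (Fin n)) ∈ L := ⟨y, hy, rfl⟩
      exact (Subgroup.mem_centralizer_iff.mp hxC) y.1 hyL
    have h2 := centralizer_generalizedFittingSubgroup_le h1
    exact ⟨⟨x, hxH⟩, h2, rfl⟩
  obtain ⟨P, hP⟩ := hS
  obtain ⟨𝒜, h𝒜, hdisj, hcard, hFc⟩ := exists_aligned n H P hP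
  obtain ⟨t₀, ht₀, h3t₀⟩ := exists_threeCycle H L hLH hN hQ hC 𝒜 h𝒜 hdisj (by omega) hFc
  obtain ⟨-, ⟨e⟩⟩ := Cfsg.Agent.S2929.core H L hLH hN hQ hC t₀ ht₀ h3t₀
  refine ⟨Nat.card {x // ∃ l ∈ L, l x ≠ x}, ?_,
    ⟨(Subgroup.equivMapOfInjective _ H.subtype H.subtype_injective).trans e⟩⟩
  have hle : Nat.card {x // ∃ l ∈ L, l x ≠ x} ≤ n := by
    have := Nat.card_le_card_of_injective (Subtype.val : {x // ∃ l ∈ L, l x ≠ x} → Fin n)
      Subtype.val_injective
    rwa [Nat.card_fin] at this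
  have hge : n ≤ Nat.card {x // ∃ l ∈ L, l x ≠ x} + 3 := by
    have hsub : 𝒜.biUnion id ⊆ Finset.univ.filter (fun x => ∃ l ∈ L, l x ≠ x) := by
      intro x hx
      rw [Finset.mem_biUnion] at hx
      obtain ⟨Q, hQA, hxQ⟩ := hx
      rw [Finset.mem_filter]
      exact ⟨Finset.mem_univ _, tet_subset_moved H L hN hC (h𝒜 Q hQA) x hxQ⟩
    have h1 := Finset.card_le_card hsub
    have h2 : Nat.card {x // ∃ l ∈ L, l x ≠ x} =
        (Finset.univ.filter (fun x : Fin n => ∃ l ∈ L, l x ≠ x)).card := by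
      rw [Nat.card_eq_fintype_card, Fintype.card_subtype]
    have h3 : (Finset.univ \ 𝒜.biUnion id).card = n - (𝒜.biUnion id).card := by
      rw [Finset.card_sdiff_of_subset (Finset.subset_univ _), Finset.card_univ, Fintype.card_fin]
    have h4 : (𝒜.biUnion id).card ≤ n := by
      have := Finset.card_le_univ (𝒜.biUnion id)
      rwa [Fintype.card_fin] at this
    omega
  omega

end Cfsg.Agent.S2928
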