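import Cfsg.Statements.S2933
import Cfsg.Agent.Lib.Lead.Hx3G1
import Cfsg.Agent.Lib.Helper4.Hx3A4
import Cfsg.Agent.Lib.Helper9.Hx3L2
import Cfsg.Agent.Lib.Helper3.Hx3I1
import Cfsg.Agent.Lib.Helper3.Hx3L3D

set_option autoImplicit false
open Cfsg

namespace Cfsg.Agent.S2933

open Cfsg.Agent.Lib.Lead.Hx3 Cfsg.Agent.Lib.Helper3.S64

/-- Let T be a 2-subgroup of a finite group G, V ≤ Z(T) a four-group, and t, ρ ∈ N_G(V) ∩ N_G(T) elements of order 2 and 3 with t commuting with ρ and with V. If [V, ρ] = V and C_T(t) = V, then T is elementary abelian of order 16, or homocyclic of rank 2 (ℤ/2ⁿ × ℤ/2ⁿ for some n ≥ 1), or isomorphic to a Sylow 2-subgroup of PSL₃(4) or of PSU₃(4). -/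
theorem result {G : Type*} [Group G] [Finite G] (T V : Subgroup G) (hT : IsPGroup 2 ↥T) (hVT : V ≤ T ⊓ Subgroup.centralizer (T : Set G)) (hV : Nat.card ↥V = 4 ∧ ∀ v ∈ V, v ^ 2 = 1) (t ρ : G) (ht : orderOf t = 2) (hρ : orderOf ρ = 3) (htn : t ∈ Subgroup.normalizer (V : Set G) ⊓ Subgroup.normalizer (T : Set G)) (hρn : ρ ∈ Subgroup.normalizer (V : Set G) ⊓ Subgroup.normalizer (T : Set G)) (htρ : t * ρ = ρ * t) (htV : t ∈ Subgroup.centralizer (V : Set G)) (hVρ : ⁅V, Subgroup.zpowers ρ⁆ = V) (hCt : T ⊓ Subgroup.centralizer ({t} : Set G) = V) : (Nat.card ↥T = 16 ∧ ∀ x ∈ T, x ^ 2 = 1) ∨ (∃ n : ℕ, 1 ≤ n ∧ Nonempty (↥T ≃* Multiplicative (ZMod (2 ^ n)) × Multiplicative (ZMod (2 ^ n)))) ∨ (∃ (F : Type) (_ : Field F) (_ : Fintype F), Fintype.card F = 4 ∧ ∀ P : Sylow 2 (Matrix.ProjectiveSpecialLinearGroup (Fin 3) F), Nonempty (↥T ≃* ↥(P : Subgroup (Matrix.ProjectiveSpecialLinearGroup (Fin 3) F)))) ∨ (∃ (F : Type) (_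 : Field F) (_ : Fintype F), Fintype.card F = 16 ∧ ∀ P : Sylow 2 (Cfsg.PSU 3 F 4), Nonempty (↥T ≃* ↥(P : Subgroup (Cfsg.PSU 3 F 4)))) := by
  obtain ⟨ρ', t', V', hh⟩ := g1_hh T V hT hVT hV t ρ ht hρ htn hρn htρ htV hVρ hCt
  rcases a_main hh with ⟨hab, x, hx⟩ | ⟨h16, hsq⟩ | ⟨h64, hna⟩
  · right; left
    have : Nontrivial T := by
      have : Nontrivial V' := by
        apply (Finite.one_lt_card_iff_nontrivial).mp
        rw [hh.Vcard]; norm_num
      obtain ⟨⟨v, hv⟩, ⟨w, hw⟩, hvw⟩ := this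
      exact ⟨⟨v, w, fun h => hvw (Subtype.ext h)⟩⟩
    exact l2_homocyclic hT hh.fpf hab x hx
  · left
    refine ⟨h16, fun x hx => ?_⟩
    have := hsq ⟨x, hx⟩
    exact congrArg Subtype.val this
  · right; right
    have hyp : Hyp ρ' := ⟨h64, hna, hh.fpf⟩
    by_cases hinv : ∀ u : T, u ^ 2 = 1 → u ∈ Subgroup.center T
    · right
      have : Fact (Nat.Prime 2) := ⟨Nat.prime_two⟩
      have : Finite (GaloisField 2 4) := inferInstance
      let _ : Fintype (GaloisField 2 4) := Fintype.ofFinite _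
      have hcard : Fintype.card (GaloisField 2 4) = 16 := by
        rw [← Nat.card_eq_fintype_card, GaloisField.card 2 4 (by norm_num)]
        norm_num
      exact ⟨GaloisField 2 4, inferInstance, inferInstance, hcard,
        fun P => l3_psu hyp hinv hcard P⟩
    · left
      push Not at hinv
      obtain ⟨u, hu, hun⟩ := hinv
      exact i1_psl hyp u hu hun

end Cfsg.Agent.S2933
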