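import Mathlib
import Cfsg.Agent.Lib.Helper6.SylowCtl
import Cfsg.Statements.S2939

set_option autoImplicit false
open Cfsg Cfsg.Agent.Lib.Helper6
open scoped commutatorElement

namespace Cfsg.Agent.S2939

/-- Let p be a prime dividing the order of the finite group G and 𝓕 a family of subgroups of G closed under conjugation, with conjugates taken as X^g = g⁻¹Xg. Then 𝓕 controls Sylow p-intersections in G (any two distinct Sylow p-subgroups S and T with S ∩ T ≠ 1 are joined by a chain S = S₀, S₁, …, Sₙ = T of Sylow p-subgroups where, for each i, some member Xᵢ of 𝓕 meets both S_{i-1} and Sᵢ in Sylow p-subgroups of Xᵢ, satisfies S ∩ T ≤ Sᵢ ∩ Xᵢ, and contains an element xᵢ with Sᵢ^{xᵢ} = S_{i-1}) if and only if 𝓕 strongly controls p-fusion in G (whenever A is a subset of a Sylow p-subgroup S, A contains an element other than 1, and A^g ⊆ S, the element g factorises as g = y₁⋯yₙy with y ∈ N_G(S) and each yᵢ in a member Yᵢ of 𝓕 that meets S in a Sylow p-subgroup of Yᵢ, with A^{y₁⋯yᵢ} ⊆ S ∩ Yᵢ for each i). -/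
theorem result {G : Type*} [Group G] [Finite G] {p : ℕ} [Fact p.Prime] (hdiv : p ∣ Nat.card G) (𝓕 : Set (Subgroup G)) (h𝓕 : Cfsg.IsNormalSet 𝓕) : Cfsg.ControlsSylowIntersections p 𝓕 ↔ Cfsg.FamilyStronglyControlsFusion p 𝓕 := by
  constructor
  · -- control of intersections gives strong control of fusion
    intro hc S A g hAS hA1 hAg
    obtain ⟨a₀, ha₀A, ha₀1⟩ := hA1
    have hAT : ∀ a ∈ A, a ∈ (S : Subgroup G).map (MulAut.conj g).toMonoidHom := by
      intro a ha
      rw [mem_map_conj]
      exact hAg ⟨a, ha, rfl⟩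
    by_cases hTS : g • S = S
    · -- trivial case
      refine ⟨0, Fin.elim0, Fin.elim0, g, Sylow.smul_eq_iff_mem_normalizer.mp hTS, fun i => i.elim0, ?_,
        fun i => i.elim0⟩
      simp
    · have hne : S ≠ g • S := fun h => hTS h.symm
      have hinf : (S : Subgroup G) ⊓ ((g • S : Sylow p G) : Subgroup G) ≠ ⊥ := by
        intro h
        have : a₀ ∈ (S : Subgroup G) ⊓ ((g • S : Sylow p G) : Subgroup G) := by
          refine ⟨hAS ha₀A, ?_⟩
          rw [sylow_smul_eq_map_conj]
          exact hAT a₀ ha₀A
        rw [h, Subgroup.mem_bot] at this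
        exact ha₀1 this
      obtain ⟨n, c, X, x, hc0, hcl, hstep⟩ := hc S (g • S) hne hinf
      -- the partial products
      let x' : ℕ → G := fun i => if h : i < n then x ⟨i, h⟩ else 1
      let u : ℕ → G := fun k => Nat.rec 1 (fun i ui => x' i * ui) k
      have hu0 : u 0 = 1 := rfl
      have husucc : ∀ k, u (k + 1) = x' k * u k := fun k => rfl
      have hx' : ∀ (i : ℕ) (h : i < n), x' i = x ⟨i, h⟩ := by
        intro i h
        simp only [x', dif_pos h]
      -- `c k` conjugated by `u k` is `S`
      have hcu : ∀ (k : ℕ) (hk : k < n + 1),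
          ((c ⟨k, hk⟩ : Sylow p G) : Subgroup G).map (MulAut.conj (u k)⁻¹).toMonoidHom = (S : Subgroup G) := by
        intro k
        induction k with
        | zero =>
          intro hk
          have : c ⟨0, hk⟩ = S := hc0
          rw [this, hu0, inv_one, map_conj_one]
        | succ k ih =>
          intro hk
          obtain ⟨_, _, _, hconj, _⟩ := hstep ⟨k, by omega⟩
          have e1 : (Fin.castSucc (⟨k, by omega⟩ : Fin n)) = (⟨k, by omega⟩ : Fin (n + 1)) := rfl
          have e2 : (Fin.succ (⟨k, by omega⟩ : Fin n)) = (⟨k + 1, hk⟩ : Fin (n + 1)) := rfl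
          rw [e1, e2] at hconj
          unfold Cfsg.subgroupConjRight at hconj
          rw [husucc, hx' k (by omega), mul_inv_rev, ← map_conj_map_conj, hconj]
          exact ih (by omega)
      let y : Fin n → G := fun i => (u i.val)⁻¹ * x i * u i.val
      let Y : Fin n → Subgroup G := fun i => (X i).map (MulAut.conj (u i.val)⁻¹).toMonoidHom
      have hprod : ∀ k, k ≤ n → ((List.ofFn y).take k).prod = u k := by
        intro k
        induction k with
        | zero => intro _; simp [hu0]
        | succ k ih =>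
          intro hk
          have hklt : k < (List.ofFn y).length := by rw [List.length_ofFn]; omega
          rw [List.prod_take_succ _ _ hklt, ih (by omega), List.getElem_ofFn, husucc,
            hx' k (by omega)]
          show u k * ((u k)⁻¹ * x ⟨k, _⟩ * u k) = _
          group
      have hprodn : (List.ofFn y).prod = u n := by
        rw [← hprod n le_rfl]
        congr 1
        rw [List.take_of_length_le]
        rw [List.length_ofFn]
      refine ⟨n, Y, y, (u n)⁻¹ * g, ?_, ?_, ?_, ?_⟩
      · apply mem_normalizer_of_map_conj_eq_self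
        have := hcu n (by omega)
        have hlast : c ⟨n, by omega⟩ = g • S := hcl
        rw [hlast, sylow_smul_eq_map_conj, map_conj_map_conj] at this
        exact this
      · intro i
        obtain ⟨hX1, _, hx, _, _⟩ := hstep i
        refine ⟨?_, ?_⟩
        · have := sylowMembers_map_conj h𝓕 hX1 (u i.val)⁻¹
          have e1 : (Fin.castSucc i) = (⟨i.val, by omega⟩ : Fin (n + 1)) := rfl
          rw [e1, hcu i.val (by omega)] at this
          exact this
        · show (u i.val)⁻¹ * x i * u i.val ∈ (X i).map (MulAut.conj (u i.val)⁻¹).toMonoidHom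
          rw [mem_map_conj]
          have : (u i.val)⁻¹⁻¹ * ((u i.val)⁻¹ * x i * u i.val) * (u i.val)⁻¹ = x i := by group
          rw [this]; exact hx
      · rw [hprodn]; group
      · intro i
        rw [hprod (i.val + 1) (by omega)]
        rintro _ ⟨a, ha, rfl⟩
        obtain ⟨_, _, hx, _, hle⟩ := hstep i
        have haST : a ∈ (S : Subgroup G) ⊓ ((g • S : Sylow p G) : Subgroup G) := by
          refine ⟨hAS ha, ?_⟩
          rw [sylow_smul_eq_map_conj]
          exact hAT a ha
        obtain ⟨hac, haX⟩ := hle haST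
        have e2 : (Fin.succ i) = (⟨i.val + 1, by omega⟩ : Fin (n + 1)) := rfl
        rw [e2] at hac
        constructor
        · have := hcu (i.val + 1) (by omega)
          show (u (i.val + 1))⁻¹ * a * u (i.val + 1) ∈ (S : Subgroup G)
          rw [← this, mem_map_conj]
          have e : (u (i.val + 1))⁻¹⁻¹ * ((u (i.val + 1))⁻¹ * a * u (i.val + 1)) * (u (i.val + 1))⁻¹ = a := by
            group
          rw [e]; exact hac
        · show (u (i.val + 1))⁻¹ * a * u (i.val + 1) ∈ (X i).map (MulAut.conj (u i.val)⁻¹).toMonoidHom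
          rw [mem_map_conj, husucc, hx' i.val i.2]
          have e : (u i.val)⁻¹⁻¹ * ((x ⟨i.val, i.2⟩ * u i.val)⁻¹ * a * (x ⟨i.val, i.2⟩ * u i.val)) * (u i.val)⁻¹ =
              (x i)⁻¹ * a * x i := by group
          rw [e]
          exact (X i).mul_mem ((X i).mul_mem ((X i).inv_mem hx) haX) hx
  · -- strong control of fusion gives control of intersections
    intro hf S T hST hinf
    obtain ⟨k, hk⟩ := MulAction.exists_smul_eq G T S
    -- g := k⁻¹
    have hTg : (T : Subgroup G).map (MulAut.conj k).toMonoidHom = (S : Subgroup G) := by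
      rw [← sylow_smul_eq_map_conj, hk]
    obtain ⟨a₀, ha₀⟩ := Subgroup.ne_bot_iff_exists_ne_one.mp hinf
    have hAg : Cfsg.conjRight k⁻¹ (((S : Subgroup G) ⊓ (T : Subgroup G) : Subgroup G) : Set G) ⊆ (S : Set G) := by
      rintro _ ⟨a, ha, rfl⟩
      show k⁻¹⁻¹ * a * k⁻¹ ∈ (S : Subgroup G)
      rw [← hTg, mem_map_conj]
      have e : k⁻¹ * (k⁻¹⁻¹ * a * k⁻¹) * k = a := by group
      rw [e]; exact ha.2
    obtain ⟨n, Y, y, y₀, hy₀, hY, hg, hsub⟩ := hf S
      (((S : Subgroup G) ⊓ (T : Subgroup G) : Subgroup G) : Set G) k⁻¹ (fun a ha => ha.1)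
      ⟨a₀.1, a₀.2, fun h => ha₀ (Subtype.ext h)⟩ hAg
    let u : ℕ → G := fun j => ((List.ofFn y).take j).prod
    have hu0 : u 0 = 1 := by simp [u]
    have husucc : ∀ (j : ℕ) (hj : j < n), u (j + 1) = u j * y ⟨j, hj⟩ := by
      intro j hj
      have hjlt : j < (List.ofFn y).length := by rw [List.length_ofFn]; exact hj
      show ((List.ofFn y).take (j + 1)).prod = ((List.ofFn y).take j).prod * y ⟨j, hj⟩
      rw [List.prod_take_succ _ _ hjlt, List.getElem_ofFn]
    have hun : u n = (List.ofFn y).prod := by
      show ((List.ofFn y).take n).prod = _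
      congr 1
      rw [List.take_of_length_le]
      rw [List.length_ofFn]
    have hYu : ∀ i : Fin n, (Y i).map (MulAut.conj (u (i.val + 1))).toMonoidHom =
        (Y i).map (MulAut.conj (u i.val)).toMonoidHom := by
      intro i
      rw [husucc i.val i.2, ← map_conj_map_conj,
        map_conj_eq_self_of_mem_normalizer (Subgroup.le_normalizer (hY i).2)]
    refine ⟨n, fun j => u j.val • S, fun i => (Y i).map (MulAut.conj (u i.val)).toMonoidHom,
      fun i => u i.val * y i * (u i.val)⁻¹, ?_, ?_, ?_⟩
    · show u 0 • S = S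
      rw [hu0, one_smul]
    · show u n • S = T
      rw [hun]
      have h1 : (List.ofFn y).prod = k⁻¹ * y₀⁻¹ := by rw [hg]; group
      rw [h1, mul_smul]
      have h2 : y₀⁻¹ • S = S := Sylow.smul_eq_iff_mem_normalizer.mpr (inv_mem hy₀)
      rw [h2, ← hk, ← mul_smul, inv_mul_cancel, one_smul]
    · intro i
      have hcs : ((u (Fin.castSucc i).val • S : Sylow p G) : Subgroup G) =
          (S : Subgroup G).map (MulAut.conj (u i.val)).toMonoidHom := sylow_smul_eq_map_conj S _
      have hss : ((u (Fin.succ i).val • S : Sylow p G) : Subgroup G) =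
          (S : Subgroup G).map (MulAut.conj (u (i.val + 1))).toMonoidHom := sylow_smul_eq_map_conj S _
      refine ⟨?_, ?_, ?_, ?_, ?_⟩
      · rw [hcs]
        exact sylowMembers_map_conj h𝓕 (hY i).1 (u i.val)
      · rw [hss]
        show (Y i).map (MulAut.conj (u i.val)).toMonoidHom ∈ _
        rw [← hYu i]
        exact sylowMembers_map_conj h𝓕 (hY i).1 (u (i.val + 1))
      · exact ⟨y i, (hY i).2, by simp [MulAut.conj_apply]⟩
      · unfold Cfsg.subgroupConjRight
        rw [hss, hcs, map_conj_map_conj, husucc i.val i.2]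
        congr 3
        group
      · intro a ha
        have h1 := hsub i ⟨a, ha, rfl⟩
        have h1' : (u (i.val + 1))⁻¹ * a * u (i.val + 1) ∈ (S : Set G) ∩ (Y i : Set G) := h1
        constructor
        · show a ∈ ((u (Fin.succ i).val • S : Sylow p G) : Subgroup G)
          rw [hss, mem_map_conj]
          exact h1'.1
        · show a ∈ (Y i).map (MulAut.conj (u i.val)).toMonoidHom
          rw [← hYu i, mem_map_conj]
          exact h1'.2

end Cfsg.Agent.S2939
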