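import Mathlib
import Cfsg.Agent.Lib.Helper6.Conj
import Cfsg.Agent.Lib.Helper6.SylowIdx
import Cfsg.Statements.S2940

set_option autoImplicit false
open Cfsg Cfsg.Agent.Lib.Helper6
open scoped commutatorElement

namespace Cfsg.Agent.S2940

/-- Let S be a Sylow p-subgroup of the finite group G and G₁, G₂ subgroups containing S with G = G₁G₂. Then for every g ∈ G there is a Sylow p-subgroup U of G with S ∩ S^g ≤ U ≤ G₁ ∩ G₂^g (conjugates taken as X^g = g⁻¹Xg). -/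
theorem result {G : Type*} [Group G] [Finite G] {p : ℕ} [Fact p.Prime] (S : Sylow p G) (G₁ G₂ : Subgroup G) (h1 : (S : Subgroup G) ≤ G₁) (h2 : (S : Subgroup G) ≤ G₂) (hfact : ∀ g : G, ∃ g₁ ∈ G₁, ∃ g₂ ∈ G₂, g = g₁ * g₂) (g : G) : ∃ U : Sylow p G, (S : Subgroup G) ⊓ Cfsg.subgroupConjRight g (S : Subgroup G) ≤ (U : Subgroup G) ∧ (U : Subgroup G) ≤ G₁ ⊓ Cfsg.subgroupConjRight g G₂ := by
  unfold subgroupConjRight
  -- factor g⁻¹ = a₁ * a₂, so g = a₂⁻¹ * a₁⁻¹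
  obtain ⟨a₁, ha₁, a₂, ha₂, hg⟩ := hfact g⁻¹
  have hgi : g⁻¹ = a₁ * a₂ := hg
  set D : Subgroup G := G₁ ⊓ G₂.map (MulAut.conj g⁻¹).toMonoidHom with hD
  -- S' = a₁ S a₁⁻¹ ≤ D
  set S' : Sylow p G := a₁ • S with hS'
  have hS'c : (S' : Subgroup G) = (S : Subgroup G).map (MulAut.conj a₁).toMonoidHom :=
    sylow_smul_eq_map_conj S a₁
  have hS'D : (S' : Subgroup G) ≤ D := by
    rw [hS'c]
    rintro _ ⟨s, hs, rfl⟩
    simp only [MulEquiv.coe_toMonoidHom, MulAut.conj_apply]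
    refine ⟨G₁.mul_mem (G₁.mul_mem ha₁ (h1 hs)) (G₁.inv_mem ha₁), ?_⟩
    show a₁ * s * a₁⁻¹ ∈ G₂.map (MulAut.conj g⁻¹).toMonoidHom
    rw [mem_map_conj, hgi]
    have : (a₁ * a₂)⁻¹ * (a₁ * s * a₁⁻¹) * (a₁ * a₂) = a₂⁻¹ * s * a₂ := by group
    rw [this]
    exact G₂.mul_mem (G₂.mul_mem (G₂.inv_mem ha₂) (h2 hs)) ha₂
  set A : Subgroup G := (S : Subgroup G) ⊓ (S : Subgroup G).map (MulAut.conj g⁻¹).toMonoidHom with hA
  have hAD : A ≤ D := inf_le_inf h1 (Subgroup.map_mono h2)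
  have hAp : IsPGroup p A := S.isPGroup'.to_le inf_le_left
  obtain ⟨c, hcD, R, _, hRp, hS'R, hcR⟩ := exists_common_pGroup D (S' : Subgroup G) A hS'D hAD
    S'.isPGroup' hAp
  have hRS' : R = S' := S'.is_maximal' hRp hS'R
  rw [hRS'] at hcR
  refine ⟨c⁻¹ • S', ?_, ?_⟩
  · rw [sylow_smul_eq_map_conj, ← map_conj_le_iff]
    exact hcR
  · rw [sylow_smul_eq_map_conj]
    rintro _ ⟨s, hs, rfl⟩
    simp only [MulEquiv.coe_toMonoidHom, MulAut.conj_apply]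
    exact D.mul_mem (D.mul_mem (D.inv_mem hcD) (hS'D hs)) (by simpa using hcD)

end Cfsg.Agent.S2940
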