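import Mathlib
import Cfsg.Agent.Lib.Helper6.SylowGraph
import Cfsg.Statements.S2947

set_option autoImplicit false
open Cfsg Cfsg.Agent.Lib.Helper6
open scoped commutatorElement

namespace Cfsg.Agent.S2947

/-- Let G be a finite group of characteristic 2 type in which every 2-local subgroup is solvable and the centralizer of Ω₁(Z(S)) lies in N_G(S) for every Sylow 2-subgroup S; suppose O₂(G) = 1, fix a Sylow 2-subgroup S and a 2-local subgroup M containing N_G(J(S)) (J the Thompson subgroup generated by the elementary abelian 2-subgroups of largest order). Then M is strongly embedded in G (a proper subgroup of even order whose intersection with each conjugate by an element outside M has odd order) if and only if no nontrivial 2-subgroup of M lies in a 2-local subgroup of G not contained in M. -/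
theorem result {G : Type*} [Group G] [Finite G] (hL : Cfsg.IsCharacteristicTwoType G) (hN : ∀ N : Subgroup G, Cfsg.IsTwoLocal N → Group.IsSolvable ↥N)
    (hZ : ∀ S : Sylow 2 G, Subgroup.centralizer (Cfsg.omegaCenterOf (S : Subgroup G) : Set G) ≤ Subgroup.normalizer ((S : Subgroup G) : Set G)) (hO : Cfsg.pCore 2 G = ⊥) (S : Sylow 2 G) (M : Subgroup G) (hM : Cfsg.IsTwoLocal M)
    (hMJ : Subgroup.normalizer (Cfsg.thompsonSubgroupOf 2 (S : Subgroup G) : Set G) ≤ M) :
    Cfsg.IsStronglyEmbedded M ↔ Cfsg.straddlingTwoSubgroups M = ∅ := by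
  haveI : Fact (Nat.Prime 2) := ⟨Nat.prime_two⟩
  obtain ⟨Q₀, hQ₀p, hQ₀ne, hMQ₀⟩ := hM
  constructor
  · rintro ⟨hMtop, hMeven, hodd⟩
    have hSC : SEConj 2 M := by
      intro g hg hdvd
      have := hodd g hg
      rw [← Nat.not_even_iff_odd, even_iff_two_dvd] at this
      exact this hdvd
    have hSN : SENorm 2 M := SEConj.senorm hSC
    rw [Set.eq_empty_iff_forall_notMem]
    rintro T ⟨hTp, hTne, hTM, L, ⟨Q, hQp, hQne, rfl⟩, hTL, hLM⟩
    apply hLM
    have hTQ : IsPGroup 2 (T ⊔ Q : Subgroup G) := hTp.to_sup_of_normal_right' hQp hTL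
    have hne : (T ⊔ Q) ⊓ M ≠ ⊥ := by
      intro hb
      apply hTne
      rw [eq_bot_iff, ← hb]
      exact le_inf le_sup_left hTM
    have hle : T ⊔ Q ≤ M := hSN.le_of_inf_ne_bot hTQ hne
    exact hSN Q (le_sup_right.trans hle) hQp hQne
  · intro hemp
    have hSN : SENorm 2 M := by
      intro A hAM hAp hAne
      by_contra hcon
      have : A ∈ straddlingTwoSubgroups M :=
        ⟨hAp, hAne, hAM, _, ⟨A, hAp, hAne, rfl⟩, Subgroup.le_normalizer, hcon⟩
      rw [hemp] at this
      exact this
    have hSC := hSN.seconj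
    refine ⟨?_, ?_, ?_⟩
    · intro htop
      rw [hMQ₀, Subgroup.normalizer_eq_top_iff] at htop
      have := le_pCore htop hQ₀p
      rw [hO] at this
      exact hQ₀ne (le_bot_iff.mp this)
    · rw [even_iff_two_dvd]
      have hle : Q₀ ≤ M := hMQ₀ ▸ Subgroup.le_normalizer
      exact (dvd_card_of_isPGroup_ne_bot hQ₀p hQ₀ne).trans (Subgroup.card_dvd_of_le hle)
    · intro g hg
      rw [← Nat.not_even_iff_odd, even_iff_two_dvd]
      exact hSC g hg

end Cfsg.Agent.S2947
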