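import Mathlib
import Cfsg.Agent.Lib.Helper6.SylowCtl
import Cfsg.Statements.S2955

set_option autoImplicit false
open Cfsg Cfsg.Agent.Lib.Helper6
open scoped commutatorElement

namespace Cfsg.Agent.S2955

/-- Let p be a prime dividing the order of the finite group G and 𝓕 a conjugation-closed family of subgroups that controls Sylow p-intersections in G. Suppose the Sylow p-subgroups of G are chain-connected: any two of them are joined by a chain of Sylow p-subgroups, consecutive ones distinct with nontrivial intersection, all containing the intersection of the two ends (equivalently, the graph on the Sylow p-subgroups whose edges are the distinct pairs meeting nontrivially is connected). Then for every Sylow p-subgroup S, G is generated by N_G(S) together with the members of 𝓕 that meet S in a Sylow p-subgroup of themselves. -/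
theorem result {G : Type*} [Group G] [Finite G] (p : ℕ) [Fact p.Prime] (hdiv : p ∣ Nat.card G)
    (𝓕 : Set (Subgroup G)) (h𝓕 : Cfsg.IsNormalSet 𝓕) (hc : Cfsg.ControlsSylowIntersections p 𝓕)
    (hconn : Cfsg.IsSylowChainConnected p G) (S : Sylow p G) :
    (⨆ X ∈ Cfsg.sylowMembers p 𝓕 (S : Subgroup G), X) ⊔ Subgroup.normalizer ((S : Subgroup G) : Set G) = ⊤ := by
  set H : Subgroup G := (⨆ X ∈ Cfsg.sylowMembers p 𝓕 (S : Subgroup G), X) ⊔
    Subgroup.normalizer ((S : Subgroup G) : Set G) with hH
  have hXH : ∀ X ∈ Cfsg.sylowMembers p 𝓕 (S : Subgroup G), X ≤ H := fun X hX =>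
    (le_biSup (fun X => X) hX).trans le_sup_left
  have hNH : Subgroup.normalizer ((S : Subgroup G) : Set G) ≤ H := le_sup_right
  -- every Sylow subgroup is an `H`-conjugate of `S`
  have hall : ∀ T : Sylow p G, ∃ h ∈ H, h • T = S := by
    intro T
    have hconnST : SylConn S T := (isSylowChainConnected_iff p).mp hconn S T
    induction hconnST with
    | refl => exact ⟨1, H.one_mem, one_smul _ _⟩
    | @tail T T' _ hadj ih =>
      obtain ⟨n, c, X, x, hc0, hcl, hstep⟩ := hc T T' hadj.1 hadj.2
      have key : ∀ (i : ℕ) (hi : i < n + 1), ∃ h ∈ H, h • c ⟨i, hi⟩ = S := by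
        intro i
        induction i with
        | zero =>
          intro hi
          have : c ⟨0, hi⟩ = T := hc0
          rw [this]; exact ih
        | succ i ihi =>
          intro hi
          obtain ⟨h, hhH, hh⟩ := ihi (by omega)
          obtain ⟨hX1, _, hx, hconj, _⟩ := hstep ⟨i, by omega⟩
          have e1 : (Fin.castSucc (⟨i, by omega⟩ : Fin n)) = (⟨i, by omega⟩ : Fin (n + 1)) := rfl
          have e2 : (Fin.succ (⟨i, by omega⟩ : Fin n)) = (⟨i + 1, hi⟩ : Fin (n + 1)) := rfl
          rw [e1] at hX1
          rw [e1, e2] at hconj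
          have hS' : ((c ⟨i, by omega⟩ : Sylow p G) : Subgroup G).map (MulAut.conj h).toMonoidHom =
              (S : Subgroup G) := by
            rw [← sylow_smul_eq_map_conj, hh]
          have hX' := sylowMembers_map_conj h𝓕 hX1 h
          rw [hS'] at hX'
          have hx' : h * x ⟨i, by omega⟩ * h⁻¹ ∈ H := by
            apply hXH _ hX'
            exact ⟨x ⟨i, by omega⟩, hx, by simp [MulAut.conj_apply]⟩
          refine ⟨h * (x ⟨i, by omega⟩)⁻¹, ?_, ?_⟩
          · have : h * (x ⟨i, by omega⟩)⁻¹ = (h * x ⟨i, by omega⟩ * h⁻¹)⁻¹ * h := by group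
            rw [this]
            exact H.mul_mem (H.inv_mem hx') hhH
          · rw [mul_smul]
            have : (x ⟨i, by omega⟩)⁻¹ • c ⟨i + 1, hi⟩ = c ⟨i, by omega⟩ := by
              apply Sylow.ext
              rw [sylow_smul_eq_map_conj]
              exact hconj
            rw [this, hh]
      have := key n (by omega)
      have hlast : c ⟨n, by omega⟩ = T' := hcl
      rwa [hlast] at this
  rw [eq_top_iff]
  intro g _
  obtain ⟨h, hhH, hh⟩ := hall (g • S)
  rw [← mul_smul, Sylow.smul_eq_iff_mem_normalizer] at hh
  have : g = h⁻¹ * (h * g) := by group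
  rw [this]
  exact H.mul_mem (H.inv_mem hhH) (hNH hh)

end Cfsg.Agent.S2955
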