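import Mathlib
import Cfsg.Prelude.Def_SylowChains
import Cfsg.Agent.Lib.Helper6.SylowChain
import Cfsg.Statements.S2957

set_option autoImplicit false
open Cfsg

namespace Cfsg.Agent.S2957

open Cfsg.Agent.Lib.Helper6
open scoped commutatorElement

section helpers

variable {G : Type*} [Group G] [Finite G] (p : ℕ) [Fact p.Prime]
  (f : Subgroup G → Set (Subgroup G))

/-- a step in the ambient group -/
def GStep (D R₀ R₁ : Subgroup G) : Prop :=
  ∃ (P F : Subgroup G) (x : G), IsPGroup p P ∧ ¬ p ∣ P.index ∧ F ∈ f P ∧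
    x ∈ Subgroup.normalizer (F : Set G) ∧ R₀ ≤ Subgroup.normalizer (F : Set G) ∧
    R₁ = R₀.map (MulAut.conj x).toMonoidHom ∧ D ≤ R₁

variable {p f}

omit [Finite G] [Fact p.Prime] in
theorem GStep.mono {D D' R₀ R₁ : Subgroup G} (h : GStep p f D R₀ R₁) (hD : D' ≤ D) :
    GStep p f D' R₀ R₁ := by
  obtain ⟨P, F, x, h1, h2, h3, h4, h5, h6, h7⟩ := h
  exact ⟨P, F, x, h1, h2, h3, h4, h5, h6, hD.trans h7⟩

omit [Finite G] [Fact p.Prime] in
theorem GStep.conj (hf : Cfsg.IsNormalizerFunctor p f) {D R₀ R₁ : Subgroup G}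
    (h : GStep p f D R₀ R₁) (g : G) :
    GStep p f (D.map (MulAut.conj g).toMonoidHom) (R₀.map (MulAut.conj g).toMonoidHom)
      (R₁.map (MulAut.conj g).toMonoidHom) := by
  obtain ⟨P, F, x, h1, h2, h3, h4, h5, h6, h7⟩ := h
  refine ⟨P.map (MulAut.conj g).toMonoidHom, F.map (MulAut.conj g).toMonoidHom, g * x * g⁻¹,
    h1.map _, ?_, ?_, ?_, ?_, ?_, Subgroup.map_mono h7⟩
  · have : (P.map (MulAut.conj g).toMonoidHom).index = P.index :=
      Subgroup.index_map_equiv P (MulAut.conj g)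
    rw [this]; exact h2
  · rw [(hf P h1).2 g]
    exact ⟨F, h3, rfl⟩
  · rw [← normalizer_map_conj, mem_map_conj]
    have : g⁻¹ * (g * x * g⁻¹) * g = x := by group
    rw [this]; exact h4
  · rw [← normalizer_map_conj]
    exact Subgroup.map_mono h5
  · rw [h6, map_conj_map_conj, map_conj_map_conj]
    congr 3
    group

/-- members of the induced family of `M` containing the Sylow subgroup `R` -/
theorem exists_of_mem_sylowMembers (hf : Cfsg.IsNormalizerFunctor p f) (M : Subgroup G)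
    (R : Sylow p ↥M) (X : Subgroup ↥M)
    (hX : X ∈ sylowMembers p ((fun Y : Subgroup G => Y.subgroupOf M) '' functorFamily p f M)
      (R : Subgroup ↥M)) :
    ∃ (P : Sylow p ↥M) (F : Subgroup G), F ∈ f ((P : Subgroup ↥M).map M.subtype) ∧
      X = (M ⊓ Subgroup.normalizer (F : Set G)).subgroupOf M ∧ (R : Subgroup ↥M) ≤ X := by
  rw [mem_sylowMembers_iff] at hX
  obtain ⟨⟨Y, ⟨P, F, hF, rfl⟩, rfl⟩, hpg, hidx⟩ := hX
  refine ⟨P, F, hF, rfl, ?_⟩
  set X := (M ⊓ Subgroup.normalizer (F : Set G)).subgroupOf M with hXdef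
  have hPX : (P : Subgroup ↥M) ≤ X := by
    intro y hy
    rw [hXdef, Subgroup.mem_subgroupOf, Subgroup.mem_inf]
    refine ⟨y.2, ?_⟩
    have h1 := ((hf _ (P.2.map M.subtype)).1 F hF).2
    exact h1 (Subgroup.le_normalizer ⟨y, hy, rfl⟩)
  have hcard : Nat.card (P : Subgroup ↥M) = Nat.card (R : Subgroup ↥M) := by
    rw [Sylow.card_eq_multiplicity, Sylow.card_eq_multiplicity]
  obtain ⟨k, hk⟩ := IsPGroup.iff_card.mp R.2
  obtain ⟨j, hj⟩ := IsPGroup.iff_card.mp hpg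
  have h1 : Nat.card ((R : Subgroup ↥M) ⊓ X : Subgroup ↥M) * ((R : Subgroup ↥M) ⊓ X).relIndex X =
      Nat.card X := by
    have := Subgroup.card_mul_index (((R : Subgroup ↥M) ⊓ X).subgroupOf X)
    rw [Nat.card_congr (Subgroup.subgroupOfEquivOfLe (inf_le_right : (R : Subgroup ↥M) ⊓ X ≤ X)).toEquiv] at this
    exact this
  have h2 : p ^ k ∣ Nat.card X := by
    rw [← hk, ← hcard]
    exact Subgroup.card_dvd_of_le hPX
  rw [← h1, hj] at h2
  have hcop : (p ^ k).Coprime (((R : Subgroup ↥M) ⊓ X).relIndex X) :=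
    Nat.Coprime.pow_left k ((Nat.Prime.coprime_iff_not_dvd (Fact.out)).mpr hidx)
  have h3 : p ^ k ∣ p ^ j := hcop.dvd_of_dvd_mul_right h2
  have h4 : k ≤ j := (Nat.pow_dvd_pow_iff_le_right (Fact.out : p.Prime).one_lt).mp h3
  have h5 : Nat.card (R : Subgroup ↥M) ≤ Nat.card ((R : Subgroup ↥M) ⊓ X : Subgroup ↥M) := by
    rw [hk, hj]
    exact Nat.pow_le_pow_right (Fact.out : p.Prime).pos h4
  have h6 : (R : Subgroup ↥M) ⊓ X = R := Subgroup.eq_of_le_of_card_ge inf_le_left h5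
  rw [← h6]
  exact inf_le_right

theorem mem_sylowMembers_of_le (M : Subgroup G) (R P : Sylow p ↥M) (F : Subgroup G)
    (hF : F ∈ f ((P : Subgroup ↥M).map M.subtype))
    (hR : (R : Subgroup ↥M).map M.subtype ≤ Subgroup.normalizer (F : Set G)) :
    (M ⊓ Subgroup.normalizer (F : Set G)).subgroupOf M ∈
      sylowMembers p ((fun Y : Subgroup G => Y.subgroupOf M) '' functorFamily p f M)
        (R : Subgroup ↥M) := by
  rw [mem_sylowMembers_iff]
  have hRX : (R : Subgroup ↥M) ≤ (M ⊓ Subgroup.normalizer (F : Set G)).subgroupOf M := by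
    intro y hy
    rw [Subgroup.mem_subgroupOf, Subgroup.mem_inf]
    exact ⟨y.2, hR ⟨y, hy, rfl⟩⟩
  refine ⟨⟨_, ⟨P, F, hF, rfl⟩, rfl⟩, ?_, ?_⟩
  · rw [inf_eq_left.mpr hRX]; exact R.2
  · rw [inf_eq_left.mpr hRX]
    intro hdiv
    exact R.not_dvd_index (hdiv.trans (Subgroup.relIndex_dvd_index_of_le hRX))

omit [Finite G] [Fact p.Prime] in
theorem map_subtype_map_conj (M : Subgroup G) (R : Subgroup ↥M) (x : ↥M) :
    (R.map (MulAut.conj x).toMonoidHom).map M.subtype =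
      (R.map M.subtype).map (MulAut.conj (x : G)).toMonoidHom := by
  rw [Subgroup.map_map, Subgroup.map_map]
  congr 1

/-- regularity of `M` gives chains in the ambient group -/
theorem rtg_of_regular (hf : Cfsg.IsNormalizerFunctor p f) (M : Subgroup G)
    (hr : Cfsg.IsFunctorRegular p f M) (hMi : ¬ p ∣ M.index) (S' T' : Sylow p ↥M)
    (D : Subgroup G) (hD1 : D ≠ ⊥) (hDS : D ≤ (S' : Subgroup ↥M).map M.subtype)
    (hDT : D ≤ (T' : Subgroup ↥M).map M.subtype) :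
    Relation.ReflTransGen (GStep p f D) ((S' : Subgroup ↥M).map M.subtype)
      ((T' : Subgroup ↥M).map M.subtype) := by
  by_cases hST : S' = T'
  · rw [hST]
  have hDle : D ≤ ((S' : Subgroup ↥M) ⊓ (T' : Subgroup ↥M)).map M.subtype := by
    intro d hd
    obtain ⟨s, hs, hsd⟩ := hDS hd
    obtain ⟨t, ht, htd⟩ := hDT hd
    have : s = t := Subtype.ext (hsd.trans htd.symm)
    exact ⟨s, ⟨hs, this ▸ ht⟩, hsd⟩
  have hinf : (S' : Subgroup ↥M) ⊓ (T' : Subgroup ↥M) ≠ ⊥ := by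
    intro h0
    rw [h0, Subgroup.map_bot, le_bot_iff] at hDle
    exact hD1 hDle
  have hrtg := rtg_of_controls hr S' T' hST hinf
  refine Relation.ReflTransGen.lift (fun R : Sylow p ↥M => (R : Subgroup ↥M).map M.subtype) ?_ _ _ hrtg
  rintro R₀ R₁ ⟨X, x, hX0, hX1, hxX, hconj, hle⟩
  obtain ⟨P, F, hF, hXeq, hR₀X⟩ := exists_of_mem_sylowMembers hf M R₀ X hX0
  refine ⟨(P : Subgroup ↥M).map M.subtype, F, (x : G), P.2.map _, ?_, hF, ?_, ?_, ?_, ?_⟩
  · rw [Subgroup.index_map_subtype]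
    intro hdiv
    rcases (Nat.Prime.dvd_mul Fact.out).mp hdiv with h | h
    · exact P.not_dvd_index h
    · exact hMi h
  · rw [hXeq, Subgroup.mem_subgroupOf, Subgroup.mem_inf] at hxX
    exact hxX.2
  · rintro _ ⟨y, hy, rfl⟩
    have := hR₀X hy
    rw [hXeq, Subgroup.mem_subgroupOf, Subgroup.mem_inf] at this
    exact this.2
  · unfold Cfsg.subgroupConjRight at hconj
    have h1 : ((R₁ : Subgroup ↥M).map (MulAut.conj x⁻¹).toMonoidHom).map M.subtype =
        (R₀ : Subgroup ↥M).map M.subtype := by rw [hconj]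
    rw [map_subtype_map_conj] at h1
    show (R₁ : Subgroup ↥M).map M.subtype =
      ((R₀ : Subgroup ↥M).map M.subtype).map (MulAut.conj (x : G)).toMonoidHom
    rw [← h1, map_conj_map_conj]
    have : (x : G) * ((x⁻¹ : ↥M) : G) = 1 := by simp
    rw [this, map_conj_one]
  · refine hDle.trans ?_
    exact Subgroup.map_mono (hle.trans inf_le_left)

/-- chains in the ambient group give regularity of the whole group -/
theorem regular_top_of_rtg
    (h : ∀ S T : Subgroup G, IsPGroup p S → ¬ p ∣ S.index → IsPGroup p T → ¬ p ∣ T.index →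
      S ≠ T → S ⊓ T ≠ ⊥ → Relation.ReflTransGen (GStep p f (S ⊓ T)) S T) :
    Cfsg.IsFunctorRegular p f ⊤ := by
  unfold Cfsg.IsFunctorRegular
  apply controls_of_rtg
  intro S' T' hne hinf
  have hφinj : Function.Injective
      (fun K : Subgroup ↥(⊤ : Subgroup G) => K.map (⊤ : Subgroup G).subtype) :=
    Subgroup.map_injective (Subgroup.subtype_injective _)
  have hidx : ∀ R : Sylow p ↥(⊤ : Subgroup G),
      ¬ p ∣ ((R : Subgroup ↥(⊤ : Subgroup G)).map (⊤ : Subgroup G).subtype).index := by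
    intro R
    rw [Subgroup.index_map_subtype, Subgroup.index_top, mul_one]
    exact R.not_dvd_index
  have hDeq : (S' : Subgroup ↥(⊤ : Subgroup G)).map (⊤ : Subgroup G).subtype ⊓
      (T' : Subgroup ↥(⊤ : Subgroup G)).map (⊤ : Subgroup G).subtype =
      ((S' : Subgroup ↥(⊤ : Subgroup G)) ⊓ (T' : Subgroup ↥(⊤ : Subgroup G))).map
        (⊤ : Subgroup G).subtype :=
    (Subgroup.map_inf_eq _ _ _ (Subgroup.subtype_injective _)).symm
  have hrtg := h _ _ (S'.2.map (⊤ : Subgroup G).subtype) (hidx S')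
    (T'.2.map (⊤ : Subgroup G).subtype) (hidx T')
    (fun e => hne (Sylow.ext (hφinj e)))
    (by
      rw [hDeq]
      intro h0
      apply hinf
      apply hφinj
      show _ = (⊥ : Subgroup ↥(⊤ : Subgroup G)).map (⊤ : Subgroup G).subtype
      rw [Subgroup.map_bot]
      exact h0)
  have key : ∀ R : Subgroup G,
      Relation.ReflTransGen (GStep p f
        ((S' : Subgroup ↥(⊤ : Subgroup G)).map (⊤ : Subgroup G).subtype ⊓
          (T' : Subgroup ↥(⊤ : Subgroup G)).map (⊤ : Subgroup G).subtype))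
        ((S' : Subgroup ↥(⊤ : Subgroup G)).map (⊤ : Subgroup G).subtype) R →
      ∃ Q' : Sylow p ↥(⊤ : Subgroup G),
        (Q' : Subgroup ↥(⊤ : Subgroup G)).map (⊤ : Subgroup G).subtype = R ∧
        Relation.ReflTransGen (stepRel p
          ((fun Y : Subgroup G => Y.subgroupOf ⊤) '' functorFamily p f ⊤)
          ((S' : Subgroup ↥(⊤ : Subgroup G)) ⊓ (T' : Subgroup ↥(⊤ : Subgroup G)))) S' Q' := by
    intro R hR
    induction hR with
    | refl => exact ⟨S', rfl, Relation.ReflTransGen.refl⟩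
    | @tail R₀ R₁ _ hstep ih =>
      obtain ⟨Q₀, hQ₀, hrt⟩ := ih
      obtain ⟨P, F, x, hP, hPi, hF, hx, hR₀, hR₁, hD⟩ := hstep
      obtain ⟨x', hx'⟩ : ∃ x' : ↥(⊤ : Subgroup G), (x' : G) = x := ⟨⟨x, Subgroup.mem_top x⟩, rfl⟩
      have hQ₁ : ((x' • Q₀ : Sylow p ↥(⊤ : Subgroup G)) : Subgroup ↥(⊤ : Subgroup G)).map
          (⊤ : Subgroup G).subtype = R₁ := by
        rw [sylow_smul_eq_map_conj, map_subtype_map_conj, hR₁, ← hQ₀, hx']
      have hR₁N : R₁ ≤ Subgroup.normalizer (F : Set G) := by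
        rw [hR₁]
        rintro _ ⟨y, hy, rfl⟩
        exact mul_mem (mul_mem hx (hR₀ hy)) (inv_mem hx)
      refine ⟨x' • Q₀, hQ₁, Relation.ReflTransGen.tail hrt ?_⟩
      obtain ⟨P', hP'⟩ : ∃ P' : Sylow p ↥(⊤ : Subgroup G),
          (P' : Subgroup ↥(⊤ : Subgroup G)).map (⊤ : Subgroup G).subtype = P := by
        refine ⟨(hP.toSylow hPi).subtype le_top, ?_⟩
        rw [Sylow.coe_subtype, Subgroup.map_subgroupOf_eq_of_le le_top]
        rfl
      have hF' : F ∈ f ((P' : Subgroup ↥(⊤ : Subgroup G)).map (⊤ : Subgroup G).subtype) := by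
        rw [hP']; exact hF
      refine ⟨(⊤ ⊓ Subgroup.normalizer (F : Set G)).subgroupOf ⊤, x', ?_, ?_, ?_, ?_, ?_⟩
      · exact mem_sylowMembers_of_le ⊤ Q₀ P' F hF' (by rw [hQ₀]; exact hR₀)
      · exact mem_sylowMembers_of_le ⊤ (x' • Q₀) P' F hF' (by rw [hQ₁]; exact hR₁N)
      · rw [Subgroup.mem_subgroupOf, Subgroup.mem_inf, hx']
        exact ⟨Subgroup.mem_top _, hx⟩
      · unfold Cfsg.subgroupConjRight
        rw [sylow_smul_eq_map_conj, map_conj_map_conj, inv_mul_cancel, map_conj_one]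
      · intro d hd
        have hd' : (d : G) ∈ R₁ := hD (by rw [hDeq]; exact ⟨d, hd, rfl⟩)
        refine ⟨?_, ?_⟩
        · rw [← hQ₁] at hd'
          obtain ⟨r, hr, hrd⟩ := hd'
          have : r = d := Subtype.ext hrd
          rw [← this]; exact hr
        · show d ∈ (⊤ ⊓ Subgroup.normalizer (F : Set G)).subgroupOf ⊤
          rw [Subgroup.mem_subgroupOf, Subgroup.mem_inf]
          exact ⟨Subgroup.mem_top _, hR₁N hd'⟩
  obtain ⟨Q', hQ', hrt⟩ := key _ hrtg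
  have : Q' = T' := Sylow.ext (hφinj hQ')
  rw [this] at hrt; exact hrt

/-- a regular subgroup `M` containing the Sylow subgroup `S` connects `S` to its `M`-conjugates -/
theorem rtg_conj_of_regular (hf : Cfsg.IsNormalizerFunctor p f) (S : Sylow p G) (M : Subgroup G)
    (hSM : (S : Subgroup G) ≤ M) (hr : Cfsg.IsFunctorRegular p f M) (h : G) (hh : h ∈ M)
    (D : Subgroup G) (hD1 : D ≠ ⊥) (hDS : D ≤ (S : Subgroup G))
    (hDh : D ≤ (S : Subgroup G).map (MulAut.conj h).toMonoidHom) :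
    Relation.ReflTransGen (GStep p f D) (S : Subgroup G)
      ((S : Subgroup G).map (MulAut.conj h).toMonoidHom) := by
  have hMi : ¬ p ∣ M.index := fun hd => S.not_dvd_index (hd.trans (Subgroup.index_dvd_of_le hSM))
  have e1 : ((S.subtype hSM : Sylow p ↥M) : Subgroup ↥M).map M.subtype = (S : Subgroup G) := by
    rw [Sylow.coe_subtype, Subgroup.map_subgroupOf_eq_of_le hSM]
  have e2 : (((⟨h, hh⟩ : ↥M) • (S.subtype hSM : Sylow p ↥M) : Sylow p ↥M) : Subgroup ↥M).map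
      M.subtype = (S : Subgroup G).map (MulAut.conj h).toMonoidHom := by
    rw [sylow_smul_eq_map_conj, map_subtype_map_conj, e1]
  have := rtg_of_regular hf M hr hMi (S.subtype hSM) ((⟨h, hh⟩ : ↥M) • (S.subtype hSM)) D hD1
    (by rw [e1]; exact hDS) (by rw [e2]; exact hDh)
  rwa [e1, e2] at this

omit [Finite G] [Fact p.Prime] in
theorem rtg_conj (hf : Cfsg.IsNormalizerFunctor p f) {D R₀ R₁ : Subgroup G}
    (h : Relation.ReflTransGen (GStep p f D) R₀ R₁) (g : G) :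
    Relation.ReflTransGen (GStep p f (D.map (MulAut.conj g).toMonoidHom))
      (R₀.map (MulAut.conj g).toMonoidHom) (R₁.map (MulAut.conj g).toMonoidHom) :=
  Relation.ReflTransGen.lift (fun R : Subgroup G => R.map (MulAut.conj g).toMonoidHom)
    (fun _ _ hab => hab.conj hf g) _ _ h

theorem main_rtg (hf : Cfsg.IsNormalizerFunctor p f) (S : Sylow p G)
    (G₁ G₂ : Subgroup G) (h₁ : (S : Subgroup G) ≤ G₁) (h₂ : (S : Subgroup G) ≤ G₂)
    (hprod : ∀ g : G, ∃ g₁ ∈ G₁, ∃ g₂ ∈ G₂, g = g₁ * g₂)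
    (hr₁ : Cfsg.IsFunctorRegular p f G₁) (hr₂ : Cfsg.IsFunctorRegular p f G₂)
    (S₀ T₀ : Subgroup G) (hS₀ : IsPGroup p S₀) (hS₀i : ¬ p ∣ S₀.index) (hT₀ : IsPGroup p T₀)
    (hT₀i : ¬ p ∣ T₀.index) (hinf : S₀ ⊓ T₀ ≠ ⊥) :
    Relation.ReflTransGen (GStep p f (S₀ ⊓ T₀)) S₀ T₀ := by
  obtain ⟨u, hu⟩ : ∃ u : G, S₀ = (S : Subgroup G).map (MulAut.conj u).toMonoidHom := by
    obtain ⟨u, hu⟩ := MulAction.exists_smul_eq G S (hS₀.toSylow hS₀i)
    refine ⟨u, ?_⟩
    rw [← sylow_smul_eq_map_conj, hu]; rfl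
  obtain ⟨w, hw⟩ : ∃ w : G, T₀ = (S : Subgroup G).map (MulAut.conj w).toMonoidHom := by
    obtain ⟨w, hw⟩ := MulAction.exists_smul_eq G S (hT₀.toSylow hT₀i)
    refine ⟨w, ?_⟩
    rw [← sylow_smul_eq_map_conj, hw]; rfl
  set D := S₀ ⊓ T₀ with hDdef
  set g := u⁻¹ * w with hg
  set D' := D.map (MulAut.conj u⁻¹).toMonoidHom with hD'
  have hD'1 : D' ≠ ⊥ := by
    intro h0
    apply hinf
    rw [hD', Subgroup.map_eq_bot_iff_of_injective _ (MulAut.conj u⁻¹).injective] at h0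
    exact h0
  have hD'S : D' ≤ (S : Subgroup G) := by
    rw [hD', map_conj_le_iff, inv_inv, ← hu]
    exact inf_le_left
  have hD'g : D' ≤ (S : Subgroup G).map (MulAut.conj g).toMonoidHom := by
    rw [hD', map_conj_le_iff, inv_inv, map_conj_map_conj, hg, mul_inv_cancel_left, ← hw]
    exact inf_le_right
  have hD'p : IsPGroup p D' := S.2.to_le hD'S
  suffices hmain : Relation.ReflTransGen (GStep p f D') (S : Subgroup G)
      ((S : Subgroup G).map (MulAut.conj g).toMonoidHom) by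
    have := rtg_conj hf hmain u
    rw [hD', map_conj_map_conj, mul_inv_cancel, map_conj_one, ← hu, map_conj_map_conj, hg,
      mul_inv_cancel_left, ← hw] at this
    exact this
  obtain ⟨g₁, hg₁, g₂, hg₂, hgg⟩ := hprod g
  -- the subgroup `B`
  set B := D'.map (MulAut.conj g₁⁻¹).toMonoidHom with hB
  have hBp : IsPGroup p B := hD'p.map _
  have hBK : B ≤ G₁ ⊓ G₂ := by
    intro b hb
    rw [hB, mem_map_conj, inv_inv] at hb
    have hd1 : g₁ * b * g₁⁻¹ ∈ G₁ := h₁ (hD'S hb)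
    have hd2 := hD'g hb
    rw [mem_map_conj] at hd2
    refine ⟨?_, ?_⟩
    · have e : b = g₁⁻¹ * (g₁ * b * g₁⁻¹) * g₁ := by group
      rw [e]
      exact G₁.mul_mem (G₁.mul_mem (G₁.inv_mem hg₁) hd1) hg₁
    · have e : b = g₂ * (g⁻¹ * (g₁ * b * g₁⁻¹) * g) * g₂⁻¹ := by rw [hgg]; group
      rw [e]
      exact G₂.mul_mem (G₂.mul_mem hg₂ (h₂ hd2)) (G₂.inv_mem hg₂)
  obtain ⟨k, hkK, hk⟩ : ∃ k ∈ G₁ ⊓ G₂, B.map (MulAut.conj k).toMonoidHom ≤ (S : Subgroup G) := by
    obtain ⟨k', hk'⟩ := exists_map_conj_le_sylow (S.subtype (le_inf h₁ h₂) : Sylow p ↥(G₁ ⊓ G₂))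
      (hBp.comap_subtype (K := G₁ ⊓ G₂))
    refine ⟨(k' : G), k'.2, ?_⟩
    rintro _ ⟨b, hb, rfl⟩
    have h3 : (MulAut.conj k').toMonoidHom ⟨b, hBK hb⟩ ∈
        ((S.subtype (le_inf h₁ h₂) : Sylow p ↥(G₁ ⊓ G₂)) : Subgroup ↥(G₁ ⊓ G₂)) :=
      hk' ⟨⟨b, hBK hb⟩, (Subgroup.mem_subgroupOf.mpr hb : (⟨b, hBK hb⟩ : ↥(G₁ ⊓ G₂)) ∈ B.subgroupOf (G₁ ⊓ G₂)), rfl⟩
    rw [Sylow.coe_subtype, Subgroup.mem_subgroupOf] at h3
    exact h3
  set a₁ := g₁ * k⁻¹ with ha₁
  set a₂ := k * g₂ with ha₂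
  have ha₁G : a₁ ∈ G₁ := mul_mem hg₁ (inv_mem hkK.1)
  have ha₂G : a₂ ∈ G₂ := mul_mem hkK.2 hg₂
  have hga : g = a₁ * a₂ := by rw [hgg, ha₁, ha₂]; group
  have hD'a : D'.map (MulAut.conj a₁⁻¹).toMonoidHom ≤ (S : Subgroup G) := by
    have : a₁⁻¹ = k * g₁⁻¹ := by rw [ha₁]; group
    rw [this, ← map_conj_map_conj]
    exact hk
  have hst1 := rtg_conj_of_regular hf S G₁ h₁ hr₁ a₁ ha₁G D' hD'1 hD'S
    (by
      have := (map_conj_le_iff (S := D') (T := (S : Subgroup G)) (g := a₁⁻¹)).mp hD'a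
      rwa [inv_inv] at this)
  have hst2 := rtg_conj_of_regular hf S G₂ h₂ hr₂ a₂ ha₂G (D'.map (MulAut.conj a₁⁻¹).toMonoidHom)
    (by
      intro h0
      rw [Subgroup.map_eq_bot_iff_of_injective _ (MulAut.conj a₁⁻¹).injective] at h0
      exact hD'1 h0)
    hD'a
    (by
      rw [map_conj_le_iff, inv_inv, map_conj_map_conj, ← hga]
      exact hD'g)
  have hst2' := rtg_conj hf hst2 a₁
  rw [map_conj_map_conj, mul_inv_cancel, map_conj_one, map_conj_map_conj, ← hga] at hst2'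
  exact hst1.trans hst2'

end helpers



/-- Let p be a prime dividing the order of the finite group G, f an equivariant assignment of a set of subgroups f(P) of P to every p-subgroup P, each normalized by N_G(P), and S a Sylow p-subgroup. If G = G₁G₂ for subgroups G₁, G₂ both containing S and both regular for f (in each Gᵢ, the family of normalizers in Gᵢ of the members of f(P), P a Sylow p-subgroup of Gᵢ, controls Sylow p-intersections), then G itself is regular for f. -/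
theorem result {G : Type*} [Group G] [Finite G] (p : ℕ) [Fact p.Prime] (hdiv : p ∣ Nat.card G)
    (f : Subgroup G → Set (Subgroup G)) (hf : Cfsg.IsNormalizerFunctor p f) (S : Sylow p G)
    (G₁ G₂ : Subgroup G) (h₁ : (S : Subgroup G) ≤ G₁) (h₂ : (S : Subgroup G) ≤ G₂)
    (hprod : ∀ g : G, ∃ g₁ ∈ G₁, ∃ g₂ ∈ G₂, g = g₁ * g₂)
    (hr₁ : Cfsg.IsFunctorRegular p f G₁) (hr₂ : Cfsg.IsFunctorRegular p f G₂) :
    Cfsg.IsFunctorRegular p f ⊤ := by
  exact regular_top_of_rtg (fun S₀ T₀ hS₀ hS₀i hT₀ hT₀i _ hinf =>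
    main_rtg hf S G₁ G₂ h₁ h₂ hprod hr₁ hr₂ S₀ T₀ hS₀ hS₀i hT₀ hT₀i hinf)


end Cfsg.Agent.S2957
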