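import Mathlib
import Cfsg.Prelude.Def_SylowChains
import Cfsg.Agent.Lib.Helper6.SylowChain
import Cfsg.Agent.Lib.Helper6.SylowIdx
import Cfsg.Agent.Lib.Helper6.LocalKieler
import Cfsg.Agent.S2957
import Cfsg.Statements.S2956

set_option autoImplicit false
open Cfsg

namespace Cfsg.Agent.S2956

open Cfsg.Agent.Lib.Helper6
open scoped commutatorElement

section helpers

variable {G : Type*} [Group G] [Finite G] {p : ℕ} [Fact p.Prime]
  {f : Subgroup G → Set (Subgroup G)}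

/-- the family of the statement -/
def fam (p : ℕ) (f : Subgroup G → Set (Subgroup G)) : Set (Subgroup G) :=
  Cfsg.functorFamily p f ⊤ ∪ {M | Cfsg.IsMaximalPLocal p M ∧ ¬ Cfsg.IsFunctorRegular p f M}

/-- the members `N_G(F)`, `F ∈ f(S)`, give steps -/
theorem step_functor (hf : Cfsg.IsNormalizerFunctor p f) (D : Subgroup G) (S : Sylow p G)
    (F : Subgroup G) (hF : F ∈ f (S : Subgroup G)) (x : G)
    (hx : x ∈ Subgroup.normalizer (F : Set G)) (hD : D ≤ ((x • S : Sylow p G) : Subgroup G)) :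
    stepRel p (fam p f) D S (x • S) := by
  have hSN : (S : Subgroup G) ≤ Subgroup.normalizer (F : Set G) :=
    Subgroup.le_normalizer.trans ((hf _ S.2).1 F hF).2
  have hxSN : ((x • S : Sylow p G) : Subgroup G) ≤ Subgroup.normalizer (F : Set G) := by
    rw [sylow_smul_eq_map_conj]
    rintro _ ⟨y, hy, rfl⟩
    exact mul_mem (mul_mem hx (hSN hy)) (inv_mem hx)
  have hmem : (⊤ ⊓ Subgroup.normalizer (F : Set G) : Subgroup G) ∈ fam p f := by
    left
    refine ⟨S.subtype le_top, F, ?_, rfl⟩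
    rw [Sylow.coe_subtype, Subgroup.map_subgroupOf_eq_of_le le_top]
    exact hF
  have key : ∀ R : Sylow p G, (R : Subgroup G) ≤ Subgroup.normalizer (F : Set G) →
      (⊤ ⊓ Subgroup.normalizer (F : Set G) : Subgroup G) ∈ sylowMembers p (fam p f) (R : Subgroup G) := by
    intro R hR
    rw [mem_sylowMembers_iff]
    have hle : (R : Subgroup G) ≤ ⊤ ⊓ Subgroup.normalizer (F : Set G) := le_inf le_top hR
    refine ⟨hmem, ?_, ?_⟩
    · rw [inf_eq_left.mpr hle]; exact R.2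
    · rw [inf_eq_left.mpr hle]
      intro hdiv
      exact R.not_dvd_index (hdiv.trans (Subgroup.relIndex_dvd_index_of_le hle))
  refine ⟨⊤ ⊓ Subgroup.normalizer (F : Set G), x, key S hSN, key (x • S) hxSN,
    ⟨Subgroup.mem_top _, hx⟩, ?_, le_inf hD (le_inf le_top (hD.trans hxSN))⟩
  unfold Cfsg.subgroupConjRight
  rw [sylow_smul_eq_map_conj, map_conj_map_conj, inv_mul_cancel, map_conj_one]

/-- singular maximal `p`-locals give steps -/
theorem step_singular (D : Subgroup G) (M : Subgroup G) (hM : Cfsg.IsMaximalPLocal p M)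
    (hsing : ¬ Cfsg.IsFunctorRegular p f M) (S : Sylow p G)
    (hS : IsSylowOf p M ((S : Subgroup G) ⊓ M)) (m : G) (hm : m ∈ M)
    (hD : D ≤ ((m • S : Sylow p G) : Subgroup G) ⊓ M) :
    stepRel p (fam p f) D S (m • S) := by
  have hmem : M ∈ fam p f := Or.inr ⟨hM, hsing⟩
  have hMm : M.map (MulAut.conj m).toMonoidHom = M :=
    map_conj_eq_self_of_mem_normalizer (Subgroup.le_normalizer hm)
  have hS' : IsSylowOf p M (((m • S : Sylow p G) : Subgroup G) ⊓ M) := by
    have := hS.map_conj m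
    rwa [hMm, Subgroup.map_inf_eq _ _ _ (MulAut.conj m).injective, hMm,
      ← sylow_smul_eq_map_conj] at this
  have key : ∀ R : Sylow p G, IsSylowOf p M ((R : Subgroup G) ⊓ M) →
      M ∈ sylowMembers p (fam p f) (R : Subgroup G) := by
    intro R hR
    rw [mem_sylowMembers_iff]
    exact ⟨hmem, hR.2.1, hR.not_dvd_relIndex⟩
  refine ⟨M, m, key S hS, key (m • S) hS', hm, ?_, hD⟩
  unfold Cfsg.subgroupConjRight
  rw [sylow_smul_eq_map_conj, map_conj_map_conj, inv_mul_cancel, map_conj_one]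

/-- members of the induced family of `M` containing the Sylow subgroup `R` come from `f(R)` -/
theorem exists_functor_of_mem (hf : Cfsg.IsNormalizerFunctor p f) (M : Subgroup G)
    (R : Sylow p ↥M) (X : Subgroup ↥M)
    (hX : X ∈ sylowMembers p ((fun Y : Subgroup G => Y.subgroupOf M) '' functorFamily p f M)
      (R : Subgroup ↥M)) :
    ∃ F : Subgroup G, F ∈ f ((R : Subgroup ↥M).map M.subtype) ∧
      X = (M ⊓ Subgroup.normalizer (F : Set G)).subgroupOf M ∧ (R : Subgroup ↥M) ≤ X := by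
  obtain ⟨P, F, hF, hXeq, hRX⟩ := Cfsg.Agent.S2957.exists_of_mem_sylowMembers hf M R X hX
  have hPX : (P : Subgroup ↥M) ≤ X := by
    intro y hy
    rw [hXeq, Subgroup.mem_subgroupOf, Subgroup.mem_inf]
    refine ⟨y.2, ?_⟩
    have h1 := ((hf _ (P.2.map M.subtype)).1 F hF).2
    exact h1 (Subgroup.le_normalizer ⟨y, hy, rfl⟩)
  have hP' : IsSylowOf p X (P : Subgroup ↥M) :=
    ⟨hPX, P.2, fun Q hQ _ hPQ => P.is_maximal' hQ hPQ⟩
  have hR' : IsSylowOf p X (R : Subgroup ↥M) :=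
    ⟨hRX, R.2, fun Q hQ _ hRQ => R.is_maximal' hQ hRQ⟩
  obtain ⟨y, hyX, hy⟩ := hP'.exists_conj hR'
  refine ⟨F, ?_, hXeq, hRX⟩
  have e : (R : Subgroup ↥M).map M.subtype =
      ((P : Subgroup ↥M).map M.subtype).map (MulAut.conj (y : G)).toMonoidHom := by
    rw [hy, Cfsg.Agent.S2957.map_subtype_map_conj]
  rw [e, (hf _ (P.2.map _)).2 (y : G)]
  refine ⟨F, hF, ?_⟩
  apply map_conj_eq_self_of_mem_normalizer
  rw [hXeq, Subgroup.mem_subgroupOf, Subgroup.mem_inf] at hyX
  exact hyX.2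

/-- one step of a chain in `M`, seen in the ambient group -/
def MStep (p : ℕ) (f : Subgroup G → Set (Subgroup G)) (M D A B : Subgroup G) : Prop :=
  IsSylowOf p M A ∧ ∃ (F : Subgroup G) (x : G), F ∈ f A ∧ x ∈ Subgroup.normalizer (F : Set G) ∧
    x ∈ M ∧ B = A.map (MulAut.conj x).toMonoidHom ∧ D ≤ B

/-- regularity of `M` gives chains between the Sylow subgroups of `M` -/
theorem rtg_M (hf : Cfsg.IsNormalizerFunctor p f) (M : Subgroup G)
    (hr : Cfsg.IsFunctorRegular p f M) (A B : Subgroup G) (hA : IsSylowOf p M A)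
    (hB : IsSylowOf p M B) (D : Subgroup G) (hD1 : D ≠ ⊥) (hDA : D ≤ A) (hDB : D ≤ B) :
    Relation.ReflTransGen (MStep p f M D) A B := by
  obtain ⟨S', rfl⟩ := hA.exists_sylow
  obtain ⟨T', rfl⟩ := hB.exists_sylow
  by_cases hST : S' = T'
  · rw [hST]
  have hDle : D ≤ ((S' : Subgroup ↥M) ⊓ (T' : Subgroup ↥M)).map M.subtype := by
    intro d hd
    obtain ⟨s, hs, hsd⟩ := hDA hd
    obtain ⟨t, ht, htd⟩ := hDB hd
    have : s = t := Subtype.ext (hsd.trans htd.symm)
    exact ⟨s, ⟨hs, this ▸ ht⟩, hsd⟩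
  have hinf : (S' : Subgroup ↥M) ⊓ (T' : Subgroup ↥M) ≠ ⊥ := by
    intro h0
    rw [h0, Subgroup.map_bot, le_bot_iff] at hDle
    exact hD1 hDle
  have hrtg := rtg_of_controls hr S' T' hST hinf
  refine Relation.ReflTransGen.lift (fun R : Sylow p ↥M => (R : Subgroup ↥M).map M.subtype) ?_ _ _ hrtg
  rintro R₀ R₁ ⟨X, x, hX0, hX1, hxX, hconj, hle⟩
  obtain ⟨F, hF, hXeq, hR₀X⟩ := exists_functor_of_mem hf M R₀ X hX0
  refine ⟨isSylowOf_of_sylow R₀, F, (x : G), hF, ?_, x.2, ?_, ?_⟩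
  · rw [hXeq, Subgroup.mem_subgroupOf, Subgroup.mem_inf] at hxX
    exact hxX.2
  · unfold Cfsg.subgroupConjRight at hconj
    have h1 : ((R₁ : Subgroup ↥M).map (MulAut.conj x⁻¹).toMonoidHom).map M.subtype =
        (R₀ : Subgroup ↥M).map M.subtype := by rw [hconj]
    rw [Cfsg.Agent.S2957.map_subtype_map_conj] at h1
    show (R₁ : Subgroup ↥M).map M.subtype =
      ((R₀ : Subgroup ↥M).map M.subtype).map (MulAut.conj (x : G)).toMonoidHom
    rw [← h1, map_conj_map_conj]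
    have : (x : G) * ((x⁻¹ : ↥M) : G) = 1 := by simp
    rw [this, map_conj_one]
  · refine hDle.trans ?_
    exact Subgroup.map_mono (hle.trans inf_le_left)

theorem card_lt_of_lt' {A B : Subgroup G} (h : A < B) : Nat.card A < Nat.card B := by
  by_contra hcon
  push Not at hcon
  have := Subgroup.eq_of_le_of_card_ge h.le hcon
  exact (ne_of_lt h) this

theorem exists_sylowOf_ge {M A : Subgroup G} (hA : IsPGroup p A) (hAM : A ≤ M) :
    ∃ R, IsSylowOf p M R ∧ A ≤ R := by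
  obtain ⟨R₀, hR₀⟩ := exists_isSylowOf p M
  obtain ⟨k, hkM, hk⟩ := hR₀.exists_conj_ge hA hAM
  refine ⟨R₀.map (MulAut.conj k).toMonoidHom, ?_, hk⟩
  have := hR₀.map_conj k
  rwa [map_conj_eq_self_of_mem_normalizer (Subgroup.le_normalizer hkM)] at this

theorem card_le_sylowOf {M A R : Subgroup G} (hR : IsSylowOf p M R) (hA : IsPGroup p A)
    (hAM : A ≤ M) : Nat.card A ≤ Nat.card R := by
  obtain ⟨k, _, hk⟩ := hR.exists_conj_ge hA hAM
  calc Nat.card A ≤ Nat.card (R.map (MulAut.conj k).toMonoidHom) := Subgroup.card_le_of_le hk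
    _ = Nat.card R := card_map_conj R k

theorem exists_maximal_pLocal_ge (L : Subgroup G) (hL : Cfsg.IsPLocal p L) :
    ∃ M, Cfsg.IsMaximalPLocal p M ∧ L ≤ M := by
  obtain ⟨M, ⟨hM1, hM2⟩, hmax⟩ := (wellFounded_gt (α := Subgroup G)).has_min
    {N | Cfsg.IsPLocal p N ∧ L ≤ N} ⟨L, hL, le_rfl⟩
  refine ⟨M, ⟨hM1, ?_⟩, hM2⟩
  intro N hN hMN
  by_contra hne
  exact hmax N ⟨hN, hM2.trans hMN⟩ (lt_of_le_of_ne hMN (fun h => hne h.symm))

omit [Finite G] [Fact p.Prime] in
theorem stepRel_mono {𝓕 : Set (Subgroup G)} {D D' : Subgroup G} (hD : D' ≤ D) {S₀ S₁ : Sylow p G}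
    (h : stepRel p 𝓕 D S₀ S₁) : stepRel p 𝓕 D' S₀ S₁ := by
  obtain ⟨X, x, h1, h2, h3, h4, h5⟩ := h
  exact ⟨X, x, h1, h2, h3, h4, hD.trans h5⟩

omit [Finite G] [Fact p.Prime] in
theorem conn_mono {𝓕 : Set (Subgroup G)} {D D' : Subgroup G} (hD : D' ≤ D) {S₀ S₁ : Sylow p G}
    (h : Relation.ReflTransGen (stepRel p 𝓕 D) S₀ S₁) :
    Relation.ReflTransGen (stepRel p 𝓕 D') S₀ S₁ :=
  Relation.ReflTransGen.mono (fun _ _ hab => stepRel_mono hD hab) _ _ h

/-- connecting two Sylow subgroups meeting a maximal `p`-local `M` in large subgroups -/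
theorem Cl (hf : Cfsg.IsNormalizerFunctor p f) (D : Subgroup G) (hD1 : D ≠ ⊥)
    (hIH : ∀ D' : Subgroup G, Nat.card D < Nat.card D' → ∀ S T : Sylow p G,
      D' ≤ (S : Subgroup G) → D' ≤ (T : Subgroup G) →
      Relation.ReflTransGen (stepRel p (fam p f) D') S T)
    (M : Subgroup G) (hM : Cfsg.IsMaximalPLocal p M)
    (hQM : ∀ R₀ : Subgroup G, IsSylowOf p M R₀ → D ≤ R₀ → ∀ F ∈ f R₀,
      ∀ x ∈ Subgroup.normalizer (F : Set G), x ∈ M →
      ∀ S' : Sylow p G, R₀ ≤ (S' : Subgroup G) → D ≤ R₀.map (MulAut.conj x).toMonoidHom →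
      Relation.ReflTransGen (stepRel p (fam p f) D) S' (x • S'))
    (S T : Sylow p G) (hDS : D ≤ (S : Subgroup G)) (hDT : D ≤ (T : Subgroup G)) (hDM : D ≤ M)
    (hS : Nat.card D < Nat.card ((S : Subgroup G) ⊓ M : Subgroup G))
    (hT : Nat.card D < Nat.card ((T : Subgroup G) ⊓ M : Subgroup G)) :
    Relation.ReflTransGen (stepRel p (fam p f) D) S T := by
  obtain ⟨P₁, hP₁syl, hP₁⟩ := exists_sylowOf_ge (M := M) (S.2.to_le inf_le_left) inf_le_right
  obtain ⟨S₁, hS₁⟩ := hP₁syl.2.1.exists_le_sylow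
  have hS₁M : (S₁ : Subgroup G) ⊓ M = P₁ :=
    hP₁syl.2.2 _ (S₁.2.to_le inf_le_left) inf_le_right (le_inf hS₁ hP₁syl.1)
  obtain ⟨Q₁, hQ₁syl, hQ₁⟩ := exists_sylowOf_ge (M := M) (T.2.to_le inf_le_left) inf_le_right
  obtain ⟨T₁, hT₁⟩ := hQ₁syl.2.1.exists_le_sylow
  have hDP₁ : D ≤ P₁ := (le_inf hDS hDM).trans hP₁
  have hDQ₁ : D ≤ Q₁ := (le_inf hDT hDM).trans hQ₁
  have hcP₁ : Nat.card D < Nat.card P₁ := lt_of_lt_of_le hS (Subgroup.card_le_of_le hP₁)
  have hcQ₁ : Nat.card D < Nat.card Q₁ := lt_of_lt_of_le hT (Subgroup.card_le_of_le hQ₁)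
  have big : ∀ (A : Subgroup G) (S' T' : Sylow p G), Nat.card D < Nat.card A → D ≤ A →
      A ≤ (S' : Subgroup G) → A ≤ (T' : Subgroup G) →
      Relation.ReflTransGen (stepRel p (fam p f) D) S' T' := by
    intro A S' T' hA hDA hAS hAT
    exact conn_mono (le_inf (hDA.trans hAS) (hDA.trans hAT))
      (hIH _ (lt_of_lt_of_le hA (Subgroup.card_le_of_le (le_inf hAS hAT))) S' T'
        inf_le_left inf_le_right)
  have c1 := big _ S S₁ hS (le_inf hDS hDM) inf_le_left (hP₁.trans hS₁)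
  have c4 := big _ T₁ T hT (le_inf hDT hDM) (hQ₁.trans hT₁) inf_le_left
  obtain ⟨m, hmM, hm⟩ := hP₁syl.exists_conj hQ₁syl
  by_cases hreg : Cfsg.IsFunctorRegular p f M
  · have hrtg := rtg_M hf M hreg P₁ Q₁ hP₁syl hQ₁syl D hD1 hDP₁ hDQ₁
    have key : ∀ R, Relation.ReflTransGen (MStep p f M D) P₁ R →
        D ≤ R ∧ IsSylowOf p M R ∧ ∀ S' : Sylow p G, R ≤ (S' : Subgroup G) →
          Relation.ReflTransGen (stepRel p (fam p f) D) S₁ S' := by
      intro R hR
      induction hR with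
      | refl => exact ⟨hDP₁, hP₁syl, fun S' h => big P₁ S₁ S' hcP₁ hDP₁ hS₁ h⟩
      | @tail R₀ R₁ _ hstep ih =>
        obtain ⟨hDR₀, hR₀syl, hconn⟩ := ih
        obtain ⟨_, F, x, hF, hx, hxM, hR₁, hDR₁⟩ := hstep
        have hR₁syl : IsSylowOf p M R₁ := by
          have := hR₀syl.map_conj x
          rwa [map_conj_eq_self_of_mem_normalizer (Subgroup.le_normalizer hxM), ← hR₁] at this
        refine ⟨hDR₁, hR₁syl, ?_⟩
        intro S' hS'
        obtain ⟨S₀, hS₀⟩ := hR₀syl.2.1.exists_le_sylow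
        have c := hconn S₀ hS₀
        have q := hQM R₀ hR₀syl hDR₀ F hF x hx hxM S₀ hS₀ (hR₁ ▸ hDR₁)
        have hR₁x : R₁ ≤ ((x • S₀ : Sylow p G) : Subgroup G) := by
          rw [sylow_smul_eq_map_conj, hR₁]; exact Subgroup.map_mono hS₀
        have hcR₁ : Nat.card D < Nat.card R₁ := by
          rw [hR₁syl.card_eq, ← hP₁syl.card_eq]; exact hcP₁
        exact (c.trans q).trans (big R₁ (x • S₀) S' hcR₁ hDR₁ hR₁x hS')
    exact (c1.trans ((key Q₁ hrtg).2.2 T₁ hT₁)).trans c4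
  · have hQ₁m : Q₁ ≤ ((m • S₁ : Sylow p G) : Subgroup G) := by
      rw [sylow_smul_eq_map_conj, hm]; exact Subgroup.map_mono hS₁
    have hstep := step_singular D M hM hreg S₁ (hS₁M ▸ hP₁syl) m hmM
      (le_inf (hDQ₁.trans hQ₁m) hDM)
    have c2 : Relation.ReflTransGen (stepRel p (fam p f) D) S₁ (m • S₁) :=
      Relation.ReflTransGen.single hstep
    have c3 := big Q₁ (m • S₁) T₁ hcQ₁ hDQ₁ hQ₁m hT₁
    exact ((c1.trans c2).trans c3).trans c4

/-- conjugating by an element of `N_G(F)`, `F ∈ f(R₀)` -/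
theorem Qlem (hf : Cfsg.IsNormalizerFunctor p f)
    (hf1 : ∀ P : Subgroup G, IsPGroup p ↥P → P ≠ ⊥ → ∀ F ∈ f P, F ≠ ⊥)
    (D : Subgroup G) (hD1 : D ≠ ⊥)
    (hIH : ∀ D' : Subgroup G, Nat.card D < Nat.card D' → ∀ S T : Sylow p G,
      D' ≤ (S : Subgroup G) → D' ≤ (T : Subgroup G) →
      Relation.ReflTransGen (stepRel p (fam p f) D') S T) :
    ∀ (j : ℕ) (R₀ : Subgroup G), Nat.card R₀ + j = p ^ (Nat.card G).factorization p → D ≤ R₀ →
      Nat.card D < Nat.card R₀ → ∀ F ∈ f R₀, ∀ x ∈ Subgroup.normalizer (F : Set G),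
      ∀ S' : Sylow p G, R₀ ≤ (S' : Subgroup G) → D ≤ R₀.map (MulAut.conj x).toMonoidHom →
      Relation.ReflTransGen (stepRel p (fam p f) D) S' (x • S') := by
  intro j
  induction j using Nat.strong_induction_on with
  | _ j ih =>
  intro R₀ hj hDR₀ hcR₀ F hF x hx S' hRS' hDx
  have hR₀p : IsPGroup p R₀ := S'.2.to_le hRS'
  by_cases hRS : R₀ = S'
  · have hF' : F ∈ f (S' : Subgroup G) := hRS ▸ hF
    apply Relation.ReflTransGen.single
    apply step_functor hf D S' F hF' x hx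
    rw [sylow_smul_eq_map_conj, ← hRS]; exact hDx
  · have hlt : R₀ < (S' : Subgroup G) := lt_of_le_of_ne hRS' hRS
    obtain ⟨n, hnS, hnR, hnN⟩ := exists_mem_normalizer_not_mem hlt S'.2
    have hR₀1 : R₀ ≠ ⊥ := fun h0 => hD1 (le_bot_iff.mp (h0 ▸ hDR₀))
    have hF1 : F ≠ ⊥ := hf1 R₀ hR₀p hR₀1 F hF
    have hFle := ((hf R₀ hR₀p).1 F hF)
    have hL : Cfsg.IsPLocal p (Subgroup.normalizer (F : Set G)) :=
      ⟨F, hR₀p.to_le hFle.1, hF1, rfl⟩
    obtain ⟨M', hM', hLM'⟩ := exists_maximal_pLocal_ge _ hL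
    have hNM' : Subgroup.normalizer (R₀ : Set G) ≤ M' := hFle.2.trans hLM'
    have hR₀M' : R₀ ≤ M' := Subgroup.le_normalizer.trans hNM'
    have hxM' : x ∈ M' := hLM' hx
    have hlt' : R₀ < (S' : Subgroup G) ⊓ M' := by
      refine lt_of_le_of_ne (le_inf hRS' hR₀M') ?_
      intro h0
      apply hnR
      rw [h0]; exact ⟨hnS, hNM' hnN⟩
    have hc1 : Nat.card R₀ < Nat.card ((S' : Subgroup G) ⊓ M' : Subgroup G) :=
      card_lt_of_lt' hlt'
    apply Cl hf D hD1 hIH M' hM' ?_ S' (x • S') (hDR₀.trans hRS') ?_ (hDR₀.trans hR₀M')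
      (hcR₀.trans hc1) ?_
    · intro R hRsyl hDR F' hF' x' hx' _ S'' hRS'' hDx'
      have hcR : Nat.card R₀ < Nat.card R :=
        lt_of_lt_of_le hc1 (card_le_sylowOf hRsyl (S'.2.to_le inf_le_left) inf_le_right)
      have hRle : Nat.card R ≤ p ^ (Nat.card G).factorization p := by
        rw [← S''.card_eq_multiplicity]; exact Subgroup.card_le_of_le hRS''
      exact ih (p ^ (Nat.card G).factorization p - Nat.card R) (by omega) R (by omega) hDR
        (hcR₀.trans hcR) F' hF' x' hx' S'' hRS'' hDx'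
    · rw [sylow_smul_eq_map_conj]; exact hDx.trans (Subgroup.map_mono hRS')
    · have e : ((x • S' : Sylow p G) : Subgroup G) ⊓ M' =
          ((S' : Subgroup G) ⊓ M').map (MulAut.conj x).toMonoidHom := by
        rw [Subgroup.map_inf_eq _ _ _ (MulAut.conj x).injective,
          map_conj_eq_self_of_mem_normalizer (Subgroup.le_normalizer hxM'), sylow_smul_eq_map_conj]
      rw [e, card_map_conj]
      exact hcR₀.trans hc1

/-- main double induction -/
theorem Pmain (hf : Cfsg.IsNormalizerFunctor p f)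
    (hf1 : ∀ P : Subgroup G, IsPGroup p ↥P → P ≠ ⊥ → ∀ F ∈ f P, F ≠ ⊥) :
    ∀ (k : ℕ) (D : Subgroup G), D ≠ ⊥ → Nat.card D + k = p ^ (Nat.card G).factorization p →
      ∀ S T : Sylow p G, D ≤ (S : Subgroup G) → D ≤ (T : Subgroup G) →
      Relation.ReflTransGen (stepRel p (fam p f) D) S T := by
  intro k
  induction k using Nat.strong_induction_on with
  | _ k ih =>
  intro D hD1 hk S T hDS hDT
  have hcD1 : 1 < Nat.card D := by
    rcases Nat.lt_or_ge 1 (Nat.card D) with h | h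
    · exact h
    · exfalso
      have hpos : 0 < Nat.card D := Nat.card_pos
      have : Nat.card D = 1 := by omega
      exact hD1 (Subgroup.card_eq_one.mp this)
  have hIH : ∀ D' : Subgroup G, Nat.card D < Nat.card D' → ∀ S T : Sylow p G,
      D' ≤ (S : Subgroup G) → D' ≤ (T : Subgroup G) →
      Relation.ReflTransGen (stepRel p (fam p f) D') S T := by
    intro D' hc S' T' hS' hT'
    have hle : Nat.card D' ≤ p ^ (Nat.card G).factorization p := by
      rw [← S'.card_eq_multiplicity]; exact Subgroup.card_le_of_le hS'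
    have hD'1 : D' ≠ ⊥ := by
      intro h0
      rw [h0, Subgroup.card_bot] at hc
      omega
    exact ih (p ^ (Nat.card G).factorization p - Nat.card D') (by omega) D' hD'1 (by omega)
      S' T' hS' hT'
  by_cases hST : S = T
  · rw [hST]
  have hDinf : D ≤ (S : Subgroup G) ⊓ (T : Subgroup G) := le_inf hDS hDT
  by_cases hc : Nat.card D < Nat.card ((S : Subgroup G) ⊓ (T : Subgroup G) : Subgroup G)
  · exact conn_mono hDinf (hIH _ hc S T inf_le_left inf_le_right)
  push Not at hc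
  have hDeq : D = (S : Subgroup G) ⊓ (T : Subgroup G) := Subgroup.eq_of_le_of_card_ge hDinf hc
  have hDltS : D < (S : Subgroup G) := by
    refine lt_of_le_of_ne hDS ?_
    intro h0
    apply hST
    have hle : (S : Subgroup G) ≤ (T : Subgroup G) := by
      have : (S : Subgroup G) ⊓ (T : Subgroup G) = (S : Subgroup G) := by rw [← hDeq, h0]
      exact inf_eq_left.mp this
    exact (Sylow.ext (S.is_maximal' T.2 hle)).symm
  have hDltT : D < (T : Subgroup G) := by
    refine lt_of_le_of_ne hDT ?_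
    intro h0
    apply hST
    have hle : (T : Subgroup G) ≤ (S : Subgroup G) := by
      have : (S : Subgroup G) ⊓ (T : Subgroup G) = (T : Subgroup G) := by rw [← hDeq, h0]
      exact inf_eq_right.mp this
    exact Sylow.ext (T.is_maximal' S.2 hle)
  obtain ⟨n₁, hn₁S, hn₁D, hn₁N⟩ := exists_mem_normalizer_not_mem hDltS S.2
  obtain ⟨n₂, hn₂T, hn₂D, hn₂N⟩ := exists_mem_normalizer_not_mem hDltT T.2
  have hDp : IsPGroup p D := S.2.to_le hDS
  have hL : Cfsg.IsPLocal p (Subgroup.normalizer (D : Set G)) := ⟨D, hDp, hD1, rfl⟩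
  obtain ⟨M, hM, hLM⟩ := exists_maximal_pLocal_ge _ hL
  have hDM : D ≤ M := Subgroup.le_normalizer.trans hLM
  have hS1 : Nat.card D < Nat.card ((S : Subgroup G) ⊓ M : Subgroup G) := by
    apply card_lt_of_lt'
    refine lt_of_le_of_ne (le_inf hDS hDM) ?_
    intro h0
    apply hn₁D
    rw [h0]; exact ⟨hn₁S, hLM hn₁N⟩
  have hT1 : Nat.card D < Nat.card ((T : Subgroup G) ⊓ M : Subgroup G) := by
    apply card_lt_of_lt'
    refine lt_of_le_of_ne (le_inf hDT hDM) ?_
    intro h0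
    apply hn₂D
    rw [h0]; exact ⟨hn₂T, hLM hn₂N⟩
  apply Cl hf D hD1 hIH M hM ?_ S T hDS hDT hDM hS1 hT1
  intro R hRsyl hDR F hF x hx _ S' hRS' hDx
  have hcR : Nat.card D < Nat.card R :=
    lt_of_lt_of_le hS1 (card_le_sylowOf hRsyl (S.2.to_le inf_le_left) inf_le_right)
  have hRle : Nat.card R ≤ p ^ (Nat.card G).factorization p := by
    rw [← S'.card_eq_multiplicity]; exact Subgroup.card_le_of_le hRS'
  exact Qlem hf hf1 D hD1 hIH (p ^ (Nat.card G).factorization p - Nat.card R) R (by omega) hDR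
    hcR F hF x hx S' hRS' hDx

end helpers



/-- Let p be a prime dividing the order of the finite group G, and f an assignment to every p-subgroup P of a set f(P) of subgroups of P, each normalized by N_G(P), compatible with conjugation, such that for P ≠ 1 the members of f(P) are nontrivial. Let 𝓕 be the family of the normalizers N_G(F) of the members F of f(S) over the Sylow p-subgroups S of G, and 𝓕' the family of the maximal p-local subgroups M of G that are singular for f (the corresponding family of normalizers inside M does not control Sylow p-intersections in M). Then 𝓕 ∪ 𝓕' controls Sylow p-intersections in G. -/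
theorem result {G : Type*} [Group G] [Finite G] (p : ℕ) [Fact p.Prime] (hdiv : p ∣ Nat.card G)
    (f : Subgroup G → Set (Subgroup G)) (hf : Cfsg.IsNormalizerFunctor p f)
    (hf1 : ∀ P : Subgroup G, IsPGroup p ↥P → P ≠ ⊥ → ∀ F ∈ f P, F ≠ ⊥)
    (𝓕 𝓕' : Set (Subgroup G)) (h𝓕 : 𝓕 = Cfsg.functorFamily p f ⊤)
    (h𝓕' : 𝓕' = {M | Cfsg.IsMaximalPLocal p M ∧ ¬ Cfsg.IsFunctorRegular p f M}) :
    Cfsg.ControlsSylowIntersections p (𝓕 ∪ 𝓕') := by
  rw [h𝓕, h𝓕']
  show Cfsg.ControlsSylowIntersections p (fam p f)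
  apply controls_of_rtg
  intro S T hne hinf
  have hle : Nat.card ((S : Subgroup G) ⊓ (T : Subgroup G) : Subgroup G) ≤
      p ^ (Nat.card G).factorization p := by
    rw [← S.card_eq_multiplicity]; exact Subgroup.card_le_of_le inf_le_left
  exact Pmain hf hf1 (p ^ (Nat.card G).factorization p -
    Nat.card ((S : Subgroup G) ⊓ (T : Subgroup G) : Subgroup G)) _ hinf (by omega) S T
    inf_le_left inf_le_right


end Cfsg.Agent.S2956
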