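import Cfsg.Statements.S2958

set_option autoImplicit false
open Cfsg

namespace Cfsg.Agent.S2958

/-- Let X, A, B be subgroups of a group G such that G is generated by the conjugates of X and every conjugate of X is contained in A or in B. Then A = G or B = G. -/
theorem result {G : Type*} [Group G] (X A B : Subgroup G) (hgen : (⨆ g : G, X.map (MulAut.conj g).toMonoidHom) = ⊤) (hcover : ∀ g : G, X.map (MulAut.conj g).toMonoidHom ≤ A ∨ X.map (MulAut.conj g).toMonoidHom ≤ B) : A = ⊤ ∨ B = ⊤ := by
  by_cases hB : ∀ g : G, X.map (MulAut.conj g).toMonoidHom ≤ B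
  · right
    rw [eq_top_iff, ← hgen]
    exact iSup_le hB
  · left
    push Not at hB
    obtain ⟨k0, hk0⟩ := hB
    -- N = join of the conjugates not inside B
    set N : Subgroup G := ⨆ k : {k : G // ¬ X.map (MulAut.conj k).toMonoidHom ≤ B},
      X.map (MulAut.conj (k : G)).toMonoidHom with hN
    have hNA : N ≤ A := by
      refine iSup_le ?_
      rintro ⟨k, hk⟩
      rcases hcover k with h | h
      · exact h
      · exact absurd h hk
    -- conjugating a conjugate
    have hconj : ∀ (b k : G), (X.map (MulAut.conj k).toMonoidHom).map (MulAut.conj b).toMonoidHom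
        = X.map (MulAut.conj (b * k)).toMonoidHom := by
      intro b k
      rw [Subgroup.map_map]
      congr 1
      ext x
      simp [MulAut.conj_apply, mul_assoc]
    -- B normalizes N
    have hBN : ∀ b ∈ B, N.map (MulAut.conj b).toMonoidHom ≤ N := by
      intro b hb
      rw [hN, Subgroup.map_iSup]
      refine iSup_le ?_
      rintro ⟨k, hk⟩
      rw [hconj]
      have hbk : ¬ X.map (MulAut.conj (b * k)).toMonoidHom ≤ B := by
        intro hle
        apply hk
        intro y hy
        obtain ⟨x, hx, rfl⟩ := hy
        have h1 : (MulAut.conj (b * k)).toMonoidHom x ∈ B := hle ⟨x, hx, rfl⟩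
        have h2 : b⁻¹ * ((MulAut.conj (b * k)).toMonoidHom x) * b ∈ B :=
          B.mul_mem (B.mul_mem (B.inv_mem hb) h1) hb
        have h3 : b⁻¹ * ((MulAut.conj (b * k)).toMonoidHom x) * b = (MulAut.conj k).toMonoidHom x := by
          simp [MulAut.conj_apply, mul_assoc]
        rw [h3] at h2
        exact h2
      exact le_iSup (fun k : {k : G // ¬ X.map (MulAut.conj k).toMonoidHom ≤ B} =>
        X.map (MulAut.conj (k : G)).toMonoidHom) ⟨b * k, hbk⟩
    -- every conjugate normalizes N
    have hnorm : ∀ g : G, X.map (MulAut.conj g).toMonoidHom ≤ Subgroup.normalizer (N : Set G) := by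
      intro g
      by_cases hg : X.map (MulAut.conj g).toMonoidHom ≤ B
      · intro y hy
        have hyB : y ∈ B := hg hy
        rw [Subgroup.mem_normalizer_iff]
        intro n
        constructor
        · intro hn
          exact hBN y hyB ⟨n, hn, rfl⟩
        · intro hn
          have := hBN y⁻¹ (B.inv_mem hyB) ⟨y * n * y⁻¹, hn, rfl⟩
          simpa [MulAut.conj_apply, mul_assoc] using this
      · have : X.map (MulAut.conj g).toMonoidHom ≤ N :=
          le_iSup (fun k : {k : G // ¬ X.map (MulAut.conj k).toMonoidHom ≤ B} =>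
            X.map (MulAut.conj (k : G)).toMonoidHom) ⟨g, hg⟩
        exact this.trans Subgroup.le_normalizer
    have hNnormal : Subgroup.normalizer (N : Set G) = ⊤ := by
      rw [eq_top_iff, ← hgen]
      exact iSup_le hnorm
    have hNn : N.Normal := Subgroup.normalizer_eq_top_iff.mp hNnormal
    -- N contains one conjugate, hence all
    have hk0N : X.map (MulAut.conj k0).toMonoidHom ≤ N :=
      le_iSup (fun k : {k : G // ¬ X.map (MulAut.conj k).toMonoidHom ≤ B} =>
            X.map (MulAut.conj (k : G)).toMonoidHom) ⟨k0, hk0⟩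
    have hall : ∀ g : G, X.map (MulAut.conj g).toMonoidHom ≤ N := by
      intro g y hy
      obtain ⟨x, hx, rfl⟩ := hy
      have h1 : (MulAut.conj k0).toMonoidHom x ∈ N := hk0N ⟨x, hx, rfl⟩
      have h2 := hNn.conj_mem _ h1 (g * k0⁻¹)
      have h3 : g * k0⁻¹ * (MulAut.conj k0).toMonoidHom x * (g * k0⁻¹)⁻¹ = (MulAut.conj g).toMonoidHom x := by
        simp [MulAut.conj_apply, mul_assoc]
      rw [h3] at h2
      exact h2
    rw [eq_top_iff, ← hgen]
    exact (iSup_le hall).trans hNA

end Cfsg.Agent.S2958
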