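import Mathlib
import Cfsg.Agent.Lib.Helper6.PCore
import Cfsg.Agent.Lib.Helper6.Conj2
import Cfsg.Agent.S0028
import Cfsg.Statements.S2960

set_option autoImplicit false
open Cfsg Cfsg.Agent.Lib.Helper6
open scoped commutatorElement

namespace Cfsg.Agent.S2960

/-- Let G be a finite group of characteristic p (C_G(O_p(G)) ≤ O_p(G)), p prime, T a Sylow p-subgroup of G and Q a normal subgroup of T with C_T(Q) ≤ Q. Then C_G(Q) ≤ Q. -/
theorem result {G : Type*} [Group G] [Finite G] {p : ℕ} [Fact p.Prime] (hG : Subgroup.centralizer (Cfsg.pCore p G : Set G) ≤ Cfsg.pCore p G) (T : Sylow p G) (Q : Subgroup G) (hQT : Q ≤ (T : Subgroup G)) (hQn : (T : Subgroup G) ≤ Subgroup.normalizer (Q : Set G)) (hC : (T : Subgroup G) ⊓ Subgroup.centralizer (Q : Set G) ≤ Q) : Subgroup.centralizer (Q : Set G) ≤ Q := by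
  have hp : p.Prime := Fact.out
  have hRn : (Cfsg.pCore p G).Normal := inferInstance
  have hRp : IsPGroup p (Cfsg.pCore p G) := pCore_isPGroup p
  have hRT : Cfsg.pCore p G ≤ (T : Subgroup G) := pCore_le_sylow T
  have hQp : IsPGroup p Q := T.isPGroup'.to_le hQT
  -- p'-elements of C(Q) are trivial
  have hpprime : ∀ x ∈ Subgroup.centralizer (Q : Set G), (orderOf x).Coprime p → x = 1 := by
    intro x hx hcop
    have hcard : (Nat.card (Subgroup.zpowers x)).Coprime p := by rwa [Nat.card_zpowers]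
    have hPQ : Q ≤ Subgroup.centralizer ((Subgroup.zpowers x : Subgroup G) : Set G) := by
      rw [Subgroup.le_centralizer_iff]
      exact Subgroup.zpowers_le.mpr hx
    have hPU : Q ≤ Subgroup.normalizer (Cfsg.pCore p G : Set G) := by
      rw [Subgroup.normalizer_eq_top]; exact le_top
    have hQU : Subgroup.zpowers x ≤ Subgroup.normalizer (Cfsg.pCore p G : Set G) := by
      rw [Subgroup.normalizer_eq_top]; exact le_top
    have hCC : Cfsg.pCore p G ⊓ Subgroup.centralizer (Q : Set G) ≤
        Subgroup.centralizer ((Subgroup.zpowers x : Subgroup G) : Set G) := by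
      refine le_trans ?_ hPQ
      exact (inf_le_inf_right _ hRT).trans hC
    have h1 := Cfsg.Agent.S0028.result p Q (Subgroup.zpowers x) (Cfsg.pCore p G) hQp hcard hRp hPQ hPU hQU hCC
    have h2 : x ∈ Cfsg.pCore p G := hG (h1 (Subgroup.mem_zpowers x))
    obtain ⟨k, hk⟩ := (IsPGroup.iff_orderOf.mp hRp) ⟨x, h2⟩
    have hk' : orderOf x = p ^ k := by
      rw [← hk]; exact (Subgroup.orderOf_mk x h2).symm
    rw [hk'] at hcop
    rcases Nat.eq_zero_or_pos k with h0 | h0
    · rw [h0, pow_zero] at hk'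
      exact orderOf_eq_one_iff.mp hk'
    · exfalso
      have := (Nat.coprime_pow_left_iff h0 p p).mp hcop
      rw [Nat.coprime_self] at this
      exact hp.one_lt.ne' this
  -- C(Q) is a p-group
  have hCp : IsPGroup p (Subgroup.centralizer (Q : Set G)) := by
    rintro ⟨y, hy⟩
    have hn : orderOf y ≠ 0 := (orderOf_pos y).ne'
    obtain ⟨a, m, hm, hnm⟩ := Nat.exists_eq_pow_mul_and_not_dvd hn p hp.ne_one
    refine ⟨a, ?_⟩
    apply Subtype.ext
    show y ^ p ^ a = 1
    apply hpprime _ (Subgroup.pow_mem _ hy _)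
    have hdvd : orderOf (y ^ p ^ a) ∣ m := by
      apply orderOf_dvd_of_pow_eq_one
      rw [← pow_mul, ← hnm, pow_orderOf_eq_one]
    have hmcop : m.Coprime p := by
      rw [Nat.coprime_comm]
      exact (Nat.Prime.coprime_iff_not_dvd hp).mpr hm
    exact Nat.Coprime.coprime_dvd_left hdvd hmcop
  -- T normalizes C(Q)
  have hTC : (T : Subgroup G) ≤ Subgroup.normalizer ((Subgroup.centralizer (Q : Set G) : Subgroup G) : Set G) := by
    intro t ht
    have htQ := hQn ht
    apply mem_normalizer_of_forall_conj_mem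
    intro c hc
    rw [Subgroup.mem_centralizer_iff] at hc ⊢
    intro q hq
    have hq' : t⁻¹ * q * t ∈ Q := by
      have := (Subgroup.mem_normalizer_iff.mp (inv_mem htQ) q).mp hq
      simpa using this
    have := hc _ hq'
    calc q * (t * c * t⁻¹) = t * ((t⁻¹ * q * t) * c) * t⁻¹ := by group
      _ = t * (c * (t⁻¹ * q * t)) * t⁻¹ := by rw [this]
      _ = t * c * t⁻¹ * q := by group
  have hsup : IsPGroup p ((T : Subgroup G) ⊔ Subgroup.centralizer (Q : Set G) : Subgroup G) :=
    IsPGroup.to_sup_of_normal_right' T.isPGroup' hCp hTC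
  have hEq := T.is_maximal' hsup le_sup_left
  have hCT : Subgroup.centralizer (Q : Set G) ≤ (T : Subgroup G) := by
    rw [← hEq]; exact le_sup_right
  exact (le_inf hCT le_rfl).trans hC

end Cfsg.Agent.S2960
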