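import Mathlib
import Cfsg.Statements.S2963

set_option autoImplicit false
open Cfsg
open scoped commutatorElement

namespace Cfsg.Agent.S2963

/-- Let n be odd. If the symmetric group of degree n is a minimal parabolic group for the prime 2, that is, a Sylow 2-subgroup is not normal and lies in exactly one maximal subgroup, then n = 2^m + 1 for some natural number m. -/
theorem result (n : ℕ) (hn : Odd n) (h : Cfsg.IsPMinimal 2 (Equiv.Perm (Fin n))) : ∃ m : ℕ, n = 2 ^ m + 1 := by
  classical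
  haveI : Fact (Nat.Prime 2) := ⟨Nat.prime_two⟩
  let S : Sylow 2 (Equiv.Perm (Fin n)) := Sylow.nonempty.some
  obtain ⟨hnn, M, ⟨hM, hSM⟩, huniq⟩ := h S
  -- a fixed point of S
  have hnd : ¬ 2 ∣ Nat.card (Fin n) := by
    rw [Nat.card_eq_fintype_card, Fintype.card_fin]
    intro h2
    obtain ⟨j, hj⟩ := hn
    omega
  obtain ⟨x₀, hx₀⟩ := S.isPGroup'.nonempty_fixed_point_of_prime_not_dvd_card (Fin n) hnd
  rw [MulAction.mem_fixedPoints] at hx₀
  have hx₀' : ∀ s ∈ (S : Subgroup (Equiv.Perm (Fin n))), s x₀ = x₀ := fun s hs => hx₀ ⟨s, hs⟩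
  -- S moves some point
  obtain ⟨y, s₀, hs₀S, hs₀y⟩ : ∃ (y : Fin n) (s : Equiv.Perm (Fin n)),
      s ∈ (S : Subgroup (Equiv.Perm (Fin n))) ∧ s y ≠ y := by
    by_contra hall
    push Not at hall
    apply hnn
    have hbot : (S : Subgroup (Equiv.Perm (Fin n))) = ⊥ := by
      rw [eq_bot_iff]
      intro s hs
      rw [Subgroup.mem_bot]
      ext z
      rw [hall z s hs]; rfl
    rw [hbot]
    infer_instance
  have hyx₀ : y ≠ x₀ := by
    intro h
    rw [h] at hs₀y
    exact hs₀y (hx₀' s₀ hs₀S)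
  have hn2 : 2 ≤ n := by
    by_contra hlt
    push Not at hlt
    have h1 := y.2
    have h2 := x₀.2
    apply hyx₀
    apply Fin.ext
    omega
  haveI : Nontrivial (Fin n) := Fin.nontrivial_iff_two_le.mpr hn2
  -- the point stabilizer is the unique maximal subgroup over S
  have hA : IsCoatom (MulAction.stabilizer (Equiv.Perm (Fin n)) x₀) :=
    MulAction.IsPreprimitive.isCoatom_stabilizer_of_isPreprimitive (G := Equiv.Perm (Fin n)) (X := Fin n) x₀
  have hSA : (S : Subgroup (Equiv.Perm (Fin n))) ≤ MulAction.stabilizer (Equiv.Perm (Fin n)) x₀ := by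
    intro s hs
    rw [MulAction.mem_stabilizer_iff]
    exact hx₀' s hs
  have hAM : MulAction.stabilizer (Equiv.Perm (Fin n)) x₀ = M := huniq _ ⟨hA, hSA⟩
  -- the orbit of y
  set O : Set (Fin n) := MulAction.orbit (S : Subgroup (Equiv.Perm (Fin n))) y with hO
  have hyO : y ∈ O := MulAction.mem_orbit_self y
  have hx₀O : x₀ ∉ O := by
    intro h
    obtain ⟨s, hs⟩ := MulAction.mem_orbit_iff.mp h
    have h1 : (s : Equiv.Perm (Fin n)) y = x₀ := hs
    have h2 : (s : Equiv.Perm (Fin n)) x₀ = x₀ := hx₀' s s.2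
    apply hyx₀
    exact (s : Equiv.Perm (Fin n)).injective (h1.trans h2.symm)
  have hSO : ∀ s ∈ (S : Subgroup (Equiv.Perm (Fin n))), ∀ a, a ∈ O ↔ s a ∈ O := by
    intro s hs a
    constructor
    · intro ha
      obtain ⟨t, ht⟩ := MulAction.mem_orbit_iff.mp ha
      rw [← ht]
      exact MulAction.mem_orbit_iff.mpr ⟨⟨s, hs⟩ * t, by rw [mul_smul]; rfl⟩
    · intro ha
      obtain ⟨t, ht⟩ := MulAction.mem_orbit_iff.mp ha
      refine MulAction.mem_orbit_iff.mpr ⟨⟨s, hs⟩⁻¹ * t, ?_⟩
      rw [mul_smul, ht]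
      show (s⁻¹ : Equiv.Perm (Fin n)) (s a) = a
      simp
  -- the setwise stabilizer of the orbit
  let Y : Subgroup (Equiv.Perm (Fin n)) :=
    { carrier := {g | ∀ a, a ∈ O ↔ g a ∈ O}
      one_mem' := fun a => Iff.rfl
      mul_mem' := by
        intro g h hg hh a
        rw [Equiv.Perm.mul_apply, ← hg, ← hh]
      inv_mem' := by
        intro g hg a
        have := hg (g⁻¹ a)
        rw [this]
        simp }
  have hYmem : ∀ g, g ∈ Y ↔ ∀ a, a ∈ O ↔ g a ∈ O := fun g => Iff.rfl
  have hSY : (S : Subgroup (Equiv.Perm (Fin n))) ≤ Y := fun s hs => (hYmem s).mpr (hSO s hs)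
  have hYtop : Y ≠ ⊤ := by
    intro h
    have : Equiv.swap x₀ y ∈ Y := by rw [h]; trivial
    have h1 := ((hYmem _).mp this y).mp hyO
    rw [Equiv.swap_apply_right] at h1
    exact hx₀O h1
  obtain ⟨M', hM', hYM'⟩ := (eq_top_or_exists_le_coatom Y).resolve_left hYtop
  have hM'M : M' = M := huniq _ ⟨hM', hSY.trans hYM'⟩
  have hYA : Y ≤ MulAction.stabilizer (Equiv.Perm (Fin n)) x₀ := by
    rw [hAM, ← hM'M]; exact hYM'
  -- every point other than x₀ lies in the orbit
  have hall : ∀ z, z ≠ x₀ → z ∈ O := by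
    intro z hz
    by_contra hzO
    have hsw : Equiv.swap x₀ z ∈ Y := by
      rw [hYmem]
      intro a
      by_cases ha : a ∈ O
      · have h1 : a ≠ x₀ := fun h => hx₀O (h ▸ ha)
        have h2 : a ≠ z := fun h => hzO (h ▸ ha)
        rw [Equiv.swap_apply_of_ne_of_ne h1 h2]
      · constructor
        · intro h; exact absurd h ha
        · intro h
          exfalso
          by_cases h1 : a = x₀
          · rw [h1, Equiv.swap_apply_left] at h; exact hzO h
          · by_cases h2 : a = z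
            · rw [h2, Equiv.swap_apply_right] at h; exact hx₀O h
            · rw [Equiv.swap_apply_of_ne_of_ne h1 h2] at h; exact ha h
    have := hYA hsw
    rw [MulAction.mem_stabilizer_iff] at this
    have h3 : Equiv.swap x₀ z x₀ = x₀ := this
    rw [Equiv.swap_apply_left] at h3
    exact hz h3
  have hOeq : O = {z | z ≠ x₀} := by
    ext z
    constructor
    · intro hz h; exact hx₀O (h ▸ hz)
    · intro hz; exact hall z hz
  obtain ⟨m, hm⟩ := S.isPGroup'.card_orbit y
  refine ⟨m, ?_⟩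
  have hcard : Nat.card O = n - 1 := by
    rw [hOeq]
    show Nat.card {z : Fin n // z ≠ x₀} = n - 1
    rw [Nat.card_eq_fintype_card, Fintype.card_subtype_compl, Fintype.card_subtype_eq, Fintype.card_fin]
  rw [← hO, hcard] at hm
  omega

end Cfsg.Agent.S2963
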