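import Mathlib
import Cfsg.Agent.Lib.Helper6.Isolated
import Cfsg.Statements.S2968

set_option autoImplicit false
open Cfsg Cfsg.Agent.Lib.Helper6
open scoped commutatorElement

namespace Cfsg.Agent.S2968

/-- Let G be a finite group, p a prime, P a Sylow p-subgroup of G and x ∈ P an element of p-power order which is isolated in G (the only conjugate of x commuting with x is x itself). Then x lies in the centre of P, and the subgroup generated by x is both strongly closed and weakly closed in P with respect to G. -/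
theorem result {G : Type*} [Group G] [Finite G] {p : ℕ} [Fact p.Prime] (P : Sylow p G) (x : G) (hxP : x ∈ (P : Subgroup G)) (hx : ∃ k : ℕ, orderOf x = p ^ k) (hiso : Cfsg.IsIsolated x) : x ∈ (P : Subgroup G) ⊓ Subgroup.centralizer ((P : Subgroup G) : Set G) ∧ Cfsg.IsStronglyClosed (Subgroup.zpowers x) (P : Subgroup G) ∧ Cfsg.IsWeaklyClosed (Subgroup.zpowers x) (P : Subgroup G) := by
  have hPp : IsPGroup p (P : Subgroup G) := P.isPGroup'
  have hcent := isolated_central_in_pGroup (P : Subgroup G) hPp x hxP hiso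
  have hzle : Subgroup.zpowers x ≤ (P : Subgroup G) := by
    rw [Subgroup.zpowers_le]; exact hxP
  have key : ∀ y ∈ Subgroup.zpowers x, ∀ g : G, g * y * g⁻¹ ∈ (P : Subgroup G) → g * y * g⁻¹ = y := by
    intro y hy g hg
    rw [← mem_powers_iff_mem_zpowers, Submonoid.mem_powers_iff] at hy
    obtain ⟨k, rfl⟩ := hy
    exact isolated_conj_pow_eq (P : Subgroup G) hPp x hxP hx hiso g k hg
  refine ⟨Subgroup.mem_inf.mpr ⟨hxP, ?_⟩, ⟨hzle, ?_⟩, ⟨hzle, ?_⟩⟩
  · rw [Subgroup.mem_centralizer_iff]
    intro r hr
    exact hcent r hr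
  · intro y hy g hg
    rw [key y hy g hg]; exact hy
  · intro g hg
    have h1 : g * x * g⁻¹ ∈ (P : Subgroup G) :=
      hg ⟨x, Subgroup.mem_zpowers x, by simp [MulAut.conj_apply]⟩
    have h2 := key x (Subgroup.mem_zpowers x) g h1
    rw [MonoidHom.map_zpowers]
    congr 1

end Cfsg.Agent.S2968
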