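import Mathlib
import Cfsg.Agent.S2970
import Cfsg.Agent.Lib.Helper6.RankOneCyc
import Cfsg.Agent.Lib.Helper6.PPrimeCore
import Cfsg.Statements.S2971

set_option autoImplicit false
open Cfsg
open scoped commutatorElement

namespace Cfsg.Agent.S2971

/-- Let G be a finite group and p an odd prime such that G has p-rank at most 1 (no elementary abelian subgroup of order p²). If x ∈ G is an isolated element of order p, then x is central modulo the largest normal subgroup of G of order prime to p. -/
theorem result {G : Type*} [Group G] [Finite G] {p : ℕ} [Fact p.Prime] (hp : p ≠ 2) (hrk : Cfsg.PRankLE p 1 G) (x : G) (hx : orderOf x = p) (hiso : Cfsg.IsIsolated x) : Cfsg.InZStar p x := by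
  classical
  have hx1 : x ≠ 1 := by
    intro h; rw [h, orderOf_one] at hx
    exact (Fact.out : p.Prime).ne_one hx.symm
  have hcyc : ∀ P : Sylow p G, IsCyclic ↥(P : Subgroup G) :=
    fun P => Cfsg.Agent.Lib.Helper6.isCyclic_sylow_of_pRankLE_one hp hrk P
  obtain ⟨P, N, hNn, hcompl⟩ :=
    (Cfsg.Agent.S2970.result x ⟨1, by rw [hx, pow_one]⟩ hiso).2 hx1 hcyc
  haveI := hNn
  have hNcop : (Nat.card N).Coprime p := by
    have h1 : (P : Subgroup G).index = Nat.card N := hcompl.index_eq_card
    rw [← h1]
    exact ((Fact.out : p.Prime).coprime_iff_not_dvd.mpr P.not_dvd_index).symm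
  have hNle : N ≤ Cfsg.pPrimeCore p G := Cfsg.Agent.Lib.Helper6.le_pPrimeCore hNn hNcop
  haveI : IsCyclic ↥(P : Subgroup G) := hcyc P
  have hPc : IsMulCommutative ↥(P : Subgroup G) := inferInstance
  have hcomm : commutator G ≤ N :=
    Subgroup.Normal.commutator_le_of_self_sup_commutative_eq_top hcompl.sup_eq_top hPc
  intro g
  apply hNle
  apply hcomm
  rw [commutator_def]
  have : g * x * g⁻¹ * x⁻¹ = ⁅g, x⁆ := by rw [commutatorElement_def]
  rw [this]
  exact Subgroup.commutator_mem_commutator (Subgroup.mem_top g) (Subgroup.mem_top x)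

end Cfsg.Agent.S2971
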