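import Mathlib
import Cfsg.Agent.Lib.Helper3.PComp1
import Cfsg.Agent.Lib.Helper6.Isolated
import Cfsg.Agent.Lib.Helper6.ParChar2
import Cfsg.Statements.S2972

set_option autoImplicit false
open Cfsg

namespace Cfsg.Agent.S2972

open Cfsg.Agent.Lib.Helper6 Cfsg.Agent.Lib.Helper3
open scoped Pointwise commutatorElement

variable {G : Type*} [Group G] [Finite G] {p : ℕ} [Fact p.Prime]

/-- (a) `O_{p'}(G) = 1` -/
theorem core_eq_bot (x : G) (hnz : ¬ InZStar p x)
    (hquot : ∀ (N : Subgroup G) [N.Normal], N ≠ ⊥ → InZStar p (QuotientGroup.mk x : G ⧸ N)) :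
    pPrimeCore p G = ⊥ := by
  by_contra hne
  have h := hquot (pPrimeCore p G) hne
  apply hnz
  intro g
  have h1 := h (QuotientGroup.mk g)
  rw [pPrimeCore_quotient_eq_bot, Subgroup.mem_bot] at h1
  have h2 : ((g * x * g⁻¹ * x⁻¹ : G) : G ⧸ pPrimeCore p G) = 1 := by simpa using h1
  have h3 := (QuotientGroup.eq_one_iff _).mp h2
  exact h3

/-- a proper subnormal subgroup containing `x` centralizes `x` -/
theorem central_of_subnormal (x : G)
    (hmin : ∀ (H : Subgroup G) (hxH : x ∈ H), H ≠ ⊤ → InZStar p (⟨x, hxH⟩ : ↥H))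
    (hcore : pPrimeCore p G = ⊥) (H : Subgroup G) (hH : H.IsSubnormal) (hxH : x ∈ H)
    (hne : H ≠ ⊤) : ∀ h ∈ H, h * x = x * h := by
  intro h hh
  have h1 := hmin H hxH hne ⟨h, hh⟩
  have h2 : H.subtype (⟨h, hh⟩ * ⟨x, hxH⟩ * ⟨h, hh⟩⁻¹ * ⟨x, hxH⟩⁻¹) ∈ pPrimeCore p G :=
    pPrimeCore_map_subtype_le_of_isSubnormal hH ⟨_, h1, rfl⟩
  rw [hcore, Subgroup.mem_bot] at h2
  have h3 : h * x * h⁻¹ * x⁻¹ = 1 := by simpa using h2
  calc h * x = (h * x * h⁻¹ * x⁻¹) * (x * h) := by group
    _ = x * h := by rw [h3, one_mul]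

/-- (★) a normal subgroup containing `x` is everything -/
theorem normal_eq_top (x : G) (hiso : IsIsolated x) (hnz : ¬ InZStar p x)
    (hmin : ∀ (H : Subgroup G) (hxH : x ∈ H), H ≠ ⊤ → InZStar p (⟨x, hxH⟩ : ↥H))
    (hcore : pPrimeCore p G = ⊥) (H : Subgroup G) (hHn : H.Normal) (hxH : x ∈ H) : H = ⊤ := by
  by_contra hne
  have hc := central_of_subnormal x hmin hcore H hHn.isSubnormal hxH hne
  apply hnz
  intro g
  have h1 : g * x * g⁻¹ ∈ H := hHn.conj_mem x hxH g
  have h2 := hc _ h1
  have h3 := hiso g h2.symm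
  rw [h3, mul_inv_cancel]
  exact one_mem _

/-- an abelian subnormal subgroup of a group with trivial `O_{p'}` is a `p`-group -/
theorem isPGroup_of_abelian (hcore : pPrimeCore p G = ⊥) (A : Subgroup G) (hA : A.IsSubnormal)
    (hab : ∀ a ∈ A, ∀ b ∈ A, a * b = b * a) : IsPGroup p A := by
  have hcard : Nat.card A = p ^ (Nat.card A).primeFactorsList.length := by
    apply Nat.eq_prime_pow_of_unique_prime_dvd Nat.card_pos.ne'
    intro q hq hqd
    by_contra hqp
    haveI : Fact q.Prime := ⟨hq⟩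
    obtain ⟨a, ha⟩ := exists_prime_orderOf_dvd_card' q hqd
    have ha' : orderOf (a : G) = q := by rw [Subgroup.orderOf_coe, ha]
    have hle : Subgroup.zpowers (a : G) ≤ A := by
      rw [Subgroup.zpowers_le]; exact a.2
    have hn : ((Subgroup.zpowers (a : G)).subgroupOf A).Normal := by
      constructor
      intro n hn g
      have : g * n * g⁻¹ = n := by
        apply Subtype.ext
        have := hab g g.2 n n.2
        simp only [Subgroup.coe_mul, Subgroup.coe_inv]
        rw [this, mul_assoc, mul_inv_cancel, mul_one]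
      rw [this]; exact hn
    have hsub : (Subgroup.zpowers (a : G)).IsSubnormal :=
      Subgroup.IsSubnormal.step _ A hle hA hn
    have hcop : (Nat.card (Subgroup.zpowers (a : G))).Coprime p := by
      rw [Nat.card_zpowers, ha']
      exact (Nat.coprime_primes hq (Fact.out : p.Prime)).mpr hqp
    have h1 := le_pPrimeCore_of_isSubnormal hsub hcop
    rw [hcore] at h1
    have h2 : (a : G) = 1 := by
      have := h1 (Subgroup.mem_zpowers (a : G))
      rwa [Subgroup.mem_bot] at this
    rw [h2, orderOf_one] at ha'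
    exact hq.one_lt.ne ha'
  exact IsPGroup.of_card hcard

/-- Lemma B: with `O_{p'}(G) = 1`, also `O_{p'}(G/Z(G)) = 1` -/
theorem core_quot_center (hcore : pPrimeCore p G = ⊥) :
    pPrimeCore p (G ⧸ Subgroup.center G) = ⊥ := by
  set Zc := Subgroup.center G with hZc
  have hZp : IsPGroup p Zc := by
    apply isPGroup_of_abelian hcore Zc (Subgroup.Normal.isSubnormal inferInstance)
    intro a _ b hb
    exact (Subgroup.mem_center_iff.mp hb a)
  set L : Subgroup G := (pPrimeCore p (G ⧸ Zc)).comap (QuotientGroup.mk' Zc) with hL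
  have hLn : L.Normal := Subgroup.Normal.comap (pPrimeCore_mem_set p).1 _
  have hZL : Zc ≤ L := by
    intro z hz
    rw [hL, Subgroup.mem_comap]
    have : QuotientGroup.mk' Zc z = 1 := (QuotientGroup.eq_one_iff z).mpr hz
    rw [this]; exact one_mem _
  have hcardL : Nat.card L = Nat.card Zc * Nat.card (pPrimeCore p (G ⧸ Zc)) := card_comap_mk' Zc _
  have hP0 : IsPGroup p (Zc.subgroupOf L) := hZp.comap_subtype
  have hidx : (Zc.subgroupOf L).index = Nat.card (pPrimeCore p (G ⧸ Zc)) := by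
    have h1 := Subgroup.card_mul_index (Zc.subgroupOf L)
    rw [Nat.card_congr (Subgroup.subgroupOfEquivOfLe hZL).toEquiv, hcardL] at h1
    exact Nat.eq_of_mul_eq_mul_left Nat.card_pos h1
  have hcop : ((Zc.subgroupOf L).index).Coprime p := by
    rw [hidx]; exact pPrimeCore_coprime p
  have hnd : ¬ p ∣ (Zc.subgroupOf L).index := by
    intro hd
    have := Nat.Coprime.eq_one_of_dvd hcop.symm hd
    exact (Fact.out : p.Prime).one_lt.ne' this
  set P : Sylow p L := hP0.toSylow hnd with hP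
  have hPc : (P : Subgroup L) = Zc.subgroupOf L := IsPGroup.toSylow_coe hP0 hnd
  have hPN : Subgroup.normalizer ((P : Subgroup L) : Set L) ≤ Subgroup.centralizer ((P : Subgroup L) : Set L) := by
    intro g _
    rw [Subgroup.mem_centralizer_iff]
    intro z hz
    have hz' : z ∈ Zc.subgroupOf L := by rw [← hPc]; exact hz
    rw [Subgroup.mem_subgroupOf] at hz'
    apply Subtype.ext
    simp only [Subgroup.coe_mul]
    exact (Subgroup.mem_center_iff.mp hz' (g : G)).symm
  have hK := MonoidHom.ker_transferSylow_isComplement' P hPN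
  set K : Subgroup L := (MonoidHom.transferSylow P hPN).ker with hKdef
  have hKcard : Nat.card K = (Zc.subgroupOf L).index := by
    rw [← hPc]; exact hK.index_eq_card.symm
  have hKcore : K ≤ pPrimeCore p L := le_pPrimeCore inferInstance (by rw [hKcard]; exact hcop)
  have hKbot : K = ⊥ := by
    rw [Subgroup.eq_bot_iff_forall]
    intro k hk
    have h1 : L.subtype k ∈ pPrimeCore p G :=
      pPrimeCore_map_subtype_le_of_isSubnormal hLn.isSubnormal ⟨k, hKcore hk, rfl⟩
    rw [hcore, Subgroup.mem_bot] at h1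
    exact Subtype.ext h1
  rw [hKbot, Subgroup.isComplement'_bot_left] at hK
  rw [Subgroup.eq_bot_iff_forall]
  intro y hy
  obtain ⟨g, rfl⟩ := QuotientGroup.mk'_surjective Zc y
  have hgL : g ∈ L := by rw [hL, Subgroup.mem_comap]; exact hy
  have h1 : (⟨g, hgL⟩ : L) ∈ (P : Subgroup L) := by rw [hK]; exact Subgroup.mem_top _
  rw [hPc, Subgroup.mem_subgroupOf] at h1
  exact (QuotientGroup.eq_one_iff g).mpr h1

/-- (Z) `Z(G) = 1` -/
theorem center_eq_bot (x : G) (hiso : IsIsolated x) (hnz : ¬ InZStar p x)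
    (hquot : ∀ (N : Subgroup G) [N.Normal], N ≠ ⊥ → InZStar p (QuotientGroup.mk x : G ⧸ N))
    (hcore : pPrimeCore p G = ⊥) : Subgroup.center G = ⊥ := by
  by_contra hne
  have h := hquot (Subgroup.center G) hne
  apply hnz
  intro g
  have h1 := h (QuotientGroup.mk g)
  rw [core_quot_center hcore, Subgroup.mem_bot] at h1
  have h2 : ((g * x * g⁻¹ * x⁻¹ : G) : G ⧸ Subgroup.center G) = 1 := by simpa using h1
  have h3 : g * x * g⁻¹ * x⁻¹ ∈ Subgroup.center G := (QuotientGroup.eq_one_iff _).mp h2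
  have h4 : Commute x (g * x * g⁻¹) := by
    show x * (g * x * g⁻¹) = g * x * g⁻¹ * x
    have e : g * x * g⁻¹ = (g * x * g⁻¹ * x⁻¹) * x := by group
    have hc := Subgroup.mem_center_iff.mp h3 x
    rw [e, ← mul_assoc, hc]
  rw [hiso g h4, mul_inv_cancel]
  exact one_mem _

section minimalNormal

variable (x : G) (hx : orderOf x = p) (hiso : IsIsolated x) (hnz : ¬ InZStar p x)
    (hmin : ∀ (H : Subgroup G) (hxH : x ∈ H), H ≠ ⊤ → InZStar p (⟨x, hxH⟩ : ↥H))
    (hcore : pPrimeCore p G = ⊥) (hcen : Subgroup.center G = ⊥)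
    (M : Subgroup G) (hMn : M.Normal) (hMne : M ≠ ⊥)
    (hMmin : ∀ N : Subgroup G, N.Normal → N ≠ ⊥ → N ≤ M → N = M)

include hiso hnz hmin hcore hcen hMn hMne in
theorem not_mem_centralizer : x ∉ Subgroup.centralizer (M : Set G) := by
  intro hxc
  haveI := hMn
  have h1 := normal_eq_top x hiso hnz hmin hcore (Subgroup.centralizer (M : Set G))
    Subgroup.normal_centralizer hxc
  apply hMne
  rw [eq_bot_iff, ← hcen]
  intro m hm
  rw [Subgroup.mem_center_iff]
  intro g
  have hg : g ∈ Subgroup.centralizer (M : Set G) := by rw [h1]; trivial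
  exact (Subgroup.mem_centralizer_iff.mp hg m hm).symm

include hiso hnz hmin hcore hcen hMn hMne in
theorem sup_eq_top : M ⊔ Subgroup.zpowers x = ⊤ := by
  by_contra hne
  set H := M ⊔ Subgroup.zpowers x with hH
  have hxH : x ∈ H := (le_sup_right : Subgroup.zpowers x ≤ H) (Subgroup.mem_zpowers x)
  have h := hmin H hxH hne
  apply not_mem_centralizer x hiso hnz hmin hcore hcen M hMn hMne
  rw [Subgroup.mem_centralizer_iff]
  intro m hm
  have hmH : m ∈ H := (le_sup_left : M ≤ H) hm
  have h1 := h ⟨m, hmH⟩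
  set D0 : Subgroup G := (pPrimeCore p H).map H.subtype with hD0
  set D : Subgroup G := D0 ⊓ M with hD
  have hMH : M ≤ H := le_sup_left
  have hcD0 : (Nat.card D0).Coprime p := by
    rw [hD0, ← Nat.card_congr (Subgroup.equivMapOfInjective _ H.subtype H.subtype_injective).toEquiv]
    exact pPrimeCore_coprime p
  have hcD : (Nat.card D).Coprime p :=
    Nat.Coprime.coprime_dvd_left (Subgroup.card_dvd_of_le inf_le_left) hcD0
  have hDn : (D.subgroupOf M).Normal := by
    constructor
    intro n hn g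
    rw [Subgroup.mem_subgroupOf] at hn ⊢
    obtain ⟨hn1, hn2⟩ := hn
    refine ⟨?_, ?_⟩
    · obtain ⟨n', hn', hnn'⟩ := hn1
      have hcn : (pPrimeCore p H).Normal := (pPrimeCore_mem_set p).1
      refine ⟨⟨(g : G), hMH g.2⟩ * n' * ⟨(g : G), hMH g.2⟩⁻¹, hcn.conj_mem n' hn' _, ?_⟩
      simp only [Subgroup.coe_mul, Subgroup.coe_inv, map_mul, map_inv, Subgroup.subtype_apply]
      rw [← hnn']; rfl
    · simp only [Subgroup.coe_mul, Subgroup.coe_inv]
      exact hMn.conj_mem _ hn2 _
  have hsub : D.IsSubnormal := Subgroup.IsSubnormal.step D M inf_le_right hMn.isSubnormal hDn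
  have hDbot := le_pPrimeCore_of_isSubnormal hsub hcD
  rw [hcore] at hDbot
  have hc : m * x * m⁻¹ * x⁻¹ ∈ D := by
    refine ⟨⟨_, h1, ?_⟩, ?_⟩
    · simp
    · have : m * x * m⁻¹ * x⁻¹ = m * (x * m⁻¹ * x⁻¹) := by group
      rw [this]
      exact M.mul_mem hm (hMn.conj_mem _ (M.inv_mem hm) x)
  have h3 := hDbot hc
  rw [Subgroup.mem_bot] at h3
  calc m * x = (m * x * m⁻¹ * x⁻¹) * (x * m) := by group
    _ = x * m := by rw [h3, one_mul]

include hx hiso hnz hmin hcore hcen hMn hMne in
theorem not_abelian : ¬ (∀ a ∈ M, ∀ b ∈ M, a * b = b * a) := by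
  intro hab
  haveI := hMn
  have hMp : IsPGroup p M := isPGroup_of_abelian hcore M hMn.isSubnormal hab
  have hxp : IsPGroup p (Subgroup.zpowers x) :=
    isPGroup_zpowers_of_orderOf ⟨1, by rw [hx, pow_one]⟩
  have hR : IsPGroup p (M ⊔ Subgroup.zpowers x : Subgroup G) :=
    IsPGroup.to_sup_of_normal_left hMp hxp
  have hxR : x ∈ M ⊔ Subgroup.zpowers x :=
    (le_sup_right : Subgroup.zpowers x ≤ _) (Subgroup.mem_zpowers x)
  have hc := isolated_central_in_pGroup _ hR x hxR hiso
  apply not_mem_centralizer x hiso hnz hmin hcore hcen M hMn hMne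
  rw [Subgroup.mem_centralizer_iff]
  intro m hm
  exact hc m ((le_sup_left : M ≤ _) hm)

end minimalNormal

theorem simple_of (x : G) (hx : orderOf x = p) (hiso : IsIsolated x)
    (hcore : pPrimeCore p G = ⊥)
    (M : Subgroup G) (hMn : M.Normal) (hMne : M ≠ ⊥)
    (hMmin : ∀ N : Subgroup G, N.Normal → N ≠ ⊥ → N ≤ M → N = M)
    (htop : M ⊔ Subgroup.zpowers x = ⊤) : IsSimpleGroup M := by
  haveI : Nontrivial M := (Subgroup.nontrivial_iff_ne_bot M).mpr hMne
  refine IsSimpleGroup.mk ?_
  intro N' hN'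
  by_contra hcon
  push Not at hcon
  obtain ⟨hN'bot, hN'top⟩ := hcon
  set S2 : Set (Subgroup G) :=
    {N | N ≤ M ∧ N ≠ ⊥ ∧ M ≤ Subgroup.normalizer (N : Set G)} with hS2
  set N1 : Subgroup G := N'.map M.subtype with hN1def
  have hN1M : N1 ≤ M := by
    rintro _ ⟨y, _, rfl⟩; exact y.2
  have hN1sub : N1.subgroupOf M = N' := by
    rw [hN1def, Subgroup.subgroupOf, Subgroup.comap_map_eq_self_of_injective M.subtype_injective]
  have hN1 : N1 ∈ S2 := by
    refine ⟨hN1M, ?_, ?_⟩
    · intro h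
      apply hN'bot
      rw [← hN1sub, h]
      simp
    · rw [← Subgroup.normal_subgroupOf_iff_le_normalizer hN1M, hN1sub]
      exact hN'
  obtain ⟨N, hNle, hNmin⟩ := (Set.toFinite S2).exists_le_minimal hN1
  obtain ⟨hNM, hNbot, hNnorm⟩ := hNmin.prop
  have hNneM : N ≠ M := by
    intro h
    apply hN'top
    have : N1 = M := le_antisymm hN1M (h ▸ hNle)
    rw [← hN1sub, this]
    exact Subgroup.subgroupOf_self M
  -- 1. x does not normalize N
  have hxN : x ∉ Subgroup.normalizer (N : Set G) := by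
    intro hxn
    have h1 : Subgroup.normalizer (N : Set G) = ⊤ := by
      rw [eq_top_iff, ← htop]
      exact sup_le hNnorm ((Subgroup.zpowers_le).mpr hxn)
    have hNn : N.Normal := Subgroup.normalizer_eq_top_iff.mp h1
    exact hNneM (hMmin N hNn hNbot hNM)
  -- 2. the conjugate
  set Nx : Subgroup G := MulAut.conj x • N with hNx
  have hmemNx : ∀ n, n ∈ Nx ↔ x⁻¹ * n * x ∈ N := by
    intro n
    rw [hNx, Subgroup.mem_pointwise_smul_iff_inv_smul_mem]
    simp [MulAut.smul_def]
  have hNxnorm : M ≤ Subgroup.normalizer (Nx : Set G) := by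
    intro m hm
    rw [Subgroup.mem_normalizer_iff]
    intro n
    rw [hmemNx, hmemNx]
    have hm' : x⁻¹ * m * x ∈ M := by
      have := hMn.conj_mem m hm x⁻¹
      rwa [inv_inv] at this
    have h1 := Subgroup.mem_normalizer_iff.mp (hNnorm hm') (x⁻¹ * n * x)
    rw [h1]
    have : x⁻¹ * m * x * (x⁻¹ * n * x) * (x⁻¹ * m * x)⁻¹ = x⁻¹ * (m * n * m⁻¹) * x := by group
    rw [this]
  have hinf : N ⊓ Nx = ⊥ := by
    by_contra hne
    have hmem : N ⊓ Nx ∈ S2 := by
      refine ⟨inf_le_left.trans hNM, hne, ?_⟩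
      intro m hm
      rw [Subgroup.mem_normalizer_iff]
      intro n
      have h1 := Subgroup.mem_normalizer_iff.mp (hNnorm hm) n
      have h2 := Subgroup.mem_normalizer_iff.mp (hNxnorm hm) n
      rw [Subgroup.mem_inf, Subgroup.mem_inf, h1, h2]
    have hle : N ≤ N ⊓ Nx := hNmin.le_of_le hmem inf_le_left
    have hNNx : N ≤ Nx := hle.trans inf_le_right
    have hEq : N = Nx := by
      apply Subgroup.eq_of_le_of_card_ge hNNx
      rw [hNx, ← Nat.card_congr (Subgroup.equivSMul (MulAut.conj x) N).toEquiv]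
    apply hxN
    rw [Subgroup.mem_normalizer_iff]
    intro n
    constructor
    · intro hn
      have : x * n * x⁻¹ ∈ Nx := by
        rw [hmemNx]
        have : x⁻¹ * (x * n * x⁻¹) * x = n := by group
        rw [this]; exact hn
      rw [hEq]; exact this
    · intro hn
      have h1 : x * n * x⁻¹ ∈ Nx := by rw [← hEq]; exact hn
      rw [hmemNx] at h1
      have : x⁻¹ * (x * n * x⁻¹) * x = n := by group
      rwa [this] at h1
  -- 3. p divides |N|
  have hsubn : N.IsSubnormal :=
    Subgroup.IsSubnormal.step N M hNM hMn.isSubnormal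
      ((Subgroup.normal_subgroupOf_iff_le_normalizer hNM).mpr hNnorm)
  have hpN : p ∣ Nat.card N := by
    by_contra hnd
    have hcop : (Nat.card N).Coprime p :=
      ((Nat.Prime.coprime_iff_not_dvd Fact.out).mpr hnd).symm
    have := le_pPrimeCore_of_isSubnormal hsubn hcop
    rw [hcore] at this
    exact hNbot (le_bot_iff.mp this)
  -- 4. a Sylow subgroup containing x
  obtain ⟨P, hP⟩ := (isPGroup_zpowers_of_orderOf (p := p) (x := x)
    ⟨1, by rw [hx, pow_one]⟩).exists_le_sylow
  have hxP : x ∈ (P : Subgroup G) := hP (Subgroup.mem_zpowers x)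
  have hSyl := isSylowOf_inf_of_isSubnormal P hsubn
  obtain ⟨S, hS⟩ := hSyl.exists_sylow
  have hSne : (S : Subgroup N) ≠ ⊥ := S.ne_bot_of_dvd_card hpN
  obtain ⟨n, hn1⟩ := (Subgroup.ne_bot_iff_exists_ne_one).mp hSne
  have hnPN : ((n : N) : G) ∈ (P : Subgroup G) ⊓ N := by
    rw [← hS]; exact ⟨n, n.2, rfl⟩
  have hcomm := isolated_central_in_pGroup (P : Subgroup G) P.isPGroup' x hxP hiso _ hnPN.1
  have hmem2 : ((n : N) : G) ∈ N ⊓ Nx := by
    refine ⟨(n : N).2, (hmemNx _).mpr ?_⟩
    rw [mul_assoc, hcomm, ← mul_assoc, inv_mul_cancel, one_mul]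
    exact (n : N).2
  rw [hinf, Subgroup.mem_bot] at hmem2
  apply hn1
  exact Subtype.ext (Subtype.ext hmem2)


/-- Let G be a finite group, p a prime and x ∈ G an isolated element of order p (the only conjugate of x commuting with x is x) which is not central modulo the largest normal subgroup of order prime to p, while x is central modulo the largest normal subgroup of order prime to p in every proper subgroup containing x, and the image of x is so in every quotient of G by a nontrivial normal subgroup (a minimal counterexample to the Z*_p statement). Then the derived subgroup G' is a non-abelian simple group and G = G'⟨x⟩. -/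
theorem result {G : Type*} [Group G] [Finite G] {p : ℕ} [Fact p.Prime] (x : G) (hx : orderOf x = p) (hiso : Cfsg.IsIsolated x) (hnz : ¬ Cfsg.InZStar p x) (hmin : ∀ (H : Subgroup G) (hxH : x ∈ H), H ≠ ⊤ → Cfsg.InZStar p (⟨x, hxH⟩ : ↥H)) (hquot : ∀ (N : Subgroup G) [N.Normal], N ≠ ⊥ → Cfsg.InZStar p (QuotientGroup.mk x : G ⧸ N)) : IsSimpleGroup ↥(commutator G) ∧ ¬ IsMulCommutative ↥(commutator G) ∧ commutator G ⊔ Subgroup.zpowers x = ⊤ := by
  have hcore := core_eq_bot x hnz hquot
  have hcen := center_eq_bot x hiso hnz hquot hcore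
  -- a minimal normal subgroup
  set 𝒞 : Set (Subgroup G) := {N | N.Normal ∧ N ≠ ⊥} with h𝒞
  have hx1 : x ≠ 1 := by
    intro h
    rw [h, orderOf_one] at hx
    exact (Fact.out : p.Prime).one_lt.ne hx
  have htop : (⊤ : Subgroup G) ∈ 𝒞 := by
    refine ⟨inferInstance, ?_⟩
    intro h
    have : x ∈ (⊥ : Subgroup G) := h ▸ Subgroup.mem_top x
    exact hx1 (Subgroup.mem_bot.mp this)
  obtain ⟨M, -, hMmin'⟩ := (Set.toFinite 𝒞).exists_le_minimal htop
  obtain ⟨hMn, hMne⟩ := hMmin'.prop
  have hMmin : ∀ N : Subgroup G, N.Normal → N ≠ ⊥ → N ≤ M → N = M := by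
    intro N hN hNb hle
    exact le_antisymm hle (hMmin'.le_of_le ⟨hN, hNb⟩ hle)
  have hsup := sup_eq_top x hiso hnz hmin hcore hcen M hMn hMne
  have hnab := not_abelian x hx hiso hnz hmin hcore hcen M hMn hMne
  have hsimp := simple_of x hx hiso hcore M hMn hMne hMmin hsup
  haveI := hMn
  have hcle : commutator G ≤ M :=
    Subgroup.Normal.commutator_le_of_self_sup_commutative_eq_top hsup inferInstance
  have hcne : commutator G ≠ ⊥ := by
    intro h
    apply hnz
    intro g
    have h1 : ⁅g, x⁆ ∈ commutator G := by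
      rw [commutator_def]
      exact Subgroup.commutator_mem_commutator (Subgroup.mem_top g) (Subgroup.mem_top x)
    rw [h, Subgroup.mem_bot, commutatorElement_def] at h1
    rw [h1]; exact one_mem _
  have hcM : commutator G = M := hMmin _ inferInstance hcne hcle
  subst hcM
  refine ⟨hsimp, ?_, hsup⟩
  intro hcomm
  apply hnab
  intro a ha b hb
  have := hcomm.is_comm.comm ⟨a, ha⟩ ⟨b, hb⟩
  exact congrArg Subtype.val this

end Cfsg.Agent.S2972
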