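import Mathlib
import Cfsg.Agent.S2972
import Cfsg.Agent.Lib.Lead.CoprimeSylow5
import Cfsg.Statements.S2975

set_option autoImplicit false
open Cfsg

namespace Cfsg.Agent.S2975

open Cfsg.Agent.Lib.Helper6 Cfsg.Agent.Lib.Helper3 Cfsg.Agent.Lib.Lead
open scoped Pointwise

variable {G : Type*} [Group G] [Finite G] {p : ℕ} [Fact p.Prime]

theorem mem_map_conj (S : Subgroup G) (c z : G) :
    z ∈ S.map (MulAut.conj c).toMonoidHom ↔ c⁻¹ * z * c ∈ S := by
  constructor
  · rintro ⟨s, hs, rfl⟩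
    have : c⁻¹ * ((MulAut.conj c).toMonoidHom s) * c = s := by
      simp only [MulEquiv.coe_toMonoidHom, MulAut.conj_apply]; group
    rw [this]; exact hs
  · intro h
    refine ⟨c⁻¹ * z * c, h, ?_⟩
    simp [MulAut.conj_apply, mul_assoc]

/-- an isolated `p`-element is conjugate in `H` to any of its `G`-conjugates lying in `H` -/
theorem isolated_conj_in (x : G) (hx : orderOf x = p) (hiso : IsIsolated x) (H : Subgroup G)
    (hxH : x ∈ H) (g : G) (hy : g * x * g⁻¹ ∈ H) : ∃ h ∈ H, (h * g) * x * (h * g)⁻¹ = x := by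
  have hxp : IsPGroup p (Subgroup.zpowers x) :=
    isPGroup_zpowers_of_orderOf ⟨1, by rw [hx, pow_one]⟩
  have hyo : orderOf (g * x * g⁻¹) = p := by
    have : g * x * g⁻¹ = MulAut.conj g x := by simp [MulAut.conj_apply]
    rw [this, MulEquiv.orderOf_eq, hx]
  have hyp : IsPGroup p (Subgroup.zpowers (g * x * g⁻¹)) :=
    isPGroup_zpowers_of_orderOf ⟨1, by rw [hyo, pow_one]⟩
  obtain ⟨P1, hP1⟩ := (hxp.comap_subtype (K := H)).exists_le_sylow
  obtain ⟨P2, hP2⟩ := (hyp.comap_subtype (K := H)).exists_le_sylow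
  obtain ⟨h, hh⟩ := MulAction.exists_smul_eq H P2 P1
  have hx1 : (⟨x, hxH⟩ : H) ∈ P1 := hP1 (by
    rw [Subgroup.mem_comap]; exact Subgroup.mem_zpowers x)
  have hy2 : (⟨g * x * g⁻¹, hy⟩ : H) ∈ P2 := hP2 (by
    rw [Subgroup.mem_comap]; exact Subgroup.mem_zpowers _)
  have hPP : (P1 : Subgroup H) = MulAut.conj h • (P2 : Subgroup H) := by
    rw [← hh, Sylow.coe_subgroup_smul]
  have hy1 : h * (⟨g * x * g⁻¹, hy⟩ : H) * h⁻¹ ∈ (P1 : Subgroup H) := by
    rw [hPP, Subgroup.mem_pointwise_smul_iff_inv_smul_mem]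
    simp only [MulAut.smul_def, MulAut.conj_inv_apply]
    have : h⁻¹ * (h * (⟨g * x * g⁻¹, hy⟩ : H) * h⁻¹) * h = ⟨g * x * g⁻¹, hy⟩ := by group
    rw [this]; exact hy2
  set P0 : Subgroup G := (P1 : Subgroup H).map H.subtype with hP0
  have hP0p : IsPGroup p P0 := P1.isPGroup'.map _
  have hxP0 : x ∈ P0 := ⟨⟨x, hxH⟩, hx1, rfl⟩
  have hyP0 : (h : G) * g * x * ((h : G) * g)⁻¹ ∈ P0 := by
    refine ⟨_, hy1, ?_⟩
    simp only [Subgroup.subtype_apply, Subgroup.coe_mul, Subgroup.coe_inv]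
    group
  have hc := isolated_central_in_pGroup P0 hP0p x hxP0 hiso _ hyP0
  exact ⟨h, h.2, hiso _ hc.symm⟩

theorem part2 (x : G) (hx : orderOf x = p) (hiso : IsIsolated x) (q : ℕ) [Fact q.Prime]
    (S₁ S₂ : Sylow q G) (h1 : x ∈ Subgroup.normalizer ((S₁ : Subgroup G) : Set G))
    (h2 : x ∈ Subgroup.normalizer ((S₂ : Subgroup G) : Set G)) :
    ∃ c ∈ Subgroup.centralizer ({x} : Set G),
      (S₁ : Subgroup G).map (MulAut.conj c).toMonoidHom = (S₂ : Subgroup G) := by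
  obtain ⟨g, hg⟩ := MulAction.exists_smul_eq G S₁ S₂
  have hS : (S₂ : Subgroup G) = MulAut.conj g • (S₁ : Subgroup G) := by
    rw [← hg, Sylow.coe_subgroup_smul]
  have hmem : ∀ w, w ∈ (S₂ : Subgroup G) ↔ g⁻¹ * w * g ∈ (S₁ : Subgroup G) := by
    intro w
    rw [hS, Subgroup.mem_pointwise_smul_iff_inv_smul_mem]
    simp [MulAut.smul_def]
  set H := Subgroup.normalizer ((S₂ : Subgroup G) : Set G) with hH
  have hy : g * x * g⁻¹ ∈ H := by
    rw [Subgroup.mem_normalizer_iff]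
    intro w
    rw [hmem, hmem]
    have := Subgroup.mem_normalizer_iff.mp h1 (g⁻¹ * w * g)
    rw [this]
    have e : g⁻¹ * (g * x * g⁻¹ * w * (g * x * g⁻¹)⁻¹) * g = x * (g⁻¹ * w * g) * x⁻¹ := by group
    rw [e]
  obtain ⟨h, hh, hc⟩ := isolated_conj_in x hx hiso H h2 g hy
  refine ⟨h * g, ?_, ?_⟩
  · rw [Subgroup.mem_centralizer_iff]
    intro w hw
    rw [Set.mem_singleton_iff] at hw
    subst hw
    calc w * (h * g) = ((h * g) * w * (h * g)⁻¹) * (h * g) := by rw [hc]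
      _ = (h * g) * w := by group
  · ext z
    rw [mem_map_conj]
    have e : (h * g)⁻¹ * z * (h * g) = g⁻¹ * (h⁻¹ * z * h) * g := by group
    rw [e, ← hmem]
    have := Subgroup.mem_normalizer_iff.mp hh (h⁻¹ * z * h)
    rw [this]
    have e2 : h * (h⁻¹ * z * h) * h⁻¹ = z := by group
    rw [e2]

theorem part1_eq (x : G) (hx : orderOf x = p) (Q : Subgroup G) (hQ : IsPGroup p Q)
    (hxQ : x ∈ Subgroup.normalizer (Q : Set G))
    (hmax : ∀ R : Subgroup G, IsPGroup p R → x ∈ Subgroup.normalizer (R : Set G) → Q ≤ R → R = Q) :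
    ∃ S : Sylow p G, (S : Subgroup G) = Q := by
  have hxp : IsPGroup p (Subgroup.zpowers x) :=
    isPGroup_zpowers_of_orderOf ⟨1, by rw [hx, pow_one]⟩
  have hR : IsPGroup p (Subgroup.zpowers x ⊔ Q : Subgroup G) :=
    IsPGroup.to_sup_of_normal_right' hxp hQ ((Subgroup.zpowers_le).mpr hxQ)
  have hxR : x ∈ Subgroup.zpowers x ⊔ Q :=
    (le_sup_left : Subgroup.zpowers x ≤ _) (Subgroup.mem_zpowers x)
  have h1 := hmax _ hR (Subgroup.le_normalizer hxR) le_sup_right
  have hxQ' : x ∈ Q := h1 ▸ hxR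
  obtain ⟨S, hS⟩ := hQ.exists_le_sylow
  have h2 := hmax S S.isPGroup' (Subgroup.le_normalizer (hS hxQ')) hS
  exact ⟨S, h2⟩

theorem coprime_of_isPGroup {X : Type*} [Group X] [Finite X] {q : ℕ} [Fact q.Prime] (hqp : q ≠ p)
    (R : Subgroup X) (hR : IsPGroup q R) : (Nat.card R).Coprime p := by
  obtain ⟨k, hk⟩ := IsPGroup.iff_card.mp hR
  rw [hk]
  exact Nat.Coprime.pow_left k ((Nat.coprime_primes Fact.out Fact.out).mpr hqp)

theorem part1_ne (x : G) (hx : orderOf x = p)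
    (hmin : ∀ (H : Subgroup G) (hxH : x ∈ H), H ≠ ⊤ → InZStar p (⟨x, hxH⟩ : ↥H))
    (hcore : pPrimeCore p G = ⊥) (q : ℕ) [Fact q.Prime] (hqp : q ≠ p)
    (Q : Subgroup G) (hQ : IsPGroup q Q) (hxQ : x ∈ Subgroup.normalizer (Q : Set G))
    (hmax : ∀ R : Subgroup G, IsPGroup q R → x ∈ Subgroup.normalizer (R : Set G) → Q ≤ R → R = Q)
    (hQne : Q ≠ ⊥) : ∃ S : Sylow q G, (S : Subgroup G) = Q := by
  set H := Subgroup.normalizer (Q : Set G) with hH
  have hQH : Q ≤ H := Subgroup.le_normalizer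
  have hHne : H ≠ ⊤ := by
    intro h
    have hQn : Q.Normal := Subgroup.normalizer_eq_top_iff.mp h
    have := le_pPrimeCore hQn (coprime_of_isPGroup hqp Q hQ)
    rw [hcore] at this
    exact hQne (le_bot_iff.mp this)
  have hz := hmin H hxQ hHne
  obtain ⟨T, hT⟩ := (hQ.comap_subtype (K := H)).exists_le_sylow
  set KH : Subgroup H := pPrimeCore p H with hKH
  have hKHn : KH.Normal := (pPrimeCore_mem_set p).1
  set YH : Subgroup H := (T : Subgroup H) ⊔ KH with hYH
  have hYHc : (Nat.card YH).Coprime p :=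
    coprime_card_sup_of_normal (coprime_of_isPGroup hqp _ T.isPGroup') (pPrimeCore_coprime p)
  set Y : Subgroup G := YH.map H.subtype with hY
  have hYcard : Nat.card Y = Nat.card YH :=
    (Nat.card_congr (Subgroup.equivMapOfInjective YH H.subtype H.subtype_injective).toEquiv).symm
  have hKY : KH ≤ YH := le_sup_right
  have hxY : x ∈ Subgroup.normalizer (Y : Set G) := by
    rw [Subgroup.mem_normalizer_iff]
    intro y
    constructor
    · rintro ⟨y', hy', rfl⟩
      have hc := hz y'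
      refine ⟨(y' * ⟨x, hxQ⟩ * y'⁻¹ * ⟨x, hxQ⟩⁻¹)⁻¹ * y',
        YH.mul_mem (YH.inv_mem (hKY hc)) hy', ?_⟩
      simp only [Subgroup.subtype_apply, Subgroup.coe_mul, Subgroup.coe_inv]
      group
    · rintro ⟨w, hw, hwe⟩
      have hc := hz w
      have hc' := hKHn.conj_mem _ hc (⟨x, hxQ⟩ : H)⁻¹
      refine ⟨((⟨x, hxQ⟩ : H)⁻¹ * (w * ⟨x, hxQ⟩ * w⁻¹ * ⟨x, hxQ⟩⁻¹) * (⟨x, hxQ⟩ : H)⁻¹⁻¹) * w,
        YH.mul_mem (hKY hc') hw, ?_⟩
      simp only [Subgroup.subtype_apply, Subgroup.coe_mul, Subgroup.coe_inv] at hwe ⊢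
      rw [hwe]
      group
  have hQY : Q ≤ Y := by
    intro z hz'
    exact ⟨⟨z, hQH hz'⟩, (le_sup_left : (T : Subgroup H) ≤ YH) (hT (by
      rw [Subgroup.mem_comap]; exact hz')), rfl⟩
  have hcop : (Nat.card (Subgroup.zpowers x)).Coprime (Nat.card Y) := by
    rw [Nat.card_zpowers, hx, hYcard]; exact hYHc.symm
  have hsolv : Group.IsSolvable (Subgroup.zpowers x) :=
    Group.isSolvable_of_comm (fun a b => mul_comm' a b)
  obtain ⟨P, hQP, hPx⟩ := coprime_invariant_pgroup_le_sylow (Subgroup.zpowers x) Y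
    ((Subgroup.zpowers_le).mpr hxY) hcop (Or.inl hsolv) q Q hQY hQ ((Subgroup.zpowers_le).mpr hxQ)
  set S' : Subgroup G := (P : Subgroup Y).map Y.subtype with hS'
  have hS'q : IsPGroup q S' := P.isPGroup'.map _
  have hS'Q : S' = Q := hmax S' hS'q (hPx (Subgroup.mem_zpowers x)) hQP
  set T₀ : Subgroup G := (T : Subgroup H).map H.subtype with hT₀
  have hQT₀ : Q ≤ T₀ := by
    intro z hz'
    exact ⟨⟨z, hQH hz'⟩, hT (by rw [Subgroup.mem_comap]; exact hz'), rfl⟩
  have hT₀Y : T₀ ≤ Y := Subgroup.map_mono le_sup_left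
  have hcardS' : Nat.card S' = q ^ (Nat.card Y).factorization q := by
    rw [hS', ← Nat.card_congr (Subgroup.equivMapOfInjective _ Y.subtype Y.subtype_injective).toEquiv]
    exact P.card_eq_multiplicity
  have hT₀card : Nat.card T₀ ≤ Nat.card S' := by
    obtain ⟨k, hk⟩ := IsPGroup.iff_card.mp (T.isPGroup'.map H.subtype : IsPGroup q T₀)
    have hdvd : q ^ k ∣ Nat.card Y := hk ▸ Subgroup.card_dvd_of_le hT₀Y
    rw [hk, hcardS']
    exact Nat.pow_le_pow_right (Fact.out : q.Prime).pos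
      ((Nat.Prime.pow_dvd_iff_le_factorization Fact.out Nat.card_pos.ne').mp hdvd)
  have hQT₀eq : Q = T₀ := Subgroup.eq_of_le_of_card_ge hQT₀ (by rw [← hS'Q]; exact hT₀card)
  obtain ⟨S, hS⟩ := hQ.exists_le_sylow
  refine ⟨S, ?_⟩
  by_contra hne
  have hlt : Q < S := lt_of_le_of_ne hS (Ne.symm hne)
  obtain ⟨n, hnS, hnQ, hnN⟩ := exists_mem_normalizer_not_mem hlt S.isPGroup'
  have hnq : IsPGroup q (Subgroup.zpowers n) := S.isPGroup'.to_le ((Subgroup.zpowers_le).mpr hnS)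
  have hR : IsPGroup q (Subgroup.zpowers n ⊔ Q : Subgroup G) :=
    IsPGroup.to_sup_of_normal_right' hnq hQ ((Subgroup.zpowers_le).mpr hnN)
  have h3 : ((Subgroup.zpowers n ⊔ Q).subgroupOf H) = T := T.is_maximal' hR.comap_subtype (by
    intro t ht
    rw [Subgroup.mem_subgroupOf]
    have : (t : G) ∈ T₀ := ⟨t, ht, rfl⟩
    rw [← hQT₀eq] at this
    exact (le_sup_right : Q ≤ _) this)
  apply hnQ
  have h4 : (⟨n, hnN⟩ : H) ∈ (T : Subgroup H) := by
    rw [← h3, Subgroup.mem_subgroupOf]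
    exact (le_sup_left : Subgroup.zpowers n ≤ _) (Subgroup.mem_zpowers n)
  rw [hQT₀eq]
  exact ⟨_, h4, rfl⟩


/-- Let G be a finite group, p a prime and x ∈ G an isolated element of order p (the only conjugate of x commuting with x is x) which is not central modulo the largest normal subgroup of order prime to p, while x is central modulo the largest normal subgroup of order prime to p in every proper subgroup containing x, and the image of x is so in every quotient of G by a nontrivial normal subgroup (a minimal counterexample to the Z*_p statement). Then for every prime q, every q-subgroup of G that is normalized by x and maximal among the q-subgroups normalized by x is either trivial or a Sylow q-subgroup of G; and C_G(x) permutes the x-invariant Sylow q-subgroups of G transitively by conjugation. -/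
theorem result {G : Type*} [Group G] [Finite G] {p : ℕ} [Fact p.Prime] (x : G) (hx : orderOf x = p) (hiso : Cfsg.IsIsolated x) (hnz : ¬ Cfsg.InZStar p x) (hmin : ∀ (H : Subgroup G) (hxH : x ∈ H), H ≠ ⊤ → Cfsg.InZStar p (⟨x, hxH⟩ : ↥H)) (hquot : ∀ (N : Subgroup G) [N.Normal], N ≠ ⊥ → Cfsg.InZStar p (QuotientGroup.mk x : G ⧸ N)) (q : ℕ) [Fact q.Prime] : (∀ Q : Subgroup G, IsPGroup q ↥Q → x ∈ Subgroup.normalizer (Q : Set G) → (∀ R : Subgroup G, IsPGroup q ↥R → x ∈ Subgroup.normalizer (R : Set G) → Q ≤ R → R = Q) → Q = ⊥ ∨ ∃ S : Sylow q G, (S : Subgroup G) = Q) ∧ (∀ S₁ S₂ : Sylow q G, x ∈ Subgroup.normalizer ((S₁ : Subgroup G) : Set G) → x ∈ Subgroup.normalizer ((S₂ : Subgroup G) : Set G) → ∃ c ∈ Subgroup.centralizer ({x} : Set G), (S₁ : Subgroup G).map (MulAut.conj c).toMonoidHom = (S₂ : Subgroup G)) := by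
  have hcore := Cfsg.Agent.S2972.core_eq_bot x hnz hquot
  refine ⟨?_, ?_⟩
  · intro Q hQ hxQ hmax
    by_cases hQne : Q = ⊥
    · exact Or.inl hQne
    · right
      by_cases hqp : q = p
      · subst hqp
        exact part1_eq x hx Q hQ hxQ hmax
      · exact part1_ne x hx hmin hcore q hqp Q hQ hxQ hmax hQne
  · intro S₁ S₂ h1 h2
    exact part2 x hx hiso q S₁ S₂ h1 h2

end Cfsg.Agent.S2975
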