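import Mathlib
import Cfsg.Agent.Lib.Helper6.SylowIdx
import Cfsg.Agent.Lib.Helper6.Conj2
import Cfsg.Statements.S2998

set_option autoImplicit false
open Cfsg Cfsg.Agent.Lib.Helper6
open scoped commutatorElement Pointwise

namespace Cfsg.Agent.S2998

/-- Let G be a finite group, p a prime, P a Sylow p-subgroup of G and x ∈ P an element such that N_G(R) ≤ C_G(x) for every nontrivial subgroup R of P. Then P ≤ C_G(x); every G-conjugate of x lying in P equals x (so g ∈ C_G(x) whenever g x g⁻¹ ∈ P); and for every normal subgroup N of G, the image of x in G ⧸ N has the same property with respect to the image of P: the normalizer of every nontrivial subgroup of the image of P centralizes the image of x. -/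
theorem result {G : Type*} [Group G] [Finite G] {p : ℕ} [Fact p.Prime] (P : Sylow p G) (x : G) (hxP : x ∈ (P : Subgroup G)) (hlc : ∀ R : Subgroup G, R ≤ (P : Subgroup G) → R ≠ ⊥ → Subgroup.normalizer (R : Set G) ≤ Subgroup.centralizer ({x} : Set G)) : (P : Subgroup G) ≤ Subgroup.centralizer ({x} : Set G) ∧ (∀ g : G, g * x * g⁻¹ ∈ (P : Subgroup G) → g * x * g⁻¹ = x) ∧ ∀ (N : Subgroup G) [N.Normal], ∀ R : Subgroup (G ⧸ N), R ≤ (P : Subgroup G).map (QuotientGroup.mk' N) → R ≠ ⊥ → Subgroup.normalizer (R : Set (G ⧸ N)) ≤ Subgroup.centralizer ({(QuotientGroup.mk x : G ⧸ N)} : Set (G ⧸ N)) := by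
  have hp : p.Prime := Fact.out
  have h1 : (P : Subgroup G) ≤ Subgroup.centralizer ({x} : Set G) := by
    by_cases hb : (P : Subgroup G) = ⊥
    · rw [hb]; exact bot_le
    · exact le_trans Subgroup.le_normalizer (hlc P le_rfl hb)
  have h2 : ∀ g : G, g * x * g⁻¹ ∈ (P : Subgroup G) → g * x * g⁻¹ = x := by
    intro g hy
    by_cases hx1 : x = 1
    · subst hx1; simp
    have hPb : (P : Subgroup G) ≠ ⊥ := by
      intro hb
      rw [hb, Subgroup.mem_bot] at hxP
      exact hx1 hxP
    set y := g * x * g⁻¹ with hydef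
    have hy1 : y ≠ 1 := by
      intro h
      apply hx1
      have : x = g⁻¹ * y * g := by rw [hydef]; group
      rw [this, h]; group
    have hCyx : Subgroup.centralizer ({y} : Set G) ≤ Subgroup.centralizer ({x} : Set G) := by
      refine le_trans ?_ (hlc (Subgroup.zpowers y) (Subgroup.zpowers_le.mpr hy)
        (by simpa [Subgroup.zpowers_eq_bot] using hy1))
      intro c hc
      apply mem_normalizer_of_forall_conj_mem
      intro w hw
      obtain ⟨j, rfl⟩ := Subgroup.mem_zpowers_iff.mp hw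
      rw [Subgroup.mem_centralizer_singleton_iff] at hc
      have : c * y * c⁻¹ = y := by rw [hc]; group
      rw [← conj_zpow, this]
      exact Subgroup.zpow_mem_zpowers y j
    have hCconj : Subgroup.centralizer ({y} : Set G) =
        (Subgroup.centralizer ({x} : Set G)).map (MulAut.conj g).toMonoidHom := by
      ext c
      rw [mem_map_conj, Subgroup.mem_centralizer_singleton_iff,
        Subgroup.mem_centralizer_singleton_iff, hydef]
      constructor
      · intro h
        have : g⁻¹ * (c * (g * x * g⁻¹)) * g = g⁻¹ * ((g * x * g⁻¹) * c) * g := by rw [h]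
        calc g⁻¹ * c * g * x = g⁻¹ * (c * (g * x * g⁻¹)) * g := by group
          _ = g⁻¹ * ((g * x * g⁻¹) * c) * g := this
          _ = x * (g⁻¹ * c * g) := by group
      · intro h
        calc c * (g * x * g⁻¹) = g * (g⁻¹ * c * g * x) * g⁻¹ := by group
          _ = g * (x * (g⁻¹ * c * g)) * g⁻¹ := by rw [h]
          _ = g * x * g⁻¹ * c := by group
    have hCeq : Subgroup.centralizer ({y} : Set G) = Subgroup.centralizer ({x} : Set G) := by
      apply Subgroup.eq_of_le_of_card_ge hCyx
      rw [hCconj, card_map_conj]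
    have hPC : (P : Subgroup G) ≤ Subgroup.centralizer ({y} : Set G) := by rw [hCeq]; exact h1
    have hPgC : (P : Subgroup G).map (MulAut.conj g).toMonoidHom ≤
        Subgroup.centralizer ({y} : Set G) := by
      rw [hCconj]
      exact Subgroup.map_mono h1
    obtain ⟨c, hcC, R, _, hRp, hPR, hcR⟩ := exists_common_pGroup (Subgroup.centralizer ({y} : Set G))
      (P : Subgroup G) ((P : Subgroup G).map (MulAut.conj g).toMonoidHom) hPC hPgC P.isPGroup'
      (P.isPGroup'.map _)
    have hRP : R = P := P.is_maximal' hRp hPR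
    rw [hRP, map_conj_map_conj] at hcR
    have hcgN : c * g ∈ Subgroup.normalizer ((P : Subgroup G) : Set G) :=
      mem_normalizer_of_map_conj_le hcR
    have hcgx := hlc P le_rfl hPb hcgN
    rw [Subgroup.mem_centralizer_singleton_iff] at hcgx hcC
    calc y = c * y * c⁻¹ := by rw [hcC]; group
      _ = (c * g) * x * (c * g)⁻¹ := by rw [hydef]; group
      _ = x := by rw [hcgx]; group
  refine ⟨h1, h2, ?_⟩
  intro N _ Rb hRb hRb1 gb hgb
  obtain ⟨g, rfl⟩ := QuotientGroup.mk_surjective gb
  set L : Subgroup G := Rb.comap (QuotientGroup.mk' N) with hL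
  set R0 : Subgroup G := (P : Subgroup G) ⊓ L with hR0
  have hNL : N ≤ L := by
    intro n hn
    rw [hL, Subgroup.mem_comap]
    have : (QuotientGroup.mk' N) n = 1 := (QuotientGroup.eq_one_iff n).mpr hn
    rw [this]; exact Rb.one_mem
  have hlift : ∀ rb ∈ Rb, ∃ u ∈ R0, (QuotientGroup.mk' N) u = rb := by
    intro rb hrb
    obtain ⟨u, hu, rfl⟩ := hRb hrb
    exact ⟨u, Subgroup.mem_inf.mpr ⟨hu, hrb⟩, rfl⟩
  have hR0b : R0 ≠ ⊥ := by
    intro hb
    apply hRb1
    rw [Subgroup.eq_bot_iff_forall]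
    intro rb hrb
    obtain ⟨u, hu, rfl⟩ := hlift rb hrb
    rw [hb, Subgroup.mem_bot] at hu
    rw [hu, map_one]
  have hLPN : L ≤ (P : Subgroup G) ⊔ N := by
    intro l hl
    obtain ⟨u, hu, hul⟩ := hlift _ hl
    have hn : u⁻¹ * l ∈ N := by
      rw [← QuotientGroup.eq_one_iff, QuotientGroup.mk_mul, QuotientGroup.mk_inv]
      have : (QuotientGroup.mk u : G ⧸ N) = QuotientGroup.mk l := hul
      rw [this, inv_mul_cancel]
    have : l = u * (u⁻¹ * l) := by group
    rw [this]
    exact Subgroup.mul_mem _ (Subgroup.mem_sup_left hu.1) (Subgroup.mem_sup_right hn)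
  have hgL : ∀ l ∈ L, g * l * g⁻¹ ∈ L := by
    intro l hl
    rw [hL, Subgroup.mem_comap] at hl ⊢
    rw [map_mul, map_mul, map_inv]
    exact (Subgroup.mem_normalizer_iff.mp hgb _).mp hl
  have hBL : R0.map (MulAut.conj g).toMonoidHom ≤ L := by
    rintro _ ⟨r, hr, rfl⟩
    simpa [MulAut.conj_apply] using hgL r hr.2
  obtain ⟨c, hcK, R, _, hRp, hPR, hcR⟩ := exists_common_pGroup ((P : Subgroup G) ⊔ N)
    (P : Subgroup G) (R0.map (MulAut.conj g).toMonoidHom) le_sup_left (hBL.trans hLPN) P.isPGroup'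
    ((P.isPGroup'.to_le inf_le_left).map _)
  have hRP : R = P := P.is_maximal' hRp hPR
  rw [hRP, map_conj_map_conj] at hcR
  have hcmem : c ∈ ((P : Subgroup G) : Set G) * (N : Set G) := by
    rw [← Subgroup.mul_normal]; exact hcK
  obtain ⟨u, hu, n, hn, rfl⟩ := Set.mem_mul.mp hcmem
  have hngN : n * g ∈ Subgroup.normalizer (R0 : Set G) := by
    apply mem_normalizer_of_forall_conj_mem
    intro r hr
    refine Subgroup.mem_inf.mpr ⟨?_, ?_⟩
    · have h3 : (u * n * g) * r * (u * n * g)⁻¹ ∈ (P : Subgroup G) :=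
        hcR ⟨r, hr, by simp only [MulEquiv.coe_toMonoidHom, MulAut.conj_apply]⟩
      have h4 : n * g * r * (n * g)⁻¹ = u⁻¹ * ((u * n * g) * r * (u * n * g)⁻¹) * u := by group
      rw [h4]
      exact Subgroup.mul_mem _ (Subgroup.mul_mem _ (Subgroup.inv_mem _ hu) h3) hu
    · have h5 : n * g * r * (n * g)⁻¹ = n * (g * r * g⁻¹) * n⁻¹ := by group
      rw [h5]
      exact L.mul_mem (L.mul_mem (hNL hn) (hgL r hr.2)) (L.inv_mem (hNL hn))
  have hngx := hlc R0 inf_le_left hR0b hngN
  rw [Subgroup.mem_centralizer_singleton_iff] at hngx ⊢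
  have hmk : (QuotientGroup.mk (n * g) : G ⧸ N) = QuotientGroup.mk g := by
    rw [QuotientGroup.mk_mul, (QuotientGroup.eq_one_iff n).mpr hn, one_mul]
  rw [← hmk, ← QuotientGroup.mk_mul, ← QuotientGroup.mk_mul, hngx]

end Cfsg.Agent.S2998
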