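import Mathlib
import Cfsg.Agent.Lib.Helper3.Gen3
import Cfsg.Agent.Lib.Helper6.PPrimeCore
import Cfsg.Statements.S3003

set_option autoImplicit false
open Cfsg

namespace Cfsg.Agent.S3003

open Cfsg.Agent.Lib.Helper6 Cfsg.Agent.Lib.Helper3.Gen

variable {G : Type*} [Group G] [Finite G] {p : ℕ} [Fact p.Prime]

theorem part1 (Q : Subgroup G) (hQp : IsPGroup p ↥Q) (hlarge : Cfsg.IsLarge Q) (G₁ : Subgroup G)
    (hQG : Q ≤ G₁) (R : Subgroup G) (hR : (Nat.card ↥R).Coprime p)
    (hGR : G₁ ≤ Subgroup.normalizer (R : Set G)) (U : Subgroup G)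
    (h : ∃ x ∈ U, x ≠ 1 ∧ ∃ g ∈ G₁, g * x * g⁻¹ ∈ Q ⊓ Subgroup.centralizer (Q : Set G)) :
    R ⊓ Subgroup.centralizer (U : Set G) = ⊥ := by
  obtain ⟨x, hxU, hx1, g, hg, hz⟩ := h
  have hQR : Q ⊓ R = ⊥ := isPGroup_inf_coprime_eq_bot hR hQp
  rw [Subgroup.eq_bot_iff_forall]
  intro c hc
  obtain ⟨hcR, hcU⟩ := Subgroup.mem_inf.mp hc
  have hcx : x * c = c * x := Subgroup.mem_centralizer_iff.mp hcU x hxU
  set z := g * x * g⁻¹ with hzdef
  set c' := g * c * g⁻¹ with hc'def
  have hz1 : z ≠ 1 := by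
    intro h1
    apply hx1
    have : x = g⁻¹ * z * g := by rw [hzdef]; group
    rw [this, h1]; group
  have hc'R : c' ∈ R := (Subgroup.mem_normalizer_iff.mp (hGR hg) c).mp hcR
  have hc'z : z * c' = c' * z := by
    rw [hzdef, hc'def]
    have e1 : g * x * g⁻¹ * (g * c * g⁻¹) = g * (x * c) * g⁻¹ := by group
    have e2 : g * c * g⁻¹ * (g * x * g⁻¹) = g * (c * x) * g⁻¹ := by group
    rw [e1, e2, hcx]
  -- c' normalizes Q
  have hc'N : c' ∈ Subgroup.normalizer (Q : Set G) := by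
    apply hlarge.2 (Subgroup.zpowers z)
    · rw [Subgroup.zpowers_le]; exact hz.2
    · intro hbot
      apply hz1
      have : z ∈ (⊥ : Subgroup G) := hbot ▸ Subgroup.mem_zpowers z
      exact Subgroup.mem_bot.mp this
    · apply Subgroup.centralizer_le_normalizer
      rw [Subgroup.mem_centralizer_iff]
      intro w hw
      obtain ⟨k, rfl⟩ := Subgroup.mem_zpowers_iff.mp hw
      exact (Commute.zpow_left (show Commute z c' from hc'z) k)
  -- c' centralizes Q
  have hc'C : c' ∈ Subgroup.centralizer (Q : Set G) := by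
    rw [Subgroup.mem_centralizer_iff]
    intro q hq
    have h1 : c' * q * c'⁻¹ * q⁻¹ ∈ Q :=
      Q.mul_mem ((Subgroup.mem_normalizer_iff.mp hc'N q).mp hq) (Q.inv_mem hq)
    have h2 : c' * q * c'⁻¹ * q⁻¹ ∈ R := by
      have h3 : q * c'⁻¹ * q⁻¹ ∈ R :=
        (Subgroup.mem_normalizer_iff.mp (hGR (hQG hq)) c'⁻¹).mp (R.inv_mem hc'R)
      have e : c' * q * c'⁻¹ * q⁻¹ = c' * (q * c'⁻¹ * q⁻¹) := by group
      rw [e]; exact R.mul_mem hc'R h3
    have h3 : c' * q * c'⁻¹ * q⁻¹ ∈ Q ⊓ R := ⟨h1, h2⟩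
    rw [hQR, Subgroup.mem_bot] at h3
    calc q * c' = (c' * q * c'⁻¹ * q⁻¹)⁻¹ * (c' * q) := by group
      _ = c' * q := by rw [h3, inv_one, one_mul]
  have hc'Q : c' ∈ Q := hlarge.1 hc'C
  have h4 : c' ∈ Q ⊓ R := ⟨hc'Q, hc'R⟩
  rw [hQR, Subgroup.mem_bot] at h4
  have : c = g⁻¹ * c' * g := by rw [hc'def]; group
  rw [this, h4]; group

theorem isCoatom_of_relIndex_prime {U B : Subgroup G} (hBU : B ≤ U) (hidx : B.relIndex U = p) :
    IsCoatom (B.subgroupOf U) := by
  have hp : p.Prime := Fact.out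
  constructor
  · intro htop
    have : B.relIndex U = 1 := by
      rw [Subgroup.relIndex, htop, Subgroup.index_top]
    rw [hidx] at this
    exact hp.one_lt.ne' this
  · intro C hC
    have h1 : C.index ∣ (B.subgroupOf U).index := Subgroup.index_dvd_of_le hC.le
    have h2 : (B.subgroupOf U).index = p := hidx
    rw [h2] at h1
    rcases (Nat.dvd_prime hp).mp h1 with h3 | h3
    · exact Subgroup.index_eq_one.mp h3
    · exfalso
      have := Subgroup.eq_of_le_of_card_ge hC.le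
      have hc1 := Subgroup.card_mul_index C
      have hc2 := Subgroup.card_mul_index (B.subgroupOf U)
      rw [h3] at hc1
      rw [h2] at hc2
      have : Nat.card C = Nat.card (B.subgroupOf U) := by
        have := hc1.trans hc2.symm
        exact Nat.eq_of_mul_eq_mul_right hp.pos this
      exact hC.ne (Subgroup.eq_of_le_of_card_ge hC.le this.le)


/-- Let G be a finite group, p a prime and Q a large p-subgroup of G: C_G(Q) ≤ Q and N_G(U) ≤ N_G(Q) for every nontrivial subgroup U of C_G(Q). Let Q ≤ G₁ ≤ G, let R be a subgroup of order prime to p normalized by G₁, and let U ≤ G₁ be a p-subgroup. If U contains a nontrivial element which is G₁-conjugate to an element of Z(Q), then C_R(U) = 1. In particular, if U is elementary abelian of order at least p² and every maximal subgroup of U contains a nontrivial element G₁-conjugate into Z(Q), then R = 1. -/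
theorem result {G : Type*} [Group G] [Finite G] {p : ℕ} [Fact p.Prime] (Q : Subgroup G) (hQp : IsPGroup p ↥Q) (hlarge : Cfsg.IsLarge Q) (G₁ : Subgroup G) (hQG : Q ≤ G₁) (R : Subgroup G) (hR : (Nat.card ↥R).Coprime p) (hGR : G₁ ≤ Subgroup.normalizer (R : Set G)) (U : Subgroup G) (hUG : U ≤ G₁) (hUp : IsPGroup p ↥U) : ((∃ x ∈ U, x ≠ 1 ∧ ∃ g ∈ G₁, g * x * g⁻¹ ∈ Q ⊓ Subgroup.centralizer (Q : Set G)) → R ⊓ Subgroup.centralizer (U : Set G) = ⊥) ∧ (Cfsg.IsElementaryAbelian p U → p ^ 2 ≤ Nat.card ↥U → (∀ U₀ : Subgroup G, U₀ ≤ U → IsCoatom (U₀.subgroupOf U) → ∃ x ∈ U₀, x ≠ 1 ∧ ∃ g ∈ G₁, g * x * g⁻¹ ∈ Q ⊓ Subgroup.centralizer (Q : Set G)) → R = ⊥) := by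
  refine ⟨part1 Q hQp hlarge G₁ hQG R hR hGR U, ?_⟩
  intro hUe hUcard hall
  have hp : p.Prime := Fact.out
  have hUR : U ≤ Subgroup.normalizer (R : Set G) := hUG.trans hGR
  have hnd : ¬ p ∣ Nat.card R := by
    intro hd
    have := Nat.Coprime.eq_one_of_dvd hR.symm hd
    exact hp.one_lt.ne' this
  have hle := le_hypJoin hUe (Nat.card U - Nat.card (⊥ : Subgroup G)) ⊥ R le_rfl bot_le
    (by rw [Subgroup.coe_bot, Subgroup.centralizer_eq_top_iff_subset.mpr]
        · exact le_top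
        · rintro _ rfl; exact Subgroup.one_mem _) hnd hUR
  rw [eq_bot_iff]
  refine hle.trans ?_
  unfold hypJoin
  apply iSup_le
  rintro ⟨B, -, hBU, hidx⟩
  show R ⊓ Subgroup.centralizer (B : Set G) ≤ ⊥
  -- a maximal subgroup of U inside which to find the element
  have hdvd : B.relIndex U ∣ Nat.card U := Subgroup.relIndex_dvd_card B U
  have hUcard' : ∃ k, Nat.card U = p ^ k :=
    IsPGroup.iff_card.mp hUp
  obtain ⟨k, hk⟩ := hUcard'
  rw [hk] at hdvd
  obtain ⟨j, -, hj⟩ := (Nat.dvd_prime_pow hp).mp hdvd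
  have hj1 : j ≤ 1 := by
    by_contra hcon
    push Not at hcon
    have : p ^ 2 ≤ p ^ j := Nat.pow_le_pow_right hp.pos hcon
    rw [← hj] at this
    have hp2 : p < p ^ 2 := by nlinarith [hp.two_le]
    omega
  interval_cases j
  · -- B = U
    rw [pow_zero, Subgroup.relIndex_eq_one] at hj
    have hBeq : B = U := le_antisymm hBU hj
    -- find a maximal subgroup of U
    have hUne : (⊤ : Subgroup U) ≠ ⊥ := by
      intro h
      have : Nat.card U = 1 := by
        rw [← Subgroup.card_top (G := U), h, Subgroup.card_bot]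
      rw [this] at hUcard
      nlinarith [hp.two_le]
    obtain ⟨C, hC⟩ : ∃ C : Subgroup U, IsCoatom C := by
      obtain ⟨C, hC, -⟩ := (eq_top_or_exists_le_coatom (⊥ : Subgroup U)).resolve_left hUne.symm
      exact ⟨C, hC⟩
    have hCU : C.map U.subtype ≤ U := Subgroup.map_subtype_le C
    have hCsub : (C.map U.subtype).subgroupOf U = C := by
      rw [Subgroup.subgroupOf, Subgroup.comap_map_eq_self_of_injective U.subtype_injective]
    obtain ⟨x, hx, hx1, g, hg, hz⟩ := hall (C.map U.subtype) hCU (by rw [hCsub]; exact hC)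
    rw [hBeq]
    exact (part1 Q hQp hlarge G₁ hQG R hR hGR U ⟨x, hCU hx, hx1, g, hg, hz⟩).le
  · rw [pow_one] at hj
    obtain ⟨x, hx, hx1, g, hg, hz⟩ := hall B hBU (isCoatom_of_relIndex_prime hBU hj)
    exact (part1 Q hQp hlarge G₁ hQG R hR hGR B ⟨x, hx, hx1, g, hg, hz⟩).le

end Cfsg.Agent.S3003
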