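import Mathlib
import Cfsg.Agent.S0200
import Cfsg.Statements.S3011

set_option autoImplicit false
open Cfsg

namespace Cfsg.Agent.S3011

open scoped commutatorElement

section helpers

variable {G : Type*} [Group G]

/-- an element of odd order whose square is trivial is trivial -/
theorem eq_one_of_sq_of_odd {x : G} (hodd : Odd (orderOf x)) (h : x * x = 1) : x = 1 := by
  have h2 : orderOf x ∣ 2 := orderOf_dvd_of_pow_eq_one (by rw [pow_two]; exact h)
  have h1 : orderOf x = 1 := by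
    rcases (Nat.dvd_prime Nat.prime_two).mp h2 with h1 | h1
    · exact h1
    · rw [h1] at hodd; exact absurd hodd (by decide)
  exact orderOf_eq_one_iff.mp h1

theorem eq_one_of_inv_eq {x : G} (hodd : Odd (orderOf x)) (h : x⁻¹ = x) : x = 1 := by
  apply eq_one_of_sq_of_odd hodd
  have h2 : x⁻¹ * x = 1 := inv_mul_cancel x
  rw [h] at h2
  exact h2

/-- `x` is a nontrivial element of odd order inverted by `a` and centralized by `b` -/
def Typ (a b x : G) : Prop :=
  Odd (orderOf x) ∧ x ≠ 1 ∧ a * x * a⁻¹ = x⁻¹ ∧ b * x * b⁻¹ = x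

/-- the subgroup `V` is the four-group `{1, a, b, ab}` -/
def Quad (V : Subgroup G) (a b : G) : Prop :=
  a ∈ V ∧ b ∈ V ∧ a * a = 1 ∧ b * b = 1 ∧ a * b = b * a ∧ ∀ w ∈ V, w = 1 ∨ w = a ∨ w = b ∨ w = a * b

theorem Quad.swap_right {V : Subgroup G} {a b : G} (h : Quad V a b) : Quad V a (a * b) := by
  obtain ⟨ha, hb, haa, hbb, hab, hall⟩ := h
  have h1 : a * (a * b) = b := by rw [← mul_assoc, haa, one_mul]
  refine ⟨ha, V.mul_mem ha hb, haa, ?_, ?_, ?_⟩
  · calc a * b * (a * b) = a * b * (b * a) := by rw [hab]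
      _ = a * (b * b) * a := by group
      _ = 1 := by rw [hbb, mul_one, haa]
  · rw [h1, mul_assoc, ← hab, ← mul_assoc, haa, one_mul]
  · intro w hw
    rcases hall w hw with h | h | h | h
    · left; exact h
    · right; left; exact h
    · right; right; right; rw [h1]; exact h
    · right; right; left; exact h

theorem inv_of_sq {a : G} (h : a * a = 1) : a⁻¹ = a := by
  rw [inv_eq_iff_mul_eq_one]; exact h

/-- elements of the two opposite types never commute -/
theorem not_commute {V : Subgroup G} (hS : Cfsg.IsSidkiPair V) {a b x y : G} (hQ : Quad V a b)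
    (hx : Typ a b x) (hy : Typ b a y) : x * y ≠ y * x := by
  intro hc
  obtain ⟨ha, hb, haa, hbb, hab, hall⟩ := hQ
  obtain ⟨hxo, hx1, hxa, hxb⟩ := hx
  obtain ⟨hyo, hy1, hyb, hya⟩ := hy
  have hcomm : Commute x y := hc
  have hzo : Odd (orderOf (x * y)) := by
    have h1 : orderOf (x * y) ∣ orderOf x * orderOf y := by
      have := hcomm.orderOf_mul_dvd_lcm
      exact this.trans (Nat.lcm_dvd_mul _ _)
    exact Odd.of_dvd_nat (hxo.mul hyo) h1
  have hza : a * (x * y) * a⁻¹ = x⁻¹ * y := by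
    calc a * (x * y) * a⁻¹ = (a * x * a⁻¹) * (a * y * a⁻¹) := by group
      _ = x⁻¹ * y := by rw [hxa, hya]
  have hzb : b * (x * y) * b⁻¹ = x * y⁻¹ := by
    calc b * (x * y) * b⁻¹ = (b * x * b⁻¹) * (b * y * b⁻¹) := by group
      _ = x * y⁻¹ := by rw [hxb, hyb]
  have hzab : (a * b) * (x * y) * (a * b)⁻¹ = (x * y)⁻¹ := by
    calc (a * b) * (x * y) * (a * b)⁻¹ = a * (b * (x * y) * b⁻¹) * a⁻¹ := by group
      _ = a * (x * y⁻¹) * a⁻¹ := by rw [hzb]
      _ = (a * x * a⁻¹) * (a * y * a⁻¹)⁻¹ := by group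
      _ = x⁻¹ * y⁻¹ := by rw [hxa, hya]
      _ = (x * y)⁻¹ := by rw [mul_inv_rev, hcomm.inv_inv.eq]
  obtain ⟨w, hwV, hw1, hwz⟩ := hS (x * y) (a * b) (V.mul_mem ha hb) hzo hzab
  have hwz' : w * (x * y) * w⁻¹ = x * y := by rw [hwz]; group
  rcases hall w hwV with h | h | h | h
  · exact hw1 h
  · rw [h, hza] at hwz'
    have : x⁻¹ = x := mul_right_cancel hwz'
    exact hx1 (eq_one_of_inv_eq hxo this)
  · rw [h, hzb] at hwz'
    have : y⁻¹ = y := mul_left_cancel hwz'
    exact hy1 (eq_one_of_inv_eq hyo this)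
  · rw [h, hzab] at hwz'
    have hz1 : x * y = 1 := eq_one_of_inv_eq hzo hwz'
    have hxy : x = y⁻¹ := eq_inv_of_mul_eq_one_left hz1
    have h1 : a * x * a⁻¹ = x := by
      rw [hxy]
      calc a * y⁻¹ * a⁻¹ = (a * y * a⁻¹)⁻¹ := by group
        _ = y⁻¹ := by rw [hya]
    rw [hxa] at h1
    exact hx1 (eq_one_of_inv_eq hxo h1)

theorem typ_sq {a b k : G} (hk : Typ b a k) : Typ b a (k * k) := by
  obtain ⟨hko, hk1, hkb, hka⟩ := hk
  refine ⟨?_, ?_, ?_, ?_⟩
  · rw [← pow_two]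
    exact Odd.of_dvd_nat hko (orderOf_pow_dvd 2)
  · intro h
    exact hk1 (eq_one_of_sq_of_odd hko h)
  · calc b * (k * k) * b⁻¹ = (b * k * b⁻¹) * (b * k * b⁻¹) := by group
      _ = (k * k)⁻¹ := by rw [hkb]; group
  · calc a * (k * k) * a⁻¹ = (a * k * a⁻¹) * (a * k * a⁻¹) := by group
      _ = k * k := by rw [hka]

/-- conjugating by an element of the opposite type changes the type -/
theorem step {V : Subgroup G} (hS : Cfsg.IsSidkiPair V) {a b x k : G} (hQ : Quad V a b)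
    (hx : Typ a b x) (hk : Typ b a k) : Typ a (a * b) (k * x * k⁻¹) ∧ Typ (a * b) a k := by
  have hQ' := hQ
  obtain ⟨ha, hb, haa, hbb, hab, hall⟩ := hQ
  have hx' := hx
  have hk' := hk
  obtain ⟨hxo, hx1, hxa, hxb⟩ := hx
  obtain ⟨hko, hk1, hkb, hka⟩ := hk
  set x' := k * x * k⁻¹ with hx'def
  have hsc : SemiconjBy k x x' := by
    rw [SemiconjBy, hx'def]; group
  have hx'o : Odd (orderOf x') := by rw [← hsc.orderOf_eq]; exact hxo
  have hx'1 : x' ≠ 1 := by
    intro h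
    apply hx1
    have : x = k⁻¹ * x' * k := by rw [hx'def]; group
    rw [this, h]; group
  have hx'a : a * x' * a⁻¹ = x'⁻¹ := by
    calc a * x' * a⁻¹ = (a * k * a⁻¹) * (a * x * a⁻¹) * (a * k * a⁻¹)⁻¹ := by rw [hx'def]; group
      _ = k * x⁻¹ * k⁻¹ := by rw [hka, hxa]
      _ = x'⁻¹ := by rw [hx'def]; group
  have hkab : (a * b) * k * (a * b)⁻¹ = k⁻¹ := by
    calc (a * b) * k * (a * b)⁻¹ = a * (b * k * b⁻¹) * a⁻¹ := by group
      _ = (a * k * a⁻¹)⁻¹ := by rw [hkb]; group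
      _ = k⁻¹ := by rw [hka]
  refine ⟨?_, hko, hk1, hkab, hka⟩
  obtain ⟨w, hwV, hw1, hwx⟩ := hS x' a ha hx'o hx'a
  have hwx' : w * x' * w⁻¹ = x' := by rw [hwx]; group
  rcases hall w hwV with h | h | h | h
  · exact absurd h hw1
  · exfalso
    rw [h, hx'a] at hwx'
    exact hx'1 (eq_one_of_inv_eq hx'o hwx')
  · exfalso
    rw [h] at hwx'
    -- `k² b` centralizes `x'`
    have h1 : (k * b * k⁻¹) * x' * (k * b * k⁻¹)⁻¹ = x' := by
      calc (k * b * k⁻¹) * x' * (k * b * k⁻¹)⁻¹ = k * (b * x * b⁻¹) * k⁻¹ := by rw [hx'def]; group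
        _ = x' := by rw [hxb]
    have h2 : k * b * k⁻¹ = k * k * b := by
      have : b * k⁻¹ * b⁻¹ = k := by
        calc b * k⁻¹ * b⁻¹ = (b * k * b⁻¹)⁻¹ := by group
          _ = k := by rw [hkb, inv_inv]
      calc k * b * k⁻¹ = k * (b * k⁻¹ * b⁻¹) * b := by group
        _ = k * k * b := by rw [this]
    rw [h2] at h1
    have h3 : (k * k) * x' * (k * k)⁻¹ = x' := by
      calc (k * k) * x' * (k * k)⁻¹ = (k * k * b) * (b⁻¹ * x' * b⁻¹⁻¹) * (k * k * b)⁻¹ := by group
        _ = (k * k * b) * x' * (k * k * b)⁻¹ := by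
            have : b⁻¹ * x' * b⁻¹⁻¹ = x' := by
              rw [inv_of_sq hbb]; exact hwx'
            rw [this]
        _ = x' := h1
    have hcomm : x' * (k * k) = (k * k) * x' := by
      calc x' * (k * k) = ((k * k) * x' * (k * k)⁻¹) * (k * k) := by rw [h3]
        _ = (k * k) * x' := by group
    exact not_commute hS hQ' ⟨hx'o, hx'1, hx'a, hwx'⟩ (typ_sq hk') hcomm
  · rw [h] at hwx'
    exact ⟨hx'o, hx'1, hx'a, hwx'⟩

/-- a subgroup of order at most four containing two distinct involutions is a four-group -/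
theorem quad_of_card [Finite G] {V : Subgroup G} (hV : Cfsg.IsElementaryAbelian 2 V) (h4 : Nat.card V ≤ 4)
    {a b : G} (ha : a ∈ V) (hb : b ∈ V) (ha1 : a ≠ 1) (hb1 : b ≠ 1) (hab : a ≠ b) : Quad V a b := by
  have haa : a * a = 1 := by rw [← pow_two]; exact hV.2 a ha
  have hbb : b * b = 1 := by rw [← pow_two]; exact hV.2 b hb
  have hcomm : a * b = b * a := by
    have := hV.1.is_comm.comm (⟨a, ha⟩ : V) ⟨b, hb⟩
    exact congrArg Subtype.val this
  refine ⟨ha, hb, haa, hbb, hcomm, ?_⟩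
  have hsub : ({1, a, b, a * b} : Set G) ⊆ (V : Set G) := by
    intro w hw
    simp only [Set.mem_insert_iff, Set.mem_singleton_iff] at hw
    rcases hw with h | h | h | h
    · rw [h]; exact V.one_mem
    · rw [h]; exact ha
    · rw [h]; exact hb
    · rw [h]; exact V.mul_mem ha hb
  have hab1 : a * b ≠ 1 := by
    intro h
    apply hab
    have : a = b⁻¹ := eq_inv_of_mul_eq_one_left h
    rw [this, inv_of_sq hbb]
  have haba : a * b ≠ a := by
    intro h
    apply hb1
    exact mul_left_cancel (a := a) (by rw [h, mul_one])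
  have habb : a * b ≠ b := by
    intro h
    apply ha1
    exact mul_right_cancel (b := b) (by rw [h, one_mul])
  have hcard : ({1, a, b, a * b} : Set G).ncard = 4 := by
    rw [Set.ncard_insert_of_notMem, Set.ncard_insert_of_notMem, Set.ncard_pair]
    · exact fun h => habb h.symm
    · simp only [Set.mem_insert_iff, Set.mem_singleton_iff, not_or]
      exact ⟨hab, fun h => haba h.symm⟩
    · simp only [Set.mem_insert_iff, Set.mem_singleton_iff, not_or]
      exact ⟨fun h => ha1 h.symm, fun h => hb1 h.symm, fun h => hab1 h.symm⟩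
  have heq : ({1, a, b, a * b} : Set G) = (V : Set G) := by
    apply Set.eq_of_subset_of_ncard_le hsub
    rw [hcard, ← Nat.card_coe_set_eq]
    exact h4
  intro w hw
  have : w ∈ ({1, a, b, a * b} : Set G) := by rw [heq]; exact hw
  simpa only [Set.mem_insert_iff, Set.mem_singleton_iff] using this

end helpers



/-- Let G be a finite group and V a nontrivial elementary abelian 2-subgroup of G of order at most 4 such that, whenever an element of V inverts an element h of G of odd order, some nontrivial element of V commutes with h. Then V meets O₂(G) nontrivially. (The case of order at most 4 has a short argument from the Baer–Suzuki theorem.) -/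
theorem result {G : Type*} [Group G] [Finite G] (V : Subgroup G) (hV : Cfsg.IsElementaryAbelian 2 V) (hV1 : V ≠ ⊥) (hS : Cfsg.IsSidkiPair V) (h4 : Nat.card V ≤ 4) : V ⊓ Cfsg.pCore 2 G ≠ ⊥ := by
  intro hcon
  -- Baer–Suzuki for the nontrivial elements of `V`
  have hBS : ∀ t ∈ V, t ≠ 1 → ∃ h : G, h ≠ 1 ∧ Odd (orderOf h) ∧ t * h * t⁻¹ = h⁻¹ := by
    intro t ht ht1
    apply Cfsg.Agent.S0200.result t (orderOf_eq_prime (hV.2 t ht) ht1)
    intro N hN hN2 htN
    apply ht1
    have h1 : N ≤ Cfsg.pCore 2 G := le_sSup ⟨hN, hN2⟩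
    have h2 : t ∈ V ⊓ Cfsg.pCore 2 G := ⟨ht, h1 htN⟩
    rw [hcon, Subgroup.mem_bot] at h2
    exact h2
  obtain ⟨⟨v₁, hv₁⟩, hv₁1'⟩ := (Subgroup.ne_bot_iff_exists_ne_one).mp hV1
  have hv₁1 : v₁ ≠ 1 := fun h => hv₁1' (Subtype.ext h)
  -- `v₁` inverts `h`, and `w` centralizes it
  obtain ⟨h, hh1, hho, hhv⟩ := hBS v₁ hv₁ hv₁1
  obtain ⟨w, hwV, hw1, hwh⟩ := hS h v₁ hv₁ hho hhv
  have hwh' : w * h * w⁻¹ = h := by rw [hwh]; group
  have hwv : w ≠ v₁ := by
    intro hEq
    rw [hEq, hhv] at hwh'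
    exact hh1 (eq_one_of_inv_eq hho hwh')
  -- `w` inverts `k`, and `u` centralizes it
  obtain ⟨k, hk1, hko, hkw⟩ := hBS w hwV hw1
  obtain ⟨u, huV, hu1, huk⟩ := hS k w hwV hko hkw
  have huk' : u * k * u⁻¹ = k := by rw [huk]; group
  have huw : u ≠ w := by
    intro hEq
    rw [hEq, hkw] at huk'
    exact hk1 (eq_one_of_inv_eq hko huk')
  have hQ : Quad V u w := quad_of_card hV h4 huV hwV hu1 hw1 huw
  -- `u` inverts `h`
  have huh : u * h * u⁻¹ = h⁻¹ := by
    obtain ⟨_, _, huu, hww, huwc, hall⟩ := hQ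
    rcases hall v₁ hv₁ with h0 | h0 | h0 | h0
    · exact absurd h0 hv₁1
    · rw [← h0]; exact hhv
    · exact absurd h0.symm hwv
    · have hu : u = v₁ * w := by
        rw [h0, mul_assoc, hww, mul_one]
      rw [hu]
      calc v₁ * w * h * (v₁ * w)⁻¹ = v₁ * (w * h * w⁻¹) * v₁⁻¹ := by group
        _ = h⁻¹ := by rw [hwh', hhv]
  have hT1 : Typ u w h := ⟨hho, hh1, huh, hwh'⟩
  have hT2 : Typ w u k := ⟨hko, hk1, hkw, huk'⟩
  -- conjugate twice by `k`
  obtain ⟨hA1, hA2⟩ := step hS hQ hT1 hT2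
  obtain ⟨hB1, _⟩ := step hS hQ.swap_right hA1 hA2
  obtain ⟨hC1, _⟩ := step hS hQ hT1 (typ_sq hT2)
  have hEq : k * (k * h * k⁻¹) * k⁻¹ = k * k * h * (k * k)⁻¹ := by group
  rw [hEq] at hB1
  obtain ⟨hxo, hx1, hxa, hxb⟩ := hB1
  obtain ⟨_, _, _, hxc⟩ := hC1
  obtain ⟨_, _, huu, hww, huwc, _⟩ := hQ
  have huuw : u * (u * w) = w := by rw [← mul_assoc, huu, one_mul]
  rw [huuw] at hxb
  set x := k * k * h * (k * k)⁻¹ with hxdef
  -- `u` centralizes and inverts `x`
  have h3 : u * x * u⁻¹ = x := by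
    have hu : u = (u * w) * w := by rw [mul_assoc, hww, mul_one]
    have hw' : w⁻¹ = w := inv_of_sq hww
    calc u * x * u⁻¹ = (u * w) * (w * x * w⁻¹) * (u * w)⁻¹ := by
          rw [mul_inv_rev, hw']
          calc u * x * u⁻¹ = u * (w * w) * x * (w * w) * u⁻¹ := by rw [hww, mul_one, mul_one]
            _ = u * w * (w * x * w) * (w * u⁻¹) := by group
      _ = x := by rw [hxb, hxc]
  rw [hxa] at h3
  exact hx1 (eq_one_of_inv_eq hxo h3)


end Cfsg.Agent.S3011
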