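import Mathlib
import Cfsg.Agent.Lib.Helper6.ElemAb
import Cfsg.Statements.S3012

set_option autoImplicit false
open Cfsg Cfsg.Agent.Lib.Helper6
open scoped commutatorElement

namespace Cfsg.Agent.S3012

/-- Let G be a finite group, V a nontrivial elementary abelian 2-subgroup of G satisfying the Sidki pair condition (every odd-order element inverted by an element of V commutes with a nontrivial element of V), and K a normal subgroup of G with V ∩ K = 1. Then the image of V in G/K satisfies the Sidki pair condition in G/K. -/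
theorem result {G : Type*} [Group G] [Finite G] (V K : Subgroup G) [K.Normal] (hV : Cfsg.IsElementaryAbelian 2 V) (hV1 : V ≠ ⊥) (hS : Cfsg.IsSidkiPair V) (hVK : V ⊓ K = ⊥) : Cfsg.IsSidkiPair (V.map (QuotientGroup.mk' K)) := by
  obtain ⟨hVc, hV2⟩ := isElementaryAbelian_iff_forall.mp hV
  intro hbar vbar hvbar hodd hinv
  obtain ⟨v, hv, rfl⟩ := hvbar
  obtain ⟨h, rfl⟩ := QuotientGroup.mk'_surjective K hbar
  set π := QuotientGroup.mk' K with hπ
  have hvinv : v⁻¹ = v := by
    have := hV2 v hv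
    rw [pow_two] at this
    exact inv_eq_of_mul_eq_one_left this
  set x : G := v * h * v⁻¹ * h⁻¹ with hx
  have hxinv : v * x * v⁻¹ = x⁻¹ := by
    rw [hx, mul_inv_rev, mul_inv_rev, mul_inv_rev, inv_inv, inv_inv, hvinv]
    have : v * (v * h * v * h⁻¹) * v = (v * v) * h * v * h⁻¹ * v := by group
    rw [this]
    have hvv : v * v = 1 := by rw [← pow_two]; exact hV2 v hv
    rw [hvv, one_mul]
    group
  -- odd part of x
  have hpos : 0 < orderOf x := orderOf_pos x
  obtain ⟨a, m, hm, hn⟩ := Nat.exists_eq_pow_mul_and_not_dvd hpos.ne' 2 (by norm_num)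
  set x' : G := x ^ 2 ^ a with hx'
  have hx'o : orderOf x' = m := by
    rw [hx', orderOf_pow' x (pow_ne_zero a (by norm_num)), hn]
    have : Nat.gcd (2 ^ a * m) (2 ^ a) = 2 ^ a := Nat.gcd_eq_right (Dvd.intro _ rfl)
    rw [this]
    exact Nat.mul_div_cancel_left m (pow_pos (by norm_num) a)
  have hx'odd : Odd (orderOf x') := by
    rw [hx'o, ← Nat.not_even_iff_odd, even_iff_two_dvd]; exact hm
  have hx'inv : v * x' * v⁻¹ = x'⁻¹ := by
    rw [hx', ← conj_pow, hxinv, inv_pow]
  obtain ⟨w, hwV, hw1, hwx'⟩ := hS x' v hv hx'odd hx'inv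
  refine ⟨π w, ⟨w, hwV, rfl⟩, ?_, ?_⟩
  · intro h1
    apply hw1
    have hwK : w ∈ K := (QuotientGroup.eq_one_iff w).mp h1
    have : w ∈ V ⊓ K := ⟨hwV, hwK⟩
    rw [hVK, Subgroup.mem_bot] at this
    exact this
  · -- π x = (π h)⁻¹ ^ 2
    have hπx : π x = ((π h) ^ 2)⁻¹ := by
      rw [hx, map_mul, map_mul, map_mul, map_inv, map_inv, hinv, pow_two, mul_inv_rev]
    have hc1 : Commute (π w) (π x') := by
      show π w * π x' = π x' * π w
      rw [← map_mul, ← map_mul, hwx']
    have hc2 : Commute (π w) ((π h) ^ (2 ^ (a + 1))) := by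
      have e : π x' = (((π h) ^ (2 ^ (a + 1))))⁻¹ := by
        rw [hx', map_pow, hπx, inv_pow, ← pow_mul, pow_succ']
      rw [e] at hc1
      exact (Commute.inv_right_iff.mp hc1)
    have hcop : Nat.Coprime (2 ^ (a + 1)) (orderOf (π h)) := by
      apply Nat.Coprime.pow_left
      rw [Nat.coprime_comm]
      exact Nat.Coprime.symm (Nat.coprime_two_left.mpr hodd)
    obtain ⟨j, hj⟩ := exists_pow_eq_self_of_coprime hcop
    have hc3 : Commute (π w) (π h) := by
      rw [← hj]; exact hc2.pow_right j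
    exact hc3.eq

end Cfsg.Agent.S3012
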