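import Mathlib
import Cfsg.Agent.Lib.Helper6.ElemAb
import Cfsg.Statements.S3013

set_option autoImplicit false
open Cfsg Cfsg.Agent.Lib.Helper6
open scoped commutatorElement

namespace Cfsg.Agent.S3013

/-- Let G be a finite group and V a nontrivial elementary abelian 2-subgroup of G satisfying the Sidki pair condition. Let v ∈ V and let x be an element of odd order inverted by v, and put C = C_G(v) ∩ C_G(x), the centralizer of the dihedral subgroup generated by v and x. Then C ∩ V is nontrivial and satisfies the Sidki pair condition inside C: every odd-order element of C inverted by an element of C ∩ V commutes with a nontrivial element of C ∩ V. -/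
theorem result {G : Type*} [Group G] [Finite G] (V : Subgroup G) (hV : Cfsg.IsElementaryAbelian 2 V) (hV1 : V ≠ ⊥) (hS : Cfsg.IsSidkiPair V) (v x : G) (hv : v ∈ V) (hx : Odd (orderOf x)) (hinv : v * x * v⁻¹ = x⁻¹) (C : Subgroup G) (hC : C = Subgroup.centralizer ({v} : Set G) ⊓ Subgroup.centralizer ({x} : Set G)) : C ⊓ V ≠ ⊥ ∧ Cfsg.IsSidkiPair ((C ⊓ V).subgroupOf C) := by
  obtain ⟨hVc, hV2⟩ := isElementaryAbelian_iff_forall.mp hV
  -- commuting with a square of an odd-order element
  have sq : ∀ (w a : G), Odd (orderOf a) → Commute w (a ^ 2) → Commute w a := by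
    intro w a ha hc
    obtain ⟨k, hk⟩ := ha
    have h1 : (a ^ 2) ^ (k + 1) = a := by
      rw [← pow_mul]
      have : 2 * (k + 1) = orderOf a + 1 := by omega
      rw [this, pow_succ, pow_orderOf_eq_one, one_mul]
    rw [← h1]
    exact hc.pow_right _
  have key : ∀ (h u : G), u ∈ V → Commute u v → Commute u x → Commute h v → Commute h x →
      Odd (orderOf h) → u * h * u⁻¹ = h⁻¹ →
      ∃ w ∈ V, w ≠ 1 ∧ Commute w v ∧ Commute w x ∧ Commute w h := by
    intro h u huV huv hux hhv hhx hho huh
    have hyodd : Odd (orderOf (h * x)) := by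
      have h1 : orderOf (h * x) ∣ Nat.lcm (orderOf h) (orderOf x) := hhx.orderOf_mul_dvd_lcm
      have h2 : Odd (Nat.lcm (orderOf h) (orderOf x)) := by
        rw [← Nat.not_even_iff_odd, even_iff_two_dvd]
        intro h2
        have hp2 : Nat.Prime 2 := Nat.prime_two
        have : (2 : ℕ) ∣ orderOf h * orderOf x := h2.trans (Nat.lcm_dvd_mul _ _)
        rcases (hp2.dvd_mul).mp this with h3 | h3
        · exact (Nat.not_even_iff_odd.mpr hho) (even_iff_two_dvd.mpr h3)
        · exact (Nat.not_even_iff_odd.mpr hx) (even_iff_two_dvd.mpr h3)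
      exact Odd.of_dvd_nat h2 h1
    have hvinv : v⁻¹ = v := by
      have := hV2 v hv
      rw [pow_two] at this
      exact inv_eq_of_mul_eq_one_left this
    have htinv : (u * v) * (h * x) * (u * v)⁻¹ = (h * x)⁻¹ := by
      have e1 : (u * v) * (h * x) * (u * v)⁻¹ = u * (v * h * v⁻¹) * (v * x * v⁻¹) * u⁻¹ := by group
      have e2 : v * h * v⁻¹ = h := by rw [← hhv.eq]; group
      rw [e1, e2, hinv]
      have e3 : u * h * x⁻¹ * u⁻¹ = (u * h * u⁻¹) * (u * x⁻¹ * u⁻¹) := by group
      have e4 : u * x⁻¹ * u⁻¹ = x⁻¹ := by rw [hux.inv_right.eq]; group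
      rw [e3, huh, e4, mul_inv_rev, hhx.inv_inv.eq]
    obtain ⟨w, hwV, hw1, hwy⟩ := hS (h * x) (u * v) (V.mul_mem huV hv) hyodd htinv
    have hwv : Commute w v := hVc w hwV v hv
    have hwy' : Commute w (h * x) := hwy
    -- conjugate by v
    have hwy2 : Commute w (h * x⁻¹) := by
      have e : h * x⁻¹ = v * (h * x) * v⁻¹ := by
        have e2 : v * h * v⁻¹ = h := by rw [← hhv.eq]; group
        have : v * (h * x) * v⁻¹ = (v * h * v⁻¹) * (v * x * v⁻¹) := by group
        rw [this, e2, hinv]
      rw [e]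
      exact (hwv.mul_right hwy').mul_right hwv.inv_right
    have hwh2 : Commute w (h ^ 2) := by
      have e : h ^ 2 = (h * x) * (h * x⁻¹) := by
        rw [pow_two, mul_assoc, ← mul_assoc x h, ← hhx.eq]; group
      rw [e]; exact hwy'.mul_right hwy2
    have hwx2 : Commute w (x ^ 2) := by
      have e : x ^ 2 = (h * x⁻¹)⁻¹ * (h * x) := by
        rw [pow_two, mul_inv_rev, inv_inv]; group
      rw [e]; exact hwy2.inv_right.mul_right hwy'
    exact ⟨w, hwV, hw1, hwv, sq w x hx hwx2, sq w h hho hwh2⟩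
  have hmemC : ∀ w : G, Commute w v → Commute w x → w ∈ C := by
    intro w h1 h2
    rw [hC]
    exact ⟨Subgroup.mem_centralizer_singleton_iff.mpr h1.eq,
      Subgroup.mem_centralizer_singleton_iff.mpr h2.eq⟩
  have hCcomm : ∀ w : G, w ∈ C → Commute w v ∧ Commute w x := by
    intro w hw
    rw [hC] at hw
    exact ⟨Subgroup.mem_centralizer_singleton_iff.mp hw.1,
      Subgroup.mem_centralizer_singleton_iff.mp hw.2⟩
  constructor
  · obtain ⟨w, hwV, hw1, hwx⟩ := hS x v hv hx hinv
    intro hbot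
    apply hw1
    have : w ∈ C ⊓ V := ⟨hmemC w (hVc w hwV v hv) hwx, hwV⟩
    rw [hbot, Subgroup.mem_bot] at this
    exact this
  · intro h u hu hho huh
    rw [Subgroup.mem_subgroupOf] at hu
    have h1 := hCcomm (u : G) u.2
    have h2 := hCcomm (h : G) h.2
    have hho' : Odd (orderOf (h : G)) := by rwa [Subgroup.orderOf_coe]
    have huh' : (u : G) * (h : G) * (u : G)⁻¹ = (h : G)⁻¹ := by
      have := congrArg Subtype.val huh
      simpa using this
    obtain ⟨w, hwV, hw1, hwv, hwx, hwh⟩ := key (h : G) (u : G) hu.2 h1.1 h1.2 h2.1 h2.2 hho' huh'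
    have hwC : w ∈ C := hmemC w hwv hwx
    refine ⟨⟨w, hwC⟩, ?_, ?_, ?_⟩
    · rw [Subgroup.mem_subgroupOf]; exact ⟨hwC, hwV⟩
    · intro h0; exact hw1 (congrArg Subtype.val h0)
    · exact Subtype.ext hwh.eq

end Cfsg.Agent.S3013
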