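import Mathlib
import Cfsg.Agent.Lib.Helper6.Conj2
import Cfsg.Statements.S3014

set_option autoImplicit false
open Cfsg

namespace Cfsg.Agent.S3014

open MulAction Function
open Cfsg.Agent.Lib.Helper6

section helpers
variable {G : Type*} [Group G]

/-- transfer of an element of `M` all of whose "outer" contributions vanish -/
theorem transfer_eq_self [Finite G] (M : Subgroup G) {A : Type*} [CommGroup A] (ϕ : M →* A)
    (m : G) (hm : m ∈ M)
    (key : ∀ (n : ℕ) (k : G), k ∉ M → ∀ hk : k⁻¹ * m ^ n * k ∈ M, ϕ ⟨k⁻¹ * m ^ n * k, hk⟩ = 1) :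
    MonoidHom.transfer ϕ m = ϕ ⟨m, hm⟩ := by
  classical
  letI : Fintype (Quotient (orbitRel (Subgroup.zpowers m) (G ⧸ M))) := Fintype.ofFinite _
  rw [MonoidHom.transfer_eq_prod_quotient_orbitRel_zpowers_quot]
  set q₀ : Quotient (orbitRel (Subgroup.zpowers m) (G ⧸ M)) := Quotient.mk'' ((1 : G) : G ⧸ M) with hq₀
  -- the trivial coset is fixed by `zpowers m`
  have hfix : ∀ g ∈ Subgroup.zpowers m, g • ((1 : G) : G ⧸ M) = ((1 : G) : G ⧸ M) := by
    intro g hg
    have hgM : g ∈ M := (Subgroup.zpowers_le.2 hm) hg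
    rw [MulAction.Quotient.smul_mk, QuotientGroup.eq]
    simpa using M.inv_mem hgM
  have hout₀ : q₀.out = ((1 : G) : G ⧸ M) := by
    have h1 := Quotient.mk_out (s := orbitRel (Subgroup.zpowers m) (G ⧸ M)) ((1 : G) : G ⧸ M)
    have h2 : q₀.out ∈ orbit (Subgroup.zpowers m) ((1 : G) : G ⧸ M) := h1
    obtain ⟨g, hg⟩ := h2
    rw [← hg]
    exact hfix g.1 g.2
  rw [Finset.prod_eq_single q₀]
  · -- the main term
    have hk : q₀.out.out ∈ M := by
      have : ((q₀.out.out : G) : G ⧸ M) = ((1 : G) : G ⧸ M) := by rw [QuotientGroup.out_eq', hout₀]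
      rw [QuotientGroup.eq] at this
      simpa using this
    have hper : minimalPeriod (m • ·) q₀.out = 1 := by
      rw [Function.minimalPeriod_eq_one_iff_isFixedPt, hout₀]
      exact hfix m (Subgroup.mem_zpowers m)
    have : (⟨q₀.out.out⁻¹ * m ^ minimalPeriod (m • ·) q₀.out * q₀.out.out,
        QuotientGroup.out_conj_pow_minimalPeriod_mem M m q₀.out⟩ : M)
        = (⟨q₀.out.out, hk⟩ : M)⁻¹ * ⟨m, hm⟩ * ⟨q₀.out.out, hk⟩ := by
      apply Subtype.ext
      simp only [Subgroup.coe_mul, Subgroup.coe_inv]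
      rw [hper, pow_one]
    rw [this, map_mul, map_mul, map_inv, mul_comm, mul_inv_cancel_left]
  · intro q _ hq
    apply key
    intro hk
    apply hq
    have h1 : q.out = ((1 : G) : G ⧸ M) := by
      rw [← QuotientGroup.out_eq' q.out, QuotientGroup.eq]
      simpa using M.inv_mem hk
    rw [hq₀, ← Quotient.out_eq q, h1]
  · intro h; exact absurd (Finset.mem_univ _) h



open Cfsg.Agent.Lib.Helper6

/-- a quotient by a normal coatom is cyclic -/
lemma isCyclic_quotient_of_isCoatom {M : Type*} [Group M] (H' : Subgroup M) [H'.Normal]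
    (h : IsCoatom H') : IsCyclic (M ⧸ H') := by
  obtain ⟨m, hm⟩ : ∃ m : M, m ∉ H' := by
    by_contra hall
    push Not at hall
    exact h.1 ((Subgroup.eq_top_iff' H').2 hall)
  refine ⟨⟨QuotientGroup.mk' H' m, ?_⟩⟩
  have h1 : (Subgroup.zpowers (QuotientGroup.mk' H' m)).comap (QuotientGroup.mk' H') = ⊤ := by
    apply h.2
    refine lt_of_le_of_ne ?_ ?_
    · intro x hx
      rw [Subgroup.mem_comap]
      have : QuotientGroup.mk' H' x = 1 := (QuotientGroup.eq_one_iff x).2 hx
      rw [this]
      exact Subgroup.one_mem _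
    · intro heq
      apply hm
      rw [heq, Subgroup.mem_comap]
      exact Subgroup.mem_zpowers _
  intro y
  obtain ⟨x, rfl⟩ := QuotientGroup.mk'_surjective H' y
  have : x ∈ (Subgroup.zpowers (QuotientGroup.mk' H' m)).comap (QuotientGroup.mk' H') := by
    rw [h1]; exact Subgroup.mem_top x
  exact this

end helpers


/-- Let G be a finite group and H ≤ M ≤ G subgroups such that for every g ∈ G the subgroup generated by H and g H g⁻¹ meets M exactly in H. If H is a maximal subgroup of M and M is a maximal subgroup of G, then the normal closure of H in G meets M exactly in H. -/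
theorem result {G : Type*} [Group G] [Finite G] (H M : Subgroup G) (hHM : H ≤ M) (hcl : ∀ g : G, (H ⊔ H.map (MulAut.conj g).toMonoidHom) ⊓ M = H) (hmaxH : IsCoatom (H.subgroupOf M)) (hmaxM : IsCoatom M) : Subgroup.normalClosure (H : Set G) ⊓ M = H := by
  classical
  set N := Subgroup.normalClosure (H : Set G) with hN
  have hHN : H ≤ N := Subgroup.le_normalClosure
  have dich : ∀ X : Subgroup G, H ≤ X → X ⊓ M = H ∨ M ≤ X := by
    intro X hHX
    have hle : H.subgroupOf M ≤ (X ⊓ M).subgroupOf M :=
      Subgroup.subgroupOf_mono M (le_inf hHX hHM)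
    rcases eq_or_lt_of_le hle with heq | hlt
    · left
      rw [Subgroup.subgroupOf_inj, inf_of_le_left hHM, inf_assoc, inf_idem] at heq
      exact heq.symm
    · right
      have := hmaxH.2 _ hlt
      rw [Subgroup.subgroupOf_eq_top] at this
      exact this.trans inf_le_left
  have dich2 : ∀ X : Subgroup G, M ≤ X → X = M ∨ X = ⊤ := by
    intro X hMX
    rcases eq_or_lt_of_le hMX with heq | hlt
    · left; exact heq.symm
    · right; exact hmaxM.2 _ hlt
  have hHneM : H ≠ M := by
    intro h
    apply hmaxH.1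
    rw [Subgroup.subgroupOf_eq_top, h]
  -- conjugates of `H` inside `M` are equal to `H`
  have hconj : ∀ g : G, H.map (MulAut.conj g).toMonoidHom ≤ M → H.map (MulAut.conj g).toMonoidHom ≤ H := by
    intro g hg
    have h1 : H ⊔ H.map (MulAut.conj g).toMonoidHom ≤ M := sup_le hHM hg
    have h2 := hcl g
    rw [inf_of_le_left h1] at h2
    exact le_sup_right.trans h2.le
  have hMnorm : M ≤ Subgroup.normalizer (H : Set G) := by
    intro g hg
    apply mem_normalizer_of_map_conj_le
    apply hconj
    rintro _ ⟨h, hh, rfl⟩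
    simp only [MulEquiv.coe_toMonoidHom, MulAut.conj_apply]
    exact M.mul_mem (M.mul_mem hg (hHM hh)) (M.inv_mem hg)
  have hnormal_of : (∀ g : G, H.map (MulAut.conj g).toMonoidHom ≤ H) → H.Normal := by
    intro h
    constructor
    intro x hx g
    apply h g
    exact ⟨x, hx, rfl⟩
  by_contra hne
  have hMN : M ≤ N := by
    rcases dich N hHN with h | h
    · exact absurd h hne
    · exact h
  have hMtop : M ≠ ⊤ := hmaxM.1
  have hHnn : ¬ H.Normal := by
    intro hn
    have h1 : N ≤ H := Subgroup.normalClosure_le_normal (show (H : Set G) ⊆ H from le_refl _)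
    exact hHneM (le_antisymm hHM (hMN.trans h1))
  have hNtop : N = ⊤ := by
    rcases dich2 N hMN with h | h
    · exfalso
      apply hHnn
      apply hnormal_of
      intro g
      apply hconj
      rw [← h]
      rintro _ ⟨x, hx, rfl⟩
      exact (Subgroup.normalClosure_normal (s := (H : Set G))).conj_mem x (hHN hx) g
    · exact h
  -- the key dichotomy
  have hI : ∀ g : G, g ∉ M → M ⊓ M.map (MulAut.conj g).toMonoidHom ≤ H := by
    intro g hg
    set K := H ⊔ H.map (MulAut.conj g).toMonoidHom with hK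
    set I := M ⊓ M.map (MulAut.conj g).toMonoidHom with hI
    have hIK : I ≤ Subgroup.normalizer (K : Set G) := by
      intro x hx
      obtain ⟨hx1, hx2⟩ := Subgroup.mem_inf.1 hx
      apply mem_normalizer_of_map_conj_le
      rw [hK, Subgroup.map_sup]
      apply sup_le_sup
      · exact (map_conj_eq_self_of_mem_normalizer (hMnorm hx1)).le
      · rw [map_conj_map_conj]
        have h3 : g⁻¹ * x * g ∈ M := mem_map_conj.1 hx2
        have h4 := map_conj_eq_self_of_mem_normalizer (hMnorm h3)
        have h5 : x * g = g * (g⁻¹ * x * g) := by group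
        rw [h5, ← map_conj_map_conj, h4]
    rcases dich (I ⊔ K) (le_sup_of_le_right le_sup_left) with h | h
    · rw [← h]
      exact le_inf le_sup_left inf_le_left
    · exfalso
      rcases dich2 _ h with h2 | h2
      · have hKM : K ≤ M := by rw [← h2]; exact le_sup_right
        have h3 := hconj g (le_sup_right.trans hKM)
        have hgn : g ∈ Subgroup.normalizer (H : Set G) := mem_normalizer_of_map_conj_le h3
        have h4 : Subgroup.normalizer (H : Set G) = ⊤ := by
          apply hmaxM.2
          exact lt_of_le_of_ne hMnorm (fun heq => hg (heq ▸ hgn))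
        exact hHnn (Subgroup.normalizer_eq_top_iff.1 h4)
      · have hKn : K.Normal := by
          rw [← Subgroup.normalizer_eq_top_iff, eq_top_iff, ← h2]
          exact sup_le hIK Subgroup.le_normalizer
        have h3 : N ≤ K := Subgroup.normalClosure_le_normal (show (H : Set G) ⊆ K from (le_sup_left : H ≤ K))
        have h4 : K = ⊤ := by rw [eq_top_iff, ← hNtop]; exact h3
        have h5 := hcl g
        rw [← hK, h4, top_inf_eq] at h5
        exact hHneM h5.symm
  haveI hH'n : (H.subgroupOf M).Normal :=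
    (Subgroup.normal_subgroupOf_iff_le_normalizer hHM).2 hMnorm
  haveI := isCyclic_quotient_of_isCoatom (H.subgroupOf M) hmaxH
  letI : CommGroup (↥M ⧸ H.subgroupOf M) := IsCyclic.commGroup
  let ϕ : ↥M →* ↥M ⧸ H.subgroupOf M := QuotientGroup.mk' (H.subgroupOf M)
  have hϕ : ∀ (x : G) (hx : x ∈ M), ϕ ⟨x, hx⟩ = 1 ↔ x ∈ H := by
    intro x hx
    show QuotientGroup.mk' (H.subgroupOf M) ⟨x, hx⟩ = 1 ↔ _
    rw [QuotientGroup.mk'_apply, QuotientGroup.eq_one_iff, Subgroup.mem_subgroupOf]
  have hV : ∀ (m : G) (hm : m ∈ M), MonoidHom.transfer ϕ m = ϕ ⟨m, hm⟩ := by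
    intro m hm
    apply transfer_eq_self M ϕ m hm
    intro n k hk hmem
    rw [hϕ]
    apply hI k⁻¹ (fun h => hk (by simpa using M.inv_mem h))
    refine Subgroup.mem_inf.2 ⟨hmem, ?_⟩
    rw [mem_map_conj]
    have : k⁻¹⁻¹ * (k⁻¹ * m ^ n * k) * k⁻¹ = m ^ n := by group
    rw [this]
    exact M.pow_mem hm n
  have hker : N ≤ (MonoidHom.transfer ϕ).ker := by
    apply Subgroup.normalClosure_le_normal
    intro h hh
    rw [SetLike.mem_coe, MonoidHom.mem_ker, hV h (hHM hh), hϕ]
    exact hh
  obtain ⟨m, hmM, hmH⟩ : ∃ m ∈ M, m ∉ H := by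
    by_contra hall
    push Not at hall
    exact hHneM (le_antisymm hHM hall)
  have h1 : m ∈ (MonoidHom.transfer ϕ).ker := hker (by rw [hNtop]; exact Subgroup.mem_top m)
  rw [MonoidHom.mem_ker, hV m hmM, hϕ] at h1
  exact hmH h1

end Cfsg.Agent.S3014
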