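import Mathlib
import Cfsg.Agent.Lib.Helper6.Conj2
import Cfsg.Agent.S3014
import Cfsg.Statements.S3015

set_option autoImplicit false
open Cfsg

namespace Cfsg.Agent.S3015

open Cfsg.Agent.Lib.Helper6

section helpers
variable {G : Type*} [Group G]

theorem isCoatom_of_relIndex_prime' [Finite G] {U B : Subgroup G} (hidx : (B.relIndex U).Prime) :
    IsCoatom (B.subgroupOf U) := by
  have hp := hidx
  constructor
  · intro htop
    have : B.relIndex U = 1 := by
      rw [Subgroup.relIndex, htop, Subgroup.index_top]
    rw [this] at hp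
    exact Nat.not_prime_one hp
  · intro C hC
    have h1 : C.index ∣ (B.subgroupOf U).index := Subgroup.index_dvd_of_le hC.le
    rcases (Nat.dvd_prime hp).mp h1 with h3 | h3
    · exact Subgroup.index_eq_one.mp h3
    · exfalso
      have hc1 := Subgroup.card_mul_index C
      have hc2 := Subgroup.card_mul_index (B.subgroupOf U)
      rw [h3] at hc1
      have : Nat.card C = Nat.card (B.subgroupOf U) := by
        have := hc1.trans hc2.symm
        exact Nat.eq_of_mul_eq_mul_right hp.pos this
      exact hC.ne (Subgroup.eq_of_le_of_card_ge hC.le this.le)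

/-- a nonabelian simple group has no maximal subgroup of prime order -/
lemma no_prime_order_coatom [Finite G] [IsSimpleGroup G] (hG : ¬ IsMulCommutative G) (M : Subgroup G)
    (hmaxM : IsCoatom M) (hq : (Nat.card M).Prime) : False := by
  set q := Nat.card M with hqdef
  haveI : Fact q.Prime := ⟨hq⟩
  have hMp : IsPGroup q M := IsPGroup.of_card (n := 1) (by rw [pow_one])
  -- `M` is a Sylow subgroup
  obtain ⟨P, hMP⟩ := hMp.exists_le_sylow
  have hPM : (P : Subgroup G) = M := by
    rcases eq_or_lt_of_le hMP with h | h
    · exact h.symm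
    · exfalso
      have htop := hmaxM.2 _ h
      have hGp : IsPGroup q G := by
        have := P.isPGroup'
        rw [htop] at this
        exact IsPGroup.of_equiv this Subgroup.topEquiv
      haveI : Nontrivial G := IsSimpleGroup.toNontrivial
      haveI := hGp.center_nontrivial
      have hc : Subgroup.center G = ⊤ := by
        rcases (inferInstance : (Subgroup.center G).Normal).eq_bot_or_eq_top with h0 | h0
        · exact absurd h0 ((Subgroup.nontrivial_iff_ne_bot _).1 inferInstance)
        · exact h0
      exact hG (Subgroup.center_eq_top_iff.1 hc)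
  have hMne : M ≠ ⊥ := by
    intro h0
    rw [hqdef, h0, Subgroup.card_bot] at hq
    exact Nat.not_prime_one hq
  have hnorm : Subgroup.normalizer ((P : Subgroup G) : Set G) = P := by
    rw [hPM]
    rcases eq_or_lt_of_le (Subgroup.le_normalizer (H := M)) with h | h
    · exact h.symm
    · exfalso
      have htop := hmaxM.2 _ h
      have hMn : M.Normal := Subgroup.normalizer_eq_top_iff.1 htop
      rcases hMn.eq_bot_or_eq_top with h0 | h0
      · exact hMne h0
      · exact hmaxM.1 h0
  haveI : IsCyclic M := isCyclic_of_prime_card rfl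
  have hcomm : IsMulCommutative (P : Subgroup G) := by
    rw [hPM]
    exact ⟨⟨fun a b => by
      obtain ⟨g, hg⟩ := (inferInstance : IsCyclic M).exists_generator
      obtain ⟨i, rfl⟩ := Subgroup.mem_zpowers_iff.1 (hg a)
      obtain ⟨j, rfl⟩ := Subgroup.mem_zpowers_iff.1 (hg b)
      rw [← zpow_add, ← zpow_add, add_comm]⟩⟩
  have hNC : Subgroup.normalizer ((P : Subgroup G) : Set G) ≤ Subgroup.centralizer ((P : Subgroup G) : Set G) := by
    rw [hnorm]
    exact Subgroup.le_centralizer_iff_isMulCommutative.2 hcomm
  have hcompl := MonoidHom.ker_transferSylow_isComplement' P hNC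
  rcases (inferInstance : (MonoidHom.transferSylow P hNC).ker.Normal).eq_bot_or_eq_top with h0 | h0
  · rw [h0] at hcompl
    have := Subgroup.isComplement'_bot_left.1 hcompl
    rw [hPM] at this
    exact hmaxM.1 this
  · rw [h0] at hcompl
    have := Subgroup.isComplement'_top_left.1 hcompl
    rw [hPM] at this
    exact hMne this



end helpers


/-- Let G be a finite non-abelian simple group, M a maximal subgroup of G and H a normal subgroup of M of prime index in M. Then G is generated by H together with one of its conjugates. -/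
theorem result {G : Type*} [Group G] [Finite G] [IsSimpleGroup G] (hG : ¬ IsMulCommutative G) (M H : Subgroup G) (hmaxM : IsCoatom M) (hHM : H ≤ M) (hHn : (H.subgroupOf M).Normal) (hidx : (H.relIndex M).Prime) : ∃ g : G, H ⊔ H.map (MulAut.conj g).toMonoidHom = ⊤ := by
  classical
  by_contra hno
  push Not at hno
  set q := H.relIndex M with hq
  have hcoH : IsCoatom (H.subgroupOf M) := isCoatom_of_relIndex_prime' hidx
  have hMnorm : M ≤ Subgroup.normalizer (H : Set G) :=
    (Subgroup.normal_subgroupOf_iff_le_normalizer hHM).1 hHn
  have hMtop : M ≠ ⊤ := hmaxM.1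
  have hHneM : H ≠ M := by
    intro h
    apply hcoH.1
    rw [Subgroup.subgroupOf_eq_top, h]
  have hH1 : H ≠ ⊥ := by
    intro h0
    apply no_prime_order_coatom hG M hmaxM
    rw [hq, h0, Subgroup.relIndex_bot_left] at hidx
    exact hidx
  have hM1 : M ≠ ⊥ := fun h0 => hH1 (le_bot_iff.1 (h0 ▸ hHM))
  have simple_normal : ∀ X : Subgroup G, X.Normal → X = ⊥ ∨ X = ⊤ :=
    fun X hX => hX.eq_bot_or_eq_top
  have hNM : Subgroup.normalizer (M : Set G) = M := by
    rcases eq_or_lt_of_le (Subgroup.le_normalizer (H := M)) with h | h
    · exact h.symm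
    · exfalso
      have htop := hmaxM.2 _ h
      rcases simple_normal M (Subgroup.normalizer_eq_top_iff.1 htop) with h0 | h0
      · exact hM1 h0
      · exact hMtop h0
  have hconjM : ∀ g : G, g ∉ M → ¬ M.map (MulAut.conj g).toMonoidHom ≤ M := by
    intro g hg hle
    apply hg
    rw [← hNM]
    exact mem_normalizer_of_map_conj_le hle
  -- elements of `M` of order prime to `q` lie in `H`
  have hinH : ∀ z ∈ M, (orderOf z).Coprime q → z ∈ H := by
    intro z hz hcop
    have h1 : (QuotientGroup.mk' (H.subgroupOf M) ⟨z, hz⟩) ^ q = 1 := by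
      have : Nat.card (↥M ⧸ H.subgroupOf M) = q := by
        rw [hq, Subgroup.relIndex, Subgroup.index_eq_card]
      rw [← this]
      exact pow_card_eq_one'
    have h2 : (QuotientGroup.mk' (H.subgroupOf M) ⟨z, hz⟩) ^ orderOf z = 1 := by
      rw [← map_pow]
      have : (⟨z, hz⟩ : ↥M) ^ orderOf z = 1 := by
        apply Subtype.ext
        simp [pow_orderOf_eq_one]
      rw [this, map_one]
    have h3 : orderOf (QuotientGroup.mk' (H.subgroupOf M) ⟨z, hz⟩) ∣ Nat.gcd (orderOf z) q :=
      Nat.dvd_gcd (orderOf_dvd_of_pow_eq_one h2) (orderOf_dvd_of_pow_eq_one h1)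
    rw [hcop, Nat.dvd_one, orderOf_eq_one_iff, QuotientGroup.mk'_apply,
      QuotientGroup.eq_one_iff, Subgroup.mem_subgroupOf] at h3
    exact h3
  have hcore : M.normalCore = ⊥ := by
    rcases simple_normal _ (Subgroup.normalCore_normal M) with h0 | h0
    · exact h0
    · exact absurd (top_le_iff.1 (h0 ▸ Subgroup.normalCore_le M)) hMtop
  -- the bad case does not occur
  have hbad : ∀ g : G, g ∉ M → ¬ H.map (MulAut.conj g).toMonoidHom ≤ M := by
    intro g hg hle
    have hclos : Subgroup.closure ((M : Set G) ∪ {g}) = ⊤ := by
      apply hmaxM.2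
      refine lt_of_le_of_ne ?_ ?_
      · intro m hm
        exact Subgroup.subset_closure (Set.mem_union_left _ hm)
      · intro heq
        apply hg
        rw [heq]
        exact Subgroup.subset_closure (Set.mem_union_right _ rfl)
    have hcop : ∀ y ∈ M, (orderOf y).Coprime q → y = 1 := by
      intro y hy hyq
      have hstep : ∀ x : G, x * y * x⁻¹ ∈ M → g * x * y * (g * x)⁻¹ ∈ M := by
        intro x hx
        have ho : orderOf (x * y * x⁻¹) = orderOf y := by
          have := MulEquiv.orderOf_eq (MulAut.conj x) y
          simpa using this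
        have h1 : x * y * x⁻¹ ∈ H := hinH _ hx (ho ▸ hyq)
        have h2 : g * (x * y * x⁻¹) * g⁻¹ ∈ H.map (MulAut.conj g).toMonoidHom :=
          ⟨_, h1, by simp [MulAut.conj_apply]⟩
        have h3 := hle h2
        have : g * x * y * (g * x)⁻¹ = g * (x * y * x⁻¹) * g⁻¹ := by group
        rw [this]; exact h3
      have hpow : ∀ (k : ℕ) (x : G), x * y * x⁻¹ ∈ M → g ^ k * x * y * (g ^ k * x)⁻¹ ∈ M := by
        intro k
        induction k with
        | zero => intro x hx; simpa using hx
        | succ k ih =>
          intro x hx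
          have := hstep _ (ih x hx)
          have e : g * (g ^ k * x) = g ^ (k + 1) * x := by rw [pow_succ']; group
          rw [e] at this
          exact this
      have hall : ∀ x : G, x * y * x⁻¹ ∈ M := by
        intro x
        have hx : x ∈ Subgroup.closure ((M : Set G) ∪ {g}) := by rw [hclos]; exact Subgroup.mem_top x
        induction hx using Subgroup.closure_induction_left with
        | one => simpa using hy
        | mul_left s hs z hz ih =>
          rcases hs with hs | hs
          · have : s * z * y * (s * z)⁻¹ = s * (z * y * z⁻¹) * s⁻¹ := by group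
            rw [this]
            exact M.mul_mem (M.mul_mem hs ih) (M.inv_mem hs)
          · rw [Set.mem_singleton_iff] at hs
            rw [hs]
            exact hstep z ih
        | inv_mul_cancel s hs z hz ih =>
          rcases hs with hs | hs
          · have : s⁻¹ * z * y * (s⁻¹ * z)⁻¹ = s⁻¹ * (z * y * z⁻¹) * s := by group
            rw [this]
            exact M.mul_mem (M.mul_mem (M.inv_mem hs) ih) hs
          · rw [Set.mem_singleton_iff] at hs
            rw [hs]
            have hinv : g⁻¹ = g ^ (orderOf g - 1) := by
              apply inv_eq_of_mul_eq_one_left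
              rw [← pow_succ, Nat.sub_add_cancel (orderOf_pos g), pow_orderOf_eq_one]
            rw [hinv]
            exact hpow _ z ih
      have : y ∈ M.normalCore := hall
      rw [hcore, Subgroup.mem_bot] at this
      exact this
    -- `M` is a `q`-group
    have hcardM : ∃ k : ℕ, Nat.card M = q ^ k := by
      refine ⟨_, Nat.eq_prime_pow_of_unique_prime_dvd Nat.card_pos.ne' ?_⟩
      intro r hr hrM
      by_contra hrq
      haveI : Fact r.Prime := ⟨hr⟩
      obtain ⟨⟨y, hyM⟩, hy⟩ := exists_prime_orderOf_dvd_card' r hrM
      rw [Subgroup.orderOf_mk] at hy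
      have := hcop y hyM (by rw [hy]; exact (Nat.coprime_primes hr hidx).2 hrq)
      rw [this, orderOf_one] at hy
      exact hr.one_lt.ne hy
    obtain ⟨k, hk⟩ := hcardM
    have hk0 : k ≠ 0 := by
      rintro rfl
      rw [pow_zero] at hk
      exact hM1 (Subgroup.card_eq_one.1 hk)
    set H' := H.map (MulAut.conj g).toMonoidHom with hH'
    have hidx' : (H'.subgroupOf M).index = q := by
      have h1 := Subgroup.card_mul_index (H'.subgroupOf M)
      have h2 := Subgroup.card_mul_index (H.subgroupOf M)
      have c1 : Nat.card (H'.subgroupOf M) = Nat.card H := by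
        rw [Nat.card_congr (Subgroup.subgroupOfEquivOfLe hle).toEquiv, hH', card_map_conj]
      have c2 : Nat.card (H.subgroupOf M) = Nat.card H :=
        Nat.card_congr (Subgroup.subgroupOfEquivOfLe hHM).toEquiv
      rw [c1] at h1
      rw [c2] at h2
      have : Nat.card H * (H'.subgroupOf M).index = Nat.card H * (H.subgroupOf M).index := by
        rw [h1, h2]
      exact Nat.eq_of_mul_eq_mul_left Nat.card_pos this
    have hn' : (H'.subgroupOf M).Normal := by
      apply Subgroup.normal_of_index_eq_minFac_card
      rw [hidx', hk, Nat.Prime.pow_minFac hidx hk0]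
    have hM' : M ≤ Subgroup.normalizer (H' : Set G) :=
      (Subgroup.normal_subgroupOf_iff_le_normalizer hle).1 hn'
    have hMg' : M.map (MulAut.conj g).toMonoidHom ≤ Subgroup.normalizer (H' : Set G) := by
      rintro _ ⟨m, hm, rfl⟩
      apply mem_normalizer_of_map_conj_le
      rw [hH', map_conj_map_conj]
      simp only [MulEquiv.coe_toMonoidHom, MulAut.conj_apply]
      have h4 := map_conj_eq_self_of_mem_normalizer (hMnorm hm)
      have h5 : g * m * g⁻¹ * g = g * m := by group
      rw [h5, ← map_conj_map_conj, h4]
    have htop : Subgroup.normalizer (H' : Set G) = ⊤ := by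
      apply hmaxM.2
      refine lt_of_le_of_ne hM' ?_
      intro heq
      exact hconjM g hg (heq ▸ hMg')
    have hH'n : H'.Normal := Subgroup.normalizer_eq_top_iff.1 htop
    rcases simple_normal H' hH'n with h0 | h0
    · apply hH1
      rw [hH', Subgroup.map_eq_bot_iff_of_injective _ (MulAut.conj g).injective] at h0
      exact h0
    · apply hMtop
      exact top_le_iff.1 (h0 ▸ hle)
  -- `H` is extremely closed
  have hcl : ∀ g : G, (H ⊔ H.map (MulAut.conj g).toMonoidHom) ⊓ M = H := by
    intro g
    set K := H ⊔ H.map (MulAut.conj g).toMonoidHom with hK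
    have hle : H.subgroupOf M ≤ (K ⊓ M).subgroupOf M :=
      Subgroup.subgroupOf_mono M (le_inf le_sup_left hHM)
    rcases eq_or_lt_of_le hle with heq | hlt
    · rw [Subgroup.subgroupOf_inj, inf_of_le_left hHM, inf_assoc, inf_idem] at heq
      exact heq.symm
    · exfalso
      have h1 := hcoH.2 _ hlt
      rw [Subgroup.subgroupOf_eq_top] at h1
      have hMK : M ≤ K := h1.trans inf_le_left
      have hKM : K = M := by
        rcases eq_or_lt_of_le hMK with h | h
        · exact h.symm
        · exact absurd (hmaxM.2 _ h) (hno g)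
      have hgM : g ∈ M := by
        by_contra hg
        exact hbad g hg (hKM ▸ le_sup_right)
      have h2 := map_conj_eq_self_of_mem_normalizer (hMnorm hgM)
      rw [hK, h2, sup_idem] at hKM
      exact hHneM hKM
  have hfin := Cfsg.Agent.S3014.result H M hHM hcl hcoH hmaxM
  rcases simple_normal _ (Subgroup.normalClosure_normal (s := (H : Set G))) with h0 | h0
  · apply hH1
    rw [eq_bot_iff, ← h0]
    exact Subgroup.le_normalClosure
  · rw [h0, top_inf_eq] at hfin
    exact hHneM hfin.symm

end Cfsg.Agent.S3015
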