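import Mathlib
import Cfsg.Agent.Lib.Helper6.PPrimeCore
import Cfsg.Agent.Lib.Helper6.SylowIdx
import Cfsg.Statements.S3020

set_option autoImplicit false
open Cfsg Cfsg.Agent.Lib.Helper6
open scoped commutatorElement

namespace Cfsg.Agent.S3020

/-- Let G be a finite group, p a prime and H an abelian p-subgroup of G that is extremely closed (for every g, the subgroup generated by H and g H g⁻¹ meets N_G(H) exactly in H). Then for every g ∈ G, the subgroup T generated by H and g H g⁻¹ is the product of H with O_{p'}(T), and H meets O_{p'}(T) trivially; that is, O_{p'}(T) is a normal p-complement of H in T. -/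
theorem result {G : Type*} [Group G] [Finite G] {p : ℕ} [Fact p.Prime] (H : Subgroup G) (hHp : IsPGroup p H) (hHab : IsMulCommutative H) (hcl : Cfsg.IsExtremelyClosed H) (g : G) (T : Subgroup G) (hT : T = H ⊔ H.map (MulAut.conj g).toMonoidHom) : H ⊔ (Cfsg.pPrimeCore p ↥T).map T.subtype = T ∧ H ⊓ (Cfsg.pPrimeCore p ↥T).map T.subtype = ⊥ := by
  have hp : p.Prime := Fact.out
  have hHT : H ≤ T := by rw [hT]; exact le_sup_left
  have hNT : T ⊓ Subgroup.normalizer (H : Set G) = H := by rw [hT]; exact hcl g
  -- inside T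
  have hH'p : IsPGroup p (H.subgroupOf T) := hHp.comap_subtype
  have hN' : Subgroup.normalizer ((H.subgroupOf T : Subgroup T) : Set T) = H.subgroupOf T := by
    rw [← Subgroup.subgroupOf_normalizer_eq hHT]
    ext x
    rw [Subgroup.mem_subgroupOf, Subgroup.mem_subgroupOf]
    constructor
    · intro hx
      have : (x : G) ∈ T ⊓ Subgroup.normalizer (H : Set G) := ⟨x.2, hx⟩
      rwa [hNT] at this
    · intro hx
      exact Subgroup.le_normalizer hx
  obtain ⟨P, hP⟩ := hH'p.exists_le_sylow
  have hPeq : (P : Subgroup T) = H.subgroupOf T := by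
    by_contra hne
    have hlt : H.subgroupOf T < (P : Subgroup T) := lt_of_le_of_ne hP (Ne.symm hne)
    obtain ⟨n, hnP, hnH, hnN⟩ := exists_mem_normalizer_not_mem hlt P.isPGroup'
    rw [hN'] at hnN
    exact hnH hnN
  have hPN : Subgroup.normalizer ((P : Subgroup T) : Set T) ≤ Subgroup.centralizer ((P : Subgroup T) : Set T) := by
    rw [hPeq, hN']
    intro x hx
    rw [Subgroup.mem_centralizer_iff]
    intro y hy
    apply Subtype.ext
    have := hHab.is_comm.comm (⟨y.1, Subgroup.mem_subgroupOf.mp hy⟩ : H) ⟨x.1, Subgroup.mem_subgroupOf.mp hx⟩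
    have h2 : (y : G) * (x : G) = (x : G) * (y : G) := congrArg Subtype.val this
    exact h2
  have hcompl := MonoidHom.ker_transferSylow_isComplement' P hPN
  have hnd := MonoidHom.not_dvd_card_ker_transferSylow P hPN
  set K := (MonoidHom.transferSylow P hPN).ker with hK
  have hKcop : (Nat.card K).Coprime p := by
    rw [Nat.coprime_comm]
    exact (Nat.Prime.coprime_iff_not_dvd hp).mpr hnd
  have hKle : K ≤ Cfsg.pPrimeCore p ↥T := le_pPrimeCore (MonoidHom.normal_ker _) hKcop
  have hcop : (Nat.card ((Cfsg.pPrimeCore p ↥T).map T.subtype)).Coprime p := by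
    rw [Subgroup.card_map_of_injective T.subtype_injective]
    exact pPrimeCore_coprime p
  refine ⟨?_, isPGroup_inf_coprime_eq_bot hcop hHp⟩
  apply le_antisymm
  · exact sup_le hHT (Subgroup.map_subtype_le _)
  · have h1 : K ⊔ (P : Subgroup T) = ⊤ := hcompl.sup_eq_top
    have h2 := congrArg (Subgroup.map T.subtype) h1
    rw [Subgroup.map_sup, hPeq, Subgroup.map_subgroupOf_eq_of_le hHT, ← MonoidHom.range_eq_map,
      Subgroup.range_subtype] at h2
    have h3 : T ≤ H ⊔ K.map T.subtype := by rw [sup_comm]; exact h2.ge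
    exact h3.trans (sup_le_sup_left (Subgroup.map_mono hKle) _)

end Cfsg.Agent.S3020
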