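import Mathlib
import Cfsg.Agent.Lib.Helper6.Conj2
import Cfsg.Agent.Lib.Helper6.SylowIdx
import Cfsg.Statements.S3021

set_option autoImplicit false
open Cfsg Cfsg.Agent.Lib.Helper6
open scoped commutatorElement

namespace Cfsg.Agent.S3021

/-- Let G be a finite group, p a prime and H a p-subgroup of G that is extremely closed (for every g, the subgroup generated by H and g H g⁻¹ meets N_G(H) exactly in H). Then every p-subgroup Q of G containing H has N_G(Q) ≤ N_G(H); in particular every Sylow p-subgroup P of G containing H normalizes H, and H is strongly closed in P with respect to G. -/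
theorem result {G : Type*} [Group G] [Finite G] {p : ℕ} [Fact p.Prime] (H : Subgroup G) (hHp : IsPGroup p H) (hcl : Cfsg.IsExtremelyClosed H) : (∀ Q : Subgroup G, IsPGroup p Q → H ≤ Q → Subgroup.normalizer (Q : Set G) ≤ Subgroup.normalizer (H : Set G)) ∧ ∀ P : Sylow p G, H ≤ (P : Subgroup G) → (P : Subgroup G) ≤ Subgroup.normalizer (H : Set G) ∧ Cfsg.IsStronglyClosed H (P : Subgroup G) := by
  have key : ∀ Q : Subgroup G, IsPGroup p Q → H ≤ Q →
      Subgroup.normalizer (Q : Set G) ≤ Subgroup.normalizer (H : Set G) := by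
    intro Q hQ hHQ x hx
    set T : Subgroup G := H ⊔ H.map (MulAut.conj x).toMonoidHom with hT
    have hTQ : T ≤ Q := by
      apply sup_le hHQ
      rw [← map_conj_eq_self_of_mem_normalizer hx]
      exact Subgroup.map_mono hHQ
    have hTp : IsPGroup p T := hQ.to_le hTQ
    have hTH : T = H := by
      by_contra hne
      have hlt : H < T := lt_of_le_of_ne le_sup_left (fun h => hne h.symm)
      obtain ⟨n, hnT, hnH, hnN⟩ := exists_mem_normalizer_not_mem hlt hTp
      apply hnH
      rw [← hcl x]
      exact ⟨hnT, hnN⟩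
    apply mem_normalizer_of_map_conj_le
    exact (le_sup_right : H.map (MulAut.conj x).toMonoidHom ≤ T).trans hTH.le
  refine ⟨key, ?_⟩
  intro P hHP
  have hPN : (P : Subgroup G) ≤ Subgroup.normalizer (H : Set G) :=
    Subgroup.le_normalizer.trans (key P P.isPGroup' hHP)
  refine ⟨hPN, hHP, ?_⟩
  intro x hx g hgx
  rw [← hcl g]
  refine ⟨Subgroup.mem_sup_right ⟨x, hx, by simp [MulAut.conj_apply]⟩, hPN hgx⟩

end Cfsg.Agent.S3021
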