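import Mathlib
import Cfsg.Agent.Lib.Lead.UniqueOrderP5
import Cfsg.Statements.S3025

set_option autoImplicit false
open Cfsg

namespace Cfsg.Agent.S3025

open Cfsg.Agent.Lib.Lead

section helpers
variable {F : Type*} [Group F]

lemma ker_conjNormal (N : Subgroup F) [N.Normal] :
    (MulAut.conjNormal : F →* MulAut N).ker = Subgroup.centralizer (N : Set F) := by
  ext x
  rw [MonoidHom.mem_ker, Subgroup.mem_centralizer_iff]
  constructor
  · intro h n hn
    have := congrArg (fun f : MulAut N => ((f ⟨n, hn⟩ : N) : F)) h
    simp only [MulAut.conjNormal_apply, MulAut.one_apply] at this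
    calc n * x = (x * n * x⁻¹) * x := by rw [this]
      _ = x * n := by group
  · intro h
    ext n
    simp only [MulAut.conjNormal_apply, MulAut.one_apply]
    rw [← h n n.2]; group

/-- the automizer of a normal subgroup of prime order -/
lemma automizer_prime [Finite F] (N : Subgroup F) [N.Normal] {p : ℕ} (hp : p.Prime)
    (hN : Nat.card N = p) :
    (Subgroup.centralizer (N : Set F)).index ∣ p - 1 ∧
      ∃ g : F, Subgroup.centralizer (N : Set F) ⊔ Subgroup.zpowers g = ⊤ := by
  haveI : Fact p.Prime := ⟨hp⟩
  haveI : IsCyclic N := isCyclic_of_prime_card hN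
  set φ : F →* MulAut N := MulAut.conjNormal with hφ
  have hker : φ.ker = Subgroup.centralizer (N : Set F) := ker_conjNormal N
  have hcyc : IsCyclic (MulAut N) := by
    have e := IsCyclic.mulAutMulEquiv N
    rw [hN] at e
    exact isCyclic_of_surjective e.symm e.symm.surjective
  constructor
  · rw [← hker, Subgroup.index_ker]
    have h1 : Nat.card φ.range ∣ Nat.card (MulAut N) := Subgroup.card_subgroup_dvd_card _
    rwa [IsCyclic.card_mulAut, hN, Nat.totient_prime hp] at h1
  · haveI : IsCyclic φ.range := Subgroup.isCyclic _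
    obtain ⟨⟨y, ⟨g, rfl⟩⟩, hy⟩ := IsCyclic.exists_generator (α := φ.range)
    refine ⟨g, ?_⟩
    rw [eq_top_iff]
    intro x _
    have hx := hy ⟨φ x, ⟨x, rfl⟩⟩
    rw [Subgroup.mem_zpowers_iff] at hx
    obtain ⟨k, hk⟩ := hx
    have hk' : φ g ^ k = φ x := by
      have := congrArg Subtype.val hk
      simpa using this
    have hmem : x * (g ^ k)⁻¹ ∈ Subgroup.centralizer (N : Set F) := by
      rw [← hker, MonoidHom.mem_ker, map_mul, map_inv, map_zpow, hk', mul_inv_cancel]
    have : x = (x * (g ^ k)⁻¹) * g ^ k := by group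
    rw [this]
    exact Subgroup.mul_mem_sup hmem (Subgroup.zpow_mem_zpowers g k)

end helpers


/-- Let F be a finite group and H a nontrivial subgroup of F that is contained in every nontrivial subgroup of F which H normalizes. Then F has a nontrivial normal subgroup N contained in every nontrivial normal subgroup of F (a unique minimal normal subgroup), N is simple, and one of the following holds: C_F(N) = 1; or H = N has prime order p, C_F(N) is cyclic of order a power of p, and F/C_F(N) is cyclic of order dividing p − 1; or H = N has order 2, N is central in F, and F is a generalized quaternion group. -/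
theorem result {F : Type*} [Group F] [Finite F] (H : Subgroup F) (hH : H ≠ ⊥)
    (hmin : ∀ R : Subgroup F, R ≠ ⊥ → H ≤ Subgroup.normalizer (R : Set F) → H ≤ R) :
    ∃ N : Subgroup F, N.Normal ∧ N ≠ ⊥ ∧ (∀ M : Subgroup F, M.Normal → M ≠ ⊥ → N ≤ M) ∧ IsSimpleGroup ↥N ∧
      (Subgroup.centralizer (N : Set F) = ⊥ ∨
       (H = N ∧ (Nat.card N).Prime ∧ IsCyclic ↥(Subgroup.centralizer (N : Set F)) ∧
          (∃ k : ℕ, 1 ≤ k ∧ Nat.card ↥(Subgroup.centralizer (N : Set F)) = Nat.card N ^ k) ∧
          (∃ g : F, Subgroup.centralizer (N : Set F) ⊔ Subgroup.zpowers g = ⊤) ∧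
          (Subgroup.centralizer (N : Set F)).index ∣ Nat.card N - 1) ∨
       (H = N ∧ Nat.card N = 2 ∧ Subgroup.centralizer (N : Set F) = ⊤ ∧
          ∃ k : ℕ, 1 ≤ k ∧ Nonempty (F ≃* QuaternionGroup (2 ^ k)))) := by
  classical
  set N : Subgroup F := Subgroup.normalClosure (H : Set F) with hNdef
  have hHN : H ≤ N := Subgroup.le_normalClosure
  haveI hNn : N.Normal := Subgroup.normalClosure_normal
  have hNbot : N ≠ ⊥ := fun h => hH (le_bot_iff.mp (h ▸ hHN))
  have hleast : ∀ M : Subgroup F, M.Normal → M ≠ ⊥ → N ≤ M := by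
    intro M hM hMb
    apply Subgroup.normalClosure_le_normal
    apply hmin M hMb
    rw [Subgroup.normalizer_eq_top_iff.mpr hM]
    exact le_top
  -- every nontrivial subgroup normalised by N contains N
  have hNmin : ∀ K : Subgroup F, K ≠ ⊥ → N ≤ Subgroup.normalizer (K : Set F) → N ≤ K := by
    intro K hKb hNK
    -- all conjugates of `K` are normalised by `N`
    have hconj : ∀ g : F, H ≤ K.map (MulAut.conj g).toMonoidHom := by
      intro g
      apply hmin
      · intro h
        exact hKb ((Subgroup.map_eq_bot_iff_of_injective _ (MulAut.conj g).injective).mp h)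
      · refine hHN.trans ?_
        intro n hn
        rw [Subgroup.mem_normalizer_iff]
        -- n = g (g⁻¹ n g) g⁻¹
        have hn' : g⁻¹ * n * g ∈ Subgroup.normalizer (K : Set F) := by
          apply hNK
          have := hNn.conj_mem n hn g⁻¹
          simpa using this
        rw [Subgroup.mem_normalizer_iff] at hn'
        intro y
        simp only [Subgroup.mem_map, MulEquiv.coe_toMonoidHom, MulAut.conj_apply]
        constructor
        · rintro ⟨k, hk, rfl⟩
          refine ⟨(g⁻¹ * n * g) * k * (g⁻¹ * n * g)⁻¹, (hn' k).mp hk, ?_⟩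
          group
        · rintro ⟨k, hk, hk'⟩
          refine ⟨(g⁻¹ * n * g)⁻¹ * k * (g⁻¹ * n * g), ?_, ?_⟩
          · rw [hn']
            convert hk using 1
            group
          · have : y = n⁻¹ * (g * k * g⁻¹) * n := by rw [hk']; group
            rw [this]; group
    rw [hNdef, Subgroup.normalClosure, Subgroup.closure_le]
    intro y hy
    rw [Group.mem_conjugatesOfSet_iff] at hy
    obtain ⟨h, hh, hconj'⟩ := hy
    rw [isConj_iff] at hconj'
    obtain ⟨c, rfl⟩ := hconj'
    have := hconj c⁻¹ hh
    simp only [Subgroup.mem_map, MulEquiv.coe_toMonoidHom, MulAut.conj_apply] at this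
    obtain ⟨k, hk, hk'⟩ := this
    have : c * h * c⁻¹ = k := by rw [← hk']; group
    rw [SetLike.mem_coe, this]; exact hk
  haveI hNnt : Nontrivial N := (Subgroup.nontrivial_iff_ne_bot N).mpr hNbot
  have hsimple : IsSimpleGroup N := by
    refine ⟨fun K hK => ?_⟩
    by_cases hKb : K = ⊥
    · exact Or.inl hKb
    right
    have hK' : K.map N.subtype ≠ ⊥ := by
      intro h
      exact hKb ((Subgroup.map_eq_bot_iff_of_injective _ N.subtype_injective).mp h)
    have hle : N ≤ K.map N.subtype := by
      apply hNmin _ hK'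
      intro n hn
      rw [Subgroup.mem_normalizer_iff]
      intro y
      simp only [Subgroup.mem_map, Subgroup.subtype_apply]
      constructor
      · rintro ⟨k, hk, rfl⟩
        exact ⟨⟨n, hn⟩ * k * ⟨n, hn⟩⁻¹, hK.conj_mem k hk _, by simp⟩
      · rintro ⟨k, hk, hk'⟩
        refine ⟨⟨n, hn⟩⁻¹ * k * ⟨n, hn⟩, ?_, ?_⟩
        · have := hK.conj_mem k hk ⟨n, hn⟩⁻¹
          simpa using this
        · have : y = n⁻¹ * (k : F) * n := by rw [hk']; group
          rw [this]; simp
    rw [eq_top_iff]
    intro x _
    obtain ⟨k, hk, hk'⟩ := hle x.2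
    have : k = x := Subtype.ext hk'
    rwa [← this]
  refine ⟨N, hNn, hNbot, hleast, hsimple, ?_⟩
  set C : Subgroup F := Subgroup.centralizer (N : Set F) with hCdef
  by_cases hCb : C = ⊥
  · exact Or.inl hCb
  right
  haveI hCn : C.Normal := Subgroup.normal_centralizer (H := N)
  have hNC : N ≤ C := hleast C hCn hCb
  -- N is abelian, hence of prime order
  have hcomm : ∀ a b : N, a * b = b * a := by
    intro a b
    have := hNC a.2
    rw [hCdef, Subgroup.mem_centralizer_iff] at this
    exact Subtype.ext (this b b.2).symm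
  have hprime : (Nat.card N).Prime := by
    letI : CommGroup N := { (inferInstance : Group N) with mul_comm := hcomm }
    exact IsSimpleGroup.prime_card (α := N)
  set p := Nat.card N with hp
  haveI : Fact p.Prime := ⟨hprime⟩
  have hHeq : H = N := by
    haveI : Fact (Nat.card N).Prime := ⟨hprime⟩
    rcases Subgroup.eq_bot_or_eq_top_of_prime_card (H.subgroupOf N) with h | h
    · exfalso
      rw [Subgroup.subgroupOf_eq_bot, disjoint_iff, inf_eq_left.mpr hHN] at h
      exact hH h
    · rw [Subgroup.subgroupOf_eq_top] at h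
      exact le_antisymm hHN h
  -- every nontrivial subgroup of `C` contains `N`
  have hCsub : ∀ R : Subgroup F, R ≠ ⊥ → R ≤ C → N ≤ R := by
    intro R hRb hRC
    apply hNmin R hRb
    intro n hn
    rw [Subgroup.mem_normalizer_iff]
    intro y
    constructor
    · intro hy
      have := hRC hy
      rw [hCdef, Subgroup.mem_centralizer_iff] at this
      have h2 : n * y * n⁻¹ = y := by rw [this n hn]; group
      rwa [h2]
    · intro hy
      have h3 : n * y * n⁻¹ ∈ C := hRC hy
      have h4 : y ∈ C := by
        have := hCn.conj_mem _ h3 n⁻¹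
        convert this using 1; group
      rw [hCdef, Subgroup.mem_centralizer_iff] at h4
      have h2 : n * y * n⁻¹ = y := by rw [h4 n hn]; group
      rwa [h2] at hy
  -- `C` is a `p`-group
  obtain ⟨k, hCcard⟩ : ∃ k, Nat.card C = p ^ k := by
    refine ⟨_, Nat.eq_prime_pow_of_unique_prime_dvd Nat.card_pos.ne' ?_⟩
    intro r hr hrd
    haveI : Fact r.Prime := ⟨hr⟩
    obtain ⟨x, hx⟩ := exists_prime_orderOf_dvd_card' (G := C) r hrd
    have hxF : orderOf (x : F) = r := by rw [Subgroup.orderOf_coe, hx]
    have hle : N ≤ Subgroup.zpowers (x : F) := by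
      apply hCsub
      · intro h
        rw [Subgroup.zpowers_eq_bot] at h
        rw [h, orderOf_one] at hxF
        exact hr.one_lt.ne hxF
      · rw [Subgroup.zpowers_le]; exact x.2
    have hd : p ∣ r := by
      have := Subgroup.card_dvd_of_le hle
      rwa [Nat.card_zpowers, hxF] at this
    exact ((Nat.prime_dvd_prime_iff_eq hprime hr).mp hd).symm
  have hCp : IsPGroup p C := IsPGroup.of_card hCcard
  have hkpos : 1 ≤ k := by
    by_contra h
    have h0 : k = 0 := by omega
    rw [h0, pow_zero] at hCcard
    exact hCb ((Subgroup.card_eq_one).mp hCcard)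
  have huop : UniqueOrderP p C := by
    intro A B hA hB
    have key : ∀ A : Subgroup C, Nat.card A = p → A = N.subgroupOf C := by
      intro A hA
      have hAb : A.map C.subtype ≠ ⊥ := by
        intro h
        have : A = ⊥ := (Subgroup.map_eq_bot_iff_of_injective _ C.subtype_injective).mp h
        rw [this, Subgroup.card_bot] at hA
        exact hprime.one_lt.ne hA
      have hle : N ≤ A.map C.subtype := hCsub _ hAb (Subgroup.map_subtype_le A)
      have hcard : Nat.card (A.map C.subtype) = p := by
        rw [Subgroup.card_map_of_injective C.subtype_injective, hA]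
      have heq : N = A.map C.subtype := by
        apply Subgroup.eq_of_le_of_card_ge hle
        rw [hcard]
      rw [heq]
      exact (Subgroup.comap_map_eq_self_of_injective C.subtype_injective A).symm
    rw [key A hA, key B hB]
  obtain ⟨hidx, g, hg⟩ := automizer_prime N hprime rfl
  have hcyclic_case : IsCyclic C →
      (H = N ∧ (Nat.card N).Prime ∧ IsCyclic ↥C ∧
          (∃ k : ℕ, 1 ≤ k ∧ Nat.card ↥C = Nat.card N ^ k) ∧
          (∃ g : F, C ⊔ Subgroup.zpowers g = ⊤) ∧
          C.index ∣ Nat.card N - 1) := by
    intro hcyc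
    exact ⟨hHeq, hprime, hcyc, ⟨_, hkpos, hCcard⟩, ⟨g, hg⟩, hidx⟩
  rcases UniqueOrderP.main hCp huop with hcyc | ⟨hp2, n, ⟨e⟩⟩
  · exact Or.inl (hcyclic_case hcyc)
  · rcases Nat.eq_zero_or_pos n with hn | hn
    · left
      apply hcyclic_case
      rw [hn, pow_zero] at e
      haveI := QuaternionGroup.quaternionGroup_one_isCyclic
      exact isCyclic_of_surjective e.symm e.symm.surjective
    · right
      have hCtop : C = ⊤ := by
        rw [← Subgroup.index_eq_one]
        have : C.index ∣ 1 := by
          have h := hidx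
          rw [hp2] at h
          exact h
        exact Nat.dvd_one.mp this
      refine ⟨hHeq, hp2, hCtop, n, hn, ⟨?_⟩⟩
      exact (Subgroup.topEquiv.symm.trans (MulEquiv.subgroupCongr hCtop.symm)).trans e

end Cfsg.Agent.S3025
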