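import Mathlib
import Cfsg.Agent.Lib.Helper6.Conj2
import Cfsg.Statements.S3027

set_option autoImplicit false
open Cfsg

namespace Cfsg.Agent.S3027

open Cfsg.Agent.Lib.Helper6
open scoped commutatorElement

section helpers
variable {X : Type*} [Group X]

lemma mem_sup_normal {A E : Subgroup X} [E.Normal] {x : X} :
    x ∈ A ⊔ E ↔ ∃ a ∈ A, ∃ e ∈ E, x = a * e := by
  rw [← SetLike.mem_coe, Subgroup.mul_normal, Set.mem_mul]
  constructor
  · rintro ⟨a, ha, e, he, rfl⟩; exact ⟨a, ha, e, he, rfl⟩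
  · rintro ⟨a, ha, e, he, rfl⟩; exact ⟨a, ha, e, he, rfl⟩

/-- if `K` supplements `E` and `X / E` is perfect then `K = K' (E ∩ K)`. -/
lemma exists_commutator_mul (E : Subgroup X) [E.Normal] (hperf : ⁅(⊤ : Subgroup X), (⊤ : Subgroup X)⁆ ⊔ E = ⊤)
    (K : Subgroup X) (hK : K ⊔ E = ⊤) : ∀ k ∈ K, ∃ c ∈ ⁅K, K⁆, ∃ e ∈ E ⊓ K, k = c * e := by
  have h1 : ⁅(⊤ : Subgroup X), (⊤ : Subgroup X)⁆ ≤ ⁅K, K⁆ ⊔ E := by
    rw [Subgroup.commutator_le]
    intro x _ y _
    have hx : x ∈ K ⊔ E := by rw [hK]; exact Subgroup.mem_top x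
    have hy : y ∈ K ⊔ E := by rw [hK]; exact Subgroup.mem_top y
    obtain ⟨a, ha, e, he, rfl⟩ := mem_sup_normal.1 hx
    obtain ⟨b, hb, f, hf, rfl⟩ := mem_sup_normal.1 hy
    rw [mem_sup_normal]
    refine ⟨⁅a, b⁆, Subgroup.commutator_mem_commutator ha hb, ⁅a, b⁆⁻¹ * ⁅a * e, b * f⁆, ?_, by group⟩
    -- trivial modulo `E`
    rw [← QuotientGroup.eq_one_iff]
    have : ∀ z ∈ E, (QuotientGroup.mk z : X ⧸ E) = 1 := fun z hz => (QuotientGroup.eq_one_iff z).2 hz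
    simp only [commutatorElement_def, QuotientGroup.mk_mul, QuotientGroup.mk_inv, this e he, this f hf]
    group
  intro k hk
  have hk' : k ∈ ⁅K, K⁆ ⊔ E := by
    have : (⊤ : Subgroup X) ≤ ⁅K, K⁆ ⊔ E := by
      rw [← hperf]; exact sup_le h1 le_sup_right
    exact this (Subgroup.mem_top k)
  obtain ⟨c, hc, e, he, rfl⟩ := mem_sup_normal.1 hk'
  have hKK : ⁅K, K⁆ ≤ K := Subgroup.commutator_le.2
    (fun x hx y hy => K.mul_mem (K.mul_mem (K.mul_mem hx hy) (K.inv_mem hx)) (K.inv_mem hy))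
  have hcK : c ∈ K := hKK hc
  have heK : e ∈ K := by
    have : e = c⁻¹ * (c * e) := by group
    rw [this]; exact K.mul_mem (K.inv_mem hcK) hk
  exact ⟨c, hc, e, Subgroup.mem_inf.2 ⟨he, heK⟩, rfl⟩

lemma le_commutator_sup (E : Subgroup X) [E.Normal] (hperf : ⁅(⊤ : Subgroup X), (⊤ : Subgroup X)⁆ ⊔ E = ⊤)
    (K : Subgroup X) (hK : K ⊔ E = ⊤) : K ≤ ⁅K, K⁆ ⊔ (E ⊓ K) := by
  intro k hk
  obtain ⟨c, hc, e, he, rfl⟩ := exists_commutator_mul E hperf K hK k hk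
  exact Subgroup.mul_mem_sup hc he

/-- the intersection lemma -/
lemma inf_sup_eq_top (E : Subgroup X) [E.Normal]
    (hperf : ⁅(⊤ : Subgroup X), (⊤ : Subgroup X)⁆ ⊔ E = ⊤) (B : Subgroup X) [hBn : B.Normal]
    (hB : B ⊔ E = ⊤) : ∀ N : Subgroup X, N.IsSubnormal → N ⊔ E = ⊤ → (B ⊓ N) ⊔ E = ⊤ := by
  intro N hN
  induction hN with
  | top => intro _; rw [inf_top_eq]; exact hB
  | step N K hNK hKsn hNn ih =>
    intro hNE
    have hKE : K ⊔ E = ⊤ := by
      rw [eq_top_iff, ← hNE]; exact sup_le_sup_right hNK E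
    have hBK := ih hKE
    -- decompositions of elements of `K`
    have dec1 : ∀ k ∈ K, ∃ b ∈ B ⊓ K, ∃ e ∈ E ⊓ K, k = b * e := by
      intro k hk
      have : k ∈ (B ⊓ K) ⊔ E := by rw [hBK]; exact Subgroup.mem_top k
      obtain ⟨b, hb, e, he, rfl⟩ := mem_sup_normal.1 this
      refine ⟨b, hb, e, Subgroup.mem_inf.2 ⟨he, ?_⟩, rfl⟩
      have : e = b⁻¹ * (b * e) := by group
      rw [this]; exact K.mul_mem (K.inv_mem (Subgroup.mem_inf.1 hb).2) hk
    have dec2 : ∀ k ∈ K, ∃ n ∈ N, ∃ e ∈ E ⊓ K, k = n * e := by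
      intro k hk
      have : k ∈ N ⊔ E := by rw [hNE]; exact Subgroup.mem_top k
      obtain ⟨n, hn, e, he, rfl⟩ := mem_sup_normal.1 this
      refine ⟨n, hn, e, Subgroup.mem_inf.2 ⟨he, ?_⟩, rfl⟩
      have : e = n⁻¹ * (n * e) := by group
      rw [this]; exact K.mul_mem (K.inv_mem (hNK hn)) hk
    -- conjugation facts
    have conjE : ∀ k ∈ K, ∀ e ∈ E ⊓ K, k * e * k⁻¹ ∈ E ⊓ K := by
      intro k hk e he
      obtain ⟨he1, he2⟩ := Subgroup.mem_inf.1 he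
      exact Subgroup.mem_inf.2 ⟨(inferInstance : E.Normal).conj_mem e he1 k,
        K.mul_mem (K.mul_mem hk he2) (K.inv_mem hk)⟩
    have conjN : ∀ k ∈ K, ∀ n ∈ N, k * n * k⁻¹ ∈ N := by
      intro k hk n hn
      have := hNn.conj_mem ⟨n, hNK hn⟩ (Subgroup.mem_subgroupOf.2 hn) ⟨k, hk⟩
      rw [Subgroup.mem_subgroupOf] at this
      simpa using this
    set T := (B ⊓ N) ⊔ (E ⊓ K) with hT
    have hcomm : ⁅K, K⁆ ≤ T := by
      rw [Subgroup.commutator_le]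
      intro k₁ hk₁ k₂ hk₂
      obtain ⟨b, hb, e₁, he₁, rfl⟩ := dec1 k₁ hk₁
      obtain ⟨n, hn, e₂, he₂, rfl⟩ := dec2 k₂ hk₂
      obtain ⟨hbB, hbK⟩ := Subgroup.mem_inf.1 hb
      have hnK : n ∈ K := hNK hn
      have he₁K : e₁ ∈ K := (Subgroup.mem_inf.1 he₁).2
      have he₂K : e₂ ∈ K := (Subgroup.mem_inf.1 he₂).2
      have key : ⁅b * e₁, n * e₂⁆ =
          (b * (e₁ * ((n * e₂) * e₁⁻¹ * (n * e₂)⁻¹)) * b⁻¹) * (b * n * b⁻¹ * n⁻¹) *
            (n * ((b * e₂ * b⁻¹) * e₂⁻¹) * n⁻¹) := by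
        rw [commutatorElement_def]; group
      rw [key]
      have f1 : b * (e₁ * ((n * e₂) * e₁⁻¹ * (n * e₂)⁻¹)) * b⁻¹ ∈ E ⊓ K := by
        apply conjE b hbK
        exact (E ⊓ K).mul_mem he₁ (conjE _ (K.mul_mem hnK he₂K) _ ((E ⊓ K).inv_mem he₁))
      have f2 : b * n * b⁻¹ * n⁻¹ ∈ B ⊓ N := by
        refine Subgroup.mem_inf.2 ⟨?_, ?_⟩
        · have : b * n * b⁻¹ * n⁻¹ = b * (n * b⁻¹ * n⁻¹) := by group
          rw [this]
          exact B.mul_mem hbB (hBn.conj_mem _ (B.inv_mem hbB) n)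
        · exact N.mul_mem (conjN b hbK n hn) (N.inv_mem hn)
      have f3 : n * ((b * e₂ * b⁻¹) * e₂⁻¹) * n⁻¹ ∈ E ⊓ K := by
        apply conjE n hnK
        exact (E ⊓ K).mul_mem (conjE b hbK e₂ he₂) ((E ⊓ K).inv_mem he₂)
      exact T.mul_mem (T.mul_mem (le_sup_right (a := B ⊓ N) f1) (le_sup_left (b := E ⊓ K) f2))
        (le_sup_right (a := B ⊓ N) f3)
    have hKT : K ≤ T :=
      (le_commutator_sup E hperf K hKE).trans (sup_le hcomm le_sup_right)
    rw [eq_top_iff, ← hKE]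
    refine sup_le (hKT.trans ?_) le_sup_right
    exact sup_le le_sup_left (inf_le_left.trans le_sup_right)



end helpers


/-- Let G be a finite group and D a normal subgroup of G such that G/D is perfect (that is, G = G′D). Then among the subnormal subgroups B of G with BD = G there is a least one, and it is normal in G. -/
theorem result {G : Type*} [Group G] [Finite G] (D : Subgroup G) [D.Normal] (hperf : ⁅(⊤ : Subgroup G), (⊤ : Subgroup G)⁆ ⊔ D = ⊤) :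
    ∃ B : Subgroup G, B.Normal ∧ B ⊔ D = ⊤ ∧ ∀ B' : Subgroup G, B'.IsSubnormal → B' ⊔ D = ⊤ → B ≤ B' := by
  classical
  set 𝒮 : Set (Subgroup G) := {B | B.IsSubnormal ∧ B ⊔ D = ⊤} with h𝒮
  have hne : (⊤ : Subgroup G) ∈ 𝒮 := ⟨Subgroup.IsSubnormal.top, top_sup_eq _⟩
  obtain ⟨B₀, -, hB₀⟩ := (Set.toFinite 𝒮).exists_le_minimal hne
  obtain ⟨hB₀sn, hB₀D⟩ := hB₀.prop
  have hleast : ∀ B : Subgroup G, B.IsSubnormal → B ⊔ D = ⊤ → B₀ ≤ B := by
    intro B hB
    induction hB with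
    | top => intro _; exact le_top
    | step B K hBK hKsn hBn ih =>
      intro hBD
      have hKD : K ⊔ D = ⊤ := by
        rw [eq_top_iff, ← hBD]; exact sup_le_sup_right hBK D
      have hB₀K : B₀ ≤ K := ih hKD
      -- pass to the group `K`
      haveI hEn : (D.subgroupOf K).Normal := inferInstance
      have hperfK : ⁅(⊤ : Subgroup K), (⊤ : Subgroup K)⁆ ⊔ D.subgroupOf K = ⊤ := by
        rw [eq_top_iff]
        rintro ⟨k, hk⟩ -
        obtain ⟨c, hc, e, he, hce⟩ := exists_commutator_mul D hperf K hKD k hk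
        have hmap : (⁅(⊤ : Subgroup K), (⊤ : Subgroup K)⁆).map K.subtype = ⁅K, K⁆ := by
          rw [Subgroup.map_commutator, ← MonoidHom.range_eq_map, Subgroup.range_subtype]
        rw [← hmap] at hc
        obtain ⟨c', hc', rfl⟩ := hc
        obtain ⟨heD, heK⟩ := Subgroup.mem_inf.1 he
        have : (⟨k, hk⟩ : ↥K) = c' * ⟨e, heK⟩ := Subtype.ext hce
        rw [this]
        exact Subgroup.mul_mem_sup hc' (Subgroup.mem_subgroupOf.2 heD)
      have hsup : ∀ A : Subgroup G, A ≤ K → A ⊔ D = ⊤ → A.subgroupOf K ⊔ D.subgroupOf K = ⊤ := by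
        intro A hAK hAD
        rw [eq_top_iff]
        rintro ⟨k, hk⟩ -
        have : k ∈ A ⊔ D := by rw [hAD]; exact Subgroup.mem_top k
        obtain ⟨a, ha, d, hd, rfl⟩ := mem_sup_normal.1 this
        have hdK : d ∈ K := by
          have : d = a⁻¹ * (a * d) := by group
          rw [this]; exact K.mul_mem (K.inv_mem (hAK ha)) hk
        have : (⟨a * d, hk⟩ : ↥K) = ⟨a, hAK ha⟩ * ⟨d, hdK⟩ := rfl
        rw [this]
        exact Subgroup.mul_mem_sup (Subgroup.mem_subgroupOf.2 ha) (Subgroup.mem_subgroupOf.2 hd)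
      have hI := inf_sup_eq_top (D.subgroupOf K) hperfK (B.subgroupOf K) (hsup B hBK hBD)
        (B₀.subgroupOf K) hB₀sn.subgroupOf (hsup B₀ hB₀K hB₀D)
      -- back to `G`
      have hback : (B ⊓ B₀) ⊔ D = ⊤ := by
        rw [eq_top_iff, ← hKD]
        refine sup_le ?_ le_sup_right
        intro k hk
        have : (⟨k, hk⟩ : ↥K) ∈ (B.subgroupOf K ⊓ B₀.subgroupOf K) ⊔ D.subgroupOf K := by
          rw [hI]; exact Subgroup.mem_top _
        obtain ⟨a, ha, d, hd, hkad⟩ := mem_sup_normal.1 this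
        have : k = (a : G) * (d : G) := congrArg Subtype.val hkad
        rw [this]
        obtain ⟨ha1, ha2⟩ := Subgroup.mem_inf.1 ha
        exact Subgroup.mul_mem_sup (Subgroup.mem_inf.2 ⟨Subgroup.mem_subgroupOf.1 ha1,
          Subgroup.mem_subgroupOf.1 ha2⟩) (Subgroup.mem_subgroupOf.1 hd)
      have hBsn : B.IsSubnormal := Subgroup.IsSubnormal.step B K hBK hKsn hBn
      have hmem : B ⊓ B₀ ∈ 𝒮 := ⟨hBsn.inf hB₀sn, hback⟩
      have := hB₀.le_of_le hmem inf_le_right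
      exact this.trans inf_le_left
  refine ⟨B₀, ?_, hB₀D, hleast⟩
  constructor
  intro x hx g
  have hmem : B₀.map (MulAut.conj g⁻¹).toMonoidHom ∈ 𝒮 := by
    refine ⟨hB₀sn.map (MulAut.conj g⁻¹).surjective, ?_⟩
    rw [eq_top_iff]
    intro y _
    have : g * y * g⁻¹ ∈ B₀ ⊔ D := by rw [hB₀D]; exact Subgroup.mem_top _
    obtain ⟨b, hb, d, hd, hbd⟩ := mem_sup_normal.1 this
    have hy : y = (g⁻¹ * b * g⁻¹⁻¹) * (g⁻¹ * d * g) := by
      have : y = g⁻¹ * (g * y * g⁻¹) * g := by group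
      rw [this, hbd]; group
    rw [hy]
    refine Subgroup.mul_mem_sup ⟨b, hb, by simp [MulAut.conj_apply]⟩ ?_
    have := (inferInstance : D.Normal).conj_mem d hd g⁻¹
    simpa using this
  have h1 := hleast _ hmem.1 hmem.2 hx
  rw [mem_map_conj] at h1
  simpa using h1

end Cfsg.Agent.S3027
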