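import Mathlib
import Cfsg.Agent.Lib.Helper6.SSC1
import Cfsg.Agent.Lib.Helper6.SSC2
import Cfsg.Agent.Lib.Helper6.SSC3
import Cfsg.Agent.Lib.Lead.HallThm
import Cfsg.Statements.S3033

set_option autoImplicit false
open Cfsg

namespace Cfsg.Agent.S3033

open Cfsg.Agent.Lib.Helper6.SSC Cfsg.Agent.Lib.Helper2
open scoped commutatorElement

section helpers

open Cfsg.Agent.Lib.Helper6.SSC Cfsg.Agent.Lib.Helper2

universe u

/-- the hypothesis of the statement -/
def Hyp (G : Type*) [Group G] : Prop :=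
  ∀ (p q : ℕ), p.Prime → q.Prime → p ≠ q → ∀ (x g : G), (∃ a : ℕ, orderOf x = p ^ a) →
    (∃ b : ℕ, orderOf g = q ^ b) →
      ¬ q ^ 2 ∣ Nat.card ↥(Subgroup.zpowers x ⊔ Subgroup.zpowers (g * x * g⁻¹))

theorem Hyp.subgroup {G : Type*} [Group G] (h : Hyp G) (H : Subgroup G) : Hyp H := by
  intro p q hp hq hpq x g hx hg hdvd
  refine h p q hp hq hpq (x : G) (g : G) ?_ ?_ ?_
  · rw [Subgroup.orderOf_coe]; exact hx
  · rw [Subgroup.orderOf_coe]; exact hg
  · have h1 : (Subgroup.zpowers x ⊔ Subgroup.zpowers (g * x * g⁻¹)).map H.subtype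
        = Subgroup.zpowers (x : G) ⊔ Subgroup.zpowers ((g : G) * x * (g : G)⁻¹) := by
      rw [Subgroup.map_sup, MonoidHom.map_zpowers, MonoidHom.map_zpowers]
      rfl
    rw [← h1, Subgroup.card_map_of_injective H.subtype_injective]
    exact hdvd

theorem Hyp.quotient {G : Type*} [Group G] [Finite G] (h : Hyp G) (N : Subgroup G) [N.Normal] :
    Hyp (G ⧸ N) := by
  intro p q hp hq hpq x g hx hg hdvd
  haveI := Fact.mk hp
  haveI := Fact.mk hq
  obtain ⟨x₀, rfl⟩ := QuotientGroup.mk'_surjective N x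
  obtain ⟨g₀, rfl⟩ := QuotientGroup.mk'_surjective N g
  obtain ⟨a, ha⟩ := hx
  obtain ⟨b, hb⟩ := hg
  obtain ⟨x₁, hx₁, hx₁'⟩ := lift_pelt_hom (QuotientGroup.mk' N) p x₀ a
    (by rw [← ha, pow_orderOf_eq_one])
  obtain ⟨g₁, hg₁, hg₁'⟩ := lift_pelt_hom (QuotientGroup.mk' N) q g₀ b
    (by rw [← hb, pow_orderOf_eq_one])
  refine h p q hp hq hpq x₁ g₁ hx₁ hg₁ ?_
  have h1 : (Subgroup.zpowers x₁ ⊔ Subgroup.zpowers (g₁ * x₁ * g₁⁻¹)).map (QuotientGroup.mk' N)
      = Subgroup.zpowers ((QuotientGroup.mk' N) x₀) ⊔ Subgroup.zpowers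
        ((QuotientGroup.mk' N) g₀ * (QuotientGroup.mk' N) x₀ * ((QuotientGroup.mk' N) g₀)⁻¹) := by
    rw [Subgroup.map_sup, MonoidHom.map_zpowers, MonoidHom.map_zpowers, map_mul, map_mul, map_inv,
      hx₁', hg₁']
  rw [← h1] at hdvd
  exact hdvd.trans (Subgroup.card_map_dvd _ _)

/-- elements of a group of exponent `q` generate subgroups of `q`-power order -/
theorem card_eq_pow_of_exp {A : Type*} [Group A] [Finite A] {q : ℕ} [hq : Fact q.Prime]
    (hexp : ∀ a : A, a ^ q = 1) (U : Subgroup A) : ∃ j : ℕ, Nat.card U = q ^ j := by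
  have : IsPGroup q U := by
    intro u
    refine ⟨1, ?_⟩
    rw [pow_one]
    apply Subtype.ext
    rw [Subgroup.coe_pow, hexp]; rfl
  exact IsPGroup.iff_card.mp this

/-- (H') in multiplicative form -/
theorem hb_of_hyp {G : Type u} [Group G] [Finite G] (hyp : Hyp G) (q : ℕ) [hq : Fact q.Prime]
    (N : Subgroup G) [hN : N.Normal] (hexp : ∀ a : N, a ^ q = 1)
    (r : ℕ) (hr : r.Prime) (hrq : r ≠ q) (x : G) (hx : ∃ k : ℕ, orderOf x = r ^ k) (a : N) :
    MulAut.conjNormal x (a * (MulAut.conjNormal x a)⁻¹)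
      ∈ Subgroup.zpowers (a * (MulAut.conjNormal x a)⁻¹) := by
  set w : N := a * (MulAut.conjNormal x a)⁻¹ with hw
  by_contra hnot
  have hw1 : w ≠ 1 := by
    intro h
    apply hnot
    rw [h, map_one]
    exact Subgroup.one_mem _
  have how : orderOf w = q := by
    have h1 : orderOf w ∣ q := orderOf_dvd_of_pow_eq_one (hexp w)
    rcases (Nat.dvd_prime hq.out).mp h1 with h | h
    · exact absurd (orderOf_eq_one_iff.mp h) hw1
    · exact h
  set U : Subgroup N := Subgroup.zpowers w ⊔ Subgroup.zpowers (MulAut.conjNormal x w) with hU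
  obtain ⟨j, hj⟩ := card_eq_pow_of_exp hexp U
  have hlt : Subgroup.zpowers w < U := by
    refine lt_of_le_of_ne le_sup_left ?_
    intro h
    apply hnot
    rw [h]
    exact Subgroup.mem_sup_right (Subgroup.mem_zpowers _)
  have hcardlt : Nat.card (Subgroup.zpowers w) < Nat.card U := by
    by_contra hcon
    push Not at hcon
    exact hlt.ne (Subgroup.eq_of_le_of_card_ge hlt.le hcon)
  rw [Nat.card_zpowers, how, hj] at hcardlt
  have hj2 : 2 ≤ j := by
    by_contra hj2
    have : j = 0 ∨ j = 1 := by omega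
    rcases this with rfl | rfl
    · rw [pow_zero] at hcardlt
      exact absurd hq.out.one_lt (by omega)
    · rw [pow_one] at hcardlt
      omega
  have hq2 : q ^ 2 ∣ Nat.card U := by rw [hj]; exact pow_dvd_pow q hj2
  -- U maps into S
  have hle : U.map N.subtype ≤
      Subgroup.zpowers x ⊔ Subgroup.zpowers ((a : G) * x * (a : G)⁻¹) := by
    have hwS : (w : G) ∈ Subgroup.zpowers x ⊔ Subgroup.zpowers ((a : G) * x * (a : G)⁻¹) := by
      have : (w : G) = ((a : G) * x * (a : G)⁻¹) * x⁻¹ := by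
        rw [hw]
        simp only [Subgroup.coe_mul, Subgroup.coe_inv, MulAut.conjNormal_apply]
        group
      rw [this]
      exact Subgroup.mul_mem _ (Subgroup.mem_sup_right (Subgroup.mem_zpowers _))
        (Subgroup.inv_mem _ (Subgroup.mem_sup_left (Subgroup.mem_zpowers _)))
    have hxS : x ∈ Subgroup.zpowers x ⊔ Subgroup.zpowers ((a : G) * x * (a : G)⁻¹) :=
      Subgroup.mem_sup_left (Subgroup.mem_zpowers _)
    rw [hU, Subgroup.map_sup, MonoidHom.map_zpowers, MonoidHom.map_zpowers, sup_le_iff,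
      Subgroup.zpowers_le, Subgroup.zpowers_le]
    refine ⟨hwS, ?_⟩
    show ((MulAut.conjNormal x w : N) : G) ∈ _
    rw [MulAut.conjNormal_apply]
    exact Subgroup.mul_mem _ (Subgroup.mul_mem _ hxS hwS) (Subgroup.inv_mem _ hxS)
  have hdvd := Subgroup.card_dvd_of_le hle
  rw [Subgroup.card_map_of_injective N.subtype_injective] at hdvd
  have hao : ∃ b : ℕ, orderOf (a : G) = q ^ b := by
    have h1 : orderOf (a : G) ∣ q := by
      rw [Subgroup.orderOf_coe]; exact orderOf_dvd_of_pow_eq_one (hexp a)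
    rcases (Nat.dvd_prime hq.out).mp h1 with h | h
    · exact ⟨0, by rw [h, pow_zero]⟩
    · exact ⟨1, by rw [h, pow_one]⟩
  exact hyp r q hr hq.out hrq x (a : G) hx hao (hq2.trans hdvd)

theorem hss_of_ss {G : Type u} [Group G] [Finite G] (N : Subgroup G) [hN : N.Normal]
    (hss : IsSupersolvable (G ⧸ N)) (Z : Subgroup G) (hZn : Z.Normal) (hNZ : N ≤ Z) (hZ : Z ≠ ⊤) :
    ∃ (r : ℕ) (y : G), r.Prime ∧ (∃ k : ℕ, orderOf y = r ^ k) ∧ y ∉ Z ∧
        ∀ h : G, ∃ a : ℕ, (y ^ a)⁻¹ * (h * y * h⁻¹) ∈ Z := by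
  haveI := hZn
  have hQ : IsSupersolvable (G ⧸ Z) := by
    refine isSupersolvable_of_surjective (QuotientGroup.map N Z (MonoidHom.id G) hNZ) ?_ hss
    intro x
    obtain ⟨g, rfl⟩ := QuotientGroup.mk'_surjective Z x
    exact ⟨QuotientGroup.mk' N g, rfl⟩
  haveI : Nontrivial (G ⧸ Z) := QuotientGroup.nontrivial_iff.mpr hZ
  obtain ⟨A, hAn, hAp⟩ := exists_normal_prime_of_isSupersolvable hQ
  obtain ⟨r, hr⟩ : ∃ r, r = Nat.card A := ⟨_, rfl⟩
  rw [← hr] at hAp
  haveI : Fact r.Prime := ⟨hAp⟩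
  haveI : Nontrivial A := by
    rw [← Finite.one_lt_card_iff_nontrivial, ← hr]; exact hAp.one_lt
  obtain ⟨⟨y', hy'A⟩, hy'1⟩ := exists_ne (1 : A)
  have hy'1' : y' ≠ 1 := fun h => hy'1 (Subtype.ext h)
  have horder : orderOf y' = r := by
    have h1 : orderOf y' ∣ r := by
      rw [hr]
      have := orderOf_dvd_natCard (⟨y', hy'A⟩ : A)
      rwa [Subgroup.orderOf_mk] at this
    rcases (Nat.dvd_prime hAp).mp h1 with h | h
    · exact absurd (orderOf_eq_one_iff.mp h) hy'1'
    · exact h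
  have hAz : A = Subgroup.zpowers y' := by
    symm
    apply Subgroup.eq_of_le_of_card_ge
    · rw [Subgroup.zpowers_le]; exact hy'A
    · rw [Nat.card_zpowers, horder, hr]
  obtain ⟨y₀, rfl⟩ := QuotientGroup.mk'_surjective Z y'
  obtain ⟨y, hy, hyy⟩ := lift_pelt_hom (QuotientGroup.mk' Z) r y₀ 1
    (by rw [pow_one, ← horder, pow_orderOf_eq_one])
  refine ⟨r, y, hAp, hy, ?_, ?_⟩
  · intro hyZ
    apply hy'1'
    rw [← hyy]
    exact (QuotientGroup.eq_one_iff y).mpr hyZ
  · intro h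
    have h1 : (QuotientGroup.mk' Z) (h * y * h⁻¹) ∈ A := by
      rw [map_mul, map_mul, map_inv, hyy]
      exact hAn.conj_mem _ hy'A _
    rw [hAz] at h1
    obtain ⟨a, ha⟩ := mem_powers_iff_mem_zpowers.mpr h1
    refine ⟨a, ?_⟩
    rw [← QuotientGroup.eq_one_iff]
    have h2 : ((QuotientGroup.mk' Z) y₀) ^ a = (QuotientGroup.mk' Z) (h * y * h⁻¹) := ha
    show (QuotientGroup.mk' Z) ((y ^ a)⁻¹ * (h * y * h⁻¹)) = 1
    rw [map_mul, map_inv, map_pow, hyy, h2, inv_mul_cancel]

theorem cyclic_minimal {G : Type u} [Group G] [Finite G] (hyp : Hyp G) (q : ℕ)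
    [hq : Fact q.Prime] (N : Subgroup G) [hN : N.Normal]
    (hab : ∀ a ∈ N, ∀ b ∈ N, a * b = b * a) (hexp : ∀ a ∈ N, a ^ q = 1)
    (hmin : ∀ M : Subgroup G, M.Normal → M ≤ N → M = ⊥ ∨ M = N)
    (hss : IsSupersolvable (G ⧸ N)) : IsCyclic N := by
  letI : CommGroup N :=
    { (inferInstance : Group N) with
      mul_comm := fun a b => Subtype.ext (hab a a.2 b b.2) }
  have hexp' : ∀ a : N, a ^ q = 1 := fun a => Subtype.ext (by
    rw [Subgroup.coe_pow, hexp a a.2]; rfl)
  refine cyclic_of_core (q := q) hexp' (MulAut.conjNormal (G := G) (H := N)) ?_ ?_ ?_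
  · -- irreducibility
    intro W hW
    have hMn : (W.map N.subtype).Normal := by
      constructor
      rintro _ ⟨w, hw, rfl⟩ g
      refine ⟨MulAut.conjNormal g w, hW g w hw, ?_⟩
      rw [Subgroup.coe_subtype, MulAut.conjNormal_apply]
    rcases hmin _ hMn (Subgroup.map_subtype_le W) with h | h
    · left
      exact (Subgroup.map_eq_bot_iff_of_injective W N.subtype_injective).mp h
    · right
      rw [eq_top_iff]
      intro n _
      have h1 : (n : G) ∈ W.map N.subtype := by rw [h]; exact n.2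
      obtain ⟨w, hw, hwn⟩ := h1
      have : w = n := Subtype.ext hwn
      rw [← this]; exact hw
  · -- hb
    intro r hr hrq x hx a
    have := hb_of_hyp hyp q N hexp' r hr hrq x hx a
    rw [div_eq_mul_inv]
    exact this
  · -- hss
    intro Z hZn hker hZ
    refine hss_of_ss N hss Z hZn ?_ hZ
    intro n hn
    apply hker
    rw [MonoidHom.mem_ker]
    apply MulEquiv.ext
    intro a
    apply Subtype.ext
    rw [MulAut.conjNormal_apply, MulAut.one_apply]
    rw [hab n hn a a.2, mul_inv_cancel_right]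

theorem main : ∀ (n : ℕ) (G : Type u) [Group G] [Finite G], Nat.card G = n → Hyp G →
    IsSupersolvable G := by
  intro n
  induction n using Nat.strong_induction_on with
  | _ n ih =>
    intro G _ _ hn hyp
    rcases subsingleton_or_nontrivial G with hs | hnt
    · exact isSupersolvable_of_subsingleton
    have hsub : ∀ H : Subgroup G, H ≠ ⊤ → IsSupersolvable H := by
      intro H hH
      have hlt : Nat.card H < n := by
        rw [← hn]
        by_contra hcon
        push Not at hcon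
        exact hH (Subgroup.eq_top_of_card_eq H (le_antisymm (Subgroup.card_le_card_group H) hcon))
      exact ih _ hlt H rfl (hyp.subgroup H)
    haveI : Group.IsSolvable G := isSolvable_of_proper_ss hsub
    obtain ⟨q, N₀, hq, hN₀n, hN₀c, -, hN₀ne, hN₀e⟩ :=
      Cfsg.Agent.Lib.Lead.exists_normal_abelian_pgroup (G := G)
    haveI : Fact q.Prime := ⟨hq⟩
    -- a minimal normal subgroup inside N₀
    have hfin : {M : Subgroup G | M.Normal ∧ M ≠ ⊥ ∧ M ≤ N₀}.Finite := Set.toFinite _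
    obtain ⟨N, ⟨hNn, hNne, hNle⟩, hNmin⟩ := hfin.exists_minimal ⟨N₀, hN₀n, hN₀ne, le_rfl⟩
    haveI := hNn
    have hab : ∀ a ∈ N, ∀ b ∈ N, a * b = b * a := by
      intro a ha b hb
      have := hN₀c.is_comm.comm (⟨a, hNle ha⟩ : N₀) ⟨b, hNle hb⟩
      exact congrArg Subtype.val this
    have hexp : ∀ a ∈ N, a ^ q = 1 := fun a ha => hN₀e a (hNle ha)
    have hmin : ∀ M : Subgroup G, M.Normal → M ≤ N → M = ⊥ ∨ M = N := by
      intro M hMn hMN
      by_cases hM : M = ⊥
      · exact Or.inl hM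
      · right
        exact le_antisymm hMN (hNmin ⟨hMn, hM, hMN.trans hNle⟩ hMN)
    have hlt : Nat.card (G ⧸ N) < n := by
      rw [← hn, ← Subgroup.index_eq_card]
      have h1 := Subgroup.card_mul_index N
      have h2 : 1 < Nat.card N := by
        rw [Subgroup.one_lt_card_iff_ne_bot]; exact hNne
      have h3 : 0 < N.index := Nat.pos_of_ne_zero Subgroup.index_ne_zero_of_finite
      nlinarith
    have hQ : IsSupersolvable (G ⧸ N) := ih _ hlt (G ⧸ N) rfl (hyp.quotient N)
    haveI : IsCyclic N := cyclic_minimal hyp q N hab hexp hmin hQ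
    exact isSupersolvable_of_extension (QuotientGroup.mk' N) (QuotientGroup.mk'_surjective N)
      (by rw [QuotientGroup.ker_mk']; exact ssReach_of_cyclic_normal N) hQ

end helpers



/-- Let G be a finite group such that for every pair of distinct primes p and q, every p-element x and every q-element g of G, the order of the subgroup generated by x and g x g⁻¹ is not divisible by q². Then G is supersolvable. -/
theorem result {G : Type*} [Group G] [Finite G]
    (h : ∀ (p q : ℕ), p.Prime → q.Prime → p ≠ q → ∀ (x g : G), (∃ a : ℕ, orderOf x = p ^ a) → (∃ b : ℕ, orderOf g = q ^ b) →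
      ¬ q ^ 2 ∣ Nat.card ↥(Subgroup.zpowers x ⊔ Subgroup.zpowers (g * x * g⁻¹))) :
    Cfsg.IsSupersolvable G := by
  exact main (Nat.card G) G rfl h


end Cfsg.Agent.S3033
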