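import Mathlib
import Cfsg.Agent.Lib.Helper6.ChermakDelgado
import Cfsg.Agent.Lib.Helper6.Comm
import Cfsg.Agent.Lib.Helper6.Conj2
import Cfsg.Agent.Lib.Helper6.Amalgam2
import Cfsg.Statements.S3037

set_option autoImplicit false
open Cfsg Cfsg.Agent.Lib.Helper6
open scoped commutatorElement

namespace Cfsg.Agent.S3037

/-- Let V and G be subgroups of a finite group with V an elementary abelian p-group (p prime) on which G acts faithfully and irreducibly by conjugation: G normalizes V, G ∩ C(V) = 1, and the only subgroups of V normalized by G are 1 and V. If for some nontrivial subgroup A of G and some real α > 0 one has |V| ≤ |A|^α · |C_V(A)|, then |V| ≤ |G|^α. -/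
theorem result {X : Type*} [Group X] [Finite X] {p : ℕ} [Fact p.Prime] (V G : Subgroup X) (hV : Cfsg.IsElementaryAbelian p V)
    (hGV : G ≤ Subgroup.normalizer (V : Set X)) (hfaith : G ⊓ Subgroup.centralizer (V : Set X) = ⊥)
    (hirr : ∀ W : Subgroup X, W ≤ V → G ≤ Subgroup.normalizer (W : Set X) → W = ⊥ ∨ W = V)
    (A : Subgroup X) (hA : A ≤ G) (hA1 : A ≠ ⊥) (α : ℝ) (hα : 0 < α)
    (hbig : (Nat.card V : ℝ) ≤ (Nat.card A : ℝ) ^ α * (Nat.card ↥(V ⊓ Subgroup.centralizer (A : Set X)) : ℝ)) :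
    (Nat.card V : ℝ) ≤ (Nat.card G : ℝ) ^ α := by
  classical
  set cV : Subgroup X → ℕ := fun H => Nat.card ↥(V ⊓ Subgroup.centralizer (H : Set X)) with hcV
  set Sp : Subgroup X → Prop := fun H => (Nat.card V : ℝ) ≤ (Nat.card H : ℝ) ^ α * (cV H : ℝ) with hSp
  have hcVpos : ∀ H, 0 < cV H := fun H => Nat.card_pos
  have hcVbot : cV ⊥ = Nat.card V := by
    simp only [hcV]
    have : Subgroup.centralizer (((⊥ : Subgroup X) : Subgroup X) : Set X) = ⊤ := by simp
    rw [this, inf_top_eq]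
  -- (a) a nontrivial member of minimal order
  obtain ⟨A₀, ⟨hA₀G, hA₀1, hA₀S⟩, hA₀min⟩ := Set.exists_min_image
    {A' : Subgroup X | A' ≤ G ∧ A' ≠ ⊥ ∧ Sp A'} (fun A' => Nat.card A') (Set.toFinite _)
    ⟨A, hA, hA1, hbig⟩
  -- (b) conjugation invariance
  have hconj : ∀ g ∈ G, ∀ K : Subgroup X, cV (K.map (MulAut.conj g).toMonoidHom) = cV K := by
    intro g hg K
    simp only [hcV]
    have h1 : (V ⊓ Subgroup.centralizer (K : Set X)).map (MulAut.conj g).toMonoidHom =
        V ⊓ Subgroup.centralizer ((K.map (MulAut.conj g).toMonoidHom : Subgroup X) : Set X) := by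
      rw [Subgroup.map_inf_eq _ _ _ (MulAut.conj g).injective, centralizer_map_conj,
        map_conj_eq_self_of_mem_normalizer (hGV hg)]
    rw [← h1, card_map_conj]
  -- the inductive step
  have step : ∀ H : Subgroup X, Sp H → ∀ A' : Subgroup X, Sp A' →
      (∀ B : Subgroup X, B ≤ G → B ≠ ⊥ → Sp B → Nat.card A' ≤ Nat.card B) → A' ≤ G → ¬ A' ≤ H →
      Sp (H ⊔ A') := by
    intro H hH A' hA' hmin hA'G hnle
    have h4 : Nat.card H * Nat.card A' ≤ Nat.card ↥(H ⊔ A') * Nat.card ↥(H ⊓ A') :=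
      card_mul_card_le_sup_inf H A'
    have h5 : cV H * cV A' ≤ cV (H ⊔ A') * cV (H ⊓ A') := by
      simp only [hcV]
      have e1 := card_mul_card_le_sup_inf (V ⊓ Subgroup.centralizer (H : Set X))
        (V ⊓ Subgroup.centralizer (A' : Set X))
      have e2 : (V ⊓ Subgroup.centralizer (H : Set X)) ⊓ (V ⊓ Subgroup.centralizer (A' : Set X)) =
          V ⊓ Subgroup.centralizer ((H ⊔ A' : Subgroup X) : Set X) := by
        rw [centralizer_sup_eq]
        ext x
        simp only [Subgroup.mem_inf]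
        tauto
      have e3 : (V ⊓ Subgroup.centralizer (H : Set X)) ⊔ (V ⊓ Subgroup.centralizer (A' : Set X)) ≤
          V ⊓ Subgroup.centralizer ((H ⊓ A' : Subgroup X) : Set X) := by
        apply sup_le
        · exact inf_le_inf_left _ (Subgroup.centralizer_le (fun x hx => (inf_le_left : H ⊓ A' ≤ H) hx))
        · exact inf_le_inf_left _ (Subgroup.centralizer_le (fun x hx => (inf_le_right : H ⊓ A' ≤ A') hx))
      rw [e2] at e1
      calc _ ≤ _ := e1
        _ ≤ _ := by
          rw [mul_comm]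
          exact Nat.mul_le_mul_left _ (Subgroup.card_le_of_le e3)
    have h3 : (Nat.card ↥(H ⊓ A') : ℝ) ^ α * (cV (H ⊓ A') : ℝ) ≤ (Nat.card V : ℝ) := by
      by_cases hB : H ⊓ A' = ⊥
      · rw [hB, hcVbot, Subgroup.card_bot]
        simp
      · by_contra hlt
        push Not at hlt
        have h6 := hmin (H ⊓ A') (inf_le_right.trans hA'G) hB hlt.le
        have h7 : H ⊓ A' = A' := Subgroup.eq_of_le_of_card_ge inf_le_right h6
        exact hnle (h7 ▸ inf_le_left)
    -- real arithmetic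
    have hαnn : 0 ≤ α := hα.le
    have r4 : (Nat.card H : ℝ) ^ α * (Nat.card A' : ℝ) ^ α ≤
        (Nat.card ↥(H ⊔ A') : ℝ) ^ α * (Nat.card ↥(H ⊓ A') : ℝ) ^ α := by
      rw [← Real.mul_rpow (Nat.cast_nonneg _) (Nat.cast_nonneg _),
        ← Real.mul_rpow (Nat.cast_nonneg _) (Nat.cast_nonneg _)]
      apply Real.rpow_le_rpow (by positivity) _ hαnn
      exact_mod_cast h4
    have r5 : (cV H : ℝ) * (cV A' : ℝ) ≤ (cV (H ⊔ A') : ℝ) * (cV (H ⊓ A') : ℝ) := by
      exact_mod_cast h5
    have hbpos : 0 < (Nat.card ↥(H ⊓ A') : ℝ) ^ α * (cV (H ⊓ A') : ℝ) := by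
      apply mul_pos
      · apply Real.rpow_pos_of_pos
        exact_mod_cast Nat.card_pos
      · exact_mod_cast hcVpos _
    have hvpos : 0 < (Nat.card V : ℝ) := by exact_mod_cast Nat.card_pos
    show (Nat.card V : ℝ) ≤ (Nat.card ↥(H ⊔ A') : ℝ) ^ α * (cV (H ⊔ A') : ℝ)
    have key : (Nat.card V : ℝ) * ((Nat.card ↥(H ⊓ A') : ℝ) ^ α * (cV (H ⊓ A') : ℝ)) ≤
        ((Nat.card ↥(H ⊔ A') : ℝ) ^ α * (cV (H ⊔ A') : ℝ)) *
          ((Nat.card ↥(H ⊓ A') : ℝ) ^ α * (cV (H ⊓ A') : ℝ)) := by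
      calc (Nat.card V : ℝ) * ((Nat.card ↥(H ⊓ A') : ℝ) ^ α * (cV (H ⊓ A') : ℝ))
          ≤ (Nat.card V : ℝ) * (Nat.card V : ℝ) := mul_le_mul_of_nonneg_left h3 hvpos.le
        _ ≤ ((Nat.card H : ℝ) ^ α * (cV H : ℝ)) * ((Nat.card A' : ℝ) ^ α * (cV A' : ℝ)) :=
            mul_le_mul hH hA' hvpos.le (le_trans hvpos.le hH)
        _ = ((Nat.card H : ℝ) ^ α * (Nat.card A' : ℝ) ^ α) * ((cV H : ℝ) * (cV A' : ℝ)) := by ring
        _ ≤ ((Nat.card ↥(H ⊔ A') : ℝ) ^ α * (Nat.card ↥(H ⊓ A') : ℝ) ^ α) *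
              ((cV (H ⊔ A') : ℝ) * (cV (H ⊓ A') : ℝ)) := by
            apply mul_le_mul r4 r5 (by positivity) (by positivity)
        _ = _ := by ring
    exact le_of_mul_le_mul_right key hbpos
  -- choose H minimizing the fixed points
  obtain ⟨H, ⟨hHG, hHS⟩, hHmin⟩ := Set.exists_min_image
    {H : Subgroup X | H ≤ G ∧ Sp H} cV (Set.toFinite _)
    ⟨⊥, bot_le, by simp only [hSp]; rw [hcVbot, Subgroup.card_bot]; simp⟩
  have hfix : V ⊓ Subgroup.centralizer (H : Set X) = ⊥ := by
    by_contra hne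
    -- the normal closure of A₀ in G
    set N : Subgroup X := Subgroup.closure {x | ∃ g ∈ G, ∃ a ∈ A₀, x = g * a * g⁻¹} with hN
    have hA₀N : A₀ ≤ N := by
      intro a ha
      apply Subgroup.subset_closure
      exact ⟨1, G.one_mem, a, ha, by simp⟩
    have hW : G ≤ Subgroup.normalizer ((V ⊓ Subgroup.centralizer (N : Set X) : Subgroup X) : Set X) := by
      intro g hg
      apply mem_normalizer_of_forall_conj_mem
      intro w hw
      refine ⟨(Subgroup.mem_normalizer_iff.mp (hGV hg) w).mp hw.1, ?_⟩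
      have hw2 : w ∈ Subgroup.centralizer (N : Set X) := hw.2
      show g * w * g⁻¹ ∈ Subgroup.centralizer (N : Set X)
      rw [Subgroup.mem_centralizer_iff] at hw2 ⊢
      suffices N ≤ Subgroup.centralizer ({g * w * g⁻¹} : Set X) by
        intro n hn
        have := Subgroup.mem_centralizer_iff.mp (this hn) _ rfl
        exact this.symm
      rw [hN, Subgroup.closure_le]
      rintro x ⟨k, hk, a, ha, rfl⟩
      show k * a * k⁻¹ ∈ Subgroup.centralizer ({g * w * g⁻¹} : Set X)
      rw [Subgroup.mem_centralizer_iff]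
      intro y hy
      have hy' : y = g * w * g⁻¹ := hy
      rw [hy']
      have hmem : (g⁻¹ * k) * a * (g⁻¹ * k)⁻¹ ∈ N := by
        apply Subgroup.subset_closure
        exact ⟨g⁻¹ * k, G.mul_mem (G.inv_mem hg) hk, a, ha, rfl⟩
      have := hw2 _ hmem
      calc g * w * g⁻¹ * (k * a * k⁻¹) = g * (w * ((g⁻¹ * k) * a * (g⁻¹ * k)⁻¹)) * g⁻¹ := by group
        _ = g * (((g⁻¹ * k) * a * (g⁻¹ * k)⁻¹) * w) * g⁻¹ := by rw [this]
        _ = k * a * k⁻¹ * (g * w * g⁻¹) := by group
    have hWbot : V ⊓ Subgroup.centralizer (N : Set X) = ⊥ := by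
      rcases hirr _ inf_le_left hW with h | h
      · exact h
      · exfalso
        apply hA₀1
        rw [eq_bot_iff, ← hfaith]
        refine le_inf hA₀G ?_
        have h1 : V ≤ Subgroup.centralizer (N : Set X) := by
          rw [← h]; exact inf_le_right
        have h2 : N ≤ Subgroup.centralizer (V : Set X) := Subgroup.le_centralizer_iff.mp h1
        exact hA₀N.trans h2
    -- some conjugate of A₀ does not centralize the fixed points of H
    have hex : ∃ g ∈ G, ¬ A₀.map (MulAut.conj g).toMonoidHom ≤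
        Subgroup.centralizer ((V ⊓ Subgroup.centralizer (H : Set X) : Subgroup X) : Set X) := by
      by_contra hall
      push Not at hall
      apply hne
      rw [eq_bot_iff, ← hWbot]
      refine le_inf inf_le_left ?_
      rw [Subgroup.le_centralizer_iff, hN, Subgroup.closure_le]
      rintro x ⟨g, hg, a, ha, rfl⟩
      apply hall g hg
      exact ⟨a, ha, by simp [MulAut.conj_apply]⟩
    obtain ⟨g, hg, hgA⟩ := hex
    set A' := A₀.map (MulAut.conj g).toMonoidHom with hA'
    have hA'G : A' ≤ G := by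
      rintro _ ⟨a, ha, rfl⟩
      simp only [MulEquiv.coe_toMonoidHom, MulAut.conj_apply]
      exact G.mul_mem (G.mul_mem hg (hA₀G ha)) (G.inv_mem hg)
    have hA'card : Nat.card A' = Nat.card A₀ := card_map_conj A₀ g
    have hA'S : Sp A' := by
      simp only [hSp]
      rw [hconj g hg, hA'card]
      exact hA₀S
    have hA'min : ∀ B : Subgroup X, B ≤ G → B ≠ ⊥ → Sp B → Nat.card A' ≤ Nat.card B := by
      intro B hBG hB1 hBS
      rw [hA'card]
      exact hA₀min B ⟨hBG, hB1, hBS⟩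
    have hnle : ¬ A' ≤ H := by
      intro hle
      apply hgA
      refine hle.trans ?_
      rw [Subgroup.le_centralizer_iff]
      exact inf_le_right
    have hS' := step H hHS A' hA'S hA'min hA'G hnle
    have hmin' := hHmin (H ⊔ A') ⟨sup_le hHG hA'G, hS'⟩
    have hle : V ⊓ Subgroup.centralizer ((H ⊔ A' : Subgroup X) : Set X) ≤
        V ⊓ Subgroup.centralizer (H : Set X) :=
      inf_le_inf_left _ (Subgroup.centralizer_le (fun x hx => (le_sup_left : H ≤ H ⊔ A') hx))
    have heq := Subgroup.eq_of_le_of_card_ge hle hmin'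
    apply hgA
    rw [Subgroup.le_centralizer_iff, ← heq]
    refine inf_le_right.trans ?_
    exact Subgroup.centralizer_le (fun x hx => (le_sup_right : A' ≤ H ⊔ A') hx)
  have hfin : (Nat.card V : ℝ) ≤ (Nat.card H : ℝ) ^ α := by
    have := hHS
    simp only [hSp, hcV] at this
    rw [hfix, Subgroup.card_bot] at this
    simpa using this
  refine hfin.trans ?_
  apply Real.rpow_le_rpow (Nat.cast_nonneg _) _ hα.le
  exact_mod_cast Subgroup.card_le_of_le hHG

end Cfsg.Agent.S3037
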