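import Cfsg.Statements.S3044
import Cfsg.Agent.Lib.Helper6.IsoMin4
import Cfsg.Agent.Lib.Helper3.IsoMinD
import Cfsg.Agent.Lib.Helper4.IsoMinB2
import Cfsg.Agent.Lib.Helper7.IsoMinT

set_option autoImplicit false
open Cfsg

namespace Cfsg.Agent.S3044

/-- Let G be a finite group, p a prime, S a Sylow p-subgroup of G and P a p-minimal subgroup of G containing S (S is not normal in P and lies in exactly one maximal subgroup of P). Let L be the subgroup generated by N_G(S) and all p-minimal subgroups of G containing S other than P, and suppose P is isolated: O_p(L) is not contained in O_p(P). Put Y for the normal closure of O^p(P) in G. Then G = YL; P is again isolated in the subgroup YS (the subgroup L₀ generated by N_{YS}(S) and the p-minimal subgroups of YS containing S other than P has O_p(L₀) not contained in O_p(P)); and either Y = O^p(P), or p divides |Y/O_p(Y)|, Y/O_p(Y) is generated by its components (a central product of quasisimple groups),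 and S permutes these components transitively by conjugation. -/
theorem result {G : Type*} [Group G] [Finite G] {p : ℕ} [Fact p.Prime] (S : Sylow p G) (P : Subgroup G) (hSP : (S : Subgroup G) ≤ P) (hPmin : Cfsg.IsPMinimal p ↥P)
    (L Y : Subgroup G)
    (hL : L = Subgroup.normalizer ((S : Subgroup G) : Set G) ⊔ ⨆ P' : {P' : Subgroup G // (S : Subgroup G) ≤ P' ∧ Cfsg.IsPMinimal p ↥P' ∧ P' ≠ P}, (P' : Subgroup G))
    (hiso : ¬ (Cfsg.pCore p ↥L).map L.subtype ≤ (Cfsg.pCore p ↥P).map P.subtype)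
    (hY : Y = Subgroup.normalClosure (((Cfsg.pResidual p ↥P).map P.subtype : Subgroup G) : Set G)) :
    Y ⊔ L = ⊤ ∧
    ¬ (Cfsg.pCore p ↥((Subgroup.normalizer ((S : Subgroup G) : Set G) ⊓ (Y ⊔ (S : Subgroup G))) ⊔
          ⨆ P' : {P' : Subgroup G // (S : Subgroup G) ≤ P' ∧ P' ≤ Y ⊔ (S : Subgroup G) ∧ Cfsg.IsPMinimal p ↥P' ∧ P' ≠ P}, (P' : Subgroup G))).map
        (Subgroup.subtype _) ≤ (Cfsg.pCore p ↥P).map P.subtype ∧
    ((Cfsg.pResidual p ↥P).map P.subtype = Y ∨
     ∃ _ : (Cfsg.pCore p ↥Y).Normal,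
       p ∣ Nat.card (↥Y ⧸ Cfsg.pCore p ↥Y) ∧ Cfsg.layer (↥Y ⧸ Cfsg.pCore p ↥Y) = ⊤ ∧
       ∀ K₁ K₂ : Subgroup (↥Y ⧸ Cfsg.pCore p ↥Y), Cfsg.IsComponent K₁ → Cfsg.IsComponent K₂ →
         ∃ s ∈ (S : Subgroup G), ((K₂.comap (QuotientGroup.mk' (Cfsg.pCore p ↥Y))).map Y.subtype) = (((K₁.comap (QuotientGroup.mk' (Cfsg.pCore p ↥Y))).map Y.subtype)).map (MulAut.conj s).toMonoidHom) := by
  classical
  subst hY
  have h : Cfsg.Agent.Lib.Helper6.IsoMin.IsoHyp S P L := ⟨hSP, hPmin, hL, hiso⟩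
  haveI hRn : (Cfsg.pCoreOf p (Subgroup.normalClosure (Cfsg.pResidualOf p P : Set G))).Normal :=
    Cfsg.Agent.Lib.Helper6.pCoreOf_normal_of_normal p _
  have habs := h.absIso
  haveI hRn' : (Cfsg.pCoreOf p (Subgroup.normalClosure
      (((Cfsg.pResidual p ↥P).map P.subtype : Subgroup G) : Set G))).Normal := hRn
  refine ⟨h.Y_sup_L, ?_, ?_⟩
  · exact h.not_pCoreOf_le _
      (Cfsg.Agent.Lib.Helper6.IsoMin.S_le_L₀ (S : Subgroup G) P _) (h.L₀_le _)
  · by_cases hp : p ∣ Nat.card ↥(Cfsg.Agent.Lib.Helper7.IsoMinT.imN (p := p)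
        (Subgroup.normalClosure (Cfsg.pResidualOf p P : Set G)))
    · right
      obtain ⟨h4, h5⟩ := Cfsg.Agent.Lib.Helper3.IsoMinD.absIso_dvd habs hp
      refine ⟨inferInstance, ?_, ?_, ?_⟩
      · rw [Cfsg.Agent.Lib.Helper7.IsoMinT.card_quot]; exact hp
      · exact Cfsg.Agent.Lib.Helper7.IsoMinT.layer_quot_eq_top _ h4
      · exact Cfsg.Agent.Lib.Helper7.IsoMinT.components_conj_transfer _ (S : Subgroup G) h5
    · left
      have hcop : (Nat.card ↥(Cfsg.Agent.Lib.Helper7.IsoMinT.imN (p := p)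
          (Subgroup.normalClosure (Cfsg.pResidualOf p P : Set G)))).Coprime p :=
        ((Nat.Prime.coprime_iff_not_dvd Fact.out).mpr hp).symm
      obtain ⟨h1, -, -⟩ := Cfsg.Agent.Lib.Helper4.IsoMinB.absIso_coprime habs hcop
      exact (h.eq_of_map_eq h1).symm

end Cfsg.Agent.S3044
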