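import Cfsg.Statements.S3045
import Cfsg.Agent.Lib.Helper6.IsoMin4
import Cfsg.Agent.Lib.Helper3.IsoMinD
import Cfsg.Agent.Lib.Helper3.IsoMinF
import Cfsg.Agent.Lib.Helper4.IsoMinB2
import Cfsg.Agent.Lib.Helper7.IsoMinT

set_option autoImplicit false
open Cfsg

namespace Cfsg.Agent.S3045

/-- Let G be a finite group, p a prime, S a Sylow p-subgroup of G and P a p-minimal subgroup of G containing S. Let L be the subgroup generated by N_G(S) and all p-minimal subgroups of G containing S other than P, and suppose O_p(L) is not contained in O_p(P). Put Y for the normal closure of O^p(P) in G. Then O^p(P) is contained in the preimage in G of F*(G/O_p(G)); and if Y is solvable, then Y = O^p(P) and Y/O_p(Y) is a t-group of nilpotency class at most 2 for some prime t ≠ p. -/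
theorem result {G : Type*} [Group G] [Finite G] {p : ℕ} [Fact p.Prime] (S : Sylow p G) (P : Subgroup G) (hSP : (S : Subgroup G) ≤ P) (hPmin : Cfsg.IsPMinimal p ↥P)
    (L Y : Subgroup G)
    (hL : L = Subgroup.normalizer ((S : Subgroup G) : Set G) ⊔ ⨆ P' : {P' : Subgroup G // (S : Subgroup G) ≤ P' ∧ Cfsg.IsPMinimal p ↥P' ∧ P' ≠ P}, (P' : Subgroup G))
    (hiso : ¬ (Cfsg.pCore p ↥L).map L.subtype ≤ (Cfsg.pCore p ↥P).map P.subtype)
    (hY : Y = Subgroup.normalClosure (((Cfsg.pResidual p ↥P).map P.subtype : Subgroup G) : Set G)) [hn : (Cfsg.pCore p G).Normal] :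
    (Cfsg.pResidual p ↥P).map P.subtype ≤ (Cfsg.generalizedFittingSubgroup (G ⧸ Cfsg.pCore p G)).comap (QuotientGroup.mk' (Cfsg.pCore p G)) ∧
    (Group.IsSolvable ↥Y → (Cfsg.pResidual p ↥P).map P.subtype = Y ∧
       ∃ _ : (Cfsg.pCore p ↥Y).Normal, ∃ t : ℕ, t.Prime ∧ t ≠ p ∧ IsPGroup t (↥Y ⧸ Cfsg.pCore p ↥Y) ∧
         ∃ _ : Group.IsNilpotent (↥Y ⧸ Cfsg.pCore p ↥Y), Group.nilpotencyClass (↥Y ⧸ Cfsg.pCore p ↥Y) ≤ 2) := by
  classical
  subst hY
  have h : Cfsg.Agent.Lib.Helper6.IsoMin.IsoHyp S P L := ⟨hSP, hPmin, hL, hiso⟩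
  haveI hRn : (Cfsg.pCoreOf p (Subgroup.normalClosure (Cfsg.pResidualOf p P : Set G))).Normal :=
    Cfsg.Agent.Lib.Helper6.pCoreOf_normal_of_normal p _
  have habs := h.absIso
  haveI hRn' : (Cfsg.pCoreOf p (Subgroup.normalClosure
      (((Cfsg.pResidual p ↥P).map P.subtype : Subgroup G) : Set G))).Normal := hRn
  refine ⟨Cfsg.Agent.Lib.Helper3.IsoMinF.D_le_fstar h, ?_⟩
  intro hsol
  have hcop : (Nat.card ↥(Cfsg.Agent.Lib.Helper7.IsoMinT.imN (p := p)
      (Subgroup.normalClosure (Cfsg.pResidualOf p P : Set G)))).Coprime p := by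
    by_contra hnc
    have hp : p ∣ Nat.card ↥(Cfsg.Agent.Lib.Helper7.IsoMinT.imN (p := p)
        (Subgroup.normalClosure (Cfsg.pResidualOf p P : Set G))) := by
      by_contra hnd
      exact hnc ((Nat.Prime.coprime_iff_not_dvd Fact.out).mpr hnd).symm
    obtain ⟨h4, -⟩ := Cfsg.Agent.Lib.Helper3.IsoMinD.absIso_dvd habs hp
    -- the image of the solvable group Y is solvable, so its layer is trivial
    haveI hsol' : Group.IsSolvable ↥(Subgroup.normalClosure (Cfsg.pResidualOf p P : Set G)) := hsol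
    haveI : Group.IsSolvable ↥(Cfsg.Agent.Lib.Helper7.IsoMinT.imN (p := p)
        (Subgroup.normalClosure (Cfsg.pResidualOf p P : Set G))) :=
      solvable_of_surjective (Cfsg.Agent.Lib.Helper7.IsoMinT.toN_surjective (p := p)
        (Subgroup.normalClosure (Cfsg.pResidualOf p P : Set G)))
    have h5 : Cfsg.layer ↥(Cfsg.Agent.Lib.Helper7.IsoMinT.imN (p := p)
        (Subgroup.normalClosure (Cfsg.pResidualOf p P : Set G))) = ⊥ :=
      Cfsg.Agent.Lib.Helper3.layer_eq_bot_of_le_isSolvable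
        (H := (⊤ : Subgroup ↥(Cfsg.Agent.Lib.Helper7.IsoMinT.imN (p := p)
          (Subgroup.normalClosure (Cfsg.pResidualOf p P : Set G))))) inferInstance le_top
    rw [h4] at h5
    have hcard : Nat.card ↥(Cfsg.Agent.Lib.Helper7.IsoMinT.imN (p := p)
        (Subgroup.normalClosure (Cfsg.pResidualOf p P : Set G))) = 1 := by
      rw [← Subgroup.card_top, h5, Subgroup.card_bot]
    rw [hcard] at hp
    exact (Fact.out : p.Prime).one_lt.ne' (Nat.dvd_one.mp hp)
  obtain ⟨h1, h2, t, ht, hne, htN⟩ := Cfsg.Agent.Lib.Helper4.IsoMinB.absIso_coprime habs hcop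
  refine ⟨(h.eq_of_map_eq h1).symm, inferInstance, t, ht, hne, ?_, ?_⟩
  · exact Cfsg.Agent.Lib.Helper7.IsoMinT.isPGroup_quot _ htN
  · exact Cfsg.Agent.Lib.Helper7.IsoMinT.nilpotencyClass_quot_le_two _ h2

end Cfsg.Agent.S3045
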