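import Mathlib
import Cfsg.Statements.S3049
import Cfsg.Agent.Lib.Lead.IsoRankD
import Cfsg.Agent.Lib.Helper3.Components7

set_option autoImplicit false
open Cfsg

namespace Cfsg.Agent.S3049

open Cfsg.Agent.Lib.Lead.IsoRank Cfsg.Agent.Lib.Helper3 Subgroup

/-- Let G be a finite group and p an odd prime with O_{p'}(G) = 1. Suppose that G has p-rank at most 2 (no elementary abelian subgroup of order p³) and that some element x of order p is isolated in G (no G-conjugate of x other than x commutes with x) and not central. Then the generalized Fitting subgroup F*(G) is a non-abelian simple group. Since O_{p'}(G) = 1, such an x is not central modulo O_{p'}(G): the hypotheses describe a counterexample to the Z*_p statement in p-rank at most 2. -/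
theorem result {G : Type*} [Group G] [Finite G] {p : ℕ} [Fact p.Prime] (hp : p ≠ 2) (hcore : Cfsg.pPrimeCore p G = ⊥)
    (hrank : Cfsg.PRankLE p 2 G) (x : G) (hx : orderOf x = p) (hiso : Cfsg.IsIsolated x) (hnc : x ∉ Subgroup.center G) :
    IsSimpleGroup ↥(Cfsg.generalizedFittingSubgroup G) ∧ ¬ IsMulCommutative ↥(Cfsg.generalizedFittingSubgroup G) := by
  have hLex : ∃ L : Subgroup G, IsComponent L ∧ ¬ L ≤ centralizer ({x} : Set G) := by
    by_contra hno
    push Not at hno
    apply hnc
    have hE : layer G ≤ centralizer ({x} : Set G) := by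
      rw [layer_le_iff]
      exact hno
    have hQ : pCore p G ≤ centralizer ({x} : Set G) := by
      have hQp : IsPGroup p (pCore p G) := Cfsg.Agent.Lib.Helper6.pCore_isPGroup p
      have hZp : IsPGroup p (zpowers x) :=
        IsPGroup.of_card (n := 1) (by rw [Nat.card_zpowers, hx, pow_one])
      have hR : IsPGroup p (zpowers x ⊔ pCore p G : Subgroup G) :=
        IsPGroup.to_sup_of_normal_right hZp hQp
      have hxR : x ∈ (zpowers x ⊔ pCore p G : Subgroup G) :=
        le_sup_left (α := Subgroup G) (Subgroup.mem_zpowers x)
      have hc := comm_of_mem_pgroup hx hiso hR hxR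
      intro q hq
      rw [Subgroup.mem_centralizer_iff]
      intro w hw
      rw [Set.mem_singleton_iff] at hw
      rw [hw]
      exact (hc q (le_sup_right (α := Subgroup G) hq)).symm
    have hFit : fittingSubgroup G ≤ centralizer ({x} : Set G) :=
      (Cfsg.Agent.Lib.Helper4.LBal.fittingSubgroup_le_pCore hcore).trans hQ
    have hF : generalizedFittingSubgroup G ≤ centralizer ({x} : Set G) := sup_le hE hFit
    have hxC : x ∈ centralizer (generalizedFittingSubgroup G : Set G) := by
      rw [Subgroup.mem_centralizer_iff]
      intro f hf
      have := hF hf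
      rw [Subgroup.mem_centralizer_iff] at this
      exact (this x (Set.mem_singleton x)).symm
    have hxF : x ∈ generalizedFittingSubgroup G := centralizer_generalizedFittingSubgroup_le hxC
    have hFn : (generalizedFittingSubgroup G).Normal := inferInstance
    have h2 := (Cfsg.Agent.S2969.result x ⟨1, by rw [hx, pow_one]⟩ hiso).2 ⊤
      (generalizedFittingSubgroup G) le_top
      (by rw [Subgroup.normalizer_eq_top_iff.mpr hFn]) hxF
    have h3 : (⊤ : Subgroup G) ≤ centralizer ({x} : Set G) := by
      rw [← h2]
      exact sup_le hF inf_le_right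
    rw [Subgroup.mem_center_iff]
    intro g
    have := h3 (Subgroup.mem_top g)
    rw [Subgroup.mem_centralizer_iff] at this
    exact (this x (Set.mem_singleton x)).symm
  obtain ⟨L, hL, hLx⟩ := hLex
  apply simple_of_inf_centralizer_eq_bot hL
  by_cases hxF : x ∈ generalizedFittingSubgroup G
  · exact inf_centralizer_eq_bot_caseII hp hcore hrank hx hiso hxF hL hLx
  · exact inf_centralizer_eq_bot_caseI hp hcore (pRankLE_one_fstar hrank hx hiso hxF) hL

end Cfsg.Agent.S3049
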