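import Cfsg.Statements.S3050
import Cfsg.Agent.Lib.Helper5.HigDefs
import Cfsg.Agent.Lib.Helper6.HigClassTwo
import Cfsg.Agent.Lib.Helper6.HigAbelian
import Cfsg.Agent.Lib.Helper7.HigThmII0
import Cfsg.Agent.Lib.Helper8.HigFinal

set_option autoImplicit false
open Cfsg

namespace Cfsg.Agent.S3050

open Cfsg.Agent.Lib.Helper5.Hig in
/-- Theorem II (elementary abelian), from the induction core and the packages SB, AB. -/
theorem elemAb_glue {K : Type*} [Field K] [Fintype K] [CharP K 2] {Γ : Type*} [Group Γ] [Finite Γ]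
    {Q : Subgroup Γ} [Q.Normal] (c : Cfg K Γ Q) (hc : c.Ok) (hQ : IsPGroup 2 Q)
    (h4 : 4 ≤ Fintype.card K) :
    (∀ p ∈ Q, ∀ q ∈ Q, p * q = q * p) ∧ ∀ q ∈ Q, q ^ 2 = 1 :=
  ThmII.elemAb_of
    (fun c hc hQ hcomm hsq => abelian_of_quot c hc hQ h4 hcomm hsq)
    (fun c hc hQ hab h4Q => sq_of_abelian c hc hQ h4 hab h4Q) c hc hQ

open Cfsg.Agent.Lib.Helper5.Hig in
/-- Let G be a finite group with a normal 2-subgroup Q such that G/Q is isomorphic to SL(2, 2ⁿ) with n ≥ 2, and suppose some element of G of order 3 fixes no nonidentity element of Q under conjugation. Then Q is elementary abelian and is the direct sum of natural modules. -/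
theorem result {G : Type*} [Group G] [Finite G]
    (Q : Subgroup G) [Q.Normal] (hQ : IsPGroup 2 ↥Q) (n : ℕ) (hn : 2 ≤ n)
    (K : Type*) [Field K] [Fintype K] (hK : Fintype.card K = 2 ^ n)
    (e : G ⧸ Q ≃* Matrix.SpecialLinearGroup (Fin 2) K)
    (x : G) (hx : orderOf x = 3) (hfpf : ∀ q ∈ Q, x * q * x⁻¹ = q → q = 1) :
    Cfsg.IsElementaryAbelian 2 Q ∧
      ∃ (k : ℕ) (V : Fin k → Subgroup G), (∀ i, V i ≤ Q ∧ (V i).Normal ∧
        Cfsg.ActsAsSL2OnSection K ⊤ ⊤ (V i) ⊥) ∧ iSupIndep V ∧ ⨆ i, V i = Q := by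
  have h4 : 4 ≤ Fintype.card K := by
    rw [hK]
    calc 4 = 2 ^ 2 := by norm_num
      _ ≤ 2 ^ n := Nat.pow_le_pow_right (by norm_num) hn
  haveI : CharP K 2 := by
    obtain ⟨p, hp⟩ := CharP.exists K
    haveI := hp
    obtain ⟨m, hprime, hm⟩ := FiniteField.card K p
    have : p = 2 := by
      have h2 : p ∣ 2 ^ n := by
        rw [← hK, hm]
        exact dvd_pow_self p (PNat.ne_zero m)
      exact (Nat.prime_dvd_prime_iff_eq hprime Nat.prime_two).mp (hprime.dvd_of_dvd_pow h2)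
    subst this
    exact hp
  let c : Cfg K G Q := ⟨e, x⟩
  have hc : c.Ok := ⟨hx, hfpf⟩
  obtain ⟨hab, h2⟩ := elemAb_glue c hc hQ h4
  refine ⟨⟨?_, fun a ha => h2 a ha⟩, final c hc hQ h4 hab h2⟩
  exact ⟨⟨fun a b => Subtype.ext (hab a a.2 b b.2)⟩⟩

end Cfsg.Agent.S3050
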