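import Mathlib
import Cfsg.Prelude.Def_Transfer
import Cfsg.Prelude.Def_TwoFusion
import Cfsg.Agent.Lib.Lead.ClassTwo
import Cfsg.Agent.Lib.Lead.Extraspecial
import Cfsg.Agent.Lib.Lead.Frattini
import Cfsg.Agent.Lib.Helper6.Conj
import Cfsg.Agent.Lib.Helper6.Conj2
import Cfsg.Agent.Lib.Helper6.Amalgam4
import Cfsg.Agent.Lib.Helper6.LocalKieler
import Cfsg.Statements.S3053

set_option autoImplicit false
open Cfsg

namespace Cfsg.Agent.S3053

open Cfsg.Agent.Lib.Helper6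
open scoped commutatorElement

section helpers

/-- structure of an extraspecial group of order `p^3` and exponent `p^2`, `p` odd -/
theorem structure_lemma {P : Type*} [Group P] [Finite P] {p : ℕ} [hpf : Fact p.Prime] (hp : p ≠ 2)
    (hE : Cfsg.IsExtraspecial p P) (hcard : Nat.card P = p ^ 3)
    (hexp : Monoid.exponent P = p ^ 2) :
    ∃ E : Subgroup P, Nat.card E = p ^ 2 ∧ (∀ x, x ∈ E ↔ x ^ p = 1) ∧ Subgroup.center P ≤ E ∧
      (∀ x ∈ E, ∀ y ∈ E, x * y = y * x) ∧ (∀ a, (∀ x ∈ E, a * x = x * a) → a ∈ E) ∧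
      (∀ a b : P, ⁅a, b⁆ ∈ Subgroup.center P) := by
  obtain ⟨hs, hZcard⟩ := hE
  have h2 := Cfsg.Agent.Lib.Lead.special_class_two hs
  have hc := Cfsg.Agent.Lib.Lead.commutatorElement_mem_center_of_class_two h2
  have hcenpow : ∀ z ∈ Subgroup.center P, z ^ p = 1 := by
    intro z hz
    have := pow_card_eq_one' (G := Subgroup.center P) (x := ⟨z, hz⟩)
    rw [hZcard] at this
    exact congrArg Subtype.val this
  have h3 : 2 < p := lt_of_le_of_ne hpf.out.two_le (Ne.symm hp)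
  obtain ⟨k, hk⟩ := Nat.Prime.dvd_choose_self hpf.out (by norm_num : (2 : ℕ) ≠ 0) h3
  let φ : P →* P :=
    { toFun := fun x => x ^ p
      map_one' := one_pow _
      map_mul' := fun x y => by
        show (x * y) ^ p = x ^ p * y ^ p
        rw [Cfsg.Agent.Lib.Lead.mul_pow_of_class_two hc x y p, hk, pow_mul, hcenpow _ (hc y x),
          one_pow, mul_one] }
  have hrange : φ.range ≤ Subgroup.center P := by
    rintro _ ⟨x, rfl⟩
    show x ^ p ∈ Subgroup.center P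
    rw [← hs.2.1]
    exact Cfsg.Agent.Lib.Lead.pow_mem_frattini_of_isPGroup hs.1 x
  have hrange1 : φ.range ≠ ⊥ := by
    intro h0
    have : ∀ x : P, x ^ p = 1 := by
      intro x
      have hx : φ x ∈ φ.range := ⟨x, rfl⟩
      rw [h0, Subgroup.mem_bot] at hx
      exact hx
    have hdvd : Monoid.exponent P ∣ p := Monoid.exponent_dvd_of_forall_pow_eq_one this
    rw [hexp] at hdvd
    have : p ^ 2 ≤ p := Nat.le_of_dvd hpf.out.pos hdvd
    nlinarith [hpf.out.two_le]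
  have hrangecard : Nat.card φ.range = p := by
    have h1 : Nat.card φ.range ∣ p := hZcard ▸ Subgroup.card_dvd_of_le hrange
    rcases (Nat.dvd_prime hpf.out).mp h1 with h | h
    · exact absurd (Subgroup.card_eq_one.mp h) hrange1
    · exact h
  have hkercard : Nat.card φ.ker = p ^ 2 := by
    have h1 := Subgroup.card_mul_index φ.ker
    rw [Subgroup.index_ker, hrangecard, hcard] at h1
    have hp0 : 0 < p := hpf.out.pos
    have : Nat.card φ.ker * p = p ^ 2 * p := by rw [h1]; ring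
    exact Nat.eq_of_mul_eq_mul_right hp0 this
  have hmem : ∀ x, x ∈ φ.ker ↔ x ^ p = 1 := fun x => MonoidHom.mem_ker
  have hZle : Subgroup.center P ≤ φ.ker := fun z hz => (hmem z).mpr (hcenpow z hz)
  have hab : ∀ x ∈ φ.ker, ∀ y ∈ φ.ker, x * y = y * x := by
    intro x hx y hy
    haveI := IsPGroup.isMulCommutative_of_card_eq_prime_sq hkercard
    have hcomm : ∀ a b : φ.ker, a * b = b * a := fun a b => mul_comm' a b
    have := hcomm ⟨x, hx⟩ ⟨y, hy⟩
    exact congrArg Subtype.val this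
  refine ⟨φ.ker, hkercard, hmem, hZle, hab, ?_, hc⟩
  intro a ha
  by_contra haE
  -- centralizer of E is bigger than E, hence everything
  have hle : φ.ker ≤ Subgroup.centralizer (φ.ker : Set P) := by
    intro x hx y hy
    exact hab y hy x hx
  have hlt : φ.ker < Subgroup.centralizer (φ.ker : Set P) := by
    refine lt_of_le_of_ne hle ?_
    intro h0
    apply haE
    rw [h0]
    intro y hy
    exact (ha y hy).symm
  have hPp : IsPGroup p P := hs.1
  have h4 := Cfsg.Agent.Lib.Lead.card_mul_le_of_lt hPp hlt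
  rw [hkercard] at h4
  have h5 : Nat.card (Subgroup.centralizer (φ.ker : Set P)) ≤ p ^ 3 :=
    hcard ▸ Subgroup.card_le_card_group _
  have h6 : Subgroup.centralizer (φ.ker : Set P) = ⊤ := by
    apply Subgroup.eq_top_of_card_eq
    rw [hcard]
    have : p * p ^ 2 = p ^ 3 := by ring
    omega
  have h7 : φ.ker ≤ Subgroup.center P := by
    intro x hx
    rw [Subgroup.mem_center_iff]
    intro g
    have hg : g ∈ Subgroup.centralizer (φ.ker : Set P) := by rw [h6]; exact Subgroup.mem_top g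
    exact (hg x hx).symm
  have h8 := Subgroup.card_le_of_le h7
  rw [hkercard, hZcard] at h8
  nlinarith [hpf.out.two_le]

section ambient

variable {G : Type*} [Group G] [Finite G] {p : ℕ} [hpf : Fact p.Prime]

/-- the data of the Sylow subgroup, its centre and its `Ω₁` inside `G` -/
structure Setup (p : ℕ) (P Z E : Subgroup G) : Prop where
  hSyl : IsSylowOf p ⊤ P
  hZE : Z ≤ E
  hEP : E ≤ P
  hZc : ∀ z ∈ Z, ∀ y ∈ P, z * y = y * z
  hZcard : Nat.card Z = p
  hEcard : Nat.card E = p ^ 2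
  hPcard : Nat.card P = p ^ 3
  hE1 : ∀ x ∈ P, x ∈ E ↔ x ^ p = 1
  hEab : ∀ x ∈ E, ∀ y ∈ E, x * y = y * x
  hCE : ∀ a ∈ P, (∀ x ∈ E, a * x = x * a) → a ∈ E
  hcomm : ∀ a ∈ P, ∀ x ∈ P, a * x * a⁻¹ * x⁻¹ ∈ Z
  hexp : ∀ x ∈ P, x ^ (p ^ 2) = 1

variable {P Z E : Subgroup G}

omit [Finite G] in
theorem Setup.eq_E (h : Setup p P Z E) (H : Subgroup G) (hHE : H ≤ E) (hZH : Z ≤ H) (e : G)
    (heH : e ∈ H) (heZ : e ∉ Z) : H = E := by
  haveI : Finite E := Nat.finite_of_card_ne_zero (by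
    rw [h.hEcard]; exact pow_ne_zero _ hpf.out.pos.ne')
  haveI : Finite H := Finite.of_injective (Subgroup.inclusion hHE) (Subgroup.inclusion_injective hHE)
  have h1 : Nat.card H ∣ p ^ 2 := h.hEcard ▸ Subgroup.card_dvd_of_le hHE
  obtain ⟨i, hi, hHc⟩ := (Nat.dvd_prime_pow hpf.out).mp h1
  have hlt : Z < H := lt_of_le_of_ne hZH (fun h0 => heZ (h0 ▸ heH))
  have h2 : Nat.card Z < Nat.card H := by
    by_contra hcon
    push Not at hcon
    exact hlt.ne (Subgroup.eq_of_le_of_card_ge hZH hcon)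
  rw [h.hZcard, hHc] at h2
  have hi2 : i = 2 := by
    rcases Nat.lt_or_ge i 2 with h3 | h3
    · exfalso
      have : p ^ i ≤ p ^ 1 := Nat.pow_le_pow_right hpf.out.pos (by omega)
      rw [pow_one] at this
      omega
    · omega
  apply Subgroup.eq_of_le_of_card_ge hHE
  rw [hHc, hi2, h.hEcard]

theorem Setup.exists_pow_eq (h : Setup p P Z E) (z₁ : G) (hz₁ : z₁ ∈ Z) (hne : z₁ ≠ 1) (y : G)
    (hy : y ∈ Z) : ∃ k : ℕ, z₁ ^ k = y := by
  have hle : Subgroup.zpowers z₁ ≤ Z := (Subgroup.zpowers_le).mpr hz₁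
  have h1 : Nat.card (Subgroup.zpowers z₁) ∣ p := h.hZcard ▸ Subgroup.card_dvd_of_le hle
  have h2 : Nat.card (Subgroup.zpowers z₁) = p := by
    rcases (Nat.dvd_prime hpf.out).mp h1 with h3 | h3
    · exfalso
      rw [Subgroup.card_eq_one, Subgroup.zpowers_eq_bot] at h3
      exact hne h3
    · exact h3
  have h3 : Subgroup.zpowers z₁ = Z :=
    Subgroup.eq_of_le_of_card_ge hle (by rw [h2, h.hZcard])
  have h4 : y ∈ Subgroup.zpowers z₁ := h3 ▸ hy
  rw [← mem_powers_iff_mem_zpowers] at h4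
  exact (Submonoid.mem_powers_iff _ _).mp h4

omit [Finite G] hpf in
theorem conj_pow_of_comm {a e c : G} (h1 : a * e * a⁻¹ = c * e) (h2 : a * c = c * a) (k : ℕ) :
    a ^ k * e * (a ^ k)⁻¹ = c ^ k * e := by
  induction k with
  | zero => simp
  | succ k ih =>
    have h3 : a * c ^ k = c ^ k * a := by
      have : Commute a c := h2
      exact (this.pow_right k).eq
    calc a ^ (k + 1) * e * (a ^ (k + 1))⁻¹ = a * (a ^ k * e * (a ^ k)⁻¹) * a⁻¹ := by
          rw [pow_succ']; group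
      _ = a * (c ^ k * e) * a⁻¹ := by rw [ih]
      _ = (a * c ^ k) * (e * a⁻¹) := by group
      _ = (c ^ k * a) * (e * a⁻¹) := by rw [h3]
      _ = c ^ k * (a * e * a⁻¹) := by group
      _ = c ^ k * (c * e) := by rw [h1]
      _ = c ^ (k + 1) * e := by rw [pow_succ]; group

omit [Finite G] in
theorem Setup.exists_not_mem (h : Setup p P Z E) : ∃ a ∈ P, a ∉ E := by
  by_contra hcon
  push Not at hcon
  have hle : P ≤ E := hcon
  haveI : Finite E := Nat.finite_of_card_ne_zero (by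
    rw [h.hEcard]; exact pow_ne_zero _ hpf.out.pos.ne')
  have := Subgroup.card_le_of_le hle
  rw [h.hPcard, h.hEcard] at this
  have h2 := hpf.out.two_le
  have : p ^ 3 = p ^ 2 * p := by ring
  nlinarith [pow_pos hpf.out.pos 2]

omit [Finite G] in
theorem Setup.conj_mem_E (h : Setup p P Z E) {a x : G} (ha : a ∈ P) (hx : x ∈ E) :
    a * x * a⁻¹ ∈ E := by
  have hx' := (h.hE1 x (h.hEP hx)).mp hx
  rw [h.hE1 _ (mul_mem (mul_mem ha (h.hEP hx)) (inv_mem ha)), conj_pow, hx']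
  group

theorem Setup.le_normalizer (h : Setup p P Z E) : P ≤ Subgroup.normalizer (E : Set G) := by
  intro a ha
  exact mem_normalizer_of_forall_conj_mem (fun s hs => h.conj_mem_E ha hs)

/-- transvections -/
theorem Setup.exists_transvection (h : Setup p P Z E) (e' : G) (he'E : e' ∈ E) (he'Z : e' ∉ Z)
    (y : G) (hy : y ∈ Z) : ∃ u ∈ P, u * e' * u⁻¹ = y * e' := by
  obtain ⟨a, haP, haE⟩ := h.exists_not_mem
  have hz₁ : a * e' * a⁻¹ * e'⁻¹ ∈ Z := h.hcomm a haP e' (h.hEP he'E)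
  have hne : a * e' * a⁻¹ * e'⁻¹ ≠ 1 := by
    intro h0
    apply haE
    apply h.hCE a haP
    -- the subgroup of E of elements commuting with a
    let H : Subgroup G := E ⊓ Subgroup.centralizer {a}
    have hae : e' * a = a * e' := by
      have : a * e' * a⁻¹ = e' := by
        have := congrArg (· * e') h0
        simpa using this
      calc e' * a = (a * e' * a⁻¹) * a := by rw [this]
        _ = a * e' := by group
    have hHE : H = E := by
      apply h.eq_E H inf_le_left ?_ e'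
        (Subgroup.mem_inf.mpr ⟨he'E, Subgroup.mem_centralizer_singleton_iff.mpr hae⟩) he'Z
      intro z hz
      exact Subgroup.mem_inf.mpr ⟨h.hZE hz,
        Subgroup.mem_centralizer_singleton_iff.mpr (h.hZc z hz a haP)⟩
    intro x hx
    have hxH : x ∈ H := hHE ▸ hx
    have := Subgroup.mem_centralizer_singleton_iff.mp (Subgroup.mem_inf.mp hxH).2
    exact this.symm
  obtain ⟨k, hk⟩ := h.exists_pow_eq _ hz₁ hne y hy
  refine ⟨a ^ k, pow_mem haP k, ?_⟩
  rw [← hk]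
  apply conj_pow_of_comm
  · group
  · exact (h.hZc _ hz₁ a haP).symm

/-- a fusing element can be chosen in `N_G(E)` -/
theorem Setup.exists_normalizing (h : Setup p P Z E) (z : G) (hz : z ∈ Z) (g : G)
    (hgP : g * z * g⁻¹ ∈ P) :
    ∃ n, n * z * n⁻¹ = g * z * g⁻¹ ∧ E.map (MulAut.conj n).toMonoidHom = E ∧ g * z * g⁻¹ ∈ E := by
  set e := g * z * g⁻¹ with he
  have hzp : z ^ p = 1 := (h.hE1 z (h.hEP (h.hZE hz))).mp (h.hZE hz)
  have heE : e ∈ E := by
    rw [h.hE1 e hgP, he, conj_pow, hzp]; group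
  -- the conjugate of `P` lies in the centralizer of `e`
  have hPg : P.map (MulAut.conj g).toMonoidHom ≤ Subgroup.centralizer {e} := by
    rintro _ ⟨y, hy, rfl⟩
    rw [Subgroup.mem_centralizer_singleton_iff]
    show g * y * g⁻¹ * e = e * (g * y * g⁻¹)
    have := h.hZc z hz y hy
    rw [he]
    calc g * y * g⁻¹ * (g * z * g⁻¹) = g * (y * z) * g⁻¹ := by group
      _ = g * (z * y) * g⁻¹ := by rw [this]
      _ = g * z * g⁻¹ * (g * y * g⁻¹) := by group
  have hsyl : IsSylowOf p (Subgroup.centralizer {e}) (P.map (MulAut.conj g).toMonoidHom) := by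
    refine (h.hSyl.map_conj g).of_le hPg ?_
    intro x _
    exact ⟨g⁻¹ * x * g, Subgroup.mem_top _, by simp [MulAut.conj_apply, mul_assoc]⟩
  have hpg : IsPGroup p (P ⊓ Subgroup.centralizer {e} : Subgroup G) :=
    h.hSyl.2.1.to_le inf_le_left
  obtain ⟨c, hc, hle⟩ := hsyl.exists_conj_ge hpg inf_le_right
  rw [map_conj_map_conj] at hle
  rw [Subgroup.mem_centralizer_singleton_iff] at hc
  refine ⟨c * g, ?_, ?_, heE⟩
  · calc c * g * z * (c * g)⁻¹ = c * (g * z * g⁻¹) * c⁻¹ := by group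
      _ = (c * e) * c⁻¹ := by rw [he]
      _ = (e * c) * c⁻¹ := by rw [hc]
      _ = e := by group
  · have hEle : E ≤ P ⊓ Subgroup.centralizer {e} := by
      intro x hx
      refine Subgroup.mem_inf.mpr ⟨h.hEP hx, Subgroup.mem_centralizer_singleton_iff.mpr ?_⟩
      exact h.hEab x hx e heE
    have h1 : E ≤ P.map (MulAut.conj (c * g)).toMonoidHom := hEle.trans hle
    have h2 : E.map (MulAut.conj (c * g)⁻¹).toMonoidHom ≤ E := by
      rintro _ ⟨x, hx, rfl⟩
      have hxP : (c * g)⁻¹ * x * (c * g) ∈ P := mem_map_conj.mp (h1 hx)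
      have hxp : x ^ p = 1 := (h.hE1 x (h.hEP hx)).mp hx
      show (c * g)⁻¹ * x * ((c * g)⁻¹)⁻¹ ∈ E
      rw [inv_inv, h.hE1 _ hxP]
      have : (c * g)⁻¹ * x * (c * g) = (c * g)⁻¹ * x * ((c * g)⁻¹)⁻¹ := by rw [inv_inv]
      rw [this, conj_pow, hxp]; group
    have h3 := map_conj_eq_self_of_le h2
    have h4 := congrArg (fun S => S.map (MulAut.conj (c * g)).toMonoidHom) h3
    simp only [map_conj_map_conj, mul_inv_cancel, map_conj_one] at h4
    exact h4.symm

/-- fusion of a central element to a noncentral one gives an element inverting `E` -/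
theorem Setup.exists_inverting (h : Setup p P Z E) (z : G) (hz : z ∈ Z) (g : G)
    (hgP : g * z * g⁻¹ ∈ P) (hgZ : g * z * g⁻¹ ∉ Z) :
    ∃ t ∈ Subgroup.normalizer (E : Set G), ∀ x ∈ E, t * x * t⁻¹ = x⁻¹ := by
  obtain ⟨n, hn, hnE, heE⟩ := h.exists_normalizing z hz g hgP
  set e := g * z * g⁻¹ with he
  have hz1 : z ≠ 1 := by
    intro h0
    apply hgZ
    rw [he, h0]
    have : g * 1 * g⁻¹ = 1 := by group
    rw [this]; exact one_mem _
  have hnN : n ∈ Subgroup.normalizer (E : Set G) := mem_normalizer_of_map_conj_eq_self hnE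
  have hnN' : n⁻¹ ∈ Subgroup.normalizer (E : Set G) := inv_mem hnN
  have hzE : z ∈ E := h.hZE hz
  -- w = n⁻¹ z n
  set w := n⁻¹ * z * n with hw
  have hwE : w ∈ E := by
    have := (Subgroup.mem_normalizer_iff.mp hnN' z).mp hzE
    rwa [inv_inv] at this
  have hnw : n * w * n⁻¹ = z := by rw [hw]; group
  have hw1 : w ≠ 1 := by
    intro h0
    apply hz1
    rw [← hnw, h0]; group
  have hwZ : w ∉ Z := by
    intro hwZ
    obtain ⟨i, hi⟩ := h.exists_pow_eq w hwZ hw1 z hz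
    apply hgZ
    have : e = z ^ i := by
      calc e = n * z * n⁻¹ := hn.symm
        _ = n * w ^ i * n⁻¹ := by rw [hi]
        _ = (n * w * n⁻¹) ^ i := conj_pow.symm
        _ = z ^ i := by rw [hnw]
    rw [this]
    exact pow_mem hz i
  have hne : n⁻¹ * e * n = z := by rw [← hn]; group
  obtain ⟨u, huP, hu⟩ := h.exists_transvection e heE hgZ z hz
  obtain ⟨u', hu'P, hu'⟩ := h.exists_transvection w hwE hwZ z⁻¹ (inv_mem hz)
  have huz : u * z * u⁻¹ = z := by
    have := h.hZc z hz u huP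
    calc u * z * u⁻¹ = (z * u) * u⁻¹ := by rw [this]
      _ = z := by group
  have hu'z : u' * z * u'⁻¹ = z := by
    have := h.hZc z hz u' hu'P
    calc u' * z * u'⁻¹ = (z * u') * u'⁻¹ := by rw [this]
      _ = z := by group
  set v := n * u' * n⁻¹ with hv
  have hvz : v * z * v⁻¹ = e⁻¹ * z := by
    calc v * z * v⁻¹ = n * (u' * (n⁻¹ * z * n) * u'⁻¹) * n⁻¹ := by rw [hv]; group
      _ = n * (z⁻¹ * w) * n⁻¹ := by rw [← hw, hu']
      _ = (n * z * n⁻¹)⁻¹ * (n * w * n⁻¹) := by group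
      _ = e⁻¹ * z := by rw [hn, hnw]
  have hve : v * e * v⁻¹ = e := by
    calc v * e * v⁻¹ = n * (u' * (n⁻¹ * e * n) * u'⁻¹) * n⁻¹ := by rw [hv]; group
      _ = n * z * n⁻¹ := by rw [hne, hu'z]
      _ = e := hn
  have hez : e * z = z * e := h.hEab e heE z hzE
  have huN : u ∈ Subgroup.normalizer (E : Set G) := h.le_normalizer huP
  have hvN : v ∈ Subgroup.normalizer (E : Set G) :=
    mul_mem (mul_mem hnN (h.le_normalizer hu'P)) hnN'
  -- w₀ = u v u
  set w₀ := u * v * u with hw₀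
  have hw₀z : w₀ * z * w₀⁻¹ = e⁻¹ := by
    calc w₀ * z * w₀⁻¹ = u * (v * (u * z * u⁻¹) * v⁻¹) * u⁻¹ := by rw [hw₀]; group
      _ = u * (e⁻¹ * z) * u⁻¹ := by rw [huz, hvz]
      _ = (u * e * u⁻¹)⁻¹ * (u * z * u⁻¹) := by group
      _ = (z * e)⁻¹ * z := by rw [hu, huz]
      _ = e⁻¹ := by group
  have hw₀e : w₀ * e * w₀⁻¹ = z := by
    calc w₀ * e * w₀⁻¹ = u * (v * (u * e * u⁻¹) * v⁻¹) * u⁻¹ := by rw [hw₀]; group
      _ = u * ((v * z * v⁻¹) * (v * e * v⁻¹)) * u⁻¹ := by rw [hu]; group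
      _ = u * (e⁻¹ * z * e) * u⁻¹ := by rw [hvz, hve]
      _ = u * (e⁻¹ * (e * z)) * u⁻¹ := by rw [hez]; group
      _ = u * z * u⁻¹ := by group
      _ = z := huz
  have hw₀N : w₀ ∈ Subgroup.normalizer (E : Set G) := mul_mem (mul_mem huN hvN) huN
  set t := w₀ * w₀ with ht
  have htz : t * z * t⁻¹ = z⁻¹ := by
    calc t * z * t⁻¹ = w₀ * (w₀ * z * w₀⁻¹) * w₀⁻¹ := by rw [ht]; group
      _ = (w₀ * e * w₀⁻¹)⁻¹ := by rw [hw₀z]; group
      _ = z⁻¹ := by rw [hw₀e]
  have hte : t * e * t⁻¹ = e⁻¹ := by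
    calc t * e * t⁻¹ = w₀ * (w₀ * e * w₀⁻¹) * w₀⁻¹ := by rw [ht]; group
      _ = e⁻¹ := by rw [hw₀e, hw₀z]
  have htN : t ∈ Subgroup.normalizer (E : Set G) := mul_mem hw₀N hw₀N
  refine ⟨t, htN, ?_⟩
  -- the subgroup of inverted elements
  let H : Subgroup G :=
    { carrier := {x | x ∈ E ∧ t * x * t⁻¹ = x⁻¹}
      one_mem' := ⟨one_mem _, by group⟩
      mul_mem' := by
        rintro a b ⟨haE, ha⟩ ⟨hbE, hb⟩
        refine ⟨mul_mem haE hbE, ?_⟩
        have hab := h.hEab a haE b hbE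
        calc t * (a * b) * t⁻¹ = (t * a * t⁻¹) * (t * b * t⁻¹) := by group
          _ = a⁻¹ * b⁻¹ := by rw [ha, hb]
          _ = (b * a)⁻¹ := by group
          _ = (a * b)⁻¹ := by rw [hab]
      inv_mem' := by
        rintro a ⟨haE, ha⟩
        refine ⟨inv_mem haE, ?_⟩
        calc t * a⁻¹ * t⁻¹ = (t * a * t⁻¹)⁻¹ := by group
          _ = a⁻¹⁻¹ := by rw [ha] }
  have hHE : H = E := by
    apply h.eq_E H (fun x hx => hx.1) ?_ e ⟨heE, hte⟩ hgZ
    intro y hy
    obtain ⟨k, hk⟩ := h.exists_pow_eq z hz hz1 y hy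
    refine ⟨h.hZE hy, ?_⟩
    rw [← hk, ← conj_pow, htz, inv_pow]
  intro x hx
  have : x ∈ H := hHE ▸ hx
  exact this.2

/-- acting trivially or by inversion on `E` -/
def pmOne (E : Subgroup G) : Subgroup G where
  carrier := {g | (∀ x ∈ E, g * x * g⁻¹ = x) ∨ (∀ x ∈ E, g * x * g⁻¹ = x⁻¹)}
  one_mem' := Or.inl (fun x _ => by group)
  mul_mem' := by
    intro a b ha hb
    have e1 : ∀ x, a * b * x * (a * b)⁻¹ = a * (b * x * b⁻¹) * a⁻¹ := fun x => by group
    rcases ha with ha | ha <;> rcases hb with hb | hb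
    · left; intro x hx; rw [e1, hb x hx, ha x hx]
    · right; intro x hx; rw [e1, hb x hx, ha _ (inv_mem hx)]
    · right; intro x hx; rw [e1, hb x hx, ha x hx]
    · left; intro x hx; rw [e1, hb x hx, ha _ (inv_mem hx), inv_inv]
  inv_mem' := by
    intro a ha
    rcases ha with ha | ha
    · left; intro x hx
      calc a⁻¹ * x * a⁻¹⁻¹ = a⁻¹ * (a * x * a⁻¹) * a := by rw [ha x hx, inv_inv]
        _ = x := by group
    · right; intro x hx
      calc a⁻¹ * x * a⁻¹⁻¹ = a⁻¹ * (a * x⁻¹ * a⁻¹) * a := by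
            rw [ha _ (inv_mem hx), inv_inv, inv_inv]
        _ = x⁻¹ := by group

omit [Finite G] in
theorem mem_pmOne {E : Subgroup G} {g : G} : g ∈ pmOne E ↔
    (∀ x ∈ E, g * x * g⁻¹ = x) ∨ (∀ x ∈ E, g * x * g⁻¹ = x⁻¹) := Iff.rfl

theorem pmOne_le_normalizer (E : Subgroup G) : pmOne E ≤ Subgroup.normalizer (E : Set G) := by
  intro g hg
  apply mem_normalizer_of_forall_conj_mem
  intro x hx
  rcases hg with hg | hg
  · rw [hg x hx]; exact hx
  · rw [hg x hx]; exact inv_mem hx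

omit [Finite G] in
theorem pmOne_normal (E : Subgroup G) (n : G) (hn : n ∈ Subgroup.normalizer (E : Set G))
    (g : G) (hg : g ∈ pmOne E) : n * g * n⁻¹ ∈ pmOne E := by
  have hn' : ∀ x ∈ E, n⁻¹ * x * n ∈ E := by
    intro x hx
    have := (Subgroup.mem_normalizer_iff.mp (inv_mem hn) x).mp hx
    rwa [inv_inv] at this
  have e1 : ∀ x, n * g * n⁻¹ * x * (n * g * n⁻¹)⁻¹ = n * (g * (n⁻¹ * x * n) * g⁻¹) * n⁻¹ :=
    fun x => by group
  rcases hg with hg | hg
  · left; intro x hx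
    rw [e1, hg _ (hn' x hx)]; group
  · right; intro x hx
    rw [e1, hg _ (hn' x hx)]; group

omit [Finite G] in
/-- conjugates of inverting elements by normalizing elements are inverting -/
theorem inverting_conj (E : Subgroup G) (n : G) (hn : n ∈ Subgroup.normalizer (E : Set G))
    (g : G) (hg : ∀ x ∈ E, g * x * g⁻¹ = x⁻¹) : ∀ x ∈ E, n * g * n⁻¹ * x * (n * g * n⁻¹)⁻¹ = x⁻¹ := by
  have hn' : ∀ x ∈ E, n⁻¹ * x * n ∈ E := by
    intro x hx
    have := (Subgroup.mem_normalizer_iff.mp (inv_mem hn) x).mp hx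
    rwa [inv_inv] at this
  intro x hx
  have e1 : n * g * n⁻¹ * x * (n * g * n⁻¹)⁻¹ = n * (g * (n⁻¹ * x * n) * g⁻¹) * n⁻¹ := by group
  rw [e1, hg _ (hn' x hx)]; group

omit [Finite G] in
theorem inverting_odd_pow (E : Subgroup G) (t : G) (ht : ∀ x ∈ E, t * x * t⁻¹ = x⁻¹) (j : ℕ) :
    ∀ x ∈ E, t ^ (2 * j + 1) * x * (t ^ (2 * j + 1))⁻¹ = x⁻¹ := by
  induction j with
  | zero => simpa using ht
  | succ j ih =>
    intro x hx
    have e1 : t ^ (2 * (j + 1) + 1) = t ^ (2 * j + 1) * t * t := by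
      rw [show 2 * (j + 1) + 1 = (2 * j + 1) + 1 + 1 by ring, pow_succ, pow_succ]
    calc t ^ (2 * (j + 1) + 1) * x * (t ^ (2 * (j + 1) + 1))⁻¹
        = t ^ (2 * j + 1) * (t * (t * x * t⁻¹) * t⁻¹) * (t ^ (2 * j + 1))⁻¹ := by rw [e1]; group
      _ = t ^ (2 * j + 1) * x * (t ^ (2 * j + 1))⁻¹ := by
          rw [ht x hx, ht _ (inv_mem hx), inv_inv]
      _ = x⁻¹ := ih x hx

theorem exists_sylowOf_ge' {q : ℕ} [Fact q.Prime] {M A : Subgroup G} (hA : IsPGroup q A)
    (hAM : A ≤ M) : ∃ R, IsSylowOf q M R ∧ A ≤ R := by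
  obtain ⟨R₀, hR₀⟩ := exists_isSylowOf q M
  obtain ⟨k, hkM, hk⟩ := hR₀.exists_conj_ge hA hAM
  refine ⟨R₀.map (MulAut.conj k).toMonoidHom, ?_, hk⟩
  have := hR₀.map_conj k
  rwa [map_conj_eq_self_of_mem_normalizer (Subgroup.le_normalizer hkM)] at this

/-- a Sylow 2-subgroup of `pmOne E` containing an inverting element -/
theorem exists_sylow_two_inverting (E : Subgroup G) (t : G) (ht : ∀ x ∈ E, t * x * t⁻¹ = x⁻¹) :
    ∃ T₂, IsSylowOf 2 (pmOne E) T₂ ∧ ∃ t₂ ∈ T₂, ∀ x ∈ E, t₂ * x * t₂⁻¹ = x⁻¹ := by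
  haveI : Fact (Nat.Prime 2) := Nat.fact_prime_two
  have ho : orderOf t ≠ 0 := (orderOf_pos t).ne'
  obtain ⟨s, m, hm, hsm⟩ := Nat.exists_eq_two_pow_mul_odd ho
  obtain ⟨j, rfl⟩ := hm
  have hinv := inverting_odd_pow E t ht j
  have hpow : (t ^ (2 * j + 1)) ^ (2 ^ s) = 1 := by
    rw [← pow_mul, mul_comm, ← hsm, pow_orderOf_eq_one]
  have hpg : IsPGroup 2 (Subgroup.zpowers (t ^ (2 * j + 1))) := by
    have hdvd : orderOf (t ^ (2 * j + 1)) ∣ 2 ^ s := orderOf_dvd_of_pow_eq_one hpow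
    obtain ⟨i, _, hi⟩ := (Nat.dvd_prime_pow Nat.prime_two).mp hdvd
    apply IsPGroup.of_card (n := i)
    rw [Nat.card_zpowers, hi]
  have hle : Subgroup.zpowers (t ^ (2 * j + 1)) ≤ pmOne E := by
    rw [Subgroup.zpowers_le]
    exact Or.inr hinv
  obtain ⟨T₂, hT₂, hle₂⟩ := exists_sylowOf_ge' hpg hle
  exact ⟨T₂, hT₂, t ^ (2 * j + 1), hle₂ (Subgroup.mem_zpowers _), hinv⟩

omit [Finite G] in
theorem eq_one_of_odd_of_inv {x : G} (hp : p ≠ 2) (h1 : x ^ p = 1) (h2 : x = x⁻¹) : x = 1 := by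
  have h3 : x ^ 2 = 1 := by
    rw [pow_two]
    nth_rewrite 2 [h2]
    exact mul_inv_cancel x
  have d1 : orderOf x ∣ p := orderOf_dvd_of_pow_eq_one h1
  have d2 : orderOf x ∣ 2 := orderOf_dvd_of_pow_eq_one h3
  have hcop : Nat.Coprime p 2 := (Nat.coprime_primes hpf.out Nat.prime_two).mpr hp
  have : orderOf x ∣ 1 := hcop ▸ Nat.dvd_gcd d1 d2
  exact orderOf_eq_one_iff.mp (Nat.dvd_one.mp this)

omit [Finite G] in
theorem Setup.exists_central_ne_one (h : Setup p P Z E) : ∃ z ∈ Z, z ≠ 1 := by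
  have hne : Z ≠ ⊥ := by
    intro h0
    have := h.hZcard
    rw [h0, Subgroup.card_bot] at this
    exact hpf.out.one_lt.ne this
  exact (Subgroup.ne_bot_iff_exists_ne_one).mp hne |>.elim fun z hz => ⟨z.1, z.2, fun h0 => hz (Subtype.ext h0)⟩

omit [Finite G] in
theorem Setup.le_pmOne (h : Setup p P Z E) : E ≤ pmOne E := by
  intro x hx
  left
  intro y hy
  rw [h.hEab x hx y hy]; group

omit [Finite G] in
theorem Setup.not_mem_pmOne (h : Setup p P Z E) (hp : p ≠ 2) {a : G} (haP : a ∈ P) (haE : a ∉ E) :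
    a ∉ pmOne E := by
  intro ha
  rcases ha with ha | ha
  · apply haE
    apply h.hCE a haP
    intro x hx
    calc a * x = (a * x * a⁻¹) * a := by group
      _ = x * a := by rw [ha x hx]
  · obtain ⟨z, hz, hz1⟩ := h.exists_central_ne_one
    apply hz1
    have hzp : z ^ p = 1 := (h.hE1 z (h.hEP (h.hZE hz))).mp (h.hZE hz)
    apply eq_one_of_odd_of_inv hp hzp
    rw [← ha z (h.hZE hz)]
    have := h.hZc z hz a haP
    calc z = (z * a) * a⁻¹ := by group
      _ = a * z * a⁻¹ := by rw [this]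

theorem Setup.exists_p_element (h : Setup p P Z E) (hp : p ≠ 2) (T₂ : Subgroup G)
    (hT₂ : IsSylowOf 2 (pmOne E) T₂) :
    ∃ r, r ∈ Subgroup.normalizer (E : Set G) ∧ r ∈ Subgroup.normalizer (T₂ : Set G) ∧
      r ∉ pmOne E ∧ IsPGroup p (Subgroup.zpowers r) := by
  haveI : Fact (Nat.Prime 2) := Nat.fact_prime_two
  obtain ⟨a, haP, haE⟩ := h.exists_not_mem
  have haN : a ∈ Subgroup.normalizer (E : Set G) := h.le_normalizer haP
  obtain ⟨l, hl, b, hb, hab⟩ := frattini_isSylowOf (pmOne_le_normalizer E) (pmOne_normal E) hT₂ a haN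
  have hbN : b ∈ Subgroup.normalizer (E : Set G) := hb.1
  have hbT : b ∈ Subgroup.normalizer (T₂ : Set G) := hb.2
  have ha1 : a ∉ pmOne E := h.not_mem_pmOne hp haP haE
  have hb1 : b ∉ pmOne E := by
    intro hb1
    apply ha1
    rw [hab]; exact mul_mem hl hb1
  have hba : b * a⁻¹ ∈ pmOne E := by
    have : b * a⁻¹ = l⁻¹ := by rw [hab]; group
    rw [this]
    exact inv_mem hl
  have hk : ∀ k : ℕ, b ^ k * (a ^ k)⁻¹ ∈ pmOne E := by
    intro k
    induction k with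
    | zero => simp
    | succ k ih =>
      have : b ^ (k + 1) * (a ^ (k + 1))⁻¹ =
          (b ^ k * (a ^ k)⁻¹) * (a ^ k * (b * a⁻¹) * (a ^ k)⁻¹) := by
        rw [pow_succ, pow_succ]; group
      rw [this]
      exact mul_mem ih (pmOne_normal E _ (pow_mem haN k) _ hba)
  have hapE : a ^ p ∈ E := by
    rw [h.hE1 _ (pow_mem haP p), ← pow_mul, ← pow_two]
    exact h.hexp a haP
  have hbp : b ^ p ∈ pmOne E := by
    have : b ^ p = (b ^ p * (a ^ p)⁻¹) * a ^ p := by group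
    rw [this]
    exact mul_mem (hk p) (h.le_pmOne hapE)
  have ho : orderOf b ≠ 0 := (orderOf_pos b).ne'
  obtain ⟨i, j, hj, hij⟩ := Nat.exists_eq_pow_mul_and_not_dvd ho p hpf.out.one_lt.ne'
  refine ⟨b ^ j, pow_mem hbN j, pow_mem hbT j, ?_, ?_⟩
  · intro hr
    apply hb1
    have hcop : Nat.Coprime j p := ((Nat.Prime.coprime_iff_not_dvd hpf.out).mpr hj).symm
    obtain ⟨m, _, hm⟩ := Nat.exists_mul_mod_eq_one_of_coprime hcop hpf.out.one_lt
    have h1 := Nat.div_add_mod (j * m) p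
    rw [hm] at h1
    have h2 : b ^ (j * m) = (b ^ p) ^ (j * m / p) * b := by
      rw [← pow_mul, ← pow_succ, h1]
    have h3 : b = ((b ^ p) ^ (j * m / p))⁻¹ * (b ^ j) ^ m := by
      have e1 : (b ^ j) ^ m = b ^ (j * m) := (pow_mul b j m).symm
      rw [e1, h2]; group
    rw [h3]
    exact mul_mem (inv_mem (pow_mem hbp _)) (pow_mem hr m)
  · have hpow : (b ^ j) ^ (p ^ i) = 1 := by
      rw [← pow_mul, mul_comm, ← hij, pow_orderOf_eq_one]
    have hdvd : orderOf (b ^ j) ∣ p ^ i := orderOf_dvd_of_pow_eq_one hpow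
    obtain ⟨i', _, hi'⟩ := (Nat.dvd_prime_pow hpf.out).mp hdvd
    apply IsPGroup.of_card (n := i')
    rw [Nat.card_zpowers, hi']

/-- a `p`-element normalizing the `2`-group `T₂` centralizes an inverting element of `T₂` -/
theorem exists_fixed_inverting (hp : p ≠ 2) (E T₂ : Subgroup G) (hT₂p : IsPGroup 2 T₂)
    (t₂ : G) (ht₂T : t₂ ∈ T₂) (ht₂ : ∀ x ∈ E, t₂ * x * t₂⁻¹ = x⁻¹)
    (r : G) (hrN : r ∈ Subgroup.normalizer (E : Set G))
    (hrT : r ∈ Subgroup.normalizer (T₂ : Set G)) (hrp : IsPGroup p (Subgroup.zpowers r)) :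
    ∃ x₀ ∈ T₂, (∀ x ∈ E, x₀ * x * x₀⁻¹ = x⁻¹) ∧ r * x₀ * r⁻¹ = x₀ := by
  have hA : Subgroup.zpowers r ≤ Subgroup.normalizer (E : Set G) ⊓ Subgroup.normalizer (T₂ : Set G) := by
    rw [Subgroup.zpowers_le]; exact ⟨hrN, hrT⟩
  let X : Set G := {x | x ∈ T₂ ∧ ∀ y ∈ E, x * y * x⁻¹ = y⁻¹}
  letI : MulAction (Subgroup.zpowers r) X :=
    { smul := fun a x => ⟨(a : G) * x * (a : G)⁻¹,
        (Subgroup.mem_normalizer_iff.mp (hA a.2).2 x).mp x.2.1,
        inverting_conj E a (hA a.2).1 x x.2.2⟩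
      one_smul := fun x => Subtype.ext (by
        show ((1 : Subgroup.zpowers r) : G) * x * ((1 : Subgroup.zpowers r) : G)⁻¹ = x
        simp)
      mul_smul := fun a b x => Subtype.ext (by
        show ((a * b : Subgroup.zpowers r) : G) * x * ((a * b : Subgroup.zpowers r) : G)⁻¹ =
          (a : G) * ((b : G) * x * (b : G)⁻¹) * (a : G)⁻¹
        rw [Subgroup.coe_mul]; group) }
  let K : Subgroup G := T₂ ⊓ Subgroup.centralizer (E : Set G)
  have hKp : IsPGroup 2 K := hT₂p.to_le inf_le_left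
  have hinv' : ∀ y ∈ E, t₂⁻¹ * y⁻¹ * t₂ = y := by
    intro y hy
    have := ht₂ y hy
    rw [← this]; group
  have hto : ∀ k ∈ K, t₂ * k ∈ X := by
    intro k hk
    obtain ⟨hk1, hk2⟩ := Subgroup.mem_inf.mp hk
    refine ⟨mul_mem ht₂T hk1, fun y hy => ?_⟩
    have hky := Subgroup.mem_centralizer_iff.mp hk2 y hy
    calc t₂ * k * y * (t₂ * k)⁻¹ = t₂ * (k * y) * k⁻¹ * t₂⁻¹ := by group
      _ = t₂ * (y * k) * k⁻¹ * t₂⁻¹ := by rw [hky]
      _ = t₂ * y * t₂⁻¹ := by group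
      _ = y⁻¹ := ht₂ y hy
  have hfrom : ∀ x ∈ X, t₂⁻¹ * x ∈ K := by
    intro x hx
    refine Subgroup.mem_inf.mpr ⟨mul_mem (inv_mem ht₂T) hx.1, ?_⟩
    rw [Subgroup.mem_centralizer_iff]
    intro y hy
    have hxy := hx.2 y hy
    symm
    calc (t₂⁻¹ * x) * y = t₂⁻¹ * (x * y * x⁻¹) * x := by group
      _ = t₂⁻¹ * y⁻¹ * x := by rw [hxy]
      _ = (t₂⁻¹ * y⁻¹ * t₂) * (t₂⁻¹ * x) := by group
      _ = y * (t₂⁻¹ * x) := by rw [hinv' y hy]
  let φ : K ≃ X :=
    { toFun := fun k => ⟨t₂ * k, hto k k.2⟩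
      invFun := fun x => ⟨t₂⁻¹ * x, hfrom x x.2⟩
      left_inv := fun k => Subtype.ext (by simp)
      right_inv := fun x => Subtype.ext (by simp) }
  have hcard : ¬ p ∣ Nat.card X := by
    rw [← Nat.card_congr φ]
    obtain ⟨n, hn⟩ := (IsPGroup.iff_card).mp hKp
    rw [hn]
    intro hdvd
    have := hpf.out.dvd_of_dvd_pow hdvd
    exact hp ((Nat.prime_dvd_prime_iff_eq hpf.out Nat.prime_two).mp this)
  obtain ⟨x₀, hx₀⟩ := hrp.nonempty_fixed_point_of_prime_not_dvd_card X hcard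
  rw [MulAction.mem_fixedPoints] at hx₀
  have h1 := hx₀ ⟨r, Subgroup.mem_zpowers r⟩
  refine ⟨x₀, x₀.2.1, x₀.2.2, ?_⟩
  exact congrArg Subtype.val h1

theorem Setup.false_of_inverting (h : Setup p P Z E) (hp : p ≠ 2) (t : G)
    (ht : ∀ x ∈ E, t * x * t⁻¹ = x⁻¹) : False := by
  obtain ⟨T₂, hT₂, t₂, ht₂T, ht₂⟩ := exists_sylow_two_inverting E t ht
  obtain ⟨r, hrN, hrT, hr1, hrp⟩ := h.exists_p_element hp T₂ hT₂
  obtain ⟨x₀, hx₀T, hx₀, hrx₀⟩ :=
    exists_fixed_inverting hp E T₂ hT₂.2.1 t₂ ht₂T ht₂ r hrN hrT hrp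
  have hSylN : IsSylowOf p (Subgroup.normalizer (E : Set G)) P :=
    h.hSyl.of_le h.le_normalizer le_top
  obtain ⟨k, hkN, hk⟩ := hSylN.exists_conj_ge hrp ((Subgroup.zpowers_le).mpr hrN)
  have hr' : k⁻¹ * r * k ∈ P := mem_map_conj.mp (hk (Subgroup.mem_zpowers r))
  have hx' : ∀ x ∈ E, (k⁻¹ * x₀ * k) * x * (k⁻¹ * x₀ * k)⁻¹ = x⁻¹ := by
    have := inverting_conj E k⁻¹ (inv_mem hkN) x₀ hx₀
    rw [inv_inv] at this
    exact this
  have hrx : r * x₀ = x₀ * r := by
    calc r * x₀ = (r * x₀ * r⁻¹) * r := by group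
      _ = x₀ * r := by rw [hrx₀]
  have hcomm : Commute (k⁻¹ * x₀ * k) (k⁻¹ * r * k) := by
    show (k⁻¹ * x₀ * k) * (k⁻¹ * r * k) = (k⁻¹ * r * k) * (k⁻¹ * x₀ * k)
    calc (k⁻¹ * x₀ * k) * (k⁻¹ * r * k) = k⁻¹ * (x₀ * r) * k := by group
      _ = k⁻¹ * (r * x₀) * k := by rw [hrx]
      _ = (k⁻¹ * r * k) * (k⁻¹ * x₀ * k) := by group
  have hr'E : k⁻¹ * r * k ∉ E := by
    intro hE
    apply hr1
    have : r = k * (k⁻¹ * r * k) * k⁻¹ := by group
    rw [this]
    exact pmOne_normal E k hkN _ (h.le_pmOne hE)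
  have hyE : (k⁻¹ * r * k) ^ p ∈ E := by
    rw [h.hE1 _ (pow_mem hr' p), ← pow_mul, ← pow_two]
    exact h.hexp _ hr'
  have hy1 : (k⁻¹ * r * k) ^ p ≠ 1 := fun h0 => hr'E ((h.hE1 _ hr').mpr h0)
  have hxy : (k⁻¹ * x₀ * k) * (k⁻¹ * r * k) ^ p * (k⁻¹ * x₀ * k)⁻¹ = (k⁻¹ * r * k) ^ p := by
    have := (hcomm.pow_right p).eq
    rw [this]; group
  have hinv : (k⁻¹ * r * k) ^ p = ((k⁻¹ * r * k) ^ p)⁻¹ := hxy.symm.trans (hx' _ hyE)
  exact hy1 (eq_one_of_odd_of_inv hp ((h.hE1 _ (h.hEP hyE)).mp hyE) hinv)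

/-- the centre is strongly closed -/
theorem Setup.strongly_closed (h : Setup p P Z E) (hp : p ≠ 2) : Cfsg.IsStronglyClosed Z P := by
  refine ⟨h.hZE.trans h.hEP, ?_⟩
  intro z hz g hgP
  by_contra hgZ
  obtain ⟨t, _, ht⟩ := h.exists_inverting z hz g hgP hgZ
  exact h.false_of_inverting hp t ht

end ambient

end helpers



/-- Let p be an odd prime and G a finite group with a Sylow p-subgroup P that is extraspecial of order p³ and exponent p². Then the centre of P is strongly closed in P with respect to G: a G-conjugate of an element of Z(P) that lies in P already lies in Z(P). In particular a nontrivial central element of P is conjugate in G to no noncentral element of P. -/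
theorem result {G : Type*} [Group G] [Finite G]
    {p : ℕ} [Fact p.Prime] (hp : p ≠ 2) (P : Sylow p G) (hE : Cfsg.IsExtraspecial p ↥P)
    (hcard : Nat.card P = p ^ 3) (hexp : Monoid.exponent ↥P = p ^ 2) :
    Cfsg.IsStronglyClosed ((Subgroup.center ↥P).map (P : Subgroup G).subtype) (P : Subgroup G) := by
  obtain ⟨E₀, hE₀card, hE₀mem, hZE₀, hE₀ab, hE₀C, hcomm⟩ := structure_lemma hp hE hcard hexp
  have hinj := (P : Subgroup G).subtype_injective
  have hmemE : ∀ (x : G) (hx : x ∈ (P : Subgroup G)),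
      x ∈ E₀.map (P : Subgroup G).subtype ↔ (⟨x, hx⟩ : ↥P) ∈ E₀ := by
    intro x hx
    constructor
    · rintro ⟨y, hy, hyx⟩
      have : y = ⟨x, hx⟩ := Subtype.ext hyx
      rwa [← this]
    · intro h
      exact ⟨⟨x, hx⟩, h, rfl⟩
  have hS : Setup p (P : Subgroup G) ((Subgroup.center ↥P).map (P : Subgroup G).subtype)
      (E₀.map (P : Subgroup G).subtype) :=
    { hSyl := ⟨le_top, P.2, fun Q hQ _ hPQ => P.is_maximal' hQ hPQ⟩
      hZE := Subgroup.map_mono hZE₀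
      hEP := Subgroup.map_subtype_le _
      hZc := by
        rintro _ ⟨z, hz, rfl⟩ y hy
        have := Subgroup.mem_center_iff.mp hz ⟨y, hy⟩
        exact (congrArg Subtype.val this).symm
      hZcard := by rw [Subgroup.card_map_of_injective hinj]; exact hE.2
      hEcard := by rw [Subgroup.card_map_of_injective hinj]; exact hE₀card
      hPcard := hcard
      hE1 := by
        intro x hx
        rw [hmemE x hx, hE₀mem]
        constructor
        · intro h; exact congrArg Subtype.val h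
        · intro h; exact Subtype.ext h
      hEab := by
        rintro _ ⟨x, hx, rfl⟩ _ ⟨y, hy, rfl⟩
        exact congrArg Subtype.val (hE₀ab x hx y hy)
      hCE := by
        intro a ha hcen
        rw [hmemE a ha]
        apply hE₀C
        intro x hx
        exact Subtype.ext (hcen x ⟨x, hx, rfl⟩)
      hcomm := by
        intro a ha x hx
        refine ⟨⁅(⟨a, ha⟩ : ↥P), ⟨x, hx⟩⁆, hcomm _ _, ?_⟩
        rw [commutatorElement_def]
        rfl
      hexp := by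
        intro x hx
        have := Monoid.pow_exponent_eq_one (⟨x, hx⟩ : ↥P)
        rw [hexp] at this
        exact congrArg Subtype.val this }
  exact hS.strongly_closed hp


end Cfsg.Agent.S3053
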