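import Mathlib
import Cfsg.Agent.S0218
import Cfsg.Agent.Lib.Helper4.CyclicUnique
import Cfsg.Agent.Lib.Lead.Core
import Cfsg.Agent.Lib.Lead.UniqueOrderP5
import Cfsg.Agent.Lib.Lead.GenCentralizers
import Cfsg.Agent.Lib.Helper7.PSolvable
import Cfsg.Agent.Lib.Helper3.PComp1
import Cfsg.Statements.S3057

set_option autoImplicit false
open Cfsg

namespace Cfsg.Agent.S3057

open scoped Pointwise

section helpers
variable {G : Type*} [Group G] {p : ℕ}

/-- adjacency of Sylow subgroups -/
def Adj (S T : Sylow p G) : Prop := S ≠ T ∧ (S : Subgroup G) ⊓ (T : Subgroup G) ≠ ⊥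

/-- connectivity -/
def Conn (S T : Sylow p G) : Prop := Relation.ReflTransGen Adj S T

lemma adj_symm {S T : Sylow p G} (h : Adj S T) : Adj T S :=
  ⟨h.1.symm, by rw [inf_comm]; exact h.2⟩

lemma conn_symm {S T : Sylow p G} (h : Conn S T) : Conn T S := by
  induction h with
  | refl => exact Relation.ReflTransGen.refl
  | tail _ hab ih => exact Relation.ReflTransGen.head (adj_symm hab) ih

lemma conn_trans {S T U : Sylow p G} (h : Conn S T) (h' : Conn T U) : Conn S U :=
  Relation.ReflTransGen.trans h h'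

lemma mem_smul_sylow (g : G) (S : Sylow p G) (x : G) :
    x ∈ ((g • S : Sylow p G) : Subgroup G) ↔ g⁻¹ * x * g ∈ (S : Subgroup G) := by
  rw [Sylow.coe_subgroup_smul, Subgroup.mem_pointwise_smul_iff_inv_smul_mem]
  simp only [MulAut.smul_def, MulAut.conj_inv_apply]

lemma adj_smul (g : G) {S T : Sylow p G} (h : Adj S T) : Adj (g • S) (g • T) := by
  refine ⟨fun h' => h.1 (smul_left_cancel g h'), ?_⟩
  obtain ⟨⟨x, hx⟩, hx1⟩ := (Subgroup.ne_bot_iff_exists_ne_one).1 h.2
  have hx1' : x ≠ 1 := fun h0 => hx1 (Subtype.ext h0)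
  intro hbot
  have hm : g * x * g⁻¹ ∈ ((g • S : Sylow p G) : Subgroup G) ⊓ ((g • T : Sylow p G) : Subgroup G) := by
    rw [Subgroup.mem_inf, mem_smul_sylow, mem_smul_sylow]
    have : g⁻¹ * (g * x * g⁻¹) * g = x := by group
    rw [this]
    exact Subgroup.mem_inf.1 hx
  rw [hbot, Subgroup.mem_bot] at hm
  apply hx1'
  have : x = g⁻¹ * (g * x * g⁻¹) * g := by group
  rw [this, hm]; group

lemma conn_smul (g : G) {S T : Sylow p G} (h : Conn S T) : Conn (g • S) (g • T) := by
  induction h with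
  | refl => exact Relation.ReflTransGen.refl
  | tail _ hab ih => exact Relation.ReflTransGen.tail ih (adj_smul g hab)

/-- the stabilizer of the component of `P` -/
def compStab (P : Sylow p G) : Subgroup G where
  carrier := {g | Conn P (g • P)}
  one_mem' := by
    show Conn P ((1 : G) • P)
    rw [one_smul]; exact Relation.ReflTransGen.refl
  mul_mem' := by
    intro g h hg hh
    show Conn P ((g * h) • P)
    rw [mul_smul]
    exact conn_trans hg (conn_smul g hh)
  inv_mem' := by
    intro g hg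
    show Conn P (g⁻¹ • P)
    have := conn_smul g⁻¹ hg
    rw [inv_smul_smul] at this
    exact conn_symm this

lemma mem_compStab {P : Sylow p G} {g : G} : g ∈ compStab P ↔ Conn P (g • P) := Iff.rfl

/-- normalizers of nontrivial subgroups of `P` lie in the component stabilizer -/
lemma normalizer_le_compStab (P : Sylow p G) (Q : Subgroup G) (hQP : Q ≤ P) (hQ : Q ≠ ⊥) :
    Subgroup.normalizer (Q : Set G) ≤ compStab P := by
  intro g hg
  rw [mem_compStab]
  by_cases h : g • P = P
  · rw [h]; exact Relation.ReflTransGen.refl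
  · refine Relation.ReflTransGen.single ⟨Ne.symm h, ?_⟩
    intro hbot
    apply hQ
    rw [eq_bot_iff, ← hbot]
    refine le_inf hQP ?_
    intro x hx
    rw [mem_smul_sylow]
    apply hQP
    exact (Subgroup.mem_normalizer_iff''.1 hg x).1 hx


lemma chain_of_conn {S T : Sylow p G} (h : Conn S T) :
    ∃ (n : ℕ) (c : Fin (n + 1) → Sylow p G), c 0 = S ∧ c (Fin.last n) = T ∧
      ∀ i : Fin n, c i.castSucc ≠ c i.succ ∧
        (c i.castSucc : Subgroup G) ⊓ (c i.succ : Subgroup G) ≠ ⊥ := by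
  induction h with
  | refl => exact ⟨0, fun _ => S, rfl, rfl, fun i => i.elim0⟩
  | @tail T' T _ hab ih =>
    obtain ⟨n, c, h0, hl, hc⟩ := ih
    refine ⟨n + 1, Fin.snoc c T, ?_, ?_, ?_⟩
    · have : (0 : Fin (n + 1 + 1)) = Fin.castSucc (0 : Fin (n + 1)) := rfl
      rw [this, Fin.snoc_castSucc]; exact h0
    · exact Fin.snoc_last _ _
    · intro i
      refine Fin.lastCases ?_ (fun j => ?_) i
      · rw [Fin.snoc_castSucc, Fin.succ_last, Fin.snoc_last, hl]
        exact hab
      · have h1 : (Fin.castSucc j).succ = (Fin.castSucc (j.succ) : Fin (n + 1 + 1)) := rfl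
        rw [Fin.snoc_castSucc, h1, Fin.snoc_castSucc]
        exact hc j

lemma isSylowChainConnected_of_conn (h : ∀ S T : Sylow p G, Conn S T) :
    Cfsg.IsSylowChainConnected p G := by
  intro S T
  by_cases hbot : (S : Subgroup G) ⊓ (T : Subgroup G) = ⊥
  · obtain ⟨n, c, h0, hl, hc⟩ := chain_of_conn (h S T)
    exact ⟨n, c, h0, hl, fun i => by rw [hbot]; exact bot_le, hc⟩
  · by_cases hST : S = T
    · subst hST
      exact ⟨0, fun _ => S, rfl, rfl, fun _ => inf_le_left, fun i => i.elim0⟩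
    · refine ⟨1, ![S, T], rfl, rfl, ?_, ?_⟩
      · intro i
        fin_cases i
        · exact inf_le_left
        · exact inf_le_right
      · intro i
        fin_cases i
        exact ⟨hST, hbot⟩

lemma conn_of_isSylowChainConnected (h : Cfsg.IsSylowChainConnected p G) (S T : Sylow p G) :
    Conn S T := by
  obtain ⟨n, c, h0, hl, -, hc⟩ := h S T
  have key : ∀ i : Fin (n + 1), Conn (c 0) (c i) := by
    intro i
    induction i using Fin.induction with
    | zero => exact Relation.ReflTransGen.refl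
    | succ j ih => exact Relation.ReflTransGen.tail ih (hc j)
  have := key (Fin.last n)
  rwa [h0, hl] at this



/-- elementwise uniqueness of the subgroup of order `p` in `S`. -/
def UOP (S : Sylow p G) : Prop :=
  ∀ x y : G, x ∈ S → y ∈ S → orderOf x = p → orderOf y = p → x ∈ Subgroup.zpowers y

lemma orderOf_conj' (g x : G) : orderOf (g⁻¹ * x * g) = orderOf x := by
  have := MulEquiv.orderOf_eq (MulAut.conj g⁻¹) x
  simpa using this

lemma uop_smul (g : G) {S : Sylow p G} (h : UOP S) : UOP (g • S) := by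
  intro x y hx hy hox hoy
  have hx' : g⁻¹ * x * g ∈ (S : Subgroup G) := (mem_smul_sylow g S x).1 hx
  have hy' : g⁻¹ * y * g ∈ (S : Subgroup G) := (mem_smul_sylow g S y).1 hy
  have h1 := h _ _ hx' hy' ((orderOf_conj' g x).trans hox) ((orderOf_conj' g y).trans hoy)
  obtain ⟨k, hk⟩ := Subgroup.mem_zpowers_iff.1 h1
  refine Subgroup.mem_zpowers_iff.2 ⟨k, ?_⟩
  have h2 : (g⁻¹ * y * g) ^ k = g⁻¹ * y ^ k * g := by
    have := map_zpow (MulAut.conj g⁻¹) y k
    simpa using this.symm
  rw [h2] at hk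
  have : y ^ k = g * (g⁻¹ * y ^ k * g) * g⁻¹ := by group
  rw [this, hk]; group

/-- an adjacent Sylow subgroup contains the same elements of order `p` -/
lemma mem_of_adj [Fact p.Prime] [Finite G] {S T : Sylow p G} (hS : UOP S) (h : Adj S T) {x : G}
    (hx : x ∈ S) (hox : orderOf x = p) : x ∈ T := by
  obtain ⟨⟨z, hz⟩, hz1⟩ := (Subgroup.ne_bot_iff_exists_ne_one).1 h.2
  have hz1' : z ≠ 1 := fun h0 => hz1 (Subtype.ext h0)
  obtain ⟨hzS, hzT⟩ := Subgroup.mem_inf.1 hz
  obtain ⟨k, hk⟩ := (IsPGroup.iff_orderOf.1 S.isPGroup') ⟨z, hzS⟩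
  rw [Subgroup.orderOf_mk] at hk
  have hk0 : k ≠ 0 := by
    rintro rfl
    rw [pow_zero, orderOf_eq_one_iff] at hk
    exact hz1' hk
  obtain ⟨j, rfl⟩ : ∃ j, k = j + 1 := ⟨k - 1, by omega⟩
  have hy : orderOf (z ^ (p ^ j)) = p := by
    rw [orderOf_pow' z (pow_ne_zero j (Fact.out : p.Prime).ne_zero), hk,
      Nat.gcd_eq_right (pow_dvd_pow p (Nat.le_succ j)), pow_succ,
      Nat.mul_div_cancel_left _ (pow_pos (Fact.out : p.Prime).pos j)]
  have h1 := hS x (z ^ (p ^ j)) hx (Subgroup.pow_mem _ hzS _) hox hy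
  exact (Subgroup.zpowers_le.2 (Subgroup.pow_mem _ hzT _)) h1

lemma mem_of_conn [Fact p.Prime] [Finite G] (hU : ∀ S : Sylow p G, UOP S) {S T : Sylow p G}
    (h : Conn S T) {x : G} (hx : x ∈ S) (hox : orderOf x = p) : x ∈ T := by
  induction h with
  | refl => exact hx
  | tail _ hab ih => exact mem_of_adj (hU _) hab ih hox



lemma uop_of_isCyclic [Fact p.Prime] [Finite G] (P : Sylow p G) (h : IsCyclic ↥P) : UOP P := by
  intro x y hx hy hox hoy
  have h1 : Nat.card (Subgroup.zpowers (⟨x, hx⟩ : ↥P)) = Nat.card (Subgroup.zpowers (⟨y, hy⟩ : ↥P)) := by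
    rw [Nat.card_zpowers, Nat.card_zpowers, Subgroup.orderOf_mk, Subgroup.orderOf_mk, hox, hoy]
  have h2 := Cfsg.Agent.Lib.Helper4.cyclic_subgroup_eq_of_card_eq _ _ h1
  have h3 : (⟨x, hx⟩ : ↥P) ∈ Subgroup.zpowers (⟨y, hy⟩ : ↥P) := by
    rw [← h2]; exact Subgroup.mem_zpowers _
  obtain ⟨k, hk⟩ := Subgroup.mem_zpowers_iff.1 h3
  refine Subgroup.mem_zpowers_iff.2 ⟨k, ?_⟩
  have := congrArg Subtype.val hk
  simpa using this

lemma uop_of_quaternion [Finite G] (P : Sylow 2 G) (n : ℕ)
    (e : ↥P ≃* QuaternionGroup (2 ^ n)) : UOP P := by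
  intro x y hx hy hox hoy
  haveI : NeZero (2 ^ n) := ⟨by positivity⟩
  have h1 : orderOf (e ⟨x, hx⟩) = 2 := by
    rw [MulEquiv.orderOf_eq, Subgroup.orderOf_mk, hox]
  have h2 : orderOf (e ⟨y, hy⟩) = 2 := by
    rw [MulEquiv.orderOf_eq, Subgroup.orderOf_mk, hoy]
  rw [Cfsg.Agent.S0218.aux] at h1 h2
  have h3 : (⟨x, hx⟩ : ↥P) = ⟨y, hy⟩ := e.injective (h1.trans h2.symm)
  have : x = y := congrArg Subtype.val h3
  rw [this]; exact Subgroup.mem_zpowers y

/-- the direction `⇐`. -/
lemma not_connected [hp : Fact p.Prime] [Finite G] (hdiv : p ∣ Nat.card G)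
    (hO : Cfsg.pCore p G = ⊥) (hU : ∀ S : Sylow p G, UOP S) :
    ¬ Cfsg.IsSylowChainConnected p G := by
  intro hc
  obtain ⟨x, hx⟩ := exists_prime_orderOf_dvd_card' p hdiv
  have hxp : IsPGroup p (Subgroup.zpowers x) := by
    rw [IsPGroup.iff_card]  
    exact ⟨1, by rw [Nat.card_zpowers, hx, pow_one]⟩
  obtain ⟨S, hS⟩ := hxp.exists_le_sylow
  have hxS : x ∈ S := hS (Subgroup.mem_zpowers x)
  have hall : ∀ T : Sylow p G, x ∈ T := fun T =>
    mem_of_conn hU (conn_of_isSylowChainConnected hc S T) hxS hx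
  have : x ∈ Cfsg.pCore p G := by
    rw [Cfsg.Agent.Lib.Lead.pCore_eq_iInf_sylow, Subgroup.mem_iInf]
    exact hall
  rw [hO, Subgroup.mem_bot] at this
  rw [this, orderOf_one] at hx
  exact hp.out.one_lt.ne hx



lemma centralizer_le_normalizer_zpowers (a : G) :
    Subgroup.centralizer {a} ≤ Subgroup.normalizer ((Subgroup.zpowers a : Subgroup G) : Set G) := by
  intro x hx
  rw [Subgroup.mem_centralizer_singleton_iff] at hx
  have hcomm : ∀ h ∈ Subgroup.zpowers a, x * h * x⁻¹ = h := by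
    intro h hh
    obtain ⟨k, rfl⟩ := Subgroup.mem_zpowers_iff.1 hh
    have : Commute x (a ^ k) := (Commute.zpow_right (show Commute x a from hx) k)
    rw [this.eq, mul_inv_cancel_right]
  rw [Subgroup.mem_normalizer_iff]
  intro h
  constructor
  · intro hh
    rw [hcomm h hh]; exact hh
  · intro hh
    have h1 : x⁻¹ * (x * h * x⁻¹) * x = h := by group
    have h2 : x * (x * h * x⁻¹) * x⁻¹ = x * h * x⁻¹ := hcomm _ hh
    have h3 : x * h * x⁻¹ = h := by
      have : x * h * x⁻¹ = x⁻¹ * (x * (x * h * x⁻¹) * x⁻¹) * x := by group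
      rw [this, h2, h1]
    rw [← h3]; exact hh

lemma compStab_eq_top [hp : Fact p.Prime] [Finite G] (S : Sylow p G) (A : Subgroup G) (hAS : A ≤ S)
    [IsMulCommutative A] (hA : ¬ IsCyclic A) (Q : Subgroup G) (hQS : Q ≤ S) (hQ : Q ≠ ⊥)
    (hfr : Subgroup.normalizer (Q : Set G) ⊔ Cfsg.pPrimeCore p G = ⊤) : compStab S = ⊤ := by
  have hKn : (Cfsg.pPrimeCore p G).Normal := (Cfsg.Agent.Lib.Helper6.pPrimeCore_mem_set p).1
  have hKc : (Nat.card (Cfsg.pPrimeCore p G)).Coprime p := Cfsg.Agent.Lib.Helper6.pPrimeCore_coprime p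
  have hAp : IsPGroup p A := S.isPGroup'.to_le hAS
  obtain ⟨k, hk⟩ := IsPGroup.iff_card.1 hAp
  have hgen := Cfsg.Agent.Lib.Lead.generated_by_centralizers A (Cfsg.pPrimeCore p G) hA
    (by rw [Subgroup.normalizer_eq_top_iff.2 hKn]; exact le_top)
    (by rw [hk]; exact Nat.Coprime.pow_left k (Nat.Coprime.symm hKc))
  have hK : Cfsg.pPrimeCore p G ≤ compStab S := by
    rw [← hgen]
    refine iSup₂_le fun a ha => ?_
    obtain ⟨haA, ha1⟩ := ha
    refine inf_le_right.trans ((centralizer_le_normalizer_zpowers a).trans ?_)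
    apply normalizer_le_compStab S
    · exact Subgroup.zpowers_le.2 (hAS haA)
    · intro h0
      apply ha1
      have : a ∈ Subgroup.zpowers a := Subgroup.mem_zpowers a
      rw [h0, Subgroup.mem_bot] at this
      exact this
  rw [eq_top_iff, ← hfr]
  exact sup_le (normalizer_le_compStab S Q hQS hQ) hK



lemma exists_frattini [hp : Fact p.Prime] [Finite G] (hsol : Cfsg.IsPSolvable p G)
    (hdiv : p ∣ Nat.card G) :
    ∃ Q : Subgroup G, IsPGroup p Q ∧ Q ≠ ⊥ ∧
      Subgroup.normalizer (Q : Set G) ⊔ Cfsg.pPrimeCore p G = ⊤ := by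
  haveI hKn : (Cfsg.pPrimeCore p G).Normal := (Cfsg.Agent.Lib.Helper6.pPrimeCore_mem_set p).1
  have hKc : (Nat.card (Cfsg.pPrimeCore p G)).Coprime p := Cfsg.Agent.Lib.Helper6.pPrimeCore_coprime p
  set K := Cfsg.pPrimeCore p G with hK
  haveI : Nontrivial (G ⧸ K) := by
    rw [QuotientGroup.nontrivial_iff]
    intro htop
    rw [htop, Subgroup.card_top] at hKc
    exact hp.out.one_lt.ne' (Nat.eq_one_of_dvd_coprimes hKc hdiv dvd_rfl)
  have hsol' := Cfsg.Agent.Lib.Helper7.isPSolvable_quotient hsol K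
  obtain ⟨N, hNn, hNne, hN⟩ := Cfsg.Agent.Lib.Helper7.exists_normal_of_isPSolvable hsol'
  rcases hN with ⟨m, hm⟩ | hcop
  · haveI := hNn
    set L := N.comap (QuotientGroup.mk' K) with hL
    haveI hLn : L.Normal := Subgroup.Normal.comap hNn _
    have hLcard : Nat.card L = Nat.card K * p ^ m := by
      rw [hL, Cfsg.Agent.Lib.Helper3.card_comap_mk', hm]
    have hm0 : m ≠ 0 := by
      rintro rfl
      rw [pow_zero] at hm
      exact hNne (Subgroup.card_eq_one.1 hm)
    have hKL : K ≤ L := by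
      intro x hx
      rw [hL, Subgroup.mem_comap]
      have : QuotientGroup.mk' K x = 1 := (QuotientGroup.eq_one_iff x).2 hx
      rw [this]; exact N.one_mem
    have hpL : p ∣ Nat.card L := by
      rw [hLcard]; exact Dvd.dvd.mul_left (dvd_pow_self p hm0) _
    let Q₀ : Sylow p ↥L := default
    refine ⟨(Q₀ : Subgroup ↥L).map L.subtype, Q₀.isPGroup'.map _, ?_, ?_⟩
    · intro h0
      apply Q₀.ne_bot_of_dvd_card hpL
      rw [Subgroup.map_eq_bot_iff_of_injective _ L.subtype_injective] at h0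
      exact h0
    · have hfr := Sylow.normalizer_sup_eq_top Q₀
      set Q' := (Q₀ : Subgroup ↥L).map L.subtype with hQ'
      have hQ'L : Q' ≤ L := Subgroup.map_subtype_le _
      -- `L ≤ Q' ⊔ K`
      have hidx1 : (Q' ⊔ K).relIndex L ∣ Q'.relIndex L := Subgroup.relIndex_dvd_of_le_left L le_sup_left
      have hidx2 : (Q' ⊔ K).relIndex L ∣ K.relIndex L := Subgroup.relIndex_dvd_of_le_left L le_sup_right
      have h1 : Q'.relIndex L = (Q₀ : Subgroup ↥L).index := by
        rw [Subgroup.relIndex, hQ', Subgroup.subgroupOf,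
          Subgroup.comap_map_eq_self_of_injective L.subtype_injective]
      have h2 : K.relIndex L = p ^ m := by
        have := Subgroup.relIndex_mul_relIndex (⊥ : Subgroup G) K L bot_le hKL
        rw [Subgroup.relIndex_bot_left, Subgroup.relIndex_bot_left, hLcard] at this
        exact Nat.eq_of_mul_eq_mul_left Nat.card_pos this
      have h3 : ¬ p ∣ Q'.relIndex L := by rw [h1]; exact Q₀.not_dvd_index
      have h4 : (Q' ⊔ K).relIndex L = 1 := by
        rw [h2] at hidx2
        obtain ⟨j, -, hj⟩ := (Nat.dvd_prime_pow hp.out).1 hidx2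
        rcases Nat.eq_zero_or_pos j with rfl | hj0
        · simpa using hj
        · exfalso
          apply h3
          refine dvd_trans ?_ hidx1
          rw [hj]; exact dvd_pow_self p hj0.ne'
      rw [Subgroup.relIndex_eq_one] at h4
      rw [eq_top_iff, ← hfr]
      refine sup_le le_sup_left (h4.trans (sup_le ?_ le_sup_right))
      exact le_sup_of_le_left Subgroup.le_normalizer
  · exfalso
    apply hNne
    have := Cfsg.Agent.Lib.Helper6.le_pPrimeCore hNn hcop
    rwa [Cfsg.Agent.Lib.Helper3.pPrimeCore_quotient_eq_bot, le_bot_iff] at this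



lemma exists_noncyclic_abelian {H : Type*} [Group H] [Finite H] [hp : Fact p.Prime]
    (hH : IsPGroup p H) (hnu : ¬ Cfsg.Agent.Lib.Lead.UniqueOrderP p H) :
    ∃ A₀ : Subgroup H, IsMulCommutative A₀ ∧ ¬ IsCyclic A₀ := by
  unfold Cfsg.Agent.Lib.Lead.UniqueOrderP at hnu
  push Not at hnu
  obtain ⟨X, Y, hX, hY, hXY⟩ := hnu
  haveI : Nontrivial H := by
    have : 1 < Nat.card X := by rw [hX]; exact hp.out.one_lt
    obtain ⟨⟨x, hx⟩, hx1⟩ := (Subgroup.ne_bot_iff_exists_ne_one).1
      (fun h0 : X = ⊥ => by rw [h0, Subgroup.card_bot] at this; omega)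
    exact ⟨⟨x, 1, fun h => hx1 (Subtype.ext h)⟩⟩
  haveI := hH.center_nontrivial
  have hpc : p ∣ Nat.card (Subgroup.center H) := by
    rcases (hH.to_subgroup (Subgroup.center H)).card_eq_or_dvd with h | h
    · exfalso
      have := (Subgroup.card_eq_one.1 h)
      exact (Subgroup.nontrivial_iff_ne_bot _).1 inferInstance this
    · exact h
  obtain ⟨⟨z, hz⟩, hzo⟩ := exists_prime_orderOf_dvd_card' p hpc
  rw [Subgroup.orderOf_mk] at hzo
  set Z₀ := Subgroup.zpowers z with hZ₀
  have hZcard : Nat.card Z₀ = p := by rw [Nat.card_zpowers, hzo]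
  have hZc : Z₀ ≤ Subgroup.center H := Subgroup.zpowers_le.2 hz
  -- a second subgroup of order `p`
  obtain ⟨W, hW, hWZ⟩ : ∃ W : Subgroup H, Nat.card W = p ∧ W ≠ Z₀ := by
    by_cases h : X = Z₀
    · exact ⟨Y, hY, fun h' => hXY (h.trans h'.symm)⟩
    · exact ⟨X, hX, h⟩
  haveI hWcyc : IsCyclic W := isCyclic_of_prime_card hW
  have hWcomm : IsMulCommutative W := ⟨⟨fun a b => by
    obtain ⟨g, hg⟩ := hWcyc.exists_generator
    obtain ⟨i, rfl⟩ := Subgroup.mem_zpowers_iff.1 (hg a)
    obtain ⟨j, rfl⟩ := Subgroup.mem_zpowers_iff.1 (hg b)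
    rw [← zpow_add, ← zpow_add, add_comm]⟩⟩
  refine ⟨Z₀ ⊔ W, ?_, ?_⟩
  · rw [← Subgroup.le_centralizer_iff_isMulCommutative]
    have hc1 : Subgroup.center H ≤ Subgroup.centralizer ((Z₀ ⊔ W : Subgroup H) : Set H) :=
      Subgroup.center_le_centralizer _
    refine sup_le (hZc.trans hc1) ?_
    rw [Subgroup.le_centralizer_iff]
    refine sup_le (hZc.trans (Subgroup.center_le_centralizer _)) ?_
    exact Subgroup.le_centralizer_iff_isMulCommutative.2 hWcomm
  · intro hcyc
    apply hWZ
    have e1 : Nat.card (Z₀.subgroupOf (Z₀ ⊔ W)) = p := by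
      rw [Nat.card_congr (Subgroup.subgroupOfEquivOfLe (le_sup_left : Z₀ ≤ Z₀ ⊔ W)).toEquiv, hZcard]
    have e2 : Nat.card (W.subgroupOf (Z₀ ⊔ W)) = p := by
      rw [Nat.card_congr (Subgroup.subgroupOfEquivOfLe (le_sup_right : W ≤ Z₀ ⊔ W)).toEquiv, hW]
    have := Cfsg.Agent.Lib.Helper4.cyclic_subgroup_eq_of_card_eq _ _ (e2.trans e1.symm)
    rw [Subgroup.subgroupOf_inj, inf_of_le_left le_sup_right, inf_of_le_left le_sup_left] at this
    exact this



end helpers


/-- Let p be a prime and G a finite p-solvable group of order divisible by p, with Sylow p-subgroup P. Then the Sylow p-subgroups of G fail to be chain-connected through nontrivial intersections (equivalently, G has a strongly p-embedded subgroup) if and only if O_p(G) = 1 and P is cyclic or, for p = 2, generalized quaternion. -/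
theorem result {G : Type*} [Group G] [Finite G]
    (p : ℕ) [Fact p.Prime] (hdiv : p ∣ Nat.card G) (hsol : Cfsg.IsPSolvable p G) (P : Sylow p G) :
    ¬ Cfsg.IsSylowChainConnected p G ↔
      Cfsg.pCore p G = ⊥ ∧ (IsCyclic ↥P ∨ (p = 2 ∧ ∃ n : ℕ, Nonempty (↥P ≃* QuaternionGroup (2 ^ n)))) := by
  constructor
  · intro hnc
    constructor
    · by_contra hO
      apply hnc
      apply isSylowChainConnected_of_conn
      intro S T
      by_cases hST : S = T
      · rw [hST]; exact Relation.ReflTransGen.refl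
      · refine Relation.ReflTransGen.single ⟨hST, fun hbot => hO ?_⟩
        rw [eq_bot_iff, ← hbot, Cfsg.Agent.Lib.Lead.pCore_eq_iInf_sylow]
        exact le_inf (iInf_le _ S) (iInf_le _ T)
    · by_contra hnot
      apply hnc
      have hnu : ¬ Cfsg.Agent.Lib.Lead.UniqueOrderP p ↥P :=
        fun h => hnot (Cfsg.Agent.Lib.Lead.UniqueOrderP.main P.isPGroup' h)
      obtain ⟨A₀, hA₀c, hA₀n⟩ := exists_noncyclic_abelian P.isPGroup' hnu
      obtain ⟨Q, hQp, hQ1, hfr⟩ := exists_frattini hsol hdiv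
      obtain ⟨S, hQS⟩ := hQp.exists_le_sylow
      obtain ⟨g, hg⟩ := MulAction.exists_smul_eq G P S
      have hf : Function.Injective ((MulAut.conj g).toMonoidHom.comp (P : Subgroup G).subtype) :=
        (MulAut.conj g).injective.comp Subtype.val_injective
      set A := A₀.map ((MulAut.conj g).toMonoidHom.comp (P : Subgroup G).subtype) with hA
      have hAn : ¬ IsCyclic A := by
        intro hc
        apply hA₀n
        exact isCyclic_of_surjective (A₀.equivMapOfInjective _ hf).symm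
          (A₀.equivMapOfInjective _ hf).symm.surjective
      have hAS : A ≤ S := by
        rintro x ⟨a, -, rfl⟩
        rw [← hg]
        show _ ∈ ((g • P : Sylow p G) : Subgroup G)
        rw [mem_smul_sylow]
        simp only [MonoidHom.coe_comp, MulEquiv.coe_toMonoidHom, Function.comp_apply,
          Subgroup.subtype_apply, MulAut.conj_apply]
        have : g⁻¹ * (g * (a : G) * g⁻¹) * g = a := by group
        rw [this]; exact a.2
      have htop := compStab_eq_top S A hAS hAn Q hQS hQ1 hfr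
      have hS : ∀ T : Sylow p G, Conn S T := by
        intro T
        obtain ⟨g', rfl⟩ := MulAction.exists_smul_eq G S T
        have : g' ∈ compStab S := by rw [htop]; exact Subgroup.mem_top _
        exact this
      apply isSylowChainConnected_of_conn
      intro T T'
      exact conn_trans (conn_symm (hS T)) (hS T')
  · rintro ⟨hO, hcq⟩
    apply not_connected hdiv hO
    intro S
    obtain ⟨g, rfl⟩ := MulAction.exists_smul_eq G P S
    apply uop_smul
    rcases hcq with hc | ⟨rfl, n, ⟨e⟩⟩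
    · exact uop_of_isCyclic P hc
    · exact uop_of_quaternion P n e

end Cfsg.Agent.S3057
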