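import Mathlib
import Cfsg.Agent.Lib.Helper6.StrEmb2
import Cfsg.Statements.S3059

set_option autoImplicit false
open Cfsg Cfsg.Agent.Lib.Helper6
open scoped commutatorElement

namespace Cfsg.Agent.S3059

/-- Let p be a prime and H a strongly p-embedded subgroup of the finite group G in the classical sense: H is proper, p divides the order of H, and H ∩ gHg⁻¹ has order prime to p for every g outside H. Then for every normal subgroup N of G of order divisible by p, G = H · O^p(N), where O^p(N) is the subgroup generated by the elements of N of order prime to p. -/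
theorem result {G : Type*} [Group G] [Finite G]
    (p : ℕ) [Fact p.Prime] (H : Subgroup G) (hH : H ≠ ⊤) (hpH : p ∣ Nat.card H)
    (hse : ∀ g : G, g ∉ H → ¬ p ∣ Nat.card ↥(H ⊓ H.map (MulAut.conj g).toMonoidHom))
    (N : Subgroup G) [N.Normal] (hN : p ∣ Nat.card N) :
    H ⊔ Subgroup.closure {g : G | g ∈ N ∧ (orderOf g).Coprime p} = ⊤ := by
  have hSN : SENorm p H := SEConj.senorm hse
  obtain ⟨P, hPH⟩ := hSN.exists_sylow_le hpH
  have hNPR := le_sylow_sup_closure_pPrime N P
  obtain ⟨T₀, hT₀⟩ := exists_isSylowOf p N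
  obtain ⟨c, hc⟩ := exists_map_conj_le_sylow P hT₀.2.1
  have hT : IsSylowOf p N (T₀.map (MulAut.conj c).toMonoidHom) := by
    have := hT₀.map_conj c
    rwa [map_conj_eq_self_of_normal] at this
  have hTne := hT.ne_bot hN
  have hNT : Subgroup.normalizer ((T₀.map (MulAut.conj c).toMonoidHom : Subgroup G) : Set G) ≤ H :=
    hSN _ (hc.trans hPH) hT.2.1 hTne
  have hF := frattini_isSylowOf (G := (⊤ : Subgroup G)) (N := N) le_top
    (fun g _ n hn => (inferInstance : N.Normal).conj_mem n hn g) hT
  rw [eq_top_iff]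
  intro g _
  obtain ⟨l, hl, b, hb, rfl⟩ := hF g trivial
  exact Subgroup.mul_mem _ (sup_le (hPH.trans le_sup_left) le_sup_right (hNPR hl))
    (Subgroup.mem_sup_left (hNT hb.2))

end Cfsg.Agent.S3059
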