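import Mathlib
import Cfsg.Agent.Lib.Helper6.DStar
import Cfsg.Statements.S3062

set_option autoImplicit false
open Cfsg Cfsg.Agent.Lib.Helper6
open scoped commutatorElement

namespace Cfsg.Agent.S3062

/-- Let S be a finite p-group, J(S) the subgroup generated by the abelian subgroups of S of largest order and Z(J(S)) its centre. Then Z(S) ≤ D*(S) ≤ Z(J(S)), and every maximal normal abelian subgroup of S contains D*(S). -/
theorem result {S : Type*} [Group S] [Finite S] {p : ℕ} [Fact p.Prime]
    (hS : IsPGroup p S) :
    Subgroup.center S ≤ Cfsg.dStar S ∧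
    Cfsg.dStar S ≤ Cfsg.thompsonSubgroupA S ⊓ Subgroup.centralizer (Cfsg.thompsonSubgroupA S : Set S) ∧
    ∀ A : Subgroup S, A.Normal → IsMulCommutative A →
      (∀ B : Subgroup S, B.Normal → IsMulCommutative B → A ≤ B → B = A) → Cfsg.dStar S ≤ A := by
  have hD : dStar S ∈ dStarFamily S := Cfsg.Agent.S3061.result hS
  refine ⟨le_sSup center_mem_dStarFamily, dStar_le_center_thompsonA hS, ?_⟩
  intro A hAn hAab hmax
  haveI := hAn
  have h1 := centralizer_eq_of_max_normal_abelian hS A hAab hmax
  have h2 : dStar S ≤ Subgroup.normalizer (A : Set S) := by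
    rw [Subgroup.normalizer_eq_top]; exact le_top
  have h3 := le_centralizer_of_normalizes hD hAab h2
  rw [← h1]
  exact Subgroup.le_centralizer_iff.mp h3

end Cfsg.Agent.S3062
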