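import Mathlib
import Cfsg.Statements.S3063

set_option autoImplicit false
open Cfsg

namespace Cfsg.Agent.S3063

open scoped commutatorElement

section helpers

variable {G : Type*} [Group G]

/-- counting via cosets: if `f` maps `A` into `B` and is "injective modulo `C`" then `|A| ≤ |B|`. -/
theorem card_le_of_coset_inj [Finite G] {A B C : Subgroup G} (hCA : C ≤ A) (hCB : C ≤ B) (f : G → G)
    (hf : ∀ u ∈ A, f u ∈ B)
    (hinj : ∀ u ∈ A, ∀ v ∈ A, (f u)⁻¹ * f v ∈ C → u⁻¹ * v ∈ C) : Nat.card A ≤ Nat.card B := by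
  have h1 : Nat.card A = Nat.card (↥A ⧸ C.subgroupOf A) * Nat.card (C.subgroupOf A) :=
    Subgroup.card_eq_card_quotient_mul_card_subgroup _
  have h2 : Nat.card B = Nat.card (↥B ⧸ C.subgroupOf B) * Nat.card (C.subgroupOf B) :=
    Subgroup.card_eq_card_quotient_mul_card_subgroup _
  have h3 : Nat.card (C.subgroupOf A) = Nat.card C :=
    Nat.card_congr (Subgroup.subgroupOfEquivOfLe hCA).toEquiv
  have h4 : Nat.card (C.subgroupOf B) = Nat.card C :=
    Nat.card_congr (Subgroup.subgroupOfEquivOfLe hCB).toEquiv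
  rw [h1, h2, h3, h4]
  apply Nat.mul_le_mul_right
  let g : (↥A ⧸ C.subgroupOf A) → (↥B ⧸ C.subgroupOf B) := fun q =>
    QuotientGroup.mk ⟨f (q.out : G), hf _ q.out.2⟩
  apply Nat.card_le_card_of_injective g
  intro q₁ q₂ h
  simp only [g] at h
  rw [QuotientGroup.eq] at h
  have h' : (f (q₁.out : G))⁻¹ * f (q₂.out : G) ∈ C := by
    simpa [Subgroup.mem_subgroupOf] using h
  have h5 := hinj _ q₁.out.2 _ q₂.out.2 h'
  have h6 : (QuotientGroup.mk q₁.out : ↥A ⧸ C.subgroupOf A) = QuotientGroup.mk q₂.out := by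
    rw [QuotientGroup.eq]
    simpa [Subgroup.mem_subgroupOf] using h5
  rwa [QuotientGroup.out_eq', QuotientGroup.out_eq'] at h6

/-- `m ↦ ⁅w, m⁆` is multiplicative on an abelian normal subgroup -/
theorem commutator_mul_of_mem {M : Subgroup G} [hMn : M.Normal] (hM : IsMulCommutative M) (w : G)
    {m₁ m₂ : G} (h1 : m₁ ∈ M) (h2 : m₂ ∈ M) : ⁅w, m₁ * m₂⁆ = ⁅w, m₁⁆ * ⁅w, m₂⁆ := by
  have hc : ∀ a ∈ M, ∀ b ∈ M, a * b = b * a := fun a ha b hb =>
    setLike_mul_comm (s := M) ha hb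
  have e1 : ⁅w, m₂⁆ ∈ M := by
    rw [commutatorElement_def]
    exact M.mul_mem (hMn.conj_mem _ h2 w) (M.inv_mem h2)
  have e2 : ⁅w, m₁ * m₂⁆ = (w * m₁ * w⁻¹) * ⁅w, m₂⁆ * m₁⁻¹ := by
    simp only [commutatorElement_def]; group
  rw [e2, mul_assoc, hc _ e1 _ (M.inv_mem h1), ← mul_assoc]
  simp only [commutatorElement_def]

theorem commutator_swap_of_abelian {M A : Subgroup G} (hM : IsMulCommutative M)
    (hA : IsMulCommutative A) (x : G) (hx : ∀ u ∈ A, ⁅x, u⁆ ∈ M) {u v : G} (hu : u ∈ A)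
    (hv : v ∈ A) : ⁅u, ⁅x, v⁆⁆ = ⁅v, ⁅x, u⁆⁆ := by
  have hc : ∀ a ∈ M, ∀ b ∈ M, a * b = b * a := fun a ha b hb =>
    setLike_mul_comm (s := M) ha hb
  have huv : u * v = v * u := setLike_mul_comm (s := A) hu hv
  have e1 : ⁅u, ⁅x, v⁆⁆ = ⁅x, u⁆⁻¹ * ⁅x, u * v⁆ * ⁅x, v⁆⁻¹ := by
    simp only [commutatorElement_def]; group
  have e2 : ⁅v, ⁅x, u⁆⁆ = ⁅x, v⁆⁻¹ * ⁅x, v * u⁆ * ⁅x, u⁆⁻¹ := by
    simp only [commutatorElement_def]; group
  rw [e1, e2, ← huv]
  have m1 := M.inv_mem (hx u hu)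
  have m2 := M.inv_mem (hx v hv)
  have m3 := hx (u * v) (A.mul_mem hu hv)
  rw [hc _ m1 _ m3, mul_assoc, hc _ m1 _ m2, ← mul_assoc, hc _ m3 _ m2]

/-- the subgroup generated by the commutators `⁅x, u⁆`, `u ∈ A` -/
def commSub (x : G) (A : Subgroup G) : Subgroup G :=
  Subgroup.closure ((fun u => ⁅x, u⁆) '' (A : Set G))

theorem commutator_mem_commSub (x : G) {A : Subgroup G} {u : G} (hu : u ∈ A) :
    ⁅x, u⁆ ∈ commSub x A := Subgroup.subset_closure ⟨u, hu, rfl⟩

theorem commSub_le {x : G} {A M : Subgroup G} (hx : ∀ u ∈ A, ⁅x, u⁆ ∈ M) : commSub x A ≤ M := by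
  unfold commSub
  rw [Subgroup.closure_le]
  rintro _ ⟨u, hu, rfl⟩
  exact hx u hu

/-- the replacement subgroup -/
def repl (x : G) (A : Subgroup G) : Subgroup G :=
  commSub x A ⊔ (A ⊓ Subgroup.centralizer (commSub x A : Set G))

theorem repl_isMulCommutative {M A : Subgroup G} (hM : IsMulCommutative M)
    (hA : IsMulCommutative A) (x : G) (hx : ∀ u ∈ A, ⁅x, u⁆ ∈ M) :
    IsMulCommutative (repl x A) := by
  rw [← Subgroup.le_centralizer_iff_isMulCommutative]
  unfold repl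
  set X := commSub x A
  set C := A ⊓ Subgroup.centralizer (X : Set G)
  have hXM : X ≤ M := commSub_le hx
  have hXX : X ≤ Subgroup.centralizer (X : Set G) := by
    intro a ha b hb
    exact setLike_mul_comm (s := M) (hXM hb) (hXM ha)
  have hCX : C ≤ Subgroup.centralizer (X : Set G) := inf_le_right
  have hXC : X ≤ Subgroup.centralizer (C : Set G) := Subgroup.le_centralizer_iff.mp hCX
  have hCC : C ≤ Subgroup.centralizer (C : Set G) := by
    intro a ha b hb
    exact setLike_mul_comm (s := A) hb.1 ha.1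
  refine sup_le ?_ ?_
  · rw [Subgroup.le_centralizer_iff]
    exact sup_le hXX hCX
  · rw [Subgroup.le_centralizer_iff]
    exact sup_le hXC hCC

theorem card_le_card_repl [Finite G] {M A : Subgroup G} [hMn : M.Normal] (hM : IsMulCommutative M)
    (hA : IsMulCommutative A) (x : G) (hx : ∀ u ∈ A, ⁅x, u⁆ ∈ M) :
    Nat.card A ≤ Nat.card (repl x A) := by
  set X := commSub x A with hX
  set C := A ⊓ Subgroup.centralizer (X : Set G) with hC
  have hXM : X ≤ M := commSub_le hx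
  refine card_le_of_coset_inj (C := C) inf_le_left le_sup_right (fun u => ⁅x, u⁆) ?_ ?_
  · intro u hu
    exact (le_sup_left : X ≤ repl x A) (commutator_mem_commSub x hu)
  · intro u hu v hv h
    refine ⟨A.mul_mem (A.inv_mem hu) hv, ?_⟩
    -- u⁻¹ v centralizes each generator
    show u⁻¹ * v ∈ Subgroup.centralizer ((commSub x A : Subgroup G) : Set G)
    unfold commSub
    rw [Subgroup.centralizer_closure]
    rintro _ ⟨w, hw, rfl⟩
    have h1 : ⁅w, (⁅x, u⁆)⁻¹ * ⁅x, v⁆⁆ = 1 := by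
      rw [commutatorElement_eq_one_iff_commute]
      exact setLike_mul_comm (s := A) hw h.1
    rw [commutator_mul_of_mem hM w (M.inv_mem (hx u hu)) (hx v hv)] at h1
    have h2 : ⁅w, (⁅x, u⁆)⁻¹⁆ = (⁅w, ⁅x, u⁆⁆)⁻¹ := by
      have := commutator_mul_of_mem hM w (M.inv_mem (hx u hu)) (hx u hu)
      rw [inv_mul_cancel, commutatorElement_one_right] at this
      exact eq_inv_of_mul_eq_one_left this.symm
    rw [h2, inv_mul_eq_one] at h1
    rw [commutator_swap_of_abelian hM hA x hx hw hu, commutator_swap_of_abelian hM hA x hx hw hv] at h1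
    -- u c u⁻¹ c⁻¹ = v c v⁻¹ c⁻¹
    simp only [commutatorElement_def] at h1 ⊢
    have h3 : u * (x * w * x⁻¹ * w⁻¹) * u⁻¹ = v * (x * w * x⁻¹ * w⁻¹) * v⁻¹ := by
      have := congrArg (· * (x * w * x⁻¹ * w⁻¹)) h1
      simpa using this
    calc x * w * x⁻¹ * w⁻¹ * (u⁻¹ * v) = u⁻¹ * (u * (x * w * x⁻¹ * w⁻¹) * u⁻¹) * v := by group
      _ = u⁻¹ * (v * (x * w * x⁻¹ * w⁻¹) * v⁻¹) * v := by rw [h3]
      _ = u⁻¹ * v * (x * w * x⁻¹ * w⁻¹) := by group

end helpers



/-- A weak replacement Theorem for metabelian p-groups: let S be a finite p-group whose derived subgroup is abelian and A an abelian subgroup of S of largest possible order. Then the normal closure of A in S contains an abelian subgroup B of the same order as A that is normal in S. -/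
theorem result {S : Type*} [Group S] [Finite S] {p : ℕ} [Fact p.Prime]
    (hS : IsPGroup p S) (hmeta : IsMulCommutative ↥(commutator S))
    (A : Subgroup S) (hA : A ∈ Cfsg.maxAbelianSubgroups S) :
    ∃ B ∈ Cfsg.maxAbelianSubgroups S, B.Normal ∧ B ≤ Subgroup.normalClosure (A : Set S) := by
  set M := commutator S with hMdef
  haveI hMn : M.Normal := inferInstance
  have hcm : ∀ (x u : S), ⁅x, u⁆ ∈ M := by
    intro x u
    rw [hMdef, commutator_def]
    exact Subgroup.commutator_mem_commutator (Subgroup.mem_top x) (Subgroup.mem_top u)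
  let 𝒞 : Set (Subgroup S) := {B | B ∈ Cfsg.maxAbelianSubgroups S ∧ B ≤ Subgroup.normalClosure (A : Set S)}
  have hne : 𝒞.Nonempty := ⟨A, hA, Subgroup.le_normalClosure⟩
  obtain ⟨B, ⟨hB, hBA⟩, hmax⟩ :=
    Set.exists_max_image 𝒞 (fun B => Nat.card ↥(B ⊓ M)) (Set.toFinite _) hne
  refine ⟨B, hB, ?_, hBA⟩
  have hBc : IsMulCommutative B := hB.1
  have key : ∀ x : S, commSub x B ≤ B := by
    intro x
    have hx : ∀ u ∈ B, ⁅x, u⁆ ∈ M := fun u _ => hcm x u
    have h1 : IsMulCommutative (repl x B) := repl_isMulCommutative hmeta hBc x hx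
    have h2 : Nat.card B ≤ Nat.card (repl x B) := card_le_card_repl hmeta hBc x hx
    have h3 : repl x B ∈ Cfsg.maxAbelianSubgroups S :=
      ⟨h1, fun D hD => (hB.2 D hD).trans h2⟩
    have hXM : commSub x B ≤ M := commSub_le hx
    have hXn : commSub x B ≤ Subgroup.normalClosure (A : Set S) := by
      unfold commSub
      rw [Subgroup.closure_le]
      rintro _ ⟨u, hu, rfl⟩
      have hu' : u ∈ Subgroup.normalClosure (A : Set S) := hBA hu
      show ⁅x, u⁆ ∈ Subgroup.normalClosure (A : Set S)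
      rw [commutatorElement_def]
      exact Subgroup.mul_mem _ (Subgroup.normalClosure_normal.conj_mem _ hu' x)
        (Subgroup.inv_mem _ hu')
    have h4 : repl x B ≤ Subgroup.normalClosure (A : Set S) :=
      sup_le hXn (inf_le_left.trans hBA)
    have h5 := hmax (repl x B) ⟨h3, h4⟩
    have h6 : commSub x B ⊔ (B ⊓ M) ≤ repl x B ⊓ M := by
      refine le_inf (sup_le le_sup_left ?_) (sup_le hXM inf_le_right)
      refine le_trans (le_inf inf_le_left ?_) (le_sup_right)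
      intro b hb c hc
      exact setLike_mul_comm (s := M) (hXM hc) hb.2
    have h7 : Nat.card ↥(commSub x B ⊔ (B ⊓ M)) ≤ Nat.card ↥(B ⊓ M) :=
      (Subgroup.card_le_of_le h6).trans h5
    have h8 : B ⊓ M = commSub x B ⊔ (B ⊓ M) :=
      Subgroup.eq_of_le_of_card_ge le_sup_right h7
    have h9 : commSub x B ≤ B ⊓ M := by
      rw [h8]; exact le_sup_left
    exact h9.trans inf_le_left
  refine ⟨fun n hn g => ?_⟩
  have h1 : ⁅g, n⁆ ∈ B := key g (commutator_mem_commSub g hn)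
  have h2 : g * n * g⁻¹ = ⁅g, n⁆ * n := by
    rw [commutatorElement_def]; group
  rw [h2]
  exact B.mul_mem h1 hn

end Cfsg.Agent.S3063
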