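import Mathlib
import Cfsg.Agent.Lib.Lead.FrobConj1
import Cfsg.Agent.Lib.Helper3.PComp1
import Cfsg.Agent.Lib.Helper6.CharSub
import Cfsg.Agent.Lib.Helper6.PPrimeCore
import Cfsg.Statements.S3064

set_option autoImplicit false
open Cfsg

namespace Cfsg.Agent.S3064

open Cfsg.Agent.Lib.Helper6 Cfsg.Agent.Lib.Helper3 Cfsg.Agent.Lib.Lead
open scoped Pointwise

universe u

section

variable {G : Type u} [Group G] [Finite G] {p : ℕ} [Fact p.Prime]

/-- the hypotheses on `x` -/
def Hyp (p : ℕ) (S : Subgroup G) (x : G) : Prop :=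
  x ∈ S ∧ (∀ g : G, g⁻¹ * x * g ∈ S → g⁻¹ * x * g = x) ∧
    ∀ H : Subgroup G, (Nat.card H).Coprime p → (∀ h ∈ H, x * h * x⁻¹ ∈ H) → ∀ h ∈ H, x * h = h * x

theorem sylow_mem_smul (S : Sylow p G) (u w : G) : w ∈ (u • S : Sylow p G) ↔ u⁻¹ * w * u ∈ S := by
  show w ∈ ((u • S : Sylow p G) : Subgroup G) ↔ _
  rw [Sylow.coe_subgroup_smul, Subgroup.mem_pointwise_smul_iff_inv_smul_mem]
  simp only [MulAut.smul_def, MulAut.conj_inv_apply]
  exact Iff.rfl

/-- a conjugate of `x` lying in a `p`-subgroup containing `x` equals `x` -/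
theorem conj_eq_of_mem_pGroup (S : Sylow p G) (x : G) (h : Hyp p (S : Subgroup G) x)
    (A : Subgroup G) (hA : IsPGroup p A) (hxA : x ∈ A) (g : G) (hy : g * x * g⁻¹ ∈ A) :
    g * x * g⁻¹ = x := by
  obtain ⟨S', hS'⟩ := hA.exists_le_sylow
  obtain ⟨u, hu⟩ := MulAction.exists_smul_eq G S S'
  have h1 : u⁻¹ * x * u ∈ S := by
    rw [← sylow_mem_smul, hu]; exact hS' hxA
  have h2 : u⁻¹ * (g * x * g⁻¹) * u ∈ S := by
    rw [← sylow_mem_smul, hu]; exact hS' hy
  have e1 := h.2.1 u h1
  have e : u⁻¹ * (g * x * g⁻¹) * u = (g⁻¹ * u)⁻¹ * x * (g⁻¹ * u) := by group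
  rw [e] at h2
  have e2 := h.2.1 (g⁻¹ * u) h2
  have : u⁻¹ * (g * x * g⁻¹) * u = u⁻¹ * x * u := by rw [e, e2, e1]
  have h3 := mul_right_cancel this
  exact mul_left_cancel h3

/-- commuting conjugates are equal -/
theorem conj_eq_of_commute (S : Sylow p G) (x : G) (h : Hyp p (S : Subgroup G) x)
    (g : G) (hc : x * (g * x * g⁻¹) = (g * x * g⁻¹) * x) : g * x * g⁻¹ = x := by
  set y := g * x * g⁻¹ with hy
  have hxp : IsPGroup p (Subgroup.zpowers x) :=
    S.isPGroup'.to_le ((Subgroup.zpowers_le).mpr h.1)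
  have hyp : IsPGroup p (Subgroup.zpowers y) := by
    have : Subgroup.zpowers y = (Subgroup.zpowers x).map (MulAut.conj g).toMonoidHom := by
      rw [MonoidHom.map_zpowers]
      simp [hy, MulAut.conj_apply]
    rw [this]
    exact hxp.map _
  have hle : Subgroup.zpowers y ≤ Subgroup.normalizer (Subgroup.zpowers x : Set G) := by
    rw [Subgroup.zpowers_le]
    apply Subgroup.centralizer_le_normalizer
    rw [Subgroup.mem_centralizer_iff]
    intro w hw
    obtain ⟨k, rfl⟩ := Subgroup.mem_zpowers_iff.mp hw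
    exact (Commute.zpow_left (show Commute x y from hc) k)
  have hA : IsPGroup p (Subgroup.zpowers y ⊔ Subgroup.zpowers x : Subgroup G) :=
    IsPGroup.to_sup_of_normal_right' hyp hxp hle
  exact conj_eq_of_mem_pGroup S x h _ hA
    ((le_sup_right : Subgroup.zpowers x ≤ _) (Subgroup.mem_zpowers x)) g
    ((le_sup_left : Subgroup.zpowers y ≤ _) (Subgroup.mem_zpowers y))

/-- the hypotheses pass to subgroups containing `x` -/
theorem hyp_subgroup (S : Sylow p G) (x : G) (h : Hyp p (S : Subgroup G) x) (H : Subgroup G)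
    (hxH : x ∈ H) : ∃ SH : Sylow p H, Hyp p (SH : Subgroup H) (⟨x, hxH⟩ : H) := by
  have hxp : IsPGroup p (Subgroup.zpowers x) :=
    S.isPGroup'.to_le ((Subgroup.zpowers_le).mpr h.1)
  obtain ⟨SH, hSH⟩ := (hxp.comap_subtype (K := H)).exists_le_sylow
  have hxSH : (⟨x, hxH⟩ : H) ∈ SH := hSH (by
    rw [Subgroup.mem_comap]; exact Subgroup.mem_zpowers x)
  refine ⟨SH, hxSH, ?_, ?_⟩
  · intro g hg
    have hA : IsPGroup p ((SH : Subgroup H).map H.subtype) := SH.isPGroup'.map _
    have h1 := conj_eq_of_mem_pGroup S x h _ hA ⟨_, hxSH, rfl⟩ (g⁻¹ : H) (by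
      refine ⟨_, hg, ?_⟩
      simp)
    apply Subtype.ext
    simp only [Subgroup.coe_mul, Subgroup.coe_inv]
    simpa using h1
  · intro K hK hinv k hk
    have hK' : (Nat.card (K.map H.subtype)).Coprime p := by
      rwa [← Nat.card_congr (Subgroup.equivMapOfInjective K H.subtype H.subtype_injective).toEquiv]
    have h1 := h.2.2 (K.map H.subtype) hK' (by
      rintro _ ⟨k', hk', rfl⟩
      exact ⟨_, hinv k' hk', by simp⟩) k ⟨k, hk, rfl⟩
    exact Subtype.ext h1

end

theorem main : ∀ n : ℕ, ∀ (G : Type u) [Group G] [Finite G], Nat.card G ≤ n →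
    ∀ (p : ℕ) [Fact p.Prime] (S : Sylow p G) (x : G), Hyp p (S : Subgroup G) x →
      x ∈ Subgroup.center G := by
  intro n
  induction n with
  | zero =>
    intro G _ _ hn
    have := Nat.card_pos (α := G)
    omega
  | succ n ih =>
    intro G _ _ hn p _ S x h
    have hp : p.Prime := Fact.out
    by_contra hxc
    -- Step 1: x is central in every proper subgroup containing it
    have step1 : ∀ H : Subgroup G, x ∈ H → H ≠ ⊤ → ∀ k ∈ H, k * x = x * k := by
      intro H hxH hne k hk
      obtain ⟨SH, hSH⟩ := hyp_subgroup S x h H hxH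
      have hcard : Nat.card H ≤ n := by
        have h1 : Nat.card H < Nat.card G := by
          rcases lt_or_eq_of_le (Subgroup.card_le_card_group H) with h2 | h2
          · exact h2
          · exact absurd ((Subgroup.card_eq_iff_eq_top H).mp h2) hne
        omega
      have h3 := ih H hcard p SH ⟨x, hxH⟩ hSH
      have h4 := Subgroup.mem_center_iff.mp h3 ⟨k, hk⟩
      exact congrArg Subtype.val h4
    set M : Subgroup G := Subgroup.centralizer ({x} : Set G) with hM
    have hmemM : ∀ g, g ∈ M ↔ g * x = x * g := fun g => Subgroup.mem_centralizer_singleton_iff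
    have hxM : x ∈ M := (hmemM x).mpr rfl
    have hMtop : M ≠ ⊤ := by
      intro htop
      apply hxc
      rw [Subgroup.mem_center_iff]
      intro g
      have : g ∈ M := by rw [htop]; trivial
      exact (hmemM g).mp this
    have hZM : Subgroup.center G ≤ M := by
      intro z hz
      rw [hmemM]
      exact (Subgroup.mem_center_iff.mp hz x).symm
    have hSM : (S : Subgroup G) ≤ M := by
      intro s hs
      rw [hmemM]
      have h1 : s⁻¹ * x * s ∈ (S : Subgroup G) :=
        Subgroup.mul_mem _ (Subgroup.mul_mem _ (Subgroup.inv_mem _ hs) h.1) hs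
      have h2 := h.2.1 s h1
      calc s * x = s * (s⁻¹ * x * s) := by rw [h2]
        _ = x * s := by group
    -- Step 2
    have step2 : ∀ g, g ∉ M → ∀ z, z * x = x * z → (g⁻¹ * z * g) * x = x * (g⁻¹ * z * g) →
        z ∈ Subgroup.center G := by
      intro g hg z hz1 hz2
      by_contra hzc
      set C : Subgroup G := Subgroup.centralizer ({z} : Set G) with hC
      have hmemC : ∀ w, w ∈ C ↔ w * z = z * w := fun w => Subgroup.mem_centralizer_singleton_iff
      have hCne : C ≠ ⊤ := by
        intro htop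
        apply hzc
        rw [Subgroup.mem_center_iff]
        intro w
        have : w ∈ C := by rw [htop]; trivial
        exact (hmemC w).mp this
      have hxC : x ∈ C := (hmemC x).mpr hz1.symm
      have hyC : g * x * g⁻¹ ∈ C := by
        rw [hmemC]
        have e1 : g * x * g⁻¹ * z = g * (x * (g⁻¹ * z * g)) * g⁻¹ := by group
        have e2 : z * (g * x * g⁻¹) = g * ((g⁻¹ * z * g) * x) * g⁻¹ := by group
        rw [e1, e2, hz2]
      have h5 := step1 C hxC hCne _ hyC
      have h6 := conj_eq_of_commute S x h g h5.symm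
      apply hg
      rw [hmemM]
      calc g * x = (g * x * g⁻¹) * g := by group
        _ = x * g := by rw [h6]
    -- Step 3: a Frobenius complement in the quotient
    set Zc : Subgroup G := Subgroup.center G with hZc
    set π : G →* G ⧸ Zc := QuotientGroup.mk' Zc with hπ
    have hπs : Function.Surjective π := QuotientGroup.mk'_surjective Zc
    set Mb : Subgroup (G ⧸ Zc) := M.map π with hMb
    have hmemMb : ∀ g : G, π g ∈ Mb ↔ g ∈ M := by
      intro g
      constructor
      · rintro ⟨m, hm, hmg⟩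
        have h1 : m⁻¹ * g ∈ Zc := by
          have : π m = π g := hmg
          exact QuotientGroup.eq.mp this
        have : g = m * (m⁻¹ * g) := by group
        rw [this]
        exact M.mul_mem hm (hZM h1)
      · intro hg
        exact ⟨g, hg, rfl⟩
    have hcomap : Mb.comap π = M := by
      ext g
      rw [Subgroup.mem_comap, hmemMb]
    have hfrob : Cfsg.IsFrobeniusComplement Mb := by
      refine ⟨?_, ?_, ?_⟩
      · intro hbot
        apply hxc
        have h1 : π x ∈ Mb := (hmemMb x).mpr hxM
        rw [hbot, Subgroup.mem_bot] at h1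
        exact (QuotientGroup.eq_one_iff x).mp h1
      · intro htop
        apply hMtop
        rw [eq_top_iff]
        intro g _
        rw [← hmemMb, htop]
        trivial
      · intro gb hgb
        obtain ⟨g, rfl⟩ := hπs gb
        have hg : g ∉ M := fun hg => hgb ((hmemMb g).mpr hg)
        rw [Subgroup.eq_bot_iff_forall]
        intro wb hwb
        obtain ⟨hw1, hw2⟩ := Subgroup.mem_inf.mp hwb
        obtain ⟨w, rfl⟩ := hπs wb
        rw [Subgroup.mem_pointwise_smul_iff_inv_smul_mem] at hw2
        have hw2' : π (g⁻¹ * w * g) ∈ Mb := by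
          simpa [MulAut.smul_def] using hw2
        rw [hmemMb] at hw1 hw2'
        rw [hmemM] at hw1 hw2'
        have := step2 g hg w hw1 hw2'
        exact (QuotientGroup.eq_one_iff w).mpr this
    obtain ⟨Kb, hFD⟩ := exists_frobData hfrob
    have hKbn : Kb.Normal := hFD.normal
    -- |Kb| is prime to p
    have hKbcop : (Nat.card Kb).Coprime p := by
      rw [← hFD.compl.index_eq_card, ← Subgroup.index_comap_of_surjective Mb hπs, hcomap]
      have h1 : ¬ p ∣ M.index := fun hd =>
        S.not_dvd_index (hd.trans (Subgroup.index_dvd_of_le hSM))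
      exact ((Nat.Prime.coprime_iff_not_dvd hp).mpr h1).symm
    set K : Subgroup G := Kb.comap π with hK
    have hKn : K.Normal := Subgroup.Normal.comap hKbn π
    -- p-elements of K are central
    have hpel : ∀ k ∈ K, (∃ j : ℕ, orderOf k = p ^ j) → k ∈ Zc := by
      intro k hk ⟨j, hj⟩
      have h1 : π k ∈ Kb := hk
      have h2 : orderOf (π k) ∣ p ^ j := hj ▸ orderOf_map_dvd π k
      obtain ⟨i, -, hi⟩ := (Nat.dvd_prime_pow hp).mp h2
      have h3 := eq_one_of_pElement_of_coprime_card hKbcop h1 ⟨i, hi⟩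
      exact (QuotientGroup.eq_one_iff k).mp h3
    -- Burnside transfer in K
    obtain ⟨P₀⟩ : Nonempty (Sylow p K) := inferInstance
    have hP₀Z : ∀ k : K, k ∈ (P₀ : Subgroup K) → (k : G) ∈ Zc := by
      intro k hk
      apply hpel k k.2
      obtain ⟨j, hj⟩ := IsPGroup.iff_orderOf.mp P₀.isPGroup' ⟨k, hk⟩
      refine ⟨j, ?_⟩
      rw [← hj, Subgroup.orderOf_mk, Subgroup.orderOf_coe]
    have hPN : Subgroup.normalizer ((P₀ : Subgroup K) : Set K) ≤
        Subgroup.centralizer ((P₀ : Subgroup K) : Set K) := by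
      intro g _
      rw [Subgroup.mem_centralizer_iff]
      intro z hz
      apply Subtype.ext
      simp only [Subgroup.coe_mul]
      exact (Subgroup.mem_center_iff.mp (hP₀Z z hz) (g : G)).symm
    have hcompl := MonoidHom.ker_transferSylow_isComplement' P₀ hPN
    set K₀ : Subgroup K := (MonoidHom.transferSylow P₀ hPN).ker with hK₀
    have hK₀card : (Nat.card K₀).Coprime p := by
      rw [← hcompl.index_eq_card]
      exact ((Nat.Prime.coprime_iff_not_dvd hp).mpr P₀.not_dvd_index).symm
    have hK₀O : K₀ ≤ pPrimeCore p K := le_pPrimeCore inferInstance hK₀card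
    set O' : Subgroup G := (pPrimeCore p K).map K.subtype with hO'
    have hO'K : O' ≤ K := Subgroup.map_subtype_le _
    have hO'cop : (Nat.card O').Coprime p := by
      rw [hO', ← Nat.card_congr (Subgroup.equivMapOfInjective _ K.subtype K.subtype_injective).toEquiv]
      exact pPrimeCore_coprime p
    have hO'char : (O'.subgroupOf K).Characteristic := by
      have : O'.subgroupOf K = pPrimeCore p K := by
        rw [hO', Subgroup.subgroupOf, Subgroup.comap_map_eq_self_of_injective K.subtype_injective]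
      rw [this]; infer_instance
    have hxO' : x ∈ Subgroup.normalizer (O' : Set G) := by
      apply normalizer_le_normalizer_of_characteristic hO'K hO'char
      rw [Subgroup.normalizer_eq_top_iff.mpr hKn]
      trivial
    have hxcent : ∀ k ∈ O', x * k = k * x :=
      h.2.2 O' hO'cop (fun k hk => (Subgroup.mem_normalizer_iff.mp hxO' k).mp hk)
    -- K ≤ M
    have hKM : K ≤ M := by
      intro k hk
      obtain ⟨⟨a, b⟩, hab, -⟩ := hcompl.existsUnique (⟨k, hk⟩ : K)
      have hab' : (a : K) * (b : K) = ⟨k, hk⟩ := hab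
      have hk' : k = ((a : K) : G) * ((b : K) : G) := by
        have := congrArg Subtype.val hab'
        simpa using this.symm
      rw [hk', hmemM]
      have ha : x * ((a : K) : G) = ((a : K) : G) * x :=
        hxcent _ ⟨(a : K), hK₀O a.2, rfl⟩
      have hb : ((b : K) : G) * x = x * ((b : K) : G) :=
        (hmemM _).mp (hZM (hP₀Z (b : K) b.2))
      rw [mul_assoc, hb, ← mul_assoc, ← ha, mul_assoc]
    -- hence Kb ≤ Mb, so Kb = ⊥, contradiction
    have hKbMb : Kb ≤ Mb := by
      intro wb hwb
      obtain ⟨w, rfl⟩ := hπs wb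
      exact (hmemMb w).mpr (hKM hwb)
    have hKbbot : Kb = ⊥ := by
      rw [← hFD.inf_eq_bot]
      exact (inf_eq_left.mpr hKbMb).symm
    exact hFD.ne_bot hKbbot


/-- Let S be a Sylow p-subgroup of the finite group G and x an element of S such that (i) x is the only G-conjugate of x lying in S, and (ii) x centralizes every subgroup of order prime to p that it normalizes. Then x lies in the centre of G. -/
theorem result {G : Type*} [Group G] [Finite G] {p : ℕ} [Fact p.Prime]
    (S : Sylow p G) (x : G) (hx : x ∈ S)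
    (hU : ∀ g : G, g⁻¹ * x * g ∈ S → g⁻¹ * x * g = x)
    (hb : ∀ H : Subgroup G, (Nat.card H).Coprime p → (∀ h ∈ H, x * h * x⁻¹ ∈ H) → ∀ h ∈ H, x * h = h * x) :
    x ∈ Subgroup.center G := by
  exact main (Nat.card G) G le_rfl p S x ⟨hx, hU, hb⟩

end Cfsg.Agent.S3064
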