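-- S3067 (Glauberman): a nontrivial coprime automorphism of a finite simple group moves some element of the
-- centralizer of any involution.  Elementary proof: Z* + induction + a count (team effort, see
-- notes/S3067_proof_helper1.md); core theorem `Cfsg.Agent.Lib.Helper1.GC.main`.
import Cfsg.Statements.S3067
import Cfsg.Agent.Lib.Helper1.GC8
import Cfsg.Agent.Lib.Helper7.GlGlue2

set_option autoImplicit false
open Cfsg

namespace Cfsg.Agent.S3067

/-- Let G be a finite non-abelian simple group, τ an involution of G, and α a nontrivial automorphism of G whose order is coprime to the order of G. Then α moves some element of the centralizer of τ: α does not fix C_G(τ) elementwise. -/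
theorem result {G : Type*} [Group G] [Finite G] [IsSimpleGroup G]
    (hG : ¬ IsMulCommutative G) (τ : G) (hτ : orderOf τ = 2) (α : MulAut G) (hα : α ≠ 1)
    (hcop : (orderOf α).Coprime (Nat.card G)) :
    ∃ c ∈ Subgroup.centralizer ({τ} : Set G), α c ≠ c :=
  Cfsg.Agent.Lib.Helper7.GlGlue2.s3067_of_main Cfsg.Agent.Lib.Helper1.GC.main τ hτ α hα hcop

end Cfsg.Agent.S3067
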