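import Cfsg.Statements.S3073
import Mathlib
import Cfsg.Agent.S1988
import Cfsg.Agent.S1978
import Cfsg.Agent.Lib.Lead.FrobNPC5

set_option autoImplicit false
universe u
open Cfsg

namespace Cfsg.Agent.S3073

/-- For an odd prime p, every finite p-group S has a characteristic subgroup K with C_S(K) ≤ K such that, whenever S is (isomorphic to) a Sylow p-subgroup of a finite group G, G has a normal p-complement if and only if N_G(K)/C_G(K) is a p-group, i.e. every element of N_G(K) of order prime to p centralizes K (K transported into G along the isomorphism). -/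
theorem result (p : ℕ) [Fact p.Prime] (hp : p ≠ 2)
    (S : Type u) [Group S] [Finite S] (hS : IsPGroup p S) :
    ∃ K : Subgroup S, K.Characteristic ∧ Subgroup.centralizer (K : Set S) ≤ K ∧
      ∀ (G : Type u) [Group G] [Finite G] (P : Sylow p G) (e : ↥(P : Subgroup G) ≃* S),
        Cfsg.HasNormalPComplement p G ↔
          ∀ g ∈ Subgroup.normalizer (((K.comap (e : ↥(P : Subgroup G) →* S)).map (P : Subgroup G).subtype : Subgroup G) : Set G),
            (orderOf g).Coprime p →
              g ∈ Subgroup.centralizer (((K.comap (e : ↥(P : Subgroup G) →* S)).map (P : Subgroup G).subtype : Subgroup G) : Set G) := by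
  refine ⟨Cfsg.kInfLower S, ?_, (Cfsg.Agent.S1978.result hS).1, ?_⟩
  · rw [Subgroup.characteristic_iff_map_eq]
    intro φ
    exact Cfsg.Agent.Lib.Helper4.kInfLower_map_equiv φ
  · intro G _ _ P e
    have hK : ((Cfsg.kInfLower S).comap (e : ↥(P : Subgroup G) →* S)) = Cfsg.kInfLower ↥(P : Subgroup G) := by
      have h1 := Cfsg.Agent.Lib.Helper4.kInfLower_map_equiv e
      rw [← h1]
      exact Subgroup.comap_map_eq_self_of_injective e.injective _
    rw [hK]
    constructor
    · intro h g hgN hgo
      obtain ⟨P0, N, hN, hc⟩ := h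
      have hidx := Cfsg.Agent.Lib.Lead.index_eq_pow_of_isComplement' P0 N hc
      have hg : g ∈ N := Cfsg.Agent.Lib.Lead.mem_of_coprime_orderOf N hidx g hgo
      have hNc : (Nat.card ↥N).Coprime p := by
        have h1 := hc.card_mul_card
        have h2 := P0.card_coprime_index
        have h3 := (P0 : Subgroup G).card_mul_index
        have h4 : Nat.card ↥N = (P0 : Subgroup G).index := by
          have hpos : 0 < Nat.card ↥(P0 : Subgroup G) := Nat.card_pos
          apply Nat.eq_of_mul_eq_mul_right hpos
          rw [h1, mul_comm, h3]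
        rw [h4]
        obtain ⟨k, hk⟩ := IsPGroup.iff_card.mp P0.2
        rw [hk] at h2
        rcases Nat.eq_zero_or_pos k with h0 | h0
        · by_contra hcon
          have h2d : p ∣ (P0 : Subgroup G).index := by
            by_contra h
            exact hcon ((Nat.Prime.coprime_iff_not_dvd Fact.out).mpr h).symm
          exact P0.not_dvd_index h2d
        · exact (Nat.Coprime.coprime_dvd_left (dvd_pow_self p h0.ne') h2).symm
      set V : Subgroup G := (Cfsg.kInfLower ↥(P : Subgroup G)).map (P : Subgroup G).subtype with hV
      have hVp : IsPGroup p ↥V := (P.2.to_subgroup _).map _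
      rw [Subgroup.mem_centralizer_iff]
      intro v hv
      set c : G := g * v * g⁻¹ * v⁻¹ with hcdef
      have hcN : c ∈ N := by
        have h1 : v * g⁻¹ * v⁻¹ ∈ N := hN.conj_mem _ (N.inv_mem hg) v
        have : c = g * (v * g⁻¹ * v⁻¹) := by rw [hcdef]; group
        rw [this]; exact N.mul_mem hg h1
      have hcV : c ∈ V := V.mul_mem ((Subgroup.mem_normalizer_iff.mp hgN v).mp hv) (V.inv_mem hv)
      have hc1 : c = 1 := by
        obtain ⟨k, hk⟩ := hVp ⟨c, hcV⟩
        have hk' : c ^ p ^ k = 1 := by
          have := congrArg Subtype.val hk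
          simpa using this
        have h1 : orderOf c ∣ p ^ k := orderOf_dvd_of_pow_eq_one hk'
        have h2 : orderOf c ∣ Nat.card ↥N := by
          have := orderOf_dvd_natCard (⟨c, hcN⟩ : ↥N)
          rwa [Subgroup.orderOf_mk] at this
        have h3 : (orderOf c).Coprime (p ^ k) :=
          Nat.Coprime.pow_right k (Nat.Coprime.coprime_dvd_left h2 hNc)
        exact orderOf_eq_one_iff.mp (Nat.Coprime.eq_one_of_dvd h3 h1)
      have h5 : g * v * g⁻¹ = c * v := by rw [hcdef]; group
      rw [hc1, one_mul] at h5
      calc v * g = (g * v * g⁻¹)  * g := by rw [h5]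
        _ = g * v := by group
    · intro h
      exact Cfsg.Agent.S1988.result hp P (Or.inr h)

end Cfsg.Agent.S3073
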