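import Mathlib
import Cfsg.Agent.Lib.Lead.Qd5
import Cfsg.Agent.Lib.Lead.Qd7
import Cfsg.Agent.Lib.Helper4.QdKInf
import Cfsg.Agent.Lib.Lead.Frattini2
import Cfsg.Agent.Lib.Lead.Frattini
import Cfsg.Agent.Lib.Lead.CoprimeSylow4
import Cfsg.Statements.S3074

set_option autoImplicit false
open Cfsg

namespace Cfsg.Agent.S3074

open scoped commutatorElement

section helpers

/-- a matrix of `p`-power order over `ZMod p` of size `3`, `p ≥ 3`, has order dividing `p` -/
theorem matrix_pow_p_eq_one (p : ℕ) [hp : Fact p.Prime] (hp3 : 3 ≤ p)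
    (x : Matrix (Fin 3) (Fin 3) (ZMod p)) (k : ℕ) (hx : x ^ p ^ k = 1) : x ^ p = 1 := by
  have hc : Commute x 1 := Commute.one_right x
  have h1 : (x - 1) ^ p ^ k = 0 := by
    rw [sub_pow_char_pow_of_commute p k hc, hx, one_pow, sub_self]
  have hnil : IsNilpotent (x - 1) := ⟨p ^ k, h1⟩
  have h2 : (x - 1).charpoly = Polynomial.X ^ 3 := by
    have := Matrix.isNilpotent_charpoly_sub_pow_of_isNilpotent hnil
    have h3 := this.eq_zero
    rw [sub_eq_zero] at h3
    simpa using h3
  have h3 : (x - 1) ^ 3 = 0 := by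
    have := Matrix.aeval_self_charpoly (x - 1)
    rw [h2] at this
    simpa using this
  have h4 : (x - 1) ^ p = 0 := by
    have h6 : (x - 1) ^ p = (x - 1) ^ 3 * (x - 1) ^ (p - 3) := by
      rw [← pow_add]; congr 1; omega
    rw [h6, h3, zero_mul]
  have h5 := sub_pow_char_of_commute p hc
  rw [h4, one_pow] at h5
  exact (sub_eq_zero.mp h5.symm)


/-- a non-abelian group of order `p ^ 3` is extraspecial -/
theorem isExtraspecial_of_card_cube {P : Type*} [Group P] [Finite P] (p : ℕ) [hp : Fact p.Prime]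
    (hcard : Nat.card P = p ^ 3) (hna : ¬ ∀ a b : P, a * b = b * a) : Cfsg.IsExtraspecial p P := by
  have hP : IsPGroup p P := IsPGroup.of_card hcard
  obtain ⟨j, hj0, hj⟩ := IsPGroup.card_center_eq_prime_pow hcard (by norm_num)
  have hidx : Nat.card (P ⧸ Subgroup.center P) * p ^ j = p ^ 3 := by
    rw [← hj, ← hcard, mul_comm]
    exact (Subgroup.card_eq_card_quotient_mul_card_subgroup (Subgroup.center P)).symm ▸ by ring
  have hj3 : j ≤ 3 := by
    have : p ^ j ∣ p ^ 3 := Dvd.intro_left _ hidx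
    exact (Nat.pow_dvd_pow_iff_le_right hp.out.one_lt).mp this
  have hquot : Nat.card (P ⧸ Subgroup.center P) = p ^ (3 - j) := by
    have h1 : p ^ 3 = p ^ (3 - j) * p ^ j := by rw [← pow_add]; congr 1; omega
    rw [h1] at hidx
    exact Nat.eq_of_mul_eq_mul_right (pow_pos hp.out.pos j) hidx
  have hj1 : j = 1 := by
    by_contra hne
    have hj23 : j = 2 ∨ j = 3 := by omega
    apply hna
    rcases hj23 with h2 | h3
    · rw [h2] at hquot
      haveI : IsCyclic (P ⧸ Subgroup.center P) := isCyclic_of_prime_card (p := p) (by simpa using hquot)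
      exact commutative_of_cyclic_center_quotient (QuotientGroup.mk' (Subgroup.center P))
        (by rw [QuotientGroup.ker_mk'])
    · rw [h3] at hj
      have htop : Subgroup.center P = ⊤ := by
        apply Subgroup.eq_top_of_card_eq
        rw [hj, hcard]
      intro a b
      have ha : a ∈ Subgroup.center P := htop ▸ Subgroup.mem_top a
      exact (Subgroup.mem_center_iff.mp ha b).symm
  rw [hj1] at hj hquot
  have hq2 : Nat.card (P ⧸ Subgroup.center P) = p ^ 2 := by simpa using hquot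
  have hqcomm : ∀ a b : P ⧸ Subgroup.center P, a * b = b * a :=
    IsPGroup.commutative_of_card_eq_prime_sq hq2
  have hcomm_le : commutator P ≤ Subgroup.center P :=
    Cfsg.Agent.Lib.Lead.commutator_le_of_quotient_comm _ hqcomm
  have hcomm_ne : commutator P ≠ ⊥ := by
    intro h
    apply hna
    intro a b
    have h1 : ⁅a, b⁆ ∈ commutator P := by
      rw [commutator_def]
      exact Subgroup.commutator_mem_commutator (Subgroup.mem_top a) (Subgroup.mem_top b)
    rw [h, Subgroup.mem_bot] at h1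
    exact commutatorElement_eq_one_iff_mul_comm.mp h1
  have hcomm_eq : commutator P = Subgroup.center P := by
    apply Subgroup.eq_of_le_of_card_ge hcomm_le
    have h1 : Nat.card (commutator P) ∣ p := by
      rw [← pow_one p, ← hj]; exact Subgroup.card_dvd_of_le hcomm_le
    rcases (Nat.dvd_prime hp.out).mp h1 with h2 | h2
    · exact absurd (Subgroup.card_eq_one.mp h2) hcomm_ne
    · rw [h2, hj, pow_one]
  have hpow : ∀ x : P, x ^ p ∈ Subgroup.center P := by
    intro x
    rw [← QuotientGroup.eq_one_iff, QuotientGroup.mk_pow]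
    have h1 : orderOf (x : P ⧸ Subgroup.center P) ∣ p ^ 2 := by
      rw [← hq2]; exact orderOf_dvd_natCard _
    obtain ⟨i, hi2, hi⟩ := (Nat.dvd_prime_pow hp.out).mp h1
    have hi1 : i ≤ 1 := by
      by_contra hcon
      have hi' : i = 2 := by omega
      rw [hi'] at hi
      haveI : IsCyclic (P ⧸ Subgroup.center P) :=
        isCyclic_of_orderOf_eq_card (x : P ⧸ Subgroup.center P) (by rw [hi, hq2])
      apply hna
      exact commutative_of_cyclic_center_quotient (QuotientGroup.mk' (Subgroup.center P))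
        (by rw [QuotientGroup.ker_mk'])
    apply orderOf_dvd_iff_pow_eq_one.mp
    rw [hi]
    calc p ^ i ∣ p ^ 1 := pow_dvd_pow p hi1
      _ = p := pow_one p
  have hfr_le : frattini P ≤ Subgroup.center P :=
    Cfsg.Agent.Lib.Lead.frattini_le_of_elementary_quotient (p := p) _ hcomm_le hpow
  have hfr_ge : Subgroup.center P ≤ frattini P := by
    rw [← hcomm_eq]
    exact Cfsg.Agent.Lib.Lead.commutator_le_frattini_of_isPGroup hP
  exact ⟨⟨hP, le_antisymm hfr_le hfr_ge, hcomm_eq⟩, by rw [hj, pow_one]⟩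

end helpers




/-- Let p be an odd prime. A Sylow p-subgroup of Qd(p), the split extension of an elementary abelian group of order p² by SL₂(p) acting naturally, is extraspecial of order p³ and exponent p. -/
theorem result (p : ℕ) [Fact p.Prime] (hp : p ≠ 2) (P : Sylow p ↥(Cfsg.qd p)) :
    Cfsg.IsExtraspecial p ↥P ∧ Nat.card P = p ^ 3 ∧ Monoid.exponent ↥P = p := by
  have hpp : p.Prime := Fact.out
  have hp3 : 3 ≤ p := by
    have := hpp.two_le
    omega
  let e : ↥(Cfsg.qd p) ≃* ↥(Cfsg.qd p) := MulEquiv.refl _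
  -- order of `Qd(p)`
  have hsurj : Function.Surjective (Cfsg.Agent.Lib.Lead.QdLib.bX e) :=
    fun A => ⟨Cfsg.Agent.Lib.Lead.QdLib.dX e A, Cfsg.Agent.Lib.Lead.QdLib.bX_dX e A⟩
  have hcardX : Nat.card ↥(Cfsg.qd p) = p * (p ^ 2 - 1) * p ^ 2 := by
    have h1 : Nat.card ↥(Cfsg.qd p) = Nat.card (↥(Cfsg.qd p) ⧸ (Cfsg.Agent.Lib.Lead.QdLib.bX e).ker) *
        Nat.card ↥(Cfsg.Agent.Lib.Lead.QdLib.bX e).ker :=
      Subgroup.card_eq_card_quotient_mul_card_subgroup _
    have h2 : Nat.card (↥(Cfsg.qd p) ⧸ (Cfsg.Agent.Lib.Lead.QdLib.bX e).ker) =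
        Nat.card (Matrix.SpecialLinearGroup (Fin 2) (ZMod p)) :=
      Nat.card_congr (QuotientGroup.quotientKerEquivOfSurjective _ hsurj).toEquiv
    rw [h2, Cfsg.Agent.Lib.Lead.QdLib.card_ker_bX, Cfsg.Agent.Lib.Helper1.card_SL2, ZMod.card] at h1
    exact h1
  have hcardP : Nat.card ↥P = p ^ 3 := by
    obtain ⟨k, hk3, hk⟩ := Cfsg.Agent.Lib.Helper4.card_sylow_qd e P
    have h1 : p ^ 3 ∣ Nat.card ↥(Cfsg.qd p) := by
      rw [hcardX]
      exact ⟨p ^ 2 - 1, by ring⟩
    have h2 : 3 ≤ (Nat.card ↥(Cfsg.qd p)).factorization p :=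
      (hpp.pow_dvd_iff_le_factorization Nat.card_pos.ne').mp h1
    have h3 := P.card_eq_multiplicity
    rw [hk] at h3
    have h5 := Nat.pow_right_injective hpp.two_le h3
    have hk' : k = 3 := by omega
    have h4 : Nat.card ↥P = p ^ k := hk
    rw [h4, hk']
  have hna : ¬ ∀ a b : ↥P, a * b = b * a := by
    intro hab
    have hN : (Cfsg.Agent.Lib.Lead.QdLib.bX e).ker ≤ (P : Subgroup ↥(Cfsg.qd p)) :=
      Cfsg.Agent.Lib.Lead.normal_pgroup_le_sylow p _ (Cfsg.Agent.Lib.Lead.QdLib.isPGroup_ker_bX e) P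
    have hPc : (P : Subgroup ↥(Cfsg.qd p)) ≤
        Subgroup.centralizer ((Cfsg.Agent.Lib.Lead.QdLib.bX e).ker : Set ↥(Cfsg.qd p)) := by
      intro x hx
      rw [Subgroup.mem_centralizer_iff]
      intro y hy
      have := hab ⟨y, hN hy⟩ ⟨x, hx⟩
      exact congrArg Subtype.val this
    have hle := hPc.trans (Cfsg.Agent.Lib.Lead.QdLib.centralizer_ker_bX_le e)
    have h1 := Subgroup.card_le_of_le hle
    rw [Cfsg.Agent.Lib.Lead.QdLib.card_ker_bX] at h1
    have h2 : Nat.card ↥(P : Subgroup ↥(Cfsg.qd p)) = p ^ 3 := hcardP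
    rw [h2] at h1
    have := Nat.pow_lt_pow_right hpp.one_lt (show 2 < 3 by norm_num)
    omega
  refine ⟨isExtraspecial_of_card_cube p hcardP hna, hcardP, ?_⟩
  have hpow : ∀ x : ↥P, x ^ p = 1 := by
    intro x
    obtain ⟨k, hk⟩ := P.isPGroup' x
    have h1 : (((x : ↥(Cfsg.qd p)) : Matrix.SpecialLinearGroup (Fin 3) (ZMod p)) :
        Matrix (Fin 3) (Fin 3) (ZMod p)) ^ p ^ k = 1 := by
      have := congrArg (fun y : ↥P => (((y : ↥(Cfsg.qd p)) :
        Matrix.SpecialLinearGroup (Fin 3) (ZMod p)) : Matrix (Fin 3) (Fin 3) (ZMod p))) hk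
      simpa using this
    have h2 := matrix_pow_p_eq_one p hp3 _ k h1
    apply Subtype.ext
    apply Subtype.ext
    apply Subtype.ext
    simpa using h2
  have hdvd : Monoid.exponent ↥P ∣ p := Monoid.exponent_dvd_of_forall_pow_eq_one hpow
  rcases (Nat.dvd_prime hpp).mp hdvd with h1 | h1
  · exfalso
    have hss : Subsingleton ↥P := Monoid.exp_eq_one_iff.mp h1
    have : Nat.card ↥P = 1 := Nat.card_eq_one_iff_unique.mpr ⟨hss, ⟨1⟩⟩
    rw [hcardP] at this
    have := Nat.one_lt_pow (show 3 ≠ 0 by norm_num) hpp.one_lt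
    omega
  · exact h1


end Cfsg.Agent.S3074
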