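import Mathlib
import Cfsg.Statements.S3075

set_option autoImplicit false
open Cfsg

namespace Cfsg.Agent.S3075

section matrices

variable {F : Type*} [Field F]

def zM : Matrix (Fin 2) (Fin 2) F := !![-1, 0; 0, -1]
theorem zM_det : (zM : Matrix (Fin 2) (Fin 2) F).det = 1 := by simp [zM, Matrix.det_fin_two]
def zS : Matrix.SpecialLinearGroup (Fin 2) F := ⟨zM, zM_det⟩

theorem zS_sq : (zS : Matrix.SpecialLinearGroup (Fin 2) F) * zS = 1 := by
  apply Subtype.ext
  rw [Matrix.SpecialLinearGroup.coe_mul]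
  show (zM : Matrix (Fin 2) (Fin 2) F) * zM = 1
  ext i j
  fin_cases i <;> fin_cases j <;> simp [zM, Matrix.mul_apply, Fin.sum_univ_two]

theorem zS_comm (m : Matrix.SpecialLinearGroup (Fin 2) F) : m * zS = zS * m := by
  apply Subtype.ext
  rw [Matrix.SpecialLinearGroup.coe_mul, Matrix.SpecialLinearGroup.coe_mul]
  show (m : Matrix (Fin 2) (Fin 2) F) * zM = zM * (m : Matrix (Fin 2) (Fin 2) F)
  ext i j
  fin_cases i <;> fin_cases j <;> simp [zM, Matrix.mul_apply, Fin.sum_univ_two]

theorem zS_ne_one (h2 : (2 : F) ≠ 0) : (zS : Matrix.SpecialLinearGroup (Fin 2) F) ≠ 1 := by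
  intro h
  have h1 : (zM : Matrix (Fin 2) (Fin 2) F) 0 0 = (1 : Matrix (Fin 2) (Fin 2) F) 0 0 := by
    have := congrArg
      (fun m : Matrix.SpecialLinearGroup (Fin 2) F => (m : Matrix (Fin 2) (Fin 2) F) 0 0) h
    exact this
  simp [zM] at h1
  apply h2
  have : (2 : F) = 1 - (-1) := by ring
  rw [this, h1]; ring

def uM : Matrix (Fin 2) (Fin 2) F := !![1, 1; 0, 1]
theorem uM_det : (uM : Matrix (Fin 2) (Fin 2) F).det = 1 := by simp [uM, Matrix.det_fin_two]
def uS : Matrix.SpecialLinearGroup (Fin 2) F := ⟨uM, uM_det⟩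

theorem uS_ne_one : (uS : Matrix.SpecialLinearGroup (Fin 2) F) ≠ 1 := by
  intro h
  have h1 : (uM : Matrix (Fin 2) (Fin 2) F) 0 1 = (1 : Matrix (Fin 2) (Fin 2) F) 0 1 := by
    have := congrArg
      (fun m : Matrix.SpecialLinearGroup (Fin 2) F => (m : Matrix (Fin 2) (Fin 2) F) 0 1) h
    exact this
  simp [uM] at h1

theorem uS_pow (k : ℕ) :
    ((uS ^ k : Matrix.SpecialLinearGroup (Fin 2) F) : Matrix (Fin 2) (Fin 2) F) =
      !![1, (k : F); 0, 1] := by
  induction k with
  | zero => ext i j; fin_cases i <;> fin_cases j <;> simp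
  | succ k ih =>
    rw [pow_succ, Matrix.SpecialLinearGroup.coe_mul, ih]
    show _ * (uM : Matrix (Fin 2) (Fin 2) F) = _
    ext i j
    fin_cases i <;> fin_cases j <;> simp [uM, Matrix.mul_apply, Fin.sum_univ_two] <;> ring

theorem uS_pow_eq_one {p : ℕ} (hp : (p : F) = 0) :
    (uS : Matrix.SpecialLinearGroup (Fin 2) F) ^ p = 1 := by
  apply Subtype.ext
  rw [uS_pow, hp]
  ext i j
  fin_cases i <;> fin_cases j <;> simp

end matrices

section group

variable {N : Type*} [Group N] [Finite N] {p : ℕ} [Fact p.Prime]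

/-- a `p`-element normalizing a subgroup of order `p` centralizes it -/
theorem centralizes_of_card_prime (n : N) (hn : n ^ (p ^ 2) = 1) (L : Subgroup N)
    (hL : ∀ a ∈ L, n * a * n⁻¹ ∈ L) (hcard : Nat.card L = p) : ∀ a ∈ L, n * a * n⁻¹ = a := by
  have hp : p.Prime := Fact.out
  have hne : L ≠ ⊥ := by
    intro h
    rw [h, Subgroup.card_bot] at hcard
    exact hp.one_lt.ne hcard
  obtain ⟨⟨g, hg⟩, hg1⟩ := (Subgroup.ne_bot_iff_exists_ne_one).mp hne
  have hg1' : g ≠ 1 := fun h => hg1 (Subtype.ext h)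
  have hord : orderOf g = p := by
    have h1 : orderOf g ∣ p := by
      rw [← hcard]
      have := orderOf_dvd_natCard (⟨g, hg⟩ : L)
      rwa [Subgroup.orderOf_mk] at this
    rcases (Nat.dvd_prime hp).mp h1 with h2 | h2
    · exact absurd (orderOf_eq_one_iff.mp h2) hg1'
    · exact h2
  have hzp : Subgroup.zpowers g = L := by
    apply Subgroup.eq_of_le_of_card_ge ((Subgroup.zpowers_le).mpr hg)
    rw [Nat.card_zpowers, hord, hcard]
  have hmem : n * g * n⁻¹ ∈ Subgroup.zpowers g := by rw [hzp]; exact hL g hg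
  rw [← mem_powers_iff_mem_zpowers, Submonoid.mem_powers_iff] at hmem
  obtain ⟨i, hi⟩ := hmem
  have hpow : ∀ k : ℕ, n ^ k * g * (n ^ k)⁻¹ = g ^ (i ^ k) := by
    intro k
    induction k with
    | zero => simp
    | succ k ih =>
      have e : n ^ (k + 1) * g * (n ^ (k + 1))⁻¹ = n * (n ^ k * g * (n ^ k)⁻¹) * n⁻¹ := by
        rw [pow_succ']; group
      rw [e, ih, ← conj_pow, ← hi, ← pow_mul, pow_succ']
  have h1 := hpow (p ^ 2)
  rw [hn, one_mul, inv_one, mul_one] at h1
  have h2 : g ^ 1 = g ^ (i ^ (p ^ 2)) := by rw [pow_one]; exact h1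
  rw [pow_eq_pow_iff_modEq, hord] at h2
  have h3 : ((i ^ (p ^ 2) : ℕ) : ZMod p) = 1 := by
    have := (ZMod.natCast_eq_natCast_iff _ _ p).mpr h2
    simpa using this.symm
  have h4 : (i : ZMod p) = 1 := by
    rw [Nat.cast_pow, pow_two, pow_mul, ZMod.pow_card, ZMod.pow_card] at h3
    exact h3
  have h5 : g ^ i = g := by
    have : g ^ i = g ^ 1 := by
      rw [pow_eq_pow_iff_modEq, hord]
      apply (ZMod.natCast_eq_natCast_iff _ _ p).mp
      rw [h4]; simp
    rw [this, pow_one]
  intro a ha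
  rw [← hzp, ← mem_powers_iff_mem_zpowers, Submonoid.mem_powers_iff] at ha
  obtain ⟨j, rfl⟩ := ha
  rw [← conj_pow, ← hi, h5]

end group


/-- Let p be an odd prime and N a finite group with a normal elementary abelian subgroup A of order p² that is its own centralizer in N, such that N/A is isomorphic to SL₂(p) (over any field F with p elements). Then N splits over A: some subgroup U of N satisfies A ∩ U = 1 and AU = N. -/
theorem result {N : Type*} [Group N] [Finite N] {p : ℕ} [Fact p.Prime] (hp : p ≠ 2)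
    (A : Subgroup N) [A.Normal] (hAcomm : IsMulCommutative A) (hAcard : Nat.card A = p ^ 2) (hAexp : Monoid.exponent ↥A = p)
    (hAself : Subgroup.centralizer (A : Set N) = A)
    {F : Type*} [Field F] [Fintype F] (hF : Fintype.card F = p) (e : N ⧸ A ≃* Matrix.SpecialLinearGroup (Fin 2) F) :
    ∃ U : Subgroup N, A ⊓ U = ⊥ ∧ A ⊔ U = ⊤ := by
  classical
  have hp' : p.Prime := Fact.out
  obtain ⟨k, hk⟩ := hp'.odd_of_ne_two hp
  have hpF : (p : F) = 0 := by rw [← hF]; exact Nat.cast_card_eq_zero F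
  have h2F : (2 : F) ≠ 0 := by
    intro h2
    have h3 : (p : F) = 2 * (k : F) + 1 := by rw [hk]; push_cast; ring
    rw [hpF, h2, zero_mul, zero_add] at h3
    exact zero_ne_one h3
  -- facts on A
  have hApow : ∀ a ∈ A, a ^ p = 1 := by
    intro a ha
    have h1 := Monoid.pow_exponent_eq_one (⟨a, ha⟩ : A)
    rw [hAexp] at h1
    exact congrArg Subtype.val h1
  have hAc : ∀ a ∈ A, ∀ b ∈ A, a * b = b * a := by
    intro a ha b hb
    exact congrArg Subtype.val (hAcomm.is_comm.comm ⟨a, ha⟩ ⟨b, hb⟩)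
  have hAodd : ∀ a ∈ A, a * a = 1 → a = 1 := by
    intro a ha haa
    have h1 := hApow a ha
    rw [hk, pow_succ, pow_mul, pow_two, haa, one_pow, one_mul] at h1
    exact h1
  have hAhalf : ∀ a ∈ A, (a * a) ^ (k + 1) = a := by
    intro a ha
    have h1 := hApow a ha
    have : (a * a) ^ (k + 1) = a ^ p * a := by
      rw [hk, ← pow_two, ← pow_mul, ← pow_succ]
      congr 1
    rw [this, h1, one_mul]
  -- the involution t
  set z : Matrix.SpecialLinearGroup (Fin 2) F := zS with hz
  obtain ⟨s, hs⟩ := QuotientGroup.mk_surjective (e.symm z)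
  have hzp : z ^ p = z := by
    rw [hk, pow_succ, pow_mul, pow_two, zS_sq, one_pow, one_mul]
  set t : N := s ^ p with ht
  have ht_img : ((t : N) : N ⧸ A) = e.symm z := by
    rw [ht, QuotientGroup.mk_pow, hs, ← map_pow, hzp]
  have hs2 : s * s ∈ A := by
    rw [← QuotientGroup.eq_one_iff, QuotientGroup.mk_mul, hs, ← map_mul, zS_sq, map_one]
  have ht2 : t * t = 1 := by
    rw [ht, ← (Commute.refl s).mul_pow]
    exact hApow _ hs2
  have htA : t ∉ A := by
    intro h
    rw [← QuotientGroup.eq_one_iff, ht_img] at h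
    have : z = 1 := by
      have := congrArg e h
      simpa using this
    exact zS_ne_one h2F this
  have htinv : t⁻¹ = t := inv_eq_of_mul_eq_one_right ht2
  have htc : ∀ m : N, m * t * m⁻¹ * t⁻¹ ∈ A := by
    intro m
    rw [← QuotientGroup.eq_one_iff]
    simp only [QuotientGroup.mk_mul, QuotientGroup.mk_inv, ht_img]
    have h1 : (m : N ⧸ A) * e.symm z = e.symm z * (m : N ⧸ A) := by
      apply e.injective
      rw [map_mul, map_mul, e.apply_symm_apply]
      exact zS_comm _
    rw [h1]; group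
  -- the p-element n
  obtain ⟨n, hn⟩ := QuotientGroup.mk_surjective (e.symm (uS : Matrix.SpecialLinearGroup (Fin 2) F))
  have hnA : n ∉ A := by
    intro h
    rw [← QuotientGroup.eq_one_iff, hn] at h
    have : (uS : Matrix.SpecialLinearGroup (Fin 2) F) = 1 := by
      have := congrArg e h
      simpa using this
    exact uS_ne_one this
  have hnp : n ^ p ∈ A := by
    rw [← QuotientGroup.eq_one_iff, QuotientGroup.mk_pow, hn, ← map_pow, uS_pow_eq_one hpF, map_one]
  have hnp2 : n ^ (p ^ 2) = 1 := by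
    rw [pow_two, pow_mul]
    exact hApow _ hnp
  -- conjugation by t on A
  have hAn : ∀ (m : N) (a : N), a ∈ A → m * a * m⁻¹ ∈ A := fun m a ha =>
    (inferInstance : A.Normal).conj_mem a ha m
  have hττ : ∀ a : N, t * (t * a * t⁻¹) * t⁻¹ = a := by
    intro a
    have : t * (t * a * t⁻¹) * t⁻¹ = (t * t) * a * (t * t)⁻¹ := by group
    rw [this, ht2, one_mul, inv_one, mul_one]
  -- conjugates of t act on A like t
  have hconj_t : ∀ (m : N) (a : N), a ∈ A → (m⁻¹ * t * m) * a * (m⁻¹ * t * m)⁻¹ = t * a * t⁻¹ := by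
    intro m a ha
    have h1 := htc m⁻¹
    rw [inv_inv] at h1
    set c := m⁻¹ * t * m * t⁻¹ with hc
    have e1 : m⁻¹ * t * m = c * t := by rw [hc]; group
    rw [e1]
    have e2 : c * t * a * (c * t)⁻¹ = c * (t * a * t⁻¹) * c⁻¹ := by group
    rw [e2]
    have h2 := hAc c h1 (t * a * t⁻¹) (hAn t a ha)
    rw [h2, mul_assoc, mul_inv_cancel, mul_one]
  -- A₊ and A₋
  set Ap : Subgroup N := A ⊓ Subgroup.centralizer ({t} : Set N) with hAp
  have hmemAp : ∀ a, a ∈ Ap ↔ a ∈ A ∧ t * a * t⁻¹ = a := by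
    intro a
    rw [hAp, Subgroup.mem_inf, Subgroup.mem_centralizer_singleton_iff]
    constructor
    · rintro ⟨h1, h2⟩
      refine ⟨h1, ?_⟩
      rw [← h2, mul_assoc, mul_inv_cancel, mul_one]
    · rintro ⟨h1, h2⟩
      refine ⟨h1, ?_⟩
      calc a * t = (t * a * t⁻¹) * t := by rw [h2]
        _ = t * a := by group
  let Am : Subgroup N :=
    { carrier := {a | a ∈ A ∧ t * a * t⁻¹ = a⁻¹}
      one_mem' := ⟨A.one_mem, by simp⟩
      mul_mem' := by
        rintro a b ⟨ha, ha'⟩ ⟨hb, hb'⟩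
        refine ⟨A.mul_mem ha hb, ?_⟩
        have : t * (a * b) * t⁻¹ = (t * a * t⁻¹) * (t * b * t⁻¹) := by group
        rw [this, ha', hb', mul_inv_rev]
        exact hAc _ (A.inv_mem ha) _ (A.inv_mem hb)
      inv_mem' := by
        rintro a ⟨ha, ha'⟩
        refine ⟨A.inv_mem ha, ?_⟩
        have : t * a⁻¹ * t⁻¹ = (t * a * t⁻¹)⁻¹ := by group
        rw [this, ha'] }
  have hmemAm : ∀ a, a ∈ Am ↔ a ∈ A ∧ t * a * t⁻¹ = a⁻¹ := fun a => Iff.rfl
  have hApA : Ap ≤ A := inf_le_left
  have hAmA : Am ≤ A := fun a ha => ha.1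
  -- N-invariance
  have hApinv : ∀ (m : N), ∀ a ∈ Ap, m * a * m⁻¹ ∈ Ap := by
    intro m a ha
    rw [hmemAp] at ha ⊢
    refine ⟨hAn m a ha.1, ?_⟩
    have h1 := hconj_t m a ha.1
    rw [ha.2] at h1
    have e1 : t * (m * a * m⁻¹) * t⁻¹ = m * ((m⁻¹ * t * m) * a * (m⁻¹ * t * m)⁻¹) * m⁻¹ := by group
    rw [e1, h1]
  have hAminv : ∀ (m : N), ∀ a ∈ Am, m * a * m⁻¹ ∈ Am := by
    intro m a ha
    rw [hmemAm] at ha ⊢
    refine ⟨hAn m a ha.1, ?_⟩
    have h1 := hconj_t m a ha.1
    rw [ha.2] at h1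
    have e1 : t * (m * a * m⁻¹) * t⁻¹ = m * ((m⁻¹ * t * m) * a * (m⁻¹ * t * m)⁻¹) * m⁻¹ := by group
    rw [e1, h1]; group
  -- decomposition of squares
  have hplus_mem : ∀ a ∈ A, a * (t * a * t⁻¹) ∈ Ap := by
    intro a ha
    rw [hmemAp]
    refine ⟨A.mul_mem ha (hAn t a ha), ?_⟩
    have : t * (a * (t * a * t⁻¹)) * t⁻¹ = (t * a * t⁻¹) * (t * (t * a * t⁻¹) * t⁻¹) := by group
    rw [this, hττ]
    exact hAc _ (hAn t a ha) _ ha
  have hminus_mem : ∀ a ∈ A, a * (t * a * t⁻¹)⁻¹ ∈ Am := by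
    intro a ha
    rw [hmemAm]
    refine ⟨A.mul_mem ha (A.inv_mem (hAn t a ha)), ?_⟩
    have : t * (a * (t * a * t⁻¹)⁻¹) * t⁻¹ = (t * a * t⁻¹) * (t * (t * a * t⁻¹) * t⁻¹)⁻¹ := by group
    rw [this, hττ, mul_inv_rev, inv_inv]
  -- t inverts A
  have hinvert : ∀ a ∈ A, t * a * t⁻¹ = a⁻¹ := by
    by_cases hplus : Ap = ⊥
    · intro a ha
      have h1 := hplus_mem a ha
      rw [hplus, Subgroup.mem_bot] at h1
      exact (eq_inv_of_mul_eq_one_right h1)
    · exfalso
      -- cardinalities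
      have hcardAp : Nat.card Ap = p := by
        have hd : Nat.card Ap ∣ p ^ 2 := hAcard ▸ Subgroup.card_dvd_of_le hApA
        obtain ⟨j, hj, hj'⟩ := (Nat.dvd_prime_pow hp').mp hd
        interval_cases j
        · exfalso
          rw [pow_zero] at hj'
          exact hplus (Subgroup.card_eq_one.mp hj')
        · rw [pow_one] at hj'; exact hj'
        · exfalso
          have hEq : Ap = A := Subgroup.eq_of_le_of_card_ge hApA (by rw [hj', hAcard])
          have htcent : t ∈ Subgroup.centralizer (A : Set N) := by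
            rw [Subgroup.mem_centralizer_iff]
            intro a ha
            have : a ∈ Ap := by rw [hEq]; exact ha
            have h2 := ((hmemAp a).mp this).2
            calc a * t = (t * a * t⁻¹) * t := by rw [h2]
              _ = t * a := by group
          rw [hAself] at htcent
          exact htA htcent
      have hcardAm : Nat.card Am = 1 ∨ Nat.card Am = p := by
        have hd : Nat.card Am ∣ p ^ 2 := hAcard ▸ Subgroup.card_dvd_of_le hAmA
        obtain ⟨j, hj, hj'⟩ := (Nat.dvd_prime_pow hp').mp hd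
        interval_cases j
        · left; rw [pow_zero] at hj'; exact hj'
        · right; rw [pow_one] at hj'; exact hj'
        · exfalso
          have hEq : Am = A := Subgroup.eq_of_le_of_card_ge hAmA (by rw [hj', hAcard])
          apply hplus
          rw [Subgroup.eq_bot_iff_forall]
          intro a ha
          have ha' := (hmemAp a).mp ha
          have : a ∈ Am := by rw [hEq]; exact ha'.1
          have h2 := ((hmemAm a).mp this).2
          rw [ha'.2] at h2
          apply hAodd a ha'.1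
          nth_rewrite 2 [h2]
          exact mul_inv_cancel a
      have hnAp : ∀ a ∈ Ap, n * a * n⁻¹ = a :=
        centralizes_of_card_prime n hnp2 Ap (hApinv n) hcardAp
      have hnAm : ∀ a ∈ Am, n * a * n⁻¹ = a := by
        rcases hcardAm with h1 | h1
        · intro a ha
          have : Am = ⊥ := Subgroup.card_eq_one.mp h1
          rw [this, Subgroup.mem_bot] at ha
          rw [ha]; group
        · exact centralizes_of_card_prime n hnp2 Am (hAminv n) h1
      have hncent : n ∈ Subgroup.centralizer (A : Set N) := by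
        rw [Subgroup.mem_centralizer_iff]
        intro a ha
        have h1 := hnAp _ (hplus_mem a ha)
        have h2 := hnAm _ (hminus_mem a ha)
        have hsq : (a * (t * a * t⁻¹)) * (a * (t * a * t⁻¹)⁻¹) = a * a := by
          have hc := hAc (t * a * t⁻¹) (hAn t a ha) a ha
          calc (a * (t * a * t⁻¹)) * (a * (t * a * t⁻¹)⁻¹)
              = a * ((t * a * t⁻¹) * a) * (t * a * t⁻¹)⁻¹ := by group
            _ = a * (a * (t * a * t⁻¹)) * (t * a * t⁻¹)⁻¹ := by rw [hc]
            _ = a * a := by group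
        have h3 : n * (a * a) * n⁻¹ = a * a := by
          rw [← hsq]
          have : n * ((a * (t * a * t⁻¹)) * (a * (t * a * t⁻¹)⁻¹)) * n⁻¹ =
              (n * (a * (t * a * t⁻¹)) * n⁻¹) * (n * (a * (t * a * t⁻¹)⁻¹) * n⁻¹) := by group
          rw [this, h1, h2]
        have h4 : n * a * n⁻¹ = a := by
          have h5 : n * ((a * a) ^ (k + 1)) * n⁻¹ = (a * a) ^ (k + 1) := by
            rw [← conj_pow, h3]
          rwa [hAhalf a ha] at h5
        calc a * n = (n * a * n⁻¹) * n := by rw [h4]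
          _ = n * a := by group
      rw [hAself] at hncent
      exact hnA hncent
  -- the complement
  refine ⟨Subgroup.centralizer ({t} : Set N), ?_, ?_⟩
  · rw [Subgroup.eq_bot_iff_forall]
    intro a ha
    have ha' := (hmemAp a).mp ha
    have h1 := hinvert a ha'.1
    rw [ha'.2] at h1
    apply hAodd a ha'.1
    nth_rewrite 2 [h1]
    exact mul_inv_cancel a
  · rw [eq_top_iff]
    intro m _
    set c := m * t * m⁻¹ * t⁻¹ with hc
    have hcA : c ∈ A := htc m
    set b := c ^ (k + 1) with hb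
    have hbA : b ∈ A := A.pow_mem hcA _
    have hbb : b * b = c := by
      rw [hb, ← pow_add]
      have : k + 1 + (k + 1) = p + 1 := by omega
      rw [this, pow_succ, hApow c hcA, one_mul]
    have hmt : m * t * m⁻¹ = c * t := by rw [hc]; group
    have hcomm : (b⁻¹ * m) * t = t * (b⁻¹ * m) := by
      have h1 : (b⁻¹ * m) * t * (b⁻¹ * m)⁻¹ = t := by
        have e1 : (b⁻¹ * m) * t * (b⁻¹ * m)⁻¹ = b⁻¹ * (m * t * m⁻¹) * b := by group
        rw [e1, hmt]
        have h2 := hinvert b hbA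
        have e2 : b⁻¹ * (c * t) * b = b⁻¹ * c * (t * b * t⁻¹) * t := by group
        rw [e2, h2, ← hbb]
        group
      calc (b⁻¹ * m) * t = ((b⁻¹ * m) * t * (b⁻¹ * m)⁻¹) * (b⁻¹ * m) := by group
        _ = t * (b⁻¹ * m) := by rw [h1]
    have hU : b⁻¹ * m ∈ Subgroup.centralizer ({t} : Set N) :=
      Subgroup.mem_centralizer_singleton_iff.mpr hcomm
    have : m = b * (b⁻¹ * m) := by group
    rw [this]
    exact Subgroup.mul_mem_sup hbA hU

end Cfsg.Agent.S3075
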