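import Mathlib
import Cfsg.Prelude.Def_Solvable
import Cfsg.Prelude.Def_Local
import Cfsg.Agent.Lib.Lead.Core
import Cfsg.Agent.Lib.Helper6.PPrimeCore
import Cfsg.Agent.Lib.Helper6.SylowIdx
import Cfsg.Agent.Lib.Helper6.Kieler
import Cfsg.Agent.Lib.Helper3.PComp1
import Cfsg.Statements.S3076

set_option autoImplicit false
open Cfsg

namespace Cfsg.Agent.S3076

open Cfsg.Agent.Lib.Helper6
open scoped commutatorElement

section helpers

variable {X : Type*} [Group X] {p : ℕ}

/-- a normal subgroup all of whose elements have `p`-power order modulo `N` lies in the preimage of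
`O_p(X/N)` -/
theorem le_comap_pCore (N : Subgroup X) [N.Normal] (B : Subgroup X) [hB : B.Normal]
    (h : ∀ x ∈ B, ∃ k : ℕ, x ^ (p ^ k) ∈ N) :
    B ≤ (Cfsg.pCore p (X ⧸ N)).comap (QuotientGroup.mk' N) := by
  rw [← Subgroup.map_le_iff_le_comap]
  apply Cfsg.Agent.Lib.Lead.le_pCore
  · exact hB.map _ (QuotientGroup.mk'_surjective N)
  · rintro ⟨_, ⟨b, hb, rfl⟩⟩
    obtain ⟨k, hk⟩ := h b hb
    refine ⟨k, ?_⟩
    apply Subtype.ext
    show (QuotientGroup.mk' N b) ^ (p ^ k) = 1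
    rw [← map_pow, QuotientGroup.mk'_apply, QuotientGroup.eq_one_iff]
    exact hk

theorem pow_mem_of_mem_comap_pCore (N : Subgroup X) [N.Normal] {x : X}
    (hx : x ∈ (Cfsg.pCore p (X ⧸ N)).comap (QuotientGroup.mk' N)) :
    ∃ k : ℕ, x ^ (p ^ k) ∈ N := by
  rw [Subgroup.mem_comap] at hx
  obtain ⟨k, hk⟩ := Cfsg.Agent.Lib.Lead.pCore_isPGroup (G := X ⧸ N) p ⟨_, hx⟩
  refine ⟨k, ?_⟩
  have := congrArg Subtype.val hk
  simp only [Subgroup.coe_pow, Subgroup.coe_one] at this
  rw [← map_pow, QuotientGroup.mk'_apply, QuotientGroup.eq_one_iff] at this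
  exact this

theorem comap_pCore_normal (N : Subgroup X) [N.Normal] :
    ((Cfsg.pCore p (X ⧸ N)).comap (QuotientGroup.mk' N)).Normal :=
  (Cfsg.Agent.Lib.Lead.pCore_normal p).comap _

theorem le_comap_pCore_self (N : Subgroup X) [N.Normal] :
    N ≤ (Cfsg.pCore p (X ⧸ N)).comap (QuotientGroup.mk' N) := by
  intro x hx
  rw [Subgroup.mem_comap, QuotientGroup.mk'_apply, (QuotientGroup.eq_one_iff x).mpr hx]
  exact one_mem _

/-- Burnside: a finite group with a central Sylow `p`-subgroup has a normal `p`-complement -/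
theorem exists_normal_complement_of_central_sylow {Y : Type*} [Group Y] [Finite Y] [hp : Fact p.Prime]
    (P : Sylow p Y) (hP : (P : Subgroup Y) ≤ Subgroup.center Y) :
    ∃ K : Subgroup Y, K.Normal ∧ (Nat.card K).Coprime p ∧ K ⊔ (P : Subgroup Y) = ⊤ := by
  have hP' : Subgroup.normalizer ((P : Subgroup Y) : Set Y) ≤
      Subgroup.centralizer ((P : Subgroup Y) : Set Y) := by
    intro g _
    rw [Subgroup.mem_centralizer_iff]
    intro x hx
    exact (Subgroup.mem_center_iff.mp (hP hx) g).symm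
  refine ⟨(MonoidHom.transferSylow P hP').ker, MonoidHom.normal_ker _, ?_, ?_⟩
  · exact ((Nat.Prime.coprime_iff_not_dvd hp.out).mpr
      (MonoidHom.not_dvd_card_ker_transferSylow P hP')).symm
  · exact (MonoidHom.ker_transferSylow_isComplement' P hP').sup_eq_top

section main

variable [Finite X] [hp : Fact p.Prime]

theorem isSylowOf_of_not_dvd_relIndex {T K : Subgroup X} (hTK : T ≤ K) (hT : IsPGroup p T)
    (hnd : ¬ p ∣ T.relIndex K) : IsSylowOf p K T :=
  ⟨hTK, hT, fun _ hQ hQK hTQ => eq_of_not_dvd_relIndex hTQ hQK hQ hnd⟩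

/-- if all elements of `M` have `p`-power order modulo the normal subgroup `C ≤ M` then `|M : C|` is a
power of `p` -/
theorem relIndex_eq_pow (C M : Subgroup X) [C.Normal] (h : ∀ m ∈ M, ∃ k : ℕ, m ^ (p ^ k) ∈ C) :
    ∃ n : ℕ, C.relIndex M = p ^ n := by
  haveI : (C.subgroupOf M).Normal := Subgroup.Normal.subgroupOf inferInstance M
  have hpg : IsPGroup p (↥M ⧸ C.subgroupOf M) := by
    intro q
    obtain ⟨m, rfl⟩ := QuotientGroup.mk_surjective q
    obtain ⟨k, hk⟩ := h m m.2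
    refine ⟨k, ?_⟩
    rw [← QuotientGroup.mk_pow, QuotientGroup.eq_one_iff, Subgroup.mem_subgroupOf]
    exact hk
  obtain ⟨n, hn⟩ := (IsPGroup.iff_card).mp hpg
  exact ⟨n, by rw [Subgroup.relIndex, Subgroup.index_eq_card]; exact hn⟩

variable (A C Q : Subgroup X) [hA : A.Normal] [hC : C.Normal]

theorem pPrimeCore_le_centralizer (hAp : IsPGroup p A)
    (hCdef : C = Subgroup.centralizer (A : Set X)) : Cfsg.pPrimeCore p X ≤ C := by
  intro k hk
  rw [hCdef, Subgroup.mem_centralizer_iff]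
  intro a ha
  have h1 : k * a * k⁻¹ * a⁻¹ ∈ Cfsg.pPrimeCore p X := by
    have : k * a * k⁻¹ * a⁻¹ = k * (a * k⁻¹ * a⁻¹) := by group
    rw [this]
    exact mul_mem hk ((Cfsg.pPrimeCore_normal p X).conj_mem _ (inv_mem hk) a)
  have h2 : k * a * k⁻¹ * a⁻¹ ∈ A := mul_mem (hA.conj_mem a ha k) (inv_mem ha)
  have hcop : Nat.Coprime (Nat.card (Cfsg.pPrimeCore p X)) (Nat.card A) := by
    obtain ⟨n, hn⟩ := (IsPGroup.iff_card).mp hAp
    rw [hn]
    exact Nat.Coprime.pow_right n (pPrimeCore_coprime p)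
  have h3 := (Subgroup.disjoint_of_coprime_natCard hcop).eq_bot
  have h4 : k * a * k⁻¹ * a⁻¹ ∈ Cfsg.pPrimeCore p X ⊓ A := ⟨h1, h2⟩
  rw [h3, Subgroup.mem_bot] at h4
  calc a * k = (k * a * k⁻¹ * a⁻¹)⁻¹ * (k * a) := by group
    _ = k * a := by rw [h4]; group

theorem M_eq_sup (hAp : IsPGroup p A)
    (hnd : ¬ p ∣ A.relIndex ((Cfsg.pCore p (X ⧸ C)).comap (QuotientGroup.mk' C)))
    (hAM : A ≤ (Cfsg.pCore p (X ⧸ C)).comap (QuotientGroup.mk' C)) :
    (Cfsg.pCore p (X ⧸ C)).comap (QuotientGroup.mk' C) = A ⊔ C := by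
  set M := (Cfsg.pCore p (X ⧸ C)).comap (QuotientGroup.mk' C) with hM
  have hCM : C ≤ M := le_comap_pCore_self C
  have hDM : A ⊔ C ≤ M := sup_le hAM hCM
  apply le_antisymm _ hDM
  rw [← Subgroup.relIndex_eq_one]
  have h1 := Subgroup.relIndex_mul_relIndex A (A ⊔ C) M le_sup_left hDM
  have h2 := Subgroup.relIndex_mul_relIndex C (A ⊔ C) M le_sup_right hDM
  obtain ⟨n, hn⟩ := relIndex_eq_pow C M (fun m hm => pow_mem_of_mem_comap_pCore C hm)
  have h3 : (A ⊔ C).relIndex M ∣ p ^ n := by rw [← hn, ← h2]; exact dvd_mul_left _ _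
  obtain ⟨i, _, hi⟩ := (Nat.dvd_prime_pow hp.out).mp h3
  rcases Nat.eq_zero_or_pos i with h0 | h0
  · rw [hi, h0, pow_zero]
  · exfalso
    apply hnd
    rw [← h1, hi]
    exact Dvd.dvd.mul_left (dvd_pow_self p h0.ne') _

theorem main_forward (hAp : IsPGroup p A) (hCdef : C = Subgroup.centralizer (A : Set X))
    (hQp : IsPGroup p Q)
    (hnd : ¬ p ∣ A.relIndex ((Cfsg.pCore p (X ⧸ C)).comap (QuotientGroup.mk' C))) :
    Q ⊓ C ≤ A ∧ Cfsg.pPrimePCore p X = A ⊔ C := by
  set M := (Cfsg.pCore p (X ⧸ C)).comap (QuotientGroup.mk' C) with hM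
  have hCM : C ≤ M := le_comap_pCore_self C
  have hAM : A ≤ M := by
    apply le_comap_pCore C A
    intro a ha
    obtain ⟨k, hk⟩ := hAp ⟨a, ha⟩
    refine ⟨k, ?_⟩
    have := congrArg Subtype.val hk
    simp only [Subgroup.coe_pow, Subgroup.coe_one] at this
    rw [this]; exact one_mem _
  have hMeq : M = A ⊔ C := M_eq_sup A C hAp hnd hAM
  have hK₁C : Cfsg.pPrimeCore p X ≤ C := pPrimeCore_le_centralizer A C hAp hCdef
  constructor
  · have hpg : IsPGroup p ((Q ⊓ C) ⊔ A : Subgroup X) :=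
      IsPGroup.to_sup_of_normal_right (hQp.to_le inf_le_left) hAp
    have := eq_of_not_dvd_relIndex (le_sup_right : A ≤ (Q ⊓ C) ⊔ A)
      (sup_le (inf_le_right.trans hCM) hAM) hpg hnd
    rw [← this]; exact le_sup_left
  · -- Burnside inside C
    have hSylM : IsSylowOf p M A := isSylowOf_of_not_dvd_relIndex hAM hAp hnd
    have hMC : M ≤ Subgroup.normalizer (C : Set X) := by
      rw [Subgroup.normalizer_eq_top_iff.mpr hC]; exact le_top
    have hSylC : IsSylowOf p C (A ⊓ C) := hSylM.inf_of_normal hCM hMC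
    obtain ⟨P, hP⟩ := hSylC.exists_sylow
    have hPcen : (P : Subgroup ↥C) ≤ Subgroup.center ↥C := by
      intro x hx
      rw [Subgroup.mem_center_iff]
      intro y
      have hxA : (x : X) ∈ A := by
        have : (x : X) ∈ A ⊓ C := by rw [← hP]; exact ⟨x, hx, rfl⟩
        exact this.1
      have hy : (y : X) ∈ Subgroup.centralizer (A : Set X) := hCdef ▸ y.2
      have := Subgroup.mem_centralizer_iff.mp hy _ hxA
      exact Subtype.ext this.symm
    obtain ⟨K₀, hK₀n, hK₀c, hK₀P⟩ := exists_normal_complement_of_central_sylow P hPcen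
    have hK₀sub : (K₀.map C.subtype).IsSubnormal :=
      Subgroup.IsSubnormal.trans' hK₀n.isSubnormal hC.isSubnormal
    have hK₀card : (Nat.card (K₀.map C.subtype)).Coprime p := by
      rw [Subgroup.card_map_of_injective C.subtype_injective]; exact hK₀c
    have hK₀le : K₀.map C.subtype ≤ Cfsg.pPrimeCore p X :=
      Cfsg.Agent.Lib.Helper3.le_pPrimeCore_of_isSubnormal hK₀sub hK₀card
    have hCle : C ≤ Cfsg.pPrimeCore p X ⊔ A := by
      have h1 := congrArg (Subgroup.map C.subtype) hK₀P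
      rw [Subgroup.map_sup, hP, ← MonoidHom.range_eq_map, Subgroup.range_subtype] at h1
      rw [← h1]
      exact sup_le_sup hK₀le inf_le_left
    have hsup : A ⊔ C = A ⊔ Cfsg.pPrimeCore p X := by
      apply le_antisymm
      · apply sup_le le_sup_left
        rw [sup_comm]; exact hCle
      · exact sup_le_sup_left hK₁C A
    -- the two inclusions
    show (Cfsg.pCore p (X ⧸ Cfsg.pPrimeCore p X)).comap (QuotientGroup.mk' (Cfsg.pPrimeCore p X)) = A ⊔ C
    apply le_antisymm
    · rw [← hMeq]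
      haveI := comap_pCore_normal (p := p) (Cfsg.pPrimeCore p X)
      apply le_comap_pCore C _
      intro x hx
      obtain ⟨k, hk⟩ := pow_mem_of_mem_comap_pCore (Cfsg.pPrimeCore p X) hx
      exact ⟨k, hK₁C hk⟩
    · rw [hsup]
      apply sup_le
      · apply le_comap_pCore (Cfsg.pPrimeCore p X) A
        intro a ha
        obtain ⟨k, hk⟩ := hAp ⟨a, ha⟩
        refine ⟨k, ?_⟩
        have := congrArg Subtype.val hk
        simp only [Subgroup.coe_pow, Subgroup.coe_one] at this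
        rw [this]; exact one_mem _
      · exact le_comap_pCore_self _

theorem A_le_M (hAp : IsPGroup p A) :
    A ≤ (Cfsg.pCore p (X ⧸ C)).comap (QuotientGroup.mk' C) := by
  apply le_comap_pCore C A
  intro a ha
  obtain ⟨k, hk⟩ := hAp ⟨a, ha⟩
  refine ⟨k, ?_⟩
  have := congrArg Subtype.val hk
  simp only [Subgroup.coe_pow, Subgroup.coe_one] at this
  rw [this]; exact one_mem _

theorem main_backward (hAp : IsPGroup p A) (hCdef : C = Subgroup.centralizer (A : Set X))
    (hQ : IsSylowOf p ⊤ Q) (h1 : Q ⊓ C ≤ A) (h2 : Cfsg.pPrimePCore p X = A ⊔ C) :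
    ¬ p ∣ A.relIndex ((Cfsg.pCore p (X ⧸ C)).comap (QuotientGroup.mk' C)) := by
  set M := (Cfsg.pCore p (X ⧸ C)).comap (QuotientGroup.mk' C) with hM
  have hCM : C ≤ M := le_comap_pCore_self C
  have hAM : A ≤ M := A_le_M A C hAp
  have hK₁C : Cfsg.pPrimeCore p X ≤ C := pPrimeCore_le_centralizer A C hAp hCdef
  have hCL : C ≤ (Cfsg.pCore p (X ⧸ Cfsg.pPrimeCore p X)).comap
      (QuotientGroup.mk' (Cfsg.pPrimeCore p X)) := by
    have : C ≤ Cfsg.pPrimePCore p X := by rw [h2]; exact le_sup_right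
    exact this
  have hML : M ≤ Cfsg.pPrimePCore p X := by
    haveI := comap_pCore_normal (p := p) C
    show M ≤ (Cfsg.pCore p (X ⧸ Cfsg.pPrimeCore p X)).comap
      (QuotientGroup.mk' (Cfsg.pPrimeCore p X))
    apply le_comap_pCore (Cfsg.pPrimeCore p X) M
    intro m hm
    obtain ⟨k₁, hk₁⟩ := pow_mem_of_mem_comap_pCore C hm
    obtain ⟨k₂, hk₂⟩ := pow_mem_of_mem_comap_pCore (Cfsg.pPrimeCore p X) (hCL hk₁)
    refine ⟨k₁ + k₂, ?_⟩
    rw [pow_add, pow_mul]
    exact hk₂
  have hMeq : M = A ⊔ C := le_antisymm (h2 ▸ hML) (sup_le hAM hCM)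
  rw [hMeq, sup_comm, Subgroup.relIndex_sup_right, ← Subgroup.inf_relIndex_right]
  have hSylC : IsSylowOf p C (Q ⊓ C) := hQ.inf_of_normal le_top (by
    rw [Subgroup.normalizer_eq_top_iff.mpr hC])
  intro hdvd
  exact hSylC.not_dvd_relIndex
    (hdvd.trans (Subgroup.relIndex_dvd_of_le_left C (le_inf h1 inf_le_right)))

end main

end helpers



/-- Let P be a Sylow p-subgroup of the finite group G and H ≤ P a subgroup with N_P(H) a Sylow p-subgroup of N_G(H). Let N be the preimage in N_G(H) of O_p(N_G(H)/C_G(H)). Then H is a Sylow p-subgroup of N if and only if C_P(H) ≤ H and O_{p',p}(N_G(H)) = H·C_G(H). -/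
theorem result {G : Type*} [Group G] [Finite G] {p : ℕ} [Fact p.Prime]
    (P : Sylow p G) (H : Subgroup G) (hHP : H ≤ (P : Subgroup G))
    (hSyl : ¬ p ∣ ((P : Subgroup G) ⊓ Subgroup.normalizer (H : Set G)).relIndex (Subgroup.normalizer (H : Set G)))
    [hC : ((Subgroup.centralizer (H : Set G)).subgroupOf (Subgroup.normalizer (H : Set G))).Normal] :
    (H ≤ ((Cfsg.pCore p (↥(Subgroup.normalizer (H : Set G)) ⧸
              (Subgroup.centralizer (H : Set G)).subgroupOf (Subgroup.normalizer (H : Set G)))).comap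
            (QuotientGroup.mk' _)).map (Subgroup.normalizer (H : Set G)).subtype ∧
      ¬ p ∣ H.relIndex (((Cfsg.pCore p (↥(Subgroup.normalizer (H : Set G)) ⧸
              (Subgroup.centralizer (H : Set G)).subgroupOf (Subgroup.normalizer (H : Set G)))).comap
            (QuotientGroup.mk' _)).map (Subgroup.normalizer (H : Set G)).subtype)) ↔
    ((P : Subgroup G) ⊓ Subgroup.centralizer (H : Set G) ≤ H ∧
      (Cfsg.pPrimePCore p ↥(Subgroup.normalizer (H : Set G))).map (Subgroup.normalizer (H : Set G)).subtype =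
        H ⊔ Subgroup.centralizer (H : Set G)) := by
  set NG := Subgroup.normalizer (H : Set G) with hNG
  set CG := Subgroup.centralizer (H : Set G) with hCG
  have hHN : H ≤ NG := Subgroup.le_normalizer
  have hCN : CG ≤ NG := Subgroup.centralizer_le_normalizer _
  have hinj := NG.subtype_injective
  have eA : (H.subgroupOf NG).map NG.subtype = H := Subgroup.map_subgroupOf_eq_of_le hHN
  have eC : (CG.subgroupOf NG).map NG.subtype = CG := Subgroup.map_subgroupOf_eq_of_le hCN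
  haveI hAn : (H.subgroupOf NG).Normal := Subgroup.normal_in_normalizer
  have hAp : IsPGroup p (H.subgroupOf NG) := (P.2.to_le hHP).comap_subtype
  have hCdef : CG.subgroupOf NG = Subgroup.centralizer ((H.subgroupOf NG : Subgroup ↥NG) : Set ↥NG) := by
    ext x
    rw [Subgroup.mem_subgroupOf, Subgroup.mem_centralizer_iff, Subgroup.mem_centralizer_iff]
    constructor
    · intro h a ha
      exact Subtype.ext (h (a : G) (Subgroup.mem_subgroupOf.mp ha))
    · intro h a ha
      have := h ⟨a, hHN ha⟩ (Subgroup.mem_subgroupOf.mpr ha)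
      exact congrArg Subtype.val this
  have hQp : IsPGroup p (((P : Subgroup G) ⊓ NG).subgroupOf NG) :=
    (P.2.to_le inf_le_left).comap_subtype
  have hQ : IsSylowOf p ⊤ (((P : Subgroup G) ⊓ NG).subgroupOf NG) := by
    apply isSylowOf_of_not_dvd_relIndex le_top hQp
    rw [Subgroup.relIndex_top_right]
    exact hSyl
  have eQC : (((P : Subgroup G) ⊓ NG).subgroupOf NG ⊓ CG.subgroupOf NG ≤ H.subgroupOf NG) ↔
      ((P : Subgroup G) ⊓ CG ≤ H) := by
    constructor
    · intro h x hx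
      have hxN : x ∈ NG := hCN hx.2
      have := h (show (⟨x, hxN⟩ : ↥NG) ∈ _ from
        ⟨Subgroup.mem_subgroupOf.mpr ⟨hx.1, hxN⟩, Subgroup.mem_subgroupOf.mpr hx.2⟩)
      exact Subgroup.mem_subgroupOf.mp this
    · intro h x hx
      rw [Subgroup.mem_subgroupOf]
      exact h ⟨(Subgroup.mem_subgroupOf.mp hx.1).1, Subgroup.mem_subgroupOf.mp hx.2⟩
  have eL : (Cfsg.pPrimePCore p ↥NG = H.subgroupOf NG ⊔ CG.subgroupOf NG) ↔
      ((Cfsg.pPrimePCore p ↥NG).map NG.subtype = H ⊔ CG) := by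
    rw [← eA, ← eC, ← Subgroup.map_sup, (Subgroup.map_injective hinj).eq_iff, eA, eC]
  have eR : ∀ M' : Subgroup ↥NG, H.relIndex (M'.map NG.subtype) = (H.subgroupOf NG).relIndex M' := by
    intro M'
    conv_lhs => rw [← eA]
    exact Subgroup.relIndex_map_map_of_injective _ _ hinj
  have eLe : ∀ M' : Subgroup ↥NG, H ≤ M'.map NG.subtype ↔ H.subgroupOf NG ≤ M' := by
    intro M'
    conv_lhs => rw [← eA]
    exact Subgroup.map_le_map_iff_of_injective hinj
  rw [eR, eLe, ← eQC, ← eL]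
  constructor
  · rintro ⟨_, hnd⟩
    exact main_forward (H.subgroupOf NG) (CG.subgroupOf NG) _ hAp hCdef hQp hnd
  · rintro ⟨h1, h2⟩
    exact ⟨A_le_M _ _ hAp, main_backward (H.subgroupOf NG) (CG.subgroupOf NG) _ hAp hCdef hQ h1 h2⟩


end Cfsg.Agent.S3076
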