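import Mathlib
import Cfsg.Agent.Lib.Helper6.CardLemmas
import Cfsg.Statements.S3087

set_option autoImplicit false
open Cfsg Cfsg.Agent.Lib.Helper6
open scoped commutatorElement

namespace Cfsg.Agent.S3087

/-- Let p be a prime, G a finite group acting linearly on a finite vector space V over the field with p elements, W a G-invariant subspace, and A a subgroup of G with |A|·|C_V(A)| ≥ |B|·|C_V(B)| for every subgroup B of A. Then |A|·|C_W(A)| ≥ |B|·|C_W(B)| for every subgroup B of A that contains C_A(W); that is, the image of A in the group induced on W satisfies the same maximality condition. -/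
theorem result {G V : Type*} [Group G] [Finite G] [AddCommGroup V] [Finite V] (p : ℕ) [Fact p.Prime] [Module (ZMod p) V]
    (ρ : Representation (ZMod p) G V) (W : Submodule (ZMod p) V) (hW : ∀ g : G, ∀ w ∈ W, ρ g w ∈ W)
    (A : Subgroup G)
    (hP : ∀ B : Subgroup G, B ≤ A →
      Nat.card ↥B * Nat.card {v : V // ∀ b ∈ B, ρ b v = v} ≤ Nat.card ↥A * Nat.card {v : V // ∀ a ∈ A, ρ a v = v})
    (B : Subgroup G) (hBA : B ≤ A) (hCB : ∀ a ∈ A, (∀ w ∈ W, ρ a w = w) → a ∈ B) :
    Nat.card ↥B * Nat.card {w : W // ∀ b ∈ B, ρ b w = w} ≤ Nat.card ↥A * Nat.card {w : W // ∀ a ∈ A, ρ a w = w} := by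
  classical
  -- fixed points as additive subgroups
  let CV : Subgroup G → AddSubgroup V := fun D =>
    { carrier := {v | ∀ b ∈ D, ρ b v = v}
      zero_mem' := by intro b _; simp
      add_mem' := by
        intro x y hx hy b hb
        simp only [Set.mem_setOf_eq] at hx hy
        rw [map_add, hx b hb, hy b hb]
      neg_mem' := by
        intro x hx b hb
        simp only [Set.mem_setOf_eq] at hx
        rw [map_neg, hx b hb] }
  have hCVmem : ∀ D v, v ∈ CV D ↔ ∀ b ∈ D, ρ b v = v := fun D v => Iff.rfl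
  let W' : AddSubgroup V := W.toAddSubgroup
  have hcardV : ∀ D : Subgroup G, Nat.card {v : V // ∀ b ∈ D, ρ b v = v} = Nat.card (CV D) :=
    fun D => rfl
  have hcardW : ∀ D : Subgroup G, Nat.card {w : W // ∀ b ∈ D, ρ b w = w} = Nat.card ↥(CV D ⊓ W') := by
    intro D
    refine Nat.card_congr
      { toFun := fun w => ⟨w.1.1, w.2, w.1.2⟩
        invFun := fun v => ⟨⟨v.1, v.2.2⟩, v.2.1⟩
        left_inv := fun w => rfl
        right_inv := fun v => rfl }
  rw [hcardW, hcardW]
  set U : AddSubgroup V := CV B ⊓ W' with hU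
  -- the centralizer of U in A
  let B₁ : Subgroup G := A ⊓
    { carrier := {g | ∀ u ∈ U, ρ g u = u}
      one_mem' := by intro u _; simp
      mul_mem' := by
        intro x y hx hy u hu
        simp only [Set.mem_setOf_eq] at hx hy
        rw [map_mul, Module.End.mul_apply, hy u hu, hx u hu]
      inv_mem' := by
        intro x hx u hu
        simp only [Set.mem_setOf_eq] at hx
        have h1 : ρ x⁻¹ (ρ x u) = u := by
          rw [← Module.End.mul_apply, ← map_mul, inv_mul_cancel, map_one]; rfl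
        rw [hx u hu] at h1
        exact h1 }
  have hB₁A : B₁ ≤ A := inf_le_left
  have hBB₁ : B ≤ B₁ := by
    intro b hb
    refine ⟨hBA hb, ?_⟩
    intro u hu
    exact hu.1 b hb
  have h1 : CV A ⊔ U ≤ CV B₁ := by
    refine sup_le ?_ ?_
    · intro v hv b hb
      exact hv b (hB₁A hb)
    · intro u hu b hb
      exact hb.2 u hu
  have h2 : CV A ⊓ U = CV A ⊓ W' := by
    apply le_antisymm
    · exact inf_le_inf_left _ inf_le_right
    · intro v hv
      refine ⟨hv.1, ?_, hv.2⟩
      intro b hb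
      exact hv.1 b (hBA hb)
  have h3 := addSubgroup_card_sup_mul_card_inf (CV A) U
  rw [h2] at h3
  have h4 : Nat.card ↥(CV A ⊔ U) ≤ Nat.card ↥(CV B₁) :=
    Nat.card_le_card_of_injective (AddSubgroup.inclusion h1) (AddSubgroup.inclusion_injective h1)
  have h5 := hP B₁ hB₁A
  rw [hcardV, hcardV] at h5
  have h6 : Nat.card ↥B ≤ Nat.card ↥B₁ :=
    Nat.card_le_card_of_injective (Subgroup.inclusion hBB₁) (Subgroup.inclusion_injective hBB₁)
  have hpos : 0 < Nat.card ↥(CV A) := Nat.card_pos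
  -- combine
  have h7 : Nat.card ↥B₁ * Nat.card ↥(CV A ⊔ U) ≤ Nat.card ↥A * Nat.card ↥(CV A) :=
    (Nat.mul_le_mul_left _ h4).trans h5
  have h8 : Nat.card ↥B₁ * (Nat.card ↥(CV A) * Nat.card ↥U) ≤
      Nat.card ↥A * Nat.card ↥(CV A) * Nat.card ↥(CV A ⊓ W') := by
    rw [← h3]
    calc Nat.card ↥B₁ * (Nat.card ↥(CV A ⊔ U) * Nat.card ↥(CV A ⊓ W'))
        = (Nat.card ↥B₁ * Nat.card ↥(CV A ⊔ U)) * Nat.card ↥(CV A ⊓ W') := by ring
      _ ≤ _ := Nat.mul_le_mul_right _ h7
  have h9 : Nat.card ↥(CV A) * (Nat.card ↥B₁ * Nat.card ↥U) ≤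
      Nat.card ↥(CV A) * (Nat.card ↥A * Nat.card ↥(CV A ⊓ W')) := by
    calc Nat.card ↥(CV A) * (Nat.card ↥B₁ * Nat.card ↥U)
        = Nat.card ↥B₁ * (Nat.card ↥(CV A) * Nat.card ↥U) := by ring
      _ ≤ _ := h8
      _ = _ := by ring
  have h10 := Nat.le_of_mul_le_mul_left h9 hpos
  exact (Nat.mul_le_mul_right _ h6).trans h10

end Cfsg.Agent.S3087
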