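import Mathlib
-- Template for statement S3103 (row 3103; see /opt/grader/pristine/manifest.json for weights).
-- Copy to Cfsg/Agent/S3103.lean and replace the sorry. The statement below is byte-identical to the frozen
-- statement Cfsg.CfsgFrozen.S3103 (Cfsg/Statements/S3103.lean; the theorem Cfsg.two_constrained_sectional_rank_four_radical_quotient_embeds_alternating_eight);
-- the grader kernel-checks Cfsg.Agent.S3103.result against that frozen type. Keep the theorem IN THIS FILE
-- (a `result` declared elsewhere and merely imported here is not credited); helpers may live anywhere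
-- under Cfsg/Agent/.
import Cfsg.Statements.S3103
import Cfsg.Agent.Lib.Helper6.FrattAct
import Cfsg.Agent.Lib.Helper2.PConstrained
import Cfsg.Agent.Lib.Helper5.GL42.G1

set_option autoImplicit false
open Cfsg

namespace Cfsg.Agent.S3103

open Cfsg.Agent.Lib.Helper6.FrattAct

/-- the Frattini quotient of a group of sectional `2`-rank at most `4` has order at most `16` -/
theorem card_frattini_quot_le {Q : Type*} [Group Q] [Finite Q] (hQ2 : IsPGroup 2 Q)
    (h4 : Cfsg.SectionalPRankLE 2 4 Q) : Nat.card (Q ⧸ frattini Q) ≤ 16 := by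
  haveI : Fact (Nat.Prime 2) := ⟨Nat.prime_two⟩
  let H : Subgroup Q := ⊤
  let N : Subgroup ↥H := (frattini Q).comap H.subtype
  haveI : N.Normal := Subgroup.Normal.comap inferInstance _
  have hr := h4 H N
  have hmap : N.map (Subgroup.topEquiv : ↥H ≃* Q).toMonoidHom = frattini Q := by
    ext x
    constructor
    · rintro ⟨y, hy, rfl⟩
      exact hy
    · intro hx
      exact ⟨⟨x, Subgroup.mem_top x⟩, hx, rfl⟩
  let e : (↥H ⧸ N) ≃* (Q ⧸ frattini Q) :=
    QuotientGroup.congr N (frattini Q) Subgroup.topEquiv hmap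
  have hc : ∀ a b : ↥H ⧸ N, a * b = b * a := by
    intro a b
    apply e.injective
    rw [map_mul, map_mul]
    exact frattini_quot_comm hQ2 _ _
  have h2 : ∀ a : ↥H ⧸ N, a ^ 2 = 1 := by
    intro a
    apply e.injective
    rw [map_pow, map_one]
    exact frattini_quot_pow hQ2 _
  have h3 := hr ⊤ ⟨⟨fun a b => Subtype.ext (hc a.1 b.1)⟩⟩ (fun a _ => h2 a)
  rw [Subgroup.card_top, Nat.card_congr e.toEquiv] at h3
  exact h3

/-- Let X be a finite 2-constrained group with no nontrivial normal subgroup of odd order such that O₂(X) has sectional 2-rank at most 4. Then X/O₂(X) is isomorphic to a subgroup of the alternating group of degree 8. -/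
theorem result {X : Type*} [Group X] [Finite X] (hc : Cfsg.IsPConstrained 2 X) (hO : Cfsg.oddCore X = ⊥)
    (h4 : Cfsg.SectionalPRankLE 2 4 ↥(Cfsg.pCore 2 X)) :
    ∃ f : X ⧸ Cfsg.pCore 2 X →* ↥(alternatingGroup (Fin 8)), Function.Injective f := by
  classical
  haveI : Fact (Nat.Prime 2) := ⟨Nat.prime_two⟩
  have hcent : Subgroup.centralizer ((pCore 2 X : Subgroup X) : Set X) ≤ pCore 2 X :=
    (Cfsg.Agent.Lib.Helper2.PConstrained.isPConstrained_iff_of_bot hO).mp hc
  have hQ2 : IsPGroup 2 ↥(pCore 2 X) := Cfsg.Agent.Lib.Helper6.pCore_isPGroup 2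
  have hker := frAct_ker hcent
  obtain ⟨g, hg⟩ := exists_mulAut_embedding_GL4
    (V := ↥(pCore 2 X) ⧸ frattini ↥(pCore 2 X))
    (frattini_quot_comm hQ2) (frattini_quot_pow hQ2) (card_frattini_quot_le hQ2 h4)
  obtain ⟨e⟩ := Cfsg.Agent.Lib.Helper5.GL42.exists_glEquivAlt
  let f0 : X ⧸ Cfsg.pCore 2 X →* MulAut (↥(pCore 2 X) ⧸ frattini ↥(pCore 2 X)) :=
    QuotientGroup.lift (pCore 2 X) (frAct (pCore 2 X)) (by
      intro x hx
      rw [← hker] at hx
      exact hx)
  have hf0 : Function.Injective f0 := by
    rw [injective_iff_map_eq_one]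
    intro y
    induction y using QuotientGroup.induction_on with
    | H x =>
      intro h
      have h1 : frAct (pCore 2 X) x = 1 := h
      rw [QuotientGroup.eq_one_iff, ← hker]
      exact h1
  refine ⟨e.toMonoidHom.comp (g.comp f0), ?_⟩
  intro a b hab
  exact hf0 (hg (e.injective hab))

end Cfsg.Agent.S3103
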