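import Mathlib
import Cfsg.Agent.Lib.Helper6.AutIdx2
import Cfsg.Statements.S3116

set_option autoImplicit false
open Cfsg Cfsg.Agent.Lib.Helper6
open scoped commutatorElement

namespace Cfsg.Agent.S3116

/-- The automorphism group of a dihedral 2-group of order at least 8, or of a quasi-dihedral (semidihedral) 2-group of order at least 16, is a 2-group. -/
theorem result {X : Type*} [Group X] [Finite X] (h2 : IsPGroup 2 X)
    (h : (∃ n : ℕ, 4 ≤ n ∧ Nonempty (X ≃* DihedralGroup n)) ∨ Cfsg.IsQuasiDihedral X) : IsPGroup 2 (MulAut X) := by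
  haveI : Fact (Nat.Prime 2) := ⟨Nat.prime_two⟩
  rcases h with ⟨n, hn4, ⟨e⟩⟩ | ⟨n, hn3, hcard, x, y, hx, hy, hconj⟩
  · -- dihedral case
    have hcard : Nat.card X = 2 * n := by
      rw [Nat.card_congr e.toEquiv, DihedralGroup.nat_card]
    obtain ⟨j, hj⟩ := h2.exists_card_eq
    have hj1 : 1 ≤ j := by
      rcases Nat.eq_zero_or_pos j with h0 | h0
      · rw [h0, pow_zero, hcard] at hj; omega
      · exact h0
    have hn : n = 2 ^ (j - 1) := by
      have : 2 * n = 2 * 2 ^ (j - 1) := by
        rw [← hcard, hj, ← pow_succ']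
        congr 1; omega
      omega
    haveI : NeZero n := ⟨by omega⟩
    have hxord : orderOf (e.symm (DihedralGroup.r 1)) = 2 ^ (j - 1) := by
      rw [MulEquiv.orderOf_eq, DihedralGroup.orderOf_r_one, hn]
    apply isPGroup_mulAut_of_char_cyclic (e.symm (DihedralGroup.r 1)) (j - 1) hxord (by rw [hcard, hn])
    intro α
    have hord : orderOf (e (α (e.symm (DihedralGroup.r 1)))) = n := by
      rw [MulEquiv.orderOf_eq, MulEquiv.orderOf_eq, MulEquiv.orderOf_eq, DihedralGroup.orderOf_r_one]
    rcases hw : e (α (e.symm (DihedralGroup.r 1))) with i | i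
    · have h1 : α (e.symm (DihedralGroup.r 1)) = e.symm (DihedralGroup.r i) := by
        rw [← hw, MulEquiv.symm_apply_apply]
      rw [h1]
      have h2 : (DihedralGroup.r i : DihedralGroup n) = DihedralGroup.r 1 ^ i.val := by
        rw [DihedralGroup.r_one_pow, ZMod.natCast_zmod_val]
      rw [h2, map_pow]
      exact Subgroup.pow_mem _ (Subgroup.mem_zpowers _) _
    · rw [hw, DihedralGroup.orderOf_sr] at hord
      omega
  · -- quasi-dihedral case
    have hy2 : y * y = 1 := by rw [← pow_two, ← hy, pow_orderOf_eq_one]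
    have hyinv : y⁻¹ = y := inv_eq_of_mul_eq_one_left hy2
    have hcard' : Nat.card X = 2 * 2 ^ n := by rw [hcard, pow_succ']
    have hidx : (Subgroup.zpowers x).index = 2 := by
      have h1 := Subgroup.card_mul_index (Subgroup.zpowers x)
      rw [Nat.card_zpowers, hx, hcard'] at h1
      have hpos : 0 < 2 ^ n := by positivity
      have : 2 ^ n * (Subgroup.zpowers x).index = 2 ^ n * 2 := by rw [h1]; ring
      exact Nat.eq_of_mul_eq_mul_left hpos this
    have hmul := @Subgroup.mul_mem_iff_of_index_two _ _ (Subgroup.zpowers x) hidx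
    have h4le : 4 ≤ 2 ^ (n - 1) := by
      calc 4 = 2 ^ 2 := by norm_num
        _ ≤ 2 ^ (n - 1) := Nat.pow_le_pow_right (by norm_num) (by omega)
    have hpow_eq : 2 ^ n = 2 ^ (n - 1) * 2 := by
      rw [← pow_succ]; congr 1; omega
    have hyC : y ∉ Subgroup.zpowers x := by
      intro hyC
      obtain ⟨i, hi⟩ := Subgroup.mem_zpowers_iff.mp hyC
      have hcomm : y * x * y⁻¹ = x := by
        rw [← hi]
        have : Commute (x ^ i) x := (Commute.refl x).zpow_left i
        rw [this.eq, mul_inv_cancel_right]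
      rw [hcomm] at hconj
      have h1 : x ^ (2 ^ (n - 1) - 2) = 1 := by
        have h2 : x ^ (2 ^ (n - 1) - 1) = x ^ (2 ^ (n - 1) - 2) * x := by
          rw [← pow_succ]; congr 1; omega
        rw [h2] at hconj
        have h3 : x ^ (2 ^ (n - 1) - 2) * x = 1 * x := by rw [one_mul]; exact hconj.symm
        exact mul_right_cancel h3
      have h2 := orderOf_dvd_of_pow_eq_one h1
      rw [hx] at h2
      have h3 := Nat.le_of_dvd (by omega) h2
      omega
    apply isPGroup_mulAut_of_char_cyclic x n hx hcard'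
    intro α
    by_contra hz
    set z := α x with hzdef
    have hzord : orderOf z = 2 ^ n := by rw [hzdef, MulEquiv.orderOf_eq, hx]
    have hc : y⁻¹ * z ∈ Subgroup.zpowers x := by
      rw [hmul, inv_mem_iff]
      exact ⟨fun h => absurd h hyC, fun h => absurd h hz⟩
    obtain ⟨i, hi⟩ := mem_powers_iff_mem_zpowers.mpr hc
    have hi : x ^ i = y⁻¹ * z := hi
    have hzc : z = y * x ^ i := by rw [hi]; group
    have hconji : y * x ^ i * y⁻¹ = (x ^ i) ^ (2 ^ (n - 1) - 1) := by
      rw [← conj_pow, hconj, ← pow_mul, ← pow_mul, mul_comm]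
    have hz2 : z * z = (x ^ i) ^ (2 ^ (n - 1)) := by
      have h1 : z * z = (y * x ^ i * y⁻¹) * x ^ i := by
        rw [hzc, hyinv]; group
      rw [h1, hconji, ← pow_succ]
      congr 1; omega
    have hz4 : z ^ 4 = 1 := by
      have : z ^ 4 = (z * z) * (z * z) := by
        rw [show (4 : ℕ) = 2 + 2 from rfl, pow_add, pow_two]
      rw [this, hz2, ← pow_add, ← two_mul, mul_comm, ← hpow_eq, ← pow_mul, mul_comm, pow_mul, ← hx,
        pow_orderOf_eq_one, one_pow]
    have h5 := orderOf_dvd_of_pow_eq_one hz4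
    rw [hzord] at h5
    have h6 := Nat.le_of_dvd (by norm_num) h5
    omega

end Cfsg.Agent.S3116
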