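import Mathlib
import Cfsg.Statements.S3125
import Cfsg.Agent.S1992
-- import your own Cfsg.Agent.* helpers here

set_option autoImplicit false
open Cfsg

namespace Cfsg.Agent.S3125

/-- Let G be a finite group such that, for every prime p dividing the order of G, every Sylow p-subgroup of G is its own normalizer. Then G is not a non-abelian simple group. -/
theorem result {G : Type*} [Group G] [Finite G]
    (h : ∀ p : ℕ, p.Prime → p ∣ Nat.card G → ∀ P : Sylow p G, Subgroup.normalizer ((P : Subgroup G) : Set G) = P) :
    ¬ (IsSimpleGroup G ∧ ¬ IsMulCommutative G) := by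
  rintro ⟨hs, hnc⟩
  obtain ⟨q, hq, hG⟩ := Cfsg.Agent.S1992.result h
  haveI : Fact q.Prime := ⟨hq⟩
  haveI := hs
  haveI : Nontrivial G := IsSimpleGroup.toNontrivial
  -- the centre of a nontrivial `q`-group is nontrivial, hence everything
  have hZ : Nontrivial (Subgroup.center G) := hG.center_nontrivial
  have hZtop : Subgroup.center G = ⊤ := by
    rcases (Subgroup.Normal.eq_bot_or_eq_top (inferInstance : (Subgroup.center G).Normal)) with h0 | h0
    · exfalso
      rw [h0] at hZ
      exact not_nontrivial _ hZ
    · exact h0
  apply hnc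
  refine ⟨⟨?_⟩⟩
  intro a b
  have : b ∈ Subgroup.center G := by rw [hZtop]; exact Subgroup.mem_top b
  exact Subgroup.mem_center_iff.mp this a

end Cfsg.Agent.S3125
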