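import Mathlib
import Cfsg.Statements.S3155

set_option autoImplicit false
open Cfsg
open scoped commutatorElement

namespace Cfsg.Agent.S3155

/-- Let B be the direct product of three cyclic groups of order 4. Then the automorphism of B inverting every element is not the square of any automorphism of B. -/
theorem result {B : Type*} [CommGroup B] [Finite B] (hB : Nonempty (B ≃* Multiplicative (ZMod 4 × ZMod 4 × ZMod 4)))
    (τ : B ≃* B) : τ.trans τ ≠ MulEquiv.inv B := by
  intro hτ
  obtain ⟨e⟩ := hB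
  have : Fact (1 < 4) := ⟨by norm_num⟩
  let φ : Multiplicative (ZMod 4 × ZMod 4 × ZMod 4) →* Multiplicative (ZMod 4 × ZMod 4 × ZMod 4) :=
    (e.toMonoidHom.comp τ.toMonoidHom).comp e.symm.toMonoidHom
  have hφ : ∀ y, φ (φ y) = y⁻¹ := by
    intro y
    show e (τ (e.symm (e (τ (e.symm y))))) = y⁻¹
    rw [e.symm_apply_apply]
    have h1 : τ (τ (e.symm y)) = (e.symm y)⁻¹ := by
      have := congrArg (fun σ : B ≃* B => σ (e.symm y)) hτ
      simpa using this
    rw [h1, map_inv, e.apply_symm_apply]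
  let f : (ZMod 4 × ZMod 4 × ZMod 4) →+ (ZMod 4 × ZMod 4 × ZMod 4) :=
    AddMonoidHom.toMultiplicative.symm φ
  have hf : ∀ x, f (f x) = -x := by
    intro x
    have := hφ (Multiplicative.ofAdd x)
    exact congrArg Multiplicative.toAdd this
  let g : (ZMod 4 × ZMod 4 × ZMod 4) →ₗ[ZMod 4] (ZMod 4 × ZMod 4 × ZMod 4) := f.toZModLinearMap 4
  have h : g ∘ₗ g = (-1 : ZMod 4) • LinearMap.id := by
    apply LinearMap.ext
    intro x
    show f (f x) = (-1 : ZMod 4) • x
    rw [hf]; simp
  have h1 : LinearMap.det (g ∘ₗ g) = LinearMap.det g * LinearMap.det g := LinearMap.det_comp g g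
  have h2 : LinearMap.det ((-1 : ZMod 4) •
      (LinearMap.id : (ZMod 4 × ZMod 4 × ZMod 4) →ₗ[ZMod 4] (ZMod 4 × ZMod 4 × ZMod 4))) = (-1) ^ 3 := by
    rw [LinearMap.det_smul, LinearMap.det_id, mul_one]
    congr 1
    simp [Module.finrank_prod, Module.finrank_self]
  rw [h, h2] at h1
  generalize LinearMap.det g = d at h1
  revert d
  decide

end Cfsg.Agent.S3155
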