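import Cfsg.Statements.S3157
import Cfsg.Agent.Lib.Helper3.S64o

set_option autoImplicit false
open Cfsg

namespace Cfsg.Agent.S3157

/-- Let T be a non-abelian group of order 64 admitting automorphisms ρ of order 3 and x of order 2 with x ρ x⁻¹ = ρ⁻¹ (so they generate a symmetric group of degree 3), where ρ fixes only the identity. Then T is isomorphic to a Sylow 2-subgroup of the projective special linear group of dimension 3 over the field with 4 elements, and the subgroup of fixed points of x is dihedral of order 8 or quaternion of order 8. -/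
theorem result {T : Type*} [Group T] [Finite T] (hT : Nat.card T = 64) (hna : ¬ IsMulCommutative T) (ρ x : MulAut T) (hρ : orderOf ρ = 3) (hx : orderOf x = 2)
    (hxr : x * ρ * x⁻¹ = ρ⁻¹) (hfp : ∀ y : T, ρ y = y → y = 1) (C : Subgroup T) (hC : ∀ y : T, y ∈ C ↔ x y = y) :
    (∃ (F : Type) (_ : Field F) (_ : Fintype F), Fintype.card F = 4 ∧
        ∃ S : Sylow 2 (Matrix.ProjectiveSpecialLinearGroup (Fin 3) F), Nonempty (T ≃* ↥(S : Subgroup (Matrix.ProjectiveSpecialLinearGroup (Fin 3) F)))) ∧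
      (Nonempty (↥C ≃* DihedralGroup 4) ∨ Nonempty (↥C ≃* QuaternionGroup 2)) := by
  have hρ3 : ρ ^ 3 = 1 := by rw [← hρ]; exact pow_orderOf_eq_one ρ
  have hx2 : x ^ 2 = 1 := by rw [← hx]; exact pow_orderOf_eq_one x
  have hcube : ∀ y : T, ρ (ρ (ρ y)) = y := by
    intro y
    have : (ρ ^ 3) y = y := by rw [hρ3]; rfl
    rwa [pow_succ, pow_two, MulAut.mul_apply, MulAut.mul_apply] at this
  have hxsq : ∀ y : T, x (x y) = y := by
    intro y
    have : (x ^ 2) y = y := by rw [hx2]; rfl
    rwa [pow_two, MulAut.mul_apply] at this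
  have hxinv : x⁻¹ = x := by
    rw [inv_eq_iff_mul_eq_one, ← pow_two]
    exact hx2
  have hρinv : ρ⁻¹ = ρ * ρ := by
    rw [inv_eq_iff_mul_eq_one, ← pow_two, ← pow_succ']
    exact hρ3
  have hxrho : ∀ y : T, x (ρ (x y)) = ρ (ρ y) := by
    intro y
    rw [hxinv, hρinv] at hxr
    have : (x * ρ * x) y = (ρ * ρ) y := by rw [hxr]
    rwa [MulAut.mul_apply, MulAut.mul_apply, MulAut.mul_apply] at this
  have hnonab : ∃ a b : T, a * b ≠ b * a := by
    by_contra hno
    push Not at hno
    exact hna ⟨⟨hno⟩⟩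
  have h : Cfsg.Agent.Lib.Helper3.S64.Hyp2 ρ x :=
    { card := hT
      nonab := hnonab
      fpf := ⟨hcube, hfp⟩
      xsq := hxsq
      xrho := hxrho }
  exact ⟨h.exists_sylow, h.fix_classify C hC⟩

end Cfsg.Agent.S3157
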