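import Mathlib
import Cfsg.Agent.Lib.Lead.Nilpotent
import Cfsg.Statements.S3158

set_option autoImplicit false
open Cfsg

namespace Cfsg.Agent.S3158

/-- commutator -/
def cm {U : Type*} [Group U] (u w : U) : U := u * w * u⁻¹ * w⁻¹

theorem cm_mul_left {U : Type*} [Group U] (hZ : ∀ u w : U, cm u w ∈ Subgroup.center U)
    (u u' w : U) : cm (u * u') w = cm u w * cm u' w := by
  have h1 := Subgroup.mem_center_iff.mp (hZ u' w)
  have h2 : cm (u * u') w = u * cm u' w * u⁻¹ * cm u w := by unfold cm; group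
  rw [h2, h1 u, mul_inv_cancel_right]
  exact (h1 (cm u w)).symm

theorem cm_mul_right {U : Type*} [Group U] (hZ : ∀ u w : U, cm u w ∈ Subgroup.center U)
    (u w w' : U) : cm u (w * w') = cm u w * cm u w' := by
  have h1 := Subgroup.mem_center_iff.mp (hZ u w')
  have h2 : cm u (w * w') = cm u w * (w * cm u w' * w⁻¹) := by unfold cm; group
  rw [h2, h1 w, mul_inv_cancel_right]

theorem cm_central_left {U : Type*} [Group U] {z : U} (hz : z ∈ Subgroup.center U) (w : U) :
    cm z w = 1 := by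
  have h1 := Subgroup.mem_center_iff.mp hz w
  unfold cm
  rw [← h1]; group

theorem cm_central_right {U : Type*} [Group U] {z : U} (hz : z ∈ Subgroup.center U) (u : U) :
    cm u z = 1 := by
  have h1 := Subgroup.mem_center_iff.mp hz u
  unfold cm
  rw [h1]; group

theorem cm_map {U : Type*} [Group U] (f : MulAut U) (u w : U) :
    f (cm u w) = cm (f u) (f w) := by
  unfold cm; simp only [map_mul, map_inv]

theorem cm_self {U : Type*} [Group U] (u : U) : cm u u = 1 := by unfold cm; group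

theorem cm_eq_one {U : Type*} [Group U] {u w : U} (h : cm u w = 1) : u * w = w * u := by
  unfold cm at h
  have : u * w = (u * w * u⁻¹ * w⁻¹) * (w * u) := by group
  rw [this, h, one_mul]


/-- Let U be a group of order q² with q = 2^n ≥ 2, and y an automorphism of U of order q − 1 all of whose nontrivial powers fix only the identity. Let V be a proper normal y-invariant subgroup of U such that V and U/V are elementary abelian 2-groups and there is an isomorphism from V to U/V commuting with the actions of y. Then U is abelian. -/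
theorem result {U : Type*} [Group U] [Finite U] (n : ℕ) (hn : 1 ≤ n) (hU : Nat.card U = (2 ^ n) ^ 2)
    (y : MulAut U) (hy : orderOf y = 2 ^ n - 1) (hfp : ∀ k : ℕ, y ^ k ≠ 1 → ∀ u : U, (y ^ k) u = u → u = 1)
    (V : Subgroup U) [V.Normal] (hV : V ≠ ⊤) (hyV : ∀ v ∈ V, y v ∈ V)
    (hVe : ∀ v ∈ V, v ^ 2 = 1) (hQe : ∀ u : U, u ^ 2 ∈ V) (hQc : ∀ u w : U, u * w * u⁻¹ * w⁻¹ ∈ V)
    (φ : ↥V ≃* U ⧸ V) (hφ : ∀ (v : ↥V) (u : U), (QuotientGroup.mk u : U ⧸ V) = φ v → φ ⟨y v, hyV v v.2⟩ = QuotientGroup.mk (y u)) :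
    IsMulCommutative U := by
  classical
  set q := 2 ^ n with hq
  have hq2 : 2 ≤ q := by
    calc 2 = 2 ^ 1 := by norm_num
      _ ≤ 2 ^ n := Nat.pow_le_pow_right (by norm_num) hn
  have hVcard : Nat.card V = q := by
    have h1 : Nat.card V * V.index = Nat.card U := Subgroup.card_mul_index V
    have h2 : V.index = Nat.card V := by
      rw [Subgroup.index_eq_card]; exact (Nat.card_congr φ.toEquiv).symm
    rw [h2, hU, sq] at h1
    exact Nat.mul_self_inj.mp h1
  have hpowV : ∀ k : ℕ, ∀ v ∈ V, (y ^ k) v ∈ V := by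
    intro k; induction k with
    | zero => intro v hv; simpa using hv
    | succ k ih => intro v hv; rw [pow_succ', MulAut.mul_apply]; exact hyV _ (ih v hv)
  have hadd : ∀ (i j : ℕ) (u : U), (y ^ i) ((y ^ j) u) = (y ^ (i + j)) u := by
    intro i j u; rw [pow_add, MulAut.mul_apply]
  have hcommpow : ∀ (i j : ℕ) (u : U), (y ^ i) ((y ^ j) u) = (y ^ j) ((y ^ i) u) := by
    intro i j u; rw [hadd, hadd, add_comm]
  have hfree : ∀ i j : ℕ, i < q - 1 → j < q - 1 → ∀ v : U, v ≠ 1 →
      (y ^ i) v = (y ^ j) v → i = j := by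
    have key : ∀ i j : ℕ, i ≤ j → j < q - 1 → ∀ v : U, v ≠ 1 →
        (y ^ i) v = (y ^ j) v → i = j := by
      intro i j hij hj v hv h
      by_contra hne
      have hlt : 0 < j - i := by omega
      have hne1 : y ^ (j - i) ≠ 1 := pow_ne_one_of_lt_orderOf (by omega) (by rw [hy]; omega)
      have h3 : (y ^ (j - i)) ((y ^ i) v) = (y ^ i) v := by
        rw [hadd, Nat.sub_add_cancel hij, h]
      have h4 := hfp _ hne1 _ h3
      exact hv ((MulEquiv.map_eq_one_iff (y ^ i)).mp h4)
    intro i j hi hj v hv h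
    rcases le_total i j with hij | hij
    · exact key i j hij hj v hv h
    · exact (key j i hij hi v hv h.symm).symm
  have htrans : ∀ v₀ ∈ V, v₀ ≠ 1 → ∀ v ∈ V, v ≠ 1 → ∃ k : ℕ, (y ^ k) v₀ = v := by
    intro v₀ hv₀ hv₀1 v hv hv1
    let f : Option (Fin (q - 1)) → V := fun o => match o with
      | none => 1
      | some k => ⟨(y ^ (k : ℕ)) v₀, hpowV _ _ hv₀⟩
    have hf : Function.Injective f := by
      intro a b hab
      cases a with
      | none =>
        cases b with
        | none => rfl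
        | some k =>
          exfalso
          have h5 : (1 : U) = (y ^ (k : ℕ)) v₀ := congrArg Subtype.val hab
          exact hv₀1 ((MulEquiv.map_eq_one_iff _).mp h5.symm)
      | some k =>
        cases b with
        | none =>
          exfalso
          have h5 : (y ^ (k : ℕ)) v₀ = 1 := congrArg Subtype.val hab
          exact hv₀1 ((MulEquiv.map_eq_one_iff _).mp h5)
        | some l =>
          have h5 : (y ^ (k : ℕ)) v₀ = (y ^ (l : ℕ)) v₀ := congrArg Subtype.val hab
          have h6 := hfree k l k.2 l.2 v₀ hv₀1 h5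
          rw [Fin.ext h6]
    have hbij : Function.Bijective f := hf.bijective_of_nat_card_le (by
      rw [hVcard, Nat.card_eq_fintype_card, Fintype.card_option, Fintype.card_fin]; omega)
    obtain ⟨o, ho⟩ := hbij.2 ⟨v, hv⟩
    cases o with
    | none => exfalso; apply hv1; exact (congrArg Subtype.val ho).symm
    | some k => exact ⟨k, congrArg Subtype.val ho⟩
  haveI : Fact (Nat.Prime 2) := ⟨Nat.prime_two⟩
  have hUp : IsPGroup 2 U := IsPGroup.of_card (n := n * 2) (by rw [hU, ← pow_mul])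
  haveI : Group.IsNilpotent U := hUp.isNilpotent
  have hVbot : V ≠ ⊥ := by
    intro h; rw [h, Subgroup.card_bot] at hVcard; omega
  obtain ⟨z, hz, hz1⟩ : ∃ z ∈ V ⊓ Subgroup.center U, z ≠ 1 := by
    have h5 := Cfsg.Agent.Lib.Lead.inf_center_ne_bot V hVbot
    rw [Ne, Subgroup.eq_bot_iff_forall] at h5; push Not at h5; exact h5
  have hcenter_pow : ∀ k : ℕ, ∀ c ∈ Subgroup.center U, (y ^ k) c ∈ Subgroup.center U := by
    intro k c hc
    rw [Subgroup.mem_center_iff] at hc ⊢
    intro g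
    have h5 := hc ((y ^ k).symm g)
    have h6 := congrArg (y ^ k) h5
    rw [map_mul, map_mul, MulEquiv.apply_symm_apply] at h6
    exact h6
  have hVZ : V ≤ Subgroup.center U := by
    intro v hv
    by_cases hv1 : v = 1
    · rw [hv1]; exact Subgroup.one_mem _
    · obtain ⟨k, rfl⟩ := htrans z hz.1 hz1 v hv hv1
      exact hcenter_pow k z hz.2
  have hcmV : ∀ u w : U, cm u w ∈ V := hQc
  have hZ : ∀ u w : U, cm u w ∈ Subgroup.center U := fun u w => hVZ (hQc u w)
  let ψ : U →* V := φ.symm.toMonoidHom.comp (QuotientGroup.mk' V)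
  have hψ1 : ∀ u, ψ u = 1 ↔ u ∈ V := by
    intro u
    simp only [ψ, MonoidHom.comp_apply, MulEquiv.coe_toMonoidHom, MulEquiv.map_eq_one_iff,
      QuotientGroup.mk'_apply, QuotientGroup.eq_one_iff]
  have hψy : ∀ u, ((ψ (y u) : V) : U) = y (ψ u) := by
    intro u
    have h := hφ (ψ u) u (by simp [ψ])
    have h5 : ψ (y u) = ⟨y (ψ u), hyV _ (ψ u).2⟩ := by
      simp only [ψ, MonoidHom.comp_apply, MulEquiv.coe_toMonoidHom, QuotientGroup.mk'_apply]
      rw [MulEquiv.symm_apply_eq]
      exact h.symm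
    rw [h5]
  have hψpow : ∀ (k : ℕ) u, ((ψ ((y ^ k) u) : V) : U) = (y ^ k) (ψ u) := by
    intro k; induction k with
    | zero => intro u; simp
    | succ k ih => intro u; rw [pow_succ', MulAut.mul_apply, hψy, ih, MulAut.mul_apply]
  have hψeq : ∀ u w, ψ u = ψ w → ∃ t ∈ V, u = w * t := by
    intro u w h
    refine ⟨w⁻¹ * u, ?_, by group⟩
    rw [← hψ1, map_mul, map_inv, h, inv_mul_cancel]
  have hψmul : ∀ u w, ((ψ (u * w) : V) : U) = (ψ u : U) * (ψ w : U) := by
    intro u w; rw [map_mul]; rfl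
  have hKP : ∀ j : ℕ, (∀ v ∈ V, v * (y ^ j) v = 1) ∨
      ∃ k : ℕ, ∀ v ∈ V, v * (y ^ j) v = (y ^ k) v := by
    intro j
    by_cases hx : z * (y ^ j) z = 1
    · left
      intro v hv
      by_cases hv1 : v = 1
      · rw [hv1, map_one, one_mul]
      · obtain ⟨m, rfl⟩ := htrans z hz.1 hz1 v hv hv1
        rw [hcommpow j m z, ← map_mul, hx, map_one]
    · right
      have hxV : z * (y ^ j) z ∈ V := V.mul_mem hz.1 (hpowV j z hz.1)
      obtain ⟨k, hk⟩ := htrans z hz.1 hz1 _ hxV hx
      refine ⟨k, ?_⟩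
      intro v hv
      by_cases hv1 : v = 1
      · rw [hv1, map_one, map_one, one_mul]
      · obtain ⟨m, rfl⟩ := htrans z hz.1 hz1 v hv hv1
        rw [hcommpow j m z, ← map_mul, ← hk, hcommpow m k z]
  have hstar : ∀ (j : ℕ) (u w : U), cm u ((y ^ j) w) = cm ((y ^ j) u) w := by
    intro j u w
    have hD : cm ((y ^ j) u) ((y ^ j) w) = (y ^ j) (cm u w) := (cm_map (y ^ j) u w).symm
    have hexp : cm (u * (y ^ j) u) (w * (y ^ j) w)
        = cm u w * cm u ((y ^ j) w) * (cm ((y ^ j) u) w * cm ((y ^ j) u) ((y ^ j) w)) := by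
      rw [cm_mul_left hZ, cm_mul_right hZ, cm_mul_right hZ]
    have hval : cm (u * (y ^ j) u) (w * (y ^ j) w)
        = cm u w * cm ((y ^ j) u) ((y ^ j) w) := by
      rcases hKP j with h | ⟨k, hk⟩
      · have hu : u * (y ^ j) u ∈ V := by
          rw [← hψ1]; apply Subtype.ext
          rw [hψmul, hψpow]; exact h _ (ψ u).2
        rw [cm_central_left (hVZ hu), hD]
        exact (h _ (hQc u w)).symm
      · have hu : ψ (u * (y ^ j) u) = ψ ((y ^ k) u) := by
          apply Subtype.ext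
          rw [hψmul, hψpow, hψpow]; exact hk _ (ψ u).2
        have hw : ψ (w * (y ^ j) w) = ψ ((y ^ k) w) := by
          apply Subtype.ext
          rw [hψmul, hψpow, hψpow]; exact hk _ (ψ w).2
        obtain ⟨t, ht, hut⟩ := hψeq _ _ hu
        obtain ⟨t', ht', hwt⟩ := hψeq _ _ hw
        rw [hut, hwt, cm_mul_left hZ, cm_mul_right hZ, cm_mul_right hZ]
        simp only [cm_central_left (hVZ ht), cm_central_right (hVZ ht'), mul_one]
        rw [← cm_map, hD]
        exact (hk _ (hQc u w)).symm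
    have hBC : cm u ((y ^ j) w) * cm ((y ^ j) u) w = 1 := by
      have h1 := hexp.symm.trans hval
      have h2 : cm u w * (cm u ((y ^ j) w) * cm ((y ^ j) u) w * cm ((y ^ j) u) ((y ^ j) w))
          = cm u w * cm ((y ^ j) u) ((y ^ j) w) := by rw [← h1]; group
      have h3 := mul_left_cancel h2
      have h4 : cm u ((y ^ j) w) * cm ((y ^ j) u) w * cm ((y ^ j) u) ((y ^ j) w)
          = 1 * cm ((y ^ j) u) ((y ^ j) w) := by rw [one_mul]; exact h3
      exact mul_right_cancel h4
    have hC2 : cm ((y ^ j) u) w * cm ((y ^ j) u) w = 1 := by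
      have h5 := hVe _ (hQc ((y ^ j) u) w); rwa [pow_two] at h5
    calc cm u ((y ^ j) w) = cm u ((y ^ j) w) * (cm ((y ^ j) u) w * cm ((y ^ j) u) w) := by
          rw [hC2, mul_one]
      _ = (cm u ((y ^ j) w) * cm ((y ^ j) u) w) * cm ((y ^ j) u) w := by group
      _ = cm ((y ^ j) u) w := by rw [hBC, one_mul]
  have hall : ∀ u w : U, cm u w = 1 := by
    intro u w
    by_cases hu : u ∈ V
    · exact cm_central_left (hVZ hu) w
    by_cases hw : w ∈ V
    · exact cm_central_right (hVZ hw) u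
    have hu1 : ((ψ u : V) : U) ≠ 1 := by
      intro h; apply hu; rw [← hψ1]; exact Subtype.ext h
    have hw1 : ((ψ w : V) : U) ≠ 1 := by
      intro h; apply hw; rw [← hψ1]; exact Subtype.ext h
    obtain ⟨k, hk⟩ := htrans (ψ u) (ψ u).2 hu1 (ψ w) (ψ w).2 hw1
    have hj : ∀ x : U, (y ^ (k * 2 ^ (n - 1))) ((y ^ (k * 2 ^ (n - 1))) x) = (y ^ k) x := by
      intro x
      rw [hadd]
      have h5 : 2 ^ (n - 1) * 2 = q := by rw [← pow_succ, Nat.sub_add_cancel hn]
      have h6 : k * 2 ^ (n - 1) + k * 2 ^ (n - 1) = (q - 1) * k + k := by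
        have : k * 2 ^ (n - 1) + k * 2 ^ (n - 1) = k * (2 ^ (n - 1) * 2) := by ring
        rw [this, h5]
        obtain ⟨a, ha⟩ : ∃ a, q = a + 1 := ⟨q - 1, by omega⟩
        rw [ha]; simp; ring
      rw [h6, pow_add, pow_mul, ← hy, pow_orderOf_eq_one, one_pow, one_mul]
    have hψw : ψ w = ψ ((y ^ (k * 2 ^ (n - 1))) ((y ^ (k * 2 ^ (n - 1))) u)) := by
      apply Subtype.ext; rw [hj, hψpow]; exact hk.symm
    obtain ⟨t, ht, hwt⟩ := hψeq _ _ hψw
    rw [hwt, cm_mul_right hZ, cm_central_right (hVZ ht), mul_one, hstar, cm_self]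
  exact ⟨⟨fun u w => cm_eq_one (hall u w)⟩⟩

end Cfsg.Agent.S3158
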