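import Mathlib
-- Template for statement S3162 (row 3162; see /opt/grader/pristine/manifest.json for weights).
-- Copy to Cfsg/Agent/S3162.lean and replace the sorry. The statement below is byte-identical to the frozen
-- statement Cfsg.CfsgFrozen.S3162 (Cfsg/Statements/S3162.lean; the theorem Cfsg.aut_sylow_two_unitary_three_even_structure);
-- the grader kernel-checks Cfsg.Agent.S3162.result against that frozen type. Keep the theorem IN THIS FILE
-- (a `result` declared elsewhere and merely imported here is not credited); helpers may live anywhere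
-- under Cfsg/Agent/.
import Cfsg.Statements.S3162
import Cfsg.Agent.Lib.Helper3.SuAut5

set_option autoImplicit false
open Cfsg
open Cfsg.Agent.Lib.Helper3.Sz Cfsg.Agent.Lib.Helper3.SuAut

namespace Cfsg.Agent.S3162

/-- Let S be a Sylow 2-subgroup of the special unitary group of dimension 3 with parameter q = 2^n (n ≥ 2; realised over the field with q² elements). Then the largest normal 2-subgroup of the automorphism group of S is elementary abelian of order 2^(2n²), and the automorphism group has order 2^(2n²) · 2n(q² − 1). -/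
theorem result {S : Type*} [Group S] [Finite S] (n : ℕ) (hn : 2 ≤ n) {F : Type*} [Field F] [Fintype F] (hF : Fintype.card F = 4 ^ n)
    (P : Sylow 2 ↥(Cfsg.SU 3 F (2 ^ n))) (hS : Nonempty (S ≃* ↥(P : Subgroup ↥(Cfsg.SU 3 F (2 ^ n))))) :
    Cfsg.IsElementaryAbelian 2 (Cfsg.pCore 2 (MulAut S)) ∧ Nat.card ↥(Cfsg.pCore 2 (MulAut S)) = 2 ^ (2 * n ^ 2) ∧
      Nat.card (MulAut S) = 2 ^ (2 * n ^ 2) * (2 * n * ((2 ^ n) ^ 2 - 1)) := by
  have hF2 : Fintype.card F = 2 ^ (2 * n) := by
    rw [hF, show (4 : ℕ) = 2 ^ 2 from rfl, ← pow_mul]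
  have hF' : Fintype.card F = (2 ^ n) ^ 2 := by
    rw [hF2, ← pow_mul, mul_comm]
  have := charP_two_of_card hF2
  obtain ⟨e⟩ := hS
  exact aut_sylow_SU (by omega) hF' P e

end Cfsg.Agent.S3162
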