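import Mathlib
import Cfsg.Agent.Lib.Helper6.ElemAb
import Cfsg.Agent.Lib.Helper6.ChermakDelgado
import Cfsg.Statements.S3163

set_option autoImplicit false
open Cfsg Cfsg.Agent.Lib.Helper6
open scoped commutatorElement Pointwise

namespace Cfsg.Agent.S3163

/-- Let S be a non-abelian finite 2-group which is the product S = AB of two elementary abelian subgroups A and B, and suppose that the centralizer in S of every element of A outside B is exactly A. Then the centralizer of every element of B outside A is exactly B; A and B are maximal elementary abelian subgroups of S and the only ones; the centre of S is A ∩ B; and every element of S outside A ∪ B has centralizer of order at most min(|A|, |B|). -/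
theorem result {S : Type*} [Group S] [Finite S] (hS : IsPGroup 2 S) (hna : ¬ IsMulCommutative S) (A B : Subgroup S)
    (hA : Cfsg.IsElementaryAbelian 2 A) (hB : Cfsg.IsElementaryAbelian 2 B) (hAB : ∀ s : S, ∃ a ∈ A, ∃ b ∈ B, s = a * b)
    (hC : ∀ a ∈ A, a ∉ B → Subgroup.centralizer ({a} : Set S) = A) :
    (∀ b ∈ B, b ∉ A → Subgroup.centralizer ({b} : Set S) = B) ∧
      (∀ E : Subgroup S, Cfsg.IsElementaryAbelian 2 E → (∀ E' : Subgroup S, Cfsg.IsElementaryAbelian 2 E' → E ≤ E' → E' = E) → E = A ∨ E = B) ∧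
      (∀ E' : Subgroup S, Cfsg.IsElementaryAbelian 2 E' → A ≤ E' → E' = A) ∧ (∀ E' : Subgroup S, Cfsg.IsElementaryAbelian 2 E' → B ≤ E' → E' = B) ∧
      Subgroup.center S = A ⊓ B ∧
      (∀ x : S, x ∉ A → x ∉ B → Nat.card ↥(Subgroup.centralizer ({x} : Set S)) ≤ min (Nat.card ↥A) (Nat.card ↥B)) := by
  classical
  obtain ⟨hAc, hA2⟩ := isElementaryAbelian_iff_forall.mp hA
  obtain ⟨hBc, hB2⟩ := isElementaryAbelian_iff_forall.mp hB
  -- D = A ⊓ B is central
  have hDZ : ∀ d ∈ A ⊓ B, ∀ s : S, d * s = s * d := by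
    intro d hd s
    obtain ⟨a, ha, b, hb, rfl⟩ := hAB s
    calc d * (a * b) = (d * a) * b := by group
      _ = (a * d) * b := by rw [hAc d hd.1 a ha]
      _ = a * (d * b) := by group
      _ = a * (b * d) := by rw [hBc d hd.2 b hb]
      _ = a * b * d := by group
  -- A ⊄ B and B ⊄ A
  have hexA : ∃ a₀ ∈ A, a₀ ∉ B := by
    by_contra hcon
    push Not at hcon
    apply hna
    refine ⟨⟨fun s t => ?_⟩⟩
    obtain ⟨a, ha, b, hb, rfl⟩ := hAB s
    obtain ⟨a', ha', b', hb', rfl⟩ := hAB t
    exact hBc _ (B.mul_mem (hcon a ha) hb) _ (B.mul_mem (hcon a' ha') hb')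
  have hexB : ∃ b₀ ∈ B, b₀ ∉ A := by
    by_contra hcon
    push Not at hcon
    apply hna
    refine ⟨⟨fun s t => ?_⟩⟩
    obtain ⟨a, ha, b, hb, rfl⟩ := hAB s
    obtain ⟨a', ha', b', hb', rfl⟩ := hAB t
    exact hAc _ (A.mul_mem ha (hcon b hb)) _ (A.mul_mem ha' (hcon b' hb'))
  obtain ⟨a₀, ha₀, ha₀B⟩ := hexA
  obtain ⟨b₀, hb₀, hb₀A⟩ := hexB
  have hmemC : ∀ {x y : S}, x ∈ Subgroup.centralizer ({y} : Set S) ↔ y * x = x * y := by
    intro x y
    rw [Subgroup.mem_centralizer_iff]
    constructor
    · intro h; exact h y rfl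
    · intro h z hz
      have hz' : z = y := hz
      rw [hz']; exact h
  -- (1)
  have h1 : ∀ b ∈ B, b ∉ A → Subgroup.centralizer ({b} : Set S) = B := by
    intro b hb hbA
    apply le_antisymm
    · intro x hx
      obtain ⟨a', ha', b', hb', rfl⟩ := hAB x
      have hxc : b * (a' * b') = (a' * b') * b := hmemC.mp hx
      have hab : b * a' = a' * b := by
        have h2 : b * b' = b' * b := hBc b hb b' hb'
        have h3 : b * a' * b' = a' * b * b' := by
          calc b * a' * b' = b * (a' * b') := by group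
            _ = (a' * b') * b := hxc
            _ = a' * (b' * b) := by group
            _ = a' * (b * b') := by rw [h2]
            _ = a' * b * b' := by group
        exact mul_right_cancel h3
      by_cases ha'B : a' ∈ B
      · exact B.mul_mem ha'B hb'
      · exfalso
        have h4 : b ∈ Subgroup.centralizer ({a'} : Set S) := hmemC.mpr hab.symm
        rw [hC a' ha' ha'B] at h4
        exact hbA h4
    · intro x hx
      exact hmemC.mpr (hBc b hb x hx)
  -- maximality
  have h3 : ∀ E' : Subgroup S, Cfsg.IsElementaryAbelian 2 E' → A ≤ E' → E' = A := by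
    intro E' hE' hAE'
    obtain ⟨hEc, -⟩ := isElementaryAbelian_iff_forall.mp hE'
    apply le_antisymm _ hAE'
    intro x hx
    have : x ∈ Subgroup.centralizer ({a₀} : Set S) := hmemC.mpr (hEc a₀ (hAE' ha₀) x hx)
    rwa [hC a₀ ha₀ ha₀B] at this
  have h4 : ∀ E' : Subgroup S, Cfsg.IsElementaryAbelian 2 E' → B ≤ E' → E' = B := by
    intro E' hE' hBE'
    obtain ⟨hEc, -⟩ := isElementaryAbelian_iff_forall.mp hE'
    apply le_antisymm _ hBE'
    intro x hx
    have : x ∈ Subgroup.centralizer ({b₀} : Set S) := hmemC.mpr (hEc b₀ (hBE' hb₀) x hx)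
    rwa [h1 b₀ hb₀ hb₀A] at this
  -- elements outside A ∪ B are not involutions
  have hsq : ∀ x : S, x ∉ A → x ∉ B → x ^ 2 ≠ 1 := by
    intro x hxA hxB hx2
    obtain ⟨a, ha, b, hb, rfl⟩ := hAB x
    have haB : a ∉ B := fun h => hxB (B.mul_mem h hb)
    have hbA : b ∉ A := fun h => hxA (A.mul_mem ha h)
    have ha2 := hA2 a ha
    have hb2 := hB2 b hb
    have hcomm : a * b = b * a := by
      have e1 : a⁻¹ = a := by rw [inv_eq_iff_mul_eq_one, ← sq]; exact ha2
      have e2 : b⁻¹ = b := by rw [inv_eq_iff_mul_eq_one, ← sq]; exact hb2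
      have e3 : (a * b)⁻¹ = a * b := by rw [inv_eq_iff_mul_eq_one, ← sq]; exact hx2
      rw [mul_inv_rev, e1, e2] at e3
      exact e3.symm
    have : b ∈ Subgroup.centralizer ({a} : Set S) := hmemC.mpr hcomm
    rw [hC a ha haB] at this
    exact hbA this
  -- (2)
  have h2 : ∀ E : Subgroup S, Cfsg.IsElementaryAbelian 2 E →
      (∀ E' : Subgroup S, Cfsg.IsElementaryAbelian 2 E' → E ≤ E' → E' = E) → E = A ∨ E = B := by
    intro E hE hmax
    obtain ⟨hEc, hE2⟩ := isElementaryAbelian_iff_forall.mp hE
    by_cases hcase1 : ∃ a ∈ E, a ∈ A ∧ a ∉ B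
    · left
      obtain ⟨a, haE, haA, haB⟩ := hcase1
      have hEA : E ≤ A := by
        intro x hx
        have : x ∈ Subgroup.centralizer ({a} : Set S) := hmemC.mpr (hEc a haE x hx)
        rwa [hC a haA haB] at this
      exact (hmax A hA hEA).symm
    · by_cases hcase2 : ∃ b ∈ E, b ∈ B ∧ b ∉ A
      · right
        obtain ⟨b, hbE, hbB, hbA⟩ := hcase2
        have hEB : E ≤ B := by
          intro x hx
          have : x ∈ Subgroup.centralizer ({b} : Set S) := hmemC.mpr (hEc b hbE x hx)
          rwa [h1 b hbB hbA] at this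
        exact (hmax B hB hEB).symm
      · exfalso
        push Not at hcase1 hcase2
        -- every element of E lies in A ⊓ B
        have hED : E ≤ A ⊓ B := by
          intro x hx
          by_cases hxA : x ∈ A
          · exact ⟨hxA, hcase1 x hx hxA⟩
          · by_cases hxB : x ∈ B
            · exact absurd (hcase2 x hx hxB) hxA
            · exact absurd (by rw [sq]; rw [← sq]; exact hE2 x hx) (hsq x hxA hxB)
        have hEA : E ≤ A := hED.trans inf_le_left
        have := hmax A hA hEA
        rw [this] at ha₀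
        exact ha₀B (hED ha₀).2
  -- (5)
  have h5 : Subgroup.center S = A ⊓ B := by
    apply le_antisymm
    · intro z hz
      have hzc : ∀ s : S, s * z = z * s := fun s => Subgroup.mem_center_iff.mp hz s
      have hzA : z ∈ A := by
        have : z ∈ Subgroup.centralizer ({a₀} : Set S) := hmemC.mpr (hzc a₀)
        rwa [hC a₀ ha₀ ha₀B] at this
      refine ⟨hzA, ?_⟩
      by_contra hzB
      have h6 := hC z hzA hzB
      have : b₀ ∈ Subgroup.centralizer ({z} : Set S) := hmemC.mpr (hzc b₀).symm
      rw [h6] at this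
      exact hb₀A this
    · intro d hd
      rw [Subgroup.mem_center_iff]
      intro s
      exact (hDZ d hd s).symm
  refine ⟨h1, h2, h3, h4, h5, ?_⟩
  -- (6)
  intro x hxA hxB
  obtain ⟨a, ha, b, hb, hxab⟩ := hAB x
  have haB : a ∉ B := fun h => hxB (hxab ▸ B.mul_mem h hb)
  have hbA : b ∉ A := fun h => hxA (hxab ▸ A.mul_mem ha h)
  have hCA : Subgroup.centralizer ({x} : Set S) ⊓ A ≤ A ⊓ B := by
    intro y hy
    refine ⟨hy.2, ?_⟩
    by_contra hyB
    have hyx : x * y = y * x := hmemC.mp hy.1
    have hya : a * y = y * a := hAc a ha y hy.2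
    have hyb : b * y = y * b := by
      rw [hxab] at hyx
      have : a * (b * y) = a * (y * b) := by
        calc a * (b * y) = (a * b) * y := by group
          _ = y * (a * b) := hyx
          _ = (y * a) * b := by group
          _ = (a * y) * b := by rw [hya]
          _ = a * (y * b) := by group
      exact mul_left_cancel this
    have : b ∈ Subgroup.centralizer ({y} : Set S) := hmemC.mpr hyb.symm
    rw [hC y hy.2 hyB] at this
    exact hbA this
  have hCB : Subgroup.centralizer ({x} : Set S) ⊓ B ≤ A ⊓ B := by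
    intro y hy
    refine ⟨?_, hy.2⟩
    by_contra hyA
    have hyx : x * y = y * x := hmemC.mp hy.1
    have hyb : b * y = y * b := hBc b hb y hy.2
    have hya : a * y = y * a := by
      rw [hxab] at hyx
      have : (a * y) * b = (y * a) * b := by
        calc (a * y) * b = a * (y * b) := by group
          _ = a * (b * y) := by rw [hyb]
          _ = (a * b) * y := by group
          _ = y * (a * b) := hyx
          _ = (y * a) * b := by group
      exact mul_right_cancel this
    have : a ∈ Subgroup.centralizer ({y} : Set S) := hmemC.mpr hya.symm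
    rw [h1 y hy.2 hyA] at this
    exact haB this
  -- cardinalities
  have hcardS : Nat.card S * Nat.card ↥(A ⊓ B) = Nat.card ↥A * Nat.card ↥B := by
    rw [← card_setMul_mul_card_inf A B]
    have huniv : (A : Set S) * (B : Set S) = Set.univ := by
      ext s
      simp only [Set.mem_univ, iff_true]
      obtain ⟨a', ha', b', hb', rfl⟩ := hAB s
      exact ⟨a', ha', b', hb', rfl⟩
    rw [huniv, Nat.card_congr (Equiv.Set.univ S)]
  have hbound : ∀ X : Subgroup S, Subgroup.centralizer ({x} : Set S) ⊓ X ≤ A ⊓ B →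
      Nat.card ↥(Subgroup.centralizer ({x} : Set S)) * Nat.card ↥X ≤ Nat.card S * Nat.card ↥(A ⊓ B) := by
    intro X hX
    calc Nat.card ↥(Subgroup.centralizer ({x} : Set S)) * Nat.card ↥X
        ≤ Nat.card ↥(Subgroup.centralizer ({x} : Set S) ⊔ X) *
            Nat.card ↥(Subgroup.centralizer ({x} : Set S) ⊓ X) := card_mul_card_le_sup_inf _ _
      _ ≤ Nat.card S * Nat.card ↥(A ⊓ B) :=
          Nat.mul_le_mul (Subgroup.card_le_card_group _) (Subgroup.card_le_of_le hX)
  have hbA' := hbound A hCA
  have hbB' := hbound B hCB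
  rw [hcardS] at hbA' hbB'
  have hposA : 0 < Nat.card ↥A := Nat.card_pos
  have hposB : 0 < Nat.card ↥B := Nat.card_pos
  apply le_min
  · exact Nat.le_of_mul_le_mul_right hbB' hposB
  · rw [mul_comm (Nat.card ↥A) (Nat.card ↥B)] at hbA'
    exact Nat.le_of_mul_le_mul_right hbA' hposA

end Cfsg.Agent.S3163
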