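import Mathlib
import Cfsg.Statements.S3166

set_option autoImplicit false
open Cfsg

namespace Cfsg.Agent.S3166

theorem modEq_one_of_pow (n p m : ℕ) (hn : 1 ≤ n) (hp : Odd p) (hm : Odd m)
    (h : p ^ m ≡ 1 [MOD 2 ^ n]) : p ≡ 1 [MOD 2 ^ n] := by
  have hcop : Nat.Coprime p (2 ^ n) := (Nat.coprime_two_right.mpr hp).pow_right n
  let u := ZMod.unitOfCoprime p hcop
  have hu : u ^ m = 1 := by
    apply Units.ext
    rw [Units.val_pow_eq_pow_val, ZMod.coe_unitOfCoprime, Units.val_one]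
    have := (ZMod.natCast_eq_natCast_iff _ _ _).mpr h
    push_cast at this; exact this
  have hu2 : u ^ (2 ^ (n - 1)) = 1 := by
    have := ZMod.pow_totient u
    rwa [Nat.totient_prime_pow Nat.prime_two (by omega), show 2 - 1 = 1 from rfl, mul_one] at this
  have h1 : orderOf u ∣ m := orderOf_dvd_of_pow_eq_one hu
  have h2 : orderOf u ∣ 2 ^ (n-1) := orderOf_dvd_of_pow_eq_one hu2
  have hc : Nat.Coprime m (2 ^ (n-1)) := (Nat.coprime_two_right.mpr hm).pow_right _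
  have h3 : orderOf u = 1 := Nat.eq_one_of_dvd_coprimes hc h1 h2
  have h4 : u = 1 := orderOf_eq_one_iff.mp h3
  have h5 : ((p : ℕ) : ZMod (2 ^ n)) = ((1 : ℕ) : ZMod (2 ^ n)) := by
    have := congrArg Units.val h4
    rw [ZMod.coe_unitOfCoprime, Units.val_one] at this
    rw [this]; simp
  exact (ZMod.natCast_eq_natCast_iff _ _ _).mp h5

theorem small : ∀ q, q < 8 → 2 ≤ q → ∀ p, p < 20 → p ^ 3 + q ^ 3 + q ≠ q ^ 4 + q ^ 2 + 1 := by
  decide



/-- Let q = 2^n with n ≥ 1. If q⁴ − q³ + q² − q + 1 is a power p^m of a prime p, then m = 1: the value is never a prime power with exponent greater than 1. -/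
theorem result (n p m : ℕ) (hn : 1 ≤ n) (hp : p.Prime) (h : (2 ^ n) ^ 4 - (2 ^ n) ^ 3 + (2 ^ n) ^ 2 - 2 ^ n + 1 = p ^ m) : m = 1 := by
  have hq2 : 2 ≤ 2 ^ n := by
    calc 2 = 2^1 := rfl
      _ ≤ 2^n := Nat.pow_le_pow_right (by norm_num) hn
  obtain ⟨r, hr⟩ : ∃ r, 2 ^ n = 2 * r := ⟨2 ^ (n - 1), by
    obtain ⟨k, rfl⟩ : ∃ k, n = k + 1 := ⟨n - 1, by omega⟩
    rw [pow_succ]; simp [mul_comm]⟩
  generalize hq : 2 ^ n = q at h hq2 hr
  have hq34 : q ^ 3 ≤ q ^ 4 := Nat.pow_le_pow_right (by omega) (by norm_num)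
  have hq12 : q ≤ q ^ 2 := by nlinarith
  have hN : p ^ m + q ^ 3 + q = q ^ 4 + q ^ 2 + 1 := by omega
  have hr1 : 1 ≤ r := by omega
  have hNz : (p : ℤ) ^ m = (q:ℤ) ^ 4 - q ^ 3 + q ^ 2 - q + 1 := by
    have := congrArg (fun x : ℕ => (x : ℤ)) hN
    push_cast at this; linarith
  have hqr : (q:ℤ) = 2 * r := by exact_mod_cast hr
  have hrz : (1:ℤ) ≤ r := by exact_mod_cast hr1
  have hr0 : (0:ℤ) < r := by linarith
  -- m ≠ 0
  have hm0 : m ≠ 0 := by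
    rintro rfl
    rw [pow_zero, hqr] at hNz
    nlinarith [pow_pos hr0 2, pow_pos hr0 3, pow_pos hr0 4]
  -- p ^ m is odd
  have hpm_odd : Odd (p ^ m) := by
    rw [Nat.odd_iff]
    have h1 : (p ^ m + q ^ 3 + q) % 2 = (q ^ 4 + q ^ 2 + 1) % 2 := by rw [hN]
    have h2 : q ^ 3 % 2 = 0 := by rw [hr, mul_pow]; omega
    have h3 : q % 2 = 0 := by omega
    have h4 : q ^ 4 % 2 = 0 := by rw [hr, mul_pow]; omega
    have h5 : q ^ 2 % 2 = 0 := by rw [hr, mul_pow]; omega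
    omega
  have hpodd : Odd p := by
    obtain ⟨k, hk⟩ : ∃ k, m = k + 1 := ⟨m - 1, by omega⟩
    rw [hk, pow_succ] at hpm_odd
    exact Nat.Odd.of_mul_right hpm_odd
  -- m odd
  have hmodd : Odd m := by
    by_contra hne
    rw [Nat.not_odd_iff_even] at hne
    obtain ⟨k, hk⟩ := hne
    have hs : ((p:ℤ)^k) ^ 2 = (q:ℤ)^4 - q^3 + q^2 - q + 1 := by rw [← hNz, hk, pow_add, sq]
    have hs0 : 0 ≤ (p:ℤ)^k := by positivity
    generalize (p:ℤ)^k = s at hs hs0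
    have h1 : (4 * (r:ℤ)^2 - r)^2 < s^2 := by rw [hs, hqr]; nlinarith [pow_pos hr0 2]
    have h2 : s^2 < (4 * (r:ℤ)^2 - r + 1)^2 := by rw [hs, hqr]; nlinarith [pow_pos hr0 2]
    have h3 : 4 * (r:ℤ)^2 - r < s := lt_of_pow_lt_pow_left₀ 2 hs0 h1
    have h4 : s < 4 * (r:ℤ)^2 - r + 1 := lt_of_pow_lt_pow_left₀ 2 (by nlinarith) h2
    omega
  by_contra hm1
  have hm3 : 3 ≤ m := by obtain ⟨k, hk⟩ := hmodd; omega
  have hmod : p ^ m ≡ 1 [MOD q] := by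
    rw [Nat.modEq_iff_dvd]
    push_cast
    rw [hNz]
    exact ⟨-((q:ℤ)^3 - q^2 + q - 1), by ring⟩
  have hp1 : p ≡ 1 [MOD q] := by
    rw [← hq] at hmod ⊢; exact modEq_one_of_pow n p m hn hpodd hmodd hmod
  obtain ⟨k, hk⟩ : ∃ k : ℕ, p = 1 + k * q := by
    have := (Nat.modEq_iff_dvd' (hp.one_lt.le)).mp hp1.symm
    obtain ⟨k, hk⟩ := this
    exact ⟨k, by have := hp.one_lt; rw [mul_comm] at hk; omega⟩
  have hk1 : 1 ≤ k := by
    rcases Nat.eq_zero_or_pos k with h0 | h0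
    · rw [h0] at hk; have := hp.one_lt; omega
    · exact h0
  have hqp : q ≤ p := by nlinarith
  have hlt : p ^ m < q ^ 4 := by nlinarith
  have hm4 : m < 4 := by
    have h1 : p ^ m < p ^ 4 := lt_of_lt_of_le hlt (Nat.pow_le_pow_left hqp 4)
    exact (Nat.pow_lt_pow_iff_right hp.one_lt).mp h1
  have hm : m = 3 := by omega
  subst hm
  -- q ∣ 3k+1
  have hkz : (p:ℤ) = 1 + k * q := by exact_mod_cast hk
  have hq0 : (q:ℤ) ≠ 0 := by
    have : (2:ℤ) ≤ q := by exact_mod_cast hq2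
    linarith
  have hdvd : (q:ℤ) ∣ 3 * k + 1 := by
    refine ⟨(q:ℤ)^2 - q + 1 - 3 * k^2 - k^3 * q, ?_⟩
    apply mul_left_cancel₀ hq0
    rw [hkz] at hNz
    linear_combination hNz
  have hdvd' : q ∣ 3 * k + 1 := by exact_mod_cast hdvd
  have hle : q ≤ 3 * k + 1 := Nat.le_of_dvd (by omega) hdvd'
  rcases Nat.lt_or_ge q 8 with hq8 | hq8
  · have hp12 : p < 20 := by
      by_contra hcon
      push Not at hcon
      have : 20 ^ 3 ≤ p ^ 3 := Nat.pow_le_pow_left hcon 3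
      have : q ^ 4 ≤ 7 ^ 4 := Nat.pow_le_pow_left (by omega) 4
      omega
    exact small q hq8 hq2 p hp12 hN
  · have h24 : 7 * q ^ 2 ≤ 24 * p := by nlinarith
    have h1 : (7 * q ^ 2) ^ 3 ≤ (24 * p) ^ 3 := Nat.pow_le_pow_left h24 3
    have h2 : 64 ≤ q ^ 2 := by nlinarith
    have h3 : (7 * q ^ 2) ^ 3 = 343 * (q ^ 4 * q ^ 2) := by ring
    have h4 : (24 * p) ^ 3 = 13824 * p ^ 3 := by ring
    have h5 : 0 < q ^ 4 := by positivity
    have h6 : q ^ 4 * 64 ≤ q ^ 4 * q ^ 2 := Nat.mul_le_mul_left _ h2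
    rw [h3, h4] at h1
    generalize q ^ 4 * q ^ 2 = Z at h1 h6
    generalize q ^ 4 = X at hlt h5 h6
    generalize p ^ 3 = Y at hlt h1
    omega

end Cfsg.Agent.S3166
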