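import Mathlib
import Cfsg.Prelude.Def_Sporadic_a
import Cfsg.Prelude.Def_Transfer
import Cfsg.Agent.Lib.Helper6.M24Q3
import Cfsg.Statements.S3171

set_option autoImplicit false
open Cfsg

namespace Cfsg.Agent.S3171

open Cfsg.Agent.Lib.Helper6.M24Q
open Cfsg.Agent.Lib.Helper6.M24Syl (C factorization_M24)
open scoped commutatorElement

section helpers
open Cfsg.Agent.Lib.Helper6.M24Q
open Cfsg.Agent.Lib.Helper6.M24Syl (C factorization_M24)

theorem main (P : Sylow 2 ↥Cfsg.M24) :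
    (∀ M : Subgroup (↥(P : Subgroup ↥Cfsg.M24) ⧸ Subgroup.center ↥(P : Subgroup ↥Cfsg.M24)), IsCoatom M →
        Nat.card ↥(Subgroup.center ↥M) ≤ 8) ∧
      (∃ A : Subgroup (↥(P : Subgroup ↥Cfsg.M24) ⧸ Subgroup.center ↥(P : Subgroup ↥Cfsg.M24)),
        Cfsg.IsElementaryAbelian 2 A ∧ Nat.card ↥A = 64) ∧
      ∀ A B : Subgroup (↥(P : Subgroup ↥Cfsg.M24) ⧸ Subgroup.center ↥(P : Subgroup ↥Cfsg.M24)),
        IsMulCommutative ↥A → Nat.card ↥A = 64 → IsMulCommutative ↥B → Nat.card ↥B = 64 → A = B := by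
  haveI : Fact (Nat.Prime 2) := ⟨Nat.prime_two⟩
  have hcard : Nat.card (S2.subgroupOf M24) = 2 ^ (Nat.card M24).factorization 2 := by
    rw [factorization_M24, Nat.card_congr (Subgroup.subgroupOfEquivOfLe (C2_le_M24 0 10)).toEquiv, card_S2]
    norm_num
  obtain ⟨P₀, hP₀⟩ : ∃ P₀ : Sylow 2 M24, (P₀ : Subgroup M24) = S2.subgroupOf M24 :=
    ⟨Sylow.ofCard _ hcard, rfl⟩
  let e : ↥S2 ≃* ↥(P : Subgroup ↥Cfsg.M24) :=
    (Subgroup.subgroupOfEquivOfLe (C2_le_M24 0 10)).symm.trans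
      ((MulEquiv.subgroupCongr hP₀.symm).trans (Sylow.equiv P₀ P))
  let π : ↥S2 →* ↥(P : Subgroup ↥Cfsg.M24) ⧸ Subgroup.center ↥(P : Subgroup ↥Cfsg.M24) :=
    (QuotientGroup.mk' _).comp e.toMonoidHom
  have hs : Function.Surjective π := (QuotientGroup.mk'_surjective _).comp e.surjective
  have hk : π.ker = Subgroup.center ↥S2 := by
    ext x
    rw [MonoidHom.mem_ker]
    show (QuotientGroup.mk' _) (e x) = 1 ↔ _
    rw [QuotientGroup.mk'_apply, QuotientGroup.eq_one_iff, Subgroup.mem_center_iff, Subgroup.mem_center_iff]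
    constructor
    · intro h y
      apply e.injective
      rw [map_mul, map_mul]
      exact h (e y)
    · intro h y
      obtain ⟨y', rfl⟩ := e.surjective y
      rw [← map_mul, ← map_mul, h y']
  refine ⟨fun M hM => part1 π hk hs M hM, ⟨A π, ⟨⟨⟨fun a b => Subtype.ext ?_⟩⟩, fun a ha => A_sq π hk hs a ha⟩,
    card_A π hk hs⟩, ?_⟩
  · exact A_comm π hk hs a.1 b.1 a.2 b.2
  · intro A' B' hA' hA64 hB' hB64
    rw [part3 π hk hs A' (fun x hx y hy => setLike_mul_comm (s := A') hx hy) hA64,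
      part3 π hk hs B' (fun x hx y hy => setLike_mul_comm (s := B') hx hy) hB64]

end helpers



/-- Let P be a Sylow 2-subgroup of the Mathieu group of degree 24 and S the quotient of P by its centre. Then the centre of every maximal subgroup of S has order at most 8; S has an elementary abelian subgroup of order 64; and S has only one abelian subgroup of order 64. -/
theorem result (P : Sylow 2 ↥Cfsg.M24) :
    (∀ M : Subgroup (↥(P : Subgroup ↥Cfsg.M24) ⧸ Subgroup.center ↥(P : Subgroup ↥Cfsg.M24)), IsCoatom M →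
        Nat.card ↥(Subgroup.center ↥M) ≤ 8) ∧
      (∃ A : Subgroup (↥(P : Subgroup ↥Cfsg.M24) ⧸ Subgroup.center ↥(P : Subgroup ↥Cfsg.M24)),
        Cfsg.IsElementaryAbelian 2 A ∧ Nat.card ↥A = 64) ∧
      ∀ A B : Subgroup (↥(P : Subgroup ↥Cfsg.M24) ⧸ Subgroup.center ↥(P : Subgroup ↥Cfsg.M24)),
        IsMulCommutative ↥A → Nat.card ↥A = 64 → IsMulCommutative ↥B → Nat.card ↥B = 64 → A = B := by
  exact main P

end Cfsg.Agent.S3171
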