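import Mathlib
import Cfsg.Agent.Lib.Helper6.Modular2
import Cfsg.Agent.Lib.Helper6.SylowIdx
import Cfsg.Agent.Lib.Helper6.Conj
import Cfsg.Agent.Lib.Lead.ThompsonTransfer
import Cfsg.Statements.S3178

set_option autoImplicit false
open Cfsg Cfsg.Agent.Lib.Helper6
open scoped commutatorElement

namespace Cfsg.Agent.S3178

/-- Groups with a modular Sylow 2-subgroup have a normal 2-complement. Let S, of order 2^(n+1) with n ≥ 3, be a Sylow 2-subgroup of a finite group G, and suppose S contains an element a of order 2^n and an involution b with b a b⁻¹ = a^(2^(n-1) + 1); so S is the non-abelian 2-group with a cyclic subgroup of index 2 that is neither dihedral, semidihedral nor generalized quaternion. Then G has a normal 2-complement. -/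
theorem result {G : Type*} [Group G] [Finite G]
    (S : Sylow 2 G) (n : ℕ) (hn : 3 ≤ n) (hS : Nat.card ↥(S : Subgroup G) = 2 ^ (n + 1))
    (a b : G) (ha : a ∈ (S : Subgroup G)) (hb : b ∈ (S : Subgroup G))
    (hao : orderOf a = 2 ^ n) (hbo : orderOf b = 2) (hrel : b * a * b⁻¹ = a ^ (2 ^ (n - 1) + 1)) :
    Cfsg.HasNormalPComplement 2 G := by
  haveI : Fact (Nat.Prime 2) := ⟨Nat.prime_two⟩
  classical
  have hn1 : 1 ≤ n := by omega
  set z := a ^ (2 ^ (n - 1)) with hz
  have hab : ¬ (b * a = a * b) := by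
    intro h
    have h1 : b * a * b⁻¹ = a := by rw [h]; group
    rw [hrel, pow_succ] at h1
    have h2 : a ^ (2 ^ (n - 1)) = 1 := by simpa using h1
    have h3 := orderOf_dvd_of_pow_eq_one h2
    rw [hao] at h3
    have h4 := Nat.le_of_dvd (by positivity) h3
    have h5 : 2 ^ (n - 1) < 2 ^ n := Nat.pow_lt_pow_right (by norm_num) (by omega)
    omega
  have hbz : b ≠ z := by
    intro h
    apply hab
    rw [h, hz]
    exact ((Commute.refl a).pow_left _).eq
  have hzle : Subgroup.zpowers a ≤ (S : Subgroup G) := Subgroup.zpowers_le.mpr ha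
  have hQi : (Subgroup.zpowers a).relIndex (S : Subgroup G) = 2 :=
    index_zpowers_subgroupOf (S : Subgroup G) hS ha hao
  -- no conjugate of `b` lies in `⟨a⟩`
  have hnc : ∀ g : G, g * b * g⁻¹ ∉ Subgroup.zpowers a := by
    intro g hg
    have h1 : g * b * g⁻¹ = z :=
      involution_zpowers hn1 hao hg (by rw [orderOf_conj_h6]; exact hbo)
    set c := g⁻¹ * a * g with hc
    have hco : orderOf c = 2 ^ n := by rw [hc, orderOf_conj_inv_h6]; exact hao
    have hcb : c ^ (2 ^ (n - 1)) = b := by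
      have e : c = (MulAut.conj g⁻¹) a := by rw [MulAut.conj_apply, inv_inv]
      rw [e, ← map_pow, ← hz, ← h1, MulAut.conj_apply, inv_inv]
      group
    -- both `a ^ 2` and `c` centralize `b`
    have ha2 : a ^ 2 ∈ Subgroup.centralizer ({b} : Set G) := by
      rw [Subgroup.mem_centralizer_iff]
      intro y hy
      rw [Set.mem_singleton_iff] at hy
      subst hy
      have e1 : y * a ^ 2 * y⁻¹ = a ^ 2 := by
        have : y * a ^ 2 * y⁻¹ = (y * a * y⁻¹) ^ 2 := by rw [conj_pow]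
        rw [this, hrel, ← pow_mul]
        have e2 : (2 ^ (n - 1) + 1) * 2 = 2 ^ n + 2 := by
          obtain ⟨j, rfl⟩ : ∃ j, n = j + 1 := ⟨n - 1, by omega⟩
          simp only [Nat.add_sub_cancel, pow_succ]; ring
        rw [e2, pow_add, ← hao, pow_orderOf_eq_one, one_mul]
      calc y * a ^ 2 = y * a ^ 2 * y⁻¹ * y := by group
        _ = a ^ 2 * y := by rw [e1]
    have hcc : c ∈ Subgroup.centralizer ({b} : Set G) := by
      rw [Subgroup.mem_centralizer_iff]
      intro y hy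
      rw [Set.mem_singleton_iff] at hy
      subst hy
      rw [← hcb]
      exact ((Commute.refl c).pow_left _).eq
    have ha2o : orderOf (a ^ 2) = 2 ^ (n - 1) := by
      rw [orderOf_pow_of_dvd (by norm_num) (by rw [hao]; exact dvd_pow_self 2 (by omega)), hao]
      obtain ⟨j, rfl⟩ : ∃ j, n = j + 1 := ⟨n - 1, by omega⟩
      simp [pow_succ]
    obtain ⟨y, hy, R, hRK, hRp, hAR, hBR⟩ := exists_common_pGroup (p := 2)
      (Subgroup.centralizer ({b} : Set G)) (Subgroup.zpowers (a ^ 2)) (Subgroup.zpowers c)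
      (Subgroup.zpowers_le.mpr ha2) (Subgroup.zpowers_le.mpr hcc)
      (isPGroup_zpowers_of_orderOf ⟨n - 1, ha2o⟩) (isPGroup_zpowers_of_orderOf ⟨n, hco⟩)
    obtain ⟨S₁, hRS₁⟩ := hRp.exists_le_sylow
    obtain ⟨h, hh⟩ := MulAction.exists_smul_eq G S S₁
    have hS₁ : Nat.card (S₁ : Subgroup G) = 2 ^ (n + 1) := by
      rw [Sylow.card_eq_multiplicity, ← hS, Sylow.card_eq_multiplicity]
    have ha₁ : h * a * h⁻¹ ∈ (S₁ : Subgroup G) := by
      rw [← hh, sylow_smul_eq_map_conj, mem_map_conj]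
      have : h⁻¹ * (h * a * h⁻¹) * h = a := by group
      rw [this]; exact ha
    have ha₁o : orderOf (h * a * h⁻¹) = 2 ^ n := by rw [orderOf_conj_h6]; exact hao
    have hx1 : a ^ 2 ∈ (S₁ : Subgroup G) := hRS₁ (hAR (Subgroup.mem_zpowers _))
    have hx2 : y * c * y⁻¹ ∈ (S₁ : Subgroup G) := by
      apply hRS₁
      apply hBR
      rw [mem_map_conj]
      have : y⁻¹ * (y * c * y⁻¹) * y = c := by group
      rw [this]; exact Subgroup.mem_zpowers _
    have e1 := pow_eq_of_mem_of_card (S₁ : Subgroup G) hn1 hS₁ ha₁ ha₁o hx1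
      (by omega : 2 ≤ n - 1) ha2o
    have e2 := pow_eq_of_mem_of_card (S₁ : Subgroup G) hn1 hS₁ ha₁ ha₁o hx2
      (by omega : 2 ≤ n) (by rw [orderOf_conj_h6]; exact hco)
    have e3 : (a ^ 2) ^ 2 ^ (n - 1 - 1) = z := by
      rw [← pow_mul, hz]
      congr 1
      obtain ⟨j, rfl⟩ : ∃ j, n = j + 2 := ⟨n - 2, by omega⟩
      simp [pow_succ]; ring
    have e4 : (y * c * y⁻¹) ^ 2 ^ (n - 1) = b := by
      rw [conj_pow, hcb]
      rw [Subgroup.mem_centralizer_iff] at hy
      have := hy b rfl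
      calc y * b * y⁻¹ = b * y * y⁻¹ := by rw [this]
        _ = b := by group
    apply hbz
    rw [← e4, e2, ← e1, e3]
  obtain ⟨M, hMn, hMi, hbM⟩ := Cfsg.Agent.Lib.Lead.thompson_transfer S (Subgroup.zpowers a) hQi b hbo hnc
  haveI := hMn
  apply hasNormalPComplement_of_normal_index_pow M 1 (by rw [hMi, pow_one])
  -- a Sylow 2-subgroup of `M` is cyclic
  obtain ⟨T⟩ : Nonempty (Sylow 2 M) := inferInstance
  apply hasNormalPComplement_two_of_cyclic T
  obtain ⟨Q, hQT⟩ := Sylow.exists_comap_subtype_eq T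
  obtain ⟨h, hh⟩ := MulAction.exists_smul_eq G S Q
  have hQc : Nat.card (Q : Subgroup G) = 2 ^ (n + 1) := by
    rw [Sylow.card_eq_multiplicity, ← hS, Sylow.card_eq_multiplicity]
  have hconjQ : ∀ x ∈ (S : Subgroup G), h * x * h⁻¹ ∈ (Q : Subgroup G) := by
    intro x hx
    rw [← hh, sylow_smul_eq_map_conj, mem_map_conj]
    have : h⁻¹ * (h * x * h⁻¹) * h = x := by group
    rw [this]; exact hx
  -- an element `d` of order `2 ^ n` in `S ∩ M`
  have hd : ∃ d ∈ (S : Subgroup G), d ∈ M ∧ orderOf d = 2 ^ n := by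
    by_cases haM : a ∈ M
    · exact ⟨a, ha, haM, hao⟩
    · refine ⟨a * b, Subgroup.mul_mem _ ha hb, ?_, ?_⟩
      · have := (Subgroup.mul_mem_iff_of_index_two hMi (a := a) (b := b))
        rw [this]
        exact ⟨fun h => absurd h haM, fun h => absurd h hbM⟩
      · have hb2 : b * b = 1 := by
          have := pow_orderOf_eq_one b
          rwa [hbo, pow_two] at this
        have hbinv : b⁻¹ = b := inv_eq_of_mul_eq_one_right hb2
        have hsq : (a * b) ^ 2 = a ^ (2 * (2 ^ (n - 2) + 1)) := by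
          have e1 : (a * b) ^ 2 = a * (b * a * b⁻¹) * (b * b) := by rw [hbinv, pow_two, hb2, mul_one]; group
          rw [e1, hrel, hb2, mul_one, ← pow_succ']
          congr 1
          obtain ⟨j, rfl⟩ : ∃ j, n = j + 2 := ⟨n - 2, by omega⟩
          simp [pow_succ]; ring
        have hsqo : orderOf ((a * b) ^ 2) = 2 ^ (n - 1) := by
          rw [hsq, orderOf_pow, hao]
          have hg : Nat.gcd (2 ^ n) (2 * (2 ^ (n - 2) + 1)) = 2 := by
            obtain ⟨j, rfl⟩ : ∃ j, n = j + 3 := ⟨n - 3, by omega⟩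
            have e : j + 3 - 2 = j + 1 := by omega
            rw [e]
            have e2 : (2 : ℕ) ^ (j + 3) = 2 * 2 ^ (j + 2) := by rw [pow_succ]; ring
            rw [e2, Nat.gcd_mul_left]
            have : Nat.Coprime (2 ^ (j + 2)) (2 ^ (j + 1) + 1) := by
              apply Nat.Coprime.pow_left
              rw [Nat.coprime_two_left]
              exact ⟨2 ^ j, by rw [pow_succ]; ring⟩
            rw [this.gcd_eq_one]
          rw [hg]
          obtain ⟨j, rfl⟩ : ∃ j, n = j + 1 := ⟨n - 1, by omega⟩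
          simp [pow_succ]
        obtain ⟨k, hk⟩ := IsPGroup.iff_orderOf.mp S.isPGroup' ⟨a * b, Subgroup.mul_mem _ ha hb⟩
        rw [Subgroup.orderOf_mk] at hk
        rcases Nat.eq_zero_or_pos k with rfl | hk0
        · exfalso
          rw [pow_zero, orderOf_eq_one_iff] at hk
          rw [hk, one_pow, orderOf_one] at hsqo
          have : 2 ≤ 2 ^ (n - 1) := by
            calc 2 = 2 ^ 1 := by norm_num
              _ ≤ 2 ^ (n - 1) := Nat.pow_le_pow_right (by norm_num) (by omega)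
          omega
        · rw [orderOf_pow_of_dvd (by norm_num) (by rw [hk]; exact dvd_pow_self 2 (by omega)), hk] at hsqo
          obtain ⟨j, rfl⟩ : ∃ j, k = j + 1 := ⟨k - 1, by omega⟩
          have e : 2 ^ (j + 1) / 2 = 2 ^ j := by simp [pow_succ]
          rw [e] at hsqo
          have : j = n - 1 := Nat.pow_right_injective (le_refl 2) hsqo
          rw [hk, this]
          congr 1
          omega
  obtain ⟨d, hdS, hdM, hdo⟩ := hd
  set d₁ := h * d * h⁻¹ with hd₁
  have hd₁Q : d₁ ∈ (Q : Subgroup G) := hconjQ d hdS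
  have hd₁M : d₁ ∈ M := hMn.conj_mem d hdM h
  have hd₁o : orderOf d₁ = 2 ^ n := by rw [hd₁, orderOf_conj_h6]; exact hdo
  have hb₁Q : h * b * h⁻¹ ∈ (Q : Subgroup G) := hconjQ b hb
  have hb₁M : h * b * h⁻¹ ∉ M := by
    intro hc
    apply hbM
    have := hMn.conj_mem _ hc h⁻¹
    have e : h⁻¹ * (h * b * h⁻¹) * h⁻¹⁻¹ = b := by group
    rwa [e] at this
  have heq : Subgroup.zpowers d₁ = (Q : Subgroup G) ⊓ M := by
    have hle : Subgroup.zpowers d₁ ≤ (Q : Subgroup G) ⊓ M :=
      Subgroup.zpowers_le.mpr (Subgroup.mem_inf.mpr ⟨hd₁Q, hd₁M⟩)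
    apply Subgroup.eq_of_le_of_card_ge hle
    rw [Nat.card_zpowers, hd₁o]
    have h1 : Nat.card ↥((Q : Subgroup G) ⊓ M) ∣ 2 ^ (n + 1) := by
      rw [← hQc]; exact Subgroup.card_dvd_of_le inf_le_left
    obtain ⟨j, hj, hj2⟩ := (Nat.dvd_prime_pow Nat.prime_two).mp h1
    rw [hj2]
    apply Nat.pow_le_pow_right (by norm_num)
    by_contra hlt
    have hjn : j = n + 1 := by omega
    rw [hjn, ← hQc] at hj2
    have := Subgroup.eq_of_le_of_card_ge (inf_le_left : (Q : Subgroup G) ⊓ M ≤ Q) hj2.ge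
    apply hb₁M
    have h2 : h * b * h⁻¹ ∈ (Q : Subgroup G) ⊓ M := by rw [this]; exact hb₁Q
    exact (Subgroup.mem_inf.mp h2).2
  have hTmem : ∀ t : M, t ∈ (T : Subgroup M) ↔ (t : G) ∈ (Q : Subgroup G) := by
    intro t
    rw [← hQT]
    exact Subgroup.mem_comap
  have hd₁T : (⟨d₁, hd₁M⟩ : M) ∈ (T : Subgroup M) := (hTmem _).mpr hd₁Q
  refine ⟨⟨⟨⟨d₁, hd₁M⟩, hd₁T⟩, ?_⟩⟩
  rintro ⟨t, ht⟩
  have h1 : (t : G) ∈ Subgroup.zpowers d₁ := by
    rw [heq]; exact Subgroup.mem_inf.mpr ⟨(hTmem t).mp ht, t.2⟩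
  obtain ⟨k, hk⟩ := Subgroup.mem_zpowers_iff.mp h1
  refine ⟨k, ?_⟩
  apply Subtype.ext
  apply Subtype.ext
  simp only [Subgroup.coe_zpow]
  exact hk

end Cfsg.Agent.S3178
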