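import Mathlib
import Cfsg.Agent.Lib.Helper6.Conj
import Cfsg.Statements.S3180

set_option autoImplicit false
open Cfsg Cfsg.Agent.Lib.Helper6
open scoped commutatorElement

namespace Cfsg.Agent.S3180

/-- Let P be a Sylow p-subgroup of a finite group J and P₁ a subgroup of P that is weakly closed in P with respect to J. If J acts on a set and two points, each fixed by every element of P₁, lie in one J-orbit, then they lie in one orbit of the normalizer of P₁ in J. -/
theorem result {J : Type*} [Group J] [Finite J]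
    {p : ℕ} [Fact p.Prime] (P : Sylow p J) (P₁ : Subgroup J) (hW : Cfsg.IsWeaklyClosed P₁ (P : Subgroup J))
    {Ω : Type*} [MulAction J Ω] (x y : Ω) (hx : ∀ g ∈ P₁, g • x = x) (hy : ∀ g ∈ P₁, g • y = y)
    (hc : ∃ g : J, g • x = y) :
    ∃ g ∈ Subgroup.normalizer (P₁ : Set J), g • x = y := by
  obtain ⟨g, hg⟩ := hc
  obtain ⟨hP₁P, hwc⟩ := hW
  have hP₁p : IsPGroup p P₁ := P.isPGroup'.to_le hP₁P
  set S : Subgroup J := MulAction.stabilizer J y with hS
  have hA : P₁ ≤ S := fun a ha => hy a ha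
  have hB : P₁.map (MulAut.conj g).toMonoidHom ≤ S := by
    intro b hb
    rw [mem_map_conj] at hb
    show b • y = y
    have := hx _ hb
    rw [← hg]
    calc b • g • x = g • ((g⁻¹ * b * g) • x) := by simp [mul_smul]
      _ = g • x := by rw [this]
  -- Sylow subgroup of S containing P₁
  have hA'p : IsPGroup p (P₁.subgroupOf S) := hP₁p.comap_subtype
  obtain ⟨Q, hQ⟩ := hA'p.exists_le_sylow
  have hB'p : IsPGroup p ((P₁.map (MulAut.conj g).toMonoidHom).subgroupOf S) :=
    (hP₁p.map _).comap_subtype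
  obtain ⟨h, hh⟩ := exists_map_conj_le_sylow Q hB'p
  -- push Q to J
  have hQJp : IsPGroup p ((Q : Subgroup S).map S.subtype) := Q.isPGroup'.map _
  obtain ⟨k, hk⟩ := exists_map_conj_le_sylow P hQJp
  -- P₁ ≤ Q_J
  have h1 : P₁ ≤ (Q : Subgroup S).map S.subtype := by
    intro a ha
    exact ⟨⟨a, hA ha⟩, hQ (by rw [Subgroup.mem_subgroupOf]; exact ha), rfl⟩
  have h2 : P₁.map (MulAut.conj ((h : J) * g)).toMonoidHom ≤ (Q : Subgroup S).map S.subtype := by
    rw [← map_conj_map_conj]
    intro b hb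
    rw [mem_map_conj] at hb
    have hbS : b ∈ S := by
      have h3 := hB hb
      have := S.mul_mem (S.mul_mem h.2 h3) (S.inv_mem h.2)
      simpa [mul_assoc] using this
    refine ⟨⟨b, hbS⟩, hh ?_, rfl⟩
    rw [mem_map_conj, Subgroup.mem_subgroupOf]
    simpa using hb
  have h3 : P₁.map (MulAut.conj k).toMonoidHom ≤ P := (Subgroup.map_mono h1).trans hk
  have h4 : P₁.map (MulAut.conj (k * ((h : J) * g))).toMonoidHom ≤ P := by
    rw [← map_conj_map_conj]
    exact (Subgroup.map_mono h2).trans hk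
  have hk1 : k ∈ Subgroup.normalizer (P₁ : Set J) :=
    mem_normalizer_of_map_conj_eq_self (hwc k h3)
  have hk2 : k * ((h : J) * g) ∈ Subgroup.normalizer (P₁ : Set J) :=
    mem_normalizer_of_map_conj_eq_self (hwc _ h4)
  refine ⟨(h : J) * g, ?_, ?_⟩
  · have := Subgroup.mul_mem _ (Subgroup.inv_mem _ hk1) hk2
    simpa using this
  · rw [mul_smul, hg]
    exact h.2

end Cfsg.Agent.S3180
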