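import Mathlib
import Cfsg.Agent.Lib.Helper6.SylowIdx
import Cfsg.Agent.Lib.Helper6.Conj2
import Cfsg.Statements.S3183

set_option autoImplicit false
open Cfsg Cfsg.Agent.Lib.Helper6
open scoped commutatorElement

namespace Cfsg.Agent.S3183

theorem center_map_subtype' {G : Type*} [Group G] (U : Subgroup G) :
    (Subgroup.center ↥U).map U.subtype = U ⊓ Subgroup.centralizer (U : Set G) := by
  ext x
  constructor
  · rintro ⟨e, he, rfl⟩
    refine ⟨e.2, ?_⟩
    show (e : G) ∈ Subgroup.centralizer (U : Set G)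
    rw [Subgroup.mem_centralizer_iff]
    intro y hy
    exact congrArg Subtype.val (Subgroup.mem_center_iff.mp he ⟨y, hy⟩)
  · rintro ⟨hxU, hxC⟩
    refine ⟨⟨x, hxU⟩, ?_, rfl⟩
    show (⟨x, hxU⟩ : U) ∈ Subgroup.center U
    rw [Subgroup.mem_center_iff]
    intro y
    apply Subtype.ext
    exact Subgroup.mem_centralizer_iff.mp hxC y y.2

/-- an element of `N` whose order is prime to the index of the normal subgroup `K` of `N` lies in `K` -/
theorem mem_of_coprime_relIndex {G : Type*} [Group G] [Finite G] (K N : Subgroup G)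
    (hKN : K ≤ N) (hn : N ≤ Subgroup.normalizer (K : Set G)) {x : G} (hx : x ∈ N)
    (hcop : (orderOf x).Coprime (K.relIndex N)) : x ∈ K := by
  haveI : (K.subgroupOf N).Normal := Subgroup.normal_subgroupOf_of_le_normalizer hn
  have h0 : (⟨x, hx⟩ : N) ∈ K.subgroupOf N := by
    rw [← QuotientGroup.eq_one_iff, ← orderOf_eq_one_iff]
    have h1 : orderOf (QuotientGroup.mk (⟨x, hx⟩ : N) : ↥N ⧸ K.subgroupOf N) ∣ orderOf (⟨x, hx⟩ : N) :=
      orderOf_map_dvd (QuotientGroup.mk' (K.subgroupOf N)) _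
    have h1' : orderOf (⟨x, hx⟩ : N) = orderOf x := by
      rw [← Subgroup.orderOf_coe]
    rw [h1'] at h1
    have h2 : orderOf (QuotientGroup.mk (⟨x, hx⟩ : N) : ↥N ⧸ K.subgroupOf N) ∣ K.relIndex N := by
      rw [Subgroup.relIndex, Subgroup.index_eq_card]; exact orderOf_dvd_natCard _
    exact Nat.eq_one_of_dvd_coprimes hcop h1 h2
  exact Subgroup.mem_subgroupOf.mp h0



theorem normalizer_le_normalizer_centralizer' {G : Type*} [Group G] (E : Subgroup G) :
    Subgroup.normalizer (E : Set G) ≤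
      Subgroup.normalizer ((Subgroup.centralizer (E : Set G) : Subgroup G) : Set G) := by
  intro n hn
  have key : ∀ m ∈ Subgroup.normalizer (E : Set G), ∀ c ∈ Subgroup.centralizer (E : Set G),
      m * c * m⁻¹ ∈ Subgroup.centralizer (E : Set G) := by
    intro m hm c hc
    rw [Subgroup.mem_centralizer_iff] at hc ⊢
    intro e he
    have he' : m⁻¹ * e * m ∈ E := by
      have := (Subgroup.mem_normalizer_iff.mp (Subgroup.inv_mem _ hm) e).mp he
      simpa using this
    have := hc _ he'
    calc e * (m * c * m⁻¹) = m * ((m⁻¹ * e * m) * c) * m⁻¹ := by group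
      _ = m * (c * (m⁻¹ * e * m)) * m⁻¹ := by rw [this]
      _ = m * c * m⁻¹ * e := by group
  rw [Subgroup.mem_normalizer_iff]
  intro c
  constructor
  · intro hc
    exact key n hn c hc
  · intro hc
    have := key n⁻¹ (Subgroup.inv_mem _ hn) _ hc
    simpa [mul_assoc] using this

theorem inter_le_center {G : Type*} [Group G] [Finite G]
    (hCI : ∀ S T : Sylow 2 G, S ≠ T → ∃ U : Sylow 2 G, (S : Subgroup G) ⊓ (T : Subgroup G) ≤
      (U : Subgroup G) ⊓ Subgroup.centralizer ((U : Subgroup G) : Set G))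
    (S T : Sylow 2 G) (hST : S ≠ T) :
    (S : Subgroup G) ⊓ (T : Subgroup G) ≤
      (S : Subgroup G) ⊓ Subgroup.centralizer ((S : Subgroup G) : Set G) := by
  classical
  haveI : Fact (Nat.Prime 2) := ⟨Nat.prime_two⟩
  haveI : Nonempty {R : Sylow 2 G // R ≠ S ∧ (S : Subgroup G) ⊓ (T : Subgroup G) ≤ (R : Subgroup G)} :=
    ⟨⟨T, hST.symm, inf_le_right⟩⟩
  obtain ⟨⟨R, hRS, hDR⟩, hmax⟩ := Finite.exists_max
    (fun R : {R : Sylow 2 G // R ≠ S ∧ (S : Subgroup G) ⊓ (T : Subgroup G) ≤ (R : Subgroup G)} =>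
      Nat.card ↥((S : Subgroup G) ⊓ (R.1 : Subgroup G)))
  set E := (S : Subgroup G) ⊓ (R : Subgroup G) with hE
  obtain ⟨U, hU⟩ := hCI S R hRS.symm
  have hUC : (U : Subgroup G) ≤ Subgroup.centralizer (E : Set G) :=
    Subgroup.le_centralizer_iff.mp (hU.trans inf_le_right)
  have hCN : Subgroup.centralizer (E : Set G) ≤ Subgroup.normalizer (E : Set G) :=
    Subgroup.centralizer_le_normalizer _
  -- Claim A
  have hA : (S : Subgroup G) ⊓ Subgroup.normalizer (E : Set G) ≤ Subgroup.centralizer (E : Set G) := by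
    intro x hx
    apply mem_of_coprime_relIndex (Subgroup.centralizer (E : Set G)) (Subgroup.normalizer (E : Set G))
      hCN (normalizer_le_normalizer_centralizer' E) hx.2
    have hodd : ¬ 2 ∣ (Subgroup.centralizer (E : Set G)).relIndex (Subgroup.normalizer (E : Set G)) := by
      intro h2
      have h3 := h2.trans (Subgroup.relIndex_dvd_index_of_le hCN)
      have h4 := h3.trans (Subgroup.index_dvd_of_le hUC)
      exact U.not_dvd_index h4
    obtain ⟨k, hk⟩ := (IsPGroup.iff_orderOf.mp S.isPGroup') ⟨x, hx.1⟩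
    have hk' : orderOf x = 2 ^ k := by rw [← hk, Subgroup.orderOf_mk]
    rw [hk']
    exact Nat.Coprime.pow_left k ((Nat.Prime.coprime_iff_not_dvd Nat.prime_two).mpr hodd)
  -- E < S
  have hES : E < (S : Subgroup G) := by
    refine lt_of_le_of_ne inf_le_left ?_
    intro h
    have hSR : (S : Subgroup G) ≤ (R : Subgroup G) := by rw [← h]; exact inf_le_right
    have := S.is_maximal' R.isPGroup' hSR
    exact hRS (Sylow.ext this)
  obtain ⟨n, hnS, hnE, hnN⟩ := exists_mem_normalizer_not_mem hES S.isPGroup'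
  have hEP : E ≤ (S : Subgroup G) ⊓ Subgroup.normalizer (E : Set G) :=
    le_inf inf_le_left Subgroup.le_normalizer
  obtain ⟨c, hc, R', hR'N, hR'p, hPR', hUR'⟩ := exists_common_pGroup (Subgroup.normalizer (E : Set G))
    ((S : Subgroup G) ⊓ Subgroup.normalizer (E : Set G)) (U : Subgroup G) inf_le_right (hUC.trans hCN)
    (S.isPGroup'.to_le inf_le_left) U.isPGroup'
  obtain ⟨S', hS'⟩ := hR'p.exists_le_sylow
  have hcard : Nat.card ↥(S' : Subgroup G) ≤ Nat.card ↥R' := by
    calc Nat.card ↥(S' : Subgroup G) = Nat.card ↥(U : Subgroup G) := by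
          rw [Sylow.card_eq_multiplicity, Sylow.card_eq_multiplicity]
      _ = Nat.card ↥((U : Subgroup G).map (MulAut.conj c).toMonoidHom) := (card_map_conj _ _).symm
      _ ≤ Nat.card ↥R' := Subgroup.card_le_of_le hUR'
  have hR'S' : R' = (S' : Subgroup G) := Subgroup.eq_of_le_of_card_ge hS' hcard
  have hS'S : S' = S := by
    by_contra hne
    have hDS' : (S : Subgroup G) ⊓ (T : Subgroup G) ≤ (S' : Subgroup G) :=
      (le_inf inf_le_left hDR).trans (hEP.trans (hPR'.trans hS'))
    have h1 := hmax ⟨S', hne, hDS'⟩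
    simp only at h1
    have h2 : (S : Subgroup G) ⊓ Subgroup.normalizer (E : Set G) ≤ (S : Subgroup G) ⊓ (S' : Subgroup G) :=
      le_inf inf_le_left (hPR'.trans hS')
    have h3 : Nat.card ↥((S : Subgroup G) ⊓ Subgroup.normalizer (E : Set G)) ≤ Nat.card ↥E :=
      (Subgroup.card_le_of_le h2).trans h1
    have h4 := Subgroup.eq_of_le_of_card_ge hEP h3
    apply hnE
    rw [h4]
    exact ⟨hnS, hnN⟩
  have hSN : (S : Subgroup G) ≤ Subgroup.normalizer (E : Set G) := by
    rw [← hS'S, ← hR'S']; exact hR'N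
  have hSC : (S : Subgroup G) ≤ Subgroup.centralizer (E : Set G) := fun x hx => hA ⟨hx, hSN hx⟩
  exact (le_inf inf_le_left hDR).trans (le_inf inf_le_left (Subgroup.le_centralizer_iff.mp hSC))

/-- Let G be a finite group in which the intersection of any two distinct Sylow 2-subgroups is contained in the centre of some Sylow 2-subgroup, and let S be a Sylow 2-subgroup. Then for every x in S the centralizer of x in S is a Sylow 2-subgroup of the centralizer of x in G (no 2-subgroup centralizing x is larger), and for every other Sylow 2-subgroup T the intersection S ∩ T lies in both the centre of S and the centre of T. -/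
theorem result {G : Type*} [Group G] [Finite G]
    (hCI : ∀ S T : Sylow 2 G, S ≠ T → ∃ U : Sylow 2 G,
      (S : Subgroup G) ⊓ (T : Subgroup G) ≤ (Subgroup.center ↥(U : Subgroup G)).map (U : Subgroup G).subtype)
    (S : Sylow 2 G) :
    (∀ x ∈ (S : Subgroup G), ∀ P : Subgroup G, IsPGroup 2 ↥P → P ≤ Subgroup.centralizer ({x} : Set G) →
        Nat.card ↥P ≤ Nat.card ↥((S : Subgroup G) ⊓ Subgroup.centralizer ({x} : Set G))) ∧
    (∀ T : Sylow 2 G, T ≠ S →
        (S : Subgroup G) ⊓ (T : Subgroup G) ≤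
          (Subgroup.center ↥(S : Subgroup G)).map (S : Subgroup G).subtype ⊓
            (Subgroup.center ↥(T : Subgroup G)).map (T : Subgroup G).subtype) := by
  classical
  haveI : Fact (Nat.Prime 2) := ⟨Nat.prime_two⟩
  have hCI' : ∀ S T : Sylow 2 G, S ≠ T → ∃ U : Sylow 2 G, (S : Subgroup G) ⊓ (T : Subgroup G) ≤
      (U : Subgroup G) ⊓ Subgroup.centralizer ((U : Subgroup G) : Set G) := by
    intro S T h
    obtain ⟨U, hU⟩ := hCI S T h
    exact ⟨U, by rw [← center_map_subtype']; exact hU⟩
  have h2 : ∀ S T : Sylow 2 G, T ≠ S → (S : Subgroup G) ⊓ (T : Subgroup G) ≤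
      (Subgroup.center ↥(S : Subgroup G)).map (S : Subgroup G).subtype ⊓
        (Subgroup.center ↥(T : Subgroup G)).map (T : Subgroup G).subtype := by
    intro S T hTS
    rw [center_map_subtype', center_map_subtype']
    refine le_inf (inter_le_center hCI' S T hTS.symm) ?_
    have := inter_le_center hCI' T S hTS
    rwa [inf_comm] at this
  refine ⟨?_, h2 S⟩
  intro x hx P hP hPC
  have hXp : IsPGroup 2 ↥(Subgroup.zpowers x) := S.isPGroup'.to_le (Subgroup.zpowers_le.mpr hx)
  have hXN : Subgroup.zpowers x ≤ Subgroup.normalizer (P : Set G) := by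
    refine le_trans ?_ (Subgroup.centralizer_le_normalizer _)
    rw [Subgroup.zpowers_le, Subgroup.mem_centralizer_iff]
    intro y hy
    exact (Subgroup.mem_centralizer_iff.mp (hPC hy) x rfl).symm
  have hsup : IsPGroup 2 ↥(Subgroup.zpowers x ⊔ P) := IsPGroup.to_sup_of_normal_right' hXp hP hXN
  obtain ⟨T, hT⟩ := hsup.exists_le_sylow
  by_cases hTS : T = S
  · apply Subgroup.card_le_of_le
    refine le_inf ?_ hPC
    rw [← hTS]
    exact le_sup_right.trans hT
  · have hxT : x ∈ (T : Subgroup G) := hT (Subgroup.mem_sup_left (Subgroup.mem_zpowers x))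
    have hxZ := h2 S T hTS ⟨hx, hxT⟩
    rw [center_map_subtype'] at hxZ
    have hSC : (S : Subgroup G) ≤ Subgroup.centralizer ({x} : Set G) := by
      intro s hs
      rw [Subgroup.mem_centralizer_iff]
      intro y hy
      have hyx : y = x := hy
      rw [hyx]
      exact (Subgroup.mem_centralizer_iff.mp hxZ.1.2 s hs).symm
    rw [inf_eq_left.mpr hSC]
    calc Nat.card ↥P ≤ Nat.card ↥(T : Subgroup G) := Subgroup.card_le_of_le (le_sup_right.trans hT)
      _ = Nat.card ↥(S : Subgroup G) := by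
        rw [Sylow.card_eq_multiplicity, Sylow.card_eq_multiplicity]

end Cfsg.Agent.S3183
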