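import Mathlib
import Cfsg.Agent.Lib.Helper6.PGroupFix
import Cfsg.Agent.Lib.Helper6.Conj2
import Cfsg.Agent.Lib.Lead.Coprime
import Cfsg.Agent.Lib.Lead.CoprimeAction3
import Cfsg.Statements.S3190

set_option autoImplicit false
open Cfsg Cfsg.Agent.Lib.Helper6
open scoped commutatorElement

namespace Cfsg.Agent.S3190

/-- Let p be an odd prime and, inside a finite group, let P be a p-subgroup normalized by a Klein four-group T. Let R be a subgroup of P, normal in P and normalized by T, such that P is the product of R with the centralizer of T in P. If T centralizes the centre of P, then T centralizes the centre of R. -/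
theorem result {X : Type*} [Group X] [Finite X]
    {p : ℕ} (hp : p.Prime) (hodd : Odd p) (P T R : Subgroup X) (hP : IsPGroup p ↥P) (hT : IsKleinFour ↥T)
    (hTP : T ≤ Subgroup.normalizer (P : Set X)) (hRP : R ≤ P) (hRn : (R.subgroupOf P).Normal)
    (hTR : T ≤ Subgroup.normalizer (R : Set X)) (hfac : R ⊔ (P ⊓ Subgroup.centralizer (T : Set X)) = P)
    (hZ : T ≤ Subgroup.centralizer (((Subgroup.center ↥P).map P.subtype : Subgroup X) : Set X)) :
    T ≤ Subgroup.centralizer (((Subgroup.center ↥R).map R.subtype : Subgroup X) : Set X) := by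
  haveI : Fact p.Prime := ⟨hp⟩
  set Z := (Subgroup.center ↥R).map R.subtype with hZdef
  have hZmem : ∀ x, x ∈ Z ↔ x ∈ R ∧ ∀ r ∈ R, r * x = x * r := fun x => mem_map_subtype_center
  have hZR : Z ≤ R := fun x hx => ((hZmem x).mp hx).1
  have hZP : Z ≤ P := hZR.trans hRP
  haveI hZc : IsMulCommutative Z :=
    ⟨⟨fun a b => Subtype.ext (((hZmem b.1).mp b.2).2 a.1 (hZR a.2))⟩⟩
  have hNZ : Subgroup.normalizer (R : Set X) ≤ Subgroup.normalizer (Z : Set X) := by
    intro g hg
    apply mem_normalizer_of_forall_conj_mem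
    intro z hz
    obtain ⟨hzR, hzc⟩ := (hZmem z).mp hz
    rw [hZmem]
    refine ⟨(Subgroup.mem_normalizer_iff.mp hg z).mp hzR, ?_⟩
    intro r hr
    have hr' : g⁻¹ * r * g ∈ R := by
      have := (Subgroup.mem_normalizer_iff.mp (inv_mem hg) r).mp hr
      simpa using this
    have := hzc _ hr'
    calc r * (g * z * g⁻¹) = g * ((g⁻¹ * r * g) * z) * g⁻¹ := by group
      _ = g * (z * (g⁻¹ * r * g)) * g⁻¹ := by rw [this]
      _ = g * z * g⁻¹ * r := by group
  have hTZ : T ≤ Subgroup.normalizer (Z : Set X) := hTR.trans hNZ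
  have hPR : P ≤ Subgroup.normalizer (R : Set X) :=
    (Subgroup.normal_subgroupOf_iff_le_normalizer hRP).mp hRn
  have hcop : (Nat.card T).Coprime (Nat.card Z) := by
    rw [hT.card_four]
    obtain ⟨k, hk⟩ := (hP.to_le hZP).exists_card_eq
    rw [hk]
    apply Nat.Coprime.pow_right
    have : Nat.Coprime (2 ^ 2) p := Nat.Coprime.pow_left 2 (Nat.coprime_two_left.mpr hodd)
    exact this
  obtain ⟨hd, -⟩ := Cfsg.Agent.Lib.Lead.coprime_abelian_decomp T Z hTZ hcop
  have hUZ : ⁅Z, T⁆ ≤ Z := Cfsg.Agent.Lib.Lead.commutator_le_left_of_le_normalizer Z T hTZ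
  suffices hU : ⁅Z, T⁆ = ⊥ by
    rw [Subgroup.le_centralizer_iff]
    exact Subgroup.commutator_eq_bot_iff_le_centralizer.mp hU
  by_contra hUne
  have hCP : P ⊓ Subgroup.centralizer (T : Set X) ≤ P := inf_le_left
  have hCU : P ⊓ Subgroup.centralizer (T : Set X) ≤ Subgroup.normalizer ((⁅Z, T⁆ : Subgroup X) : Set X) := by
    refine le_trans ?_ (Cfsg.Agent.Lib.Lead.normalizer_inf_le_normalizer_commutator Z T)
    refine le_inf ((hCP.trans hPR).trans hNZ) ?_
    exact inf_le_right.trans (Subgroup.centralizer_le_normalizer (T : Set X))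
  obtain ⟨u, huU, hu1, huC⟩ := exists_ne_one_mem_centralizer_of_pgroups p ⁅Z, T⁆
    (P ⊓ Subgroup.centralizer (T : Set X)) (hP.to_le (hUZ.trans hZP)) (hP.to_le hCP) hCU hUne
  have huZ : u ∈ Z := hUZ huU
  obtain ⟨huR, huc⟩ := (hZmem u).mp huZ
  have hPu : P ≤ Subgroup.centralizer ({u} : Set X) := by
    rw [← hfac]
    apply sup_le
    · intro r hr
      rw [Subgroup.mem_centralizer_iff]
      intro y hy
      have : y = u := hy
      rw [this]
      exact (huc r hr).symm
    · intro c hc
      rw [Subgroup.mem_centralizer_iff]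
      intro y hy
      have : y = u := hy
      rw [this]
      exact ((Subgroup.mem_centralizer_iff.mp huC) c hc).symm
  have huZP : u ∈ (Subgroup.center ↥P).map P.subtype := by
    rw [mem_map_subtype_center]
    refine ⟨hRP huR, fun x hx => ?_⟩
    have := Subgroup.mem_centralizer_iff.mp (hPu hx) u rfl
    exact this.symm
  have huT : u ∈ Subgroup.centralizer (T : Set X) := by
    rw [Subgroup.mem_centralizer_iff]
    intro t ht
    have := Subgroup.mem_centralizer_iff.mp (hZ ht) u huZP
    exact this.symm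
  have : u ∈ (Z ⊓ Subgroup.centralizer (T : Set X)) ⊓ ⁅Z, T⁆ := ⟨⟨huZ, huT⟩, huU⟩
  rw [hd, Subgroup.mem_bot] at this
  exact hu1 this

end Cfsg.Agent.S3190
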