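import Mathlib
import Cfsg.Agent.Lib.Helper6.PCore
import Cfsg.Agent.S0200
import Cfsg.Statements.S3195

set_option autoImplicit false
open Cfsg Cfsg.Agent.Lib.Helper6
open scoped commutatorElement

namespace Cfsg.Agent.S3195

theorem eq_one_of_odd_of_pow_four {G : Type*} [Group G] {x : G} (hodd : Odd (orderOf x))
    (h4 : x ^ 4 = 1) : x = 1 := by
  have h1 : orderOf x ∣ 4 := orderOf_dvd_of_pow_eq_one h4
  have h2 : Nat.Coprime (orderOf x) 4 := by
    have : Nat.Coprime (orderOf x) 2 := Nat.coprime_two_right.mpr hodd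
    exact Nat.Coprime.pow_right 2 this
  have h3 : orderOf x = 1 := Nat.Coprime.eq_one_of_dvd h2 h1
  exact orderOf_eq_one_iff.mp h3

theorem sq_eq_one_of_odd_conj_inv {G : Type*} [Group G] {W U : G} (hodd : Odd (orderOf W))
    (h : W * U * W⁻¹ = U⁻¹) : U * U = 1 := by
  have key : ∀ n : ℕ, W ^ n * U * (W ^ n)⁻¹ = if Even n then U else U⁻¹ := by
    intro n
    induction n with
    | zero => simp
    | succ n ih =>
      have e : W ^ (n + 1) * U * (W ^ (n + 1))⁻¹ = W * (W ^ n * U * (W ^ n)⁻¹) * W⁻¹ := by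
        rw [pow_succ']; group
      rw [e, ih]
      by_cases hn : Even n
      · have : ¬ Even (n + 1) := by rw [Nat.even_add_one]; exact not_not.mpr hn
        rw [if_pos hn, if_neg this, h]
      · have : Even (n + 1) := by rw [Nat.even_add_one]; exact hn
        rw [if_neg hn, if_pos this]
        have : W * U⁻¹ * W⁻¹ = (W * U * W⁻¹)⁻¹ := by group
        rw [this, h, inv_inv]
  have h1 := key (orderOf W)
  rw [pow_orderOf_eq_one, if_neg (Nat.not_even_iff_odd.mpr hodd)] at h1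
  simp only [one_mul, inv_one, mul_one] at h1
  calc U * U = U * U⁻¹ := by rw [← h1]
    _ = 1 := mul_inv_cancel U


/-- Let A be a Klein four-subgroup of a finite group G. If every G-conjugate of every involution of A commutes with some involution of A (its centralizer meets A nontrivially), then A meets the largest normal 2-subgroup O₂(G) nontrivially. -/
theorem result {G : Type*} [Group G] [Finite G]
    (A : Subgroup G) (hA : IsKleinFour ↥A)
    (h : ∀ a ∈ A, a ≠ 1 → ∀ g : G, A ⊓ Subgroup.centralizer ({g * a * g⁻¹} : Set G) ≠ ⊥) :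
    A ⊓ Cfsg.pCore 2 G ≠ ⊥ := by
  classical
  haveI : Fact (Nat.Prime 2) := ⟨Nat.prime_two⟩
  intro hbot
  have hsq : ∀ x ∈ A, x * x = 1 := by
    intro x hx
    have h1 : (⟨x, hx⟩ : A) * ⟨x, hx⟩ = 1 := IsKleinFour.mul_self (⟨x, hx⟩ : A)
    have h2 : x * x = ((1 : A) : G) := congrArg Subtype.val h1
    simpa using h2
  have hinv : ∀ x ∈ A, x⁻¹ = x := fun x hx => inv_eq_of_mul_eq_one_right (hsq x hx)
  have hcomm : ∀ x ∈ A, ∀ y ∈ A, x * y = y * x := by
    intro x hx y hy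
    have hc : IsMulCommutative A := IsKleinFour.isMulCommutative
    exact congrArg Subtype.val (hc.is_comm.comm ⟨x, hx⟩ ⟨y, hy⟩)
  have hthird : ∀ x ∈ A, ∀ y ∈ A, ∀ z ∈ A, x ≠ 1 → y ≠ 1 → x ≠ y → z ≠ 1 → z ≠ x → z ≠ y →
      z = x * y := by
    intro x hx y hy z hz hx1 hy1 hxy hz1 hzx hzy
    have := IsKleinFour.eq_mul_of_ne_all (G := A) (x := ⟨x, hx⟩) (y := ⟨y, hy⟩) (z := ⟨z, hz⟩)
      (fun h => hx1 (congrArg Subtype.val h)) (fun h => hy1 (congrArg Subtype.val h))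
      (fun h => hxy (congrArg Subtype.val h)) (fun h => hz1 (congrArg Subtype.val h))
      (fun h => hzx (congrArg Subtype.val h)) (fun h => hzy (congrArg Subtype.val h))
    exact congrArg Subtype.val this
  have hnot : ∀ x ∈ A, x ≠ 1 → x ∉ Cfsg.pCore 2 G := by
    intro x hx hx1 hxO
    have : x ∈ A ⊓ Cfsg.pCore 2 G := Subgroup.mem_inf.mpr ⟨hx, hxO⟩
    rw [hbot, Subgroup.mem_bot] at this
    exact hx1 this
  -- the hypothesis in terms of inverted elements
  have hH : ∀ x ∈ A, x ≠ 1 → ∀ u : G, Odd (orderOf u) → x * u * x⁻¹ = u⁻¹ →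
      ∃ y ∈ A, y ≠ 1 ∧ y * u = u * y := by
    intro x hx hx1 u hu hinvu
    obtain ⟨j, hj⟩ := hu
    have hun : u ^ (2 * j + 1) = 1 := by rw [← hj]; exact pow_orderOf_eq_one u
    have hconj : u ^ j * x * (u ^ j)⁻¹ = x * u := by
      have e1 : x * (u ^ j) * x⁻¹ = (u ^ j)⁻¹ := by
        rw [← conj_pow, hinvu, inv_pow]
      have e2 : (u ^ j) * x = x * (u ^ j)⁻¹ := by
        have : x * (u ^ j)⁻¹ = x * (x * (u ^ j) * x⁻¹) := by rw [e1]
        rw [this, hinv x hx]
        have hxx := hsq x hx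
        calc u ^ j * x = (x * x) * u ^ j * x := by rw [hxx, one_mul]
          _ = x * (x * u ^ j * x) := by group
      rw [e2]
      have : (u ^ j)⁻¹ * (u ^ j)⁻¹ = u := by
        have h3 : u ^ j * u ^ j * u = 1 := by rw [← pow_add, ← pow_succ, ← two_mul]; exact hun
        have h4 : u = (u ^ j * u ^ j)⁻¹ := by
          rw [eq_comm, inv_eq_iff_mul_eq_one]; exact h3
        nth_rewrite 3 [h4]; group
      rw [mul_assoc, this]
    have hne := h x hx hx1 (u ^ j)
    rw [hconj] at hne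
    obtain ⟨⟨y, hy⟩, hy1⟩ := (Subgroup.ne_bot_iff_exists_ne_one).mp hne
    obtain ⟨hyA, hyC⟩ := Subgroup.mem_inf.mp hy
    refine ⟨y, hyA, fun h0 => hy1 (Subtype.ext h0), ?_⟩
    rw [Subgroup.mem_centralizer_iff] at hyC
    have h5 : (x * u) * y = y * (x * u) := hyC _ rfl
    have h6 : x * (u * y) = x * (y * u) := by
      rw [← mul_assoc, h5, ← mul_assoc, hcomm y hyA x hx, mul_assoc]
    exact (mul_left_cancel h6).symm
  -- each nonidentity element of `A` inverts a nontrivial odd-order element centralized by another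
  have hstep : ∀ x ∈ A, x ≠ 1 → ∃ u : G, u ≠ 1 ∧ Odd (orderOf u) ∧ x * u * x⁻¹ = u⁻¹ ∧
      ∃ y ∈ A, y ≠ 1 ∧ y ≠ x ∧ y * u = u * y := by
    intro x hx hx1
    have hx2 : orderOf x = 2 := by
      apply orderOf_eq_prime
      · rw [pow_two]; exact hsq x hx
      · exact hx1
    obtain ⟨u, hu1, huodd, huinv⟩ := Cfsg.Agent.S0200.result x hx2 (by
      intro N hN hNp hxN
      exact hnot x hx hx1 (le_pCore hN hNp hxN))
    obtain ⟨y, hyA, hy1, hyu⟩ := hH x hx hx1 u huodd huinv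
    refine ⟨u, hu1, huodd, huinv, y, hyA, hy1, ?_, hyu⟩
    rintro rfl
    -- `y` both inverts and centralizes `u`
    have h7 : u = u⁻¹ := by
      rw [← huinv, hyu]; group
    have h8 : u ^ 2 = 1 := by
      rw [pow_two]; nth_rewrite 1 [h7]; exact inv_mul_cancel u
    have h9 : orderOf u ∣ 2 := orderOf_dvd_of_pow_eq_one h8
    rcases (Nat.dvd_prime Nat.prime_two).mp h9 with h10 | h10
    · exact hu1 (orderOf_eq_one_iff.mp h10)
    · rw [h10] at huodd; exact absurd huodd (by decide)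
  -- the key computation
  have key : ∀ a ∈ A, ∀ b ∈ A, a ≠ 1 → b ≠ 1 → a ≠ b → ∀ u w : G, Odd (orderOf u) →
      Odd (orderOf w) → u ≠ 1 → w ≠ 1 → a * u * a⁻¹ = u⁻¹ → a * w = w * a → b * u = u * b →
      b * w * b⁻¹ = w⁻¹ → w⁻¹ ^ 2 * u⁻¹ ^ 2 * w⁻¹ ^ 2 = u ^ 2 := by
    intro a ha b hb ha1 hb1 hab u w huodd hwodd hu1 hw1 hau haw hbu hbw
    have hai := hinv a ha
    have hbi := hinv b hb
    have hcA : a * b ∈ A := A.mul_mem ha hb
    have hc1 : a * b ≠ 1 := by
      intro h0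
      apply hab
      have := eq_inv_of_mul_eq_one_left h0
      rw [this, hbi]
    have hca : a * b ≠ a := by
      intro h0
      apply hb1
      have : a * b = a * 1 := by rw [h0, mul_one]
      exact mul_left_cancel this
    have hcb : a * b ≠ b := by
      intro h0
      apply ha1
      have : a * b = 1 * b := by rw [h0, one_mul]
      exact mul_right_cancel this
    have hau' : a * u⁻¹ * a⁻¹ = u := by
      have : a * u⁻¹ * a⁻¹ = (a * u * a⁻¹)⁻¹ := by group
      rw [this, hau, inv_inv]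
    have haw' : a * w⁻¹ * a⁻¹ = w⁻¹ := by
      have : a * w⁻¹ * a⁻¹ = (a * w * a⁻¹)⁻¹ := by group
      rw [this, haw]; group
    have hbu' : b * u⁻¹ * b⁻¹ = u⁻¹ := by
      have : b * u⁻¹ * b⁻¹ = (b * u * b⁻¹)⁻¹ := by group
      rw [this, hbu]; group
    have hbw' : b * w⁻¹ * b⁻¹ = w := by
      have : b * w⁻¹ * b⁻¹ = (b * w * b⁻¹)⁻¹ := by group
      rw [this, hbw, inv_inv]
    -- `c = a * b` inverts `u` and `w`
    have hcu : (a * b) * u * (a * b)⁻¹ = u⁻¹ := by
      have : (a * b) * u * (a * b)⁻¹ = a * (b * u * b⁻¹) * a⁻¹ := by group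
      rw [this, hbu]
      have : a * (u * b * b⁻¹) * a⁻¹ = a * u * a⁻¹ := by group
      rw [this, hau]
    have hcw : (a * b) * w * (a * b)⁻¹ = w⁻¹ := by
      have : (a * b) * w * (a * b)⁻¹ = a * (b * w * b⁻¹) * a⁻¹ := by group
      rw [this, hbw, haw']
    set c := a * b with hc
    have hci := hinv c hcA
    set r := u⁻¹ * w⁻¹ * w⁻¹ * u⁻¹ with hr
    have hconj : (u * w) * c * (u * w)⁻¹ = c * r := by
      have e1 : (u * w) * c = c * (c * u * c⁻¹) * (c * w * c⁻¹) := by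
        rw [hci]
        have hcc := hsq c hcA
        calc u * w * c = (c * c) * u * (c * c) * w * c := by rw [hcc]; group
          _ = c * (c * u * c) * (c * w * c) := by group
      rw [e1, hcu, hcw, hr]; group
    have hne := h c hcA hc1 (u * w)
    rw [hconj] at hne
    obtain ⟨⟨y, hy⟩, hy1⟩ := (Subgroup.ne_bot_iff_exists_ne_one).mp hne
    obtain ⟨hyA, hyC⟩ := Subgroup.mem_inf.mp hy
    have hy1' : y ≠ 1 := fun h0 => hy1 (Subtype.ext h0)
    rw [Subgroup.mem_centralizer_iff] at hyC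
    have h5 : (c * r) * y = y * (c * r) := hyC _ rfl
    have hyr : y * r * y⁻¹ = r := by
      have h6 : c * (r * y) = c * (y * r) := by
        rw [← mul_assoc, h5, ← mul_assoc, hcomm y hyA c hcA, mul_assoc]
      have h7 := mul_left_cancel h6
      rw [← h7]; group
    -- the three cases for `y`
    by_cases hya : y = a
    · exfalso
      rw [hya] at hyr
      have e : a * r * a⁻¹ = u * w⁻¹ * w⁻¹ * u := by
        have : a * r * a⁻¹ = (a * u⁻¹ * a⁻¹) * (a * w⁻¹ * a⁻¹) * (a * w⁻¹ * a⁻¹) * (a * u⁻¹ * a⁻¹) := by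
          rw [hr]; group
        rw [this, hau', haw']
      rw [e, hr] at hyr
      -- conjugation by `w * w` inverts `u * u`
      have e2 : (w * w) * (u * u) * (w * w)⁻¹ = (u * u)⁻¹ := by
        have : (w * w) * (u * u) * (w * w)⁻¹
            = (w * w) * (u * (u * w⁻¹ * w⁻¹ * u) * u) * (u * u)⁻¹ := by group
        rw [this, hyr]; group
      have hww : Odd (orderOf (w * w)) := by
        rw [← pow_two]
        exact Odd.of_dvd_nat hwodd (orderOf_pow_dvd 2)
      have e3 := sq_eq_one_of_odd_conj_inv hww e2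
      apply hu1
      apply eq_one_of_odd_of_pow_four huodd
      calc u ^ 4 = (u * u) * (u * u) := by rw [show (4:ℕ) = 2 + 2 from rfl, pow_add, pow_two]
        _ = 1 := e3
    · by_cases hyb : y = b
      · exfalso
        rw [hyb] at hyr
        have e : b * r * b⁻¹ = u⁻¹ * w * w * u⁻¹ := by
          have : b * r * b⁻¹ = (b * u⁻¹ * b⁻¹) * (b * w⁻¹ * b⁻¹) * (b * w⁻¹ * b⁻¹) * (b * u⁻¹ * b⁻¹) := by
            rw [hr]; group
          rw [this, hbu', hbw']
        rw [e, hr] at hyr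
        apply hw1
        apply eq_one_of_odd_of_pow_four hwodd
        have : w * w = w⁻¹ * w⁻¹ := by
          have : w * w = u * (u⁻¹ * w * w * u⁻¹) * u := by group
          rw [this, hyr]; group
        calc w ^ 4 = (w * w) * (w * w) := by rw [show (4:ℕ) = 2 + 2 from rfl, pow_add, pow_two]
          _ = (w⁻¹ * w⁻¹) * (w * w) := by rw [this]
          _ = 1 := by group
      · have hyc : y = c := hthird a ha b hb y hyA ha1 hb1 hab hy1' hya hyb
        rw [hyc] at hyr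
        have e : c * r * c⁻¹ = r⁻¹ := by
          have hcu' : c * u⁻¹ * c⁻¹ = u := by
            have : c * u⁻¹ * c⁻¹ = (c * u * c⁻¹)⁻¹ := by group
            rw [this, hcu, inv_inv]
          have hcw' : c * w⁻¹ * c⁻¹ = w := by
            have : c * w⁻¹ * c⁻¹ = (c * w * c⁻¹)⁻¹ := by group
            rw [this, hcw, inv_inv]
          have : c * r * c⁻¹ = (c * u⁻¹ * c⁻¹) * (c * w⁻¹ * c⁻¹) * (c * w⁻¹ * c⁻¹) * (c * u⁻¹ * c⁻¹) := by
            rw [hr]; group
          rw [this, hcu', hcw', hr]; simp [mul_assoc]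
        rw [e] at hyr
        have hrr : r * r = 1 := by
          calc r * r = r * r⁻¹ := by rw [hyr]
            _ = 1 := mul_inv_cancel r
        have : w⁻¹ ^ 2 * u⁻¹ ^ 2 * w⁻¹ ^ 2 = u * (r * r) * u := by
          rw [hr]; simp only [pow_two]; group
        rw [this, hrr, mul_one, pow_two]
  -- choose the configuration
  obtain ⟨x₁, hx₁A, hx₁1⟩ : ∃ x ∈ A, x ≠ 1 := by
    obtain ⟨⟨x, hx⟩, hx1⟩ : ∃ x : A, x ≠ 1 := by
      haveI : Nontrivial A := by
        rw [← Finite.one_lt_card_iff_nontrivial, IsKleinFour.card_four]; norm_num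
      exact exists_ne 1
    exact ⟨x, hx, fun h0 => hx1 (Subtype.ext h0)⟩
  obtain ⟨h₁, hh₁1, hh₁odd, hh₁inv, b, hbA, hb1, hbx, hbh₁⟩ := hstep x₁ hx₁A hx₁1
  obtain ⟨k, hk1, hkodd, hkinv, a, haA, ha1, hab, hak⟩ := hstep b hbA hb1
  -- `a` inverts `h₁`
  have hah : a * h₁ * a⁻¹ = h₁⁻¹ := by
    by_cases hax : a = x₁
    · rw [hax]; exact hh₁inv
    · have : a = x₁ * b := hthird x₁ hx₁A b hbA a haA hx₁1 hb1 (Ne.symm hbx) ha1 hax hab
      rw [this]
      have : (x₁ * b) * h₁ * (x₁ * b)⁻¹ = x₁ * (b * h₁ * b⁻¹) * x₁⁻¹ := by group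
      rw [this, hbh₁]
      have : x₁ * (h₁ * b * b⁻¹) * x₁⁻¹ = x₁ * h₁ * x₁⁻¹ := by group
      rw [this, hh₁inv]
  have Q1 := key a haA b hbA ha1 hb1 hab h₁ k hh₁odd hkodd hh₁1 hk1 hah hak hbh₁ hkinv
  have Q2 := key a haA b hbA ha1 hb1 hab h₁ (k ^ 2) hh₁odd
    (Odd.of_dvd_nat hkodd (orderOf_pow_dvd 2))
    hh₁1 (by
      intro h0
      have h9 : orderOf k ∣ 2 := orderOf_dvd_of_pow_eq_one h0
      rcases (Nat.dvd_prime Nat.prime_two).mp h9 with h10 | h10
      · exact hk1 (orderOf_eq_one_iff.mp h10)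
      · rw [h10] at hkodd; exact absurd hkodd (by decide))
    hah (by rw [pow_two, ← mul_assoc, hak, mul_assoc, hak, mul_assoc]) hbh₁
    (by rw [← conj_pow, hkinv, inv_pow])
  have Q3 := key a haA b hbA ha1 hb1 hab h₁⁻¹ k (by rw [orderOf_inv]; exact hh₁odd) hkodd
    (by simpa using hh₁1) hk1
    (by
      have : a * h₁⁻¹ * a⁻¹ = (a * h₁ * a⁻¹)⁻¹ := by group
      rw [this, hah])
    hak
    (by
      have : b * h₁⁻¹ = (h₁ * b⁻¹)⁻¹ := by group
      have e2 : h₁ * b⁻¹ = b⁻¹ * h₁ := by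
        calc h₁ * b⁻¹ = b⁻¹ * (b * h₁) * b⁻¹ := by group
          _ = b⁻¹ * (h₁ * b) * b⁻¹ := by rw [hbh₁]
          _ = b⁻¹ * h₁ := by group
      rw [this, e2]; group)
    hkinv
  apply hh₁1
  apply eq_one_of_odd_of_pow_four hh₁odd
  have e1 : h₁ ^ 2 = (k⁻¹ ^ 2) * ((k⁻¹ ^ 2) * h₁⁻¹ ^ 2 * (k⁻¹ ^ 2)) * (k⁻¹ ^ 2) := by
    rw [← Q2]; group
  rw [Q1] at e1
  have e2 : h₁ ^ 2 = (h₁⁻¹) ^ 2 := by
    rw [e1, ← Q3]; group
  calc h₁ ^ 4 = h₁ ^ 2 * h₁ ^ 2 := by group
    _ = h₁⁻¹ ^ 2 * h₁ ^ 2 := by rw [← e2]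
    _ = 1 := by group

end Cfsg.Agent.S3195
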