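import Mathlib
import Cfsg.Statements.S3196

set_option autoImplicit false
open Cfsg

namespace Cfsg.Agent.S3196

open scoped commutatorElement

section helpers
open scoped Pointwise

variable {G : Type*} [Group G]

/-- two subgroups commute elementwise -/
def Comm (X Y : Subgroup G) : Prop := ∀ x ∈ X, ∀ y ∈ Y, x * y = y * x

theorem comm_iff_le {X Y : Subgroup G} : Comm X Y ↔ X ≤ Subgroup.centralizer (Y : Set G) := by
  constructor
  · intro h x hx
    rw [Subgroup.mem_centralizer_iff]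
    intro y hy
    exact (h x hx y hy).symm
  · intro h x hx y hy
    have := Subgroup.mem_centralizer_iff.mp (h hx) y hy
    exact this.symm

theorem Comm.symm {X Y : Subgroup G} (h : Comm X Y) : Comm Y X :=
  fun y hy x hx => (h x hx y hy).symm

theorem Comm.sup_left {A B C : Subgroup G} (h1 : Comm A C) (h2 : Comm B C) : Comm (A ⊔ B) C := by
  rw [comm_iff_le] at *
  exact sup_le h1 h2

theorem Comm.sup_right {A B C : Subgroup G} (h1 : Comm C A) (h2 : Comm C B) : Comm C (A ⊔ B) :=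
  (Comm.sup_left h1.symm h2.symm).symm

theorem Comm.mono_left {A B C : Subgroup G} (h : Comm B C) (hAB : A ≤ B) : Comm A C :=
  fun a ha c hc => h a (hAB ha) c hc

theorem Comm.mono_right {A B C : Subgroup G} (h : Comm C B) (hAB : A ≤ B) : Comm C A :=
  fun c hc a ha => h c hc a (hAB ha)

/-- a subgroup of prime order is commutative -/
theorem comm_self {p : ℕ} (hp : p.Prime) {X : Subgroup G} (hX : Nat.card X = p) : Comm X X := by
  haveI : Fact p.Prime := ⟨hp⟩
  haveI : IsCyclic X := isCyclic_of_prime_card hX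
  intro x hx y hy
  have := (IsCyclic.isMulCommutative (α := X)).is_comm.comm (⟨x, hx⟩ : X) ⟨y, hy⟩
  exact congrArg Subtype.val this

theorem pow_eq_one_of_card {p : ℕ} {X : Subgroup G} (hX : Nat.card X = p) {x : G} (hx : x ∈ X) :
    x ^ p = 1 := by
  have h1 : (⟨x, hx⟩ : X) ^ Nat.card X = 1 := pow_card_eq_one'
  rw [hX] at h1
  have := congrArg Subtype.val h1
  simpa using this

/-- distinct subgroups of prime order meet trivially -/
theorem inf_eq_bot_of_ne [Finite G] {p : ℕ} (hp : p.Prime) {X Y : Subgroup G} (hX : Nat.card X = p)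
    (hY : Nat.card Y = p) (hne : X ≠ Y) : X ⊓ Y = ⊥ := by
  have h1 : Nat.card (X ⊓ Y : Subgroup G) ∣ p := by
    rw [← hX]; exact Subgroup.card_dvd_of_le inf_le_left
  rcases (Nat.dvd_prime hp).mp h1 with h | h
  · exact Subgroup.card_eq_one.mp h
  · exfalso
    apply hne
    have hXle : X ⊓ Y = X := Subgroup.eq_of_le_of_card_ge inf_le_left (by rw [h, hX])
    have hYle : X ⊓ Y = Y := Subgroup.eq_of_le_of_card_ge inf_le_right (by rw [h, hY])
    rw [← hXle]; exact hYle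

/-- every element of the join of two commuting subgroups of order `p` has `p`-th power `1` -/
theorem pow_eq_one_of_mem_sup {p : ℕ} {X Y : Subgroup G} (hX : Nat.card X = p)
    (hY : Nat.card Y = p) (hc : Comm X Y) {g : G} (hg : g ∈ X ⊔ Y) : g ^ p = 1 := by
  have hle : X ≤ Subgroup.normalizer (Y : Set G) :=
    (comm_iff_le.mp hc).trans (Subgroup.centralizer_le_normalizer _)
  have hset : ((X ⊔ Y : Subgroup G) : Set G) = X * Y :=
    Subgroup.coe_mul_of_left_le_normalizer_right X Y hle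
  have hg' : g ∈ ((X ⊔ Y : Subgroup G) : Set G) := hg
  rw [hset] at hg'
  obtain ⟨x, hx, y, hy, rfl⟩ := hg'
  have hcomm : Commute x y := hc x hx y hy
  rw [hcomm.mul_pow, pow_eq_one_of_card hX hx, pow_eq_one_of_card hY hy, one_mul]

/-- the join of two distinct commuting subgroups of order `p` has order `p²` -/
theorem card_sup [Finite G] {p : ℕ} (hp : p.Prime) {X Y : Subgroup G} (hX : Nat.card X = p)
    (hY : Nat.card Y = p) (hne : X ≠ Y) (hc : Comm X Y) : Nat.card (X ⊔ Y : Subgroup G) = p ^ 2 := by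
  haveI : Fact p.Prime := ⟨hp⟩
  have hle : X ≤ Subgroup.normalizer (Y : Set G) :=
    (comm_iff_le.mp hc).trans (Subgroup.centralizer_le_normalizer _)
  -- a `p`-group
  have hpg : IsPGroup p (X ⊔ Y : Subgroup G) := by
    intro g
    refine ⟨1, ?_⟩
    have := pow_eq_one_of_mem_sup hX hY hc g.2
    rw [pow_one]
    exact Subtype.ext (by simpa using this)
  obtain ⟨n, hn⟩ := IsPGroup.iff_card.mp hpg
  -- at most `p²` elements
  have hle2 : Nat.card (X ⊔ Y : Subgroup G) ≤ p ^ 2 := by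
    have hset : ((X ⊔ Y : Subgroup G) : Set G) = X * Y :=
      Subgroup.coe_mul_of_left_le_normalizer_right X Y hle
    let f : X × Y → (X ⊔ Y : Subgroup G) := fun q =>
      ⟨(q.1 : G) * (q.2 : G), Subgroup.mul_mem _ (Subgroup.mem_sup_left q.1.2) (Subgroup.mem_sup_right q.2.2)⟩
    have hf : Function.Surjective f := by
      rintro ⟨g, hg⟩
      have hg' : g ∈ ((X ⊔ Y : Subgroup G) : Set G) := hg
      rw [hset] at hg'
      obtain ⟨x, hx, y, hy, rfl⟩ := hg'
      exact ⟨(⟨x, hx⟩, ⟨y, hy⟩), rfl⟩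
    have := Nat.card_le_card_of_surjective f hf
    rw [Nat.card_prod, hX, hY] at this
    rw [pow_two]; exact this
  -- more than `p` elements
  have hlt : p < Nat.card (X ⊔ Y : Subgroup G) := by
    by_contra hcon
    push Not at hcon
    apply hne
    have h1 : X = X ⊔ Y := Subgroup.eq_of_le_of_card_ge le_sup_left (by rw [hX]; exact hcon)
    have h2 : Y = X ⊔ Y := Subgroup.eq_of_le_of_card_ge le_sup_right (by rw [hY]; exact hcon)
    rw [h1]; exact h2.symm
  rw [hn] at hle2 hlt ⊢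
  have h1 : 1 < n := by
    by_contra hcon
    push Not at hcon
    have : p ^ n ≤ p ^ 1 := Nat.pow_le_pow_right hp.pos hcon
    rw [pow_one] at this
    omega
  have h2 : n ≤ 2 := by
    by_contra hcon
    push Not at hcon
    have : p ^ 3 ≤ p ^ n := Nat.pow_le_pow_right hp.pos hcon
    have h3 : p ^ 2 < p ^ 3 := Nat.pow_lt_pow_right hp.one_lt (by norm_num)
    omega
  have : n = 2 := by omega
  rw [this]

/-- two distinct subgroups of order `p` of a line generate it -/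
theorem sup_eq_of_le [Finite G] {p : ℕ} (hp : p.Prime) {X Y Z₁ Z₂ : Subgroup G} (hX : Nat.card X = p)
    (hY : Nat.card Y = p) (hne : X ≠ Y) (hc : Comm X Y) (h1 : Nat.card Z₁ = p) (h2 : Nat.card Z₂ = p)
    (hne' : Z₁ ≠ Z₂) (hle1 : Z₁ ≤ X ⊔ Y) (hle2 : Z₂ ≤ X ⊔ Y) : Z₁ ⊔ Z₂ = X ⊔ Y := by
  have hcomm : Comm (X ⊔ Y) (X ⊔ Y) :=
    Comm.sup_left (Comm.sup_right (comm_self hp hX) hc) (Comm.sup_right hc.symm (comm_self hp hY))
  have hc' : Comm Z₁ Z₂ := (hcomm.mono_left hle1).mono_right hle2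
  apply Subgroup.eq_of_le_of_card_ge (sup_le hle1 hle2)
  rw [card_sup hp hX hY hne hc, card_sup hp h1 h2 hne' hc']

/-- conjugate of a subgroup -/
def cj (g : G) (X : Subgroup G) : Subgroup G := X.map (MulAut.conj g).toMonoidHom

theorem mem_cj {g : G} {X : Subgroup G} {y : G} : y ∈ cj g X ↔ ∃ x ∈ X, g * x * g⁻¹ = y := by
  unfold cj
  rw [Subgroup.mem_map]
  rfl

theorem card_cj (g : G) (X : Subgroup G) : Nat.card (cj g X) = Nat.card X :=
  Subgroup.card_map_of_injective (MulAut.conj g).injective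

theorem cj_eq_self {g : G} {X : Subgroup G} (hg : g ∈ Subgroup.centralizer (X : Set G)) : cj g X = X := by
  ext y
  rw [mem_cj]
  constructor
  · rintro ⟨x, hx, rfl⟩
    have := Subgroup.mem_centralizer_iff.mp hg x hx
    have h1 : g * x * g⁻¹ = x := by rw [← this]; group
    rw [h1]; exact hx
  · intro hy
    refine ⟨y, hy, ?_⟩
    have := Subgroup.mem_centralizer_iff.mp hg y hy
    rw [← this]; group

theorem comm_cj {g : G} {A B : Subgroup G} (h : Comm A B) : Comm (cj g A) (cj g B) := by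
  intro a ha b hb
  obtain ⟨a', ha', rfl⟩ := mem_cj.mp ha
  obtain ⟨b', hb', rfl⟩ := mem_cj.mp hb
  have := h a' ha' b' hb'
  calc g * a' * g⁻¹ * (g * b' * g⁻¹) = g * (a' * b') * g⁻¹ := by group
    _ = g * (b' * a') * g⁻¹ := by rw [this]
    _ = g * b' * g⁻¹ * (g * a' * g⁻¹) := by group

theorem cj_mul (x z : G) (W : Subgroup G) : cj (x * z) W = cj x (cj z W) := by
  unfold cj
  rw [Subgroup.map_map]
  congr 1
  ext y
  simp [MulAut.conj_apply, mul_assoc]

/-- an element of `p`-power-trivial order normalizing a subgroup of order `p` centralizes it -/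
theorem centralizes_of_normalizes [Finite G] {p : ℕ} (hp : p.Prime) {W : Subgroup G} (hW : Nat.card W = p)
    {x : G} (hx : x ^ p = 1) (hn : cj x W = W) : x ∈ Subgroup.centralizer (W : Set G) := by
  haveI : Fact p.Prime := ⟨hp⟩
  haveI : IsCyclic W := isCyclic_of_prime_card hW
  have hxN : x ∈ Subgroup.normalizer (W : Set G) := by
    apply Subgroup.mem_normalizer_fintype
    intro n hn'
    have : x * n * x⁻¹ ∈ cj x W := mem_cj.mpr ⟨n, hn', rfl⟩
    rw [hn] at this
    exact this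
  set φ := Subgroup.normalizerMonoidHom W
  have h1 : (φ ⟨x, hxN⟩) ^ p = 1 := by
    rw [← map_pow]
    have : (⟨x, hxN⟩ : Subgroup.normalizer (W : Set G)) ^ p = 1 := Subtype.ext (by simpa using hx)
    rw [this, map_one]
  have h2 : orderOf (φ ⟨x, hxN⟩) ∣ p := orderOf_dvd_of_pow_eq_one h1
  have h3 : orderOf (φ ⟨x, hxN⟩) ∣ p - 1 := by
    have := orderOf_dvd_natCard (φ ⟨x, hxN⟩)
    rwa [IsCyclic.card_mulAut, hW, Nat.totient_prime hp] at this
  have h4 : orderOf (φ ⟨x, hxN⟩) = 1 := by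
    have h5 : Nat.Coprime p (p - 1) := by
      have : Nat.Coprime (p - 1 + 1) (p - 1) := by simp
      rwa [Nat.sub_add_cancel hp.one_le] at this
    exact Nat.eq_one_of_dvd_coprimes h5 h2 h3
  have h5 : (⟨x, hxN⟩ : Subgroup.normalizer (W : Set G)) ∈ φ.ker := by
    rw [MonoidHom.mem_ker]; exact orderOf_eq_one_iff.mp h4
  rw [Subgroup.normalizerMonoidHom_ker, Subgroup.mem_subgroupOf] at h5
  exact h5

/-- the standing hypotheses on a family of subgroups of order `p` -/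
structure Hyp (p : ℕ) (K : Set (Subgroup G)) : Prop where
  card : ∀ X ∈ K, Nat.card X = p
  conj : ∀ X ∈ K, ∀ x ∈ X, ∀ S ∈ K, cj x S ∈ K
  a : ∀ X ∈ K, ∀ Y ∈ K, X ≠ Y → Comm X Y → ∀ Z : Subgroup G, Z ≤ X ⊔ Y → Nat.card Z = p → Z ∈ K
  b : ∀ X ∈ K, ∀ Y ∈ K, X ≠ Y → Comm X Y → ∀ W ∈ K,
    (X ⊔ Y) ⊓ Subgroup.centralizer (W : Set G) ≠ ⊥

section hyp

variable [Finite G] {p : ℕ} (hp : p.Prime) {K : Set (Subgroup G)} (hK : Hyp p K)
include hp hK

/-- every point commutes with a point of every line -/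
theorem one_pt {X Y W : Subgroup G} (hX : X ∈ K) (hY : Y ∈ K) (hne : X ≠ Y) (hc : Comm X Y)
    (hW : W ∈ K) : ∃ Z ∈ K, Z ≤ X ⊔ Y ∧ Comm Z W := by
  obtain ⟨⟨g, hg⟩, hg1'⟩ := (Subgroup.ne_bot_iff_exists_ne_one).mp (hK.b X hX Y hY hne hc W hW)
  have hg1 : g ≠ 1 := fun h => hg1' (Subtype.ext h)
  have hgp : g ^ p = 1 := pow_eq_one_of_mem_sup (hK.card X hX) (hK.card Y hY) hc hg.1
  haveI : Fact p.Prime := ⟨hp⟩
  have hord : orderOf g = p := orderOf_eq_prime hgp hg1
  have hcard : Nat.card (Subgroup.zpowers g) = p := by rw [Nat.card_zpowers, hord]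
  have hle : Subgroup.zpowers g ≤ X ⊔ Y := by
    rw [Subgroup.zpowers_le]; exact hg.1
  refine ⟨Subgroup.zpowers g, hK.a X hX Y hY hne hc _ hle hcard, hle, ?_⟩
  rw [comm_iff_le, Subgroup.zpowers_le]
  exact hg.2

omit hK in
/-- a point commuting with two points of a line commutes with the whole line -/
theorem two_pts {X Y Z₁ Z₂ W : Subgroup G} (hX : Nat.card X = p) (hY : Nat.card Y = p)
    (hne : X ≠ Y) (hc : Comm X Y) (h1 : Nat.card Z₁ = p) (h2 : Nat.card Z₂ = p) (hne' : Z₁ ≠ Z₂)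
    (hle1 : Z₁ ≤ X ⊔ Y) (hle2 : Z₂ ≤ X ⊔ Y) (hc1 : Comm Z₁ W) (hc2 : Comm Z₂ W) :
    Comm (X ⊔ Y) W := by
  rw [← sup_eq_of_le hp hX hY hne hc h1 h2 hne' hle1 hle2]
  exact Comm.sup_left hc1 hc2

omit hK in
/-- a line is commutative -/
theorem comm_line {X Y : Subgroup G} (hX : Nat.card X = p) (hY : Nat.card Y = p) (hc : Comm X Y) :
    Comm (X ⊔ Y) (X ⊔ Y) :=
  Comm.sup_left (Comm.sup_right (comm_self hp hX) hc) (Comm.sup_right hc.symm (comm_self hp hY))

/-- every point lies on a line -/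
theorem exists_line (hline : ∃ X ∈ K, ∃ Y ∈ K, X ≠ Y ∧ Comm X Y) {X : Subgroup G} (hX : X ∈ K) :
    ∃ Y ∈ K, Y ≠ X ∧ Comm X Y := by
  obtain ⟨X₀, hX₀, Y₀, hY₀, hne, hc⟩ := hline
  obtain ⟨Z, hZ, hZle, hZX⟩ := one_pt hp hK hX₀ hY₀ hne hc hX
  by_cases hZeq : Z = X
  · subst hZeq
    have hcl := comm_line hp (hK.card X₀ hX₀) (hK.card Y₀ hY₀) hc
    by_cases h0 : X₀ = Z
    · subst h0
      exact ⟨Y₀, hY₀, fun h => hne h.symm, hc⟩
    · exact ⟨X₀, hX₀, h0, ((hcl.mono_left hZle).mono_right le_sup_left)⟩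
  · exact ⟨Z, hZ, hZeq, hZX.symm⟩

/-- the counting lemma: the number of common neighbours of two non-collinear points depends
only on one of them -/
theorem ncard_perp_le {V W U : Subgroup G} (hV : V ∈ K) (hW : W ∈ K) (hU : U ∈ K)
    (hVW : ¬ Comm V W) (hVU : ¬ Comm V U) :
    {T | T ∈ K ∧ Comm T V ∧ Comm T W}.ncard ≤ {T | T ∈ K ∧ Comm T V ∧ Comm T U}.ncard := by
  set s := {T | T ∈ K ∧ Comm T V ∧ Comm T W} with hs
  set t := {T | T ∈ K ∧ Comm T V ∧ Comm T U} with ht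
  have hcV := hK.card V hV
  have key : ∀ T : s, ∃ S : Subgroup G, S ∈ t ∧ S ≤ V ⊔ (T : Subgroup G) ∧ S ≠ V := by
    rintro ⟨T, hTK, hTV, hTW⟩
    have hne : V ≠ T := by
      rintro rfl
      exact hVW hTW
    obtain ⟨S, hS, hSle, hSU⟩ := one_pt hp hK hV hTK hne hTV.symm hU
    have hSV : S ≠ V := by
      rintro rfl
      exact hVU hSU
    have hcl := comm_line hp hcV (hK.card T hTK) hTV.symm
    exact ⟨S, ⟨hS, (hcl.mono_left hSle).mono_right le_sup_left, hSU⟩, hSle, hSV⟩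
  choose f hf using key
  have hinj : Function.Injective (fun T : s => (⟨f T, (hf T).1⟩ : t)) := by
    rintro ⟨T, hTK, hTV, hTW⟩ ⟨T', hTK', hTV', hTW'⟩ hEq
    have hEq' : f ⟨T, hTK, hTV, hTW⟩ = f ⟨T', hTK', hTV', hTW'⟩ := by
      have := congrArg Subtype.val hEq
      exact this
    obtain ⟨h1, h2, h3⟩ := hf ⟨T, hTK, hTV, hTW⟩
    obtain ⟨h1', h2', h3'⟩ := hf ⟨T', hTK', hTV', hTW'⟩
    rw [← hEq'] at h1' h2' h3'
    set S := f ⟨T, hTK, hTV, hTW⟩
    have hneT : V ≠ T := by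
      rintro rfl
      exact hVW hTW
    have hneT' : V ≠ T' := by
      rintro rfl
      exact hVW hTW'
    have hcS := hK.card S h1.1
    have e1 : V ⊔ S = V ⊔ T :=
      sup_eq_of_le hp hcV (hK.card T hTK) hneT hTV.symm hcV hcS (Ne.symm h3) le_sup_left h2
    have e2 : V ⊔ S = V ⊔ T' :=
      sup_eq_of_le hp hcV (hK.card T' hTK') hneT' hTV'.symm hcV hcS (Ne.symm h3) le_sup_left h2'
    apply Subtype.ext
    show T = T'
    by_contra hTT
    have hT'le : T' ≤ V ⊔ T := by rw [← e1, e2]; exact le_sup_right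
    have := two_pts hp hcV (hK.card T hTK) hneT hTV.symm (hK.card T hTK) (hK.card T' hTK') hTT
      le_sup_right hT'le hTW hTW'
    exact hVW (this.mono_left le_sup_left)
  have hfin : Finite t := Set.toFinite t
  have := Nat.card_le_card_of_injective _ hinj
  rwa [Nat.card_coe_set_eq, Nat.card_coe_set_eq] at this

end hyp

section hyp2

variable [Finite G] {p : ℕ} (hp : p.Prime) {K : Set (Subgroup G)} (hK : Hyp p K)
include hp hK

/-- the common neighbours of two points form a family satisfying the hypotheses -/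
theorem hyp_perp {V W : Subgroup G} (hV : V ∈ K) (hW : W ∈ K) :
    Hyp p {T | T ∈ K ∧ Comm T V ∧ Comm T W} := by
  refine ⟨fun X hX => hK.card X hX.1, ?_, ?_, ?_⟩
  · rintro X ⟨hX, hXV, hXW⟩ x hx S ⟨hS, hSV, hSW⟩
    refine ⟨hK.conj X hX x hx S hS, ?_, ?_⟩
    · have h1 : x ∈ Subgroup.centralizer (V : Set G) := comm_iff_le.mp hXV hx
      have h2 := comm_cj (g := x) hSV
      rwa [cj_eq_self h1] at h2
    · have h1 : x ∈ Subgroup.centralizer (W : Set G) := comm_iff_le.mp hXW hx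
      have h2 := comm_cj (g := x) hSW
      rwa [cj_eq_self h1] at h2
  · rintro X ⟨hX, hXV, hXW⟩ Y ⟨hY, hYV, hYW⟩ hne hc Z hZle hZc
    exact ⟨hK.a X hX Y hY hne hc Z hZle hZc, (Comm.sup_left hXV hYV).mono_left hZle,
      (Comm.sup_left hXW hYW).mono_left hZle⟩
  · rintro X ⟨hX, hXV, hXW⟩ Y ⟨hY, hYV, hYW⟩ hne hc U ⟨hU, _, _⟩
    exact hK.b X hX Y hY hne hc U hU

/-- a point of `{V, W}^⊥` collinear with all of `{V, W}^⊥` is collinear with everything -/
theorem universal_of_perp {V W T : Subgroup G} (hV : V ∈ K) (hW : W ∈ K) (hVW : ¬ Comm V W)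
    (hT : T ∈ K) (hTV : Comm T V) (hTW : Comm T W)
    (hrad : ∀ S ∈ K, Comm S V → Comm S W → Comm T S) : ∀ U ∈ K, Comm T U := by
  have hcV := hK.card V hV
  have hcW := hK.card W hW
  have hcT := hK.card T hT
  -- `T` is collinear with every neighbour of `V`, provided `V'` is not collinear with `W'`
  have step1 : ∀ V' W' : Subgroup G, V' ∈ K → W' ∈ K → ¬ Comm V' W' → Comm T V' →
      (∀ S ∈ K, Comm S V' → Comm S W' → Comm T S) → ∀ S ∈ K, Comm S V' → Comm T S := by
    intro V' W' hV' hW' hVW' hTV' hrad' S hS hSV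
    by_cases hSeq : S = V'
    · rw [hSeq]; exact hTV'
    have hcV' := hK.card V' hV'
    have hcS := hK.card S hS
    obtain ⟨S', hS', hS'le, hS'W⟩ := one_pt hp hK hV' hS (Ne.symm hSeq) hSV.symm hW'
    have hS'V : S' ≠ V' := by
      rintro rfl
      exact hVW' hS'W
    have hcl := comm_line hp hcV' hcS hSV.symm
    have hS'V' : Comm S' V' := (hcl.mono_left hS'le).mono_right le_sup_left
    have hTS' : Comm T S' := hrad' S' hS' hS'V' hS'W
    have := two_pts hp hcV' hcS (Ne.symm hSeq) hSV.symm hcV' (hK.card S' hS') (Ne.symm hS'V)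
      le_sup_left hS'le hTV'.symm hTS'.symm
    exact (this.mono_left le_sup_right).symm
  have hTV' : ∀ S ∈ K, Comm S V → Comm T S := step1 V W hV hW hVW hTV hrad
  have hTW' : ∀ S ∈ K, Comm S W → Comm T S :=
    step1 W V hW hV (fun h => hVW h.symm) hTW (fun S hS h1 h2 => hrad S hS h2 h1)
  intro U hU
  by_contra hTU
  have hUV : ¬ Comm V U := fun h => hTU (hTV' U hU h.symm)
  have hUW : ¬ Comm W U := fun h => hTU (hTW' U hU h.symm)
  have hcU := hK.card U hU
  -- `{U, V}^⊥ ⊆ {V, W}^⊥`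
  have hsub : {S | S ∈ K ∧ Comm S V ∧ Comm S U} ⊆ {S | S ∈ K ∧ Comm S V ∧ Comm S W} := by
    rintro S ⟨hS, hSV, hSU⟩
    refine ⟨hS, hSV, ?_⟩
    have hSne : U ≠ S := by
      rintro rfl
      exact hUV hSV.symm
    obtain ⟨S', hS', hS'le, hS'W⟩ := one_pt hp hK hU hS hSne hSU.symm hW
    by_cases hSS : S' = S
    · rw [← hSS]; exact hS'W
    exfalso
    have hTS' : Comm T S' := hTW' S' hS' hS'W
    have hTS : Comm T S := hTV' S hS hSV
    have := two_pts hp hcU (hK.card S hS) hSne hSU.symm (hK.card S' hS') (hK.card S hS) hSS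
      hS'le le_sup_right hTS'.symm hTS.symm
    exact hTU (this.mono_left le_sup_left).symm
  have hle := ncard_perp_le hp hK hV hW hU hVW hUV
  have heq := Set.eq_of_subset_of_ncard_le hsub hle (Set.toFinite _)
  have hTmem : T ∈ {S | S ∈ K ∧ Comm S V ∧ Comm S W} := ⟨hT, hTV, hTW⟩
  rw [← heq] at hTmem
  exact hTU hTmem.2.2

end hyp2

section gq

variable [Finite G] {p : ℕ} (hp : p.Prime) {K : Set (Subgroup G)} (hK : Hyp p K)
include hp hK

/-- in the generalized quadrangle case, triangles are collinear -/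
theorem triangle (hnu : ∀ V ∈ K, ∃ W ∈ K, ¬ Comm V W)
    (hB : ∀ V ∈ K, ∀ W ∈ K, ¬ Comm V W → ∀ T₁ ∈ K, Comm T₁ V → Comm T₁ W → ∀ T₂ ∈ K, Comm T₂ V →
      Comm T₂ W → Comm T₁ T₂ → T₁ = T₂)
    {X Y Z : Subgroup G} (hX : X ∈ K) (hY : Y ∈ K) (hZ : Z ∈ K) (hXY : X ≠ Y) (cXY : Comm X Y)
    (cXZ : Comm X Z) (cYZ : Comm Y Z) : Z ≤ X ⊔ Y := by
  by_contra hZle
  have hcX := hK.card X hX
  have hcY := hK.card Y hY
  have hcZ := hK.card Z hZ
  have hZY : Y ≠ Z := by
    rintro rfl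
    exact hZle le_sup_right
  have hZX : X ≠ Z := by
    rintro rfl
    exact hZle le_sup_left
  obtain ⟨W, hW, hXW⟩ := hnu X hX
  obtain ⟨S, hS, hSle, hSW⟩ := one_pt hp hK hY hZ hZY cYZ hW
  have hSX : Comm S X := (Comm.sup_left cXY.symm cXZ.symm).mono_left hSle
  obtain ⟨S', hS', hS'le, hS'W⟩ := one_pt hp hK hX hY hXY cXY hW
  have hS'X : Comm S' X := ((comm_line hp hcX hcY cXY).mono_left hS'le).mono_right le_sup_left
  have hSS' : Comm S S' := by
    have h1 : Comm (Y ⊔ Z) (X ⊔ Y) :=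
      Comm.sup_left (Comm.sup_right cXY.symm (comm_self hp hcY)) (Comm.sup_right cXZ.symm cYZ.symm)
    exact (h1.mono_left hSle).mono_right hS'le
  have hEq : S = S' := hB X hX W hW hXW S hS hSX hSW S' hS' hS'X hS'W hSS'
  have hcS := hK.card S hS
  have hSY : S = Y := by
    by_contra hne
    have e1 : Y ⊔ S = X ⊔ Y :=
      sup_eq_of_le hp hcX hcY hXY cXY hcY hcS (Ne.symm hne) le_sup_right (hEq ▸ hS'le)
    have e2 : Y ⊔ S = Y ⊔ Z :=
      sup_eq_of_le hp hcY hcZ hZY cYZ hcY hcS (Ne.symm hne) le_sup_left hSle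
    apply hZle
    rw [← e1, e2]; exact le_sup_right
  have hYW : Comm Y W := hSY ▸ hSW
  obtain ⟨S'', hS'', hS''le, hS''W⟩ := one_pt hp hK hX hZ hZX cXZ hW
  have hS''X : Comm S'' X := ((comm_line hp hcX hcZ cXZ).mono_left hS''le).mono_right le_sup_left
  have hS''Y : Comm S'' Y := (Comm.sup_left cXY cYZ.symm).mono_left hS''le
  have hEq2 : S'' = Y := hB X hX W hW hXW S'' hS'' hS''X hS''W Y hY cXY.symm hYW hS''Y
  have hYle : Y ≤ X ⊔ Z := hEq2 ▸ hS''le
  have e3 : X ⊔ Y = X ⊔ Z :=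
    sup_eq_of_le hp hcX hcZ hZX cXZ hcX hcY hXY le_sup_left hYle
  apply hZle
  rw [e3]; exact le_sup_right

/-- the generalized quadrangle case is impossible -/
theorem gq_false (hline : ∃ X ∈ K, ∃ Y ∈ K, X ≠ Y ∧ Comm X Y)
    (hnu : ∀ V ∈ K, ∃ W ∈ K, ¬ Comm V W)
    (hB : ∀ V ∈ K, ∀ W ∈ K, ¬ Comm V W → ∀ T₁ ∈ K, Comm T₁ V → Comm T₁ W → ∀ T₂ ∈ K, Comm T₂ V →
      Comm T₂ W → Comm T₁ T₂ → T₁ = T₂) : False := by
  haveI : Fact p.Prime := ⟨hp⟩
  have hline' := hline
  obtain ⟨X, hX, _, _, _, _⟩ := hline'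
  obtain ⟨W, hW, hXW⟩ := hnu X hX
  obtain ⟨Y, hY, hYX, cXY⟩ := exists_line hp hK hline hX
  have hcX := hK.card X hX
  have hcY := hK.card Y hY
  have hcW := hK.card W hW
  obtain ⟨Z, hZ, hZle, hZW⟩ := one_pt hp hK hX hY (Ne.symm hYX) cXY hW
  have hZX : X ≠ Z := by
    rintro rfl
    exact hXW hZW
  have cZX : Comm Z X := ((comm_line hp hcX hcY cXY).mono_left hZle).mono_right le_sup_left
  have hcZ := hK.card Z hZ
  have hclXZ := comm_line hp hcX hcZ cZX.symm
  -- a second common neighbour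
  have hT : ∃ T ∈ K, Comm T X ∧ Comm T W ∧ T ≠ Z := by
    by_contra hcon
    push Not at hcon
    obtain ⟨U, hU, hZU⟩ := hnu Z hZ
    obtain ⟨X₁, hX₁, hX₁le, hX₁U⟩ := one_pt hp hK hX hZ hZX cZX.symm hU
    have hX₁Z : X₁ ≠ Z := by
      rintro rfl
      exact hZU hX₁U
    have hcX₁ := hK.card X₁ hX₁
    have hX₁W : ¬ Comm X₁ W := by
      intro h
      have := two_pts hp hcX hcZ hZX cZX.symm hcX₁ hcZ hX₁Z hX₁le le_sup_right h hZW
      exact hXW (this.mono_left le_sup_left)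
    have hle := ncard_perp_le hp hK hW hX₁ hX (fun h => hX₁W h.symm) (fun h => hXW h.symm)
    have hsub : {T | T ∈ K ∧ Comm T W ∧ Comm T X} ⊆ {Z} := by
      rintro T ⟨hT, hTW, hTX⟩
      exact hcon T hT hTX hTW
    have h1 : {T | T ∈ K ∧ Comm T W ∧ Comm T X}.ncard ≤ 1 := by
      have := Set.ncard_le_ncard hsub (Set.toFinite _)
      rwa [Set.ncard_singleton] at this
    have h2 : {T | T ∈ K ∧ Comm T W ∧ Comm T X₁}.ncard ≤ 1 := hle.trans h1
    rw [Set.ncard_le_one_iff (Set.toFinite _)] at h2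
    have cZX₁ : Comm Z X₁ := (hclXZ.mono_left le_sup_right).mono_right hX₁le
    have hZmem : Z ∈ {T | T ∈ K ∧ Comm T W ∧ Comm T X₁} := ⟨hZ, hZW, cZX₁⟩
    by_cases hUX₁ : U = X₁
    · apply hZU
      rw [hUX₁]; exact cZX₁
    · obtain ⟨S, hS, hSle, hSW⟩ := one_pt hp hK hX₁ hU (Ne.symm hUX₁) hX₁U hW
      have hcU := hK.card U hU
      have hSX₁ : Comm S X₁ :=
        ((comm_line hp hcX₁ hcU hX₁U).mono_left hSle).mono_right le_sup_left
      have hSZ : S = Z := h2 ⟨hS, hSW, hSX₁⟩ hZmem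
      have hZle' : Z ≤ X₁ ⊔ U := hSZ ▸ hSle
      have e1 : X₁ ⊔ Z = X₁ ⊔ U :=
        sup_eq_of_le hp hcX₁ hcU (Ne.symm hUX₁) hX₁U hcX₁ hcZ hX₁Z le_sup_left hZle'
      have hUle : U ≤ X ⊔ Z := by
        have : U ≤ X₁ ⊔ Z := by rw [e1]; exact le_sup_right
        exact this.trans (sup_le hX₁le le_sup_right)
      exact hZU ((hclXZ.mono_left le_sup_right).mono_right hUle)
  obtain ⟨T, hT, hTX, hTW, hTZ⟩ := hT
  have hTZc : ¬ Comm T Z := fun h => hTZ (hB X hX W hW hXW T hT hTX hTW Z hZ cZX hZW h)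
  -- generators
  obtain ⟨⟨x, hx⟩, hx1'⟩ : ∃ x : X, x ≠ 1 := by
    haveI : Nontrivial X := (Finite.one_lt_card_iff_nontrivial).mp (by rw [hcX]; exact hp.one_lt)
    exact exists_ne 1
  have hx1 : x ≠ 1 := fun h => hx1' (Subtype.ext h)
  obtain ⟨⟨z, hz⟩, hz1'⟩ : ∃ z : Z, z ≠ 1 := by
    haveI : Nontrivial Z := (Finite.one_lt_card_iff_nontrivial).mp (by rw [hcZ]; exact hp.one_lt)
    exact exists_ne 1
  have hz1 : z ≠ 1 := fun h => hz1' (Subtype.ext h)
  have hinf : X ⊓ Z = ⊥ := inf_eq_bot_of_ne hp hcX hcZ hZX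
  have hxz : Commute x z := cZX.symm x hx z hz
  have hxzp : (x * z) ^ p = 1 := by
    rw [hxz.mul_pow, pow_eq_one_of_card hcX hx, pow_eq_one_of_card hcZ hz, one_mul]
  have hxZ : x ∉ Z := by
    intro h
    have : x ∈ X ⊓ Z := ⟨hx, h⟩
    rw [hinf, Subgroup.mem_bot] at this
    exact hx1 this
  have hzX : z ∉ X := by
    intro h
    have : z ∈ X ⊓ Z := ⟨h, hz⟩
    rw [hinf, Subgroup.mem_bot] at this
    exact hz1 this
  have hxz1 : x * z ≠ 1 := by
    intro h
    apply hxZ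
    have : x = z⁻¹ := eq_inv_of_mul_eq_one_left h
    rw [this]; exact Z.inv_mem hz
  set X' := Subgroup.zpowers (x * z) with hX'def
  have hcX' : Nat.card X' = p := by
    rw [Nat.card_zpowers, orderOf_eq_prime hxzp hxz1]
  have hX'le : X' ≤ X ⊔ Z := by
    rw [hX'def, Subgroup.zpowers_le]
    exact Subgroup.mul_mem _ (Subgroup.mem_sup_left hx) (Subgroup.mem_sup_right hz)
  have hX' : X' ∈ K := hK.a X hX Z hZ hZX cZX.symm X' hX'le hcX'
  have hxzX' : x * z ∈ X' := Subgroup.mem_zpowers _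
  have hX'Z : X' ≠ Z := by
    intro h
    apply hxZ
    have h1 : x * z ∈ Z := h ▸ hxzX'
    have : x = (x * z) * z⁻¹ := by group
    rw [this]; exact Z.mul_mem h1 (Z.inv_mem hz)
  have hX'X : X ≠ X' := by
    intro h
    apply hzX
    have h1 : x * z ∈ X := h ▸ hxzX'
    have : z = x⁻¹ * (x * z) := by group
    rw [this]; exact X.mul_mem (X.inv_mem hx) h1
  have hX'W : ¬ Comm X' W := by
    intro h
    have := two_pts hp hcX hcZ hZX cZX.symm hcX' hcZ hX'Z hX'le le_sup_right h hZW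
    exact hXW (this.mono_left le_sup_left)
  -- the conjugate of `W`
  set W₁ := cj x W with hW₁def
  have hW₁ : W₁ ∈ K := hK.conj X hX x hx W hW
  have hW₁' : cj (x * z) W = W₁ := by
    rw [cj_mul, cj_eq_self (comm_iff_le.mp hZW hz)]
  have hXeq : X = Subgroup.zpowers x := by
    symm
    apply Subgroup.eq_of_le_of_card_ge
    · rw [Subgroup.zpowers_le]; exact hx
    · rw [Nat.card_zpowers, orderOf_eq_prime (pow_eq_one_of_card hcX hx) hx1, hcX]
  have hWW₁ : W ≠ W₁ := by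
    intro h
    have := centralizes_of_normalizes hp hcW (pow_eq_one_of_card hcX hx) h.symm
    apply hXW
    rw [comm_iff_le, hXeq, Subgroup.zpowers_le]
    exact this
  have incl1 : ∀ S ∈ K, Comm S X → Comm S W → Comm S W₁ := by
    intro S _ hSX hSW
    have h1 : x ∈ Subgroup.centralizer (S : Set G) := comm_iff_le.mp hSX.symm hx
    have h2 := comm_cj (g := x) hSW
    rwa [cj_eq_self h1] at h2
  have incl2 : ∀ S ∈ K, Comm S X' → Comm S W → Comm S W₁ := by
    intro S _ hSX hSW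
    have h1 : x * z ∈ Subgroup.centralizer (S : Set G) := comm_iff_le.mp hSX.symm hxzX'
    have h2 := comm_cj (g := x * z) hSW
    rwa [cj_eq_self h1, hW₁'] at h2
  have hcW₁ := hK.card W₁ hW₁
  have hWW₁c : ¬ Comm W W₁ := by
    intro h
    have hZW₁ : Comm Z W₁ := incl1 Z hZ cZX hZW
    have hTW₁ : Comm T W₁ := incl1 T hT hTX hTW
    have h1 : Z ≤ W ⊔ W₁ := triangle hp hK hnu hB hW hW₁ hZ hWW₁ h hZW.symm hZW₁.symm
    have h2 : T ≤ W ⊔ W₁ := triangle hp hK hnu hB hW hW₁ hT hWW₁ h hTW.symm hTW₁.symm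
    exact hTZc (((comm_line hp hcW hcW₁ h).mono_left h2).mono_right h1)
  -- counting
  have hsub1 : {S | S ∈ K ∧ Comm S W ∧ Comm S X} ⊆ {S | S ∈ K ∧ Comm S W ∧ Comm S W₁} := by
    rintro S ⟨hS, hSW, hSX⟩
    exact ⟨hS, hSW, incl1 S hS hSX hSW⟩
  have hsub2 : {S | S ∈ K ∧ Comm S W ∧ Comm S X'} ⊆ {S | S ∈ K ∧ Comm S W ∧ Comm S W₁} := by
    rintro S ⟨hS, hSW, hSX⟩
    exact ⟨hS, hSW, incl2 S hS hSX hSW⟩
  have hle1 := ncard_perp_le hp hK hW hW₁ hX hWW₁c (fun h => hXW h.symm)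
  have hle2 := ncard_perp_le hp hK hW hW₁ hX' hWW₁c (fun h => hX'W h.symm)
  have heq1 := Set.eq_of_subset_of_ncard_le hsub1 hle1 (Set.toFinite _)
  have heq2 := Set.eq_of_subset_of_ncard_le hsub2 hle2 (Set.toFinite _)
  have hTmem : T ∈ {S | S ∈ K ∧ Comm S W ∧ Comm S X} := ⟨hT, hTW, hTX⟩
  rw [heq1, ← heq2] at hTmem
  have hTX' : Comm T X' := hTmem.2.2
  have := two_pts hp hcX hcZ hZX cZX.symm hcX hcX' hX'X le_sup_left hX'le hTX.symm hTX'.symm
  exact hTZc (this.mono_left le_sup_right).symm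

end gq

/-- the main combinatorial theorem: some member commutes with all members -/
theorem exists_universal [Finite G] {p : ℕ} (hp : p.Prime) :
    ∀ n : ℕ, ∀ K : Set (Subgroup G), K.ncard = n → Hyp p K →
      (∃ X ∈ K, ∃ Y ∈ K, X ≠ Y ∧ Comm X Y) → ∃ V ∈ K, ∀ W ∈ K, Comm V W := by
  intro n
  induction n using Nat.strong_induction_on with
  | _ n ih =>
    intro K hn hK hline
    by_contra hcon
    push Not at hcon
    by_cases hA : ∃ V ∈ K, ∃ W ∈ K, ¬ Comm V W ∧
        ∃ T₁ ∈ {T | T ∈ K ∧ Comm T V ∧ Comm T W}, ∃ T₂ ∈ {T | T ∈ K ∧ Comm T V ∧ Comm T W},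
          T₁ ≠ T₂ ∧ Comm T₁ T₂
    · obtain ⟨V, hV, W, hW, hVW, hline'⟩ := hA
      have hlt : {T | T ∈ K ∧ Comm T V ∧ Comm T W}.ncard < n := by
        rw [← hn]
        apply Set.ncard_lt_ncard _ (Set.toFinite _)
        refine ⟨fun T hT => hT.1, ?_⟩
        intro hsub
        exact hVW (hsub hV).2.2
      obtain ⟨T, hT, hTall⟩ := ih _ hlt _ rfl (hyp_perp hp hK hV hW) hline'
      have := universal_of_perp hp hK hV hW hVW hT.1 hT.2.1 hT.2.2
        (fun S hS h1 h2 => hTall S ⟨hS, h1, h2⟩)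
      obtain ⟨U, hU, hTU⟩ := hcon T hT.1
      exact hTU (this U hU)
    · push Not at hA
      refine gq_false hp hK hline hcon ?_
      intro V hV W hW hVW T₁ h1 h1V h1W T₂ h2 h2V h2W hc
      by_contra hne
      exact hA V hV W hW hVW T₁ ⟨h1, h1V, h1W⟩ T₂ ⟨h2, h2V, h2W⟩ hne hc

end helpers



/-- Let p be a prime and K a set of subgroups of order p of a finite group G, closed under conjugation, such that at least two distinct members of K commute elementwise, and whenever two distinct members X, Y of K commute: every subgroup of order p of the group XY they generate belongs to K, and every member W of K has centralizer meeting XY nontrivially. Then some member V of K commutes elementwise with every member of K and lies in O_p(G); in particular G is not simple. -/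
theorem result {G : Type*} [Group G] [Finite G]
    {p : ℕ} (hp : p.Prime) (K : Set (Subgroup G)) (hK : ∀ X ∈ K, Nat.card ↥X = p)
    (hKc : ∀ X ∈ K, ∀ g : G, X.map (MulAut.conj g).toMonoidHom ∈ K)
    (hex : ∃ X ∈ K, ∃ Y ∈ K, X ≠ Y ∧ ∀ x ∈ X, ∀ y ∈ Y, x * y = y * x)
    (ha : ∀ X ∈ K, ∀ Y ∈ K, X ≠ Y → (∀ x ∈ X, ∀ y ∈ Y, x * y = y * x) →
      ∀ Z : Subgroup G, Z ≤ X ⊔ Y → Nat.card ↥Z = p → Z ∈ K)
    (hb : ∀ X ∈ K, ∀ Y ∈ K, X ≠ Y → (∀ x ∈ X, ∀ y ∈ Y, x * y = y * x) →
      ∀ W ∈ K, (X ⊔ Y) ⊓ Subgroup.centralizer (W : Set G) ≠ ⊥) :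
    (∃ V ∈ K, (∀ W ∈ K, ∀ v ∈ V, ∀ w ∈ W, v * w = w * v) ∧ V ≤ Cfsg.pCore p G) ∧ ¬ IsSimpleGroup G := by
  have hHyp : Hyp p K := ⟨hK, fun X _ x _ S hS => hKc S hS x, ha, hb⟩
  obtain ⟨V, hV, hVall⟩ := exists_universal hp _ K rfl hHyp hex
  -- the subgroup of elements commuting with all members of `K`
  let C : Subgroup G :=
    { carrier := {g | ∀ W ∈ K, ∀ w ∈ W, g * w = w * g}
      one_mem' := by intro W _ w _; simp
      mul_mem' := by
        intro a b ha hb W hW w hw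
        calc a * b * w = a * (b * w) := by group
          _ = a * (w * b) := by rw [hb W hW w hw]
          _ = (a * w) * b := by group
          _ = w * a * b := by rw [ha W hW w hw]
          _ = w * (a * b) := by group
      inv_mem' := by
        intro a ha W hW w hw
        have := ha W hW w hw
        calc a⁻¹ * w = a⁻¹ * (w * a) * a⁻¹ := by group
          _ = a⁻¹ * (a * w) * a⁻¹ := by rw [this]
          _ = w * a⁻¹ := by group }
  have hCmem : ∀ g : G, g ∈ C ↔ ∀ W ∈ K, ∀ w ∈ W, g * w = w * g := fun g => Iff.rfl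
  haveI hCn : C.Normal := by
    constructor
    intro n hn g W hW w hw
    -- conjugate `w` back
    have hW' : cj g⁻¹ W ∈ K := hKc W hW g⁻¹
    have hw' : g⁻¹ * w * g⁻¹⁻¹ ∈ cj g⁻¹ W := mem_cj.mpr ⟨w, hw, rfl⟩
    have := hn _ hW' _ hw'
    calc g * n * g⁻¹ * w = g * (n * (g⁻¹ * w * g⁻¹⁻¹)) * g⁻¹ := by group
      _ = g * ((g⁻¹ * w * g⁻¹⁻¹) * n) * g⁻¹ := by rw [this]
      _ = w * (g * n * g⁻¹) := by group
  have hVC : (V : Set G) ⊆ C := fun v hv W hW w hw => hVall W hW v hv w hw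
  set N := Subgroup.normalClosure (V : Set G) with hNdef
  have hNC : N ≤ C := Subgroup.normalClosure_le_normal hVC
  -- every generator of `N` lies in a member of `K`
  have hgen : ∀ y ∈ Group.conjugatesOfSet (V : Set G), ∃ W ∈ K, y ∈ W := by
    intro y hy
    rw [Group.mem_conjugatesOfSet_iff] at hy
    obtain ⟨v, hv, hvy⟩ := hy
    rw [isConj_iff] at hvy
    obtain ⟨c, rfl⟩ := hvy
    exact ⟨cj c V, hKc V hV c, mem_cj.mpr ⟨v, hv, rfl⟩⟩
  -- `N` is commutative
  have hNcomm : ∀ a ∈ N, ∀ b ∈ N, a * b = b * a := by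
    intro a ha b hb
    have haC := hNC ha
    rw [hNdef, Subgroup.normalClosure] at hb
    induction hb using Subgroup.closure_induction with
    | mem y hy =>
      obtain ⟨W, hW, hyW⟩ := hgen y hy
      exact haC W hW y hyW
    | one => simp
    | mul x y _ _ hx hy =>
      calc a * (x * y) = (a * x) * y := by group
        _ = x * (a * y) := by rw [hx]; group
        _ = x * y * a := by rw [hy]; group
    | inv x _ hx =>
      calc a * x⁻¹ = x⁻¹ * (x * a) * x⁻¹ := by group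
        _ = x⁻¹ * (a * x) * x⁻¹ := by rw [hx]
        _ = x⁻¹ * a := by group
  -- `N` has exponent `p`
  have hNexp : ∀ a ∈ N, a ^ p = 1 := by
    intro a ha
    have ha' := ha
    rw [hNdef, Subgroup.normalClosure] at ha'
    induction ha' using Subgroup.closure_induction with
    | mem y hy =>
      obtain ⟨W, hW, hyW⟩ := hgen y hy
      exact pow_eq_one_of_card (hK W hW) hyW
    | one => simp
    | mul x y hx hy ihx ihy =>
      have hxN : x ∈ N := by rw [hNdef, Subgroup.normalClosure]; exact hx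
      have hyN : y ∈ N := by rw [hNdef, Subgroup.normalClosure]; exact hy
      have hc : Commute x y := hNcomm x hxN y hyN
      rw [hc.mul_pow, ihx hxN, ihy hyN, one_mul]
    | inv x hx ihx =>
      have hxN : x ∈ N := by rw [hNdef, Subgroup.normalClosure]; exact hx
      rw [inv_pow, ihx hxN, inv_one]
  have hNp : IsPGroup p N := by
    intro g
    refine ⟨1, ?_⟩
    rw [pow_one]
    exact Subtype.ext (by simpa using hNexp g g.2)
  have hVN : V ≤ N := Subgroup.subset_normalClosure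
  have hNcore : N ≤ Cfsg.pCore p G := le_sSup ⟨Subgroup.normalClosure_normal, hNp⟩
  refine ⟨⟨V, hV, hVall, hVN.trans hNcore⟩, ?_⟩
  intro hsimple
  have hN1 : N ≠ ⊥ := by
    intro h
    have hVbot : V = ⊥ := by rw [eq_bot_iff, ← h]; exact hVN
    have h1 := hK V hV
    rw [hVbot, Subgroup.card_bot] at h1
    exact hp.one_lt.ne h1
  have hNtop : N = ⊤ := (Subgroup.Normal.eq_bot_or_eq_top Subgroup.normalClosure_normal).resolve_left hN1
  -- `G` is commutative, so every member of `K` is everything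
  have hall : ∀ X ∈ K, X = ⊤ := by
    intro X hX
    haveI : X.Normal := by
      constructor
      intro n hn g
      have h1 : g ∈ N := by rw [hNtop]; exact Subgroup.mem_top g
      have h2 : n ∈ N := by rw [hNtop]; exact Subgroup.mem_top n
      have : g * n * g⁻¹ = n := by
        rw [hNcomm g h1 n h2]; group
      rw [this]; exact hn
    refine (Subgroup.Normal.eq_bot_or_eq_top inferInstance).resolve_left ?_
    intro h
    have h1 := hK X hX
    rw [h, Subgroup.card_bot] at h1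
    exact hp.one_lt.ne h1
  obtain ⟨X, hX, Y, hY, hne, _⟩ := hex
  exact hne ((hall X hX).trans (hall Y hY).symm)


end Cfsg.Agent.S3196
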