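import Mathlib
import Cfsg.Agent.S0144
import Cfsg.Agent.Lib.Lead.HallThm4
import Cfsg.Agent.Lib.Lead.FrobNPC2
import Cfsg.Statements.S3200

set_option autoImplicit false
open Cfsg

namespace Cfsg.Agent.S3200

open Cfsg.Agent.Lib.Lead
open scoped Pointwise

universe u

/-- an abelian subgroup of odd order and index a power of two -/
def Good (H : Type u) [Group H] : Prop :=
  ∃ C : Subgroup H, IsMulCommutative C ∧ Odd (Nat.card C) ∧ ∃ a : ℕ, C.index = 2 ^ a

theorem good_of_compl {H : Type u} [Group H] [Finite H] (S : Sylow 2 H) (C : Subgroup H)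
    (hC : IsMulCommutative C) (hSC : Subgroup.IsComplement' (S : Subgroup H) C) : Good H := by
  refine ⟨C, hC, ?_, ?_⟩
  · rw [← hSC.symm.index_eq_card]
    rw [← Nat.not_even_iff_odd, even_iff_two_dvd]
    exact S.not_dvd_index
  · rw [hSC.index_eq_card]
    exact IsPGroup.iff_card.mp S.isPGroup'

theorem compl_of_good {H : Type u} [Group H] [Finite H] (h : Good H) :
    ∃ (P : Sylow 2 H) (D : Subgroup H), IsMulCommutative D ∧
      Subgroup.IsComplement' (P : Subgroup H) D := by
  obtain ⟨C, hC, hodd, a, ha⟩ := h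
  obtain ⟨P⟩ : Nonempty (Sylow 2 H) := inferInstance
  refine ⟨P, C, hC, ?_⟩
  have h1 := C.card_mul_index
  rw [ha] at h1
  have hnd : ¬ 2 ∣ Nat.card C := by
    rw [← even_iff_two_dvd, Nat.not_even_iff_odd]; exact hodd
  have h2 : (Nat.card H).factorization 2 = a := by
    rw [← h1, Nat.factorization_mul Nat.card_pos.ne' (pow_ne_zero _ two_ne_zero),
      Finsupp.add_apply, Nat.factorization_eq_zero_of_not_dvd hnd,
      Nat.Prime.factorization_pow Nat.prime_two]
    simp
  have hP : Nat.card (P : Subgroup H) = 2 ^ a := by rw [P.card_eq_multiplicity, h2]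
  apply Subgroup.isComplement'_of_coprime
  · rw [hP, ← h1, mul_comm]
  · rw [hP]
    exact Nat.Coprime.pow_left _ (Nat.coprime_two_left.mpr hodd)

theorem good_quotient {H : Type u} [Group H] [Finite H] (N : Subgroup H) [N.Normal] (h : Good H) :
    Good (H ⧸ N) := by
  obtain ⟨C, hC, hodd, a, ha⟩ := h
  refine ⟨C.map (QuotientGroup.mk' N), inferInstance, ?_, ?_⟩
  · exact Odd.of_dvd_nat hodd (Subgroup.card_map_dvd C _)
  · have h1 := Subgroup.index_map_dvd C (QuotientGroup.mk'_surjective N)
    rw [ha] at h1
    obtain ⟨b, -, hb⟩ := (Nat.dvd_prime_pow Nat.prime_two).mp h1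
    exact ⟨b, hb⟩

theorem good_normal {H : Type u} [Group H] [Finite H] (N : Subgroup H) [N.Normal] (h : Good H) :
    Good N := by
  obtain ⟨C, hC, hodd, a, ha⟩ := h
  refine ⟨C.subgroupOf N, inferInstance, ?_, ?_⟩
  · have hinj : Function.Injective
        (((N.subtype).comp (C.subgroupOf N).subtype).codRestrict C (fun x => x.2)) := by
      intro x y hxy
      have := congrArg Subtype.val hxy
      exact Subtype.ext (Subtype.ext this)
    exact Odd.of_dvd_nat hodd (Subgroup.card_dvd_of_injective _ hinj)
  · have h1 : (C.subgroupOf N).index ∣ C.index := relIndex_dvd_index_of_normal_right C N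
    rw [ha] at h1
    obtain ⟨b, -, hb⟩ := (Nat.dvd_prime_pow Nat.prime_two).mp h1
    exact ⟨b, hb⟩

theorem solvable_of_good : ∀ (n : ℕ) (H : Type u) [Group H] [Finite H], Nat.card H ≤ n → Good H →
    Group.IsSolvable H := by
  intro n
  induction n with
  | zero =>
    intro H _ _ hn
    have := Nat.card_pos (α := H)
    omega
  | succ n ih =>
    intro H _ _ hn hgood
    by_cases hnorm : ∃ N : Subgroup H, N.Normal ∧ N ≠ ⊥ ∧ N ≠ ⊤
    · obtain ⟨N, hNn, hNbot, hNtop⟩ := hnorm
      have hcard := N.card_mul_index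
      have hNlt : Nat.card N < Nat.card H := by
        rcases lt_or_eq_of_le (Subgroup.card_le_card_group N) with h | h
        · exact h
        · exact absurd ((Subgroup.card_eq_iff_eq_top N).mp h) hNtop
      have hilt : N.index < Nat.card H := by
        have h1 : 1 < Nat.card N := by
          rcases Nat.lt_or_ge 1 (Nat.card N) with h | h
          · exact h
          · exfalso
            have : Nat.card N = 1 := le_antisymm h Nat.card_pos
            exact hNbot (Subgroup.card_eq_one.mp this)
        have hpos : 0 < N.index := Nat.pos_of_ne_zero Subgroup.index_ne_zero_of_finite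
        nlinarith
      have h1 : Group.IsSolvable N := ih N (by omega) (good_normal N hgood)
      have h2 : Group.IsSolvable (H ⧸ N) := by
        apply ih (H ⧸ N) _ (good_quotient N hgood)
        rw [← Subgroup.index_eq_card]; omega
      exact (Group.isSolvable_iff_subgroup_quotient N).2 ⟨h1, h2⟩
    · push Not at hnorm
      rcases subsingleton_or_nontrivial H with hsub | hnt
      · infer_instance
      have hsimple : IsSimpleGroup H :=
        { exists_pair_ne := exists_pair_ne H
          eq_bot_or_eq_top_of_normal := fun N hN => by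
            by_contra hcon
            push Not at hcon
            exact hcon.2 (hnorm N hN hcon.1) }
      obtain ⟨C, hC, hodd, a, ha⟩ := hgood
      by_cases hCbot : C = ⊥
      · rw [hCbot, Subgroup.index_bot] at ha
        exact Cfsg.Agent.S0144.isSolvable_of_card_prime_pow 2 a Nat.prime_two ha
      · obtain ⟨z, hz⟩ := (Subgroup.ne_bot_iff_exists_ne_one).mp hCbot
        have hz1 : (z : H) ≠ 1 := fun h => hz (Subtype.ext h)
        have hCle : C ≤ Subgroup.centralizer ({(z : H)} : Set H) := by
          intro c hc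
          rw [Subgroup.mem_centralizer_singleton_iff]
          have := hC.is_comm.comm ⟨c, hc⟩ z
          exact congrArg Subtype.val this
        have hidx := Subgroup.index_dvd_of_le hCle
        rw [ha] at hidx
        obtain ⟨k, -, hk⟩ := (Nat.dvd_prime_pow Nat.prime_two).mp hidx
        have hprime := Cfsg.Agent.S0143.result 2 k Nat.prime_two (z : H) hz1 hk
        have : Fact (Nat.card H).Prime := ⟨hprime⟩
        have hcyc : IsCyclic H := isCyclic_of_prime_card rfl
        apply Group.isSolvable_of_comm
        intro x y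
        obtain ⟨c, hc⟩ := hcyc.exists_generator
        obtain ⟨i, rfl⟩ := Subgroup.mem_zpowers_iff.1 (hc x)
        obtain ⟨j, rfl⟩ := Subgroup.mem_zpowers_iff.1 (hc y)
        rw [← zpow_add, ← zpow_add, add_comm]

theorem good_subgroup {H : Type u} [Group H] [Finite H] [Group.IsSolvable H] (h : Good H)
    (L : Subgroup H) : Good L := by
  obtain ⟨C, hC, hodd, a, ha⟩ := h
  have hL := hallProp_of_solvable L
  set v := (Nat.card L).factorization 2 with hv
  set m := Nat.card L / 2 ^ v with hm
  have hmn : Nat.card L = m * 2 ^ v := by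
    rw [mul_comm]; exact (Nat.ordProj_mul_ordCompl_eq_self _ 2).symm
  have h2m : Nat.Coprime 2 m := Nat.coprime_ordCompl Nat.prime_two Nat.card_pos.ne'
  have hcop : m.Coprime (2 ^ v) := (Nat.Coprime.pow_left v h2m).symm
  obtain ⟨-, hdom⟩ := hL m (2 ^ v) hmn hcop
  obtain ⟨D, hDcard, -⟩ := hdom ⊥ (by rw [Subgroup.card_bot]; exact Nat.coprime_one_left _)
  set D' : Subgroup H := D.map L.subtype with hD'
  have hD'card : Nat.card D' = m := by rw [hD', card_map_subtype, hDcard]
  have hH := hallProp_of_solvable H
  have hCcard := C.card_mul_index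
  rw [ha] at hCcard
  have hcopH : (Nat.card C).Coprime (2 ^ a) :=
    (Nat.Coprime.pow_left a (Nat.coprime_two_left.mpr hodd)).symm
  obtain ⟨hconj, hdomH⟩ := hH (Nat.card C) (2 ^ a) hCcard.symm hcopH
  have hD'cop : (Nat.card D').Coprime (2 ^ a) := by
    rw [hD'card]; exact (Nat.Coprime.pow_left a h2m).symm
  obtain ⟨C', hC'card, hD'C'⟩ := hdomH D' hD'cop
  obtain ⟨g, hg⟩ := hconj C C' rfl hC'card
  have hC'comm : ∀ x ∈ C', ∀ y ∈ C', x * y = y * x := by
    intro x hx y hy
    rw [← hg, Subgroup.mem_pointwise_smul_iff_inv_smul_mem] at hx hy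
    have h1 := hC.is_comm.comm ⟨_, hx⟩ ⟨_, hy⟩
    have h2 := congrArg Subtype.val h1
    simp only [MulAut.smul_def, MulAut.conj_inv_apply, Subgroup.coe_mul] at h2
    have e1 : x * y = g * ((g⁻¹ * x * g) * (g⁻¹ * y * g)) * g⁻¹ := by group
    have e2 : y * x = g * ((g⁻¹ * y * g) * (g⁻¹ * x * g)) * g⁻¹ := by group
    rw [e1, e2, h2]
  refine ⟨D, ⟨⟨fun x y => ?_⟩⟩, ?_, v, ?_⟩
  · apply Subtype.ext
    apply Subtype.ext
    have hx : ((x : L) : H) ∈ C' := hD'C' ⟨x, x.2, rfl⟩
    have hy : ((y : L) : H) ∈ C' := hD'C' ⟨y, y.2, rfl⟩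
    exact hC'comm _ hx _ hy
  · rw [hDcard]; exact Nat.Coprime.odd_of_left h2m
  · have h1 := D.card_mul_index
    rw [hDcard, hmn] at h1
    have hmpos : 0 < m := by
      rcases Nat.eq_zero_or_pos m with h0 | h0
      · rw [h0, zero_mul] at hmn
        exact absurd hmn Nat.card_pos.ne'
      · exact h0
    exact Nat.eq_of_mul_eq_mul_left hmpos h1


/-- Let H be a finite group in which a Sylow 2-subgroup has an abelian complement (an abelian subgroup meeting it trivially whose product with it is all of H). Then H is solvable, and every subgroup and every quotient group of H again has a Sylow 2-subgroup with an abelian complement. -/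
theorem result {H : Type*} [Group H] [Finite H]
    (S : Sylow 2 H) (C : Subgroup H) (hC : IsMulCommutative ↥C) (hSC : Subgroup.IsComplement' (S : Subgroup H) C) :
    Group.IsSolvable H ∧
    (∀ L : Subgroup H, ∃ (P : Sylow 2 ↥L) (D : Subgroup ↥L), IsMulCommutative ↥D ∧ Subgroup.IsComplement' (P : Subgroup ↥L) D) ∧
    (∀ (N : Subgroup H) [N.Normal], ∃ (P : Sylow 2 (H ⧸ N)) (D : Subgroup (H ⧸ N)),
      IsMulCommutative ↥D ∧ Subgroup.IsComplement' (P : Subgroup (H ⧸ N)) D) := by
  have hgood := good_of_compl S C hC hSC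
  have hsolv := solvable_of_good (Nat.card H) H le_rfl hgood
  refine ⟨hsolv, ?_, ?_⟩
  · intro L
    exact compl_of_good (good_subgroup hgood L)
  · intro N _
    exact compl_of_good (good_quotient N hgood)

end Cfsg.Agent.S3200
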