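import Mathlib
import Cfsg.Agent.Lib.Lead.QuatRecog
import Cfsg.Agent.Lib.Lead.UniqueOrderP5
import Cfsg.Agent.Lib.Lead.Frattini
import Cfsg.Statements.S3201

set_option autoImplicit false
open Cfsg

namespace Cfsg.Agent.S3201

open Cfsg.Agent.Lib.Lead

/-- the homomorphism from the quaternion group given by generators satisfying the relations -/
theorem quat_hom {G : Type*} [Group G] (m : ℕ) [NeZero m] (a x : G)
    (ha1 : a ^ (2 * m) = 1) (hx2 : x ^ 2 = a ^ m) (hxa : x * a * x⁻¹ = a⁻¹) :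
    ∃ F : QuaternionGroup m →* G, (∀ k : ℕ, F (QuaternionGroup.a k) = a ^ k) ∧
      (∀ k : ℕ, F (QuaternionGroup.xa k) = x * a ^ k) := by
  classical
  let E : ZMod (2 * m) → G := fun i => (zmodPow (2 * m) a ha1 i).toMul
  have E_add : ∀ i j, E (i + j) = E i * E j := zmodPow_add _ a ha1
  have E_neg : ∀ i, E (-i) = (E i)⁻¹ := zmodPow_neg _ a ha1
  have E_sub : ∀ i j, E (j - i) = (E i)⁻¹ * E j := by
    intro i j
    rw [sub_eq_add_neg, add_comm, E_add, E_neg]
  have E_m : E (m : ZMod (2 * m)) = a ^ m := zmodPow_natCast _ a ha1 m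
  have E_conj : ∀ i, x * E i * x⁻¹ = (E i)⁻¹ := by
    intro i
    obtain ⟨k, rfl⟩ := ZMod.intCast_surjective i
    have hEk : E (k : ZMod (2 * m)) = a ^ k := zmodPow_intCast _ a ha1 k
    rw [hEk]
    have h1 : x * a ^ k * x⁻¹ = (x * a * x⁻¹) ^ k := by
      have := map_zpow (MulAut.conj x) a k
      simpa [MulAut.conj_apply] using this
    rw [h1, hxa, inv_zpow]
  have E_comm : ∀ i, E i * x = x * (E i)⁻¹ := by
    intro i
    have h1 := E_conj (-i)
    rw [E_neg, inv_inv] at h1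
    calc E i * x = (x * (E i)⁻¹ * x⁻¹) * x := by rw [h1]
      _ = x * (E i)⁻¹ := by group
  let f : QuaternionGroup m → G := fun q =>
    match q with
    | QuaternionGroup.a i => E i
    | QuaternionGroup.xa i => x * E i
  have f_a : ∀ i, f (QuaternionGroup.a i) = E i := fun i => rfl
  have f_xa : ∀ i, f (QuaternionGroup.xa i) = x * E i := fun i => rfl
  have hmul : ∀ q r, f (q * r) = f q * f r := by
    intro q r
    rcases q with i | i <;> rcases r with j | j
    · rw [QuaternionGroup.a_mul_a, f_a, f_a, f_a, E_add]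
    · rw [QuaternionGroup.a_mul_xa, f_a, f_xa, f_xa, E_sub, ← mul_assoc (E i), E_comm]
      group
    · rw [QuaternionGroup.xa_mul_a, f_xa, f_xa, f_a, E_add, mul_assoc]
    · rw [QuaternionGroup.xa_mul_xa, f_xa, f_xa, f_a, add_sub_assoc, E_add, E_sub, E_m, ← hx2]
      have h1 : x * E i * (x * E j) = x * (E i * x) * E j := by group
      rw [h1, E_comm, sq]
      group
  refine ⟨MonoidHom.mk' f hmul, ?_, ?_⟩
  · intro k
    show f (QuaternionGroup.a k) = a ^ k
    rw [f_a]; exact zmodPow_natCast _ a ha1 k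
  · intro k
    show f (QuaternionGroup.xa k) = x * a ^ k
    rw [f_xa]; congr 1; exact zmodPow_natCast _ a ha1 k

theorem uniqueOrderP_of_unique {G : Type*} [Group G] [Finite G]
    (hu : ∃! x : G, orderOf x = 2) : UniqueOrderP 2 G := by
  obtain ⟨x₀, hx₀, huniq⟩ := hu
  have key : ∀ H : Subgroup G, Nat.card H = 2 → H = Subgroup.zpowers x₀ := by
    intro H hH
    have hx₀H : x₀ ∈ H := by
      haveI : Nontrivial H := by
        rw [← Finite.one_lt_card_iff_nontrivial, hH]; norm_num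
      obtain ⟨h, hh⟩ := exists_ne (1 : H)
      have h2 : orderOf h ∣ 2 := hH ▸ orderOf_dvd_natCard h
      have h3 : orderOf h = 2 := by
        rcases (Nat.dvd_prime Nat.prime_two).mp h2 with h1 | h1
        · exact absurd (orderOf_eq_one_iff.mp h1) hh
        · exact h1
      have h4 : orderOf (h : G) = 2 := by rw [Subgroup.orderOf_coe]; exact h3
      rw [← huniq _ h4]; exact h.2
    symm
    apply Subgroup.eq_of_le_of_card_ge
    · rw [Subgroup.zpowers_le]; exact hx₀H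
    · rw [hH, Nat.card_zpowers, hx₀]
  intro H K hH hK
  rw [key H hH, key K hK]

theorem quat_one_comm : ∀ x y : QuaternionGroup 1, x * y = y * x := by decide

theorem quat_of_unique_involution {G : Type*} [Group G] [Finite G] (hG : IsPGroup 2 G)
    (hna : ¬ IsMulCommutative G) (hu : ∃! x : G, orderOf x = 2) :
    ∃ k : ℕ, Nonempty (G ≃* QuaternionGroup (2 ^ (k + 1))) := by
  haveI : Fact (Nat.Prime 2) := ⟨Nat.prime_two⟩
  rcases UniqueOrderP.main hG (uniqueOrderP_of_unique hu) with h | ⟨-, k, ⟨e⟩⟩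
  · exfalso; apply hna
    exact ⟨⟨fun a b => by
      obtain ⟨g, hg⟩ := h.exists_generator
      obtain ⟨i, rfl⟩ := Subgroup.mem_zpowers_iff.mp (hg a)
      obtain ⟨j, rfl⟩ := Subgroup.mem_zpowers_iff.mp (hg b)
      rw [← zpow_add, ← zpow_add, add_comm]⟩⟩
  · rcases k with _ | k
    · exfalso; apply hna
      refine ⟨⟨fun a b => ?_⟩⟩
      apply e.injective
      rw [map_mul, map_mul]
      have h1 : (2 : ℕ) ^ 0 = 1 := pow_zero 2
      revert e
      rw [h1]
      intro e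
      exact quat_one_comm _ _
    · exact ⟨k, ⟨e⟩⟩


theorem per_i {S : Type*} [Group S] [Finite S] (N : Subgroup S) [N.Normal]
    (hNZ : N ≤ Subgroup.center S) (hZ2 : ∀ z ∈ Subgroup.center S, z ^ 2 = 1)
    (hex : ∃ z ∈ Subgroup.center S, z ∉ N) (hu : ∃! x : S ⧸ N, orderOf x = 2) :
    (∀ t : S, t ∉ N → t ^ 2 ∈ N → t ∈ Subgroup.center S) ∧
    (∀ s : S, s ∉ Subgroup.center S → ∀ j : ℕ, s ^ (2 ^ j) ≠ 1 → (s ^ (2 ^ j)) ^ 2 = 1 →
      s ^ (2 ^ j) ∉ N) := by
  classical
  obtain ⟨x₁, -, huniq⟩ := hu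
  obtain ⟨z₁, hz₁Z, hz₁N⟩ := hex
  have hord : ∀ t : S, t ∉ N → t ^ 2 ∈ N → orderOf (QuotientGroup.mk' N t) = 2 := by
    intro t ht ht2
    apply orderOf_eq_prime
    · rw [← map_pow, QuotientGroup.mk'_apply, QuotientGroup.eq_one_iff]; exact ht2
    · rw [QuotientGroup.mk'_apply, Ne, QuotientGroup.eq_one_iff]; exact ht
  have hz₁o := hord z₁ hz₁N (by rw [hZ2 z₁ hz₁Z]; exact N.one_mem)
  have hA : ∀ t : S, t ∉ N → t ^ 2 ∈ N → t ∈ Subgroup.center S := by
    intro t ht ht2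
    have h1 := huniq _ (hord t ht ht2)
    have h2 := huniq _ hz₁o
    have h3 : QuotientGroup.mk' N z₁ = QuotientGroup.mk' N t := h2.trans h1.symm
    rw [QuotientGroup.mk'_apply, QuotientGroup.mk'_apply, QuotientGroup.eq] at h3
    have h4 : t = z₁ * (z₁⁻¹ * t) := by group
    rw [h4]
    exact Subgroup.mul_mem _ hz₁Z (hNZ h3)
  refine ⟨hA, ?_⟩
  intro s hs j hw1 hw2 hwN
  have hex' : ∃ j' : ℕ, s ^ (2 ^ j') ∈ N := ⟨j, hwN⟩
  have hj0 : Nat.find hex' ≠ 0 := by
    intro h0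
    have := Nat.find_spec hex'
    rw [h0, pow_zero, pow_one] at this
    exact hs (hNZ this)
  obtain ⟨j₁, hj₁⟩ := Nat.exists_eq_succ_of_ne_zero hj0
  have hu1 : s ^ (2 ^ j₁) ∉ N := Nat.find_min hex' (by omega)
  have hu2 : (s ^ (2 ^ j₁)) ^ 2 ∈ N := by
    have := Nat.find_spec hex'
    rw [hj₁, Nat.succ_eq_add_one, pow_succ, pow_mul] at this
    exact this
  have huZ := hA _ hu1 hu2
  have hu3 : s ^ (2 ^ (j₁ + 1)) = 1 := by
    rw [pow_succ, pow_mul]; exact hZ2 _ huZ
  have hle : j₁ + 1 ≤ j := by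
    have := Nat.find_min' hex' hwN
    omega
  apply hw1
  obtain ⟨d, rfl⟩ := Nat.exists_eq_add_of_le hle
  rw [pow_add, pow_mul, hu3, one_pow]

theorem core {S : Type*} [Group S] [Finite S] (hS : IsPGroup 2 S) (N : Subgroup S)
    [hNn : N.Normal] (hNZ : N ≤ Subgroup.center S)
    (hZ2 : ∀ z ∈ Subgroup.center S, z ^ 2 = 1)
    (hna : ¬ IsMulCommutative (S ⧸ N)) (hu : ∃! x : S ⧸ N, orderOf x = 2)
    (hT : ∀ s s' : S, s ∉ Subgroup.center S → s' ∉ Subgroup.center S → ∀ j j' : ℕ,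
      s ^ (2 ^ j) ≠ 1 → (s ^ (2 ^ j)) ^ 2 = 1 → s' ^ (2 ^ j') ≠ 1 → (s' ^ (2 ^ j')) ^ 2 = 1 →
      s ^ (2 ^ j) = s' ^ (2 ^ j'))
    (hF2 : ∀ s : S, s ∉ Subgroup.center S → ∀ j : ℕ, s ^ (2 ^ j) ∈ N → s ^ (2 ^ j) = 1)
    (hinvZ : ∀ t : S, t ^ 2 = 1 → t ∈ Subgroup.center S) :
    ∃ E Q : Subgroup S, Cfsg.IsInternalDirectProduct E Q ⊤ ∧ Cfsg.IsElementaryAbelian 2 E ∧
      ¬ IsMulCommutative ↥Q ∧ ∃! x : ↥Q, orderOf x = 2 := by
  classical
  obtain ⟨k, ⟨e⟩⟩ := quat_of_unique_involution (hS.to_quotient N) hna hu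
  set M := 2 ^ (k + 1) with hM
  haveI : NeZero M := ⟨by positivity⟩
  have hM2 : 2 ≤ M := by
    rw [hM, pow_succ]; have := Nat.one_le_two_pow (n := k); omega
  have h2ne : (2 : ZMod (2 * M)) ≠ 0 := by
    intro h
    have h1 : ((2 : ℕ) : ZMod (2 * M)) = 0 := by exact_mod_cast h
    rw [ZMod.natCast_eq_zero_iff] at h1
    have := Nat.le_of_dvd (by norm_num) h1
    omega
  have hMne : ((M : ℕ) : ZMod (2 * M)) ≠ 0 := by
    intro h1
    rw [ZMod.natCast_eq_zero_iff] at h1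
    have := Nat.le_of_dvd (by omega) h1
    omega
  have haM : (QuaternionGroup.a (M : ZMod (2 * M)) : QuaternionGroup M) ≠ 1 := by
    rw [QuaternionGroup.one_def]
    intro h
    injection h with h
    exact hMne h
  have h2M : 2 * M = 2 ^ (k + 2) := by rw [hM]; ring
  obtain ⟨α, hα⟩ := QuotientGroup.mk'_surjective N (e.symm (QuaternionGroup.a 1))
  obtain ⟨β, hβ⟩ := QuotientGroup.mk'_surjective N (e.symm (QuaternionGroup.xa 0))
  let ε : S →* QuaternionGroup M := e.toMonoidHom.comp (QuotientGroup.mk' N)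
  have hεα : ε α = QuaternionGroup.a 1 := by
    show e (QuotientGroup.mk' N α) = _
    rw [hα, MulEquiv.apply_symm_apply]
  have hεβ : ε β = QuaternionGroup.xa 0 := by
    show e (QuotientGroup.mk' N β) = _
    rw [hβ, MulEquiv.apply_symm_apply]
  have hεker : ∀ s, ε s = 1 ↔ s ∈ N := by
    intro s
    simp only [ε, MonoidHom.comp_apply, MulEquiv.coe_toMonoidHom, MulEquiv.map_eq_one_iff,
      QuotientGroup.mk'_apply, QuotientGroup.eq_one_iff]
  have hnc : ∀ s t : S, ε s * ε t ≠ ε t * ε s → s ∉ Subgroup.center S := by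
    intro s t h hs
    apply h
    rw [← map_mul, ← map_mul, (Subgroup.mem_center_iff.mp hs t)]
  have hαβ : ε α * ε β ≠ ε β * ε α := by
    rw [hεα, hεβ, QuaternionGroup.a_mul_xa, QuaternionGroup.xa_mul_a]
    intro h
    injection h with h
    apply h2ne
    linear_combination (-1 : ZMod (2 * M)) * h
  have hαZ : α ∉ Subgroup.center S := hnc α β hαβ
  have hβZ : β ∉ Subgroup.center S := hnc β α (fun h => hαβ h.symm)
  have hεγ : ε (β * α) = QuaternionGroup.xa 1 := by
    rw [map_mul, hεα, hεβ, QuaternionGroup.xa_mul_a, zero_add]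
  have hγZ : β * α ∉ Subgroup.center S := by
    apply hnc (β * α) α
    rw [hεγ, hεα, QuaternionGroup.a_mul_xa, QuaternionGroup.xa_mul_a]
    intro h
    injection h with h
    apply h2ne
    linear_combination h
  -- orders
  have hα2M : α ^ (2 * M) = 1 := by
    rw [h2M]
    apply hF2 α hαZ
    rw [← hεker, ← h2M, map_pow, hεα, QuaternionGroup.a_one_pow_n]
  have hεαM : ε (α ^ M) = QuaternionGroup.a (M : ZMod (2 * M)) := by
    rw [map_pow, hεα, QuaternionGroup.a_one_pow]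
  have hαMN : α ^ M ∉ N := by
    rw [← hεker, hεαM]; exact haM
  have hαM1 : α ^ (2 ^ (k + 1)) ≠ 1 := by
    intro h; apply hαMN; rw [hM, h]; exact N.one_mem
  have hαM2 : (α ^ (2 ^ (k + 1))) ^ 2 = 1 := by
    rw [← pow_mul, mul_comm, ← hM, hα2M]
  have hβ4 : β ^ 4 = 1 := by
    have h4 : (4 : ℕ) = 2 ^ 2 := by norm_num
    rw [h4]
    apply hF2 β hβZ
    rw [← hεker, ← h4, map_pow, hεβ, QuaternionGroup.xa_pow_four]
  have hεβ2 : ε (β ^ 2) = QuaternionGroup.a (M : ZMod (2 * M)) := by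
    rw [map_pow, hεβ, QuaternionGroup.xa_sq]
  have hβ2N : β ^ 2 ∉ N := by
    rw [← hεker, hεβ2]; exact haM
  have hβ21 : β ^ (2 ^ 1) ≠ 1 := by
    rw [pow_one]; intro h; apply hβ2N; rw [h]; exact N.one_mem
  have hβ22 : (β ^ (2 ^ 1)) ^ 2 = 1 := by
    rw [pow_one, ← pow_mul]; exact hβ4
  have hβα : β ^ 2 = α ^ M := by
    have := hT β α hβZ hαZ 1 (k + 1) hβ21 hβ22 hαM1 hαM2
    rw [pow_one] at this
    rw [this, hM]
  -- the twisted relation
  set c : S := α * β * α * β⁻¹ with hc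
  have hcN : c ∈ N := by
    rw [← hεker, hc, map_mul, map_mul, map_mul, map_inv, hεα, hεβ, QuaternionGroup.a_mul_xa,
      QuaternionGroup.xa_mul_a, sub_add_cancel, mul_inv_cancel]
  have hcZ : c ∈ Subgroup.center S := hNZ hcN
  have hcc : ∀ g : S, g * c = c * g := Subgroup.mem_center_iff.mp hcZ
  have hβ2Z : β ^ 2 ∈ Subgroup.center S := hinvZ _ (by rw [← pow_mul]; exact hβ4)
  have hβ2c : ∀ g : S, g * β ^ 2 = β ^ 2 * g := Subgroup.mem_center_iff.mp hβ2Z
  have hαβα : α * β * α = c * β := by rw [hc]; group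
  have hγ2 : (β * α) ^ 2 = c * β ^ 2 := by
    calc (β * α) ^ 2 = β * (α * β * α) := by rw [pow_two]; group
      _ = β * (c * β) := by rw [hαβα]
      _ = (β * c) * β := by group
      _ = (c * β) * β := by rw [hcc β]
      _ = c * β ^ 2 := by rw [pow_two, mul_assoc]
  have hγ2N : (β * α) ^ 2 ∉ N := by
    rw [hγ2]
    intro h
    apply hβ2N
    have := N.mul_mem (N.inv_mem hcN) h
    rwa [inv_mul_cancel_left] at this
  have hγ21 : (β * α) ^ (2 ^ 1) ≠ 1 := by
    rw [pow_one]; intro h; apply hγ2N; rw [h]; exact N.one_mem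
  have hγ22 : ((β * α) ^ (2 ^ 1)) ^ 2 = 1 := by
    rw [pow_one, hγ2, pow_two]
    calc c * β ^ 2 * (c * β ^ 2) = c * (β ^ 2 * c) * β ^ 2 := by simp only [mul_assoc]
      _ = c * (c * β ^ 2) * β ^ 2 := by rw [hcc (β ^ 2)]
      _ = c ^ 2 * (β ^ 2) ^ 2 := by rw [pow_two c, pow_two (β ^ 2)]; simp only [mul_assoc]
      _ = 1 := by rw [hZ2 c hcZ, ← pow_mul, hβ4, one_mul]
  have hc1 : c = 1 := by
    have := hT (β * α) β hγZ hβZ 1 1 hγ21 hγ22 hβ21 hβ22
    rw [pow_one, hγ2] at this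
    exact mul_eq_right.mp this
  have hrel : β * α * β⁻¹ = α⁻¹ := by
    have h1 : α * β * α = β := by rw [hαβα, hc1, one_mul]
    calc β * α * β⁻¹ = α⁻¹ * (α * β * α) * β⁻¹ := by group
      _ = α⁻¹ := by rw [h1]; group
  obtain ⟨F, hFa, hFxa⟩ := quat_hom M α β hα2M hβα hrel
  have hεF : ∀ q, ε (F q) = q := by
    intro q
    rcases q with i | i
    · rw [← ZMod.natCast_zmod_val i, hFa, map_pow, hεα, QuaternionGroup.a_one_pow]
    · rw [← ZMod.natCast_zmod_val i, hFxa, map_mul, map_pow, hεα, hεβ,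
        QuaternionGroup.a_one_pow, QuaternionGroup.xa_mul_a, zero_add]
  have hαQ : α ∈ F.range := ⟨QuaternionGroup.a ((1 : ℕ) : ZMod (2 * M)), by rw [hFa, pow_one]⟩
  have hβQ : β ∈ F.range := ⟨QuaternionGroup.xa ((0 : ℕ) : ZMod (2 * M)), by
    rw [hFxa, pow_zero, mul_one]⟩
  have hinf : N ⊓ F.range = ⊥ := by
    rw [eq_bot_iff]
    rintro g ⟨hgN, q, rfl⟩
    have h1 : ε (F q) = 1 := (hεker _).mpr hgN
    rw [hεF] at h1
    rw [h1, map_one]; exact Subgroup.mem_bot.mpr rfl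
  refine ⟨N, F.range, ⟨le_top, le_top, ?_, hinf, ?_⟩, ⟨⟨⟨fun a b => ?_⟩⟩, ?_⟩, ?_, ?_⟩
  · intro a ha b _
    exact (Subgroup.mem_center_iff.mp (hNZ ha) b).symm
  · rw [eq_top_iff]
    intro s _
    have h1 : s * (F (ε s))⁻¹ ∈ N := by
      rw [← hεker, map_mul, map_inv, hεF, mul_inv_cancel]
    have h2 : s = (s * (F (ε s))⁻¹) * F (ε s) := by group
    rw [h2]
    exact Subgroup.mul_mem _ (Subgroup.mem_sup_left h1) (Subgroup.mem_sup_right ⟨_, rfl⟩)
  · apply Subtype.ext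
    exact (Subgroup.mem_center_iff.mp (hNZ a.2) b.1).symm
  · intro a ha
    exact hZ2 a (hNZ ha)
  · intro hcomm
    have h1 := hcomm.is_comm.comm (⟨α, hαQ⟩ : F.range) ⟨β, hβQ⟩
    have h2 : α * β = β * α := congrArg Subtype.val h1
    apply hαβ
    rw [← map_mul, ← map_mul, h2]
  · have hx0Q : α ^ M ∈ F.range := F.range.pow_mem hαQ M
    have horder : ∀ y : F.range, orderOf y = 2 →
        orderOf (QuotientGroup.mk' N (y : S)) = 2 := by
      intro y hy
      have hy2 : (y : S) ^ 2 = 1 := by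
        have : y ^ 2 = 1 := by rw [← hy]; exact pow_orderOf_eq_one y
        exact_mod_cast congrArg Subtype.val this
      have hy1 : (y : S) ≠ 1 := by
        intro h
        have : y = 1 := Subtype.ext h
        rw [this, orderOf_one] at hy; omega
      apply orderOf_eq_prime
      · rw [← map_pow, hy2, map_one]
      · intro h
        rw [QuotientGroup.mk'_apply, QuotientGroup.eq_one_iff] at h
        have : (y : S) ∈ N ⊓ F.range := ⟨h, y.2⟩
        rw [hinf] at this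
        exact hy1 (Subgroup.mem_bot.mp this)
    have hx0o : orderOf (⟨α ^ M, hx0Q⟩ : F.range) = 2 := by
      apply orderOf_eq_prime
      · apply Subtype.ext
        show (α ^ M) ^ 2 = 1
        rw [hM]; exact hαM2
      · intro h
        have : α ^ M = 1 := congrArg Subtype.val h
        rw [hM] at this; exact hαM1 this
    refine ⟨⟨α ^ M, hx0Q⟩, hx0o, ?_⟩
    intro y hy
    obtain ⟨x₁, -, huniq⟩ := hu
    have h1 := huniq _ (horder y hy)
    have h2 := huniq _ (horder _ hx0o)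
    have h3 : QuotientGroup.mk' N (y : S) = QuotientGroup.mk' N (α ^ M) := h1.trans h2.symm
    rw [QuotientGroup.mk'_apply, QuotientGroup.mk'_apply, QuotientGroup.eq] at h3
    have h4 : (y : S)⁻¹ * α ^ M ∈ N ⊓ F.range :=
      ⟨h3, F.range.mul_mem (F.range.inv_mem y.2) hx0Q⟩
    rw [hinf] at h4
    apply Subtype.ext
    have h5 := Subgroup.mem_bot.mp h4
    show (y : S) = α ^ M
    calc (y : S) = (y : S) * ((y : S)⁻¹ * α ^ M) := by rw [h5, mul_one]
      _ = α ^ M := by group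

/-- Let S be a finite 2-group whose centre Z(S) has n ≥ 2 distinct maximal subgroups C₁, …, Cₙ with trivial intersection such that each quotient S/Cᵢ is a non-abelian group with exactly one involution (a generalized quaternion group). Then S is the internal direct product of an elementary abelian subgroup and a non-abelian subgroup with exactly one involution. -/
theorem result {S : Type*} [Group S] [Finite S]
    (hS : IsPGroup 2 S) (n : ℕ) (hn : 2 ≤ n) (C : Fin n → Subgroup ↥(Subgroup.center S))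
    (hCmax : ∀ i, IsCoatom (C i)) (hCinj : Function.Injective C) (hCint : ⨅ i, C i = ⊥)
    (hCq : ∀ i, ∃ (_ : ((C i).map (Subgroup.center S).subtype).Normal),
      ¬ IsMulCommutative (S ⧸ (C i).map (Subgroup.center S).subtype) ∧
      ∃! x : S ⧸ (C i).map (Subgroup.center S).subtype, orderOf x = 2) :
    ∃ E Q : Subgroup S, Cfsg.IsInternalDirectProduct E Q ⊤ ∧ Cfsg.IsElementaryAbelian 2 E ∧
      ¬ IsMulCommutative ↥Q ∧ ∃! x : ↥Q, orderOf x = 2 := by
  classical
  haveI : Fact (Nat.Prime 2) := ⟨Nat.prime_two⟩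
  have hZp : IsPGroup 2 (Subgroup.center S) := hS.to_subgroup _
  have hidx : ∀ i, (C i).index = 2 :=
    fun i => (coatom_normal_index_of_isPGroup hZp (hCmax i)).2
  have hZ2' : ∀ z : Subgroup.center S, z ^ 2 = 1 := by
    intro z
    have h1 : z ^ 2 ∈ ⨅ i, C i := by
      rw [Subgroup.mem_iInf]; intro i
      exact Subgroup.sq_mem_of_index_two (hidx i) z
    rw [hCint] at h1
    exact Subgroup.mem_bot.mp h1
  have hZ2 : ∀ z ∈ Subgroup.center S, z ^ 2 = 1 := by
    intro z hz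
    have h1 := hZ2' ⟨z, hz⟩
    have h2 := congrArg Subtype.val h1
    simpa using h2
  have hNZ : ∀ i, (C i).map (Subgroup.center S).subtype ≤ Subgroup.center S := by
    intro i; rintro _ ⟨z, _, rfl⟩; exact z.2
  have hmemN : ∀ i (z : Subgroup.center S),
      (z : S) ∈ (C i).map (Subgroup.center S).subtype ↔ z ∈ C i := by
    intro i z
    constructor
    · rintro ⟨w, hw, hwz⟩
      have h1 : w = z := Subtype.ext hwz
      rwa [← h1]
    · intro h; exact ⟨z, h, rfl⟩
  have huniqz : ∀ w w' : S, w ∈ Subgroup.center S → w' ∈ Subgroup.center S →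
      (∀ i, w ∉ (C i).map (Subgroup.center S).subtype) →
      (∀ i, w' ∉ (C i).map (Subgroup.center S).subtype) → w = w' := by
    intro w w' hw hw' h h'
    have h0 : (⟨w, hw⟩ : Subgroup.center S) * (⟨w', hw'⟩ : Subgroup.center S)⁻¹ ∈ ⨅ i, C i := by
      rw [Subgroup.mem_iInf]; intro i
      have h1 : (⟨w, hw⟩ : Subgroup.center S) ∉ C i := fun hc => h i ((hmemN i _).mpr hc)
      have h2 : (⟨w', hw'⟩ : Subgroup.center S) ∉ C i := fun hc => h' i ((hmemN i _).mpr hc)
      rw [Subgroup.mul_mem_iff_of_index_two (hidx i), inv_mem_iff]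
      exact ⟨fun h => absurd h h1, fun h => absurd h h2⟩
    rw [hCint, Subgroup.mem_bot, mul_inv_eq_one] at h0
    exact congrArg Subtype.val h0
  have hexi : ∀ i, ∃ z ∈ Subgroup.center S, z ∉ (C i).map (Subgroup.center S).subtype := by
    intro i
    have hne : C i ≠ ⊤ := (hCmax i).1
    obtain ⟨z, hz⟩ : ∃ z : Subgroup.center S, z ∉ C i := by
      by_contra hall
      push Not at hall
      exact hne ((Subgroup.eq_top_iff' _).mpr hall)
    exact ⟨z, z.2, fun h => hz ((hmemN i z).mp h)⟩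
  have hper : ∀ i, (∀ t : S, t ∉ (C i).map (Subgroup.center S).subtype →
        t ^ 2 ∈ (C i).map (Subgroup.center S).subtype → t ∈ Subgroup.center S) ∧
      (∀ s : S, s ∉ Subgroup.center S → ∀ j : ℕ, s ^ (2 ^ j) ≠ 1 → (s ^ (2 ^ j)) ^ 2 = 1 →
        s ^ (2 ^ j) ∉ (C i).map (Subgroup.center S).subtype) := by
    intro i
    obtain ⟨hNn, -, hu⟩ := hCq i
    haveI := hNn
    exact per_i _ (hNZ i) hZ2 (hexi i) hu
  let i₀ : Fin n := ⟨0, by omega⟩
  obtain ⟨hNn, hna, hu⟩ := hCq i₀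
  haveI := hNn
  have hinvZ : ∀ t : S, t ^ 2 = 1 → t ∈ Subgroup.center S := by
    intro t ht
    by_cases htN : t ∈ (C i₀).map (Subgroup.center S).subtype
    · exact hNZ i₀ htN
    · exact (hper i₀).1 t htN (by rw [ht]; exact Subgroup.one_mem _)
  refine core hS ((C i₀).map (Subgroup.center S).subtype) (hNZ i₀) hZ2 hna hu ?_ ?_ hinvZ
  · intro s s' hs hs' j j' h1 h2 h1' h2'
    exact huniqz _ _ (hinvZ _ h2) (hinvZ _ h2') (fun i => (hper i).2 s hs j h1 h2)
      (fun i => (hper i).2 s' hs' j' h1' h2')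
  · intro s hs j hN
    by_contra hne
    have h2 : (s ^ (2 ^ j)) ^ 2 = 1 := hZ2 _ (hNZ i₀ hN)
    exact (hper i₀).2 s hs j hne h2 hN

end Cfsg.Agent.S3201
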