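import Mathlib
import Cfsg.Agent.S3201
import Cfsg.Agent.Lib.Helper6.QuatAut
import Cfsg.Agent.Lib.Helper6.Conj2
import Cfsg.Statements.S3202

set_option autoImplicit false
open Cfsg

namespace Cfsg.Agent.S3202

open Cfsg.Agent.Lib.Helper6

/-- If `S / N` is generalised quaternion for a central subgroup `N`, then the commutator subgroup
of `S` is cyclic. -/
theorem commutator_cyclic {S : Type*} [Group S] [Finite S] (N : Subgroup S) [N.Normal]
    (hNZ : N ≤ Subgroup.center S) (M : ℕ) [NeZero M] (e : S ⧸ N ≃* QuaternionGroup M) :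
    ∃ g : S, commutator S ≤ Subgroup.zpowers g := by
  classical
  obtain ⟨α, hα⟩ := QuotientGroup.mk'_surjective N (e.symm (QuaternionGroup.a 1))
  obtain ⟨β, hβ⟩ := QuotientGroup.mk'_surjective N (e.symm (QuaternionGroup.xa 0))
  let ε : S →* QuaternionGroup M := e.toMonoidHom.comp (QuotientGroup.mk' N)
  have hεα : ε α = QuaternionGroup.a 1 := by
    show e (QuotientGroup.mk' N α) = _
    rw [hα, MulEquiv.apply_symm_apply]
  have hεβ : ε β = QuaternionGroup.xa 0 := by
    show e (QuotientGroup.mk' N β) = _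
    rw [hβ, MulEquiv.apply_symm_apply]
  have hεker : ∀ s, ε s = 1 ↔ s ∈ N := by
    intro s
    simp only [ε, MonoidHom.comp_apply, MulEquiv.coe_toMonoidHom, MulEquiv.map_eq_one_iff,
      QuotientGroup.mk'_apply, QuotientGroup.eq_one_iff]
  set c : S := α * β * α * β⁻¹ with hc
  have hcN : c ∈ N := by
    rw [← hεker, hc, map_mul, map_mul, map_mul, map_inv, hεα, hεβ, QuaternionGroup.a_mul_xa,
      QuaternionGroup.xa_mul_a, sub_add_cancel, mul_inv_cancel]
  have hcc : ∀ x : S, x * c = c * x := Subgroup.mem_center_iff.mp (hNZ hcN)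
  set g : S := β * α * β⁻¹ * α⁻¹ with hg
  refine ⟨g, ?_⟩
  set T : Subgroup S := Subgroup.zpowers g with hT
  -- conjugation by α fixes g, conjugation by β inverts it
  have hβαβ : β * α * β⁻¹ = α⁻¹ * c := by rw [hc]; group
  have hgα : g = α⁻¹ * c * α⁻¹ := by rw [hg, hβαβ]
  have hαg : α * g * α⁻¹ = g := by
    rw [hgα]
    calc α * (α⁻¹ * c * α⁻¹) * α⁻¹ = (c * α⁻¹) * α⁻¹ := by group
      _ = (α⁻¹ * c) * α⁻¹ := by rw [hcc α⁻¹]
  have hβg : β * g * β⁻¹ = g⁻¹ := by
    have h1 : β * g * β⁻¹ = (β * α * β⁻¹)⁻¹ * (β * c * β⁻¹) * (β * α * β⁻¹)⁻¹ := by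
      rw [hgα]; group
    have h2 : β * c * β⁻¹ = c := by rw [hcc β, mul_inv_cancel_right]
    rw [h1, h2, hβαβ, hgα]
    have h3 : (α⁻¹ * c)⁻¹ * c * (α⁻¹ * c)⁻¹ = c⁻¹ * α * c * c⁻¹ * α := by group
    rw [h3]
    have h4 : c⁻¹ * α * c = α := by rw [mul_assoc, hcc α, inv_mul_cancel_left]
    have h5 : (α⁻¹ * c * α⁻¹)⁻¹ = α * c⁻¹ * α := by group
    rw [h5, h4]
  have hnα : α ∈ Subgroup.normalizer (T : Set S) := by
    apply mem_normalizer_of_forall_conj_mem
    intro s hs
    obtain ⟨k, rfl⟩ := Subgroup.mem_zpowers_iff.mp hs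
    have h1 : α * g ^ k * α⁻¹ = (α * g * α⁻¹) ^ k := by
      have := map_zpow (MulAut.conj α) g k
      simpa [MulAut.conj_apply] using this
    rw [h1, hαg]; exact Subgroup.zpow_mem_zpowers g k
  have hnβ : β ∈ Subgroup.normalizer (T : Set S) := by
    apply mem_normalizer_of_forall_conj_mem
    intro s hs
    obtain ⟨k, rfl⟩ := Subgroup.mem_zpowers_iff.mp hs
    have h1 : β * g ^ k * β⁻¹ = (β * g * β⁻¹) ^ k := by
      have := map_zpow (MulAut.conj β) g k
      simpa [MulAut.conj_apply] using this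
    rw [h1, hβg]
    exact Subgroup.zpow_mem _ (Subgroup.inv_mem _ (Subgroup.mem_zpowers g)) k
  have hnN : N ≤ Subgroup.normalizer (T : Set S) := by
    intro d hd
    apply mem_normalizer_of_forall_conj_mem
    intro s hs
    have := Subgroup.mem_center_iff.mp (hNZ hd) s
    rw [← this, mul_inv_cancel_right]; exact hs
  -- generation
  have hgen : Subgroup.closure ({α, β} ∪ (N : Set S)) = ⊤ := by
    rw [eq_top_iff]
    intro s _
    set R := Subgroup.closure ({α, β} ∪ (N : Set S)) with hR
    have hαR : α ∈ R := Subgroup.subset_closure (Or.inl (by simp))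
    have hβR : β ∈ R := Subgroup.subset_closure (Or.inl (by simp))
    have hNR : N ≤ R := fun d hd => Subgroup.subset_closure (Or.inr hd)
    obtain ⟨w, hwR, hw⟩ : ∃ w ∈ R, ε w = ε s := by
      rcases h : ε s with i | i
      · refine ⟨α ^ i.val, R.pow_mem hαR _, ?_⟩
        rw [map_pow, hεα, QuaternionGroup.a_one_pow, ZMod.natCast_zmod_val]
      · refine ⟨β * α ^ i.val, R.mul_mem hβR (R.pow_mem hαR _), ?_⟩
        rw [map_mul, map_pow, hεα, hεβ, QuaternionGroup.a_one_pow, QuaternionGroup.xa_mul_a,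
          zero_add, ZMod.natCast_zmod_val]
    have h1 : w⁻¹ * s ∈ N := by
      rw [← hεker, map_mul, map_inv, hw, inv_mul_cancel]
    have h2 : s = w * (w⁻¹ * s) := by group
    rw [h2]
    exact R.mul_mem hwR (hNR h1)
  have hnorm : Subgroup.normalizer (T : Set S) = ⊤ := by
    rw [eq_top_iff, ← hgen, Subgroup.closure_le]
    intro x hx
    rcases hx with hx | hx
    · rcases hx with rfl | rfl
      · exact hnα
      · exact hnβ
    · exact hnN hx
  haveI hTn : T.Normal := Subgroup.normalizer_eq_top_iff.mp hnorm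
  have hcomm : IsMulCommutative (S ⧸ T) := by
    have hcl : Subgroup.closure ((QuotientGroup.mk' T) '' ({α, β} ∪ (N : Set S))) = ⊤ := by
      have := congrArg (Subgroup.map (QuotientGroup.mk' T)) hgen
      rw [MonoidHom.map_closure, Subgroup.map_top_of_surjective _ (QuotientGroup.mk'_surjective T)]
        at this
      exact this
    have hαβ : QuotientGroup.mk' T α * QuotientGroup.mk' T β
        = QuotientGroup.mk' T β * QuotientGroup.mk' T α := by
      rw [← map_mul, ← map_mul, QuotientGroup.mk'_apply, QuotientGroup.mk'_apply,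
        QuotientGroup.eq]
      have h1 : (α * β)⁻¹ * (β * α) = (β⁻¹ * α⁻¹) * g * (β⁻¹ * α⁻¹)⁻¹ := by rw [hg]; group
      rw [h1]
      exact hTn.conj_mem g (Subgroup.mem_zpowers g) _
    have hcen : ∀ x ∈ N, ∀ y : S, QuotientGroup.mk' T x * QuotientGroup.mk' T y
        = QuotientGroup.mk' T y * QuotientGroup.mk' T x := by
      intro x hx y
      rw [← map_mul, ← map_mul, (Subgroup.mem_center_iff.mp (hNZ hx) y)]
    have h := Subgroup.isMulCommutative_closure
      (k := (QuotientGroup.mk' T) '' ({α, β} ∪ (N : Set S))) (by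
        rintro _ ⟨x, hx, rfl⟩ _ ⟨y, hy, rfl⟩
        rcases hx with hx | hx
        · rcases hy with hy | hy
          · rcases hx with rfl | rfl <;> rcases hy with rfl | rfl
            · rfl
            · exact hαβ
            · exact hαβ.symm
            · rfl
          · exact (hcen y hy x).symm
        · exact hcen x hx y)
    rw [hcl] at h
    refine ⟨⟨fun a b => ?_⟩⟩
    have := h.is_comm.comm ⟨a, Subgroup.mem_top a⟩ ⟨b, Subgroup.mem_top b⟩
    exact congrArg Subtype.val this
  exact Subgroup.Normal.quotient_commutative_iff_commutator_le.mp hcomm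


/-- Let S be a finite 2-group of 2-rank exactly 2 and D a maximal subgroup of the centre of S such that S/D is a non-abelian group with exactly one involution (a generalized quaternion group). Then S has a nontrivial cyclic characteristic subgroup. -/
theorem result {S : Type*} [Group S]
    [Finite S] (hS : IsPGroup 2 S) (hr2 : Cfsg.PRankLE 2 2 S) (hr1 : ¬ Cfsg.PRankLE 2 1 S)
    (D : Subgroup ↥(Subgroup.center S)) (hD : IsCoatom D)
    (hq : ∃ (_ : (D.map (Subgroup.center S).subtype).Normal),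
      ¬ IsMulCommutative (S ⧸ D.map (Subgroup.center S).subtype) ∧
      ∃! x : S ⧸ D.map (Subgroup.center S).subtype, orderOf x = 2) :
    ∃ C : Subgroup S, C ≠ ⊥ ∧ IsCyclic ↥C ∧ C.Characteristic := by
  classical
  obtain ⟨hNn, hna, hu⟩ := hq
  haveI := hNn
  have hNZ : D.map (Subgroup.center S).subtype ≤ Subgroup.center S := by
    rintro _ ⟨z, _, rfl⟩; exact z.2
  obtain ⟨k, ⟨e⟩⟩ := Cfsg.Agent.S3201.quat_of_unique_involution
    (hS.to_quotient (D.map (Subgroup.center S).subtype)) hna hu
  haveI : NeZero (2 ^ (k + 1)) := ⟨by positivity⟩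
  obtain ⟨g, hg⟩ := commutator_cyclic (D.map (Subgroup.center S).subtype) hNZ (2 ^ (k + 1)) e
  refine ⟨commutator S, ?_, isCyclic_of_le_zpowers hg, inferInstance⟩
  intro hbot
  apply hna
  haveI : IsMulCommutative S := by
    have h1 : commutator S ≤ (⊥ : Subgroup S) := hbot.le
    have := (Subgroup.Normal.quotient_commutative_iff_commutator_le (N := (⊥ : Subgroup S))).mpr h1
    refine ⟨⟨fun a b => ?_⟩⟩
    have h2 := this.is_comm.comm (QuotientGroup.mk' ⊥ a) (QuotientGroup.mk' ⊥ b)
    rw [← map_mul, ← map_mul, QuotientGroup.mk'_apply, QuotientGroup.mk'_apply,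
      QuotientGroup.eq, Subgroup.mem_bot] at h2
    calc a * b = (a * b) * ((a * b)⁻¹ * (b * a)) := by rw [h2, mul_one]
      _ = b * a := by group
  refine ⟨⟨fun a b => ?_⟩⟩
  obtain ⟨a, rfl⟩ := QuotientGroup.mk_surjective a
  obtain ⟨b, rfl⟩ := QuotientGroup.mk_surjective b
  rw [← QuotientGroup.mk_mul, ← QuotientGroup.mk_mul, mul_comm']

end Cfsg.Agent.S3202
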