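import Mathlib
import Cfsg.Agent.Lib.Helper6.TwoMaxEA
import Cfsg.Statements.S3203

set_option autoImplicit false
open Cfsg Cfsg.Agent.Lib.Helper6
open scoped commutatorElement

namespace Cfsg.Agent.S3203

/-- Let S be a Sylow 2-subgroup of a finite group G having exactly two subgroups A ≠ B that are maximal among its elementary abelian subgroups, with S = AB. Then A and B are each weakly closed in S with respect to G, and the normalizer of S normalizes both A and B. -/
theorem result {G : Type*} [Group G] [Finite G] (S : Sylow 2 G)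
    (A B : Subgroup ↥(S : Subgroup G)) (hAB : A ≠ B)
    (hA : Cfsg.IsElementaryAbelian 2 A ∧ ∀ C : Subgroup ↥(S : Subgroup G), Cfsg.IsElementaryAbelian 2 C → A ≤ C → C = A)
    (hB : Cfsg.IsElementaryAbelian 2 B ∧ ∀ C : Subgroup ↥(S : Subgroup G), Cfsg.IsElementaryAbelian 2 C → B ≤ C → C = B)
    (honly : ∀ C : Subgroup ↥(S : Subgroup G), Cfsg.IsElementaryAbelian 2 C →
      (∀ D : Subgroup ↥(S : Subgroup G), Cfsg.IsElementaryAbelian 2 D → C ≤ D → D = C) → C = A ∨ C = B)
    (hprod : ∀ s : ↥(S : Subgroup G), ∃ a ∈ A, ∃ b ∈ B, a * b = s)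
    (A' B' : Subgroup G) (hA' : A' = A.map (S : Subgroup G).subtype) (hB' : B' = B.map (S : Subgroup G).subtype) :
    Cfsg.IsWeaklyClosed A' (S : Subgroup G) ∧ Cfsg.IsWeaklyClosed B' (S : Subgroup G) ∧
      Subgroup.normalizer ((S : Subgroup G) : Set G) ≤ Subgroup.normalizer (A' : Set G) ⊓ Subgroup.normalizer (B' : Set G) := by
  have hinj := (S : Subgroup G).subtype_injective
  have ea_map : ∀ C : Subgroup ↥(S : Subgroup G), Cfsg.IsElementaryAbelian 2 C →
      Cfsg.IsElementaryAbelian 2 (C.map (S : Subgroup G).subtype) := by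
    intro C hC
    obtain ⟨hc, hp⟩ := isElementaryAbelian_iff_forall.mp hC
    rw [isElementaryAbelian_iff_forall]
    refine ⟨?_, ?_⟩
    · rintro _ ⟨a, ha, rfl⟩ _ ⟨b, hb, rfl⟩
      rw [← map_mul, ← map_mul, hc a ha b hb]
    · rintro _ ⟨a, ha, rfl⟩
      rw [← map_pow, hp a ha, map_one]
  have ea_sub : ∀ C : Subgroup G, Cfsg.IsElementaryAbelian 2 C →
      Cfsg.IsElementaryAbelian 2 (C.subgroupOf (S : Subgroup G)) := by
    intro C hC
    obtain ⟨hc, hp⟩ := isElementaryAbelian_iff_forall.mp hC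
    rw [isElementaryAbelian_iff_forall]
    refine ⟨?_, ?_⟩
    · intro a ha b hb
      apply Subtype.ext
      exact hc _ (Subgroup.mem_subgroupOf.mp ha) _ (Subgroup.mem_subgroupOf.mp hb)
    · intro a ha
      apply Subtype.ext
      have := hp _ (Subgroup.mem_subgroupOf.mp ha)
      simpa using this
  have hnAB : ¬ A ≤ B := fun h => hAB (hA.2 B hB.1 h).symm
  have hnBA : ¬ B ≤ A := fun h => hAB (hB.2 A hA.1 h)
  have key : TwoMax (S : Subgroup G) A' B' := by
    subst hA' hB'
    refine ⟨Subgroup.map_subtype_le A, Subgroup.map_subtype_le B, ea_map A hA.1, ea_map B hB.1, ?_, ?_, ?_, ?_⟩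
    · intro h
      exact hnAB ((Subgroup.map_le_map_iff_of_injective hinj).mp h)
    · intro h
      exact hnBA ((Subgroup.map_le_map_iff_of_injective hinj).mp h)
    · intro C hCS hC
      have hC0 := ea_sub C hC
      obtain ⟨D, hCD, hD⟩ := Finite.exists_le_maximal (p := fun D : Subgroup ↥(S : Subgroup G) => Cfsg.IsElementaryAbelian 2 D) hC0
      have hDmax : ∀ E : Subgroup ↥(S : Subgroup G), Cfsg.IsElementaryAbelian 2 E → D ≤ E → E = D :=
        fun E hE hDE => le_antisymm (hD.2 hE hDE) hDE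
      have hCmap : C = (C.subgroupOf (S : Subgroup G)).map (S : Subgroup G).subtype := by
        rw [Subgroup.map_subgroupOf_eq_of_le hCS]
      rcases honly D hD.1 hDmax with h1 | h1
      · left
        rw [hCmap]
        exact Subgroup.map_mono (h1 ▸ hCD)
      · right
        rw [hCmap]
        exact Subgroup.map_mono (h1 ▸ hCD)
    · intro s hs
      obtain ⟨a, ha, b, hb, hab⟩ := hprod ⟨s, hs⟩
      refine ⟨a, ⟨a, ha, rfl⟩, b, ⟨b, hb, rfl⟩, ?_⟩
      have := congrArg Subtype.val hab
      simpa using this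
  refine ⟨key.weaklyClosed, key.symm.weaklyClosed, ?_⟩
  exact le_inf key.normalizer_le key.symm.normalizer_le

end Cfsg.Agent.S3203
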