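import Mathlib
import Cfsg.Agent.Lib.Helper6.SylowIdx
import Cfsg.Agent.Lib.Helper6.CharSub
import Cfsg.Statements.S3208

set_option autoImplicit false
open Cfsg Cfsg.Agent.Lib.Helper6
open scoped commutatorElement

namespace Cfsg.Agent.S3208

/-- Let j be an involution of a finite group G, H a subgroup of G, and T a Sylow 2-subgroup of H ∩ C_G(j) containing j such that ⟨j⟩ is a characteristic subgroup of T. Then T is a Sylow 2-subgroup of H. -/
theorem result {G : Type*} [Group G] [Finite G]
    (j : G) (hj : orderOf j = 2) (H T : Subgroup G) (hT : T ≤ H ⊓ Subgroup.centralizer ({j} : Set G)) (h2 : IsPGroup 2 ↥T)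
    (hSyl : ¬ 2 ∣ T.relIndex (H ⊓ Subgroup.centralizer ({j} : Set G))) (hjT : j ∈ T)
    (hchar : ((Subgroup.zpowers j).subgroupOf T).Characteristic) :
    ¬ 2 ∣ T.relIndex H := by
  haveI : Fact (Nat.Prime 2) := ⟨Nat.prime_two⟩
  intro hdvd
  have hTH : T ≤ H := hT.trans inf_le_left
  obtain ⟨S, hTS, hSH, hS⟩ := exists_pGroup_lt_of_dvd_relIndex hTH h2 hdvd
  obtain ⟨n, hnS, hnT, hnN⟩ := exists_mem_normalizer_not_mem hTS hS
  -- n normalizes ⟨j⟩
  have hjle : Subgroup.zpowers j ≤ T := by
    rw [Subgroup.zpowers_le]; exact hjT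
  have hnj := normalizer_le_normalizer_of_characteristic hjle hchar hnN
  have h1 : n * j * n⁻¹ ∈ Subgroup.zpowers j :=
    (Subgroup.mem_normalizer_iff.mp hnj j).mp (Subgroup.mem_zpowers j)
  -- zpowers j = {1, j}
  have h2' : n * j * n⁻¹ = j := by
    rw [Subgroup.mem_zpowers_iff] at h1
    obtain ⟨k, hk⟩ := h1
    have hj2 : j ^ (2 : ℤ) = 1 := by
      have := pow_orderOf_eq_one j
      rw [hj] at this
      exact_mod_cast this
    rcases Int.emod_two_eq_zero_or_one k with hk0 | hk1
    · exfalso
      have : j ^ k = 1 := by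
        have hk2 : k = 2 * (k / 2) := by omega
        rw [hk2, zpow_mul, hj2, one_zpow]
      rw [this] at hk
      have : j = 1 := by
        have h3 : n * j * n⁻¹ = 1 := hk.symm
        have : j = n⁻¹ * (n * j * n⁻¹) * n := by group
        rw [this, h3]; group
      rw [this, orderOf_one] at hj
      omega
    · have : j ^ k = j := by
        have hk2 : k = 2 * (k / 2) + 1 := by omega
        rw [hk2, zpow_add, zpow_mul, hj2, one_zpow, one_mul, zpow_one]
      rw [← hk, this]
  have hnC : n ∈ Subgroup.centralizer ({j} : Set G) := by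
    rw [Subgroup.mem_centralizer_iff]
    intro y hy
    rw [Set.mem_singleton_iff] at hy
    subst hy
    have : n * y = y * n := by
      calc n * y = (n * y * n⁻¹) * n := by group
        _ = y * n := by rw [h2']
    exact this.symm
  -- S' = S ⊓ C(j) is a 2-group in H ⊓ C(j) containing T properly
  have hS' : IsPGroup 2 (S ⊓ Subgroup.centralizer ({j} : Set G) : Subgroup G) := hS.to_le inf_le_left
  have hTS' : T ≤ S ⊓ Subgroup.centralizer ({j} : Set G) := le_inf hTS.le (hT.trans inf_le_right)
  have hS'K : S ⊓ Subgroup.centralizer ({j} : Set G) ≤ H ⊓ Subgroup.centralizer ({j} : Set G) :=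
    inf_le_inf_right _ hSH
  have := eq_of_not_dvd_relIndex hTS' hS'K hS' hSyl
  apply hnT
  rw [← this]
  exact ⟨hnS, hnC⟩

end Cfsg.Agent.S3208
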