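import Mathlib
import Cfsg.Agent.Lib.Helper5.SL2Class
import Cfsg.Statements.S3209

set_option autoImplicit false
open Cfsg

namespace Cfsg.Agent.S3209

open scoped commutatorElement

section helpers
open Matrix
open scoped Pointwise

variable {F : Type*} [Field F] [Fintype F]

/-- in odd characteristic `2 ≠ 0` -/
theorem two_ne_zero_of_odd (hF : Odd (Fintype.card F)) : (2 : F) ≠ 0 := by
  intro h
  have hchar : ringChar F ∣ 2 := by
    have := (ringChar.spec F 2).mp (by exact_mod_cast h)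
    exact this
  have hp : (ringChar F).Prime := CharP.char_is_prime F (ringChar F)
  have h2 : ringChar F = 2 := (Nat.prime_dvd_prime_iff_eq hp Nat.prime_two).mp hchar
  have h3 : ringChar F ∣ Fintype.card F := by
    have := FiniteField.card F (ringChar F)
    obtain ⟨n, _, hn⟩ := this
    rw [hn]
    exact dvd_pow_self _ n.ne_zero
  rw [h2] at h3
  exact (Nat.not_even_iff_odd.mpr hF) (even_iff_two_dvd.mpr h3)

/-- Cayley–Hamilton for `SL₂` -/
theorem sl2_cayley (g : SpecialLinearGroup (Fin 2) F) :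
    (g : Matrix (Fin 2) (Fin 2) F) * (g : Matrix (Fin 2) (Fin 2) F) =
      (g : Matrix (Fin 2) (Fin 2) F).trace • (g : Matrix (Fin 2) (Fin 2) F) - 1 := by
  have hdet := g.det_coe
  rw [Matrix.det_fin_two] at hdet
  ext i j
  fin_cases i <;> fin_cases j <;>
    simp [Matrix.mul_apply, Fin.sum_univ_two, Matrix.trace_fin_two] <;>
    first | ring1 | linear_combination (-1 : F) * hdet

/-- the only involution of `SL₂(F)` in odd characteristic is `-1` -/
theorem sl2_involution (h2 : (2 : F) ≠ 0) (g : SpecialLinearGroup (Fin 2) F) (hg : g * g = 1) :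
    g = 1 ∨ g = -1 := by
  have hC := sl2_cayley g
  have hgg : (g : Matrix (Fin 2) (Fin 2) F) * (g : Matrix (Fin 2) (Fin 2) F) = 1 := by
    have := congrArg (fun z : SpecialLinearGroup (Fin 2) F => (z : Matrix (Fin 2) (Fin 2) F)) hg
    simpa using this
  rw [hgg] at hC
  set t := (g : Matrix (Fin 2) (Fin 2) F).trace with ht
  have hne01 : (0 : Fin 2) ≠ 1 := by decide
  have hne10 : (1 : Fin 2) ≠ 0 := by decide
  have e00 : t * g 0 0 = 2 := by
    have := congrFun (congrFun hC 0) 0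
    simp only [Matrix.sub_apply, Matrix.smul_apply, smul_eq_mul, Matrix.one_apply_eq] at this
    linear_combination -this
  have e01 : t * g 0 1 = 0 := by
    have := congrFun (congrFun hC 0) 1
    simp only [Matrix.sub_apply, Matrix.smul_apply, smul_eq_mul, Matrix.one_apply_ne hne01] at this
    linear_combination -this
  have e10 : t * g 1 0 = 0 := by
    have := congrFun (congrFun hC 1) 0
    simp only [Matrix.sub_apply, Matrix.smul_apply, smul_eq_mul, Matrix.one_apply_ne hne10] at this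
    linear_combination -this
  have e11 : t * g 1 1 = 2 := by
    have := congrFun (congrFun hC 1) 1
    simp only [Matrix.sub_apply, Matrix.smul_apply, smul_eq_mul, Matrix.one_apply_eq] at this
    linear_combination -this
  have ht0 : t ≠ 0 := by
    intro h
    rw [h, zero_mul] at e00
    exact h2 e00.symm
  have g01 : g 0 1 = 0 := by
    rcases mul_eq_zero.mp e01 with h | h
    · exact absurd h ht0
    · exact h
  have g10 : g 1 0 = 0 := by
    rcases mul_eq_zero.mp e10 with h | h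
    · exact absurd h ht0
    · exact h
  have g0011 : g 0 0 = g 1 1 := by
    apply mul_left_cancel₀ ht0
    rw [e00, e11]
  have hdet := g.det_coe
  rw [Matrix.det_fin_two] at hdet
  have hg01' : (g : Matrix (Fin 2) (Fin 2) F) 0 1 = 0 := g01
  have hg10' : (g : Matrix (Fin 2) (Fin 2) F) 1 0 = 0 := g10
  have hg0011' : (g : Matrix (Fin 2) (Fin 2) F) 0 0 = (g : Matrix (Fin 2) (Fin 2) F) 1 1 := g0011
  rw [hg01', hg0011'] at hdet
  have hsq : ((g : Matrix (Fin 2) (Fin 2) F) 1 1 - 1) * ((g : Matrix (Fin 2) (Fin 2) F) 1 1 + 1) = 0 := by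
    linear_combination hdet
  rcases mul_eq_zero.mp hsq with h | h
  · left
    have h11 : (g : Matrix (Fin 2) (Fin 2) F) 1 1 = 1 := by linear_combination h
    ext i j
    fin_cases i <;> fin_cases j
    · show (g : Matrix (Fin 2) (Fin 2) F) 0 0 = _
      rw [hg0011', h11]; simp
    · show (g : Matrix (Fin 2) (Fin 2) F) 0 1 = _
      rw [hg01']; simp
    · show (g : Matrix (Fin 2) (Fin 2) F) 1 0 = _
      rw [hg10']; simp
    · show (g : Matrix (Fin 2) (Fin 2) F) 1 1 = _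
      rw [h11]; simp
  · right
    have h11 : (g : Matrix (Fin 2) (Fin 2) F) 1 1 = -1 := by linear_combination h
    ext i j
    fin_cases i <;> fin_cases j
    · show (g : Matrix (Fin 2) (Fin 2) F) 0 0 = _
      rw [hg0011', h11]; simp
    · show (g : Matrix (Fin 2) (Fin 2) F) 0 1 = _
      rw [hg01']; simp
    · show (g : Matrix (Fin 2) (Fin 2) F) 1 0 = _
      rw [hg10']; simp
    · show (g : Matrix (Fin 2) (Fin 2) F) 1 1 = _
      rw [h11]; simp

/-- an element of order four exists -/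
theorem sl2_exists_sq_neg_one : ∃ u : SpecialLinearGroup (Fin 2) F, u * u = -1 := by
  haveI : NeZero (ringChar F) := ⟨CharP.char_ne_zero_of_finite F (ringChar F)⟩
  obtain ⟨a, b, hab⟩ := CharP.sq_add_sq F (ringChar F) (-1)
  have hab' : (a : F) ^ 2 + (b : F) ^ 2 = -1 := by simpa using hab
  set M : Matrix (Fin 2) (Fin 2) F := !![(a : F), (b : F); (b : F), -(a : F)] with hM
  have hdet : M.det = 1 := by rw [hM, Matrix.det_fin_two_of]; linear_combination -hab'
  have hMM : M * M = -1 := by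
    rw [hM]
    ext i j
    fin_cases i <;> fin_cases j <;> simp [Matrix.mul_apply, Fin.sum_univ_two] <;>
      first | ring1 | linear_combination hab'
  let u : SpecialLinearGroup (Fin 2) F := ⟨M, hdet⟩
  refine ⟨u, ?_⟩
  apply Subtype.ext
  rw [Matrix.SpecialLinearGroup.coe_mul, Matrix.SpecialLinearGroup.coe_neg,
    Matrix.SpecialLinearGroup.coe_one]
  exact hMM

/-- elements squaring to `-1` have trace zero -/
theorem sl2_trace_zero (u : SpecialLinearGroup (Fin 2) F) (hu : u * u = -1) :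
    (u : Matrix (Fin 2) (Fin 2) F).trace = 0 := by
  have hC := sl2_cayley u
  have huu : (u : Matrix (Fin 2) (Fin 2) F) * (u : Matrix (Fin 2) (Fin 2) F) = -1 := by
    have := congrArg (fun z : SpecialLinearGroup (Fin 2) F => (z : Matrix (Fin 2) (Fin 2) F)) hu
    simpa using this
  rw [huu] at hC
  set t := (u : Matrix (Fin 2) (Fin 2) F).trace with ht
  by_contra ht0
  have e : ∀ i j, t * u i j = 0 := by
    intro i j
    have := congrFun (congrFun hC i) j
    simp only [Matrix.sub_apply, Matrix.smul_apply, smul_eq_mul, Matrix.neg_apply] at this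
    linear_combination -this
  have hz : ∀ i j, (u : Matrix (Fin 2) (Fin 2) F) i j = 0 := by
    intro i j
    rcases mul_eq_zero.mp (e i j) with h | h
    · exact absurd h ht0
    · exact h
  have hdet := u.det_coe
  rw [Matrix.det_fin_two, hz 0 0, hz 0 1] at hdet
  simp at hdet

/-- all elements squaring to `-1` are conjugate -/
theorem sl2_conj (h2 : (2 : F) ≠ 0) (u v : SpecialLinearGroup (Fin 2) F) (hu : u * u = -1)
    (hv : v * v = -1) : ∃ c : SpecialLinearGroup (Fin 2) F, c * u * c⁻¹ = v := by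
  classical
  have h := Cfsg.Agent.Lib.Helper5.isConj_of_trace_eq u v
    (by rw [sl2_trace_zero u hu, sl2_trace_zero v hv])
    (by
      rw [sl2_trace_zero u hu]
      intro h4
      apply h2
      have : (2 : F) * 2 = 0 := by
        have h5 : (4 : F) = 2 * 2 := by norm_num
        rw [← h5, ← h4]; norm_num
      rcases mul_eq_zero.mp this with h | h <;> exact h)
  rw [isConj_iff] at h
  exact h

/-- the facts about a subgroup isomorphic to `SL₂(F)`, `|F|` odd, and its involution `j` -/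
theorem sl2_sub {G : Type*} [Group G] (hF : Odd (Fintype.card F)) (L : Subgroup G)
    (e : ↥L ≃* SpecialLinearGroup (Fin 2) F) (j : G) (hjL : j ∈ L) (hj : orderOf j = 2) :
    (∀ y ∈ L, y * y = 1 → y = 1 ∨ y = j) ∧ (∃ u ∈ L, u * u = j) ∧
      (∀ u ∈ L, ∀ v ∈ L, u * u = j → v * v = j → ∃ g ∈ L, g * u * g⁻¹ = v) := by
  have h2 := two_ne_zero_of_odd hF
  have hjj : j * j = 1 := by rw [← pow_two, ← hj]; exact pow_orderOf_eq_one j
  have hj1 : j ≠ 1 := by
    intro h
    rw [h, orderOf_one] at hj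
    omega
  -- `e j = -1`
  have hej : e ⟨j, hjL⟩ = -1 := by
    have h1 : e ⟨j, hjL⟩ * e ⟨j, hjL⟩ = 1 := by
      rw [← map_mul]
      have : (⟨j, hjL⟩ : L) * ⟨j, hjL⟩ = 1 := Subtype.ext hjj
      rw [this, map_one]
    rcases sl2_involution h2 _ h1 with h | h
    · exfalso
      apply hj1
      have : (⟨j, hjL⟩ : L) = 1 := e.injective (by rw [h, map_one])
      exact congrArg Subtype.val this
    · exact h
  refine ⟨?_, ?_, ?_⟩
  · intro y hy hyy
    have h1 : e ⟨y, hy⟩ * e ⟨y, hy⟩ = 1 := by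
      rw [← map_mul]
      have : (⟨y, hy⟩ : L) * ⟨y, hy⟩ = 1 := Subtype.ext hyy
      rw [this, map_one]
    rcases sl2_involution h2 _ h1 with h | h
    · left
      have : (⟨y, hy⟩ : L) = 1 := e.injective (by rw [h, map_one])
      exact congrArg Subtype.val this
    · right
      have : (⟨y, hy⟩ : L) = ⟨j, hjL⟩ := e.injective (by rw [h, hej])
      exact congrArg Subtype.val this
  · obtain ⟨u, hu⟩ := sl2_exists_sq_neg_one (F := F)
    refine ⟨(e.symm u : G), (e.symm u).2, ?_⟩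
    have : e.symm u * e.symm u = ⟨j, hjL⟩ := by
      apply e.injective
      rw [map_mul, e.apply_symm_apply, hu, hej]
    exact congrArg Subtype.val this
  · intro u hu v hv huu hvv
    have h1 : e ⟨u, hu⟩ * e ⟨u, hu⟩ = -1 := by
      rw [← map_mul, ← hej]
      congr 1
      exact Subtype.ext huu
    have h1' : e ⟨v, hv⟩ * e ⟨v, hv⟩ = -1 := by
      rw [← map_mul, ← hej]
      congr 1
      exact Subtype.ext hvv
    obtain ⟨c, hc⟩ := sl2_conj h2 _ _ h1 h1'
    refine ⟨(e.symm c : G), (e.symm c).2, ?_⟩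
    have : e.symm c * ⟨u, hu⟩ * (e.symm c)⁻¹ = ⟨v, hv⟩ := by
      apply e.injective
      rw [map_mul, map_mul, map_inv, e.apply_symm_apply, hc]
    exact congrArg Subtype.val this

theorem mem_sup_of_comm {G : Type*} [Group G] {L₁ L₂ : Subgroup G}
    (hc : ∀ x ∈ L₁, ∀ y ∈ L₂, x * y = y * x) {y : G} (hy : y ∈ L₁ ⊔ L₂) :
    ∃ y₁ ∈ L₁, ∃ y₂ ∈ L₂, y = y₁ * y₂ := by
  have hle : L₁ ≤ Subgroup.normalizer (L₂ : Set G) := by
    intro a ha
    apply (Subgroup.centralizer_le_normalizer _)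
    rw [Subgroup.mem_centralizer_iff]
    intro b hb
    exact (hc a ha b hb).symm
  have hset : ((L₁ ⊔ L₂ : Subgroup G) : Set G) = L₁ * L₂ :=
    Subgroup.coe_mul_of_left_le_normalizer_right L₁ L₂ hle
  have hy' : y ∈ ((L₁ ⊔ L₂ : Subgroup G) : Set G) := hy
  rw [hset] at hy'
  obtain ⟨y₁, hy₁, y₂, hy₂, rfl⟩ := hy'
  exact ⟨y₁, hy₁, y₂, hy₂, rfl⟩

end helpers



/-- Let L₁ ≅ SL₂(q₁) and L₂ ≅ SL₂(q₂), q₁ and q₂ odd, be elementwise-commuting subgroups of a finite group meeting in ⟨j⟩ for an involution j. Then L₁L₂ has exactly two conjugacy classes of involutions: the central involution j, and one further class (there is an involution x ≠ j in L₁L₂, and every involution of L₁L₂ other than j is conjugate to x by an element of L₁L₂). -/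
theorem result {G : Type*} [Group G] [Finite G]
    {F₁ : Type*} [Field F₁] [Fintype F₁] {F₂ : Type*} [Field F₂] [Fintype F₂]
    (hF₁ : Odd (Fintype.card F₁)) (hF₂ : Odd (Fintype.card F₂)) (L₁ L₂ : Subgroup G)
    (e₁ : ↥L₁ ≃* Matrix.SpecialLinearGroup (Fin 2) F₁) (e₂ : ↥L₂ ≃* Matrix.SpecialLinearGroup (Fin 2) F₂)
    (hc : ∀ x ∈ L₁, ∀ y ∈ L₂, x * y = y * x) (j : G) (hj : orderOf j = 2) (hm : L₁ ⊓ L₂ = Subgroup.zpowers j) :
    ∃ x ∈ L₁ ⊔ L₂, orderOf x = 2 ∧ x ≠ j ∧
      ∀ y ∈ L₁ ⊔ L₂, orderOf y = 2 → y = j ∨ ∃ g ∈ L₁ ⊔ L₂, g * x * g⁻¹ = y := by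
  have hjm : j ∈ L₁ ⊓ L₂ := by rw [hm]; exact Subgroup.mem_zpowers j
  have hjj : j * j = 1 := by rw [← pow_two, ← hj]; exact pow_orderOf_eq_one j
  have hj1 : j ≠ 1 := by
    intro h
    rw [h, orderOf_one] at hj
    omega
  obtain ⟨hA1, ⟨u₁, hu₁, huu₁⟩, hC1⟩ := sl2_sub hF₁ L₁ e₁ j hjm.1 hj
  obtain ⟨hA2, ⟨u₂, hu₂, huu₂⟩, hC2⟩ := sl2_sub hF₂ L₂ e₂ j hjm.2 hj
  -- elements of the intersection
  have hint : ∀ g, g ∈ L₁ → g ∈ L₂ → g = 1 ∨ g = j := by
    intro g h1 h2
    have : g ∈ Subgroup.zpowers j := by rw [← hm]; exact ⟨h1, h2⟩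
    rw [Subgroup.mem_zpowers_iff] at this
    obtain ⟨k, rfl⟩ := this
    rcases Int.even_or_odd k with ⟨m, hm'⟩ | ⟨m, hm'⟩
    · left
      rw [hm', ← two_mul, zpow_mul, zpow_two, hjj, one_zpow]
    · right
      rw [hm', zpow_add, zpow_mul, zpow_two, hjj, one_zpow, one_mul, zpow_one]
  have hcomm : Commute u₁ u₂ := hc u₁ hu₁ u₂ hu₂
  have hu₁L₂ : u₁ ∉ L₂ := by
    intro h
    rcases hint u₁ hu₁ h with h1 | h1
    · rw [h1, one_mul] at huu₁; exact hj1 huu₁.symm
    · rw [h1, hjj] at huu₁; exact hj1 huu₁.symm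
  refine ⟨u₁ * u₂, Subgroup.mul_mem _ (Subgroup.mem_sup_left hu₁) (Subgroup.mem_sup_right hu₂), ?_, ?_, ?_⟩
  · have hsq : (u₁ * u₂) ^ 2 = 1 := by
      rw [hcomm.mul_pow, pow_two, pow_two, huu₁, huu₂, hjj]
    have hne : u₁ * u₂ ≠ 1 := by
      intro h
      apply hu₁L₂
      have : u₁ = u₂⁻¹ := eq_inv_of_mul_eq_one_left h
      rw [this]; exact L₂.inv_mem hu₂
    exact orderOf_eq_prime hsq hne
  · intro h
    apply hu₁L₂
    have : u₁ = j * u₂⁻¹ := by rw [← h]; group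
    rw [this]; exact L₂.mul_mem hjm.2 (L₂.inv_mem hu₂)
  · intro y hy hyo
    have hyy : y * y = 1 := by rw [← pow_two, ← hyo]; exact pow_orderOf_eq_one y
    have hy1 : y ≠ 1 := by
      intro h
      rw [h, orderOf_one] at hyo
      omega
    -- decompose `y`
    obtain ⟨y₁, hy₁, y₂, hy₂, rfl⟩ := mem_sup_of_comm hc hy
    have hcy : Commute y₁ y₂ := hc y₁ hy₁ y₂ hy₂
    have hsq : (y₁ * y₁) * (y₂ * y₂) = 1 := by
      calc (y₁ * y₁) * (y₂ * y₂) = y₁ * (y₁ * y₂) * y₂ := by group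
        _ = y₁ * (y₂ * y₁) * y₂ := by rw [hcy.eq]
        _ = (y₁ * y₂) * (y₁ * y₂) := by group
        _ = 1 := hyy
    have hy₁sq : y₁ * y₁ = (y₂ * y₂)⁻¹ := eq_inv_of_mul_eq_one_left hsq
    have hmem2 : y₁ * y₁ ∈ L₂ := by rw [hy₁sq]; exact L₂.inv_mem (L₂.mul_mem hy₂ hy₂)
    rcases hint (y₁ * y₁) (L₁.mul_mem hy₁ hy₁) hmem2 with h1 | h1
    · -- both are involutions or trivial
      left
      have h2 : y₂ * y₂ = 1 := by
        rw [h1, one_mul] at hsq; exact hsq
      rcases hA1 y₁ hy₁ h1 with ha | ha <;> rcases hA2 y₂ hy₂ h2 with hb | hb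
      · exfalso; apply hy1; rw [ha, hb, one_mul]
      · rw [ha, hb, one_mul]
      · rw [ha, hb, mul_one]
      · exfalso; apply hy1; rw [ha, hb, hjj]
    · right
      have h2 : y₂ * y₂ = j := by
        rw [h1] at hsq
        have h3 : y₂ * y₂ = j⁻¹ := eq_inv_of_mul_eq_one_right hsq
        rw [h3]; exact inv_eq_of_mul_eq_one_right hjj
      obtain ⟨g₁, hg₁, hgu₁⟩ := hC1 u₁ hu₁ y₁ hy₁ huu₁ h1
      obtain ⟨g₂, hg₂, hgu₂⟩ := hC2 u₂ hu₂ y₂ hy₂ huu₂ h2
      refine ⟨g₁ * g₂, Subgroup.mul_mem _ (Subgroup.mem_sup_left hg₁) (Subgroup.mem_sup_right hg₂), ?_⟩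
      have c1 : g₂ * u₁ = u₁ * g₂ := (hc u₁ hu₁ g₂ hg₂).symm
      have c2 : g₁⁻¹ * (g₂ * u₂ * g₂⁻¹) = (g₂ * u₂ * g₂⁻¹) * g₁⁻¹ :=
        hc g₁⁻¹ (L₁.inv_mem hg₁) _ (L₂.mul_mem (L₂.mul_mem hg₂ hu₂) (L₂.inv_mem hg₂))
      calc g₁ * g₂ * (u₁ * u₂) * (g₁ * g₂)⁻¹ = g₁ * (g₂ * u₁) * u₂ * g₂⁻¹ * g₁⁻¹ := by group
        _ = g₁ * (u₁ * g₂) * u₂ * g₂⁻¹ * g₁⁻¹ := by rw [c1]
        _ = g₁ * u₁ * ((g₂ * u₂ * g₂⁻¹) * g₁⁻¹) := by group
        _ = g₁ * u₁ * (g₁⁻¹ * (g₂ * u₂ * g₂⁻¹)) := by rw [c2]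
        _ = (g₁ * u₁ * g₁⁻¹) * (g₂ * u₂ * g₂⁻¹) := by group
        _ = y₁ * y₂ := by rw [hgu₁, hgu₂]


end Cfsg.Agent.S3209
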