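import Mathlib
import Cfsg.Agent.Lib.Helper1.SL2Sylow
import Cfsg.Agent.Lib.Helper6.PPrimeCore
import Cfsg.Agent.S3209
import Cfsg.Statements.S3210

set_option autoImplicit false
open Cfsg

namespace Cfsg.Agent.S3210

open Cfsg.Agent.Lib.Helper1
open scoped commutatorElement

section helpers
open Matrix
open Cfsg.Agent.Lib.Helper1

variable {F : Type*} [Field F] [Fintype F]


theorem t01_mul (s t : F) : t01 s * t01 t = t01 (s + t) := by
  ext i j
  show ((t01 s * t01 t : SpecialLinearGroup (Fin 2) F) : Matrix (Fin 2) (Fin 2) F) i j =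
    ((t01 (s + t) : SpecialLinearGroup (Fin 2) F) : Matrix (Fin 2) (Fin 2) F) i j
  rw [Matrix.SpecialLinearGroup.coe_mul, t01_val, t01_val, t01_val]
  fin_cases i <;> fin_cases j <;> simp [Matrix.mul_apply, Fin.sum_univ_two, add_comm]

theorem t01_neg (t : F) : (t01 t)⁻¹ = t01 (-t) := by
  rw [inv_eq_iff_mul_eq_one, t01_mul, add_neg_cancel]
  ext i j
  show ((t01 (0 : F) : SpecialLinearGroup (Fin 2) F) : Matrix (Fin 2) (Fin 2) F) i j =
    ((1 : SpecialLinearGroup (Fin 2) F) : Matrix (Fin 2) (Fin 2) F) i j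
  rw [t01_val]
  fin_cases i <;> fin_cases j <;> simp

/-- the diagonal element -/
noncomputable def dSL (a : F) (ha : a ≠ 0) : SpecialLinearGroup (Fin 2) F :=
  ⟨!![a, 0; 0, a⁻¹], by rw [Matrix.det_fin_two_of]; field_simp; ring⟩

theorem dSL_conj (a : F) (ha : a ≠ 0) (b : F) :
    dSL a ha * t01 b * (dSL a ha)⁻¹ = t01 (a ^ 2 * b) := by
  rw [mul_inv_eq_iff_eq_mul]
  ext i j
  show ((dSL a ha * t01 b : SpecialLinearGroup (Fin 2) F) : Matrix (Fin 2) (Fin 2) F) i j =
    ((t01 (a ^ 2 * b) * dSL a ha : SpecialLinearGroup (Fin 2) F) : Matrix (Fin 2) (Fin 2) F) i j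
  rw [Matrix.SpecialLinearGroup.coe_mul, Matrix.SpecialLinearGroup.coe_mul, t01_val, t01_val]
  have hd : ((dSL a ha : SpecialLinearGroup (Fin 2) F) : Matrix (Fin 2) (Fin 2) F) = !![a, 0; 0, a⁻¹] := rfl
  rw [hd]
  fin_cases i <;> fin_cases j <;> simp [Matrix.mul_apply, Fin.sum_univ_two] <;> field_simp

/-- in odd characteristic `2 ≠ 0` -/
theorem two_ne_zero_of_odd' (hF : Odd (Fintype.card F)) : (2 : F) ≠ 0 := by
  intro h
  have hchar : ringChar F ∣ 2 := by
    have := (ringChar.spec F 2).mp (by exact_mod_cast h)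
    exact this
  have hp : (ringChar F).Prime := CharP.char_is_prime F (ringChar F)
  have h2 : ringChar F = 2 := (Nat.prime_dvd_prime_iff_eq hp Nat.prime_two).mp hchar
  have h3 : ringChar F ∣ Fintype.card F := by
    have := FiniteField.card F (ringChar F)
    obtain ⟨n, _, hn⟩ := this
    rw [hn]
    exact dvd_pow_self _ n.ne_zero
  rw [h2] at h3
  exact (Nat.not_even_iff_odd.mpr hF) (even_iff_two_dvd.mpr h3)

/-- the centre of `SL₂(F)` is `{±1}` -/
theorem sl2_center (g : SpecialLinearGroup (Fin 2) F) (hg : ∀ h, g * h = h * g) :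
    g = 1 ∨ g = -1 := by
  have hc : g ∈ Subgroup.center (SpecialLinearGroup (Fin 2) F) := by
    rw [Subgroup.mem_center_iff]
    intro h
    exact (hg h).symm
  rw [Matrix.SpecialLinearGroup.mem_center_iff] at hc
  obtain ⟨r, hr, hrg⟩ := hc
  rw [Fintype.card_fin] at hr
  have hr' : (r - 1) * (r + 1) = 0 := by linear_combination hr
  rcases mul_eq_zero.mp hr' with h | h
  · left
    have hr1 : r = 1 := by linear_combination h
    rw [hr1, map_one] at hrg
    ext i j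
    show (g : Matrix (Fin 2) (Fin 2) F) i j = (1 : Matrix (Fin 2) (Fin 2) F) i j
    rw [← hrg]
  · right
    have hr1 : r = -1 := by linear_combination h
    rw [hr1, map_neg, map_one] at hrg
    ext i j
    show (g : Matrix (Fin 2) (Fin 2) F) i j =
      ((-1 : SpecialLinearGroup (Fin 2) F) : Matrix (Fin 2) (Fin 2) F) i j
    rw [← hrg, Matrix.SpecialLinearGroup.coe_neg, Matrix.SpecialLinearGroup.coe_one]

/-- a lower transvection has nonzero lower-left entry -/
theorem t10_entry : (t10 (1 : F)) 1 0 ≠ 0 := by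
  show ((t10 (1 : F) : SpecialLinearGroup (Fin 2) F) : Matrix (Fin 2) (Fin 2) F) 1 0 ≠ 0
  rw [t10_val]
  simp

/-- `SL₂(F)`, `|F|` odd, is generated by its elements of odd order -/
theorem sl2_odd_gen (hF : Odd (Fintype.card F)) :
    Subgroup.closure {g : SpecialLinearGroup (Fin 2) F | Odd (orderOf g)} = ⊤ := by
  rw [eq_top_iff, ← uSL_sup_cj_eq_top (t10 (1 : F)) t10_entry]
  have hodd : ∀ g ∈ uSL F, Odd (orderOf g) := by
    intro g hg
    have h1 : orderOf g ∣ Nat.card (uSL F) := by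
      have := orderOf_dvd_natCard (⟨g, hg⟩ : uSL F)
      rwa [Subgroup.orderOf_mk] at this
    rw [card_uSL, Nat.card_eq_fintype_card] at h1
    exact Odd.of_dvd_nat hF h1
  apply sup_le
  · intro g hg
    exact Subgroup.subset_closure (hodd g hg)
  · intro g hg
    rw [Cfsg.Agent.Lib.Helper1.mem_cj] at hg
    apply Subgroup.subset_closure
    show Odd (orderOf g)
    have hsc : SemiconjBy (t10 (1 : F))⁻¹ g ((t10 (1 : F))⁻¹ * g * t10 (1 : F)) := by
      rw [SemiconjBy]; group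
    rw [hsc.orderOf_eq]
    exact hodd _ hg

/-- a normal subgroup containing a nontrivial upper transvection is everything -/
theorem sl2_normal_of_t01 (h2 : (2 : F) ≠ 0) (A : Subgroup (SpecialLinearGroup (Fin 2) F)) [A.Normal]
    (b : F) (hb : b ≠ 0) (hA : t01 b ∈ A) : A = ⊤ := by
  have hsq : ∀ a : F, t01 (a ^ 2 * b) ∈ A := by
    intro a
    by_cases ha : a = 0
    · rw [ha]
      have : t01 ((0 : F) ^ 2 * b) = 1 := by
        have := t01_mul (0 : F) 0
        have h0 : ((0 : F) ^ 2 * b) = 0 := by ring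
        rw [h0]
        have h1 : t01 (0 : F) * t01 0 = t01 0 := by rw [t01_mul, add_zero]
        exact mul_left_cancel (a := t01 (0 : F)) (by rw [h1, mul_one])
      rw [this]; exact A.one_mem
    · rw [← dSL_conj a ha b]
      exact Subgroup.Normal.conj_mem inferInstance _ hA _
  have hall : ∀ c : F, t01 c ∈ A := by
    intro c
    set c' := c / b with hc'
    have h1 : c = ((c' + 1) / 2) ^ 2 * b + -(((c' - 1) / 2) ^ 2 * b) := by
      rw [hc']; field_simp; ring
    rw [h1, ← t01_mul, ← t01_neg]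
    exact A.mul_mem (hsq _) (A.inv_mem (hsq _))
  have hU : uSL F ≤ A := by
    intro g hg
    obtain ⟨t, rfl⟩ := (mem_uSL_iff g).mp hg
    exact hall t
  have hU' : cj (t10 (1 : F)) (uSL F) ≤ A := by
    intro g hg
    rw [Cfsg.Agent.Lib.Helper1.mem_cj] at hg
    have h1 := hU hg
    have h3 := Subgroup.Normal.conj_mem (inferInstance : A.Normal) _ h1 (t10 (1 : F))
    have h4 : t10 (1 : F) * ((t10 (1 : F))⁻¹ * g * t10 (1 : F)) * (t10 (1 : F))⁻¹ = g := by group
    rwa [h4] at h3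
  rw [eq_top_iff, ← uSL_sup_cj_eq_top (t10 (1 : F)) t10_entry]
  exact sup_le hU hU'

/-- `SL₂(F)`, `|F|` odd, is not a central product of two proper normal subgroups -/
theorem sl2_indec (hF : Odd (Fintype.card F)) (A B : Subgroup (SpecialLinearGroup (Fin 2) F))
    [hA : A.Normal] [hB : B.Normal] (hAB : A ⊔ B = ⊤) : A = ⊤ ∨ B = ⊤ := by
  classical
  have h2 := two_ne_zero_of_odd' hF
  set p := ringChar F with hp
  haveI : Fact p.Prime := ⟨CharP.char_is_prime F p⟩
  haveI : CharP F p := ringChar.charP F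
  have key : ∀ (A' : Subgroup (SpecialLinearGroup (Fin 2) F)) [A'.Normal], p ∣ Nat.card A' → A' = ⊤ := by
    intro A' _ hdvd
    obtain ⟨x, hx⟩ := exists_prime_orderOf_dvd_card' p hdvd
    have hx1 : (x : SpecialLinearGroup (Fin 2) F) ≠ 1 := by
      intro h
      have : x = 1 := Subtype.ext h
      rw [this, orderOf_one] at hx
      exact (Fact.out : p.Prime).one_lt.ne hx
    have hxo : orderOf (x : SpecialLinearGroup (Fin 2) F) = p := by
      rw [Subgroup.orderOf_coe]; exact hx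
    have hpg : IsPGroup p (Subgroup.zpowers (x : SpecialLinearGroup (Fin 2) F)) := by
      apply IsPGroup.of_card (n := 1)
      rw [Nat.card_zpowers, hxo, pow_one]
    obtain ⟨P, hP⟩ := hpg.exists_le_sylow
    obtain ⟨g, hg⟩ := sylow_SL2_eq_cj p P
    have hxP : (x : SpecialLinearGroup (Fin 2) F) ∈ cj g (uSL F) := by
      rw [← hg]; exact hP (Subgroup.mem_zpowers _)
    rw [Cfsg.Agent.Lib.Helper1.mem_cj] at hxP
    obtain ⟨b, hb⟩ := (mem_uSL_iff _).mp hxP
    have hb0 : b ≠ 0 := by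
      intro h0
      apply hx1
      rw [h0] at hb
      have h1 : t01 (0 : F) = 1 := by
        have h1 : t01 (0 : F) * t01 0 = t01 0 := by rw [t01_mul, add_zero]
        exact mul_left_cancel (a := t01 (0 : F)) (by rw [h1, mul_one])
      rw [h1] at hb
      have : (x : SpecialLinearGroup (Fin 2) F) = g * (g⁻¹ * x * g) * g⁻¹ := by group
      rw [this, hb]; group
    apply sl2_normal_of_t01 h2 A' b hb0
    rw [← hb]
    have := Subgroup.Normal.conj_mem (inferInstance : A'.Normal) _ x.2 g⁻¹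
    rwa [inv_inv] at this
  by_cases hdA : p ∣ Nat.card A
  · left; exact key A hdA
  by_cases hdB : p ∣ Nat.card B
  · right; exact key B hdB
  exfalso
  have hp' : p.Prime := Fact.out
  have hcA : (Nat.card A).Coprime p := (Nat.Coprime.symm ((Nat.Prime.coprime_iff_not_dvd hp').mpr hdA))
  have hcB : (Nat.card B).Coprime p := (Nat.Coprime.symm ((Nat.Prime.coprime_iff_not_dvd hp').mpr hdB))
  have hc := Cfsg.Agent.Lib.Helper6.coprime_card_sup_of_normal hcA hcB
  rw [hAB, Subgroup.card_top, card_SL2] at hc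
  have hpq : p ∣ Fintype.card F := by
    obtain ⟨n, _, hn⟩ := FiniteField.card F p
    rw [hn]
    exact dvd_pow_self _ n.ne_zero
  have : p ∣ Fintype.card F * (Fintype.card F ^ 2 - 1) := Dvd.dvd.mul_right hpq _
  exact (Nat.Prime.coprime_iff_not_dvd hp').mp hc.symm this

/-- the facts about a subgroup `L ≅ SL₂(F)`, `|F|` odd, of `G`, with its involution `j` -/
theorem sl2_props {G : Type*} [Group G] (hF : Odd (Fintype.card F)) (L : Subgroup G)
    (e : ↥L ≃* SpecialLinearGroup (Fin 2) F) (j : G) (hjL : j ∈ L) (hj : orderOf j = 2) :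
    (∀ g ∈ L, (∀ h ∈ L, g * h = h * g) → g = 1 ∨ g = j) ∧
    (∀ H : Subgroup G, (∀ g ∈ L, Odd (orderOf g) → g ∈ H) → L ≤ H) ∧
    (∀ A B : Subgroup G, A ≤ L → B ≤ L → L ≤ Subgroup.normalizer (A : Set G) →
      L ≤ Subgroup.normalizer (B : Set G) → A ⊔ B = L → A = L ∨ B = L) ∧
    Nat.card L = Fintype.card F * (Fintype.card F ^ 2 - 1) := by
  have h2 := two_ne_zero_of_odd' hF
  have hjj : j * j = 1 := by rw [← pow_two, ← hj]; exact pow_orderOf_eq_one j
  have hj1 : j ≠ 1 := by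
    intro h
    rw [h, orderOf_one] at hj
    omega
  have hej : e ⟨j, hjL⟩ = -1 := by
    have h1 : e ⟨j, hjL⟩ * e ⟨j, hjL⟩ = 1 := by
      rw [← map_mul]
      have : (⟨j, hjL⟩ : L) * ⟨j, hjL⟩ = 1 := Subtype.ext hjj
      rw [this, map_one]
    rcases Cfsg.Agent.S3209.sl2_involution h2 _ h1 with h | h
    · exfalso
      apply hj1
      have : (⟨j, hjL⟩ : L) = 1 := e.injective (by rw [h, map_one])
      exact congrArg Subtype.val this
    · exact h
  refine ⟨?_, ?_, ?_, ?_⟩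
  · intro g hg hcen
    have hc : ∀ s, e ⟨g, hg⟩ * s = s * e ⟨g, hg⟩ := by
      intro s
      have h1 := hcen (e.symm s : G) (e.symm s).2
      have h3 : (⟨g, hg⟩ : L) * e.symm s = e.symm s * ⟨g, hg⟩ := Subtype.ext h1
      have h4 := congrArg e h3
      rwa [map_mul, map_mul, e.apply_symm_apply] at h4
    rcases sl2_center _ hc with h | h
    · left
      have : (⟨g, hg⟩ : L) = 1 := e.injective (by rw [h, map_one])
      exact congrArg Subtype.val this
    · right
      have : (⟨g, hg⟩ : L) = ⟨j, hjL⟩ := e.injective (by rw [h, hej])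
      exact congrArg Subtype.val this
  · intro H hH
    have h1 : Subgroup.closure {g : SpecialLinearGroup (Fin 2) F | Odd (orderOf g)} ≤
        (H.subgroupOf L).map e.toMonoidHom := by
      rw [Subgroup.closure_le]
      intro s hs
      rw [SetLike.mem_coe, Subgroup.mem_map]
      refine ⟨e.symm s, ?_, e.apply_symm_apply s⟩
      rw [Subgroup.mem_subgroupOf]
      apply hH _ (e.symm s).2
      rw [Subgroup.orderOf_coe, MulEquiv.orderOf_eq]
      exact hs
    rw [sl2_odd_gen hF] at h1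
    intro g hg
    have h3 : e ⟨g, hg⟩ ∈ (H.subgroupOf L).map e.toMonoidHom := h1 (Subgroup.mem_top _)
    rw [Subgroup.mem_map] at h3
    obtain ⟨g', hg', hgg'⟩ := h3
    have : g' = ⟨g, hg⟩ := e.injective hgg'
    rw [this, Subgroup.mem_subgroupOf] at hg'
    exact hg'
  · intro A B hAL hBL hAn hBn hAB
    haveI hA' : (A.subgroupOf L).Normal := by
      constructor
      intro n hn g
      rw [Subgroup.mem_subgroupOf] at hn ⊢
      have := (Subgroup.mem_normalizer_iff.mp (hAn g.2) n).mp hn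
      exact this
    haveI hB' : (B.subgroupOf L).Normal := by
      constructor
      intro n hn g
      rw [Subgroup.mem_subgroupOf] at hn ⊢
      have := (Subgroup.mem_normalizer_iff.mp (hBn g.2) n).mp hn
      exact this
    haveI : ((A.subgroupOf L).map e.toMonoidHom).Normal :=
      Subgroup.Normal.map hA' _ e.surjective
    haveI : ((B.subgroupOf L).map e.toMonoidHom).Normal :=
      Subgroup.Normal.map hB' _ e.surjective
    have hsup : (A.subgroupOf L).map e.toMonoidHom ⊔ (B.subgroupOf L).map e.toMonoidHom = ⊤ := by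
      rw [← Subgroup.map_sup, ← Subgroup.subgroupOf_sup hAL hBL, hAB, Subgroup.subgroupOf_self,
        ← MonoidHom.range_eq_map]
      exact MonoidHom.range_eq_top.mpr e.surjective
    have back : ∀ A' : Subgroup G, A' ≤ L → (A'.subgroupOf L).map e.toMonoidHom = ⊤ → A' = L := by
      intro A' hA'L htop
      apply le_antisymm hA'L
      intro g hg
      have h3 : e ⟨g, hg⟩ ∈ (A'.subgroupOf L).map e.toMonoidHom := by rw [htop]; exact Subgroup.mem_top _
      rw [Subgroup.mem_map] at h3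
      obtain ⟨g', hg', hgg'⟩ := h3
      have : g' = ⟨g, hg⟩ := e.injective hgg'
      rw [this, Subgroup.mem_subgroupOf] at hg'
      exact hg'
    rcases sl2_indec hF _ _ hsup with h | h
    · left; exact back A hAL h
    · right; exact back B hBL h
  · rw [Nat.card_congr e.toEquiv, card_SL2]

/-- the Remak-type decomposition step in a central product -/
theorem decomp {G : Type*} [Group G] {L L' N N' : Subgroup G} {j : G}
    (hLL' : ∀ a ∈ L, ∀ b ∈ L', a * b = b * a)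
    (hNN' : ∀ c ∈ N, ∀ d ∈ N', c * d = d * c)
    (hcen : ∀ g ∈ L ⊔ L', (∀ b ∈ L', g * b = b * g) → g ∈ L)
    (hodd : ∀ H : Subgroup G, (∀ g ∈ L', Odd (orderOf g) → g ∈ H) → L' ≤ H)
    (hN : N ≤ L ⊔ L') (hM : L ⊔ L' ≤ N ⊔ N')
    (hint : ∀ c, c ∈ N → c ∈ N' → c = 1 ∨ c = j) (hjj : j * j = 1) (hj1 : j ≠ 1)
    (hjc : ∀ m ∈ L ⊔ L', j * m = m * j) :
    ∀ a ∈ L, ∃ c ∈ N, ∃ d ∈ N', a = c * d ∧ c ∈ L ∧ d ∈ L := by
  intro a ha
  obtain ⟨c, hc, d, hd, rfl⟩ := Cfsg.Agent.S3209.mem_sup_of_comm hNN' (hM (Subgroup.mem_sup_left ha))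
  have hcM : c ∈ L ⊔ L' := hN hc
  -- the commutator of `c` with an element of `L'` is `1` or `j`
  have hk : ∀ b ∈ L', c * b * c⁻¹ = b ∨ c * b * c⁻¹ = j * b := by
    intro b hb
    obtain ⟨cb, hcb, db, hdb, rfl⟩ :=
      Cfsg.Agent.S3209.mem_sup_of_comm hNN' (hM (Subgroup.mem_sup_right hb))
    have hab := hLL' _ ha _ hb
    have e1 : c * db = db * c := hNN' c hc db hdb
    have e2 : cb * d = d * cb := hNN' cb hcb d hd
    have e3 : cb * db = db * cb := hNN' cb hcb db hdb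
    have e4 : c * d = d * c := hNN' c hc d hd
    -- `w = c⁻¹ cb⁻¹ c cb` lies in both `N` and `N'`
    have hwN : c⁻¹ * cb⁻¹ * c * cb ∈ N :=
      N.mul_mem (N.mul_mem (N.mul_mem (N.inv_mem hc) (N.inv_mem hcb)) hc) hcb
    have hwN' : c⁻¹ * cb⁻¹ * c * cb ∈ N' := by
      have : c⁻¹ * cb⁻¹ * c * cb = db * d * db⁻¹ * d⁻¹ := by
        have h1 : c * cb * (d * db) = cb * c * (db * d) := by
          calc c * cb * (d * db) = c * (cb * d) * db := by group
            _ = c * (d * cb) * db := by rw [e2]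
            _ = (c * d) * (cb * db) := by group
            _ = (cb * db) * (c * d) := hab
            _ = cb * (db * c) * d := by group
            _ = cb * (c * db) * d := by rw [e1]
            _ = cb * c * (db * d) := by group
        calc c⁻¹ * cb⁻¹ * c * cb = (cb * c)⁻¹ * (c * cb * (d * db)) * (d * db)⁻¹ := by group
          _ = (cb * c)⁻¹ * (cb * c * (db * d)) * (d * db)⁻¹ := by rw [h1]
          _ = db * d * db⁻¹ * d⁻¹ := by group
      rw [this]
      exact N'.mul_mem (N'.mul_mem (N'.mul_mem hdb hd) (N'.inv_mem hdb)) (N'.inv_mem hd)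
    have hcbM : cb * c ∈ L ⊔ L' := Subgroup.mul_mem _ (hN hcb) hcM
    have key : c * (cb * db) * c⁻¹ = (cb * c) * (c⁻¹ * cb⁻¹ * c * cb) * (cb * c)⁻¹ * (cb * db) := by
      calc c * (cb * db) * c⁻¹ = c * cb * (db * c⁻¹) := by group
        _ = c * cb * (c⁻¹ * db) := by
            have : db * c⁻¹ = c⁻¹ * db := by
              calc db * c⁻¹ = c⁻¹ * (c * db) * c⁻¹ := by group
                _ = c⁻¹ * (db * c) * c⁻¹ := by rw [e1]
                _ = c⁻¹ * db := by group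
            rw [this]
        _ = (cb * c) * (c⁻¹ * cb⁻¹ * c * cb) * (cb * c)⁻¹ * (cb * db) := by group
    rcases hint _ hwN hwN' with hw | hw
    · left
      rw [key, hw]; group
    · right
      rw [key, hw]
      have := hjc _ hcbM
      calc cb * c * j * (cb * c)⁻¹ * (cb * db) = (cb * c * j) * (cb * c)⁻¹ * (cb * db) := by group
        _ = (j * (cb * c)) * (cb * c)⁻¹ * (cb * db) := by rw [this]
        _ = j * (cb * db) := by group
  -- `c` centralizes `L'`
  have hccen : ∀ b ∈ L', c * b = b * c := by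
    have hle := hodd (Subgroup.centralizer ({c} : Set G)) (by
      intro b hb hbo
      rw [Subgroup.mem_centralizer_iff]
      intro y hy
      rw [Set.mem_singleton_iff] at hy
      subst hy
      rcases hk b hb with h | h
      · calc y * b = (y * b * y⁻¹) * y := by group
          _ = b * y := by rw [h]
      · exfalso
        -- powers
        have hpow : ∀ k : ℕ, y * b ^ k * y⁻¹ = j ^ k * b ^ k := by
          intro k
          induction k with
          | zero => simp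
          | succ k ih =>
            have hbk : b ^ k ∈ L ⊔ L' := Subgroup.pow_mem _ (Subgroup.mem_sup_right hb) k
            calc y * b ^ (k + 1) * y⁻¹ = (y * b ^ k * y⁻¹) * (y * b * y⁻¹) := by
                  rw [pow_succ]; group
              _ = j ^ k * b ^ k * (j * b) := by rw [ih, h]
              _ = j ^ k * (b ^ k * j) * b := by group
              _ = j ^ k * (j * b ^ k) * b := by rw [hjc _ hbk]
              _ = j ^ (k + 1) * b ^ (k + 1) := by rw [pow_succ, pow_succ]; group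
        have h1 := hpow (orderOf b)
        rw [pow_orderOf_eq_one, mul_one, mul_inv_cancel] at h1
        obtain ⟨m, hm⟩ := hbo
        rw [hm, pow_succ, pow_mul, pow_two, hjj, one_pow, one_mul, mul_one] at h1
        exact hj1 h1.symm)
    intro b hb
    have := Subgroup.mem_centralizer_iff.mp (hle hb) c (Set.mem_singleton c)
    exact this
  have hcL : c ∈ L := hcen c hcM hccen
  refine ⟨c, hc, d, hd, rfl, hcL, ?_⟩
  have : d = c⁻¹ * (c * d) := by group
  rw [this]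
  exact L.mul_mem (L.inv_mem hcL) ha

end helpers



/-- Let G be a finite group with subgroups L₁ ≅ SL₂(q₁) and L₂ ≅ SL₂(q₂), q₁ and q₂ odd prime powers, which commute elementwise and meet in ⟨j⟩ for an involution j, and suppose L₁L₂ has index 2 in C_G(j). Then every element n of C_G(j) outside L₁L₂ either normalizes both L₁ and L₂, or conjugates L₁ onto L₂; in the second case q₁ = q₂ and there is an element n′ of C_G(j) outside L₁L₂ conjugating L₁ onto L₂ with n′² ∈ ⟨j⟩. -/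
theorem result {G : Type*} [Group G] [Finite G]
    {F₁ : Type*} [Field F₁] [Fintype F₁] {F₂ : Type*} [Field F₂] [Fintype F₂]
    (hF₁ : Odd (Fintype.card F₁)) (hF₂ : Odd (Fintype.card F₂)) (L₁ L₂ : Subgroup G)
    (e₁ : ↥L₁ ≃* Matrix.SpecialLinearGroup (Fin 2) F₁) (e₂ : ↥L₂ ≃* Matrix.SpecialLinearGroup (Fin 2) F₂)
    (hc : ∀ x ∈ L₁, ∀ y ∈ L₂, x * y = y * x) (j : G) (hj : orderOf j = 2) (hm : L₁ ⊓ L₂ = Subgroup.zpowers j)
    (hle : L₁ ⊔ L₂ ≤ Subgroup.centralizer ({j} : Set G)) (hi : (L₁ ⊔ L₂).relIndex (Subgroup.centralizer ({j} : Set G)) = 2) (n : G) (hn : n ∈ Subgroup.centralizer ({j} : Set G)) (hn' : n ∉ L₁ ⊔ L₂) :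
    (L₁.map (MulAut.conj n).toMonoidHom = L₁ ∧ L₂.map (MulAut.conj n).toMonoidHom = L₂) ∨
      (L₁.map (MulAut.conj n).toMonoidHom = L₂ ∧ Fintype.card F₁ = Fintype.card F₂ ∧
        ∃ n' ∈ Subgroup.centralizer ({j} : Set G), n' ∉ L₁ ⊔ L₂ ∧ L₁.map (MulAut.conj n').toMonoidHom = L₂ ∧ n' ^ 2 ∈ Subgroup.zpowers j) := by
  classical
  have hjm : j ∈ L₁ ⊓ L₂ := by rw [hm]; exact Subgroup.mem_zpowers j
  have hjj : j * j = 1 := by rw [← pow_two, ← hj]; exact pow_orderOf_eq_one j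
  have hj1 : j ≠ 1 := by
    intro h
    rw [h, orderOf_one] at hj
    omega
  obtain ⟨hZ1, hO1, hI1, hc1⟩ := sl2_props hF₁ L₁ e₁ j hjm.1 hj
  obtain ⟨hZ2, hO2, hI2, hc2⟩ := sl2_props hF₂ L₂ e₂ j hjm.2 hj
  have hc' : ∀ y ∈ L₂, ∀ x ∈ L₁, y * x = x * y := fun y hy x hx => (hc x hx y hy).symm
  -- elements of the intersection
  have hint : ∀ g, g ∈ L₁ → g ∈ L₂ → g = 1 ∨ g = j := by
    intro g h1 h2
    have : g ∈ Subgroup.zpowers j := by rw [← hm]; exact ⟨h1, h2⟩
    rw [Subgroup.mem_zpowers_iff] at this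
    obtain ⟨k, rfl⟩ := this
    rcases Int.even_or_odd k with ⟨m, hm'⟩ | ⟨m, hm'⟩
    · left
      rw [hm', ← two_mul, zpow_mul, zpow_two, hjj, one_zpow]
    · right
      rw [hm', zpow_add, zpow_mul, zpow_two, hjj, one_zpow, one_mul, zpow_one]
  -- sizes
  have hq1 : 3 ≤ Fintype.card F₁ := by
    have h1 : 1 < Fintype.card F₁ := Fintype.one_lt_card
    obtain ⟨k, hk⟩ := hF₁
    omega
  have hq2 : 3 ≤ Fintype.card F₂ := by
    have h1 : 1 < Fintype.card F₂ := Fintype.one_lt_card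
    obtain ⟨k, hk⟩ := hF₂
    omega
  have hbig : ∀ q : ℕ, 3 ≤ q → 2 < q * (q ^ 2 - 1) := by
    intro q hq
    have h1 : 9 ≤ q ^ 2 := by nlinarith
    have h2 : 8 ≤ q ^ 2 - 1 := by omega
    nlinarith
  have hcard1 : 2 < Nat.card L₁ := by rw [hc1]; exact hbig _ hq1
  have hcard2 : 2 < Nat.card L₂ := by rw [hc2]; exact hbig _ hq2
  have hsmall : ∀ X : Subgroup G, (∀ c ∈ X, c = 1 ∨ c = j) → Nat.card X ≤ 2 := by
    intro X hX
    have hsub : (X : Set G) ⊆ {1, j} := by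
      intro c hc
      rcases hX c hc with h | h
      · left; exact h
      · right; exact h
    have h1 := Set.ncard_le_ncard hsub (Set.toFinite _)
    rw [← Nat.card_coe_set_eq] at h1
    exact h1.trans (Set.ncard_insert_le _ _ |>.trans (by simp))
  -- `j` is central in `M`
  have hjc : ∀ g ∈ L₁ ⊔ L₂, j * g = g * j := by
    intro g hg
    have := Subgroup.mem_centralizer_iff.mp (hle hg) j (Set.mem_singleton j)
    exact this
  -- centralizers in `M`
  have hCM2 : ∀ g ∈ L₁ ⊔ L₂, (∀ b ∈ L₂, g * b = b * g) → g ∈ L₁ := by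
    intro g hg hcen
    obtain ⟨a, ha, b₀, hb₀, rfl⟩ := Cfsg.Agent.S3209.mem_sup_of_comm hc hg
    have hb₀c : ∀ b ∈ L₂, b₀ * b = b * b₀ := by
      intro b hb
      have h1 := hcen b hb
      have h2 := hc a ha b hb
      have : a * (b₀ * b) = a * (b * b₀) := by
        calc a * (b₀ * b) = a * b₀ * b := by group
          _ = b * (a * b₀) := h1
          _ = (b * a) * b₀ := by group
          _ = (a * b) * b₀ := by rw [h2]
          _ = a * (b * b₀) := by group
      exact mul_left_cancel this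
    rcases hZ2 b₀ hb₀ hb₀c with h | h
    · rw [h, mul_one]; exact ha
    · rw [h]; exact L₁.mul_mem ha hjm.1
  have hCM1 : ∀ g ∈ L₁ ⊔ L₂, (∀ a ∈ L₁, g * a = a * g) → g ∈ L₂ := by
    intro g hg hcen
    obtain ⟨a₀, ha₀, b, hb, rfl⟩ := Cfsg.Agent.S3209.mem_sup_of_comm hc hg
    have ha₀c : ∀ a ∈ L₁, a₀ * a = a * a₀ := by
      intro a ha
      have h1 := hcen a ha
      have h2 := hc a ha b hb
      have : (a₀ * a) * b = (a * a₀) * b := by
        calc (a₀ * a) * b = a₀ * (a * b) := by group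
          _ = a₀ * (b * a) := by rw [h2]
          _ = (a₀ * b) * a := by group
          _ = a * (a₀ * b) := h1
          _ = (a * a₀) * b := by group
      exact mul_right_cancel this
    rcases hZ1 a₀ ha₀ ha₀c with h | h
    · rw [h, one_mul]; exact hb
    · rw [h]; exact L₂.mul_mem hjm.2 hb
  -- `M` is normal in `C`
  have hMn : ((L₁ ⊔ L₂).subgroupOf (Subgroup.centralizer ({j} : Set G))).Normal :=
    Subgroup.normal_of_index_eq_two hi
  have hnM : ∀ c ∈ Subgroup.centralizer ({j} : Set G), ∀ g ∈ L₁ ⊔ L₂, c * g * c⁻¹ ∈ L₁ ⊔ L₂ := by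
    intro c hcC g hg
    have := hMn.conj_mem ⟨g, hle hg⟩ (Subgroup.mem_subgroupOf.mpr hg) ⟨c, hcC⟩
    rw [Subgroup.mem_subgroupOf] at this
    exact this
  have hninv : n⁻¹ ∈ Subgroup.centralizer ({j} : Set G) := Subgroup.inv_mem _ hn
  have hnj : n * j * n⁻¹ = j := by
    have := Subgroup.mem_centralizer_iff.mp hn j (Set.mem_singleton j)
    rw [← this]; group
  -- the conjugates
  set N := Cfsg.Agent.Lib.Helper1.cj n L₁ with hNdef
  set N' := Cfsg.Agent.Lib.Helper1.cj n L₂ with hN'def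
  have hNM : N ≤ L₁ ⊔ L₂ := by
    intro g hg
    rw [hNdef, Cfsg.Agent.Lib.Helper1.mem_cj] at hg
    have := hnM n hn _ (Subgroup.mem_sup_left hg)
    have e : n * (n⁻¹ * g * n) * n⁻¹ = g := by group
    rwa [e] at this
  have hN'M : N' ≤ L₁ ⊔ L₂ := by
    intro g hg
    rw [hN'def, Cfsg.Agent.Lib.Helper1.mem_cj] at hg
    have := hnM n hn _ (Subgroup.mem_sup_right hg)
    have e : n * (n⁻¹ * g * n) * n⁻¹ = g := by group
    rwa [e] at this
  have hMNN' : L₁ ⊔ L₂ ≤ N ⊔ N' := by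
    intro g hg
    have h1 := hnM n⁻¹ hninv g hg
    rw [inv_inv] at h1
    obtain ⟨a, ha, b, hb, hab⟩ := Cfsg.Agent.S3209.mem_sup_of_comm hc h1
    have e : g = (n * a * n⁻¹) * (n * b * n⁻¹) := by
      calc g = n * (n⁻¹ * g * n) * n⁻¹ := by group
        _ = n * (a * b) * n⁻¹ := by rw [hab]
        _ = (n * a * n⁻¹) * (n * b * n⁻¹) := by group
    rw [e]
    exact Subgroup.mul_mem _ (Subgroup.mem_sup_left (Cfsg.Agent.Lib.Helper1.conj_mem_cj n L₁ ha))
      (Subgroup.mem_sup_right (Cfsg.Agent.Lib.Helper1.conj_mem_cj n L₂ hb))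
  have hNN' : ∀ c ∈ N, ∀ d ∈ N', c * d = d * c := by
    intro c hc0 d hd0
    rw [hNdef, Cfsg.Agent.Lib.Helper1.mem_cj] at hc0
    rw [hN'def, Cfsg.Agent.Lib.Helper1.mem_cj] at hd0
    have := hc _ hc0 _ hd0
    calc c * d = n * ((n⁻¹ * c * n) * (n⁻¹ * d * n)) * n⁻¹ := by group
      _ = n * ((n⁻¹ * d * n) * (n⁻¹ * c * n)) * n⁻¹ := by rw [this]
      _ = d * c := by group
  have hN'N : ∀ d ∈ N', ∀ c ∈ N, d * c = c * d := fun d hd c hc0 => (hNN' c hc0 d hd).symm
  have hNint : ∀ c, c ∈ N → c ∈ N' → c = 1 ∨ c = j := by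
    intro c hc0 hd0
    rw [hNdef, Cfsg.Agent.Lib.Helper1.mem_cj] at hc0
    rw [hN'def, Cfsg.Agent.Lib.Helper1.mem_cj] at hd0
    rcases hint _ hc0 hd0 with h | h
    · left
      calc c = n * (n⁻¹ * c * n) * n⁻¹ := by group
        _ = 1 := by rw [h]; group
    · right
      calc c = n * (n⁻¹ * c * n) * n⁻¹ := by group
        _ = j := by rw [h]; exact hnj
  have hNint' : ∀ c, c ∈ N' → c ∈ N → c = 1 ∨ c = j := fun c h1 h2 => hNint c h2 h1
  have hcardN : Nat.card N = Nat.card L₁ :=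
    Subgroup.card_map_of_injective (MulAut.conj n).injective
  have hcardN' : Nat.card N' = Nat.card L₂ :=
    Subgroup.card_map_of_injective (MulAut.conj n).injective
  -- `M` normalizes `N` and `N'`
  have hL₁norm : ∀ g ∈ L₁ ⊔ L₂, ∀ a ∈ L₁, g * a * g⁻¹ ∈ L₁ := by
    intro g hg a ha
    obtain ⟨x, hx, y, hy, rfl⟩ := Cfsg.Agent.S3209.mem_sup_of_comm hc hg
    have h1 : y * a * y⁻¹ = a := by
      rw [← hc a ha y hy]; group
    have : x * y * a * (x * y)⁻¹ = x * (y * a * y⁻¹) * x⁻¹ := by group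
    rw [this, h1]
    exact L₁.mul_mem (L₁.mul_mem hx ha) (L₁.inv_mem hx)
  have hL₂norm : ∀ g ∈ L₁ ⊔ L₂, ∀ b ∈ L₂, g * b * g⁻¹ ∈ L₂ := by
    intro g hg b hb
    obtain ⟨x, hx, y, hy, rfl⟩ := Cfsg.Agent.S3209.mem_sup_of_comm hc hg
    have h1 : x * (y * b * y⁻¹) * x⁻¹ = y * b * y⁻¹ := by
      have hyb : y * b * y⁻¹ ∈ L₂ := L₂.mul_mem (L₂.mul_mem hy hb) (L₂.inv_mem hy)
      rw [hc x hx _ hyb]; group
    have : x * y * b * (x * y)⁻¹ = x * (y * b * y⁻¹) * x⁻¹ := by group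
    rw [this, h1]
    exact L₂.mul_mem (L₂.mul_mem hy hb) (L₂.inv_mem hy)
  have hNnorm : ∀ g ∈ L₁ ⊔ L₂, ∀ c ∈ N, g * c * g⁻¹ ∈ N := by
    intro g hg c hc0
    rw [hNdef, Cfsg.Agent.Lib.Helper1.mem_cj] at hc0 ⊢
    have h1 := hnM n⁻¹ hninv g hg
    rw [inv_inv] at h1
    have h2 := hL₁norm _ h1 _ hc0
    have e : n⁻¹ * (g * c * g⁻¹) * n = (n⁻¹ * g * n) * (n⁻¹ * c * n) * (n⁻¹ * g * n)⁻¹ := by group
    rw [e]; exact h2
  have hN'norm : ∀ g ∈ L₁ ⊔ L₂, ∀ c ∈ N', g * c * g⁻¹ ∈ N' := by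
    intro g hg c hc0
    rw [hN'def, Cfsg.Agent.Lib.Helper1.mem_cj] at hc0 ⊢
    have h1 := hnM n⁻¹ hninv g hg
    rw [inv_inv] at h1
    have h2 := hL₂norm _ h1 _ hc0
    have e : n⁻¹ * (g * c * g⁻¹) * n = (n⁻¹ * g * n) * (n⁻¹ * c * n) * (n⁻¹ * g * n)⁻¹ := by group
    rw [e]; exact h2
  -- the dichotomies
  have hmk_norm : ∀ (L X : Subgroup G), L ≤ L₁ ⊔ L₂ → (∀ g ∈ L₁ ⊔ L₂, ∀ a ∈ L, g * a * g⁻¹ ∈ L) →
      (∀ g ∈ L₁ ⊔ L₂, ∀ c ∈ X, g * c * g⁻¹ ∈ X) → L ≤ Subgroup.normalizer ((X ⊓ L : Subgroup G) : Set G) := by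
    intro L X hLM hLn hXn g hg
    apply Subgroup.mem_normalizer_fintype
    intro y hy
    exact ⟨hXn g (hLM hg) y hy.1, hLn g (hLM hg) y hy.2⟩
  have hdich1 : L₁ ≤ N ∨ L₁ ≤ N' := by
    have hdec := decomp hc hNN' hCM2 hO2 hNM hMNN' hNint hjj hj1 hjc
    have hsup : (N ⊓ L₁) ⊔ (N' ⊓ L₁) = L₁ := by
      apply le_antisymm (sup_le inf_le_right inf_le_right)
      intro a ha
      obtain ⟨c, hcN, d, hdN', rfl, hcL, hdL⟩ := hdec a ha
      exact Subgroup.mul_mem _ (Subgroup.mem_sup_left ⟨hcN, hcL⟩) (Subgroup.mem_sup_right ⟨hdN', hdL⟩)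
    rcases hI1 _ _ inf_le_right inf_le_right
      (hmk_norm L₁ N le_sup_left hL₁norm hNnorm) (hmk_norm L₁ N' le_sup_left hL₁norm hN'norm) hsup with h | h
    · left; rw [← h]; exact inf_le_left
    · right; rw [← h]; exact inf_le_left
  have hdich2 : L₂ ≤ N ∨ L₂ ≤ N' := by
    have hM' : L₂ ⊔ L₁ = L₁ ⊔ L₂ := sup_comm _ _
    have hdec := decomp (L := L₂) (L' := L₁) (N := N') (N' := N) hc' hN'N
      (by rw [hM']; exact hCM1) hO1 (by rw [hM']; exact hN'M)
      (by rw [hM', sup_comm N' N]; exact hMNN') hNint' hjj hj1 (by rw [hM']; exact hjc)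
    have hsup : (N ⊓ L₂) ⊔ (N' ⊓ L₂) = L₂ := by
      apply le_antisymm (sup_le inf_le_right inf_le_right)
      intro a ha
      obtain ⟨c, hcN, d, hdN', rfl, hcL, hdL⟩ := hdec a ha
      rw [hN'N c hcN d hdN']
      exact Subgroup.mul_mem _ (Subgroup.mem_sup_left ⟨hdN', hdL⟩) (Subgroup.mem_sup_right ⟨hcN, hcL⟩)
    rcases hI2 _ _ inf_le_right inf_le_right
      (hmk_norm L₂ N le_sup_right hL₂norm hNnorm) (hmk_norm L₂ N' le_sup_right hL₂norm hN'norm) hsup with h | h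
    · left; rw [← h]; exact inf_le_left
    · right; rw [← h]; exact inf_le_left
  rcases hdich1 with h1 | h1
  · -- `n` normalizes `L₁`
    left
    have hNeq : N = L₁ := (Subgroup.eq_of_le_of_card_ge h1 (by rw [hcardN])).symm
    have hN'le : N' ≤ L₂ := by
      intro d hd
      apply hCM1 d (hN'M hd)
      intro a ha
      exact hN'N d hd a (hNeq ▸ ha)
    have hN'eq : N' = L₂ := Subgroup.eq_of_le_of_card_ge hN'le (by rw [hcardN'])
    exact ⟨hNeq, hN'eq⟩
  · right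
    have h2 : L₂ ≤ N := by
      rcases hdich2 with h | h
      · exact h
      · exfalso
        have hMle : L₁ ⊔ L₂ ≤ N' := sup_le h1 h
        have hNle : N ≤ N' := hNM.trans hMle
        have := hsmall N (fun c hc0 => hNint c hc0 (hNle hc0))
        rw [hcardN] at this
        omega
    have hNle : N ≤ L₂ := by
      intro c hc0
      apply hCM1 c (hNM hc0)
      intro a ha
      exact hNN' c hc0 a (h1 ha)
    have hNeq : N = L₂ := le_antisymm hNle h2
    have hcardeq : Nat.card L₁ = Nat.card L₂ := by rw [← hcardN, hNeq]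
    have hqeq : Fintype.card F₁ = Fintype.card F₂ := by
      rw [hc1, hc2] at hcardeq
      have hmono : ∀ a b : ℕ, 3 ≤ a → a < b → a * (a ^ 2 - 1) < b * (b ^ 2 - 1) := by
        intro a b ha hab
        have h1 : a ^ 2 < b ^ 2 := Nat.pow_lt_pow_left hab (by norm_num)
        have h2 : a ^ 2 - 1 < b ^ 2 - 1 := by
          have : 1 ≤ a ^ 2 := Nat.one_le_pow _ _ (by omega)
          omega
        exact Nat.mul_lt_mul'' hab h2
      rcases Nat.lt_trichotomy (Fintype.card F₁) (Fintype.card F₂) with h | h | h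
      · exact absurd hcardeq (hmono _ _ hq1 h).ne
      · exact h
      · exact absurd hcardeq.symm (hmono _ _ hq2 h).ne
    refine ⟨hNeq, hqeq, ?_⟩
    -- the element `n'`
    have hnn : n * n ∈ L₁ ⊔ L₂ := by
      have := Subgroup.mul_self_mem_of_index_two hi (⟨n, hn⟩ : Subgroup.centralizer ({j} : Set G))
      rw [Subgroup.mem_subgroupOf] at this
      exact this
    obtain ⟨a₁, ha₁, a₂, ha₂, hnn'⟩ := Cfsg.Agent.S3209.mem_sup_of_comm hc hnn
    -- `n` maps `L₂` to `L₁`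
    have hN'eq : N' = L₁ := by
      have hle1 : N' ≤ L₁ := by
        intro d hd
        apply hCM2 d (hN'M hd)
        intro b hb
        exact hN'N d hd b (h2 hb)
      exact Subgroup.eq_of_le_of_card_ge hle1 (by rw [hcardN', hcardeq])
    have hX : n * a₁ * n⁻¹ ∈ L₂ := by
      rw [← hNeq]; exact Cfsg.Agent.Lib.Helper1.conj_mem_cj n L₁ ha₁
    have hY : n * a₂ * n⁻¹ ∈ L₁ := by
      rw [← hN'eq]; exact Cfsg.Agent.Lib.Helper1.conj_mem_cj n L₂ ha₂
    have hXY : (n * a₁ * n⁻¹) * (n * a₂ * n⁻¹) = a₁ * a₂ := by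
      calc (n * a₁ * n⁻¹) * (n * a₂ * n⁻¹) = n * (a₁ * a₂) * n⁻¹ := by group
        _ = n * (n * n) * n⁻¹ := by rw [hnn']
        _ = n * n := by group
        _ = a₁ * a₂ := hnn'
    -- `X⁻¹ a₂ = a₁⁻¹ Y` lies in the intersection
    have hkey : (n * a₁ * n⁻¹)⁻¹ * a₂ = a₁⁻¹ * (n * a₂ * n⁻¹) := by
      have h3 : a₁⁻¹ * (n * a₁ * n⁻¹)⁻¹ = (n * a₁ * n⁻¹)⁻¹ * a₁⁻¹ :=
        hc a₁⁻¹ (L₁.inv_mem ha₁) _ (L₂.inv_mem hX)
      calc (n * a₁ * n⁻¹)⁻¹ * a₂ = ((n * a₁ * n⁻¹)⁻¹ * a₁⁻¹) * (a₁ * a₂) := by group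
        _ = (a₁⁻¹ * (n * a₁ * n⁻¹)⁻¹) * ((n * a₁ * n⁻¹) * (n * a₂ * n⁻¹)) := by rw [h3, hXY]
        _ = a₁⁻¹ * (n * a₂ * n⁻¹) := by group
    have hmem1 : (n * a₁ * n⁻¹)⁻¹ * a₂ ∈ L₂ := L₂.mul_mem (L₂.inv_mem hX) ha₂
    have hmem2 : (n * a₁ * n⁻¹)⁻¹ * a₂ ∈ L₁ := by
      rw [hkey]; exact L₁.mul_mem (L₁.inv_mem ha₁) hY
    have ha₁C : a₁⁻¹ ∈ Subgroup.centralizer ({j} : Set G) :=
      hle (Subgroup.mem_sup_left (L₁.inv_mem ha₁))
    refine ⟨n * a₁⁻¹, Subgroup.mul_mem _ hn ha₁C, ?_, ?_, ?_⟩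
    · intro h
      apply hn'
      have : n = (n * a₁⁻¹) * a₁ := by group
      rw [this]
      exact Subgroup.mul_mem _ h (Subgroup.mem_sup_left ha₁)
    · rw [← hNeq]
      ext g
      show g ∈ Cfsg.Agent.Lib.Helper1.cj (n * a₁⁻¹) L₁ ↔ g ∈ Cfsg.Agent.Lib.Helper1.cj n L₁
      rw [Cfsg.Agent.Lib.Helper1.mem_cj, Cfsg.Agent.Lib.Helper1.mem_cj]
      have e : (n * a₁⁻¹)⁻¹ * g * (n * a₁⁻¹) = a₁ * (n⁻¹ * g * n) * a₁⁻¹ := by group
      rw [e]
      constructor
      · intro h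
        have := L₁.mul_mem (L₁.mul_mem (L₁.inv_mem ha₁) h) ha₁
        have e2 : a₁⁻¹ * (a₁ * (n⁻¹ * g * n) * a₁⁻¹) * a₁ = n⁻¹ * g * n := by group
        rwa [e2] at this
      · intro h
        exact L₁.mul_mem (L₁.mul_mem ha₁ h) (L₁.inv_mem ha₁)
    · have e : (n * a₁⁻¹) ^ 2 = (n * a₁ * n⁻¹)⁻¹ * a₂ := by
        calc (n * a₁⁻¹) ^ 2 = (n * a₁⁻¹ * n⁻¹) * (n * n) * a₁⁻¹ := by rw [pow_two]; group
          _ = (n * a₁⁻¹ * n⁻¹) * (a₁ * a₂) * a₁⁻¹ := by rw [hnn']
          _ = (n * a₁ * n⁻¹)⁻¹ * (a₁ * (a₂ * a₁⁻¹)) := by group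
          _ = (n * a₁ * n⁻¹)⁻¹ * (a₁ * (a₁⁻¹ * a₂)) := by
              rw [hc a₁⁻¹ (L₁.inv_mem ha₁) a₂ ha₂]
          _ = (n * a₁ * n⁻¹)⁻¹ * a₂ := by group
      rw [e, ← hm]
      exact ⟨hmem2, hmem1⟩


end Cfsg.Agent.S3210
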