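import Mathlib
import Cfsg.Prelude.Def_Transfer
import Cfsg.Prelude.Def_CaseTheorems
import Cfsg.Agent.Lib.Lead.ThompsonPQ
import Cfsg.Agent.Lib.Lead.FpfCyclic
import Cfsg.Agent.Lib.Lead.UniqueOrderP5
import Cfsg.Agent.Lib.Lead.Core
import Cfsg.Agent.Lib.Helper3.WrCent1
import Cfsg.Agent.Lib.Helper3.PComp7
import Cfsg.Agent.Lib.Helper3.Components11
import Cfsg.Agent.Lib.Helper6.PRes
import Cfsg.Agent.Lib.Helper7.CyclicCrit
import Cfsg.Statements.S3215

set_option autoImplicit false
open Cfsg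

namespace Cfsg.Agent.S3215

open Cfsg.Agent.Lib.Lead Cfsg.Agent.Lib.Helper3
open scoped commutatorElement

section helpers

variable {H : Type*} [Group H] [Finite H]

/-- in a finite solvable group the Fitting subgroup contains its centralizer -/
theorem centralizer_fitting_le (hsol : Group.IsSolvable H) :
    Subgroup.centralizer (Cfsg.fittingSubgroup H : Set H) ≤ Cfsg.fittingSubgroup H := by
  have h := le_fitting_inf_centralizer_of_isSolvable (G := H)
    (Subgroup.centralizer (Cfsg.fittingSubgroup H : Set H)) le_rfl Subgroup.le_normalizer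
    inferInstance
  exact h.trans inf_le_left

/-- `F(H) = O_2(H)` when `O(H) = 1` -/
theorem fitting_eq_pCore_two (hO : Cfsg.pPrimeCore 2 H = ⊥) :
    Cfsg.fittingSubgroup H = Cfsg.pCore 2 H := by
  rw [Cfsg.Agent.Lib.Lead.fittingSubgroup_eq_iSup_pCore]
  apply le_antisymm
  · apply iSup_le
    intro r
    by_cases hr : (r : ℕ) = 2
    · rw [hr]
    · have : Fact (r : ℕ).Prime := ⟨r.2⟩
      have h1 : Cfsg.pCore (r : ℕ) H ≤ Cfsg.pPrimeCore 2 H := by
        apply Cfsg.Agent.Lib.Helper6.le_pPrimeCore (Cfsg.Agent.Lib.Lead.pCore_normal _)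
        obtain ⟨k, hk⟩ := IsPGroup.iff_card.mp (Cfsg.Agent.Lib.Lead.pCore_isPGroup (G := H) (r : ℕ))
        rw [hk]
        apply Nat.Coprime.pow_left
        exact (Nat.coprime_primes r.2 Nat.prime_two).mpr hr
      rw [hO] at h1
      exact h1.trans bot_le
  · exact le_iSup (fun r : Nat.Primes => Cfsg.pCore (r : ℕ) H) ⟨2, Nat.prime_two⟩

theorem centralizer_pCore_two_le (hsol : Group.IsSolvable H) (hO : Cfsg.pPrimeCore 2 H = ⊥) :
    Subgroup.centralizer (Cfsg.pCore 2 H : Set H) ≤ Cfsg.pCore 2 H := by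
  have := centralizer_fitting_le hsol
  rwa [fitting_eq_pCore_two hO] at this

/-- Lemma B: an element of odd order commuting with an involution is trivial -/
theorem eq_one_of_commute_involution (hsol : Group.IsSolvable H)
    (hO : Cfsg.pPrimeCore 2 H = ⊥)
    (hI : ∀ t : H, orderOf t = 2 → Cfsg.HasNormalPComplement 2 ↥(Subgroup.centralizer ({t} : Set H)))
    (t h : H) (ht : orderOf t = 2) (hh : Odd (orderOf h)) (hth : t * h = h * t) : h = 1 := by
  have : Fact (Nat.Prime 2) := ⟨Nat.prime_two⟩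
  set Y := Cfsg.pCore 2 H with hY
  have hYn : Y.Normal := Cfsg.Agent.Lib.Lead.pCore_normal 2
  have hYp : IsPGroup 2 Y := Cfsg.Agent.Lib.Lead.pCore_isPGroup 2
  set C := Subgroup.centralizer ({t} : Set H) with hC
  have hhC : h ∈ C := by
    rw [hC, Subgroup.mem_centralizer_iff]
    intro x hx
    rw [Set.mem_singleton_iff] at hx
    rw [hx]; exact hth
  -- `h` centralizes `C_Y(t)`
  have hcent : ∀ y ∈ Y, t * y = y * t → h * y = y * h := by
    intro y hy hty
    have hyC : y ∈ C := by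
      rw [hC, Subgroup.mem_centralizer_iff]
      intro x hx
      rw [Set.mem_singleton_iff] at hx
      rw [hx]; exact hty
    have hV : IsPGroup 2 ↥(Y.subgroupOf C) := hYp.comap_subtype
    have key := npc_odd_centralizes (hI t ht) (Y.subgroupOf C) hV ⟨h, hhC⟩
      (by
        rw [Subgroup.orderOf_mk]
        exact Nat.coprime_two_right.mpr hh)
      (by
        intro v hv
        rw [Subgroup.mem_subgroupOf] at hv ⊢
        simp only [Subgroup.coe_mul, Subgroup.coe_inv]
        exact hYn.conj_mem _ hv _)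
      ⟨y, hyC⟩ (by rw [Subgroup.mem_subgroupOf]; exact hy)
    have := congrArg Subtype.val key
    simp only [Subgroup.coe_mul, Subgroup.coe_inv] at this
    rw [mul_inv_eq_iff_eq_mul] at this
    exact this
  have hQ : (Nat.card (Subgroup.zpowers h)).Coprime 2 := by
    rw [Nat.card_zpowers]
    exact Nat.coprime_two_right.mpr hh
  have hP : IsPGroup 2 (Subgroup.zpowers t) := by
    apply IsPGroup.of_card (n := 1)
    rw [Nat.card_zpowers, ht, pow_one]
  have h1 := thompson_PQ 2 (Subgroup.zpowers t) (Subgroup.zpowers h) Y hP hQ hYp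
    (by
      rw [Subgroup.zpowers_le, Subgroup.mem_centralizer_iff]
      intro x hx
      obtain ⟨k, rfl⟩ := hx
      exact ((Commute.zpow_left (show Commute h t from hth.symm) k)).eq)
    (by rw [Subgroup.normalizer_eq_top]; exact le_top)
    (by rw [Subgroup.normalizer_eq_top]; exact le_top)
    (by
      intro y hy
      rw [Subgroup.mem_inf] at hy
      rw [Subgroup.mem_centralizer_iff]
      intro x hx
      obtain ⟨k, rfl⟩ := hx
      have hty : t * y = y * t := by
        have := Subgroup.mem_centralizer_iff.mp hy.2 t (Subgroup.mem_zpowers t)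
        exact this
      exact ((Commute.zpow_left (show Commute h y from hcent y hy.1 hty) k)).eq)
  have h2 : h ∈ Y := by
    apply centralizer_pCore_two_le hsol hO
    exact h1 (Subgroup.mem_zpowers h)
  obtain ⟨k, hk⟩ := hYp ⟨h, h2⟩
  have hk' : h ^ 2 ^ k = 1 := by
    have := congrArg Subtype.val hk
    simpa using this
  have h3 : orderOf h ∣ 2 ^ k := orderOf_dvd_of_pow_eq_one hk'
  have h4 : (orderOf h).Coprime (2 ^ k) :=
    Nat.Coprime.pow_right k (Nat.coprime_two_right.mpr hh)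
  exact orderOf_eq_one_iff.mp (Nat.Coprime.eq_one_of_dvd h4 h3)

/-- Lemma C: an element of odd order commuting with a nontrivial `2`-element is trivial -/
theorem eq_one_of_commute_two_element
    (hB : ∀ t h : H, orderOf t = 2 → Odd (orderOf h) → t * h = h * t → h = 1)
    (v h : H) (hv1 : v ≠ 1) (hv : ∃ k, orderOf v = 2 ^ k) (hh : Odd (orderOf h))
    (hvh : v * h = h * v) : h = 1 := by
  obtain ⟨k, hk⟩ := hv
  have hk0 : k ≠ 0 := by
    rintro rfl
    rw [pow_zero, orderOf_eq_one_iff] at hk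
    exact hv1 hk
  obtain ⟨j, rfl⟩ : ∃ j, k = j + 1 := ⟨k - 1, by omega⟩
  have ht : orderOf (v ^ 2 ^ j) = 2 := by
    rw [orderOf_pow_of_dvd (by positivity) (by rw [hk]; exact pow_dvd_pow 2 (by omega)), hk,
      pow_succ, Nat.mul_div_cancel_left _ (by positivity)]
  exact hB (v ^ 2 ^ j) h ht hh ((Commute.pow_left (show Commute v h from hvh) _).eq)

/-- a `p`-group all of whose abelian subgroups are cyclic has a unique subgroup of order `p` -/
theorem uniqueOrderP_of_forall_comm_cyclic {P : Type*} [Group P] [Finite P] {p : ℕ}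
    [hp : Fact p.Prime] (hPp : IsPGroup p P)
    (hcyc : ∀ B : Subgroup P, IsMulCommutative B → IsCyclic B) : UniqueOrderP p P := by
  classical
  have key : ∀ H₁ H₂ : Subgroup P, Nat.card H₁ = p → Nat.card H₂ = p →
      (∀ x ∈ H₁, ∀ y ∈ H₂, x * y = y * x) → H₁ ≤ H₂ := by
    intro H₁ H₂ h1 h2 hcomm
    have hc1 : ∀ x ∈ H₁, ∀ y ∈ H₁, x * y = y * x := by
      intro x hx y hy
      have : IsCyclic H₁ := isCyclic_of_prime_card h1
      have := (IsCyclic.commGroup (α := H₁)).mul_comm ⟨x, hx⟩ ⟨y, hy⟩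
      exact congrArg Subtype.val this
    have hc2 : ∀ x ∈ H₂, ∀ y ∈ H₂, x * y = y * x := by
      intro x hx y hy
      have : IsCyclic H₂ := isCyclic_of_prime_card h2
      have := (IsCyclic.commGroup (α := H₂)).mul_comm ⟨x, hx⟩ ⟨y, hy⟩
      exact congrArg Subtype.val this
    set B : Subgroup P := Subgroup.closure ((H₁ : Set P) ∪ (H₂ : Set P)) with hBdef
    have hBc : IsMulCommutative B := by
      apply Subgroup.isMulCommutative_closure
      rintro x (hx | hx) y (hy | hy)
      · exact hc1 x hx y hy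
      · exact hcomm x hx y hy
      · exact (hcomm y hy x hx).symm
      · exact hc2 x hx y hy
    have hH₁B : H₁ ≤ B := fun x hx => Subgroup.subset_closure (Or.inl hx)
    have hH₂B : H₂ ≤ B := fun x hx => Subgroup.subset_closure (Or.inr hx)
    have hcyc' : IsCyclic B := hcyc B hBc
    intro x hx
    have h3 : (⟨x, hH₁B hx⟩ : B) ∈ H₂.subgroupOf B := by
      rw [mem_iff_pow_card_of_isCyclic, card_subgroupOf_of_le hH₂B, h2]
      apply Subtype.ext
      have := pow_card_eq_one' (G := H₁) (x := ⟨x, hx⟩)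
      rw [h1] at this
      have h4 : x ^ p = 1 := congrArg Subtype.val this
      simpa using h4
    exact Subgroup.mem_subgroupOf.mp h3
  intro H₁ H₂ h1 h2
  have hnt : Nontrivial P := by
    have : 1 < Nat.card P := by
      have := Subgroup.card_subgroup_dvd_card H₁
      rw [h1] at this
      exact lt_of_lt_of_le hp.out.one_lt (Nat.le_of_dvd Nat.card_pos this)
    exact (Finite.one_lt_card_iff_nontrivial).mp this
  have hcen := hPp.center_nontrivial
  obtain ⟨k, hk⟩ := IsPGroup.iff_card.mp (hPp.to_subgroup (Subgroup.center P))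
  have hk0 : k ≠ 0 := by
    intro h0
    rw [h0, pow_zero] at hk
    have := (Finite.one_lt_card_iff_nontrivial).mpr hcen
    omega
  obtain ⟨z, hz⟩ := exists_prime_orderOf_dvd_card' (G := Subgroup.center P) p
    (by rw [hk]; exact dvd_pow_self p hk0)
  set Zc : Subgroup P := Subgroup.zpowers (z : P) with hZc
  have hZcard : Nat.card Zc = p := by rw [Nat.card_zpowers, Subgroup.orderOf_coe, hz]
  have hZcen : ∀ y ∈ Zc, ∀ x : P, x * y = y * x := by
    intro y hy x
    have h3 : Zc ≤ Subgroup.center P := (Subgroup.zpowers_le).mpr z.2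
    exact Subgroup.mem_center_iff.mp (h3 hy) x
  have e1 : H₁ = Zc :=
    Subgroup.eq_of_le_of_card_ge (key H₁ Zc h1 hZcard (fun x _ y hy => hZcen y hy x))
      (by rw [h1, hZcard])
  have e2 : H₂ = Zc :=
    Subgroup.eq_of_le_of_card_ge (key H₂ Zc h2 hZcard (fun x _ y hy => hZcen y hy x))
      (by rw [h2, hZcard])
  rw [e1, e2]

/-- subgroups of odd prime power order are cyclic -/
theorem isCyclic_of_odd_pgroup (Y : Subgroup H) [hYn : Y.Normal]
    (hCY : Subgroup.centralizer (Y : Set H) ≤ Y) (hYp : IsPGroup 2 Y)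
    (hCl : ∀ v h : H, v ≠ 1 → (∃ k, orderOf v = 2 ^ k) → Odd (orderOf h) → v * h = h * v → h = 1)
    {p : ℕ} [hp : Fact p.Prime] (hp2 : p ≠ 2) (R : Subgroup H) (hR : IsPGroup p R) :
    IsCyclic R := by
  by_cases hY : Y = ⊥
  · have htop : (⊤ : Subgroup H) ≤ ⊥ := by
      have h1 : Subgroup.centralizer (Y : Set H) = ⊤ := by
        rw [hY, Subgroup.coe_bot, Subgroup.centralizer_eq_top_iff_subset]
        intro x hx
        rw [Set.mem_singleton_iff] at hx
        rw [hx]; exact Subgroup.one_mem _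
      rw [← h1, ← hY]; exact hCY
    have hss : Subsingleton H := by
      constructor
      intro a b
      have ha : a ∈ (⊥ : Subgroup H) := htop (Subgroup.mem_top a)
      have hb : b ∈ (⊥ : Subgroup H) := htop (Subgroup.mem_top b)
      rw [Subgroup.mem_bot] at ha hb
      rw [ha, hb]
    exact isCyclic_of_subsingleton
  have hodd : ∀ a ∈ R, Odd (orderOf a) := by
    intro a ha
    obtain ⟨k, hk⟩ := hR ⟨a, ha⟩
    have hk' : a ^ p ^ k = 1 := by
      have := congrArg Subtype.val hk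
      simpa using this
    have h1 : orderOf a ∣ p ^ k := orderOf_dvd_of_pow_eq_one hk'
    have h2 : Odd (p ^ k) := (hp.out.odd_of_ne_two hp2).pow
    exact Odd.of_dvd_nat h2 h1
  have hU : UniqueOrderP p R := by
    apply uniqueOrderP_of_forall_comm_cyclic hR
    intro B hB
    have hB' : IsMulCommutative (B.map R.subtype) := Subgroup.map_isMulCommutative B R.subtype
    have hcyc := isCyclic_of_fpf_abelian (B.map R.subtype) Y hY
      (by rw [Subgroup.normalizer_eq_top]; exact le_top)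
      (by
        intro a ha ha1
        rw [Subgroup.eq_bot_iff_forall]
        intro y hy
        rw [Subgroup.mem_inf, Subgroup.mem_centralizer_iff] at hy
        by_contra hy1
        have haR : a ∈ R := Subgroup.map_subtype_le _ ha
        have hyo : ∃ k, orderOf y = 2 ^ k := by
          obtain ⟨k, hk⟩ := hYp ⟨y, hy.1⟩
          have hk' : y ^ 2 ^ k = 1 := by
            have := congrArg Subtype.val hk
            simpa using this
          exact (Nat.dvd_prime_pow Nat.prime_two).mp (orderOf_dvd_of_pow_eq_one hk') |>.imp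
            fun j hj => hj.2
        have := hCl y a hy1 hyo (hodd a haR) ((hy.2 a (Set.mem_singleton a)).symm)
        exact ha1 this)
      hB'
    exact isCyclic_of_surjective (B.equivMapOfInjective R.subtype R.subtype_injective).symm
      (B.equivMapOfInjective R.subtype R.subtype_injective).symm.surjective
  rcases UniqueOrderP.main hR hU with h | ⟨h, _⟩
  · exact h
  · exact absurd h hp2

/-- the commutator subgroup centralizes every cyclic normal subgroup -/
theorem commutator_le_centralizer_of_isCyclic {G : Type*} [Group G] (K : Subgroup G)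
    [hK : K.Normal] [hc : IsCyclic K] : commutator G ≤ Subgroup.centralizer (K : Set G) := by
  rw [commutator_def, Subgroup.commutator_le]
  intro a _ b _
  rw [Subgroup.mem_centralizer_iff]
  intro k hk
  have hcomm : ∀ φ ψ : MulAut K, φ * ψ = ψ * φ := by
    intro φ ψ
    apply (IsCyclic.mulAutMulEquiv K).injective
    rw [map_mul, map_mul, mul_comm]
  have h1 : MulAut.conjNormal (H := K) ⁅a, b⁆ = 1 := by
    rw [map_commutatorElement, commutatorElement_def,
      hcomm (MulAut.conjNormal a) (MulAut.conjNormal b), mul_inv_cancel_right, mul_inv_cancel]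
  have h2 := congrArg (fun φ : MulAut K => ((φ ⟨k, hk⟩ : K) : G)) h1
  simp only [MulAut.conjNormal_apply, MulAut.one_apply] at h2
  rw [mul_inv_eq_iff_eq_mul] at h2
  exact h2.symm

/-- a normal subgroup of odd order lies in every Hall `2'`-subgroup -/
theorem le_of_odd_normal {G : Type*} [Group G] [Finite G] (N X : Subgroup G) [hN : N.Normal]
    (hNo : Odd (Nat.card N)) (hXo : Odd (Nat.card X)) (hidx : ∃ k : ℕ, X.index = 2 ^ k) :
    N ≤ X := by
  set M := X ⊔ N with hM
  have h1 : N.relIndex M = N.relIndex X := Subgroup.relIndex_sup_right X N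
  have h2 : Nat.card N * N.relIndex M = Nat.card M := by
    have := Subgroup.card_mul_index (N.subgroupOf M)
    rw [card_subgroupOf_of_le (le_sup_right : N ≤ M)] at this
    exact this
  have h3 : Odd (Nat.card M) := by
    rw [← h2, h1]
    exact hNo.mul (Odd.of_dvd_nat hXo (Subgroup.relIndex_dvd_card _ _))
  have h4 : X.relIndex M ∣ Nat.card M := Subgroup.relIndex_dvd_card _ _
  obtain ⟨k, hk⟩ := hidx
  have h5 : X.relIndex M ∣ 2 ^ k := hk ▸ Subgroup.relIndex_dvd_index_of_le (le_sup_left : X ≤ M)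
  have h6 : X.relIndex M = 1 := by
    obtain ⟨j, _, hj⟩ := (Nat.dvd_prime_pow Nat.prime_two).mp h5
    have h7 : Odd (2 ^ j) := hj ▸ Odd.of_dvd_nat h3 h4
    rcases Nat.eq_zero_or_pos j with h0 | h0
    · rw [hj, h0, pow_zero]
    · exfalso
      have : Even (2 ^ j) := (Nat.even_pow' h0.ne').mpr even_two
      exact (Nat.not_even_iff_odd.mpr h7) this
  exact le_sup_right.trans (Subgroup.relIndex_eq_one.mp h6)

/-- the structure of `H / O_2(H)` -/
theorem main_aux (hsol : Group.IsSolvable H) (Y : Subgroup H) [hYn : Y.Normal]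
    (hY : Y = Cfsg.pCore 2 H) (hCY : Subgroup.centralizer (Y : Set H) ≤ Y)
    (hCl : ∀ v h : H, v ≠ 1 → (∃ k, orderOf v = 2 ^ k) → Odd (orderOf h) → v * h = h * v → h = 1)
    (X : Subgroup H) (hXodd : Odd (Nat.card X)) (hXidx : ∃ k : ℕ, X.index = 2 ^ k) :
    (X.map (QuotientGroup.mk' Y)).Normal ∧ ∀ T : Sylow 2 (H ⧸ Y), IsCyclic T := by
  classical
  have : Fact (Nat.Prime 2) := ⟨Nat.prime_two⟩
  have hYp : IsPGroup 2 Y := hY ▸ Cfsg.Agent.Lib.Lead.pCore_isPGroup 2
  set π := QuotientGroup.mk' Y with hπ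
  have hπs : Function.Surjective π := QuotientGroup.mk'_surjective Y
  have hsolb : Group.IsSolvable (H ⧸ Y) := inferInstance
  have hO2 : Cfsg.pCore 2 (H ⧸ Y) = ⊥ := by
    rw [Cfsg.Agent.Lib.Helper6.pCore_quotient_of_isPGroup Y hYp, ← hY, Subgroup.map_eq_bot_iff,
      QuotientGroup.ker_mk']
  -- (F3)
  have hF3 : ∀ r : ℕ, r.Prime → r ≠ 2 → IsCyclic (Cfsg.pCore r (H ⧸ Y)) ∧
      ∀ ā ∈ Cfsg.pCore r (H ⧸ Y), ∃ a : H, Odd (orderOf a) ∧ IsPGroup r (Subgroup.zpowers a) ∧
        π a = ā := by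
    intro r hr hr2
    have : Fact r.Prime := ⟨hr⟩
    obtain ⟨S⟩ : Nonempty (Sylow r H) := inferInstance
    have hScyc : IsCyclic S := isCyclic_of_odd_pgroup Y hCY hYp hCl hr2 S S.2
    have hle : Cfsg.pCore r (H ⧸ Y) ≤ (S : Subgroup H).map π := by
      have := Cfsg.Agent.Lib.Helper6.pCore_le_sylow (S.mapSurjective hπs)
      rwa [Sylow.coe_mapSurjective] at this
    constructor
    · have h1 : IsCyclic ((S : Subgroup H).map π) :=
        isCyclic_of_surjective (π.subgroupMap S) (π.subgroupMap_surjective S)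
      exact isCyclic_of_injective (Subgroup.inclusion hle) (Subgroup.inclusion_injective hle)
    · intro ā hā
      obtain ⟨a, haS, rfl⟩ := hle hā
      have hap : IsPGroup r (Subgroup.zpowers a) :=
        S.2.to_le ((Subgroup.zpowers_le).mpr haS)
      refine ⟨a, ?_, hap, rfl⟩
      obtain ⟨k, hk⟩ := IsPGroup.iff_card.mp hap
      rw [Nat.card_zpowers] at hk
      rw [hk]
      exact (hr.odd_of_ne_two hr2).pow
  -- (F4')
  have hF4 : ∀ r : ℕ, r.Prime → r ≠ 2 → ∀ v : H ⧸ Y, v ≠ 1 → (∃ k, orderOf v = 2 ^ k) →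
      ∀ ā ∈ Cfsg.pCore r (H ⧸ Y), v * ā = ā * v → ā = 1 := by
    intro r hr hr2 v hv1 hvo ā hā hvā
    have : Fact r.Prime := ⟨hr⟩
    obtain ⟨a, hao, hap, rfl⟩ := (hF3 r hr hr2).2 ā hā
    obtain ⟨y₀, rfl⟩ := hπs v
    have hW : (Nat.card Y).Coprime r := by
      obtain ⟨k, hk⟩ := IsPGroup.iff_card.mp hYp
      rw [hk]
      exact Nat.Coprime.pow_left k ((Nat.coprime_primes Nat.prime_two hr).mpr (Ne.symm hr2))
    obtain ⟨c, hc, hcπ⟩ := exists_mem_centralizer_of_map_mem_centralizer Y hW hap (y := y₀)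
      (by
        rw [Subgroup.mem_centralizer_iff]
        rintro _ ⟨x, hx, rfl⟩
        obtain ⟨k, rfl⟩ := hx
        rw [map_zpow]
        exact ((Commute.zpow_left (show Commute (π a) (π y₀) from hvā.symm) k)).eq)
    have hca : c * a = a * c := by
      have := Subgroup.mem_centralizer_iff.mp hc a (Subgroup.mem_zpowers a)
      exact this.symm
    obtain ⟨e, m, hm, hcm⟩ := Nat.exists_eq_two_pow_mul_odd (orderOf_pos c).ne'
    obtain ⟨k, hk⟩ := hvo
    have h2 : ∃ j, orderOf (c ^ m) = 2 ^ j := by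
      have : (c ^ m) ^ 2 ^ e = 1 := by
        rw [← pow_mul, mul_comm, ← hcm, pow_orderOf_eq_one]
      obtain ⟨j, _, hj⟩ := (Nat.dvd_prime_pow Nat.prime_two).mp (orderOf_dvd_of_pow_eq_one this)
      exact ⟨j, hj⟩
    have h1 : c ^ m ≠ 1 := by
      intro h0
      have h3 : (π y₀) ^ m = 1 := by
        rw [← hcπ, ← map_pow, h0, map_one]
      have h4 : 2 ^ k ∣ m := hk ▸ orderOf_dvd_of_pow_eq_one h3
      have h5 : k = 0 := by
        by_contra hk0
        have : 2 ∣ m := (dvd_pow_self 2 hk0).trans h4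
        exact (Nat.not_even_iff_odd.mpr hm) (even_iff_two_dvd.mpr this)
      rw [h5, pow_zero, orderOf_eq_one_iff] at hk
      exact hv1 hk
    have h6 := hCl (c ^ m) a h1 h2 hao ((Commute.pow_left (show Commute c a from hca) m).eq)
    rw [h6, map_one]
  -- commutator
  have hcomm : commutator (H ⧸ Y) ≤ Cfsg.fittingSubgroup (H ⧸ Y) := by
    have h1 : ∀ r : Nat.Primes, Cfsg.pCore (r : ℕ) (H ⧸ Y) ≤
        Subgroup.centralizer (commutator (H ⧸ Y) : Set (H ⧸ Y)) := by
      intro r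
      by_cases hr2 : (r : ℕ) = 2
      · rw [hr2, hO2]; exact bot_le
      · haveI := Cfsg.Agent.Lib.Lead.pCore_normal (G := H ⧸ Y) (r : ℕ)
        haveI := (hF3 r r.2 hr2).1
        exact Subgroup.le_centralizer_iff.mp (commutator_le_centralizer_of_isCyclic _)
    have h2 : Cfsg.fittingSubgroup (H ⧸ Y) ≤
        Subgroup.centralizer (commutator (H ⧸ Y) : Set (H ⧸ Y)) := by
      rw [Cfsg.Agent.Lib.Lead.fittingSubgroup_eq_iSup_pCore]; exact iSup_le h1
    exact (Subgroup.le_centralizer_iff.mp h2).trans (centralizer_fitting_le hsolb)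
  have hXbo : Odd (Nat.card (X.map π)) := Odd.of_dvd_nat hXodd (Subgroup.card_map_dvd _ _)
  have hXbi : ∃ k : ℕ, (X.map π).index = 2 ^ k := by
    obtain ⟨k, hk⟩ := hXidx
    obtain ⟨j, _, hj⟩ := (Nat.dvd_prime_pow Nat.prime_two).mp (hk ▸ Subgroup.index_map_dvd X hπs)
    exact ⟨j, hj⟩
  have hFX : Cfsg.fittingSubgroup (H ⧸ Y) ≤ X.map π := by
    rw [Cfsg.Agent.Lib.Lead.fittingSubgroup_eq_iSup_pCore]
    apply iSup_le
    intro r
    by_cases hr2 : (r : ℕ) = 2
    · rw [hr2, hO2]; exact bot_le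
    · haveI := Cfsg.Agent.Lib.Lead.pCore_normal (G := H ⧸ Y) (r : ℕ)
      have : Fact (r : ℕ).Prime := ⟨r.2⟩
      apply le_of_odd_normal _ _ _ hXbo hXbi
      obtain ⟨k, hk⟩ := IsPGroup.iff_card.mp (Cfsg.Agent.Lib.Lead.pCore_isPGroup (G := H ⧸ Y) (r : ℕ))
      rw [hk]
      exact (r.2.odd_of_ne_two hr2).pow
  have hXn : (X.map π).Normal := by
    constructor
    intro x hx g
    have h1 : g * x * g⁻¹ = ⁅g, x⁆ * x := by rw [commutatorElement_def]; group
    rw [h1]
    refine mul_mem (hFX (hcomm ?_)) hx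
    rw [commutator_def]
    exact Subgroup.commutator_mem_commutator (Subgroup.mem_top g) (Subgroup.mem_top x)
  refine ⟨hXn, ?_⟩
  intro T
  have hXT : X.map π ⊓ (T : Subgroup (H ⧸ Y)) = ⊥ := by
    apply Disjoint.eq_bot
    apply Subgroup.disjoint_of_coprime_natCard
    obtain ⟨k, hk⟩ := IsPGroup.iff_card.mp T.2
    rw [hk]
    exact Nat.Coprime.pow_right k (Nat.coprime_two_right.mpr hXbo)
  have hTcomm : ∀ a b : T, a * b = b * a := by
    intro a b
    have h1 : ⁅(a : H ⧸ Y), (b : H ⧸ Y)⁆ ∈ X.map π ⊓ (T : Subgroup (H ⧸ Y)) := by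
      rw [Subgroup.mem_inf]
      constructor
      · apply hFX; apply hcomm
        rw [commutator_def]
        exact Subgroup.commutator_mem_commutator (Subgroup.mem_top _) (Subgroup.mem_top _)
      · rw [commutatorElement_def]
        exact mul_mem (mul_mem (mul_mem a.2 b.2) (inv_mem a.2)) (inv_mem b.2)
    rw [hXT, Subgroup.mem_bot, commutatorElement_eq_one_iff_commute] at h1
    exact Subtype.ext h1.eq
  -- two distinct commuting involutions give a contradiction
  have hinv : ∀ w₁ w₂ : H ⧸ Y, orderOf w₁ = 2 → orderOf w₂ = 2 → w₁ * w₂ = w₂ * w₁ → w₁ = w₂ := by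
    intro w₁ w₂ ho1 ho2 hw
    by_contra hne
    have hFne : Cfsg.fittingSubgroup (H ⧸ Y) ≠ ⊥ := by
      intro h0
      have h1 := centralizer_fitting_le hsolb
      rw [h0, Subgroup.coe_bot] at h1
      have h2 : w₁ ∈ (⊥ : Subgroup (H ⧸ Y)) := h1 (by
        rw [Subgroup.mem_centralizer_iff]
        intro x hx
        rw [Set.mem_singleton_iff] at hx
        rw [hx, one_mul, mul_one])
      have h3 : w₂ ∈ (⊥ : Subgroup (H ⧸ Y)) := h1 (by
        rw [Subgroup.mem_centralizer_iff]
        intro x hx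
        rw [Set.mem_singleton_iff] at hx
        rw [hx, one_mul, mul_one])
      rw [Subgroup.mem_bot] at h2 h3
      exact hne (h2.trans h3.symm)
    obtain ⟨r, hrne⟩ : ∃ r : Nat.Primes, Cfsg.pCore (r : ℕ) (H ⧸ Y) ≠ ⊥ := by
      by_contra hall
      push Not at hall
      apply hFne
      rw [Cfsg.Agent.Lib.Lead.fittingSubgroup_eq_iSup_pCore, iSup_eq_bot]
      exact hall
    have hr2 : (r : ℕ) ≠ 2 := by
      intro h0
      rw [h0] at hrne
      exact hrne hO2
    set A := Cfsg.pCore (r : ℕ) (H ⧸ Y) with hA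
    have hAn : A.Normal := Cfsg.Agent.Lib.Lead.pCore_normal (G := H ⧸ Y) (r : ℕ)
    have hAc : ∀ a ∈ A, ∀ b ∈ A, a * b = b * a := by
      intro a ha b hb
      haveI := (hF3 r r.2 hr2).1
      have := (IsCyclic.commGroup (α := A)).mul_comm ⟨a, ha⟩ ⟨b, hb⟩
      exact congrArg Subtype.val this
    have hsq : ∀ w : H ⧸ Y, orderOf w = 2 → w ≠ 1 ∧ (∃ k, orderOf w = 2 ^ k) ∧ w⁻¹ = w := by
      intro w hw
      refine ⟨?_, ⟨1, by rw [hw, pow_one]⟩, ?_⟩
      · intro h0
        rw [h0, orderOf_one] at hw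
        omega
      · have : w ^ 2 = 1 := hw ▸ pow_orderOf_eq_one w
        rw [inv_eq_iff_mul_eq_one, ← pow_two, this]
    have hinvert : ∀ w : H ⧸ Y, orderOf w = 2 → ∀ a ∈ A, w * a * w⁻¹ = a⁻¹ := by
      intro w hw a ha
      obtain ⟨hw1, hwo, hwi⟩ := hsq w hw
      have hca : w * a * w⁻¹ ∈ A := hAn.conj_mem a ha w
      have e2 : w * w = 1 := by rw [← pow_two]; exact hw ▸ pow_orderOf_eq_one w
      have hb : w * (w * a * w⁻¹) * w⁻¹ = a := by
        calc w * (w * a * w⁻¹) * w⁻¹ = (w * w) * a * (w * w)⁻¹ := by group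
          _ = a := by rw [e2, one_mul, inv_one, mul_one]
      have e3 : (w * a * w⁻¹) * a = a * (w * a * w⁻¹) := hAc _ hca a ha
      have h1 := hF4 r r.2 hr2 w hw1 hwo (a * (w * a * w⁻¹)) (mul_mem ha hca) (by
        calc w * (a * (w * a * w⁻¹))
            = (w * a * w⁻¹) * (w * (w * a * w⁻¹) * w⁻¹) * w := by group
          _ = (w * a * w⁻¹) * a * w := by rw [hb]
          _ = a * (w * a * w⁻¹) * w := by rw [e3])
      exact eq_inv_of_mul_eq_one_right h1
    obtain ⟨w, hwdef⟩ : ∃ w, w = w₁ * w₂ := ⟨_, rfl⟩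
    have e1 : w₁ * w₁ = 1 := by rw [← pow_two]; exact ho1 ▸ pow_orderOf_eq_one w₁
    have e2 : w₂ * w₂ = 1 := by rw [← pow_two]; exact ho2 ▸ pow_orderOf_eq_one w₂
    have hw2 : w * w = 1 := by
      calc w * w = w₁ * (w₂ * w₁) * w₂ := by rw [hwdef]; group
        _ = w₁ * (w₁ * w₂) * w₂ := by rw [hw]
        _ = (w₁ * w₁) * (w₂ * w₂) := by group
        _ = 1 := by rw [e1, e2, one_mul]
    have hw1 : w ≠ 1 := by
      intro h0
      apply hne
      have h1 : w₁ = w₂⁻¹ := eq_inv_of_mul_eq_one_left (hwdef ▸ h0)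
      rw [h1]
      exact (hsq w₂ ho2).2.2
    have hwo : orderOf w = 2 := orderOf_eq_prime (by rw [pow_two]; exact hw2) hw1
    apply hrne
    rw [Subgroup.eq_bot_iff_forall]
    intro a ha
    apply hF4 r r.2 hr2 w hw1 ⟨1, by rw [hwo, pow_one]⟩ a ha
    have h1 := hinvert w₂ ho2 a ha
    have h2 := hinvert w₁ ho1 a⁻¹ (inv_mem ha)
    have h3 : w * a * w⁻¹ = a := by
      calc w * a * w⁻¹ = w₁ * (w₂ * a * w₂⁻¹) * w₁⁻¹ := by rw [hwdef]; group
        _ = a := by rw [h1, h2, inv_inv]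
    rw [mul_inv_eq_iff_eq_mul] at h3
    exact h3
  apply Cfsg.Agent.Lib.Helper7.isCyclic_of_comm_of_unique (p := 2) hTcomm T.2
  intro H₁ H₂ h1 h2
  have key : ∀ K : Subgroup T, Nat.card K = 2 →
      ∃ v : T, orderOf v = 2 ∧ K = Subgroup.zpowers v := by
    intro K hK
    obtain ⟨v, hv⟩ := exists_prime_orderOf_dvd_card' (G := K) 2 (by rw [hK])
    refine ⟨(v : T), by rw [Subgroup.orderOf_coe, hv], ?_⟩
    symm
    apply Subgroup.eq_of_le_of_card_ge ((Subgroup.zpowers_le).mpr v.2)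
    rw [hK, Nat.card_zpowers, Subgroup.orderOf_coe, hv]
  obtain ⟨v₁, hv₁, rfl⟩ := key H₁ h1
  obtain ⟨v₂, hv₂, rfl⟩ := key H₂ h2
  have := hinv (v₁ : H ⧸ Y) (v₂ : H ⧸ Y) (by rw [Subgroup.orderOf_coe, hv₁])
    (by rw [Subgroup.orderOf_coe, hv₂]) (congrArg Subtype.val (hTcomm v₁ v₂))
  rw [Subtype.ext this]

end helpers



/-- Let H be a finite solvable group with no nontrivial normal subgroup of odd order in which the centralizer of every involution has a normal 2-complement. Let X be a Hall 2'-subgroup of H (odd order, index a power of 2) and Y = O₂(H). Then no non-identity element of X commutes with a non-identity element of Y (so for X ≠ 1 the group XY is a Frobenius group with kernel Y), every Sylow subgroup of X is cyclic, XY is normal in H, and H/XY is a cyclic 2-group. -/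
theorem result {H : Type*} [Group H] [Finite H] (hsol : Group.IsSolvable H)
    (hO : Cfsg.oddCore H = ⊥)
    (hI : ∀ t : H, orderOf t = 2 → Cfsg.HasNormalPComplement 2 ↥(Subgroup.centralizer ({t} : Set H)))
    (X : Subgroup H) (hXodd : Odd (Nat.card X)) (hXidx : ∃ k : ℕ, X.index = 2 ^ k) :
    (∀ x ∈ X, x ≠ 1 → ∀ y ∈ Cfsg.pCore 2 H, y ≠ 1 → x * y ≠ y * x) ∧
      (∀ (p : ℕ) [Fact p.Prime] (P : Sylow p ↥X), IsCyclic ↥(P : Subgroup ↥X)) ∧
      (X ⊔ Cfsg.pCore 2 H).Normal ∧
      ∀ hN : (X ⊔ Cfsg.pCore 2 H).Normal, IsCyclic (H ⧸ (X ⊔ Cfsg.pCore 2 H)) ∧ IsPGroup 2 (H ⧸ (X ⊔ Cfsg.pCore 2 H)) := by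
  classical
  have : Fact (Nat.Prime 2) := ⟨Nat.prime_two⟩
  have hO' : Cfsg.pPrimeCore 2 H = ⊥ := hO
  have hB := eq_one_of_commute_involution hsol hO' hI
  have hCl := eq_one_of_commute_two_element (fun t h ht hh hth => hB t h ht hh hth)
  have hYn : (Cfsg.pCore 2 H).Normal := Cfsg.Agent.Lib.Lead.pCore_normal 2
  have hYp : IsPGroup 2 (Cfsg.pCore 2 H) := Cfsg.Agent.Lib.Lead.pCore_isPGroup 2
  have hCY := centralizer_pCore_two_le hsol hO'
  obtain ⟨hXn, hT⟩ := main_aux hsol (Cfsg.pCore 2 H) rfl hCY hCl X hXodd hXidx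
  have hXel : ∀ x ∈ X, Odd (orderOf x) := by
    intro x hx
    have := orderOf_dvd_natCard (⟨x, hx⟩ : X)
    rw [Subgroup.orderOf_mk] at this
    exact Odd.of_dvd_nat hXodd this
  have hsup : X ⊔ Cfsg.pCore 2 H = (X.map (QuotientGroup.mk' (Cfsg.pCore 2 H))).comap
      (QuotientGroup.mk' (Cfsg.pCore 2 H)) := by
    rw [Subgroup.comap_map_eq, QuotientGroup.ker_mk']
  have hnorm : (X ⊔ Cfsg.pCore 2 H).Normal := by
    rw [hsup]; exact Subgroup.Normal.comap hXn _
  refine ⟨?_, ?_, hnorm, ?_⟩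
  · intro x hx hx1 y hy hy1 hxy
    have hyo : ∃ k, orderOf y = 2 ^ k := by
      obtain ⟨k, hk⟩ := hYp ⟨y, hy⟩
      have hk' : y ^ 2 ^ k = 1 := by
        have := congrArg Subtype.val hk
        simpa using this
      obtain ⟨j, _, hj⟩ := (Nat.dvd_prime_pow Nat.prime_two).mp (orderOf_dvd_of_pow_eq_one hk')
      exact ⟨j, hj⟩
    exact hx1 (hCl y x hy1 hyo (hXel x hx) hxy.symm)
  · intro p hp P
    by_cases hp2 : p = 2
    · subst hp2
      obtain ⟨k, hk⟩ := IsPGroup.iff_card.mp P.2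
      have h1 : Odd (2 ^ k) := hk ▸ Odd.of_dvd_nat hXodd (Subgroup.card_subgroup_dvd_card _)
      have h2 : Nat.card (P : Subgroup X) = 1 := by
        rcases Nat.eq_zero_or_pos k with h0 | h0
        · rw [hk, h0, pow_zero]
        · exfalso
          have : Even (2 ^ k) := (Nat.even_pow' h0.ne').mpr even_two
          exact (Nat.not_even_iff_odd.mpr h1) this
      haveI : Subsingleton (P : Subgroup X) := (Nat.card_eq_one_iff_unique.mp h2).1
      exact isCyclic_of_subsingleton
    · have h1 := isCyclic_of_odd_pgroup (Cfsg.pCore 2 H) hCY hYp hCl hp2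
        ((P : Subgroup X).map X.subtype) (P.2.map _)
      exact isCyclic_of_surjective
        (((P : Subgroup X).equivMapOfInjective X.subtype X.subtype_injective).symm)
        (MulEquiv.surjective _)
  · intro hN
    obtain ⟨j, hj⟩ : ∃ j, (X ⊔ Cfsg.pCore 2 H).index = 2 ^ j := by
      obtain ⟨k, hk⟩ := hXidx
      obtain ⟨j, _, hj⟩ := (Nat.dvd_prime_pow Nat.prime_two).mp
        (hk ▸ Subgroup.index_dvd_of_le (le_sup_left : X ≤ X ⊔ Cfsg.pCore 2 H))
      exact ⟨j, hj⟩
    have hcard : Nat.card (H ⧸ (X ⊔ Cfsg.pCore 2 H)) = 2 ^ j := by rw [← hj]; rfl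
    refine ⟨?_, IsPGroup.of_card hcard⟩
    let ψ : (H ⧸ Cfsg.pCore 2 H) →* (H ⧸ (X ⊔ Cfsg.pCore 2 H)) :=
      QuotientGroup.map _ _ (MonoidHom.id H) (by intro y hy; exact Subgroup.mem_sup_right hy)
    have hψs : Function.Surjective ψ := by
      intro q
      obtain ⟨h, rfl⟩ := QuotientGroup.mk'_surjective _ q
      exact ⟨QuotientGroup.mk' _ h, rfl⟩
    obtain ⟨T⟩ : Nonempty (Sylow 2 (H ⧸ Cfsg.pCore 2 H)) := inferInstance
    have hTtop : (T : Subgroup (H ⧸ Cfsg.pCore 2 H)).map ψ = ⊤ := by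
      rw [← Subgroup.index_eq_one]
      have h1 : ((T : Subgroup (H ⧸ Cfsg.pCore 2 H)).map ψ).index ∣
          (T : Subgroup (H ⧸ Cfsg.pCore 2 H)).index := Subgroup.index_map_dvd _ hψs
      have h2 : ((T : Subgroup (H ⧸ Cfsg.pCore 2 H)).map ψ).index ∣ 2 ^ j :=
        hcard ▸ Subgroup.index_dvd_card _
      have h3 : ¬ 2 ∣ (T : Subgroup (H ⧸ Cfsg.pCore 2 H)).index := T.not_dvd_index
      obtain ⟨i, _, hi⟩ := (Nat.dvd_prime_pow Nat.prime_two).mp h2
      rcases Nat.eq_zero_or_pos i with h0 | h0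
      · rw [hi, h0, pow_zero]
      · exfalso; apply h3; exact (dvd_pow_self 2 h0.ne').trans (hi ▸ h1)
    haveI := hT T
    apply isCyclic_of_surjective (ψ.comp (T : Subgroup (H ⧸ Cfsg.pCore 2 H)).subtype)
    intro q
    have : q ∈ (T : Subgroup (H ⧸ Cfsg.pCore 2 H)).map ψ := hTtop ▸ Subgroup.mem_top q
    obtain ⟨t, ht, rfl⟩ := this
    exact ⟨⟨t, ht⟩, rfl⟩


end Cfsg.Agent.S3215
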