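import Mathlib
import Cfsg.Agent.Lib.Helper3.QDFusion3
import Cfsg.Agent.Lib.Helper6.Modular2
import Cfsg.Statements.S3225

set_option autoImplicit false
open Cfsg Cfsg.Agent.Lib.Helper6

namespace Cfsg.Agent.S3225

/-- Let G be a finite group of even order with no subgroup of index 2, S a Sylow 2-subgroup of G and M a subgroup of index 2 in S such that, for some n ≥ 1, every element of S outside M has order greater than 2^(n−1). Then every element of S of order 2ⁿ is conjugate in G to an element of M. -/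
theorem result {G : Type*} [Group G] [Finite G] (hev : Even (Nat.card G))
    (hG : ∀ H : Subgroup G, H.index ≠ 2) (S : Sylow 2 G) (M : Subgroup G) (hMS : M ≤ (S : Subgroup G)) (hM : M.relIndex (S : Subgroup G) = 2)
    (n : ℕ) (hn : 1 ≤ n) (hord : ∀ y ∈ (S : Subgroup G), y ∉ M → 2 ^ (n - 1) < orderOf y)
    (x : G) (hx : x ∈ (S : Subgroup G)) (hxn : orderOf x = 2 ^ n) :
    ∃ g : G, g * x * g⁻¹ ∈ M := by
  by_contra hcon
  push Not at hcon
  have hxpow : x ^ (2 ^ n) = 1 := by rw [← hxn]; exact pow_orderOf_eq_one x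
  have hc : ∀ (g : G) (r : ℕ), r ∣ 2 ^ n → r ≠ 1 → g * x ^ r * g⁻¹ ∈ (S : Subgroup G) →
      g * x ^ r * g⁻¹ ∈ M := by
    intro g r hr hr1 hmem
    by_contra hnM
    have h1 := hord _ hmem hnM
    rw [orderOf_conj_h6] at h1
    have hr0 : r ≠ 0 := by
      intro h0
      rw [h0] at hr
      have := Nat.eq_zero_of_zero_dvd hr
      exact absurd this (by positivity)
    rw [orderOf_pow_of_dvd hr0 (by rw [hxn]; exact hr), hxn] at h1
    obtain ⟨j, hj, rfl⟩ := (Nat.dvd_prime_pow Nat.prime_two).mp hr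
    have hj0 : j ≠ 0 := by
      intro h0; apply hr1; rw [h0, pow_zero]
    rw [Nat.pow_div hj (by norm_num)] at h1
    have : n - j ≤ n - 1 := by omega
    have := Nat.pow_le_pow_right (show 0 < 2 by norm_num) this
    omega
  obtain ⟨N, -, hN, -⟩ := Cfsg.Agent.Lib.Helper3.thompson_transfer_pow S M hM x n hxpow hcon hc
  exact hG N hN

end Cfsg.Agent.S3225
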