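import Mathlib
import Cfsg.Agent.Lib.Helper3.PComp8
import Cfsg.Agent.Lib.Helper3.CharP4
import Cfsg.Agent.Lib.Lead.ThompsonPQ
import Cfsg.Agent.Lib.Helper2.PConstrained
import Cfsg.Agent.S0631
import Cfsg.Statements.S3247

set_option autoImplicit false
open Cfsg

namespace Cfsg.Agent.S3247

open Cfsg.Agent.Lib.Helper3 Cfsg.Agent.Lib.Lead
open scoped commutatorElement

section helpers

theorem centralizer_zpowers_eq {N : Type*} [Group N] (x : N) :
    Subgroup.centralizer ((Subgroup.zpowers x : Subgroup N) : Set N) =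
      Subgroup.centralizer ({x} : Set N) := by
  rw [Subgroup.zpowers_eq_closure, Subgroup.centralizer_closure]

variable {N : Type*} [Group N] [Finite N] {p : ℕ} [hp : Fact p.Prime]

/-- if `x` lies in a normal `p`-subgroup of `N` and `C_N(x)` is `p`-constrained then so is `N` -/
theorem isPConstrained_of_centralizer (R : Subgroup N) [hRn : R.Normal] (hR : IsPGroup p R) (x : N)
    (hx : x ∈ R) (hH : Cfsg.IsPConstrained p ↥(Subgroup.centralizer ({x} : Set N))) :
    Cfsg.IsPConstrained p N := by
  classical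
  rw [isPConstrained_iff] at hH ⊢
  rw [← layer_quotient_pPrimeCore_eq_bot_iff]
  set W := Cfsg.pPrimeCore p N with hWdef
  have hWc : (Nat.card W).Coprime p := Cfsg.Agent.Lib.Helper6.pPrimeCore_coprime p
  set φ := QuotientGroup.mk' W with hφ
  have hφs : Function.Surjective φ := QuotientGroup.mk'_surjective W
  set Q := Cfsg.pCore p (N ⧸ W) with hQdef
  haveI hQn : Q.Normal := Cfsg.pCore_normal p _
  have hQp : IsPGroup p Q := pCore_isPGroup p
  set H := Subgroup.centralizer ({x} : Set N) with hHdef
  set Hb := H.map φ with hHb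
  -- (a)
  have hRQ : R.map φ ≤ Q := le_pCore (hRn.map φ hφs) (hR.map φ)
  have hxQ : φ x ∈ Q := hRQ ⟨x, hx, rfl⟩
  have hzp : IsPGroup p (Subgroup.zpowers x) := hR.to_le (Subgroup.zpowers_le.mpr hx)
  -- (b') the centralizer of `φ x` is `Hb`
  have hcent : Subgroup.centralizer ({φ x} : Set (N ⧸ W)) ≤ Hb := by
    intro y hy
    obtain ⟨y₀, rfl⟩ := hφs y
    have hy' : φ y₀ ∈ Subgroup.centralizer (((Subgroup.zpowers x).map φ : Subgroup _) : Set _) := by
      rw [MonoidHom.map_zpowers, centralizer_zpowers_eq]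
      exact hy
    obtain ⟨c, hc, hcy⟩ := exists_mem_centralizer_of_map_mem_centralizer W hWc hzp hy'
    rw [centralizer_zpowers_eq] at hc
    exact ⟨c, hc, hcy⟩
  have hcent' : Hb ≤ Subgroup.centralizer ({φ x} : Set (N ⧸ W)) := by
    rintro _ ⟨h, hh, rfl⟩
    have hh' : h ∈ Subgroup.centralizer ({x} : Set N) := hh
    rw [Subgroup.mem_centralizer_singleton_iff] at hh' ⊢
    rw [← map_mul, ← map_mul, hh']
  -- (b)
  have hCQ : Subgroup.centralizer (Q : Set (N ⧸ W)) ≤ Hb :=
    (Subgroup.centralizer_le (Set.singleton_subset_iff.mpr hxQ)).trans hcent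
  -- (c1)
  have hUbot : Cfsg.pPrimeCore p ↥Hb = ⊥ := by
    set U := (Cfsg.pPrimeCore p ↥Hb).map Hb.subtype with hU
    have hUHb : U ≤ Hb := by
      rintro _ ⟨y, _, rfl⟩; exact y.2
    have hUc : (Nat.card U).Coprime p := by
      rw [hU, Nat.card_congr (Subgroup.equivMapOfInjective _ Hb.subtype
        Hb.subtype_injective).symm.toEquiv]
      exact Cfsg.Agent.Lib.Helper6.pPrimeCore_coprime p
    have hUn : Hb ≤ Subgroup.normalizer (U : Set (N ⧸ W)) := by
      have hn : (Cfsg.pPrimeCore p ↥Hb).Normal := inferInstance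
      intro h hh
      rw [Subgroup.mem_normalizer_iff]
      intro u
      constructor
      · rintro ⟨y, hy, rfl⟩
        exact ⟨⟨h, hh⟩ * y * ⟨h, hh⟩⁻¹, hn.conj_mem y hy _, rfl⟩
      · intro hu
        have hu' : u ∈ Hb := by
          have := hUHb hu
          have h2 : u = h⁻¹ * (h * u * h⁻¹) * h := by group
          rw [h2]
          exact Hb.mul_mem (Hb.mul_mem (Hb.inv_mem hh) this) hh
        obtain ⟨y, hy, hyu⟩ := hu
        refine ⟨⟨u, hu'⟩, ?_, rfl⟩
        have h3 := hn.conj_mem y hy ⟨h, hh⟩⁻¹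
        have h4 : (⟨h, hh⟩ : ↥Hb)⁻¹ * y * (⟨h, hh⟩ : ↥Hb)⁻¹⁻¹ = ⟨u, hu'⟩ := by
          apply Subtype.ext
          simp only [Subgroup.coe_mul, Subgroup.coe_inv, inv_inv]
          have : (y : N ⧸ W) = h * u * h⁻¹ := hyu
          rw [this]; group
        rwa [h4] at h3
    have hQU : Q ⊓ U = ⊥ := Cfsg.Agent.Lib.Helper6.isPGroup_inf_coprime_eq_bot hUc hQp
    have hzpb : IsPGroup p (Subgroup.zpowers (φ x)) := hQp.to_le (Subgroup.zpowers_le.mpr hxQ)
    have h1 : U ≤ Subgroup.centralizer (Q : Set (N ⧸ W)) := by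
      apply thompson_PQ p (Subgroup.zpowers (φ x)) U Q hzpb hUc hQp
      · rw [Subgroup.le_centralizer_iff, centralizer_zpowers_eq]
        exact hUHb.trans hcent'
      · rw [Subgroup.normalizer_eq_top]; exact le_top
      · rw [Subgroup.normalizer_eq_top]; exact le_top
      · rw [centralizer_zpowers_eq]
        intro q hq
        rw [Subgroup.mem_centralizer_iff]
        intro u hu
        have hqH : q ∈ Hb := hcent hq.2
        have h2 : ⁅q, u⁆ ∈ Q ⊓ U := by
          constructor
          · rw [commutatorElement_def, mul_assoc, mul_assoc]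
            refine Q.mul_mem hq.1 ?_
            rw [← mul_assoc]
            exact hQn.conj_mem _ (Q.inv_mem hq.1) u
          · rw [commutatorElement_def]
            refine U.mul_mem ?_ (U.inv_mem hu)
            exact (Subgroup.mem_normalizer_iff.mp (hUn hqH) u).mp hu
        rw [hQU, Subgroup.mem_bot, commutatorElement_eq_one_iff_commute] at h2
        exact h2.eq.symm
    set C := Subgroup.centralizer (Q : Set (N ⧸ W)) with hC
    haveI hCn : C.Normal := Subgroup.normal_centralizer
    have hUsub : U.IsSubnormal := by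
      refine Subgroup.IsSubnormal.trans h1 ?_ hCn.isSubnormal
      have : (U.subgroupOf C).Normal :=
        Subgroup.normal_subgroupOf_of_le_normalizer (hCQ.trans hUn)
      exact this.isSubnormal
    have h2 := le_pPrimeCore_of_isSubnormal hUsub hUc
    rw [pPrimeCore_quotient_eq_bot, le_bot_iff] at h2
    rw [hU, Subgroup.map_eq_bot_iff_of_injective _ Hb.subtype_injective] at h2
    exact h2
  -- (c2)
  have hFp : IsPGroup p (Cfsg.generalizedFittingSubgroup ↥Hb) := by
    set ψ := φ.subgroupMap H with hψ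
    have hψs : Function.Surjective ψ := φ.subgroupMap_surjective H
    have hker : ψ.ker = W.subgroupOf H := by
      ext y
      rw [MonoidHom.mem_ker, Subgroup.mem_subgroupOf]
      constructor
      · intro h
        have := congrArg Subtype.val h
        exact (QuotientGroup.eq_one_iff _).mp this
      · intro h
        apply Subtype.ext
        exact (QuotientGroup.eq_one_iff _).mpr h
    have hkc : (Nat.card ψ.ker).Coprime p := by
      rw [hker, ← Subgroup.inf_subgroupOf_right,
        Nat.card_congr (Subgroup.subgroupOfEquivOfLe inf_le_right).toEquiv]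
      exact Nat.Coprime.coprime_dvd_left (Subgroup.card_dvd_of_le inf_le_left) hWc
    have hk := pPrimeCore_eq_ker_of_surjective ψ hψs hkc hUbot
    have e : ↥H ⧸ Cfsg.pPrimeCore p ↥H ≃* ↥Hb :=
      (QuotientGroup.quotientMulEquivOfEq hk).trans (QuotientGroup.quotientKerEquivOfSurjective ψ hψs)
    have h1 := generalizedFittingSubgroup_quotient_eq_pCore_of_pLayer_eq_bot hH
    have h2 : IsPGroup p (Cfsg.generalizedFittingSubgroup (↥H ⧸ Cfsg.pPrimeCore p ↥H)) := by
      rw [h1]; exact pCore_isPGroup p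
    exact isPGroup_generalizedFittingSubgroup_of_mulEquiv e h2
  have hd := generalizedFittingSubgroup_eq_pCore_of_centralizer_le Hb hCQ hFp
  exact layer_eq_bot_of_generalizedFittingSubgroup_eq_pCore hd

theorem isPConstrained_of_mulEquiv {A B : Type*} [Group A] [Group B] [Finite A] [Finite B]
    (e : A ≃* B) (h : Cfsg.IsPConstrained p A) : Cfsg.IsPConstrained p B := by
  rw [isPConstrained_iff, ← layer_quotient_pPrimeCore_eq_bot_iff] at h ⊢
  have e' : A ⧸ Cfsg.pPrimeCore p A ≃* B ⧸ Cfsg.pPrimeCore p B :=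
    QuotientGroup.congr _ _ e (pPrimeCore_map_mulEquiv p e)
  have h1 := layer_map_mulEquiv e'
  rw [h, Subgroup.map_bot] at h1
  exact h1.symm

theorem centralizer_singleton_subgroupOf {G : Type*} [Group G] (N : Subgroup G) (x : G)
    (hx : x ∈ N) :
    Subgroup.centralizer ({(⟨x, hx⟩ : ↥N)} : Set ↥N) =
      (Subgroup.centralizer ({x} : Set G)).subgroupOf N := by
  ext y
  rw [Subgroup.mem_subgroupOf, Subgroup.mem_centralizer_singleton_iff,
    Subgroup.mem_centralizer_singleton_iff]
  constructor
  · intro h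
    exact congrArg Subtype.val h
  · intro h
    exact Subtype.ext h

end helpers



/-- Let G be a finite group and p a prime; here a p-local subgroup means the normalizer of a nontrivial p-subgroup, other than G itself. If every p-local subgroup of G that is maximal among p-local subgroups is p-constrained, or if the centralizer of every element of order p of G is p-constrained, then every p-local subgroup of G is p-constrained. -/
theorem result {G : Type*} [Group G] [Finite G] (p : ℕ) [hp : Fact p.Prime]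
    (h : (∀ M : Subgroup G, (∃ T : Subgroup G, IsPGroup p ↥T ∧ T ≠ ⊥ ∧ M = Subgroup.normalizer (T : Set G)) → M ≠ ⊤ →
        (∀ M' : Subgroup G, (∃ T' : Subgroup G, IsPGroup p ↥T' ∧ T' ≠ ⊥ ∧ M' = Subgroup.normalizer (T' : Set G)) → M' ≠ ⊤ → M ≤ M' → M = M') →
        Cfsg.IsPConstrained p ↥M) ∨
      (∀ x : G, orderOf x = p → Cfsg.IsPConstrained p ↥(Subgroup.centralizer ({x} : Set G))))
    (T : Subgroup G) (hT : IsPGroup p ↥T) (hT1 : T ≠ ⊥) (hTG : Subgroup.normalizer (T : Set G) ≠ ⊤) :
    Cfsg.IsPConstrained p ↥(Subgroup.normalizer (T : Set G)) := by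
  classical
  set N := Subgroup.normalizer (T : Set G) with hN
  rcases h with h | h
  · -- a maximal p-local above N
    let 𝒮 : Set (Subgroup G) := {M | N ≤ M ∧ M ≠ ⊤ ∧
      ∃ T' : Subgroup G, IsPGroup p ↥T' ∧ T' ≠ ⊥ ∧ M = Subgroup.normalizer (T' : Set G)}
    have hne : 𝒮.Nonempty := ⟨N, le_rfl, hTG, T, hT, hT1, rfl⟩
    obtain ⟨M, ⟨hNM, hMtop, hMloc⟩, hmax⟩ :=
      WellFounded.has_min (wellFounded_gt (α := Subgroup G)) 𝒮 hne
    have hMc : Cfsg.IsPConstrained p ↥M := by
      apply h M hMloc hMtop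
      intro M' hM'loc hM'top hMM'
      have hM' : M' ∈ 𝒮 := ⟨hNM.trans hMM', hM'top, hM'loc⟩
      have := hmax M' hM'
      exact ((eq_or_lt_of_le hMM').resolve_right this)
    have hTM : T ≤ M := Subgroup.le_normalizer.trans hNM
    have h1 := (Cfsg.Agent.S0631.result hMc (T.subgroupOf M) hT.comap_subtype).1
    have e1 : ↥(Subgroup.normalizer ((T.subgroupOf M : Subgroup ↥M) : Set ↥M)) ≃* ↥(N.subgroupOf M) :=
      MulEquiv.subgroupCongr (Subgroup.subgroupOf_normalizer_eq hTM).symm
    exact isPConstrained_of_mulEquiv (e1.trans (Subgroup.subgroupOfEquivOfLe hNM)) h1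
  · -- an element of order p in Z(T)
    haveI : Nontrivial ↥T := (Subgroup.nontrivial_iff_ne_bot T).mpr hT1
    haveI : Nontrivial ↥(Subgroup.center ↥T) := hT.center_nontrivial
    have hZp : IsPGroup p ↥(Subgroup.center ↥T) := hT.to_subgroup _
    have hdvd : p ∣ Nat.card ↥(Subgroup.center ↥T) := by
      obtain ⟨k, hk⟩ := IsPGroup.iff_card.mp hZp
      have hk0 : k ≠ 0 := by
        rintro rfl
        have : Nat.card ↥(Subgroup.center ↥T) = 1 := by simpa using hk
        have := Finite.one_lt_card (α := ↥(Subgroup.center ↥T))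
        omega
      rw [hk]; exact dvd_pow_self p hk0
    obtain ⟨z, hz⟩ := exists_prime_orderOf_dvd_card' p hdvd
    set x : G := ((z : ↥T) : G) with hxdef
    have hxo : orderOf x = p := by
      rw [hxdef, Subgroup.orderOf_coe, Subgroup.orderOf_coe]; exact hz
    have hxT : x ∈ T := (z : ↥T).2
    have hxc : ∀ t ∈ T, t * x = x * t := by
      intro t ht
      have := Subgroup.mem_center_iff.mp z.2 ⟨t, ht⟩
      exact congrArg Subtype.val this
    set C := Subgroup.centralizer ({x} : Set G) with hC
    have hTC : T ≤ C := by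
      intro t ht
      rw [hC, Subgroup.mem_centralizer_singleton_iff]
      exact hxc t ht
    have hCc := h x hxo
    have h1 := (Cfsg.Agent.S0631.result hCc (T.subgroupOf C) hT.comap_subtype).1
    have hxN : x ∈ N := Subgroup.le_normalizer hxT
    haveI hRn : (T.subgroupOf N).Normal := Subgroup.normal_in_normalizer
    apply isPConstrained_of_centralizer (T.subgroupOf N) hT.comap_subtype ⟨x, hxN⟩
      (Subgroup.mem_subgroupOf.mpr hxT)
    have e1 : ↥(Subgroup.normalizer ((T.subgroupOf C : Subgroup ↥C) : Set ↥C)) ≃* ↥(N.subgroupOf C) :=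
      MulEquiv.subgroupCongr (Subgroup.subgroupOf_normalizer_eq hTC).symm
    have e2 : ↥(C.subgroupOf N) ≃* ↥(Subgroup.centralizer ({(⟨x, hxN⟩ : ↥N)} : Set ↥N)) :=
      MulEquiv.subgroupCongr (centralizer_singleton_subgroupOf N x hxN).symm
    exact isPConstrained_of_mulEquiv ((e1.trans (subgroupOfSwap N C)).trans e2) h1

end Cfsg.Agent.S3247
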