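import Cfsg.Statements.S3246
import Mathlib
import Cfsg.Agent.S3247
import Cfsg.Agent.Lib.Helper8.ChTwoA
import Cfsg.Agent.Lib.Helper8.ChTwoB
import Cfsg.Agent.Lib.Helper8.ChTwoC

set_option autoImplicit false
open Cfsg

namespace Cfsg.Agent.S3246

open Cfsg.Agent.Lib.Helper3 Cfsg.Agent.Lib.Lead Cfsg.Agent.Lib.Helper8.ChTwo

theorem exists_maximal_two_local {G : Type*} [Group G] [Finite G] {N : Subgroup G}
    (hN : Cfsg.IsTwoLocal N) : ∃ M : Subgroup G, N ≤ M ∧ Cfsg.IsMaximalTwoLocal M := by
  let 𝒮 : Set (Subgroup G) := {M | N ≤ M ∧ Cfsg.IsTwoLocal M}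
  obtain ⟨M, ⟨hNM, hMloc⟩, hmax⟩ :=
    WellFounded.has_min (wellFounded_gt (α := Subgroup G)) 𝒮 ⟨N, le_rfl, hN⟩
  refine ⟨M, hNM, hMloc, fun N' hN' hMN' => ?_⟩
  have := hmax N' ⟨hNM.trans hMN', hN'⟩
  exact ((eq_or_lt_of_le hMN').resolve_right this).symm

/-- Let G be a finite group whose Sylow 2-subgroup S has a self-centralizing normal subgroup of rank at least 3. Suppose that either every maximal 2-local subgroup of G is 2-constrained with no nontrivial normal subgroup of odd order, or the centralizer of every involution of G is 2-constrained with no nontrivial normal subgroup of odd order. Then S normalizes no nontrivial subgroup of G of odd order and every 2-local subgroup of G is 2-constrained. -/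
theorem result {G : Type*} [Group G] [Finite G]
    (S : Sylow 2 G) (A : Subgroup G) (hA : Cfsg.IsSCN (S : Subgroup G) A) (hA3 : ¬ Cfsg.PRankLE 2 2 ↥A)
    (h : (∀ M : Subgroup G, Cfsg.IsMaximalTwoLocal M → Cfsg.IsPConstrained 2 ↥M ∧ Cfsg.oddCore ↥M = ⊥) ∨
      (∀ t : G, orderOf t = 2 → Cfsg.IsPConstrained 2 ↥(Subgroup.centralizer ({t} : Set G)) ∧
        Cfsg.oddCore ↥(Subgroup.centralizer ({t} : Set G)) = ⊥)) :
    (∀ X : Subgroup G, Odd (Nat.card ↥X) → (S : Subgroup G) ≤ Subgroup.normalizer (X : Set G) → X = ⊥) ∧
      (∀ T : Subgroup G, IsPGroup 2 ↥T → T ≠ ⊥ → Cfsg.IsPConstrained 2 ↥(Subgroup.normalizer (T : Set G))) := by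
  classical
  -- every involution centralizer has a normal 2-subgroup containing its centralizer
  have hcfc : ∀ t : G, orderOf t = 2 → CFC (Subgroup.centralizer ({t} : Set G)) := by
    intro t ht
    rcases h with h | h
    · have hzp : IsPGroup 2 (Subgroup.zpowers t) := by
        apply IsPGroup.of_card (n := 1)
        rw [Nat.card_zpowers, ht, pow_one]
      have hne : Subgroup.zpowers t ≠ ⊥ := by
        intro h0
        rw [Subgroup.zpowers_eq_bot] at h0
        rw [h0, orderOf_one] at ht
        omega
      obtain ⟨M, hNM, hMmax⟩ := exists_maximal_two_local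
        (N := Subgroup.normalizer ((Subgroup.zpowers t : Subgroup G) : Set G))
        ⟨Subgroup.zpowers t, hzp, hne, rfl⟩
      have hM := h M hMmax
      apply cfc_centralizer_of_le (cfc_of_constrained M hM.1 hM.2) ht
      refine le_trans ?_ hNM
      rw [← centralizer_zpowers_eq']
      exact Subgroup.centralizer_le_normalizer _
    · exact cfc_of_constrained _ (h t ht).1 (h t ht).2
  constructor
  · intro X hX hSX
    obtain ⟨z, b, hzS, hbS, hz1, hz2, hb2, hb1, hbz, hzc, hidx⟩ :=
      exists_zb (S : Subgroup G) S.isPGroup' A hA hA3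
    have hoz : orderOf z = 2 := orderOf_eq_prime hz2 hz1
    have hob : orderOf b = 2 := orderOf_eq_prime hb2 hb1
    have hcomm : b * z = z * b := hzc b hbS
    have hzz : z * z = 1 := by rw [← sq]; exact hz2
    have hbz2 : (b * z) ^ 2 = 1 := by
      rw [(show Commute b z from hcomm).mul_pow, hb2, hz2, one_mul]
    have hbz1 : b * z ≠ 1 := by
      intro h0
      apply hbz
      have h1 : b = z⁻¹ := eq_inv_of_mul_eq_one_left h0
      rw [h1]; exact inv_eq_of_mul_eq_one_right hzz
    have hobz : orderOf (b * z) = 2 := orderOf_eq_prime hbz2 hbz1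
    have hidxz : ((S : Subgroup G) ⊓ Subgroup.centralizer ({z} : Set G)).relIndex (S : Subgroup G) ∣ 2 := by
      have : (S : Subgroup G) ⊓ Subgroup.centralizer ({z} : Set G) = (S : Subgroup G) := by
        apply inf_of_le_left
        intro s hs
        exact Subgroup.mem_centralizer_singleton_iff.mpr (hzc s hs)
      rw [this, Subgroup.relIndex_self]
      exact one_dvd _
    have hidxbz : ((S : Subgroup G) ⊓ Subgroup.centralizer ({b * z} : Set G)).relIndex (S : Subgroup G) ∣ 2 := by
      have : (S : Subgroup G) ⊓ Subgroup.centralizer ({b * z} : Set G) =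
          (S : Subgroup G) ⊓ Subgroup.centralizer ({b} : Set G) := by
        ext s
        rw [Subgroup.mem_inf, Subgroup.mem_inf, Subgroup.mem_centralizer_singleton_iff,
          Subgroup.mem_centralizer_singleton_iff]
        constructor
        · rintro ⟨hs, h1⟩
          refine ⟨hs, ?_⟩
          have h2 : s * b * z = b * s * z := by
            calc s * b * z = s * (b * z) := by group
              _ = b * z * s := h1
              _ = b * (z * s) := by group
              _ = b * (s * z) := by rw [hzc s hs]
              _ = b * s * z := by group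
          exact mul_right_cancel h2
        · rintro ⟨hs, h1⟩
          refine ⟨hs, ?_⟩
          calc s * (b * z) = (s * b) * z := by group
            _ = b * s * z := by rw [h1]
            _ = b * (s * z) := by group
            _ = b * (z * s) := by rw [hzc s hs]
            _ = b * z * s := by group
      rw [this]; exact hidx
    exact eq_bot_of_four (hSX hzS) (hSX hbS) hz2 hb2
      (inf_centralizer_eq_bot S hX hSX z hidxz (hcfc z hoz))
      (inf_centralizer_eq_bot S hX hSX b hidx (hcfc b hob))
      (inf_centralizer_eq_bot S hX hSX (b * z) hidxbz (hcfc (b * z) hobz))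
  · intro T hT hT1
    set N := Subgroup.normalizer (T : Set G) with hN
    rcases h with h | h
    · obtain ⟨M, hNM, hMmax⟩ := exists_maximal_two_local (N := N) ⟨T, hT, hT1, rfl⟩
      have hMc : Cfsg.IsPConstrained 2 ↥M := (h M hMmax).1
      have hTM : T ≤ M := Subgroup.le_normalizer.trans hNM
      have h1 := (Cfsg.Agent.S0631.result hMc (T.subgroupOf M) hT.comap_subtype).1
      have e1 : ↥(Subgroup.normalizer ((T.subgroupOf M : Subgroup ↥M) : Set ↥M)) ≃* ↥(N.subgroupOf M) :=
        MulEquiv.subgroupCongr (Subgroup.subgroupOf_normalizer_eq hTM).symm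
      exact Cfsg.Agent.S3247.isPConstrained_of_mulEquiv (e1.trans (Subgroup.subgroupOfEquivOfLe hNM)) h1
    · have : Nontrivial ↥T := (Subgroup.nontrivial_iff_ne_bot T).mpr hT1
      have : Nontrivial ↥(Subgroup.center ↥T) := hT.center_nontrivial
      have hZp : IsPGroup 2 ↥(Subgroup.center ↥T) := hT.to_subgroup _
      have hdvd : 2 ∣ Nat.card ↥(Subgroup.center ↥T) := by
        obtain ⟨k, hk⟩ := IsPGroup.iff_card.mp hZp
        have hk0 : k ≠ 0 := by
          rintro rfl
          have : Nat.card ↥(Subgroup.center ↥T) = 1 := by simpa using hk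
          have := Finite.one_lt_card (α := ↥(Subgroup.center ↥T))
          omega
        rw [hk]; exact dvd_pow_self 2 hk0
      obtain ⟨z, hz⟩ := exists_prime_orderOf_dvd_card' 2 hdvd
      set x : G := ((z : ↥T) : G) with hxdef
      have hxo : orderOf x = 2 := by
        rw [hxdef, Subgroup.orderOf_coe, Subgroup.orderOf_coe]; exact hz
      have hxT : x ∈ T := (z : ↥T).2
      have hxc : ∀ t ∈ T, t * x = x * t := by
        intro t ht
        have := Subgroup.mem_center_iff.mp z.2 ⟨t, ht⟩
        exact congrArg Subtype.val this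
      set C := Subgroup.centralizer ({x} : Set G) with hC
      have hTC : T ≤ C := by
        intro t ht
        rw [hC, Subgroup.mem_centralizer_singleton_iff]
        exact hxc t ht
      have hCc := (h x hxo).1
      have h1 := (Cfsg.Agent.S0631.result hCc (T.subgroupOf C) hT.comap_subtype).1
      have hxN : x ∈ N := Subgroup.le_normalizer hxT
      have hRn : (T.subgroupOf N).Normal := Subgroup.normal_in_normalizer
      apply Cfsg.Agent.S3247.isPConstrained_of_centralizer (T.subgroupOf N) hT.comap_subtype ⟨x, hxN⟩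
        (Subgroup.mem_subgroupOf.mpr hxT)
      have e1 : ↥(Subgroup.normalizer ((T.subgroupOf C : Subgroup ↥C) : Set ↥C)) ≃* ↥(N.subgroupOf C) :=
        MulEquiv.subgroupCongr (Subgroup.subgroupOf_normalizer_eq hTC).symm
      have e2 : ↥(C.subgroupOf N) ≃* ↥(Subgroup.centralizer ({(⟨x, hxN⟩ : ↥N)} : Set ↥N)) :=
        MulEquiv.subgroupCongr (Cfsg.Agent.S3247.centralizer_singleton_subgroupOf N x hxN).symm
      exact Cfsg.Agent.S3247.isPConstrained_of_mulEquiv ((e1.trans (subgroupOfSwap N C)).trans e2) h1

end Cfsg.Agent.S3246
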