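import Cfsg.Statements.S3265
import Cfsg.Agent.Lib.Helper9.OddG8

set_option autoImplicit false
open Cfsg

namespace Cfsg.Agent.S3265

/-- Let n ≥ 5 and let X be a conjugacy class of involutions of the symmetric group of degree n. The graph on X joining two distinct involutions whose product has odd order is connected and has diameter exactly 2. -/
theorem result (n : ℕ) (hn : 5 ≤ n) (t : Equiv.Perm (Fin n)) (ht : orderOf t = 2) :
    (SimpleGraph.fromRel fun x y : {x : Equiv.Perm (Fin n) // IsConj t x} =>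
        Odd (orderOf (x.1 * y.1))).Connected ∧
      (SimpleGraph.fromRel fun x y : {x : Equiv.Perm (Fin n) // IsConj t x} =>
        Odd (orderOf (x.1 * y.1))).diam = 2 := by
  classical
  have htt : t * t = 1 := by rw [← pow_two, ← ht]; exact pow_orderOf_eq_one t
  have ht1 : t ≠ 1 := by
    rintro rfl
    rw [orderOf_one] at ht
    exact absurd ht (by norm_num)
  obtain ⟨G, hG⟩ : ∃ G : SimpleGraph {x : Equiv.Perm (Fin n) // IsConj t x},
      G = SimpleGraph.fromRel fun x y : {x : Equiv.Perm (Fin n) // IsConj t x} =>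
        Odd (orderOf (x.1 * y.1)) := ⟨_, rfl⟩
  rw [← hG]
  have hadj : ∀ u v : {x : Equiv.Perm (Fin n) // IsConj t x},
      G.Adj u v ↔ u ≠ v ∧ (Odd (orderOf (u.1 * v.1)) ∨ Odd (orderOf (v.1 * u.1))) := by
    intro u v
    rw [hG, SimpleGraph.fromRel_adj]
  -- every two vertices are at distance at most two
  have hle : ∀ u v : {x : Equiv.Perm (Fin n) // IsConj t x}, G.edist u v ≤ 2 := by
    intro u v
    obtain ⟨hu, huc⟩ := (Cfsg.Agent.Lib.Helper9.OddG.isConj_iff_of_sq htt).mp u.2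
    obtain ⟨hv, hvc⟩ := (Cfsg.Agent.Lib.Helper9.OddG.isConj_iff_of_sq htt).mp v.2
    have hE : ¬Cfsg.Agent.Lib.Helper9.OddG.Exc (Finset.univ : Finset (Fin n)) u.1 v.1 := by
      intro h
      have := h.2.1
      rw [Finset.card_univ, Fintype.card_fin] at this
      omega
    obtain ⟨z, hz, -, hzc, h1, h2⟩ := Cfsg.Agent.Lib.Helper9.OddG.main hu hv
      (Finset.subset_univ _) (Finset.subset_univ _) (huc.trans hvc.symm) hE
    have hzX : IsConj t z :=
      (Cfsg.Agent.Lib.Helper9.OddG.isConj_iff_of_sq htt).mpr ⟨hz, hzc.trans huc⟩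
    have e1 : G.edist u ⟨z, hzX⟩ ≤ 1 := by
      rw [SimpleGraph.edist_le_one_iff_adj_or_eq]
      by_cases h : u = ⟨z, hzX⟩
      · exact Or.inr h
      · exact Or.inl ((hadj _ _).mpr ⟨h, Or.inl h1⟩)
    have e2 : G.edist ⟨z, hzX⟩ v ≤ 1 := by
      rw [SimpleGraph.edist_le_one_iff_adj_or_eq]
      by_cases h : (⟨z, hzX⟩ : {x : Equiv.Perm (Fin n) // IsConj t x}) = v
      · exact Or.inr h
      · exact Or.inl ((hadj _ _).mpr ⟨h, Or.inl h2⟩)
    calc G.edist u v ≤ G.edist u ⟨z, hzX⟩ + G.edist ⟨z, hzX⟩ v := SimpleGraph.edist_triangle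
      _ ≤ 1 + 1 := add_le_add e1 e2
      _ = 2 := one_add_one_eq_two
  have hdle : G.ediam ≤ 2 := SimpleGraph.ediam_le_of_edist_le hle
  -- a pair at distance at least two
  obtain ⟨t', ht'c, hnodd⟩ := Cfsg.Agent.Lib.Helper9.OddG.exists_nonadj
    (by rw [Fintype.card_fin]; exact hn) htt ht1
  have ht't' : t' * t' = 1 := ((Cfsg.Agent.Lib.Helper9.OddG.isConj_iff_of_sq htt).mp ht'c).1
  have hne : (⟨t, IsConj.refl t⟩ : {x : Equiv.Perm (Fin n) // IsConj t x}) ≠ ⟨t', ht'c⟩ := by
    intro h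
    have h' : t = t' := congrArg Subtype.val h
    apply hnodd
    rw [← h', htt, orderOf_one]
    exact odd_one
  have hnadj : ¬G.Adj ⟨t, IsConj.refl t⟩ ⟨t', ht'c⟩ := by
    intro h
    rcases ((hadj _ _).mp h).2 with h | h
    · exact hnodd h
    · exact hnodd (Cfsg.Agent.Lib.Helper9.OddG.odd_swap_of_inv ht't' htt h)
  have hge : 2 ≤ G.edist ⟨t, IsConj.refl t⟩ ⟨t', ht'c⟩ := by
    rw [← one_add_one_eq_two]
    apply Order.add_one_le_of_lt
    apply lt_of_le_of_ne
    · exact Order.one_le_iff_pos.mpr (SimpleGraph.edist_pos_of_ne hne)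
    · intro h
      exact hnadj (SimpleGraph.edist_eq_one_iff_adj.mp h.symm)
  have hdiam : G.ediam = 2 := le_antisymm hdle (hge.trans SimpleGraph.edist_le_ediam)
  haveI : Nonempty {x : Equiv.Perm (Fin n) // IsConj t x} := ⟨⟨t, IsConj.refl t⟩⟩
  constructor
  · apply SimpleGraph.connected_of_ediam_ne_top
    rw [hdiam]
    exact ENat.coe_ne_top 2
  · unfold SimpleGraph.diam
    rw [hdiam]
    rfl

end Cfsg.Agent.S3265
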