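import Cfsg.Statements.S3266
import Cfsg.Agent.Lib.Helper6.PSL2Inv.Main

set_option autoImplicit false
open Cfsg

namespace Cfsg.Agent.S3266

open Cfsg.Agent.Lib.Helper6.PSL2Inv in
/-- Let F be a finite field with at least 4 elements and let X be a conjugacy class of involutions of PSL(2, F). The graph on X joining two distinct involutions whose product has odd order is connected and has diameter exactly 2. -/
theorem result {F : Type*} [Field F] [Fintype F] (hF : 4 ≤ Fintype.card F)
    (t : Matrix.ProjectiveSpecialLinearGroup (Fin 2) F) (ht : orderOf t = 2) :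
    (SimpleGraph.fromRel fun x y : {x : Matrix.ProjectiveSpecialLinearGroup (Fin 2) F // IsConj t x} =>
        Odd (orderOf (x.1 * y.1))).Connected ∧
      (SimpleGraph.fromRel fun x y : {x : Matrix.ProjectiveSpecialLinearGroup (Fin 2) F // IsConj t x} =>
        Odd (orderOf (x.1 * y.1))).diam = 2 := by
  classical
  obtain ⟨A0, hA0t, hA0⟩ := exists_isInv ht
  obtain ⟨G, hG⟩ : ∃ G : SimpleGraph
      {x : Matrix.ProjectiveSpecialLinearGroup (Fin 2) F // IsConj t x},
      G = SimpleGraph.fromRel
        fun x y : {x : Matrix.ProjectiveSpecialLinearGroup (Fin 2) F // IsConj t x} =>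
        Odd (orderOf (x.1 * y.1)) := ⟨_, rfl⟩
  rw [← hG]
  have hadj : ∀ u v : {x : Matrix.ProjectiveSpecialLinearGroup (Fin 2) F // IsConj t x},
      G.Adj u v ↔ u ≠ v ∧ (Odd (orderOf (u.1 * v.1)) ∨ Odd (orderOf (v.1 * u.1))) := by
    intro u v
    rw [hG, SimpleGraph.fromRel_adj]
  -- every two vertices are at distance at most two
  have hle : ∀ u v : {x : Matrix.ProjectiveSpecialLinearGroup (Fin 2) F // IsConj t x},
      G.edist u v ≤ 2 := by
    intro u v
    obtain ⟨A, hAu, hA⟩ := exists_isInv_of_isConj ht u.2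
    obtain ⟨B, hBv, hB⟩ := exists_isInv_of_isConj ht v.2
    obtain ⟨C, hC, h1, h2⟩ := exists_common hF hA hB
    have hzX : IsConj t (proj C) := by
      rw [← hA0t]
      exact hA0.isConj hC
    rw [map_mul, hAu] at h1
    rw [map_mul, hBv] at h2
    have e1 : G.edist u ⟨proj C, hzX⟩ ≤ 1 := by
      rw [SimpleGraph.edist_le_one_iff_adj_or_eq]
      by_cases h : u = ⟨proj C, hzX⟩
      · exact Or.inr h
      · exact Or.inl ((hadj _ _).mpr ⟨h, Or.inl h1⟩)
    have e2 : G.edist ⟨proj C, hzX⟩ v ≤ 1 := by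
      rw [SimpleGraph.edist_le_one_iff_adj_or_eq]
      by_cases h : (⟨proj C, hzX⟩ :
          {x : Matrix.ProjectiveSpecialLinearGroup (Fin 2) F // IsConj t x}) = v
      · exact Or.inr h
      · exact Or.inl ((hadj _ _).mpr ⟨h, Or.inl h2⟩)
    calc G.edist u v ≤ G.edist u ⟨proj C, hzX⟩ + G.edist ⟨proj C, hzX⟩ v :=
          SimpleGraph.edist_triangle
      _ ≤ 1 + 1 := add_le_add e1 e2
      _ = 2 := one_add_one_eq_two
  have hdle : G.ediam ≤ 2 := SimpleGraph.ediam_le_of_edist_le hle
  -- a pair at distance at least two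
  obtain ⟨C, hC, hAC⟩ := exists_nonadj hF hA0
  have ht'c : IsConj t (proj C) := by
    rw [← hA0t]
    exact hA0.isConj hC
  have hord : orderOf (t * proj C) = 2 := by
    rw [← hA0t, ← map_mul]
    exact hAC.orderOf_proj
  have hord' : orderOf (proj C * t) = 2 := by
    have : proj C * t = t⁻¹ * (t * proj C) * t⁻¹⁻¹ := by group
    rw [this, orderOf_conj_eq, hord]
  have hnodd : ¬Odd 2 := by decide
  have hne : (⟨t, IsConj.refl t⟩ :
      {x : Matrix.ProjectiveSpecialLinearGroup (Fin 2) F // IsConj t x}) ≠ ⟨proj C, ht'c⟩ := by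
    intro h
    have h' : t = proj C := congrArg Subtype.val h
    have h2 : t * t = 1 := by
      have := pow_orderOf_eq_one t
      rwa [ht, pow_two] at this
    rw [← h', h2, orderOf_one] at hord
    omega
  have hnadj : ¬G.Adj ⟨t, IsConj.refl t⟩ ⟨proj C, ht'c⟩ := by
    intro h
    rcases ((hadj _ _).mp h).2 with h | h
    · rw [hord] at h
      exact hnodd h
    · rw [hord'] at h
      exact hnodd h
  have hge : 2 ≤ G.edist ⟨t, IsConj.refl t⟩ ⟨proj C, ht'c⟩ := by
    rw [← one_add_one_eq_two]
    apply Order.add_one_le_of_lt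
    apply lt_of_le_of_ne
    · exact Order.one_le_iff_pos.mpr (SimpleGraph.edist_pos_of_ne hne)
    · intro h
      exact hnadj (SimpleGraph.edist_eq_one_iff_adj.mp h.symm)
  have hdiam : G.ediam = 2 := le_antisymm hdle (hge.trans SimpleGraph.edist_le_ediam)
  have : Nonempty {x : Matrix.ProjectiveSpecialLinearGroup (Fin 2) F // IsConj t x} :=
    ⟨⟨t, IsConj.refl t⟩⟩
  constructor
  · apply SimpleGraph.connected_of_ediam_ne_top
    rw [hdiam]
    exact ENat.natCast_ne_top 2
  · unfold SimpleGraph.diam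
    rw [hdiam]
    rfl

end Cfsg.Agent.S3266
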