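import Mathlib
import Cfsg.Agent.Lib.Helper6.ElemAb
import Cfsg.Agent.Lib.Helper1.InvPair
import Cfsg.Statements.S3276

set_option autoImplicit false
open Cfsg Cfsg.Agent.Lib.Helper6
open scoped commutatorElement

namespace Cfsg.Agent.S3276

/-- Let x and y be commuting, non-conjugate involutions of a finite group G, and suppose that for every involution u commuting with x, each conjugate of y that commutes with u also commutes with y. Then the normal closure of y is a proper, normal, elementary abelian 2-subgroup of G; and if y is the only involution of that normal closure commuting with x, it has order at most 4. -/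
theorem result {G : Type*} [Group G] [Finite G] (x y : G) (hx : orderOf x = 2) (hy : orderOf y = 2)
    (hxy : Commute x y) (hnc : ¬ IsConj x y)
    (hstar : ∀ u : G, orderOf u = 2 → Commute u x → ∀ g : G, Commute (g * y * g⁻¹) u → Commute (g * y * g⁻¹) y) :
    Subgroup.normalClosure ({y} : Set G) ≠ ⊤ ∧ Cfsg.IsElementaryAbelian 2 (Subgroup.normalClosure ({y} : Set G)) ∧
      ((∀ u ∈ Subgroup.normalClosure ({y} : Set G), orderOf u = 2 → Commute u x → u = y) →
        Nat.card ↥(Subgroup.normalClosure ({y} : Set G)) ≤ 4) := by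
  classical
  have hx2 : x * x = 1 := Cfsg.Agent.Lib.Helper1.mul_self_of_orderOf_two hx
  have hy2 : y * y = 1 := Cfsg.Agent.Lib.Helper1.mul_self_of_orderOf_two hy
  have hx1 : x ≠ 1 := Cfsg.Agent.Lib.Helper1.ne_one_of_orderOf_two hx
  have hy1 : y ≠ 1 := Cfsg.Agent.Lib.Helper1.ne_one_of_orderOf_two hy
  -- conjugates of y are involutions
  have hconj2 : ∀ g : G, (g * y * g⁻¹) * (g * y * g⁻¹) = 1 := by
    intro g
    calc (g * y * g⁻¹) * (g * y * g⁻¹) = g * (y * y) * g⁻¹ := by group
      _ = 1 := by rw [hy2]; group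
  -- Step 1
  have step1 : ∀ g : G, Commute (g * y * g⁻¹) y := by
    intro g
    set t := g * y * g⁻¹ with ht
    have ht2 : t * t = 1 := hconj2 g
    have hnc' : ¬ IsConj x t := by
      intro h
      apply hnc
      refine h.trans ?_
      rw [isConj_comm, isConj_iff]
      exact ⟨g, rfl⟩
    have hpos : 0 < orderOf (x * t) := orderOf_pos _
    rcases Nat.even_or_odd' (orderOf (x * t)) with ⟨m, hm | hm⟩
    · have hm' : orderOf (x * t) = m + m := by omega
      have hmpos : 0 < m := by omega
      obtain ⟨hu2, hux, hut⟩ := Cfsg.Agent.Lib.Helper1.invpair_half_pow hx2 ht2 m hm' hmpos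
      exact hstar _ hu2 hux g hut.symm
    · exfalso
      apply hnc'
      rw [isConj_iff]
      refine ⟨(x * t) ^ m, ?_⟩
      have h1 : (x * t) ^ (2 * m) * (x * t) = 1 := by
        rw [← pow_succ, ← hm, pow_orderOf_eq_one]
      have h2 := Cfsg.Agent.Lib.Helper1.invpair_zpow_conj_x hx2 ht2 (m : ℤ)
      rw [zpow_natCast] at h2
      rw [h2]
      have h3 : (x * t) ^ (2 * (m : ℤ)) = (x * t) ^ (2 * m) := by
        rw [← zpow_natCast]; norm_cast
      rw [h3]
      calc (x * t) ^ (2 * m) * x = ((x * t) ^ (2 * m) * (x * t)) * (t * (x * x)) * 1 := by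
            rw [hx2, mul_one, mul_one, mul_assoc, mul_assoc x t t, ht2, mul_one]
        _ = t := by rw [h1, hx2, one_mul, mul_one, mul_one]
  -- Step 2
  have step2 : ∀ g h : G, (g * y * g⁻¹) * (h * y * h⁻¹) = (h * y * h⁻¹) * (g * y * g⁻¹) := by
    intro g h
    have := (step1 (h⁻¹ * g)).eq
    calc (g * y * g⁻¹) * (h * y * h⁻¹) = h * ((h⁻¹ * g) * y * (h⁻¹ * g)⁻¹ * y) * h⁻¹ := by group
      _ = h * (y * ((h⁻¹ * g) * y * (h⁻¹ * g)⁻¹)) * h⁻¹ := by rw [this]
      _ = (h * y * h⁻¹) * (g * y * g⁻¹) := by group
  have hmemT : ∀ a ∈ Group.conjugatesOfSet ({y} : Set G), ∃ g : G, a = g * y * g⁻¹ := by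
    intro a ha
    rw [Group.mem_conjugatesOfSet_iff] at ha
    obtain ⟨y', hy', hc⟩ := ha
    have : y' = y := hy'
    rw [this, isConj_iff] at hc
    obtain ⟨g, hg⟩ := hc
    exact ⟨g, hg.symm⟩
  have hEA : Cfsg.IsElementaryAbelian 2 (Subgroup.normalClosure ({y} : Set G)) := by
    unfold Subgroup.normalClosure
    apply isElementaryAbelian_closure
    · intro a ha b hb
      obtain ⟨g, rfl⟩ := hmemT a ha
      obtain ⟨h, rfl⟩ := hmemT b hb
      exact step2 g h
    · intro a ha
      obtain ⟨g, rfl⟩ := hmemT a ha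
      rw [pow_two]
      exact hconj2 g
  obtain ⟨hNc, hN2⟩ := isElementaryAbelian_iff_forall.mp hEA
  have hyN : y ∈ Subgroup.normalClosure ({y} : Set G) :=
    Subgroup.subset_normalClosure (Set.mem_singleton y)
  refine ⟨?_, hEA, ?_⟩
  · intro htop
    have hcomm : ∀ a b : G, a * b = b * a := by
      intro a b
      apply hNc a _ b _ <;> rw [htop] <;> exact Subgroup.mem_top _
    have hle : Subgroup.normalClosure ({y} : Set G) ≤ Subgroup.zpowers y := by
      unfold Subgroup.normalClosure
      rw [Subgroup.closure_le]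
      intro a ha
      obtain ⟨g, rfl⟩ := hmemT a ha
      rw [hcomm g y, mul_inv_cancel_right]
      exact Subgroup.mem_zpowers y
    have hxz : x ∈ Subgroup.zpowers y := hle (htop ▸ Subgroup.mem_top x)
    obtain ⟨k, hk⟩ := Subgroup.mem_zpowers_iff.mp hxz
    rcases Int.even_or_odd' k with ⟨j, hj | hj⟩
    · apply hx1
      rw [← hk, hj, zpow_mul, zpow_two, hy2, one_zpow]
    · apply hnc
      have : x = y := by
        rw [← hk, hj, zpow_add, zpow_mul, zpow_two, hy2, one_zpow, one_mul, zpow_one]
      rw [this]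
  · intro honly
    set N := Subgroup.normalClosure ({y} : Set G) with hN
    have hNn : N.Normal := Subgroup.normalClosure_normal
    -- elements of N commuting with x are 1 or y
    have hC : ∀ n ∈ N, x * n * x⁻¹ = n → n = 1 ∨ n = y := by
      intro n hn hc
      by_cases h1 : n = 1
      · exact Or.inl h1
      · right
        apply honly n hn
        · exact Cfsg.Agent.Lib.Helper1.orderOf_two_of_mul_self (by rw [← pow_two]; exact hN2 n hn) h1
        · show n * x = x * n
          calc n * x = (x * n * x⁻¹) * x := by rw [hc]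
            _ = x * n := by group
    have hxinv : x⁻¹ = x := Cfsg.Agent.Lib.Helper1.inv_eq_self_of_mul_self hx2
    have hinvN : ∀ n ∈ N, n⁻¹ = n := fun n hn =>
      Cfsg.Agent.Lib.Helper1.inv_eq_self_of_mul_self (by rw [← pow_two]; exact hN2 n hn)
    -- elements not commuting with x are sent to n * y
    have hD : ∀ n ∈ N, x * n * x⁻¹ ≠ n → x * n * x⁻¹ = n * y := by
      intro n hn hne
      have hxn : x * n * x⁻¹ ∈ N := hNn.conj_mem n hn x
      have hprod : n * (x * n * x⁻¹) ∈ N := N.mul_mem hn hxn
      have hfixed : x * (n * (x * n * x⁻¹)) * x⁻¹ = n * (x * n * x⁻¹) := by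
        calc x * (n * (x * n * x⁻¹)) * x⁻¹ = (x * n * x⁻¹) * ((x * x) * n * (x⁻¹ * x⁻¹)) := by group
          _ = (x * n * x⁻¹) * n := by rw [hxinv, hx2]; group
          _ = n * (x * n * x⁻¹) := hNc _ hxn _ hn
      rcases hC _ hprod hfixed with h | h
      · exfalso
        apply hne
        have : x * n * x⁻¹ = n⁻¹ := (inv_eq_of_mul_eq_one_right h).symm
        rw [this, hinvN n hn]
      · calc x * n * x⁻¹ = n⁻¹ * (n * (x * n * x⁻¹)) := by group
          _ = n * y := by rw [h, hinvN n hn]
    by_cases hall : ∀ n ∈ N, x * n * x⁻¹ = n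
    · have hsub : (N : Set G) ⊆ ↑({1, y} : Finset G) := by
        intro n hn
        rcases hC n hn (hall n hn) with h | h <;> simp [h]
      calc Nat.card N = (N : Set G).ncard := (Nat.card_coe_set_eq _)
        _ ≤ (↑({1, y} : Finset G) : Set G).ncard := Set.ncard_le_ncard hsub (Finset.finite_toSet _)
        _ = ({1, y} : Finset G).card := Set.ncard_coe_finset _
        _ ≤ 2 := Finset.card_le_two
        _ ≤ 4 := by norm_num
    · push Not at hall
      obtain ⟨n₀, hn₀, hne₀⟩ := hall
      have h0 := hD n₀ hn₀ hne₀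
      have hsub : (N : Set G) ⊆ ↑({1, y, n₀, y * n₀} : Finset G) := by
        intro n hn
        by_cases hc : x * n * x⁻¹ = n
        · rcases hC n hn hc with h | h <;> simp [h]
        · have h1 := hD n hn hc
          have hprod : n * n₀ ∈ N := N.mul_mem hn hn₀
          have hfixed : x * (n * n₀) * x⁻¹ = n * n₀ := by
            calc x * (n * n₀) * x⁻¹ = (x * n * x⁻¹) * (x * n₀ * x⁻¹) := by group
              _ = (n * y) * (n₀ * y) := by rw [h1, h0]
              _ = n * (y * n₀) * y := by group
              _ = n * (n₀ * y) * y := by rw [hNc y hyN n₀ hn₀]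
              _ = n * n₀ * (y * y) := by group
              _ = n * n₀ := by rw [hy2, mul_one]
          rcases hC _ hprod hfixed with h | h
          · have : n = n₀ := by
              rw [← hinvN n₀ hn₀]; exact eq_inv_of_mul_eq_one_left h
            simp [this]
          · have : n = y * n₀ := by
              calc n = (n * n₀) * n₀⁻¹ := by group
                _ = y * n₀ := by rw [h, hinvN n₀ hn₀]
            simp [this]
      calc Nat.card N = (N : Set G).ncard := (Nat.card_coe_set_eq _)
        _ ≤ (↑({1, y, n₀, y * n₀} : Finset G) : Set G).ncard :=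
            Set.ncard_le_ncard hsub (Finset.finite_toSet _)
        _ = ({1, y, n₀, y * n₀} : Finset G).card := Set.ncard_coe_finset _
        _ ≤ 4 := Finset.card_le_four

end Cfsg.Agent.S3276
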