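import Cfsg.Statements.S3277
import Cfsg.Agent.S3276
import Cfsg.Agent.S1230
import Cfsg.Agent.S0252

set_option autoImplicit false
open Cfsg

namespace Cfsg.Agent.S3277

open Subgroup
open scoped Pointwise

/-- exponent 2 implies commutative -/
theorem comm_of_sq {G : Type*} [Group G] {a b : G} (ha : a ^ 2 = 1) (hb : b ^ 2 = 1)
    (hab : (a * b) ^ 2 = 1) : a * b = b * a := by
  have h1 : a⁻¹ = a := by
    rw [inv_eq_iff_mul_eq_one, ← sq, ha]
  have h2 : b⁻¹ = b := by
    rw [inv_eq_iff_mul_eq_one, ← sq, hb]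
  have h3 : (a * b)⁻¹ = a * b := by
    rw [inv_eq_iff_mul_eq_one, ← sq, hab]
  rw [mul_inv_rev, h1, h2] at h3
  exact h3.symm

theorem enum4 {G : Type*} [Group G] (C : Subgroup G) [Finite C] (hC : Nat.card C = 4) (a b : G)
    (ha : a ∈ C) (hb : b ∈ C) (ha1 : a ≠ 1) (hb1 : b ≠ 1) (hab : a ≠ b)
    (hexp : ∀ c ∈ C, c ^ 2 = 1) : ∀ d ∈ C, d = 1 ∨ d = a ∨ d = b ∨ d = a * b := by
  intro d hd
  by_contra hcon
  push Not at hcon
  obtain ⟨hd1, hda, hdb, hdab⟩ := hcon
  have hainv : a⁻¹ = a := by
    rw [inv_eq_iff_mul_eq_one, ← sq, hexp a ha]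
  have h5 : (5 : ℕ) ≤ Nat.card C := by
    let f : Fin 5 → C := ![⟨1, C.one_mem⟩, ⟨a, ha⟩, ⟨b, hb⟩, ⟨a * b, C.mul_mem ha hb⟩, ⟨d, hd⟩]
    have hf : Function.Injective f := by
      intro i j hij
      have hab1 : a * b ≠ 1 := by
        intro h
        apply hab
        have : b = a⁻¹ := (eq_inv_of_mul_eq_one_right h)
        rw [this, hainv]
      have haba : a * b ≠ a := by
        intro h
        exact hb1 (by simpa using h)
      have habb : a * b ≠ b := by
        intro h
        exact ha1 (by simpa using h)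
      fin_cases i <;> fin_cases j <;> simp [f, Subtype.ext_iff] at hij ⊢ <;>
        first
        | exact absurd hij (by assumption)
        | exact absurd hij.symm (by assumption)
    have := Nat.card_le_card_of_injective f hf
    simpa using this
  omega

/-- the centralizer of a conjugate is in bijection with the centralizer -/
theorem card_centralizer_conj {G : Type*} [Group G] (x g : G) :
    Nat.card ↥(centralizer ({g * x * g⁻¹} : Set G)) = Nat.card ↥(centralizer ({x} : Set G)) := by
  apply Nat.card_congr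
  refine ⟨fun c => ⟨g⁻¹ * c * g, ?_⟩, fun c => ⟨g * c * g⁻¹, ?_⟩, ?_, ?_⟩
  · have := c.2
    rw [mem_centralizer_singleton_iff] at this ⊢
    have h2 : (c : G) * g * x = g * x * g⁻¹ * c * g := by
      rw [← this]; group
    calc g⁻¹ * (c : G) * g * x = g⁻¹ * ((c : G) * g * x) := by group
      _ = g⁻¹ * (g * x * g⁻¹ * c * g) := by rw [h2]
      _ = x * (g⁻¹ * c * g) := by group
  · have := c.2
    rw [mem_centralizer_singleton_iff] at this ⊢
    calc g * (c : G) * g⁻¹ * (g * x * g⁻¹) = g * ((c : G) * x) * g⁻¹ := by group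
      _ = g * (x * c) * g⁻¹ := by rw [this]
      _ = g * x * g⁻¹ * (g * c * g⁻¹) := by group
  · intro c
    ext
    simp only
    group
  · intro c
    ext
    simp only
    group

theorem mem_centralizer_conj {G : Type*} [Group G] (x g c : G) :
    c ∈ centralizer ({g * x * g⁻¹} : Set G) ↔ g⁻¹ * c * g ∈ centralizer ({x} : Set G) := by
  rw [mem_centralizer_singleton_iff, mem_centralizer_singleton_iff]
  constructor
  · intro h
    calc g⁻¹ * c * g * x = g⁻¹ * (c * (g * x * g⁻¹)) * g := by group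
      _ = g⁻¹ * ((g * x * g⁻¹) * c) * g := by rw [h]
      _ = x * (g⁻¹ * c * g) := by group
  · intro h
    calc c * (g * x * g⁻¹) = g * (g⁻¹ * c * g * x) * g⁻¹ := by group
      _ = g * (x * (g⁻¹ * c * g)) * g⁻¹ := by rw [h]
      _ = g * x * g⁻¹ * c := by group

/-- Case 1: `x` is conjugate to no other element of its centralizer. -/
theorem npc_of_isolated {G : Type*} [Group G] [Finite G] (x : G)
    (hC4 : Nat.card ↥(centralizer ({x} : Set G)) = 4)
    (hCe : ∀ c ∈ centralizer ({x} : Set G), c ^ 2 = 1)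
    (h : ∀ g : G, g * x * g⁻¹ ∈ centralizer ({x} : Set G) → g * x * g⁻¹ = x) :
    Cfsg.HasNormalPComplement 2 G := by
  haveI : Fact (Nat.Prime 2) := ⟨Nat.prime_two⟩
  have hxC : x ∈ centralizer ({x} : Set G) := by rw [mem_centralizer_singleton_iff]
  have hCp : IsPGroup 2 ↥(centralizer ({x} : Set G)) :=
    IsPGroup.of_card (n := 2) (by rw [hC4]; norm_num)
  obtain ⟨S, hCS⟩ := hCp.exists_le_sylow
  have hSC : (S : Subgroup G) = centralizer ({x} : Set G) := by
    by_contra hne
    have hlt : (centralizer ({x} : Set G)).subgroupOf (S : Subgroup G) < ⊤ := by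
      rw [lt_top_iff_ne_top]
      intro htop
      rw [subgroupOf_eq_top] at htop
      exact hne (le_antisymm htop hCS)
    haveI : Group.IsNilpotent ↥(S : Subgroup G) := S.isPGroup'.isNilpotent
    have hnc := normalizerCondition_of_isNilpotent (G := ↥(S : Subgroup G)) _ hlt
    obtain ⟨s, hsN, hsC⟩ := SetLike.exists_of_lt hnc
    rw [mem_normalizer_iff] at hsN
    have h1 := (hsN ⟨x, hCS hxC⟩).1 (by rw [mem_subgroupOf]; exact hxC)
    rw [mem_subgroupOf] at h1 hsC
    have h1' : (s : G) * x * (s : G)⁻¹ ∈ centralizer ({x} : Set G) := by simpa using h1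
    have h2 := h _ h1'
    apply hsC
    rw [mem_centralizer_singleton_iff]
    calc (s : G) * x = (s : G) * x * (s : G)⁻¹ * s := by group
      _ = x * s := by rw [h2]
  have hNC : normalizer ((S : Subgroup G) : Set G) ≤ centralizer ((S : Subgroup G) : Set G) := by
    intro g hg
    rw [mem_normalizer_iff] at hg
    have h1 : g * x * g⁻¹ ∈ centralizer ({x} : Set G) := by
      rw [← hSC]; exact (hg x).1 (hSC ▸ hxC)
    have h2 := h g h1
    have hgC : g ∈ centralizer ({x} : Set G) := by
      rw [mem_centralizer_singleton_iff]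
      calc g * x = g * x * g⁻¹ * g := by group
        _ = x * g := by rw [h2]
    rw [mem_centralizer_iff]
    intro t ht
    have htC : t ∈ centralizer ({x} : Set G) := by rw [← hSC]; exact ht
    exact comm_of_sq (hCe t htC) (hCe g hgC) (hCe _ (mul_mem htC hgC))
  exact ⟨S, _, inferInstance, MonoidHom.ker_transferSylow_isComplement' S hNC⟩

/-- Case 2: all involutions of `C_G(x)` are conjugate to `x`. -/
theorem a5_of_all_conj {G : Type*} [Group G] [Finite G] (x : G) (hx : orderOf x = 2)
    (hC4 : Nat.card ↥(centralizer ({x} : Set G)) = 4)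
    (hCe : ∀ c ∈ centralizer ({x} : Set G), c ^ 2 = 1)
    (hall : ∀ c ∈ centralizer ({x} : Set G), c ≠ 1 → ∃ g : G, g * x * g⁻¹ = c) :
    (centralizer ({x} : Set G)).Normal ∨ Nonempty (G ≃* ↥(alternatingGroup (Fin 5))) := by
  haveI : Fact (Nat.Prime 2) := ⟨Nat.prime_two⟩
  have hxC : x ∈ centralizer ({x} : Set G) := by rw [mem_centralizer_singleton_iff]
  have hx1 : x ≠ 1 := by
    intro h
    rw [h, orderOf_one] at hx
    norm_num at hx
  have hCp : IsPGroup 2 ↥(centralizer ({x} : Set G)) :=
    IsPGroup.of_card (n := 2) (by rw [hC4]; norm_num)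
  obtain ⟨S, hCS⟩ := hCp.exists_le_sylow
  have hSC : centralizer ({x} : Set G) = (S : Subgroup G) := by
    haveI : Nontrivial ↥(S : Subgroup G) :=
      ⟨⟨⟨x, hCS hxC⟩, 1, fun h => hx1 (congrArg Subtype.val h)⟩⟩
    have hcp : IsPGroup 2 ↥(center ↥(S : Subgroup G)) := S.isPGroup'.to_subgroup _
    haveI : Nontrivial ↥(center ↥(S : Subgroup G)) := S.isPGroup'.center_nontrivial
    have h2 : 2 ∣ Nat.card ↥(center ↥(S : Subgroup G)) := by
      rcases hcp.card_eq_or_dvd with h | h
      · exfalso
        have := (Finite.one_lt_card_iff_nontrivial (α := ↥(center ↥(S : Subgroup G)))).2 inferInstance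
        omega
      · exact h
    obtain ⟨w, hw⟩ := exists_prime_orderOf_dvd_card' 2 h2
    have hw2 : orderOf ((w : ↥(S : Subgroup G)) : G) = 2 := by
      rw [Subgroup.orderOf_coe, Subgroup.orderOf_coe, hw]
    have hwc : ∀ s : ↥(S : Subgroup G), s * (w : ↥(S : Subgroup G)) = (w : ↥(S : Subgroup G)) * s :=
      fun s => (mem_center_iff.1 w.2 s)
    have hwC : ((w : ↥(S : Subgroup G)) : G) ∈ centralizer ({x} : Set G) := by
      rw [mem_centralizer_singleton_iff]
      have := hwc ⟨x, hCS hxC⟩
      have h3 := congrArg Subtype.val this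
      simpa using h3.symm
    have hw1 : ((w : ↥(S : Subgroup G)) : G) ≠ 1 := by
      intro h
      rw [h, orderOf_one] at hw2
      norm_num at hw2
    obtain ⟨g, hg⟩ := hall _ hwC hw1
    have hcard : Nat.card ↥(centralizer ({((w : ↥(S : Subgroup G)) : G)} : Set G)) = 4 := by
      rw [← hg, card_centralizer_conj, hC4]
    have hSle : (S : Subgroup G) ≤ centralizer ({((w : ↥(S : Subgroup G)) : G)} : Set G) := by
      intro s hs
      rw [mem_centralizer_singleton_iff]
      have := hwc ⟨s, hs⟩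
      exact congrArg Subtype.val this
    have hScard : Nat.card ↥(S : Subgroup G) ≤ 4 := by
      rw [← hcard]
      exact Subgroup.card_le_of_le hSle
    exact eq_of_le_of_card_ge hCS (by rw [hC4]; exact hScard)
  -- all involutions are conjugate to x
  have hinv : ∀ t : G, orderOf t = 2 → ∃ g : G, g * x * g⁻¹ = t := by
    intro t ht
    have htp : IsPGroup 2 ↥(zpowers t) :=
      IsPGroup.of_card (n := 1) (by rw [Nat.card_zpowers, ht]; norm_num)
    obtain ⟨S', hS'⟩ := htp.exists_le_sylow
    obtain ⟨k, hk⟩ := MulAction.exists_smul_eq G S' S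
    have h1 : t ∈ (S' : Subgroup G) := hS' (mem_zpowers t)
    have h2 : MulAut.conj k • t ∈ MulAut.conj k • (S' : Subgroup G) :=
      Subgroup.smul_mem_pointwise_smul _ _ _ h1
    rw [← Sylow.coe_subgroup_smul, hk] at h2
    have h3 : k * t * k⁻¹ ∈ centralizer ({x} : Set G) := by
      rw [hSC]
      simpa [MulAut.smul_def] using h2
    have h4 : k * t * k⁻¹ ≠ 1 := by
      intro h
      have : t = 1 := by
        have h5 : t = k⁻¹ * (k * t * k⁻¹) * k := by group
        rw [h5, h]; group
      rw [this, orderOf_one] at ht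
      norm_num at ht
    obtain ⟨g, hg⟩ := hall _ h3 h4
    refine ⟨k⁻¹ * g, ?_⟩
    calc k⁻¹ * g * x * (k⁻¹ * g)⁻¹ = k⁻¹ * (g * x * g⁻¹) * k := by group
      _ = k⁻¹ * (k * t * k⁻¹) * k := by rw [hg]
      _ = t := by group
  have hcent : ∀ t : G, orderOf t = 2 →
      IsMulCommutative ↥(centralizer ({t} : Set G)) ∧ ∀ c ∈ centralizer ({t} : Set G), c ^ 2 = 1 := by
    intro t ht
    obtain ⟨g, rfl⟩ := hinv t ht
    have hsq : ∀ c ∈ centralizer ({g * x * g⁻¹} : Set G), c ^ 2 = 1 := by
      intro c hc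
      rw [mem_centralizer_conj] at hc
      have h1 := hCe _ hc
      have h2 : c ^ 2 = g * (g⁻¹ * c * g) ^ 2 * g⁻¹ := by
        rw [sq, sq]; group
      rw [h2, h1]; group
    refine ⟨⟨⟨fun a b => ?_⟩⟩, hsq⟩
    apply Subtype.ext
    exact comm_of_sq (hsq _ a.2) (hsq _ b.2) (hsq _ (mul_mem a.2 b.2))
  have hncyc : ¬ IsCyclic ↥(S : Subgroup G) := by
    intro hcyc
    obtain ⟨γ, hγ⟩ := hcyc.exists_generator
    have h1 : orderOf γ = Nat.card ↥(S : Subgroup G) := orderOf_eq_card_of_forall_mem_zpowers hγ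
    have hS4 : Nat.card ↥(S : Subgroup G) = 4 := by rw [← hSC]; exact hC4
    rw [hS4] at h1
    have h2 : (γ : G) ^ 2 = 1 := hCe _ (by rw [hSC]; exact γ.2)
    have h3 : γ ^ 2 = 1 := Subtype.ext h2
    have h4 := orderOf_dvd_of_pow_eq_one h3
    rw [h1] at h4
    norm_num at h4
  by_cases hn : (S : Subgroup G).Normal
  · left
    rw [hSC]; exact hn
  · right
    obtain ⟨F, hF1, hF2, hFc, ⟨e⟩⟩ := Cfsg.Agent.S1230.result S hncyc hn hcent
    have hF4 : Fintype.card F = 4 := by
      rw [hFc]
      show Nat.card ↥(S : Subgroup G) = 4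
      rw [← hSC, hC4]
    obtain ⟨e'⟩ := Cfsg.Agent.S0252.result (F := F) hF4
    exact ⟨e.trans e'⟩


/-- Let G be a finite group containing an involution whose centralizer is elementary abelian of order 4. If G has no normal 2-complement and no normal elementary abelian 2-subgroup of order 2 or 4, then G is isomorphic to the alternating group of degree 5 (that is, to PSL(2, 5)). -/
theorem result {G : Type*} [Group G] [Finite G] (x : G) (hx : orderOf x = 2)
    (hC4 : Nat.card ↥(Subgroup.centralizer ({x} : Set G)) = 4) (hCe : ∀ c ∈ Subgroup.centralizer ({x} : Set G), c ^ 2 = 1)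
    (hnc : ¬ Cfsg.HasNormalPComplement 2 G)
    (hne : ∀ E : Subgroup G, E.Normal → Cfsg.IsElementaryAbelian 2 E → Nat.card ↥E ≠ 2 ∧ Nat.card ↥E ≠ 4) :
    Nonempty (G ≃* ↥(alternatingGroup (Fin 5))) := by
  haveI : Fact (Nat.Prime 2) := ⟨Nat.prime_two⟩
  have hxC : x ∈ centralizer ({x} : Set G) := by rw [mem_centralizer_singleton_iff]
  have hx1 : x ≠ 1 := by
    intro h
    rw [h, orderOf_one] at hx
    norm_num at hx
  have hcomm : ∀ a ∈ centralizer ({x} : Set G), ∀ b ∈ centralizer ({x} : Set G), a * b = b * a :=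
    fun a ha b hb => comm_of_sq (hCe a ha) (hCe b hb) (hCe _ (mul_mem ha hb))
  by_cases h1 : ∀ g : G, g * x * g⁻¹ ∈ centralizer ({x} : Set G) → g * x * g⁻¹ = x
  · exact absurd (npc_of_isolated x hC4 hCe h1) hnc
  push Not at h1
  obtain ⟨g₀, hcC, hcx⟩ := h1
  have hc1 : g₀ * x * g₀⁻¹ ≠ 1 := by
    intro h
    apply hx1
    have h5 : x = g₀⁻¹ * (g₀ * x * g₀⁻¹) * g₀ := by group
    rw [h5, h]; group
  have henum := enum4 _ hC4 x (g₀ * x * g₀⁻¹) hxC hcC hx1 hc1 (Ne.symm hcx) hCe
  by_cases h2 : ∃ g : G, g * x * g⁻¹ = x * (g₀ * x * g₀⁻¹)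
  · have hall : ∀ d ∈ centralizer ({x} : Set G), d ≠ 1 → ∃ g : G, g * x * g⁻¹ = d := by
      intro d hd hd1
      rcases henum d hd with h | h | h | h
      · exact absurd h hd1
      · exact ⟨1, by rw [h]; group⟩
      · exact ⟨g₀, by rw [h]⟩
      · obtain ⟨g, hg⟩ := h2
        exact ⟨g, by rw [h, hg]⟩
    rcases a5_of_all_conj x hx hC4 hCe hall with hn | hA
    · exfalso
      have hEA : Cfsg.IsElementaryAbelian 2 (centralizer ({x} : Set G)) :=
        ⟨⟨⟨fun a b => Subtype.ext (hcomm a a.2 b b.2)⟩⟩, hCe⟩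
      exact (hne _ hn hEA).2 hC4
    · exact hA
  · exfalso
    push Not at h2
    have hzC : x * (g₀ * x * g₀⁻¹) ∈ centralizer ({x} : Set G) := mul_mem hxC hcC
    have hz1 : x * (g₀ * x * g₀⁻¹) ≠ 1 := by
      intro h
      apply hcx
      have h3 : g₀ * x * g₀⁻¹ = x⁻¹ := eq_inv_of_mul_eq_one_right h
      rw [h3, inv_eq_iff_mul_eq_one, ← sq]
      exact hCe x hxC
    have hz2 : orderOf (x * (g₀ * x * g₀⁻¹)) = 2 :=
      orderOf_eq_prime (hCe _ hzC) hz1
    have hxz : Commute x (x * (g₀ * x * g₀⁻¹)) := hcomm _ hxC _ hzC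
    have hncj : ¬ IsConj x (x * (g₀ * x * g₀⁻¹)) := by
      rw [isConj_iff]
      rintro ⟨g, hg⟩
      exact h2 g hg
    have hCc : centralizer ({g₀ * x * g₀⁻¹} : Set G) = centralizer ({x} : Set G) := by
      symm
      apply eq_of_le_of_card_ge
      · intro d hd
        rw [mem_centralizer_singleton_iff]
        exact hcomm _ hd _ hcC
      · rw [card_centralizer_conj]
    have hstar : ∀ u : G, orderOf u = 2 → Commute u x →
        ∀ g : G, Commute (g * (x * (g₀ * x * g₀⁻¹)) * g⁻¹) u →
          Commute (g * (x * (g₀ * x * g₀⁻¹)) * g⁻¹) (x * (g₀ * x * g₀⁻¹)) := by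
      intro u hu hux g hgu
      have huC : u ∈ centralizer ({x} : Set G) := by
        rw [mem_centralizer_singleton_iff]; exact hux
      have hu1 : u ≠ 1 := by
        intro h
        rw [h, orderOf_one] at hu
        norm_num at hu
      have key : g * (x * (g₀ * x * g₀⁻¹)) * g⁻¹ ∈ centralizer ({x} : Set G) →
          Commute (g * (x * (g₀ * x * g₀⁻¹)) * g⁻¹) (x * (g₀ * x * g₀⁻¹)) :=
        fun hw => hcomm _ hw _ hzC
      rcases henum u huC with h | h | h | h
      · exact absurd h hu1
      · apply key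
        rw [mem_centralizer_singleton_iff]
        rw [h] at hgu
        exact hgu
      · apply key
        rw [← hCc, mem_centralizer_singleton_iff]
        rw [h] at hgu
        exact hgu
      · rw [h] at hgu
        exact hgu
    obtain ⟨-, hE, hcard⟩ := Cfsg.Agent.S3276.result x (x * (g₀ * x * g₀⁻¹)) hx hz2 hxz hncj hstar
    have hzE : x * (g₀ * x * g₀⁻¹) ∈ normalClosure ({x * (g₀ * x * g₀⁻¹)} : Set G) :=
      subset_normalClosure (Set.mem_singleton _)
    have hEn : (normalClosure ({x * (g₀ * x * g₀⁻¹)} : Set G)).Normal := normalClosure_normal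
    -- the order of E is at most 4
    have hle4 : Nat.card ↥(normalClosure ({x * (g₀ * x * g₀⁻¹)} : Set G)) ≤ 4 := by
      by_cases hu : ∀ u ∈ normalClosure ({x * (g₀ * x * g₀⁻¹)} : Set G), orderOf u = 2 →
          Commute u x → u = x * (g₀ * x * g₀⁻¹)
      · exact hcard hu
      · push Not at hu
        obtain ⟨u, huE, hu2, hux, huz⟩ := hu
        have huC : u ∈ centralizer ({x} : Set G) := by
          rw [mem_centralizer_singleton_iff]; exact hux
        have hu1 : u ≠ 1 := by
          intro h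
          rw [h, orderOf_one] at hu2
          norm_num at hu2
        have hxE : x ∈ normalClosure ({x * (g₀ * x * g₀⁻¹)} : Set G) := by
          rcases henum u huC with h | h | h | h
          · exact absurd h hu1
          · rw [h] at huE; exact huE
          · rw [h] at huE
            have := hEn.conj_mem _ huE g₀⁻¹
            have h5 : g₀⁻¹ * (g₀ * x * g₀⁻¹) * g₀⁻¹⁻¹ = x := by group
            rw [h5] at this
            exact this
          · exact absurd h huz
        have hEC : normalClosure ({x * (g₀ * x * g₀⁻¹)} : Set G) ≤ centralizer ({x} : Set G) := by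
          intro e he
          rw [mem_centralizer_singleton_iff]
          have := hE.1.is_comm.comm (⟨e, he⟩ : ↥(normalClosure ({x * (g₀ * x * g₀⁻¹)} : Set G))) ⟨x, hxE⟩
          exact congrArg Subtype.val this
        rw [← hC4]
        exact Subgroup.card_le_of_le hEC
    have hEp : IsPGroup 2 ↥(normalClosure ({x * (g₀ * x * g₀⁻¹)} : Set G)) := by
      intro e
      refine ⟨1, ?_⟩
      apply Subtype.ext
      simpa using hE.2 e e.2
    obtain ⟨k, hk⟩ := IsPGroup.iff_card.1 hEp
    have hk0 : k ≠ 0 := by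
      intro h0
      rw [h0, pow_zero, Subgroup.card_eq_one] at hk
      rw [hk, mem_bot] at hzE
      exact hz1 hzE
    have hk2 : k < 3 := by
      by_contra hk3
      push Not at hk3
      have : 2 ^ 3 ≤ 2 ^ k := Nat.pow_le_pow_right (by norm_num) hk3
      rw [← hk] at this
      omega
    have hcases : k = 1 ∨ k = 2 := by omega
    have := hne _ hEn hE
    rcases hcases with h | h
    · rw [h] at hk
      exact this.1 (by rw [hk]; norm_num)
    · rw [h] at hk
      exact this.2 (by rw [hk]; norm_num)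

end Cfsg.Agent.S3277
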