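import Mathlib
import Cfsg.Statements.S4479
import Cfsg.Agent.Lib.Helper8.KF12

set_option autoImplicit false
open Cfsg

namespace Cfsg.Agent.S4479

open scoped ComplexConjugate
open Cfsg.Agent.Lib.Helper1 Cfsg.Agent.Lib.Helper4 Cfsg.Agent.Lib.Helper8

/-- An order formula from the principal 2-block. Let G be a finite group of order 4·g₀ with g₀ odd having no normal 2-complement (no normal subgroup of order g₀); let P be a Sylow 2-subgroup, J an involution of P, and fix a maximal ideal M of the algebraic integers containing 2. Suppose the principal 2-block consists of the principal character and three further distinct characters χ₁, χ₂, χ₃ of degrees x₁, x₂, x₃, with χ_i(J) = ε_i = ±1. Then, writing c(J) and c(P) for the orders of the centralizers of J and of P, the order of G equals 8·α·c(J)³/c(P)² with α = x₁x₂x₃ / ((x₁ +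 ε₁)(x₂ + ε₂)(x₃ + ε₃)). -/
theorem result {G : Type*} [Group G] [Finite G] (M : Ideal Cfsg.AlgInt) (hM : Cfsg.IsPModular 2 M) (g₀ : ℕ) (hg₀ : Odd g₀) (hG : Nat.card G = 4 * g₀) (hnc : ¬ ∃ N : Subgroup G, N.Normal ∧ Nat.card N = g₀) (P : Sylow 2 G) (J : G) (hJ : J ∈ (P : Subgroup G)) (hJ2 : orderOf J = 2) (χ₁ χ₂ χ₃ : Cfsg.IrrCharacter G) (ε₁ ε₂ ε₃ : ℤ) (hB : Cfsg.principalBlock M G = {χ : Cfsg.IrrCharacter G | (χ : G → ℂ) = (fun _ => 1) ∨ χ = χ₁ ∨ χ = χ₂ ∨ χ = χ₃}) (hdist : (χ₁ : G → ℂ) ≠ (fun _ => 1) ∧ (χ₂ : G → ℂ) ≠ (fun _ => 1) ∧ (χ₃ : G → ℂ) ≠ (fun _ => 1) ∧ χ₁ ≠ χ₂ ∧ χ₁ ≠ χ₃ ∧ χ₂ ≠ χ₃) (hε : (ε₁ = 1 ∨ ε₁ = -1) ∧ (ε₂ = 1 ∨ ε₂ = -1) ∧ (ε₃ = 1 ∨ ε₃ = -1)) (hval : (χ₁ : G → ℂ) J = ε₁ ∧ (χ₂ : G → ℂ) J = ε₂ ∧ (χ₃ : G → ℂ) J = ε₃) : (Nat.card G : ℚ) = 8 * (((Cfsg.charDegree (χ₁ : G → ℂ) : ℚ) * Cfsg.charDegree (χ₂ : G → ℂ) * Cfsg.charDegree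 (χ₃ : G → ℂ)) / ((Cfsg.charDegree (χ₁ : G → ℂ) + ε₁) * (Cfsg.charDegree (χ₂ : G → ℂ) + ε₂) * (Cfsg.charDegree (χ₃ : G → ℂ) + ε₃))) * (Nat.card (Subgroup.centralizer ({J} : Set G)) : ℚ) ^ 3 / (Nat.card (Subgroup.centralizer ((P : Subgroup G) : Set G)) : ℚ) ^ 2 := by
  haveI : Fact (Nat.Prime 2) := ⟨Nat.prime_two⟩
  obtain ⟨hP, hN⟩ := kf_of_no_complement g₀ hg₀ hG hnc P
  have hone := kf_one_class P hP hN
  have hmain := kf_order_formula hM P hP hone hJ hJ2 χ₁ χ₂ χ₃ ε₁ ε₂ ε₃ hB hdist hε hval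
  have hx₁0 : (Cfsg.charDegree (χ₁ : G → ℂ) : ℚ) ≠ 0 :=
    Nat.cast_ne_zero.2 (irr_apply_one_eq_charDegree χ₁.2).2.ne'
  have hx₂0 : (Cfsg.charDegree (χ₂ : G → ℂ) : ℚ) ≠ 0 :=
    Nat.cast_ne_zero.2 (irr_apply_one_eq_charDegree χ₂.2).2.ne'
  have hx₃0 : (Cfsg.charDegree (χ₃ : G → ℂ) : ℚ) ≠ 0 :=
    Nat.cast_ne_zero.2 (irr_apply_one_eq_charDegree χ₃.2).2.ne'
  have hcJ : (Nat.card (Subgroup.centralizer ({J} : Set G)) : ℚ) ≠ 0 :=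
    Nat.cast_ne_zero.2 Nat.card_pos.ne'
  have hcP : (Nat.card (Subgroup.centralizer ((P : Subgroup G) : Set G)) : ℚ) ≠ 0 :=
    Nat.cast_ne_zero.2 Nat.card_pos.ne'
  have hq : (8 : ℚ) * (Nat.card (Subgroup.centralizer ({J} : Set G)) : ℚ) ^ 3 *
        ((Cfsg.charDegree (χ₁ : G → ℂ) : ℚ) * Cfsg.charDegree (χ₂ : G → ℂ) *
          Cfsg.charDegree (χ₃ : G → ℂ)) =
      (Nat.card G : ℚ) * (((Cfsg.charDegree (χ₁ : G → ℂ) : ℚ) + ε₁) *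
        ((Cfsg.charDegree (χ₂ : G → ℂ) : ℚ) + ε₂) * ((Cfsg.charDegree (χ₃ : G → ℂ) : ℚ) + ε₃)) *
        (Nat.card (Subgroup.centralizer ((P : Subgroup G) : Set G)) : ℚ) ^ 2 := by
    exact_mod_cast hmain
  have hPi : (((Cfsg.charDegree (χ₁ : G → ℂ) : ℚ) + ε₁) *
        ((Cfsg.charDegree (χ₂ : G → ℂ) : ℚ) + ε₂) * ((Cfsg.charDegree (χ₃ : G → ℂ) : ℚ) + ε₃)) ≠ 0 := by
    intro h
    rw [h, mul_zero, zero_mul] at hq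
    have h8 : (8 : ℚ) ≠ 0 := by norm_num
    exact (mul_ne_zero (mul_ne_zero h8 (pow_ne_zero 3 hcJ))
      (mul_ne_zero (mul_ne_zero hx₁0 hx₂0) hx₃0)) hq
  rw [eq_div_iff (pow_ne_zero 2 hcP), mul_assoc, div_mul_eq_mul_div, mul_div_assoc', eq_div_iff hPi]
  linear_combination -hq

end Cfsg.Agent.S4479
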