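import Cfsg.Statements.S3278
import Mathlib
import Cfsg.Agent.Lib.Helper2.KFS2
import Cfsg.Agent.Lib.Helper2.KFS3
import Cfsg.Agent.Lib.Helper2.KFS4
import Cfsg.Agent.Lib.Helper8.KF6
import Cfsg.Agent.Lib.Helper8.TildeBlock
import Cfsg.Agent.S0948
import Cfsg.Agent.S4479
import Cfsg.Agent.S0494

set_option autoImplicit false
open Cfsg

namespace Cfsg.Agent.S3278

open Subgroup
open Cfsg.Agent.Lib.Helper2.KFS Cfsg.Agent.Lib.Helper8

/-- Let G be a finite simple group with an involution x such that a Sylow 2-subgroup of C_G(x) is a Klein four-group which is normal in C_G(x). Then G is isomorphic to the alternating group of degree 5 (that is, to PSL(2, 5)). -/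
theorem result {G : Type*} [Group G] [Finite G] [IsSimpleGroup G] (x : G) (hx : orderOf x = 2)
    (S₀ : Subgroup G) (hle : S₀ ≤ Subgroup.centralizer ({x} : Set G)) (hK : IsKleinFour ↥S₀)
    (hodd : ¬ 2 ∣ S₀.relIndex (Subgroup.centralizer ({x} : Set G))) (hn : (S₀.subgroupOf (Subgroup.centralizer ({x} : Set G))).Normal) :
    Nonempty (G ≃* ↥(alternatingGroup (Fin 5))) := by
  haveI : Fact (Nat.Prime 2) := ⟨Nat.prime_two⟩
  have hK4 : IsK4 S₀ := isK4_of_isKleinFour hK
  have hcard : Nat.card S₀ = 4 := hK4.1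
  have h4G : 4 ∣ Nat.card G := hcard ▸ card_subgroup_dvd_card S₀
  -- no normal subgroup of index 2
  have hno2 : ¬ ∃ M : Subgroup G, M.Normal ∧ M.index = 2 := by
    rintro ⟨M, hMn, hMi⟩
    rcases hMn.eq_bot_or_eq_top with h | h
    · rw [h, index_bot] at hMi
      rw [hMi] at h4G
      norm_num at h4G
    · rw [h, index_top] at hMi
      norm_num at hMi
  have hG4 : Nat.card G ≠ 4 := by
    intro h
    apply hno2
    have hidx : (zpowers x).index = 2 := by
      have h1 := (zpowers x).index_mul_card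
      rw [Nat.card_zpowers, hx, h] at h1
      omega
    exact ⟨zpowers x, normal_of_index_eq_two hidx, hidx⟩
  -- `S₀` is a Sylow 2-subgroup of `G`
  obtain ⟨P, hP⟩ := exists_sylow_eq x hx S₀ hle hcard hodd hn hno2
  subst hP
  have hsq := hK4.2
  have hxC : x ∈ centralizer ({x} : Set G) := by rw [mem_centralizer_singleton_iff]
  have hxP : x ∈ (P : Subgroup G) :=
    mem_of_two_power x _ hle hcard hodd hn hxC (k := 1) (by rw [hx]; norm_num)
  have hx1 : x ≠ 1 := by
    rintro rfl
    rw [orderOf_one] at hx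
    norm_num at hx
  have hcent := centralizer_eq_of_klein x _ hxP hx1 hle hcard hsq hodd hn
  -- the order of `G`
  obtain ⟨g₀, hg₀, hG⟩ : ∃ g₀, Odd g₀ ∧ Nat.card G = 4 * g₀ := by
    refine ⟨(P : Subgroup G).index, ?_, ?_⟩
    · have h1 := P.not_dvd_index
      rcases Nat.even_or_odd (P : Subgroup G).index with h | h
      · exact absurd (even_iff_two_dvd.1 h) h1
      · exact h
    · rw [← hcard, mul_comm]
      exact (P : Subgroup G).index_mul_card.symm
  have hnc : ¬ ∃ N : Subgroup G, N.Normal ∧ Nat.card N = g₀ := by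
    rintro ⟨N, hNn, hNc⟩
    rcases hNn.eq_bot_or_eq_top with h | h
    · rw [h, card_bot] at hNc
      apply hG4
      rw [hG, ← hNc]
    · rw [h, card_top] at hNc
      have : 0 < Nat.card G := Nat.card_pos
      omega
  obtain ⟨_, hN⟩ := kf_of_no_complement g₀ hg₀ hG hnc P
  have hone := kf_one_class P hK4 hN
  obtain ⟨M, hM⟩ := exists_isPModular 2
  obtain ⟨ζ₂, ζ₃, ζ₄, ε, hε, h21, h31, h23, h24, h34, hB, hval, hd2, hd3, hd4, _⟩ :=
    Cfsg.Agent.S0948.result M hM P hK hone
  have hv := hval x hx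
  have h41 : (ζ₄ : G → ℂ) ≠ (fun _ => 1) := by
    intro h
    have h1 := hv.2.2
    rw [h] at h1
    norm_num at h1
  have hform := Cfsg.Agent.S4479.result M hM g₀ hg₀ hG hnc P x hxP hx ζ₂ ζ₃ ζ₄ 1 ε (-1) hB
    ⟨h21, h31, h41, h23, h24, h34⟩ ⟨Or.inl rfl, hε, Or.inr rfl⟩
    ⟨by rw [hv.1]; norm_num, hv.2.1, by rw [hv.2.2]; norm_num⟩
  rw [← hcent] at hform
  have hlt := kf_num (Nat.card G) (Nat.card (centralizer ({x} : Set G))) _ _ _ 1 ε (-1) rfl hε rfl
    Nat.card_pos hd2 hd3 hd4 hform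
  have hN3 := three_mul_card_centralizer_le P hcard hsq hN
  rw [← hcent] at hN3
  have hHtop : normalizer ((P : Subgroup G) : Set G) ≠ ⊤ := by
    intro h
    have hPn : (P : Subgroup G).Normal := normalizer_eq_top_iff.1 h
    rcases hPn.eq_bot_or_eq_top with h' | h'
    · rw [h', card_bot] at hcard
      norm_num at hcard
    · rw [h', card_top] at hcard
      exact hG4 hcard
  have h4c : 4 ∣ Nat.card (centralizer ({x} : Set G)) := hcard ▸ card_dvd_of_le hle
  have h60 := card_eq_sixty g₀ hg₀ hG (normalizer ((P : Subgroup G) : Set G)) hHtop _ h4c hN3 hlt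
  exact Cfsg.Agent.S0494.result h60

end Cfsg.Agent.S3278
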