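import Mathlib
import Cfsg.Agent.S3294
import Cfsg.Agent.Lib.Helper6.Conj
import Cfsg.Agent.Lib.Helper9.Hyperfocal1
import Cfsg.Statements.S3303

set_option autoImplicit false
open Cfsg Cfsg.Agent.Lib.Helper6

namespace Cfsg.Agent.S3303

/-- a solvable group with trivial odd core whose `O₂` has a `2`-group of automorphisms is a `2`-group -/
theorem isPGroup_two_of_mulAut_pCore {X : Type*} [Group X] [Finite X] (hsol : Group.IsSolvable X)
    (hO : Cfsg.pPrimeCore 2 X = ⊥) (hAutQ : IsPGroup 2 (MulAut (Cfsg.pCore 2 X))) :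
    IsPGroup 2 X := by
  classical
  haveI : Fact (Nat.Prime 2) := ⟨Nat.prime_two⟩
  have hcent := Cfsg.Agent.S3294.centralizer_pCore_le_of_solvable hsol hO
  set Q := Cfsg.pCore 2 X with hQ
  have htwo_odd : ∀ k m : ℕ, Odd m → 2 ^ k ∣ m → k = 0 := by
    intro k m hm hd
    by_contra hk
    have h2 : 2 ∣ m := (dvd_pow_self 2 hk).trans hd
    exact (Nat.not_even_iff_odd.mpr hm) (even_iff_two_dvd.mpr h2)
  have hodd : ∀ y : X, Odd (orderOf y) → y = 1 := by
    intro y hy
    let φ : X →* MulAut Q := MulAut.conjNormal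
    have h1 : orderOf (φ y) ∣ orderOf y := orderOf_map_dvd φ y
    obtain ⟨k, hk⟩ := IsPGroup.iff_orderOf.mp hAutQ (φ y)
    have h2 : φ y = 1 := by
      rw [hk] at h1
      have := htwo_odd k _ hy h1
      rw [this, pow_zero, orderOf_eq_one_iff] at hk
      exact hk
    have h3 : y ∈ Subgroup.centralizer (Q : Set X) := by
      rw [Subgroup.mem_centralizer_iff]
      intro q hq
      have h5 : ((φ y ⟨q, hq⟩ : Q) : X) = y * q * y⁻¹ := MulAut.conjNormal_apply y ⟨q, hq⟩
      rw [h2] at h5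
      have h6 : q = y * q * y⁻¹ := h5
      calc q * y = (y * q * y⁻¹) * y := by rw [← h6]
        _ = y * q := by group
    have h4 : y ∈ Q := hcent h3
    obtain ⟨j, hj⟩ := IsPGroup.iff_orderOf.mp (pCore_isPGroup (G := X) 2) ⟨y, h4⟩
    rw [Subgroup.orderOf_mk] at hj
    have h7 : j = 0 := htwo_odd j _ hy (by rw [hj])
    rw [h7, pow_zero, orderOf_eq_one_iff] at hj
    exact hj
  intro g
  obtain ⟨k, m, hm, hkm⟩ := Nat.exists_eq_two_pow_mul_odd (orderOf_pos g).ne'
  refine ⟨k, ?_⟩
  apply hodd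
  rw [orderOf_pow_of_dvd (by positivity) (by rw [hkm]; exact dvd_mul_right _ _), hkm,
    Nat.mul_div_cancel_left _ (by positivity)]
  exact hm

/-- Let G be a finite solvable group in which the intersection of any two distinct Sylow 2-subgroups is cyclic. Then G/O(G) has a normal Sylow 2-subgroup, where O(G) is the largest normal subgroup of odd order. -/
theorem result {G : Type*} [Group G] [Finite G] (hs : Group.IsSolvable G)
    (hC : ∀ S T : Sylow 2 G, S ≠ T → IsCyclic ↥((S : Subgroup G) ⊓ (T : Subgroup G))) :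
    ∃ P : Sylow 2 (G ⧸ Cfsg.oddCore G), (P : Subgroup (G ⧸ Cfsg.oddCore G)).Normal := by
  classical
  haveI : Fact (Nat.Prime 2) := ⟨Nat.prime_two⟩
  haveI := hs
  set N := Cfsg.pPrimeCore 2 G with hN
  set π := QuotientGroup.mk' N with hπ
  have hπs : Function.Surjective π := QuotientGroup.mk'_surjective N
  have hXsol : Group.IsSolvable (G ⧸ N) := inferInstance
  have hXO : Cfsg.pPrimeCore 2 (G ⧸ N) = ⊥ := Cfsg.Agent.Lib.Helper4.pPrimeCore_quotient_self 2
  set R := Cfsg.pCore 2 (G ⧸ N) with hR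
  by_cases hcyc : IsCyclic R
  · have hAut : IsPGroup 2 (MulAut R) := isPGroup_mulAut_of_isCyclic (pCore_isPGroup 2)
    have hX2 := isPGroup_two_of_mulAut_pCore hXsol hXO hAut
    let P : Sylow 2 (G ⧸ N) := default
    refine ⟨P, ?_⟩
    have h1 : (⊤ : Subgroup (G ⧸ N)) = (P : Subgroup (G ⧸ N)) :=
      P.is_maximal' (Q := ⊤) (fun g => by
        obtain ⟨k, hk⟩ := hX2 (g : G ⧸ N)
        exact ⟨k, Subtype.ext hk⟩) le_top
    rw [← h1]
    infer_instance
  · let S : Sylow 2 G := default
    set Pb : Sylow 2 (G ⧸ N) := S.mapSurjective hπs with hPb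
    have hPbcoe : (Pb : Subgroup (G ⧸ N)) = (S : Subgroup G).map π := Sylow.coe_mapSurjective _ _
    have hRP : R ≤ (S : Subgroup G).map π := by rw [← hPbcoe]; exact pCore_le_sylow Pb
    refine ⟨Pb, ?_⟩
    by_contra hPn
    apply hcyc
    -- some element of the quotient moves `Pb`
    have hex : ∃ g : G, π g ∉ Subgroup.normalizer ((Pb : Subgroup (G ⧸ N)) : Set (G ⧸ N)) := by
      by_contra hno
      push Not at hno
      apply hPn
      rw [← Subgroup.normalizer_eq_top_iff, eq_top_iff]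
      intro q _
      obtain ⟨g, rfl⟩ := hπs q
      exact hno g
    obtain ⟨g, hg⟩ := hex
    have hnorm : ∀ x ∈ Subgroup.normalizer ((S : Subgroup G) : Set G),
        π x ∈ Subgroup.normalizer ((Pb : Subgroup (G ⧸ N)) : Set (G ⧸ N)) := by
      intro x hx
      rw [hPbcoe]
      exact Subgroup.le_normalizer_map π ⟨x, hx, rfl⟩
    set K : Subgroup G := R.comap π with hK
    haveI hKn : K.Normal := Subgroup.Normal.comap inferInstance π
    set T : Sylow 2 G := g • S with hT
    obtain ⟨S₁, hS₁⟩ := Cfsg.Agent.Lib.Helper9.exists_sylow_map_eq_inf S K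
    obtain ⟨T₁, hT₁⟩ := Cfsg.Agent.Lib.Helper9.exists_sylow_map_eq_inf T K
    obtain ⟨r, hr⟩ := MulAction.exists_smul_eq K T₁ S₁
    -- the Sylow subgroup `T' = r • T` differs from `S`
    have hne : S ≠ ((r : G) * g) • S := by
      intro h
      have h1 : (r : G) * g ∈ Subgroup.normalizer ((S : Subgroup G) : Set G) :=
        Sylow.smul_eq_iff_mem_normalizer.mp h.symm
      have h2 := hnorm _ h1
      rw [map_mul] at h2
      have h3 : π (r : G) ∈ Subgroup.normalizer ((Pb : Subgroup (G ⧸ N)) : Set (G ⧸ N)) := by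
        apply Subgroup.le_normalizer
        rw [hPbcoe]
        exact hRP r.2
      have h4 := mul_mem (inv_mem h3) h2
      rw [inv_mul_cancel_left] at h4
      exact hg h4
    have hcycST := hC S (((r : G) * g) • S) hne
    -- `S ⊓ K` lies in the intersection
    have hle : (S : Subgroup G) ⊓ K ≤ (S : Subgroup G) ⊓ ((((r : G) * g) • S : Sylow 2 G) : Subgroup G) := by
      intro x hx
      have hxS : x ∈ (S : Subgroup G) := (Subgroup.mem_inf.mp hx).1
      rw [← hS₁] at hx
      obtain ⟨y, hy, rfl⟩ := hx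
      rw [← hr, SetLike.mem_coe, sylow_smul_eq_map_conj, mem_map_conj] at hy
      have h1 : ((r⁻¹ * y * r : K) : G) ∈ (T : Subgroup G) ⊓ K := by
        rw [← hT₁]
        exact ⟨_, hy, rfl⟩
      have h2 : (r : G)⁻¹ * (y : G) * (r : G) ∈ (T : Subgroup G) := (Subgroup.mem_inf.mp h1).1
      refine Subgroup.mem_inf.mpr ⟨hxS, ?_⟩
      rw [mul_smul, sylow_smul_eq_map_conj, mem_map_conj]
      exact h2
    -- hence `S ⊓ K` is cyclic
    haveI : IsCyclic ↥((S : Subgroup G) ⊓ ((((r : G) * g) • S : Sylow 2 G) : Subgroup G)) := hcycST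
    have hcycSK : IsCyclic ↥((S : Subgroup G) ⊓ K) := by
      have := Subgroup.isCyclic_of_le hle
      exact this
    -- and maps onto `R`
    let f : ↥((S : Subgroup G) ⊓ K) →* R :=
      { toFun := fun x => ⟨π x, x.2.2⟩
        map_one' := by ext; simp
        map_mul' := by intro a b; ext; simp }
    have hf : Function.Surjective f := by
      rintro ⟨ρ, hρ⟩
      obtain ⟨s, hs, rfl⟩ := hRP hρ
      exact ⟨⟨s, hs, hρ⟩, rfl⟩
    exact isCyclic_of_surjective f hf

end Cfsg.Agent.S3303
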