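import Cfsg.Statements.S3304
import Mathlib
import Cfsg.Agent.S3303
import Cfsg.Agent.Lib.Helper4.Rk2h
import Cfsg.Agent.Lib.Helper7.GL23H
-- import your own Cfsg.Agent.* helpers here

set_option autoImplicit false
open Cfsg

namespace Cfsg.Agent.S3304

/-- if a Sylow `2`-subgroup of `G / O(G)` is not normal, then `O₂(G / O(G))` has `2`-rank at most
one (adapted from `S3303`) -/
theorem rank_pCore {G : Type*} [Group G] [Finite G]
    (hI : ∀ S T : Sylow 2 G, S ≠ T → Cfsg.PRankLE 2 1 ↥((S : Subgroup G) ⊓ (T : Subgroup G)))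
    (S : Sylow 2 G)
    (hPn : ¬ ((S.mapSurjective (QuotientGroup.mk'_surjective (Cfsg.pPrimeCore 2 G)) :
      Sylow 2 (G ⧸ Cfsg.pPrimeCore 2 G)) : Subgroup (G ⧸ Cfsg.pPrimeCore 2 G)).Normal) :
    Cfsg.PRankLE 2 1 ↥(Cfsg.pCore 2 (G ⧸ Cfsg.pPrimeCore 2 G)) := by
  classical
  haveI : Fact (Nat.Prime 2) := ⟨Nat.prime_two⟩
  set N := Cfsg.pPrimeCore 2 G with hN
  set π := QuotientGroup.mk' N with hπ
  have hπs : Function.Surjective π := QuotientGroup.mk'_surjective N
  set R := Cfsg.pCore 2 (G ⧸ N) with hR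
  set Pb : Sylow 2 (G ⧸ N) := S.mapSurjective hπs with hPb
  have hPbcoe : (Pb : Subgroup (G ⧸ N)) = (S : Subgroup G).map π := Sylow.coe_mapSurjective _ _
  have hRP : R ≤ (S : Subgroup G).map π := by
    rw [← hPbcoe]; exact Cfsg.Agent.Lib.Helper6.pCore_le_sylow Pb
  -- some element of the quotient moves `Pb`
  have hex : ∃ g : G, π g ∉ Subgroup.normalizer ((Pb : Subgroup (G ⧸ N)) : Set (G ⧸ N)) := by
    by_contra hno
    push Not at hno
    apply hPn
    rw [← Subgroup.normalizer_eq_top_iff, eq_top_iff]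
    intro q _
    obtain ⟨g, rfl⟩ := hπs q
    exact hno g
  obtain ⟨g, hg⟩ := hex
  have hnorm : ∀ x ∈ Subgroup.normalizer ((S : Subgroup G) : Set G),
      π x ∈ Subgroup.normalizer ((Pb : Subgroup (G ⧸ N)) : Set (G ⧸ N)) := by
    intro x hx
    rw [hPbcoe]
    exact Subgroup.le_normalizer_map π ⟨x, hx, rfl⟩
  set K : Subgroup G := R.comap π with hK
  haveI hKn : K.Normal := Subgroup.Normal.comap inferInstance π
  set T : Sylow 2 G := g • S with hT
  obtain ⟨S₁, hS₁⟩ := Cfsg.Agent.Lib.Helper9.exists_sylow_map_eq_inf S K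
  obtain ⟨T₁, hT₁⟩ := Cfsg.Agent.Lib.Helper9.exists_sylow_map_eq_inf T K
  obtain ⟨r, hr⟩ := MulAction.exists_smul_eq K T₁ S₁
  have hne : S ≠ ((r : G) * g) • S := by
    intro h
    have h1 : (r : G) * g ∈ Subgroup.normalizer ((S : Subgroup G) : Set G) :=
      Sylow.smul_eq_iff_mem_normalizer.mp h.symm
    have h2 := hnorm _ h1
    rw [map_mul] at h2
    have h3 : π (r : G) ∈ Subgroup.normalizer ((Pb : Subgroup (G ⧸ N)) : Set (G ⧸ N)) := by
      apply Subgroup.le_normalizer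
      rw [hPbcoe]
      exact hRP r.2
    have h4 := mul_mem (inv_mem h3) h2
    rw [inv_mul_cancel_left] at h4
    exact hg h4
  have hrST := hI S (((r : G) * g) • S) hne
  have hle : (S : Subgroup G) ⊓ K ≤
      (S : Subgroup G) ⊓ ((((r : G) * g) • S : Sylow 2 G) : Subgroup G) := by
    intro x hx
    have hxS : x ∈ (S : Subgroup G) := (Subgroup.mem_inf.mp hx).1
    rw [← hS₁] at hx
    obtain ⟨y, hy, rfl⟩ := hx
    rw [← hr, SetLike.mem_coe, Cfsg.Agent.Lib.Helper6.sylow_smul_eq_map_conj,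
      Cfsg.Agent.Lib.Helper6.mem_map_conj] at hy
    have h1 : ((r⁻¹ * y * r : K) : G) ∈ (T : Subgroup G) ⊓ K := by
      rw [← hT₁]
      exact ⟨_, hy, rfl⟩
    have h2 : (r : G)⁻¹ * (y : G) * (r : G) ∈ (T : Subgroup G) := (Subgroup.mem_inf.mp h1).1
    refine Subgroup.mem_inf.mpr ⟨hxS, ?_⟩
    rw [mul_smul, Cfsg.Agent.Lib.Helper6.sylow_smul_eq_map_conj,
      Cfsg.Agent.Lib.Helper6.mem_map_conj]
    exact h2
  have hrSK : Cfsg.PRankLE 2 1 ↥((S : Subgroup G) ⊓ K) :=
    Cfsg.Agent.Lib.Helper4.Rk2.prankLE_of_injective (Subgroup.inclusion hle)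
      (Subgroup.inclusion_injective hle) hrST
  let f : ↥((S : Subgroup G) ⊓ K) →* R :=
    { toFun := fun x => ⟨π x, x.2.2⟩
      map_one' := by ext; simp
      map_mul' := by intro a b; ext; simp }
  have hf : Function.Surjective f := by
    rintro ⟨ρ, hρ⟩
    obtain ⟨s, hs, rfl⟩ := hRP hρ
    exact ⟨⟨s, hs, hρ⟩, rfl⟩
  have hfi : Function.Injective f := by
    rw [injective_iff_map_eq_one]
    rintro ⟨x, hxS, hxK⟩ hx
    have h1 : π x = 1 := congrArg Subtype.val hx
    have hxN : x ∈ N := by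
      rw [hπ, QuotientGroup.mk'_apply, QuotientGroup.eq_one_iff] at h1
      exact h1
    apply Subtype.ext
    show x = 1
    obtain ⟨k, hk⟩ := IsPGroup.iff_orderOf.mp S.isPGroup' ⟨x, hxS⟩
    rw [Subgroup.orderOf_mk] at hk
    have h2 : orderOf x ∣ Nat.card ↥N := by
      have := orderOf_dvd_natCard (⟨x, hxN⟩ : ↥N)
      rwa [Subgroup.orderOf_mk] at this
    have h3 : (Nat.card ↥N).Coprime 2 := Cfsg.Agent.Lib.Helper6.pPrimeCore_coprime 2
    have h4 : (orderOf x).Coprime 2 := Nat.Coprime.coprime_dvd_left h2 h3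
    rw [hk] at h4
    have h5 : k = 0 := by
      by_contra hk0
      have : (2 : ℕ) ∣ Nat.gcd (2 ^ k) 2 := Nat.dvd_gcd (dvd_pow_self 2 hk0) (dvd_refl 2)
      rw [Nat.Coprime] at h4
      rw [h4] at this
      omega
    rw [h5, pow_zero, orderOf_eq_one_iff] at hk
    exact hk
  let e : ↥((S : Subgroup G) ⊓ K) ≃* R := MulEquiv.ofBijective f ⟨hfi, hf⟩
  exact Cfsg.Agent.Lib.Helper4.Rk2.prankLE_of_injective e.symm.toMonoidHom e.symm.injective hrSK

/-- Let G be a finite solvable group in which the intersection of any two distinct Sylow 2-subgroups has 2-rank at most 1 (contains no Klein four-group). Write Q = G/O(G), O(G) the largest normal subgroup of odd order. Then Q has a normal Sylow 2-subgroup; or Q is isomorphic to GL(2,3); or Q has order 48, centre of order 2 with central quotient isomorphic to the symmetric group of degree 4, and generalized quaternion Sylow 2-subgroups of order 16 (the binary octahedral group). The last two are the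 two representation groups of the symmetric group of degree 4. -/
theorem result {G : Type*} [Group G] [Finite G] (hs : Group.IsSolvable G)
    (hI : ∀ S T : Sylow 2 G, S ≠ T → Cfsg.PRankLE 2 1 ↥((S : Subgroup G) ⊓ (T : Subgroup G))) :
    (∃ P : Sylow 2 (G ⧸ Cfsg.oddCore G), (P : Subgroup (G ⧸ Cfsg.oddCore G)).Normal) ∨
    Nonempty ((G ⧸ Cfsg.oddCore G) ≃* GL (Fin 2) (ZMod 3)) ∨
    (Nat.card (G ⧸ Cfsg.oddCore G) = 48 ∧ Nat.card ↥(Subgroup.center (G ⧸ Cfsg.oddCore G)) = 2 ∧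
      Nonempty ((G ⧸ Cfsg.oddCore G) ⧸ Subgroup.center (G ⧸ Cfsg.oddCore G) ≃* Equiv.Perm (Fin 4)) ∧
      ∀ P : Sylow 2 (G ⧸ Cfsg.oddCore G), Nonempty (↥(P : Subgroup (G ⧸ Cfsg.oddCore G)) ≃* QuaternionGroup 4)) := by
  classical
  haveI : Fact (Nat.Prime 2) := ⟨Nat.prime_two⟩
  haveI := hs
  set N := Cfsg.pPrimeCore 2 G with hN
  have hπs : Function.Surjective (QuotientGroup.mk' N) := QuotientGroup.mk'_surjective N
  have hXsol : Group.IsSolvable (G ⧸ N) := inferInstance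
  have hXO : Cfsg.pPrimeCore 2 (G ⧸ N) = ⊥ := Cfsg.Agent.Lib.Helper4.pPrimeCore_quotient_self 2
  set R := Cfsg.pCore 2 (G ⧸ N) with hR
  have hR2 : IsPGroup 2 ↥R := Cfsg.Agent.Lib.Helper6.pCore_isPGroup 2
  let S : Sylow 2 G := default
  set Pb : Sylow 2 (G ⧸ N) := S.mapSurjective hπs with hPb
  by_cases hPn : (Pb : Subgroup (G ⧸ N)).Normal
  · exact Or.inl ⟨Pb, hPn⟩
  have hrank : Cfsg.PRankLE 2 1 ↥R := rank_pCore hI S hPn
  have hnot2 : ¬ IsPGroup 2 (G ⧸ N) := by
    intro hX2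
    apply hPn
    have h1 : (⊤ : Subgroup (G ⧸ N)) = (Pb : Subgroup (G ⧸ N)) :=
      Pb.is_maximal' (Q := ⊤) (fun g => by
        obtain ⟨k, hk⟩ := hX2 (g : G ⧸ N)
        exact ⟨k, Subtype.ext hk⟩) le_top
    rw [← h1]
    infer_instance
  have hcent := Cfsg.Agent.S3294.centralizer_pCore_le_of_solvable hXsol hXO
  obtain ⟨x, y, w, c⟩ := Cfsg.Agent.Lib.Helper7.GL23.exists_cfg R hR2 hcent hrank hnot2
  have hRP : R ≤ (Pb : Subgroup (G ⧸ N)) := hR2.le_sylow_of_normal Pb
  rcases c.card_cases with h24 | h48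
  · exfalso
    apply hPn
    obtain ⟨k, hk⟩ := IsPGroup.iff_card.mp Pb.isPGroup'
    have h1 : Nat.card ↥(Pb : Subgroup (G ⧸ N)) ∣ 24 := by
      rw [← h24]
      exact Subgroup.card_subgroup_dvd_card _
    have h2 : 8 ∣ Nat.card ↥(Pb : Subgroup (G ⧸ N)) := by
      rw [← c.hR8]
      exact Subgroup.card_dvd_of_le hRP
    rw [hk] at h1 h2
    have hk5 : k < 5 := by
      by_contra hc
      push Not at hc
      have h3 : 2 ^ 5 ≤ 2 ^ k := Nat.pow_le_pow_right (by norm_num) hc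
      have h5 := Nat.le_of_dvd (by norm_num) h1
      omega
    have hk3 : k = 3 := by
      interval_cases k <;> omega
    have h3 : R = (Pb : Subgroup (G ⧸ N)) := by
      apply Subgroup.eq_of_le_of_card_ge hRP
      rw [hk, hk3, c.hR8]
      norm_num
    rw [← h3]
    infer_instance
  · by_cases hinv : ∃ t : G ⧸ N, t * t = 1 ∧ t ∉ R
    · obtain ⟨t, ht2, htR⟩ := hinv
      exact Or.inr (Or.inl (c.iso_GL23 h48 htR ht2))
    · push Not at hinv
      exact Or.inr (Or.inr ⟨h48, c.card_center, c.quotient_center h48,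
        fun P => c.sylow_quaternion h48 hR2 hinv P⟩)

end Cfsg.Agent.S3304
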