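import Mathlib
import Cfsg.Agent.Lib.Helper6.SylowIdx
import Cfsg.Agent.Lib.Helper6.Conj
import Cfsg.Statements.S3305

set_option autoImplicit false
open Cfsg Cfsg.Agent.Lib.Helper6
open scoped commutatorElement

namespace Cfsg.Agent.S3305

/-- If any two distinct Sylow 2-subgroups of the finite group G intersect in a cyclic group, then the same holds in every quotient group G/H, H a normal subgroup of G. -/
theorem result {G : Type*} [Group G] [Finite G]
    (hC : ∀ S T : Sylow 2 G, S ≠ T → IsCyclic ↥((S : Subgroup G) ⊓ (T : Subgroup G))) (H : Subgroup G) [H.Normal] :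
    ∀ S T : Sylow 2 (G ⧸ H), S ≠ T → IsCyclic ↥((S : Subgroup (G ⧸ H)) ⊓ (T : Subgroup (G ⧸ H))) := by
  classical
  haveI : Fact (Nat.Prime 2) := ⟨Nat.prime_two⟩
  intro Sbar Tbar hne
  set π := QuotientGroup.mk' H with hπ
  have hπs : Function.Surjective π := QuotientGroup.mk'_surjective H
  obtain ⟨S₁, hS₁⟩ := Sylow.mapSurjective_surjective hπs 2 Sbar
  obtain ⟨S₂, hS₂⟩ := Sylow.mapSurjective_surjective hπs 2 Tbar
  have hS₁' : (Sbar : Subgroup (G ⧸ H)) = (S₁ : Subgroup G).map π := by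
    rw [← hS₁, Sylow.coe_mapSurjective]
  have hS₂' : (Tbar : Subgroup (G ⧸ H)) = (S₂ : Subgroup G).map π := by
    rw [← hS₂, Sylow.coe_mapSurjective]
  set D := (Sbar : Subgroup (G ⧸ H)) ⊓ (Tbar : Subgroup (G ⧸ H)) with hD
  set R₂ : Subgroup G := (S₂ : Subgroup G) ⊓ D.comap π with hR₂
  have hR₂map : R₂.map π = D := by
    apply le_antisymm
    · rintro _ ⟨x, hx, rfl⟩
      exact (Subgroup.mem_inf.mp hx).2
    · intro d hd
      have h1 : d ∈ (S₂ : Subgroup G).map π := by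
        rw [← hS₂']; exact (Subgroup.mem_inf.mp hd).2
      obtain ⟨s, hs, rfl⟩ := h1
      exact ⟨s, Subgroup.mem_inf.mpr ⟨hs, hd⟩, rfl⟩
  set K : Subgroup G := (S₁ : Subgroup G) ⊔ H with hK
  have hR₂K : R₂ ≤ K := by
    intro x hx
    have h1 : π x ∈ (S₁ : Subgroup G).map π := by
      rw [← hS₁']
      exact (Subgroup.mem_inf.mp (Subgroup.mem_inf.mp hx).2).1
    obtain ⟨s, hs, hsx⟩ := h1
    have h2 : s⁻¹ * x ∈ H := by
      rw [← QuotientGroup.eq]
      exact hsx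
    have : x = s * (s⁻¹ * x) := by group
    rw [this]
    exact Subgroup.mul_mem _ (Subgroup.mem_sup_left hs) (Subgroup.mem_sup_right h2)
  have hR₂p : IsPGroup 2 R₂ := S₂.isPGroup'.to_le inf_le_left
  obtain ⟨c, hc, R, hRK, hRp, hS₁R, hR₂R⟩ := exists_common_pGroup (p := 2) K (S₁ : Subgroup G) R₂
    le_sup_left hR₂K S₁.isPGroup' hR₂p
  have hRS : R = (S₁ : Subgroup G) := S₁.is_maximal' hRp hS₁R
  rw [hRS] at hR₂R
  obtain ⟨s, hs, h, hh, hsh⟩ := Subgroup.mem_sup_of_normal_right.mp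
    (show c ∈ (S₁ : Subgroup G) ⊔ H from hc)
  -- conjugation by `h` sends `R₂` into `S₁`
  have hconj : ∀ x ∈ R₂, h * x * h⁻¹ ∈ (S₁ : Subgroup G) := by
    intro x hx
    have h1 : c * x * c⁻¹ ∈ (S₁ : Subgroup G) := by
      apply hR₂R
      rw [mem_map_conj]
      have : c⁻¹ * (c * x * c⁻¹) * c = x := by group
      rw [this]; exact hx
    have h2 : h * x * h⁻¹ = s⁻¹ * (c * x * c⁻¹) * s := by
      rw [← hsh]; group
    rw [h2]
    exact Subgroup.mul_mem _ (Subgroup.mul_mem _ (Subgroup.inv_mem _ hs) h1) hs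
  set S₁' : Sylow 2 G := h⁻¹ • S₁ with hS₁'def
  have hmem : ∀ x : G, x ∈ (S₁' : Subgroup G) ↔ h * x * h⁻¹ ∈ (S₁ : Subgroup G) := by
    intro x
    rw [hS₁'def, sylow_smul_eq_map_conj, mem_map_conj, inv_inv]
  have hneS : S₁' ≠ S₂ := by
    intro heq
    apply hne
    apply Sylow.ext
    rw [hS₁', hS₂', ← heq]
    apply le_antisymm
    · rintro _ ⟨x, hx, rfl⟩
      refine ⟨h⁻¹ * x * h, ?_, ?_⟩
      · show h⁻¹ * x * h ∈ (S₁' : Subgroup G)
        rw [hmem]
        have : h * (h⁻¹ * x * h) * h⁻¹ = x := by group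
        rw [this]; exact hx
      · have hh1 : π h = 1 := (QuotientGroup.eq_one_iff h).mpr hh
        rw [map_mul, map_mul, map_inv, hh1]; simp
    · rintro _ ⟨x, hx, rfl⟩
      refine ⟨h * x * h⁻¹, (hmem x).mp hx, ?_⟩
      have hh1 : π h = 1 := (QuotientGroup.eq_one_iff h).mpr hh
      rw [map_mul, map_mul, map_inv, hh1]; simp
  have hcyc : IsCyclic ↥((S₁' : Subgroup G) ⊓ (S₂ : Subgroup G)) := hC S₁' S₂ hneS
  have hR₂le : R₂ ≤ (S₁' : Subgroup G) ⊓ (S₂ : Subgroup G) := by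
    intro x hx
    exact Subgroup.mem_inf.mpr ⟨(hmem x).mpr (hconj x hx), (Subgroup.mem_inf.mp hx).1⟩
  haveI := hcyc
  have hR₂cyc : IsCyclic R₂ := by
    have e := Subgroup.subgroupOfEquivOfLe hR₂le
    have : IsCyclic (R₂.subgroupOf ((S₁' : Subgroup G) ⊓ (S₂ : Subgroup G))) := inferInstance
    exact isCyclic_of_surjective e e.surjective
  haveI := hR₂cyc
  have hmapcyc : IsCyclic (R₂.map π) :=
    isCyclic_of_surjective (π.subgroupMap R₂) (π.subgroupMap_surjective R₂)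
  rw [hR₂map] at hmapcyc
  exact hmapcyc

end Cfsg.Agent.S3305
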