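import Cfsg.Statements.S3313
import Cfsg.Agent.Lib.Helper6.HJ7
import Cfsg.Agent.S0213

set_option autoImplicit false
open Cfsg

namespace Cfsg.Agent.S3313

/-- The order of a simple group with the involution pattern of the Hall–Janko group. Let G be a non-abelian finite simple group with exactly two conjugacy classes of involutions, represented by z and t, such that: F*(C_G(z)) is an extraspecial 2-group; Q = O₂(C_G(z)) has order 32 and C_G(z) is the semidirect product of Q by a subgroup isomorphic to A₅; every involution of Q is conjugate to z and every other involution of C_G(z) is conjugate to t; C_G(t) is an internal direct product V × B with V a four-group containing t and B ≅ A₅; every involution of B is conjugate to z and every other involution of C_G(t) is conjugate to t. Then |G| = 604800. -/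
theorem result {G : Type*} [Group G] [Finite G]
    [IsSimpleGroup G] (hna : ¬ IsMulCommutative G) (z t : G) (hz : orderOf z = 2) (ht : orderOf t = 2)
    (hzt : ¬ IsConj z t) (hcl : ∀ x : G, orderOf x = 2 → IsConj x z ∨ IsConj x t)
    (hex : Cfsg.IsExtraspecial 2 ↥(Cfsg.generalizedFittingSubgroup ↥(Subgroup.centralizer ({z} : Set G))))
    (hQ : Nat.card ↥(Cfsg.pCore 2 ↥(Subgroup.centralizer ({z} : Set G))) = 32)
    (K : Subgroup G) (hK : Nonempty (↥K ≃* alternatingGroup (Fin 5)))
    (hKC : K ⊔ (Cfsg.pCore 2 ↥(Subgroup.centralizer ({z} : Set G))).map (Subgroup.centralizer ({z} : Set G)).subtype = Subgroup.centralizer ({z} : Set G))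
    (hKQ : K ⊓ (Cfsg.pCore 2 ↥(Subgroup.centralizer ({z} : Set G))).map (Subgroup.centralizer ({z} : Set G)).subtype = ⊥)
    (hQz : ∀ x ∈ (Cfsg.pCore 2 ↥(Subgroup.centralizer ({z} : Set G))).map (Subgroup.centralizer ({z} : Set G)).subtype, orderOf x = 2 → IsConj x z)
    (hCz : ∀ x ∈ Subgroup.centralizer ({z} : Set G), orderOf x = 2 →
      x ∉ (Cfsg.pCore 2 ↥(Subgroup.centralizer ({z} : Set G))).map (Subgroup.centralizer ({z} : Set G)).subtype → IsConj x t)
    (V B : Subgroup G) (hVB : Cfsg.IsInternalDirectProduct V B (Subgroup.centralizer ({t} : Set G)))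
    (hV : Nat.card ↥V = 4) (hV2 : ∀ v ∈ V, v ^ 2 = 1) (htV : t ∈ V) (hB : Nonempty (↥B ≃* alternatingGroup (Fin 5)))
    (hBz : ∀ x ∈ B, orderOf x = 2 → IsConj x z)
    (hCt : ∀ x ∈ Subgroup.centralizer ({t} : Set G), orderOf x = 2 → x ∉ B → IsConj x t) :
    Nat.card G = 604800 := by
  classical
  obtain ⟨hzz, hz1⟩ := Cfsg.Agent.Lib.Helper6.HJ.invol_of_orderOf hz
  obtain ⟨htt, ht1⟩ := Cfsg.Agent.Lib.Helper6.HJ.invol_of_orderOf ht
  have hcfg := Cfsg.Agent.Lib.Helper6.HJ.cfg_of_hyps z hz hex hQ K hK hKC hKQ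
  have hZZ : Cfsg.Agent.Lib.Helper6.HJ.ZZ z t
      ((Cfsg.pCore 2 ↥(Subgroup.centralizer ({z} : Set G))).map
        (Subgroup.centralizer ({z} : Set G)).subtype) K :=
    ⟨hcfg, fun x hx hxx hx1 => hQz x hx (Cfsg.Agent.Lib.Helper6.HJ.orderOf_of_invol hxx hx1),
      fun x hxz hxx hx1 hxQ => hCz x ((Cfsg.Agent.Lib.Helper6.HJ.mem_cent_iff z x).mpr hxz)
        (Cfsg.Agent.Lib.Helper6.HJ.orderOf_of_invol hxx hx1) hxQ⟩
  obtain ⟨hVC, hBC, hcomm, hinf, hsup⟩ := hVB
  have hTT : Cfsg.Agent.Lib.Helper6.HJ.TT z t V B := by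
    refine ⟨hzz, hz1, htt, ht1, htV, hV, ?_, ?_, ?_, hcomm, ?_, ?_, hB, ?_, ?_, hzt⟩
    · intro a ha
      rw [← pow_two]
      exact hV2 a ha
    · intro a ha
      exact (Cfsg.Agent.Lib.Helper6.HJ.mem_cent_iff t a).mp (hVC ha)
    · intro b hb
      exact (Cfsg.Agent.Lib.Helper6.HJ.mem_cent_iff t b).mp (hBC hb)
    · intro x hxV hxB
      have : x ∈ V ⊓ B := ⟨hxV, hxB⟩
      rw [hinf] at this
      exact Subgroup.mem_bot.mp this
    · intro c hc
      have hc' : c ∈ V ⊔ B := by
        rw [hsup]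
        exact (Cfsg.Agent.Lib.Helper6.HJ.mem_cent_iff t c).mpr hc
      refine Cfsg.Agent.Lib.Helper6.HJ.dec_of_sup V B ?_ hc'
      intro b hb a ha
      have : b * a * b⁻¹ = a := by
        rw [← hcomm a ha b hb]; group
      rw [this]
      exact ha
    · intro x hx hxx hx1
      exact hBz x hx (Cfsg.Agent.Lib.Helper6.HJ.orderOf_of_invol hxx hx1)
    · intro x hxt hxx hx1 hxB
      exact hCt x ((Cfsg.Agent.Lib.Helper6.HJ.mem_cent_iff t x).mpr hxt)
        (Cfsg.Agent.Lib.Helper6.HJ.orderOf_of_invol hxx hx1) hxB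
  have hall : ∀ x : G, orderOf x = 2 → IsConj z x ∨ IsConj t x := by
    intro x hx
    rcases hcl x hx with h | h
    · left; exact h.symm
    · right; exact h.symm
  rw [Cfsg.Agent.S0213.result z t hz ht hzt hall, hZZ.n1 hTT, hTT.n2, hTT.card_Ct, hcfg.card_Cz]

end Cfsg.Agent.S3313
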