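import Mathlib
import Cfsg.Statements.S3335

set_option autoImplicit false
open Cfsg

namespace Cfsg.Agent.S3335

open scoped commutatorElement

section helpers

/-- Carmichael's relators on `k` generators -/
def R (k : ℕ) : Set (FreeGroup (Fin k)) :=
  {g : FreeGroup (Fin k) | ∃ i : Fin k, i.val = 0 ∧ g = FreeGroup.of i ^ 3} ∪
  {g | ∃ i : Fin k, 1 ≤ i.val ∧ g = FreeGroup.of i ^ 2} ∪
  {g | ∃ i j : Fin k, j.val = i.val + 1 ∧ g = (FreeGroup.of i * FreeGroup.of j) ^ 3} ∪
  {g | ∃ i j : Fin k, i.val + 1 < j.val ∧ g = (FreeGroup.of i * FreeGroup.of j) ^ 2}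

abbrev P (k : ℕ) : Type := PresentedGroup (R k)

example (k : ℕ) : k + 2 - 2 = k := rfl

/-- generators indexed by naturals (trivial out of range) -/
noncomputable def X (k i : ℕ) : P k :=
  if h : i < k then PresentedGroup.of (⟨i, h⟩ : Fin k) else 1

theorem X_of_lt {k i : ℕ} (h : i < k) : X k i = PresentedGroup.of (⟨i, h⟩ : Fin k) := dif_pos h
theorem X_of_ge {k i : ℕ} (h : k ≤ i) : X k i = 1 := dif_neg (by omega)

theorem X0_cube (k : ℕ) : X k 0 ^ 3 = 1 := by
  by_cases h : 0 < k
  · rw [X_of_lt h]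
    show PresentedGroup.mk (R k) (FreeGroup.of ⟨0, h⟩) ^ 3 = 1
    rw [← map_pow]
    apply PresentedGroup.one_of_mem
    exact Or.inl (Or.inl (Or.inl ⟨⟨0, h⟩, rfl, rfl⟩))
  · rw [X_of_ge (by omega), one_pow]

theorem X_sq {k i : ℕ} (hi : 1 ≤ i) : X k i ^ 2 = 1 := by
  by_cases h : i < k
  · rw [X_of_lt h]
    show PresentedGroup.mk (R k) (FreeGroup.of ⟨i, h⟩) ^ 2 = 1
    rw [← map_pow]
    apply PresentedGroup.one_of_mem
    exact Or.inl (Or.inl (Or.inr ⟨⟨i, h⟩, hi, rfl⟩))
  · rw [X_of_ge (by omega), one_pow]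

theorem X_consec {k i : ℕ} (h : i + 1 < k) : (X k i * X k (i + 1)) ^ 3 = 1 := by
  rw [X_of_lt (show i < k by omega), X_of_lt h]
  show (PresentedGroup.mk (R k) (FreeGroup.of ⟨i, _⟩) *
    PresentedGroup.mk (R k) (FreeGroup.of ⟨i + 1, _⟩)) ^ 3 = 1
  rw [← map_mul, ← map_pow]
  apply PresentedGroup.one_of_mem
  exact Or.inl (Or.inr ⟨⟨i, by omega⟩, ⟨i + 1, h⟩, rfl, rfl⟩)

theorem X_far {k i j : ℕ} (hij : i + 1 < j) (h : j < k) : (X k i * X k j) ^ 2 = 1 := by
  rw [X_of_lt (show i < k by omega), X_of_lt h]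
  show (PresentedGroup.mk (R k) (FreeGroup.of ⟨i, _⟩) *
    PresentedGroup.mk (R k) (FreeGroup.of ⟨j, _⟩)) ^ 2 = 1
  rw [← map_mul, ← map_pow]
  apply PresentedGroup.one_of_mem
  exact Or.inr ⟨⟨i, by omega⟩, ⟨j, h⟩, hij, rfl⟩

theorem X_inv {k i : ℕ} (hi : 1 ≤ i) : (X k i)⁻¹ = X k i := by
  have h := X_sq (k := k) hi
  rw [pow_two] at h
  exact inv_eq_of_mul_eq_one_left h

theorem X_comm {k i j : ℕ} (hi : 1 ≤ i) (hij : i + 1 < j) : X k i * X k j = X k j * X k i := by
  by_cases h : j < k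
  · have h1 := X_far hij h
    rw [pow_two] at h1
    have h3 : X k i * X k j = (X k i * X k j)⁻¹ := eq_inv_of_mul_eq_one_left h1
    rw [mul_inv_rev, X_inv hi, X_inv (show 1 ≤ j by omega)] at h3
    exact h3
  · rw [X_of_ge (show k ≤ j by omega), mul_one, one_mul]

theorem X_comm' {k i j : ℕ} (hi : 1 ≤ i) (hj : 1 ≤ j) (hij : i + 1 < j ∨ j + 1 < i) :
    X k i * X k j = X k j * X k i := by
  rcases hij with h | h
  · exact X_comm hi h
  · exact (X_comm hj h).symm

theorem X0_inv (k : ℕ) : (X k 0)⁻¹ = X k 0 * X k 0 := by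
  have h := X0_cube k
  rw [pow_succ, pow_two] at h
  exact inv_eq_of_mul_eq_one_left h

theorem X_mul_X0 {k j : ℕ} (hj : 2 ≤ j) (h : j < k) : X k j * X k 0 = (X k 0)⁻¹ * X k j := by
  have h1 := X_far (show 0 + 1 < j by omega) h
  rw [pow_two] at h1
  have e : X k j * X k 0 = (X k 0)⁻¹ * (X k 0 * X k j * (X k 0 * X k j)) * (X k j)⁻¹ := by group
  rw [e, h1, mul_one, X_inv (show 1 ≤ j by omega)]

theorem X_mul_X0_inv {k j : ℕ} (hj : 2 ≤ j) (h : j < k) :
    X k j * (X k 0)⁻¹ = X k 0 * X k j := by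
  have h1 := X_mul_X0 hj h
  have e : X k j * (X k 0)⁻¹ = X k 0 * ((X k 0)⁻¹ * X k j) * (X k 0)⁻¹ := by group
  rw [e, ← h1]; group

theorem X_braid {k i : ℕ} (hi : 1 ≤ i) (h : i + 1 < k) :
    X k i * X k (i + 1) * X k i = X k (i + 1) * X k i * X k (i + 1) := by
  have h1 := X_consec h
  have h3 : X k i * X k (i + 1) * X k i * (X k (i + 1) * X k i * X k (i + 1)) = 1 := by
    rw [← h1, pow_succ, pow_two]
    group
  have h4 := eq_inv_of_mul_eq_one_left h3
  rw [mul_inv_rev, mul_inv_rev, X_inv hi, X_inv (show 1 ≤ i + 1 by omega), ← mul_assoc] at h4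
  exact h4

/-- `x₁ x₀ x₁ = x₀⁻¹ x₁ x₀⁻¹` -/
theorem X101 {k : ℕ} (h : 1 < k) :
    X k 1 * X k 0 * X k 1 = (X k 0)⁻¹ * X k 1 * (X k 0)⁻¹ := by
  have h1 := X_consec (show 0 + 1 < k by omega)
  rw [zero_add] at h1
  have h3 : X k 0 * X k 1 * X k 0 * (X k 1 * X k 0 * X k 1) = 1 := by
    rw [← h1, pow_succ, pow_two]
    group
  have h4 := eq_inv_of_mul_eq_one_right h3
  rw [h4, mul_inv_rev, mul_inv_rev, X_inv (le_refl 1), ← mul_assoc]

/-- `x₁ x₀⁻¹ x₁ = x₀ x₁ x₀` -/
theorem X101' {k : ℕ} (h : 1 < k) :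
    X k 1 * (X k 0)⁻¹ * X k 1 = X k 0 * X k 1 * X k 0 := by
  have h1 := X101 h
  have e : X k 1 * (X k 0)⁻¹ * X k 1 = (X k 1 * X k 0 * X k 1)⁻¹ := by
    rw [mul_inv_rev, mul_inv_rev, X_inv (le_refl 1), ← mul_assoc]
  rw [e, h1, mul_inv_rev, mul_inv_rev, inv_inv, X_inv (le_refl 1), ← mul_assoc]

section embed

theorem psi_rel (k : ℕ) : ∀ r ∈ R k,
    FreeGroup.lift (fun i : Fin k => X (k + 1) i.val) r = 1 := by
  rintro r (((⟨i, hi, rfl⟩ | ⟨i, hi, rfl⟩) | ⟨i, j, hij, rfl⟩) | ⟨i, j, hij, rfl⟩)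
  · rw [map_pow, FreeGroup.lift_apply_of, hi, X0_cube]
  · rw [map_pow, FreeGroup.lift_apply_of, X_sq hi]
  · rw [map_pow, map_mul, FreeGroup.lift_apply_of, FreeGroup.lift_apply_of, hij]
    exact X_consec (by omega)
  · rw [map_pow, map_mul, FreeGroup.lift_apply_of, FreeGroup.lift_apply_of]
    exact X_far hij (by omega)

/-- the natural map -/
noncomputable def psi (k : ℕ) : P k →* P (k + 1) :=
  PresentedGroup.toGroup (psi_rel k)

theorem psi_X (k i : ℕ) (hi : i < k) : psi k (X k i) = X (k + 1) i := by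
  rw [X_of_lt hi]
  unfold psi
  rw [PresentedGroup.toGroup.of]

end embed

section cosets

/-- coset representatives `c k j = x_k x_{k-1} ⋯ x_{k-j+1}` (then `x₀`, `x₀²`) -/
noncomputable def c (k : ℕ) : ℕ → P (k + 1)
  | 0 => 1
  | j + 1 => c k j * X (k + 1) (k - j)

theorem c_zero (k : ℕ) : c k 0 = 1 := rfl

theorem c_succ (k j : ℕ) : c k (j + 1) = c k j * X (k + 1) (k - j) := rfl

theorem c_comm (k : ℕ) : ∀ (j i : ℕ), 1 ≤ i → i + j < k →
    X (k + 1) i * c k j = c k j * X (k + 1) i := by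
  intro j
  induction j with
  | zero =>
    intro i _ _
    rw [c_zero, mul_one, one_mul]
  | succ j ih =>
    intro i hi1 hi
    rw [c_succ, ← mul_assoc, ih i hi1 (by omega), mul_assoc,
      X_comm hi1 (show i + 1 < k - j by omega), mul_assoc]

theorem c_Z0 (k : ℕ) : ∀ j : ℕ, j < k → ∀ z : P (k + 1),
    (z = X (k + 1) 0 ∨ z = (X (k + 1) 0)⁻¹) →
    ∃ z' : P (k + 1), (z' = X (k + 1) 0 ∨ z' = (X (k + 1) 0)⁻¹) ∧ c k j * z = z' * c k j := by
  intro j
  induction j with
  | zero =>
    intro _ z hz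
    exact ⟨z, hz, by rw [c_zero, mul_one, one_mul]⟩
  | succ j ih =>
    intro hj z hz
    have hl2 : 2 ≤ k - j := by omega
    have hlk : k - j < k + 1 := by omega
    rcases hz with rfl | rfl
    · obtain ⟨z', hz', h⟩ := ih (by omega) ((X (k + 1) 0)⁻¹) (Or.inr rfl)
      refine ⟨z', hz', ?_⟩
      rw [c_succ, mul_assoc, X_mul_X0 hl2 hlk, ← mul_assoc, h, mul_assoc]
    · obtain ⟨z', hz', h⟩ := ih (by omega) (X (k + 1) 0) (Or.inl rfl)
      refine ⟨z', hz', ?_⟩
      rw [c_succ, mul_assoc, X_mul_X0_inv hl2 hlk, ← mul_assoc, h, mul_assoc]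

theorem c_shift (k : ℕ) : ∀ (j i : ℕ), j ≤ k → k + 1 < i + j → i ≤ k →
    c k j * X (k + 1) i = X (k + 1) (i - 1) * c k j := by
  intro j
  induction j with
  | zero =>
    intro i _ h1 h2
    omega
  | succ j ih =>
    intro i h0 h1 h2
    by_cases h3 : i + j = k + 1
    · obtain ⟨j', rfl⟩ : ∃ j', j = j' + 1 := ⟨j - 1, by omega⟩
      have e1 : i = k - (j' + 1) + 1 := by omega
      have e2 : k - j' = k - (j' + 1) + 1 := by omega
      have e3 : i - 1 = k - (j' + 1) := by omega
      rw [c_succ, c_succ, e3, e1, e2]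
      set l := k - (j' + 1) with hl
      have hl1 : 1 ≤ l := by omega
      have hb := X_braid (k := k + 1) hl1 (by omega)
      have hc := c_comm k j' l hl1 (by omega)
      calc c k j' * X (k + 1) (l + 1) * X (k + 1) l * X (k + 1) (l + 1)
          = c k j' * (X (k + 1) (l + 1) * X (k + 1) l * X (k + 1) (l + 1)) := by group
        _ = c k j' * (X (k + 1) l * X (k + 1) (l + 1) * X (k + 1) l) := by rw [hb]
        _ = (c k j' * X (k + 1) l) * X (k + 1) (l + 1) * X (k + 1) l := by group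
        _ = (X (k + 1) l * c k j') * X (k + 1) (l + 1) * X (k + 1) l := by rw [hc]
        _ = X (k + 1) l * (c k j' * X (k + 1) (l + 1) * X (k + 1) l) := by group
    · rw [c_succ, mul_assoc, X_comm (show 1 ≤ k - j by omega) (show k - j + 1 < i by omega),
        ← mul_assoc, ih i (by omega) (by omega) h2, mul_assoc]

theorem right_ind (k : ℕ) (p : P k → Prop) (h1 : p 1)
    (hs : ∀ w i, i < k → p w → p (w * X k i)) : ∀ w, p w := by
  let S : Submonoid (P k) :=
    { carrier := {g | ∀ w, p w → p (w * g)}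
      one_mem' := fun w hw => by rwa [mul_one]
      mul_mem' := fun {a b} ha hb w hw => by
        rw [← mul_assoc]
        exact hb _ (ha _ hw) }
  have hgen : ∀ i : Fin k, PresentedGroup.of i ∈ S := by
    intro i w hw
    have := hs w i.val i.2 hw
    rwa [X_of_lt i.2] at this
  have hgeninv : ∀ i : Fin k, (PresentedGroup.of i : P k)⁻¹ ∈ S := by
    intro i
    by_cases hi : 1 ≤ i.val
    · have h2 := X_inv (k := k) hi
      rw [X_of_lt i.2] at h2
      rw [h2]; exact hgen i
    · have hi0 : i.val = 0 := by omega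
      have h2 := X0_inv k
      have hlt : 0 < k := by have := i.2; omega
      rw [X_of_lt hlt] at h2
      have e : i = ⟨0, hlt⟩ := Fin.ext hi0
      rw [e, h2]
      exact S.mul_mem (hgen _) (hgen _)
  have hall : ∀ w : P k, w ∈ S := by
    intro w
    induction w using PresentedGroup.induction_on with
    | H z =>
      induction z using FreeGroup.induction_on with
      | C1 => exact S.one_mem
      | of x => exact hgen x
      | inv_of x _ =>
        rw [map_inv]
        exact hgeninv x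
      | mul x y hx hy =>
        rw [map_mul]
        exact S.mul_mem hx hy
  intro w
  have := hall w 1 h1
  rwa [one_mul] at this

theorem psi_Z0 (k : ℕ) (hk : 0 < k) (z : P (k + 1))
    (hz : z = X (k + 1) 0 ∨ z = (X (k + 1) 0)⁻¹) : ∃ h : P k, psi k h = z := by
  rcases hz with rfl | rfl
  · exact ⟨X k 0, psi_X k 0 hk⟩
  · exact ⟨(X k 0)⁻¹, by rw [map_inv, psi_X k 0 hk]⟩

theorem exists_rep (k : ℕ) (w : P (k + 1)) :
    ∃ (h : P k) (j : ℕ), j ≤ k + 2 ∧ w = psi k h * c k j := by
  refine right_ind (k + 1) (fun w => ∃ (h : P k) (j : ℕ), j ≤ k + 2 ∧ w = psi k h * c k j)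
    ⟨1, 0, by omega, by rw [map_one, c_zero, mul_one]⟩ ?_ w
  rintro w i hi ⟨h, j, hj, rfl⟩
  have hi' : i ≤ k := by omega
  by_cases hjk : j ≤ k
  · rcases lt_trichotomy (i + j) k with h1 | h1 | h1
    · -- commutes
      by_cases hi1 : 1 ≤ i
      · refine ⟨h * X k i, j, hj, ?_⟩
        rw [map_mul, psi_X k i (by omega), mul_assoc, mul_assoc, c_comm k j i hi1 h1]
      · have hi0 : i = 0 := by omega
        subst hi0
        obtain ⟨z', hz', hcz⟩ := c_Z0 k j (by omega) (X (k + 1) 0) (Or.inl rfl)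
        obtain ⟨h', hh'⟩ := psi_Z0 k (by omega) z' hz'
        refine ⟨h * h', j, hj, ?_⟩
        rw [map_mul, hh', mul_assoc, mul_assoc, hcz]
    · refine ⟨h, j + 1, by omega, ?_⟩
      rw [c_succ, mul_assoc]
      congr 3
      omega
    · by_cases h2 : i + j = k + 1
      · obtain ⟨j', rfl⟩ : ∃ j', j = j' + 1 := ⟨j - 1, by omega⟩
        refine ⟨h, j', by omega, ?_⟩
        have e1 : i = k - j' := by omega
        have hi1 : 1 ≤ k - j' := by omega
        rw [c_succ, e1, mul_assoc, mul_assoc, ← pow_two, X_sq hi1, mul_one]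
      · refine ⟨h * X k (i - 1), j, hj, ?_⟩
        rw [map_mul, psi_X k (i - 1) (by omega), mul_assoc, mul_assoc,
          c_shift k j i hjk (by omega) hi']
  · -- the two bottom cosets
    have hck1 : c k (k + 1) = c k k * X (k + 1) 0 := by rw [c_succ, Nat.sub_self]
    have hck2 : c k (k + 2) = c k k * X (k + 1) 0 * X (k + 1) 0 := by
      rw [c_succ, hck1]
      congr 1
      have : k - (k + 1) = 0 := by omega
      rw [this]
    rcases (show j = k + 1 ∨ j = k + 2 by omega) with rfl | rfl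
    · rcases (show i = 0 ∨ i = 1 ∨ 2 ≤ i by omega) with rfl | rfl | hi2
      · refine ⟨h, k + 2, by omega, ?_⟩
        rw [hck2, hck1]; group
      · -- i = 1
        obtain ⟨k', rfl⟩ : ∃ k', k = k' + 1 := ⟨k - 1, by omega⟩
        have hck : c (k' + 1) (k' + 1) = c (k' + 1) k' * X (k' + 1 + 1) 1 := by
          rw [c_succ]
          congr 2
          omega
        obtain ⟨z', hz', hcz⟩ := c_Z0 (k' + 1) k' (by omega) ((X (k' + 1 + 1) 0)⁻¹) (Or.inr rfl)
        obtain ⟨h', hh'⟩ := psi_Z0 (k' + 1) (by omega) z' hz'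
        refine ⟨h * h', k' + 1 + 2, by omega, ?_⟩
        rw [map_mul, hh', hck1, hck2, hck]
        have e : c (k' + 1) k' * X (k' + 1 + 1) 1 * X (k' + 1 + 1) 0 * X (k' + 1 + 1) 1
            = c (k' + 1) k' * (X (k' + 1 + 1) 1 * X (k' + 1 + 1) 0 * X (k' + 1 + 1) 1) := by group
        rw [mul_assoc (psi (k' + 1) h), e, X101 (by omega)]
        have e2 : c (k' + 1) k' * ((X (k' + 1 + 1) 0)⁻¹ * X (k' + 1 + 1) 1 * (X (k' + 1 + 1) 0)⁻¹)
            = (c (k' + 1) k' * (X (k' + 1 + 1) 0)⁻¹) * X (k' + 1 + 1) 1 * (X (k' + 1 + 1) 0)⁻¹ := by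
          group
        rw [e2, hcz, X0_inv]
        group
      · refine ⟨h * X k (i - 1), k + 2, by omega, ?_⟩
        rw [map_mul, psi_X k (i - 1) (by omega), hck1, hck2]
        have e : psi k h * (c k k * X (k + 1) 0) * X (k + 1) i
            = psi k h * (c k k * (X (k + 1) 0 * X (k + 1) i)) := by group
        rw [e, ← X_mul_X0_inv hi2 hi]
        have e2 : psi k h * (c k k * (X (k + 1) i * (X (k + 1) 0)⁻¹))
            = psi k h * ((c k k * X (k + 1) i) * (X (k + 1) 0)⁻¹) := by group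
        rw [e2, c_shift k k i le_rfl (by omega) hi', X0_inv]
        group
    · rcases (show i = 0 ∨ i = 1 ∨ 2 ≤ i by omega) with rfl | rfl | hi2
      · refine ⟨h, k, by omega, ?_⟩
        rw [hck2]
        have e : psi k h * (c k k * X (k + 1) 0 * X (k + 1) 0) * X (k + 1) 0
            = psi k h * (c k k * (X (k + 1) 0) ^ 3) := by
          rw [pow_succ, pow_two]; group
        rw [e, X0_cube, mul_one]
      · obtain ⟨k', rfl⟩ : ∃ k', k = k' + 1 := ⟨k - 1, by omega⟩
        have hck : c (k' + 1) (k' + 1) = c (k' + 1) k' * X (k' + 1 + 1) 1 := by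
          rw [c_succ]
          congr 2
          omega
        obtain ⟨z', hz', hcz⟩ := c_Z0 (k' + 1) k' (by omega) (X (k' + 1 + 1) 0) (Or.inl rfl)
        obtain ⟨h', hh'⟩ := psi_Z0 (k' + 1) (by omega) z' hz'
        refine ⟨h * h', k' + 1 + 1, by omega, ?_⟩
        rw [map_mul, hh', hck1, hck2, hck]
        have e : psi (k' + 1) h * (c (k' + 1) k' * X (k' + 1 + 1) 1 * X (k' + 1 + 1) 0 *
            X (k' + 1 + 1) 0) * X (k' + 1 + 1) 1
            = psi (k' + 1) h * (c (k' + 1) k' * (X (k' + 1 + 1) 1 * (X (k' + 1 + 1) 0 *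
              X (k' + 1 + 1) 0) * X (k' + 1 + 1) 1)) := by group
        rw [e, ← X0_inv, X101' (by omega)]
        have e2 : c (k' + 1) k' * (X (k' + 1 + 1) 0 * X (k' + 1 + 1) 1 * X (k' + 1 + 1) 0)
            = (c (k' + 1) k' * X (k' + 1 + 1) 0) * X (k' + 1 + 1) 1 * X (k' + 1 + 1) 0 := by
          group
        rw [e2, hcz]
        group
      · refine ⟨h * X k (i - 1), k + 1, by omega, ?_⟩
        rw [map_mul, psi_X k (i - 1) (by omega), hck1, hck2]
        have e : psi k h * (c k k * X (k + 1) 0 * X (k + 1) 0) * X (k + 1) i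
            = psi k h * (c k k * ((X (k + 1) 0 * X (k + 1) 0) * X (k + 1) i)) := by group
        rw [e, ← X0_inv, ← X_mul_X0 hi2 hi]
        have e2 : psi k h * (c k k * (X (k + 1) i * X (k + 1) 0))
            = psi k h * ((c k k * X (k + 1) i) * X (k + 1) 0) := by group
        rw [e2, c_shift k k i le_rfl (by omega) hi']
        group

end cosets

section card

theorem subsingleton_P0 : Subsingleton (P 0) := by
  refine ⟨fun a b => ?_⟩
  have h : ∀ w : P 0, w = 1 := by
    intro w
    refine right_ind 0 (fun w => w = 1) rfl ?_ w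
    intro w i hi
    omega
  rw [h a, h b]

theorem finite_card (k : ℕ) : Finite (P k) ∧ Nat.card (P k) * 2 ≤ (k + 2).factorial := by
  induction k with
  | zero =>
    have := subsingleton_P0
    refine ⟨inferInstance, ?_⟩
    rw [Nat.card_of_subsingleton (1 : P 0)]
    decide
  | succ k ih =>
    obtain ⟨hfin, hcard⟩ := ih
    let f : Fin (k + 3) × P k → P (k + 1) := fun p => psi k p.2 * c k p.1
    have hf : Function.Surjective f := by
      intro w
      obtain ⟨h, j, hj, rfl⟩ := exists_rep k w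
      exact ⟨(⟨j, by omega⟩, h), rfl⟩
    have hfin' : Finite (P (k + 1)) := Finite.of_surjective f hf
    refine ⟨hfin', ?_⟩
    calc Nat.card (P (k + 1)) * 2 ≤ Nat.card (Fin (k + 3) × P k) * 2 :=
          Nat.mul_le_mul_right _ (Nat.card_le_card_of_surjective f hf)
      _ = (k + 3) * (Nat.card (P k) * 2) := by
          rw [Nat.card_prod, Nat.card_eq_fintype_card, Fintype.card_fin, mul_assoc]
      _ ≤ (k + 3) * (k + 2).factorial := Nat.mul_le_mul_left _ hcard
      _ = (k + 1 + 2).factorial := by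
          rw [show k + 1 + 2 = (k + 2) + 1 by omega, Nat.factorial_succ (k + 2)]

end card

section perm

open Equiv

theorem swap3_cube {α : Type*} [DecidableEq α] [Fintype α] {a b c : α} (hab : a ≠ b)
    (hac : a ≠ c) (hbc : b ≠ c) : (swap a b * swap b c) ^ 3 = 1 := by
  rw [swap_comm a b]
  have h3 : Equiv.Perm.IsThreeCycle (swap b a * swap b c) :=
    Equiv.Perm.isThreeCycle_swap_mul_swap_same hab.symm hbc hac
  rw [← h3.orderOf]
  exact pow_orderOf_eq_one _

theorem swap22_comm {α : Type*} [DecidableEq α] {a b c d : α} (h : [a, b, c, d].Nodup) :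
    swap a b * swap c d = swap c d * swap a b :=
  (Equiv.Perm.disjoint_swap_swap h).commute.eq

theorem swap22_sq {α : Type*} [DecidableEq α] {a b c d : α} (h : [a, b, c, d].Nodup) :
    (swap a b * swap c d) ^ 2 = 1 := by
  rw [(Equiv.Perm.disjoint_swap_swap h).commute.mul_pow, pow_two, pow_two, swap_mul_self,
    swap_mul_self, one_mul]

theorem swap_conj3 {α : Type*} [DecidableEq α] {a b c : α} (hac : a ≠ c)
    (hbc : b ≠ c) : swap a b * swap b c * swap a b = swap a c := by
  have h := swap_mul_swap_mul_swap (x := c) (y := b) (z := a) hbc.symm hac.symm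
  rw [swap_comm b a, swap_comm c b] at h
  exact h

/-- the `m`-th point of `Fin (k + 2)` -/
def pt (k m : ℕ) : Fin (k + 2) := ⟨m % (k + 2), Nat.mod_lt _ (by omega)⟩

theorem pt_val {k m : ℕ} (h : m < k + 2) : (pt k m).val = m := Nat.mod_eq_of_lt h

theorem pt_ne {k m m' : ℕ} (h : m < k + 2) (h' : m' < k + 2) (hne : m ≠ m') :
    pt k m ≠ pt k m' := by
  intro he
  have := congrArg Fin.val he
  rw [pt_val h, pt_val h'] at this
  exact hne this

/-- the images of the generators -/
def y (k i : ℕ) : Perm (Fin (k + 2)) :=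
  swap (pt k 0) (pt k 1) * swap (pt k (i + 1)) (pt k (i + 2))

theorem nodup4 {k a b c d : ℕ} (ha : a < k + 2) (hb : b < k + 2) (hc : c < k + 2)
    (hd : d < k + 2) (hab : a ≠ b) (hac : a ≠ c) (had : a ≠ d) (hbc : b ≠ c) (hbd : b ≠ d)
    (hcd : c ≠ d) : [pt k a, pt k b, pt k c, pt k d].Nodup := by
  simp only [List.nodup_cons, List.mem_cons, List.not_mem_nil, or_false, not_or,
    List.nodup_nil, and_true, not_false_eq_true]
  exact ⟨⟨pt_ne ha hb hab, pt_ne ha hc hac, pt_ne ha hd had⟩,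
    ⟨pt_ne hb hc hbc, pt_ne hb hd hbd⟩, pt_ne hc hd hcd⟩

theorem y_rel_a {k : ℕ} (hk : 0 < k) : (y k 0) ^ 3 = 1 := by
  unfold y
  exact swap3_cube (pt_ne (by omega) (by omega) (by omega)) (pt_ne (by omega) (by omega) (by omega))
    (pt_ne (by omega) (by omega) (by omega))

theorem y_rel_b {k i : ℕ} (hi : 1 ≤ i) (h : i < k) : (y k i) ^ 2 = 1 := by
  unfold y
  exact swap22_sq (nodup4 (by omega) (by omega) (by omega) (by omega) (by omega) (by omega)
    (by omega) (by omega) (by omega) (by omega))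

/-- for `i ≥ 1`, `y i * y j = t_i * t_j` -/
theorem y_mul_y {k i : ℕ} (hi : 1 ≤ i) (h : i < k) (j : ℕ) :
    y k i * y k j = swap (pt k (i + 1)) (pt k (i + 2)) * swap (pt k (j + 1)) (pt k (j + 2)) := by
  unfold y
  have hc := swap22_comm (nodup4 (k := k) (a := 0) (b := 1) (c := i + 1) (d := i + 2) (by omega)
    (by omega) (by omega) (by omega) (by omega) (by omega) (by omega) (by omega) (by omega)
    (by omega))
  rw [hc, mul_assoc, ← mul_assoc (swap (pt k 0) (pt k 1)), swap_mul_self, one_mul]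

/-- `y 0 * y j = (0 2) * t_j` -/
theorem y0_mul_y {k : ℕ} (hk : 0 < k) (j : ℕ) :
    y k 0 * y k j = swap (pt k 0) (pt k 2) * swap (pt k (j + 1)) (pt k (j + 2)) := by
  unfold y
  rw [← mul_assoc]
  congr 1
  exact swap_conj3 (pt_ne (by omega) (by omega) (by omega)) (pt_ne (by omega) (by omega) (by omega))

theorem y_rel_c {k i : ℕ} (h : i + 1 < k) : (y k i * y k (i + 1)) ^ 3 = 1 := by
  by_cases hi : 1 ≤ i
  · rw [y_mul_y hi (by omega)]
    exact swap3_cube (pt_ne (by omega) (by omega) (by omega))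
      (pt_ne (by omega) (by omega) (by omega)) (pt_ne (by omega) (by omega) (by omega))
  · have hi0 : i = 0 := by omega
    subst hi0
    rw [y0_mul_y (by omega)]
    exact swap3_cube (pt_ne (by omega) (by omega) (by omega))
      (pt_ne (by omega) (by omega) (by omega)) (pt_ne (by omega) (by omega) (by omega))

theorem y_rel_d {k i j : ℕ} (hij : i + 1 < j) (h : j < k) : (y k i * y k j) ^ 2 = 1 := by
  by_cases hi : 1 ≤ i
  · rw [y_mul_y hi (by omega)]
    exact swap22_sq (nodup4 (by omega) (by omega) (by omega) (by omega) (by omega) (by omega)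
      (by omega) (by omega) (by omega) (by omega))
  · have hi0 : i = 0 := by omega
    subst hi0
    rw [y0_mul_y (by omega)]
    exact swap22_sq (nodup4 (by omega) (by omega) (by omega) (by omega) (by omega) (by omega)
      (by omega) (by omega) (by omega) (by omega))

theorem phi_rel (k : ℕ) : ∀ r ∈ R k,
    FreeGroup.lift (fun i : Fin k => y k i.val) r = 1 := by
  rintro r (((⟨i, hi, rfl⟩ | ⟨i, hi, rfl⟩) | ⟨i, j, hij, rfl⟩) | ⟨i, j, hij, rfl⟩)
  · rw [map_pow, FreeGroup.lift_apply_of, hi]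
    exact y_rel_a (by have := i.2; omega)
  · rw [map_pow, FreeGroup.lift_apply_of]
    exact y_rel_b hi i.2
  · rw [map_pow, map_mul, FreeGroup.lift_apply_of, FreeGroup.lift_apply_of, hij]
    exact y_rel_c (by have := j.2; omega)
  · rw [map_pow, map_mul, FreeGroup.lift_apply_of, FreeGroup.lift_apply_of]
    exact y_rel_d hij j.2

/-- the map to the symmetric group -/
noncomputable def phi (k : ℕ) : P k →* Perm (Fin (k + 2)) :=
  PresentedGroup.toGroup (phi_rel k)

theorem phi_X (k i : ℕ) (hi : i < k) : phi k (X k i) = y k i := by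
  rw [X_of_lt hi]
  unfold phi
  rw [PresentedGroup.toGroup.of]

theorem sign_y {k i : ℕ} (h : i < k) : Equiv.Perm.sign (y k i) = 1 := by
  unfold y
  rw [map_mul, Equiv.Perm.sign_swap (pt_ne (by omega) (by omega) (by omega)),
    Equiv.Perm.sign_swap (pt_ne (by omega) (by omega) (by omega))]
  simp

theorem phi_mem_alt (k : ℕ) (w : P k) : phi k w ∈ alternatingGroup (Fin (k + 2)) := by
  rw [Equiv.Perm.mem_alternatingGroup]
  refine right_ind k (fun w => Equiv.Perm.sign (phi k w) = 1) (by simp) ?_ w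
  intro w i hi hw
  rw [map_mul, map_mul, hw, phi_X k i hi, sign_y hi, one_mul]

/-- adjacent transpositions, in terms of `pt` -/
theorem adj_swap (k : ℕ) (i : Fin (k + 1)) :
    swap i.castSucc i.succ = swap (pt k i.val) (pt k (i.val + 1)) := by
  have h1 : i.castSucc = pt k i.val := by
    apply Fin.ext
    rw [pt_val (by have := i.2; omega)]
    rfl
  have h2 : i.succ = pt k (i.val + 1) := by
    apply Fin.ext
    rw [pt_val (by have := i.2; omega)]
    rfl
  rw [h1, h2]

theorem s0_mul_adj_mem (k m : ℕ) (hm : m ≤ k) :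
    swap (pt k 0) (pt k 1) * swap (pt k m) (pt k (m + 1)) ∈ (phi k).range := by
  rcases Nat.eq_zero_or_pos m with rfl | hpos
  · rw [zero_add, swap_mul_self]
    exact Subgroup.one_mem _
  · obtain ⟨m', rfl⟩ : ∃ m', m = m' + 1 := ⟨m - 1, by omega⟩
    exact ⟨X k m', by rw [phi_X k m' (by omega)]; rfl⟩

theorem mem_or_mem (k : ℕ) (w : Perm (Fin (k + 2))) :
    w ∈ (phi k).range ∨ swap (pt k 0) (pt k 1) * w ∈ (phi k).range := by
  have hw : w ∈ Submonoid.closure (Set.range fun i : Fin (k + 1) => swap i.castSucc i.succ) := by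
    rw [Equiv.Perm.mclosure_swap_castSucc_succ]
    exact Submonoid.mem_top w
  induction hw using Submonoid.closure_induction_left with
  | one => exact Or.inl (Subgroup.one_mem _)
  | mul_left x hx v _ ih =>
    obtain ⟨i, rfl⟩ := hx
    show swap i.castSucc i.succ * v ∈ _ ∨ _ * (swap i.castSucc i.succ * v) ∈ _
    rw [adj_swap]
    have hmem := s0_mul_adj_mem k i.val (by have := i.2; omega)
    rcases ih with h | h
    · right
      rw [← mul_assoc]
      exact Subgroup.mul_mem _ hmem h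
    · left
      have e : swap (pt k i.val) (pt k (i.val + 1)) * v
          = (swap (pt k 0) (pt k 1) * swap (pt k i.val) (pt k (i.val + 1)))⁻¹ *
            (swap (pt k 0) (pt k 1) * v) := by
        rw [mul_inv_rev, swap_inv, swap_inv, mul_assoc, ← mul_assoc (swap (pt k 0) (pt k 1)),
          swap_mul_self, one_mul]
      rw [e]
      exact Subgroup.mul_mem _ (Subgroup.inv_mem _ hmem) h

theorem alt_le_range (k : ℕ) : alternatingGroup (Fin (k + 2)) ≤ (phi k).range := by
  intro w hw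
  rcases mem_or_mem k w with h | h
  · exact h
  · exfalso
    obtain ⟨v, hv⟩ := h
    have h1 := phi_mem_alt k v
    rw [hv, Equiv.Perm.mem_alternatingGroup, map_mul,
      Equiv.Perm.sign_swap (pt_ne (by omega) (by omega) (by omega)),
      Equiv.Perm.mem_alternatingGroup.mp hw] at h1
    simp at h1

theorem main (k : ℕ) : Nonempty (P k ≃* alternatingGroup (Fin (k + 2))) := by
  let Φ : P k →* alternatingGroup (Fin (k + 2)) := (phi k).codRestrict _ (phi_mem_alt k)
  have hsurj : Function.Surjective Φ := by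
    intro a
    obtain ⟨w, hw⟩ := alt_le_range k a.2
    exact ⟨w, Subtype.ext hw⟩
  obtain ⟨hfin, hcard⟩ := finite_card k
  have hle : Nat.card (alternatingGroup (Fin (k + 2))) ≤ Nat.card (P k) :=
    Nat.card_le_card_of_surjective Φ hsurj
  have h2 : 2 * Nat.card (alternatingGroup (Fin (k + 2))) = (k + 2).factorial := by
    rw [Nat.card_eq_fintype_card, two_mul_card_alternatingGroup, Fintype.card_perm,
      Fintype.card_fin]
  have hbij : Function.Bijective Φ := by
    apply hsurj.bijective_of_nat_card_le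
    omega
  exact ⟨MulEquiv.ofBijective Φ hbij⟩

end perm

end helpers



/-- A presentation of the alternating group of degree n ≥ 3 on generators x_1, …, x_{n−2} (indexed here by 0, …, n−3): the first generator cubes to 1, every other generator squares to 1, the product of two consecutive generators has order dividing 3, and the product of two generators at distance at least 2 has order dividing 2. The group so presented is isomorphic to the alternating group of degree n. -/
theorem result (n : ℕ) (hn : 3 ≤ n) :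
    Nonempty (PresentedGroup
      ({g : FreeGroup (Fin (n - 2)) | ∃ i : Fin (n - 2), i.val = 0 ∧ g = FreeGroup.of i ^ 3} ∪
       {g | ∃ i : Fin (n - 2), 1 ≤ i.val ∧ g = FreeGroup.of i ^ 2} ∪
       {g | ∃ i j : Fin (n - 2), j.val = i.val + 1 ∧ g = (FreeGroup.of i * FreeGroup.of j) ^ 3} ∪
       {g | ∃ i j : Fin (n - 2), i.val + 1 < j.val ∧ g = (FreeGroup.of i * FreeGroup.of j) ^ 2})
      ≃* alternatingGroup (Fin n)) := by
  obtain ⟨k, rfl⟩ : ∃ k, n = k + 2 := ⟨n - 2, by omega⟩
  exact main k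


end Cfsg.Agent.S3335
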