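import Mathlib
import Cfsg.Agent.Lib.Lead.Nilpotent
import Cfsg.Statements.S3349

set_option autoImplicit false
open Cfsg
open scoped commutatorElement

namespace Cfsg.Agent.S3349

/-- Let Q be a finite extraspecial p-group and α an automorphism of Q fixing every element of some maximal abelian subgroup of Q. Then the order of α is a power of p. -/
theorem result {Q : Type*} [Group Q] [Finite Q]
    (p : ℕ) [Fact p.Prime] (hQ : Cfsg.IsExtraspecial p Q) (α : MulAut Q)
    (A : Subgroup Q) (hA : IsMulCommutative A) (hmax : ∀ B : Subgroup Q, A ≤ B → IsMulCommutative B → B = A)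
    (hfix : ∀ a ∈ A, α a = a) :
    ∃ k : ℕ, orderOf α = p ^ k := by
  obtain ⟨⟨hpQ, hfrat, hcomm⟩, hcard⟩ := hQ
  haveI := hA
  have hCA : ∀ c : Q, (∀ a ∈ A, c * a = a * c) → c ∈ A := by
    intro c hc
    have hc' : c ∈ Subgroup.centralizer (A : Set Q) := by
      rw [Subgroup.mem_centralizer_iff]; intro a ha; exact (hc a ha).symm
    have h1 := Cfsg.Agent.Lib.Lead.sup_zpowers_comm A hc'
    have h2 := hmax _ le_sup_left h1
    rw [← h2]
    exact (le_sup_right : Subgroup.zpowers c ≤ _) (Subgroup.mem_zpowers c)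
  have hZA : Subgroup.center Q ≤ A := by
    intro z hz
    apply hCA
    intro a ha
    exact (Subgroup.mem_center_iff.mp hz a).symm
  have hkey : ∀ x : Q, x⁻¹ * α x ∈ A := by
    intro x
    apply hCA
    intro a ha
    have h1 : ⁅x, a⁆ ∈ Subgroup.center Q := by
      rw [← hcomm]
      exact Subgroup.commutator_mem_commutator (Subgroup.mem_top x) (Subgroup.mem_top a)
    have h2 : α ⁅x, a⁆ = ⁅x, a⁆ := hfix _ (hZA h1)
    rw [commutatorElement_def, map_mul, map_mul, map_mul, map_inv, map_inv, hfix a ha] at h2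
    have h3 : α x * a * (α x)⁻¹ = x * a * x⁻¹ := mul_right_cancel h2
    calc x⁻¹ * α x * a = x⁻¹ * (α x * a * (α x)⁻¹) * α x := by group
      _ = x⁻¹ * (x * a * x⁻¹) * α x := by rw [h3]
      _ = a * (x⁻¹ * α x) := by group
  have hiter : ∀ (n : ℕ) (x : Q), (α ^ n) x = x * (x⁻¹ * α x) ^ n := by
    intro n
    induction n with
    | zero => intro x; simp
    | succ n ih =>
      intro x
      rw [pow_succ', MulAut.mul_apply, ih, map_mul, map_pow, hfix _ (hkey x), pow_succ', ← mul_assoc,
        mul_inv_cancel_left]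
  obtain ⟨n, hn⟩ := hpQ.exists_card_eq
  have hpow : α ^ (p ^ n) = 1 := by
    ext x
    rw [hiter, ← hn, pow_card_eq_one', mul_one]
    rfl
  have hdvd : orderOf α ∣ p ^ n := orderOf_dvd_of_pow_eq_one hpow
  obtain ⟨k, -, hk⟩ := (Nat.dvd_prime_pow (Fact.out : p.Prime)).mp hdvd
  exact ⟨k, hk⟩

end Cfsg.Agent.S3349
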