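import Cfsg.Statements.S3356
import Mathlib
import Cfsg.Agent.Lib.Helper7.Half4
-- import your own Cfsg.Agent.* helpers here

set_option autoImplicit false
open Cfsg

namespace Cfsg.Agent.S3356

/-- Let G be a finite 3/2-transitive permutation group: G acts faithfully and transitively on a finite set, the point stabilizers are non-trivial, and for each point a all orbits of G_a on the remaining points have the same size. Suppose G has a regular normal subgroup N and G is not a Frobenius group (some two-point stabilizer is non-trivial). Then N is an elementary abelian p-group for some prime p, and every non-trivial normal subgroup of G contains N (so N is the unique minimal normal subgroup). -/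
theorem result {G Ω : Type*} [Group G] [Finite G]
    [MulAction G Ω] [FaithfulSMul G Ω] [Finite Ω] (htrans : MulAction.IsPretransitive G Ω)
    (hne : ∀ a : Ω, MulAction.stabilizer G a ≠ ⊥)
    (hhalf : ∀ a b c : Ω, b ≠ a → c ≠ a →
      Nat.card (MulAction.orbit (MulAction.stabilizer G a) b) = Nat.card (MulAction.orbit (MulAction.stabilizer G a) c))
    (N : Subgroup G) [hN : N.Normal] (hNt : MulAction.IsPretransitive N Ω) (hNr : ∀ a : Ω, MulAction.stabilizer N a = ⊥)
    (hnotF : ∃ a b : Ω, a ≠ b ∧ MulAction.stabilizer G a ⊓ MulAction.stabilizer G b ≠ ⊥) :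
    (∃ p : ℕ, p.Prime ∧ IsMulCommutative N ∧ ∀ x ∈ N, x ^ p = 1) ∧
    (∀ M : Subgroup G, M.Normal → M ≠ ⊥ → N ≤ M) := by
  classical
  obtain ⟨a, b, hab, hst⟩ := hnotF
  set H : Subgroup G := MulAction.stabilizer G a with hH
  -- regularity of N
  have reg : ∀ n ∈ N, n • a = a → n = 1 := by
    intro n hn hna
    have : (⟨n, hn⟩ : N) ∈ MulAction.stabilizer N a := by
      rw [MulAction.mem_stabilizer_iff]
      exact hna
    rw [hNr a, Subgroup.mem_bot] at this
    exact congrArg Subtype.val this
  have trans : ∀ ω : Ω, ∃ n ∈ N, n • a = ω := by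
    intro ω
    obtain ⟨n, hn⟩ := MulAction.exists_smul_eq N a ω
    exact ⟨(n : G), n.2, hn⟩
  have hmemH : ∀ h : G, h ∈ H ↔ h • a = a := fun h => MulAction.mem_stabilizer_iff
  -- stabilizer of x • a in H is the centralizer of x
  have hstab : ∀ x ∈ N, ∀ h ∈ H, (h • (x • a) = x • a ↔ h * x * h⁻¹ = x) := by
    intro x hx h hh
    have hha : h • a = a := (hmemH h).mp hh
    have e : h • (x • a) = (h * x * h⁻¹) • a := by
      conv_rhs => rw [mul_smul, mul_smul]
      have : h⁻¹ • a = a := by
        conv_lhs => rw [← hha]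
        rw [smul_smul, inv_mul_cancel, one_smul]
      rw [this]
    rw [e]
    constructor
    · intro h1
      have h2 : (x⁻¹ * (h * x * h⁻¹)) • a = a := by
        rw [mul_smul, h1, smul_smul, inv_mul_cancel, one_smul]
      have h3 := reg _ (N.mul_mem (N.inv_mem hx) (hN.conj_mem x hx h)) h2
      calc h * x * h⁻¹ = x * (x⁻¹ * (h * x * h⁻¹)) := by group
        _ = x := by rw [h3, mul_one]
    · intro h1
      rw [h1]
  -- card of centralizer = card of stabilizer
  have hcardst : ∀ x ∈ N, Nat.card (Lib.Helper7.Half.cH H x)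
      = Nat.card (MulAction.stabilizer H (x • a)) := by
    intro x hx
    apply Nat.card_congr
    exact
      { toFun := fun h => ⟨⟨h.1, (Lib.Helper7.Half.mem_cH.mp h.2).1⟩, by
          rw [MulAction.mem_stabilizer_iff]
          exact (hstab x hx h.1 (Lib.Helper7.Half.mem_cH.mp h.2).1).mpr
            (Lib.Helper7.Half.mem_cH.mp h.2).2⟩
        invFun := fun h => ⟨h.1.1, Lib.Helper7.Half.mem_cH.mpr ⟨h.1.2, by
          have := h.2
          rw [MulAction.mem_stabilizer_iff] at this
          exact (hstab x hx h.1.1 h.1.2).mp this⟩⟩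
        left_inv := fun h => rfl
        right_inv := fun h => rfl }
  have hcardorb : ∀ ω : Ω, Nat.card (MulAction.stabilizer H ω)
      * Nat.card (MulAction.orbit H ω) = Nat.card H := by
    intro ω
    rw [Nat.card_coe_set_eq, ← MulAction.index_stabilizer]
    exact Subgroup.card_mul_index _
  have hne_a : ∀ x ∈ N, x ≠ 1 → x • a ≠ a := fun x hx hx1 h => hx1 (reg x hx h)
  have hyp : Lib.Helper7.Half.Hyp N H := by
    refine ⟨fun h _ n hn => hN.conj_mem n hn h, ?_, ?_⟩
    · intro x hx y hy hx1 hy1
      rw [hcardst x hx, hcardst y hy]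
      have h1 := hcardorb (x • a)
      have h2 := hcardorb (y • a)
      have h3 := hhalf a (x • a) (y • a) (hne_a x hx hx1) (hne_a y hy hy1)
      rw [← hH] at h3
      rw [h3] at h1
      have hpos : 0 < Nat.card (MulAction.orbit H (y • a)) :=
        Nat.card_pos_iff.mpr ⟨⟨⟨y • a, MulAction.mem_orbit_self _⟩⟩, inferInstance⟩
      exact Nat.eq_of_mul_eq_mul_right hpos (h1.trans h2.symm)
    · intro h hh hcen
      apply FaithfulSMul.eq_of_smul_eq_smul (α := Ω)
      intro ω
      obtain ⟨n, hn, rfl⟩ := trans ω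
      rw [one_smul]
      exact (hstab n hn h hh).mpr (hcen n hn)
  -- the element x0
  obtain ⟨x0, hx0, hx0b⟩ := trans b
  have hx01 : x0 ≠ 1 := by
    intro h
    apply hab
    rw [← hx0b, h, one_smul]
  have hS : Lib.Helper7.Half.cH H x0 ≠ ⊥ := by
    intro hbot
    apply hst
    rw [Subgroup.eq_bot_iff_forall]
    intro g hg
    obtain ⟨hga, hgb⟩ := Subgroup.mem_inf.mp hg
    have : g ∈ Lib.Helper7.Half.cH H x0 := by
      refine Lib.Helper7.Half.mem_cH.mpr ⟨hga, ?_⟩
      apply (hstab x0 hx0 g hga).mp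
      rw [hx0b]
      exact MulAction.mem_stabilizer_iff.mp hgb
    rw [hbot] at this
    exact Subgroup.mem_bot.mp this
  have hcomm := hyp.comm hx0 hx01 hS
  obtain ⟨p, hp, hpow⟩ := hyp.elementary hx0 hx01 hS
  refine ⟨⟨p, hp, ⟨⟨fun x y => Subtype.ext (hcomm x x.2 y y.2)⟩⟩, hpow⟩, ?_⟩
  intro M hM hM1
  by_cases hK : M ⊓ N = ⊥
  · exfalso
    apply hM1
    rw [Subgroup.eq_bot_iff_forall]
    intro m hm
    -- m centralizes N
    have hcen : ∀ n ∈ N, m * n * m⁻¹ = n := by
      intro n hn
      have h1 : m * n * m⁻¹ * n⁻¹ ∈ M ⊓ N := by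
        refine Subgroup.mem_inf.mpr ⟨?_, ?_⟩
        · have : m * n * m⁻¹ * n⁻¹ = m * (n * m⁻¹ * n⁻¹) := by group
          rw [this]
          exact M.mul_mem hm (hM.conj_mem _ (M.inv_mem hm) n)
        · exact N.mul_mem (hN.conj_mem n hn m) (N.inv_mem hn)
      rw [hK, Subgroup.mem_bot] at h1
      calc m * n * m⁻¹ = (m * n * m⁻¹ * n⁻¹) * n := by group
        _ = n := by rw [h1, one_mul]
    obtain ⟨n, hn, hnm⟩ := trans (m • a)
    -- g = n⁻¹ m fixes everything
    have hg1 : n⁻¹ * m = 1 := by
      apply FaithfulSMul.eq_of_smul_eq_smul (α := Ω)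
      intro ω
      obtain ⟨n', hn', rfl⟩ := trans ω
      rw [one_smul]
      have e : (n⁻¹ * m) • (n' • a) = (n⁻¹ * (m * n' * m⁻¹)) • (m • a) := by
        rw [smul_smul, smul_smul]
        congr 1
        group
      rw [e, hcen n' hn', ← hnm, smul_smul]
      have : n⁻¹ * n' * n = n' := by
        have := hcomm n⁻¹ (N.inv_mem hn) n' hn'
        rw [this]; group
      rw [this]
    have hmn : m = n := by
      calc m = n * (n⁻¹ * m) := by group
        _ = n := by rw [hg1, mul_one]
    have : m ∈ M ⊓ N := Subgroup.mem_inf.mpr ⟨hm, hmn ▸ hn⟩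
    rw [hK] at this
    exact Subgroup.mem_bot.mp this
  · have := hyp.no_invariant hx0 hx01 hS (M ⊓ N) inf_le_right ?_ hK
    · rw [← this]
      exact inf_le_left
    · intro h _ k hk
      obtain ⟨hkM, hkN⟩ := Subgroup.mem_inf.mp hk
      exact Subgroup.mem_inf.mpr ⟨hM.conj_mem k hkM h, hN.conj_mem k hkN h⟩

end Cfsg.Agent.S3356
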