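import Mathlib
import Cfsg.Agent.Lib.Helper6.M12Cert
import Cfsg.Statements.S3362

set_option autoImplicit false
open Cfsg

namespace Cfsg.Agent.S3362

open Cfsg.Agent.Lib.Helper6.M12
open scoped commutatorElement

section helpers

open Cfsg.Agent.Lib.Helper6.M12

theorem GG0 : GG 0 = ⊥ := by
  unfold GG
  have : {g | ∃ j : Fin 8, j.val < 0 ∧ gen j = g} = (∅ : Set (Equiv.Perm (Fin 12))) := by
    ext g; simp
  rw [this, Subgroup.closure_empty]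

theorem card_GG3 : Nat.card (GG 3) = 8 := by
  have h : Nat.card (GG 3) = 8 * Nat.card (GG 0) := L1.card L1_ok
  rw [h, GG0, Subgroup.card_bot]

theorem card_GG5 : Nat.card (GG 5) = 72 := by
  have h : Nat.card (GG 5) = 9 * Nat.card (GG 3) := L2.card L2_ok
  rw [h, card_GG3]

theorem card_GG6 : Nat.card (GG 6) = 720 := by
  have h : Nat.card (GG 6) = 10 * Nat.card (GG 5) := L3.card L3_ok
  rw [h, card_GG5]

theorem card_GG7 : Nat.card (GG 7) = 7920 := by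
  have h : Nat.card (GG 7) = 11 * Nat.card (GG 6) := L4.card L4_ok
  rw [h, card_GG6]

theorem card_GG8 : Nat.card (GG 8) = 95040 := by
  have h : Nat.card (GG 8) = 12 * Nat.card (GG 7) := L5.card L5_ok
  rw [h, card_GG7]

theorem stab_GG8 : GG 8 ⊓ MulAction.stabilizer (Equiv.Perm (Fin 12)) (2 : Fin 12) = GG 7 :=
  L5.stab L5_ok

theorem step_lvl (L : Lvl) (hL : L.ok) (hm : L.m ≤ 8) (g : Equiv.Perm (Fin 12)) (hg : g ∈ GG 8)
    (target : Fin 12) (hmem : g⁻¹ target ∈ L.Δ) :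
    ∃ g' ∈ GG 8, g' L.α = target ∧
      ∀ β, (∀ j : Fin 8, j.val < L.m → TT j β = β) → g' β = g β := by
  obtain ⟨h1, h2⟩ := L.rw_apply hL _ hmem
  refine ⟨g * wp (L.rw (g⁻¹ target)), (GG 8).mul_mem hg (GG_mono hm h1), ?_, ?_⟩
  · rw [Equiv.Perm.mul_apply, h2, ← Equiv.Perm.mul_apply, mul_inv_cancel, Equiv.Perm.one_apply]
  · intro β hβ
    rw [Equiv.Perm.mul_apply, GG_fix L.m β hβ _ h1]

theorem inv_ne (y : Fin 5 ↪ Fin 12) (g : Equiv.Perm (Fin 12)) (a : Fin 12) (i k : Fin 5)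
    (h : g a = y i) (hik : i ≠ k) : g⁻¹ (y k) ≠ a := by
  intro h2
  apply hik
  apply y.injective
  rw [← h, ← h2, ← Equiv.Perm.mul_apply, mul_inv_cancel, Equiv.Perm.one_apply]

theorem exists_map_base (y : Fin 5 ↪ Fin 12) :
    ∃ g ∈ GG 8, g 2 = y 0 ∧ g 1 = y 1 ∧ g 0 = y 2 ∧ g 3 = y 3 ∧ g 4 = y 4 := by
  have hΔ5 : ∀ x : Fin 12, x ∈ L5.Δ := by decide
  have hΔ4 : ∀ x : Fin 12, x ≠ 2 → x ∈ L4.Δ := by decide
  have hΔ3 : ∀ x : Fin 12, x ≠ 2 → x ≠ 1 → x ∈ L3.Δ := by decide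
  have hΔ2 : ∀ x : Fin 12, x ≠ 2 → x ≠ 1 → x ≠ 0 → x ∈ L2.Δ := by decide
  have hΔ1 : ∀ x : Fin 12, x ≠ 2 → x ≠ 1 → x ≠ 0 → x ≠ 3 → x ∈ L1.Δ := by decide
  have f7_2 : ∀ j : Fin 8, j.val < 7 → TT j 2 = 2 := by decide
  have f6_2 : ∀ j : Fin 8, j.val < 6 → TT j 2 = 2 := by decide
  have f6_1 : ∀ j : Fin 8, j.val < 6 → TT j 1 = 1 := by decide
  have f5_2 : ∀ j : Fin 8, j.val < 5 → TT j 2 = 2 := by decide
  have f5_1 : ∀ j : Fin 8, j.val < 5 → TT j 1 = 1 := by decide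
  have f5_0 : ∀ j : Fin 8, j.val < 5 → TT j 0 = 0 := by decide
  have f3_2 : ∀ j : Fin 8, j.val < 3 → TT j 2 = 2 := by decide
  have f3_1 : ∀ j : Fin 8, j.val < 3 → TT j 1 = 1 := by decide
  have f3_0 : ∀ j : Fin 8, j.val < 3 → TT j 0 = 0 := by decide
  have f3_3 : ∀ j : Fin 8, j.val < 3 → TT j 3 = 3 := by decide
  obtain ⟨g₁, hg₁, a1, -⟩ := step_lvl L5 L5_ok (le_refl 8) 1 (GG 8).one_mem (y 0) (hΔ5 _)
  have a1 : g₁ 2 = y 0 := a1
  obtain ⟨g₂, hg₂, b1, hf2⟩ := step_lvl L4 L4_ok (by decide) g₁ hg₁ (y 1)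
    (hΔ4 _ (inv_ne y g₁ 2 0 1 a1 (by decide)))
  have b1 : g₂ 1 = y 1 := b1
  have b2 : g₂ 2 = y 0 := by rw [hf2 2 f7_2, a1]
  obtain ⟨g₃, hg₃, c1, hf3⟩ := step_lvl L3 L3_ok (by decide) g₂ hg₂ (y 2)
    (hΔ3 _ (inv_ne y g₂ 2 0 2 b2 (by decide)) (inv_ne y g₂ 1 1 2 b1 (by decide)))
  have c1 : g₃ 0 = y 2 := c1
  have c2 : g₃ 2 = y 0 := by rw [hf3 2 f6_2, b2]
  have c3 : g₃ 1 = y 1 := by rw [hf3 1 f6_1, b1]
  obtain ⟨g₄, hg₄, d1, hf4⟩ := step_lvl L2 L2_ok (by decide) g₃ hg₃ (y 3)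
    (hΔ2 _ (inv_ne y g₃ 2 0 3 c2 (by decide)) (inv_ne y g₃ 1 1 3 c3 (by decide))
      (inv_ne y g₃ 0 2 3 c1 (by decide)))
  have d1 : g₄ 3 = y 3 := d1
  have d2 : g₄ 2 = y 0 := by rw [hf4 2 f5_2, c2]
  have d3 : g₄ 1 = y 1 := by rw [hf4 1 f5_1, c3]
  have d4 : g₄ 0 = y 2 := by rw [hf4 0 f5_0, c1]
  obtain ⟨g₅, hg₅, e1, hf5⟩ := step_lvl L1 L1_ok (by decide) g₄ hg₄ (y 4)
    (hΔ1 _ (inv_ne y g₄ 2 0 4 d2 (by decide)) (inv_ne y g₄ 1 1 4 d3 (by decide))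
      (inv_ne y g₄ 0 2 4 d4 (by decide)) (inv_ne y g₄ 3 3 4 d1 (by decide)))
  have e1 : g₅ 4 = y 4 := e1
  refine ⟨g₅, hg₅, ?_, ?_, ?_, ?_, e1⟩
  · rw [hf5 2 f3_2, d2]
  · rw [hf5 1 f3_1, d3]
  · rw [hf5 0 f3_0, d4]
  · rw [hf5 3 f3_3, d1]


theorem set8 : ({gS, gT, gU, gV, gW, gX1, gX2, gX3} : Set (Equiv.Perm (Fin 12))) =
    {g | ∃ j : Fin 8, j.val < 8 ∧ gen j = g} := by
  ext g
  simp only [Set.mem_insert_iff, Set.mem_singleton_iff, Set.mem_ofPred_eq]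
  constructor
  · rintro (rfl | rfl | rfl | rfl | rfl | rfl | rfl | rfl)
    · exact ⟨3, by decide, rfl⟩
    · exact ⟨4, by decide, rfl⟩
    · exact ⟨0, by decide, rfl⟩
    · exact ⟨1, by decide, rfl⟩
    · exact ⟨2, by decide, rfl⟩
    · exact ⟨5, by decide, rfl⟩
    · exact ⟨6, by decide, rfl⟩
    · exact ⟨7, by decide, rfl⟩
  · rintro ⟨j, -, rfl⟩
    fin_cases j <;> simp [gen]

theorem set7 : ({gS, gT, gU, gV, gW, gX1, gX2} : Set (Equiv.Perm (Fin 12))) =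
    {g | ∃ j : Fin 8, j.val < 7 ∧ gen j = g} := by
  ext g
  simp only [Set.mem_insert_iff, Set.mem_singleton_iff, Set.mem_ofPred_eq]
  constructor
  · rintro (rfl | rfl | rfl | rfl | rfl | rfl | rfl)
    · exact ⟨3, by decide, rfl⟩
    · exact ⟨4, by decide, rfl⟩
    · exact ⟨0, by decide, rfl⟩
    · exact ⟨1, by decide, rfl⟩
    · exact ⟨2, by decide, rfl⟩
    · exact ⟨5, by decide, rfl⟩
    · exact ⟨6, by decide, rfl⟩
  · rintro ⟨j, hj, rfl⟩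
    fin_cases j <;> first | (exfalso; revert hj; decide) | simp [gen]

theorem card_emb : Nat.card (Fin 5 ↪ Fin 12) = 95040 := by
  rw [Nat.card_eq_fintype_card, Fintype.card_embedding_eq, Fintype.card_fin, Fintype.card_fin]
  decide

theorem main : MulAction.IsMultiplyPretransitive (GG 8) (Fin 12) 5 ∧
    (∀ y : Fin 5 ↪ Fin 12, MulAction.stabilizer (GG 8) y = ⊥) := by
  have htrans : MulAction.IsMultiplyPretransitive (GG 8) (Fin 12) 5 := by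
    rw [MulAction.isMultiplyPretransitive_iff]
    intro x y
    obtain ⟨gx, hgx, x0, x1, x2, x3, x4⟩ := exists_map_base x
    obtain ⟨gy, hgy, y0, y1, y2, y3, y4⟩ := exists_map_base y
    refine ⟨⟨gy * gx⁻¹, (GG 8).mul_mem hgy ((GG 8).inv_mem hgx)⟩, ?_⟩
    ext i
    rw [Function.Embedding.smul_apply]
    show ((gy * gx⁻¹) (x i) : ℕ) = y i
    congr 1
    have key : ∀ a : Fin 12, ∀ i : Fin 5, gx a = x i → gy a = y i → (gy * gx⁻¹) (x i) = y i := by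
      intro a i h1 h2
      rw [← h1, Equiv.Perm.mul_apply, ← Equiv.Perm.mul_apply gx⁻¹, inv_mul_cancel,
        Equiv.Perm.one_apply, h2]
    fin_cases i
    · exact key 2 0 x0 y0
    · exact key 1 1 x1 y1
    · exact key 0 2 x2 y2
    · exact key 3 3 x3 y3
    · exact key 4 4 x4 y4
  refine ⟨htrans, fun y => ?_⟩
  have h1 := @MulAction.index_stabilizer_of_transitive (GG 8) _ _ _ y htrans
  rw [card_emb] at h1
  have h2 := (MulAction.stabilizer (GG 8) y).card_mul_index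
  rw [h1, card_GG8] at h2
  apply Subgroup.card_eq_one.1
  omega

end helpers



/-- An explicit construction of the Mathieu groups of degrees 11 and 12. On the points 0, …, 11 let s = (3 4 5)(6 7 8)(9 10 11), t = (3 6 9)(4 7 10)(5 8 11), u = (4 6 5 9)(7 8 11 10), v = (4 7 5 11)(6 10 9 8), w = (4 10 5 8)(6 11 9 7), x₁ = (0 3)(6 7)(8 10)(9 11), x₂ = (0 1)(6 9)(7 10)(8 11), x₃ = (1 2)(6 11)(7 9)(8 10) (each written as a product of transpositions). Then the group M₁₂ generated by all eight permutations is sharply 5-transitive on the 12 points and has order 95040, and the group M₁₁ generated by the first seven has order 7920 and is the stabilizer of the point 2 in M₁₂. -/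
theorem result
    (s t u v w x₁ x₂ x₃ : Equiv.Perm (Fin 12))
    (hs : s = Equiv.swap (3 : Fin 12) 5 * Equiv.swap (3 : Fin 12) 4 * Equiv.swap (6 : Fin 12) 8 * Equiv.swap (6 : Fin 12) 7 * Equiv.swap (9 : Fin 12) 11 * Equiv.swap (9 : Fin 12) 10) (ht : t = Equiv.swap (3 : Fin 12) 9 * Equiv.swap (3 : Fin 12) 6 * Equiv.swap (4 : Fin 12) 10 * Equiv.swap (4 : Fin 12) 7 * Equiv.swap (5 : Fin 12) 11 * Equiv.swap (5 : Fin 12) 8)
    (hu : u = Equiv.swap (4 : Fin 12) 9 * Equiv.swap (4 : Fin 12) 5 * Equiv.swap (4 : Fin 12) 6 * Equiv.swap (7 : Fin 12) 10 * Equiv.swap (7 : Fin 12) 11 * Equiv.swap (7 : Fin 12) 8) (hv : v = Equiv.swap (4 : Fin 12) 11 * Equiv.swap (4 : Fin 12) 5 * Equiv.swap (4 : Fin 12) 7 * Equiv.swap (6 : Fin 12) 8 * Equiv.swap (6 : Fin 12) 9 * Equiv.swap (6 : Fin 12) 10) (hw : w = Equiv.swap (4 : Fin 12) 8 * Equiv.swap (4 : Fin 12) 5 * Equiv.swap (4 : Fin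 12) 10 * Equiv.swap (6 : Fin 12) 7 * Equiv.swap (6 : Fin 12) 9 * Equiv.swap (6 : Fin 12) 11)
    (hx₁ : x₁ = Equiv.swap (0 : Fin 12) 3 * Equiv.swap (6 : Fin 12) 7 * Equiv.swap (8 : Fin 12) 10 * Equiv.swap (9 : Fin 12) 11) (hx₂ : x₂ = Equiv.swap (0 : Fin 12) 1 * Equiv.swap (6 : Fin 12) 9 * Equiv.swap (7 : Fin 12) 10 * Equiv.swap (8 : Fin 12) 11)
    (hx₃ : x₃ = Equiv.swap (1 : Fin 12) 2 * Equiv.swap (6 : Fin 12) 11 * Equiv.swap (7 : Fin 12) 9 * Equiv.swap (8 : Fin 12) 10)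
    (M₁₂ M₁₁ : Subgroup (Equiv.Perm (Fin 12))) (hM₁₂ : M₁₂ = Subgroup.closure {s, t, u, v, w, x₁, x₂, x₃})
    (hM₁₁ : M₁₁ = Subgroup.closure {s, t, u, v, w, x₁, x₂}) :
    MulAction.IsMultiplyPretransitive M₁₂ (Fin 12) 5 ∧ (∀ y : Fin 5 ↪ Fin 12, MulAction.stabilizer M₁₂ y = ⊥) ∧
    Nat.card M₁₂ = 95040 ∧ Nat.card M₁₁ = 7920 ∧
    M₁₁ = M₁₂ ⊓ MulAction.stabilizer (Equiv.Perm (Fin 12)) (2 : Fin 12) := by
  have e12 : M₁₂ = Cfsg.Agent.Lib.Helper6.M12.GG 8 := by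
    rw [hM₁₂, hs, ht, hu, hv, hw, hx₁, hx₂, hx₃]
    exact congrArg Subgroup.closure set8
  have e11 : M₁₁ = Cfsg.Agent.Lib.Helper6.M12.GG 7 := by
    rw [hM₁₁, hs, ht, hu, hv, hw, hx₁, hx₂]
    exact congrArg Subgroup.closure set7
  subst e12 e11
  exact ⟨main.1, main.2, card_GG8, card_GG7, stab_GG8.symm⟩


end Cfsg.Agent.S3362
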