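import Mathlib
import Cfsg.Agent.Lib.Helper6.PrimePowSucc
import Cfsg.Agent.Lib.Lead.QuatRecog
import Cfsg.Statements.S3370

set_option autoImplicit false
open Cfsg

namespace Cfsg.Agent.S3370

open scoped commutatorElement

section helpers

variable {q : ℕ} [hq : Fact q.Prime] {V : Type*} [AddCommGroup V] [Module (ZMod q) V] [Finite V]
  {G : Type*} [Group G] [Finite G]

/-- the stabilizer of a vector -/
def stab (ρ : G →* (V ≃ₗ[ZMod q] V)) (v : V) : Subgroup G where
  carrier := {g | ρ g v = v}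
  one_mem' := by simp
  mul_mem' := by
    intro a b ha hb
    show ρ (a * b) v = v
    rw [map_mul, LinearEquiv.mul_apply, hb, ha]
  inv_mem' := by
    intro a ha
    show ρ a⁻¹ v = v
    rw [map_inv]
    have : (ρ a)⁻¹ (ρ a v) = v := by
      rw [← LinearEquiv.mul_apply, inv_mul_cancel]; rfl
    rw [ha] at this
    exact this

theorem mem_stab {ρ : G →* (V ≃ₗ[ZMod q] V)} {v : V} {g : G} : g ∈ stab ρ v ↔ ρ g v = v := Iff.rfl

/-- transitivity on nonzero vectors: the index of a stabilizer -/
theorem index_stab (ρ : G →* (V ≃ₗ[ZMod q] V))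
    (htrans : ∀ v w : V, v ≠ 0 → w ≠ 0 → ∃ g : G, ρ g v = w) (v₀ : V) (hv₀ : v₀ ≠ 0) :
    (stab ρ v₀).index = Nat.card V - 1 := by
  letI : MulAction G V := MulAction.compHom V ρ
  have hsmul : ∀ (g : G) (v : V), g • v = ρ g v := fun g v => rfl
  have hst : stab ρ v₀ = MulAction.stabilizer G v₀ := by
    ext g
    rw [mem_stab, MulAction.mem_stabilizer_iff, hsmul]
  rw [hst, MulAction.index_stabilizer]
  have horb : MulAction.orbit G v₀ = ({0} : Set V)ᶜ := by
    ext w
    rw [MulAction.mem_orbit_iff, Set.mem_compl_iff, Set.mem_singleton_iff]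
    constructor
    · rintro ⟨g, rfl⟩ h0
      rw [hsmul] at h0
      apply hv₀
      have := (ρ g).map_eq_zero_iff.mp h0
      exact this
    · intro hw
      obtain ⟨g, hg⟩ := htrans v₀ w hv₀ hw
      exact ⟨g, hg⟩
  rw [horb, Set.ncard_compl, Set.ncard_singleton]

/-- a `p`-group fixing `v₀ ≠ 0` in a space with fewer than `p + 2` vectors acts trivially -/
theorem stab_eq_bot_of_small (ρ : G →* (V ≃ₗ[ZMod q] V)) (hρ : Function.Injective ρ) {p : ℕ}
    [Fact p.Prime] (hG : IsPGroup p G) (v₀ : V) (hv₀ : v₀ ≠ 0) (hsmall : Nat.card V < p + 2) :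
    stab ρ v₀ = ⊥ := by
  set S₀ := stab ρ v₀ with hS₀
  letI : MulAction S₀ V := MulAction.compHom V (ρ.comp S₀.subtype)
  have hsmul : ∀ (g : S₀) (v : V), g • v = ρ (g : G) v := fun g v => rfl
  have hS₀p : IsPGroup p S₀ := hG.to_subgroup S₀
  have hfix : ∀ (s : S₀) (w : V), ρ (s : G) w = w := by
    intro s w
    by_cases hw0 : w = 0
    · rw [hw0, map_zero]
    by_cases hwv : w = v₀
    · rw [hwv]; exact s.2
    have hidx := MulAction.index_stabilizer S₀ w
    obtain ⟨k, hk⟩ := IsPGroup.iff_card.mp hS₀p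
    have hdvd : (MulAction.stabilizer S₀ w).index ∣ p ^ k := by
      rw [← hk]; exact Subgroup.index_dvd_card _
    obtain ⟨j, _, hj⟩ := (Nat.dvd_prime_pow Fact.out).mp hdvd
    have hsub : MulAction.orbit S₀ w ⊆ ({0, v₀} : Set V)ᶜ := by
      rintro _ ⟨g, rfl⟩
      rw [Set.mem_compl_iff, Set.mem_insert_iff, Set.mem_singleton_iff, not_or]
      constructor
      · intro h0
        apply hw0
        have : ρ (g : G) w = 0 := h0
        exact (ρ (g : G)).map_eq_zero_iff.mp this
      · intro h1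
        apply hwv
        have h2 : ρ (g : G) w = v₀ := h1
        have h3 : ρ (g : G) v₀ = v₀ := g.2
        exact (ρ (g : G)).injective (h2.trans h3.symm)
    have hle : (MulAction.orbit S₀ w).ncard ≤ Nat.card V - 2 := by
      have h1 := Set.ncard_le_ncard hsub (Set.toFinite _)
      rw [Set.ncard_compl, Set.ncard_pair (fun h => hv₀ h.symm)] at h1
      exact h1
    have hj0 : j = 0 := by
      by_contra hne
      have : p ^ 1 ≤ p ^ j := Nat.pow_le_pow_right (Fact.out : p.Prime).pos (by omega)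
      rw [pow_one] at this
      rw [hidx] at hj
      have hp2 := (Fact.out : p.Prime).two_le
      omega
    rw [hidx, hj0, pow_zero, Set.ncard_eq_one] at hj
    obtain ⟨a, ha⟩ := hj
    have h1 : w ∈ MulAction.orbit S₀ w := MulAction.mem_orbit_self w
    have h2 : s • w ∈ MulAction.orbit S₀ w := MulAction.mem_orbit w s
    rw [ha, Set.mem_singleton_iff] at h1 h2
    rw [← hsmul, h2, h1]
  rw [eq_bot_iff]
  intro s hs
  rw [Subgroup.mem_bot]
  apply hρ
  rw [map_one]
  ext w
  exact hfix ⟨s, hs⟩ w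

/-- in dimension one the stabilizer of a nonzero vector is trivial and the group is cyclic -/
theorem dim_one (ρ : G →* (V ≃ₗ[ZMod q] V)) (hρ : Function.Injective ρ)
    (hd : Module.finrank (ZMod q) V = 1) (v₀ : V) (hv₀ : v₀ ≠ 0) :
    stab ρ v₀ = ⊥ ∧ IsCyclic G := by
  have hspan := (finrank_eq_one_iff_of_nonzero' v₀ hv₀).mp hd
  constructor
  · rw [eq_bot_iff]
    intro s hs
    rw [Subgroup.mem_bot]
    apply hρ
    rw [map_one]
    ext w
    obtain ⟨c, rfl⟩ := hspan w
    rw [map_smul, mem_stab.mp hs]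
    rfl
  · -- the scalar by which `g` acts
    choose c hc using fun g : G => hspan (ρ g v₀)
    have hinj : ∀ a b : ZMod q, a • v₀ = b • v₀ → a = b := by
      intro a b hab
      have : (a - b) • v₀ = 0 := by rw [sub_smul, hab, sub_self]
      rcases smul_eq_zero.mp this with h | h
      · exact sub_eq_zero.mp h
      · exact absurd h hv₀
    let f : G →* ZMod q :=
      { toFun := c
        map_one' := by
          apply hinj
          rw [hc, map_one, one_smul]; rfl
        map_mul' := by
          intro a b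
          apply hinj
          rw [hc, map_mul, LinearEquiv.mul_apply, ← hc b, map_smul, ← hc a, smul_smul, mul_comm] }
    apply isCyclic_of_injective_ringHom f
    intro a b hab
    apply hρ
    ext w
    obtain ⟨d, rfl⟩ := hspan w
    rw [map_smul, map_smul, ← hc a, ← hc b]
    have : c a = c b := hab
    rw [this]

section dim2

variable {W : Type*} [AddCommGroup W] [Module (ZMod 3) W] [Finite W]

/-- conjugation by a linear equivalence, as an isomorphism of automorphism groups -/
def conjEquiv {W' : Type*} [AddCommGroup W'] [Module (ZMod 3) W'] (e : W ≃ₗ[ZMod 3] W') :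
    (W ≃ₗ[ZMod 3] W) ≃* (W' ≃ₗ[ZMod 3] W') where
  toFun f := (e.symm.trans f).trans e
  invFun g := (e.trans g).trans e.symm
  left_inv f := by ext v; simp
  right_inv g := by ext v; simp
  map_mul' f g := by ext v; simp [LinearEquiv.mul_apply]

/-- the automorphism group of a two-dimensional space over `𝔽₃` is `GL₂(3)` -/
noncomputable def toGL (hd : Module.finrank (ZMod 3) W = 2) :
    (W ≃ₗ[ZMod 3] W) ≃* GL (Fin 2) (ZMod 3) :=
  (conjEquiv (LinearEquiv.ofFinrankEq W (Fin 2 → ZMod 3)
    (by rw [hd, Module.finrank_fin_fun]))).trans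
    ((LinearMap.GeneralLinearGroup.generalLinearEquiv (ZMod 3) (Fin 2 → ZMod 3)).symm.trans
      Matrix.GeneralLinearGroup.toLin.symm)

theorem card_GL23 : Nat.card (GL (Fin 2) (ZMod 3)) = 48 := by
  rw [Matrix.card_GL_field]
  simp [Fin.prod_univ_two]

theorem card_aut (hd : Module.finrank (ZMod 3) W = 2) : Nat.card (W ≃ₗ[ZMod 3] W) = 48 := by
  rw [Nat.card_congr (toGL hd).toEquiv, card_GL23]

def X0 : GL (Fin 2) (ZMod 3) :=
  ⟨!![0, 1; 1, 1], !![2, 1; 1, 0], by decide, by decide⟩

def Y0 : GL (Fin 2) (ZMod 3) :=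
  ⟨!![1, 0; 1, 2], !![1, 0; 1, 2], by decide, by decide⟩

theorem X0_order : orderOf X0 = 2 ^ 3 := by
  apply orderOf_eq_prime_pow
  · decide
  · decide

theorem Y0_order : orderOf Y0 = 2 := by
  apply orderOf_eq_prime
  · decide
  · decide

theorem X0_Y0 : Y0 * X0 * Y0⁻¹ = X0 ^ 3 := by decide

end dim2

/-- a group of order `8` with a unique involution is cyclic or quaternion -/
theorem cyclic_or_quaternion {Q : Type*} [Group Q] [Finite Q] (hcard : Nat.card Q = 8)
    (huniq : ∀ s t : Q, s * s = 1 → s ≠ 1 → t * t = 1 → t ≠ 1 → s = t) :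
    IsCyclic Q ∨ Nonempty (Q ≃* QuaternionGroup 2) := by
  classical
  by_cases h8 : ∃ g : Q, orderOf g = 8
  · left
    obtain ⟨g, hg⟩ := h8
    exact isCyclic_of_orderOf_eq_card g (by rw [hg, hcard])
  right
  push Not at h8
  have hord : ∀ g : Q, orderOf g = 1 ∨ orderOf g = 2 ∨ orderOf g = 4 := by
    intro g
    have h1 : orderOf g ∣ 8 := by rw [← hcard]; exact orderOf_dvd_natCard g
    have h2 : orderOf g ≤ 8 := Nat.le_of_dvd (by norm_num) h1
    have h3 := h8 g
    interval_cases (orderOf g) <;> simp_all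
  -- an element of order `4`
  have hex4 : ∃ a : Q, orderOf a = 4 := by
    by_contra hno
    push Not at hno
    have hall : ∀ g : Q, g * g = 1 := by
      intro g
      rcases hord g with h | h | h
      · rw [orderOf_eq_one_iff.mp h, one_mul]
      · rw [← pow_two, ← h, pow_orderOf_eq_one]
      · exact absurd h (hno g)
    -- at most two elements
    obtain ⟨t, ht⟩ : ∃ t : Q, t ≠ 1 := by
      by_contra hne
      push Not at hne
      have : Nat.card Q ≤ 1 := by
        rw [Finite.card_le_one_iff_subsingleton]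
        exact ⟨fun a b => (hne a).trans (hne b).symm⟩
      omega
    have hall2 : ∀ g : Q, g = 1 ∨ g = t := by
      intro g
      by_cases hg : g = 1
      · left; exact hg
      · right; exact huniq g t (hall g) hg (hall t) ht
    have : Nat.card Q ≤ 2 := by
      have hsub : (Set.univ : Set Q) ⊆ {1, t} := by
        intro g _
        rcases hall2 g with h | h
        · left; exact h
        · right; exact h
      have h1 := Set.ncard_le_ncard hsub (Set.toFinite _)
      rw [Set.ncard_univ] at h1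
      exact h1.trans (Set.ncard_insert_le _ _ |>.trans (by simp))
    omega
  obtain ⟨a, ha⟩ := hex4
  have hzc : Nat.card (Subgroup.zpowers a) = 4 := by rw [Nat.card_zpowers, ha]
  have hidx : (Subgroup.zpowers a).index = 2 := by
    have := (Subgroup.zpowers a).card_mul_index
    rw [hzc, hcard] at this
    omega
  haveI hnorm : (Subgroup.zpowers a).Normal := Subgroup.normal_of_index_eq_two hidx
  obtain ⟨x, hx⟩ : ∃ x : Q, x ∉ Subgroup.zpowers a := by
    by_contra hall
    push Not at hall
    have : Subgroup.zpowers a = ⊤ := by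
      rw [eq_top_iff]; intro g _; exact hall g
    rw [this, Subgroup.index_top] at hidx
    omega
  have ha4 : a ^ 4 = 1 := by rw [← ha]; exact pow_orderOf_eq_one a
  have ha2 : orderOf (a ^ 2) = 2 := by
    rw [orderOf_pow' a (by norm_num), ha]; rfl
  have ha2sq : a ^ 2 * a ^ 2 = 1 := by
    rw [← pow_add]; exact ha4
  have ha2ne : a ^ 2 ≠ 1 := by
    intro h
    rw [h, orderOf_one] at ha2
    omega
  have hx4 : orderOf x = 4 := by
    rcases hord x with h | h | h
    · exfalso; apply hx
      rw [orderOf_eq_one_iff.mp h]; exact Subgroup.one_mem _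
    · exfalso; apply hx
      have hxx : x * x = 1 := by rw [← pow_two, ← h, pow_orderOf_eq_one]
      have hx1 : x ≠ 1 := by
        intro h1; rw [h1, orderOf_one] at h; omega
      rw [huniq x (a ^ 2) hxx hx1 ha2sq ha2ne]
      exact Subgroup.pow_mem _ (Subgroup.mem_zpowers a) 2
    · exact h
  have hx2 : x ^ 2 = a ^ 2 := by
    have h1 : orderOf (x ^ 2) = 2 := by
      rw [orderOf_pow' x (by norm_num), hx4]; rfl
    have hx4' : x ^ 4 = 1 := by rw [← hx4]; exact pow_orderOf_eq_one x
    have h2 : x ^ 2 * x ^ 2 = 1 := by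
      rw [← pow_add]; exact hx4'
    have h3 : x ^ 2 ≠ 1 := by
      intro h; rw [h, orderOf_one] at h1; omega
    exact huniq _ _ h2 h3 ha2sq ha2ne
  have hconj : x * a * x⁻¹ = a⁻¹ := by
    have hmem : x * a * x⁻¹ ∈ Subgroup.zpowers a := hnorm.conj_mem a (Subgroup.mem_zpowers a) x
    rw [mem_zpowers_iff_mem_range_orderOf, ha] at hmem
    have hsc : SemiconjBy x a (x * a * x⁻¹) := by
      rw [SemiconjBy]; group
    have ho : orderOf (x * a * x⁻¹) = 4 := by rw [← hsc.orderOf_eq]; exact ha
    simp only [Finset.mem_image, Finset.mem_range] at hmem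
    obtain ⟨k, hk, hak⟩ := hmem
    interval_cases k
    · rw [pow_zero] at hak
      rw [← hak, orderOf_one] at ho; omega
    · -- commuting case
      exfalso
      rw [pow_one] at hak
      have hcomm : x * a = a * x := by
        calc x * a = (x * a * x⁻¹) * x := by group
          _ = a * x := by rw [← hak]
      have hcomm' : Commute x a⁻¹ := (show Commute x a from hcomm).inv_right
      have h1 : (x * a⁻¹) * (x * a⁻¹) = 1 := by
        rw [← pow_two, hcomm'.mul_pow, hx2, inv_pow, mul_inv_cancel]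
      by_cases h2 : x * a⁻¹ = 1
      · apply hx
        have : x = a := by
          calc x = (x * a⁻¹) * a := by group
            _ = a := by rw [h2, one_mul]
        rw [this]; exact Subgroup.mem_zpowers a
      · apply hx
        have h3 := huniq _ _ h1 h2 ha2sq ha2ne
        have : x = a ^ 2 * a := by
          calc x = (x * a⁻¹) * a := by group
            _ = a ^ 2 * a := by rw [h3]
        rw [this]
        exact Subgroup.mul_mem _ (Subgroup.pow_mem _ (Subgroup.mem_zpowers a) 2) (Subgroup.mem_zpowers a)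
    · rw [← hak, ha2] at ho; omega
    · rw [← hak]
      rw [eq_inv_iff_mul_eq_one, ← pow_succ]
      exact ha4
  exact Cfsg.Agent.Lib.Lead.quaternion_recognition 2 a x (by rw [ha]) hx2 hconj hx (by rw [hcard])

theorem fact48 : (48 : ℕ).factorization 2 = 4 := by
  rw [Nat.factorization_def _ Nat.prime_two]
  rw [show (48:ℕ) = 2^4*3 by norm_num, padicValNat.mul (by norm_num) (by norm_num), padicValNat.prime_pow,
    padicValNat.eq_zero_of_not_dvd (by norm_num)]

/-- the semidihedral case: a subgroup of order `16` of `GL₂(3)` -/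
theorem quasi_case {W : Type*} [AddCommGroup W] [Module (ZMod 3) W] [Finite W]
    (hd : Module.finrank (ZMod 3) W = 2) (ρ : G →* (W ≃ₗ[ZMod 3] W)) (hρ : Function.Injective ρ)
    (hcard : Nat.card G = 16) : Cfsg.IsQuasiDihedral G := by
  classical
  haveI : Fact (Nat.Prime 2) := ⟨Nat.prime_two⟩
  have hΓ : Nat.card (W ≃ₗ[ZMod 3] W) = 48 := card_aut hd
  haveI : Finite (W ≃ₗ[ZMod 3] W) := Nat.finite_of_card_ne_zero (by rw [hΓ]; norm_num)
  -- the image of `ρ` is a Sylow `2`-subgroup
  have hrange : Nat.card ρ.range = 16 := by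
    rw [← hcard]
    exact (Nat.card_congr (MonoidHom.ofInjective hρ).toEquiv).symm
  let R : Sylow 2 (W ≃ₗ[ZMod 3] W) := Sylow.ofCard ρ.range (by rw [hrange, hΓ, fact48]; norm_num)
  have hR : (R : Subgroup (W ≃ₗ[ZMod 3] W)) = ρ.range := rfl
  -- the model elements
  set X : W ≃ₗ[ZMod 3] W := (toGL hd).symm X0 with hX
  set Y : W ≃ₗ[ZMod 3] W := (toGL hd).symm Y0 with hY
  have hXo : orderOf X = 2 ^ 3 := by rw [hX, MulEquiv.orderOf_eq, X0_order]
  have hYo : orderOf Y = 2 := by rw [hY, MulEquiv.orderOf_eq, Y0_order]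
  have hXY : Y * X * Y⁻¹ = X ^ 3 := by
    rw [hX, hY, ← map_inv, ← map_mul, ← map_mul, X0_Y0, map_pow]
  -- they generate a `2`-group
  have hpX : IsPGroup 2 (Subgroup.zpowers X) := by
    apply IsPGroup.of_card (n := 3)
    rw [Nat.card_zpowers, hXo]
  have hpY : IsPGroup 2 (Subgroup.zpowers Y) := by
    apply IsPGroup.of_card (n := 1)
    rw [Nat.card_zpowers, hYo, pow_one]
  have hnorm : Subgroup.zpowers Y ≤ Subgroup.normalizer (Subgroup.zpowers X : Set (W ≃ₗ[ZMod 3] W)) := by
    rw [Subgroup.zpowers_le]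
    apply Subgroup.mem_normalizer_fintype
    intro n hn
    obtain ⟨k, rfl⟩ := Subgroup.mem_zpowers_iff.mp hn
    have : Y * X ^ k * Y⁻¹ = (Y * X * Y⁻¹) ^ k := by
      rw [conj_zpow]
    rw [SetLike.mem_coe, this, hXY]
    exact Subgroup.zpow_mem _ (Subgroup.pow_mem _ (Subgroup.mem_zpowers X) 3) k
  have hK : IsPGroup 2 (Subgroup.zpowers Y ⊔ Subgroup.zpowers X : Subgroup (W ≃ₗ[ZMod 3] W)) :=
    IsPGroup.to_sup_of_normal_right' hpY hpX hnorm
  obtain ⟨P, hP⟩ := hK.exists_le_sylow
  obtain ⟨γ, hγ⟩ := MulAction.exists_smul_eq (W ≃ₗ[ZMod 3] W) P R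
  have hmem : ∀ Z : W ≃ₗ[ZMod 3] W, Z ∈ (P : Subgroup (W ≃ₗ[ZMod 3] W)) → γ * Z * γ⁻¹ ∈ ρ.range := by
    intro Z hZ
    rw [← hR, ← hγ, Sylow.smul_def, Sylow.pointwise_smul_def,
      Subgroup.mem_pointwise_smul_iff_inv_smul_mem, MulAut.smul_def, ← map_inv, MulAut.conj_apply]
    have : γ⁻¹ * (γ * Z * γ⁻¹) * γ⁻¹⁻¹ = Z := by group
    rw [this]
    exact hZ
  obtain ⟨x, hx⟩ := hmem X (hP (Subgroup.mem_sup_right (Subgroup.mem_zpowers X)))
  obtain ⟨y, hy⟩ := hmem Y (hP (Subgroup.mem_sup_left (Subgroup.mem_zpowers Y)))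
  refine ⟨3, le_refl 3, by rw [hcard]; norm_num, x, y, ?_, ?_, ?_⟩
  · rw [← orderOf_injective ρ hρ x, hx]
    have hsc : SemiconjBy γ X (γ * X * γ⁻¹) := by
      rw [SemiconjBy]; group
    rw [← hsc.orderOf_eq, hXo]
  · rw [← orderOf_injective ρ hρ y, hy]
    have hsc : SemiconjBy γ Y (γ * Y * γ⁻¹) := by
      rw [SemiconjBy]; group
    rw [← hsc.orderOf_eq, hYo]
  · apply hρ
    rw [map_mul, map_mul, map_inv, map_pow, hx, hy]
    have h1 : γ * Y * γ⁻¹ * (γ * X * γ⁻¹) * (γ * Y * γ⁻¹)⁻¹ = γ * (Y * X * Y⁻¹) * γ⁻¹ := by group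
    rw [h1, hXY]
    show γ * X ^ 3 * γ⁻¹ = (γ * X * γ⁻¹) ^ (2 ^ (3 - 1) - 1)
    rw [conj_pow]
    norm_num

end helpers



/-- Let q be a prime, V a non-trivial finite vector space over the field with q elements, and G a non-trivial finite p-group (p prime) acting faithfully and linearly on V and transitively on the non-zero vectors. Then either q = 2 and G has prime order p = |V| − 1; or p = 2, V has q elements with q = 2^m + 1 and G is cyclic of order 2^m; or p = 2, q = 3, V has 9 elements and G is cyclic of order 8, quaternion of order 8, or semidihedral of order 16. -/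
theorem result (q : ℕ) [Fact q.Prime] {V : Type*} [AddCommGroup V] [Module (ZMod q) V] [Finite V] [Nontrivial V]
    {G : Type*} [Group G] [Finite G] [Nontrivial G] (p : ℕ) [Fact p.Prime] (hG : IsPGroup p G)
    (ρ : G →* (V ≃ₗ[ZMod q] V)) (hρ : Function.Injective ρ)
    (htrans : ∀ v w : V, v ≠ 0 → w ≠ 0 → ∃ g : G, ρ g v = w) :
    (q = 2 ∧ p = Nat.card V - 1 ∧ Nat.card G = p) ∨
    (p = 2 ∧ Nat.card V = q ∧ (∃ m : ℕ, q = 2 ^ m + 1 ∧ Nat.card G = 2 ^ m) ∧ IsCyclic G) ∨
    (p = 2 ∧ q = 3 ∧ Nat.card V = 9 ∧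
      ((IsCyclic G ∧ Nat.card G = 8) ∨ Nonempty (G ≃* QuaternionGroup 2) ∨ (Cfsg.IsQuasiDihedral G ∧ Nat.card G = 16))) := by
  have hq : q.Prime := Fact.out
  have hp : p.Prime := Fact.out
  obtain ⟨v₀, hv₀⟩ := exists_ne (0 : V)
  have hdpos : 0 < Module.finrank (ZMod q) V := Module.finrank_pos
  have hcardV : Nat.card V = q ^ Module.finrank (ZMod q) V := by
    rw [Module.natCard_eq_pow_finrank (K := ZMod q) (V := V), Nat.card_zmod]
  generalize hd_def : Module.finrank (ZMod q) V = d at hdpos hcardV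
  have hidx := index_stab ρ htrans v₀ hv₀
  obtain ⟨n, hn⟩ := IsPGroup.iff_card.mp hG
  have hdvd : (stab ρ v₀).index ∣ p ^ n := by rw [← hn]; exact Subgroup.index_dvd_card _
  obtain ⟨a, han, ha⟩ := (Nat.dvd_prime_pow hp).mp hdvd
  have hV2 : 2 ≤ Nat.card V := by
    rw [hcardV]
    calc 2 ≤ q := hq.two_le
      _ = q ^ 1 := (pow_one q).symm
      _ ≤ q ^ d := Nat.pow_le_pow_right hq.pos hdpos
  have ha1 : 1 ≤ a := by
    by_contra h
    have ha0 : a = 0 := by omega
    rw [ha0, pow_zero, hidx] at ha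
    have hV : Nat.card V = 2 := by omega
    obtain ⟨g, hg⟩ := exists_ne (1 : G)
    apply hg
    apply hρ
    rw [map_one]
    ext w
    show ρ g w = w
    by_cases hw : w = 0
    · rw [hw, map_zero]
    · by_contra hne
      have h0 : ρ g w ≠ 0 := fun h => hw ((ρ g).map_eq_zero_iff.mp h)
      have : 3 ≤ Nat.card V := by
        have hsub : ({0, w, ρ g w} : Set V) ⊆ Set.univ := Set.subset_univ _
        have h3 : ({0, w, ρ g w} : Set V).ncard = 3 :=
          Set.ncard_eq_three.mpr ⟨0, w, ρ g w, fun h => hw h.symm, fun h => h0 h.symm,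
            fun h => hne h.symm, rfl⟩
        have := Set.ncard_le_ncard hsub (Set.toFinite _)
        rw [Set.ncard_univ, h3] at this
        exact this
      omega
  have heq : q ^ d = p ^ a + 1 := by
    rw [← hcardV, ← ha, hidx]; omega
  rcases Cfsg.Agent.Lib.Helper6.PrimePowSucc.prime_pow_eq_prime_pow_succ hq hp hdpos ha1 heq with
    ⟨hq2, ha1'⟩ | ⟨hp2, hd1⟩ | ⟨hp2, hq3, hd2⟩
  · left
    rw [ha1', pow_one] at ha heq
    have hVp : Nat.card V = p + 1 := by rw [hcardV, heq]
    have hbot := stab_eq_bot_of_small ρ hρ hG v₀ hv₀ (by omega)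
    refine ⟨hq2, by omega, ?_⟩
    rw [hbot, Subgroup.index_bot] at ha
    exact ha
  · right; left
    rw [hd1, pow_one] at heq hcardV
    rw [hd1] at hd_def
    obtain ⟨hbot, hcyc⟩ := dim_one ρ hρ hd_def v₀ hv₀
    refine ⟨hp2, hcardV, ⟨a, ?_, ?_⟩, hcyc⟩
    · rw [heq, hp2]
    · rw [hbot, Subgroup.index_bot] at ha
      rw [ha, hp2]
  · right; right
    subst hq3
    subst hp2
    subst hd2
    have hV9 : Nat.card V = 9 := by rw [hcardV]; norm_num
    refine ⟨rfl, rfl, hV9, ?_⟩
    have ha3 : a = 3 := by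
      have h1 : 2 ^ a = 2 ^ 3 := by norm_num at heq ⊢; omega
      exact Nat.pow_right_injective (le_refl 2) h1
    subst ha3
    have h48 : Nat.card G ∣ 48 := by
      have := Subgroup.card_dvd_of_injective ρ hρ
      rwa [card_aut hd_def] at this
    have hn4 : n ≤ 4 := by
      by_contra hlt
      have h1 : 2 ^ 5 ∣ 2 ^ n := pow_dvd_pow 2 (by omega)
      rw [← hn] at h1
      have h2 := h1.trans h48
      norm_num at h2
    have hstabidx : ∀ v : V, v ≠ 0 → (stab ρ v).index = 8 := by
      intro v hv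
      rw [index_stab ρ htrans v hv, hV9]
    have hn3 : n = 3 ∨ n = 4 := by omega
    rcases hn3 with rfl | rfl
    · -- order `8`: regular action
      have hcard8 : Nat.card G = 8 := by rw [hn]; norm_num
      have hreg : ∀ v : V, v ≠ 0 → stab ρ v = ⊥ := by
        intro v hv
        have h1 := (stab ρ v).card_mul_index
        rw [hstabidx v hv, hcard8] at h1
        rw [← Subgroup.card_eq_one]
        omega
      have hinv : ∀ t : G, t * t = 1 → t ≠ 1 → ∀ v : V, ρ t v = -v := by
        intro t htt ht1 v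
        by_contra hne
        have hw : v + ρ t v ≠ 0 := by
          intro h
          apply hne
          exact (eq_neg_of_add_eq_zero_right h)
        have hfix : t ∈ stab ρ (v + ρ t v) := by
          rw [mem_stab, map_add, ← LinearEquiv.mul_apply, ← map_mul, htt, map_one]
          rw [add_comm]; rfl
        rw [hreg _ hw, Subgroup.mem_bot] at hfix
        exact ht1 hfix
      have huniq : ∀ s t : G, s * s = 1 → s ≠ 1 → t * t = 1 → t ≠ 1 → s = t := by
        intro s t hss hs1 htt ht1
        apply hρ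
        ext v
        rw [hinv s hss hs1 v, hinv t htt ht1 v]
      rcases cyclic_or_quaternion hcard8 huniq with hc | hQ
      · left; exact ⟨hc, hcard8⟩
      · right; left; exact hQ
    · right; right
      have hcard16 : Nat.card G = 16 := by rw [hn]; norm_num
      exact ⟨quasi_case hd_def ρ hρ hcard16, hcard16⟩


end Cfsg.Agent.S3370
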