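import Mathlib
import Cfsg.Statements.S3375

set_option autoImplicit false
open Cfsg
open scoped commutatorElement

namespace Cfsg.Agent.S3375

/-- Let γ be an automorphism of order 2 of a finite group H. (i) If γ fixes only the identity, then H is abelian and γ inverts every element. (ii) If γ has exactly two fixed points and H has a subgroup of index 2, then H has a γ-invariant abelian subgroup of index 2 on which γ acts by inversion. -/
theorem result {H : Type*} [Group H] [Finite H] (γ : MulAut H) (hγ : orderOf γ = 2) :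
    ((∀ h : H, γ h = h → h = 1) → (∀ a b : H, a * b = b * a) ∧ ∀ h : H, γ h = h⁻¹) ∧
    ((Nat.card {h : H // γ h = h} = 2 ∧ ∃ M : Subgroup H, M.index = 2) →
      ∃ A : Subgroup H, A.index = 2 ∧ IsMulCommutative A ∧ (∀ a ∈ A, γ a ∈ A) ∧ ∀ a ∈ A, γ a = a⁻¹) := by
  have hγ2 : ∀ h, γ (γ h) = h := by
    intro h
    have h1 : γ ^ 2 = 1 := by rw [← hγ]; exact pow_orderOf_eq_one γ
    have h2 := congrArg (fun f : MulAut H => f h) h1
    simpa [pow_two] using h2
  have hinv : ∀ h, γ (γ h * h⁻¹) = (γ h * h⁻¹)⁻¹ := by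
    intro h; rw [map_mul, hγ2, map_inv, mul_inv_rev, inv_inv]
  have hfib : ∀ a b : H, γ a * a⁻¹ = γ b * b⁻¹ → γ (b⁻¹ * a) = b⁻¹ * a := by
    intro a b hab
    rw [map_mul, map_inv]
    calc (γ b)⁻¹ * γ a = (γ b)⁻¹ * (γ a * a⁻¹) * a := by group
      _ = (γ b)⁻¹ * (γ b * b⁻¹) * a := by rw [hab]
      _ = b⁻¹ * a := by group
  have hcomm : ∀ a b : H, γ a = a⁻¹ → γ b = b⁻¹ → γ (a * b) = (a * b)⁻¹ → a * b = b * a := by
    intro a b ha hb hab
    rw [map_mul, ha, hb, mul_inv_rev] at hab
    have h2 := congrArg Inv.inv hab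
    simpa using h2.symm
  refine ⟨?_, ?_⟩
  · intro hfix
    have hinj : Function.Injective (fun h => γ h * h⁻¹) := by
      intro a b hab
      have := hfix _ (hfib a b hab)
      exact (inv_mul_eq_one.mp this).symm
    have hsurj := Finite.injective_iff_surjective.mp hinj
    have hall : ∀ h, γ h = h⁻¹ := by
      intro h
      obtain ⟨k, rfl⟩ := hsurj h
      exact hinv k
    exact ⟨fun a b => hcomm a b (hall a) (hall b) (hall _), hall⟩
  · rintro ⟨hcard, M, hM⟩
    -- a γ-invariant subgroup of index 2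
    obtain ⟨N, hN, hNγ⟩ : ∃ N : Subgroup H, N.index = 2 ∧ ∀ h, h ∈ N ↔ γ h ∈ N := by
      by_cases hMγ : ∀ h, h ∈ M ↔ γ h ∈ M
      · exact ⟨M, hM, hMγ⟩
      push Not at hMγ
      obtain ⟨a, ha⟩ := hMγ
      have hmul := @Subgroup.mul_mem_iff_of_index_two _ _ M hM
      let M3 : Subgroup H :=
        { carrier := {h | h ∈ M ↔ γ h ∈ M}
          one_mem' := by simp [M.one_mem]
          mul_mem' := by
            intro x y hx hy
            simp only [Set.mem_ofPred_eq] at hx hy ⊢
            rw [map_mul, hmul, hmul, hx, hy]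
          inv_mem' := by
            intro x hx
            simp only [Set.mem_ofPred_eq] at hx ⊢
            rw [map_inv, inv_mem_iff, inv_mem_iff, hx] }
      have hM3 : ∀ h, h ∈ M3 ↔ (h ∈ M ↔ γ h ∈ M) := fun h => Iff.rfl
      refine ⟨M3, ?_, ?_⟩
      · rw [Subgroup.index_eq_two_iff]
        refine ⟨a, fun b => ?_⟩
        rw [hM3, hM3, map_mul, hmul, hmul]
        unfold Xor
        tauto
      · intro h
        rw [hM3, hM3, hγ2]
        tauto
    have hmulN := @Subgroup.mul_mem_iff_of_index_two _ _ N hN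
    have hmem : ∀ h, γ h * h⁻¹ ∈ N := by
      intro h
      rw [hmulN, inv_mem_iff, ← hNγ]
    -- the fixed point subgroup
    let F : Subgroup H :=
      { carrier := {h | γ h = h}
        one_mem' := map_one γ
        mul_mem' := by
          intro x y hx hy
          simp only [Set.mem_ofPred_eq] at hx hy ⊢
          rw [map_mul, hx, hy]
        inv_mem' := by
          intro x hx
          simp only [Set.mem_ofPred_eq] at hx ⊢
          rw [map_inv, hx] }
    have hF : ∀ h, h ∈ F ↔ γ h = h := fun h => Iff.rfl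
    have hFcard : Nat.card F = 2 := hcard
    let f : H ⧸ F → N := Quotient.lift (fun h : H => (⟨γ h * h⁻¹, hmem h⟩ : N)) (by
      intro a b hab
      have hab' : a⁻¹ * b ∈ F := QuotientGroup.leftRel_apply.mp hab
      rw [hF, map_mul, map_inv] at hab'
      apply Subtype.ext
      show γ a * a⁻¹ = γ b * b⁻¹
      calc γ a * a⁻¹ = γ a * (a⁻¹ * b) * b⁻¹ := by group
        _ = γ a * ((γ a)⁻¹ * γ b) * b⁻¹ := by rw [hab']
        _ = γ b * b⁻¹ := by group)
    have hfinj : Function.Injective f := by
      intro x y hxy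
      induction x using QuotientGroup.induction_on with | _ a => ?_
      induction y using QuotientGroup.induction_on with | _ b => ?_
      have h1 : γ a * a⁻¹ = γ b * b⁻¹ := congrArg Subtype.val hxy
      have h2 := hfib b a h1.symm
      exact QuotientGroup.eq.mpr ((hF _).mpr h2)
    have hcardeq : Nat.card N ≤ Nat.card (H ⧸ F) := by
      have h1 := Subgroup.card_mul_index F
      have h2 := Subgroup.card_mul_index N
      rw [hN] at h2
      rw [hFcard, Subgroup.index_eq_card] at h1
      have : 0 < Nat.card N := Nat.card_pos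
      nlinarith
    have hbij := hfinj.bijective_of_nat_card_le hcardeq
    have hall : ∀ n ∈ N, γ n = n⁻¹ := by
      intro n hn
      obtain ⟨x, hx⟩ := hbij.2 ⟨n, hn⟩
      induction x using QuotientGroup.induction_on with | _ a => ?_
      have h1 : γ a * a⁻¹ = n := congrArg Subtype.val hx
      rw [← h1]
      exact hinv a
    refine ⟨N, hN, ?_, fun a ha => (hNγ a).mp ha, hall⟩
    refine ⟨⟨fun a b => ?_⟩⟩
    apply Subtype.ext
    exact hcomm a.1 b.1 (hall _ a.2) (hall _ b.2) (hall _ (N.mul_mem a.2 b.2))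

end Cfsg.Agent.S3375
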