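import Mathlib
import Cfsg.Agent.Lib.Lead.Nilpotent
import Cfsg.Statements.S3376

set_option autoImplicit false
open Cfsg

namespace Cfsg.Agent.S3376

open scoped commutatorElement

section helpers

open Equiv

theorem cycleType_of_cube {α : Type*} [Fintype α] [DecidableEq α] (τ : Perm α)
    (hc : Fintype.card α = 9) (h3 : τ ^ 3 = 1) (hf : ∀ x, τ x ≠ x) :
    τ.cycleType = Multiset.replicate 3 3 := by
  have hall : ∀ n ∈ τ.cycleType, n = 3 := by
    intro n hn
    have h1 := Equiv.Perm.dvd_of_mem_cycleType hn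
    have h2 := Equiv.Perm.two_le_of_mem_cycleType hn
    have h4 : orderOf τ ∣ 3 := orderOf_dvd_of_pow_eq_one h3
    have h5 : n ∣ 3 := h1.trans h4
    have h6 : n ≤ 3 := Nat.le_of_dvd (by norm_num) h5
    interval_cases n
    · norm_num at h5
    · rfl
  have hrep := Multiset.eq_replicate_card.mpr hall
  have hsum := Equiv.Perm.sum_cycleType τ
  have hsupp : τ.support = Finset.univ := by
    ext x
    simp [Equiv.Perm.mem_support, hf x]
  rw [hsupp, Finset.card_univ, hc, hrep, Multiset.sum_replicate] at hsum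
  have : Multiset.card τ.cycleType = 3 := by
    simp only [smul_eq_mul] at hsum
    omega
  rw [hrep, this]

theorem card_centralizer_of_cube (τ : Perm (Fin 9)) (h3 : τ ^ 3 = 1) (hf : ∀ x, τ x ≠ x) :
    Nat.card (Subgroup.centralizer ({τ} : Set (Perm (Fin 9)))) = 162 := by
  have hct := cycleType_of_cube τ (by simp) h3 hf
  rw [Equiv.Perm.nat_card_centralizer, hct]
  simp
  decide

theorem embed {G : Type*} [Group G] [Finite G] (hG : Nat.card G = 162) (H : Subgroup G)
    (hH : H.index = 9) (hcore : H.normalCore = ⊥) (z : G) (hz : z ∈ Subgroup.center G)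
    (hz3 : z ^ 3 = 1) (hzH : z ∉ H) (σ : Perm (Fin 9)) (hσ3 : σ ^ 3 = 1) (hσf : ∀ x, σ x ≠ x) :
    Nonempty (G ≃* Subgroup.centralizer ({σ} : Set (Perm (Fin 9)))) := by
  classical
  haveI : Fintype (G ⧸ H) := Fintype.ofFinite _
  have hcard : Fintype.card (G ⧸ H) = 9 := by
    rw [← Nat.card_eq_fintype_card]; exact hH
  let φ : G →* Perm (G ⧸ H) := MulAction.toPermHom G (G ⧸ H)
  have hφinj : Function.Injective φ := by
    rw [← MonoidHom.ker_eq_bot_iff, ← Subgroup.normalCore_eq_ker, hcore]
  have hτ3 : (φ z) ^ 3 = 1 := by rw [← map_pow, hz3, map_one]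
  have hτf : ∀ x, (φ z) x ≠ x := by
    intro x
    induction x using QuotientGroup.induction_on with
    | H g =>
      intro h
      have h1 : (φ z) (QuotientGroup.mk g) = QuotientGroup.mk (z * g) := rfl
      rw [h1, QuotientGroup.eq] at h
      apply hzH
      have h2 : (z * g)⁻¹ * g = z⁻¹ := by
        rw [Subgroup.mem_center_iff] at hz
        rw [← hz g]; group
      rw [h2] at h
      exact (Subgroup.inv_mem_iff H).mp h
  have e : (G ⧸ H) ≃ Fin 9 := Fintype.equivFinOfCardEq hcard
  let φ' : G →* Perm (Fin 9) := (e.permCongrHom.toMonoidHom).comp φ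
  have hφ'inj : Function.Injective φ' := by
    intro a b hab
    exact hφinj (e.permCongrHom.injective hab)
  have hτ'3 : (φ' z) ^ 3 = 1 := by rw [← map_pow, hz3, map_one]
  have hτ'f : ∀ x, (φ' z) x ≠ x := by
    intro x h
    have h1 : (φ' z) x = e ((φ z) (e.symm x)) := rfl
    rw [h1] at h
    apply hτf (e.symm x)
    apply e.injective
    rw [h, Equiv.apply_symm_apply]
  have hconj : IsConj (φ' z) σ := by
    rw [Equiv.Perm.isConj_iff_cycleType_eq, cycleType_of_cube _ (by simp) hτ'3 hτ'f,
      cycleType_of_cube _ (by simp) hσ3 hσf]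
  obtain ⟨c, hc⟩ := isConj_iff.mp hconj
  let ψ : G →* Perm (Fin 9) := ((MulAut.conj c).toMonoidHom).comp φ'
  have hψinj : Function.Injective ψ := by
    intro a b hab
    exact hφ'inj ((MulAut.conj c).injective hab)
  have hψz : ψ z = σ := by
    show c * φ' z * c⁻¹ = σ
    exact hc
  have hψmem : ∀ g, ψ g ∈ Subgroup.centralizer ({σ} : Set (Perm (Fin 9))) := by
    intro g
    rw [Subgroup.mem_centralizer_singleton_iff, ← hψz, ← map_mul, ← map_mul]
    rw [Subgroup.mem_center_iff] at hz
    rw [hz g]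
  let Ψ : G →* Subgroup.centralizer ({σ} : Set (Perm (Fin 9))) := ψ.codRestrict _ hψmem
  have hΨinj : Function.Injective Ψ := by
    intro a b hab
    apply hψinj
    exact congrArg Subtype.val hab
  have hΨbij : Function.Bijective Ψ := by
    rw [Nat.bijective_iff_injective_and_card]
    exact ⟨hΨinj, by rw [hG, card_centralizer_of_cube σ hσ3 hσf]⟩
  exact ⟨MulEquiv.ofBijective Ψ hΨbij⟩

theorem maschke3_lin {V : Type*} [AddCommGroup V] [Module (ZMod 3) V] (θ : V →ₗ[ZMod 3] V)
    (hθ : ∀ v, θ (θ v) = v) (Z : Submodule (ZMod 3) V) (hZ : ∀ z ∈ Z, θ z = z) :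
    ∃ B : Submodule (ZMod 3) V, IsCompl B Z ∧ ∀ b ∈ B, θ b ∈ B := by
  obtain ⟨W, hW⟩ := Submodule.exists_isCompl Z
  let π : V →ₗ[ZMod 3] V := Z.subtype ∘ₗ (Z.projectionOnto W hW)
  have hπZ : ∀ v, π v ∈ Z := fun v => (Z.projectionOnto W hW v).2
  have hπid : ∀ z ∈ Z, π z = z := by
    intro z hz
    show ((Z.projectionOnto W hW z : Z) : V) = z
    rw [Submodule.projectionOnto_apply_of_mem_left hW hz]
  let ψ : V →ₗ[ZMod 3] V := π + π ∘ₗ θ
  have hψ : ∀ v, ψ v = π v + π (θ v) := fun v => rfl
  have h3 : ∀ v : V, v + v + v = 0 := by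
    intro v
    have : (3 : ZMod 3) • v = 0 := by
      have : (3 : ZMod 3) = 0 := by decide
      rw [this, zero_smul]
    have h2 : (3 : ZMod 3) • v = v + v + v := by
      have : (3 : ZMod 3) = 1 + 1 + 1 := by decide
      rw [this, add_smul, add_smul, one_smul]
    rw [← h2, this]
  have hψZ : ∀ z ∈ Z, ψ z = - z := by
    intro z hz
    rw [hψ, hZ z hz, hπid z hz]
    have := h3 z
    exact eq_neg_of_add_eq_zero_left this
  have hψmem : ∀ v, ψ v ∈ Z := fun v => Z.add_mem (hπZ _) (hπZ _)
  refine ⟨LinearMap.ker ψ, ⟨?_, ?_⟩, ?_⟩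
  · rw [Submodule.disjoint_def]
    intro v hv hvZ
    rw [LinearMap.mem_ker, hψZ v hvZ] at hv
    exact neg_eq_zero.mp hv
  · rw [codisjoint_iff, eq_top_iff]
    intro v _
    rw [Submodule.mem_sup]
    refine ⟨v + ψ v, ?_, - ψ v, Z.neg_mem (hψmem v), by abel⟩
    rw [LinearMap.mem_ker, map_add, hψZ _ (hψmem v)]
    abel
  · intro b hb
    rw [LinearMap.mem_ker] at hb ⊢
    rw [hψ, hθ, add_comm, ← hψ, hb]

theorem maschke3 {A : Type*} [CommGroup A] [Finite A] (h3 : ∀ a : A, a ^ 3 = 1) (θ : A →* A)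
    (hθ : ∀ a, θ (θ a) = a) (Z : Subgroup A) (hZ : ∀ z ∈ Z, θ z = z) :
    ∃ B : Subgroup A, (∀ b ∈ B, θ b ∈ B) ∧ B ⊓ Z = ⊥ ∧
      Nat.card B * Nat.card Z = Nat.card A := by
  letI : Module (ZMod 3) (Additive A) := AddCommGroup.zmodModule (n := 3) (fun x => by
    show Additive.ofMul (x.toMul ^ 3) = 0
    rw [h3]; rfl)
  let θ' : Additive A →ₗ[ZMod 3] Additive A := (MonoidHom.toAdditive θ).toZModLinearMap 3
  let Z' : Submodule (ZMod 3) (Additive A) :=
    AddSubgroup.toZModSubmodule 3 (Subgroup.toAddSubgroup Z)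
  obtain ⟨B', hB', hθB'⟩ := maschke3_lin θ' (fun v => hθ v.toMul) Z' (fun z hz => hZ z.toMul hz)
  let B : Subgroup A := AddSubgroup.toSubgroup' B'.toAddSubgroup
  have hmemB : ∀ a : A, a ∈ B ↔ Additive.ofMul a ∈ B' := fun a => Iff.rfl
  refine ⟨B, ?_, ?_, ?_⟩
  · intro b hb
    exact hθB' _ hb
  · rw [eq_bot_iff]
    intro a ha
    have h1 : Additive.ofMul a ∈ B' ⊓ Z' := ⟨ha.1, ha.2⟩
    rw [hB'.inf_eq_bot, Submodule.mem_bot] at h1
    rw [Subgroup.mem_bot]
    exact h1
  · have e := Submodule.prodEquivOfIsCompl B' Z' hB'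
    have h1 : Nat.card (B' × Z') = Nat.card (Additive A) := Nat.card_congr e.toEquiv
    rw [Nat.card_prod] at h1
    exact h1

open scoped Pointwise in
theorem sup_normalizer_elts {G : Type*} [Group G] (T A : Subgroup G)
    (h : T ≤ Subgroup.normalizer (A : Set G)) :
    ∀ x ∈ T ⊔ A, ∃ u ∈ T, ∃ a ∈ A, u * a = x := by
  intro x hx
  have : x ∈ ((T ⊔ A : Subgroup G) : Set G) := hx
  rw [Subgroup.coe_mul_of_left_le_normalizer_right _ _ h] at this
  obtain ⟨u, hu, a, ha, rfl⟩ := this
  exact ⟨u, hu, a, ha, rfl⟩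

open scoped Pointwise in
theorem card_sup_normalizer_le {G : Type*} [Group G] (T A : Subgroup G)
    (h : T ≤ Subgroup.normalizer (A : Set G)) :
    Nat.card (T ⊔ A : Subgroup G) ≤ Nat.card T * Nat.card A := by
  have h1 : Nat.card (T ⊔ A : Subgroup G) = Nat.card ((T : Set G) * (A : Set G) : Set G) := by
    rw [← Subgroup.coe_mul_of_left_le_normalizer_right _ _ h]; rfl
  rw [h1]
  exact Set.natCard_mul_le

theorem exists_gen_of_prime_card {G : Type*} [Group G] (K : Subgroup G) {p : ℕ}
    [hp : Fact p.Prime] (h : Nat.card K = p) :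
    ∃ x ∈ K, x ≠ 1 ∧ orderOf x = p ∧ K = Subgroup.zpowers x := by
  haveI : Finite K := Nat.finite_of_card_ne_zero (by rw [h]; exact hp.out.ne_zero)
  haveI : Nontrivial K := Finite.one_lt_card_iff_nontrivial.mp (by rw [h]; exact hp.out.one_lt)
  obtain ⟨g, hg⟩ := exists_ne (1 : K)
  have htop := zpowers_eq_top_of_prime_card h hg
  have hord : orderOf g = p := by
    rw [← Nat.card_zpowers, htop, Subgroup.card_top, h]
  refine ⟨g, g.2, fun h1 => hg (Subtype.ext h1), by rw [Subgroup.orderOf_coe]; exact hord, ?_⟩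
  have := congrArg (Subgroup.map K.subtype) htop
  rw [MonoidHom.map_zpowers, ← MonoidHom.range_eq_map, Subgroup.range_subtype] at this
  exact this.symm

theorem fact162_3 : (162 : ℕ).factorization 3 = 4 := by
  rw [Nat.factorization_def _ Nat.prime_three]
  have h162 : (162 : ℕ) = 3 ^ 4 * 2 := by norm_num
  haveI : Fact (Nat.Prime 3) := ⟨Nat.prime_three⟩
  rw [h162, padicValNat.mul (by norm_num) (by norm_num), padicValNat.prime_pow,
    padicValNat.eq_zero_of_not_dvd (by norm_num)]

theorem fact162_2 : (162 : ℕ).factorization 2 = 1 := by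
  rw [Nat.factorization_def _ Nat.prime_two]
  have h162 : (162 : ℕ) = 2 ^ 1 * 81 := by norm_num
  haveI : Fact (Nat.Prime 2) := ⟨Nat.prime_two⟩
  rw [h162, padicValNat.mul (by norm_num) (by norm_num), padicValNat.prime_pow,
    padicValNat.eq_zero_of_not_dvd (by norm_num)]

end helpers



/-- Let G be a group of order 162 = 3⁴·2 with Sylow 3-subgroup S and Sylow 2-subgroup T, having an elementary abelian normal subgroup J of order 27, such that Z = Z(S) has order 3, Z centralizes T, and C_S(T) ≠ S. Then G is isomorphic to the centralizer in Sym(9) of a product of three disjoint 3-cycles. -/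
theorem result {G : Type*} [Group G] [Finite G] (hG : Nat.card G = 162)
    (S : Sylow 3 G) (T : Sylow 2 G) (J : Subgroup G) [hJn : J.Normal] (hJcomm : IsMulCommutative J)
    (hJexp : ∀ a ∈ J, a ^ 3 = 1) (hJcard : Nat.card J = 27)
    (Z : Subgroup G) (hZ : Z = (S : Subgroup G) ⊓ Subgroup.centralizer ((S : Subgroup G) : Set G)) (hZcard : Nat.card Z = 3)
    (hZT : Z ≤ Subgroup.centralizer ((T : Subgroup G) : Set G))
    (hST : (S : Subgroup G) ⊓ Subgroup.centralizer ((T : Subgroup G) : Set G) ≠ S) :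
    Nonempty (G ≃* Subgroup.centralizer ({Equiv.swap (0 : Fin 9) 1 * Equiv.swap 1 2 * Equiv.swap 3 4 * Equiv.swap 4 5 * Equiv.swap 6 7 * Equiv.swap 7 8} : Set (Equiv.Perm (Fin 9)))) := by
  classical
  haveI : Fact (Nat.Prime 3) := ⟨Nat.prime_three⟩
  haveI : Fact (Nat.Prime 2) := ⟨Nat.prime_two⟩
  have hScard : Nat.card (S : Subgroup G) = 81 := by
    rw [Sylow.card_eq_multiplicity, hG, fact162_3]; norm_num
  have hTcard : Nat.card (T : Subgroup G) = 2 := by
    rw [Sylow.card_eq_multiplicity, hG, fact162_2]; norm_num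
  have hSidx : (S : Subgroup G).index = 2 := by
    have := (S : Subgroup G).card_mul_index
    rw [hScard, hG] at this
    omega
  haveI hSn : (S : Subgroup G).Normal := Subgroup.normal_of_index_eq_two hSidx
  have hJS : J ≤ S := IsPGroup.le_sylow_of_normal (IsPGroup.of_card (n := 3) hJcard) S
  obtain ⟨t, htT, ht1, htord, hTeq⟩ := exists_gen_of_prime_card (T : Subgroup G) hTcard
  obtain ⟨z, hzZ, hz1, hzord, hZeq⟩ := exists_gen_of_prime_card Z hZcard
  have ht2 : t * t = 1 := by rw [← pow_two, ← htord, pow_orderOf_eq_one]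
  have htinv : t⁻¹ = t := inv_eq_of_mul_eq_one_left ht2
  have hz3 : z ^ 3 = 1 := by rw [← hzord, pow_orderOf_eq_one]
  have htS : t ∉ (S : Subgroup G) := by
    intro h
    have h1 : orderOf t ∣ 81 := by
      rw [← hScard]
      have := orderOf_dvd_natCard (⟨t, h⟩ : (S : Subgroup G))
      rwa [Subgroup.orderOf_mk] at this
    rw [htord] at h1
    norm_num at h1
  have hzS : z ∈ (S : Subgroup G) := by rw [hZ] at hzZ; exact hzZ.1
  have hzcS : z ∈ Subgroup.centralizer ((S : Subgroup G) : Set G) := by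
    rw [hZ] at hzZ; exact hzZ.2
  have hsup : (S : Subgroup G) ⊔ T = ⊤ := by
    apply Subgroup.eq_top_of_card_eq
    have h1 : 81 ∣ Nat.card ((S : Subgroup G) ⊔ T : Subgroup G) := by
      rw [← hScard]; exact Subgroup.card_dvd_of_le le_sup_left
    have h2 : 2 ∣ Nat.card ((S : Subgroup G) ⊔ T : Subgroup G) := by
      have := Subgroup.card_dvd_of_le (le_sup_right : (T : Subgroup G) ≤ (S : Subgroup G) ⊔ T)
      rwa [hTcard] at this
    have h3 : Nat.card ((S : Subgroup G) ⊔ T : Subgroup G) ∣ 162 := by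
      rw [← hG]; exact Subgroup.card_subgroup_dvd_card _
    rw [hG]
    have := Nat.le_of_dvd (by norm_num) h3
    have hpos : 0 < Nat.card ((S : Subgroup G) ⊔ T : Subgroup G) := Nat.card_pos
    omega
  have hzc : z ∈ Subgroup.center G := by
    have h1 : (S : Subgroup G) ⊔ T ≤ Subgroup.centralizer {z} := by
      apply sup_le
      · intro x hx
        rw [Subgroup.mem_centralizer_singleton_iff]
        exact (hzcS x hx)
      · intro x hx
        rw [Subgroup.mem_centralizer_singleton_iff]
        exact (hZT hzZ x hx)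
    rw [hsup] at h1
    rw [Subgroup.mem_center_iff]
    intro g
    have := h1 (Subgroup.mem_top g)
    rw [Subgroup.mem_centralizer_singleton_iff] at this
    exact this
  have hgen : ∀ x ∈ (S : Subgroup G), x ∉ J → (S : Subgroup G) = J ⊔ Subgroup.zpowers x := by
    intro x hxS hxJ
    have hle : J ⊔ Subgroup.zpowers x ≤ S := sup_le hJS (Subgroup.zpowers_le.mpr hxS)
    symm
    apply Subgroup.eq_of_le_of_card_ge hle
    have h1 : 27 ∣ Nat.card (J ⊔ Subgroup.zpowers x : Subgroup G) := by
      rw [← hJcard]; exact Subgroup.card_dvd_of_le le_sup_left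
    have h2 : Nat.card (J ⊔ Subgroup.zpowers x : Subgroup G) ∣ 81 := by
      rw [← hScard]; exact Subgroup.card_dvd_of_le hle
    have h3 : Nat.card (J ⊔ Subgroup.zpowers x : Subgroup G) ≠ 27 := by
      intro h
      have : J = J ⊔ Subgroup.zpowers x :=
        Subgroup.eq_of_le_of_card_ge le_sup_left (by rw [h, hJcard])
      apply hxJ; rw [this]; exact Subgroup.mem_sup_right (Subgroup.mem_zpowers x)
    rw [hScard]
    obtain ⟨k, hk⟩ := h1
    obtain ⟨l, hl⟩ := h2
    rw [hk] at hl h3 ⊢
    have hkl : k * l = 3 := by nlinarith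
    have hk3 : k ∣ 3 := ⟨l, hkl.symm⟩
    have := Nat.le_of_dvd (by norm_num) hk3
    interval_cases k <;> omega
  have hJZ_contra : ∀ x ∈ (S : Subgroup G), (∀ a ∈ J, x * a = a * x) → x ∈ J := by
    intro x hxS hx
    by_contra hxJ
    have hSeq := hgen x hxS hxJ
    have hJleZ : J ≤ Z := by
      intro a ha
      rw [hZ]
      refine Subgroup.mem_inf.mpr ⟨hJS ha, ?_⟩
      rw [Subgroup.mem_centralizer_iff]
      intro y hy
      have h1 : J ⊔ Subgroup.zpowers x ≤ Subgroup.centralizer {a} := by
        apply sup_le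
        · intro b hb
          rw [Subgroup.mem_centralizer_singleton_iff]
          have := hJcomm.is_comm.comm (⟨a, ha⟩ : J) ⟨b, hb⟩
          exact (congrArg Subtype.val this).symm
        · rw [Subgroup.zpowers_le, Subgroup.mem_centralizer_singleton_iff]
          exact (hx a ha)
      have hy' : y ∈ J ⊔ Subgroup.zpowers x := by rw [← hSeq]; exact hy
      have := h1 hy'
      rw [Subgroup.mem_centralizer_singleton_iff] at this
      exact this
    have := Subgroup.card_le_of_le hJleZ
    rw [hJcard, hZcard] at this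
    omega
  have hzJ : z ∈ J := hJZ_contra z hzS (fun a ha => (hzcS a (hJS ha)).symm)
  have hZJ : Z ≤ J := by rw [hZeq]; exact Subgroup.zpowers_le.mpr hzJ
  -- Maschke
  letI : CommGroup J :=
    { (inferInstance : Group J) with mul_comm := fun a b => hJcomm.is_comm.comm a b }
  let θ : J →* J := (MulAut.conjNormal t : MulAut J).toMonoidHom
  have hθval : ∀ a : J, ((θ a : J) : G) = t * a * t⁻¹ := fun a => rfl
  obtain ⟨B, hBθ, hBZ, hBcard⟩ := maschke3 (A := J)
    (fun a => Subtype.ext (by simpa using hJexp a a.2)) θ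
    (fun a => Subtype.ext (by
      rw [hθval, hθval, htinv]
      calc t * (t * (a : G) * t) * t = (t * t) * a * (t * t) := by group
        _ = a := by rw [ht2, one_mul, mul_one]))
    (Z.subgroupOf J)
    (fun w hw => Subtype.ext (by
      rw [hθval]
      have h1 : (w : G) ∈ Z := hw
      have h2 := hZT h1 t htT
      rw [h2, mul_inv_cancel_right]))
  have hZ'card : Nat.card (Z.subgroupOf J) = 3 := by
    rw [Nat.card_congr (Subgroup.subgroupOfEquivOfLe hZJ).toEquiv, hZcard]
  rw [hZ'card, hJcard] at hBcard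
  have hBcard9 : Nat.card B = 9 := by omega
  set A : Subgroup G := B.map J.subtype with hAdef
  have hAcard : Nat.card A = 9 := by
    rw [hAdef, Subgroup.card_map_of_injective J.subtype_injective, hBcard9]
  have hAJ : A ≤ J := Subgroup.map_subtype_le B
  have hzA : z ∉ A := by
    intro h
    obtain ⟨b, hb, hbz⟩ := h
    have h1 : b ∈ B ⊓ Z.subgroupOf J := by
      refine ⟨hb, ?_⟩
      show (b : G) ∈ Z
      have : (b : G) = z := hbz
      rw [this]; exact hzZ
    rw [hBZ, Subgroup.mem_bot] at h1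
    apply hz1
    rw [← hbz, h1]; rfl
  have hAt : ∀ a ∈ A, t * a * t⁻¹ ∈ A := by
    intro a ha
    obtain ⟨b, hb, rfl⟩ := ha
    exact ⟨θ b, hBθ b hb, rfl⟩
  have htN : t ∈ Subgroup.normalizer (A : Set G) := by
    rw [Subgroup.mem_normalizer_iff]
    intro a
    constructor
    · exact hAt a
    · intro h
      have := hAt _ h
      rw [htinv] at this
      have e : t * (t * a * t) * t = a := by
        calc t * (t * a * t) * t = (t * t) * a * (t * t) := by group
          _ = a := by rw [ht2, one_mul, mul_one]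
      rwa [e] at this
  have hTN : (T : Subgroup G) ≤ Subgroup.normalizer (A : Set G) := by
    rw [hTeq]; exact Subgroup.zpowers_le.mpr htN
  have hTelts : ∀ x ∈ (T : Subgroup G), x = 1 ∨ x = t := by
    intro x hx
    rw [hTeq, Subgroup.mem_zpowers_iff] at hx
    obtain ⟨k, rfl⟩ := hx
    rcases Int.even_or_odd' k with ⟨m, rfl | rfl⟩
    · left
      rw [zpow_mul, zpow_two, ht2, one_zpow]
    · right
      rw [zpow_add, zpow_mul, zpow_two, ht2, one_zpow, one_mul, zpow_one]
  set H : Subgroup G := (T : Subgroup G) ⊔ A with hHdef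
  have hHS : ∀ x ∈ H, x ∈ (S : Subgroup G) → x ∈ A := by
    intro x hx hxS
    obtain ⟨u, hu, a, ha, rfl⟩ := sup_normalizer_elts _ _ hTN x hx
    rcases hTelts u hu with rfl | rfl
    · rw [one_mul]; exact ha
    · exfalso
      apply htS
      have := (S : Subgroup G).mul_mem hxS ((S : Subgroup G).inv_mem (hJS (hAJ ha)))
      rwa [mul_inv_cancel_right] at this
  have hzH : z ∉ H := fun h => hzA (hHS z h hzS)
  have hHcard : Nat.card H = 18 := by
    have h1 : 9 ∣ Nat.card H := by
      rw [← hAcard]; exact Subgroup.card_dvd_of_le le_sup_right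
    have h2 : 2 ∣ Nat.card H := by
      have := Subgroup.card_dvd_of_le (le_sup_left : (T : Subgroup G) ≤ H)
      rwa [hTcard] at this
    have h3 : Nat.card H ≤ 18 := by
      have h4 := card_sup_normalizer_le _ _ hTN
      rw [hTcard, hAcard] at h4
      exact h4
    have h4 : 0 < Nat.card H := Nat.card_pos
    omega
  have hHidx : H.index = 9 := by
    have := H.card_mul_index
    rw [hHcard, hG] at this
    omega
  -- core
  have hcore : H.normalCore = ⊥ := by
    set N := H.normalCore with hNdef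
    have hNH : N ≤ H := Subgroup.normalCore_le H
    haveI hNn : N.Normal := Subgroup.normalCore_normal H
    have hM : N ⊓ S = ⊥ := by
      by_contra hne
      haveI : ((N ⊓ S).subgroupOf S).Normal := by
        haveI : (N ⊓ (S : Subgroup G)).Normal := inferInstance
        infer_instance
      haveI : Group.IsNilpotent (S : Subgroup G) := S.isPGroup'.isNilpotent
      have hne' : (N ⊓ S).subgroupOf S ≠ ⊥ := by
        intro h
        apply hne
        rw [Subgroup.subgroupOf_eq_bot] at h
        rw [← inf_eq_left.mpr (inf_le_right : N ⊓ (S : Subgroup G) ≤ S)]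
        exact disjoint_iff.mp h
      have h1 := Cfsg.Agent.Lib.Lead.inf_center_ne_bot ((N ⊓ S).subgroupOf S) hne'
      obtain ⟨⟨x, hx⟩, hx1⟩ := (Subgroup.ne_bot_iff_exists_ne_one).mp h1
      have hx1' : x ≠ 1 := fun h => hx1 (Subtype.ext h)
      have hxN : (x : G) ∈ N ⊓ S := hx.1
      have hxc : x ∈ Subgroup.center (S : Subgroup G) := hx.2
      have hxZ : (x : G) ∈ Z := by
        rw [hZ]
        refine Subgroup.mem_inf.mpr ⟨x.2, ?_⟩
        rw [Subgroup.mem_centralizer_iff]
        intro y hy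
        rw [Subgroup.mem_center_iff] at hxc
        have := hxc ⟨y, hy⟩
        exact congrArg Subtype.val this
      have hxne : (x : G) ≠ 1 := fun h => hx1' (Subtype.ext h)
      -- z ∈ zpowers x
      have hZx : Z = Subgroup.zpowers (x : G) := by
        symm
        apply Subgroup.eq_of_le_of_card_ge (Subgroup.zpowers_le.mpr hxZ)
        rw [hZcard, Nat.card_zpowers]
        have h2 : orderOf (x : G) ∣ 3 := by
          have := orderOf_dvd_natCard (⟨(x : G), hxZ⟩ : Z)
          rwa [Subgroup.orderOf_mk, hZcard] at this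
        have h3 : orderOf (x : G) ≠ 1 := fun h => hxne (orderOf_eq_one_iff.mp h)
        have := Nat.le_of_dvd (by norm_num) h2
        have h4 : orderOf (x : G) ≠ 2 := by
          intro h; rw [h] at h2; norm_num at h2
        have h5 : 0 < orderOf (x : G) := Nat.pos_of_dvd_of_pos h2 (by norm_num)
        omega
      have hzx : z ∈ Subgroup.zpowers (x : G) := by rw [← hZx]; exact hzZ
      have hzNS : z ∈ N ⊓ S := (Subgroup.zpowers_le.mpr hxN) hzx
      exact hzA (hHS z (hNH hzNS.1) hzS)
    rw [Subgroup.eq_bot_iff_forall]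
    intro n hn
    by_contra hn1
    have hnS : n ∉ (S : Subgroup G) := by
      intro h
      have : n ∈ N ⊓ S := ⟨hn, h⟩
      rw [hM, Subgroup.mem_bot] at this
      exact hn1 this
    have hn2 : n * n = 1 := by
      have h1 : n * n ∈ N ⊓ S :=
        ⟨N.mul_mem hn hn, Subgroup.mul_self_mem_of_index_two hSidx n⟩
      rw [hM, Subgroup.mem_bot] at h1
      exact h1
    -- n is conjugate to t
    have hnP : IsPGroup 2 (Subgroup.zpowers n) := by
      rw [IsPGroup.iff_card]  -- may fail
      refine ⟨1, ?_⟩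
      rw [Nat.card_zpowers, pow_one]
      exact orderOf_eq_prime (by rw [pow_two]; exact hn2) hn1
    obtain ⟨Q, hQ⟩ := hnP.exists_le_sylow
    obtain ⟨g, hg⟩ := MulAction.exists_smul_eq G Q T
    have hnQ : n ∈ (Q : Subgroup G) := hQ (Subgroup.mem_zpowers n)
    have hgn : g * n * g⁻¹ ∈ (T : Subgroup G) := by
      rw [← hg, Sylow.coe_subgroup_smul]  -- may need adjusting
      exact ⟨n, hnQ, rfl⟩
    have hgnt : g * n * g⁻¹ = t := by
      rcases hTelts _ hgn with h | h
      · exfalso
        apply hn1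
        have : n = g⁻¹ * (g * n * g⁻¹) * g := by group
        rw [this, h]; group
      · exact h
    have htN' : t ∈ N := by
      rw [← hgnt]; exact hNn.conj_mem n hn g
    -- then S centralises T
    apply hST
    rw [inf_eq_left]
    intro s hs
    rw [Subgroup.mem_centralizer_iff]
    intro x hx
    have key : t * s = s * t := by
      have h1 : s * t * s⁻¹ * t⁻¹ ∈ N ⊓ S := by
        refine ⟨N.mul_mem (hNn.conj_mem t htN' s) (N.inv_mem htN'), ?_⟩
        have h2 : t * s⁻¹ * t⁻¹ ∈ (S : Subgroup G) :=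
          hSn.conj_mem s⁻¹ ((S : Subgroup G).inv_mem hs) t
        have h3 := (S : Subgroup G).mul_mem hs h2
        have e : s * (t * s⁻¹ * t⁻¹) = s * t * s⁻¹ * t⁻¹ := by group
        rwa [e] at h3
      rw [hM, Subgroup.mem_bot] at h1
      have : s * t = t * s := by
        have h2 : s * t * s⁻¹ * t⁻¹ * (t * s) = 1 * (t * s) := by rw [h1]
        rw [one_mul] at h2
        rw [← h2]; group
      exact this.symm
    rcases hTelts x hx with rfl | rfl
    · rw [one_mul, mul_one]
    · exact key
  exact embed hG H hHidx hcore z hzc hz3 hzH _ (by decide) (by decide)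


end Cfsg.Agent.S3376
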