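import Mathlib
import Cfsg.Agent.Lib.Helper6.Conj2
import Cfsg.Statements.S3379

set_option autoImplicit false
open Cfsg

namespace Cfsg.Agent.S3379

open Cfsg.Agent.Lib.Helper6

theorem conj_zpow_of {G : Type*} [Group G] (x y : G) (r : ℕ) (hxy : x⁻¹ * y * x = y ^ r) (k : ℤ) :
    x⁻¹ * y ^ k * x = (y ^ r) ^ k := by
  have h : (MulAut.conj x⁻¹) (y ^ k) = ((MulAut.conj x⁻¹) y) ^ k := map_zpow _ _ _
  simp only [MulAut.conj_apply, inv_inv] at h
  rw [h, hxy]

theorem conj_pow_of {G : Type*} [Group G] (x y : G) (r : ℕ) (hxy : x⁻¹ * y * x = y ^ r) (k : ℕ) :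
    x⁻¹ * y ^ k * x = (y ^ r) ^ k := by
  have h : (MulAut.conj x⁻¹) (y ^ k) = ((MulAut.conj x⁻¹) y) ^ k := map_pow _ _ _
  simp only [MulAut.conj_apply, inv_inv] at h
  rw [h, hxy]

theorem iter_conj {G : Type*} [Group G] (x y : G) (r : ℕ) (hxy : x⁻¹ * y * x = y ^ r) (n : ℕ) :
    (x ^ n)⁻¹ * y * x ^ n = y ^ (r ^ n) := by
  induction n with
  | zero => simp
  | succ n ih =>
    have : (x ^ (n + 1))⁻¹ * y * x ^ (n + 1) = x⁻¹ * ((x ^ n)⁻¹ * y * x ^ n) * x := by
      rw [pow_succ]; group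
    rw [this, ih, conj_pow_of x y r hxy, ← pow_mul, pow_succ, mul_comm]

theorem key {G : Type*} [Group G] [Finite G] (x y : G) (r : ℕ) (hr : 1 ≤ r)
    (hxy : x⁻¹ * y * x = y ^ r) (hgen : Subgroup.closure {x, y} = ⊤)
    (hN : commutator G = Subgroup.zpowers y) :
    Nat.Coprime (r - 1) (orderOf y) := by
  set K : Subgroup G := Subgroup.zpowers (y ^ (r - 1)) with hK
  have hyK : ∀ s ∈ K, y * s = s * y := by
    intro s hs
    obtain ⟨k, rfl⟩ := Subgroup.mem_zpowers_iff.mp hs
    have : Commute y ((y ^ (r - 1)) ^ k) := ((Commute.refl y).pow_right _).zpow_right _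
    exact this.eq
  have hxn : x⁻¹ ∈ Subgroup.normalizer (K : Set G) := by
    apply mem_normalizer_of_forall_conj_mem
    intro s hs
    obtain ⟨k, rfl⟩ := Subgroup.mem_zpowers_iff.mp hs
    rw [inv_inv, ← zpow_natCast y (r - 1), ← zpow_mul, conj_zpow_of x y r hxy]
    rw [hK, Subgroup.mem_zpowers_iff]
    refine ⟨(r : ℤ) * k, ?_⟩
    rw [← zpow_natCast y (r - 1), ← zpow_natCast y r, ← zpow_mul, ← zpow_mul]
    congr 1; ring
  have hyn : y ∈ Subgroup.normalizer (K : Set G) := by
    apply mem_normalizer_of_forall_conj_mem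
    intro s hs
    rw [hyK s hs, mul_inv_cancel_right]; exact hs
  have hnorm : Subgroup.normalizer (K : Set G) = ⊤ := by
    rw [eq_top_iff, ← hgen, Subgroup.closure_le]
    intro g hg
    rcases hg with rfl | rfl
    · simpa using Subgroup.inv_mem _ hxn
    · exact hyn
  haveI hKn : K.Normal := Subgroup.normalizer_eq_top_iff.mp hnorm
  have hcomm : IsMulCommutative (G ⧸ K) := by
    have hcl : Subgroup.closure {QuotientGroup.mk' K x, QuotientGroup.mk' K y} = ⊤ := by
      have := congrArg (Subgroup.map (QuotientGroup.mk' K)) hgen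
      rw [MonoidHom.map_closure, Subgroup.map_top_of_surjective _ (QuotientGroup.mk'_surjective K),
        Set.image_pair] at this
      exact this
    have hxyK : QuotientGroup.mk' K x * QuotientGroup.mk' K y
        = QuotientGroup.mk' K y * QuotientGroup.mk' K x := by
      rw [← map_mul, ← map_mul, QuotientGroup.mk'_apply, QuotientGroup.mk'_apply, QuotientGroup.eq]
      have : (x * y)⁻¹ * (y * x) = y ^ (r - 1) := by
        have h1 : (x * y)⁻¹ * (y * x) = y⁻¹ * (x⁻¹ * y * x) := by group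
        rw [h1, hxy]
        obtain ⟨t, rfl⟩ : ∃ t, r = t + 1 := ⟨r - 1, by omega⟩
        rw [pow_succ', inv_mul_cancel_left]; simp
      rw [this]
      exact Subgroup.mem_zpowers _
    have h := Subgroup.isMulCommutative_closure
      (k := ({QuotientGroup.mk' K x, QuotientGroup.mk' K y} : Set (G ⧸ K))) (by
        intro a ha b hb
        rcases ha with rfl | rfl <;> rcases hb with rfl | rfl
        · rfl
        · exact hxyK
        · exact hxyK.symm
        · rfl)
    rw [hcl] at h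
    refine ⟨⟨fun a b => ?_⟩⟩
    have := h.is_comm.comm ⟨a, Subgroup.mem_top a⟩ ⟨b, Subgroup.mem_top b⟩
    exact congrArg Subtype.val this
  have hle : commutator G ≤ K := Subgroup.Normal.quotient_commutative_iff_commutator_le.mp hcomm
  have hy : y ∈ K := hle (hN ▸ Subgroup.mem_zpowers y)
  have hdvd : orderOf y ∣ orderOf (y ^ (r - 1)) := orderOf_dvd_of_mem_zpowers hy
  rw [orderOf_pow] at hdvd
  have hpos : 0 < orderOf y := orderOf_pos y
  have hgpos : 0 < Nat.gcd (orderOf y) (r - 1) := Nat.gcd_pos_of_pos_left _ hpos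
  have hle2 : orderOf y / Nat.gcd (orderOf y) (r - 1) ≤ orderOf y := Nat.div_le_self _ _
  have hdpos : 0 < orderOf y / Nat.gcd (orderOf y) (r - 1) :=
    Nat.div_pos (Nat.le_of_dvd hpos (Nat.gcd_dvd_left _ _)) hgpos
  have heq : orderOf y / Nat.gcd (orderOf y) (r - 1) = orderOf y :=
    le_antisymm hle2 (Nat.le_of_dvd hdpos hdvd)
  have : Nat.gcd (orderOf y) (r - 1) = 1 := by
    rcases (Nat.div_eq_self.mp heq) with h | h
    · omega
    · exact h
  rw [Nat.Coprime, Nat.gcd_comm]; exact this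

/-- Let G be a finite group all of whose Sylow subgroups are cyclic. Then G is generated by two elements x and y of coprime orders n and m with x⁻¹yx = y^r, where gcd(r − 1, m) = 1 and r^n ≡ 1 (mod m). -/
theorem result {G : Type*} [Group G] [Finite G]
    (hZ : ∀ (p : ℕ) [Fact p.Prime] (P : Sylow p G), IsCyclic (P : Subgroup G)) :
    ∃ (x y : G) (n m r : ℕ), Subgroup.closure {x, y} = ⊤ ∧ orderOf x = n ∧ orderOf y = m ∧
      x⁻¹ * y * x = y ^ r ∧ Nat.Coprime (r - 1) m ∧ Nat.Coprime n m ∧ 1 ≤ r ∧ r ^ n % m = 1 % m := by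
  classical
  haveI hG : IsZGroup G := ⟨fun p hp P => by haveI := Fact.mk hp; exact hZ p P⟩
  obtain ⟨H, hH⟩ := Subgroup.exists_right_complement'_of_coprime hG.coprime_commutator_index
  have h1 : Abelianization G ≃* H := hH.symm.QuotientMulEquiv
  haveI : IsCyclic H := isCyclic_of_surjective _ h1.surjective
  haveI : IsCyclic (commutator G) := hG.isCyclic_commutator
  obtain ⟨x, hxH, hHx⟩ : ∃ x : G, x ∈ H ∧ H = Subgroup.zpowers x := by
    obtain ⟨x0, hx0⟩ := IsCyclic.exists_generator (α := H)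
    refine ⟨x0, x0.2, le_antisymm ?_ ?_⟩
    · intro h hh
      obtain ⟨k, hk⟩ := Subgroup.mem_zpowers_iff.mp (hx0 ⟨h, hh⟩)
      rw [Subgroup.mem_zpowers_iff]
      exact ⟨k, by have := congrArg Subtype.val hk; simpa using this⟩
    · rw [Subgroup.zpowers_le]; exact x0.2
  obtain ⟨y, hyN, hNy⟩ : ∃ y : G, y ∈ commutator G ∧ commutator G = Subgroup.zpowers y := by
    obtain ⟨y0, hy0⟩ := IsCyclic.exists_generator (α := commutator G)
    refine ⟨y0, y0.2, le_antisymm ?_ ?_⟩
    · intro h hh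
      obtain ⟨k, hk⟩ := Subgroup.mem_zpowers_iff.mp (hy0 ⟨h, hh⟩)
      rw [Subgroup.mem_zpowers_iff]
      exact ⟨k, by have := congrArg Subtype.val hk; simpa using this⟩
    · rw [Subgroup.zpowers_le]; exact y0.2
  have hgen : Subgroup.closure {x, y} = ⊤ := by
    rw [eq_top_iff, ← hH.sup_eq_top, sup_le_iff]
    constructor
    · rw [hNy, Subgroup.zpowers_le]; exact Subgroup.subset_closure (by simp)
    · rw [hHx, Subgroup.zpowers_le]; exact Subgroup.subset_closure (by simp)
  have hm : orderOf y = Nat.card (commutator G) := by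
    rw [← Nat.card_zpowers, ← hNy]
  have hn : orderOf x = Nat.card H := by
    rw [← Nat.card_zpowers, ← hHx]
  have hmpos : 0 < orderOf y := orderOf_pos _
  -- the conjugate
  have hconj : x⁻¹ * y * x ∈ Subgroup.zpowers y := by
    rw [← hNy]
    have := (inferInstance : (commutator G).Normal).conj_mem y hyN x⁻¹
    simpa using this
  obtain ⟨k, hk⟩ := Subgroup.mem_zpowers_iff.mp hconj
  have hkmod : y ^ k = y ^ (k % (orderOf y : ℤ)) := (zpow_mod_orderOf _ _).symm
  have hnonneg : 0 ≤ k % (orderOf y : ℤ) := Int.emod_nonneg _ (by exact_mod_cast hmpos.ne')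
  obtain ⟨r0, hr0⟩ := Int.eq_ofNat_of_zero_le hnonneg
  have hxy : x⁻¹ * y * x = y ^ (r0 + orderOf y) := by
    rw [← hk, hkmod, hr0, zpow_natCast, pow_add, pow_orderOf_eq_one, mul_one]
  refine ⟨x, y, orderOf x, orderOf y, r0 + orderOf y, hgen, rfl, rfl, hxy, ?_, ?_, by omega, ?_⟩
  · exact key _ _ _ (by omega) hxy hgen hNy
  · rw [hn, hm]
    have := hG.coprime_commutator_index
    rw [hH.symm.index_eq_card] at this
    exact this.symm
  · have h2 := iter_conj x y (r0 + orderOf y) hxy (orderOf x)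
    rw [pow_orderOf_eq_one, inv_one, one_mul, mul_one] at h2
    have h3 : y ^ ((r0 + orderOf y) ^ orderOf x) = y ^ 1 := by rw [← h2, pow_one]
    rw [pow_eq_pow_iff_modEq] at h3
    exact h3

end Cfsg.Agent.S3379
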