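import Mathlib
import Cfsg.Agent.S0519
import Cfsg.Agent.Lib.Helper6.RankOneCyc
import Cfsg.Agent.Lib.Lead.GenCentralizers
import Cfsg.Agent.Lib.Lead.Nilpotent
import Cfsg.Statements.S3380

set_option autoImplicit false
open Cfsg

namespace Cfsg.Agent.S3380

open Cfsg.Agent.Lib.Lead Cfsg.Agent.Lib.Helper6
open scoped commutatorElement

section helpers

open Cfsg.Agent.Lib.Lead Cfsg.Agent.Lib.Helper6

section grp

variable {G : Type*} [Group G] [Finite G] {p : ℕ} [hp : Fact p.Prime]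

/-- a `p`-group that is not cyclic, quaternion, dihedral or quasidihedral has a noncyclic
normal abelian subgroup -/
theorem exists_normal_abelian_noncyclic (hG : IsPGroup p G)
    (hnc : ¬ IsCyclic G) (hnq : ∀ n : ℕ, ¬ Nonempty (G ≃* QuaternionGroup n))
    (hnd : ∀ n : ℕ, ¬ Nonempty (G ≃* DihedralGroup n)) (hnsd : ¬ Cfsg.IsQuasiDihedral G) :
    ∃ A : Subgroup G, A.Normal ∧ IsMulCommutative A ∧ ¬ IsCyclic A := by
  by_contra hcon
  have hn : ∀ A : Subgroup G, A.Normal → IsMulCommutative A → IsCyclic A := by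
    intro A hA hAc
    by_contra h
    exact hcon ⟨A, hA, hAc, h⟩
  by_cases hm : ∃ B : Subgroup G, IsMulCommutative B ∧ ¬ IsCyclic B
  · obtain ⟨-, h | h | h⟩ := Cfsg.Agent.S0519.result p hG hn hm
    · obtain ⟨n, hn'⟩ := h
      exact hnq n hn'
    · obtain ⟨n, -, hn'⟩ := h
      exact hnd n hn'
    · exact hnsd h
  · have hall : ∀ B : Subgroup G, IsMulCommutative B → IsCyclic B := by
      intro B hB
      by_contra h
      exact hm ⟨B, hB, h⟩
    have hr : Cfsg.PRankLE p 1 G := by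
      intro A hA hAp
      haveI := hall A hA
      obtain ⟨g, hg⟩ := IsCyclic.exists_generator (α := A)
      rw [pow_one, ← orderOf_eq_card_of_forall_mem_zpowers hg]
      apply Nat.le_of_dvd hp.out.pos
      apply orderOf_dvd_of_pow_eq_one
      exact Subtype.ext (by simpa using hAp g g.2)
    have hu := uniqueOrderP_of_pRankLE_one hG hr
    rcases hu.main hG with h | ⟨-, n, hn'⟩
    · exact hnc h
    · exact hnq _ hn'


theorem exists_flag (hG : IsPGroup p G) (A : Subgroup G) (hAn : A.Normal)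
    (hAc : IsMulCommutative A) (hAnc : ¬ IsCyclic A) :
    ∃ z a : G, z ∈ Subgroup.center G ∧ z ^ p = 1 ∧ z ≠ 1 ∧ a ^ p = 1 ∧ a ∉ Subgroup.zpowers z ∧
      ∀ g : G, g * a * g⁻¹ * a⁻¹ ∈ Subgroup.zpowers z := by
  classical
  have hcomm : ∀ x ∈ A, ∀ y ∈ A, x * y = y * x := by
    intro x hx y hy
    have := hAc.is_comm.comm ⟨x, hx⟩ ⟨y, hy⟩
    exact congrArg Subtype.val this
  -- `Ω₁(A)`
  let E₀ : Subgroup G :=
    { carrier := {x | x ∈ A ∧ x ^ p = 1}
      mul_mem' := by
        rintro x y ⟨hx, hx1⟩ ⟨hy, hy1⟩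
        refine ⟨A.mul_mem hx hy, ?_⟩
        have hc : Commute x y := hcomm x hx y hy
        rw [hc.mul_pow, hx1, hy1, one_mul]
      one_mem' := ⟨A.one_mem, one_pow p⟩
      inv_mem' := by
        rintro x ⟨hx, hx1⟩
        exact ⟨A.inv_mem hx, by rw [inv_pow, hx1, inv_one]⟩ }
  have hE₀mem : ∀ x, x ∈ E₀ ↔ x ∈ A ∧ x ^ p = 1 := fun x => Iff.rfl
  haveI hE₀n : E₀.Normal := by
    refine ⟨fun x hx g => ?_⟩
    obtain ⟨hxA, hx1⟩ := (hE₀mem x).1 hx
    refine (hE₀mem _).2 ⟨hAn.conj_mem x hxA g, ?_⟩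
    rw [conj_pow, hx1]; group
  -- size
  have hsq : p ^ 2 ≤ Nat.card E₀ := by
    open scoped IsMulCommutative in
    obtain ⟨q, hq, E', hE'card, hE'exp⟩ := exists_elementary_abelian_sq hAnc
    have hqp : q = p := by
      obtain ⟨k, hk⟩ := IsPGroup.iff_card.mp hG
      have h1 : q ∣ Nat.card G := by
        have h2 : q ∣ Nat.card E' := by rw [hE'card, sq]; exact dvd_mul_right q q
        exact (h2.trans (Subgroup.card_subgroup_dvd_card E')).trans
          (Subgroup.card_subgroup_dvd_card A)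
      rw [hk] at h1
      exact (Nat.prime_dvd_prime_iff_eq hq hp.out).mp (hq.dvd_of_dvd_pow h1)
    subst hqp
    have hle : E'.map A.subtype ≤ E₀ := by
      rintro _ ⟨x, hx, rfl⟩
      refine (hE₀mem _).2 ⟨x.2, ?_⟩
      have := hE'exp x hx
      have h2 := congrArg Subtype.val this
      simpa using h2
    have hcard : Nat.card (E'.map A.subtype) = q ^ 2 := by
      rw [Subgroup.card_map_of_injective A.subtype_injective, hE'card]
    rw [← hcard]
    exact Subgroup.card_le_of_le hle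
  have hp1 : 1 < p := hp.out.one_lt
  have hE₀ne : E₀ ≠ ⊥ := by
    intro h0
    rw [h0, Subgroup.card_bot] at hsq
    have : 1 < p ^ 2 := Nat.one_lt_pow (by norm_num) hp1
    omega
  haveI : Group.IsNilpotent G := hG.isNilpotent
  obtain ⟨⟨z, hz⟩, hz1⟩ := (Subgroup.ne_bot_iff_exists_ne_one).mp (inf_center_ne_bot E₀ hE₀ne)
  have hzE : z ∈ E₀ := hz.1
  have hzZ : z ∈ Subgroup.center G := hz.2
  have hz1' : z ≠ 1 := fun h => hz1 (Subtype.ext h)
  have hzp : z ^ p = 1 := ((hE₀mem z).1 hzE).2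
  haveI hZn : (Subgroup.zpowers z).Normal := zpowers_normal_of_mem_center hzZ
  have hZcard : Nat.card (Subgroup.zpowers z) = p := by
    rw [Nat.card_zpowers, orderOf_eq_prime hzp hz1']
  -- the quotient
  have hEbar_n : (E₀.map (QuotientGroup.mk' (Subgroup.zpowers z))).Normal :=
    Subgroup.Normal.map hE₀n _ (QuotientGroup.mk'_surjective _)
  have hEbar_ne : E₀.map (QuotientGroup.mk' (Subgroup.zpowers z)) ≠ ⊥ := by
    intro h0
    rw [Subgroup.map_eq_bot_iff, QuotientGroup.ker_mk'] at h0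
    have := Subgroup.card_le_of_le h0
    rw [hZcard] at this
    have : p < p ^ 2 := by
      rw [sq]; nlinarith
    omega
  haveI : Group.IsNilpotent (G ⧸ Subgroup.zpowers z) := (hG.to_quotient _).isNilpotent
  haveI := hEbar_n
  obtain ⟨⟨abar, hab⟩, hab1⟩ := (Subgroup.ne_bot_iff_exists_ne_one).mp
    (inf_center_ne_bot (E₀.map (QuotientGroup.mk' (Subgroup.zpowers z))) hEbar_ne)
  have hab1' : abar ≠ 1 := fun h => hab1 (Subtype.ext h)
  obtain ⟨a, haE, rfl⟩ := hab.1
  have hacen : (QuotientGroup.mk' (Subgroup.zpowers z)) a ∈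
      Subgroup.center (G ⧸ Subgroup.zpowers z) := hab.2
  refine ⟨z, a, hzZ, hzp, hz1', ((hE₀mem a).1 haE).2, ?_, ?_⟩
  · intro ha
    apply hab1'
    exact (QuotientGroup.eq_one_iff a).2 ha
  · intro g
    rw [← QuotientGroup.eq_one_iff]
    rw [Subgroup.mem_center_iff] at hacen
    have h1 := hacen (QuotientGroup.mk' (Subgroup.zpowers z) g)
    show (QuotientGroup.mk' (Subgroup.zpowers z)) (g * a * g⁻¹ * a⁻¹) = 1
    rw [map_mul, map_mul, map_mul, map_inv, map_inv, h1]
    group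

end grp


section lin

variable {q : ℕ} [hq : Fact q.Prime] {V : Type*} [AddCommGroup V] [Module (ZMod q) V]
  {G : Type*} [Group G] {p : ℕ} [hp : Fact p.Prime]

/-- the element `a^j z^l` -/
noncomputable def el (z a : G) (hz : z ^ p = 1) (ha : a ^ p = 1) (j l : ZMod p) : G :=
  (zmodPow p a ha j).toMul * (zmodPow p z hz l).toMul

variable {z a : G} (hz : z ^ p = 1) (ha : a ^ p = 1)

omit hp in
theorem zp_comm (hzc : z ∈ Subgroup.center G) (l : ZMod p) (g : G) :
    (zmodPow p z hz l).toMul * g = g * (zmodPow p z hz l).toMul := by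
  have h1 : (zmodPow p z hz l).toMul ∈ Subgroup.center G :=
    (Subgroup.zpowers_le.2 hzc) (zmodPow_mem_zpowers p z hz l)
  exact (Subgroup.mem_center_iff.1 h1 g).symm

theorem el_add (hzc : z ∈ Subgroup.center G) (j l j' l' : ZMod p) :
    el z a hz ha (j + j') (l + l') = el z a hz ha j l * el z a hz ha j' l' := by
  unfold el
  rw [zmodPow_add, zmodPow_add]
  have := zp_comm hz hzc l (zmodPow p a ha j').toMul
  calc (zmodPow p a ha j).toMul * (zmodPow p a ha j').toMul *
        ((zmodPow p z hz l).toMul * (zmodPow p z hz l').toMul)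
      = (zmodPow p a ha j).toMul * ((zmodPow p a ha j').toMul * (zmodPow p z hz l).toMul) *
        (zmodPow p z hz l').toMul := by group
    _ = (zmodPow p a ha j).toMul * ((zmodPow p z hz l).toMul * (zmodPow p a ha j').toMul) *
        (zmodPow p z hz l').toMul := by rw [this]
    _ = _ := by group

theorem el_zero : el z a hz ha 0 0 = 1 := by
  unfold el
  rw [map_zero (zmodPow p a ha), map_zero (zmodPow p z hz), toMul_zero, one_mul]

theorem el_one_zero : el z a hz ha 1 0 = a := by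
  unfold el
  rw [map_zero (zmodPow p z hz)]
  have := zmodPow_natCast p a ha 1
  rw [Nat.cast_one, pow_one] at this
  rw [this, toMul_zero, mul_one]

theorem el_zero_one : el z a hz ha 0 1 = z := by
  unfold el
  rw [map_zero (zmodPow p a ha)]
  have := zmodPow_natCast p z hz 1
  rw [Nat.cast_one, pow_one] at this
  rw [this, toMul_zero, one_mul]

theorem el_zero_mem (l : ZMod p) : el z a hz ha 0 l ∈ Subgroup.zpowers z := by
  unfold el
  rw [map_zero (zmodPow p a ha)]
  have := zmodPow_mem_zpowers p z hz l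
  simpa using this

theorem exists_el_zero (x : G) (hx : x ∈ Subgroup.zpowers z) : ∃ l : ZMod p, x = el z a hz ha 0 l := by
  obtain ⟨k, rfl⟩ := Subgroup.mem_zpowers_iff.1 hx
  refine ⟨(k : ZMod p), ?_⟩
  unfold el
  rw [map_zero (zmodPow p a ha), zmodPow_intCast]
  simp


/-- fixed space of a linear automorphism -/
def fixSub (f : V ≃ₗ[ZMod q] V) : Submodule (ZMod q) V :=
  LinearMap.eqLocus (f : V →ₗ[ZMod q] V) LinearMap.id

theorem mem_fixSub (f : V ≃ₗ[ZMod q] V) (v : V) : v ∈ fixSub f ↔ f v = v := by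
  unfold fixSub; rw [LinearMap.mem_eqLocus]; rfl

variable (ρ : G →* (V ≃ₗ[ZMod q] V))

theorem rho_mul (g h : G) (v : V) : ρ (g * h) v = ρ g (ρ h v) := by
  rw [map_mul]; rfl

theorem rho_one (v : V) : ρ 1 v = v := by
  rw [map_one]; rfl

theorem fixSub_map (g x : G) :
    (fixSub (ρ x)).map ((ρ g : V ≃ₗ[ZMod q] V) : V →ₗ[ZMod q] V) = fixSub (ρ (g * x * g⁻¹)) := by
  ext w
  rw [Submodule.mem_map, mem_fixSub]
  constructor
  · rintro ⟨v, hv, rfl⟩
    rw [mem_fixSub] at hv
    show ρ (g * x * g⁻¹) (ρ g v) = ρ g v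
    rw [← rho_mul, show g * x * g⁻¹ * g = g * x by group, rho_mul, hv]
  · intro hw
    refine ⟨ρ g⁻¹ w, ?_, ?_⟩
    · rw [mem_fixSub, ← rho_mul, show x * g⁻¹ = g⁻¹ * (g * x * g⁻¹) by group, rho_mul, hw]
    · show ρ g (ρ g⁻¹ w) = w
      rw [← rho_mul, mul_inv_cancel, rho_one]

/-- the eigenspaces -/
noncomputable def Wz (i : ZMod p) : Submodule (ZMod q) V := fixSub (ρ (el z a hz ha 1 i))

/-- the norm operators -/
noncomputable def Pl (i : ZMod p) : V →ₗ[ZMod q] V :=
  ∑ j : ZMod p, ((ρ (el z a hz ha j (i * j)) : V ≃ₗ[ZMod q] V) : V →ₗ[ZMod q] V)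

theorem Pl_apply (i : ZMod p) (v : V) :
    Pl hz ha ρ i v = ∑ j : ZMod p, ρ (el z a hz ha j (i * j)) v := by
  unfold Pl
  rw [LinearMap.sum_apply]
  rfl

theorem rho_el_add (hzc : z ∈ Subgroup.center G) (j l j' l' : ZMod p) (v : V) :
    ρ (el z a hz ha (j + j') (l + l')) v = ρ (el z a hz ha j l) (ρ (el z a hz ha j' l') v) := by
  rw [el_add hz ha hzc, rho_mul]

theorem factA (hzc : z ∈ Subgroup.center G) (i : ZMod p) (v : V) :
    ρ (el z a hz ha 1 i) (Pl hz ha ρ i v) = Pl hz ha ρ i v := by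
  rw [Pl_apply, map_sum]
  rw [← Equiv.sum_comp (Equiv.addLeft (1 : ZMod p)) (fun j => ρ (el z a hz ha j (i * j)) v)]
  apply Finset.sum_congr rfl
  intro j _
  rw [← rho_el_add hz ha ρ hzc]
  simp only [Equiv.coe_addLeft]
  congr 3
  ring

theorem factC0 (hzc : z ∈ Subgroup.center G) (i : ZMod p) (v : V) (hv : v ∈ Wz hz ha ρ i)
    (j : ZMod p) : ρ (el z a hz ha j (i * j)) v = v := by
  unfold Wz at hv
  rw [mem_fixSub] at hv
  have key : ∀ n : ℕ, ρ (el z a hz ha (n : ZMod p) (i * (n : ZMod p))) v = v := by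
    intro n
    induction n with
    | zero =>
      rw [Nat.cast_zero, mul_zero, el_zero, rho_one]
    | succ n ih =>
      have : el z a hz ha ((n + 1 : ℕ) : ZMod p) (i * ((n + 1 : ℕ) : ZMod p)) =
          el z a hz ha ((n : ZMod p) + 1) (i * (n : ZMod p) + i) := by
        congr 1
        · push_cast; ring
        · push_cast; ring
      rw [this, rho_el_add hz ha ρ hzc, hv, ih]
  have := key j.val
  rwa [ZMod.natCast_zmod_val] at this


theorem factD (hzc : z ∈ Subgroup.center G) (i : ZMod p) (v : V) (hv : v ∈ Wz hz ha ρ i) :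
    Pl hz ha ρ i v = (p : ZMod q) • v := by
  rw [Pl_apply]
  rw [Finset.sum_congr rfl (fun j _ => factC0 hz ha ρ hzc i v hv j)]
  rw [Finset.sum_const, Finset.card_univ, ZMod.card, Nat.cast_smul_eq_nsmul]

theorem sum_mul_left (hNz : ∀ v : V, ∑ l : ZMod p, ρ (el z a hz ha 0 l) v = 0) (c : ZMod p)
    (hc : c ≠ 0) (v : V) : ∑ j : ZMod p, ρ (el z a hz ha 0 (c * j)) v = 0 := by
  rw [← hNz v]
  exact Equiv.sum_comp (Equiv.mulLeft₀ c hc) (fun l => ρ (el z a hz ha 0 l) v)

theorem factC (hzc : z ∈ Subgroup.center G)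
    (hNz : ∀ v : V, ∑ l : ZMod p, ρ (el z a hz ha 0 l) v = 0)
    (i k : ZMod p) (hik : k ≠ i) (v : V) (hv : v ∈ Wz hz ha ρ i) :
    Pl hz ha ρ k v = 0 := by
  rw [Pl_apply]
  rw [← sum_mul_left hz ha ρ hNz (k - i) (sub_ne_zero.2 hik) v]
  apply Finset.sum_congr rfl
  intro j _
  have h1 := factC0 hz ha ρ hzc i v hv j
  have h2 : el z a hz ha j (k * j) = el z a hz ha (0 + j) ((k - i) * j + i * j) := by
    congr 1
    · ring
    · ring
  rw [h2, rho_el_add hz ha ρ hzc, h1]

theorem factB (hzc : z ∈ Subgroup.center G)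
    (hNz : ∀ v : V, ∑ l : ZMod p, ρ (el z a hz ha 0 l) v = 0) (v : V) :
    ∑ i : ZMod p, Pl hz ha ρ i v = (p : ZMod q) • v := by
  simp_rw [Pl_apply]
  rw [Finset.sum_comm]
  rw [Finset.sum_eq_single (0 : ZMod p)]
  · simp only [mul_zero]
    rw [el_zero, rho_one, Finset.sum_const, Finset.card_univ, ZMod.card, Nat.cast_smul_eq_nsmul]
  · intro j _ hj
    have h2 : ∀ i : ZMod p, ρ (el z a hz ha j (i * j)) v =
        ρ (el z a hz ha j 0) (ρ (el z a hz ha 0 (j * i)) v) := by
      intro i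
      rw [← rho_el_add hz ha ρ hzc]
      congr 3
      · ring
      · ring
    rw [Finset.sum_congr rfl (fun i _ => h2 i), ← map_sum, sum_mul_left hz ha ρ hNz j hj v, map_zero]
  · intro h
    exact absurd (Finset.mem_univ _) h


theorem iSup_Wz (hzc : z ∈ Subgroup.center G)
    (hNz : ∀ v : V, ∑ l : ZMod p, ρ (el z a hz ha 0 l) v = 0) (hpq : (p : ZMod q) ≠ 0) :
    ⨆ i, Wz hz ha ρ i = ⊤ := by
  rw [eq_top_iff]
  intro v _
  have h := factB hz ha ρ hzc hNz v
  have hv : v = (p : ZMod q)⁻¹ • ∑ i, Pl hz ha ρ i v := by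
    rw [h, smul_smul, inv_mul_cancel₀ hpq, one_smul]
  rw [hv]
  apply Submodule.smul_mem
  apply Submodule.sum_mem
  intro i _
  apply Submodule.mem_iSup_of_mem i
  unfold Wz
  rw [mem_fixSub]
  exact factA hz ha ρ hzc i v

theorem indep_Wz (hzc : z ∈ Subgroup.center G)
    (hNz : ∀ v : V, ∑ l : ZMod p, ρ (el z a hz ha 0 l) v = 0) (hpq : (p : ZMod q) ≠ 0) :
    iSupIndep (Wz hz ha ρ) := by
  intro i
  rw [Submodule.disjoint_def]
  intro x hx hx'
  have h1 := factD hz ha ρ hzc i x hx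
  have h2 : (⨆ (k : ZMod p) (_ : k ≠ i), Wz hz ha ρ k) ≤ LinearMap.ker (Pl hz ha ρ i) := by
    apply iSup₂_le
    intro k hk v hv
    rw [LinearMap.mem_ker]
    exact factC hz ha ρ hzc hNz k i hk.symm v hv
  have h3 := h2 hx'
  rw [LinearMap.mem_ker, h1] at h3
  have := congrArg (fun w => (p : ZMod q)⁻¹ • w) h3
  simpa [smul_smul, inv_mul_cancel₀ hpq] using this

/-- conjugation moves the eigenspaces -/
theorem Wz_map (hzc : z ∈ Subgroup.center G) (g : G) (k : ZMod p)
    (hg : g * a * g⁻¹ * a⁻¹ = el z a hz ha 0 k) (i : ZMod p) :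
    (Wz hz ha ρ i).map ((ρ g : V ≃ₗ[ZMod q] V) : V →ₗ[ZMod q] V) = Wz hz ha ρ (i + k) := by
  unfold Wz
  rw [fixSub_map]
  congr 2
  have h1 : ∀ i : ZMod p, el z a hz ha 1 i = a * el z a hz ha 0 i := by
    intro i
    have := el_add hz ha hzc 1 0 0 i
    rw [el_one_zero] at this
    rw [← this]
    congr 1
    · ring
    · ring
  have h2 : el z a hz ha 1 (i + k) = a * el z a hz ha 0 i * el z a hz ha 0 k := by
    have := el_add hz ha hzc 1 i 0 k
    rw [h1 i] at this
    rw [← this]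
    congr 1
    ring
  have hc1 : ∀ (l : ZMod p) (x : G), el z a hz ha 0 l * x = x * el z a hz ha 0 l := by
    intro l x
    have hm : el z a hz ha 0 l ∈ Subgroup.center G :=
      (Subgroup.zpowers_le.2 hzc) (el_zero_mem hz ha l)
    exact (Subgroup.mem_center_iff.1 hm x).symm
  have h3 : g * a * g⁻¹ = el z a hz ha 0 k * a := by
    rw [← hg]; group
  rw [h1 i, h2]
  calc g * (a * el z a hz ha 0 i) * g⁻¹ = g * a * (el z a hz ha 0 i * g⁻¹) := by group
    _ = g * a * (g⁻¹ * el z a hz ha 0 i) := by rw [hc1]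
    _ = g * a * g⁻¹ * el z a hz ha 0 i := by group
    _ = el z a hz ha 0 k * a * el z a hz ha 0 i := by rw [h3]
    _ = a * el z a hz ha 0 k * el z a hz ha 0 i := by rw [hc1]
    _ = a * (el z a hz ha 0 k * el z a hz ha 0 i) := by group
    _ = a * (el z a hz ha 0 i * el z a hz ha 0 k) := by rw [hc1]
    _ = a * el z a hz ha 0 i * el z a hz ha 0 k := by group


omit hq in
theorem orderOf_addRight (k : ZMod p) (hk : k ≠ 0) :
    orderOf (Equiv.addRight k : Equiv.Perm (ZMod p)) = p := by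
  have hpow : ∀ (n : ℕ) (x : ZMod p), ((Equiv.addRight k : Equiv.Perm (ZMod p)) ^ n) x = x + n • k := by
    intro n
    induction n with
    | zero => intro x; simp
    | succ n ih =>
      intro x
      rw [pow_succ, Equiv.Perm.mul_apply, ih, Equiv.coe_addRight, succ_nsmul]
      ring
  apply orderOf_eq_prime
  · ext x
    rw [hpow]
    simp
  · intro h
    have := congrArg (fun f : Equiv.Perm (ZMod p) => f 0) h
    simp only [Equiv.coe_addRight, zero_add, Equiv.Perm.coe_one, id_eq] at this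
    exact hk this

/-- the commutator homomorphism `g ↦ [g, a]` -/
def cHom (hzc : z ∈ Subgroup.center G) (hcomm : ∀ g : G, g * a * g⁻¹ * a⁻¹ ∈ Subgroup.zpowers z) :
    G →* Subgroup.zpowers z where
  toFun g := ⟨g * a * g⁻¹ * a⁻¹, hcomm g⟩
  map_one' := Subtype.ext (by simp)
  map_mul' g h := Subtype.ext (by
    show g * h * a * (g * h)⁻¹ * a⁻¹ = (g * a * g⁻¹ * a⁻¹) * (h * a * h⁻¹ * a⁻¹)
    have hc : ∀ x : G, (h * a * h⁻¹ * a⁻¹) * x = x * (h * a * h⁻¹ * a⁻¹) := by
      intro x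
      have hm : h * a * h⁻¹ * a⁻¹ ∈ Subgroup.center G := (Subgroup.zpowers_le.2 hzc) (hcomm h)
      exact (Subgroup.mem_center_iff.1 hm x).symm
    calc g * h * a * (g * h)⁻¹ * a⁻¹ = g * ((h * a * h⁻¹ * a⁻¹) * (a * g⁻¹ * a⁻¹)) := by group
      _ = g * ((a * g⁻¹ * a⁻¹) * (h * a * h⁻¹ * a⁻¹)) := by rw [hc]
      _ = (g * a * g⁻¹ * a⁻¹) * (h * a * h⁻¹ * a⁻¹) := by group)

omit hq hp in
theorem mem_ker_cHom (hzc : z ∈ Subgroup.center G)
    (hcomm : ∀ g : G, g * a * g⁻¹ * a⁻¹ ∈ Subgroup.zpowers z) (g : G) :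
    g ∈ (cHom hzc hcomm).ker ↔ g * a * g⁻¹ * a⁻¹ = 1 := by
  rw [MonoidHom.mem_ker]
  constructor
  · intro h
    exact congrArg Subtype.val h
  · intro h
    exact Subtype.ext h


include hz ha in
theorem main [Finite V] [Nontrivial V] [Finite G] (hG : IsPGroup p G)
    (hρ : Function.Injective ρ)
    (hirr : ∀ W : Submodule (ZMod q) V, (∀ g : G, ∀ w ∈ W, ρ g w ∈ W) → W = ⊥ ∨ W = ⊤)
    (hzc : z ∈ Subgroup.center G) (hz1 : z ≠ 1) (haz : a ∉ Subgroup.zpowers z)
    (hcomm : ∀ g : G, g * a * g⁻¹ * a⁻¹ ∈ Subgroup.zpowers z) :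
    ∃ (H : Subgroup G) (W : Fin p → Submodule (ZMod q) V), H.index = p ∧
      iSup W = ⊤ ∧ iSupIndep W ∧
      (∀ h ∈ H, ∀ i, ∀ w ∈ W i, ρ h w ∈ W i) ∧
      (∀ i, ∃ h ∈ H, h ≠ 1 ∧ ∀ w ∈ W i, ρ h w = w) ∧
      ∀ g : G, g ∉ H → ∃ σ : Equiv.Perm (Fin p), orderOf σ = p ∧
        ∀ i, (W i).map (ρ g : V →ₗ[ZMod q] V) = W (σ i) := by
  classical
  have hoz : orderOf z = p := orderOf_eq_prime hz hz1
  -- no nonzero vector is fixed by `z`
  have hfixz : fixSub (ρ z) = ⊥ := by
    rcases hirr (fixSub (ρ z)) (by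
      intro g w hw
      rw [mem_fixSub] at hw ⊢
      rw [← rho_mul, ← (Subgroup.mem_center_iff.1 hzc g), rho_mul, hw]) with h | h
    · exact h
    · exfalso
      apply hz1
      apply hρ
      rw [map_one]
      ext v
      have : v ∈ fixSub (ρ z) := h ▸ Submodule.mem_top
      rw [mem_fixSub] at this
      rw [this]; rfl
  have hNz : ∀ v : V, ∑ l : ZMod p, ρ (el z a hz ha 0 l) v = 0 := by
    intro v
    have hmem : (∑ l : ZMod p, ρ (el z a hz ha 0 l) v) ∈ fixSub (ρ z) := by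
      rw [mem_fixSub, map_sum]
      rw [← Equiv.sum_comp (Equiv.addLeft (1 : ZMod p)) (fun l => ρ (el z a hz ha 0 l) v)]
      apply Finset.sum_congr rfl
      intro l _
      have h1 : ρ z (ρ (el z a hz ha 0 l) v) =
          ρ (el z a hz ha 0 1) (ρ (el z a hz ha 0 l) v) := by rw [el_zero_one]
      rw [h1, ← rho_el_add hz ha ρ hzc]
      simp only [Equiv.coe_addLeft]
      congr 3
      ring
    rw [hfixz] at hmem
    exact (Submodule.mem_bot _).1 hmem
  -- `p ≠ q`
  have hpq : (p : ZMod q) ≠ 0 := by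
    intro h0
    have hdvd : q ∣ p := (ZMod.natCast_eq_zero_iff p q).1 h0
    have hqp : q = p := (Nat.prime_dvd_prime_iff_eq hq.out hp.out).1 hdvd
    subst hqp
    letI : MulAction G V := MulAction.compHom V ρ
    have hsm : ∀ (g : G) (v : V), g • v = ρ g v := fun g v => rfl
    obtain ⟨v0, hv0⟩ := exists_ne (0 : V)
    have hcard : q ∣ Nat.card V := by
      have h1 : addOrderOf v0 = q := by
        apply addOrderOf_eq_prime
        · rw [← Nat.cast_smul_eq_nsmul (ZMod q), ZMod.natCast_self, zero_smul]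
        · exact hv0
      rw [← h1]
      exact addOrderOf_dvd_natCard v0
    have hfix0 : (0 : V) ∈ MulAction.fixedPoints G V := by
      intro g
      rw [hsm, map_zero]
    obtain ⟨b, hb, hb0⟩ := hG.exists_fixed_point_of_prime_dvd_card_of_fixed_point V hcard hfix0
    have : b ∈ fixSub (ρ z) := by
      rw [mem_fixSub, ← hsm]
      exact hb z
    rw [hfixz] at this
    exact hb0 ((Submodule.mem_bot _).1 this).symm
  -- the exponent function
  have hex : ∀ g : G, ∃ k : ZMod p, g * a * g⁻¹ * a⁻¹ = el z a hz ha 0 k :=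
    fun g => exists_el_zero hz ha _ (hcomm g)
  choose kk hkk using hex
  have hel1 : ∀ k : ZMod p, el z a hz ha 0 k = 1 → k = 0 := by
    intro k hk
    apply zmodPow_eq_one p z hz hoz k
    unfold el at hk
    rw [map_zero (zmodPow p a ha), toMul_zero, one_mul] at hk
    exact hk
  have hkk0 : ∀ g : G, g ∈ (cHom hzc hcomm).ker → kk g = 0 := by
    intro g hg
    rw [mem_ker_cHom] at hg
    apply hel1
    rw [← hkk g, hg]
  have hkk1 : ∀ g : G, g ∉ (cHom hzc hcomm).ker → kk g ≠ 0 := by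
    intro g hg h0
    apply hg
    rw [mem_ker_cHom, hkk g, h0, el_zero]
  have hmap : ∀ (g : G) (i : ZMod p),
      (Wz hz ha ρ i).map ((ρ g : V ≃ₗ[ZMod q] V) : V →ₗ[ZMod q] V) = Wz hz ha ρ (i + kk g) :=
    fun g i => Wz_map hz ha ρ hzc g (kk g) (hkk g) i
  have hsup := iSup_Wz hz ha ρ hzc hNz hpq
  have hind := indep_Wz hz ha ρ hzc hNz hpq
  have hel1i : ∀ i : ZMod p, el z a hz ha 1 i = a * el z a hz ha 0 i := by
    intro i
    have := el_add hz ha hzc 1 0 0 i
    rw [el_one_zero] at this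
    rw [← this]
    congr 1
    · ring
    · ring
  have hel_ne : ∀ i : ZMod p, el z a hz ha 1 i ≠ 1 := by
    intro i h
    apply haz
    rw [hel1i] at h
    have : a = (el z a hz ha 0 i)⁻¹ := eq_inv_of_mul_eq_one_left h
    rw [this]
    exact (Subgroup.zpowers z).inv_mem (el_zero_mem hz ha i)
  -- index
  have hidx : (cHom hzc hcomm).ker.index = p := by
    rw [Subgroup.index_ker]
    have hZcard : Nat.card (Subgroup.zpowers z) = p := by rw [Nat.card_zpowers, hoz]
    haveI : Fact (Nat.card (Subgroup.zpowers z)).Prime := ⟨by rw [hZcard]; exact hp.out⟩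
    rcases Subgroup.eq_bot_or_eq_top_of_prime_card (cHom hzc hcomm).range with h | h
    · exfalso
      have hker : ∀ g : G, g ∈ (cHom hzc hcomm).ker := by
        intro g
        rw [MonoidHom.mem_ker]
        have : cHom hzc hcomm g ∈ (cHom hzc hcomm).range := ⟨g, rfl⟩
        rw [h] at this
        exact (Subgroup.mem_bot).1 this
      have hall : ∀ i : ZMod p, Wz hz ha ρ i = ⊥ := by
        intro i
        rcases hirr (Wz hz ha ρ i) (by
          intro g w hw
          have := hmap g i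
          rw [hkk0 g (hker g), add_zero] at this
          rw [← this]
          exact Submodule.mem_map_of_mem hw) with h' | h'
        · exact h'
        · exfalso
          apply hel_ne i
          apply hρ
          rw [map_one]
          ext v
          have : v ∈ Wz hz ha ρ i := h' ▸ Submodule.mem_top
          unfold Wz at this
          rw [mem_fixSub] at this
          rw [this]; rfl
      have : (⊤ : Submodule (ZMod q) V) = ⊥ := by
        rw [← hsup]
        simp [hall]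
      obtain ⟨v0, hv0⟩ := exists_ne (0 : V)
      have hv : v0 ∈ (⊤ : Submodule (ZMod q) V) := Submodule.mem_top
      rw [this] at hv
      exact hv0 ((Submodule.mem_bot _).1 hv)
    · rw [h, Subgroup.card_top, hZcard]
  -- reindexing
  let e : Fin p ≃ ZMod p := (Fintype.equivFinOfCardEq (ZMod.card p)).symm
  refine ⟨(cHom hzc hcomm).ker, fun i => Wz hz ha ρ (e i), hidx, ?_, ?_, ?_, ?_, ?_⟩
  · rw [← hsup]
    exact Equiv.iSup_comp (g := Wz hz ha ρ) e
  · exact hind.comp e.injective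
  · intro h hh i w hw
    have := hmap h (e i)
    rw [hkk0 h hh, add_zero] at this
    show (ρ h) w ∈ Wz hz ha ρ (e i)
    rw [← this]
    exact Submodule.mem_map_of_mem hw
  · intro i
    refine ⟨el z a hz ha 1 (e i), ?_, hel_ne (e i), ?_⟩
    · rw [mem_ker_cHom, hel1i]
      have hc : el z a hz ha 0 (e i) * a = a * el z a hz ha 0 (e i) := by
        have hm : el z a hz ha 0 (e i) ∈ Subgroup.center G :=
          (Subgroup.zpowers_le.2 hzc) (el_zero_mem hz ha (e i))
        exact (Subgroup.mem_center_iff.1 hm a).symm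
      calc a * el z a hz ha 0 (e i) * a * (a * el z a hz ha 0 (e i))⁻¹ * a⁻¹
          = a * (el z a hz ha 0 (e i) * a) * (el z a hz ha 0 (e i))⁻¹ * a⁻¹ * a⁻¹ := by group
        _ = a * (a * el z a hz ha 0 (e i)) * (el z a hz ha 0 (e i))⁻¹ * a⁻¹ * a⁻¹ := by rw [hc]
        _ = 1 := by group
    · intro w hw
      have hw' : w ∈ Wz hz ha ρ (e i) := hw
      unfold Wz at hw'
      exact (mem_fixSub _ _).1 hw'
  · intro g hg
    have hk := hkk1 g hg
    refine ⟨(e.symm.permCongrHom (Equiv.addRight (kk g))), ?_, ?_⟩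
    · rw [MulEquiv.orderOf_eq]
      exact orderOf_addRight _ hk
    · intro i
      show (Wz hz ha ρ (e i)).map _ = Wz hz ha ρ (e (e.symm.permCongrHom (Equiv.addRight (kk g)) i))
      rw [hmap]
      congr 1
      simp [Equiv.permCongrHom]

end lin

end helpers



/-- Let a finite p-group G act faithfully and irreducibly on a non-trivial finite vector space V over the field with q elements (q prime), and suppose G is not cyclic, generalized quaternion, dihedral or semidihedral. Then G has a subgroup H of index p and V is the direct sum of p subspaces, each invariant under H, on none of which H acts faithfully, and which every element of G outside H permutes in a single p-cycle. -/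
theorem result
    (q : ℕ) [Fact q.Prime] {V : Type*} [AddCommGroup V] [Module (ZMod q) V] [Finite V] [Nontrivial V]
    {G : Type*} [Group G] [Finite G] (p : ℕ) [Fact p.Prime] (hG : IsPGroup p G)
    (ρ : G →* (V ≃ₗ[ZMod q] V)) (hρ : Function.Injective ρ)
    (hirr : ∀ W : Submodule (ZMod q) V, (∀ g : G, ∀ w ∈ W, ρ g w ∈ W) → W = ⊥ ∨ W = ⊤)
    (hnc : ¬ IsCyclic G) (hnq : ∀ n : ℕ, ¬ Nonempty (G ≃* QuaternionGroup n))
    (hnd : ∀ n : ℕ, ¬ Nonempty (G ≃* DihedralGroup n)) (hnsd : ¬ Cfsg.IsQuasiDihedral G) :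
    ∃ (H : Subgroup G) (W : Fin p → Submodule (ZMod q) V), H.index = p ∧
      iSup W = ⊤ ∧ iSupIndep W ∧
      (∀ h ∈ H, ∀ i, ∀ w ∈ W i, ρ h w ∈ W i) ∧
      (∀ i, ∃ h ∈ H, h ≠ 1 ∧ ∀ w ∈ W i, ρ h w = w) ∧
      ∀ g : G, g ∉ H → ∃ σ : Equiv.Perm (Fin p), orderOf σ = p ∧ ∀ i, (W i).map (ρ g : V →ₗ[ZMod q] V) = W (σ i) := by
  obtain ⟨A, hAn, hAc, hAnc⟩ := exists_normal_abelian_noncyclic hG hnc hnq hnd hnsd
  obtain ⟨z, a, hzc, hz, hz1, ha, haz, hcomm⟩ := exists_flag hG A hAn hAc hAnc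
  exact main hz ha ρ hG hρ hirr hzc hz1 haz hcomm


end Cfsg.Agent.S3380
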