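import Mathlib
import Cfsg.Statements.S3381

set_option autoImplicit false
open Cfsg

namespace Cfsg.Agent.S3381

section
variable {q : ℕ} [Fact q.Prime] {V : Type*} [AddCommGroup V] [Module (ZMod q) V] [Finite V]
  {G : Type*} [Group G] [Finite G] (ρ : G →* (V ≃ₗ[ZMod q] V))

/-- the fixed space of `t` -/
def Vp (t : G) : Submodule (ZMod q) V :=
  LinearMap.eqLocus ((ρ t : V ≃ₗ[ZMod q] V) : V →ₗ[ZMod q] V) LinearMap.id

theorem mem_Vp {t : G} {v : V} : v ∈ Vp ρ t ↔ ρ t v = v := by
  simp [Vp, LinearMap.mem_eqLocus]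

theorem act_mul (g h : G) (v : V) : ρ (g * h) v = ρ g (ρ h v) := by
  rw [map_mul]; rfl

theorem act_one (v : V) : ρ 1 v = v := by rw [map_one]; rfl

theorem stab_two (hstab : ∀ v : V, v ≠ 0 → Nat.card {g : G // ρ g v = v} = 2)
    {v : V} (hv : v ≠ 0) {g h : G} (hg : ρ g v = v) (hg1 : g ≠ 1) (hh : ρ h v = v) :
    h = 1 ∨ h = g := by
  obtain ⟨y, hy, huniq⟩ :=
    (Nat.card_eq_two_iff' (⟨1, act_one ρ v⟩ : {g : G // ρ g v = v})).mp (hstab v hv)
  by_cases h1 : h = 1
  · left; exact h1
  · right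
    have e1 := huniq ⟨g, hg⟩ (by intro hh'; exact hg1 (congrArg Subtype.val hh'))
    have e2 := huniq ⟨h, hh⟩ (by intro hh'; exact h1 (congrArg Subtype.val hh'))
    exact congrArg Subtype.val (e2.trans e1.symm)

theorem exists_stab (hstab : ∀ v : V, v ≠ 0 → Nat.card {g : G // ρ g v = v} = 2)
    {v : V} (hv : v ≠ 0) : ∃ t : G, t ≠ 1 ∧ t * t = 1 ∧ ρ t v = v := by
  obtain ⟨y, hy, -⟩ :=
    (Nat.card_eq_two_iff' (⟨1, act_one ρ v⟩ : {g : G // ρ g v = v})).mp (hstab v hv)
  have hy1 : y.1 ≠ 1 := fun h => hy (Subtype.ext h)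
  refine ⟨y.1, hy1, ?_, y.2⟩
  have hfix : ρ (y.1 * y.1) v = v := by rw [act_mul, y.2, y.2]
  rcases stab_two ρ hstab hv y.2 hy1 hfix with h | h
  · exact h
  · exfalso; apply hy1
    have : y.1 * y.1 = y.1 * 1 := by rw [mul_one]; exact h
    exact mul_left_cancel this

theorem central_nofix (hρ : Function.Injective ρ)
    (hstab : ∀ v : V, v ≠ 0 → Nat.card {g : G // ρ g v = v} = 2)
    {c : G} (hc1 : c ≠ 1) (hc2 : c * c = 1) (hcc : ∀ g, g * c = c * g) (u : V)
    (hu : ρ c u = u) : u = 0 := by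
  by_contra hu0
  have hcomm : ∀ (g : G) (x : V), ρ g (ρ c x) = ρ c (ρ g x) := by
    intro g x; rw [← act_mul, ← act_mul, hcc]
  -- some vector moved by c
  have hex : ∃ w, ρ c w ≠ w := by
    by_contra hcon
    push Not at hcon
    apply hc1; apply hρ; rw [map_one]; ext w; exact hcon w
  obtain ⟨w, hw⟩ := hex
  have hw0 : w ≠ 0 := by rintro rfl; exact hw (map_zero _)
  set v' : V := w - ρ c w with hv'
  have hv'0 : v' ≠ 0 := sub_ne_zero.mpr (Ne.symm hw)
  have hcv' : ρ c v' = -v' := by
    rw [hv', map_sub, ← act_mul, hc2, act_one]; abel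
  by_cases h2 : (2 : ZMod q) • v' = 0
  · have hvv : v' + v' = 0 := by rw [← two_smul (ZMod q)]; exact h2
    have hfix : ρ c v' = v' := by rw [hcv']; exact (eq_neg_of_add_eq_zero_left hvv).symm
    obtain ⟨t, ht1, -, htw⟩ := exists_stab ρ hstab hw0
    have htv' : ρ t v' = v' := by rw [hv', map_sub, hcomm, htw]
    rcases stab_two ρ hstab hv'0 hfix hc1 htv' with h | h
    · exact ht1 h
    · rw [h] at htw; exact hw htw
  · have huv : u + v' ≠ 0 := by
      intro h
      have hv'u : v' = -u := eq_neg_of_add_eq_zero_right h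
      have h3 : ρ c v' = v' := by rw [hv'u, map_neg, hu]
      rw [hcv'] at h3
      apply h2; rw [two_smul]
      nth_rw 1 [← h3]; exact neg_add_cancel v'
    obtain ⟨s, hs1, -, hs⟩ := exists_stab ρ hstab huv
    have hcuv : ρ c (u + v') = u - v' := by rw [map_add, hu, hcv']; abel
    have hs' : ρ s (u - v') = u - v' := by rw [← hcuv, hcomm, hs]
    have h2u : (2 : ZMod q) • u = (u + v') + (u - v') := by rw [two_smul]; abel
    have hs2u : ρ s ((2 : ZMod q) • u) = (2 : ZMod q) • u := by
      rw [h2u, map_add, hs, hs']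
    have hc2u : ρ c ((2 : ZMod q) • u) = (2 : ZMod q) • u := by
      rw [map_smul, hu]
    have h2u0 : (2 : ZMod q) • u ≠ 0 := by
      intro h
      rcases smul_eq_zero.mp h with h | h
      · apply h2; rw [h, zero_smul]
      · exact hu0 h
    rcases stab_two ρ hstab h2u0 hc2u hc1 hs2u with h | h
    · exact hs1 h
    · rw [h, hcuv] at hs
      apply h2; rw [two_smul]
      have : v' = -v' := by
        have h5 : (u - v') - u = (u + v') - u := congrArg (fun x => x - u) hs
        rw [add_sub_cancel_left, sub_sub_cancel_left] at h5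
        exact h5.symm
      nth_rw 1 [this]; exact neg_add_cancel v'

theorem central_neg (hρ : Function.Injective ρ)
    (hstab : ∀ v : V, v ≠ 0 → Nat.card {g : G // ρ g v = v} = 2)
    {c : G} (hc1 : c ≠ 1) (hc2 : c * c = 1) (hcc : ∀ g, g * c = c * g) (w : V) :
    ρ c w = -w := by
  have hfix : ρ c (w + ρ c w) = w + ρ c w := by
    rw [map_add, ← act_mul, hc2, act_one, add_comm]
  have := central_nofix ρ hρ hstab hc1 hc2 hcc _ hfix
  exact eq_neg_of_add_eq_zero_right this

theorem Vp_inf (hstab : ∀ v : V, v ≠ 0 → Nat.card {g : G // ρ g v = v} = 2)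
    {s t : G} (hs : s ≠ 1) (ht : t ≠ 1) (hst : s ≠ t) : Vp ρ s ⊓ Vp ρ t = ⊥ := by
  rw [eq_bot_iff]; intro v hv
  rw [Submodule.mem_inf, mem_Vp, mem_Vp] at hv
  rw [Submodule.mem_bot]
  by_contra hv0
  rcases stab_two ρ hstab hv0 hv.1 hs hv.2 with h | h
  · exact ht h
  · exact hst h.symm

theorem Vp_sup (h2 : (2 : ZMod q) ≠ 0) {z : G} (hzneg : ∀ w, ρ z w = -w) {t : G}
    (ht2 : t * t = 1) : Vp ρ t ⊔ Vp ρ (t * z) = ⊤ := by
  rw [eq_top_iff]; intro v _
  rw [Submodule.mem_sup]
  refine ⟨(2 : ZMod q)⁻¹ • (v + ρ t v), ?_, (2 : ZMod q)⁻¹ • (v - ρ t v), ?_, ?_⟩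
  · apply Submodule.smul_mem; rw [mem_Vp, map_add, ← act_mul, ht2, act_one, add_comm]
  · apply Submodule.smul_mem
    rw [mem_Vp, act_mul, hzneg, map_neg, map_sub, ← act_mul, ht2, act_one]; abel
  · rw [← smul_add]
    have : v + ρ t v + (v - ρ t v) = (2 : ZMod q) • v := by rw [two_smul]; abel
    rw [this, smul_smul, inv_mul_cancel₀ h2, one_smul]

theorem finrank_le_of_inf {A B : Submodule (ZMod q) V} (h : A ⊓ B = ⊥) :
    Module.finrank (ZMod q) A + Module.finrank (ZMod q) B ≤ Module.finrank (ZMod q) V := by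
  have h1 := Submodule.finrank_sup_add_finrank_inf_eq A B
  rw [h, finrank_bot, add_zero] at h1
  rw [← h1]
  exact Submodule.finrank_le _

theorem finrank_eq_of_compl {A B : Submodule (ZMod q) V} (h : A ⊓ B = ⊥) (h' : A ⊔ B = ⊤) :
    Module.finrank (ZMod q) A + Module.finrank (ZMod q) B = Module.finrank (ZMod q) V := by
  have h1 := Submodule.finrank_sup_add_finrank_inf_eq A B
  rw [h, finrank_bot, add_zero, h', finrank_top] at h1
  exact h1.symm

end

/-- Let G be a finite group acting faithfully and linearly on a non-trivial finite vector space V over the field with q elements (q prime) so that every non-zero vector has a stabilizer of order 2, and suppose G has a central involution. Then V has q^(2r) elements for some r and G contains exactly q^r + 1 non-central involutions. -/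
theorem result
    (q : ℕ) [Fact q.Prime] {V : Type*} [AddCommGroup V] [Module (ZMod q) V] [Finite V] [Nontrivial V]
    {G : Type*} [Group G] [Finite G] (ρ : G →* (V ≃ₗ[ZMod q] V)) (hρ : Function.Injective ρ)
    (hstab : ∀ v : V, v ≠ 0 → Nat.card {g : G // ρ g v = v} = 2)
    (z : G) (hz : orderOf z = 2) (hzc : z ∈ Subgroup.center G) :
    ∃ r : ℕ, Nat.card V = q ^ (2 * r) ∧
      Nat.card {g : G // orderOf g = 2 ∧ g ∉ Subgroup.center G} = q ^ r + 1 := by
  classical
  haveI : Fintype G := Fintype.ofFinite G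
  haveI : Fintype V := Fintype.ofFinite V
  have hz1 : z ≠ 1 := by intro h; rw [h, orderOf_one] at hz; omega
  have hz2 : z * z = 1 := by rw [← pow_two, ← hz, pow_orderOf_eq_one]
  have hzc' : ∀ g, g * z = z * g := Subgroup.mem_center_iff.mp hzc
  have hzneg := central_neg ρ hρ hstab hz1 hz2 hzc'
  have h2 : (2 : ZMod q) ≠ 0 := by
    intro h
    apply hz1; apply hρ; rw [map_one]; ext w
    have hw : w + w = 0 := by rw [← two_smul (ZMod q), h, zero_smul]
    rw [hzneg]; exact (eq_neg_of_add_eq_zero_left hw).symm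
  have h2v : ∀ v : V, v + v = 0 → v = 0 := by
    intro v hv
    rw [← two_smul (ZMod q)] at hv
    rcases smul_eq_zero.mp hv with h | h
    · exact absurd h h2
    · exact h
  have hnegeq : ∀ v : V, -v = v → v = 0 := by
    intro v hv; apply h2v; nth_rw 1 [← hv]; exact neg_add_cancel v
  -- characterisation of noncentral involutions
  have hinv : ∀ g : G, (orderOf g = 2 ∧ g ∉ Subgroup.center G) ↔
      (g * g = 1 ∧ g ≠ 1 ∧ g ≠ z) := by
    intro g
    constructor
    · rintro ⟨ho, hgc⟩
      refine ⟨by rw [← pow_two, ← ho, pow_orderOf_eq_one], ?_, ?_⟩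
      · intro h; rw [h, orderOf_one] at ho; omega
      · intro h; exact hgc (h ▸ hzc)
    · rintro ⟨hg2, hg1, hgz⟩
      refine ⟨orderOf_eq_prime (by rw [pow_two]; exact hg2) hg1, ?_⟩
      intro hgc
      apply hgz; apply hρ; ext w
      rw [hzneg, central_neg ρ hρ hstab hg1 hg2 (Subgroup.mem_center_iff.mp hgc)]
  set n := Module.finrank (ZMod q) V with hn
  set d : G → ℕ := fun t => Module.finrank (ZMod q) (Vp ρ t) with hd
  have hItz : ∀ t : G, (t * t = 1 ∧ t ≠ 1 ∧ t ≠ z) →
      ((t * z) * (t * z) = 1 ∧ t * z ≠ 1 ∧ t * z ≠ z) := by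
    rintro t ⟨ht2, ht1, htz⟩
    refine ⟨?_, ?_, ?_⟩
    · calc t * z * (t * z) = t * (z * t) * z := by group
        _ = t * (t * z) * z := by rw [hzc' t]
        _ = (t * t) * (z * z) := by group
        _ = 1 := by rw [ht2, hz2, one_mul]
    · intro h
      apply htz
      have : t * z = z * z := by rw [h, hz2]
      exact mul_right_cancel this
    · intro h
      apply ht1
      have : t * z = 1 * z := by rw [h, one_mul]
      exact mul_right_cancel this
  have htzne : ∀ t : G, t * z ≠ t := by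
    intro t h
    apply hz1
    have : t * z = t * 1 := by rw [h, mul_one]
    exact mul_left_cancel this
  have hsum : ∀ t : G, (t * t = 1 ∧ t ≠ 1 ∧ t ≠ z) → d t + d (t * z) = n := by
    rintro t ⟨ht2, ht1, htz⟩
    exact finrank_eq_of_compl (Vp_inf ρ hstab ht1 (hItz t ⟨ht2, ht1, htz⟩).2.1 (htzne t).symm)
      (Vp_sup ρ h2 hzneg ht2)
  have hle : ∀ s t : G, s ≠ 1 → t ≠ 1 → s ≠ t → d s + d t ≤ n := by
    intro s t hs ht hst
    exact finrank_le_of_inf (Vp_inf ρ hstab hs ht hst)
  have hdlt : ∀ t : G, t ≠ 1 → d t < n := by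
    intro t ht1
    by_contra hcon
    push Not at hcon
    have htop : Vp ρ t = ⊤ :=
      Submodule.eq_top_of_finrank_eq (le_antisymm (Submodule.finrank_le _) hcon)
    apply ht1; apply hρ; rw [map_one]; ext w
    have : w ∈ Vp ρ t := htop ▸ Submodule.mem_top
    exact (mem_Vp ρ).mp this
  have hnofixz : ∀ v : V, v ≠ 0 → ρ z v ≠ v := by
    intro v hv h; rw [hzneg] at h; exact hv (hnegeq v h)
  have hbig : ∀ t : G, (t * t = 1 ∧ t ≠ 1 ∧ t ≠ z) → ¬ (n < 2 * d t) := by
    rintro t ⟨ht2, ht1, htz⟩ hbig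
    have htI := hItz t ⟨ht2, ht1, htz⟩
    have hst := hsum t ⟨ht2, ht1, htz⟩
    have hall : ∀ s : G, (s * s = 1 ∧ s ≠ 1 ∧ s ≠ z) → s = t ∨ s = t * z := by
      intro s hs
      by_contra hcon
      push Not at hcon
      have h1 := hle s t hs.2.1 ht1 hcon.1
      have hszI := hItz s hs
      have h2' := hle (s * z) t hszI.2.1 ht1 (by
        intro h; apply hcon.2
        rw [← h, mul_assoc, hz2, mul_one])
      have h3 := hsum s hs
      omega
    have hd1 : 0 < d t := by omega
    have hd2 : 0 < d (t * z) := by have := hdlt t ht1; omega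
    obtain ⟨v, hv, hv0⟩ := Submodule.exists_mem_ne_zero_of_ne_bot (p := Vp ρ t) (by
      intro h
      have : d t = 0 := by rw [hd]; simp only; rw [h, finrank_bot]
      omega)
    obtain ⟨w, hw, hw0⟩ := Submodule.exists_mem_ne_zero_of_ne_bot (p := Vp ρ (t * z)) (by
      intro h
      have : d (t * z) = 0 := by rw [hd]; simp only; rw [h, finrank_bot]
      omega)
    rw [mem_Vp] at hv hw
    have hw' : ρ t w = -w := by
      rw [act_mul, hzneg, map_neg] at hw
      rw [← hw, neg_neg, hw]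
    have hvw : v + w ≠ 0 := by
      intro h
      have hvw' : v = -w := eq_neg_of_add_eq_zero_left h
      have h5 : ρ t v = w := by rw [hvw', map_neg, hw', neg_neg]
      rw [hv] at h5
      apply hw0; apply h2v; rw [← h5] at h ⊢; exact h
    obtain ⟨s, hs1, hs2, hs⟩ := exists_stab ρ hstab hvw
    have hsz : s ≠ z := by
      rintro rfl; exact hnofixz _ hvw hs
    rcases hall s ⟨hs2, hs1, hsz⟩ with h | h
    · rw [h, map_add, hv, hw'] at hs
      exact hw0 (hnegeq w (add_left_cancel hs))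
    · rw [h, act_mul, hzneg, map_neg, map_add, hv, hw'] at hs
      have h5 : -(v + -w) = -v + w := by abel
      rw [h5] at hs
      exact hv0 (hnegeq v (add_right_cancel hs))
  have hhalf : ∀ t : G, (t * t = 1 ∧ t ≠ 1 ∧ t ≠ z) → 2 * d t = n := by
    intro t ht
    have h1 := hbig t ht
    have h2' := hbig (t * z) (hItz t ht)
    have h3 := hsum t ht
    omega
  obtain ⟨v0, hv0⟩ := exists_ne (0 : V)
  obtain ⟨t0, ht01, ht02, ht0v⟩ := exists_stab ρ hstab hv0
  have ht0z : t0 ≠ z := by rintro rfl; exact hnofixz v0 hv0 ht0v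
  set r := d t0 with hr
  have hnr : n = 2 * r := (hhalf t0 ⟨ht02, ht01, ht0z⟩).symm
  have hr0 : 0 < r := by
    by_contra hcon
    have h0 : Module.finrank (ZMod q) (Vp ρ t0) = 0 := by
      have : r = 0 := by omega
      rw [hr, hd] at this; exact this
    rw [Submodule.finrank_eq_zero] at h0
    have : v0 ∈ Vp ρ t0 := (mem_Vp ρ).mpr ht0v
    rw [h0, Submodule.mem_bot] at this
    exact hv0 this
  have hcardV : Nat.card V = q ^ n := by
    rw [Module.natCard_eq_pow_finrank (K := ZMod q), Nat.card_zmod]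
  have hcardVp : ∀ t : G, (t * t = 1 ∧ t ≠ 1 ∧ t ≠ z) → Nat.card (Vp ρ t) = q ^ r := by
    intro t ht
    rw [Module.natCard_eq_pow_finrank (K := ZMod q), Nat.card_zmod]
    congr 1
    have h5 := hhalf t ht
    have h6 : Module.finrank (ZMod q) (Vp ρ t) = d t := rfl
    omega
  refine ⟨r, by rw [hcardV, hnr], ?_⟩
  -- double counting
  set I : Finset G := Finset.univ.filter (fun g => g * g = 1 ∧ g ≠ 1 ∧ g ≠ z) with hI
  set S : Finset V := Finset.univ.filter (fun v => v ≠ 0) with hS
  have hdc := Finset.sum_card_bipartiteAbove_eq_sum_card_bipartiteBelow (s := S) (t := I)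
    (fun (v : V) (g : G) => ρ g v = v)
  have hleft : ∀ v ∈ S, (I.bipartiteAbove (fun (v : V) (g : G) => ρ g v = v) v).card = 1 := by
    intro v hv
    have hv0 : v ≠ 0 := (Finset.mem_filter.mp hv).2
    obtain ⟨t, ht1, ht2, htv⟩ := exists_stab ρ hstab hv0
    rw [Finset.card_eq_one]
    refine ⟨t, ?_⟩
    ext g
    rw [Finset.mem_bipartiteAbove, Finset.mem_singleton, Finset.mem_filter]
    constructor
    · rintro ⟨⟨-, hg2, hg1, hgz⟩, hgv⟩
      rcases stab_two ρ hstab hv0 htv ht1 hgv with h | h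
      · exact absurd h hg1
      · exact h
    · rintro rfl
      exact ⟨⟨Finset.mem_univ _, ht2, ht1, by rintro rfl; exact hnofixz v hv0 htv⟩, htv⟩
  have hright : ∀ g ∈ I,
      (S.bipartiteBelow (fun (v : V) (g : G) => ρ g v = v) g).card = q ^ r - 1 := by
    intro g hg
    have hgI := (Finset.mem_filter.mp hg).2
    have h5 := hcardVp g hgI
    have hset : S.bipartiteBelow (fun (v : V) (g : G) => ρ g v = v) g
        = (Finset.univ.filter (fun v => v ∈ Vp ρ g)).erase 0 := by
      ext v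
      simp only [Finset.mem_bipartiteBelow, Finset.mem_erase, Finset.mem_filter,
        Finset.mem_univ, true_and, mem_Vp, S]
    rw [hset, Finset.card_erase_of_mem (by simp), ← h5]
    congr 1
    exact (Nat.subtype_card (Finset.univ.filter (fun v => v ∈ Vp ρ g)) (by simp)).symm
  rw [Finset.sum_congr rfl hleft, Finset.sum_congr rfl hright, Finset.sum_const,
    Finset.sum_const, smul_eq_mul, smul_eq_mul, mul_one] at hdc
  have hScard : S.card = q ^ (2 * r) - 1 := by
    have h5 : S = Finset.univ.erase 0 := by ext v; simp [S]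
    rw [h5, Finset.card_erase_of_mem (Finset.mem_univ _), Finset.card_univ,
      ← Nat.card_eq_fintype_card, hcardV, hnr]
  have hIcard : Nat.card {g : G // orderOf g = 2 ∧ g ∉ Subgroup.center G} = I.card := by
    apply Nat.subtype_card
    intro g
    rw [hI, Finset.mem_filter, hinv g]
    simp
  rw [hIcard]
  have hq1 : 1 < q := (Fact.out : q.Prime).one_lt
  have hqr : 1 < q ^ r := Nat.one_lt_pow hr0.ne' hq1
  have hfac : q ^ (2 * r) - 1 = (q ^ r + 1) * (q ^ r - 1) := by
    rw [two_mul, pow_add]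
    obtain ⟨a, ha⟩ : ∃ a, q ^ r = a + 1 := ⟨q ^ r - 1, by omega⟩
    rw [ha]
    have : (a + 1) * (a + 1) - 1 = (a + 1 + 1) * a := by
      have : (a + 1) * (a + 1) = (a + 1 + 1) * a + 1 := by ring
      omega
    rw [this]; simp
  rw [hScard, hfac] at hdc
  exact (Nat.eq_of_mul_eq_mul_right (by omega) hdc).symm

end Cfsg.Agent.S3381
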