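import Mathlib
import Cfsg.Statements.S3382

set_option autoImplicit false
open Cfsg

namespace Cfsg.Agent.S3382

open scoped commutatorElement

section helpers

/-- if `α x = d x` with `d` fixed, then `α^k x = d^k x` -/
theorem aut_pow_apply {P : Type*} [Group P] (α : MulAut P) (x d : P) (hx : α x = d * x)
    (hd : α d = d) : ∀ k : ℕ, (α ^ k) x = d ^ k * x := by
  intro k
  induction k with
  | zero => simp
  | succ k ih =>
    rw [pow_succ', MulAut.mul_apply, ih, map_mul, map_pow, hd, hx, ← mul_assoc, ← pow_succ]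

theorem aut_fix_of_fix_quot {P : Type*} [Group P] (hP : IsPGroup 2 P) (α : MulAut P)
    (hα : Odd (orderOf α)) (x : P) (h : α (α x * x⁻¹) = α x * x⁻¹) : α x = x := by
  set d := α x * x⁻¹ with hd
  have hx : α x = d * x := by rw [hd]; group
  have h1 := aut_pow_apply α x d hx h (orderOf α)
  rw [pow_orderOf_eq_one, MulAut.one_apply] at h1
  have h2 : d ^ orderOf α = 1 := by
    have : d ^ orderOf α * x = 1 * x := by rw [← h1, one_mul]
    exact mul_right_cancel this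
  obtain ⟨k, hk⟩ := hP d
  have h3 : orderOf d ∣ Nat.gcd (orderOf α) (2 ^ k) :=
    Nat.dvd_gcd (orderOf_dvd_of_pow_eq_one h2) (orderOf_dvd_of_pow_eq_one hk)
  have h4 : Nat.gcd (orderOf α) (2 ^ k) = 1 := by
    apply Nat.Coprime.pow_right
    exact (Nat.coprime_two_right).mpr hα   -- check
  rw [h4, Nat.dvd_one, orderOf_eq_one_iff] at h3
  rw [hx, h3, one_mul]

theorem isPGroup_mulAut_of_odd_trivial {P : Type*} [Group P] [Finite P]
    (h : ∀ α : MulAut P, Odd (orderOf α) → α = 1) : IsPGroup 2 (MulAut P) := by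
  intro α
  have hpos : 0 < orderOf α := orderOf_pos α
  obtain ⟨k, r, hr, hn⟩ := Nat.exists_eq_two_pow_mul_odd (orderOf_pos α).ne'
  refine ⟨k, ?_⟩
  apply h
  rw [orderOf_pow' α (by positivity), hn]
  have : Nat.gcd (2 ^ k * r) (2 ^ k) = 2 ^ k := Nat.gcd_eq_right (Dvd.intro _ rfl)
  rw [this, Nat.mul_div_cancel_left _ (by positivity)]
  exact hr

theorem odd_aut_trivial {P : Type*} [Group P] (hP : IsPGroup 2 P) (D : Subgroup P)
    (e u : P) (hcomm : ∀ x ∈ D, ∀ y ∈ D, x * y = y * x)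
    (hidx : ∀ x y : P, x ∉ D → y ∉ D → x * y ∈ D)
    (hinv : ∀ α : MulAut P, ∀ x ∈ D, α x ∈ D)
    (he : ∀ α : MulAut P, α e = e) (heD : e ∈ D) (huD : u ∈ D) (hu2 : u ^ 2 = 1)
    (hinvol : ∀ x ∈ D, x ^ 2 = 1 → x = 1 ∨ x = e ∨ x = u ∨ x = e * u)
    (hpow : ∀ x ∈ D, ∀ k : ℕ, 1 ≤ k → x ^ (2 ^ (k + 1)) = 1 → x ^ (2 ^ k) = 1 ∨ x ^ (2 ^ k) = e)
    (α : MulAut P) (hα : Odd (orderOf α)) : α = 1 := by
  have key := aut_fix_of_fix_quot hP α hα
  have hαe := he α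
  have hαu : α u = u := by
    have h1 : α u ∈ D := hinv α u huD
    have h2 : (α u) ^ 2 = 1 := by rw [← map_pow, hu2, map_one]
    rcases hinvol (α u) h1 h2 with h | h | h | h
    · have : u = 1 := by
        apply α.injective
        rw [h, map_one]
      rw [this, map_one]
    · have : u = e := by
        apply α.injective
        rw [h, hαe]
      rw [this, hαe]
    · exact h
    · apply key
      rw [h, mul_inv_cancel_right, hαe]
  have step2 : ∀ k : ℕ, ∀ x ∈ D, x ^ (2 ^ k) = 1 → α x = x := by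
    intro k
    induction k with
    | zero =>
      intro x _ hx
      rw [pow_zero, pow_one] at hx
      rw [hx, map_one]
    | succ k ih =>
      intro x hxD hx
      rcases Nat.eq_zero_or_pos k with hk | hk
      · subst hk
        rw [zero_add, pow_one] at hx
        rcases hinvol x hxD hx with h | h | h | h
        · rw [h, map_one]
        · rw [h, hαe]
        · rw [h, hαu]
        · rw [h, map_mul, hαe, hαu]
      · rcases hpow x hxD k hk hx with h | h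
        · exact ih x hxD h
        · apply key
          have hyD : α x ∈ D := hinv α x hxD
          have hdD : α x * x⁻¹ ∈ D := D.mul_mem hyD (D.inv_mem hxD)
          apply ih _ hdD
          have hc : Commute (α x) x⁻¹ := hcomm _ hyD _ (D.inv_mem hxD)
          rw [hc.mul_pow, ← map_pow, h, hαe, inv_pow, h, mul_inv_cancel]
  have step3 : ∀ x ∈ D, α x = x := by
    intro x hx
    obtain ⟨k, hk⟩ := hP x
    exact step2 k x hx hk
  ext x
  rw [MulAut.one_apply]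
  by_cases hx : x ∈ D
  · exact step3 x hx
  · apply key
    apply step3
    apply hidx
    · intro h
      apply hx
      have := hinv α⁻¹ _ h
      rwa [MulAut.inv_apply_self] at this
    · intro h
      exact hx ((D.inv_mem_iff).mp h)

section concrete

variable {q : ℕ} [Fact q.Prime]

/-- the diagonal map `(x, y) ↦ (a x, b y)` -/
def Dg (a b : (ZMod q)ˣ) : (Fin 2 → ZMod q) ≃ₗ[ZMod q] (Fin 2 → ZMod q) where
  toFun v := ![a * v 0, b * v 1]
  map_add' v w := by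
    ext i; fin_cases i <;> simp [mul_add]
  map_smul' c v := by
    ext i; fin_cases i <;> simp [mul_left_comm]
  invFun v := ![(↑a⁻¹ : ZMod q) * v 0, (↑b⁻¹ : ZMod q) * v 1]
  left_inv v := by
    show ![(↑a⁻¹ : ZMod q) * (![(a : ZMod q) * v 0, b * v 1] 0),
      (↑b⁻¹ : ZMod q) * (![(a : ZMod q) * v 0, b * v 1] 1)] = v
    ext i; fin_cases i
    · show (↑a⁻¹ : ZMod q) * ((a : ZMod q) * v 0) = v 0
      rw [← mul_assoc, Units.inv_mul, one_mul]
    · show (↑b⁻¹ : ZMod q) * ((b : ZMod q) * v 1) = v 1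
      rw [← mul_assoc, Units.inv_mul, one_mul]
  right_inv v := by
    show ![(a : ZMod q) * (![(↑a⁻¹ : ZMod q) * v 0, (↑b⁻¹ : ZMod q) * v 1] 0),
      (b : ZMod q) * (![(↑a⁻¹ : ZMod q) * v 0, (↑b⁻¹ : ZMod q) * v 1] 1)] = v
    ext i; fin_cases i
    · show (a : ZMod q) * ((↑a⁻¹ : ZMod q) * v 0) = v 0
      rw [← mul_assoc, Units.mul_inv, one_mul]
    · show (b : ZMod q) * ((↑b⁻¹ : ZMod q) * v 1) = v 1
      rw [← mul_assoc, Units.mul_inv, one_mul]

/-- the antidiagonal map `(x, y) ↦ (b y, a x)` -/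
def Wg (a b : (ZMod q)ˣ) : (Fin 2 → ZMod q) ≃ₗ[ZMod q] (Fin 2 → ZMod q) where
  toFun v := ![b * v 1, a * v 0]
  map_add' v w := by
    ext i; fin_cases i <;> simp [mul_add]
  map_smul' c v := by
    ext i; fin_cases i <;> simp [mul_left_comm]
  invFun v := ![(↑a⁻¹ : ZMod q) * v 1, (↑b⁻¹ : ZMod q) * v 0]
  left_inv v := by
    show ![(↑a⁻¹ : ZMod q) * (![(b : ZMod q) * v 1, a * v 0] 1),
      (↑b⁻¹ : ZMod q) * (![(b : ZMod q) * v 1, a * v 0] 0)] = v
    ext i; fin_cases i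
    · show (↑a⁻¹ : ZMod q) * ((a : ZMod q) * v 0) = v 0
      rw [← mul_assoc, Units.inv_mul, one_mul]
    · show (↑b⁻¹ : ZMod q) * ((b : ZMod q) * v 1) = v 1
      rw [← mul_assoc, Units.inv_mul, one_mul]
  right_inv v := by
    show ![(b : ZMod q) * (![(↑a⁻¹ : ZMod q) * v 1, (↑b⁻¹ : ZMod q) * v 0] 1),
      (a : ZMod q) * (![(↑a⁻¹ : ZMod q) * v 1, (↑b⁻¹ : ZMod q) * v 0] 0)] = v
    ext i; fin_cases i
    · show (b : ZMod q) * ((↑b⁻¹ : ZMod q) * v 0) = v 0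
      rw [← mul_assoc, Units.mul_inv, one_mul]
    · show (a : ZMod q) * ((↑a⁻¹ : ZMod q) * v 1) = v 1
      rw [← mul_assoc, Units.mul_inv, one_mul]

theorem Dg_apply (a b : (ZMod q)ˣ) (v : Fin 2 → ZMod q) : Dg a b v = ![a * v 0, b * v 1] := rfl
theorem Wg_apply (a b : (ZMod q)ˣ) (v : Fin 2 → ZMod q) : Wg a b v = ![b * v 1, a * v 0] := rfl

theorem Dg_mul_Dg (a b c d : (ZMod q)ˣ) : Dg a b * Dg c d = Dg (a * c) (b * d) := by
  ext v i
  rw [LinearEquiv.mul_apply, Dg_apply, Dg_apply, Dg_apply]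
  fin_cases i <;> simp [mul_assoc]

theorem Dg_mul_Wg (a b c d : (ZMod q)ˣ) : Dg a b * Wg c d = Wg (b * c) (a * d) := by
  ext v i
  rw [LinearEquiv.mul_apply, Dg_apply, Wg_apply, Wg_apply]
  fin_cases i <;> simp [mul_assoc]

theorem Wg_mul_Dg (a b c d : (ZMod q)ˣ) : Wg a b * Dg c d = Wg (a * c) (b * d) := by
  ext v i
  rw [LinearEquiv.mul_apply, Wg_apply, Dg_apply, Wg_apply]
  fin_cases i <;> simp [mul_assoc]

theorem Wg_mul_Wg (a b c d : (ZMod q)ˣ) : Wg a b * Wg c d = Dg (b * c) (a * d) := by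
  ext v i
  rw [LinearEquiv.mul_apply, Wg_apply, Wg_apply, Dg_apply]
  fin_cases i <;> simp [mul_assoc]

theorem Dg_one : Dg (1 : (ZMod q)ˣ) 1 = 1 := by
  ext v i
  rw [Dg_apply]
  fin_cases i <;> simp

theorem Dg_inj {a b c d : (ZMod q)ˣ} (h : Dg a b = Dg c d) : a = c ∧ b = d := by
  have h1 := congrArg (fun f => f ![1, 1]) h
  simp only [Dg_apply] at h1
  have h2 := congrFun h1 0
  have h3 := congrFun h1 1
  simp at h2 h3
  exact ⟨Units.ext h2, Units.ext h3⟩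

theorem Wg_inj {a b c d : (ZMod q)ˣ} (h : Wg a b = Wg c d) : a = c ∧ b = d := by
  have h1 := congrArg (fun f => f ![1, 1]) h
  simp only [Wg_apply] at h1
  have h2 := congrFun h1 0
  have h3 := congrFun h1 1
  simp at h2 h3
  exact ⟨Units.ext h3, Units.ext h2⟩

theorem Dg_pow (a b : (ZMod q)ˣ) (n : ℕ) : (Dg a b) ^ n = Dg (a ^ n) (b ^ n) := by
  induction n with
  | zero => simp [Dg_one]
  | succ n ih => rw [pow_succ, ih, Dg_mul_Dg, ← pow_succ, ← pow_succ]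

theorem Dg_inv (a b : (ZMod q)ˣ) : (Dg a b)⁻¹ = Dg a⁻¹ b⁻¹ := by
  apply inv_eq_of_mul_eq_one_right
  rw [Dg_mul_Dg, mul_inv_cancel, mul_inv_cancel, Dg_one]

theorem Wg_inv (a b : (ZMod q)ˣ) : (Wg a b)⁻¹ = Wg b⁻¹ a⁻¹ := by
  apply inv_eq_of_mul_eq_one_right
  rw [Wg_mul_Wg, mul_inv_cancel, mul_inv_cancel, Dg_one]

theorem Wg_sq (a b : (ZMod q)ˣ) : (Wg a b) ^ 2 = Dg (a * b) (a * b) := by
  rw [pow_two, Wg_mul_Wg, mul_comm b a]

theorem unit_sq_eq_one {ε : (ZMod q)ˣ} (h : ε ^ 2 = 1) : ε = 1 ∨ ε = -1 := by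
  have h1 : (ε : ZMod q) * ε = 1 := by
    rw [← pow_two, ← Units.val_pow_eq_pow_val, h, Units.val_one]
  rcases mul_self_eq_one_iff.mp h1 with h2 | h2
  · left; exact Units.ext h2
  · right; apply Units.ext; rw [h2]; simp

theorem mem_T_iff (T : Subgroup ((Fin 2 → ZMod q) ≃ₗ[ZMod q] (Fin 2 → ZMod q)))
    (hT : ∀ f, f ∈ T ↔ ∃ a s : ZMod q, a ≠ 0 ∧ (s = 1 ∨ s = -1) ∧
      ((∀ v, f v = ![a * v 0, s * a⁻¹ * v 1]) ∨ (∀ v, f v = ![s * a⁻¹ * v 1, a * v 0])))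
    (f : (Fin 2 → ZMod q) ≃ₗ[ZMod q] (Fin 2 → ZMod q)) :
    f ∈ T ↔ ∃ a b : (ZMod q)ˣ, (a * b) ^ 2 = 1 ∧ (f = Dg a b ∨ f = Wg a b) := by
  rw [hT]
  constructor
  · rintro ⟨a, s, ha, hs, hf⟩
    have hs0 : s ≠ 0 := by
      rcases hs with rfl | rfl
      · exact one_ne_zero
      · exact neg_ne_zero.mpr one_ne_zero
    have hs2 : s ^ 2 = 1 := by
      rcases hs with rfl | rfl <;> simp
    refine ⟨Units.mk0 a ha, Units.mk0 (s * a⁻¹) (mul_ne_zero hs0 (inv_ne_zero ha)), ?_, ?_⟩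
    · apply Units.ext
      rw [Units.val_pow_eq_pow_val, Units.val_mul, Units.val_mk0, Units.val_mk0, Units.val_one,
        mul_comm s, mul_inv_cancel_left₀ ha, hs2]
    · rcases hf with hf | hf
      · left
        ext v i
        rw [hf, Dg_apply, Units.val_mk0, Units.val_mk0]
      · right
        ext v i
        rw [hf, Wg_apply, Units.val_mk0, Units.val_mk0]
  · rintro ⟨a, b, hab, hf⟩
    refine ⟨a, (a * b : (ZMod q)ˣ), a.ne_zero, ?_, ?_⟩
    · rcases unit_sq_eq_one hab with h | h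
      · left; rw [h, Units.val_one]
      · right; rw [h]; simp
    · have e1 : ((a * b : (ZMod q)ˣ) : ZMod q) * (a : ZMod q)⁻¹ = b := by
        rw [Units.val_mul, mul_comm (a : ZMod q), mul_assoc, mul_inv_cancel₀ a.ne_zero, mul_one]
      rcases hf with hf | hf
      · left
        intro v
        rw [hf, Dg_apply, e1]
      · right
        intro v
        rw [hf, Wg_apply, e1]

theorem finite_glv : Finite ((Fin 2 → ZMod q) ≃ₗ[ZMod q] (Fin 2 → ZMod q)) :=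
  Finite.of_injective (fun f => (f : (Fin 2 → ZMod q) → (Fin 2 → ZMod q))) DFunLike.coe_injective

theorem T_pow_eq_one (T : Subgroup ((Fin 2 → ZMod q) ≃ₗ[ZMod q] (Fin 2 → ZMod q)))
    (hmem : ∀ f, f ∈ T ↔ ∃ a b : (ZMod q)ˣ, (a * b) ^ 2 = 1 ∧ (f = Dg a b ∨ f = Wg a b))
    (x : T) : x ^ (2 * (q - 1)) = 1 := by
  apply Subtype.ext
  rw [Subgroup.coe_pow, Subgroup.coe_one]
  obtain ⟨a, b, hab, h | h⟩ := (hmem x.1).mp x.2
  · rw [h, mul_comm, pow_mul, Dg_pow, ZMod.units_pow_card_sub_one_eq_one,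
      ZMod.units_pow_card_sub_one_eq_one, Dg_one, one_pow]
  · rw [h, pow_mul, Wg_sq, Dg_pow, ZMod.units_pow_card_sub_one_eq_one, Dg_one]

/-- the diagonal subgroup -/
def Dsub (q : ℕ) [Fact q.Prime] : Subgroup ((Fin 2 → ZMod q) ≃ₗ[ZMod q] (Fin 2 → ZMod q)) where
  carrier := {f | ∃ a b : (ZMod q)ˣ, f = Dg a b}
  mul_mem' := by
    rintro _ _ ⟨a, b, rfl⟩ ⟨c, d, rfl⟩
    exact ⟨a * c, b * d, Dg_mul_Dg a b c d⟩
  one_mem' := ⟨1, 1, Dg_one.symm⟩
  inv_mem' := by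
    rintro _ ⟨a, b, rfl⟩
    exact ⟨a⁻¹, b⁻¹, Dg_inv a b⟩

theorem mem_Dsub {f : (Fin 2 → ZMod q) ≃ₗ[ZMod q] (Fin 2 → ZMod q)} :
    f ∈ Dsub q ↔ ∃ a b : (ZMod q)ˣ, f = Dg a b := Iff.rfl

theorem exists_units {m : ℕ} (hm : 3 ≤ m) (hq : q = 2 ^ m + 1) :
    (∃ c : (ZMod q)ˣ, c ^ 4 ≠ 1) ∧ (∃ a : (ZMod q)ˣ, a ^ 4 = -1) := by
  have hcard : Nat.card (ZMod q)ˣ = 2 ^ m := by
    rw [Nat.card_eq_fintype_card, ZMod.card_units, hq, Nat.add_sub_cancel]
  obtain ⟨g, hg⟩ := IsCyclic.exists_generator (α := (ZMod q)ˣ)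
  have hord : orderOf g = 2 ^ m := by
    rw [orderOf_eq_card_of_forall_mem_zpowers hg, hcard]
  have h8 : 8 ≤ 2 ^ m := by
    calc 8 = 2 ^ 3 := by norm_num
      _ ≤ 2 ^ m := Nat.pow_le_pow_right (by norm_num) hm
  constructor
  · refine ⟨g, fun h => ?_⟩
    have := Nat.le_of_dvd (by norm_num) (orderOf_dvd_of_pow_eq_one h)
    omega
  · refine ⟨g ^ (2 ^ (m - 3)), ?_⟩
    have e1 : (g ^ (2 ^ (m - 3))) ^ 4 = g ^ (2 ^ (m - 1)) := by
      rw [← pow_mul]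
      congr 1
      have : m - 1 = (m - 3) + 2 := by omega
      rw [this, pow_add]
      norm_num
    rw [e1]
    have h2 : (g ^ (2 ^ (m - 1))) ^ 2 = 1 := by
      rw [← pow_mul, ← pow_succ, show m - 1 + 1 = m by omega, ← hord, pow_orderOf_eq_one]
    rcases unit_sq_eq_one h2 with h | h
    · exfalso
      have := Nat.le_of_dvd (by positivity) (orderOf_dvd_of_pow_eq_one h)
      rw [hord] at this
      have : 2 ^ (m - 1) < 2 ^ m := Nat.pow_lt_pow_right (by norm_num) (by omega)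
      omega
    · exact h

theorem neg_one_ne_one_units (hq2 : q ≠ 2) : (-1 : (ZMod q)ˣ) ≠ 1 := by
  intro h
  have h1 : ((-1 : (ZMod q)ˣ) : ZMod q) = 1 := by rw [h, Units.val_one]
  rw [Units.val_neg, Units.val_one] at h1
  have h2 : (2 : ZMod q) = 0 := by
    have : (1 : ZMod q) + 1 = 0 := by
      nth_rewrite 1 [← h1]; ring
    rw [← this]; norm_num
  have h3 : ((2 : ℕ) : ZMod q) = 0 := by exact_mod_cast h2
  rw [ZMod.natCast_eq_zero_iff] at h3
  have := (Nat.prime_dvd_prime_iff_eq (Fact.out : q.Prime) Nat.prime_two).mp h3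
  exact hq2 this

theorem caseA {m : ℕ} (hm : 3 ≤ m) (hq : q = 2 ^ m + 1)
    (T : Subgroup ((Fin 2 → ZMod q) ≃ₗ[ZMod q] (Fin 2 → ZMod q)))
    (hmem : ∀ f, f ∈ T ↔ ∃ a b : (ZMod q)ˣ, (a * b) ^ 2 = 1 ∧ (f = Dg a b ∨ f = Wg a b))
    (hP : IsPGroup 2 T) (α : MulAut T) (hα : Odd (orderOf α)) : α = 1 := by
  obtain ⟨⟨c, hc⟩, ⟨a₀, ha₀⟩⟩ := exists_units hm hq
  have hq2 : q ≠ 2 := by
    have : 8 ≤ 2 ^ m := by
      calc 8 = 2 ^ 3 := by norm_num
        _ ≤ 2 ^ m := Nat.pow_le_pow_right (by norm_num) hm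
    omega
  have hneg := neg_one_ne_one_units hq2
  have hcases : ∀ x : T, (∃ a b : (ZMod q)ˣ, (a * b) ^ 2 = 1 ∧ (x : _) = Dg a b) ∨
      (∃ a b : (ZMod q)ˣ, (a * b) ^ 2 = 1 ∧ (x : _) = Wg a b) := by
    intro x
    obtain ⟨a, b, hab, h | h⟩ := (hmem x.1).mp x.2
    · exact Or.inl ⟨a, b, hab, h⟩
    · exact Or.inr ⟨a, b, hab, h⟩
  have heT : Dg (-1 : (ZMod q)ˣ) (-1) ∈ T := (hmem _).mpr ⟨-1, -1, by simp, Or.inl rfl⟩
  have huT : Dg (1 : (ZMod q)ˣ) (-1) ∈ T := (hmem _).mpr ⟨1, -1, by simp, Or.inl rfl⟩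
  set e : T := ⟨_, heT⟩ with hedef
  set u : T := ⟨_, huT⟩ with hudef
  set D : Subgroup T := (Dsub q).subgroupOf T with hDdef
  have hDmem : ∀ x : T, x ∈ D ↔ ∃ a b : (ZMod q)ˣ, (x : _) = Dg a b := by
    intro x
    rw [hDdef, Subgroup.mem_subgroupOf, mem_Dsub]
  have he1 : e ≠ 1 := by
    intro h
    have h1 : Dg (-1 : (ZMod q)ˣ) (-1) = Dg 1 1 := by
      rw [Dg_one]; exact congrArg Subtype.val h
    exact hneg (Dg_inj h1).1
  have he2 : e ^ 2 = 1 := by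
    apply Subtype.ext
    rw [Subgroup.coe_pow, Subgroup.coe_one]
    show (Dg (-1 : (ZMod q)ˣ) (-1)) ^ 2 = 1
    rw [Dg_pow]; simp [Dg_one]
  -- characterisation of D
  have hchar : ∀ x : T, x ∈ D ↔ ∀ y : T, x * (y * y) = (y * y) * x := by
    intro x
    constructor
    · intro hx y
      obtain ⟨a, b, hx⟩ := (hDmem x).mp hx
      apply Subtype.ext
      simp only [Subgroup.coe_mul, hx]
      rcases hcases y with ⟨c', d', _, hy⟩ | ⟨c', d', _, hy⟩
      · rw [hy, Dg_mul_Dg, Dg_mul_Dg, Dg_mul_Dg, mul_comm a, mul_comm b]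
      · rw [hy, Wg_mul_Wg, Dg_mul_Dg, Dg_mul_Dg, mul_comm a, mul_comm b]
    · intro hx
      rcases hcases x with ⟨a, b, _, hx'⟩ | ⟨a, b, _, hx'⟩
      · exact (hDmem x).mpr ⟨a, b, hx'⟩
      · exfalso
        have hyT : Dg c c⁻¹ ∈ T := (hmem _).mpr ⟨c, c⁻¹, by simp, Or.inl rfl⟩
        have h1 := congrArg Subtype.val (hx ⟨_, hyT⟩)
        simp only [Subgroup.coe_mul, hx'] at h1
        rw [Dg_mul_Dg, Wg_mul_Dg, Dg_mul_Wg] at h1
        have h2 := (Wg_inj h1).1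
        apply hc
        have h3 : c * c * (c * c) = 1 := by
          calc c * c * (c * c) = (c * c) * (a⁻¹ * (a * (c * c))) := by group
            _ = (c * c) * (a⁻¹ * (c⁻¹ * c⁻¹ * a)) := by rw [h2]
            _ = (c * c) * (a⁻¹ * (a * (c⁻¹ * c⁻¹))) := by rw [mul_comm (c⁻¹ * c⁻¹) a]
            _ = 1 := by group
        rw [show (4 : ℕ) = 2 + 2 by norm_num, pow_add, pow_two]
        exact h3
  have hinv : ∀ β : MulAut T, ∀ x ∈ D, β x ∈ D := by
    intro β x hx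
    rw [hchar] at hx ⊢
    intro y
    have h1 := hx (β⁻¹ y)
    have h2 := congrArg β h1
    rw [map_mul, map_mul, map_mul, map_mul, MulAut.apply_inv_self] at h2
    exact h2
  -- characterisation of e
  have hechar : ∀ z : T, z ≠ 1 → z ^ 2 = 1 → (∃ y : T, z = y ^ 4) → z = e := by
    intro z hz1 hz2 ⟨y, hy⟩
    rcases hcases y with ⟨a, b, hab, hy'⟩ | ⟨a, b, hab, hy'⟩
    · have hz : z.1 = Dg (a ^ 4) (b ^ 4) := by
        rw [hy, Subgroup.coe_pow, hy', Dg_pow]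
      have hz2' : Dg ((a ^ 4) ^ 2) ((b ^ 4) ^ 2) = Dg 1 1 := by
        rw [← Dg_pow, ← hz, ← Subgroup.coe_pow, hz2, Subgroup.coe_one, Dg_one]
      obtain ⟨h1, h2⟩ := Dg_inj hz2'
      have h3 : a ^ 4 * b ^ 4 = 1 := by
        rw [← mul_pow, show (4 : ℕ) = 2 * 2 by norm_num, pow_mul, hab, one_pow]
      apply Subtype.ext
      rw [hz]
      show Dg (a ^ 4) (b ^ 4) = Dg (-1) (-1)
      rcases unit_sq_eq_one h1 with h4 | h4
      · exfalso
        apply hz1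
        apply Subtype.ext
        rw [hz, Subgroup.coe_one, ← Dg_one]
        rw [h4, one_mul] at h3
        rw [h4, h3]
      · rw [h4] at h3 ⊢
        have : b ^ 4 = -1 := by
          have : b ^ 4 = (-1 : (ZMod q)ˣ)⁻¹ := eq_inv_of_mul_eq_one_right h3
          rw [this]; simp
        rw [this]
    · exfalso
      apply hz1
      apply Subtype.ext
      rw [hy, Subgroup.coe_pow, hy', Subgroup.coe_one, show (4 : ℕ) = 2 * 2 by norm_num, pow_mul,
        Wg_sq, Dg_pow, hab, Dg_one]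
  have hefix : ∀ β : MulAut T, β e = e := by
    intro β
    apply hechar
    · intro h
      apply he1
      apply β.injective
      rw [h, map_one]
    · rw [← map_pow, he2, map_one]
    · have hy₀T : Dg a₀ a₀⁻¹ ∈ T := (hmem _).mpr ⟨a₀, a₀⁻¹, by simp, Or.inl rfl⟩
      refine ⟨β ⟨_, hy₀T⟩, ?_⟩
      rw [← map_pow]
      congr 1
      apply Subtype.ext
      rw [Subgroup.coe_pow]
      show Dg (-1 : (ZMod q)ˣ) (-1) = (Dg a₀ a₀⁻¹) ^ 4
      rw [Dg_pow, inv_pow, ha₀]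
      simp
  apply odd_aut_trivial hP D e u
  · -- commutative
    intro x hx y hy
    obtain ⟨a, b, hx⟩ := (hDmem x).mp hx
    obtain ⟨c', d', hy⟩ := (hDmem y).mp hy
    apply Subtype.ext
    rw [Subgroup.coe_mul, Subgroup.coe_mul, hx, hy, Dg_mul_Dg, Dg_mul_Dg, mul_comm a, mul_comm b]
  · -- index 2
    intro x y hx hy
    rcases hcases x with ⟨a, b, _, hx'⟩ | ⟨a, b, _, hx'⟩
    · exact absurd ((hDmem x).mpr ⟨a, b, hx'⟩) hx
    rcases hcases y with ⟨c', d', _, hy'⟩ | ⟨c', d', _, hy'⟩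
    · exact absurd ((hDmem y).mpr ⟨c', d', hy'⟩) hy
    rw [hDmem]
    exact ⟨b * c', a * d', by rw [Subgroup.coe_mul, hx', hy', Wg_mul_Wg]⟩
  · exact hinv
  · exact hefix
  · exact (hDmem e).mpr ⟨-1, -1, rfl⟩
  · exact (hDmem u).mpr ⟨1, -1, rfl⟩
  · apply Subtype.ext
    rw [Subgroup.coe_pow, Subgroup.coe_one]
    show (Dg (1 : (ZMod q)ˣ) (-1)) ^ 2 = 1
    rw [Dg_pow]; simp [Dg_one]
  · -- involutions
    intro x hx hx2
    obtain ⟨a, b, hx'⟩ := (hDmem x).mp hx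
    have h1 : Dg (a ^ 2) (b ^ 2) = Dg 1 1 := by
      rw [← Dg_pow, ← hx', ← Subgroup.coe_pow, hx2, Subgroup.coe_one, Dg_one]
    obtain ⟨ha, hb⟩ := Dg_inj h1
    rcases unit_sq_eq_one ha with rfl | rfl <;> rcases unit_sq_eq_one hb with rfl | rfl
    · left; apply Subtype.ext; rw [hx', Dg_one]; rfl
    · right; right; left; apply Subtype.ext; rw [hx']
    · right; right; right; apply Subtype.ext
      rw [hx', Subgroup.coe_mul]
      show Dg (-1 : (ZMod q)ˣ) 1 = Dg (-1) (-1) * Dg 1 (-1)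
      rw [Dg_mul_Dg]; simp
    · right; left; apply Subtype.ext; rw [hx']
  · -- powers
    intro x hx k hk hxk
    obtain ⟨a, b, hx'⟩ := (hDmem x).mp hx
    obtain ⟨a', b', hab, hx''⟩ : ∃ a' b' : (ZMod q)ˣ, (a' * b') ^ 2 = 1 ∧ (x : _) = Dg a' b' := by
      rcases hcases x with h | ⟨a', b', _, h⟩
      · exact h
      · exfalso
        rw [hx'] at h
        have := congrArg (fun f => f ![1, 0] 0) h
        simp [Dg_apply, Wg_apply] at this
    have hcd : a' ^ (2 ^ k) * b' ^ (2 ^ k) = 1 := by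
      obtain ⟨j, rfl⟩ : ∃ j, k = j + 1 := ⟨k - 1, by omega⟩
      rw [← mul_pow, pow_succ', pow_mul, hab, one_pow]
    have h1 : Dg ((a' ^ (2 ^ k)) ^ 2) ((b' ^ (2 ^ k)) ^ 2) = Dg 1 1 := by
      rw [← pow_mul, ← pow_mul, ← pow_succ, ← Dg_pow, ← hx'', ← Subgroup.coe_pow, hxk,
        Subgroup.coe_one, Dg_one]
    obtain ⟨hc2, _⟩ := Dg_inj h1
    have hxk' : (x ^ (2 ^ k) : T).1 = Dg (a' ^ (2 ^ k)) (b' ^ (2 ^ k)) := by
      rw [Subgroup.coe_pow, hx'', Dg_pow]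
    rcases unit_sq_eq_one hc2 with h | h
    · left
      apply Subtype.ext
      rw [hxk', Subgroup.coe_one, ← Dg_one]
      rw [h, one_mul] at hcd
      rw [h, hcd]
    · right
      apply Subtype.ext
      rw [hxk']
      show _ = Dg (-1 : (ZMod q)ˣ) (-1)
      rw [h] at hcd ⊢
      have : b' ^ (2 ^ k) = (-1 : (ZMod q)ˣ)⁻¹ := eq_inv_of_mul_eq_one_right hcd
      rw [this]; simp
  · exact hα

theorem caseC (T : Subgroup ((Fin 2 → ZMod 2) ≃ₗ[ZMod 2] (Fin 2 → ZMod 2)))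
    (hmem : ∀ f, f ∈ T ↔ ∃ a b : (ZMod 2)ˣ, (a * b) ^ 2 = 1 ∧ (f = Dg a b ∨ f = Wg a b))
    (hP : IsPGroup 2 T) (α : MulAut T) (hα : Odd (orderOf α)) : α = 1 := by
  have hU : ∀ a : (ZMod 2)ˣ, a = 1 := by decide
  have hcases : ∀ x : T, x = 1 ∨ x.1 = Wg 1 1 := by
    intro x
    obtain ⟨a, b, _, h | h⟩ := (hmem x.1).mp x.2
    · left
      apply Subtype.ext
      rw [h, hU a, hU b, Dg_one]; rfl
    · right
      rw [h, hU a, hU b]
  apply odd_aut_trivial hP ⊥ 1 1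
  · intro x hx y hy
    rw [Subgroup.mem_bot] at hx hy
    rw [hx, hy]
  · intro x y hx hy
    rw [Subgroup.mem_bot] at hx hy ⊢
    rcases hcases x with h | h
    · exact absurd h hx
    rcases hcases y with h' | h'
    · exact absurd h' hy
    apply Subtype.ext
    rw [Subgroup.coe_mul, h, h', Wg_mul_Wg, mul_one, Dg_one]; rfl
  · intro β x hx
    rw [Subgroup.mem_bot] at hx ⊢
    rw [hx, map_one]
  · intro β
    exact map_one β
  · exact Subgroup.one_mem _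
  · exact Subgroup.one_mem _
  · exact one_pow 2
  · intro x hx _
    left
    exact (Subgroup.mem_bot).mp hx
  · intro x hx k _ _
    left
    rw [(Subgroup.mem_bot).mp hx, one_pow]
  · exact hα

/-- the cyclic subgroup of order four, for `q = 3` -/
def D3sub : Subgroup ((Fin 2 → ZMod 3) ≃ₗ[ZMod 3] (Fin 2 → ZMod 3)) where
  carrier := {f | (∃ a b : (ZMod 3)ˣ, a * b = 1 ∧ f = Dg a b) ∨
    (∃ a b : (ZMod 3)ˣ, a * b = -1 ∧ f = Wg a b)}
  mul_mem' := by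
    have h1 : ∀ a b c d : (ZMod 3)ˣ, a * b = 1 → c * d = 1 → (a * c) * (b * d) = 1 := by decide
    have h2 : ∀ a b c d : (ZMod 3)ˣ, a * b = 1 → c * d = -1 → (b * c) * (a * d) = -1 := by decide
    have h3 : ∀ a b c d : (ZMod 3)ˣ, a * b = -1 → c * d = 1 → (a * c) * (b * d) = -1 := by decide
    have h4 : ∀ a b c d : (ZMod 3)ˣ, a * b = -1 → c * d = -1 → (b * c) * (a * d) = 1 := by decide
    rintro _ _ (⟨a, b, hab, rfl⟩ | ⟨a, b, hab, rfl⟩) (⟨c, d, hcd, rfl⟩ | ⟨c, d, hcd, rfl⟩)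
    · exact Or.inl ⟨a * c, b * d, h1 a b c d hab hcd, Dg_mul_Dg a b c d⟩
    · exact Or.inr ⟨b * c, a * d, h2 a b c d hab hcd, Dg_mul_Wg a b c d⟩
    · exact Or.inr ⟨a * c, b * d, h3 a b c d hab hcd, Wg_mul_Dg a b c d⟩
    · exact Or.inl ⟨b * c, a * d, h4 a b c d hab hcd, Wg_mul_Wg a b c d⟩
  one_mem' := Or.inl ⟨1, 1, by simp, Dg_one.symm⟩
  inv_mem' := by
    have h1 : ∀ a b : (ZMod 3)ˣ, a * b = 1 → a⁻¹ * b⁻¹ = 1 := by decide
    have h2 : ∀ a b : (ZMod 3)ˣ, a * b = -1 → b⁻¹ * a⁻¹ = -1 := by decide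
    rintro _ (⟨a, b, hab, rfl⟩ | ⟨a, b, hab, rfl⟩)
    · exact Or.inl ⟨a⁻¹, b⁻¹, h1 a b hab, Dg_inv a b⟩
    · exact Or.inr ⟨b⁻¹, a⁻¹, h2 a b hab, Wg_inv a b⟩

theorem caseB (T : Subgroup ((Fin 2 → ZMod 3) ≃ₗ[ZMod 3] (Fin 2 → ZMod 3)))
    (hmem : ∀ f, f ∈ T ↔ ∃ a b : (ZMod 3)ˣ, (a * b) ^ 2 = 1 ∧ (f = Dg a b ∨ f = Wg a b))
    (hP : IsPGroup 2 T) (α : MulAut T) (hα : Odd (orderOf α)) : α = 1 := by
  have hU : ∀ a : (ZMod 3)ˣ, a = 1 ∨ a = -1 := by decide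
  have hUsq : ∀ a b : (ZMod 3)ˣ, (a * b) ^ 2 = 1 := by decide
  have hneg : (-1 : (ZMod 3)ˣ) ≠ 1 := by decide
  have hcases : ∀ x : T, (∃ a b : (ZMod 3)ˣ, x.1 = Dg a b) ∨ (∃ a b : (ZMod 3)ˣ, x.1 = Wg a b) := by
    intro x
    obtain ⟨a, b, _, h | h⟩ := (hmem x.1).mp x.2
    · exact Or.inl ⟨a, b, h⟩
    · exact Or.inr ⟨a, b, h⟩
  have heT : Dg (-1 : (ZMod 3)ˣ) (-1) ∈ T := (hmem _).mpr ⟨-1, -1, by simp, Or.inl rfl⟩
  set e : T := ⟨_, heT⟩ with hedef
  set D : Subgroup T := D3sub.subgroupOf T with hDdef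
  have hDmem : ∀ x : T, x ∈ D ↔ (∃ a b : (ZMod 3)ˣ, a * b = 1 ∧ x.1 = Dg a b) ∨
      (∃ a b : (ZMod 3)ˣ, a * b = -1 ∧ x.1 = Wg a b) := by
    intro x
    rw [hDdef, Subgroup.mem_subgroupOf]
    rfl
  have he1 : e ≠ 1 := by
    intro h
    have h1 : Dg (-1 : (ZMod 3)ˣ) (-1) = Dg 1 1 := by
      rw [Dg_one]; exact congrArg Subtype.val h
    exact hneg (Dg_inj h1).1
  have he2 : e ^ 2 = 1 := by
    apply Subtype.ext
    rw [Subgroup.coe_pow, Subgroup.coe_one]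
    show (Dg (-1 : (ZMod 3)ˣ) (-1)) ^ 2 = 1
    rw [Dg_pow]; simp [Dg_one]
  -- squares are 1 or e
  have hsq : ∀ x : T, x ^ 2 = 1 ∨ x ^ 2 = e := by
    have h1 : ∀ a : (ZMod 3)ˣ, a ^ 2 = 1 := by decide
    intro x
    rcases hcases x with ⟨a, b, h⟩ | ⟨a, b, h⟩
    · left
      apply Subtype.ext
      rw [Subgroup.coe_pow, h, Dg_pow, h1, h1, Dg_one]; rfl
    · rcases hU (a * b) with h2 | h2
      · left
        apply Subtype.ext
        rw [Subgroup.coe_pow, h, Wg_sq, h2, Dg_one]; rfl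
      · right
        apply Subtype.ext
        rw [Subgroup.coe_pow, h, Wg_sq, h2]
  -- characterisation of D
  have hchar : ∀ x : T, x ∈ D ↔ (x = 1 ∨ x = e ∨ x ^ 2 = e) := by
    intro x
    rw [hDmem]
    constructor
    · rintro (⟨a, b, hab, h⟩ | ⟨a, b, hab, h⟩)
      · have h3 : ∀ a b : (ZMod 3)ˣ, a * b = 1 → (a = 1 ∧ b = 1) ∨ (a = -1 ∧ b = -1) := by decide
        rcases h3 a b hab with ⟨rfl, rfl⟩ | ⟨rfl, rfl⟩
        · left; apply Subtype.ext; rw [h, Dg_one]; rfl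
        · right; left; apply Subtype.ext; rw [h]
      · right; right
        apply Subtype.ext
        rw [Subgroup.coe_pow, h, Wg_sq, hab]
    · rintro (rfl | rfl | h)
      · exact Or.inl ⟨1, 1, by simp, Dg_one.symm⟩
      · exact Or.inl ⟨-1, -1, by simp, rfl⟩
      · rcases hcases x with ⟨a, b, h'⟩ | ⟨a, b, h'⟩
        · exfalso
          have h1 : ∀ a : (ZMod 3)ˣ, a ^ 2 = 1 := by decide
          apply he1
          rw [← h]
          apply Subtype.ext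
          rw [Subgroup.coe_pow, h', Dg_pow, h1, h1, Dg_one]; rfl
        · right
          refine ⟨a, b, ?_, h'⟩
          have h2 := congrArg Subtype.val h
          rw [Subgroup.coe_pow, h', Wg_sq] at h2
          exact (Dg_inj h2).1
  have hefix : ∀ β : MulAut T, β e = e := by
    intro β
    have hwT : Wg (1 : (ZMod 3)ˣ) (-1) ∈ T := (hmem _).mpr ⟨1, -1, by simp, Or.inr rfl⟩
    have hw : (⟨_, hwT⟩ : T) ^ 2 = e := by
      apply Subtype.ext
      rw [Subgroup.coe_pow]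
      show (Wg (1 : (ZMod 3)ˣ) (-1)) ^ 2 = Dg (-1) (-1)
      rw [Wg_sq]; simp
    rcases hsq (β ⟨_, hwT⟩) with h | h
    · exfalso
      apply he1
      apply β.injective
      rw [← hw, map_pow, h, map_one]
    · have h5 : β e = (β ⟨_, hwT⟩) ^ 2 := by rw [← map_pow, hw]
      rw [h5, h]
  apply odd_aut_trivial hP D e 1
  · -- commutative
    have h1 : ∀ a b c d : (ZMod 3)ˣ, a * b = 1 → c * d = -1 → b * c = c * a ∧ a * d = d * b := by
      decide
    have h2 : ∀ a b c d : (ZMod 3)ˣ, a * b = -1 → c * d = -1 → b * c = d * a ∧ a * d = c * b := by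
      decide
    intro x hx y hy
    apply Subtype.ext
    rw [Subgroup.coe_mul, Subgroup.coe_mul]
    rcases (hDmem x).mp hx with ⟨a, b, hab, hx'⟩ | ⟨a, b, hab, hx'⟩ <;>
    rcases (hDmem y).mp hy with ⟨c, d, hcd, hy'⟩ | ⟨c, d, hcd, hy'⟩
    · rw [hx', hy', Dg_mul_Dg, Dg_mul_Dg, mul_comm a, mul_comm b]
    · rw [hx', hy', Dg_mul_Wg, Wg_mul_Dg, (h1 a b c d hab hcd).1, (h1 a b c d hab hcd).2]
    · rw [hx', hy', Dg_mul_Wg, Wg_mul_Dg, (h1 c d a b hcd hab).1, (h1 c d a b hcd hab).2]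
    · rw [hx', hy', Wg_mul_Wg, Wg_mul_Wg, (h2 a b c d hab hcd).1, (h2 a b c d hab hcd).2]
  · -- index 2
    have h1 : ∀ a b c d : (ZMod 3)ˣ, a * b ≠ 1 → c * d ≠ 1 → (a * c) * (b * d) = 1 := by decide
    have h2 : ∀ a b c d : (ZMod 3)ˣ, a * b ≠ 1 → c * d ≠ -1 → (b * c) * (a * d) = -1 := by decide
    have h3 : ∀ a b c d : (ZMod 3)ˣ, a * b ≠ -1 → c * d ≠ 1 → (a * c) * (b * d) = -1 := by decide
    have h4 : ∀ a b c d : (ZMod 3)ˣ, a * b ≠ -1 → c * d ≠ -1 → (b * c) * (a * d) = 1 := by decide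
    intro x y hx hy
    rw [hDmem] at hx hy ⊢
    rw [Subgroup.coe_mul]
    rcases hcases x with ⟨a, b, hx'⟩ | ⟨a, b, hx'⟩ <;>
    rcases hcases y with ⟨c, d, hy'⟩ | ⟨c, d, hy'⟩
    · have hab : a * b ≠ 1 := fun h => hx (Or.inl ⟨a, b, h, hx'⟩)
      have hcd : c * d ≠ 1 := fun h => hy (Or.inl ⟨c, d, h, hy'⟩)
      exact Or.inl ⟨a * c, b * d, h1 a b c d hab hcd, by rw [hx', hy', Dg_mul_Dg]⟩
    · have hab : a * b ≠ 1 := fun h => hx (Or.inl ⟨a, b, h, hx'⟩)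
      have hcd : c * d ≠ -1 := fun h => hy (Or.inr ⟨c, d, h, hy'⟩)
      exact Or.inr ⟨b * c, a * d, h2 a b c d hab hcd, by rw [hx', hy', Dg_mul_Wg]⟩
    · have hab : a * b ≠ -1 := fun h => hx (Or.inr ⟨a, b, h, hx'⟩)
      have hcd : c * d ≠ 1 := fun h => hy (Or.inl ⟨c, d, h, hy'⟩)
      exact Or.inr ⟨a * c, b * d, h3 a b c d hab hcd, by rw [hx', hy', Wg_mul_Dg]⟩
    · have hab : a * b ≠ -1 := fun h => hx (Or.inr ⟨a, b, h, hx'⟩)
      have hcd : c * d ≠ -1 := fun h => hy (Or.inr ⟨c, d, h, hy'⟩)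
      exact Or.inl ⟨b * c, a * d, h4 a b c d hab hcd, by rw [hx', hy', Wg_mul_Wg]⟩
  · -- invariance
    intro β x hx
    rw [hchar] at hx ⊢
    rcases hx with rfl | rfl | h
    · left; exact map_one β
    · right; left; exact hefix β
    · right; right
      rw [← map_pow, h, hefix β]
  · exact hefix
  · exact (hchar e).mpr (Or.inr (Or.inl rfl))
  · exact Subgroup.one_mem _
  · exact one_pow 2
  · -- involutions
    intro x hx hx2
    rcases (hchar x).mp hx with h | h | h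
    · left; exact h
    · right; left; exact h
    · exfalso
      apply he1
      rw [← h, hx2]
  · -- powers
    intro x _ k hk _
    obtain ⟨j, rfl⟩ : ∃ j, k = j + 1 := ⟨k - 1, by omega⟩
    rw [pow_succ', pow_mul]
    rcases hsq x with h | h
    · left; rw [h, one_pow]
    · rw [h]
      rcases Nat.eq_zero_or_pos j with rfl | hj
      · right; rw [pow_zero, pow_one]
      · left
        obtain ⟨i, rfl⟩ : ∃ i, j = i + 1 := ⟨j - 1, by omega⟩
        rw [pow_succ', pow_mul, he2, one_pow]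
  · exact hα

end concrete

end helpers



/-- Let q = 2^m + 1 be a prime other than 5. Then the automorphism group of the group of linear maps of F_q² of the forms (x, y) ↦ (a x, ± a⁻¹ y) and (x, y) ↦ (± a⁻¹ y, a x) with a ≠ 0 is itself a 2-group. -/
theorem result (q m : ℕ) [Fact q.Prime] (hq : q = 2 ^ m + 1) (hq5 : q ≠ 5)
    (T : Subgroup ((Fin 2 → ZMod q) ≃ₗ[ZMod q] (Fin 2 → ZMod q)))
    (hT : ∀ f, f ∈ T ↔ ∃ a s : ZMod q, a ≠ 0 ∧ (s = 1 ∨ s = -1) ∧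
      ((∀ v, f v = ![a * v 0, s * a⁻¹ * v 1]) ∨ (∀ v, f v = ![s * a⁻¹ * v 1, a * v 0]))) :
    IsPGroup 2 (MulAut T) := by
  have hmem := mem_T_iff T hT
  have hP : IsPGroup 2 T := by
    intro x
    refine ⟨m + 1, ?_⟩
    have h1 := T_pow_eq_one T hmem x
    have e1 : 2 * (q - 1) = 2 ^ (m + 1) := by
      rw [hq, Nat.add_sub_cancel, pow_succ']
    rwa [e1] at h1
  haveI : Finite ((Fin 2 → ZMod q) ≃ₗ[ZMod q] (Fin 2 → ZMod q)) := finite_glv
  apply isPGroup_mulAut_of_odd_trivial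
  intro α hα
  obtain rfl | rfl | rfl | hm : m = 0 ∨ m = 1 ∨ m = 2 ∨ 3 ≤ m := by omega
  · have hq' : q = 2 := by norm_num at hq; exact hq
    subst hq'
    exact caseC T hmem hP α hα
  · have hq' : q = 3 := by norm_num at hq; exact hq
    subst hq'
    exact caseB T hmem hP α hα
  · exfalso
    apply hq5
    norm_num at hq
    exact hq
  · exact caseA hm hq T hmem hP α hα


end Cfsg.Agent.S3382
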