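import Mathlib
import Cfsg.Agent.S0035
import Cfsg.Agent.Lib.Lead.Frobenius3
import Cfsg.Agent.Lib.Lead.FpfCyclic
import Cfsg.Statements.S3383

set_option autoImplicit false
open Cfsg
open scoped commutatorElement

namespace Cfsg.Agent.S3383

/-- Let H be a Frobenius complement in a finite group L and K the Frobenius kernel (as a subgroup). Then K is characteristic in L, and every normal subgroup of L either contains K or is contained in K. -/
theorem result {L : Type*} [Group L] [Finite L]
    (H : Subgroup L) (hH : Cfsg.IsFrobeniusComplement H)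
    (K : Subgroup L) (hK : (K : Set L) = Cfsg.frobeniusKernel H) :
    K.Characteristic ∧ ∀ N : Subgroup L, N.Normal → K ≤ N ∨ N ≤ K := by
  classical
  obtain ⟨N, hN, hNn, hc⟩ := Cfsg.Agent.S0035.result H hH
  have hKN : K = N := SetLike.coe_injective (hK.trans hN.symm)
  subst hKN
  haveI := hNn
  have hcard : Nat.card ↥K * Nat.card ↥H = Nat.card L := hc.card_mul_card
  have hK1 : K ≠ ⊥ := by
    intro h
    rw [h, Subgroup.card_bot, one_mul] at hcard
    exact hH.2.1 (Subgroup.eq_top_of_card_eq _ hcard)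
  have hfpf := (Cfsg.Agent.Lib.Lead.isFrobeniusComplement_iff_fpf K H hc hK1 hH.1).mp hH
  have hidx : K.index = Nat.card ↥H := by
    have h1 := K.card_mul_index
    have hpos : 0 < Nat.card ↥K := Nat.card_pos
    exact Nat.eq_of_mul_eq_mul_left hpos (h1.trans hcard.symm)
  -- coprimality
  have hcop : (Nat.card ↥K).Coprime K.index := by
    rw [hidx]
    apply Nat.Coprime.symm
    apply Nat.coprime_of_dvd
    intro q hq hqH hqK
    haveI : Fact q.Prime := ⟨hq⟩
    obtain ⟨h, hh⟩ := exists_prime_orderOf_dvd_card' (G := ↥H) q hqH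
    have hh' : orderOf (h : L) = q := by rw [Subgroup.orderOf_coe]; exact hh
    have hQp : IsPGroup q ↥(Subgroup.zpowers (h : L)) := by
      apply IsPGroup.of_card (n := 1)
      rw [Nat.card_zpowers, hh', pow_one]
    have hQ1 : Subgroup.zpowers (h : L) ≠ ⊥ := by
      intro hb
      rw [Subgroup.zpowers_eq_bot] at hb
      rw [hb, orderOf_one] at hh'
      exact hq.one_lt.ne hh'
    have hQn : Subgroup.zpowers (h : L) ≤ Subgroup.normalizer (K : Set L) := by
      rw [Subgroup.normalizer_eq_top]; exact le_top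
    have hQH : Subgroup.zpowers (h : L) ≤ H := Subgroup.zpowers_le.mpr h.2
    have := Cfsg.Agent.Lib.Lead.card_modEq_one_of_fpf K (Subgroup.zpowers (h : L)) q hQp hQn hQ1
      (fun a ha ha1 => hfpf a (hQH ha) ha1)
    have h2 : Nat.card ↥K % q = 0 := Nat.mod_eq_zero_of_dvd hqK
    have h3 : Nat.card ↥K % q = 1 % q := this
    rw [h2, Nat.mod_eq_of_lt hq.one_lt] at h3
    exact absurd h3 (by norm_num)
  have hmem : ∀ x : L, (orderOf x).Coprime K.index → x ∈ K := by
    intro x hx
    rw [← QuotientGroup.eq_one_iff, ← orderOf_eq_one_iff]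
    have h1 : orderOf (QuotientGroup.mk x : L ⧸ K) ∣ orderOf x := orderOf_map_dvd (QuotientGroup.mk' K) x
    have h2 : orderOf (QuotientGroup.mk x : L ⧸ K) ∣ K.index := by
      rw [Subgroup.index_eq_card]; exact orderOf_dvd_natCard _
    exact Nat.eq_one_of_dvd_coprimes hx h1 h2
  refine ⟨?_, ?_⟩
  · rw [Subgroup.characteristic_iff_map_le]
    intro φ
    rintro _ ⟨k, hk, rfl⟩
    apply hmem
    have h1 : orderOf (φ.toMonoidHom k) = orderOf k := by
      show orderOf (φ k) = orderOf k
      exact MulEquiv.orderOf_eq φ k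
    rw [h1]
    have h2 : orderOf k ∣ Nat.card ↥K := by
      have := orderOf_dvd_natCard (⟨k, hk⟩ : K)
      rwa [← Subgroup.orderOf_coe] at this
    exact Nat.Coprime.coprime_dvd_left h2 hcop
  · intro N' hN'
    by_cases hle : N' ≤ K
    · exact Or.inr hle
    · left
      obtain ⟨n, hnN, hnK⟩ := SetLike.not_le_iff_exists.mp hle
      have hnK' : n ∉ Cfsg.frobeniusKernel H := by
        rw [← hN]; exact hnK
      obtain ⟨hn1, g, hg⟩ := Cfsg.Agent.Lib.Lead.not_mem_frobeniusKernel_iff.mp hnK'
      rw [Cfsg.Agent.Lib.Lead.mem_conj_smul_iff] at hg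
      set h := g⁻¹ * n * g with hh
      have hhN : h ∈ N' := by
        have := hN'.conj_mem n hnN g⁻¹
        simpa [hh] using this
      have hh1 : h ≠ 1 := by
        intro h1
        apply hn1
        have : n = g * h * g⁻¹ := by rw [hh]; group
        rw [this, h1]; group
      have hC := hfpf h hg hh1
      -- the injective map K → K ⊓ N'
      have hmap : ∀ k ∈ K, k * h * k⁻¹ * h⁻¹ ∈ K ⊓ N' := by
        intro k hk
        refine ⟨?_, ?_⟩
        · have h1 : h * k⁻¹ * h⁻¹ ∈ K := hNn.conj_mem _ (K.inv_mem hk) h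
          have : k * h * k⁻¹ * h⁻¹ = k * (h * k⁻¹ * h⁻¹) := by group
          rw [this]
          exact K.mul_mem hk h1
        · exact N'.mul_mem (hN'.conj_mem h hhN k) (N'.inv_mem hhN)
      let f : K → ↥(K ⊓ N') := fun k => ⟨(k : L) * h * (k : L)⁻¹ * h⁻¹, hmap k k.2⟩
      have hf : Function.Injective f := by
        intro k₁ k₂ he
        have he' : (k₁ : L) * h * (k₁ : L)⁻¹ * h⁻¹ = (k₂ : L) * h * (k₂ : L)⁻¹ * h⁻¹ :=
          congrArg Subtype.val he
        have h2 : (k₁ : L) * h * (k₁ : L)⁻¹ = (k₂ : L) * h * (k₂ : L)⁻¹ := mul_right_cancel he'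
        have h3 : (k₂ : L)⁻¹ * (k₁ : L) ∈ K ⊓ Subgroup.centralizer {h} := by
          refine ⟨K.mul_mem (K.inv_mem k₂.2) k₁.2, ?_⟩
          show _ ∈ Subgroup.centralizer {h}
          rw [Cfsg.Agent.Lib.Lead.mem_centralizer_singleton_iff]
          have : h * ((k₂ : L)⁻¹ * (k₁ : L)) = (k₂ : L)⁻¹ * ((k₂ : L) * h * (k₂ : L)⁻¹) * (k₁ : L) := by
            group
          rw [this, ← h2]; group
        rw [hC, Subgroup.mem_bot] at h3
        apply Subtype.ext
        have : (k₁ : L) = (k₂ : L) * ((k₂ : L)⁻¹ * (k₁ : L)) := by group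
        rw [this, h3, mul_one]
      have hle2 : Nat.card ↥K ≤ Nat.card ↥(K ⊓ N') := Nat.card_le_card_of_injective f hf
      have := Subgroup.eq_of_le_of_card_ge (inf_le_left : K ⊓ N' ≤ K) hle2
      exact inf_eq_left.mp this

end Cfsg.Agent.S3383
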