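import Mathlib
import Cfsg.Agent.Lib.Helper6.Fixity
import Cfsg.Agent.Lib.Helper6.PGroupFix
import Cfsg.Agent.Lib.Helper6.SylowIdx
import Cfsg.Statements.S3389

set_option autoImplicit false
open Cfsg Cfsg.Agent.Lib.Helper6
open scoped commutatorElement

namespace Cfsg.Agent.S3389

/-- Let G be a finite group acting faithfully and transitively on a finite set Ω with fixity k ≥ 1: every non-identity element fixes at most k points and some non-identity element fixes exactly k points. Then |Z(G)| divides k; if k = 2 then |G| is even; and for every prime p > k dividing |G| and every point α, either p does not divide |G_α| or G_α contains a Sylow p-subgroup of G. -/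
theorem result {G : Type*} [Group G] [Finite G] {Ω : Type*} [Fintype Ω] [MulAction G Ω] [FaithfulSMul G Ω]
    (htr : MulAction.IsPretransitive G Ω) (k : ℕ) (hk : 1 ≤ k)
    (hfix : ∀ g : G, g ≠ 1 → Nat.card (MulAction.fixedBy Ω g) ≤ k) (hex : ∃ g : G, g ≠ 1 ∧ Nat.card (MulAction.fixedBy Ω g) = k) :
    Nat.card (Subgroup.center G) ∣ k ∧ (k = 2 → 2 ∣ Nat.card G) ∧
      ∀ (p : ℕ), p.Prime → k < p → p ∣ Nat.card G → ∀ α : Ω,
        ¬ p ∣ Nat.card (MulAction.stabilizer G α) ∨ ¬ p ∣ (MulAction.stabilizer G α).index := by
  refine ⟨?_, ?_, ?_⟩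
  · -- the centre acts freely on the fixed points
    obtain ⟨g₀, hg₀1, hg₀⟩ := hex
    letI : MulAction (Subgroup.center G) (MulAction.fixedBy Ω g₀) :=
      { smul := fun z ω => ⟨(z : G) • (ω : Ω), by
          rw [MulAction.mem_fixedBy, ← mul_smul, Subgroup.mem_center_iff.mp z.2 g₀, mul_smul]
          congr 1
          exact ω.2⟩
        one_smul := by
          intro ω
          apply Subtype.ext
          show ((1 : Subgroup.center G) : G) • (ω : Ω) = ω
          simp
        mul_smul := by
          intro a b ω
          apply Subtype.ext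
          show ((a * b : Subgroup.center G) : G) • (ω : Ω) = (a : G) • ((b : G) • (ω : Ω))
          rw [Subgroup.coe_mul, mul_smul] }
    have hfree : ∀ (z : Subgroup.center G) (ω : MulAction.fixedBy Ω g₀), z • ω = ω → z = 1 := by
      intro z ω hz
      have hz' : (z : G) • (ω : Ω) = ω := congrArg Subtype.val hz
      apply Subtype.ext
      show (z : G) = 1
      apply FaithfulSMul.eq_of_smul_eq_smul (α := Ω)
      intro ω'
      obtain ⟨h, rfl⟩ := MulAction.exists_smul_eq G (ω : Ω) ω'
      rw [one_smul, ← mul_smul, ← Subgroup.mem_center_iff.mp z.2 h, mul_smul, hz']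
    have := card_dvd_of_free hfree
    rwa [hg₀] at this
  · intro hk2
    subst hk2
    exact two_dvd_card_of_fixity_two htr hfix hex
  · intro p hp hkp hpG α
    haveI : Fact p.Prime := ⟨hp⟩
    by_cases hdvd : p ∣ Nat.card (MulAction.stabilizer G α)
    · right
      obtain ⟨q, hq⟩ := exists_prime_orderOf_dvd_card' (G := ↥(MulAction.stabilizer G α)) p hdvd
      have hq1 : (q : G) ≠ 1 := by
        intro h
        have : q = 1 := Subtype.ext h
        rw [this, orderOf_one] at hq
        exact hp.one_lt.ne hq
      have hqα : (q : G) • α = α := MulAction.mem_stabilizer_iff.mp q.2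
      have hqord : orderOf (q : G) = p := by rw [Subgroup.orderOf_coe, hq]
      have hqp : IsPGroup p (Subgroup.zpowers (q : G)) :=
        isPGroup_zpowers_of_orderOf ⟨1, by rw [hqord, pow_one]⟩
      obtain ⟨P, hP⟩ := hqp.exists_le_sylow
      have hqP : (q : G) ∈ (P : Subgroup G) := hP (Subgroup.mem_zpowers _)
      have hPne : (P : Subgroup G) ≠ ⊥ := by
        intro h
        rw [h, Subgroup.mem_bot] at hqP
        exact hq1 hqP
      obtain ⟨z, hzP, hz1, hzC⟩ := exists_ne_one_mem_centralizer_of_pgroups p (P : Subgroup G)
        (P : Subgroup G) P.isPGroup' P.isPGroup' Subgroup.le_normalizer hPne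
      rw [Subgroup.mem_centralizer_iff] at hzC
      -- z fixes α
      have hzα : z • α = α := by
        apply smul_eq_of_pgroup_commute (p := p) (g := (q : G)) (T := Subgroup.zpowers z) ?_ ?_ ?_ hqα
          (Subgroup.mem_zpowers z)
        · exact P.isPGroup'.to_le (Subgroup.zpowers_le.mpr hzP)
        · intro t ht
          obtain ⟨i, rfl⟩ := Subgroup.mem_zpowers_iff.mp ht
          have : Commute z (q : G) := (hzC _ hqP).symm
          exact (this.zpow_left i).eq
        · exact lt_of_le_of_lt (hfix _ hq1) hkp
      -- P fixes α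
      have hPα : (P : Subgroup G) ≤ MulAction.stabilizer G α := by
        intro t ht
        rw [MulAction.mem_stabilizer_iff]
        apply smul_eq_of_pgroup_commute (p := p) (g := z) (T := (P : Subgroup G)) P.isPGroup' ?_ ?_ hzα ht
        · intro s hs
          exact hzC s hs
        · exact lt_of_le_of_lt (hfix _ hz1) hkp
      intro hidx
      exact P.not_dvd_index (hidx.trans (Subgroup.index_dvd_of_le hPα))
    · exact Or.inl hdvd

end Cfsg.Agent.S3389
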