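import Mathlib
import Cfsg.Agent.Lib.Helper6.TwoPrimes
import Cfsg.Agent.Lib.Helper6.PermOrd
import Cfsg.Agent.Lib.Lead.HallThm4
import Cfsg.Statements.S3419

set_option autoImplicit false
open Cfsg

namespace Cfsg.Agent.S3419

open scoped commutatorElement

section helpers

/-- a group of order `p * q ^ b` with a forced normal central Sylow `p`-subgroup has an element of
order `p * q` -/
theorem exists_orderOf_eq_mul {H : Type*} [Group H] [Finite H] {p q b : ℕ} (hp : p.Prime) (hq : q.Prime)
    (hpq : p ≠ q) (hb : 1 ≤ b) (hcard : Nat.card H = p * q ^ b)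
    (h1 : ∀ d, d ∣ q ^ b → d % p = 1 → d = 1) (h2 : ¬ q ∣ p - 1) : ∃ h : H, orderOf h = p * q := by
  haveI : Fact p.Prime := ⟨hp⟩
  haveI : Fact q.Prime := ⟨hq⟩
  have hcop : Nat.Coprime p q := (Nat.coprime_primes hp hq).mpr hpq
  let P : Sylow p H := default
  have hfac : (Nat.card H).factorization p = 1 := by
    rw [hcard, Nat.factorization_mul hp.ne_zero (pow_ne_zero _ hq.ne_zero), Nat.factorization_pow]
    simp [hp.factorization_self, Nat.factorization_eq_zero_of_not_dvd
      (fun h => hpq ((Nat.prime_dvd_prime_iff_eq hp hq).mp h))]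
  have hPcard : Nat.card P = p := by
    rw [Sylow.card_eq_multiplicity, hfac, pow_one]
  have hPidx : (P : Subgroup H).index = q ^ b := by
    have := (P : Subgroup H).card_mul_index
    rw [hPcard, hcard] at this
    exact Nat.eq_of_mul_eq_mul_left hp.pos this
  have hsyl1 : Nat.card (Sylow p H) = 1 := by
    apply h1
    · rw [← hPidx]; exact P.card_dvd_index
    · have := card_sylow_modEq_one p H
      rw [Nat.ModEq, Nat.mod_eq_of_lt hp.one_lt] at this
      exact this
  haveI : Subsingleton (Sylow p H) := (Nat.card_eq_one_iff_unique.mp hsyl1).1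
  haveI hPn : (P : Subgroup H).Normal := Sylow.normal_of_subsingleton P
  haveI hPc : IsCyclic P := isCyclic_of_prime_card hPcard
  -- the centralizer of `P` is everything
  have hcent : Subgroup.centralizer ((P : Subgroup H) : Set H) = ⊤ := by
    have key := Subgroup.card_dvd_of_injective _
      (QuotientGroup.kerLift_injective (P : Subgroup H).normalizerMonoidHom)
    rw [Subgroup.normalizerMonoidHom_ker, ← Subgroup.index, ← Subgroup.relIndex] at key
    rw [IsCyclic.card_mulAut, hPcard, Nat.totient_prime hp] at key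
    have hN : Subgroup.normalizer ((P : Subgroup H) : Set H) = ⊤ := Subgroup.normalizer_eq_top _
    rw [hN, Subgroup.relIndex_top_right] at key
    have key2 : (Subgroup.centralizer ((P : Subgroup H) : Set H)).index ∣ p * q ^ b := by
      rw [← hcard]; exact Subgroup.index_dvd_card _
    have hc1 : Nat.Coprime (p - 1) p := by
      have : p - 1 + 1 = p := Nat.sub_add_cancel hp.one_lt.le
      rw [Nat.coprime_comm]
      conv_lhs => rw [← this]
      simp
    have hc2 : Nat.Coprime (p - 1) (q ^ b) := by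
      apply Nat.Coprime.pow_right
      rw [Nat.coprime_comm]
      exact (Nat.Prime.coprime_iff_not_dvd hq).mpr h2
    have : (Subgroup.centralizer ((P : Subgroup H) : Set H)).index = 1 :=
      Nat.eq_one_of_dvd_coprimes (Nat.Coprime.mul_right hc1 hc2) key key2
    exact Subgroup.index_eq_one.mp this
  obtain ⟨x, hx⟩ := exists_prime_orderOf_dvd_card' (G := P) p (by rw [hPcard])
  obtain ⟨y, hy⟩ := exists_prime_orderOf_dvd_card' (G := H) q (by
    rw [hcard]; exact dvd_mul_of_dvd_right (dvd_pow_self q (by omega)) p)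
  have hxo : orderOf (x : H) = p := by rw [Subgroup.orderOf_coe]; exact hx
  have hcomm : Commute (x : H) y := by
    have : y ∈ Subgroup.centralizer ((P : Subgroup H) : Set H) := by rw [hcent]; exact Subgroup.mem_top y
    exact (Subgroup.mem_centralizer_iff.mp this (x : H) x.2)
  refine ⟨(x : H) * y, ?_⟩
  rw [hcomm.orderOf_mul_eq_mul_orderOf_of_coprime (by rw [hxo, hy]; exact hcop), hxo, hy]

theorem coprime_cofactor {N p q b : ℕ} (hp : p.Prime) (hq : q.Prime) (hpq : p ≠ q)
    (hpN : p ∣ N) (hp2 : ¬ p ^ 2 ∣ N) (hqN : q ^ b ∣ N) (hq2 : ¬ q ^ (b + 1) ∣ N) :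
    ∃ k, N = p * q ^ b * k ∧ Nat.Coprime (p * q ^ b) k := by
  have hcop : Nat.Coprime p (q ^ b) :=
    Nat.Coprime.pow_right _ ((Nat.coprime_primes hp hq).mpr hpq)
  obtain ⟨k, hk⟩ := hcop.mul_dvd_of_dvd_of_dvd hpN hqN
  refine ⟨k, hk, ?_⟩
  apply Nat.Coprime.mul_left
  · rw [Nat.Prime.coprime_iff_not_dvd hp]
    rintro ⟨c, rfl⟩
    apply hp2
    exact ⟨q ^ b * c, by rw [hk]; ring⟩
  · apply Nat.Coprime.pow_left
    rw [Nat.Prime.coprime_iff_not_dvd hq]
    rintro ⟨c, rfl⟩
    apply hq2
    exact ⟨p * c, by rw [hk]; ring⟩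

theorem not_solvable_of_primes {G : Type*} [Group G] [Finite G] (n : ℕ) {p q b : ℕ} (hp : p.Prime)
    (hq : q.Prime) (hpq : p ≠ q) (hb : 1 ≤ b)
    (hpN : p ∣ Nat.card G) (hp2 : ¬ p ^ 2 ∣ Nat.card G) (hqN : q ^ b ∣ Nat.card G)
    (hq2 : ¬ q ^ (b + 1) ∣ Nat.card G)
    (h1 : ∀ d, d ∣ q ^ b → d % p = 1 → d = 1) (h2 : ¬ q ∣ p - 1) (hsum : n < p + q)
    (hspec : Set.range (orderOf : G → ℕ) = Set.range (orderOf : ↥(alternatingGroup (Fin n)) → ℕ)) :
    ¬ Group.IsSolvable G := by
  intro hsol
  obtain ⟨k, hk, hcop⟩ := coprime_cofactor hp hq hpq hpN hp2 hqN hq2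
  obtain ⟨H, hH, -⟩ := ((Cfsg.Agent.Lib.Lead.hallProp_of_solvable G) (p * q ^ b) k hk hcop).2 ⊥
    (by rw [Subgroup.card_bot]; exact Nat.coprime_one_left _)
  obtain ⟨h, hh⟩ := exists_orderOf_eq_mul hp hq hpq hb hH h1 h2
  have hmem : p * q ∈ Set.range (orderOf : G → ℕ) := ⟨(h : G), by rw [Subgroup.orderOf_coe]; exact hh⟩
  rw [hspec] at hmem
  obtain ⟨σ, hσ⟩ := hmem
  rw [← Subgroup.orderOf_coe] at hσ
  exact Cfsg.Agent.Lib.Helper6.PermOrd.orderOf_ne_mul (σ : Equiv.Perm (Fin n)) hp hq hpq
    (by rw [Fintype.card_fin]; exact hsum) hσ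

theorem card_alt (n : ℕ) (hn : 2 ≤ n) : 2 * Nat.card ↥(alternatingGroup (Fin n)) = n.factorial := by
  haveI : Nontrivial (Fin n) := Fin.nontrivial_iff_two_le.mpr hn
  rw [two_mul_nat_card_alternatingGroup, Nat.card_perm, Nat.card_eq_fintype_card, Fintype.card_fin]

theorem prime_sq_not_dvd_factorial {n p : ℕ} (hp : p.Prime) (hn : n < 2 * p) : ¬ p ^ 2 ∣ n.factorial := by
  have hp2 := hp.two_le
  have hlog : Nat.log p n < 2 := by
    apply Nat.log_lt_of_lt_pow' (by omega)
    nlinarith
  rw [hp.pow_dvd_factorial_iff hlog]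
  simp only [Nat.Ico_succ_singleton, Finset.sum_singleton, pow_one, not_le]
  have : n / p < 2 := by
    rw [Nat.div_lt_iff_lt_mul hp.pos]; omega
  exact this

end helpers



/-- Let n ≥ 5 and let G be a finite group with the same order and the same set of element orders as the alternating group of degree n. Then G is not solvable. -/
theorem result {G : Type*} [Group G] [Finite G] (n : ℕ) (hn : 5 ≤ n)
    (hcard : Nat.card G = Nat.card ↥(alternatingGroup (Fin n)))
    (hspec : Set.range (orderOf : G → ℕ) = Set.range (orderOf : ↥(alternatingGroup (Fin n)) → ℕ)) :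
    ¬ Group.IsSolvable G := by
  have hN : 2 * Nat.card G = n.factorial := by rw [hcard]; exact card_alt n (by omega)
  by_cases h6 : n = 6
  · subst h6
    have hc : Nat.card G = 360 := by
      have : Nat.factorial 6 = 720 := rfl
      omega
    exact not_solvable_of_primes 6 (p := 5) (q := 3) (b := 2) (by norm_num) (by norm_num) (by norm_num)
      (by norm_num) (by rw [hc]; norm_num) (by rw [hc]; norm_num) (by rw [hc]; norm_num)
      (by rw [hc]; norm_num)
      (by
        intro d hd hd1
        have hd9 : d ∣ 9 := by simpa using hd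
        have : d ≤ 9 := Nat.le_of_dvd (by norm_num) hd9
        interval_cases d <;> simp_all)
      (by norm_num) (by norm_num) hspec
  by_cases h10 : n = 10
  · subst h10
    have hc : Nat.card G = 1814400 := by
      have : Nat.factorial 10 = 3628800 := rfl
      omega
    exact not_solvable_of_primes 10 (p := 7) (q := 5) (b := 2) (by norm_num) (by norm_num) (by norm_num)
      (by norm_num) (by rw [hc]; norm_num) (by rw [hc]; norm_num) (by rw [hc]; norm_num)
      (by rw [hc]; norm_num)
      (by
        intro d hd hd1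
        have hd25 : d ∣ 25 := by simpa using hd
        have : d ≤ 25 := Nat.le_of_dvd (by norm_num) hd25
        interval_cases d <;> simp_all)
      (by norm_num) (by norm_num) hspec
  have hprimes : ∃ q p : ℕ, q.Prime ∧ p.Prime ∧ n < 2 * q ∧ q < p ∧ p ≤ n := by
    rcases le_or_gt 11 n with h | h
    · exact Cfsg.Agent.Lib.Helper6.TwoPrimes.exists_two_primes_half n h
    · by_cases h5 : n = 5
      · exact ⟨3, 5, by norm_num, by norm_num, by omega, by norm_num, by omega⟩
      · exact ⟨5, 7, by norm_num, by norm_num, by omega, by norm_num, by omega⟩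
  obtain ⟨q, p, hq, hp, hnq, hqp, hpn⟩ := hprimes
  have hq3 : 3 ≤ q := by omega
  have hodd : ∀ r : ℕ, r.Prime → 3 ≤ r → r ≤ n → n < 2 * r → r ∣ Nat.card G ∧ ¬ r ^ 2 ∣ Nat.card G := by
    intro r hr hr3 hrn hnr
    constructor
    · have h1 : r ∣ 2 * Nat.card G := by rw [hN]; exact (Nat.Prime.dvd_factorial hr).mpr hrn
      have hc : Nat.Coprime r 2 := by
        rw [Nat.coprime_primes hr Nat.prime_two]; omega
      exact hc.dvd_of_dvd_mul_left h1
    · intro h
      apply prime_sq_not_dvd_factorial hr hnr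
      rw [← hN]
      exact dvd_mul_of_dvd_right h 2
  obtain ⟨hpN, hp2⟩ := hodd p hp (by omega) hpn (by omega)
  obtain ⟨hqN, hq2⟩ := hodd q hq hq3 (by omega) hnq
  refine not_solvable_of_primes n (p := p) (q := q) (b := 1) hp hq (by omega) le_rfl hpN hp2
    (by rw [pow_one]; exact hqN) hq2 ?_ ?_ (by omega) hspec
  · intro d hd hd1
    rw [pow_one] at hd
    rcases (Nat.dvd_prime hq).mp hd with h | h
    · exact h
    · subst h
      rw [Nat.mod_eq_of_lt hqp] at hd1
      omega
  · rintro ⟨c, hc⟩
    have hc1 : c = 1 := by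
      rcases Nat.lt_or_ge c 2 with h | h
      · interval_cases c
        · omega
        · rfl
      · exfalso
        have : q * 2 ≤ q * c := Nat.mul_le_mul_left _ h
        omega
    subst hc1
    have hp' : p = q + 1 := by omega
    rcases Nat.Prime.eq_one_or_self_of_dvd hq 2 (by
      rcases Nat.even_or_odd q with he | ho
      · exact he.two_dvd
      · exfalso
        have hpe : Even p := by rw [hp']; exact ho.add_one
        have := (Nat.Prime.even_iff hp).mp hpe
        omega) with h | h
    · omega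
    · omega


end Cfsg.Agent.S3419
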