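import Mathlib
import Cfsg.Agent.Lib.Helper6.TwoPrimes
import Cfsg.Agent.Lib.Helper6.PermOrd
import Cfsg.Agent.Lib.Helper6.PPrimeCore
import Cfsg.Agent.Lib.Helper3.PComp1
import Cfsg.Statements.S3420

set_option autoImplicit false
open Cfsg

namespace Cfsg.Agent.S3420

open Cfsg.Agent.Lib.Helper6
open scoped commutatorElement

section helpers

open Cfsg.Agent.Lib.Helper6

/-- Frattini-type lemma: if a normal subgroup `H` has order divisible by `r` (with `r ∥ |G|`) but not by
`r'` (with `r' ∣ |G|`, `r' ∤ r - 1`), then `G` has an element of order `r * r'`. -/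
theorem exists_orderOf_eq_mul_of_normal {G : Type*} [Group G] [Finite G] (H : Subgroup G) [hH : H.Normal]
    {r r' : ℕ} (hr : r.Prime) (hr' : r'.Prime) (hne : r ≠ r') (hrH : r ∣ Nat.card H)
    (hr2 : ¬ r ^ 2 ∣ Nat.card G) (hr'G : r' ∣ Nat.card G) (hr'H : ¬ r' ∣ Nat.card H)
    (hdvd : ¬ r' ∣ r - 1) : ∃ g : G, orderOf g = r * r' := by
  haveI : Fact r.Prime := ⟨hr⟩
  haveI : Fact r'.Prime := ⟨hr'⟩
  have hcop : Nat.Coprime r r' := (Nat.coprime_primes hr hr').mpr hne
  let R : Sylow r H := default
  set RG : Subgroup G := (R : Subgroup H).map H.subtype with hRG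
  have hfrat : Subgroup.normalizer (RG : Set G) ⊔ H = ⊤ := Sylow.normalizer_sup_eq_top R
  -- the order of `R`
  have hRcard : Nat.card RG = r := by
    rw [hRG, Subgroup.card_map_of_injective H.subtype_injective]
    obtain ⟨k, hk⟩ := R.2.exists_card_eq
    have hk1 : k = 1 := by
      have h1 : r ∣ Nat.card (R : Subgroup H) := R.dvd_card_of_dvd_card hrH
      have h2 : ¬ r ^ 2 ∣ Nat.card (R : Subgroup H) := by
        intro h
        apply hr2
        exact h.trans ((Subgroup.card_subgroup_dvd_card _).trans (Subgroup.card_subgroup_dvd_card H))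
      rw [hk] at h1 h2
      rcases Nat.lt_or_ge k 1 with hlt | hge
      · interval_cases k
        simp at h1
        exact absurd h1 hr.one_lt.ne'
      · rcases Nat.lt_or_ge k 2 with hlt | hge2
        · omega
        · exact absurd (pow_dvd_pow r hge2) h2
    rw [hk, hk1, pow_one]
  haveI hRc : IsCyclic RG := isCyclic_of_prime_card hRcard
  set A := Subgroup.normalizer (RG : Set G) with hA
  -- `r'` divides the order of the normalizer
  have hr'A : r' ∣ Nat.card A := by
    have h1 : H.relIndex (A ⊔ H) * Nat.card H = Nat.card (A ⊔ H : Subgroup G) := by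
      have := Subgroup.relIndex_mul_relIndex (⊥ : Subgroup G) H (A ⊔ H) bot_le le_sup_right
      rw [Subgroup.relIndex_bot_left, Subgroup.relIndex_bot_left] at this
      rw [mul_comm]; exact this
    rw [Subgroup.relIndex_sup_right, hfrat, Subgroup.card_top] at h1
    rw [← h1] at hr'G
    rcases (Nat.Prime.dvd_mul hr').mp hr'G with h | h
    · exact h.trans (Subgroup.relIndex_dvd_card H A)
    · exact absurd h hr'H
  obtain ⟨y, hy⟩ := exists_prime_orderOf_dvd_card' (G := A) r' hr'A
  obtain ⟨x, hx⟩ := exists_prime_orderOf_dvd_card' (G := RG) r (by rw [hRcard])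
  -- `y` centralizes `R`
  have hyC : (y : G) ∈ Subgroup.centralizer (RG : Set G) := by
    have h1 : orderOf (RG.normalizerMonoidHom y) ∣ r' := by
      rw [← hy]; exact orderOf_map_dvd _ y
    have h2 : orderOf (RG.normalizerMonoidHom y) ∣ r - 1 := by
      have := orderOf_dvd_natCard (RG.normalizerMonoidHom y)
      rwa [IsCyclic.card_mulAut, hRcard, Nat.totient_prime hr] at this
    have h3 : orderOf (RG.normalizerMonoidHom y) = 1 := by
      rcases (Nat.dvd_prime hr').mp h1 with h | h
      · exact h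
      · rw [h] at h2; exact absurd h2 hdvd
    rw [orderOf_eq_one_iff] at h3
    have h4 : y ∈ RG.normalizerMonoidHom.ker := h3
    rw [Subgroup.normalizerMonoidHom_ker] at h4
    exact h4
  have hcomm : Commute (x : G) (y : G) :=
    (Subgroup.mem_centralizer_iff.mp hyC (x : G) x.2)
  refine ⟨(x : G) * (y : G), ?_⟩
  have hxo : orderOf (x : G) = r := by rw [Subgroup.orderOf_coe]; exact hx
  have hyo : orderOf (y : G) = r' := by rw [Subgroup.orderOf_coe]; exact hy
  rw [hcomm.orderOf_mul_eq_mul_orderOf_of_coprime (by rw [hxo, hyo]; exact hcop), hxo, hyo]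

theorem exists_simple_section {G : Type*} [Group G] [Finite G] {p q : ℕ} (hp : p.Prime) (hq : q.Prime)
    (hpq : p ≠ q) (P : ℕ → Prop) (hPp : P p) (hPq : P q) (hPprime : ∀ r, P r → r.Prime)
    (hdiv : ∀ r, P r → r ∣ Nat.card G) (hsq : ∀ r, P r → ¬ r ^ 2 ∣ Nat.card G)
    (hF : ∀ (H : Subgroup G), H.Normal → ∀ r r', P r → P r' → r ≠ r' → r ∣ Nat.card H →
      r' ∣ Nat.card H) :
    ∃ (N H : Subgroup G) (_ : N.Normal), H.Normal ∧ N < H ∧
      IsSimpleGroup (↥H ⧸ N.subgroupOf H) ∧ ¬ IsMulCommutative (↥H ⧸ N.subgroupOf H) ∧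
      ∀ r : ℕ, P r → r ∣ Nat.card (↥H ⧸ N.subgroupOf H) := by
  haveI : Fact p.Prime := ⟨hp⟩
  set N : Subgroup G := pPrimeCore p G with hN
  haveI hNn : N.Normal := (pPrimeCore_mem_set p).1
  have hNp : ¬ p ∣ Nat.card N := by
    have := pPrimeCore_coprime (G := G) p
    rw [Nat.coprime_comm, Nat.Prime.coprime_iff_not_dvd hp] at this
    exact this
  have hmaxN : ∀ K : Subgroup G, K.Normal → ¬ p ∣ Nat.card K → K ≤ N := by
    intro K hK hKp
    apply le_pPrimeCore hK
    rw [Nat.coprime_comm, Nat.Prime.coprime_iff_not_dvd hp]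
    exact hKp
  set 𝒮 : Set (Subgroup G) := {H : Subgroup G | H.Normal ∧ N < H} with h𝒮
  have hne : 𝒮.Nonempty := by
    refine ⟨⊤, inferInstance, lt_of_le_of_ne le_top ?_⟩
    intro h
    apply hNp
    rw [h, Subgroup.card_top]
    exact hdiv p hPp
  obtain ⟨H, hHmin⟩ := (Set.toFinite 𝒮).exists_minimal hne
  have hHmem : H ∈ 𝒮 := hHmin.prop
  haveI hHn : H.Normal := hHmem.1
  have hNH : N < H := hHmem.2
  have hHp : p ∣ Nat.card H := by
    by_contra h
    exact absurd (hmaxN H hHn h) (not_le_of_gt hNH)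
  set N' : Subgroup H := N.subgroupOf H with hN'
  haveI hN'n : N'.Normal := inferInstance
  have hcardN' : Nat.card N' = Nat.card N := by
    rw [hN']
    exact Nat.card_congr (Subgroup.subgroupOfEquivOfLe hNH.le).toEquiv
  have hcardQ : Nat.card H = Nat.card (↥H ⧸ N') * Nat.card N := by
    rw [← hcardN']; exact Subgroup.card_eq_card_quotient_mul_card_subgroup N'
  -- divisibility by the primes
  have hPQ : ∀ r : ℕ, P r → r ∣ Nat.card (↥H ⧸ N') := by
    intro r hr
    have hrp := hPprime r hr
    have h1 : r ∣ Nat.card H := by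
      by_cases hrp' : r = p
      · rw [hrp']; exact hHp
      · exact hF H hHn p r hPp hr (fun h => hrp' h.symm) hHp
    have h2 : ¬ r ∣ Nat.card N := by
      by_cases hrp' : r = p
      · rw [hrp']; exact hNp
      · intro h
        exact hNp (hF N hNn r p hr hPp hrp' h)
    rw [hcardQ] at h1
    rcases (Nat.Prime.dvd_mul hrp).mp h1 with h | h
    · exact h
    · exact absurd h h2
  have hsimp : IsSimpleGroup (↥H ⧸ N') := by
    -- simplicity
    haveI : Nontrivial (↥H ⧸ N') := by
      rw [← Finite.one_lt_card_iff_nontrivial]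
      have := Nat.le_of_dvd Nat.card_pos (hPQ p hPp)
      have := hp.two_le
      omega
    refine ⟨fun M hM => ?_⟩
    set M' : Subgroup H := M.comap (QuotientGroup.mk' N') with hM'
    haveI hM'n : M'.Normal := hM.comap _
    have hN'M' : N' ≤ M' := by
      intro x hx
      show QuotientGroup.mk' N' x ∈ M
      rw [show QuotientGroup.mk' N' x = 1 from (QuotientGroup.eq_one_iff x).mpr hx]
      exact M.one_mem
    by_cases hpM : p ∣ Nat.card M'
    · right
      -- elements of order `p` lie in `M'`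
      have hord : ∀ x : H, orderOf x = p → x ∈ M' := by
        intro x hx
        have h1 : Nat.card H = Nat.card (↥H ⧸ M') * Nat.card M' :=
          Subgroup.card_eq_card_quotient_mul_card_subgroup M'
        have h2 : ¬ p ∣ Nat.card (↥H ⧸ M') := by
          intro h
          apply hsq p hPp
          have : p ^ 2 ∣ Nat.card H := by
            rw [h1, pow_two]; exact Nat.mul_dvd_mul h hpM
          exact this.trans (Subgroup.card_subgroup_dvd_card H)
        have h3 : orderOf (QuotientGroup.mk' M' x) ∣ p := by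
          rw [← hx]; exact orderOf_map_dvd _ x
        have h4 : orderOf (QuotientGroup.mk' M' x) ∣ Nat.card (↥H ⧸ M') := orderOf_dvd_natCard _
        rcases (Nat.dvd_prime hp).mp h3 with h | h
        · rw [orderOf_eq_one_iff] at h
          exact (QuotientGroup.eq_one_iff x).mp h
        · rw [h] at h4; exact absurd h4 h2
      set S : Set G := {x : G | x ∈ H ∧ orderOf x = p} with hS
      set E : Subgroup G := Subgroup.normalClosure S with hE
      set MG : Subgroup G := M'.map H.subtype with hMG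
      have hEM : E ≤ MG := by
        rw [hE, Subgroup.normalClosure]
        rw [Subgroup.closure_le]
        intro z hz
        rw [Group.mem_conjugatesOfSet_iff] at hz
        obtain ⟨x, ⟨hxH, hxo⟩, hconj⟩ := hz
        obtain ⟨g, hg⟩ := isConj_iff.mp hconj
        have hzH : z ∈ H := by rw [← hg]; exact hHn.conj_mem x hxH g
        have hsc : SemiconjBy g x z := by
          rw [SemiconjBy, ← hg]; group
        have hzo : orderOf z = p := by rw [← hsc.orderOf_eq]; exact hxo
        refine ⟨⟨z, hzH⟩, hord ⟨z, hzH⟩ ?_, rfl⟩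
        rw [← hzo, ← Subgroup.orderOf_coe]
      have hNM : N ≤ MG := by
        intro x hx
        exact ⟨⟨x, hNH.le hx⟩, hN'M' hx, rfl⟩
      have hK : E ⊔ N ∈ 𝒮 := by
        refine ⟨inferInstance, lt_of_le_of_ne le_sup_right ?_⟩
        intro h
        obtain ⟨x, hx⟩ := exists_prime_orderOf_dvd_card' (G := H) p hHp
        have hxE : (x : G) ∈ E := by
          apply Subgroup.subset_normalClosure
          exact ⟨x.2, by rw [Subgroup.orderOf_coe]; exact hx⟩
        have hxN : (x : G) ∈ N := by rw [h]; exact Subgroup.mem_sup_left hxE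
        apply hNp
        have : orderOf (⟨(x : G), hxN⟩ : N) = p := by
          rw [← Subgroup.orderOf_coe]; simp only [Subgroup.orderOf_coe]; exact hx
        rw [← this]
        exact orderOf_dvd_natCard _
      have hKH : E ⊔ N ≤ H := by
        apply sup_le _ hNH.le
        exact hEM.trans (Subgroup.map_subtype_le _)
      have hHK : H ≤ E ⊔ N := hHmin.le_of_le hK hKH
      have hHMG : H ≤ MG := hHK.trans (sup_le hEM hNM)
      have hM'top : M' = ⊤ := by
        rw [eq_top_iff]
        intro x _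
        obtain ⟨y, hy, hyx⟩ := hHMG x.2
        have : y = x := Subtype.ext hyx
        rwa [← this]
      rw [eq_top_iff]
      intro z _
      obtain ⟨x, rfl⟩ := QuotientGroup.mk'_surjective N' z
      have : x ∈ M' := by rw [hM'top]; exact Subgroup.mem_top x
      exact this
    · left
      have h1 : M' ≤ pPrimeCore p ↥H := by
        apply le_pPrimeCore hM'n
        rw [Nat.coprime_comm, Nat.Prime.coprime_iff_not_dvd hp]
        exact hpM
      have h2 := Cfsg.Agent.Lib.Helper3.pPrimeCore_map_subtype_le_of_isSubnormal (p := p)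
        (Subgroup.Normal.isSubnormal hHn)
      rw [eq_bot_iff]
      intro z hz
      obtain ⟨x, rfl⟩ := QuotientGroup.mk'_surjective N' z
      have hxM : x ∈ M' := hz
      have hxN : (x : G) ∈ N := h2 ⟨x, h1 hxM, rfl⟩
      rw [Subgroup.mem_bot]
      exact (QuotientGroup.eq_one_iff x).mpr hxN
  refine ⟨N, H, hNn, hHn, hNH, hsimp, ?_, hPQ⟩
  · -- not commutative
    intro hcomm
    obtain ⟨x, hx⟩ := exists_prime_orderOf_dvd_card' (G := ↥H ⧸ N') p (hPQ p hPp)
    have hzn : (Subgroup.zpowers x).Normal := by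
      constructor
      intro n hn g
      have : g * n * g⁻¹ = n := by
        rw [hcomm.is_comm.comm g n, mul_assoc, mul_inv_cancel, mul_one]
      rw [this]; exact hn
    rcases hzn.eq_bot_or_eq_top with h | h
    · have : x = 1 := by
        have := Subgroup.mem_zpowers x
        rw [h, Subgroup.mem_bot] at this
        exact this
      rw [this, orderOf_one] at hx
      exact hp.one_lt.ne hx
    · have hc : Nat.card (↥H ⧸ N') = p := by
        rw [← Subgroup.card_top (G := ↥H ⧸ N'), ← h, Nat.card_zpowers, hx]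
      have := hPQ q hPq
      rw [hc] at this
      exact hpq ((Nat.prime_dvd_prime_iff_eq hq hp).mp this).symm

theorem card_alt (n : ℕ) (hn : 2 ≤ n) : 2 * Nat.card ↥(alternatingGroup (Fin n)) = n.factorial := by
  haveI : Nontrivial (Fin n) := Fin.nontrivial_iff_two_le.mpr hn
  rw [two_mul_nat_card_alternatingGroup, Nat.card_perm, Nat.card_eq_fintype_card, Fintype.card_fin]

theorem prime_sq_not_dvd_factorial {n p : ℕ} (hp : p.Prime) (hn : n < 2 * p) : ¬ p ^ 2 ∣ n.factorial := by
  have hp2 := hp.two_le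
  have hlog : Nat.log p n < 2 := by
    apply Nat.log_lt_of_lt_pow' (by omega)
    nlinarith
  rw [hp.pow_dvd_factorial_iff hlog]
  simp only [Nat.Ico_succ_singleton, Finset.sum_singleton, pow_one, not_le]
  have : n / p < 2 := by
    rw [Nat.div_lt_iff_lt_mul hp.pos]; omega
  exact this

theorem not_dvd_pred_of_primes {n r r' : ℕ} (hr : r.Prime) (hr' : r'.Prime) (hne : r ≠ r')
    (hn : 5 ≤ n) (h1 : n < 2 * r) (h2 : r ≤ n) (h1' : n < 2 * r') (h2' : r' ≤ n) : ¬ r' ∣ r - 1 := by
  rintro ⟨c, hc⟩
  have hr2 := hr.two_le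
  have hr'2 := hr'.two_le
  rcases Nat.lt_or_ge c 1 with h | h
  · interval_cases c; omega
  rcases Nat.lt_or_ge c 2 with h' | h'
  · have hc1 : c = 1 := by omega
    subst hc1
    have hrr : r = r' + 1 := by omega
    rcases Nat.even_or_odd r' with he | ho
    · have := (Nat.Prime.even_iff hr').mp he
      omega
    · have hre : Even r := by rw [hrr]; exact ho.add_one
      have := (Nat.Prime.even_iff hr).mp hre
      omega
  · have : r' * 2 ≤ r' * c := Nat.mul_le_mul_left _ h'
    omega

end helpers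



/-- Let n ≥ 11 and let G be a finite group with the same order and the same set of element orders as the alternating group of degree n. Then G has normal subgroups N < H such that H/N is a non-abelian simple group whose order is divisible by every prime p with n/2 < p ≤ n. -/
theorem result {G : Type*} [Group G] [Finite G] (n : ℕ) (hn : 11 ≤ n)
    (hcard : Nat.card G = Nat.card ↥(alternatingGroup (Fin n)))
    (hspec : Set.range (orderOf : G → ℕ) = Set.range (orderOf : ↥(alternatingGroup (Fin n)) → ℕ)) :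
    ∃ (N H : Subgroup G) (_ : N.Normal), H.Normal ∧ N < H ∧
      IsSimpleGroup (↥H ⧸ N.subgroupOf H) ∧ ¬ IsMulCommutative (↥H ⧸ N.subgroupOf H) ∧
      ∀ p : ℕ, p.Prime → n < 2 * p → p ≤ n → p ∣ Nat.card (↥H ⧸ N.subgroupOf H) := by
  have hN : 2 * Nat.card G = n.factorial := by rw [hcard]; exact card_alt n (by omega)
  obtain ⟨q, p, hq, hp, hnq, hqp, hpn⟩ := Cfsg.Agent.Lib.Helper6.TwoPrimes.exists_two_primes_half n hn
  set P : ℕ → Prop := fun r => r.Prime ∧ n < 2 * r ∧ r ≤ n with hP
  have hdiv : ∀ r, P r → r ∣ Nat.card G := by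
    rintro r ⟨hr, hnr, hrn⟩
    have h1 : r ∣ 2 * Nat.card G := by rw [hN]; exact (Nat.Prime.dvd_factorial hr).mpr hrn
    have hc : Nat.Coprime r 2 := by
      rw [Nat.coprime_primes hr Nat.prime_two]; omega
    exact hc.dvd_of_dvd_mul_left h1
  have hsq : ∀ r, P r → ¬ r ^ 2 ∣ Nat.card G := by
    rintro r ⟨hr, hnr, hrn⟩ h
    apply prime_sq_not_dvd_factorial hr hnr
    rw [← hN]
    exact dvd_mul_of_dvd_right h 2
  have hno : ∀ r r', P r → P r' → r ≠ r' → ¬ ∃ g : G, orderOf g = r * r' := by
    rintro r r' ⟨hr, hnr, hrn⟩ ⟨hr', hnr', hrn'⟩ hne ⟨g, hg⟩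
    have hmem : r * r' ∈ Set.range (orderOf : G → ℕ) := ⟨g, hg⟩
    rw [hspec] at hmem
    obtain ⟨σ, hσ⟩ := hmem
    rw [← Subgroup.orderOf_coe] at hσ
    exact Cfsg.Agent.Lib.Helper6.PermOrd.orderOf_ne_mul (σ : Equiv.Perm (Fin n)) hr hr' hne
      (by rw [Fintype.card_fin]; omega) hσ
  have hF : ∀ (H : Subgroup G), H.Normal → ∀ r r', P r → P r' → r ≠ r' → r ∣ Nat.card H →
      r' ∣ Nat.card H := by
    intro H hH r r' hr hr' hne hrH
    by_contra hr'H
    apply hno r r' hr hr' hne
    exact exists_orderOf_eq_mul_of_normal H hr.1 hr'.1 hne hrH (hsq r hr) (hdiv r' hr') hr'H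
      (not_dvd_pred_of_primes hr.1 hr'.1 hne (by omega) hr.2.1 hr.2.2 hr'.2.1 hr'.2.2)
  obtain ⟨N, H, hNn, hHn, hNH, hsimp, hnc, hall⟩ := exists_simple_section hp hq (by omega) P
    ⟨hp, by omega, hpn⟩ ⟨hq, hnq, by omega⟩ (fun r hr => hr.1) hdiv hsq hF
  exact ⟨N, H, hNn, hHn, hNH, hsimp, hnc, fun r hr hnr hrn => hall r ⟨hr, hnr, hrn⟩⟩


end Cfsg.Agent.S3420
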