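import Cfsg.Statements.S3431
import Cfsg.Agent.Lib.Helper9.Nse2
import Cfsg.Agent.Lib.Helper9.Nse3
import Cfsg.Agent.Lib.Helper9.Nse4
import Cfsg.Agent.Lib.Helper9.Nse8

set_option autoImplicit false
open Cfsg

namespace Cfsg.Agent.S3431

open Cfsg.Agent.Lib.Helper9.Nse Cfsg.Agent.Lib.Helper7.SameOrd in
theorem case4 {G : Type*} [Group G] [Finite G]
    (h : nse G = nse (alternatingGroup (Fin 4))) :
    Nonempty (G ≃* ↥(alternatingGroup (Fin 4))) := by
  rw [nse_a4] at h
  have hv : ∀ m, s G m = 0 ∨ s G m = 1 ∨ s G m = 3 ∨ s G m = 8 := by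
    intro m
    rcases s_mem_nse_or (G := G) m with h0 | h0
    · exact Or.inl h0
    · rw [h] at h0
      simp only [Set.mem_insert_iff, Set.mem_singleton_iff] at h0
      exact Or.inr h0
  have e3 : ∃ m, s G m = 3 := exists_of_mem_nse (by rw [h]; simp)
  have e8 : ∃ m, s G m = 8 := exists_of_mem_nse (by rw [h]; simp)
  obtain ⟨hn, -, h3, h6⟩ := a4_arith (data_of_group (G := G)) hv e3 e8
  exact a4_of_counts hn (by rw [h3]; norm_num) h6

open Cfsg.Agent.Lib.Helper9.Nse Cfsg.Agent.Lib.Helper7.SameOrd in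
theorem case5 {G : Type*} [Group G] [Finite G]
    (h : nse G = nse (alternatingGroup (Fin 5))) :
    Nonempty (G ≃* ↥(alternatingGroup (Fin 5))) := by
  rw [nse_a5] at h
  have hv : ∀ m, s G m = 0 ∨ s G m = 1 ∨ s G m = 15 ∨ s G m = 20 ∨ s G m = 24 := by
    intro m
    rcases s_mem_nse_or (G := G) m with h0 | h0
    · exact Or.inl h0
    · rw [h] at h0
      simp only [Set.mem_insert_iff, Set.mem_singleton_iff] at h0
      exact Or.inr h0
  have e15 : ∃ m, s G m = 15 := exists_of_mem_nse (by rw [h]; simp)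
  have e20 : ∃ m, s G m = 20 := exists_of_mem_nse (by rw [h]; simp)
  have e24 : ∃ m, s G m = 24 := exists_of_mem_nse (by rw [h]; simp)
  obtain ⟨hn, -, h3, h5, h10⟩ := a5_arith (data_of_group (G := G)) hv e15 e20 e24
  exact a5_of_counts hn h3 h5 h10

open Cfsg.Agent.Lib.Helper9.Nse Cfsg.Agent.Lib.Helper7.SameOrd in
theorem case6 {G : Type*} [Group G] [Finite G]
    (h : nse G = nse (alternatingGroup (Fin 6))) :
    Nonempty (G ≃* ↥(alternatingGroup (Fin 6))) := by
  rw [nse_a6] at h
  have hv : ∀ m, s G m = 0 ∨ s G m = 1 ∨ s G m = 45 ∨ s G m = 80 ∨ s G m = 90 ∨ s G m = 144 := by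
    intro m
    rcases s_mem_nse_or (G := G) m with h0 | h0
    · exact Or.inl h0
    · rw [h] at h0
      simp only [Set.mem_insert_iff, Set.mem_singleton_iff] at h0
      exact Or.inr h0
  have e45 : ∃ m, s G m = 45 := exists_of_mem_nse (by rw [h]; simp)
  have e80 : ∃ m, s G m = 80 := exists_of_mem_nse (by rw [h]; simp)
  have e90 : ∃ m, s G m = 90 := exists_of_mem_nse (by rw [h]; simp)
  have e144 : ∃ m, s G m = 144 := exists_of_mem_nse (by rw [h]; simp)
  obtain ⟨hn, -, h3, h5, h10, h15⟩ := a6_arith (data_of_group (G := G)) hv e45 e80 e90 e144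
  exact a6_of_counts hn h3 h5 h10 h15

/-- Let n be 4, 5 or 6 and let G be a finite group whose set of sizes of same-order classes (the set of numbers #{g : o(g) = m} over the element orders m of G) equals that of the alternating group of degree n. Then G is isomorphic to that alternating group. -/
theorem result {G : Type*} [Group G] [Finite G] (n : ℕ) (hn : n = 4 ∨ n = 5 ∨ n = 6)
    (h : ((fun m : ℕ => Nat.card {g : G // orderOf g = m}) '' Set.range (orderOf : G → ℕ)) = ((fun m : ℕ => Nat.card {g : ↥(alternatingGroup (Fin n)) // orderOf g = m}) '' Set.range (orderOf : ↥(alternatingGroup (Fin n)) → ℕ))) :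
    Nonempty (G ≃* ↥(alternatingGroup (Fin n))) := by
  rcases hn with rfl | rfl | rfl
  · exact case4 h
  · exact case5 h
  · exact case6 h

end Cfsg.Agent.S3431
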