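import Cfsg.Statements.S3443
import Mathlib

set_option autoImplicit false
open Cfsg

namespace Cfsg.Agent.S3443

/-- the multiplication map `V ⋊ G → G` -/
noncomputable def mulHom {G : Type*} [Group G] (V : Subgroup G) [V.Normal] :
    V ⋊[MulAut.conjNormal] G →* G :=
  SemidirectProduct.lift V.subtype (MonoidHom.id G) (by
    intro g
    ext v
    simp [MulAut.conjNormal_apply])

theorem mulHom_apply {G : Type*} [Group G] (V : Subgroup G) [V.Normal]
    (x : V ⋊[MulAut.conjNormal] G) : mulHom V x = (x.left : G) * x.right := rfl

theorem arith {n d p : ℕ} (hp : p.Prime) (hn : 0 < n) (hd : 0 < d) (h1 : d ∣ n * p) (h2 : n ∣ d * p)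
    (h3 : ¬ d ∣ n) : d = n * p := by
  obtain ⟨s, hs⟩ := h1
  obtain ⟨t, ht⟩ := h2
  have hst : s * t = p ^ 2 := by
    have : (n * d) * (s * t) = (n * d) * p ^ 2 := by
      calc (n * d) * (s * t) = (d * s) * (n * t) := by ring
        _ = (n * p) * (d * p) := by rw [← hs, ← ht]
        _ = (n * d) * p ^ 2 := by ring
    exact Nat.eq_of_mul_eq_mul_left (Nat.mul_pos hn hd) this
  have hsd : s ∣ p ^ 2 := Dvd.intro _ hst
  obtain ⟨k, hk2, hk⟩ := (Nat.dvd_prime_pow hp).mp hsd
  interval_cases k
  · rw [pow_zero] at hk; rw [hk, mul_one] at hs; exact hs.symm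
  · exfalso
    rw [pow_one] at hk
    rw [hk] at hs
    have : n = d := by
      have : n * p = d * p := hs
      exact Nat.eq_of_mul_eq_mul_right hp.pos this
    exact h3 (this ▸ dvd_rfl)
  · exfalso
    rw [hk] at hs
    have : n = d * p := by
      have : n * p = (d * p) * p := by rw [hs]; ring
      exact Nat.eq_of_mul_eq_mul_right hp.pos this
    exact h3 (Dvd.intro _ this.symm)

/-- Let G be a finite group and V a normal elementary abelian subgroup of G (abelian of prime exponent p, possibly trivial). Then the semidirect product V ⋊ G, with G acting on V by conjugation, has exactly the same set of element orders as G. -/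
theorem result {G : Type*} [Group G] [Finite G] (V : Subgroup G) [V.Normal] (p : ℕ) (hp : p.Prime)
    (hcomm : ∀ x y : V, x * y = y * x) (hexp : ∀ x : V, x ^ p = 1) :
    Set.range (orderOf : V ⋊[MulAut.conjNormal] G → ℕ) = Set.range (orderOf : G → ℕ) := by
  haveI : Finite (V ⋊[MulAut.conjNormal] G) :=
    Finite.of_equiv _ (SemidirectProduct.equivProd (φ := (MulAut.conjNormal : G →* MulAut V))).symm
  apply Set.Subset.antisymm
  · rintro _ ⟨x, rfl⟩
    set g := x.right with hg
    set n := orderOf g with hn
    have hnpos : 0 < n := orderOf_pos g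
    have hright : ∀ k : ℕ, (x ^ k).right = g ^ k := by
      intro k
      have := map_pow (SemidirectProduct.rightHom (φ := (MulAut.conjNormal : G →* MulAut V))) x k
      exact this
    have hndvd : n ∣ orderOf x := by
      apply orderOf_dvd_of_pow_eq_one
      rw [← hright, pow_orderOf_eq_one]; rfl
    by_cases hxn : x ^ n = 1
    · refine ⟨g, ?_⟩
      exact Nat.dvd_antisymm hndvd (orderOf_dvd_of_pow_eq_one hxn)
    · -- x ^ n = inl w
      have hxn_eq : x ^ n = SemidirectProduct.inl (x ^ n).left := by
        ext
        · simp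
        · rw [hright, hn, pow_orderOf_eq_one]; simp
      set w := (x ^ n).left with hw
      have hw1 : w ≠ 1 := by
        intro h
        apply hxn
        rw [hxn_eq, h, map_one]
      have hxnp : x ^ (n * p) = 1 := by
        rw [pow_mul, hxn_eq, ← map_pow, hexp, map_one]
      have hox : orderOf x = n * p := by
        obtain ⟨k, hk⟩ := hndvd
        have h1 : n * k ∣ n * p := hk ▸ orderOf_dvd_of_pow_eq_one hxnp
        have h2 : k ∣ p := Nat.dvd_of_mul_dvd_mul_left hnpos h1
        rcases (Nat.dvd_prime hp).mp h2 with h | h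
        · exfalso
          apply hxn
          rw [h, mul_one] at hk
          rw [← hk]; exact pow_orderOf_eq_one x
        · rw [hk, h]
      refine ⟨mulHom V x, ?_⟩
      rw [hox]
      set y := mulHom V x with hy
      have hd1 : orderOf y ∣ n * p := by
        apply orderOf_dvd_of_pow_eq_one
        rw [hy, ← map_pow, hxnp, map_one]
      have hd3 : ¬ orderOf y ∣ n := by
        intro h
        have h1 : y ^ n = 1 := orderOf_dvd_iff_pow_eq_one.mp h
        rw [hy, ← map_pow, hxn_eq, mulHom_apply] at h1
        simp only [SemidirectProduct.left_inl, SemidirectProduct.right_inl, mul_one] at h1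
        exact hw1 (Subtype.ext h1)
      have hd2 : n ∣ orderOf y * p := by
        apply orderOf_dvd_of_pow_eq_one
        have h1 : y ^ orderOf y = 1 := pow_orderOf_eq_one y
        rw [hy, ← map_pow, mulHom_apply, hright] at h1
        have h2 : g ^ orderOf y = (((x ^ orderOf (mulHom V x)).left : V) : G)⁻¹ :=
          eq_inv_of_mul_eq_one_right h1
        have h3 : g ^ orderOf y ∈ V := by
          rw [h2]; exact V.inv_mem (SetLike.coe_mem _)
        rw [pow_mul]
        have := hexp ⟨g ^ orderOf y, h3⟩
        exact congrArg Subtype.val this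
      exact arith hp hnpos (orderOf_pos y) hd1 hd2 hd3
  · rintro _ ⟨g, rfl⟩
    refine ⟨SemidirectProduct.inr g, ?_⟩
    exact orderOf_injective (SemidirectProduct.inr : G →* V ⋊[MulAut.conjNormal] G)
      SemidirectProduct.inr_injective g

end Cfsg.Agent.S3443
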