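import Cfsg.Statements.S3448
import Mathlib
import Cfsg.Agent.Lib.Helper7.A5Orders

set_option autoImplicit false
open Cfsg

namespace Cfsg.Agent.S3448

open Cfsg.Agent.Lib.Helper7

/-- The set of element orders of the direct product of two copies of the alternating group of degree 5 is {1, 2, 3, 5, 6, 10, 15}. (It is shared by the direct product of two Frobenius groups of orders 50 and 75, so this direct product is not determined by its element orders.) -/
theorem result : Set.range (orderOf : alternatingGroup (Fin 5) × alternatingGroup (Fin 5) → ℕ) = {1, 2, 3, 5, 6, 10, 15} := by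
  ext n
  simp only [Set.mem_range, Set.mem_insert_iff, Set.mem_singleton_iff]
  constructor
  · rintro ⟨⟨a, b⟩, rfl⟩
    rw [Prod.orderOf]
    rcases a5_orderOf a with h | h | h | h <;> rcases a5_orderOf b with h' | h' | h' | h' <;>
      simp only [h, h'] <;> decide
  · rintro (rfl | rfl | rfl | rfl | rfl | rfl | rfl)
    · exact ⟨1, orderOf_one⟩
    · exact ⟨(a5c2, 1), by rw [Prod.orderOf]; simp [orderOf_a5c2]⟩
    · exact ⟨(a5c3, 1), by rw [Prod.orderOf]; simp [orderOf_a5c3]⟩
    · exact ⟨(a5c5, 1), by rw [Prod.orderOf]; simp [orderOf_a5c5]⟩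
    · exact ⟨(a5c2, a5c3), by rw [Prod.orderOf]; rw [orderOf_a5c2, orderOf_a5c3]; rfl⟩
    · exact ⟨(a5c2, a5c5), by rw [Prod.orderOf]; rw [orderOf_a5c2, orderOf_a5c5]; rfl⟩
    · exact ⟨(a5c3, a5c5), by rw [Prod.orderOf]; rw [orderOf_a5c3, orderOf_a5c5]; rfl⟩

end Cfsg.Agent.S3448
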