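import Cfsg.Statements.S3449
import Mathlib
import Cfsg.Agent.Lib.Helper7.A5Orders

set_option autoImplicit false
open Cfsg

namespace Cfsg.Agent.S3449

open Cfsg.Agent.Lib.Helper7

theorem lhs : Set.range (orderOf : alternatingGroup (Fin 5) × alternatingGroup (Fin 5) × alternatingGroup (Fin 5) → ℕ) =
    {1, 2, 3, 5, 6, 10, 15, 30} := by
  ext n
  simp only [Set.mem_range, Set.mem_insert_iff, Set.mem_singleton_iff]
  constructor
  · rintro ⟨⟨a, b, c⟩, rfl⟩
    rw [Prod.orderOf, Prod.orderOf]
    rcases a5_orderOf a with h | h | h | h <;> rcases a5_orderOf b with h' | h' | h' | h' <;>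
      rcases a5_orderOf c with h'' | h'' | h'' | h'' <;>
      simp only [h, h', h''] <;> decide
  · rintro (rfl | rfl | rfl | rfl | rfl | rfl | rfl | rfl)
    · exact ⟨1, orderOf_one⟩
    · exact ⟨(a5c2, 1, 1), by rw [Prod.orderOf, Prod.orderOf]; simp [orderOf_a5c2]⟩
    · exact ⟨(a5c3, 1, 1), by rw [Prod.orderOf, Prod.orderOf]; simp [orderOf_a5c3]⟩
    · exact ⟨(a5c5, 1, 1), by rw [Prod.orderOf, Prod.orderOf]; simp [orderOf_a5c5]⟩
    · exact ⟨(a5c2, a5c3, 1), by
        rw [Prod.orderOf, Prod.orderOf]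
        simp only [orderOf_a5c2, orderOf_a5c3, orderOf_one]; rfl⟩
    · exact ⟨(a5c2, a5c5, 1), by
        rw [Prod.orderOf, Prod.orderOf]
        simp only [orderOf_a5c2, orderOf_a5c5, orderOf_one]; rfl⟩
    · exact ⟨(a5c3, a5c5, 1), by
        rw [Prod.orderOf, Prod.orderOf]
        simp only [orderOf_a5c3, orderOf_a5c5, orderOf_one]; rfl⟩
    · exact ⟨(a5c2, a5c3, a5c5), by
        rw [Prod.orderOf, Prod.orderOf]
        simp only [orderOf_a5c2, orderOf_a5c3, orderOf_a5c5]; rfl⟩

theorem rhs : Set.range (orderOf : Multiplicative (ZMod 30) → ℕ) = {1, 2, 3, 5, 6, 10, 15, 30} := by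
  ext n
  simp only [Set.mem_range, Set.mem_insert_iff, Set.mem_singleton_iff]
  constructor
  · rintro ⟨x, rfl⟩
    have h1 : orderOf x ∣ 30 := by
      have := orderOf_dvd_natCard x
      rw [Nat.card_eq_fintype_card] at this
      simpa using this
    have h2 : orderOf x ∈ Nat.divisors 30 := Nat.mem_divisors.mpr ⟨h1, by norm_num⟩
    have h3 : Nat.divisors 30 = {1, 2, 3, 5, 6, 10, 15, 30} := by decide
    rw [h3] at h2
    simpa using h2
  · have key : ∀ a : ℕ, orderOf (Multiplicative.ofAdd ((a : ℕ) : ZMod 30)) = 30 / Nat.gcd 30 a := by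
      intro a
      rw [orderOf_ofAdd_eq_addOrderOf, ZMod.addOrderOf_coe a (by norm_num)]
    rintro (rfl | rfl | rfl | rfl | rfl | rfl | rfl | rfl)
    · exact ⟨_, (key 30)⟩
    · exact ⟨_, (key 15)⟩
    · exact ⟨_, (key 10)⟩
    · exact ⟨_, (key 6)⟩
    · exact ⟨_, (key 5)⟩
    · exact ⟨_, (key 3)⟩
    · exact ⟨_, (key 2)⟩
    · exact ⟨_, (key 1)⟩

/-- The direct product of three copies of the alternating group of degree 5 has exactly the same set of element orders as the cyclic group of order 30, namely the divisors of 30; in particular a direct power of a non-abelian simple group need not be determined by its element orders. -/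
theorem result : Set.range (orderOf : alternatingGroup (Fin 5) × alternatingGroup (Fin 5) × alternatingGroup (Fin 5) → ℕ) =
      Set.range (orderOf : Multiplicative (ZMod 30) → ℕ) := by
  rw [lhs, rhs]

end Cfsg.Agent.S3449
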