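-- Statement S3452 (row 3452): unboundedly many groups isospectral to PGL(2,F), |F| prime or 9.
-- Proof assembled by helper5 from the swarm packages Cfsg/Agent/Lib/*/S3452_*.lean (helper2, helper3, helper4,
-- helper5, helper6, helper7, helper9).
import Cfsg.Statements.S3452
import Cfsg.Agent.Lib.Helper5.S3452_FINAL

set_option autoImplicit false
open Cfsg

namespace Cfsg.Agent.S3452

/-- For F a finite field whose number of elements is a prime or equals 9, the group PGL(2,F) = GL(2,F)/Z(GL(2,F)) is not determined by its set of element orders: for every bound N there is a finite group of order greater than N with exactly the same set of element orders as PGL(2,F). -/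
theorem result {F : Type*} [Field F] [Fintype F] (hF : (Fintype.card F).Prime ∨ Fintype.card F = 9) (N : ℕ) :
    ∃ (H : Type) (_ : Group H) (_ : Fintype H), N < Fintype.card H ∧
      Set.range (orderOf : H → ℕ) = Set.range (orderOf : Matrix.GeneralLinearGroup (Fin 2) F ⧸ Subgroup.center (Matrix.GeneralLinearGroup (Fin 2) F) → ℕ) := by
  exact Cfsg.Agent.Lib.S3452.final hF N

end Cfsg.Agent.S3452
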