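import Mathlib
import Cfsg.Statements.S3488
import Cfsg.Agent.Lib.Helper7.AffSL2c
import Cfsg.Agent.Lib.Helper7.A6Spec

set_option autoImplicit false
open Cfsg

namespace Cfsg.Agent.S3488

open Cfsg.Agent.Lib.Helper7 Matrix

variable {F : Type*} [Field F]

/-- matrices of `SL₃(F)` with last row `(0, 0, 1)` -/
def affSub (F : Type*) [Field F] : Subgroup (SpecialLinearGroup (Fin 3) F) where
  carrier := {M | (M : Matrix (Fin 3) (Fin 3) F) 2 0 = 0 ∧ (M : Matrix (Fin 3) (Fin 3) F) 2 1 = 0 ∧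
    (M : Matrix (Fin 3) (Fin 3) F) 2 2 = 1}
  mul_mem' := by
    rintro M M' ⟨h0, h1, h2⟩ ⟨h0', h1', h2'⟩
    have hmul : ((M * M' : SpecialLinearGroup (Fin 3) F) : Matrix (Fin 3) (Fin 3) F) =
        (M : Matrix (Fin 3) (Fin 3) F) * (M' : Matrix (Fin 3) (Fin 3) F) :=
      Matrix.SpecialLinearGroup.coe_mul M M'
    refine ⟨?_, ?_, ?_⟩
    · show ((M * M' : SpecialLinearGroup (Fin 3) F) : Matrix (Fin 3) (Fin 3) F) 2 0 = 0
      rw [hmul, Matrix.mul_apply, Fin.sum_univ_three, h0, h1, h2, h0']; ring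
    · show ((M * M' : SpecialLinearGroup (Fin 3) F) : Matrix (Fin 3) (Fin 3) F) 2 1 = 0
      rw [hmul, Matrix.mul_apply, Fin.sum_univ_three, h0, h1, h2, h1']; ring
    · show ((M * M' : SpecialLinearGroup (Fin 3) F) : Matrix (Fin 3) (Fin 3) F) 2 2 = 1
      rw [hmul, Matrix.mul_apply, Fin.sum_univ_three, h0, h1, h2, h2']; ring
  one_mem' := by
    have h1 : ((1 : SpecialLinearGroup (Fin 3) F) : Matrix (Fin 3) (Fin 3) F) = 1 :=
      Matrix.SpecialLinearGroup.coe_one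
    refine ⟨?_, ?_, ?_⟩
    · show ((1 : SpecialLinearGroup (Fin 3) F) : Matrix (Fin 3) (Fin 3) F) 2 0 = 0
      rw [h1]; simp
    · show ((1 : SpecialLinearGroup (Fin 3) F) : Matrix (Fin 3) (Fin 3) F) 2 1 = 0
      rw [h1]; simp
    · show ((1 : SpecialLinearGroup (Fin 3) F) : Matrix (Fin 3) (Fin 3) F) 2 2 = 1
      rw [h1]; simp
  inv_mem' := by
    rintro M ⟨h0, h1, h2⟩
    have hmul : ((M * M⁻¹ : SpecialLinearGroup (Fin 3) F) : Matrix (Fin 3) (Fin 3) F) =
        (M : Matrix (Fin 3) (Fin 3) F) * ((M⁻¹ : SpecialLinearGroup (Fin 3) F) : Matrix (Fin 3) (Fin 3) F) :=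
      Matrix.SpecialLinearGroup.coe_mul M M⁻¹
    rw [mul_inv_cancel] at hmul
    have hone : ((1 : SpecialLinearGroup (Fin 3) F) : Matrix (Fin 3) (Fin 3) F) = 1 :=
      Matrix.SpecialLinearGroup.coe_one
    rw [hone] at hmul
    have key : ∀ j : Fin 3, (1 : Matrix (Fin 3) (Fin 3) F) 2 j =
        ((M⁻¹ : SpecialLinearGroup (Fin 3) F) : Matrix (Fin 3) (Fin 3) F) 2 j := by
      intro j
      have := congrFun (congrFun hmul 2) j
      rw [Matrix.mul_apply, Fin.sum_univ_three, h0, h1, h2] at this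
      rw [this]; ring
    refine ⟨?_, ?_, ?_⟩
    · show ((M⁻¹ : SpecialLinearGroup (Fin 3) F) : Matrix (Fin 3) (Fin 3) F) 2 0 = 0
      rw [← key]; simp
    · show ((M⁻¹ : SpecialLinearGroup (Fin 3) F) : Matrix (Fin 3) (Fin 3) F) 2 1 = 0
      rw [← key]; simp
    · show ((M⁻¹ : SpecialLinearGroup (Fin 3) F) : Matrix (Fin 3) (Fin 3) F) 2 2 = 1
      rw [← key]; simp

theorem closure_eq : Subgroup.closure {M : Matrix.SpecialLinearGroup (Fin 3) F |
        (M : Matrix (Fin 3) (Fin 3) F) 2 0 = 0 ∧ (M : Matrix (Fin 3) (Fin 3) F) 2 1 = 0 ∧ (M : Matrix (Fin 3) (Fin 3) F) 2 2 = 1} = affSub F :=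
  Subgroup.closure_eq (affSub F)


theorem mem_affSub (M : SpecialLinearGroup (Fin 3) F) : M ∈ affSub F ↔
    ((M : Matrix (Fin 3) (Fin 3) F) 2 0 = 0 ∧ (M : Matrix (Fin 3) (Fin 3) F) 2 1 = 0 ∧
      (M : Matrix (Fin 3) (Fin 3) F) 2 2 = 1) := Iff.rfl

/-- the linear part -/
def blk (M : affSub F) : SpecialLinearGroup (Fin 2) F :=
  ⟨!![(M.1 : Matrix (Fin 3) (Fin 3) F) 0 0, (M.1 : Matrix (Fin 3) (Fin 3) F) 0 1;
      (M.1 : Matrix (Fin 3) (Fin 3) F) 1 0, (M.1 : Matrix (Fin 3) (Fin 3) F) 1 1], by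
    obtain ⟨h0, h1, h2⟩ := M.2
    have hdet : (M.1 : Matrix (Fin 3) (Fin 3) F).det = 1 := M.1.2
    rw [Matrix.det_fin_three, h0, h1, h2] at hdet
    rw [Matrix.det_fin_two_of]
    linear_combination hdet⟩

/-- the translation part -/
def col (M : affSub F) : ColSp F 1 :=
  ColSp.ofM (Matrix.of ![![(M.1 : Matrix (Fin 3) (Fin 3) F) 0 2], ![(M.1 : Matrix (Fin 3) (Fin 3) F) 1 2]])

theorem coe_mul' (M M' : affSub F) :
    ((M * M' : affSub F).1 : Matrix (Fin 3) (Fin 3) F) =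
      (M.1 : Matrix (Fin 3) (Fin 3) F) * (M'.1 : Matrix (Fin 3) (Fin 3) F) :=
  Matrix.SpecialLinearGroup.coe_mul M.1 M'.1

theorem coe_one' : ((1 : affSub F).1 : Matrix (Fin 3) (Fin 3) F) = 1 :=
  Matrix.SpecialLinearGroup.coe_one

/-- the isomorphism onto the abstract affine group, as a homomorphism -/
def phi : affSub F →* AffGp (SpecialLinearGroup (Fin 2) F) (ColSp F 1) where
  toFun M := ⟨col M, blk M⟩
  map_one' := by
    apply AffGp.ext'
    · show col (1 : affSub F) = 0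
      show (Matrix.of ![![((1 : affSub F).1 : Matrix (Fin 3) (Fin 3) F) 0 2],
        ![((1 : affSub F).1 : Matrix (Fin 3) (Fin 3) F) 1 2]] : Matrix (Fin 2) (Fin 1) F) = 0
      rw [coe_one']
      ext i j
      fin_cases i <;> fin_cases j <;> simp
    · show blk (1 : affSub F) = 1
      apply Subtype.ext
      show !![((1 : affSub F).1 : Matrix (Fin 3) (Fin 3) F) 0 0, ((1 : affSub F).1 : Matrix (Fin 3) (Fin 3) F) 0 1;
        ((1 : affSub F).1 : Matrix (Fin 3) (Fin 3) F) 1 0, ((1 : affSub F).1 : Matrix (Fin 3) (Fin 3) F) 1 1] =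
        ((1 : SpecialLinearGroup (Fin 2) F) : Matrix (Fin 2) (Fin 2) F)
      rw [coe_one', Matrix.SpecialLinearGroup.coe_one]
      ext i j
      fin_cases i <;> fin_cases j <;> simp
  map_mul' M M' := by
    obtain ⟨h0, h1, h2⟩ := M.2
    obtain ⟨h0', h1', h2'⟩ := M'.2
    apply AffGp.ext'
    · show col (M * M') = col M + blk M • col M'
      show (Matrix.of ![![((M * M' : affSub F).1 : Matrix (Fin 3) (Fin 3) F) 0 2],
        ![((M * M' : affSub F).1 : Matrix (Fin 3) (Fin 3) F) 1 2]] : Matrix (Fin 2) (Fin 1) F) =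
        (Matrix.of ![![(M.1 : Matrix (Fin 3) (Fin 3) F) 0 2], ![(M.1 : Matrix (Fin 3) (Fin 3) F) 1 2]]) +
        (!![(M.1 : Matrix (Fin 3) (Fin 3) F) 0 0, (M.1 : Matrix (Fin 3) (Fin 3) F) 0 1;
          (M.1 : Matrix (Fin 3) (Fin 3) F) 1 0, (M.1 : Matrix (Fin 3) (Fin 3) F) 1 1] *
        (Matrix.of ![![(M'.1 : Matrix (Fin 3) (Fin 3) F) 0 2], ![(M'.1 : Matrix (Fin 3) (Fin 3) F) 1 2]]))
      rw [coe_mul']
      ext i j
      fin_cases i <;> fin_cases j <;>
        simp [Matrix.mul_apply, Fin.sum_univ_three, Fin.sum_univ_two, h2'] <;> ring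
    · show blk (M * M') = blk M * blk M'
      apply Subtype.ext
      show !![((M * M' : affSub F).1 : Matrix (Fin 3) (Fin 3) F) 0 0, ((M * M' : affSub F).1 : Matrix (Fin 3) (Fin 3) F) 0 1;
        ((M * M' : affSub F).1 : Matrix (Fin 3) (Fin 3) F) 1 0, ((M * M' : affSub F).1 : Matrix (Fin 3) (Fin 3) F) 1 1] =
        ((blk M * blk M' : SpecialLinearGroup (Fin 2) F) : Matrix (Fin 2) (Fin 2) F)
      rw [coe_mul', Matrix.SpecialLinearGroup.coe_mul]
      show _ = !![(M.1 : Matrix (Fin 3) (Fin 3) F) 0 0, (M.1 : Matrix (Fin 3) (Fin 3) F) 0 1;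
          (M.1 : Matrix (Fin 3) (Fin 3) F) 1 0, (M.1 : Matrix (Fin 3) (Fin 3) F) 1 1] *
        !![(M'.1 : Matrix (Fin 3) (Fin 3) F) 0 0, (M'.1 : Matrix (Fin 3) (Fin 3) F) 0 1;
          (M'.1 : Matrix (Fin 3) (Fin 3) F) 1 0, (M'.1 : Matrix (Fin 3) (Fin 3) F) 1 1]
      ext i j
      fin_cases i <;> fin_cases j <;>
        simp [Matrix.mul_apply, Fin.sum_univ_three, Fin.sum_univ_two, h0', h1']


theorem phi_injective : Function.Injective (phi : affSub F → AffGp (SpecialLinearGroup (Fin 2) F) (ColSp F 1)) := by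
  intro M M' h
  obtain ⟨h0, h1, h2⟩ := M.2
  obtain ⟨h0', h1', h2'⟩ := M'.2
  have hv : col M = col M' := congrArg AffGp.v h
  have hg : blk M = blk M' := congrArg AffGp.g h
  have hv' : (Matrix.of ![![(M.1 : Matrix (Fin 3) (Fin 3) F) 0 2], ![(M.1 : Matrix (Fin 3) (Fin 3) F) 1 2]] :
      Matrix (Fin 2) (Fin 1) F) =
      Matrix.of ![![(M'.1 : Matrix (Fin 3) (Fin 3) F) 0 2], ![(M'.1 : Matrix (Fin 3) (Fin 3) F) 1 2]] := hv
  have hg' : !![(M.1 : Matrix (Fin 3) (Fin 3) F) 0 0, (M.1 : Matrix (Fin 3) (Fin 3) F) 0 1;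
      (M.1 : Matrix (Fin 3) (Fin 3) F) 1 0, (M.1 : Matrix (Fin 3) (Fin 3) F) 1 1] =
      !![(M'.1 : Matrix (Fin 3) (Fin 3) F) 0 0, (M'.1 : Matrix (Fin 3) (Fin 3) F) 0 1;
      (M'.1 : Matrix (Fin 3) (Fin 3) F) 1 0, (M'.1 : Matrix (Fin 3) (Fin 3) F) 1 1] :=
    congrArg Subtype.val hg
  have e02 := congrFun (congrFun hv' 0) 0
  have e12 := congrFun (congrFun hv' 1) 0
  have e00 := congrFun (congrFun hg' 0) 0
  have e01 := congrFun (congrFun hg' 0) 1
  have e10 := congrFun (congrFun hg' 1) 0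
  have e11 := congrFun (congrFun hg' 1) 1
  simp at e02 e12 e00 e01 e10 e11
  apply Subtype.ext
  apply Subtype.ext
  ext i j
  fin_cases i <;> fin_cases j <;> simp_all

/-- the inverse map -/
def psi (w : AffGp (SpecialLinearGroup (Fin 2) F) (ColSp F 1)) : affSub F :=
  ⟨⟨!![(w.g : Matrix (Fin 2) (Fin 2) F) 0 0, (w.g : Matrix (Fin 2) (Fin 2) F) 0 1, ColSp.toM w.v 0 0;
       (w.g : Matrix (Fin 2) (Fin 2) F) 1 0, (w.g : Matrix (Fin 2) (Fin 2) F) 1 1, ColSp.toM w.v 1 0;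
       0, 0, 1], by
    have hdet : (w.g : Matrix (Fin 2) (Fin 2) F).det = 1 := w.g.2
    rw [Matrix.det_fin_two] at hdet
    rw [Matrix.det_fin_three]
    simp
    linear_combination hdet⟩, by
    refine (mem_affSub _).mpr ⟨rfl, rfl, rfl⟩⟩

theorem phi_psi (w : AffGp (SpecialLinearGroup (Fin 2) F) (ColSp F 1)) : phi (psi w) = w := by
  apply AffGp.ext'
  · show col (psi w) = w.v
    show (Matrix.of ![![((psi w).1 : Matrix (Fin 3) (Fin 3) F) 0 2],
        ![((psi w).1 : Matrix (Fin 3) (Fin 3) F) 1 2]] : Matrix (Fin 2) (Fin 1) F) = ColSp.toM w.v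
    ext i j
    fin_cases i <;> fin_cases j <;> simp [psi]
  · show blk (psi w) = w.g
    apply Subtype.ext
    show !![((psi w).1 : Matrix (Fin 3) (Fin 3) F) 0 0, ((psi w).1 : Matrix (Fin 3) (Fin 3) F) 0 1;
        ((psi w).1 : Matrix (Fin 3) (Fin 3) F) 1 0, ((psi w).1 : Matrix (Fin 3) (Fin 3) F) 1 1] =
        (w.g : Matrix (Fin 2) (Fin 2) F)
    ext i j
    fin_cases i <;> fin_cases j <;> simp [psi]

/-- Let F be the field with four elements. The affine group F² ⋊ SL(2,F), realised as the subgroup of SL(3,F) of matrices with last row (0, 0, 1), has exactly the same set of element orders as the alternating group of degree 6 (namely {1, 2, 3, 4, 5}); so the alternating group of degree 6 is not determined by its element orders. -/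
theorem result {F : Type*} [Field F] [Fintype F] (hF : Fintype.card F = 4) :
    Set.range (orderOf : Subgroup.closure {M : Matrix.SpecialLinearGroup (Fin 3) F |
        (M : Matrix (Fin 3) (Fin 3) F) 2 0 = 0 ∧ (M : Matrix (Fin 3) (Fin 3) F) 2 1 = 0 ∧ (M : Matrix (Fin 3) (Fin 3) F) 2 2 = 1} → ℕ) =
      Set.range (orderOf : alternatingGroup (Fin 6) → ℕ) := by
  classical
  haveI : CharP F 2 := charP_two_of_card 2 (by norm_num) (by rw [hF]; norm_num)
  rw [closure_eq, a6_spectrum, ← aff_four_spectrum hF 0]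
  ext m
  simp only [Set.mem_range]
  constructor
  · rintro ⟨M, rfl⟩
    exact ⟨phi M, orderOf_injective phi phi_injective M⟩
  · rintro ⟨w, rfl⟩
    refine ⟨psi w, ?_⟩
    rw [← orderOf_injective phi phi_injective (psi w), phi_psi]

end Cfsg.Agent.S3488
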