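import Mathlib
import Cfsg.Statements.S3491
import Cfsg.Agent.Lib.Helper7.AffSL2b
import Cfsg.Agent.Lib.Helper7.A6Spec

set_option autoImplicit false
open Cfsg

namespace Cfsg.Agent.S3491

open Cfsg.Agent.Lib.Helper7

/-- The alternating group of degree 6 is not determined by its set of element orders, not even up to finitely many groups: for every bound N there is a finite group of order greater than N with exactly the same set of element orders as the alternating group of degree 6. -/
theorem result (N : ℕ) : ∃ (H : Type) (_ : Group H) (_ : Fintype H), N < Fintype.card H ∧ Set.range (orderOf : H → ℕ) = Set.range (orderOf : alternatingGroup (Fin 6) → ℕ) := by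
  classical
  letI inst : Fintype (WGp 2 (N + 1)) := Fintype.ofFinite _
  refine ⟨WGp 2 (N + 1), inferInstance, inst, ?_, ?_⟩
  · rw [← Nat.card_eq_fintype_card]
    have h1 := WGp_card_ge 2 (N + 1) (by norm_num)
    have h2 : N < 2 ^ (N + 1) := lt_trans Nat.lt_two_pow_self (Nat.pow_lt_pow_right (by norm_num) (Nat.lt_succ_self N))
    omega
  · rw [WGp_two_spectrum, a6_spectrum]

end Cfsg.Agent.S3491
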