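import Cfsg.Statements.S3494
import Mathlib

set_option autoImplicit false
open Cfsg

namespace Cfsg.Agent.S3494

open MulAction Pointwise

section aux

variable {G : Type*} [Group G] {Ω : Type*} [MulAction G Ω]

/-- the kernel of the action of `G_α` on the `G_α`-orbit of `β`, as a subgroup of `G` -/
def kerOn (α β : Ω) : Subgroup G where
  carrier := {g | g • α = α ∧ ∀ x ∈ orbit (stabilizer G α) β, g • x = x}
  one_mem' := ⟨one_smul _ _, fun x _ => one_smul _ _⟩
  mul_mem' := by
    rintro a b ⟨ha, ha'⟩ ⟨hb, hb'⟩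
    exact ⟨by rw [mul_smul, hb, ha], fun x hx => by rw [mul_smul, hb' x hx, ha' x hx]⟩
  inv_mem' := by
    rintro a ⟨ha, ha'⟩
    exact ⟨by rw [inv_smul_eq_iff, ha], fun x hx => by rw [inv_smul_eq_iff, ha' x hx]⟩

theorem mem_kerOn {α β : Ω} {g : G} :
    g ∈ kerOn (G := G) α β ↔ g • α = α ∧ ∀ x ∈ orbit (stabilizer G α) β, g • x = x := Iff.rfl

theorem mem_orbit_stab {α β x : Ω} :
    x ∈ orbit (stabilizer G α) β ↔ ∃ a ∈ stabilizer G α, a • β = x := by
  constructor
  · rintro ⟨a, rfl⟩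
    exact ⟨a.1, a.2, rfl⟩
  · rintro ⟨a, ha, rfl⟩
    exact ⟨⟨a, ha⟩, rfl⟩

theorem kerOn_le (α β : Ω) : kerOn (G := G) α β ≤ stabilizer G α := fun _ hg => hg.1

theorem kerOn_fix {α β : Ω} {g : G} (hg : g ∈ kerOn (G := G) α β) : g • β = β :=
  hg.2 β (mem_orbit_self β)

theorem kerOn_conj {α β : Ω} {a k : G} (ha : a ∈ stabilizer G α)
    (hk : k ∈ kerOn (G := G) α β) : a * k * a⁻¹ ∈ kerOn (G := G) α β := by
  have ha' : a • α = α := ha
  have hai : a⁻¹ • α = α := by rw [inv_smul_eq_iff, ha']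
  refine ⟨by rw [mul_smul, mul_smul, hai, hk.1, ha'], fun x hx => ?_⟩
  obtain ⟨b, hb, rfl⟩ := mem_orbit_stab.mp hx
  have h1 : a⁻¹ • b • β ∈ orbit (stabilizer G α) β := by
    rw [mem_orbit_stab]
    exact ⟨a⁻¹ * b, (stabilizer G α).mul_mem ((stabilizer G α).inv_mem ha) hb, mul_smul _ _ _⟩
  rw [mul_smul, mul_smul, hk.2 _ h1, smul_inv_smul]

/-- a subgroup normalized by `G_α` which moves `σ` is transitive on the `G_α`-orbit of `σ`,
provided `G_α` is primitive on this orbit -/
theorem transitive_of_moves {α σ : Ω}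
    (hep : IsPreprimitive (stabilizer G α) (orbit (stabilizer G α) σ))
    (K : Subgroup G) (hKA : K ≤ stabilizer G α)
    (hKn : ∀ a ∈ stabilizer G α, ∀ k ∈ K, a * k * a⁻¹ ∈ K)
    {k₀ : G} (hk₀ : k₀ ∈ K) (hmove : k₀ • σ ≠ σ) :
    ∀ a ∈ stabilizer G α, ∃ k ∈ K, k • σ = a • σ := by
  let N : Subgroup (stabilizer G α) := K.subgroupOf (stabilizer G α)
  haveI : N.Normal := by
    refine ⟨fun n hn a => ?_⟩
    rw [Subgroup.mem_subgroupOf] at hn ⊢
    exact hKn a.1 a.2 n.1 hn
  haveI := hep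
  have hfp : fixedPoints N (orbit (stabilizer G α) σ) ≠ Set.univ := by
    intro h
    have h1 : (⟨σ, mem_orbit_self σ⟩ : orbit (stabilizer G α) σ) ∈
        fixedPoints N (orbit (stabilizer G α) σ) := by
      rw [h]
      trivial
    rw [mem_fixedPoints] at h1
    have h2 := h1 ⟨⟨k₀, hKA hk₀⟩, Subgroup.mem_subgroupOf.mpr hk₀⟩
    exact hmove (congrArg Subtype.val h2)
  haveI : IsPretransitive N (orbit (stabilizer G α) σ) :=
    IsQuasiPreprimitive.isPretransitive_of_normal hfp
  intro a ha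
  obtain ⟨n, hn⟩ := exists_smul_eq N (⟨σ, mem_orbit_self σ⟩ : orbit (stabilizer G α) σ)
    ⟨a • σ, mem_orbit_stab.mpr ⟨a, ha, rfl⟩⟩
  exact ⟨((n : stabilizer G α) : G), Subgroup.mem_subgroupOf.mp n.2, congrArg Subtype.val hn⟩

end aux

section main

variable {G : Type*} [Group G] [Finite G] {Ω : Type*} [Fintype Ω] [MulAction G Ω]
  [FaithfulSMul G Ω]

/-- distinct points have stabilizers generating `G` -/
theorem stab_sup_eq_top (hprim : IsPreprimitive G Ω)
    (hH : ∀ α : Ω, stabilizer G α ≠ ⊥) {α β : Ω} (hne : β ≠ α) :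
    stabilizer G α ⊔ stabilizer G β = ⊤ := by
  haveI : Nontrivial Ω := ⟨⟨β, α, hne⟩⟩
  haveI := hprim
  have hcoA := IsPreprimitive.isCoatom_stabilizer_of_isPreprimitive G α
  have hcoB := IsPreprimitive.isCoatom_stabilizer_of_isPreprimitive G β
  by_contra hcon
  have h1 : stabilizer G α ⊔ stabilizer G β = stabilizer G α := by
    rcases lt_or_eq_of_le (le_sup_left : stabilizer G α ≤ stabilizer G α ⊔ stabilizer G β)
      with h | h
    · exact absurd (hcoA.2 _ h) hcon
    · exact h.symm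
  have hBA : stabilizer G β ≤ stabilizer G α := by
    rw [← h1]
    exact le_sup_right
  have hAB : stabilizer G β = stabilizer G α := by
    rcases lt_or_eq_of_le hBA with h | h
    · exact absurd (hcoB.2 _ h) hcoA.1
    · exact h
  obtain ⟨g, hg⟩ := exists_smul_eq G α β
  have hconj := stabilizer_smul_eq_stabilizer_map_conj g α
  rw [hg, hAB] at hconj
  -- `g` normalizes `G_α`
  have hgn : ∀ a ∈ stabilizer G α, g * a * g⁻¹ ∈ stabilizer G α := by
    intro a ha
    rw [hconj]
    exact ⟨a, ha, rfl⟩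
  have hgn' : ∀ a ∈ stabilizer G α, g⁻¹ * a * g ∈ stabilizer G α := by
    intro a ha
    rw [hconj] at ha
    obtain ⟨b, hb, rfl⟩ := ha
    have : g⁻¹ * (MulAut.conj g).toMonoidHom b * g = b := by
      simp [MulAut.conj_apply]
      group
    rw [this]
    exact hb
  let F : Set Ω := {x | ∀ a ∈ stabilizer G α, a • x = x}
  have hAS : stabilizer G α ≤ stabilizer G F := by
    intro a ha
    rw [mem_stabilizer_set]
    intro x
    constructor
    · intro hx b hb
      have h2 : a⁻¹ • (a • x) = a • x := hx a⁻¹ ((stabilizer G α).inv_mem ha)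
      rw [inv_smul_smul] at h2
      rw [h2]
      exact hx b hb
    · intro hx b hb
      rw [hx a ha]
      exact hx b hb
  have hgS : g ∈ stabilizer G F := by
    rw [mem_stabilizer_set]
    intro x
    constructor
    · intro hx b hb
      have h2 := hx (g * b * g⁻¹) (hgn b hb)
      rw [mul_smul, mul_smul, inv_smul_smul] at h2
      exact smul_left_cancel g h2
    · intro hx b hb
      have h2 := hx (g⁻¹ * b * g) (hgn' b hb)
      rw [mul_smul, mul_smul, inv_smul_eq_iff] at h2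
      exact h2
  have hgA : g ∉ stabilizer G α := by
    intro h
    have : g • α = α := h
    rw [hg] at this
    exact hne this
  have hlt : stabilizer G α < stabilizer G F :=
    lt_of_le_of_ne hAS (fun h => hgA (h ▸ hgS))
  have htop := hcoA.2 _ hlt
  have hαF : α ∈ F := fun a ha => ha
  apply hH α
  rw [eq_bot_iff]
  intro a ha
  rw [Subgroup.mem_bot]
  apply FaithfulSMul.eq_of_smul_eq_smul (α := Ω)
  intro x
  rw [one_smul]
  obtain ⟨h, rfl⟩ := exists_smul_eq G α x
  have hh : h ∈ stabilizer G F := by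
    rw [htop]
    trivial
  have : h • α ∈ F := (mem_stabilizer_set.mp hh α).mpr hαF
  exact this a ha

theorem kerOn_eq_bot (hprim : IsPreprimitive G Ω)
    (hH : ∀ α : Ω, stabilizer G α ≠ ⊥)
    (hep : ∀ (α : Ω) (ω : Ω), IsPreprimitive (stabilizer G α) (orbit (stabilizer G α) ω)) :
    ∀ α β : Ω, β ≠ α → kerOn (G := G) α β = ⊥ := by
  classical
  by_contra hcon
  push Not at hcon
  obtain ⟨α₀, β₀, hne₀, hk₀⟩ := hcon
  let s : Finset (Ω × Ω) :=
    Finset.univ.filter (fun p => p.2 ≠ p.1 ∧ kerOn (G := G) p.1 p.2 ≠ ⊥)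
  have hs : s.Nonempty := ⟨(α₀, β₀), by simp [s, hne₀, hk₀]⟩
  obtain ⟨⟨α, β⟩, hmem, hmax⟩ :=
    Finset.exists_max_image s (fun p => Nat.card (kerOn (G := G) p.1 p.2)) hs
  have hmem' : β ≠ α ∧ kerOn (G := G) α β ≠ ⊥ := by simpa [s] using hmem
  obtain ⟨hne, hK⟩ := hmem'
  have hmax' : ∀ α' β' : Ω, β' ≠ α' → kerOn (G := G) α' β' ≠ ⊥ →
      Nat.card (kerOn (G := G) α' β') ≤ Nat.card (kerOn (G := G) α β) := by
    intro α' β' h1 h2
    exact hmax (α', β') (by simp [s, h1, h2])
  haveI : Nontrivial Ω := ⟨⟨β, α, hne⟩⟩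
  haveI := hprim
  have hcoA := IsPreprimitive.isCoatom_stabilizer_of_isPreprimitive G α
  set K := kerOn (G := G) α β with hKdef
  -- `K ≤ kerOn β α`
  have hle : K ≤ kerOn (G := G) β α := by
    intro k hk
    refine ⟨kerOn_fix hk, fun x hx => ?_⟩
    by_contra hmove
    obtain ⟨b, hb, rfl⟩ := mem_orbit_stab.mp hx
    have hbβ : b • β = β := hb
    have htr := transitive_of_moves (hep α (b • α)) K (kerOn_le α β)
      (fun a ha k hk => kerOn_conj ha hk) hk hmove
    -- the stabilizer of the orbit `Γ`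
    set Γ : Set Ω := orbit (stabilizer G α) β with hΓ
    have hAS : stabilizer G α ≤ stabilizer G Γ := by
      intro a ha
      rw [mem_stabilizer_set_iff_smul_set_subset (Set.toFinite Γ)]
      rintro x ⟨y, hy, rfl⟩
      obtain ⟨c, hc, rfl⟩ := mem_orbit_stab.mp hy
      rw [hΓ, mem_orbit_stab]
      exact ⟨a * c, (stabilizer G α).mul_mem ha hc, mul_smul _ _ _⟩
    have hbS : b⁻¹ ∈ stabilizer G Γ := by
      rw [mem_stabilizer_set_iff_smul_set_subset (Set.toFinite Γ)]
      rintro x ⟨y, hy, rfl⟩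
      obtain ⟨a, ha, rfl⟩ := mem_orbit_stab.mp hy
      obtain ⟨k', hk', hk'σ⟩ := htr a⁻¹ ((stabilizer G α).inv_mem ha)
      have ha'' : b⁻¹ * k'⁻¹ * a⁻¹ * b ∈ stabilizer G α := by
        show (b⁻¹ * k'⁻¹ * a⁻¹ * b) • α = α
        rw [mul_smul, mul_smul, mul_smul, ← hk'σ, inv_smul_smul, inv_smul_smul]
      have hk'β : k' • β = β := kerOn_fix hk'
      rw [hΓ, mem_orbit_stab]
      refine ⟨(b⁻¹ * k'⁻¹ * a⁻¹ * b)⁻¹, (stabilizer G α).inv_mem ha'', ?_⟩
      have : (b⁻¹ * k'⁻¹ * a⁻¹ * b)⁻¹ = b⁻¹ * a * k' * b := by group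
      rw [this, mul_smul, mul_smul, mul_smul, hbβ, hk'β]
    have hbA : b⁻¹ ∉ stabilizer G α := by
      intro h
      have h1 : b ∈ stabilizer G α := by
        have := (stabilizer G α).inv_mem h
        rwa [inv_inv] at this
      have h2 : b • α = α := h1
      apply hmove
      rw [h2]
      exact hk.1
    have hlt : stabilizer G α < stabilizer G Γ :=
      lt_of_le_of_ne hAS (fun h => hbA (h ▸ hbS))
    have htop := hcoA.2 _ hlt
    obtain ⟨g, hg⟩ := exists_smul_eq G β α
    have hgS : g ∈ stabilizer G Γ := by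
      rw [htop]
      trivial
    have hβΓ : β ∈ Γ := mem_orbit_self β
    have h3 : g • β ∈ Γ := (mem_stabilizer_set.mp hgS β).mpr hβΓ
    rw [hg, hΓ, mem_orbit_stab] at h3
    obtain ⟨a, ha, haβ⟩ := h3
    apply hne
    have ha' : a • α = α := ha
    rw [← haβ] at ha'
    have := smul_left_cancel a ha'
    rw [← haβ, this]
  have hK' : kerOn (G := G) β α ≠ ⊥ := by
    intro h
    rw [h, le_bot_iff] at hle
    exact hK hle
  have hcard := hmax' β α (Ne.symm hne) hK'
  have heq : K = kerOn (G := G) β α := Subgroup.eq_of_le_of_card_ge hle hcard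
  -- `K` is normal in `G`
  have hnorm : ∀ g : G, ∀ k ∈ K, g * k * g⁻¹ ∈ K := by
    have hmemN : ∀ (P : Subgroup G), (∀ a ∈ P, ∀ k ∈ K, a * k * a⁻¹ ∈ K) →
        P ≤ Subgroup.normalizer (K : Set G) := by
      intro P hP a ha
      rw [Subgroup.mem_normalizer_iff]
      intro k
      constructor
      · exact hP a ha k
      · intro h
        have h2 := hP a⁻¹ (P.inv_mem ha) _ h
        have h3 : a⁻¹ * (a * k * a⁻¹) * a⁻¹⁻¹ = k := by group
        rw [h3] at h2
        exact h2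
    have hA : stabilizer G α ≤ Subgroup.normalizer (K : Set G) :=
      hmemN _ (fun a ha k hk => kerOn_conj ha hk)
    have hB : stabilizer G β ≤ Subgroup.normalizer (K : Set G) := by
      apply hmemN
      intro a ha k hk
      rw [heq] at hk ⊢
      exact kerOn_conj ha hk
    intro g k hk
    have hg : g ∈ Subgroup.normalizer (K : Set G) := by
      apply sup_le hA hB
      rw [stab_sup_eq_top hprim hH hne]
      trivial
    exact (Subgroup.mem_normalizer_iff.mp hg k).mp hk
  apply hK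
  rw [eq_bot_iff]
  intro k hk
  rw [Subgroup.mem_bot]
  apply FaithfulSMul.eq_of_smul_eq_smul (α := Ω)
  intro x
  rw [one_smul]
  obtain ⟨g, rfl⟩ := exists_smul_eq G α x
  have h1 : g⁻¹ * k * g⁻¹⁻¹ ∈ K := hnorm g⁻¹ k hk
  rw [inv_inv] at h1
  have h2 : (g⁻¹ * k * g) • α = α := h1.1
  rw [mul_smul, mul_smul, inv_smul_eq_iff] at h2
  exact h2

end main

/-- In an extremely primitive group (non-regular, point stabilizer primitive on each suborbit) the point stabilizer acts faithfully on every one of its non-trivial orbits. -/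
theorem result {G : Type*} [Group G] [Finite G] {Ω : Type*} [Fintype Ω] [MulAction G Ω] [FaithfulSMul G Ω] (hprim : MulAction.IsPreprimitive G Ω) (hH : ∀ α : Ω, MulAction.stabilizer G α ≠ ⊥) (hep : ∀ (α : Ω) (ω : Ω), MulAction.IsPreprimitive (MulAction.stabilizer G α) (MulAction.orbit (MulAction.stabilizer G α) ω))
    (α ω : Ω) (hω : ω ≠ α) (h : MulAction.stabilizer G α) (hfix : ∀ x ∈ MulAction.orbit (MulAction.stabilizer G α) ω, h • x = x) : h = 1 := by
  have h1 : (h : G) ∈ kerOn (G := G) α ω := ⟨h.2, fun x hx => hfix x hx⟩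
  rw [kerOn_eq_bot hprim hH hep α ω hω, Subgroup.mem_bot] at h1
  exact Subtype.ext h1

end Cfsg.Agent.S3494
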