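import Cfsg.Statements.S3495
import Mathlib
import Cfsg.Agent.S3494
import Cfsg.Agent.Lib.Helper7.PrimSocle

set_option autoImplicit false
open Cfsg

namespace Cfsg.Agent.S3495

open MulAction Cfsg.Agent.S3494

/-- Affine extremely primitive G = N ⋊ G_α: a non-trivial normal subgroup of G_α has the same orbits as G_α and acts irreducibly on N (normalizes no proper non-trivial subgroup of N). -/
theorem result {G : Type*} [Group G] [Finite G] {Ω : Type*} [Fintype Ω] [MulAction G Ω] [FaithfulSMul G Ω] (hprim : MulAction.IsPreprimitive G Ω) (hH : ∀ α : Ω, MulAction.stabilizer G α ≠ ⊥) (hep : ∀ (α : Ω) (ω : Ω), MulAction.IsPreprimitive (MulAction.stabilizer G α) (MulAction.orbit (MulAction.stabilizer G α) ω))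
    (N : Subgroup G) [N.Normal] (hNc : IsMulCommutative N) (p : ℕ) (hp : p.Prime) (hNp : ∀ n ∈ N, n ^ p = 1)
    (hNtr : MulAction.IsPretransitive N Ω) (hNreg : ∀ ω : Ω, MulAction.stabilizer N ω = ⊥) (α : Ω) (M : Subgroup G) (hM : M ≠ ⊥) (hMle : M ≤ MulAction.stabilizer G α)
    (hMn : MulAction.stabilizer G α ≤ Subgroup.normalizer (M : Set G)) :
    (∀ ω : Ω, MulAction.orbit M ω = MulAction.orbit (MulAction.stabilizer G α) ω) ∧
    (∀ L : Subgroup G, L ≤ N → M ≤ Subgroup.normalizer (L : Set G) → L = ⊥ ∨ L = N) := by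
  classical
  have hconj : ∀ a ∈ stabilizer G α, ∀ k ∈ M, a * k * a⁻¹ ∈ M := by
    intro a ha k hk
    exact (Subgroup.mem_normalizer_iff.mp (hMn ha) k).mp hk
  -- `M` has the same orbits as the stabilizer
  have horb : ∀ ω : Ω, ∀ a ∈ stabilizer G α, ∃ m ∈ M, m • ω = a • ω := by
    intro ω a ha
    by_cases hω : ω = α
    · refine ⟨1, M.one_mem, ?_⟩
      rw [one_smul, hω]
      exact (show a • α = α from ha).symm
    · by_cases hmove : ∃ k ∈ M, k • ω ≠ ω
      · obtain ⟨k, hk, hkω⟩ := hmove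
        exact transitive_of_moves (hep α ω) M hMle hconj hk hkω a ha
      · exfalso
        push Not at hmove
        apply hM
        rw [eq_bot_iff, ← kerOn_eq_bot hprim hH hep α ω hω]
        intro m hm
        refine ⟨hMle hm, fun x hx => ?_⟩
        obtain ⟨b, hb, rfl⟩ := mem_orbit_stab.mp hx
        have h1 : b⁻¹ * m * b⁻¹⁻¹ ∈ M := hconj b⁻¹ ((stabilizer G α).inv_mem hb) m hm
        rw [inv_inv] at h1
        have h2 := hmove _ h1
        rw [mul_smul, mul_smul, inv_smul_eq_iff] at h2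
        exact h2
  refine ⟨?_, ?_⟩
  · intro ω
    ext x
    constructor
    · rintro ⟨m, rfl⟩
      exact ⟨⟨m.1, hMle m.2⟩, rfl⟩
    · rintro ⟨a, rfl⟩
      obtain ⟨m, hm, hma⟩ := horb ω a.1 a.2
      exact ⟨⟨m, hm⟩, hma⟩
  · intro L hLN hML
    by_cases hL : L = ⊥
    · exact Or.inl hL
    right
    -- regularity of `N`
    have hreg : ∀ n ∈ N, ∀ n' ∈ N, n • α = n' • α → n = n' := by
      intro n hn n' hn' h
      have h1 : (⟨n'⁻¹ * n, N.mul_mem (N.inv_mem hn') hn⟩ : N) ∈ stabilizer N α := by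
        show (n'⁻¹ * n) • α = α
        rw [mul_smul, h, inv_smul_smul]
      rw [hNreg α, Subgroup.mem_bot] at h1
      have h2 : n'⁻¹ * n = 1 := congrArg Subtype.val h1
      rw [inv_mul_eq_one] at h2
      exact h2.symm
    -- `L` is normalized by the stabilizer
    have hLstab : ∀ g ∈ stabilizer G α, ∀ l ∈ L, g * l * g⁻¹ ∈ L := by
      intro g hg l hl
      have hgα : g • α = α := hg
      obtain ⟨m, hm, hmg⟩ := horb (l • α) g hg
      have hmα : m • α = α := hMle hm
      have h1 : (g * l * g⁻¹) • α = (m * l * m⁻¹) • α := by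
        rw [mul_smul, mul_smul, mul_smul, mul_smul, inv_smul_eq_iff.mpr hgα.symm,
          inv_smul_eq_iff.mpr hmα.symm, hmg]
      have h2 : g * l * g⁻¹ ∈ N := (inferInstance : N.Normal).conj_mem l (hLN hl) g
      have h3 : m * l * m⁻¹ ∈ L := (Subgroup.mem_normalizer_iff.mp (hML hm) l).mp hl
      rw [hreg _ h2 _ (hLN h3) h1]
      exact h3
    -- `L` is normal in `G`
    have hLn : L.Normal := by
      refine ⟨fun l hl g => ?_⟩
      obtain ⟨n, hn⟩ := hNtr.exists_smul_eq α (g • α)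
      have hn' : (n : G) • α = g • α := hn
      have hs : (n : G)⁻¹ * g ∈ stabilizer G α := by
        show ((n : G)⁻¹ * g) • α = α
        rw [mul_smul, ← hn', inv_smul_smul]
      have h1 := hLstab _ hs l hl
      -- conjugating by `n` does nothing since `N` is abelian
      have h2 : g * l * g⁻¹ = (n : G) * (((n : G)⁻¹ * g) * l * ((n : G)⁻¹ * g)⁻¹) * (n : G)⁻¹ := by
        group
      have h3 : ((n : G)⁻¹ * g) * l * ((n : G)⁻¹ * g)⁻¹ ∈ N := hLN h1
      have h4 : (n : G) * (((n : G)⁻¹ * g) * l * ((n : G)⁻¹ * g)⁻¹) * (n : G)⁻¹ =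
          ((n : G)⁻¹ * g) * l * ((n : G)⁻¹ * g)⁻¹ := by
        have hc : (n * ⟨_, h3⟩ : N) = ⟨_, h3⟩ * n := hNc.is_comm.comm _ _
        have hc' : (n : G) * (((n : G)⁻¹ * g) * l * ((n : G)⁻¹ * g)⁻¹) =
            (((n : G)⁻¹ * g) * l * ((n : G)⁻¹ * g)⁻¹) * (n : G) := congrArg Subtype.val hc
        rw [hc', mul_assoc, mul_inv_cancel, mul_one]
      rw [h2, h4]
      exact h1
    -- hence transitive, hence everything
    have hLtr := Cfsg.Agent.Lib.Helper7.PrimSocle.transitive_of_normal hprim hLn hL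
    apply le_antisymm hLN
    intro n hn
    obtain ⟨l, hl, hlα⟩ := hLtr α (n • α)
    rw [← hreg l (hLN hl) n hn hlα]
    exact hl

end Cfsg.Agent.S3495
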