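import Cfsg.Statements.S3498
import Mathlib
import Cfsg.Agent.Lib.Helper7.AlmostSimple

set_option autoImplicit false
open Cfsg

namespace Cfsg.Agent.S3498

open Cfsg.Agent.Lib.Helper7

/-- A maximal subgroup of a finite almost simple group does not have prime order. Here G is almost simple in the sense that it has a non-abelian simple normal subgroup T with trivial centralizer. -/
theorem result {G : Type*} [Group G] [Finite G] (T : Subgroup G) [T.Normal] (hT : IsSimpleGroup T) (hTc : ¬ IsMulCommutative T)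
    (hC : Subgroup.centralizer (T : Set G) = ⊥) (H : Subgroup G) (hmax : IsCoatom H) : ¬ (Nat.card H).Prime := by
  intro hprime
  set p := Nat.card H with hp
  haveI : Fact p.Prime := ⟨hprime⟩
  have hHne : H ≠ ⊥ := by
    intro h
    rw [h, Subgroup.card_bot] at hp
    exact hprime.one_lt.ne hp.symm
  have hOr : ∀ (r : ℕ) [Fact r.Prime] (M : Subgroup G) [M.Normal], IsPGroup r M → M = ⊥ :=
    fun r _ M _ hM => as_normal_pgroup_eq_bot T hT hTc hC r M hM
  have hHp : IsPGroup p H := IsPGroup.of_card (n := 1) (by rw [pow_one])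
  -- H is a Sylow p-subgroup
  obtain ⟨P, hHP⟩ := hHp.exists_le_sylow
  have hPH : (P : Subgroup G) = H := by
    rcases eq_or_lt_of_le hHP with h | h
    · exact h.symm
    · exfalso
      have htop := hmax.2 _ h
      have : (⊤ : Subgroup G) = ⊥ := hOr p ⊤ (htop ▸ P.isPGroup')
      apply hHne
      rw [eq_bot_iff, ← this]
      exact le_top
  -- H is self-normalizing
  have hNH : Subgroup.normalizer (H : Set G) = H := by
    rcases eq_or_lt_of_le (Subgroup.le_normalizer (H := H)) with h | h
    · exact h.symm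
    · exfalso
      have htop := hmax.2 _ h
      haveI : H.Normal := Subgroup.normalizer_eq_top_iff.mp htop
      exact hHne (hOr p H hHp)
  -- Burnside
  have hcyc : IsCyclic H := isCyclic_of_prime_card (p := p) rfl
  have hPnc : Subgroup.normalizer ((P : Subgroup G) : Set G) ≤ Subgroup.centralizer ((P : Subgroup G) : Set G) := by
    rw [hPH, hNH]
    intro x hx
    rw [Subgroup.mem_centralizer_iff]
    intro y hy
    haveI := hcyc
    have := (IsCyclic.commGroup (α := H)).mul_comm ⟨y, hy⟩ ⟨x, hx⟩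
    exact congrArg Subtype.val this
  set K := (MonoidHom.transferSylow P hPnc).ker with hK
  have hcompl : Subgroup.IsComplement' K P := MonoidHom.ker_transferSylow_isComplement' P hPnc
  have hpK : ¬ p ∣ Nat.card K := MonoidHom.not_dvd_card_ker_transferSylow P hPnc
  have hKidx : K.index = p := by
    rw [hcompl.symm.index_eq_card, hPH]
  have hKne : Nat.card K ≠ 1 := by
    intro h1
    have := hcompl.card_mul
    rw [h1, one_mul, hPH] at this
    have : H = ⊤ := Subgroup.eq_top_of_card_eq H this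
    exact hmax.1 this
  obtain ⟨q, hq, hqK⟩ := Nat.exists_prime_and_dvd hKne
  haveI : Fact q.Prime := ⟨hq⟩
  have hqp : q ≠ p := fun h => hpK (h ▸ hqK)
  obtain ⟨Q₀⟩ : Nonempty (Sylow q K) := inferInstance
  have hQ₀ne : (Q₀ : Subgroup K) ≠ ⊥ := Q₀.ne_bot_of_dvd_card hqK
  set Q : Subgroup G := (Q₀ : Subgroup K).map K.subtype with hQ
  have hQq : IsPGroup q Q := Q₀.isPGroup'.map K.subtype
  have hQne : Q ≠ ⊥ := by
    intro h
    exact hQ₀ne ((Subgroup.map_eq_bot_iff_of_injective _ K.subtype_injective).mp h)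
  have hfrat : Subgroup.normalizer (Q : Set G) ⊔ K = ⊤ := Sylow.normalizer_sup_eq_top Q₀
  have hpN : p ∣ Nat.card (Subgroup.normalizer (Q : Set G)) := by
    have h1 : K.relIndex (Subgroup.normalizer (Q : Set G)) = p := by
      rw [← Subgroup.relIndex_sup_right (Subgroup.normalizer (Q : Set G)) K, hfrat,
        Subgroup.relIndex_top_right, hKidx]
    rw [← h1]
    exact Subgroup.relIndex_dvd_card _ _
  obtain ⟨n, hn⟩ := exists_prime_orderOf_dvd_card' p hpN
  -- zpowers n is a Sylow p-subgroup, conjugate to H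
  have hnp : IsPGroup p (Subgroup.zpowers (n : G)) :=
    IsPGroup.of_card (n := 1) (by rw [pow_one, Nat.card_zpowers, Subgroup.orderOf_coe, hn])
  obtain ⟨P₁, hP₁⟩ := hnp.exists_le_sylow
  have hP₁eq : Subgroup.zpowers (n : G) = P₁ := by
    apply Subgroup.eq_of_le_of_card_ge hP₁
    rw [Nat.card_zpowers, Subgroup.orderOf_coe, hn, Sylow.card_eq_multiplicity,
      ← Sylow.card_eq_multiplicity P, hPH]
  obtain ⟨g, hg⟩ := MulAction.exists_smul_eq G P P₁
  -- H normalizes Q' = g⁻¹ Q g
  set Q' : Subgroup G := Q.comap (MulAut.conj g).toMonoidHom with hQ'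
  have hQ'mem : ∀ z : G, z ∈ Q' ↔ g * z * g⁻¹ ∈ Q := fun z => Iff.rfl
  have hQ'q : IsPGroup q Q' := hQq.comap_of_injective _ (MulAut.conj g).injective
  have hQ'ne : Q' ≠ ⊥ := by
    intro h
    apply hQne
    rw [eq_bot_iff]
    intro y hy
    have : g⁻¹ * y * g ∈ Q' := by
      rw [hQ'mem]
      have : g * (g⁻¹ * y * g) * g⁻¹ = y := by group
      rw [this]; exact hy
    rw [h, Subgroup.mem_bot] at this
    rw [Subgroup.mem_bot]
    have e : y = g * (g⁻¹ * y * g) * g⁻¹ := by group
    rw [e, this]; group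
  have hHnorm : H ≤ Subgroup.normalizer (Q' : Set G) := by
    intro h hh
    have h1 : g * h * g⁻¹ ∈ (P₁ : Subgroup G) := by
      rw [← hg, Sylow.coe_subgroup_smul]
      rw [Subgroup.mem_pointwise_smul_iff_inv_smul_mem]
      have : (MulAut.conj g)⁻¹ • (g * h * g⁻¹) = h := by
        simp [MulAut.smul_def, MulAut.conj_inv_apply]
        group
      rw [this, hPH]; exact hh
    rw [← hP₁eq] at h1
    have h2 : g * h * g⁻¹ ∈ Subgroup.normalizer (Q : Set G) :=
      (Subgroup.zpowers_le.mpr n.2) h1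
    rw [Subgroup.mem_normalizer_iff]
    intro z
    rw [hQ'mem, hQ'mem]
    have := (Subgroup.mem_normalizer_iff.mp h2) (g * z * g⁻¹)
    have e : g * h * g⁻¹ * (g * z * g⁻¹) * (g * h * g⁻¹)⁻¹ = g * (h * z * h⁻¹) * g⁻¹ := by group
    rw [e] at this
    exact this
  -- Q' is not contained in H
  have hQ'H : ¬ Q' ≤ H := by
    intro hle
    have h1 : Nat.card Q' ∣ p := Subgroup.card_dvd_of_le hle
    obtain ⟨k, hk⟩ := IsPGroup.iff_card.mp hQ'q
    rw [hk] at h1
    rcases k with _ | k
    · rw [pow_zero] at hk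
      exact hQ'ne (Subgroup.card_eq_one.mp hk)
    · have : q ∣ p := dvd_trans (dvd_pow_self q (Nat.succ_ne_zero k)) h1
      exact hqp ((Nat.prime_dvd_prime_iff_eq hq hprime).mp this)
  have hlt : H < Subgroup.normalizer (Q' : Set G) := by
    refine lt_of_le_of_ne hHnorm ?_
    intro h
    apply hQ'H
    rw [h]
    exact Subgroup.le_normalizer
  have htop := hmax.2 _ hlt
  haveI : Q'.Normal := Subgroup.normalizer_eq_top_iff.mp htop
  exact hQ'ne (hOr q Q' hQ'q)

end Cfsg.Agent.S3498
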