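import Mathlib
import Cfsg.Statements.S3504

set_option autoImplicit false
open Cfsg

namespace Cfsg.Agent.S3504

open Equiv Equiv.Perm

lemma exists_der (n p : ℕ) (hp : p.Prime) (hpn : p ∣ n) (hn : 0 < n) :
    ∃ g : Perm (Fin n), g.cycleType = Multiset.replicate (n / p) p ∧ orderOf g = p ∧
      ∀ i, g i ≠ i := by
  have hnp : 0 < n / p := Nat.div_pos (Nat.le_of_dvd hn hpn) hp.pos
  have h1 : ∃ g : Perm (Fin n), g.cycleType = Multiset.replicate (n / p) p := by
    rw [Equiv.Perm.exists_with_cycleType_iff]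
    constructor
    · simp [Multiset.sum_replicate, Nat.div_mul_cancel hpn]
    · intro a ha; rw [Multiset.eq_of_mem_replicate ha]; exact hp.two_le
  obtain ⟨g, hg⟩ := h1
  refine ⟨g, hg, ?_, ?_⟩
  · rw [← lcm_cycleType, hg]
    apply Nat.dvd_antisymm
    · apply Multiset.lcm_dvd.mpr
      intro a ha; rw [Multiset.eq_of_mem_replicate ha]
    · apply Multiset.dvd_lcm
      rw [Multiset.mem_replicate]
      exact ⟨hnp.ne', rfl⟩
  · intro i
    have h2 : g.support.card = n := by
      rw [← sum_cycleType, hg]; simp [Nat.div_mul_cancel hpn]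
    have h3 : g.support = Finset.univ := Finset.eq_univ_of_card _ (by simpa using h2)
    have hi : i ∈ g.support := by rw [h3]; exact Finset.mem_univ _
    exact Equiv.Perm.mem_support.mp hi

lemma der_cycleType (n q : ℕ) (g : Perm (Fin n)) (hq : q.Prime) (hg : orderOf g = q)
    (hder : ∀ i, g i ≠ i) : q ∣ n ∧ g.cycleType = Multiset.replicate (n / q) q := by
  haveI : Fact q.Prime := ⟨hq⟩
  have h1 : g.support = Finset.univ := by
    ext i; simp [hder i]
  have h2 : g.cycleType.sum = n := by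
    rw [sum_cycleType, h1]; simp
  have h3 : ∃ k : ℕ, g.cycleType = Multiset.replicate (k + 1) q := by
    have := Equiv.Perm.cycleType_prime_order (σ := g) (by rw [hg]; exact hq)
    rwa [hg] at this
  obtain ⟨k, hk⟩ := h3
  have h4 : (k + 1) * q = n := by
    rw [← h2, hk]; simp; ring
  have h5 : n / q = k + 1 := by
    rw [← h4]; exact Nat.mul_div_cancel _ hq.pos
  exact ⟨⟨k + 1, by rw [← h4, mul_comm]⟩, by rw [h5, hk]⟩

/-- For n ≥ 5, the fixed-point-free permutations of prime order in the symmetric group of degree n form a single conjugacy class if and only if n is a prime power. -/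
theorem result (n : ℕ) (hn : 5 ≤ n) :
    Nat.card {c : ConjClasses (Equiv.Perm (Fin n)) // ∃ g : Equiv.Perm (Fin n), ConjClasses.mk g = c ∧ (orderOf g).Prime ∧ ∀ i : Fin n, g i ≠ i} = 1 ↔ IsPrimePow n := by
  have hn0 : 0 < n := by omega
  constructor
  · intro h
    by_contra hpp
    -- two distinct primes dividing n
    have h2 : ∃ p q : ℕ, p.Prime ∧ q.Prime ∧ p ∣ n ∧ q ∣ n ∧ p ≠ q := by
      by_contra hcon
      push Not at hcon
      obtain ⟨p, hp, hpn⟩ := Nat.exists_prime_and_dvd (show n ≠ 1 by omega)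
      apply hpp
      have h3 : ∀ {q : ℕ}, q.Prime → q ∣ n → q = p := by
        intro q hq hqn
        exact (hcon p q hp hq hpn hqn).symm
      have h4 := Nat.eq_prime_pow_of_unique_prime_dvd hn0.ne' h3
      rw [h4]
      have hfac : n.primeFactorsList.length ≠ 0 := by
        intro h0
        rw [h0, pow_zero] at h4
        omega
      exact hp.isPrimePow.pow hfac
    obtain ⟨p, q, hp, hq, hpn, hqn, hpq⟩ := h2
    obtain ⟨g₁, hg₁, ho₁, hd₁⟩ := exists_der n p hp hpn hn0
    obtain ⟨g₂, hg₂, ho₂, hd₂⟩ := exists_der n q hq hqn hn0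
    rw [Nat.card_eq_one_iff_unique] at h
    obtain ⟨hsub, _⟩ := h
    have h5 := hsub.elim ⟨ConjClasses.mk g₁, g₁, rfl, by rw [ho₁]; exact hp, hd₁⟩
      ⟨ConjClasses.mk g₂, g₂, rfl, by rw [ho₂]; exact hq, hd₂⟩
    have h6 : ConjClasses.mk g₁ = ConjClasses.mk g₂ := congrArg Subtype.val h5
    rw [ConjClasses.mk_eq_mk_iff_isConj, Equiv.Perm.isConj_iff_cycleType_eq] at h6
    have h7 : orderOf g₁ = orderOf g₂ := by rw [← lcm_cycleType, ← lcm_cycleType, h6]
    exact hpq (by rw [← ho₁, ← ho₂, h7])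
  · intro h
    obtain ⟨p, k, hp, hk, hpk⟩ := h
    have hp' : p.Prime := Nat.prime_iff.mpr hp
    have hpn : p ∣ n := by rw [← hpk]; exact dvd_pow_self p hk.ne'
    obtain ⟨g₁, hg₁, ho₁, hd₁⟩ := exists_der n p hp' hpn hn0
    rw [Nat.card_eq_one_iff_unique]
    refine ⟨⟨?_⟩, ⟨⟨ConjClasses.mk g₁, g₁, rfl, by rw [ho₁]; exact hp', hd₁⟩⟩⟩
    rintro ⟨c₁, a, rfl, hoa, hda⟩ ⟨c₂, b, rfl, hob, hdb⟩
    apply Subtype.ext
    show ConjClasses.mk a = ConjClasses.mk b
    rw [ConjClasses.mk_eq_mk_iff_isConj, Equiv.Perm.isConj_iff_cycleType_eq]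
    obtain ⟨hqa, hca⟩ := der_cycleType n _ a hoa rfl hda
    obtain ⟨hqb, hcb⟩ := der_cycleType n _ b hob rfl hdb
    have hkey : ∀ m : ℕ, m.Prime → m ∣ n → m = p := by
      intro m hm hmn
      have : m ∣ p ^ k := by rw [hpk]; exact hmn
      exact (Nat.prime_dvd_prime_iff_eq hm hp').mp (hm.dvd_of_dvd_pow this)
    have ha : orderOf a = p := hkey _ hoa hqa
    have hb : orderOf b = p := hkey _ hob hqb
    rw [hca, hcb, ha, hb]

end Cfsg.Agent.S3504
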