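import Mathlib
import Cfsg.Statements.S3508

set_option autoImplicit false
open Cfsg

namespace Cfsg.Agent.S3508

open Polynomial

theorem poly_id1 (p : ℕ) [Fact p.Prime] (s : ℕ) :
    ((X : (ZMod p)[X]) - 1) ^ (p ^ s) = X ^ (p ^ s) - 1 := by
  rw [sub_pow_char_pow, one_pow]

theorem poly_id2 (p : ℕ) [Fact p.Prime] (s : ℕ) :
    ∑ i ∈ Finset.range (p ^ s), (X : (ZMod p)[X]) ^ i = (X - 1) ^ (p ^ s - 1) := by
  have h1 : (∑ i ∈ Finset.range (p ^ s), (X : (ZMod p)[X]) ^ i) * (X - 1) = X ^ (p ^ s) - 1 :=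
    geom_sum_mul _ _
  have h2 : ((X : (ZMod p)[X]) - 1) ^ (p ^ s - 1) * (X - 1) = X ^ (p ^ s) - 1 := by
    rw [← pow_succ, Nat.sub_add_cancel (Nat.one_le_pow _ _ (Fact.out : p.Prime).pos), poly_id1]
  have hne : (X : (ZMod p)[X]) - 1 ≠ 0 := by
    have := X_sub_C_ne_zero (1 : ZMod p); simpa using this
  exact mul_right_cancel₀ hne (h1.trans h2.symm)

theorem lin_main {p : ℕ} [Fact p.Prime] {V : Type*} [AddCommGroup V] [Module (ZMod p) V]
    [Finite V] (m : ℕ) (hV : Nat.card V = p ^ m) (T : Module.End (ZMod p) V) (r : ℕ)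
    (hT : T ^ (p ^ r) = 1) (s : ℕ) (hs : m < p ^ s) :
    T ^ (p ^ s) = 1 ∧ ∑ i ∈ Finset.range (p ^ s), T ^ i = 0 := by
  have hS : (T - 1) ^ (p ^ r) = 0 := by
    have := congrArg (aeval T) (poly_id1 p r)
    simp only [map_pow, map_sub, aeval_X, map_one] at this
    rw [this, hT, sub_self]
  have hnil : IsNilpotent (T - 1) := ⟨_, hS⟩
  have hfr : Module.finrank (ZMod p) V = m := by
    haveI : Fintype V := Fintype.ofFinite V
    have := Module.card_eq_pow_finrank (K := ZMod p) (V := V)
    rw [← Nat.card_eq_fintype_card, hV, ZMod.card] at this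
    exact (Nat.pow_right_injective (Fact.out : p.Prime).two_le this).symm
  have hSm : (T - 1) ^ m = 0 := by
    have h1 := (LinearMap.isNilpotent_iff_charpoly (T - 1)).mp hnil
    have h2 := LinearMap.aeval_self_charpoly (T - 1)
    rw [h1, hfr] at h2
    simpa using h2
  have hSq : ∀ k, m ≤ k → (T - 1) ^ k = 0 := fun k hk => pow_eq_zero_of_le hk hSm
  constructor
  · have := congrArg (aeval T) (poly_id1 p s)
    simp only [map_pow, map_sub, aeval_X, map_one] at this
    rw [hSq _ hs.le] at this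
    exact (sub_eq_zero.mp this.symm)
  · have := congrArg (aeval T) (poly_id2 p s)
    simp only [map_pow, map_sub, map_sum, aeval_X, map_one] at this
    rw [this]; exact hSq _ (by omega)

theorem lin_main' {p : ℕ} [Fact p.Prime] {V : Type*} [AddCommGroup V] [Module (ZMod p) V]
    [Finite V] (m : ℕ) (hV : Nat.card V = p ^ m) (f : V →+ V) (r : ℕ)
    (hf : ∀ v, f^[p ^ r] v = v) (s : ℕ) (hs : m < p ^ s) :
    (∀ v, f^[p ^ s] v = v) ∧ ∀ v, ∑ i ∈ Finset.range (p ^ s), f^[i] v = 0 := by
  have hTk : ∀ k (v : V), ((f.toZModLinearMap p : Module.End (ZMod p) V) ^ k) v = f^[k] v := by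
    intro k v
    rw [Module.End.pow_apply, AddMonoidHom.coe_toZModLinearMap]
  have hTr : (f.toZModLinearMap p : Module.End (ZMod p) V) ^ (p ^ r) = 1 := by
    apply LinearMap.ext
    intro v
    rw [hTk, hf]; rfl
  obtain ⟨h1, h2⟩ := lin_main m hV (f.toZModLinearMap p) r hTr s hs
  constructor
  · intro v
    have := congrArg (fun g : Module.End (ZMod p) V => g v) h1
    simp only [hTk, Module.End.one_apply] at this
    exact this
  · intro v
    have := congrArg (fun g : Module.End (ZMod p) V => g v) h2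
    simp only [LinearMap.sum_apply, hTk, LinearMap.zero_apply] at this
    exact this

theorem grp_main {p : ℕ} [Fact p.Prime] {A : Type*} [CommGroup A] [Finite A] (m : ℕ)
    (hA : Nat.card A = p ^ m) (hexp : ∀ a : A, a ^ p = 1) (φ : A →* A) (r : ℕ)
    (hφ : ∀ a, φ^[p ^ r] a = a) (s : ℕ) (hs : m < p ^ s) :
    (∀ a, φ^[p ^ s] a = a) ∧ ∀ a, ∏ i ∈ Finset.range (p ^ s), φ^[i] a = 1 := by
  have hk : ∀ k (v : Additive A), (MonoidHom.toAdditive φ)^[k] v
      = Additive.ofMul (φ^[k] (Additive.toMul v)) := by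
    intro k
    induction k with
    | zero => intro v; rfl
    | succ k ih =>
      intro v
      rw [Function.iterate_succ_apply', Function.iterate_succ_apply', ih]
      rfl
  have hV : Nat.card (Additive A) = p ^ m := hA
  obtain ⟨h1, h2⟩ := @lin_main' p _ (Additive A) _ (AddCommGroup.zmodModule (n := p) (fun x => by
    apply Additive.toMul.injective
    rw [toMul_nsmul, toMul_zero]; exact hexp _)) _ m hV (MonoidHom.toAdditive φ) r
    (fun v => by rw [hk, hφ]; rfl) s hs
  constructor
  · intro a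
    have := h1 (Additive.ofMul a)
    rw [hk] at this
    exact Additive.ofMul.injective this
  · intro a
    have := h2 (Additive.ofMul a)
    simp only [hk, toMul_ofMul] at this
    rw [← ofMul_prod] at this
    exact Additive.ofMul.injective this

open scoped IsMulCommutative in
theorem main_pow_eq_one {G : Type*} [Group G] [Finite G] {Ω : Type*} [Fintype Ω] [MulAction G Ω]
    [FaithfulSMul G Ω] (p m : ℕ) (hp : p.Prime) (hcard : Fintype.card Ω = p ^ m)
    (N : Subgroup G) [N.Normal] (hNc : IsMulCommutative N) (hNp : ∀ n ∈ N, n ^ p = 1)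
    (hNtr : MulAction.IsPretransitive N Ω) (hNreg : ∀ ω : Ω, MulAction.stabilizer N ω = ⊥)
    (g : G) (r : ℕ) (hg : g ^ (p ^ r) = 1) (s : ℕ) (hs : m < p ^ s) : g ^ (p ^ s) = 1 := by
  haveI := Fact.mk hp
  have hne : Nonempty Ω := by
    rw [← Fintype.card_pos_iff, hcard]; exact pow_pos hp.pos m
  obtain ⟨ω₀⟩ := hne
  have hbij : Function.Bijective (fun n : N => n • ω₀) := by
    constructor
    · intro a b hab
      have hab' : a • ω₀ = b • ω₀ := hab
      have : a⁻¹ * b ∈ MulAction.stabilizer N ω₀ := by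
        rw [MulAction.mem_stabilizer_iff, mul_smul, ← hab', inv_smul_smul]
      rw [hNreg, Subgroup.mem_bot] at this
      exact (inv_mul_eq_one.mp this)
    · intro ω; exact MulAction.exists_smul_eq N ω₀ ω
  have hNcard : Nat.card N = p ^ m := by
    rw [Nat.card_congr (Equiv.ofBijective _ hbij), Nat.card_eq_fintype_card, hcard]
  let φ : N →* N := (MulAut.conjNormal g : MulAut N).toMonoidHom
  have hφ1 : ∀ n : N, ((φ n : N) : G) = g * n * g⁻¹ := fun n => by
    show ((MulAut.conjNormal g n : N) : G) = _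
    rw [MulAut.conjNormal_apply]
  have hφk : ∀ k (n : N), ((φ^[k] n : N) : G) = g ^ k * n * (g ^ k)⁻¹ := by
    intro k
    induction k with
    | zero => intro n; simp
    | succ k ih =>
      intro n
      rw [Function.iterate_succ_apply', hφ1, ih]
      group
  have hexp : ∀ a : N, a ^ p = 1 := fun a => by
    apply Subtype.ext
    rw [Subgroup.coe_pow, Subgroup.coe_one]
    exact hNp a a.2
  have hφr : ∀ a, φ^[p ^ r] a = a := fun a => by
    apply Subtype.ext
    rw [hφk, hg]; simp
  obtain ⟨h1, h2⟩ := grp_main m hNcard hexp φ r hφr s hs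
  obtain ⟨a, ha⟩ := hbij.2 (g • ω₀)
  have ha' : (a : G) • ω₀ = g • ω₀ := ha
  have horb : ∀ k, (g ^ k) • ω₀ = ((∏ i ∈ Finset.range k, φ^[i] a : N) : G) • ω₀ := by
    intro k
    induction k with
    | zero => simp
    | succ k ih =>
      rw [pow_succ', mul_smul, ih, Finset.prod_range_succ']
      simp only [Function.iterate_succ_apply', Function.iterate_zero, id_eq]
      rw [← map_prod, Subgroup.coe_mul, hφ1, mul_smul, ha', ← mul_smul, ← mul_smul]
      congr 1
      group
  have hfix : (g ^ (p ^ s)) • ω₀ = ω₀ := by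
    rw [horb, h2]; simp
  apply FaithfulSMul.eq_of_smul_eq_smul (α := Ω)
  intro ω
  obtain ⟨n, hn⟩ := hbij.2 ω
  have hn' : (n : G) • ω₀ = ω := hn
  rw [one_smul, ← hn']
  have h3 := hφk (p ^ s) n
  rw [h1] at h3
  have : g ^ (p ^ s) * (n : G) = (n : G) * g ^ (p ^ s) := by
    calc g ^ (p ^ s) * (n : G) = (g ^ (p ^ s) * (n : G) * (g ^ (p ^ s))⁻¹) * g ^ (p ^ s) := by
          group
      _ = (n : G) * g ^ (p ^ s) := by rw [← h3]
  rw [← mul_smul, this, mul_smul, hfix]

theorem two_pow_bound (k : ℕ) (hk : 2 ≤ k) : k + 2 ≤ 2 ^ k := by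
  induction k, hk using Nat.le_induction with
  | base => norm_num
  | succ k hk ih => rw [pow_succ]; omega

theorem three_pow_bound (k : ℕ) (hk : 1 ≤ k) : k + 2 ≤ 3 ^ k := by
  induction k, hk using Nat.le_induction with
  | base => norm_num
  | succ k hk ih => rw [pow_succ]; omega

/-- Let a finite group G act faithfully on a set Ω with p ^ m points (p prime) and have an elementary abelian normal p-subgroup N acting regularly on Ω (so G is a group of affine transformations of an m-dimensional space over the field with p elements). If G contains an element of order p ^ r with r ≥ 1, then p ^ (r − 1) ≤ m. In particular an element of order p ^ m forces m ≤ 2, and m ≤ 1 when p is odd. -/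
theorem result {G : Type*} [Group G] [Finite G] {Ω : Type*} [Fintype Ω] [MulAction G Ω] [FaithfulSMul G Ω] (p m : ℕ) (hp : p.Prime) (hcard : Fintype.card Ω = p ^ m)
    (N : Subgroup G) [N.Normal] (hNc : IsMulCommutative N) (hNp : ∀ n ∈ N, n ^ p = 1)
    (hNtr : MulAction.IsPretransitive N Ω) (hNreg : ∀ ω : Ω, MulAction.stabilizer N ω = ⊥)
    (g : G) (r : ℕ) (hr : 1 ≤ r) (hg : orderOf g = p ^ r) :
    p ^ (r - 1) ≤ m ∧ (r = m → m ≤ 2 ∧ (2 < p → m ≤ 1)) := by
  have hmain : p ^ (r - 1) ≤ m := by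
    by_contra hlt
    push Not at hlt
    have hgr : g ^ (p ^ r) = 1 := by rw [← hg]; exact pow_orderOf_eq_one g
    have h1 := main_pow_eq_one p m hp hcard N hNc hNp hNtr hNreg g r hgr (r - 1) hlt
    have h2 : orderOf g ∣ p ^ (r - 1) := orderOf_dvd_of_pow_eq_one h1
    rw [hg] at h2
    have h3 := (Nat.pow_dvd_pow_iff_le_right hp.one_lt).mp h2
    omega
  refine ⟨hmain, ?_⟩
  intro hrm
  subst hrm
  constructor
  · by_contra hlt
    push Not at hlt
    have h1 := two_pow_bound (r - 1) (by omega)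
    have h2 : 2 ^ (r - 1) ≤ p ^ (r - 1) := Nat.pow_le_pow_left hp.two_le _
    omega
  · intro hp2
    by_contra hlt
    push Not at hlt
    have h1 := three_pow_bound (r - 1) (by omega)
    have h2 : 3 ^ (r - 1) ≤ p ^ (r - 1) := Nat.pow_le_pow_left hp2 _
    omega

end Cfsg.Agent.S3508
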