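import Cfsg.Statements.S3511
import Mathlib

set_option autoImplicit false
open Cfsg

namespace Cfsg.Agent.S3511

theorem stab_eq_bot_iff {G : Type*} [Group G] {Ω : Type*} [MulAction G Ω] (g : G) (ω : Ω) :
    MulAction.stabilizer (Subgroup.zpowers g) ω = ⊥ ↔
      ∀ x : G, x ∈ Subgroup.zpowers g → x • ω = ω → x = 1 := by
  constructor
  · intro h x hx hxω
    have hmem : (⟨x, hx⟩ : Subgroup.zpowers g) ∈ MulAction.stabilizer (Subgroup.zpowers g) ω := hxω
    rw [h, Subgroup.mem_bot] at hmem
    exact congrArg Subtype.val hmem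
  · intro h
    rw [eq_bot_iff]
    intro x hx
    rw [Subgroup.mem_bot]
    exact Subtype.ext (h x.1 x.2 hx)

theorem aux {G : Type*} [Group G] [Finite G] {Ω : Type*} [MulAction G Ω]
    (h : ∀ g : G, Squarefree (orderOf g) → ∃ ω : Ω, MulAction.stabilizer (Subgroup.zpowers g) ω = ⊥) :
    ∀ n : ℕ, ∀ g : G, orderOf g = n → ∃ ω : Ω, MulAction.stabilizer (Subgroup.zpowers g) ω = ⊥ := by
  intro n
  induction n using Nat.strong_induction_on with
  | _ n ih =>
    intro g hg
    by_cases hsq : Squarefree n
    · exact h g (hg ▸ hsq)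
    · rw [Nat.squarefree_iff_prime_squarefree] at hsq
      push Not at hsq
      obtain ⟨p, hp, hpn⟩ := hsq
      have hn0 : 0 < n := hg ▸ orderOf_pos g
      have hpdvd : p ∣ orderOf g := hg ▸ dvd_trans (dvd_mul_right p p) hpn
      have hord : orderOf (g ^ p) = n / p := by
        rw [orderOf_pow_of_dvd hp.ne_zero hpdvd, hg]
      have hlt : n / p < n := Nat.div_lt_self hn0 hp.one_lt
      obtain ⟨ω, hω⟩ := ih (n / p) hlt (g ^ p) hord
      refine ⟨ω, ?_⟩
      rw [stab_eq_bot_iff] at hω ⊢
      intro x hx hxω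
      by_contra hx1
      have hox : orderOf x ≠ 1 := fun h1 => hx1 (orderOf_eq_one_iff.mp h1)
      obtain ⟨q, hq, hqx⟩ := Nat.exists_prime_and_dvd hox
      set y := x ^ (orderOf x / q) with hy
      have hyo : orderOf y = q := orderOf_pow_orderOf_div (orderOf_pos x).ne' hqx
      have hyz : y ∈ Subgroup.zpowers g := Subgroup.pow_mem _ hx _
      have hyω : y • ω = ω := by
        have hmem : x ∈ MulAction.stabilizer G ω := hxω
        exact (MulAction.stabilizer G ω).pow_mem hmem _
      obtain ⟨j, hj⟩ := (mem_powers_iff_mem_zpowers.mpr hyz)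
      have hj' : g ^ j = y := hj
      have hjq : g ^ (j * q) = 1 := by
        rw [pow_mul, hj', ← hyo, pow_orderOf_eq_one]
      have hnd : n ∣ j * q := hg ▸ orderOf_dvd_of_pow_eq_one hjq
      have hppd : p * p ∣ j * q := dvd_trans hpn hnd
      have hpj : p ∣ j := by
        by_cases hqp : q = p
        · rw [hqp] at hppd
          exact Nat.dvd_of_mul_dvd_mul_right hp.pos hppd
        · have hcop : Nat.Coprime (p * p) q := by
            apply Nat.Coprime.mul_left <;> exact (Nat.coprime_primes hp hq).mpr (Ne.symm hqp)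
          exact dvd_trans (dvd_mul_right p p) (hcop.dvd_of_dvd_mul_right hppd)
      obtain ⟨j', rfl⟩ := hpj
      have hy1 : y = 1 := by
        apply hω y _ hyω
        rw [← hj', pow_mul]
        exact Subgroup.pow_mem _ (Subgroup.mem_zpowers _) _
      rw [hy1, orderOf_one] at hyo
      exact hq.one_lt.ne hyo

/-- Let a finite group G act faithfully on a set Ω. If every element of G of square-free order has a regular cycle (an orbit of the cyclic group it generates with trivial stabilizer), then every element of G has a regular cycle. -/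
theorem result {G : Type*} [Group G] [Finite G] {Ω : Type*} [MulAction G Ω] [FaithfulSMul G Ω]
    (h : ∀ g : G, Squarefree (orderOf g) → ∃ ω : Ω, MulAction.stabilizer (Subgroup.zpowers g) ω = ⊥) (g : G) :
    ∃ ω : Ω, MulAction.stabilizer (Subgroup.zpowers g) ω = ⊥ := by
  exact aux h (orderOf g) g rfl

end Cfsg.Agent.S3511
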