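import Mathlib
import Cfsg.Statements.S3515

set_option autoImplicit false
open Cfsg

namespace Cfsg.Agent.S3515

variable {p : ℕ} [Fact p.Prime]

/-- the 3-closure condition -/
def C3 (G : Subgroup (Equiv.Perm (Fin 2 → ZMod p))) (σ : Equiv.Perm (Fin 2 → ZMod p)) : Prop :=
  ∀ t : Fin 3 → (Fin 2 → ZMod p), ∃ g ∈ G, ∀ i, σ (t i) = g (t i)

theorem C3.mul_left {G : Subgroup (Equiv.Perm (Fin 2 → ZMod p))} {σ : Equiv.Perm (Fin 2 → ZMod p)}
    (h : C3 G σ) {k : Equiv.Perm (Fin 2 → ZMod p)} (hk : k ∈ G) : C3 G (k⁻¹ * σ) := by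
  intro t
  obtain ⟨g, hg, hgt⟩ := h t
  refine ⟨k⁻¹ * g, G.mul_mem (G.inv_mem hk) hg, ?_⟩
  intro i
  rw [Equiv.Perm.mul_apply, Equiv.Perm.mul_apply, hgt i]

theorem affine_comb (G : Subgroup (Equiv.Perm (Fin 2 → ZMod p)))
    (haff : (G : Set (Equiv.Perm (Fin 2 → ZMod p))) ⊆ {τ : Equiv.Perm (Fin 2 → ZMod p) | ∃ (A : (Fin 2 → ZMod p) ≃ₗ[ZMod p] (Fin 2 → ZMod p)) (b : Fin 2 → ZMod p), ∀ x, τ x = A x + b})
    (σ : Equiv.Perm (Fin 2 → ZMod p)) (h : C3 G σ) (x y : Fin 2 → ZMod p) (c : ZMod p) :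
    σ ((1 - c) • x + c • y) = (1 - c) • σ x + c • σ y := by
  obtain ⟨g, hg, hgt⟩ := h ![x, y, (1 - c) • x + c • y]
  obtain ⟨A, b, hA⟩ := haff hg
  have h0 : σ x = g x := hgt 0
  have h1 : σ y = g y := hgt 1
  have h2 : σ ((1 - c) • x + c • y) = g ((1 - c) • x + c • y) := hgt 2
  rw [h2, h0, h1, hA, hA, hA, map_add, map_smul, map_smul]
  module

/-- fixed points are closed under affine combinations -/
theorem fixed_comb (G : Subgroup (Equiv.Perm (Fin 2 → ZMod p)))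
    (haff : (G : Set (Equiv.Perm (Fin 2 → ZMod p))) ⊆ {τ : Equiv.Perm (Fin 2 → ZMod p) | ∃ (A : (Fin 2 → ZMod p) ≃ₗ[ZMod p] (Fin 2 → ZMod p)) (b : Fin 2 → ZMod p), ∀ x, τ x = A x + b})
    (σ : Equiv.Perm (Fin 2 → ZMod p)) (h : C3 G σ) {x y : Fin 2 → ZMod p} (hx : σ x = x)
    (hy : σ y = y) (c : ZMod p) : σ ((1 - c) • x + c • y) = (1 - c) • x + c • y := by
  rw [affine_comb G haff σ h, hx, hy]

theorem result (p : ℕ) [Fact p.Prime] (G : Subgroup (Equiv.Perm (Fin 2 → ZMod p)))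
    (haff : (G : Set (Equiv.Perm (Fin 2 → ZMod p))) ⊆ {τ : Equiv.Perm (Fin 2 → ZMod p) | ∃ (A : (Fin 2 → ZMod p) ≃ₗ[ZMod p] (Fin 2 → ZMod p)) (b : Fin 2 → ZMod p), ∀ x, τ x = A x + b})
    (htrans : ∀ b : Fin 2 → ZMod p, ∃ g ∈ G, ∀ x, g x = x + b) (hprim : MulAction.IsPreprimitive G (Fin 2 → ZMod p))
    (σ : Equiv.Perm (Fin 2 → ZMod p)) (hσ : (∀ t : Fin 3 → (Fin 2 → ZMod p), ∃ g ∈ G, ∀ i, σ (t i) = g (t i))) : σ ∈ G := by
  have hC : C3 G σ := hσ
  obtain ⟨g₀, hg₀, hg₀t⟩ := hσ ![0, ![1, 0], ![0, 1]]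
  have e0 : σ 0 = g₀ 0 := hg₀t 0
  have e1 : σ ![1, 0] = g₀ ![1, 0] := hg₀t 1
  have e2 : σ ![0, 1] = g₀ ![0, 1] := hg₀t 2
  set τ := g₀⁻¹ * σ with hτ
  have hCτ : C3 G τ := hC.mul_left hg₀
  have f0 : τ 0 = 0 := by
    rw [hτ, Equiv.Perm.mul_apply, e0]; exact g₀.symm_apply_apply _
  have f1 : τ ![1, 0] = ![1, 0] := by
    rw [hτ, Equiv.Perm.mul_apply, e1]; exact g₀.symm_apply_apply _
  have f2 : τ ![0, 1] = ![0, 1] := by
    rw [hτ, Equiv.Perm.mul_apply, e2]; exact g₀.symm_apply_apply _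
  have key := fun {x y : Fin 2 → ZMod p} (hx : τ x = x) (hy : τ y = y) (c : ZMod p) =>
    fixed_comb G haff τ hCτ hx hy c
  -- points on the axes and on the line through the two basis vectors
  have fa : ∀ a : ZMod p, τ ![a, 0] = ![a, 0] := by
    intro a
    have := key f0 f1 a
    have e : (1 - a) • (0 : Fin 2 → ZMod p) + a • ![1, 0] = ![a, 0] := by
      ext i; fin_cases i <;> simp
    rwa [e] at this
  have fb : ∀ b : ZMod p, τ ![0, b] = ![0, b] := by
    intro b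
    have := key f0 f2 b
    have e : (1 - b) • (0 : Fin 2 → ZMod p) + b • ![0, 1] = ![0, b] := by
      ext i; fin_cases i <;> simp
    rwa [e] at this
  have fl : ∀ t : ZMod p, τ ![1 - t, t] = ![1 - t, t] := by
    intro t
    have := key f1 f2 t
    have e : (1 - t) • (![1, 0] : Fin 2 → ZMod p) + t • ![0, 1] = ![1 - t, t] := by
      ext i; fin_cases i <;> simp
    rwa [e] at this
  have fgen : ∀ a b : ZMod p, (a ≠ 1 ∨ b ≠ 1) → τ ![a, b] = ![a, b] := by
    intro a b hab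
    by_cases ha : a ≠ 1
    · have h1a : (1 - a) ≠ 0 := sub_ne_zero.mpr (Ne.symm ha)
      have hP := fa a
      have hQ := fl (1 - a)
      rw [sub_sub_cancel] at hQ
      have := key hP hQ (b / (1 - a))
      have e : (1 - b / (1 - a)) • (![a, 0] : Fin 2 → ZMod p) + (b / (1 - a)) • ![a, 1 - a] = ![a, b] := by
        ext i; fin_cases i
        · simp; ring
        · simp; field_simp
      rwa [e] at this
    · push Not at ha
      subst ha
      have hb : b ≠ 1 := by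
        rcases hab with h | h
        · exact (h rfl).elim
        · exact h
      have h1b : (1 - b) ≠ 0 := sub_ne_zero.mpr (Ne.symm hb)
      have hP := fb b
      have hQ := fl b
      have := key hP hQ (1 / (1 - b))
      have e : (1 - 1 / (1 - b)) • (![0, b] : Fin 2 → ZMod p) + (1 / (1 - b)) • ![1 - b, b] = ![1, b] := by
        ext i; fin_cases i
        · simp; field_simp
        · simp; ring
      rwa [e] at this
  have hall : ∀ w : Fin 2 → ZMod p, τ w = w := by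
    intro w
    have hw : w = ![w 0, w 1] := by
      ext i; fin_cases i <;> rfl
    by_cases h11 : w 0 ≠ 1 ∨ w 1 ≠ 1
    · rw [hw]; exact fgen _ _ h11
    · push Not at h11
      -- `w = (1,1)`: all other points are fixed
      by_contra hne
      set v := τ w with hv
      have hvw : v ≠ w := hne
      have hv11 : v 0 ≠ 1 ∨ v 1 ≠ 1 := by
        by_contra hcon
        push Not at hcon
        apply hvw
        ext i; fin_cases i
        · show v 0 = w 0
          rw [hcon.1, h11.1]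
        · show v 1 = w 1
          rw [hcon.2, h11.2]
      have hvfix : τ v = v := by
        have hv' : v = ![v 0, v 1] := by
          ext i; fin_cases i <;> rfl
        rw [hv']; exact fgen _ _ hv11
      exact hvw (τ.injective hvfix)
  have hτ1 : τ = 1 := Equiv.ext hall
  have : σ = g₀ := by
    have h3 : g₀ * τ = σ := by rw [hτ, mul_inv_cancel_left]
    rw [← h3, hτ1, mul_one]
  rw [this]; exact hg₀

end Cfsg.Agent.S3515
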