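import Mathlib
import Cfsg.Statements.S3516

set_option autoImplicit false
open Cfsg

namespace Cfsg.Agent.S3516

open Matrix

section lin
variable {p : ℕ} [Fact p.Prime] {d : ℕ}

local notation "V" => (Fin d → ZMod p)

/-- a permutation preserving affine combinations of two points is affine (`p` odd) -/
theorem affine_of_comb (hp : p ≠ 2) (σ : Equiv.Perm V)
    (h : ∀ (x y : V) (l : ZMod p), σ (l • x + (1 - l) • y) = l • σ x + (1 - l) • σ y) :
    ∃ (A : V ≃ₗ[ZMod p] V) (b : V), ∀ x, σ x = A x + b := by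
  have h2 : (2 : ZMod p) ≠ 0 := by
    intro h0
    have h3 : ((2 : ℕ) : ZMod p) = 0 := by exact_mod_cast h0
    rw [ZMod.natCast_eq_zero_iff] at h3
    have := (Nat.prime_dvd_prime_iff_eq (Fact.out : p.Prime) Nat.prime_two).mp h3
    exact hp this
  set b := σ 0 with hb
  have hsmul : ∀ (l : ZMod p) (x : V), σ (l • x) - b = l • (σ x - b) := by
    intro l x
    have := h x 0 l
    rw [smul_zero, add_zero] at this
    rw [this, ← hb]
    module
  have hadd : ∀ x y : V, σ (x + y) - b = (σ x - b) + (σ y - b) := by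
    intro x y
    have h3 := h ((2 : ZMod p) • x) ((2 : ZMod p) • y) (2 : ZMod p)⁻¹
    have e1 : (2 : ZMod p)⁻¹ • (2 : ZMod p) • x + (1 - (2 : ZMod p)⁻¹) • (2 : ZMod p) • y = x + y := by
      rw [smul_smul, smul_smul, inv_mul_cancel₀ h2, one_smul, sub_mul, one_mul,
        inv_mul_cancel₀ h2]
      have : (2 : ZMod p) - 1 = 1 := by ring
      rw [this, one_smul]
    rw [e1] at h3
    have e2 := hsmul 2 x
    have e3 := hsmul 2 y
    have e4 : σ ((2 : ZMod p) • x) = (2 : ZMod p) • (σ x - b) + b := by rw [← e2]; abel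
    have e5 : σ ((2 : ZMod p) • y) = (2 : ZMod p) • (σ y - b) + b := by rw [← e3]; abel
    rw [h3, e4, e5]
    have e6 : (1 : ZMod p) - (2 : ZMod p)⁻¹ = (2 : ZMod p)⁻¹ := by
      field_simp
      ring
    rw [e6]
    have e7 : (2 : ZMod p)⁻¹ • ((2 : ZMod p) • (σ x - b) + b) +
        (2 : ZMod p)⁻¹ • ((2 : ZMod p) • (σ y - b) + b) - b =
        ((2 : ZMod p)⁻¹ * 2) • (σ x - b) + ((2 : ZMod p)⁻¹ * 2) • (σ y - b) +
          ((2 : ZMod p)⁻¹ * 2 - 1) • b := by
      module
    rw [e7, inv_mul_cancel₀ h2, sub_self, zero_smul, add_zero, one_smul, one_smul]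
  let f : V →ₗ[ZMod p] V :=
    { toFun := fun x => σ x - b
      map_add' := hadd
      map_smul' := fun l x => by
        simp only [RingHom.id_apply]
        exact hsmul l x }
  have hinj : Function.Injective f := by
    intro x y hxy
    have : σ x - b = σ y - b := hxy
    exact σ.injective (sub_left_injective this)
  refine ⟨LinearEquiv.ofInjectiveEndo f hinj, b, ?_⟩
  intro x
  rw [LinearEquiv.coe_ofInjectiveEndo]
  show σ x = σ x - b + b
  abel

/-- a linear map fixing two given vectors with prescribed determinant (`d ≥ 3`) -/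
theorem exists_fix_det (hd : 3 ≤ d) (u v : V) (c : ZMod p) :
    ∃ D : V →ₗ[ZMod p] V, D u = u ∧ D v = v ∧ LinearMap.det D = c := by
  -- a nonzero functional vanishing on `u` and `v`
  let L : V →ₗ[ZMod p] (Fin 2 → ZMod p) :=
    { toFun := fun φ => ![φ ⬝ᵥ u, φ ⬝ᵥ v]
      map_add' := by
        intro φ ψ
        ext i
        fin_cases i <;> simp [add_dotProduct]
      map_smul' := by
        intro l φ
        ext i
        fin_cases i <;> simp [smul_dotProduct] }
  have hker : LinearMap.ker L ≠ ⊥ := by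
    apply LinearMap.ker_ne_bot_of_finrank_lt
    rw [Module.finrank_fin_fun, Module.finrank_fin_fun]
    omega
  obtain ⟨φ, hφker, hφ0⟩ := (Submodule.ne_bot_iff _).mp hker
  have hφu : φ ⬝ᵥ u = 0 := by
    have := congrFun (LinearMap.mem_ker.mp hφker) 0
    simpa [L] using this
  have hφv : φ ⬝ᵥ v = 0 := by
    have := congrFun (LinearMap.mem_ker.mp hφker) 1
    simpa [L] using this
  obtain ⟨j, hj⟩ : ∃ j, φ j ≠ 0 := by
    by_contra hcon
    push Not at hcon
    exact hφ0 (funext hcon)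
  set w : V := Pi.single j (φ j)⁻¹ with hw
  have hφw : φ ⬝ᵥ w = 1 := by
    rw [hw, dotProduct_single, mul_inv_cancel₀ hj]
  set M : Matrix (Fin d) (Fin d) (ZMod p) := 1 + vecMulVec ((c - 1) • w) φ with hM
  have hMx : ∀ x : V, M *ᵥ x = x + (φ ⬝ᵥ x) • ((c - 1) • w) := by
    intro x
    rw [hM, add_mulVec, one_mulVec, vecMulVec_mulVec]
    congr 1
    ext i
    simp [mul_comm]
  refine ⟨Matrix.toLin' M, ?_, ?_, ?_⟩
  · rw [Matrix.toLin'_apply, hMx, hφu, zero_smul, add_zero]
  · rw [Matrix.toLin'_apply, hMx, hφv, zero_smul, add_zero]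
  · rw [LinearMap.det_toLin', hM, vecMulVec_eq Unit, det_one_add_replicateCol_mul_replicateRow,
      dotProduct_smul, hφw]
    simp

end lin

/-- Let p be an odd prime, d ≥ 3, and G a group of affine permutations x ↦ Ax + b of V = F_p^d containing all translations and all maps x ↦ Ax with A of determinant 1. Then the 3-closure of G is the full affine group: a permutation σ of V agrees on every triple of points with some element of G if and only if σ is an affine map. -/
theorem result (p : ℕ) [Fact p.Prime] (hp : p ≠ 2) (d : ℕ) (hd : 3 ≤ d) (G : Subgroup (Equiv.Perm (Fin d → ZMod p)))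
    (haff : (G : Set (Equiv.Perm (Fin d → ZMod p))) ⊆ {τ : Equiv.Perm (Fin d → ZMod p) | ∃ (A : (Fin d → ZMod p) ≃ₗ[ZMod p] (Fin d → ZMod p)) (b : Fin d → ZMod p), ∀ x, τ x = A x + b})
    (htrans : ∀ b : Fin d → ZMod p, ∃ g ∈ G, ∀ x, g x = x + b)
    (hsl : ∀ A : (Fin d → ZMod p) ≃ₗ[ZMod p] (Fin d → ZMod p), LinearMap.det (A : (Fin d → ZMod p) →ₗ[ZMod p] (Fin d → ZMod p)) = 1 → ∃ g ∈ G, ∀ x, g x = A x)
    (σ : Equiv.Perm (Fin d → ZMod p)) :
    (∀ t : Fin 3 → (Fin d → ZMod p), ∃ g ∈ G, ∀ i, σ (t i) = g (t i)) ↔ σ ∈ {τ : Equiv.Perm (Fin d → ZMod p) | ∃ (A : (Fin d → ZMod p) ≃ₗ[ZMod p] (Fin d → ZMod p)) (b : Fin d → ZMod p), ∀ x, τ x = A x + b} := by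
  constructor
  · intro h
    apply affine_of_comb hp σ
    intro x y l
    obtain ⟨g, hgG, hg⟩ := h ![x, y, l • x + (1 - l) • y]
    obtain ⟨A, b, hAb⟩ := haff hgG
    have h0 := hg 0
    have h1 := hg 1
    have h2 := hg 2
    simp only [Matrix.cons_val_zero, Matrix.cons_val_one, Matrix.cons_val_two,
      Matrix.head_cons, Matrix.tail_cons] at h0 h1 h2
    rw [h2, h0, h1, hAb, hAb, hAb, map_add, map_smul, map_smul]
    module
  · rintro ⟨A, b, hAb⟩ t
    have hdet : IsUnit (LinearMap.det (A : (Fin d → ZMod p) →ₗ[ZMod p] (Fin d → ZMod p))) :=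
      A.isUnit_det'
    set δ := LinearMap.det (A : (Fin d → ZMod p) →ₗ[ZMod p] (Fin d → ZMod p)) with hδ
    have hδ0 : δ ≠ 0 := hdet.ne_zero
    obtain ⟨D, hDu, hDv, hDdet⟩ := exists_fix_det hd (t 1 - t 0) (t 2 - t 0) δ⁻¹
    set B : (Fin d → ZMod p) →ₗ[ZMod p] (Fin d → ZMod p) :=
      (A : (Fin d → ZMod p) →ₗ[ZMod p] (Fin d → ZMod p)).comp D with hB
    have hBdet : LinearMap.det B = 1 := by
      rw [hB, LinearMap.det_comp, hDdet, ← hδ, mul_inv_cancel₀ hδ0]
    have hBunit : IsUnit (LinearMap.det B) := by rw [hBdet]; exact isUnit_one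
    obtain ⟨g₁, hg₁G, hg₁⟩ := hsl (LinearMap.equivOfIsUnitDet hBunit) (by
      rw [LinearMap.coe_equivOfIsUnitDet]; exact hBdet)
    obtain ⟨τ, hτG, hτ⟩ := htrans (σ (t 0) - B (t 0))
    refine ⟨τ * g₁, G.mul_mem hτG hg₁G, ?_⟩
    have hval : ∀ x, (τ * g₁) x = B x + (σ (t 0) - B (t 0)) := by
      intro x
      rw [Equiv.Perm.mul_apply, hτ, hg₁, LinearMap.equivOfIsUnitDet_apply]
    have hBu : B (t 1 - t 0) = A (t 1 - t 0) := by
      rw [hB, LinearMap.comp_apply, hDu]; rfl
    have hBv : B (t 2 - t 0) = A (t 2 - t 0) := by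
      rw [hB, LinearMap.comp_apply, hDv]; rfl
    intro i
    rw [hval]
    fin_cases i
    · simp
    · show σ (t 1) = B (t 1) + (σ (t 0) - B (t 0))
      have e1 : B (t 1) = B (t 1 - t 0) + B (t 0) := by rw [← map_add, sub_add_cancel]
      rw [e1, hBu, hAb, hAb, map_sub]
      abel
    · show σ (t 2) = B (t 2) + (σ (t 0) - B (t 0))
      have e1 : B (t 2) = B (t 2 - t 0) + B (t 0) := by rw [← map_add, sub_add_cancel]
      rw [e1, hBv, hAb, hAb, map_sub]
      abel

end Cfsg.Agent.S3516
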