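import Cfsg.Statements.S3517
import Mathlib

set_option autoImplicit false
open Cfsg

namespace Cfsg.Agent.S3517

open Module in
lemma exists_equiv_of_linindep {K V ι : Type*} [Field K] [AddCommGroup V] [Module K V]
    [FiniteDimensional K V] (u v : ι → V) (hu : LinearIndependent K u) (hv : LinearIndependent K v) :
    ∃ A : V ≃ₗ[K] V, ∀ i, A (u i) = v i := by
  classical
  let U := Submodule.span K (Set.range u)
  let W := Submodule.span K (Set.range v)
  let e : U ≃ₗ[K] W := (Basis.span hu).equiv (Basis.span hv) (Equiv.refl ι)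
  obtain ⟨U', hU'⟩ := Submodule.exists_isCompl U
  obtain ⟨W', hW'⟩ := Submodule.exists_isCompl W
  have h1 := Submodule.finrank_add_eq_of_isCompl hU'
  have h2 := Submodule.finrank_add_eq_of_isCompl hW'
  have h3 : finrank K U = finrank K W := e.finrank_eq
  have h4 : finrank K U' = finrank K W' := by omega
  let e' : U' ≃ₗ[K] W' := LinearEquiv.ofFinrankEq U' W' h4
  let A : V ≃ₗ[K] V :=
    (Submodule.prodEquivOfIsCompl U U' hU').symm ≪≫ₗ (e.prodCongr e') ≪≫ₗ
      (Submodule.prodEquivOfIsCompl W W' hW')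
  refine ⟨A, fun i => ?_⟩
  have hui : u i ∈ U := Submodule.subset_span (Set.mem_range_self i)
  have hA : A (u i) = (Submodule.prodEquivOfIsCompl W W' hW')
      ((e.prodCongr e') ((Submodule.prodEquivOfIsCompl U U' hU').symm ((⟨u i, hui⟩ : U) : V))) := rfl
  rw [hA, Submodule.prodEquivOfIsCompl_symm_apply_left, Submodule.coe_prodEquivOfIsCompl']
  simp only [LinearEquiv.prodCongr_apply, map_zero, Submodule.coe_zero, add_zero]
  have : (⟨u i, hui⟩ : U) = Basis.span hu i := (Basis.span_apply hu i).symm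
  rw [this]
  show ((e (Basis.span hu i) : W) : V) = v i
  rw [Basis.equiv_apply, Equiv.refl_apply, Basis.span_apply]

lemma neg_eq_self {d : ℕ} (w : Fin d → ZMod 2) : -w = w := by
  funext i
  have : ∀ a : ZMod 2, -a = a := by decide
  exact this (w i)

lemma single {d : ℕ} (u v : Fin d → ZMod 2) (hu : u ≠ 0) (hv : v ≠ 0) :
    ∃ A : (Fin d → ZMod 2) ≃ₗ[ZMod 2] (Fin d → ZMod 2), A u = v := by
  have h1 : LinearIndependent (ZMod 2) (fun _ : Unit => u) := LinearIndependent.of_subsingleton () hu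
  have h2 : LinearIndependent (ZMod 2) (fun _ : Unit => v) := LinearIndependent.of_subsingleton () hv
  obtain ⟨A, hA⟩ := exists_equiv_of_linindep _ _ h1 h2
  exact ⟨A, hA ()⟩

lemma pair_indep {d : ℕ} (u₁ u₂ : Fin d → ZMod 2) (h1 : u₁ ≠ 0) (h2 : u₂ ≠ 0) (h12 : u₁ ≠ u₂) :
    LinearIndependent (ZMod 2) ![u₁, u₂] := by
  rw [LinearIndependent.pair_iff]
  intro s t hst
  have h01 : ∀ a : ZMod 2, a = 0 ∨ a = 1 := by decide
  have hs : s = 0 ∨ s = 1 := h01 s
  have ht : t = 0 ∨ t = 1 := h01 t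
  rcases hs with rfl | rfl <;> rcases ht with rfl | rfl
  · exact ⟨rfl, rfl⟩
  · exfalso; simp at hst; exact h2 hst
  · exfalso; simp at hst; exact h1 hst
  · exfalso
    simp only [one_smul] at hst
    apply h12
    have : u₁ = -u₂ := eq_neg_of_add_eq_zero_left hst
    rw [this, neg_eq_self]

theorem result (d : ℕ) (hd : 3 ≤ d) (σ : Equiv.Perm (Fin d → ZMod 2)) (t : Fin 3 → (Fin d → ZMod 2)) :
    ∃ (A : (Fin d → ZMod 2) ≃ₗ[ZMod 2] (Fin d → ZMod 2)) (b : Fin d → ZMod 2), ∀ i, σ (t i) = A (t i) + b := by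
  -- reduce to finding A with A u₁ = v₁, A u₂ = v₂
  suffices h : ∃ A : (Fin d → ZMod 2) ≃ₗ[ZMod 2] (Fin d → ZMod 2),
      A (t 1 - t 0) = σ (t 1) - σ (t 0) ∧ A (t 2 - t 0) = σ (t 2) - σ (t 0) by
    obtain ⟨A, hA1, hA2⟩ := h
    refine ⟨A, σ (t 0) - A (t 0), ?_⟩
    intro i
    fin_cases i
    · simp
    · simp only [Fin.mk_one, Fin.isValue]
      rw [map_sub] at hA1
      have : σ (t 1) = (σ (t 1) - σ (t 0)) + σ (t 0) := by abel
      rw [this, ← hA1]; abel
    · simp only [Fin.reduceFinMk, Fin.isValue]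
      rw [map_sub] at hA2
      have : σ (t 2) = (σ (t 2) - σ (t 0)) + σ (t 0) := by abel
      rw [this, ← hA2]; abel
  have inj : ∀ x y, σ x - σ y = 0 ↔ x - y = 0 := by
    intro x y
    rw [sub_eq_zero, sub_eq_zero, σ.injective.eq_iff]
  have inj2 : σ (t 1) - σ (t 0) = σ (t 2) - σ (t 0) ↔ t 1 - t 0 = t 2 - t 0 := by
    rw [sub_left_inj, sub_left_inj, σ.injective.eq_iff]
  by_cases h1 : t 1 - t 0 = 0
  · by_cases h2 : t 2 - t 0 = 0
    · refine ⟨LinearEquiv.refl _ _, ?_, ?_⟩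
      · rw [h1, (inj _ _).mpr h1]; simp
      · rw [h2, (inj _ _).mpr h2]; simp
    · obtain ⟨A, hA⟩ := single (t 2 - t 0) (σ (t 2) - σ (t 0)) h2 (fun h => h2 ((inj _ _).mp h))
      refine ⟨A, ?_, hA⟩
      rw [h1, (inj _ _).mpr h1, map_zero]
  · by_cases h2 : t 2 - t 0 = 0
    · obtain ⟨A, hA⟩ := single (t 1 - t 0) (σ (t 1) - σ (t 0)) h1 (fun h => h1 ((inj _ _).mp h))
      refine ⟨A, hA, ?_⟩
      rw [h2, (inj _ _).mpr h2, map_zero]
    · by_cases h12 : t 1 - t 0 = t 2 - t 0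
      · obtain ⟨A, hA⟩ := single (t 1 - t 0) (σ (t 1) - σ (t 0)) h1 (fun h => h1 ((inj _ _).mp h))
        refine ⟨A, hA, ?_⟩
        rw [← h12, hA, inj2.mpr h12]
      · have hu := pair_indep (t 1 - t 0) (t 2 - t 0) h1 h2 h12
        have hv := pair_indep (σ (t 1) - σ (t 0)) (σ (t 2) - σ (t 0))
          (fun h => h1 ((inj _ _).mp h)) (fun h => h2 ((inj _ _).mp h)) (fun h => h12 (inj2.mp h))
        obtain ⟨A, hA⟩ := exists_equiv_of_linindep _ _ hu hv
        exact ⟨A, hA 0, hA 1⟩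

end Cfsg.Agent.S3517
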