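import Mathlib
import Cfsg.Statements.S3518
import Cfsg.Agent.Lib.Helper7.LovSch1

set_option autoImplicit false
open Cfsg

namespace Cfsg.Agent.S3518

open Cfsg.Agent.Lib.Helper7.LovSch

/-- the affine permutation `x ↦ a x + b` -/
def affPerm {R : Type*} [Ring R] (a : Rˣ) (b : R) : Equiv.Perm R where
  toFun x := (a : R) * x + b
  invFun y := ((a⁻¹ : Rˣ) : R) * (y - b)
  left_inv x := by
    show ((a⁻¹ : Rˣ) : R) * ((a : R) * x + b - b) = x
    rw [add_sub_cancel_right, ← mul_assoc, Units.inv_mul, one_mul]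
  right_inv y := by
    show (a : R) * (((a⁻¹ : Rˣ) : R) * (y - b)) + b = y
    rw [← mul_assoc, Units.mul_inv, one_mul, sub_add_cancel]

theorem affPerm_apply {R : Type*} [Ring R] (a : Rˣ) (b x : R) : affPerm a b x = (a : R) * x + b := rfl

theorem affPerm_mem {R : Type*} [Ring R] (a : Rˣ) (b : R) : affPerm a b ∈ Cfsg.affineGroup R :=
  ⟨a, b, fun _ => rfl⟩

theorem eq_affPerm {R : Type*} [Ring R] {σ : Equiv.Perm R} {a : Rˣ} {b : R}
    (h : ∀ x, σ x = (a : R) * x + b) : σ = affPerm a b := Equiv.ext h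

theorem part1 (p : ℕ) [Fact p.Prime] (G : Subgroup (Equiv.Perm (ZMod p))) (hG : G ≤ Cfsg.affineGroup (ZMod p))
    (htrans : ∀ b : ZMod p, ∃ g ∈ G, ∀ x, g x = x + b) (hne : G ≠ Cfsg.affineGroup (ZMod p))
    (σ : Equiv.Perm (ZMod p)) (hσ : ∀ t : Fin 2 → ZMod p, ∃ g ∈ G, ∀ i, σ (t i) = g (t i)) : σ ∈ G := by
  classical
  have hp := (Fact.out : p.Prime)
  -- translations
  have htr : ∀ b : ZMod p, affPerm 1 b ∈ G := by
    intro b
    obtain ⟨g, hg, hgx⟩ := htrans b
    have : g = affPerm 1 b := eq_affPerm (fun x => by rw [hgx, Units.val_one, one_mul])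
    rw [← this]; exact hg
  -- the multiplier group
  let HS : Subgroup (ZMod p)ˣ :=
    { carrier := {a | affPerm a 0 ∈ G}
      one_mem' := htr 0
      mul_mem' := by
        intro a c ha hc
        have : affPerm (a * c) (0 : ZMod p) = affPerm a 0 * affPerm c 0 := by
          ext x
          simp only [Equiv.Perm.mul_apply, affPerm_apply, Units.val_mul]
          ring
        show affPerm (a * c) 0 ∈ G
        rw [this]; exact G.mul_mem ha hc
      inv_mem' := by
        intro a ha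
        have : affPerm a⁻¹ (0 : ZMod p) = (affPerm a 0)⁻¹ := by
          rw [eq_inv_iff_mul_eq_one]
          ext x
          simp only [Equiv.Perm.mul_apply, affPerm_apply, Equiv.Perm.one_apply, add_zero]
          rw [← mul_assoc, Units.inv_mul, one_mul]
        show affPerm a⁻¹ 0 ∈ G
        rw [this]; exact G.inv_mem ha }
  have hHSmem : ∀ a : (ZMod p)ˣ, a ∈ HS ↔ affPerm a 0 ∈ G := fun a => Iff.rfl
  -- decomposition of the elements of `G`
  have hdec : ∀ g ∈ G, ∃ a ∈ HS, ∃ b : ZMod p, ∀ x, g x = (a : ZMod p) * x + b := by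
    intro g hg
    obtain ⟨a, b, hgx⟩ := hG hg
    refine ⟨a, ?_, b, hgx⟩
    rw [hHSmem]
    have : affPerm a (0 : ZMod p) = affPerm 1 (-b) * g := by
      ext x
      simp only [Equiv.Perm.mul_apply, affPerm_apply, hgx, Units.val_one, one_mul]
      ring
    rw [this]; exact G.mul_mem (htr _) hg
  have hcomp : ∀ a ∈ HS, ∀ b : ZMod p, affPerm a b ∈ G := by
    intro a ha b
    have : affPerm a b = affPerm 1 b * affPerm a 0 := by
      ext x
      simp only [Equiv.Perm.mul_apply, affPerm_apply, Units.val_one, one_mul, add_zero]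
    rw [this]; exact G.mul_mem (htr b) ha
  -- `HS` is a proper subgroup
  have hHStop : HS ≠ ⊤ := by
    intro htop
    apply hne
    apply le_antisymm hG
    rintro g ⟨a, b, hgx⟩
    rw [eq_affPerm hgx]
    exact hcomp a (htop ▸ Subgroup.mem_top a) b
  have hcardHS : 2 * Nat.card HS ≤ p - 1 := by
    have h1 := HS.card_mul_index
    rw [Nat.card_eq_fintype_card (α := (ZMod p)ˣ), ZMod.card_units] at h1
    have h2 : HS.index ≠ 1 := fun h => hHStop (Subgroup.index_eq_one.mp h)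
    have h3 : HS.index ≠ 0 := Subgroup.index_ne_zero_of_finite
    have h4 : 2 ≤ HS.index := by omega
    calc 2 * Nat.card HS = Nat.card HS * 2 := by ring
      _ ≤ Nat.card HS * HS.index := Nat.mul_le_mul_left _ h4
      _ = p - 1 := h1
  -- the direction set
  set D : Finset (ZMod p) := ((HS : Set (ZMod p)ˣ).toFinset).image (Units.val : (ZMod p)ˣ → ZMod p) with hDdef
  have hDcard : D.card ≤ Nat.card HS := by
    refine Finset.card_image_le.trans ?_
    rw [Set.toFinset_card, Nat.card_eq_fintype_card]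
    rfl
  have hmemD : ∀ a ∈ HS, (a : ZMod p) ∈ D := by
    intro a ha
    exact Finset.mem_image.mpr ⟨a, Set.mem_toFinset.mpr ha, rfl⟩
  have hD : ∀ x y : ZMod p, x ≠ y → ∃ d ∈ D, σ x - σ y = d * (x - y) := by
    intro x y _
    obtain ⟨g, hg, hgt⟩ := hσ ![x, y]
    obtain ⟨a, ha, b, hgx⟩ := hdec g hg
    have h0 : σ x = g x := hgt 0
    have h1 : σ y = g y := hgt 1
    refine ⟨a, hmemD a ha, ?_⟩
    rw [h0, h1, hgx, hgx]
    ring
  have hp2 := hp.two_le
  obtain ⟨a', b', hσx⟩ := affine_of_few_directions (fun x => σ x) D hD (by omega)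
  -- the slope lies in `HS`
  obtain ⟨d, hd, hd'⟩ := hD 1 0 one_ne_zero
  rw [hσx 1, hσx 0] at hd'
  have ha'd : a' = d := by
    have : a' * 1 + b' - (a' * 0 + b') = a' := by ring
    rw [this] at hd'
    rw [hd', sub_zero, mul_one]
  obtain ⟨a, ha, rfl⟩ := Finset.mem_image.mp hd
  have haHS : a ∈ HS := Set.mem_toFinset.mp ha
  have : σ = affPerm a b' := eq_affPerm (fun x => by rw [hσx x, ha'd])
  rw [this]
  exact hcomp a haHS b'

theorem result (p : ℕ) [Fact p.Prime] (G : Subgroup (Equiv.Perm (ZMod p))) (hG : G ≤ Cfsg.affineGroup (ZMod p))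
    (htrans : ∀ b : ZMod p, ∃ g ∈ G, ∀ x, g x = x + b) :
    (G ≠ Cfsg.affineGroup (ZMod p) → ∀ σ : Equiv.Perm (ZMod p), (∀ t : Fin 2 → ZMod p, ∃ g ∈ G, ∀ i, σ (t i) = g (t i)) → σ ∈ G) ∧
    (∀ σ : Equiv.Perm (ZMod p), (∀ t : Fin 2 → ZMod p, ∃ g ∈ Cfsg.affineGroup (ZMod p), ∀ i, σ (t i) = g (t i))) ∧
    (∀ σ : Equiv.Perm (ZMod p), (∀ t : Fin 3 → ZMod p, ∃ g ∈ Cfsg.affineGroup (ZMod p), ∀ i, σ (t i) = g (t i)) → σ ∈ Cfsg.affineGroup (ZMod p)) := by
  refine ⟨fun hne σ hσ => part1 p G hG htrans hne σ hσ, ?_, ?_⟩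
  · intro σ t
    by_cases h : t 0 = t 1
    · refine ⟨affPerm 1 (σ (t 0) - t 0), affPerm_mem _ _, ?_⟩
      intro i
      fin_cases i
      · show σ (t 0) = affPerm 1 (σ (t 0) - t 0) (t 0)
        rw [affPerm_apply, Units.val_one, one_mul]; ring
      · show σ (t 1) = affPerm 1 (σ (t 0) - t 0) (t 1)
        rw [affPerm_apply, Units.val_one, one_mul, ← h]; ring
    · have h1 : t 1 - t 0 ≠ 0 := sub_ne_zero.mpr (Ne.symm h)
      have h2 : σ (t 1) - σ (t 0) ≠ 0 :=
        sub_ne_zero.mpr (fun e => h (σ.injective e).symm)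
      have h3 : (σ (t 1) - σ (t 0)) / (t 1 - t 0) ≠ 0 := div_ne_zero h2 h1
      refine ⟨affPerm (Units.mk0 _ h3) (σ (t 0) - (σ (t 1) - σ (t 0)) / (t 1 - t 0) * t 0),
        affPerm_mem _ _, ?_⟩
      intro i
      fin_cases i
      · show σ (t 0) = affPerm _ _ (t 0)
        rw [affPerm_apply, Units.val_mk0]; ring
      · show σ (t 1) = affPerm _ _ (t 1)
        rw [affPerm_apply, Units.val_mk0]
        field_simp
        ring
  · intro σ hσ
    have key : ∀ c : ZMod p, σ c = (σ 1 - σ 0) * c + σ 0 := by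
      intro c
      obtain ⟨g, ⟨a, b, hgx⟩, hgt⟩ := hσ ![0, 1, c]
      have h0 : σ 0 = g 0 := hgt 0
      have h1 : σ 1 = g 1 := hgt 1
      have h2 : σ c = g c := hgt 2
      rw [h0, h1, h2, hgx, hgx, hgx]
      ring
    have hne : σ 1 - σ 0 ≠ 0 := sub_ne_zero.mpr (fun e => one_ne_zero (σ.injective e))
    exact ⟨Units.mk0 _ hne, σ 0, fun x => by rw [Units.val_mk0]; exact key x⟩

end Cfsg.Agent.S3518
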