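import Mathlib
import Cfsg.Statements.S3532
import Cfsg.Agent.Lib.Helper7.AffFrob2

set_option autoImplicit false
open Cfsg

namespace Cfsg.Agent.S3532

open Cfsg.Agent.Lib.Helper7

/-- Let q ≥ 4 be a prime power and L = PSL(2,q). There is a finite solvable group with the same set of element orders as L × L (so L × L is not determined by its spectrum). -/
theorem result {F : Type*} [Field F] [Fintype F] (hF : 4 ≤ Fintype.card F) :
    ∃ (H : Type) (_ : Group H) (_ : Finite H), Group.IsSolvable H ∧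
      Set.range (orderOf : H → ℕ) = Set.range (orderOf : Matrix.ProjectiveSpecialLinearGroup (Fin 2) F × Matrix.ProjectiveSpecialLinearGroup (Fin 2) F → ℕ) := by
  classical
  obtain ⟨p, hc⟩ := CharP.exists F
  haveI := hc
  obtain ⟨k, hp, hk⟩ := FiniteField.card F p
  haveI : Fact p.Prime := ⟨hp⟩
  set q := Fintype.card F with hq
  have hspec := Cfsg.Agent.S2475.result (F := F) p hF
  rw [← hq] at hspec
  set d := Nat.gcd 2 (q - 1) with hd
  set m2 := (q - 1) / d with hm2
  set m3 := (q + 1) / d with hm3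
  have hk0 : (k : ℕ) ≠ 0 := k.pos.ne'
  -- the two fields
  have hcard2 : Nat.card (GaloisField p k) = q := by rw [GaloisField.card p k hk0, hk]
  have hcard3 : Nat.card (GaloisField p (2 * k)) = q ^ 2 := by
    rw [GaloisField.card p (2 * k) (by omega), hk, ← pow_mul, mul_comm]
  have hd1 : d ∣ q - 1 := Nat.gcd_dvd_right 2 (q - 1)
  have hd2 : d ∣ q + 1 := by
    have h1 : d ∣ 2 := Nat.gcd_dvd_left 2 (q - 1)
    have h2 : q + 1 = (q - 1) + 2 := by omega
    rw [h2]; exact dvd_add hd1 h1
  have hm2d : m2 ∣ Nat.card (GaloisField p k) - 1 := by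
    rw [hcard2]; exact Nat.div_dvd_of_dvd hd1
  have hm3d : m3 ∣ Nat.card (GaloisField p (2 * k)) - 1 := by
    rw [hcard3]
    have h1 : m3 ∣ q + 1 := Nat.div_dvd_of_dvd hd2
    have h2 : q ^ 2 - 1 = (q + 1) * (q - 1) := by
      obtain ⟨r, hr⟩ : ∃ r, q = r + 1 := Nat.exists_eq_succ_of_ne_zero (by omega)
      rw [hr]
      apply Nat.sub_eq_of_eq_add
      rw [Nat.add_sub_cancel]
      ring
    rw [h2]
    exact h1.trans (dvd_mul_right _ _)
  obtain ⟨X, hXg, hXf, hXs, hXspec⟩ := exists_frob_group (GaloisField p k) p m2 hm2d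
  obtain ⟨Y, hYg, hYf, hYs, hYspec⟩ := exists_frob_group (GaloisField p (2 * k)) p m3 hm3d
  refine ⟨X × Y, inferInstance, inferInstance, inferInstance, ?_⟩
  rw [spectrum_prod, spectrum_prod, hXspec, hYspec, hspec]
  exact lcm_sets_eq p m2 m3

end Cfsg.Agent.S3532
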