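import Cfsg.Statements.S3554
import Mathlib

set_option autoImplicit false
open Cfsg

namespace Cfsg.Agent.S3554

/-- Let G act faithfully and transitively on a finite set and suppose G has a non-trivial cyclic normal subgroup. Then some element of G of prime order fixes no point. -/
theorem result {G Ω : Type*} [Group G] [Finite G] [MulAction G Ω] [FaithfulSMul G Ω] [Finite Ω]
    (htrans : MulAction.IsPretransitive G Ω) (C : Subgroup G) (hC : C.Normal) (hC1 : C ≠ ⊥) (hcyc : IsCyclic ↥C) :
    ∃ g : G, (orderOf g).Prime ∧ ∀ ω : Ω, g • ω ≠ ω := by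
  obtain ⟨z, hz⟩ := hcyc.exists_generator
  have hn : orderOf (z : G) = Nat.card C := by
    rw [Subgroup.orderOf_coe]
    exact orderOf_eq_card_of_forall_mem_zpowers hz
  have hn1 : orderOf (z : G) ≠ 1 := by
    rw [hn]
    intro h1
    exact hC1 (Subgroup.card_eq_one.mp h1)
  obtain ⟨p, hp, hpn⟩ := Nat.exists_prime_and_dvd hn1
  have hn0 : orderOf (z : G) ≠ 0 := (orderOf_pos _).ne'
  set g : G := (z : G) ^ (orderOf (z : G) / p) with hg
  have hgo : orderOf g = p := orderOf_pow_orderOf_div hn0 hpn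
  refine ⟨g, by rw [hgo]; exact hp, ?_⟩
  intro ω hω
  have hconj : ∀ x : G, ∃ k : ℤ, x⁻¹ * g * x = g ^ k := by
    intro x
    have hmem : x⁻¹ * (z : G) * x ∈ C := by
      have := hC.conj_mem (z : G) z.2 x⁻¹
      rwa [inv_inv] at this
    obtain ⟨k, hk⟩ := Subgroup.mem_zpowers_iff.mp (hz ⟨_, hmem⟩)
    have hk' : (z : G) ^ k = x⁻¹ * (z : G) * x := by
      have := congrArg (Subtype.val) hk
      simpa using this
    refine ⟨k, ?_⟩
    have h1 : x⁻¹ * g * x = (x⁻¹ * (z : G) * x) ^ (orderOf (z : G) / p) := by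
      rw [hg]
      have := map_pow (MulAut.conj x⁻¹) (z : G) (orderOf (z : G) / p)
      simp only [MulAut.conj_apply, inv_inv] at this
      exact this
    rw [h1, ← hk', hg, ← zpow_natCast, ← zpow_natCast, ← zpow_mul, ← zpow_mul, mul_comm]
  have hall : ∀ ω' : Ω, g • ω' = ω' := by
    intro ω'
    obtain ⟨x, rfl⟩ := MulAction.exists_smul_eq G ω ω'
    obtain ⟨k, hk⟩ := hconj x
    have hgk : g ^ k • ω = ω := by
      have hmem : g ∈ MulAction.stabilizer G ω := hω
      exact (MulAction.stabilizer G ω).zpow_mem hmem k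
    have : g * x = x * (x⁻¹ * g * x) := by group
    rw [← mul_smul, this, hk, mul_smul, hgk]
  have hg1 : g = 1 := by
    apply FaithfulSMul.eq_of_smul_eq_smul (α := Ω)
    intro a
    rw [hall a, one_smul]
  rw [hg1, orderOf_one] at hgo
  exact hp.one_lt.ne hgo

end Cfsg.Agent.S3554
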