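import Cfsg.Statements.S3555
import Mathlib
import Cfsg.Agent.Lib.Helper7.DerInvol

set_option autoImplicit false
open Cfsg

namespace Cfsg.Agent.S3555

open scoped Pointwise

theorem comm_of_sq {G : Type*} [Group G] (a b : G) (haa : a * a = 1) (hbb : b * b = 1)
    (hab : a * b * (a * b) = 1) : a * b = b * a := by
  have h : a * (a * b * (a * b)) * b = (a * a) * (b * a) * (b * b) := by group
  rw [hab, haa, hbb] at h
  simpa using h

/-- Let G act faithfully and transitively on a finite set and suppose every element of G fixing no point is an involution. Then either G is an elementary abelian 2-group, or G is a Frobenius group whose Frobenius kernel is an elementary abelian 2-group: G has a Frobenius complement H, and the elements lying in no conjugate of H, together with the identity, pairwise commute and square to the identity. -/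
theorem result {G Ω : Type*} [Group G] [Finite G] [MulAction G Ω] [FaithfulSMul G Ω] [Finite Ω]
    (htrans : MulAction.IsPretransitive G Ω) (hinv : ∀ g : G, (∀ ω : Ω, g • ω ≠ ω) → orderOf g = 2) :
    (IsMulCommutative G ∧ ∀ g : G, g ^ 2 = 1) ∨
    (∃ H : Subgroup G, Cfsg.IsFrobeniusComplement H ∧
      (∀ x ∈ Cfsg.frobeniusKernel H, x ^ 2 = 1) ∧
      ∀ x ∈ Cfsg.frobeniusKernel H, ∀ y ∈ Cfsg.frobeniusKernel H, x * y = y * x) := by
  classical
  by_cases hsmall : ∀ g : G, ∀ ω : Ω, g • ω = ω
  · have hG1 : ∀ g : G, g = 1 := fun g =>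
      FaithfulSMul.eq_of_smul_eq_smul (α := Ω) (fun a => by rw [hsmall g a, one_smul])
    left
    exact ⟨⟨⟨fun a b => by rw [hG1 a, hG1 b]⟩⟩, fun g => by rw [hG1 g, one_pow]⟩
  push Not at hsmall
  obtain ⟨g₀, α₀, hg₀⟩ := hsmall
  haveI : Nonempty Ω := ⟨α₀⟩
  have hinv' : ∀ g : G, (∀ ω : Ω, g • ω ≠ ω) → g * g = 1 := by
    intro g hg
    have := hinv g hg
    rw [← pow_two, ← this]
    exact pow_orderOf_eq_one g
  have hcount := Cfsg.Agent.Lib.Helper7.derInvol_counting htrans hinv'
  have ha : ∀ g : G, g ≠ 1 → ∀ γ δ : Ω, g • γ = γ → g • δ = δ → γ = δ := by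
    intro g hg1 γ δ hγ hδ
    rcases hcount g ⟨γ, hγ⟩ with h | h
    · rw [Nat.card_coe_set_eq, Set.ncard_eq_one] at h
      obtain ⟨a, ha⟩ := h
      have h1 : γ ∈ MulAction.fixedBy Ω g := hγ
      have h2 : δ ∈ MulAction.fixedBy Ω g := hδ
      rw [ha] at h1 h2
      exact (Set.mem_singleton_iff.mp h1).trans (Set.mem_singleton_iff.mp h2).symm
    · exfalso
      apply hg1
      have huniv : MulAction.fixedBy Ω g = Set.univ := by
        apply Set.eq_of_subset_of_ncard_le (Set.subset_univ _) _ (Set.toFinite _)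
        rw [Set.ncard_univ, ← Nat.card_coe_set_eq, h]
      apply FaithfulSMul.eq_of_smul_eq_smul (α := Ω)
      intro ω
      rw [one_smul]
      have : ω ∈ MulAction.fixedBy Ω g := by rw [huniv]; exact Set.mem_univ _
      exact this
  have hb : ∀ t t' : G, (∀ ω : Ω, t • ω ≠ ω) → (∀ ω : Ω, t' • ω ≠ ω) →
      ∀ γ : Ω, t • γ = t' • γ → t = t' := by
    intro t t' ht ht' γ h
    by_contra hne
    have hne' : t⁻¹ * t' ≠ 1 := by
      intro h1
      apply hne
      rw [inv_mul_eq_one] at h1
      exact h1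
    have h1 : (t⁻¹ * t') • γ = γ := by rw [mul_smul, ← h, inv_smul_smul]
    have htt : t * t = 1 := hinv' t ht
    have htt' : t' * t' = 1 := hinv' t' ht'
    have hinv_t : t⁻¹ = t := inv_eq_of_mul_eq_one_left htt
    have h2 : (t⁻¹ * t') • (t • γ) = t • γ := by
      rw [mul_smul, h, ← mul_smul t' t', htt', one_smul, hinv_t, h]
    exact ht γ (ha _ hne' γ (t • γ) h1 h2).symm
  have hc : ∀ x y : G, (∀ ω : Ω, x • ω ≠ ω) → (∀ ω : Ω, y • ω ≠ ω) → x ≠ y →
      ∀ ω : Ω, (x * y) • ω ≠ ω := by
    intro x y hx hy hxy ω h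
    apply hxy
    apply hb x y hx hy ω
    have hxx : x * x = 1 := hinv' x hx
    rw [mul_smul] at h
    calc x • ω = x • (x • (y • ω)) := by rw [h]
      _ = y • ω := by rw [← mul_smul, hxx, one_smul]
  set H := MulAction.stabilizer G α₀ with hH
  by_cases hHbot : H = ⊥
  · left
    have hder : ∀ g : G, g ≠ 1 → ∀ ω : Ω, g • ω ≠ ω := by
      intro g hg1 ω hω
      obtain ⟨x, hx⟩ := MulAction.exists_smul_eq G α₀ ω
      have hmem : x⁻¹ * g * x ∈ H := by
        show (x⁻¹ * g * x) • α₀ = α₀
        rw [mul_smul, mul_smul, hx, hω, ← hx, inv_smul_smul]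
      rw [hHbot, Subgroup.mem_bot] at hmem
      apply hg1
      have : g = x * (x⁻¹ * g * x) * x⁻¹ := by group
      rw [this, hmem]
      group
    have hsq : ∀ g : G, g * g = 1 := by
      intro g
      by_cases hg1 : g = 1
      · rw [hg1, one_mul]
      · exact hinv' g (hder g hg1)
    refine ⟨⟨⟨fun a b => comm_of_sq a b (hsq a) (hsq b) (hsq _)⟩⟩, fun g => by rw [pow_two, hsq]⟩
  · right
    refine ⟨H, ⟨hHbot, ?_, ?_⟩, ?_⟩
    · intro htop
      have : g₀ ∈ H := by rw [htop]; exact Subgroup.mem_top _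
      exact hg₀ this
    · intro g hg
      rw [eq_bot_iff]
      rintro x ⟨hx1, hx2⟩
      rw [Subgroup.mem_bot]
      by_contra hx
      have hx2' : x ∈ MulAut.conj g • H := hx2
      rw [Subgroup.mem_pointwise_smul_iff_inv_smul_mem] at hx2'
      have h3 : (g⁻¹ * x * g) • α₀ = α₀ := by
        have : (MulAut.conj g)⁻¹ • x = g⁻¹ * x * g := by
          simp [MulAut.smul_def, MulAut.conj_inv_apply]
        rw [this] at hx2'
        exact hx2'
      have h4 : x • (g • α₀) = g • α₀ := by
        calc x • (g • α₀) = g • ((g⁻¹ * x * g) • α₀) := by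
              rw [← mul_smul, ← mul_smul]; congr 1; group
          _ = g • α₀ := by rw [h3]
      have h5 : x • α₀ = α₀ := hx1
      exact hg (ha x hx α₀ (g • α₀) h5 h4).symm
    · have hker : ∀ x ∈ Cfsg.frobeniusKernel H, x = 1 ∨ ∀ ω : Ω, x • ω ≠ ω := by
        intro x hx
        rcases hx with h | h
        · exact Or.inl h
        · right
          intro ω hω
          obtain ⟨g, hg⟩ := MulAction.exists_smul_eq G α₀ ω
          apply h g
          rw [Subgroup.mem_pointwise_smul_iff_inv_smul_mem]
          have : (MulAut.conj g)⁻¹ • x = g⁻¹ * x * g := by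
            simp [MulAut.smul_def, MulAut.conj_inv_apply]
          rw [this]
          show (g⁻¹ * x * g) • α₀ = α₀
          rw [mul_smul, mul_smul, hg, hω, ← hg, inv_smul_smul]
      have hsqK : ∀ x ∈ Cfsg.frobeniusKernel H, x * x = 1 := by
        intro x hx
        rcases hker x hx with h | h
        · rw [h, one_mul]
        · exact hinv' x h
      refine ⟨fun x hx => by rw [pow_two]; exact hsqK x hx, ?_⟩
      intro x hx y hy
      rcases hker x hx with h | h
      · rw [h, one_mul, mul_one]
      rcases hker y hy with h' | h'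
      · rw [h', one_mul, mul_one]
      by_cases hxy : x = y
      · rw [hxy]
      exact comm_of_sq x y (hsqK x hx) (hsqK y hy) (hinv' _ (hc x y h h' hxy))

end Cfsg.Agent.S3555
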