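import Mathlib
import Cfsg.Statements.S3560
import Cfsg.Agent.Lib.Helper7.Hamming

set_option autoImplicit false
open Cfsg

namespace Cfsg.Agent.S3560

open Cfsg.Agent.Lib.Helper7.Ham MulAction

section
variable {K : Type*} [Group K] {ι : Type*} [Fintype ι] {F : ι → Type*} [∀ i, Group (F i)]
  {m : ℕ} (b : ∀ i, F i ≃ Fin m) (e : K ≃* (∀ i, F i))

/-- the regular representation of `K` on `ι → Fin m` -/
noncomputable def lam : K →* Equiv.Perm (ι → Fin m) where
  toFun k := cw (fun i => (b i).permCongr (Equiv.mulLeft ((e k) i)))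
  map_one' := by
    ext w i
    simp [cw_apply, Equiv.permCongr_apply]
  map_mul' := by
    intro k k'
    ext w i
    simp [cw_apply, Equiv.permCongr_apply, Equiv.Perm.mul_apply, mul_assoc]

theorem lam_apply (k : K) (w : ι → Fin m) (i : ι) :
    lam b e k w i = b i ((e k) i * (b i).symm (w i)) := by
  simp [lam, cw_apply, Equiv.permCongr_apply]

theorem lam_mem (k : K) : lam b e k ∈ isoGp ι m := by
  classical
  exact cw_mem _

theorem lam_free (k : K) (w : ι → Fin m) (h : lam b e k w = w) : k = 1 := by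
  apply e.injective
  rw [map_one]
  funext i
  have h1 := congrFun h i
  rw [lam_apply] at h1
  have h2 : (e k) i * (b i).symm (w i) = (b i).symm (w i) := by
    apply (b i).injective
    rw [h1, Equiv.apply_symm_apply]
  exact mul_eq_right.mp h2

theorem lam_injective : Function.Injective (lam b e) := by
  classical
  rw [injective_iff_map_eq_one]
  intro k hk
  by_cases hne : Nonempty (ι → Fin m)
  · obtain ⟨w⟩ := hne
    exact lam_free b e k w (by rw [hk]; rfl)
  · -- no points: some `Fin m` is empty, so some `F i` is empty, impossible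
    exfalso
    apply hne
    exact ⟨fun i => b i 1⟩

theorem lam_trans (w w' : ι → Fin m) : ∃ k : K, lam b e k w = w' := by
  refine ⟨e.symm (fun i => (b i).symm (w' i) * ((b i).symm (w i))⁻¹), ?_⟩
  funext i
  rw [lam_apply]
  simp

end

/-- Let K be a finite group isomorphic to a direct product of r ≥ 2 groups all of the same order m ≥ 3. Then K is not a B-group: there is a primitive but not doubly transitive permutation group (on some finite set) containing a regular subgroup isomorphic to K. -/
theorem result {K : Type*} [Group K] [Finite K] {ι : Type*} [Fintype ι] (F : ι → Type*) [∀ i, Group (F i)]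
    (hr : 2 ≤ Fintype.card ι) (m : ℕ) (hm : 3 ≤ m) (hcard : ∀ i, Nat.card (F i) = m) (e : K ≃* (∀ i, F i)) :
    ∃ (n : ℕ) (G R : Subgroup (Equiv.Perm (Fin n))), R ≤ G ∧ Nonempty (↥R ≃* K) ∧
      MulAction.IsPretransitive ↥R (Fin n) ∧ (∀ a : Fin n, MulAction.stabilizer ↥R a = ⊥) ∧
      MulAction.IsPreprimitive ↥G (Fin n) ∧ ¬ MulAction.IsMultiplyPretransitive ↥G (Fin n) 2 := by
  classical
  have hfin : ∀ i, Finite (F i) := fun i =>
    Nat.finite_of_card_ne_zero (by rw [hcard i]; omega)
  let b : ∀ i, F i ≃ Fin m := fun i => Finite.equivFinOfCardEq (hcard i)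
  let c : (ι → Fin m) ≃ Fin (Fintype.card (ι → Fin m)) := Fintype.equivFin _
  let ψ : Equiv.Perm (ι → Fin m) ≃* Equiv.Perm (Fin (Fintype.card (ι → Fin m))) :=
    c.permCongrHom
  have hψ : ∀ (σ : Equiv.Perm (ι → Fin m)) (w : ι → Fin m), ψ σ (c w) = c (σ w) := by
    intro σ w
    simp [ψ, Equiv.permCongrHom, Equiv.permCongr_apply]
  refine ⟨Fintype.card (ι → Fin m), (isoGp ι m).map ψ.toMonoidHom,
    (lam b e).range.map ψ.toMonoidHom, ?_, ?_, ?_, ?_, ?_, ?_⟩
  · apply Subgroup.map_mono
    rintro _ ⟨k, rfl⟩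
    exact lam_mem b e k
  · refine ⟨((Subgroup.equivMapOfInjective (lam b e).range ψ.toMonoidHom ψ.injective).symm).trans
      (MonoidHom.ofInjective (lam_injective b e)).symm⟩
  · constructor
    intro x y
    obtain ⟨k, hk⟩ := lam_trans b e (c.symm x) (c.symm y)
    refine ⟨⟨ψ (lam b e k), Subgroup.mem_map_of_mem _ ⟨k, rfl⟩⟩, ?_⟩
    show ψ (lam b e k) x = y
    have := hψ (lam b e k) (c.symm x)
    rw [Equiv.apply_symm_apply, hk, Equiv.apply_symm_apply] at this
    exact this
  · intro a
    rw [Subgroup.eq_bot_iff_forall]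
    rintro ⟨g, hg⟩ hga
    obtain ⟨σ, ⟨k, rfl⟩, rfl⟩ := hg
    have hga' : ψ (lam b e k) a = a := hga
    have := hψ (lam b e k) (c.symm a)
    rw [Equiv.apply_symm_apply, hga'] at this
    have h2 : lam b e k (c.symm a) = c.symm a := by
      apply c.injective
      rw [← this, Equiv.apply_symm_apply]
    have hk1 := lam_free b e k _ h2
    subst hk1
    apply Subtype.ext
    show ψ.toMonoidHom (lam b e 1) = 1
    rw [map_one, map_one]
  · haveI := isPreprimitive (ι := ι) (m := m) hm
    let φ : isoGp ι m → (isoGp ι m).map ψ.toMonoidHom :=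
      fun σ => ⟨ψ σ.1, Subgroup.mem_map_of_mem _ σ.2⟩
    let f : (ι → Fin m) →ₑ[φ] Fin (Fintype.card (ι → Fin m)) :=
      { toFun := c
        map_smul' := by
          intro σ w
          show c (σ.1 w) = ψ σ.1 (c w)
          rw [hψ] }
    exact IsPreprimitive.of_surjective (f := f) c.surjective
  · intro h2
    apply not_two_pretransitive (ι := ι) (m := m) hr (by omega)
    rw [is_two_pretransitive_iff] at h2 ⊢
    intro w1 w2 w3 w4 h12 h34
    obtain ⟨⟨g, hg⟩, hg1, hg2⟩ := h2 (a := c w1) (b := c w2) (c := c w3) (d := c w4)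
      (fun h => h12 (c.injective h)) (fun h => h34 (c.injective h))
    obtain ⟨σ, hσ, rfl⟩ := hg
    refine ⟨⟨σ, hσ⟩, ?_, ?_⟩
    · show σ w1 = w3
      apply c.injective
      rw [← hψ]; exact hg1
    · show σ w2 = w4
      apply c.injective
      rw [← hψ]; exact hg2

end Cfsg.Agent.S3560
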