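import Cfsg.Statements.S3571
import Cfsg.Agent.Lib.Helper6.S3571_MAIN
import Cfsg.Agent.Lib.Helper5.SylSchur_Assemble
import Cfsg.Agent.Lib.Helper4.SylSchur_R2

set_option autoImplicit false
open Cfsg

namespace Cfsg.Agent.S3571

/-- Let G be an almost simple group whose socle is an alternating group of degree m ≥ 5 (G has a normal subgroup T isomorphic to that alternating group with trivial centralizer), acting faithfully and primitively on a finite set Ω with at least two points, and let r be the largest prime divisor of the number of points. Then G contains an element of order r fixing no point. -/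
theorem result {G Ω : Type*} [Group G] [Finite G] [MulAction G Ω] [FaithfulSMul G Ω] [Finite Ω]
    (T : Subgroup G) (hT : T.Normal) (hTc : Subgroup.centralizer (T : Set G) = ⊥) (m : ℕ) (hm : 5 ≤ m)
    (eT : ↥T ≃* ↥(alternatingGroup (Fin m))) (hprim : MulAction.IsPreprimitive G Ω) (hΩ : 2 ≤ Nat.card Ω)
    (r : ℕ) (hr : r.Prime) (hrd : r ∣ Nat.card Ω) (hmax : ∀ s : ℕ, s.Prime → s ∣ Nat.card Ω → s ≤ r) :
    ∃ g : G, orderOf g = r ∧ ∀ ω : Ω, g • ω ≠ ω := by
  classical
  have _hnt : Nontrivial Ω := Finite.one_lt_card_iff_nontrivial.mp (by omega)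
  obtain ⟨ω₀⟩ : Nonempty Ω := inferInstance
  have _hTn : T.Normal := hT
  have _htr : MulAction.IsPretransitive G Ω := hprim.toIsPretransitive
  have hH : IsCoatom (MulAction.stabilizer G ω₀) :=
    (MulAction.isCoatom_stabilizer_iff_preprimitive G ω₀).mpr hprim
  have hidx : (MulAction.stabilizer G ω₀).index = Nat.card Ω :=
    MulAction.index_stabilizer_of_transitive G ω₀
  -- `T` is not contained in the point stabiliser
  have hcore : ¬ T ≤ MulAction.stabilizer G ω₀ := by
    intro hle
    -- then `T` fixes every point, hence is trivial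
    have hfix : ∀ t ∈ T, ∀ ω : Ω, t • ω = ω := by
      intro t ht ω
      obtain ⟨x, rfl⟩ := MulAction.exists_smul_eq G ω₀ ω
      have h1 : x⁻¹ * t * x ∈ T := by
        have := hT.conj_mem t ht x⁻¹
        simpa using this
      have h2 : (x⁻¹ * t * x) • ω₀ = ω₀ := hle h1
      calc t • x • ω₀ = x • ((x⁻¹ * t * x) • ω₀) := by simp [mul_smul]
        _ = x • ω₀ := by rw [h2]
    have htriv : ∀ t ∈ T, t = 1 := by
      intro t ht
      apply FaithfulSMul.eq_of_smul_eq_smul (α := Ω)
      intro ω
      rw [hfix t ht ω, one_smul]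
    -- but `T ≅ A_m` is nontrivial
    have _hnA : Nontrivial (alternatingGroup (Fin m)) :=
      alternatingGroup.nontrivial_of_three_le_card (by simp; omega)
    obtain ⟨a, ha⟩ := exists_ne (1 : alternatingGroup (Fin m))
    apply ha
    have h3 : ((eT.symm a : T) : G) = 1 := htriv _ (eT.symm a).2
    have h4 : eT.symm a = 1 := Subtype.ext h3
    have := congrArg eT h4
    simpa using this
  obtain ⟨g, hord, hconj⟩ :=
    Cfsg.Agent.Lib.S3571.main_subgroup
      (Cfsg.Agent.Lib.S3571.sylvester_schur_of_mid15 Cfsg.Agent.Lib.Helper4.SylSchurR2.ss_mid) T hT hTc m hm eT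
      (MulAction.stabilizer G ω₀) hH hcore r hr (by rw [hidx]; exact hrd)
      (fun s hs hsd => hmax s hs (by rwa [hidx] at hsd))
  refine ⟨g, hord, ?_⟩
  intro ω hω
  obtain ⟨x, rfl⟩ := MulAction.exists_smul_eq G ω₀ ω
  apply hconj x
  rw [MulAction.mem_stabilizer_iff, mul_smul, mul_smul, hω, inv_smul_smul]

end Cfsg.Agent.S3571
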