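import Mathlib
import Cfsg.Statements.S3573

set_option autoImplicit false
open Cfsg

namespace Cfsg.Agent.S3573

open Equiv

variable {n : ℕ}

theorem card_support_of_mem {r : ℕ} (hr : r.Prime) {σ c : Perm (Fin n)} (hσ : orderOf σ = r)
    (hc : c ∈ σ.cycleFactorsFinset) : c.support.card = r := by
  have hmem : c.support.card ∈ σ.cycleType := by
    rw [Perm.cycleType_def]
    exact Multiset.mem_map.mpr ⟨c, hc, rfl⟩
  have h1 := Perm.dvd_of_mem_cycleType hmem
  have h2 := Perm.two_le_of_mem_cycleType hmem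
  rw [hσ] at h1
  rcases (Nat.dvd_prime hr).mp h1 with h | h
  · omega
  · exact h

theorem inv_subset {r : ℕ} (hr : r.Prime) (σ : Perm (Fin n)) (hσ : orderOf σ = r) (j : ℕ)
    (hj : j ≤ σ.cycleFactorsFinset.card) :
    ∃ T : Finset (Fin n), T ⊆ σ.support ∧ T.image σ = T ∧ T.card = j * r := by
  obtain ⟨C, hC, hCj⟩ := Finset.exists_subset_card_eq hj
  refine ⟨C.biUnion Perm.support, ?_, ?_, ?_⟩
  · intro x hx
    obtain ⟨c, hc, hxc⟩ := Finset.mem_biUnion.mp hx
    exact Perm.mem_cycleFactorsFinset_support_le (hC hc) hxc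
  · apply Finset.eq_of_subset_of_card_le
    · intro y hy
      obtain ⟨x, hx, rfl⟩ := Finset.mem_image.mp hy
      obtain ⟨c, hc, hxc⟩ := Finset.mem_biUnion.mp hx
      have h1 := (Perm.mem_cycleFactorsFinset_iff.mp (hC hc)).2 x hxc
      rw [← h1]
      exact Finset.mem_biUnion.mpr ⟨c, hc, Perm.apply_mem_support.mpr hxc⟩
    · rw [Finset.card_image_of_injective _ σ.injective]
  · rw [Finset.card_biUnion]
    · rw [Finset.sum_congr rfl (fun c hc => card_support_of_mem hr hσ (hC hc)), Finset.sum_const,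
        hCj, smul_eq_mul]
    · intro c hc d hd hcd
      exact (Perm.cycleFactorsFinset_pairwise_disjoint σ (hC hc) (hC hd) hcd).disjoint_support

theorem card_support_eq {r : ℕ} (hr : r.Prime) (σ : Perm (Fin n)) (hσ : orderOf σ = r) :
    σ.support.card = σ.cycleFactorsFinset.card * r := by
  rw [← Perm.sum_cycleType, Perm.cycleType_def, ← Finset.sum_eq_multiset_sum,
    Finset.sum_congr rfl (fun c hc => by
      show (Finset.card ∘ Perm.support) c = r
      exact card_support_of_mem hr hσ hc), Finset.sum_const, smul_eq_mul]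

theorem exists_inv_of_le {r : ℕ} (hr : r.Prime) {k : ℕ} (hkn : k ≤ n) (hmod : k % r ≤ n % r)
    (σ : Perm (Fin n)) (hσ : orderOf σ = r) :
    ∃ s : Finset (Fin n), s.card = k ∧ s.image σ = s := by
  obtain ⟨m, hm⟩ : ∃ m, m = σ.cycleFactorsFinset.card := ⟨_, rfl⟩
  have hsupp : σ.support.card = m * r := by rw [hm]; exact card_support_eq hr σ hσ
  have hF : (σ.support)ᶜ.card = n - m * r := by
    rw [Finset.card_compl, Fintype.card_fin, hsupp]
  have hmr : m * r ≤ n := by
    rw [← hsupp]
    exact (Finset.card_le_univ _).trans (by simp)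
  obtain ⟨j, hj⟩ : ∃ j, j = min (k / r) m := ⟨_, rfl⟩
  obtain ⟨T, hT1, hT2, hT3⟩ := inv_subset hr σ hσ j (by rw [hj, ← hm]; exact min_le_right _ _)
  have hjr : j * r ≤ k := by
    rw [hj]
    exact (Nat.mul_le_mul_right r (min_le_left _ _)).trans (Nat.div_mul_le_self k r)
  have hrest : k - j * r ≤ (σ.support)ᶜ.card := by
    rw [hF]
    rcases le_total (k / r) m with h | h
    · have hjeq : j = k / r := by rw [hj]; exact min_eq_left h
      rw [hjeq]
      have h1 : k - k / r * r = k % r := by
        have := Nat.div_add_mod k r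
        rw [mul_comm] at this
        omega
      rw [h1]
      have h2 : (n - m * r) % r = n % r := by
        conv_rhs => rw [← Nat.sub_add_cancel hmr]
        rw [Nat.add_mul_mod_self_right]
      calc k % r ≤ n % r := hmod
        _ = (n - m * r) % r := h2.symm
        _ ≤ n - m * r := Nat.mod_le _ _
    · have hjeq : j = m := by rw [hj]; exact min_eq_right h
      rw [hjeq]; omega
  obtain ⟨U, hU1, hU2⟩ := Finset.exists_subset_card_eq hrest
  refine ⟨T ∪ U, ?_, ?_⟩
  · rw [Finset.card_union_of_disjoint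
      (Finset.disjoint_of_subset_left hT1 (Finset.disjoint_of_subset_right hU1
        disjoint_compl_right)), hT3, hU2]
    omega
  · rw [Finset.image_union, hT2]
    congr 1
    have hfix : ∀ x ∈ U, σ x = x := fun x hx => by
      have := hU1 hx
      rwa [Finset.mem_compl, Perm.mem_support, not_not] at this
    rw [Finset.image_congr (g := id) hfix, Finset.image_id]

theorem lcm_replicate (r m : ℕ) (hm : 1 ≤ m) : (Multiset.replicate m r).lcm = r := by
  induction m, hm using Nat.le_induction with
  | base => simp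
  | succ m hm ih =>
    rw [Multiset.replicate_succ, Multiset.lcm_cons, ih]
    simp

theorem mod_le_of_forall {r : ℕ} (hr : r.Prime) {k : ℕ} (hrn : r ≤ n)
    (h : ∀ σ : Perm (Fin n), orderOf σ = r →
      ∃ s : Finset (Fin n), s.card = k ∧ s.image σ = s) :
    k % r ≤ n % r := by
  have hn1 : 1 ≤ n / r := Nat.div_pos hrn hr.pos
  obtain ⟨σ, hσ⟩ := (Perm.exists_with_cycleType_iff (Fin n)
    (m := Multiset.replicate (n / r) r)).mpr
    ⟨by rw [Multiset.sum_replicate, Fintype.card_fin, smul_eq_mul]; exact Nat.div_mul_le_self n r,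
     fun a ha => by rw [Multiset.eq_of_mem_replicate ha]; exact hr.two_le⟩
  have hord : orderOf σ = r := by
    rw [← Perm.lcm_cycleType, hσ]
    exact lcm_replicate r _ hn1
  have hsupp : σ.support.card = n / r * r := by
    rw [← Perm.sum_cycleType, hσ, Multiset.sum_replicate, smul_eq_mul]
  have hFix : (σ.support)ᶜ.card = n % r := by
    rw [Finset.card_compl, Fintype.card_fin, hsupp]
    have := Nat.div_add_mod n r
    rw [mul_comm] at this
    omega
  obtain ⟨s, hs1, hs2⟩ := h σ hord
  have hinv : ∀ x, σ x ∈ s ↔ x ∈ s := by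
    intro x
    constructor
    · intro hx
      rw [← hs2] at hx
      obtain ⟨y, hy, hyx⟩ := Finset.mem_image.mp hx
      rwa [← σ.injective hyx]
    · intro hx; rw [← hs2]; exact Finset.mem_image_of_mem σ hx
  obtain ⟨τ, hτ⟩ : ∃ τ : Perm {x // x ∈ s}, τ = σ.subtypePerm hinv := ⟨_, rfl⟩
  have hτapp : ∀ x : {x // x ∈ s}, ((τ x : {x // x ∈ s}) : Fin n) = σ x := by
    intro x; rw [hτ]; rfl
  have hτr : τ ^ r = 1 := by
    rw [hτ, Perm.subtypePerm_pow]
    apply Perm.ext
    intro x
    apply Subtype.ext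
    rw [Perm.subtypePerm_apply]
    simp only [Perm.coe_one, id_eq]
    rw [← hord, pow_orderOf_eq_one]
    rfl
  have hdvd : r ∣ τ.support.card := by
    rw [← Perm.sum_cycleType]
    apply Multiset.dvd_sum
    intro a ha
    have h1 := Perm.dvd_of_mem_cycleType ha
    have h2 := Perm.two_le_of_mem_cycleType ha
    have h3 : a ∣ r := h1.trans (orderOf_dvd_of_pow_eq_one hτr)
    rcases (Nat.dvd_prime hr).mp h3 with h | h
    · omega
    · rw [h]
  have hfixle : (τ.support)ᶜ.card ≤ (σ.support)ᶜ.card := by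
    apply Finset.card_le_card_of_injOn (s := (τ.support)ᶜ) (t := (σ.support)ᶜ)
      (fun x : {x // x ∈ s} => (x : Fin n))
    · intro x hx
      simp only [Finset.coe_compl, Set.mem_compl_iff, Finset.mem_coe, Perm.mem_support,
        not_not] at hx ⊢
      rw [← hτapp, hx]
    · intro x _ y _ hxy
      exact Subtype.ext hxy
  have hk : k = τ.support.card + (τ.support)ᶜ.card := by
    rw [Finset.card_add_card_compl, Fintype.card_coe, hs1]
  obtain ⟨a, ha⟩ := hdvd
  rw [hFix] at hfixle
  have hlt : n % r < r := Nat.mod_lt n hr.pos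
  have : k % r = (τ.support)ᶜ.card := by
    rw [hk, ha, Nat.mul_add_mod]
    exact Nat.mod_eq_of_lt (lt_of_le_of_lt hfixle hlt)
  rw [this]; exact hfixle

theorem le_of_mod_le {r : ℕ} (hr : r.Prime) {n k : ℕ} (hmod : k % r ≤ n % r)
    (hrd : r ∣ Nat.choose n k) : r ≤ k := by
  by_contra hlt
  push Not at hlt
  haveI := Fact.mk hr
  have h1 := Choose.choose_modEq_choose_mod_mul_choose_div_nat (n := n) (k := k) (p := r)
  rw [Nat.mod_eq_of_lt hlt, Nat.div_eq_of_lt hlt, Nat.choose_zero_right, mul_one] at h1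
  have h2 : r ∣ Nat.choose (n % r) k :=
    Nat.modEq_zero_iff_dvd.mp (h1.symm.trans (Nat.modEq_zero_iff_dvd.mpr hrd))
  rw [Nat.mod_eq_of_lt hlt] at hmod
  have h3 : Nat.choose (n % r) k ∣ (n % r).factorial :=
    ⟨k.factorial * (n % r - k).factorial, by
      rw [← mul_assoc]; exact (Nat.choose_mul_factorial_mul_factorial hmod).symm⟩
  have h4 := (hr.dvd_factorial).mp (h2.trans h3)
  exact absurd (Nat.mod_lt n hr.pos) (not_lt.mpr h4)

theorem le_of_dvd_choose {r : ℕ} (hr : r.Prime) {n k : ℕ} (hkn : k ≤ n)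
    (hrd : r ∣ Nat.choose n k) : r ≤ n := by
  have h3 : Nat.choose n k ∣ n.factorial :=
    ⟨k.factorial * (n - k).factorial, by
      rw [← mul_assoc]; exact (Nat.choose_mul_factorial_mul_factorial hkn).symm⟩
  exact (hr.dvd_factorial).mp (hrd.trans h3)

/-- Let 1 ≤ k with 2k < n and consider the symmetric group of degree n acting on the k-subsets of an n-set. Let r be a prime dividing the number C(n,k) of k-subsets. If r is odd, then every permutation of order r fixes some k-subset if and only if r ≤ k and the remainder of k modulo r is at most the remainder of n modulo r. If r = 2, then every involution fixes some k-subset if and only if k is even or n is odd. -/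
theorem result (n k : ℕ) (hk : 1 ≤ k) (hkn : 2 * k < n) (r : ℕ) (hr : r.Prime) (hrd : r ∣ Nat.choose n k) :
    (r ≠ 2 → ((∀ σ : Equiv.Perm (Fin n), orderOf σ = r → ∃ s : Finset (Fin n), s.card = k ∧ s.image σ = s) ↔
      (r ≤ k ∧ k % r ≤ n % r))) ∧
    (r = 2 → ((∀ σ : Equiv.Perm (Fin n), orderOf σ = 2 → ∃ s : Finset (Fin n), s.card = k ∧ s.image σ = s) ↔
      (Even k ∨ Odd n))) := by
  have hkn' : k ≤ n := by omega
  have hrn : r ≤ n := le_of_dvd_choose hr hkn' hrd
  constructor
  · intro _
    constructor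
    · intro h
      have hmod := mod_le_of_forall hr hrn h
      exact ⟨le_of_mod_le hr hmod hrd, hmod⟩
    · rintro ⟨_, hmod⟩ σ hσ
      exact exists_inv_of_le hr hkn' hmod σ hσ
  · intro h2
    subst h2
    have hiff : (Even k ∨ Odd n) ↔ k % 2 ≤ n % 2 := by
      rw [Nat.even_iff, Nat.odd_iff]
      omega
    rw [hiff]
    constructor
    · intro h
      exact mod_le_of_forall hr hrn h
    · intro hmod σ hσ
      exact exists_inv_of_le hr hkn' hmod σ hσ

end Cfsg.Agent.S3573
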