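import Cfsg.Statements.S3599
import Mathlib
import Cfsg.Agent.Lib.Helper7.Crit6
-- import your own Cfsg.Agent.* helpers here

set_option autoImplicit false
open Cfsg

namespace Cfsg.Agent.S3599

open Cfsg.Agent.Lib.Helper7.Crit

/-- A finite group is critical with respect to a set Ω of natural numbers when its set of element orders is Ω while no proper section H/N (H a subgroup, N normal in H, (H, N) ≠ (whole group, 1)) has Ω as its set of element orders. Let s ≥ 1 and let p(j,0), p(j,1) (j < s) be 2s pairwise distinct primes, and let Ω be the set of all products c(0)·…·c(s−1) with each c(j) ∈ {1, p(j,0), p(j,1)}. Then there are 2^s pairwise non-isomorphic finite groups critical with respect to Ω. -/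
theorem result (s : ℕ) (hs : 1 ≤ s) (p : Fin s → Fin 2 → ℕ)
    (hp : ∀ j i, (p j i).Prime) (hinj : ∀ j i j' i', p j i = p j' i' → j = j' ∧ i = i') :
    ∃ (G : Fin (2 ^ s) → Type) (_ : ∀ a, Group (G a)) (_ : ∀ a, Fintype (G a)),
      (∀ a b, a ≠ b → ¬ Nonempty (G a ≃* G b)) ∧
      ∀ a, Set.range (orderOf : (G a) → ℕ) = {m : ℕ | ∃ c : Fin s → ℕ, (∀ j, c j = 1 ∨ c j = p j 0 ∨ c j = p j 1) ∧ m = ∏ j, c j} ∧
      ∀ (H : Subgroup (G a)) (N : Subgroup ↥H) [N.Normal], (H ≠ ⊤ ∨ N ≠ ⊥) → Set.range (orderOf : (↥H ⧸ N) → ℕ) ≠ {m : ℕ | ∃ c : Fin s → ℕ, (∀ j, c j = 1 ∨ c j = p j 0 ∨ c j = p j 1) ∧ m = ∏ j, c j} := by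
  classical
  haveI hfact : ∀ j i, Fact (p j i).Prime := fun j i => ⟨hp j i⟩
  let e : Fin (2 ^ s) ≃ (Fin s → Fin 2) := finFunctionFinEquiv.symm
  have hne : ∀ j (i : Fin 2), p j i ≠ p j (i + 1) := by
    intro j i h
    exact fin2_add_one_ne i ((hinj j i j (i + 1) h).2).symm
  have hne' : ∀ j j' (i i' : Fin 2), j ≠ j' → p j i ≠ p j' i' := by
    intro j j' i i' hjj' h
    exact hjj' (hinj j i j' i' h).1
  have hmf : ∀ a j, MinFrob (p j (e a j)) (p j (e a j + 1)) (kOrd (p j (e a j)) (p j (e a j + 1)))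
      (VV (p j (e a j)) (p j (e a j + 1))) :=
    fun a j => minFrob_frobGrp (hp j _) (hne j _)
  have hcop : ∀ a j j', j ≠ j' →
      (Nat.card (FrobGrp (p j (e a j)) (p j (e a j + 1)))).Coprime
        (Nat.card (FrobGrp (p j' (e a j')) (p j' (e a j' + 1)))) := by
    intro a j j' hjj'
    exact coprime_card_frobGrp' (hp j _) (hp j' _) (hne j _) (hne j' _)
      (hne' j j' _ _ hjj') (hne' j j' _ _ hjj') (hne' j j' _ _ hjj') (hne' j j' _ _ hjj')
  have hΩ : ∀ a, {m : ℕ | ∃ c : Fin s → ℕ, (∀ j, c j = 1 ∨ c j = p j 0 ∨ c j = p j 1) ∧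
      m = ∏ j, c j} = Omega (fun j => p j (e a j)) (fun j => p j (e a j + 1)) := by
    intro a
    ext m
    constructor
    · rintro ⟨c, hc, rfl⟩
      exact ⟨c, fun j => (fin2_cases_iff (p j) (e a j) (c j)).mp (hc j), rfl⟩
    · rintro ⟨c, hc, rfl⟩
      exact ⟨c, fun j => (fin2_cases_iff (p j) (e a j) (c j)).mpr (hc j), rfl⟩
  refine ⟨fun a => ∀ j : Fin s, FrobGrp (p j (e a j)) (p j (e a j + 1)),
    fun a => inferInstance, fun a => Fintype.ofFinite _, ?_, ?_⟩
  · -- pairwise non-isomorphic: the orders differ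
    intro a b hab hiso
    obtain ⟨f⟩ := hiso
    have hcard := Nat.card_congr f.toEquiv
    rw [Nat.card_pi, Nat.card_pi] at hcard
    have heab : e a ≠ e b := fun h => hab (e.injective h)
    obtain ⟨j, hj⟩ : ∃ j, e a j ≠ e b j := by
      by_contra hcon
      push Not at hcon
      exact heab (funext hcon)
    have hbj : e b j = e a j + 1 := fin2_eq_add_one_of_ne hj
    rw [← Finset.mul_prod_erase Finset.univ _ (Finset.mem_univ j),
      ← Finset.mul_prod_erase Finset.univ _ (Finset.mem_univ j)] at hcard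
    set ma := ∏ j' ∈ Finset.univ.erase j, Nat.card (FrobGrp (p j' (e a j')) (p j' (e a j' + 1)))
      with hma
    set mb := ∏ j' ∈ Finset.univ.erase j, Nat.card (FrobGrp (p j' (e b j')) (p j' (e b j' + 1)))
      with hmb
    have hbj' : e b j + 1 = e a j := by rw [hbj]; exact fin2_add_one_add_one _
    rw [card_frobGrp (hp j _) (hne j _), card_frobGrp (hp j _) (hne j _)] at hcard
    rw [hbj'] at hcard
    rw [hbj] at hcard
    set x := p j (e a j) with hx
    set y := p j (e a j + 1) with hy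
    have hxp : x.Prime := hp j _
    have hyp : y.Prime := hp j _
    have hxy : x ≠ y := hne j _
    have hxma : Nat.Coprime x ma := by
      apply Nat.Coprime.prod_right
      intro j' hj'
      have hjj' : j ≠ j' := (Finset.ne_of_mem_erase hj').symm
      exact coprime_card_frobGrp hxp (hp j' _) (hne j' _) (hne' j j' _ _ hjj') (hne' j j' _ _ hjj')
    have hxmb : Nat.Coprime x mb := by
      apply Nat.Coprime.prod_right
      intro j' hj'
      have hjj' : j ≠ j' := (Finset.ne_of_mem_erase hj').symm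
      exact coprime_card_frobGrp hxp (hp j' _) (hne j' _) (hne' j j' _ _ hjj') (hne' j j' _ _ hjj')
    have hyma : Nat.Coprime y ma := by
      apply Nat.Coprime.prod_right
      intro j' hj'
      have hjj' : j ≠ j' := (Finset.ne_of_mem_erase hj').symm
      exact coprime_card_frobGrp hyp (hp j' _) (hne j' _) (hne' j j' _ _ hjj') (hne' j j' _ _ hjj')
    have hymb : Nat.Coprime y mb := by
      apply Nat.Coprime.prod_right
      intro j' hj'
      have hjj' : j ≠ j' := (Finset.ne_of_mem_erase hj').symm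
      exact coprime_card_frobGrp hyp (hp j' _) (hne j' _) (hne' j j' _ _ hjj') (hne' j j' _ _ hjj')
    have hcxy : Nat.Coprime x y := (Nat.coprime_primes hxp hyp).mpr hxy
    -- x ^ K1 * y * ma = y ^ K2 * x * mb
    have hK1 : kOrd x y = 1 := by
      have hd : x ^ kOrd x y ∣ x * (y ^ kOrd y x * mb) := by
        refine ⟨y * ma, ?_⟩
        calc x * (y ^ kOrd y x * mb) = y ^ kOrd y x * x * mb := by ring
          _ = x ^ kOrd x y * y * ma := hcard.symm
          _ = x ^ kOrd x y * (y * ma) := by ring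
      have hc : Nat.Coprime (x ^ kOrd x y) (y ^ kOrd y x * mb) :=
        Nat.Coprime.pow_left _ (Nat.Coprime.mul_right (Nat.Coprime.pow_right _ hcxy) hxmb)
      have hd' : x ^ kOrd x y ∣ x ^ 1 := by
        rw [pow_one]; exact hc.dvd_of_dvd_mul_right hd
      have hle : kOrd x y ≤ 1 := (Nat.pow_dvd_pow_iff_le_right hxp.one_lt).mp hd'
      have hpos := kOrd_pos hxp hyp hxy
      omega
    have hK2 : kOrd y x = 1 := by
      have hd : y ^ kOrd y x ∣ y * (x ^ kOrd x y * ma) := by
        refine ⟨x * mb, ?_⟩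
        calc y * (x ^ kOrd x y * ma) = x ^ kOrd x y * y * ma := by ring
          _ = y ^ kOrd y x * x * mb := hcard
          _ = y ^ kOrd y x * (x * mb) := by ring
      have hc : Nat.Coprime (y ^ kOrd y x) (x ^ kOrd x y * ma) :=
        Nat.Coprime.pow_left _ (Nat.Coprime.mul_right (Nat.Coprime.pow_right _ hcxy.symm) hyma)
      have hd' : y ^ kOrd y x ∣ y ^ 1 := by
        rw [pow_one]; exact hc.dvd_of_dvd_mul_right hd
      have hle : kOrd y x ≤ 1 := (Nat.pow_dvd_pow_iff_le_right hyp.one_lt).mp hd'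
      have hpos := kOrd_pos hyp hxp hxy.symm
      omega
    exact kOrd_not_both_one hxp hyp hK1 hK2
  · intro a
    refine ⟨?_, ?_⟩
    · rw [hΩ a]
      exact range_orderOf_pi (hmf a) (hcop a)
    · intro H N _ hor heq
      rw [hΩ a] at heq
      have h1 := top_of_spectrum (hmf a) (hcop a) H N heq
      have h2 := bot_of_spectrum (hmf a) (hcop a) H N h1 heq
      rcases hor with h | h
      · exact h h1
      · exact h h2

end Cfsg.Agent.S3599
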