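import Cfsg.Statements.S3619
import Mathlib

set_option autoImplicit false
open Cfsg

namespace Cfsg.Agent.S3619

open MulAction Pointwise

section aux

variable {G Ω : Type*} [Group G] [MulAction G Ω]

/-- the inclusion of the complement of `s`, equivariant for the fixing subgroup -/
def incl (s : Set Ω) :
    (SubMulAction.ofFixingSubgroup G s) →ₑ[(fixingSubgroup G s).subtype] Ω where
  toFun := Subtype.val
  map_smul' := fun _ _ => rfl

/-- elements of the fixing subgroup of `Γᶜ` stabilize every nontrivial block -/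
theorem smul_block_eq (Γ : Set Ω)
    (hJp : IsPreprimitive (fixingSubgroup G Γᶜ) (SubMulAction.ofFixingSubgroup G Γᶜ))
    {B : Set Ω} (hB : IsBlock G B) (hBns : ¬ B.Subsingleton) {h : G}
    (hh : h ∈ fixingSubgroup G Γᶜ) : h • B = B := by
  rw [mem_fixingSubgroup_iff] at hh
  by_cases hc : ∃ x ∈ B, x ∉ Γ
  · obtain ⟨x, hxB, hxΓ⟩ := hc
    apply (isBlock_iff_smul_eq_of_mem.mp hB) hxB
    rw [hh x hxΓ]
    exact hxB
  · push Not at hc
    -- `B ⊆ Γ`
    have hB' : IsBlock (fixingSubgroup G Γᶜ) ((incl (G := G) Γᶜ) ⁻¹' B) :=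
      IsBlock.preimage (incl (G := G) Γᶜ) hB
    haveI := hJp
    rcases IsPreprimitive.isTrivialBlock_of_isBlock hB' with h1 | h1
    · exfalso
      apply hBns
      intro x hx y hy
      have hx' : x ∈ SubMulAction.ofFixingSubgroup G Γᶜ := by
        rw [SubMulAction.mem_ofFixingSubgroup_iff]
        exact fun h => h (hc x hx)
      have hy' : y ∈ SubMulAction.ofFixingSubgroup G Γᶜ := by
        rw [SubMulAction.mem_ofFixingSubgroup_iff]
        exact fun h => h (hc y hy)
      have hxm : (⟨x, hx'⟩ : SubMulAction.ofFixingSubgroup G Γᶜ) ∈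
          (incl (G := G) Γᶜ) ⁻¹' B := hx
      have hym : (⟨y, hy'⟩ : SubMulAction.ofFixingSubgroup G Γᶜ) ∈
          (incl (G := G) Γᶜ) ⁻¹' B := hy
      have := h1 hxm hym
      exact congrArg Subtype.val this
    · -- `B = Γ`
      have hΓB : ∀ x ∈ Γ, x ∈ B := by
        intro x hx
        have hx' : x ∈ SubMulAction.ofFixingSubgroup G Γᶜ := by
          rw [SubMulAction.mem_ofFixingSubgroup_iff]
          exact fun h => h hx
        have : (⟨x, hx'⟩ : SubMulAction.ofFixingSubgroup G Γᶜ) ∈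
            (incl (G := G) Γᶜ) ⁻¹' B := by
          rw [h1]
          trivial
        exact this
      have hne : B.Nonempty := by
        by_contra hemp
        rw [Set.not_nonempty_iff_eq_empty] at hemp
        apply hBns
        rw [hemp]
        exact Set.subsingleton_empty
      obtain ⟨x, hx⟩ := hne
      apply (isBlock_iff_smul_eq_of_mem.mp hB) hx
      apply hΓB
      by_contra hcon
      have h2 := hh (h • x) hcon
      have h3 := smul_left_cancel h h2
      rw [h3] at hcon
      exact hcon (hc x hx)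

end aux

/-- In a quasiprimitive group, if the pointwise stabilizer of the complement of a proper subset Γ (#Γ > 1) is primitive on Γ, then G is (n − #Γ + 1)-transitive. -/
theorem result {G Ω : Type*} [Group G] [Finite G] [MulAction G Ω] [FaithfulSMul G Ω] [Finite Ω]
    (hqp : ∀ N : Subgroup G, N.Normal → N ≠ ⊥ → MulAction.IsPretransitive ↥N Ω)
    (Γ : Set Ω) (hΓ1 : 1 < Γ.ncard) (hΓ2 : Γ.ncard < Nat.card Ω)
    (hJ : MulAction.IsPretransitive ↥(fixingSubgroup G Γᶜ) ↥(SubMulAction.ofFixingSubgroup G Γᶜ))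
    (hJp : MulAction.IsPreprimitive ↥(fixingSubgroup G Γᶜ) ↥(SubMulAction.ofFixingSubgroup G Γᶜ)) :
    MulAction.IsMultiplyPretransitive G Ω (Nat.card Ω - Γ.ncard + 1) := by
  classical
  -- the fixing subgroup is nontrivial
  obtain ⟨x, hx, y, hy, hxy⟩ := (Set.one_lt_ncard (Set.toFinite Γ)).mp hΓ1
  have hx' : x ∈ SubMulAction.ofFixingSubgroup G Γᶜ := by
    rw [SubMulAction.mem_ofFixingSubgroup_iff]
    exact fun h => h hx
  have hy' : y ∈ SubMulAction.ofFixingSubgroup G Γᶜ := by
    rw [SubMulAction.mem_ofFixingSubgroup_iff]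
    exact fun h => h hy
  obtain ⟨h₀, hh₀⟩ := exists_smul_eq (fixingSubgroup G Γᶜ)
    (⟨x, hx'⟩ : SubMulAction.ofFixingSubgroup G Γᶜ) ⟨y, hy'⟩
  have hh₀' : (h₀ : G) • x = y := congrArg Subtype.val hh₀
  have hHne : fixingSubgroup G Γᶜ ≠ ⊥ := by
    intro h
    have h1 : (h₀ : G) ∈ fixingSubgroup G Γᶜ := h₀.2
    have h2 : (h₀ : G) ∈ (⊥ : Subgroup G) := h ▸ h1
    rw [Subgroup.mem_bot] at h2
    rw [h2, one_smul] at hh₀'
    exact hxy hh₀'
  have htop : (⊤ : Subgroup G) ≠ ⊥ := by
    intro h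
    apply hHne
    rw [eq_bot_iff, ← h]
    exact le_top
  haveI htr : IsPretransitive G Ω := by
    have h1 := hqp ⊤ inferInstance htop
    refine ⟨fun a b => ?_⟩
    obtain ⟨g, hg⟩ := h1.exists_smul_eq a b
    exact ⟨g.1, hg⟩
  have hprim : IsPreprimitive G Ω := by
    refine IsPreprimitive.mk (fun {B} hB => ?_)
    by_cases hBs : B.Subsingleton
    · exact Or.inl hBs
    right
    set N : Subgroup G := (stabilizer G B).normalCore with hN
    have hHN : fixingSubgroup G Γᶜ ≤ N := by
      intro h hh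
      show ∀ b : G, b * h * b⁻¹ ∈ stabilizer G B
      intro b
      rw [mem_stabilizer_iff]
      have hB' : IsBlock G (b⁻¹ • B) := hB.translate b⁻¹
      have hBs' : ¬ (b⁻¹ • B).Subsingleton := by
        intro hs
        apply hBs
        intro u hu v hv
        have := hs (Set.smul_mem_smul_set (a := b⁻¹) hu) (Set.smul_mem_smul_set (a := b⁻¹) hv)
        exact smul_left_cancel _ this
      have h1 := smul_block_eq Γ hJp hB' hBs' hh
      rw [mul_smul, mul_smul, h1, smul_inv_smul]
    have hNne : N ≠ ⊥ := by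
      intro h
      apply hHne
      rw [eq_bot_iff, ← h]
      exact hHN
    have hNtr := hqp N (Subgroup.normalCore_normal _) hNne
    have hne : B.Nonempty := by
      by_contra hemp
      rw [Set.not_nonempty_iff_eq_empty] at hemp
      apply hBs
      rw [hemp]
      exact Set.subsingleton_empty
    obtain ⟨u, hu⟩ := hne
    rw [Set.eq_univ_iff_forall]
    intro v
    obtain ⟨n, hn⟩ := hNtr.exists_smul_eq u v
    have hnB : (n : G) ∈ stabilizer G B := Subgroup.normalCore_le _ n.2
    rw [mem_stabilizer_iff] at hnB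
    rw [← hnB]
    exact ⟨u, hu, hn⟩
  have hcompl : (Γᶜ).ncard = Nat.card Ω - Γ.ncard :=
    Set.ncard_compl Γ (Set.toFinite _) (Set.toFinite _)
  obtain ⟨n, hn⟩ : ∃ n, Nat.card Ω - Γ.ncard = n + 1 := ⟨Nat.card Ω - Γ.ncard - 1, by omega⟩
  have hsn : (Γᶜ).ncard = n + 1 := by rw [hcompl, hn]
  have hsn' : n + 2 < Nat.card Ω := by omega
  have hmp := hprim.isMultiplyPreprimitive hsn hsn' hJp
  rw [hn]
  exact hmp.isMultiplyPretransitive
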