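import Cfsg.Statements.S3627
import Cfsg.Agent.Lib.Helper7.J1Sp3

set_option autoImplicit false
open Cfsg

namespace Cfsg.Agent.S3627

/-- Let J be the first Janko group. Then there are finite groups of arbitrarily large order with exactly the same set of element orders as J × J × J × J. -/
theorem result (N : ℕ) : ∃ (H : Type) (_ : Group H) (_ : Fintype H), N < Fintype.card H ∧
      Set.range (orderOf : H → ℕ) = Set.range (orderOf : ↥Cfsg.Spor.J1 × ↥Cfsg.Spor.J1 × ↥Cfsg.Spor.J1 × ↥Cfsg.Spor.J1 → ℕ) := by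
  open Cfsg.Agent.Lib.Helper7 Cfsg.Agent.Lib.Helper7.J1S in
  haveI := finite_J1
  haveI : Fintype (↥Cfsg.Spor.J1 × ↥Cfsg.Spor.J1 × ↥Cfsg.Spor.J1 × XK (N + 1)) := Fintype.ofFinite _
  refine ⟨↥Cfsg.Spor.J1 × ↥Cfsg.Spor.J1 × ↥Cfsg.Spor.J1 × XK (N + 1), inferInstance, inferInstance,
    ?_, range_orderOf_big N⟩
  rw [← Nat.card_eq_fintype_card]
  exact lt_card_big N

end Cfsg.Agent.S3627
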