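import Mathlib
import Cfsg.Statements.S3633
import Cfsg.Agent.Lib.Helper7.PrimeGraph2
import Cfsg.Agent.Lib.Helper3.Sig1

set_option autoImplicit false
open Cfsg

namespace Cfsg.Agent.S3633

open Cfsg.Agent.Lib.Helper7

/-- Let G be a finite group and ρ a set of at least three prime divisors of the order of G that are pairwise non-adjacent in the prime graph (no element of order rs for distinct r, s ∈ ρ). Then at most one prime of ρ divides the order of any given solvable normal subgroup of G; in particular G is not solvable. -/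
theorem result {G : Type*} [Group G] [Finite G] (ρ : Finset ℕ) (hρ : 3 ≤ ρ.card) (hc : ((∀ r ∈ ρ, r.Prime ∧ r ∣ Nat.card G) ∧ (∀ r ∈ ρ, ∀ s ∈ ρ, r ≠ s → ¬ ∃ x : G, orderOf x = r * s)))
    (K : Subgroup G) [K.Normal] (hK : Group.IsSolvable ↥K) :
    (∀ r ∈ ρ, ∀ s ∈ ρ, r ∣ Nat.card ↥K → s ∣ Nat.card ↥K → r = s) ∧ ¬ Group.IsSolvable G := by
  classical
  obtain ⟨hc1, hc2⟩ := hc
  -- key: a solvable subgroup divisible by three distinct primes of ρ is impossible
  have key : ∀ (S : Subgroup G), Group.IsSolvable S → ∀ r ∈ ρ, ∀ s ∈ ρ, ∀ t ∈ ρ,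
      r ≠ s → r ≠ t → s ≠ t → r ∣ Nat.card S → s ∣ Nat.card S → t ∣ Nat.card S → False := by
    intro S hS r hr s hs t ht hrs hrt hst hrS hsS htS
    haveI := hS
    obtain ⟨x, hx⟩ := solvable_no_three_coclique S (hc1 r hr).1 (hc1 s hs).1 (hc1 t ht).1
      hrs hrt hst hrS hsS htS
    rw [← Subgroup.orderOf_coe] at hx
    rcases hx with hx | hx | hx
    · exact hc2 r hr s hs hrs ⟨_, hx⟩
    · exact hc2 r hr t ht hrt ⟨_, hx⟩
    · exact hc2 s hs t ht hst ⟨_, hx⟩
  constructor
  · intro r hr s hs hrK hsK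
    by_contra hrs
    have h1 : 1 ≤ ((ρ.erase r).erase s).card := by
      have h1 := Finset.pred_card_le_card_erase (s := ρ) (a := r)
      have h2 := Finset.pred_card_le_card_erase (s := ρ.erase r) (a := s)
      omega
    obtain ⟨t, ht⟩ := Finset.card_pos.mp h1
    rw [Finset.mem_erase, Finset.mem_erase] at ht
    obtain ⟨hts, htr, htρ⟩ := ht
    haveI : Fact t.Prime := ⟨(hc1 t htρ).1⟩
    obtain ⟨z, hz⟩ := exists_prime_orderOf_dvd_card' t (hc1 t htρ).2
    have hsolv : Group.IsSolvable (K ⊔ Subgroup.zpowers z : Subgroup G) := by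
      apply Cfsg.Agent.Lib.Helper3.Sig.isSolvable_sup_of_le_normalizer hK
      · haveI : IsMulCommutative (Subgroup.zpowers z) := inferInstance
        infer_instance
      · rw [Subgroup.normalizer_eq_top_iff.mpr inferInstance]
        exact le_top
    have hKS : K ≤ K ⊔ Subgroup.zpowers z := le_sup_left
    have hzS : z ∈ K ⊔ Subgroup.zpowers z :=
      (le_sup_right : Subgroup.zpowers z ≤ _) (Subgroup.mem_zpowers z)
    have htS : t ∣ Nat.card (K ⊔ Subgroup.zpowers z : Subgroup G) := by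
      have := orderOf_dvd_natCard (⟨z, hzS⟩ : (K ⊔ Subgroup.zpowers z : Subgroup G))
      rwa [Subgroup.orderOf_mk, hz] at this
    exact key _ hsolv r hr s hs t htρ hrs (Ne.symm htr) (Ne.symm hts)
      (hrK.trans (Subgroup.card_dvd_of_le hKS)) (hsK.trans (Subgroup.card_dvd_of_le hKS)) htS
  · intro hG
    obtain ⟨a, b, c, ha, hb, hc', hab, hac, hbc⟩ := Finset.two_lt_card_iff.mp (by omega : 2 < ρ.card)
    have hsolv : Group.IsSolvable (⊤ : Subgroup G) := inferInstance
    have hcard : Nat.card (⊤ : Subgroup G) = Nat.card G := Subgroup.card_top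
    exact key ⊤ hsolv a ha b hb c hc' hab hac hbc (by rw [hcard]; exact (hc1 a ha).2)
      (by rw [hcard]; exact (hc1 b hb).2) (by rw [hcard]; exact (hc1 c hc').2)

end Cfsg.Agent.S3633
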