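import Mathlib
import Cfsg.Statements.S3634
import Cfsg.Agent.Lib.Helper7.PrimeGraph2
import Cfsg.Agent.Lib.Helper3.Sig1

set_option autoImplicit false
open Cfsg

namespace Cfsg.Agent.S3634

open Cfsg.Agent.Lib.Helper7

theorem index_dvd_card_of_sup_eq_top {X : Type*} [Group X] [Finite X] (N₀ K₀ : Subgroup X)
    [K₀.Normal] (h : N₀ ⊔ K₀ = ⊤) : K₀.index ∣ Nat.card N₀ := by
  have h1 : K₀.relIndex (N₀ ⊔ K₀) = K₀.relIndex N₀ := Subgroup.relIndex_sup_right N₀ K₀
  rw [h, Subgroup.relIndex_top_right] at h1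
  rw [h1]
  exact Subgroup.relIndex_dvd_card _ _

/-- Frattini step: a normal subgroup `Y` with `q ∣ |Y|` and `r ∣ |X : Y|` contains a nontrivial
`q`-subgroup normalized by an element of order `r`. -/
theorem frattini_step {X : Type*} [Group X] [Finite X] (Y : Subgroup X) [Y.Normal] (q r : ℕ)
    (hq : q.Prime) (hr : r.Prime) (hqY : q ∣ Nat.card Y) (hrY : r ∣ Y.index) :
    ∃ Q : Subgroup X, Q ≤ Y ∧ IsPGroup q Q ∧ Q ≠ ⊥ ∧ ∃ z : X, orderOf z = r ∧
      z ∈ Subgroup.normalizer (Q : Set X) := by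
  haveI : Fact q.Prime := ⟨hq⟩
  haveI : Fact r.Prime := ⟨hr⟩
  obtain ⟨Q₀⟩ : Nonempty (Sylow q Y) := inferInstance
  have hne : (Q₀ : Subgroup Y) ≠ ⊥ := Q₀.ne_bot_of_dvd_card hqY
  have hfr := Sylow.normalizer_sup_eq_top Q₀
  have hdvd := index_dvd_card_of_sup_eq_top _ Y hfr
  obtain ⟨z, hz⟩ := exists_prime_orderOf_dvd_card' r (hrY.trans hdvd)
  refine ⟨(Q₀ : Subgroup Y).map Y.subtype, Subgroup.map_subtype_le _, Q₀.2.map _, ?_,
    (z : X), ?_, z.2⟩
  · intro h
    apply hne
    rw [eq_bot_iff]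
    intro v hv
    have : (v : X) ∈ (Q₀ : Subgroup Y).map Y.subtype := ⟨v, hv, rfl⟩
    rw [h, Subgroup.mem_bot] at this
    exact Subgroup.mem_bot.mpr (Subtype.ext this)
  · rw [Subgroup.orderOf_coe]; exact hz

/-- Let G be a finite group with normal subgroups K ≤ M, and let p, q, r be distinct primes with p dividing the order of K, q dividing the order of M/K and r dividing the order of G/M. Then p, q, r are not pairwise non-adjacent in the prime graph of G: G has an element of order pq, pr or qr. -/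
theorem result {G : Type*} [Group G] [Finite G] (K M : Subgroup G) [K.Normal] [M.Normal] (hKM : K ≤ M)
    (p q r : ℕ) (hp : p.Prime) (hq : q.Prime) (hr : r.Prime) (hpq : p ≠ q) (hpr : p ≠ r) (hqr : q ≠ r)
    (hpK : p ∣ Nat.card ↥K) (hqM : q ∣ Nat.card ↥M / Nat.card ↥K) (hrG : r ∣ Nat.card G / Nat.card ↥M) :
    (∃ x : G, orderOf x = p * q) ∨ (∃ x : G, orderOf x = p * r) ∨ (∃ x : G, orderOf x = q * r) := by
  classical
  haveI : Fact p.Prime := ⟨hp⟩
  haveI : Fact q.Prime := ⟨hq⟩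
  haveI : Fact r.Prime := ⟨hr⟩
  -- indices
  have hMidx : M.index = Nat.card G / Nat.card M := by
    have := M.card_mul_index
    rw [← this, Nat.mul_div_cancel_left _ Nat.card_pos]
  have hKrel : K.relIndex M = Nat.card M / Nat.card K := by
    have h1 : Nat.card (K.subgroupOf M) * K.relIndex M = Nat.card M := Subgroup.card_mul_index _
    have h2 : Nat.card (K.subgroupOf M) = Nat.card K :=
      Nat.card_congr (Subgroup.subgroupOfEquivOfLe hKM).toEquiv
    rw [h2] at h1
    rw [← h1, Nat.mul_div_cancel_left _ Nat.card_pos]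
  rw [← hKrel] at hqM
  rw [← hMidx] at hrG
  -- Sylow p-subgroup of K and its normalizer
  obtain ⟨P₀⟩ : Nonempty (Sylow p K) := inferInstance
  set P : Subgroup G := (P₀ : Subgroup K).map K.subtype with hP
  have hPp : IsPGroup p P := P₀.2.map _
  have hPcard : p ∣ Nat.card P := by
    rw [hP, Subgroup.card_map_of_injective K.subtype_injective]
    exact P₀.dvd_card_of_dvd_card hpK
  set N : Subgroup G := Subgroup.normalizer (P : Set G) with hN
  have hfr : N ⊔ K = ⊤ := Sylow.normalizer_sup_eq_top P₀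
  -- (N ⊓ M) ⊔ K = M
  have hNM : (N ⊓ M) ⊔ K = M := by
    apply le_antisymm (sup_le inf_le_right hKM)
    intro m hm
    have : m ∈ N ⊔ K := by rw [hfr]; exact Subgroup.mem_top m
    have hmem : m ∈ ((N ⊔ K : Subgroup G) : Set G) := this
    rw [Subgroup.mul_normal N K] at hmem
    obtain ⟨n, hn, k, hk, rfl⟩ := Set.mem_mul.mp hmem
    have hnM : n ∈ M := by
      have := M.mul_mem hm (M.inv_mem (hKM hk))
      simpa using this
    exact Subgroup.mul_mem_sup ⟨hn, hnM⟩ hk
  have hqNM : q ∣ Nat.card (M.subgroupOf N) := by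
    have h1 : K.relIndex ((N ⊓ M) ⊔ K) = K.relIndex (N ⊓ M) := Subgroup.relIndex_sup_right _ _
    rw [hNM] at h1
    rw [h1] at hqM
    have h2 : Nat.card (M.subgroupOf N) = Nat.card (N ⊓ M : Subgroup G) := by
      rw [← Subgroup.card_map_of_injective N.subtype_injective, Subgroup.subgroupOf_map_subtype,
        inf_comm]
    rw [h2]
    exact hqM.trans (Subgroup.relIndex_dvd_card _ _)
  have hrN : r ∣ (M.subgroupOf N).index := by
    have h1 : M.relIndex (N ⊔ M) = M.relIndex N := Subgroup.relIndex_sup_right _ _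
    have h2 : N ⊔ M = ⊤ := by
      rw [eq_top_iff, ← hfr]
      exact sup_le_sup_left hKM N
    rw [h2, Subgroup.relIndex_top_right] at h1
    rw [h1] at hrG
    exact hrG
  haveI : (M.subgroupOf N).Normal := Subgroup.Normal.subgroupOf inferInstance N
  obtain ⟨Q₁, -, hQ₁q, hQ₁ne, z₁, hz₁, hz₁N⟩ :=
    frattini_step (M.subgroupOf N) q r hq hr hqNM hrN
  set Q : Subgroup G := Q₁.map N.subtype with hQ
  have hQq : IsPGroup q Q := hQ₁q.map _
  have hQN : Q ≤ N := Subgroup.map_subtype_le _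
  have hQcard : q ∣ Nat.card Q := by
    rw [hQ, Subgroup.card_map_of_injective N.subtype_injective]
    obtain ⟨j, hj⟩ := IsPGroup.iff_card.mp hQ₁q
    have hj0 : j ≠ 0 := by
      rintro rfl
      rw [pow_zero] at hj
      exact hQ₁ne ((Subgroup.card_eq_one).mp hj)
    rw [hj]; exact dvd_pow_self q hj0
  set z : G := (z₁ : G) with hz
  have hzN : z ∈ N := z₁.2
  have hzord : orderOf z = r := by rw [hz, Subgroup.orderOf_coe]; exact hz₁
  have hzQ : z ∈ Subgroup.normalizer (Q : Set G) := by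
    have h1 := Subgroup.le_normalizer_map (H := Q₁) N.subtype
    exact h1 ⟨z₁, hz₁N, rfl⟩
  -- the solvable subgroup
  have hQsolv : Group.IsSolvable Q := by
    haveI := hQq.isNilpotent
    infer_instance
  have hPsolv : Group.IsSolvable P := by
    haveI := hPp.isNilpotent
    infer_instance
  have hZsolv : Group.IsSolvable (Subgroup.zpowers z) := by
    haveI : IsMulCommutative (Subgroup.zpowers z) := inferInstance
    infer_instance
  have hQZ : Group.IsSolvable (Q ⊔ Subgroup.zpowers z : Subgroup G) :=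
    Cfsg.Agent.Lib.Helper3.Sig.isSolvable_sup_of_le_normalizer hQsolv hZsolv
      (by rw [Subgroup.zpowers_le]; exact hzQ)
  have hQZN : Q ⊔ Subgroup.zpowers z ≤ N :=
    sup_le hQN (by rw [Subgroup.zpowers_le]; exact hzN)
  have hS : Group.IsSolvable (P ⊔ (Q ⊔ Subgroup.zpowers z) : Subgroup G) :=
    Cfsg.Agent.Lib.Helper3.Sig.isSolvable_sup_of_le_normalizer hPsolv hQZ hQZN
  haveI := hS
  have hPS : P ≤ P ⊔ (Q ⊔ Subgroup.zpowers z) := le_sup_left
  have hQS : Q ≤ P ⊔ (Q ⊔ Subgroup.zpowers z) := le_sup_left.trans le_sup_right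
  have hzS : z ∈ P ⊔ (Q ⊔ Subgroup.zpowers z) :=
    (le_sup_right.trans le_sup_right : Subgroup.zpowers z ≤ _) (Subgroup.mem_zpowers z)
  have hrS : r ∣ Nat.card (P ⊔ (Q ⊔ Subgroup.zpowers z) : Subgroup G) := by
    have := orderOf_dvd_natCard (⟨z, hzS⟩ : (P ⊔ (Q ⊔ Subgroup.zpowers z) : Subgroup G))
    rwa [Subgroup.orderOf_mk, hzord] at this
  obtain ⟨x, hx⟩ := solvable_no_three_coclique (P ⊔ (Q ⊔ Subgroup.zpowers z) : Subgroup G)
    hp hq hr hpq hpr hqr (hPcard.trans (Subgroup.card_dvd_of_le hPS))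
    (hQcard.trans (Subgroup.card_dvd_of_le hQS)) hrS
  rw [← Subgroup.orderOf_coe] at hx
  rcases hx with hx | hx | hx
  · exact Or.inl ⟨_, hx⟩
  · exact Or.inr (Or.inl ⟨_, hx⟩)
  · exact Or.inr (Or.inr ⟨_, hx⟩)

end Cfsg.Agent.S3634
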