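import Cfsg.Statements.S3639
import Cfsg.Agent.Lib.Helper1.PGraph.Semi
import Cfsg.Agent.Lib.Helper1.PGraph.SzFix

set_option autoImplicit false
open Cfsg

namespace Cfsg.Agent.S3639

open Cfsg.Agent.Lib.Helper1.PGraph Cfsg.Agent.Lib.Helper3.Sz Matrix

/-- transport of the prime graph data along a group isomorphism -/
theorem transport {S H H' : Type*} [Group S] [Group H] [Group H'] (f : H' ≃* H)
    (h : (∀ r : ℕ, r.Prime → (r ∣ Nat.card S ↔ r ∣ Nat.card H)) ∧
      (∀ r s : ℕ, r.Prime → s.Prime → r ≠ s →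
        ((∃ x : S, orderOf x = r * s) ↔ (∃ y : H, orderOf y = r * s)))) :
    (∀ r : ℕ, r.Prime → (r ∣ Nat.card S ↔ r ∣ Nat.card H')) ∧
      (∀ r s : ℕ, r.Prime → s.Prime → r ≠ s →
        ((∃ x : S, orderOf x = r * s) ↔ (∃ y : H', orderOf y = r * s))) := by
  have hc : Nat.card H' = Nat.card H := Nat.card_congr f.toEquiv
  refine ⟨fun r hr => by rw [hc]; exact h.1 r hr, fun r s hr hs hrs => ?_⟩
  rw [h.2 r s hr hs hrs]
  constructor
  · rintro ⟨y, hy⟩
    exact ⟨f.symm y, by rw [MulEquiv.orderOf_eq, hy]⟩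
  · rintro ⟨y, hy⟩
    exact ⟨f y, by rw [MulEquiv.orderOf_eq, hy]⟩

/-- Let S be the Suzuki group over the field with q = 2^(2m+1) ≥ 8 elements. Then there are finite groups of arbitrarily large order with the same prime graph as S. -/
theorem result {F : Type*} [Field F] [Fintype F] {m : ℕ} (hm : 1 ≤ m) (hF : Fintype.card F = 2 ^ (2 * m + 1)) (N : ℕ) :
    ∃ (H : Type) (_ : Group H) (_ : Fintype H), N < Fintype.card H ∧ ((∀ r : ℕ, r.Prime → (r ∣ Nat.card ↥(Cfsg.Lie.Sz F (2 ^ (m + 1))) ↔ r ∣ Nat.card H)) ∧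
      (∀ r s : ℕ, r.Prime → s.Prime → r ≠ s → ((∃ x : ↥(Cfsg.Lie.Sz F (2 ^ (m + 1))), orderOf x = r * s) ↔ (∃ y : H, orderOf y = r * s)))) := by
  classical
  have : CharP F 2 := charP_two_of_card hF
  have hT : (titsOfCard hF).IsPow := titsOfCard_isPow hm hF
  let E : Gam (titsOfCard hF) ≃* ↥(Cfsg.Lie.Sz F (2 ^ (m + 1))) :=
    (gamEquiv (titsOfCard hF)).trans
      (MulEquiv.subgroupCongr (lieSz_eq (titsOfCard hF) hT (titsOfCard_apply hF)).symm)
  have hexp : ∀ a : Fin N → Fin 4 → F, a + a = 0 := by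
    intro a
    funext i j
    exact CharTwo.add_self_eq_zero (a i j)
  have hfix : ∀ (g : ↥(Cfsg.Lie.Sz F (2 ^ (m + 1)))) (a : Fin N → Fin 4 → F), a ≠ 0 → g • a = a →
      orderOf g ∣ 4 := by
    intro g a ha hga
    obtain ⟨i, hi⟩ : ∃ i, a i ≠ 0 := by
      by_contra h
      push Not at h
      exact ha (funext h)
    have hgi : g • a i = a i := congrFun hga i
    have hord : orderOf (E.symm g) = orderOf g := MulEquiv.orderOf_eq E.symm g
    rw [← hord]
    apply fix_order_dvd_four (titsOfCard hF) hT hi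
    rw [smul_vec]
    have hmat : (((E.symm g : Gam (titsOfCard hF)) : Matrix.SpecialLinearGroup (Fin 4) F) :
        Matrix (Fin 4) (Fin 4) F) = ((g : GL (Fin 4) F) : Matrix (Fin 4) (Fin 4) F) := by
      have hg : g = E (E.symm g) := (E.apply_symm_apply g).symm
      conv_rhs => rw [hg]
      rfl
    rw [hmat]
    exact hgi
  have h2 : 2 ∣ Nat.card ↥(Cfsg.Lie.Sz F (2 ^ (m + 1))) := by
    rw [← Nat.card_congr E.toEquiv, card_Gam (titsOfCard hF) hT]
    have hq : 2 ∣ Nat.card F := by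
      rw [Nat.card_eq_fintype_card, hF]
      exact dvd_pow_self 2 (by omega)
    exact Dvd.dvd.mul_left (Dvd.dvd.mul_right (Dvd.dvd.pow hq (by norm_num)) _) _
  have key := same_graph (S := ↥(Cfsg.Lie.Sz F (2 ^ (m + 1)))) (A := Fin N → Fin 4 → F) hexp hfix h2
  have hbig : N < Nat.card (Semi ↥(Cfsg.Lie.Sz F (2 ^ (m + 1))) (Fin N → Fin 4 → F)) := by
    rw [SemidirectProduct.card]
    have h1 : N < Nat.card (Multiplicative (Fin N → Fin 4 → F)) := by
      have : Nat.card (Multiplicative (Fin N → Fin 4 → F)) = (Fintype.card F ^ 4) ^ N := by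
        rw [Nat.card_eq_fintype_card]
        simp [Fintype.card_pi]
      rw [this]
      calc N < 2 ^ N := Nat.lt_two_pow_self
        _ ≤ (Fintype.card F ^ 4) ^ N := by
          apply Nat.pow_le_pow_left
          rw [hF]
          calc 2 = 2 ^ 1 := by norm_num
            _ ≤ (2 ^ (2 * m + 1)) ^ 4 := by
              rw [← pow_mul]
              exact Nat.pow_le_pow_right (by norm_num) (by omega)
    have h3 : 0 < Nat.card ↥(Cfsg.Lie.Sz F (2 ^ (m + 1))) := Nat.card_pos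
    calc N < Nat.card (Multiplicative (Fin N → Fin 4 → F)) := h1
      _ ≤ _ := Nat.le_mul_of_pos_right _ h3
  have hfin : Finite (Semi ↥(Cfsg.Lie.Sz F (2 ^ (m + 1))) (Fin N → Fin 4 → F)) :=
    Finite.of_equiv _ SemidirectProduct.equivProd.symm
  have hsmall : Small.{0} (Semi ↥(Cfsg.Lie.Sz F (2 ^ (m + 1))) (Fin N → Fin 4 → F)) :=
    Countable.toSmall _
  have hfin' : Finite (Shrink.{0} (Semi ↥(Cfsg.Lie.Sz F (2 ^ (m + 1))) (Fin N → Fin 4 → F))) :=
    Finite.of_equiv _ (equivShrink _)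
  refine ⟨Shrink.{0} (Semi ↥(Cfsg.Lie.Sz F (2 ^ (m + 1))) (Fin N → Fin 4 → F)), inferInstance,
    Fintype.ofFinite _, ?_, ?_⟩
  · have hc := @Nat.card_eq_fintype_card
      (Shrink.{0} (Semi ↥(Cfsg.Lie.Sz F (2 ^ (m + 1))) (Fin N → Fin 4 → F))) (Fintype.ofFinite _)
    rw [← hc, Nat.card_congr (equivShrink _).symm]
    exact hbig
  · exact transport (Shrink.mulEquiv) key

end Cfsg.Agent.S3639
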