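import Mathlib
import Cfsg.Statements.S3669
import Cfsg.Agent.Lib.Helper7.A5Deg2
import Cfsg.Agent.Lib.Helper7.Ord60
import Cfsg.Agent.Lib.Helper8.IM1
import Cfsg.Agent.S0494

set_option autoImplicit false
open Cfsg

namespace Cfsg.Agent.S3669

open Cfsg.Agent.Lib.Helper7.A5Deg Cfsg.Agent.Lib.Helper7.Ord60 Cfsg.Agent.Lib.Helper8

theorem result {G : Type*} [Group G] [Finite G] (hcard : Nat.card G = 60)
    (hΓ : Cfsg.degreePrimes G = Cfsg.degreePrimes (alternatingGroup (Fin 5)) ∧ Cfsg.degreeGraph G = Cfsg.degreeGraph (alternatingGroup (Fin 5))) : Nonempty (G ≃* alternatingGroup (Fin 5)) := by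
  obtain ⟨χ0, h0⟩ := exists_degree_five
  have h5A : 5 ∈ Cfsg.degreePrimes (alternatingGroup (Fin 5)) :=
    ⟨Nat.prime_five, _, ⟨χ0, rfl⟩, h0⟩
  rw [← hΓ.1] at h5A
  obtain ⟨-, d, ⟨χ, rfl⟩, h5⟩ := h5A
  have hfac : (Nat.card G).factorization 5 = 1 := by
    rw [hcard]
    have : (60 : ℕ) = 12 * 5 := by norm_num
    rw [this, Nat.factorization_mul (by norm_num) (by norm_num)]
    simp [Nat.Prime.factorization Nat.prime_five, Nat.factorization_eq_zero_of_not_dvd]
  have hP : ∀ P : Sylow 5 G, ¬ (P : Subgroup G).Normal := by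
    intro P hn
    haveI := hn
    have hPcard : Nat.card (P : Subgroup G) = 5 := by
      rw [Sylow.card_eq_multiplicity, hfac, pow_one]
    have hcyc : IsCyclic (P : Subgroup G) := isCyclic_of_prime_card hPcard
    have hab : ∀ a ∈ (P : Subgroup G), ∀ b ∈ (P : Subgroup G), a * b = b * a := by
      letI : CommGroup ↥(P : Subgroup G) := IsCyclic.commGroup
      intro a ha b hb
      exact congrArg Subtype.val (mul_comm (⟨a, ha⟩ : ↥(P : Subgroup G)) ⟨b, hb⟩)
    have h1 := charDegree_dvd_index_of_abelian (P : Subgroup G) hab χ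
    have hidx : (P : Subgroup G).index = 12 := by
      have := (P : Subgroup G).card_mul_index
      rw [hPcard, hcard] at this
      omega
    rw [hidx] at h1
    have h2 : 5 ∣ 12 := dvd_trans h5 h1
    omega
  haveI := simple_of_card_sixty hcard hP
  exact Cfsg.Agent.S0494.result hcard

end Cfsg.Agent.S3669
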