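import Cfsg.Statements.S3670
import Cfsg.Agent.Lib.Helper7.U33D2
import Cfsg.Agent.Lib.Helper7.U33D3
import Cfsg.Agent.Lib.Helper7.U33D8
import Cfsg.Agent.Lib.Helper7.U33D12

set_option autoImplicit false
open Cfsg

namespace Cfsg.Agent.S3670

open Cfsg.Agent.Lib.Helper7.U33D in
/-- The character degree graph of a finite group has as vertices the primes dividing some irreducible complex character degree, two distinct primes being joined when their product divides some irreducible character degree; two groups have the same character degree graph when they have the same vertices and the same joined pairs. Let F be the field with 9 elements and L = PSU(3,3) realised over F (order 6048). There is a finite solvable group of order 6048 with the same character degree graph as L; so L is not determined by its order together with its character degree graph. -/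
theorem result {F : Type*} [Field F] [Fintype F] (hF : Fintype.card F = 9) :
    ∃ (H : Type) (_ : Group H) (_ : Fintype H), Group.IsSolvable H ∧ Nat.card H = 6048 ∧ Cfsg.degreePrimes H = Cfsg.degreePrimes (Cfsg.PSU 3 F 3) ∧ Cfsg.degreeGraph H = Cfsg.degreeGraph (Cfsg.PSU 3 F 3) := by
  obtain ⟨e⟩ := exists_equiv hF
  have : Finite (Cfsg.PSU 3 F 3) := Finite.of_equiv _ e.symm.toEquiv
  have hcardL : Nat.card (Cfsg.PSU 3 F 3) = 6048 := by
    rw [Nat.card_congr e.toEquiv]
    exact card_UJ
  have hdeg := charDegrees_congr' e
  obtain ⟨h6, h14, h21⟩ := degrees_UJ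
  rw [← hdeg] at h6 h14 h21
  obtain ⟨hL1, hL2⟩ := graph_facts hcardL h6 h14 h21
  have h42 := deg42_HS
  obtain ⟨hH1, hH2⟩ := graph_facts card_HS ⟨42, h42, by norm_num⟩ ⟨42, h42, by norm_num⟩
    ⟨42, h42, by norm_num⟩
  refine ⟨HS, inferInstance, Fintype.ofFinite _, solvable_HS, card_HS, ?_, ?_⟩
  · rw [hH1, hL1]
  · rw [hH2, hL2]

end Cfsg.Agent.S3670
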