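import Mathlib
import Cfsg.Statements.S3678
import Cfsg.Agent.Lib.Helper7.AffSL2b

set_option autoImplicit false
open Cfsg

namespace Cfsg.Agent.S3678

open Cfsg.Agent.Lib.Helper7

theorem no_edge (m : ℕ) (hm0 : 0 < m) (hm : m ≤ 9) (h6 : ¬ 6 ∣ m) (p q : ℕ) (hp : p.Prime)
    (hq : q.Prime) (hpq : p ≠ q) : ¬ p * q ∣ m := by
  intro h
  have hp2 := hp.two_le
  have hq2 := hq.two_le
  have hle : p * q ≤ 9 := (Nat.le_of_dvd hm0 h).trans hm
  have hp' : p ≤ 4 := by nlinarith
  have hq' : q ≤ 4 := by nlinarith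
  have hp3 : p = 2 ∨ p = 3 := by
    interval_cases p
    · left; rfl
    · right; rfl
    · exact absurd hp (by norm_num)
  have hq3 : q = 2 ∨ q = 3 := by
    interval_cases q
    · left; rfl
    · right; rfl
    · exact absurd hq (by norm_num)
  rcases hp3 with rfl | rfl <;> rcases hq3 with rfl | rfl
  · exact hpq rfl
  · exact h6 h
  · exact h6 h
  · exact hpq rfl

theorem prime_cases (p : ℕ) (hp : p.Prime) :
    (p ∣ 7 ∨ p ∣ 3 ∨ p ∣ 4) ↔ (p ∣ 2 ∨ p ∣ 2 ^ 3 - 1 ∨ p ∣ 2 ^ 3 + 1) := by
  have h4 : p ∣ 4 ↔ p ∣ 2 := by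
    constructor
    · intro h
      have : p ∣ 2 ^ 2 := by norm_num; exact h
      exact hp.dvd_of_dvd_pow this
    · intro h; exact h.trans (by norm_num)
  have h9 : p ∣ 2 ^ 3 + 1 ↔ p ∣ 3 := by
    constructor
    · intro h
      have : p ∣ 3 ^ 2 := by norm_num at h ⊢; exact h
      exact hp.dvd_of_dvd_pow this
    · intro h; exact h.trans (by norm_num)
  have h7 : (2 : ℕ) ^ 3 - 1 = 7 := by norm_num
  rw [h4, h9, h7]
  tauto

/-- The prime graph of a finite group has the prime divisors of its order as vertices, two distinct primes p, q being joined when the group has an element of order pq; two groups have the same prime graph when they have the same prime divisors and the same joined pairs. Let F be the field with 7 elements. There are finite groups of arbitrarily large order with the same prime graph as PSL(2,F) (the graph on {2, 3, 7} with no edges, which is also the prime graph of PSL(2,8)). -/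
theorem result {F : Type*} [Field F] [Fintype F] (hF : Fintype.card F = 7) (N : ℕ) :
    ∃ (H : Type) (_ : Group H) (_ : Finite H), N < Nat.card H ∧
      ((∀ p : ℕ, p.Prime → (p ∣ Nat.card (Matrix.ProjectiveSpecialLinearGroup (Fin 2) F) ↔ p ∣ Nat.card H)) ∧
      (∀ p q : ℕ, p.Prime → q.Prime → p ≠ q → ((∃ g : (Matrix.ProjectiveSpecialLinearGroup (Fin 2) F), orderOf g = p * q) ↔ (∃ g : H, orderOf g = p * q)))) := by
  classical
  -- the characteristic is 7
  obtain ⟨c, hc⟩ := CharP.exists F
  haveI := hc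
  obtain ⟨n, hcp, hn⟩ := FiniteField.card F c
  have hc7 : c = 7 := by
    rw [hF] at hn
    have h1 : c ∣ 7 := by rw [hn]; exact dvd_pow_self c n.pos.ne'
    exact (Nat.prime_dvd_prime_iff_eq hcp (by norm_num)).mp h1
  subst hc7
  haveI : Fact (Nat.Prime 7) := ⟨by norm_num⟩
  have hspec := Cfsg.Agent.S2475.result (F := F) 7 (by rw [hF]; norm_num)
  have hspec' : ∀ m : ℕ, (∃ x : Matrix.ProjectiveSpecialLinearGroup (Fin 2) F, orderOf x = m) ↔
      (m ∣ 7 ∨ m ∣ 3 ∨ m ∣ 4) := by
    intro m
    have : (∃ x : Matrix.ProjectiveSpecialLinearGroup (Fin 2) F, orderOf x = m) ↔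
        m ∈ Set.range (orderOf : Matrix.ProjectiveSpecialLinearGroup (Fin 2) F → ℕ) := by
      simp [Set.mem_range]
    rw [this, hspec, Set.mem_ofPred_eq, hF]
    norm_num
  refine ⟨WGp 3 N, inferInstance, inferInstance, ?_, ?_, ?_⟩
  · exact lt_of_lt_of_le Nat.lt_two_pow_self (WGp_card_ge 3 N (by omega))
  · intro p hp
    rw [WGp_prime 3 N (by norm_num) p hp, prime_dvd_card_iff p hp, hspec', prime_cases p hp]
  · intro p q hp hq hpq
    rw [WGp_edge 3 N (by norm_num) p q hp hq hpq, hspec']
    have e1 := no_edge 7 (by norm_num) (by norm_num) (by norm_num) p q hp hq hpq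
    have e2 := no_edge 3 (by norm_num) (by norm_num) (by norm_num) p q hp hq hpq
    have e3 := no_edge 4 (by norm_num) (by norm_num) (by norm_num) p q hp hq hpq
    have e4 := no_edge 2 (by norm_num) (by norm_num) (by norm_num) p q hp hq hpq
    have e5 := no_edge (2 ^ 3 - 1) (by norm_num) (by norm_num) (by norm_num) p q hp hq hpq
    have e6 := no_edge (2 ^ 3 + 1) (by norm_num) (by norm_num) (by norm_num) p q hp hq hpq
    tauto

end Cfsg.Agent.S3678
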