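import Cfsg.Statements.S3680
import Mathlib
import Cfsg.Agent.Lib.Helper7.PrimSocle

set_option autoImplicit false
open Cfsg

namespace Cfsg.Agent.S3680

open MulAction Cfsg.Agent.Lib.Helper7.PrimSocle Cfsg.Agent.Lib.Helper2.MinNormalPower

/-- The socle of a finite primitive permutation group is either elementary abelian and regular, or a direct power T^m (m ≥ 1) of a non-abelian simple group T. -/
theorem result {G Ω : Type*} [Group G] [Finite G] [MulAction G Ω] [FaithfulSMul G Ω] [Finite Ω]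
    (hprim : MulAction.IsPreprimitive G Ω) (N : Subgroup G)
    (hN : N = sSup {V : Subgroup G | V.Normal ∧ V ≠ ⊥ ∧ ∀ M : Subgroup G, M.Normal → M ≤ V → M = ⊥ ∨ M = V}) :
    (∃ p : ℕ, p.Prime ∧ IsMulCommutative N ∧ (∀ x : N, x ^ p = 1) ∧
      MulAction.IsPretransitive N Ω ∧ ∀ ω : Ω, MulAction.stabilizer N ω = ⊥) ∨
    (∃ (T : Type) (_ : Group T) (m : ℕ), 1 ≤ m ∧ IsSimpleGroup T ∧ ¬ IsMulCommutative T ∧ Nonempty (N ≃* (Fin m → T))) := by
  classical
  have hN' : N = sSup {V : Subgroup G | IsMinNormal V} := hN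
  by_cases hemp : ∀ V : Subgroup G, ¬ IsMinNormal V
  · -- the trivial group
    have hGtriv : ∀ g : G, g = 1 := by
      by_contra hcon
      push Not at hcon
      obtain ⟨g, hg⟩ := hcon
      have htop : (⊤ : Subgroup G) ≠ ⊥ := by
        intro h
        have : g ∈ (⊥ : Subgroup G) := by
          rw [← h]
          trivial
        exact hg (Subgroup.mem_bot.mp this)
      obtain ⟨V, ⟨hVn, hVne⟩, hVmin⟩ := WellFounded.has_min
        (measure (fun K : Subgroup G => Nat.card K)).wf {K | K.Normal ∧ K ≠ ⊥}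
        ⟨⊤, inferInstance, htop⟩
      apply hemp V
      refine ⟨hVn, hVne, fun M hM hMV => ?_⟩
      by_cases hM0 : M = ⊥
      · exact Or.inl hM0
      · right
        exact Subgroup.eq_of_le_of_card_ge hMV (not_lt.mp (hVmin M ⟨hM, hM0⟩))
    have hNbot : ∀ x : N, x = 1 := fun x => Subtype.ext (hGtriv x)
    left
    refine ⟨2, Nat.prime_two, ⟨⟨fun a b => by rw [hNbot a, hNbot b]⟩⟩,
      fun x => by rw [hNbot x, one_pow], ?_, ?_⟩
    · haveI := hprim
      refine ⟨fun a b => ⟨1, ?_⟩⟩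
      obtain ⟨g, hg⟩ := exists_smul_eq G a b
      rw [one_smul, ← hg, hGtriv g, one_smul]
    · intro ω
      rw [eq_bot_iff]
      intro x _
      rw [Subgroup.mem_bot]
      exact hNbot x
  push Not at hemp
  obtain ⟨V₁, hV₁⟩ := hemp
  -- a point
  have hne' : Nonempty Ω := by
    by_contra hempty
    rw [not_nonempty_iff] at hempty
    apply hV₁.2.1
    rw [eq_bot_iff]
    intro v _
    rw [Subgroup.mem_bot]
    apply FaithfulSMul.eq_of_smul_eq_smul (α := Ω)
    intro x
    exact hempty.elim x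
  obtain ⟨ω₀⟩ := hne'
  by_cases hab : ∃ V : Subgroup G, IsMinNormal V ∧ ∀ a ∈ V, ∀ b ∈ V, a * b = b * a
  · obtain ⟨V, hV, habV⟩ := hab
    obtain ⟨huniq, p, hp, hexp, htr, hreg⟩ := abelian_case hprim hV habV
    have hNV : N = V := by
      rw [hN']
      apply le_antisymm
      · exact sSup_le (fun W hW => (huniq W hW).le)
      · exact le_sSup hV
    left
    subst hNV
    refine ⟨p, hp, ⟨⟨fun a b => Subtype.ext (habV a a.2 b b.2)⟩⟩, fun x => ?_, ?_, ?_⟩
    · apply Subtype.ext
      simpa using hexp x x.2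
    · refine ⟨fun a b => ?_⟩
      obtain ⟨v, hv, hvab⟩ := htr a b
      exact ⟨⟨v, hv⟩, hvab⟩
    · intro ω
      rw [eq_bot_iff]
      intro x hx
      rw [Subgroup.mem_bot]
      apply Subtype.ext
      exact hreg ω x x.2 hx
  · right
    push Not at hab
    haveI := hV₁.1
    obtain ⟨T₀, m, hT₀, hm, ⟨e⟩⟩ := exists_equiv_pi V₁ hV₁.2.1 hV₁.2.2
    have hT₀nc : ¬ ∀ a b : T₀, a * b = b * a := by
      intro hcomm
      obtain ⟨a, ha, b, hb, habne⟩ := hab V₁ hV₁
      apply habne
      have h1 : e (⟨a, ha⟩ * ⟨b, hb⟩) = e (⟨b, hb⟩ * ⟨a, ha⟩) := by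
        rw [map_mul, map_mul]
        funext i
        exact hcomm _ _
      have h2 := e.injective h1
      exact congrArg Subtype.val h2
    obtain ⟨T, instT, _, ⟨eT⟩⟩ := Cfsg.Agent.Lib.Helper7.Schur.exists_mulEquiv_univ.{_, 0} T₀
    haveI : IsSimpleGroup T := eT.isSimpleGroup
    have hTnc : ¬ IsMulCommutative T := by
      intro h
      apply hT₀nc
      intro a b
      have h1 : eT.symm a * eT.symm b = eT.symm b * eT.symm a := h.is_comm.comm _ _
      rw [← map_mul, ← map_mul] at h1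
      exact eT.symm.injective h1
    let e' : V₁ ≃* (Fin m → T) := e.trans (MulEquiv.piCongrRight (fun _ => eT.symm))
    by_cases h2 : ∃ V₂ : Subgroup G, IsMinNormal V₂ ∧ V₂ ≠ V₁
    · obtain ⟨V₂, hV₂, hne⟩ := h2
      obtain ⟨⟨θ⟩, hall⟩ := two_min_normal hprim hV₁ hV₂ hne ω₀
      have hNV : N = V₁ ⊔ V₂ := by
        rw [hN']
        apply le_antisymm
        · apply sSup_le
          intro U hU
          rcases hall U hU with h | h
          · rw [h]
            exact le_sup_left
          · rw [h]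
            exact le_sup_right
        · exact sup_le (le_sSup hV₁) (le_sSup hV₂)
      subst hNV
      have hc : ∀ x ∈ V₁, ∀ y ∈ V₂, Commute x y := by
        intro x hx y hy
        exact Subgroup.commute_of_normal_of_disjoint V₁ V₂ hV₁.1 hV₂.1
          (disjoint_iff.mpr (inf_eq_bot_of_ne hV₁ hV₂ hne)) x y hx hy
      obtain ⟨e₁⟩ := nonempty_sup_equiv_prod hc (inf_eq_bot_of_ne hV₁ hV₂ hne)
      refine ⟨T, instT, m + m, by omega, inferInstance, hTnc, ⟨?_⟩⟩
      exact (e₁.trans (MulEquiv.prodCongr e' (θ.symm.trans e'))).trans (piSumMulEquiv T m m)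
    · push Not at h2
      have hNV : N = V₁ := by
        rw [hN']
        apply le_antisymm
        · exact sSup_le (fun W hW => (h2 W hW).le)
        · exact le_sSup hV₁
      subst hNV
      exact ⟨T, instT, m, hm, inferInstance, hTnc, ⟨e'⟩⟩

end Cfsg.Agent.S3680
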