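import Mathlib
import Cfsg.Statements.S3681

set_option autoImplicit false
open Cfsg

namespace Cfsg.Agent.S3681

open Equiv Equiv.Perm

theorem pai {Ω : Type*} (f : Perm Ω) (a : Ω) : f (f⁻¹ a) = a := f.apply_symm_apply a

theorem pia {Ω : Type*} (f : Perm Ω) (a : Ω) : f⁻¹ (f a) = a := f.symm_apply_apply a

/-- two permutations whose supports meet in exactly one point have a 3-cycle as commutator -/
theorem isThreeCycle_commutator {Ω : Type*} [Fintype Ω] [DecidableEq Ω] (x y : Perm Ω) (δ : Ω)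
    (hx : x δ ≠ δ) (hy : y δ ≠ δ) (h : ∀ ω, ω ≠ δ → x ω = ω ∨ y ω = ω) :
    IsThreeCycle (x * y * x⁻¹ * y⁻¹) := by
  have hyx : y (x δ) = x δ := by
    rcases h (x δ) hx with h1 | h1
    · exact (hx (x.injective h1)).elim
    · exact h1
  have hxy : x (y δ) = y δ := by
    rcases h (y δ) hy with h1 | h1
    · exact h1
    · exact (hy (y.injective h1)).elim
  have hne : x δ ≠ y δ := by
    intro e
    rw [e] at hyx
    exact hy (y.injective hyx)
  have hxi : x⁻¹ δ ≠ δ := by
    intro e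
    rw [Perm.inv_eq_iff_eq] at e
    exact hx e.symm
  have hyi : y⁻¹ δ ≠ δ := by
    intro e
    rw [Perm.inv_eq_iff_eq] at e
    exact hy e.symm
  have hyxi : y (x⁻¹ δ) = x⁻¹ δ := by
    rcases h (x⁻¹ δ) hxi with h1 | h1
    · rw [pai] at h1
      exact (hxi h1.symm).elim
    · exact h1
  have hxyi : x (y⁻¹ δ) = y⁻¹ δ := by
    rcases h (y⁻¹ δ) hyi with h1 | h1
    · exact h1
    · rw [pai] at h1
      exact (hyi h1.symm).elim
  have key : x * y * x⁻¹ * y⁻¹ = swap δ (y δ) * swap δ (x δ) := by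
    ext ω
    simp only [Perm.mul_apply]
    by_cases h1 : ω = δ
    · subst h1
      rw [swap_apply_left, swap_apply_of_ne_of_ne hx hne]
      have e1 : x⁻¹ (y⁻¹ ω) = y⁻¹ ω := by
        rw [Perm.inv_eq_iff_eq]; exact hxyi.symm
      rw [e1, pai]
    by_cases h2 : ω = x δ
    · subst h2
      rw [swap_apply_right, swap_apply_left]
      have e1 : y⁻¹ (x δ) = x δ := by
        rw [Perm.inv_eq_iff_eq]; exact hyx.symm
      rw [e1, pia, hxy]
    by_cases h3 : ω = y δ
    · subst h3
      rw [swap_apply_of_ne_of_ne hy hne.symm, swap_apply_right, pia, hyxi,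
        pai]
    rw [swap_apply_of_ne_of_ne h1 h2, swap_apply_of_ne_of_ne h1 h3]
    by_cases h4 : y ω = ω
    · have e1 : y⁻¹ ω = ω := by rw [Perm.inv_eq_iff_eq]; exact h4.symm
      rw [e1]
      by_cases h5 : x ω = ω
      · have e2 : x⁻¹ ω = ω := by rw [Perm.inv_eq_iff_eq]; exact h5.symm
        rw [e2, h4, h5]
      · have h6 : x⁻¹ ω ≠ δ := by
          intro e
          rw [Perm.inv_eq_iff_eq] at e
          exact h2 e
        have h7 : x (x⁻¹ ω) ≠ x⁻¹ ω := by
          rw [pai]
          intro e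
          rw [Perm.eq_inv_iff_eq] at e
          exact h5 e
        rcases h (x⁻¹ ω) h6 with h8 | h8
        · exact (h7 h8).elim
        · rw [h8, pai]
    · have h5 : x ω = ω := by
        rcases h ω h1 with h5 | h5
        · exact h5
        · exact (h4 h5).elim
      have h6 : y⁻¹ ω ≠ δ := by
        intro e
        rw [Perm.inv_eq_iff_eq] at e
        exact h3 e
      have h7 : y (y⁻¹ ω) ≠ y⁻¹ ω := by
        rw [pai]
        intro e
        rw [Perm.eq_inv_iff_eq] at e
        exact h4 e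
      rcases h (y⁻¹ ω) h6 with h8 | h8
      · have e2 : x⁻¹ (y⁻¹ ω) = y⁻¹ ω := by rw [Perm.inv_eq_iff_eq]; exact h8.symm
        rw [e2, pai, h5]
      · exact (h7 h8).elim
  rw [key]
  exact isThreeCycle_swap_mul_swap_same (Ne.symm hy) (Ne.symm hx) hne.symm

/-- the pointwise stabilizer of a finite set in the symmetric group -/
def fixS {Ω : Type*} [DecidableEq Ω] (Δ : Finset Ω) : Subgroup (Perm Ω) where
  carrier := {f | ∀ a, ¬ (a ∉ Δ) → f a = a}
  one_mem' := fun a _ => rfl
  mul_mem' := by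
    intro f g hf hg a ha
    rw [Perm.mul_apply, hg a ha, hf a ha]
  inv_mem' := by
    intro f hf a ha
    rw [Perm.inv_eq_iff_eq]
    exact (hf a ha).symm

theorem mem_fixS {Ω : Type*} [DecidableEq Ω] (Δ : Finset Ω) (f : Perm Ω) :
    f ∈ fixS Δ ↔ ∀ a ∈ Δ, f a = a := by
  constructor
  · intro h a ha
    exact h a (not_not.mpr ha)
  · intro h a ha
    exact h a (not_not.mp ha)

theorem card_fixS {Ω : Type*} [Fintype Ω] [DecidableEq Ω] (Δ : Finset Ω) :
    Nat.card (fixS Δ) = Nat.factorial (Fintype.card Ω - Δ.card) := by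
  have h1 : Nat.card (fixS Δ) = Nat.card (Perm {a // a ∉ Δ}) :=
    Nat.card_congr (Perm.subtypeEquivSubtypePerm (fun a => a ∉ Δ)).symm
  rw [h1, Nat.card_perm, Nat.card_eq_fintype_card, Fintype.card_subtype_compl, Fintype.card_coe]

theorem bochert_subgroup {Ω : Type*} [Fintype Ω] [DecidableEq Ω] (R : Subgroup (Perm Ω))
    (hprim : MulAction.IsPreprimitive R Ω) (hA : ¬ alternatingGroup Ω ≤ R) :
    Nat.card R * Nat.factorial ((Fintype.card Ω + 1) / 2) ≤ Nat.factorial (Fintype.card Ω) := by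
  classical
  let IsBase : Finset Ω → Prop := fun Δ => ∀ g ∈ R, (∀ ω ∈ Δ, g ω = ω) → g = 1
  have huniv : IsBase Finset.univ := by
    intro g _ hg
    ext ω
    exact hg ω (Finset.mem_univ ω)
  obtain ⟨Δ, hΔ, hmin⟩ := Finset.exists_min_image (Finset.univ.filter IsBase) Finset.card
    ⟨Finset.univ, Finset.mem_filter.mpr ⟨Finset.mem_univ _, huniv⟩⟩
  have hΔb : IsBase Δ := (Finset.mem_filter.mp hΔ).2
  have hmin' : ∀ Δ' : Finset Ω, IsBase Δ' → Δ.card ≤ Δ'.card := fun Δ' h' =>
    hmin Δ' (Finset.mem_filter.mpr ⟨Finset.mem_univ _, h'⟩)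
  have hhalf : 2 * Δ.card ≤ Fintype.card Ω := by
    by_contra hcon
    push Not at hcon
    have hc : Δᶜ.card < Δ.card := by
      rw [Finset.card_compl]
      have := Finset.card_le_univ Δ
      omega
    have hnb : ¬ IsBase Δᶜ := fun hb => absurd (hmin' _ hb) (not_le.mpr hc)
    simp only [IsBase] at hnb
    push Not at hnb
    obtain ⟨y, hyR, hyfix, hy1⟩ := hnb
    obtain ⟨δ, hδ⟩ : ∃ δ, y δ ≠ δ := by
      by_contra hcon
      push Not at hcon
      exact hy1 (Perm.ext hcon)
    have hδΔ : δ ∈ Δ := by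
      by_contra hδ'
      exact hδ (hyfix δ (Finset.mem_compl.mpr hδ'))
    have hnb2 : ¬ IsBase (Δ.erase δ) := by
      intro hb
      have h1 := hmin' _ hb
      rw [Finset.card_erase_of_mem hδΔ] at h1
      have : 0 < Δ.card := Finset.card_pos.mpr ⟨δ, hδΔ⟩
      omega
    simp only [IsBase] at hnb2
    push Not at hnb2
    obtain ⟨x, hxR, hxfix, hx1⟩ := hnb2
    have hxδ : x δ ≠ δ := by
      intro e
      apply hx1
      apply hΔb x hxR
      intro ω hω
      by_cases hωδ : ω = δ
      · rw [hωδ]; exact e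
      · exact hxfix ω (Finset.mem_erase.mpr ⟨hωδ, hω⟩)
    have h3 := isThreeCycle_commutator x y δ hxδ hδ (by
      intro ω hω
      by_cases hωΔ : ω ∈ Δ
      · left; exact hxfix ω (Finset.mem_erase.mpr ⟨hω, hωΔ⟩)
      · right; exact hyfix ω (Finset.mem_compl.mpr hωΔ))
    apply hA
    exact alternatingGroup_le_of_isPreprimitive_of_isThreeCycle_mem hprim h3
      (R.mul_mem (R.mul_mem (R.mul_mem hxR hyR) (R.inv_mem hxR)) (R.inv_mem hyR))
  -- counting
  have hdisj : Disjoint R (fixS Δ) := by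
    rw [Subgroup.disjoint_def]
    intro g hgR hgF
    exact hΔb g hgR ((mem_fixS Δ g).mp hgF)
  have hinj := Subgroup.mul_injective_of_disjoint hdisj
  have h1 := Nat.card_le_card_of_injective _ hinj
  rw [Nat.card_prod, card_fixS, Nat.card_perm, Nat.card_eq_fintype_card (α := Ω)] at h1
  refine le_trans (Nat.mul_le_mul_left _ (Nat.factorial_le ?_)) h1
  omega

theorem result {G Ω : Type*} [Group G] [Finite G] [MulAction G Ω] [FaithfulSMul G Ω] [Fintype Ω] [DecidableEq Ω]
    (hprim : MulAction.IsPreprimitive G Ω) (hA : ¬ alternatingGroup Ω ≤ (MulAction.toPermHom G Ω).range) :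
    Nat.card G * Nat.factorial ((Fintype.card Ω + 1) / 2) ≤ Nat.factorial (Fintype.card Ω) := by
  have hinj : Function.Injective (MulAction.toPermHom G Ω) := MulAction.toPerm_injective
  have hcard : Nat.card G = Nat.card (MulAction.toPermHom G Ω).range :=
    Nat.card_congr (MonoidHom.ofInjective hinj).toEquiv
  rw [hcard]
  apply bochert_subgroup _ _ hA
  let f : Ω →ₑ[(MulAction.toPermHom G Ω).rangeRestrict] Ω := ⟨id, fun g ω => rfl⟩
  exact MulAction.IsPreprimitive.of_surjective (f := f) Function.surjective_id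

end Cfsg.Agent.S3681
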