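import Cfsg.Statements.S3683
import Mathlib

set_option autoImplicit false
open Cfsg

namespace Cfsg.Agent.S3683

theorem result {G Ω : Type*} [Group G] [Finite G] [MulAction G Ω] [FaithfulSMul G Ω] [Finite Ω]
    (hprim : MulAction.IsPreprimitive G Ω) (a b : Ω) (hab : a ≠ b) (hfix : ∀ g : G, g • a = a → g • b = b) :
    MulAction.stabilizer G a = ⊥ ∧ IsCyclic G ∧ (Nat.card G).Prime := by
  haveI : Nontrivial Ω := ⟨⟨a, b, hab⟩⟩
  have hS : IsCoatom (MulAction.stabilizer G a) :=
    MulAction.IsPreprimitive.isCoatom_stabilizer_of_isPreprimitive G a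
  set S := MulAction.stabilizer G a with hSdef
  obtain ⟨g₀, hg₀⟩ := MulAction.exists_smul_eq G a b
  have hSb : S ≤ MulAction.stabilizer G b := by
    intro s hs
    rw [MulAction.mem_stabilizer_iff]
    exact hfix s (MulAction.mem_stabilizer_iff.mp hs)
  have hbtop : MulAction.stabilizer G b ≠ ⊤ := by
    intro htop
    obtain ⟨g, hg⟩ := MulAction.exists_smul_eq G b a
    have : g ∈ MulAction.stabilizer G b := by rw [htop]; exact Subgroup.mem_top g
    rw [MulAction.mem_stabilizer_iff] at this
    exact hab (by rw [← hg, this])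
  have hSeq : MulAction.stabilizer G b = S := by
    rcases hS.le_iff.mp hSb with h | h
    · exact absurd h hbtop
    · exact h
  have hconj : S.map (MulAut.conj g₀).toMonoidHom = S := by
    rw [hSdef, ← MulAction.stabilizer_smul_eq_stabilizer_map_conj, hg₀]
    exact hSeq
  have hg₀N : g₀ ∈ Subgroup.normalizer (S : Set G) := by
    rw [Subgroup.mem_normalizer_iff_map_conj_eq]
    exact hconj
  have hg₀S : g₀ ∉ S := by
    intro h
    rw [hSdef, MulAction.mem_stabilizer_iff, hg₀] at h
    exact hab h.symm
  have hNtop : Subgroup.normalizer (S : Set G) = ⊤ := by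
    apply hS.2
    apply lt_of_le_of_ne Subgroup.le_normalizer
    intro h
    apply hg₀S
    rw [h]; exact hg₀N
  have hSn : S.Normal := Subgroup.normalizer_eq_top_iff.mp hNtop
  have hSbot : S = ⊥ := by
    rw [eq_bot_iff]
    intro s hs
    rw [Subgroup.mem_bot]
    apply FaithfulSMul.eq_of_smul_eq_smul (α := Ω)
    intro c
    rw [one_smul]
    obtain ⟨g, rfl⟩ := MulAction.exists_smul_eq G a c
    have : s ∈ MulAction.stabilizer G (g • a) := by
      rw [MulAction.stabilizer_smul_eq_stabilizer_map_conj]
      have := Subgroup.normal_iff_map_conj_eq.mp hSn g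
      change S.map (MulAut.conj g).toMonoidHom = S at this
      rw [this]; exact hs
    exact MulAction.mem_stabilizer_iff.mp this
  -- every subgroup is bot or top
  have hsimple : ∀ H : Subgroup G, H = ⊥ ∨ H = ⊤ := by
    intro H
    by_cases h : H = ⊥
    · left; exact h
    · right
      apply hS.2
      rw [hSbot]
      exact bot_lt_iff_ne_bot.mpr h
  have hnt : Nontrivial G := by
    have := hS.1
    rw [hSbot] at this
    by_contra hc
    rw [not_nontrivial_iff_subsingleton] at hc
    exact this (Subsingleton.elim _ _)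
  obtain ⟨g, hg⟩ := exists_ne (1 : G)
  have hgtop : Subgroup.zpowers g = ⊤ :=
    (hsimple _).resolve_left (Subgroup.zpowers_ne_bot.2 hg)
  have hcyc : IsCyclic G := ⟨⟨g, (Subgroup.eq_top_iff' _).1 hgtop⟩⟩
  refine ⟨hSbot, hcyc, ?_⟩
  haveI : IsSimpleGroup G :=
    { exists_pair_ne := hnt.exists_pair_ne
      eq_bot_or_eq_top_of_normal := fun H _ => hsimple H }
  haveI : IsMulCommutative G := hcyc.isMulCommutative
  exact Group.is_simple_iff_prime_card.mp inferInstance

end Cfsg.Agent.S3683
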