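import Mathlib
import Cfsg.Statements.S3684
import Cfsg.Agent.Lib.Helper1.DihedralIso
import Cfsg.Agent.Lib.Lead.CoprimeTools
import Cfsg.Agent.Lib.Lead.MaxClass5

set_option autoImplicit false
open Cfsg

namespace Cfsg.Agent.S3684

open Cfsg.Agent.Lib.Lead

section
variable {G Ω : Type*} [Group G] [Finite G] [MulAction G Ω] [FaithfulSMul G Ω] [Finite Ω]

/-- a normal subgroup fixing a point of a transitive faithful action is trivial -/
theorem eq_bot_of_normal_le_stabilizer [MulAction.IsPretransitive G Ω] (K : Subgroup G) [K.Normal]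
    (a : Ω) (hK : K ≤ MulAction.stabilizer G a) : K = ⊥ := by
  rw [Subgroup.eq_bot_iff_forall]
  intro k hk
  apply FaithfulSMul.eq_of_smul_eq_smul (α := Ω)
  intro ω
  obtain ⟨g, rfl⟩ := MulAction.exists_smul_eq G a ω
  have h1 : g⁻¹ * k * g ∈ K := by
    have := Subgroup.Normal.conj_mem inferInstance k hk g⁻¹
    simpa using this
  have h2 := hK h1
  rw [MulAction.mem_stabilizer_iff, mul_smul, mul_smul, inv_smul_eq_iff] at h2
  rw [one_smul]; exact h2

theorem stabilizer_facts (hprim : MulAction.IsPreprimitive G Ω) (a b : Ω)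
    (h2 : Nat.card (MulAction.orbit (MulAction.stabilizer G a) b) = 2) :
    Nat.card (MulAction.stabilizer G a) = 2 ∧ Nat.card (MulAction.stabilizer G b) = 2 ∧
      MulAction.stabilizer G a ≠ MulAction.stabilizer G b ∧
      MulAction.stabilizer G a ⊔ MulAction.stabilizer G b = ⊤ ∧
      IsCoatom (MulAction.stabilizer G a) := by
  haveI := hprim.toIsPretransitive
  set Ga := MulAction.stabilizer G a with hGa
  set Gb := MulAction.stabilizer G b with hGb
  have hidx : Gb.relIndex Ga = 2 := by
    have h1 := MulAction.index_stabilizer (↥Ga) b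
    rw [← Nat.card_coe_set_eq, h2] at h1
    have h3 : MulAction.stabilizer (↥Ga) b = Gb.subgroupOf Ga := by
      ext x
      rw [MulAction.mem_stabilizer_iff, Subgroup.mem_subgroupOf, hGb, MulAction.mem_stabilizer_iff]
      rfl
    rw [h3] at h1
    exact h1
  have hne : Ga ≠ Gb := by
    intro h
    rw [← h, Subgroup.relIndex_self] at hidx
    omega
  haveI : Nontrivial Ω := by
    by_contra hnt
    rw [not_nontrivial_iff_subsingleton] at hnt
    have : Ga = Gb := by rw [hGa, hGb, Subsingleton.elim a b]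
    exact hne this
  have hco : IsCoatom Ga := MulAction.IsPreprimitive.isCoatom_stabilizer_of_isPreprimitive (G := G) a
  have hcard : Nat.card Ga = Nat.card Gb := by
    have h1 := Ga.card_mul_index
    have h3 := Gb.card_mul_index
    rw [hGa, MulAction.index_stabilizer_of_transitive] at h1
    rw [hGb, MulAction.index_stabilizer_of_transitive] at h3
    have hpos : 0 < Nat.card Ω := Nat.card_pos
    exact Nat.eq_of_mul_eq_mul_right hpos (h1.trans h3.symm)
  have hsup : Ga ⊔ Gb = ⊤ := by
    by_contra hcon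
    have h1 : Ga ⊔ Gb = Ga := by
      rcases eq_or_lt_of_le (le_sup_left : Ga ≤ Ga ⊔ Gb) with h | h
      · exact h.symm
      · exact absurd (hco.2 _ h) hcon
    have h3 : Gb ≤ Ga := h1 ▸ le_sup_right
    exact hne (Subgroup.eq_of_le_of_card_ge h3 hcard.le).symm
  -- K = Ga ⊓ Gb is normal in G
  set K := Ga ⊓ Gb with hK
  have hKa : K.relIndex Ga = 2 := by rw [hK, inf_comm, Subgroup.inf_relIndex_right]; exact hidx
  have hKcard : Nat.card K * 2 = Nat.card Ga := by
    have := (K.subgroupOf Ga).card_mul_index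
    rw [card_subgroupOf_of_le inf_le_left] at this
    rw [← this]; congr 1; exact hKa.symm
  have hKb : K.relIndex Gb = 2 := by
    have := (K.subgroupOf Gb).card_mul_index
    rw [card_subgroupOf_of_le inf_le_right, ← hcard, ← hKcard] at this
    have hpos : 0 < Nat.card K := Nat.card_pos
    exact Nat.eq_of_mul_eq_mul_left hpos this
  have hna : Ga ≤ Subgroup.normalizer (K : Set G) := by
    haveI : (K.subgroupOf Ga).Normal := Subgroup.normal_of_index_eq_two hKa
    exact Subgroup.normal_subgroupOf_iff_le_normalizer inf_le_left |>.mp inferInstance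
  have hnb : Gb ≤ Subgroup.normalizer (K : Set G) := by
    haveI : (K.subgroupOf Gb).Normal := Subgroup.normal_of_index_eq_two hKb
    exact Subgroup.normal_subgroupOf_iff_le_normalizer inf_le_right |>.mp inferInstance
  haveI hKn : K.Normal := by
    rw [← Subgroup.normalizer_eq_top_iff, eq_top_iff, ← hsup]
    exact sup_le hna hnb
  have hK1 : K = ⊥ := eq_bot_of_normal_le_stabilizer K a inf_le_left
  rw [hK1, Subgroup.card_bot, one_mul] at hKcard
  exact ⟨hKcard.symm, by rw [← hcard]; exact hKcard.symm, hne, hsup, hco⟩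

end


section
variable {G : Type*} [Group G] [Finite G]

/-- a subgroup of order two is generated by an involution -/
theorem exists_gen_of_card_two (H : Subgroup G) (hH : Nat.card H = 2) :
    ∃ t : G, orderOf t = 2 ∧ H = Subgroup.zpowers t := by
  have hne : H ≠ ⊥ := by
    intro h
    rw [h, Subgroup.card_bot] at hH
    omega
  obtain ⟨⟨t, htH⟩, ht1⟩ := (Subgroup.ne_bot_iff_exists_ne_one).mp hne
  have ht1' : (t : G) ≠ 1 := fun h => ht1 (Subtype.ext h)
  have hd : orderOf (t : G) ∣ 2 := by
    rw [← hH]; exact Subgroup.orderOf_dvd_natCard H htH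
  have ho : orderOf (t : G) = 2 := by
    rcases (Nat.dvd_prime Nat.prime_two).mp hd with h | h
    · exact absurd (orderOf_eq_one_iff.mp h) ht1'
    · exact h
  refine ⟨t, ho, ?_⟩
  symm
  apply Subgroup.eq_of_le_of_card_ge (Subgroup.zpowers_le.mpr htH)
  rw [Nat.card_zpowers, ho, hH]

theorem mem_zpowers_of_orderOf_two {t x : G} (ht : orderOf t = 2) (hx : x ∈ Subgroup.zpowers t) :
    x = 1 ∨ x = t := by
  obtain ⟨k, rfl⟩ := Subgroup.mem_zpowers_iff.mp hx
  rw [← zpow_mod_orderOf, ht]
  rcases Int.emod_two_eq_zero_or_one k with h | h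
  · left; rw [show ((2 : ℕ) : ℤ) = 2 from rfl, h, zpow_zero]
  · right; rw [show ((2 : ℕ) : ℤ) = 2 from rfl, h, zpow_one]

/-- a group generated by two involutions `t, s` in which `⟨t⟩` is maximal: `t s` has prime
order -/
theorem prime_orderOf_mul (t s : G) (ht : orderOf t = 2) (hs : orderOf s = 2) (hts : t ≠ s)
    (hco : IsCoatom (Subgroup.zpowers t)) (hcard : Nat.card G = 2 * orderOf (t * s)) :
    (orderOf (t * s)).Prime := by
  set c := t * s with hc
  set m := orderOf c with hm
  have ht2 : t * t = 1 := by rw [← sq, ← ht]; exact pow_orderOf_eq_one t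
  have hs2 : s * s = 1 := by rw [← sq, ← hs]; exact pow_orderOf_eq_one s
  have htinv : t⁻¹ = t := inv_eq_of_mul_eq_one_right ht2
  have hsinv : s⁻¹ = s := inv_eq_of_mul_eq_one_right hs2
  have hmpos : 0 < m := orderOf_pos c
  have hm1 : m ≠ 1 := by
    intro h
    rw [hm, orderOf_eq_one_iff, hc] at h
    apply hts
    have : s = t⁻¹ := (eq_inv_of_mul_eq_one_right h)
    rw [this, htinv]
  by_contra hnp
  obtain ⟨d, hdm, hd2, hdlt⟩ := Nat.exists_dvd_of_not_prime2 (by omega) hnp
  obtain ⟨e, he⟩ := hdm
  have he2 : 2 ≤ e := by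
    by_contra hlt
    push Not at hlt
    interval_cases e
    · omega
    · omega
  have hconj : t * c * t⁻¹ = c⁻¹ := by
    rw [hc, mul_inv_rev, hsinv, htinv]
    calc t * (t * s) * t = (t * t) * s * t := by group
      _ = s * t := by rw [ht2, one_mul]
  set u := c ^ d with hu
  have hou : orderOf u = e := by
    rw [hu, orderOf_pow' c (by omega : d ≠ 0), ← hm, he, Nat.gcd_mul_right_left,
      Nat.mul_div_cancel_left e (by omega)]
  have hconju : t * u * t⁻¹ = u⁻¹ := by
    rw [hu, ← inv_pow, ← hconj]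
    exact (conj_pow (a := t) (b := c) (i := d)).symm
  have hnorm : Subgroup.zpowers t ≤ Subgroup.normalizer (Subgroup.zpowers u : Set G) := by
    rw [Subgroup.zpowers_le]
    apply Cfsg.Agent.Lib.Lead.mem_normalizer_of_conj_mem
    intro k hk
    obtain ⟨i, rfl⟩ := Subgroup.mem_zpowers_iff.mp hk
    have : t * u ^ i * t⁻¹ = (u⁻¹) ^ i := by
      rw [← hconju]; exact (conj_zpow (a := t) (b := u) (i := i)).symm
    rw [this]
    exact Subgroup.zpow_mem _ (Subgroup.inv_mem _ (Subgroup.mem_zpowers u)) i
  have hcardL := card_sup_mul_card_inf (Subgroup.zpowers t) (Subgroup.zpowers u) hnorm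
  rw [Nat.card_zpowers, Nat.card_zpowers, ht, hou] at hcardL
  set L := Subgroup.zpowers t ⊔ Subgroup.zpowers u with hL
  have hLle : Nat.card L ≤ 2 * e := by
    have hpos : 0 < Nat.card (Subgroup.zpowers t ⊓ Subgroup.zpowers u : Subgroup G) := Nat.card_pos
    calc Nat.card L ≤ Nat.card L * Nat.card (Subgroup.zpowers t ⊓ Subgroup.zpowers u : Subgroup G) :=
          Nat.le_mul_of_pos_right _ hpos
      _ = 2 * e := hcardL
  have hLtop : L ≠ ⊤ := by
    intro h
    rw [h, Subgroup.card_top, hcard, he] at hLle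
    have : e < d * e := by nlinarith
    omega
  have hLeq : L = Subgroup.zpowers t := by
    rcases eq_or_lt_of_le (le_sup_left : Subgroup.zpowers t ≤ L) with h | h
    · exact h.symm
    · exact absurd (hco.2 _ h) hLtop
  have huL : u ∈ Subgroup.zpowers t := by
    rw [← hLeq]; exact Subgroup.mem_sup_right (Subgroup.mem_zpowers u)
  rcases mem_zpowers_of_orderOf_two ht huL with h | h
  · rw [h, orderOf_one] at hou
    omega
  · -- t = c ^ d commutes with c
    have hcomm : t * c * t⁻¹ = c := by
      rw [← h, hu]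
      exact ((Commute.refl c).pow_left d).mul_inv_cancel
    rw [hconj] at hcomm
    have hc2 : c ^ 2 = 1 := by
      rw [sq]
      nth_rewrite 2 [← hcomm]
      exact mul_inv_cancel c
    have : m ∣ 2 := orderOf_dvd_of_pow_eq_one hc2
    have hm2 : m ≤ 2 := Nat.le_of_dvd (by norm_num) this
    rw [he] at hm2
    nlinarith

end

/-- Let a finite group G act faithfully and primitively on a set Ω, and suppose the stabilizer of a point a has an orbit of length 2. Then the stabilizer of a has order 2 and G is isomorphic to the dihedral group of order 2p for some prime p. -/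
theorem result {G Ω : Type*} [Group G] [Finite G] [MulAction G Ω] [FaithfulSMul G Ω] [Finite Ω]
    (hprim : MulAction.IsPreprimitive G Ω) (a b : Ω) (h2 : Nat.card (MulAction.orbit (MulAction.stabilizer G a) b) = 2) :
    Nat.card (MulAction.stabilizer G a) = 2 ∧ ∃ p : ℕ, p.Prime ∧ Nonempty (G ≃* DihedralGroup p) := by
  classical
  obtain ⟨hGa, hGb, hne, hsup, hco⟩ := stabilizer_facts hprim a b h2
  refine ⟨hGa, ?_⟩
  obtain ⟨t, ht, hGat⟩ := exists_gen_of_card_two _ hGa
  obtain ⟨s, hs, hGbs⟩ := exists_gen_of_card_two _ hGb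
  have hts : t ≠ s := by
    intro h
    apply hne
    rw [hGat, hGbs, h]
  have hcl : Subgroup.closure ({t, s} : Set G) = ⊤ := by
    rw [← hsup, hGat, hGbs, Set.insert_eq, Subgroup.closure_union, Subgroup.zpowers_eq_closure,
      Subgroup.zpowers_eq_closure]
  have hm : orderOf (t * s) ≠ 0 := (orderOf_pos (t * s)).ne'
  obtain ⟨e⟩ := Cfsg.Agent.Lib.Helper1.DihedralIso.closure_equiv_dihedral t s ht hs hm
  let e' : G ≃* DihedralGroup (orderOf (t * s)) :=
    (Subgroup.topEquiv.symm.trans (MulEquiv.subgroupCongr hcl.symm)).trans e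
  have hcard : Nat.card G = 2 * orderOf (t * s) := by
    rw [Nat.card_congr e'.toEquiv, DihedralGroup.nat_card]
  rw [hGat] at hco
  exact ⟨orderOf (t * s), prime_orderOf_mul t s ht hs hts hco hcard, ⟨e'⟩⟩

end Cfsg.Agent.S3684
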