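import Mathlib
import Cfsg.Statements.S3703
import Cfsg.Agent.S0035
import Cfsg.Agent.S0042
import Cfsg.Agent.Lib.Lead.FrobConj1
import Cfsg.Agent.Lib.Lead.CoprimeSylow3
import Cfsg.Agent.Lib.Lead.HallTools
import Cfsg.Agent.Lib.Helper7.NormB4
import Cfsg.Agent.Lib.Helper7.FrobNorm5

set_option autoImplicit false
open Cfsg
open Pointwise

namespace Cfsg.Agent.S3703

open Cfsg.Agent.Lib.Lead Cfsg.Agent.Lib.Helper7.NormB Cfsg.Agent.Lib.Helper7.FrobNorm

universe u

section
variable {G : Type u} [Group G] [Finite G]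

/-- the Frobenius kernel data -/
theorem frobData_of (Fb Hb : Subgroup G) [Fb.Normal] (hHb : Cfsg.IsFrobeniusComplement Hb)
    (hker : Cfsg.frobeniusKernel Hb = (Fb : Set G)) :
    FrobData Hb Fb ∧ Group.IsNilpotent Fb := by
  obtain ⟨K, h1, h2, h3⟩ := Cfsg.Agent.S0035.result Hb hHb
  have hK : K = Fb := SetLike.coe_injective (h1.trans hker)
  obtain ⟨K', h1', h2', h3'⟩ := Cfsg.Agent.S0042.result Hb hHb
  have hK' : K' = Fb := SetLike.coe_injective (h1'.trans hker)
  subst hK
  refine ⟨⟨hHb, h2, h1, h3⟩, ?_⟩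
  rw [← hK']; exact h3'

theorem conj_smul_eq_self_iff (g : G) (H : Subgroup G) :
    MulAut.conj g • H = H ↔ g ∈ Subgroup.normalizer (H : Set G) := by
  constructor
  · intro h
    apply Subgroup.mem_normalizer_fintype
    intro n hn
    rw [← h]
    exact ⟨n, hn, rfl⟩
  · intro h
    ext x
    rw [mem_conj_smul_iff']
    have := (Subgroup.mem_normalizer_iff.mp (Subgroup.inv_mem _ h) x)
    rw [inv_inv] at this
    exact this.symm

/-- lifting the kernel: a complement `F₁` of `N` in the preimage of `Fb` -/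
theorem exists_lift (N : Subgroup G) [N.Normal] (Fb : Subgroup (G ⧸ N)) [Fb.Normal]
    (hcop : (Nat.card Fb).Coprime (Nat.card N)) :
    ∃ F₁ : Subgroup G, F₁ ≤ Fb.comap (QuotientGroup.mk' N) ∧ Nat.card F₁ = Nat.card Fb ∧
      F₁ ⊓ N = ⊥ ∧ F₁.map (QuotientGroup.mk' N) = Fb ∧
      Nat.card Fb * Nat.card N = Nat.card (Fb.comap (QuotientGroup.mk' N)) := by
  set π := QuotientGroup.mk' N with hπ
  have hsurj : Function.Surjective π := QuotientGroup.mk'_surjective N
  set Ft := Fb.comap π with hFt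
  have hNFt : N ≤ Ft := by
    intro x hx
    rw [hFt, Subgroup.mem_comap]
    have : π x = 1 := (QuotientGroup.eq_one_iff x).mpr hx
    rw [this]; exact Fb.one_mem
  have hcard : Nat.card Fb * Nat.card N = Nat.card Ft := by
    have h1 : Ft.index = Fb.index := Subgroup.index_comap_of_surjective Fb hsurj
    have h2 := Ft.card_mul_index
    have h3 := Fb.card_mul_index
    have h4 := Subgroup.card_eq_card_quotient_mul_card_subgroup N
    have hpos : 0 < Fb.index := Nat.pos_of_ne_zero Subgroup.index_ne_zero_of_finite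
    apply Nat.eq_of_mul_eq_mul_right hpos
    rw [← h1, h2, h4, ← h3, h1]; ring
  have hFtN : Ft ≤ Subgroup.normalizer (N : Set G) := by
    rw [Subgroup.normalizer_eq_top]; exact le_top
  obtain ⟨F₁, hF₁Ft, hF₁card⟩ := sz_exists_internal N Ft hNFt hFtN (Nat.card Fb) hcard hcop
  have hdisj : F₁ ⊓ N = ⊥ := by
    apply (Subgroup.disjoint_of_coprime_natCard _).eq_bot
    rw [hF₁card]; exact hcop
  have hmaple : F₁.map π ≤ Fb := by
    rw [Subgroup.map_le_iff_le_comap]; exact hF₁Ft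
  have hinj : Function.Injective (π.subgroupMap F₁) := by
    rw [injective_iff_map_eq_one]
    intro x hx
    have h1 : π (x : G) = 1 := congrArg Subtype.val hx
    have h1' : (x : G) ∈ N := (QuotientGroup.eq_one_iff (x : G)).mp h1
    have h2 : (x : G) ∈ F₁ ⊓ N := Subgroup.mem_inf.mpr ⟨x.2, h1'⟩
    rw [hdisj, Subgroup.mem_bot] at h2
    exact Subtype.ext h2
  have hcardmap : Nat.card (F₁.map π) = Nat.card F₁ :=
    (Nat.card_congr (Equiv.ofBijective _ ⟨hinj, π.subgroupMap_surjective F₁⟩)).symm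
  have hmap : F₁.map π = Fb := by
    apply Subgroup.eq_of_le_of_card_ge hmaple
    rw [hcardmap, hF₁card]
  exact ⟨F₁, hF₁Ft, hF₁card, hdisj, hmap, hcard⟩

/-- an invariant Sylow subgroup of `N` not centralized by `F₁` -/
theorem exists_sylow_not_centralized (N F₁ : Subgroup G) [N.Normal]
    (hcop : (Nat.card F₁).Coprime (Nat.card N)) (hsolv : Group.IsSolvable F₁)
    (hnc : ¬ F₁ ≤ Subgroup.centralizer (N : Set G)) :
    ∃ p : ℕ, p.Prime ∧ ∃ P : Subgroup G, P ≤ N ∧
      Nat.card P = p ^ (Nat.card N).factorization p ∧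
      Nat.card N = p ^ (Nat.card N).factorization p *
        (Nat.card N / p ^ (Nat.card N).factorization p) ∧
      ¬ p ∣ (Nat.card N / p ^ (Nat.card N).factorization p) ∧
      F₁ ≤ Subgroup.normalizer (P : Set G) ∧ ¬ F₁ ≤ Subgroup.centralizer (P : Set G) := by
  by_contra hall
  push Not at hall
  apply hnc
  have hAK : F₁ ≤ Subgroup.normalizer (N : Set G) := by
    rw [Subgroup.normalizer_eq_top]; exact le_top
  have key : N ⊓ Subgroup.centralizer (F₁ : Set G) = N := by
    apply eq_of_forall_sylow_le _ N inf_le_left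
    intro q hq
    obtain ⟨Q, hQ⟩ := coprime_invariant_sylow_exists F₁ N hAK hcop (Or.inl hsolv) q
    obtain ⟨f1, f2, f3⟩ := sylow_card_facts N q Q
    have hc := hall q hq.out _ (Subgroup.map_subtype_le _) f1 f2 f3 hQ
    refine ⟨Q, ?_⟩
    intro x hx
    refine Subgroup.mem_inf.mpr ⟨Subgroup.map_subtype_le _ hx, ?_⟩
    rw [Subgroup.mem_centralizer_iff]
    intro f hf
    exact (Subgroup.mem_centralizer_iff.mp (hc hf) x hx).symm
  intro f hf
  rw [Subgroup.mem_centralizer_iff]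
  intro n hn
  have hn' : n ∈ N ⊓ Subgroup.centralizer (F₁ : Set G) := by rw [key]; exact hn
  exact (Subgroup.mem_centralizer_iff.mp (Subgroup.mem_inf.mp hn').2 f hf).symm

/-- a lift of a given coset normalizing both `F₁` and `P` -/
theorem exists_good_lift (N : Subgroup G) [N.Normal] (Ft F₁ P : Subgroup G) [hFtn : Ft.Normal]
    (hNFt : N ≤ Ft) (hF₁Ft : F₁ ≤ Ft)
    (hcard : Nat.card F₁ * Nat.card N = Nat.card Ft)
    (hcop : (Nat.card F₁).Coprime (Nat.card N)) (hsolv : Group.IsSolvable F₁)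
    (p a r : ℕ) [Fact p.Prime] (hPN : P ≤ N) (hP : Nat.card P = p ^ a)
    (hN : Nat.card N = p ^ a * r) (hr : ¬ p ∣ r)
    (hF₁P : F₁ ≤ Subgroup.normalizer (P : Set G)) (g₀ : G) :
    ∃ c : G, c ∈ Subgroup.normalizer (F₁ : Set G) ∧ c ∈ Subgroup.normalizer (P : Set G) ∧
      QuotientGroup.mk' N c = QuotientGroup.mk' N g₀ := by
  have hFtN : Ft ≤ Subgroup.normalizer (N : Set G) := by
    rw [Subgroup.normalizer_eq_top]; exact le_top
  have hB : MulAut.conj g₀ • F₁ ≤ Ft := by
    intro x hx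
    rw [mem_conj_smul_iff'] at hx
    have h1 := hFtn.conj_mem _ (hF₁Ft hx) g₀
    have e : g₀ * (g₀⁻¹ * x * g₀) * g₀⁻¹ = x := by group
    rwa [e] at h1
  obtain ⟨x, hxN, hx⟩ := sz_conj_internal N Ft F₁ (MulAut.conj g₀ • F₁) hNFt hFtN hF₁Ft hB hcard
    (card_conj_smul g₀ F₁) hcop (Or.inr hsolv)
  set g₁ := x⁻¹ * g₀ with hg₁
  have hg₁F : MulAut.conj g₁ • F₁ = F₁ := by
    rw [hg₁, map_mul, mul_smul, ← hx, ← mul_smul, ← map_mul, inv_mul_cancel, map_one, one_smul]
  have hg₁n : g₁ ∈ Subgroup.normalizer (F₁ : Set G) := (mem_normalizer_iff_conj_smul g₁ F₁).mpr hg₁F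
  have hAK : F₁ ≤ Subgroup.normalizer (N : Set G) := by
    rw [Subgroup.normalizer_eq_top]; exact le_top
  set P₂ := MulAut.conj g₁ • P with hP₂
  have hP₂N : P₂ ≤ N := by
    intro y hy
    rw [hP₂, mem_conj_smul_iff'] at hy
    have h1 := (inferInstance : N.Normal).conj_mem _ (hPN hy) g₁
    have e : g₁ * (g₁⁻¹ * y * g₁) * g₁⁻¹ = y := by group
    rwa [e] at h1
  have hP₂card : Nat.card P₂ = p ^ a := by rw [hP₂, card_conj_smul, hP]
  have hF₁P₂ : F₁ ≤ Subgroup.normalizer (P₂ : Set G) := by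
    intro f hf
    rw [hP₂, conj_smul_mem_normalizer_iff]
    apply hF₁P
    have h1 := (Subgroup.mem_normalizer_iff.mp (Subgroup.inv_mem _ hg₁n) f).mp hf
    rwa [inv_inv] at h1
  obtain ⟨n₁, hn₁, hn₁P⟩ := coprime_invariant_sylow_conj_aux F₁ N hAK hcop (Or.inl hsolv) p a r
    P P₂ hPN hP₂N hP hP₂card hN hr hF₁P hF₁P₂
  obtain ⟨hn₁N, hn₁C⟩ := Subgroup.mem_inf.mp hn₁
  refine ⟨n₁⁻¹ * g₁, ?_, ?_, ?_⟩
  · exact Subgroup.mul_mem _
      (Subgroup.inv_mem _ (Subgroup.centralizer_le_normalizer _ hn₁C)) hg₁n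
  · rw [mem_normalizer_iff_conj_smul, map_mul, mul_smul, ← hP₂, ← hn₁P, ← mul_smul, ← map_mul,
      inv_mul_cancel, map_one, one_smul]
  · rw [map_mul, map_mul, map_inv, map_inv]
    have h1 : QuotientGroup.mk' N n₁ = 1 := (QuotientGroup.eq_one_iff n₁).mpr hn₁N
    have h2 : QuotientGroup.mk' N x = 1 := (QuotientGroup.eq_one_iff x).mpr hxN
    rw [h1, h2, inv_one, one_mul, one_mul]

theorem core (N : Subgroup G) [N.Normal]
    (Fb Hb : Subgroup (G ⧸ N)) [Fb.Normal] (hHb : Cfsg.IsFrobeniusComplement Hb)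
    (hker : Cfsg.frobeniusKernel Hb = (Fb : Set (G ⧸ N)))
    (hcyc : IsCyclic Hb) (hcop : (Nat.card Fb).Coprime (Nat.card N))
    (hnot : ¬ Fb ≤ (Subgroup.centralizer (N : Set G)).map (QuotientGroup.mk' N)) :
    ∃ p : ℕ, p.Prime ∧ p ∣ Nat.card N ∧ ∃ g : G, orderOf g = p * Nat.card Hb := by
  classical
  obtain ⟨hfd, hFbnil⟩ := frobData_of Fb Hb hHb hker
  obtain ⟨F₁, hF₁Ft, hF₁card, hdisj, hmap, hcardFt⟩ := exists_lift N Fb hcop
  set π := QuotientGroup.mk' N with hπ
  have hπ1 : ∀ g, π g = 1 ↔ g ∈ N := fun g => QuotientGroup.eq_one_iff g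
  -- `F₁` is nilpotent
  have hF₁nil : Group.IsNilpotent F₁ := by
    have hnil : Group.IsNilpotent (F₁.map π) := by rw [hmap]; exact hFbnil
    haveI := hnil
    apply Subgroup.isNilpotent_of_ker_le_center (π.subgroupMap F₁)
    intro x hx
    rw [MonoidHom.mem_ker] at hx
    have h1 : π (x : G) = 1 := congrArg Subtype.val hx
    have h2 : (x : G) ∈ F₁ ⊓ N := Subgroup.mem_inf.mpr ⟨x.2, (hπ1 _).mp h1⟩
    rw [hdisj, Subgroup.mem_bot] at h2
    have : x = 1 := Subtype.ext h2
    rw [this]; exact Subgroup.one_mem _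
  have hsolv : Group.IsSolvable F₁ := inferInstance
  have hcop₁ : (Nat.card F₁).Coprime (Nat.card N) := by rw [hF₁card]; exact hcop
  have hnc : ¬ F₁ ≤ Subgroup.centralizer (N : Set G) := by
    intro h
    apply hnot
    rw [← hmap]
    exact Subgroup.map_mono h
  obtain ⟨p, hp, P, hPN, hPcard, hNcard, hr, hF₁P, hF₁nP⟩ :=
    exists_sylow_not_centralized N F₁ hcop₁ hsolv hnc
  haveI : Fact p.Prime := ⟨hp⟩
  -- generator of the complement
  obtain ⟨hb, hhb⟩ := hcyc.exists_generator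
  have hordhb : orderOf hb = Nat.card Hb := orderOf_eq_card_of_forall_mem_zpowers hhb
  set m := Nat.card Hb with hm
  obtain ⟨g₀, hg₀⟩ := QuotientGroup.mk'_surjective N (hb : G ⧸ N)
  haveI : (Fb.comap π).Normal := Subgroup.Normal.comap inferInstance π
  have hNFt : N ≤ Fb.comap π := by
    intro x hx
    rw [Subgroup.mem_comap, (hπ1 x).mpr hx]; exact Fb.one_mem
  obtain ⟨c, hcF₁, hcP, hcπ⟩ := exists_good_lift N (Fb.comap π) F₁ P hNFt hF₁Ft
    (by rw [hF₁card]; exact hcardFt) hcop₁ hsolv p _ _ hPN hPcard hNcard hr hF₁P g₀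
  have hπc : π c = (hb : G ⧸ N) := by rw [← hg₀]; exact hcπ
  have hordc : orderOf (π c) = m := by rw [hπc, Subgroup.orderOf_coe, hordhb]
  by_cases hcm : c ^ m = 1
  swap
  · exact exists_order_prime_mul N c m hordc hcm
  -- the main case
  set L := Subgroup.normalizer (P : Set G) with hL
  have hPL : P ≤ L := Subgroup.le_normalizer
  set PL : Subgroup L := P.subgroupOf L with hPLdef
  set FL : Subgroup L := F₁.subgroupOf L with hFLdef
  set cL : L := ⟨c, hcP⟩ with hcL
  have hPp : IsPGroup p P := IsPGroup.of_card hPcard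
  have hPLp : IsPGroup p PL := hPp.comap_of_injective L.subtype L.subtype_injective
  have hFLnil : Group.IsNilpotent FL :=
    Group.nilpotent_of_mulEquiv (Subgroup.subgroupOfEquivOfLe hF₁P).symm
  have hcLn : cL ∈ Subgroup.normalizer (FL : Set L) := by
    rw [Subgroup.mem_normalizer_iff]
    intro y
    rw [hFLdef, Subgroup.mem_subgroupOf, Subgroup.mem_subgroupOf]
    exact Subgroup.mem_normalizer_iff.mp hcF₁ (y : G)
  have hcLm : cL ^ m = 1 := by
    apply Subtype.ext
    exact hcm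
  have hcardFL : Nat.card FL = Nat.card Fb := by
    rw [hFLdef, card_subgroupOf_of_le hF₁P, hF₁card]
  have hfpf : ∀ i, 0 < i → i < m → ∀ f ∈ FL, cL ^ i * f = f * cL ^ i → f = 1 := by
    intro i hi0 him f hf hcomm
    have hfF : (f : G) ∈ F₁ := Subgroup.mem_subgroupOf.mp hf
    have hcomm' : c ^ i * (f : G) = (f : G) * c ^ i := congrArg Subtype.val hcomm
    have hx : π (c ^ i) ∈ Hb := by
      rw [map_pow, hπc]; exact Hb.pow_mem hb.2 i
    have hx1 : π (c ^ i) ≠ 1 := by
      rw [map_pow]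
      intro h0
      have := orderOf_dvd_of_pow_eq_one h0
      rw [hordc] at this
      exact absurd (Nat.le_of_dvd hi0 this) (not_le.mpr him)
    have hk : π (f : G) ∈ Fb := by rw [← hmap]; exact Subgroup.mem_map_of_mem _ hfF
    have hcomm'' : π (c ^ i) * π (f : G) = π (f : G) * π (c ^ i) := by
      rw [← map_mul, ← map_mul, hcomm']
    have h1 := hfd.fpf hx hx1 hk hcomm''
    have h2 : (f : G) ∈ F₁ ⊓ N := Subgroup.mem_inf.mpr ⟨hfF, (hπ1 _).mp h1⟩
    rw [hdisj, Subgroup.mem_bot] at h2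
    exact Subtype.ext h2
  have hmF : m.Coprime (Nat.card FL) := by
    rw [hcardFL]; exact hfd.coprime.symm
  have hpN : p ∣ Nat.card N := by
    have hk0 : (Nat.card N).factorization p ≠ 0 := by
      intro h0
      rw [h0, pow_zero] at hPcard
      apply hF₁nP
      rw [Subgroup.card_eq_one.mp hPcard]
      intro f _
      rw [Subgroup.mem_centralizer_iff]
      intro y hy
      have : y = 1 := hy
      rw [this, one_mul, mul_one]
    exact Nat.dvd_of_factorization_pos hk0
  have hFLp : (Nat.card FL).Coprime p := by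
    rw [hcardFL]
    exact Nat.Coprime.coprime_dvd_right hpN hcop
  have hntL : ¬ FL ≤ Subgroup.centralizer (PL : Set L) := by
    intro hle
    apply hF₁nP
    intro f hf
    rw [Subgroup.mem_centralizer_iff]
    intro y hy
    have h1 : (⟨f, hF₁P hf⟩ : L) ∈ FL := Subgroup.mem_subgroupOf.mpr hf
    have h2 : (⟨y, hPL hy⟩ : L) ∈ PL := Subgroup.mem_subgroupOf.mpr hy
    have h3 := Subgroup.mem_centralizer_iff.mp (hle h1) _ h2
    exact congrArg Subtype.val h3
  obtain ⟨vL, hvL, hvne⟩ := exists_pnorm_ne_one (Nat.card PL) p PL FL cL m rfl hPLp hFLnil hcLn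
    hcLm hfpf hmF hFLp hntL
  have hvP : (vL : G) ∈ P := Subgroup.mem_subgroupOf.mp hvL
  have hpn : pnorm c (vL : G) m ≠ 1 := by
    intro h0
    apply hvne
    apply Subtype.ext
    have h' : ((pnorm cL vL m : L) : G) = pnorm c (vL : G) m := map_pnorm L.subtype cL vL m
    rw [h']
    exact h0
  apply exists_order_prime_mul N ((vL : G) * c) m
  · rw [map_mul, (hπ1 _).mpr (hPN hvP), one_mul]; exact hordc
  · rw [mul_pow_eq_pnorm, hcm, mul_one]; exact hpn

end

/-- Let N be a normal subgroup of the finite group G such that G/N is a Frobenius group with kernel F and cyclic complement H, where the order of F is coprime to that of N and F is not contained in the image of C_G(N) in G/N. Then G has an element of order p·#H for some prime p dividing the order of N. (A standard tool in recognising groups by their element orders.) -/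
theorem result {G : Type*} [Group G] [Finite G] (N : Subgroup G) [N.Normal]
    (Fb Hb : Subgroup (G ⧸ N)) [Fb.Normal] (hHb : Cfsg.IsFrobeniusComplement Hb) (hker : Cfsg.frobeniusKernel Hb = (Fb : Set (G ⧸ N)))
    (hcyc : IsCyclic Hb) (hcop : (Nat.card Fb).Coprime (Nat.card N))
    (hnot : ¬ Fb ≤ (Subgroup.centralizer (N : Set G)).map (QuotientGroup.mk' N)) :
    ∃ p : ℕ, p.Prime ∧ p ∣ Nat.card N ∧ ∃ g : G, orderOf g = p * Nat.card Hb := by
  exact core N Fb Hb hHb hker hcyc hcop hnot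

end Cfsg.Agent.S3703
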