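import Cfsg.Statements.S3704
import Mathlib
import Cfsg.Agent.Lib.Helper7.PermCount

set_option autoImplicit false
open Cfsg

namespace Cfsg.Agent.S3704

open MulAction
open scoped Classical
open Cfsg.Agent.Lib.Helper7.PermCount

section design

variable {G Ω : Type*} [Group G] [MulAction G Ω]

/-- incidence between cosets of `H` and points: `gH` is incident with the points of `g • O` -/
def inc (H : Subgroup G) (O : Set Ω) (x : G ⧸ H) (ω : Ω) : Prop :=
  ∃ g : G, (g : G ⧸ H) = x ∧ g⁻¹ • ω ∈ O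

theorem inc_mk {H : Subgroup G} {O : Set Ω} (hO : ∀ h ∈ H, ∀ ω ∈ O, h • ω ∈ O) (g : G) (ω : Ω) :
    inc H O (g : G ⧸ H) ω ↔ g⁻¹ • ω ∈ O := by
  constructor
  · rintro ⟨g', hg', hmem⟩
    rw [QuotientGroup.eq] at hg'
    have h1 : (g'⁻¹ * g)⁻¹ ∈ H := H.inv_mem hg'
    have h2 := hO _ h1 _ hmem
    have h3 : (g'⁻¹ * g)⁻¹ • g'⁻¹ • ω = g⁻¹ • ω := by
      rw [← mul_smul]
      congr 1
      group
    rwa [h3] at h2
  · intro h
    exact ⟨g, rfl, h⟩

theorem inc_smul {H : Subgroup G} {O : Set Ω} (hO : ∀ h ∈ H, ∀ ω ∈ O, h • ω ∈ O) (a : G)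
    (x : G ⧸ H) (ω : Ω) : inc H O (a • x) (a • ω) ↔ inc H O x ω := by
  obtain ⟨g, rfl⟩ := QuotientGroup.mk_surjective x
  rw [MulAction.Quotient.smul_mk, inc_mk hO, inc_mk hO, smul_eq_mul, mul_inv_rev, mul_smul,
    inv_smul_smul]

/-- incidence matrix -/
noncomputable def iM (H : Subgroup G) (O : Set Ω) : Matrix (G ⧸ H) Ω ℚ :=
  Matrix.of fun x ω => if inc H O x ω then 1 else 0

theorem iM_apply (H : Subgroup G) (O : Set Ω) (x : G ⧸ H) (ω : Ω) :
    iM H O x ω = if inc H O x ω then 1 else 0 := rfl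

/-- permutation matrix of the action of `g` -/
noncomputable def pm (Y : Type*) [MulAction G Y] (g : G) : Matrix Y Y ℚ :=
  Matrix.of fun a b => if a = g • b then 1 else 0

theorem pm_apply (Y : Type*) [MulAction G Y] (g : G) (a b : Y) :
    pm Y g a b = if a = g • b then 1 else 0 := rfl

/-- the all-ones matrix -/
def allOnes (Y : Type*) : Matrix Y Y ℚ := Matrix.of fun _ _ => 1

theorem allOnes_apply (Y : Type*) (a b : Y) : allOnes Y a b = 1 := rfl

theorem trace_pm {Y : Type*} [Fintype Y] [MulAction G Y] (g : G) :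
    (pm Y g).trace = (fx Y g : ℚ) := by
  unfold Matrix.trace fx
  rw [Nat.cast_sum]
  apply Finset.sum_congr rfl
  intro y _
  rw [Matrix.diag_apply, pm_apply]
  by_cases h : g • y = y
  · rw [if_pos h, if_pos h.symm]
    simp
  · rw [if_neg h, if_neg (fun h' => h h'.symm)]
    simp

theorem intertwine [Fintype Ω] {H : Subgroup G} [Fintype (G ⧸ H)] {O : Set Ω}
    (hO : ∀ h ∈ H, ∀ ω ∈ O, h • ω ∈ O) (g : G) :
    pm (G ⧸ H) g * iM H O = iM H O * pm Ω g := by
  ext x ω
  rw [Matrix.mul_apply, Matrix.mul_apply]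
  rw [Finset.sum_eq_single (g⁻¹ • x), Finset.sum_eq_single (g • ω)]
  · rw [pm_apply, pm_apply, iM_apply, iM_apply]
    rw [if_pos (smul_inv_smul g x).symm, if_pos rfl, one_mul, mul_one]
    have := inc_smul hO g (g⁻¹ • x) ω
    rw [smul_inv_smul] at this
    simp only [this]
  · intro a _ ha
    rw [pm_apply, if_neg ha, mul_zero]
  · intro h
    exact absurd (Finset.mem_univ _) h
  · intro y _ hy
    rw [pm_apply, if_neg, zero_mul]
    intro h
    apply hy
    rw [h, inv_smul_smul]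
  · intro h
    exact absurd (Finset.mem_univ _) h

/-- number of blocks through two points -/
noncomputable def cnt (H : Subgroup G) [Fintype (G ⧸ H)] (O : Set Ω) (α β : Ω) : ℕ :=
  ∑ x : G ⧸ H, if inc H O x α ∧ inc H O x β then 1 else 0

theorem cnt_smul {H : Subgroup G} [Fintype (G ⧸ H)] {O : Set Ω}
    (hO : ∀ h ∈ H, ∀ ω ∈ O, h • ω ∈ O) (a : G) (α β : Ω) :
    cnt H O (a • α) (a • β) = cnt H O α β := by
  unfold cnt
  symm
  apply Fintype.sum_equiv (MulAction.toPerm a : Equiv.Perm (G ⧸ H))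
  intro x
  simp only [MulAction.toPerm_apply, inc_smul hO]

theorem gram [Fintype Ω] {H : Subgroup G} [Fintype (G ⧸ H)] (O : Set Ω) (α β : Ω) :
    ((iM H O).transpose * iM H O) α β = (cnt H O α β : ℚ) := by
  rw [Matrix.mul_apply]
  unfold cnt
  rw [Nat.cast_sum]
  apply Finset.sum_congr rfl
  intro x _
  rw [Matrix.transpose_apply, iM_apply, iM_apply]
  by_cases h1 : inc H O x α <;> by_cases h2 : inc H O x β <;> simp [h1, h2]

end design

section main

variable {G Ω : Type*} [Group G] [Fintype G] [MulAction G Ω] [Fintype Ω]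

/-- the incidence matrix of a nontrivial invariant set has a left inverse -/
theorem exists_left_inverse (h2 : ∀ {a b c d : Ω}, a ≠ b → c ≠ d → ∃ g : G, g • a = c ∧ g • b = d)
    (H : Subgroup G) [Fintype (G ⧸ H)] (O : Set Ω)
    (hO : ∀ h ∈ H, ∀ ω ∈ O, h • ω ∈ O) {ω₁ ω₂ : Ω} (h1 : ω₁ ∈ O) (h2' : ω₂ ∉ O) :
    ∃ N : Matrix Ω (G ⧸ H) ℚ, N * iM H O = 1 := by
  have hne : ω₁ ≠ ω₂ := fun h => h2' (h ▸ h1)
  set r := cnt H O ω₁ ω₁ with hr
  set l := cnt H O ω₁ ω₂ with hl
  have hdiag : ∀ α : Ω, cnt H O α α = r := by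
    intro α
    by_cases hα : α = ω₁
    · rw [hα]
    · obtain ⟨g, hg, _⟩ := h2 hne hα
      rw [← hg, cnt_smul hO]
  have hoff : ∀ α β : Ω, α ≠ β → cnt H O α β = l := by
    intro α β hαβ
    obtain ⟨g, hg, hg'⟩ := h2 hne hαβ
    rw [← hg, ← hg', cnt_smul hO]
  have hlt : l < r := by
    rw [hl, hr]
    unfold cnt
    apply Finset.sum_lt_sum
    · intro x _
      by_cases hx : inc H O x ω₁ ∧ inc H O x ω₂
      · rw [if_pos hx, if_pos ⟨hx.1, hx.1⟩]
      · rw [if_neg hx]
        exact Nat.zero_le _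
    · refine ⟨((1 : G) : G ⧸ H), Finset.mem_univ _, ?_⟩
      have i1 : inc H O ((1 : G) : G ⧸ H) ω₁ := by
        rw [inc_mk hO]
        simpa using h1
      have i2 : ¬ inc H O ((1 : G) : G ⧸ H) ω₂ := by
        rw [inc_mk hO]
        simpa using h2'
      rw [if_neg (fun h => i2 h.2), if_pos ⟨i1, i1⟩]
      exact Nat.zero_lt_one
  set J : Matrix Ω Ω ℚ := allOnes Ω with hJ
  set d : ℚ := (r : ℚ) - (l : ℚ) with hd
  have hdpos : 0 < d := by
    rw [hd, sub_pos]
    exact_mod_cast hlt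
  have hgram : (iM H O).transpose * iM H O = d • (1 : Matrix Ω Ω ℚ) + (l : ℚ) • J := by
    ext α β
    rw [gram]
    by_cases hαβ : α = β
    · rw [hαβ, hdiag]
      simp [hJ, hd, allOnes_apply]
    · rw [hoff α β hαβ]
      simp [hJ, hαβ, allOnes_apply]
  set n : ℚ := (Fintype.card Ω : ℚ) with hn
  have hnpos : 0 ≤ n := by
    rw [hn]
    exact Nat.cast_nonneg _
  have hlpos : (0 : ℚ) ≤ (l : ℚ) := Nat.cast_nonneg _
  have hden : d + (l : ℚ) * n ≠ 0 := by
    have : 0 < d + (l : ℚ) * n := by positivity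
    exact this.ne'
  set c : ℚ := (l : ℚ) / (d + (l : ℚ) * n) with hc
  refine ⟨((1 / d) • ((1 : Matrix Ω Ω ℚ) - c • J)) * (iM H O).transpose, ?_⟩
  rw [Matrix.mul_assoc, hgram]
  ext α β
  simp only [Matrix.smul_mul, Matrix.smul_apply, Matrix.mul_apply, Matrix.sub_apply,
    Matrix.add_apply, Matrix.one_apply, hJ, smul_eq_mul, allOnes_apply]
  have hsum : ∑ γ : Ω, ((if α = γ then (1 : ℚ) else 0) - c * 1) *
      (d * (if γ = β then 1 else 0) + (l : ℚ) * 1) =
      d * (if α = β then 1 else 0) + (l : ℚ) - c * d - c * (l : ℚ) * n := by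
    have e1 : ∀ γ : Ω, ((if α = γ then (1 : ℚ) else 0) - c * 1) *
        (d * (if γ = β then 1 else 0) + (l : ℚ) * 1) =
        d * ((if α = γ then (1 : ℚ) else 0) * (if γ = β then 1 else 0)) +
          (l : ℚ) * (if α = γ then (1 : ℚ) else 0) - c * d * (if γ = β then 1 else 0) -
          c * (l : ℚ) := by
      intro γ
      ring
    simp only [e1]
    rw [Finset.sum_sub_distrib, Finset.sum_sub_distrib, Finset.sum_add_distrib,
      ← Finset.mul_sum, ← Finset.mul_sum, ← Finset.mul_sum]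
    have s1 : ∑ γ : Ω, (if α = γ then (1 : ℚ) else 0) * (if γ = β then 1 else 0) =
        if α = β then 1 else 0 := by
      rw [Finset.sum_eq_single α]
      · simp
      · intro γ _ hγ
        rw [if_neg (Ne.symm hγ), zero_mul]
      · intro h
        exact absurd (Finset.mem_univ _) h
    have s2 : ∑ γ : Ω, (if α = γ then (1 : ℚ) else 0) = 1 := by
      rw [Finset.sum_ite_eq]
      simp
    have s3 : ∑ γ : Ω, (if γ = β then (1 : ℚ) else 0) = 1 := by
      rw [Finset.sum_ite_eq']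
      simp
    rw [s1, s2, s3, Finset.sum_const, Finset.card_univ, nsmul_eq_mul, hn]
    ring
  have hcd : c * d + c * (l : ℚ) * n = (l : ℚ) := by
    rw [hc]
    field_simp
  have hthis : d * (if α = β then 1 else 0) + (l : ℚ) - c * d - c * (l : ℚ) * n =
      d * (if α = β then 1 else 0) := by
    linarith
  have hfin : ∑ j : Ω, 1 / d * ((if α = j then (1 : ℚ) else 0) - c * 1) *
      ((d * if j = β then 1 else 0) + (l : ℚ) * 1) = 1 / d * (d * (if α = β then 1 else 0)) := by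
    rw [← hthis, ← hsum, Finset.mul_sum]
    apply Finset.sum_congr rfl
    intro j _
    ring
  rw [hfin]
  by_cases hαβ : α = β
  · rw [if_pos hαβ]
    field_simp
  · rw [if_neg hαβ]
    ring

/-- the permutation characters on points and on cosets agree -/
theorem fx_eq (h2 : ∀ {a b c d : Ω}, a ≠ b → c ≠ d → ∃ g : G, g • a = c ∧ g • b = d)
    (H : Subgroup G) [Fintype (G ⧸ H)] (hcard : Fintype.card Ω = Fintype.card (G ⧸ H))
    (O : Set Ω)
    (hO : ∀ h ∈ H, ∀ ω ∈ O, h • ω ∈ O) {ω₁ ω₂ : Ω} (h1 : ω₁ ∈ O) (h2' : ω₂ ∉ O) (g : G) :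
    fx Ω g = fx (G ⧸ H) g := by
  obtain ⟨N, hN⟩ := exists_left_inverse h2 H O hO h1 h2'
  have hN' : iM H O * N = 1 := (Matrix.mul_eq_one_comm_of_card_eq Ω (G ⧸ H) ℚ hcard).mp hN
  have h3 : pm Ω g = N * (pm (G ⧸ H) g * iM H O) := by
    rw [intertwine hO, ← Matrix.mul_assoc, hN, Matrix.one_mul]
  have h4 : (pm Ω g).trace = (pm (G ⧸ H) g).trace := by
    rw [h3, Matrix.trace_mul_comm, Matrix.mul_assoc, hN', Matrix.mul_one]
  rw [trace_pm, trace_pm] at h4
  exact_mod_cast h4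

end main

/-- In a 2-transitive group of degree n, an intransitive fixed-point-free subgroup of index n has exactly two orbits. -/
theorem result {G Ω : Type*} [Group G] [Finite G] [MulAction G Ω] [FaithfulSMul G Ω] [Finite Ω] (h2 : MulAction.IsMultiplyPretransitive G Ω 2) (H : Subgroup G) (hidx : H.index = Nat.card Ω) (hnt : ¬ MulAction.IsPretransitive H Ω) (hfix : ∀ a : Ω, ∃ h : H, h • a ≠ a) : Nat.card (MulAction.orbitRel.Quotient H Ω) = 2 := by
  haveI := Fintype.ofFinite G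
  haveI := Fintype.ofFinite Ω
  haveI : Fintype (G ⧸ H) := Fintype.ofFinite _
  rw [is_two_pretransitive_iff] at h2
  -- at least two points
  have hn2 : ∃ α₀ β₀ : Ω, α₀ ≠ β₀ := by
    by_contra hcon
    push Not at hcon
    apply hnt
    exact ⟨fun a b => ⟨1, by rw [one_smul]; exact hcon a b⟩⟩
  obtain ⟨α₀, β₀, hαβ⟩ := hn2
  haveI htr : IsPretransitive G Ω := by
    refine ⟨fun a b => ?_⟩
    by_cases hab : a = b
    · exact ⟨1, by rw [one_smul, hab]⟩
    · obtain ⟨g, hg, _⟩ := h2 hab (Ne.symm hab)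
      exact ⟨g, hg⟩
  set O : Set Ω := orbit H α₀ with hOdef
  have hO : ∀ h ∈ H, ∀ ω ∈ O, h • ω ∈ O := by
    rintro h hh ω ⟨k, rfl⟩
    exact ⟨⟨h, hh⟩ * k, mul_smul _ _ _⟩
  have h1 : α₀ ∈ O := mem_orbit_self α₀
  obtain ⟨ω₂, hω₂⟩ : ∃ ω₂ : Ω, ω₂ ∉ O := by
    by_contra hcon
    push Not at hcon
    apply hnt
    refine ⟨fun a b => ?_⟩
    obtain ⟨k₁, hk₁⟩ := hcon a
    obtain ⟨k₂, hk₂⟩ := hcon b
    refine ⟨k₂ * k₁⁻¹, ?_⟩
    rw [← hk₁, ← hk₂, mul_smul, inv_smul_smul]
  have hcard : Fintype.card Ω = Fintype.card (G ⧸ H) := by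
    rw [← Nat.card_eq_fintype_card, ← Nat.card_eq_fintype_card, ← hidx, Subgroup.index_eq_card]
  have hfx : ∀ g : G, fx Ω g = fx (G ⧸ H) g := fx_eq h2 H hcard O hO h1 hω₂
  -- first count
  have hA := sum_mul_fx (G := G) (Y := G ⧸ H) (fun g => fx Ω g) (fun a g => fx_conj a g)
    ((1 : G) : G ⧸ H)
  have hstab : ∀ g : G, g • (((1 : G) : G ⧸ H)) = ((1 : G) : G ⧸ H) ↔ g ∈ H := by
    intro g
    rw [← MulAction.mem_stabilizer_iff, MulAction.stabilizer_quotient]
  simp only [hstab] at hA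
  rw [burnside_subgroup H] at hA
  -- second count
  have hB := sum_mul_fx (G := G) (Y := Ω) (fun g => fx Ω g) (fun a g => fx_conj a g) α₀
  have hB2 := burnside_subgroup (G := G) (Y := Ω) (stabilizer G α₀)
  replace hB : ∑ g : G, fx Ω g * fx Ω g = Fintype.card Ω *
      (Nat.card (orbitRel.Quotient (stabilizer G α₀) Ω) * Nat.card (stabilizer G α₀)) :=
    hB.trans (congrArg (Fintype.card Ω * ·) hB2)
  -- the stabilizer has two orbits
  have htwo : Nat.card (orbitRel.Quotient (stabilizer G α₀) Ω) = 2 := by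
    rw [Nat.card_eq_two_iff]
    refine ⟨Quotient.mk'' α₀, Quotient.mk'' β₀, ?_, ?_⟩
    · intro h
      have h3 := Quotient.exact' h
      rw [MulAction.orbitRel_apply] at h3
      obtain ⟨k, hk⟩ := h3
      have hk' : (k : G) • β₀ = α₀ := hk
      have hk2 : (k : G) • α₀ = α₀ := k.2
      have hk3 : (k : G) • β₀ = (k : G) • α₀ := hk'.trans hk2.symm
      exact hαβ (smul_left_cancel _ hk3).symm
    · rw [Set.eq_univ_iff_forall]
      intro q
      induction q using Quotient.inductionOn' with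
      | h ω =>
        by_cases hω : ω = α₀
        · left
          rw [hω]
        · right
          rw [Set.mem_singleton_iff]
          apply Quotient.sound'
          rw [MulAction.orbitRel_apply]
          obtain ⟨g, hg, hg'⟩ := h2 hαβ (Ne.symm hω)
          exact ⟨⟨g, hg⟩, hg'⟩
  rw [htwo] at hB
  -- compare
  have hAB : ∑ g : G, fx Ω g * fx (G ⧸ H) g = ∑ g : G, fx Ω g * fx Ω g := by
    apply Finset.sum_congr rfl
    intro g _
    rw [hfx g]
  rw [hAB, hB, ← hcard] at hA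
  have hpos : 0 < Fintype.card Ω := Fintype.card_pos_iff.mpr ⟨α₀⟩
  have h5 := Nat.eq_of_mul_eq_mul_left hpos hA
  -- orders of `H` and the stabilizer agree
  have h6 : Nat.card H * Nat.card Ω = Nat.card G := by
    rw [← hidx]
    exact Subgroup.card_mul_index H
  have h7 : Nat.card Ω * Nat.card (stabilizer G α₀) = Nat.card G := by
    have := MulAction.card_orbit_mul_card_stabilizer_eq_card_group G α₀
    rw [← Nat.card_eq_fintype_card, ← Nat.card_eq_fintype_card, ← Nat.card_eq_fintype_card]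
      at this
    rw [← this]
    congr 1
    rw [MulAction.orbit_eq_univ]
    exact (Nat.card_congr (Equiv.Set.univ Ω)).symm
  have hpos' : 0 < Nat.card Ω := by
    rw [Nat.card_eq_fintype_card]
    exact hpos
  have h8 : Nat.card H = Nat.card (stabilizer G α₀) := by
    have : Nat.card Ω * Nat.card H = Nat.card Ω * Nat.card (stabilizer G α₀) := by
      rw [h7, mul_comm, h6]
    exact Nat.eq_of_mul_eq_mul_left hpos' this
  rw [← h8] at h5
  have hHpos : 0 < Nat.card H := Nat.card_pos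
  exact (Nat.eq_of_mul_eq_mul_right hHpos h5).symm

end Cfsg.Agent.S3704
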