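import Mathlib
import Cfsg.Statements.S3707

set_option autoImplicit false
open Cfsg

namespace Cfsg.Agent.S3707

open MulAction
open scoped Pointwise

section Jordan

variable {G Ω : Type*} [Group G] [MulAction G Ω]

/-- `Γ` is a Jordan set: the pointwise stabilizer of its complement is transitive on it -/
def Jor (G : Type*) {Ω : Type*} [Group G] [MulAction G Ω] (Γ : Set Ω) : Prop :=
  ∀ x ∈ Γ, ∀ y ∈ Γ, ∃ g : G, (∀ z ∉ Γ, g • z = z) ∧ g • x = y

theorem Jor.smul {Γ : Set Ω} (h : Jor G Γ) (g : G) : Jor G (g • Γ) := by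
  intro x hx y hy
  rw [Set.mem_smul_set_iff_inv_smul_mem] at hx hy
  obtain ⟨j, hj, hjxy⟩ := h _ hx _ hy
  refine ⟨g * j * g⁻¹, ?_, ?_⟩
  · intro z hz
    rw [Set.mem_smul_set_iff_inv_smul_mem] at hz
    rw [mul_smul, mul_smul, hj _ hz, smul_inv_smul]
  · rw [mul_smul, mul_smul, hjxy, smul_inv_smul]

theorem Jor.union {Γ₁ Γ₂ : Set Ω} (h₁ : Jor G Γ₁) (h₂ : Jor G Γ₂) (hne : (Γ₁ ∩ Γ₂).Nonempty) :
    Jor G (Γ₁ ∪ Γ₂) := by
  obtain ⟨c, hc1, hc2⟩ := hne
  have key : ∀ x ∈ Γ₁ ∪ Γ₂, ∃ g : G, (∀ z ∉ Γ₁ ∪ Γ₂, g • z = z) ∧ g • x = c := by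
    intro x hx
    rcases hx with hx | hx
    · obtain ⟨g, hg, hgx⟩ := h₁ x hx c hc1
      exact ⟨g, fun z hz => hg z (fun h => hz (Or.inl h)), hgx⟩
    · obtain ⟨g, hg, hgx⟩ := h₂ x hx c hc2
      exact ⟨g, fun z hz => hg z (fun h => hz (Or.inr h)), hgx⟩
  intro x hx y hy
  obtain ⟨g₁, hg₁, hg₁x⟩ := key x hx
  obtain ⟨g₂, hg₂, hg₂y⟩ := key y hy
  refine ⟨g₂⁻¹ * g₁, ?_, ?_⟩
  · intro z hz
    rw [mul_smul, hg₁ z hz, inv_smul_eq_iff, hg₂ z hz]
  · rw [mul_smul, hg₁x, inv_smul_eq_iff, hg₂y]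

theorem exists_smul_ne_inter (hprim : IsPreprimitive G Ω) {B : Set Ω} (h1 : ¬ B.Subsingleton)
    (h2 : B ≠ Set.univ) : ∃ g : G, g • B ≠ B ∧ (g • B ∩ B).Nonempty := by
  by_contra hcon
  push Not at hcon
  have hB : IsBlock G B := by
    rw [isBlock_iff_disjoint_smul_of_ne]
    intro g hg
    rw [Set.disjoint_iff_inter_eq_empty]
    exact hcon g hg
  rcases hprim.isTrivialBlock_of_isBlock hB with h | h
  · exact h1 h
  · exact h2 h

variable [Finite Ω]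

theorem ncard_smul (g : G) (s : Set Ω) : (g • s).ncard = s.ncard := by
  rw [← Set.image_smul]
  exact Set.ncard_image_of_injective s (MulAction.injective g)

theorem not_subsingleton_of_ncard {s : Set Ω} (h : 1 < s.ncard) : ¬ s.Subsingleton := by
  intro hs
  have := Set.ncard_le_one_iff_subsingleton.mpr hs
  omega

/-- Jordan: a primitive group with a proper Jordan set of more than one point has a Jordan set
with one-point complement -/
theorem exists_jor_compl_singleton (hprim : IsPreprimitive G Ω) (Γ₀ : Set Ω) (h1 : 1 < Γ₀.ncard)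
    (h0 : Γ₀ ≠ Set.univ) (hJ : Jor G Γ₀) : ∃ α : Ω, Jor G ({α}ᶜ) := by
  classical
  haveI : Fintype Ω := Fintype.ofFinite Ω
  let P : Set Ω → Prop := fun Γ => Jor G Γ ∧ 1 < Γ.ncard ∧ Γ ≠ Set.univ
  obtain ⟨Γ, hΓ, hmax⟩ := Finset.exists_max_image (Finset.univ.filter P) Set.ncard
    ⟨Γ₀, Finset.mem_filter.mpr ⟨Finset.mem_univ _, hJ, h1, h0⟩⟩
  obtain ⟨hΓJ, hΓ1, hΓ0⟩ := (Finset.mem_filter.mp hΓ).2
  have hmax' : ∀ Γ' : Set Ω, Jor G Γ' → 1 < Γ'.ncard → Γ' ≠ Set.univ → Γ'.ncard ≤ Γ.ncard :=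
    fun Γ' a b c => hmax Γ' (Finset.mem_filter.mpr ⟨Finset.mem_univ _, a, b, c⟩)
  -- the complement
  have hcompl : Γ.ncard + Γᶜ.ncard = Nat.card Ω := Set.ncard_add_ncard_compl Γ
  by_cases hΔ : Γᶜ.ncard ≤ 1
  · -- the complement is a singleton
    have hΔ0 : Γᶜ.ncard ≠ 0 := by
      intro h
      rw [Set.ncard_eq_zero, Set.compl_empty_iff] at h
      exact hΓ0 h
    have hΔ1 : Γᶜ.ncard = 1 := by omega
    obtain ⟨α, hα⟩ := Set.ncard_eq_one.mp hΔ1
    refine ⟨α, ?_⟩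
    rw [← hα, compl_compl]
    exact hΓJ
  · exfalso
    push Not at hΔ
    -- first translate
    have hΔns : ¬ (Γᶜ).Subsingleton := not_subsingleton_of_ncard hΔ
    have hΔu : Γᶜ ≠ Set.univ := by
      intro h
      rw [Set.compl_univ_iff] at h
      rw [h, Set.ncard_empty] at hΓ1
      omega
    obtain ⟨g, hg1, hg2⟩ := exists_smul_ne_inter hprim hΔns hΔu
    have hgΓ : g • Γ ≠ Γ := by
      intro h
      apply hg1
      rw [Set.smul_set_compl, h]
    have hsmall : 2 * Γ.ncard ≤ Nat.card Ω := by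
      by_cases hint : (Γ ∩ g • Γ).Nonempty
      · exfalso
        have hJ' : Jor G (Γ ∪ g • Γ) := hΓJ.union (hΓJ.smul g) hint
        have hlt : Γ.ncard < (Γ ∪ g • Γ).ncard := by
          apply Set.ncard_lt_ncard _ (Set.toFinite _)
          refine ⟨Set.subset_union_left, ?_⟩
          intro hsub
          have h3 : g • Γ ⊆ Γ := fun x hx => hsub (Or.inr hx)
          have h4 : g • Γ = Γ := Set.eq_of_subset_of_ncard_le h3 (by rw [ncard_smul]) (Set.toFinite _)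
          exact hgΓ h4
        have hne : Γ ∪ g • Γ ≠ Set.univ := by
          intro h
          obtain ⟨z, hz1, hz2⟩ := hg2
          rw [Set.smul_set_compl] at hz1
          have : z ∈ Γ ∪ g • Γ := by rw [h]; exact Set.mem_univ z
          rcases this with h5 | h5
          · exact hz2 h5
          · exact hz1 h5
        have := hmax' _ hJ' (by omega) hne
        omega
      · rw [Set.not_nonempty_iff_eq_empty] at hint
        have h3 : (Γ ∪ g • Γ).ncard = Γ.ncard + (g • Γ).ncard :=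
          Set.ncard_union_eq (Set.disjoint_iff_inter_eq_empty.mpr hint) (Set.toFinite _)
            (Set.toFinite _)
        rw [ncard_smul] at h3
        have h4 : (Γ ∪ g • Γ).ncard ≤ Nat.card Ω := by
          rw [← Set.ncard_univ]; exact Set.ncard_le_ncard (Set.subset_univ _) (Set.toFinite _)
        omega
    -- second translate
    obtain ⟨g₂, hg₂1, hg₂2⟩ := exists_smul_ne_inter hprim (not_subsingleton_of_ncard hΓ1) hΓ0
    have hJ' : Jor G (Γ ∪ g₂ • Γ) := hΓJ.union (hΓJ.smul g₂) (by rwa [Set.inter_comm])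
    have hlt : Γ.ncard < (Γ ∪ g₂ • Γ).ncard := by
      apply Set.ncard_lt_ncard _ (Set.toFinite _)
      refine ⟨Set.subset_union_left, ?_⟩
      intro hsub
      have h3 : g₂ • Γ ⊆ Γ := fun x hx => hsub (Or.inr hx)
      have h4 : g₂ • Γ = Γ := Set.eq_of_subset_of_ncard_le h3 (by rw [ncard_smul]) (Set.toFinite _)
      exact hg₂1 h4
    have huniv : Γ ∪ g₂ • Γ = Set.univ := by
      by_contra hne
      have := hmax' _ hJ' (by omega) hne
      omega
    have h5 := Set.ncard_union_add_ncard_inter Γ (g₂ • Γ)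
    rw [huniv, Set.ncard_univ, ncard_smul] at h5
    have h6 : 0 < (Γ ∩ g₂ • Γ).ncard := by
      rw [Set.ncard_pos (Set.toFinite _), Set.inter_comm]
      exact hg₂2
    omega

omit [Finite Ω] in
theorem two_trans (hprim : IsPreprimitive G Ω) {α : Ω} (hα : Jor G ({α}ᶜ)) :
    ∀ a b c d : Ω, a ≠ b → c ≠ d → ∃ g : G, g • a = c ∧ g • b = d := by
  haveI := hprim.toIsPretransitive
  intro a b c d hab hcd
  obtain ⟨g₁, hg₁⟩ := exists_smul_eq G a α
  obtain ⟨g₂, hg₂⟩ := exists_smul_eq G c α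
  have h1 : g₁ • b ∈ ({α}ᶜ : Set Ω) := by
    intro h
    rw [Set.mem_singleton_iff, ← hg₁] at h
    exact hab (MulAction.injective g₁ h).symm
  have h2 : g₂ • d ∈ ({α}ᶜ : Set Ω) := by
    intro h
    rw [Set.mem_singleton_iff, ← hg₂] at h
    exact hcd (MulAction.injective g₂ h).symm
  obtain ⟨j, hj, hj2⟩ := hα _ h1 _ h2
  have hjα : j • α = α := hj α (by simp)
  refine ⟨g₂⁻¹ * j * g₁, ?_, ?_⟩
  · rw [mul_smul, mul_smul, hg₁, hjα, inv_smul_eq_iff, hg₂]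
  · rw [mul_smul, mul_smul, hj2, inv_smul_smul]

omit [Finite Ω] in
theorem three_trans (h2t : ∀ a b c d : Ω, a ≠ b → c ≠ d → ∃ g : G, g • a = c ∧ g • b = d)
    {α β : Ω} (hαβ : α ≠ β) (hJ : Jor G ({α, β}ᶜ)) : IsMultiplyPretransitive G Ω 3 := by
  rw [isMultiplyPretransitive_iff]
  intro x y
  have hx01 : x 0 ≠ x 1 := fun h => by simpa using x.injective h
  have hx02 : x 0 ≠ x 2 := fun h => by simpa using x.injective h
  have hx12 : x 1 ≠ x 2 := fun h => by simpa using x.injective h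
  have hy01 : y 0 ≠ y 1 := fun h => by simpa using y.injective h
  have hy02 : y 0 ≠ y 2 := fun h => by simpa using y.injective h
  have hy12 : y 1 ≠ y 2 := fun h => by simpa using y.injective h
  obtain ⟨g₁, hg₁0, hg₁1⟩ := h2t _ _ α β hx01 hαβ
  obtain ⟨g₂, hg₂0, hg₂1⟩ := h2t _ _ α β hy01 hαβ
  have h1 : g₁ • x 2 ∈ ({α, β}ᶜ : Set Ω) := by
    intro h
    rcases h with h | h
    · rw [← hg₁0] at h
      exact hx02 (MulAction.injective g₁ h).symm
    · rw [Set.mem_singleton_iff, ← hg₁1] at h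
      exact hx12 (MulAction.injective g₁ h).symm
  have h2 : g₂ • y 2 ∈ ({α, β}ᶜ : Set Ω) := by
    intro h
    rcases h with h | h
    · rw [← hg₂0] at h
      exact hy02 (MulAction.injective g₂ h).symm
    · rw [Set.mem_singleton_iff, ← hg₂1] at h
      exact hy12 (MulAction.injective g₂ h).symm
  obtain ⟨j, hj, hj2⟩ := hJ _ h1 _ h2
  have hjα : j • α = α := hj α (by simp)
  have hjβ : j • β = β := hj β (by simp)
  refine ⟨g₂⁻¹ * j * g₁, ?_⟩
  ext i
  rw [Function.Embedding.smul_apply]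
  fin_cases i
  · show (g₂⁻¹ * j * g₁) • x 0 = y 0
    rw [mul_smul, mul_smul, hg₁0, hjα, inv_smul_eq_iff, hg₂0]
  · show (g₂⁻¹ * j * g₁) • x 1 = y 1
    rw [mul_smul, mul_smul, hg₁1, hjβ, inv_smul_eq_iff, hg₂1]
  · show (g₂⁻¹ * j * g₁) • x 2 = y 2
    rw [mul_smul, mul_smul, hj2, inv_smul_smul]

/-- Marggraf: a small Jordan set forces a Jordan set whose complement has two points -/
theorem exists_jor_compl_pair [Finite G] (Γ₀ : Set Ω) (h1 : 1 < Γ₀.ncard)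
    (h2 : 2 * Γ₀.ncard ≤ Nat.card Ω) (hJ : Jor G Γ₀)
    (h2t : ∀ a b c d : Ω, a ≠ b → c ≠ d → ∃ g : G, g • a = c ∧ g • b = d) :
    ∃ Γ : Set Ω, Jor G Γ ∧ Γᶜ.ncard = 2 := by
  classical
  haveI : Fintype Ω := Fintype.ofFinite Ω
  haveI : Fintype G := Fintype.ofFinite G
  set n := Nat.card Ω with hn
  set m := Γ₀.ncard with hm
  let P : Set Ω → Prop := fun Γ => Jor G Γ ∧ 1 < Γ.ncard ∧ Γ.ncard + 2 ≤ n
  obtain ⟨Γ, hΓ, hmax⟩ := Finset.exists_max_image (Finset.univ.filter P) Set.ncard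
    ⟨Γ₀, Finset.mem_filter.mpr ⟨Finset.mem_univ _, hJ, h1, by omega⟩⟩
  obtain ⟨hΓJ, hΓ1, hΓ2⟩ := (Finset.mem_filter.mp hΓ).2
  have hmax' : ∀ Γ' : Set Ω, Jor G Γ' → 1 < Γ'.ncard → Γ'.ncard + 2 ≤ n → Γ'.ncard ≤ Γ.ncard :=
    fun Γ' a b c => hmax Γ' (Finset.mem_filter.mpr ⟨Finset.mem_univ _, a, b, c⟩)
  have hcompl : Γ.ncard + Γᶜ.ncard = n := Set.ncard_add_ncard_compl Γ
  refine ⟨Γ, hΓJ, ?_⟩
  by_contra hd2
  have hd3 : 3 ≤ Γᶜ.ncard := by omega
  -- Claim A'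
  have hA : ∀ Γ' : Set Ω, Jor G Γ' → (Γ' ∩ Γ).Nonempty → ¬ Γ' ⊆ Γ → (Γᶜ \ Γ').ncard ≤ 1 := by
    intro Γ' hJ' hne hsub
    have hU : Jor G (Γ ∪ Γ') := hΓJ.union hJ' (by rwa [Set.inter_comm])
    have hlt : Γ.ncard < (Γ ∪ Γ').ncard := by
      apply Set.ncard_lt_ncard _ (Set.toFinite _)
      refine ⟨Set.subset_union_left, ?_⟩
      intro h
      exact hsub (fun x hx => h (Or.inr hx))
    have h3 : ¬ ((Γ ∪ Γ').ncard + 2 ≤ n) := by
      intro h
      have := hmax' _ hU (by omega) h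
      omega
    have h4 := Set.ncard_add_ncard_compl (Γ ∪ Γ')
    have h5 : (Γ ∪ Γ')ᶜ = Γᶜ \ Γ' := by
      rw [Set.compl_union, Set.diff_eq]
    rw [h5] at h4
    omega
  -- a point of the complement and a point of Γ
  obtain ⟨γ, hγ⟩ : (Γᶜ).Nonempty := by
    rw [← Set.ncard_pos (Set.toFinite _)]; omega
  obtain ⟨δ₀, hδ₀⟩ : Γ.Nonempty := by
    rw [← Set.ncard_pos (Set.toFinite _)]; omega
  have hδ₀γ : δ₀ ≠ γ := fun h => hγ (h ▸ hδ₀)
  let r : G → Ω → Prop := fun g δ => γ ∈ g • Γ₀ ∧ δ ∈ g • Γ₀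
  let N : Ω → ℕ := fun δ => (Finset.univ.filter (fun g => r g δ)).card
  have hNle : ∀ δ δ' : Ω, δ ≠ γ → δ' ≠ γ → N δ ≤ N δ' := by
    intro δ δ' hδ hδ'
    obtain ⟨h, hhγ, hhδ⟩ := h2t γ δ γ δ' hδ.symm hδ'.symm
    apply Finset.card_le_card_of_injOn (fun g => h * g)
    · intro g hg
      have hg' := (Finset.mem_filter.mp (Finset.mem_coe.mp hg)).2
      apply Finset.mem_coe.mpr
      refine Finset.mem_filter.mpr ⟨Finset.mem_univ _, ?_, ?_⟩
      · show γ ∈ (h * g) • Γ₀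
        rw [mul_smul, ← hhγ]
        exact Set.smul_mem_smul_set hg'.1
      · show δ' ∈ (h * g) • Γ₀
        rw [mul_smul, ← hhδ]
        exact Set.smul_mem_smul_set hg'.2
    · intro g _ g' _ hgg'
      exact mul_left_cancel hgg'
  have hNeq : ∀ δ : Ω, δ ≠ γ → N δ = N δ₀ := fun δ hδ =>
    le_antisymm (hNle δ δ₀ hδ hδ₀γ) (hNle δ₀ δ hδ₀γ hδ)
  -- a translate through γ and δ₀
  obtain ⟨a, b, ha, hb, hab⟩ := (Set.one_lt_ncard_iff (Set.toFinite _)).mp h1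
  obtain ⟨g₀, hg₀a, hg₀b⟩ := h2t a b γ δ₀ hab hδ₀γ.symm
  have hr₀ : r g₀ δ₀ := ⟨hg₀a ▸ Set.smul_mem_smul_set ha, hg₀b ▸ Set.smul_mem_smul_set hb⟩
  have hN₀ : 0 < N δ₀ :=
    Finset.card_pos.mpr ⟨g₀, Finset.mem_filter.mpr ⟨Finset.mem_univ _, hr₀⟩⟩
  -- structure of translates through γ
  have hT : ∀ g : G, γ ∈ g • Γ₀ →
      (Γ ∩ g • Γ₀).ncard + ((Γᶜ \ {γ}) ∩ g • Γ₀).ncard + 1 = m ∧
      ((Γ ∩ g • Γ₀).Nonempty → Γᶜ.ncard ≤ ((Γᶜ \ {γ}) ∩ g • Γ₀).ncard + 2) := by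
    intro g hg
    constructor
    · have e1 : g • Γ₀ = (Γ ∩ g • Γ₀) ∪ (((Γᶜ \ {γ}) ∩ g • Γ₀) ∪ {γ}) := by
        ext z
        simp only [Set.mem_union, Set.mem_inter_iff, Set.mem_sdiff, Set.mem_compl_iff,
          Set.mem_singleton_iff]
        constructor
        · intro hz
          by_cases hzΓ : z ∈ Γ
          · exact Or.inl ⟨hzΓ, hz⟩
          · by_cases hzγ : z = γ
            · exact Or.inr (Or.inr hzγ)
            · exact Or.inr (Or.inl ⟨⟨hzΓ, hzγ⟩, hz⟩)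
        · rintro (⟨_, hz⟩ | ⟨_, hz⟩ | hz)
          · exact hz
          · exact hz
          · rw [hz]; exact hg
      have e2 : (g • Γ₀).ncard = m := ncard_smul g Γ₀
      rw [e1, Set.ncard_union_eq _ (Set.toFinite _) (Set.toFinite _),
        Set.ncard_union_eq _ (Set.toFinite _) (Set.toFinite _), Set.ncard_singleton] at e2
      · omega
      · rw [Set.disjoint_singleton_right]
        intro hz
        exact hz.1.2 rfl
      · rw [Set.disjoint_left]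
        rintro z ⟨hzΓ, _⟩ (⟨⟨hz, _⟩, _⟩ | hz)
        · exact hz hzΓ
        · rw [Set.mem_singleton_iff] at hz
          exact hγ (hz ▸ hzΓ)
    · intro hne
      have h3 := hA (g • Γ₀) (hJ.smul g) (by rwa [Set.inter_comm]) (fun h => hγ (h hg))
      -- Γᶜ ⊆ ((Γᶜ \ {γ}) ∩ gΓ₀) ∪ {γ} ∪ (Γᶜ \ gΓ₀)
      have h4 : Γᶜ ⊆ (((Γᶜ \ {γ}) ∩ g • Γ₀) ∪ {γ}) ∪ (Γᶜ \ g • Γ₀) := by
        intro z hz
        by_cases hzT : z ∈ g • Γ₀
        · by_cases hzγ : z = γ
          · exact Or.inl (Or.inr hzγ)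
          · exact Or.inl (Or.inl ⟨⟨hz, hzγ⟩, hzT⟩)
        · exact Or.inr ⟨hz, hzT⟩
      have h5 := Set.ncard_le_ncard h4 (Set.toFinite _)
      have h6 := Set.ncard_union_le (((Γᶜ \ {γ}) ∩ g • Γ₀) ∪ {γ}) (Γᶜ \ g • Γ₀)
      have h7 := Set.ncard_union_le ((Γᶜ \ {γ}) ∩ g • Γ₀) {γ}
      rw [Set.ncard_singleton] at h7
      omega
  -- `m ≥ d`
  have hmd : Γᶜ.ncard ≤ m := by
    obtain ⟨h3, h4⟩ := hT g₀ hr₀.1
    have h5 := h4 ⟨δ₀, hδ₀, hr₀.2⟩
    have h6 : 0 < (Γ ∩ g₀ • Γ₀).ncard := by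
      rw [Set.ncard_pos (Set.toFinite _)]
      exact ⟨δ₀, hδ₀, hr₀.2⟩
    omega
  -- the double count
  set ΓF : Finset Ω := Γ.toFinset with hΓF
  set ΔF : Finset Ω := (Γᶜ \ {γ}).toFinset with hΔF
  have hsumA := Finset.sum_card_bipartiteAbove_eq_sum_card_bipartiteBelow r
    (s := (Finset.univ : Finset G)) (t := ΓF)
  have hsumB := Finset.sum_card_bipartiteAbove_eq_sum_card_bipartiteBelow r
    (s := (Finset.univ : Finset G)) (t := ΔF)
  have hA2 : ∑ δ ∈ ΓF, (Finset.univ.bipartiteBelow r δ).card = Γ.ncard * N δ₀ := by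
    rw [Finset.sum_congr rfl (fun δ hδ => ?_), Finset.sum_const, smul_eq_mul,
      Set.ncard_eq_toFinset_card']
    have hδΓ : δ ∈ Γ := Set.mem_toFinset.mp hδ
    exact hNeq δ (fun h => hγ (h ▸ hδΓ))
  have hB2 : ∑ δ ∈ ΔF, (Finset.univ.bipartiteBelow r δ).card = (Γᶜ.ncard - 1) * N δ₀ := by
    rw [Finset.sum_congr rfl (fun δ hδ => ?_), Finset.sum_const, smul_eq_mul]
    · congr 1
      rw [← Set.ncard_eq_toFinset_card', Set.ncard_sdiff_singleton_of_mem hγ]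
    · have hδΔ : δ ∈ Γᶜ \ {γ} := Set.mem_toFinset.mp hδ
      exact hNeq δ hδΔ.2
  rw [hA2] at hsumA
  rw [hB2] at hsumB
  -- the fibrewise inequality
  obtain ⟨e, he⟩ : ∃ e, Γᶜ.ncard = e + 2 := ⟨Γᶜ.ncard - 2, by omega⟩
  have hfib : ∀ g : G, e * (ΓF.bipartiteAbove r g).card + (e + 1) * (ΔF.bipartiteAbove r g).card ≤
      m * (ΔF.bipartiteAbove r g).card := by
    intro g
    by_cases hg : γ ∈ g • Γ₀
    · have ea : (ΓF.bipartiteAbove r g).card = (Γ ∩ g • Γ₀).ncard := by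
        rw [Set.ncard_eq_toFinset_card']
        congr 1
        ext z
        simp only [Finset.bipartiteAbove, Finset.mem_filter, Set.mem_toFinset, Set.mem_inter_iff,
          hΓF, r]
        tauto
      have eb : (ΔF.bipartiteAbove r g).card = ((Γᶜ \ {γ}) ∩ g • Γ₀).ncard := by
        rw [Set.ncard_eq_toFinset_card']
        congr 1
        ext z
        simp only [Finset.bipartiteAbove, Finset.mem_filter, Set.mem_toFinset, Set.mem_inter_iff,
          hΔF, r]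
        tauto
      rw [ea, eb]
      obtain ⟨h3, h4⟩ := hT g hg
      by_cases h0 : (Γ ∩ g • Γ₀).ncard = 0
      · rw [h0, mul_zero, zero_add]
        exact Nat.mul_le_mul_right _ (by omega)
      · have h5 := h4 (by rw [← Set.ncard_pos (Set.toFinite _)]; omega)
        set A := (Γ ∩ g • Γ₀).ncard
        set B := ((Γᶜ \ {γ}) ∩ g • Γ₀).ncard
        have hBe : e ≤ B := by omega
        have hm' : m = A + B + 1 := by omega
        rw [hm']
        nlinarith [Nat.mul_le_mul_right A hBe, Nat.mul_le_mul_right B hBe]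
    · have ea : (ΓF.bipartiteAbove r g).card = 0 := by
        rw [Finset.card_eq_zero, Finset.bipartiteAbove, Finset.filter_eq_empty_iff]
        intro z _ hz
        exact hg hz.1
      have eb : (ΔF.bipartiteAbove r g).card = 0 := by
        rw [Finset.card_eq_zero, Finset.bipartiteAbove, Finset.filter_eq_empty_iff]
        intro z _ hz
        exact hg hz.1
      rw [ea, eb]
      simp
  have hsum : e * (Γ.ncard * N δ₀) + (e + 1) * ((Γᶜ.ncard - 1) * N δ₀) ≤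
      m * ((Γᶜ.ncard - 1) * N δ₀) := by
    rw [← hsumA, ← hsumB, Finset.mul_sum, Finset.mul_sum, Finset.mul_sum, ← Finset.sum_add_distrib]
    exact Finset.sum_le_sum (fun g _ => hfib g)
  have he1 : Γᶜ.ncard - 1 = e + 1 := by omega
  rw [he1] at hsum
  have hsum' : (e * Γ.ncard + (e + 1) * (e + 1)) * N δ₀ ≤ (m * (e + 1)) * N δ₀ := by
    nlinarith [hsum]
  have hsum'' := Nat.le_of_mul_le_mul_right hsum' hN₀
  have hn' : n = Γ.ncard + e + 2 := by omega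
  nlinarith [hsum'', h2, hn', Nat.zero_le (Γ.ncard * e)]

end Jordan

theorem result {G Ω : Type*} [Group G] [Finite G] [MulAction G Ω] [FaithfulSMul G Ω] [Finite Ω] (hprim : MulAction.IsPreprimitive G Ω) (Γ : Set Ω) (h1 : 1 < Γ.ncard) (h2 : 2 * Γ.ncard ≤ Nat.card Ω) (htr : ∀ x ∈ Γ, ∀ y ∈ Γ, ∃ g : G, (∀ z ∉ Γ, g • z = z) ∧ g • x = y) : MulAction.IsMultiplyPretransitive G Ω 3 := by
  have hJ : Jor G Γ := htr
  have h0 : Γ ≠ Set.univ := by
    intro h
    rw [h, Set.ncard_univ] at h1 h2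
    omega
  obtain ⟨α, hα⟩ := exists_jor_compl_singleton hprim Γ h1 h0 hJ
  have h2t := two_trans hprim hα
  obtain ⟨Γ', hJ', hc⟩ := exists_jor_compl_pair Γ h1 h2 hJ h2t
  obtain ⟨a, b, hab, hset⟩ := Set.ncard_eq_two.mp hc
  have e : Γ' = {a, b}ᶜ := by rw [← hset, compl_compl]
  rw [e] at hJ'
  exact three_trans h2t hab hJ'

end Cfsg.Agent.S3707
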