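import Cfsg.Statements.S3733
import Mathlib

set_option autoImplicit false
open Cfsg

namespace Cfsg.Agent.S3733

open scoped IsMulCommutative

/-- conjugation action of `A` on `V` as monoid homs -/
def cHom {G : Type*} [Group G] (A V : Subgroup G) (hAV : A ≤ Subgroup.normalizer (V : Set G))
    (a : A) : V →* V where
  toFun v := ⟨a * v * a⁻¹, ((Subgroup.mem_normalizer_iff.mp (hAV a.2)) v).mp v.2⟩
  map_one' := by ext; simp
  map_mul' x y := by ext; simp

theorem cHom_coe {G : Type*} [Group G] (A V : Subgroup G) (hAV : A ≤ Subgroup.normalizer (V : Set G))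
    (a : A) (v : V) : ((cHom A V hAV a v : V) : G) = a * v * a⁻¹ := rfl

theorem cHom_mul {G : Type*} [Group G] (A V : Subgroup G) (hAV : A ≤ Subgroup.normalizer (V : Set G))
    (a b : A) (v : V) : cHom A V hAV (a * b) v = cHom A V hAV a (cHom A V hAV b v) := by
  ext
  simp only [cHom_coe, Subgroup.coe_mul, mul_inv_rev, Subgroup.coe_inv]
  group

theorem cHom_one {G : Type*} [Group G] (A V : Subgroup G) (hAV : A ≤ Subgroup.normalizer (V : Set G))
    (v : V) : cHom A V hAV 1 v = v := by
  ext
  simp [cHom_coe]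

/-- Let A and V be subgroups of a finite group with V abelian and nontrivial and A normalizing V. Suppose a nonempty finite family of proper subgroups of A partitions A: every non-identity element of A lies in exactly one member. If the number of members minus one is coprime to the order of V, then some member B of the family has a non-identity fixed point on V, that is V ∩ C(B) ≠ 1. -/
theorem result {G : Type*} [Group G] [Finite G] (A V : Subgroup G) (hVab : IsMulCommutative V) (hV : V ≠ ⊥) (hAV : A ≤ Subgroup.normalizer (V : Set G)) (𝒜 : Finset (Subgroup G)) (hne : 𝒜.Nonempty) (hprop : ∀ B ∈ 𝒜, B < A) (hpart : ∀ a ∈ A, a ≠ 1 → ∃! B, B ∈ 𝒜 ∧ a ∈ B) (hk : (𝒜.card - 1).Coprime (Nat.card V)) : ∃ B ∈ 𝒜, V ⊓ Subgroup.centralizer (B : Set G) ≠ ⊥ := by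
  classical
  by_contra hcon
  push Not at hcon
  haveI := hVab
  haveI : Fintype A := Fintype.ofFinite _
  let T : Subgroup G → Finset A := fun B => Finset.univ.filter (fun a : A => (a : G) ∈ B)
  have hTmem : ∀ (B : Subgroup G) (a : A), a ∈ T B ↔ (a : G) ∈ B := by
    intro B a; simp [T]
  have hfixed : ∀ B : Subgroup G, B ≤ A → ∀ v : V,
      ((∏ a ∈ T B, cHom A V hAV a v : V) : G) ∈ Subgroup.centralizer (B : Set G) := by
    intro B hBA v
    rw [Subgroup.mem_centralizer_iff]
    intro b hb
    have hb' : (⟨b, hBA hb⟩ : A) ∈ T B := (hTmem B _).mpr hb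
    have h1 : cHom A V hAV ⟨b, hBA hb⟩ (∏ a ∈ T B, cHom A V hAV a v) =
        ∏ a ∈ T B, cHom A V hAV a v := by
      rw [map_prod]
      apply Finset.prod_equiv (Equiv.mulLeft (⟨b, hBA hb⟩ : A))
      · intro a
        rw [hTmem, hTmem, Equiv.coe_mulLeft, Subgroup.coe_mul]
        constructor
        · intro ha; exact B.mul_mem hb ha
        · intro ha
          have := B.mul_mem (B.inv_mem hb) ha
          simpa using this
      · intro a _
        rw [Equiv.coe_mulLeft, cHom_mul]
    have h2 := congrArg (Subtype.val) h1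
    rw [cHom_coe] at h2
    -- h2 : b * n * b⁻¹ = n
    have h3 : b * ((∏ a ∈ T B, cHom A V hAV a v : V) : G) =
        ((∏ a ∈ T B, cHom A V hAV a v : V) : G) * b := by
      have := congrArg (fun t => t * b) h2
      simpa using this
    exact h3
  have hN1 : ∀ B ∈ 𝒜, ∀ v : V, ∏ a ∈ T B, cHom A V hAV a v = 1 := by
    intro B hB v
    have hmem : ((∏ a ∈ T B, cHom A V hAV a v : V) : G) ∈ V ⊓ Subgroup.centralizer (B : Set G) :=
      ⟨SetLike.coe_mem _, hfixed B (le_of_lt (hprop B hB)) v⟩
    rw [hcon B hB, Subgroup.mem_bot] at hmem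
    exact Subtype.ext hmem
  obtain ⟨B₀, hB₀⟩ := hne
  have hTA : T A = Finset.univ := by
    ext a; simp [T]
  have hNA : ∀ v : V, ∏ a : A, cHom A V hAV a v = 1 := by
    intro v
    have h1 := hfixed A le_rfl v
    rw [hTA] at h1
    have h2 : Subgroup.centralizer (A : Set G) ≤ Subgroup.centralizer (B₀ : Set G) :=
      Subgroup.centralizer_le (le_of_lt (hprop B₀ hB₀))
    have hmem : ((∏ a : A, cHom A V hAV a v : V) : G) ∈ V ⊓ Subgroup.centralizer (B₀ : Set G) :=
      ⟨SetLike.coe_mem _, h2 h1⟩
    rw [hcon B₀ hB₀, Subgroup.mem_bot] at hmem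
    exact Subtype.ext hmem
  -- double counting
  have hkey : ∀ v : V, v ^ 𝒜.card = v := by
    intro v
    set f : A → V := fun a => cHom A V hAV a v with hf
    have hf1 : f 1 = v := cHom_one A V hAV v
    have h1 : ∏ B ∈ 𝒜, ∏ a ∈ T B, f a = 1 := by
      apply Finset.prod_eq_one
      intro B hB
      exact hN1 B hB v
    have h2 : ∏ B ∈ 𝒜, ∏ a ∈ T B, f a = ∏ a : A, ∏ B ∈ 𝒜, (if (a : G) ∈ B then f a else 1) := by
      rw [Finset.prod_comm]
      apply Finset.prod_congr rfl
      intro B _
      rw [Finset.prod_filter]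
    have h3 : ∀ a : A, ∏ B ∈ 𝒜, (if (a : G) ∈ B then f a else 1) =
        if a = 1 then (f a) ^ 𝒜.card else f a := by
      intro a
      rw [Finset.prod_ite, Finset.prod_const_one, mul_one, Finset.prod_const]
      split_ifs with ha
      · congr 1
        congr 1
        apply Finset.filter_true_of_mem
        intro B _
        rw [ha]; exact B.one_mem
      · have ha' : (a : G) ≠ 1 := fun h => ha (Subtype.ext h)
        obtain ⟨B, ⟨hB, haB⟩, huniq⟩ := hpart a a.2 ha'
        have : 𝒜.filter (fun B => (a : G) ∈ B) = {B} := by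
          ext B'
          simp only [Finset.mem_filter, Finset.mem_singleton]
          constructor
          · intro h; exact huniq B' h
          · rintro rfl; exact ⟨hB, haB⟩
        rw [this, Finset.card_singleton, pow_one]
    rw [h2] at h1
    simp only [h3] at h1
    rw [← Finset.mul_prod_erase Finset.univ _ (Finset.mem_univ (1 : A)), if_pos rfl] at h1
    have h4 : ∏ a ∈ Finset.univ.erase (1 : A), (if a = 1 then (f a) ^ 𝒜.card else f a) =
        ∏ a ∈ Finset.univ.erase (1 : A), f a := by
      apply Finset.prod_congr rfl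
      intro a ha
      rw [if_neg (Finset.ne_of_mem_erase ha)]
    rw [h4] at h1
    have h5 := hNA v
    rw [← Finset.mul_prod_erase Finset.univ _ (Finset.mem_univ (1 : A))] at h5
    -- h1 : f 1 ^ card * P = 1 ; h5 : f 1 * P = 1
    rw [hf1] at h1
    rw [cHom_one] at h5
    have h6 : v ^ 𝒜.card * (∏ a ∈ Finset.univ.erase (1 : A), f a) =
        v * (∏ a ∈ Finset.univ.erase (1 : A), f a) := by rw [h1]; exact h5.symm
    exact mul_right_cancel h6
  have hcard : 1 ≤ 𝒜.card := Finset.card_pos.mpr ⟨B₀, hB₀⟩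
  have hall : ∀ v : V, v = 1 := by
    intro v
    have h1 : v ^ (𝒜.card - 1) = 1 := by
      have := hkey v
      have h2 : v ^ (𝒜.card - 1) * v = 1 * v := by
        rw [← pow_succ, Nat.sub_add_cancel hcard, this, one_mul]
      exact mul_right_cancel h2
    have hd1 : orderOf v ∣ 𝒜.card - 1 := orderOf_dvd_of_pow_eq_one h1
    have hd2 : orderOf v ∣ Nat.card V := orderOf_dvd_natCard v
    have := Nat.dvd_gcd hd1 hd2
    rw [hk] at this
    exact orderOf_eq_one_iff.mp (Nat.dvd_one.mp this)
  apply hV
  rw [eq_bot_iff]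
  intro x hx
  rw [Subgroup.mem_bot]
  exact congrArg Subtype.val (hall ⟨x, hx⟩)

end Cfsg.Agent.S3733
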