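import Mathlib
import Cfsg.Statements.S3735
import Cfsg.Agent.Lib.Helper7.Conj
import Cfsg.Agent.Lib.Helper7.Wielandt1

set_option autoImplicit false
open Cfsg

namespace Cfsg.Agent.S3735

open Cfsg.Agent.Lib.Helper7

variable {G : Type*} [Group G]

/-- `B` normalizes `U`. -/
def Inv (B U : Subgroup G) : Prop := B ≤ Subgroup.normalizer (U : Set G)

theorem inv_iff (B U : Subgroup G) : Inv B U ↔ ∀ b ∈ B, cj b U = U := by
  constructor
  · intro h b hb
    exact mem_normalizer_iff_cj.mp (h hb)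
  · intro h b hb
    exact mem_normalizer_iff_cj.mpr (h b hb)

theorem inv_sSup {B : Subgroup G} {S : Set (Subgroup G)} (h : ∀ U ∈ S, Inv B U) :
    Inv B (sSup S) := by
  rw [inv_iff]
  intro b hb
  apply le_antisymm
  · unfold cj
    rw [Subgroup.map_le_iff_le_comap]
    apply sSup_le
    intro U hU
    rw [← Subgroup.map_le_iff_le_comap]
    have := (inv_iff B U).mp (h U hU) b hb
    change cj b U ≤ _
    rw [this]
    exact le_sSup hU
  · apply sSup_le
    intro U hU
    have := (inv_iff B U).mp (h U hU) b hb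
    rw [← this]
    exact cj_mono b (le_sSup hU)

theorem inv_sup {B U W : Subgroup G} (hU : Inv B U) (hW : Inv B W) : Inv B (U ⊔ W) := by
  have : U ⊔ W = sSup {U, W} := by rw [sSup_pair]
  rw [this]
  apply inv_sSup
  intro X hX
  rcases hX with rfl | rfl
  · exact hU
  · exact hW

theorem inv_inf {B U W : Subgroup G} (hU : Inv B U) (hW : Inv B W) : Inv B (U ⊓ W) := by
  rw [inv_iff] at *
  intro b hb
  rw [cj_inf, hU b hb, hW b hb]

theorem inv_bot (B : Subgroup G) : Inv B ⊥ := by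
  rw [inv_iff]
  intro b _
  exact cj_bot b

/-- conjugates of `A`-invariant subgroups by elements normalizing `A` are `A`-invariant. -/
theorem inv_cj {A W : Subgroup G} (hW : Inv A W) (h : G)
    (hh : h ∈ Subgroup.normalizer (A : Set G)) : Inv A (cj h W) := by
  rw [inv_iff] at *
  intro a ha
  have ha' : h⁻¹ * a * h ∈ A := by
    have := (Subgroup.mem_normalizer_iff.mp ((Subgroup.normalizer (A : Set G)).inv_mem hh) a).mp ha
    rwa [inv_inv] at this
  have e : a * h = h * (h⁻¹ * a * h) := by group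
  rw [← cj_mul, e, cj_mul, hW _ ha']

/-- Clifford's Theorem for actions on finite abelian groups, first part. Let H and V be subgroups of a finite group with V abelian and H normalizing V, and let A be a normal subgroup of H. If every H-invariant subgroup of V has an H-invariant complement in V, then every A-invariant subgroup of V has an A-invariant complement in V. -/
theorem result {G : Type*} [Group G] [Finite G] (H A V : Subgroup G) (hVab : IsMulCommutative V) (hHV : H ≤ Subgroup.normalizer (V : Set G)) (hAH : A ≤ H) (hAn : H ≤ Subgroup.normalizer (A : Set G)) (hss : ∀ U : Subgroup G, U ≤ V → H ≤ Subgroup.normalizer (U : Set G) → ∃ W : Subgroup G, W ≤ V ∧ H ≤ Subgroup.normalizer (W : Set G) ∧ U ⊓ W = ⊥ ∧ U ⊔ W = V) (U : Subgroup G) (hUV : U ≤ V) (hAU : A ≤ Subgroup.normalizer (U : Set G)) : ∃ W : Subgroup G, W ≤ V ∧ A ≤ Subgroup.normalizer (W : Set G) ∧ U ⊓ W = ⊥ ∧ U ⊔ W = V := by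
  classical
  -- irreducibles
  let IrrH : Set (Subgroup G) := {W | Minimal (fun X => X ≤ V ∧ X ≠ ⊥ ∧ Inv H X) W}
  let IrrA : Set (Subgroup G) := {W | Minimal (fun X => X ≤ V ∧ X ≠ ⊥ ∧ Inv A X) W}
  -- Step 1: V is the join of H-irreducibles
  have hS : sSup IrrH = V := by
    have hSV : sSup IrrH ≤ V := sSup_le (fun W hW => hW.1.1)
    have hSinv : Inv H (sSup IrrH) := inv_sSup (fun W hW => hW.1.2.2)
    obtain ⟨T, hTV, hTinv, hST, hSTV⟩ := hss _ hSV hSinv
    by_cases hT : T = ⊥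
    · rw [hT, sup_bot_eq] at hSTV
      exact hSTV
    · exfalso
      obtain ⟨W, hWT, hW⟩ := exists_minimal_le_of_wellFoundedLT
        (fun X => X ≤ V ∧ X ≠ ⊥ ∧ Inv H X) T ⟨hTV, hT, hTinv⟩
      have hWS : W ≤ sSup IrrH := le_sSup hW
      have : W ≤ ⊥ := hST ▸ le_inf hWS hWT
      exact hW.1.2.1 (le_bot_iff.mp this)
  -- Step 2: every H-irreducible is a join of A-irreducibles
  have hIrr : ∀ W ∈ IrrH, W ≤ sSup IrrA := by
    intro W hW
    obtain ⟨hWV, hWne, hWinv⟩ := hW.1
    have hWA : Inv A W := hAH.trans hWinv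
    obtain ⟨W₀, hW₀W, hW₀⟩ := exists_minimal_le_of_wellFoundedLT
      (fun X => X ≤ V ∧ X ≠ ⊥ ∧ Inv A X) W ⟨hWV, hWne, hWA⟩
    obtain ⟨hW₀V, hW₀ne, hW₀inv⟩ := hW₀.1
    -- R = join of H-conjugates of W₀
    set R := sSup {X | ∃ h ∈ H, X = cj h W₀} with hR
    have hconjW : ∀ h ∈ H, cj h W₀ ≤ W := by
      intro h hh
      have := (inv_iff H W).mp hWinv h hh
      rw [← this]
      exact cj_mono h hW₀W
    have hRW : R ≤ W := by
      apply sSup_le
      rintro X ⟨h, hh, rfl⟩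
      exact hconjW h hh
    have hRne : R ≠ ⊥ := by
      intro hbot
      apply hW₀ne
      have : W₀ ≤ R := le_sSup ⟨1, H.one_mem, (cj_one W₀).symm⟩
      rw [hbot] at this
      exact le_bot_iff.mp this
    have hRinv : Inv H R := by
      rw [inv_iff]
      intro b hb
      have key : ∀ c ∈ H, cj c R ≤ R := by
        intro c hc
        unfold cj
        rw [Subgroup.map_le_iff_le_comap]
        apply sSup_le
        rintro X ⟨h, hh, rfl⟩
        rw [← Subgroup.map_le_iff_le_comap]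
        change cj c (cj h W₀) ≤ R
        rw [← cj_mul]
        exact le_sSup ⟨c * h, H.mul_mem hc hh, rfl⟩
      apply le_antisymm (key b hb)
      have := cj_mono b (key b⁻¹ (H.inv_mem hb))
      rwa [cj_cj_inv] at this
    have hRW' : R = W := by
      have := hW.2 ⟨hRW.trans hWV, hRne, hRinv⟩ hRW
      exact le_antisymm hRW this
    rw [← hRW']
    apply sSup_le
    rintro X ⟨h, hh, rfl⟩
    apply le_sSup
    -- cj h W₀ is A-irreducible
    refine ⟨⟨(hconjW h hh).trans hWV, ?_, inv_cj hW₀inv h (hAn hh)⟩, ?_⟩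
    · intro hbot
      apply hW₀ne
      have := congrArg (cj h⁻¹) hbot
      rwa [cj_inv_cj, cj_bot] at this
    · rintro Y ⟨hYV, hYne, hYinv⟩ hYle
      have h1 : cj h⁻¹ Y ≤ W₀ := by
        have := cj_mono h⁻¹ hYle
        rwa [cj_inv_cj] at this
      have h2 : cj h⁻¹ Y ≠ ⊥ := by
        intro hbot
        apply hYne
        have := congrArg (cj h) hbot
        rwa [cj_cj_inv, cj_bot] at this
      have h3 : Inv A (cj h⁻¹ Y) := inv_cj hYinv h⁻¹ ((Subgroup.normalizer _).inv_mem (hAn hh))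
      have h4 := hW₀.2 ⟨h1.trans hW₀V, h2, h3⟩ h1
      have := cj_mono h h4
      rwa [cj_cj_inv] at this
  have hVA : V ≤ sSup IrrA := by
    rw [← hS]
    exact sSup_le hIrr
  -- Step 3: maximal A-invariant M with U ⊓ M = ⊥
  obtain ⟨M, -, hM⟩ := exists_maximal_ge_of_wellFoundedGT
    (fun X => X ≤ V ∧ Inv A X ∧ U ⊓ X = ⊥) ⊥ ⟨bot_le, inv_bot A, inf_bot_eq U⟩
  obtain ⟨hMV, hMinv, hUM⟩ := hM.1
  refine ⟨M, hMV, hMinv, hUM, ?_⟩
  apply le_antisymm (sup_le hUV hMV)
  by_contra hlt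
  -- some A-irreducible W₀ is not inside U ⊔ M
  have : ∃ W₀ ∈ IrrA, ¬ W₀ ≤ U ⊔ M := by
    by_contra hall
    push Not at hall
    exact hlt (hVA.trans (sSup_le hall))
  obtain ⟨W₀, hW₀, hW₀not⟩ := this
  obtain ⟨hW₀V, hW₀ne, hW₀inv⟩ := hW₀.1
  have hUinv : Inv A U := hAU
  have hmeet : W₀ ⊓ (U ⊔ M) = ⊥ := by
    by_contra hne
    have h1 := hW₀.2 ⟨inf_le_left.trans hW₀V, hne, inv_inf hW₀inv (inv_sup hUinv hMinv)⟩ inf_le_left
    exact hW₀not (h1.trans inf_le_right)
  -- M ⊔ W₀ still meets U trivially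
  have hcomm : ∀ x ∈ V, ∀ y ∈ V, x * y = y * x := by
    intro x hx y hy
    have := mul_comm' (⟨x, hx⟩ : V) ⟨y, hy⟩
    exact congrArg Subtype.val this
  have hMW : M ≤ Subgroup.normalizer (W₀ : Set G) := by
    intro m hm
    rw [Subgroup.mem_normalizer_iff]
    intro w
    constructor
    · intro hw
      have : m * w * m⁻¹ = w := by
        rw [hcomm m (hMV hm) w (hW₀V hw), mul_inv_cancel_right]
      rw [this]; exact hw
    · intro hw
      have hmv : m * w * m⁻¹ ∈ V := hW₀V hw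
      have hwV : w ∈ V := by
        have := V.mul_mem (V.mul_mem (V.inv_mem (hMV hm)) hmv) (hMV hm)
        have e : m⁻¹ * (m * w * m⁻¹) * m = w := by group
        rwa [e] at this
      have : m * w * m⁻¹ = w := by
        rw [hcomm m (hMV hm) w hwV, mul_inv_cancel_right]
      rwa [this] at hw
  have hUMW : U ⊓ (M ⊔ W₀) = ⊥ := by
    rw [eq_bot_iff]
    rintro x ⟨hxU, hxMW⟩
    have hx' : x ∈ ((M ⊔ W₀ : Subgroup G) : Set G) := hxMW
    rw [Subgroup.coe_mul_of_left_le_normalizer_right M W₀ hMW] at hx'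
    obtain ⟨m, hm, w, hw, rfl⟩ := Set.mem_mul.mp hx'
    have hwUM : w ∈ U ⊔ M := by
      have h1 : m⁻¹ ∈ U ⊔ M := (U ⊔ M).inv_mem (Subgroup.mem_sup_right hm)
      have h2 : m * w ∈ U ⊔ M := Subgroup.mem_sup_left hxU
      have := (U ⊔ M).mul_mem h1 h2
      rwa [inv_mul_cancel_left] at this
    have hw1 : w = 1 := by
      have : w ∈ W₀ ⊓ (U ⊔ M) := ⟨hw, hwUM⟩
      rwa [hmeet, Subgroup.mem_bot] at this
    rw [hw1, mul_one] at hxU ⊢
    have : m ∈ U ⊓ M := ⟨hxU, hm⟩
    rwa [hUM] at this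
  have hge : M ≤ M ⊔ W₀ := le_sup_left
  have := hM.2 ⟨sup_le hMV hW₀V, inv_sup hMinv hW₀inv, hUMW⟩ hge
  apply hW₀not
  exact (le_sup_right.trans this).trans le_sup_right

end Cfsg.Agent.S3735
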