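import Mathlib
import Cfsg.Statements.S3736
import Cfsg.Agent.Lib.Helper7.MinAction
import Cfsg.Agent.Lib.Lead.CoprimeAction2
import Cfsg.Agent.Lib.Lead.CoprimeAction3
import Cfsg.Agent.Lib.Lead.CoprimeFrattini
import Cfsg.Agent.Lib.Lead.Frattini

set_option autoImplicit false
open Cfsg

namespace Cfsg.Agent.S3736

open Cfsg.Agent.Lib Cfsg.Agent.Lib.Helper7
open scoped commutatorElement

/-- The Hall–Higman reduction for a minimal non-trivial action. Let B, A and P be subgroups of a finite group with P a p-group, B normalizing P, and A a normal subgroup of B of order prime to p. Suppose A does not centralize P but centralizes every proper B-invariant subgroup of P. Then [P, A] = P; P is elementary abelian or special; B acts irreducibly on P/Φ(P), that is, the only B-invariant subgroups of P containing Φ(P) are Φ(P) and P; and if p is odd then every element of P has order dividing p. -/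
theorem result {X : Type*} [Group X] [Finite X] {p : ℕ} [Fact p.Prime] (B A P : Subgroup X) (hP : IsPGroup p P) (hBP : B ≤ Subgroup.normalizer (P : Set X)) (hAB : A ≤ B) (hAn : B ≤ Subgroup.normalizer (A : Set X)) (hAp : (Nat.card A).Coprime p) (hnt : ⁅P, A⁆ ≠ ⊥) (hmin : ∀ U : Subgroup X, U < P → B ≤ Subgroup.normalizer (U : Set X) → ⁅U, A⁆ = ⊥) : ⁅P, A⁆ = P ∧ (Cfsg.IsElementaryAbelian p P ∨ Cfsg.IsSpecial p ↥P) ∧ (∀ U : Subgroup X, (frattini ↥P).map P.subtype ≤ U → U ≤ P → B ≤ Subgroup.normalizer (U : Set X) → U = (frattini ↥P).map P.subtype ∨ U = P) ∧ (p ≠ 2 → ∀ x ∈ P, x ^ p = 1) := by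
  classical
  have hpp : p.Prime := Fact.out
  have hAP : A ≤ Subgroup.normalizer (P : Set X) := hAB.trans hBP
  obtain ⟨n, hn⟩ := IsPGroup.iff_card.mp hP
  have hcop : (Nat.card A).Coprime (Nat.card P) := by
    rw [hn]; exact Nat.Coprime.pow_right n hAp
  haveI : Group.IsNilpotent P := hP.isNilpotent
  have hsolv : Group.IsSolvable A ∨ Group.IsSolvable P := Or.inr inferInstance
  have hPAle : ⁅P, A⁆ ≤ P := Lead.commutator_le_left_of_le_normalizer P A hAP
  have hBPA : B ≤ Subgroup.normalizer ((⁅P, A⁆ : Subgroup X) : Set X) :=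
    (le_inf hBP hAn).trans (Lead.normalizer_inf_le_normalizer_commutator P A)
  -- part 1
  have h1 : ⁅P, A⁆ = P := by
    by_contra hne
    have hlt : ⁅P, A⁆ < P := lt_of_le_of_ne hPAle hne
    have h2 := hmin _ hlt hBPA
    rw [Lead.coprime_commutator_stable A P hAP hcop hsolv] at h2
    exact hnt h2
  -- the fixed points
  obtain ⟨C, hC⟩ : ∃ C : Subgroup X, C = P ⊓ Subgroup.centralizer (A : Set X) := ⟨_, rfl⟩
  have hCle : C ≤ ⁅P, P⁆ := by
    rw [hC]; exact centralizer_le_commutator_of_commutator_eq P A hAP hcop h1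
  have hUC : ∀ U : Subgroup X, U < P → B ≤ Subgroup.normalizer (U : Set X) → U ≤ C := by
    intro U hU hBU
    have := hmin U hU hBU
    rw [hC]
    exact le_inf hU.le (Subgroup.commutator_eq_bot_iff_le_centralizer.mp this)
  -- the Frattini subgroup
  obtain ⟨Φ, hΦ⟩ : ∃ Φ : Subgroup X, Φ = (frattini ↥P).map P.subtype := ⟨_, rfl⟩
  have hΦP : Φ ≤ P := by rw [hΦ]; exact Subgroup.map_subtype_le _
  have hPne : P ≠ ⊥ := by
    rintro rfl
    exact hnt (Subgroup.commutator_bot_left A)
  have hΦne : Φ ≠ P := by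
    intro h
    have htop : frattini ↥P = ⊤ := by
      rw [eq_top_iff]
      intro y _
      have : (y : X) ∈ Φ := by rw [h]; exact y.2
      rw [hΦ] at this
      obtain ⟨b, hb, hby⟩ := this
      have : b = y := Subtype.ext hby
      rw [← this]; exact hb
    haveI : Nontrivial P := (Subgroup.nontrivial_iff_ne_bot P).mpr hPne
    obtain ⟨M, hM, -⟩ := (eq_top_or_exists_le_coatom (⊥ : Subgroup P)).resolve_left bot_ne_top
    have := frattini_le_coatom hM
    rw [htop] at this
    exact hM.1 (top_le_iff.mp this)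
  have hBΦ : B ≤ Subgroup.normalizer (Φ : Set X) := by
    rw [hΦ]; exact hBP.trans (Lead.le_normalizer_map_characteristic P (frattini ↥P))
  have hΦC : Φ ≤ C := hUC Φ (lt_of_le_of_ne hΦP hΦne) hBΦ
  have hDΦ : ⁅P, P⁆ ≤ Φ := by
    rw [← Subgroup.map_subtype_commutator, hΦ]
    exact Subgroup.map_mono (Lead.commutator_le_frattini_of_isPGroup hP)
  have hCΦ : C = Φ := le_antisymm (hCle.trans hDΦ) hΦC
  have hDeq : ⁅P, P⁆ = Φ := le_antisymm hDΦ (hΦC.trans hCle)
  -- part 3
  have h3 : ∀ U : Subgroup X, Φ ≤ U → U ≤ P → B ≤ Subgroup.normalizer (U : Set X) →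
      U = Φ ∨ U = P := by
    intro U hΦU hUP hBU
    by_cases hUeq : U = P
    · exact Or.inr hUeq
    · left
      exact le_antisymm ((hUC U (lt_of_le_of_ne hUP hUeq) hBU).trans hCΦ.le) hΦU
  have hpowΦ : ∀ x ∈ P, x ^ p ∈ Φ := by
    intro x hx
    rw [hΦ]
    exact ⟨⟨x, hx⟩ ^ p, Lead.pow_mem_frattini_of_isPGroup hP ⟨x, hx⟩, rfl⟩
  by_cases hab : IsMulCommutative P
  · have hD : ⁅P, P⁆ = ⊥ := by
      rw [← Subgroup.map_subtype_commutator, (commutator_eq_bot_iff (G := ↥P)).mpr hab, Subgroup.map_bot]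
    have hΦbot : Φ = ⊥ := by rw [← hDeq, hD]
    have hexp : ∀ x ∈ P, x ^ p = 1 := fun x hx => by
      have := hpowΦ x hx
      rw [hΦbot] at this
      exact Subgroup.mem_bot.mp this
    refine ⟨h1, Or.inl ⟨hab, hexp⟩, ?_, fun _ => hexp⟩
    rw [← hΦ]; exact h3
  · -- the nonabelian case
    obtain ⟨Z, hZ⟩ : ∃ Z : Subgroup X, Z = (Subgroup.center ↥P).map P.subtype := ⟨_, rfl⟩
    have hZP : Z ≤ P := by rw [hZ]; exact Subgroup.map_subtype_le _
    have hZmem : ∀ g, g ∈ Z ↔ g ∈ P ∧ ∀ y ∈ P, y * g = g * y := by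
      intro g
      rw [hZ]
      constructor
      · rintro ⟨w, hw, rfl⟩
        refine ⟨w.2, fun y hy => ?_⟩
        exact congrArg Subtype.val (Subgroup.mem_center_iff.mp hw ⟨y, hy⟩)
      · rintro ⟨hg, hcomm⟩
        refine ⟨⟨g, hg⟩, ?_, rfl⟩
        rw [SetLike.mem_coe, Subgroup.mem_center_iff]
        intro y
        exact Subtype.ext (hcomm y y.2)
    have hZne : Z ≠ P := by
      intro h
      apply hab
      refine ⟨⟨fun a b => Subtype.ext ?_⟩⟩
      have : (b : X) ∈ Z := by rw [h]; exact b.2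
      exact ((hZmem _).mp this).2 a a.2
    have hBZ : B ≤ Subgroup.normalizer (Z : Set X) := by
      rw [hZ]; exact hBP.trans (Lead.le_normalizer_map_characteristic P (Subgroup.center ↥P))
    have hZC : Z ≤ C := hUC Z (lt_of_le_of_ne hZP hZne) hBZ
    have hΦA : ⁅Φ, A⁆ = ⊥ := by
      rw [Subgroup.commutator_eq_bot_iff_le_centralizer]
      exact (hΦC.trans (by rw [hC]; exact inf_le_right))
    have hPnΦ : P ≤ Subgroup.normalizer (Φ : Set X) := by
      rw [hΦ]
      exact Subgroup.le_normalizer.trans (Lead.le_normalizer_map_characteristic P (frattini ↥P))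
    have hPΦ : ⁅P, Φ⁆ = ⊥ := by
      have hr : ⁅⁅P, A⁆, Φ⁆ = ⊥ := by
        apply Subgroup.commutator_commutator_eq_bot_of_rotate
        · rw [Subgroup.commutator_comm A Φ, hΦA]; exact Subgroup.commutator_bot_left P
        · have : ⁅Φ, P⁆ ≤ Φ := Lead.commutator_le_left_of_le_normalizer Φ P hPnΦ
          rw [eq_bot_iff, ← hΦA]; exact Subgroup.commutator_mono this le_rfl
      rwa [h1] at hr
    have hΦZ : Φ ≤ Z := by
      intro g hg
      rw [hZmem]
      refine ⟨hΦP hg, fun y hy => ?_⟩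
      have h := Subgroup.commutator_eq_bot_iff_le_centralizer.mp hPΦ
      exact (Subgroup.mem_centralizer_iff.mp (h hy) g hg).symm
    have hZΦ : Z = Φ := le_antisymm (hZC.trans hCΦ.le) hΦZ
    have hspecial : Cfsg.IsSpecial p ↥P := by
      refine ⟨hP, ?_, ?_⟩
      · apply Subgroup.map_injective P.subtype_injective
        rw [← hΦ, ← hZ, hZΦ]
      · apply Subgroup.map_injective P.subtype_injective
        rw [Subgroup.map_subtype_commutator, hDeq, ← hZ, hZΦ]
    have h4 : p ≠ 2 → ∀ x ∈ P, x ^ p = 1 := by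
      intro hp2
      have hodd : Odd p := hpp.odd_of_ne_two hp2
      have hcen : ∀ x ∈ P, ∀ y ∈ P, ∀ z ∈ P, Commute ⁅y, x⁆ z := by
        intro x hx y hy z hz
        have hc : ⁅y, x⁆ ∈ Z := by
          rw [hZΦ, ← hDeq]; exact Subgroup.commutator_mem_commutator hy hx
        exact (((hZmem _).mp hc).2 z hz).symm
      have hcp : ∀ x ∈ P, ∀ y ∈ P, ⁅y, x⁆ ^ p = 1 := by
        intro x hx y hy
        have h := pow_mul_comm_of_central x y (hcen x hx y hy y hy) p
        have hyp : y ^ p * x = x * y ^ p := by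
          have : y ^ p ∈ Z := by rw [hZΦ]; exact hpowΦ y hy
          exact (((hZmem _).mp this).2 x hx).symm
        rw [hyp] at h
        have : ⁅y, x⁆ ^ p * (x * y ^ p) = 1 * (x * y ^ p) := by
          rw [one_mul, ← mul_assoc]; exact h.symm
        exact mul_right_cancel this
      have hsum : p ∣ ∑ i ∈ Finset.range p, i := by
        have h2 := Finset.sum_range_id_mul_two p
        have h5 : p ∣ (∑ i ∈ Finset.range p, i) * 2 := by rw [h2]; exact dvd_mul_right _ _
        have hc2 : Nat.Coprime p 2 := (Nat.coprime_primes hpp Nat.prime_two).mpr hp2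
        exact hc2.dvd_of_dvd_mul_right h5
      have hmulpow : ∀ x ∈ P, ∀ y ∈ P, (x * y) ^ p = x ^ p * y ^ p := by
        intro x hx y hy
        rw [mul_pow_of_central x y (hcen x hx y hy x hx) (hcen x hx y hy y hy) p]
        obtain ⟨t, ht⟩ := hsum
        rw [ht, pow_mul, hcp x hx y hy, one_pow, mul_one]
      let K : Subgroup X :=
        { carrier := {x | x ∈ P ∧ x ^ p = 1}
          one_mem' := ⟨P.one_mem, one_pow _⟩
          mul_mem' := by
            rintro a b ⟨ha, hap⟩ ⟨hb, hbp⟩
            exact ⟨P.mul_mem ha hb, by rw [hmulpow a ha b hb, hap, hbp, one_mul]⟩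
          inv_mem' := by
            rintro a ⟨ha, hap⟩
            exact ⟨P.inv_mem ha, by rw [inv_pow, hap, inv_one]⟩ }
      have hKle : ⁅P, A⁆ ≤ K := by
        rw [Subgroup.commutator_le]
        intro x hx a ha
        have hx' : a * x⁻¹ * a⁻¹ ∈ P :=
          (Subgroup.mem_normalizer_iff.mp (hAP ha) _).mp (inv_mem hx)
        refine ⟨hPAle (Subgroup.commutator_mem_commutator hx ha), ?_⟩
        have e : ⁅x, a⁆ = x * (a * x⁻¹ * a⁻¹) := by rw [commutatorElement_def]; group
        rw [e, hmulpow x hx _ hx', conj_pow, inv_pow]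
        have hxp : x ^ p ∈ Subgroup.centralizer (A : Set X) := by
          have := hΦC (hpowΦ x hx)
          rw [hC] at this
          exact (Subgroup.mem_inf.mp this).2
        have h := Subgroup.mem_centralizer_iff.mp hxp a ha
        have c : Commute a (x ^ p)⁻¹ := (show Commute a (x ^ p) from h).inv_right
        rw [c.eq, mul_inv_cancel_right, mul_inv_cancel]
      intro x hx
      have : x ∈ K := hKle (by rw [h1]; exact hx)
      exact this.2
    refine ⟨h1, Or.inr hspecial, ?_, h4⟩
    rw [← hΦ]; exact h3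

end Cfsg.Agent.S3736
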