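import Mathlib
import Cfsg.Statements.S3737
import Cfsg.Agent.Lib.Lead.ThompsonPQ
import Cfsg.Agent.Lib.Helper7.Baer2

set_option autoImplicit false
open Cfsg

namespace Cfsg.Agent.S3737

open Cfsg.Agent.Lib.Lead Cfsg.Agent.Lib.Helper7
open scoped commutatorElement

variable {X : Type*} [Group X] [Finite X]

/-- the case of class at most two, by the Baer trick -/
theorem class_two_case {p : ℕ} [Fact p.Prime] (hp : p ≠ 2) (P Q G : Subgroup X)
    (hP : IsPGroup p P) (hQ : (Nat.card Q).Coprime p)
    (hPQ : P ≤ Subgroup.normalizer (Q : Set X)) (hG : IsPGroup p G)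
    (hPG : P ≤ Subgroup.normalizer (G : Set X)) (hQG : Q ≤ Subgroup.normalizer (G : Set X))
    (hC : G ⊓ Subgroup.centralizer (P : Set X) ≤ Subgroup.centralizer (Q : Set X))
    (hcl : ⁅G, ⁅G, G⁆⁆ = ⊥) : Q ≤ Subgroup.centralizer (G : Set X) := by
  by_contra hnot
  obtain ⟨y, hyQ, hy⟩ := Set.not_subset.mp hnot
  rw [SetLike.mem_coe, Subgroup.mem_centralizer_iff] at hy
  push Not at hy
  obtain ⟨g, hgG, hgy⟩ := hy
  haveI : Baer.Hyp ↥G := by
    refine ⟨?_, ?_⟩
    · obtain ⟨k, hk⟩ := IsPGroup.iff_card.mp hG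
      rw [hk]
      exact Odd.pow ((Fact.out : p.Prime).odd_of_ne_two hp)
    · intro a b c
      apply Subtype.ext
      rw [Subgroup.commutator_eq_bot_iff_le_centralizer] at hcl
      have h1 : ((⁅a, b⁆ : ↥G) : X) ∈ ⁅G, G⁆ := by
        have : ((⁅a, b⁆ : ↥G) : X) = ⁅(a : X), (b : X)⁆ := by
          simp [commutatorElement_def]
        rw [this]
        exact Subgroup.commutator_mem_commutator a.2 b.2
      have h2 := Subgroup.mem_centralizer_iff.mp (hcl c.2) _ h1
      simpa using h2
  obtain ⟨N, hN⟩ : ∃ N : Subgroup X, N = Subgroup.normalizer (G : Set X) := ⟨_, rfl⟩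
  have hP' : IsPGroup p (P.subgroupOf (Subgroup.normalizer (G : Set X))) := hP.comap_subtype
  have hQ' : (Nat.card (Q.subgroupOf (Subgroup.normalizer (G : Set X)))).Coprime p := by
    rw [Nat.card_congr (Subgroup.subgroupOfEquivOfLe hQG).toEquiv]
    exact hQ
  have hPQ' : P.subgroupOf (Subgroup.normalizer (G : Set X)) ≤
      Subgroup.normalizer ((Q.subgroupOf (Subgroup.normalizer (G : Set X)) :
        Subgroup ↥(Subgroup.normalizer (G : Set X))) : Set ↥(Subgroup.normalizer (G : Set X))) := by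
    intro x hx
    rw [Subgroup.mem_subgroupOf] at hx
    rw [Subgroup.mem_normalizer_iff]
    intro h
    rw [Subgroup.mem_subgroupOf, Subgroup.mem_subgroupOf]
    have := Subgroup.mem_normalizer_iff.mp (hPQ hx) (h : X)
    simpa using this
  have hnt : ∃ y' ∈ Q.subgroupOf (Subgroup.normalizer (G : Set X)), ∃ h : ↥G,
      G.normalizerMonoidHom y' h ≠ h := by
    refine ⟨⟨y, hQG hyQ⟩, by rw [Subgroup.mem_subgroupOf]; exact hyQ, ⟨g, hgG⟩, ?_⟩
    intro h
    have h2 : y * g * y⁻¹ = g := congrArg Subtype.val h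
    apply hgy
    calc g * y = (y * g * y⁻¹) * y := by rw [h2]
      _ = y * g := by group
  obtain ⟨w, hwP, y', hy'Q, hy'w⟩ := Baer.exists_fixed_not_fixed hG G.normalizerMonoidHom
    (P.subgroupOf (Subgroup.normalizer (G : Set X)))
    (Q.subgroupOf (Subgroup.normalizer (G : Set X))) hP' hQ' hPQ' hnt
  have hwC : (w : X) ∈ G ⊓ Subgroup.centralizer (P : Set X) := by
    refine Subgroup.mem_inf.mpr ⟨w.2, ?_⟩
    rw [Subgroup.mem_centralizer_iff]
    intro x hx
    have h1 := hwP ⟨x, hPG hx⟩ (by rw [Subgroup.mem_subgroupOf]; exact hx)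
    have h2 : x * (w : X) * x⁻¹ = w := congrArg Subtype.val h1
    calc x * (w : X) = (x * w * x⁻¹) * x := by group
      _ = w * x := by rw [h2]
  have hwQ := hC hwC
  rw [Subgroup.mem_subgroupOf] at hy'Q
  have h3 := Subgroup.mem_centralizer_iff.mp hwQ _ hy'Q
  apply hy'w
  apply Subtype.ext
  show (y' : X) * (w : X) * (y' : X)⁻¹ = w
  rw [h3, mul_inv_cancel_right]

theorem aux {p : ℕ} [Fact p.Prime] (hp : p ≠ 2) (P Q : Subgroup X) (hP : IsPGroup p P)
    (hQ : (Nat.card Q).Coprime p) (hPQ : P ≤ Subgroup.normalizer (Q : Set X)) (n : ℕ) :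
    ∀ U : Subgroup X, Nat.card U = n → IsPGroup p U →
      P ≤ Subgroup.normalizer (U : Set X) → Q ≤ Subgroup.normalizer (U : Set X) →
      U ⊓ Subgroup.centralizer (P : Set X) ≤ Subgroup.centralizer (Q : Set X) →
      Q ≤ Subgroup.centralizer (U : Set X) := by
  induction n using Nat.strong_induction_on with
  | _ n ih =>
  intro U hn hU hPU hQU hC
  have hcop : (Nat.card Q).Coprime (Nat.card U) := by
    obtain ⟨a, ha⟩ := (IsPGroup.iff_card).mp hU
    rw [ha]; exact Nat.Coprime.pow_right _ hQ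
  have hUsolv : Group.IsSolvable U := isSolvable_of_isPGroup p U hU
  have hVU : ⁅U, Q⁆ ≤ U := commutator_le_left_of_le_normalizer U Q hQU
  by_cases hV : ⁅U, Q⁆ = U
  · by_cases hUbot : U = ⊥
    · rw [hUbot]
      intro q _
      rw [Subgroup.mem_centralizer_iff]
      intro u hu
      have : u = 1 := hu
      rw [this, one_mul, mul_one]
    · obtain ⟨D, hD⟩ : ∃ D : Subgroup X, D = ⁅U, U⁆ := ⟨_, rfl⟩
      have hDU : D ≤ U := by
        rw [hD]; exact commutator_le_left_of_le_normalizer U U Subgroup.le_normalizer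
      have hDne : D ≠ U := by
        rw [hD]; exact commutator_ne_of_pgroups p U U hU hU Subgroup.le_normalizer hUbot
      have hDlt : Nat.card D < n := by
        rw [← hn]
        have h1 := Subgroup.card_le_of_le hDU
        rcases lt_or_eq_of_le h1 with h | h
        · exact h
        · exact absurd (Subgroup.eq_of_le_of_card_ge hDU h.ge) hDne
      have hnorm : Subgroup.normalizer (U : Set X) ≤ Subgroup.normalizer (D : Set X) := by
        rw [hD]
        exact (le_inf le_rfl le_rfl).trans (normalizer_inf_le_normalizer_commutator U U)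
      have hQcD := ih _ hDlt D rfl (hU.to_le hDU) (hPU.trans hnorm) (hQU.trans hnorm)
        ((inf_le_inf_right _ hDU).trans hC)
      have h1 : ⁅⁅Q, D⁆, U⁆ = ⊥ := by
        have : ⁅Q, D⁆ = ⊥ := Subgroup.commutator_eq_bot_iff_le_centralizer.mpr hQcD
        rw [this, Subgroup.commutator_bot_left]
      have h2 : ⁅⁅D, U⁆, Q⁆ = ⊥ := by
        rw [Subgroup.commutator_eq_bot_iff_le_centralizer]
        have hDU' : ⁅D, U⁆ ≤ D :=
          commutator_le_left_of_le_normalizer D U (Subgroup.le_normalizer.trans hnorm)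
        exact hDU'.trans (Subgroup.le_centralizer_iff.mp hQcD)
      have h3 : ⁅⁅U, Q⁆, D⁆ = ⊥ := Subgroup.commutator_commutator_eq_bot_of_rotate h1 h2
      rw [hV, hD] at h3
      exact class_two_case hp P Q U hP hQ hPQ hU hPU hQU hC h3
  · have hVlt : Nat.card (⁅U, Q⁆ : Subgroup X) < n := by
      rw [← hn]
      have h1 := Subgroup.card_le_of_le hVU
      rcases lt_or_eq_of_le h1 with h | h
      · exact h
      · exact absurd (Subgroup.eq_of_le_of_card_ge hVU h.ge) hV
    have hPV : P ≤ Subgroup.normalizer ((⁅U, Q⁆ : Subgroup X) : Set X) :=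
      (le_inf hPU hPQ).trans (normalizer_inf_le_normalizer_commutator U Q)
    have hQV : Q ≤ Subgroup.normalizer ((⁅U, Q⁆ : Subgroup X) : Set X) :=
      le_normalizer_commutator_right U Q hQU
    have hQcV := ih _ hVlt ⁅U, Q⁆ rfl (hU.to_le hVU) hPV hQV ((inf_le_inf_right _ hVU).trans hC)
    have h1 : ⁅⁅U, Q⁆, Q⁆ = ⊥ := by
      rw [Subgroup.commutator_eq_bot_iff_le_centralizer]
      exact Subgroup.le_centralizer_iff.mp hQcV
    rw [coprime_commutator_stable Q U hQU hcop (Or.inr hUsolv)] at h1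
    rw [Subgroup.commutator_eq_bot_iff_le_centralizer] at h1
    exact Subgroup.le_centralizer_iff.mp h1

/-- Thompson's strengthening of the P × Q lemma for odd primes. Let p be an odd prime and let P, Q and G be subgroups of a finite group with P a p-group, Q of order prime to p and normalized by P, and G a p-group normalized by both P and Q. If every element of G centralized by P is centralized by Q, then Q centralizes G. -/
theorem result {X : Type*} [Group X] [Finite X] {p : ℕ} [Fact p.Prime] (hp : p ≠ 2) (P Q G : Subgroup X) (hP : IsPGroup p P) (hQ : (Nat.card Q).Coprime p) (hPQ : P ≤ Subgroup.normalizer (Q : Set X)) (hG : IsPGroup p G) (hPG : P ≤ Subgroup.normalizer (G : Set X)) (hQG : Q ≤ Subgroup.normalizer (G : Set X)) (hC : G ⊓ Subgroup.centralizer (P : Set X) ≤ Subgroup.centralizer (Q : Set X)) : Q ≤ Subgroup.centralizer (G : Set X) := by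
  exact aux hp P Q hP hQ hPQ _ G rfl hG hPG hQG hC

end Cfsg.Agent.S3737
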