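import Mathlib
import Cfsg.Statements.S3738
import Cfsg.Agent.Lib.Helper7.FpfThree2

set_option autoImplicit false
open Cfsg

namespace Cfsg.Agent.S3738

open Cfsg.Agent.Lib.Helper7.FpfThree

/-- conjugation by a normalizing element as an automorphism of the subgroup -/
def conjAut {X : Type*} [Group X] (P : Subgroup X) (d : X)
    (hd : d ∈ Subgroup.normalizer (P : Set X)) : MulAut P where
  toFun x := ⟨d * x * d⁻¹, (Subgroup.mem_normalizer_iff.mp hd x).mp x.2⟩
  invFun x := ⟨d⁻¹ * x * d, by
    apply (Subgroup.mem_normalizer_iff.mp hd (d⁻¹ * x * d)).mpr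
    have : d * (d⁻¹ * (x : X) * d) * d⁻¹ = x := by group
    rw [this]
    exact x.2⟩
  left_inv x := by apply Subtype.ext; simp [mul_assoc]
  right_inv x := by apply Subtype.ext; simp [mul_assoc]
  map_mul' x y := by apply Subtype.ext; simp [mul_assoc]

theorem conjAut_apply {X : Type*} [Group X] (P : Subgroup X) (d : X)
    (hd : d ∈ Subgroup.normalizer (P : Set X)) (x : P) :
    ((conjAut P d hd x : P) : X) = d * x * d⁻¹ := rfl

/-- Let d be a non-identity 3-element of a finite group and P a 2-subgroup normalized by d on which ⟨d⟩ acts faithfully (no non-identity power of d centralizes P) and without non-identity fixed points (C_P(d) = 1). If every abelian subgroup of P has 2-rank at most 2, then d has order 3. -/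
theorem result {X : Type*} [Group X] [Finite X] (d : X) (n : ℕ) (hn : 1 ≤ n) (hd : orderOf d = 3 ^ n) (P : Subgroup X) (hP : IsPGroup 2 P) (hdP : d ∈ Subgroup.normalizer (P : Set X)) (hfaith : Subgroup.zpowers d ⊓ Subgroup.centralizer (P : Set X) = ⊥) (hfpf : P ⊓ Subgroup.centralizer {d} = ⊥) (hrank : ∀ V : Subgroup X, V ≤ P → IsMulCommutative V → Cfsg.PRankLE 2 2 V) : orderOf d = 3 := by
  set a := conjAut P d hdP with ha
  have hpow : ∀ k : ℕ, ∀ x : P, (((a ^ k) x : P) : X) = d ^ k * x * (d ^ k)⁻¹ := by
    intro k
    induction k with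
    | zero => intro x; simp
    | succ k ih =>
      intro x
      rw [pow_succ', MulAut.mul_apply, ha, conjAut_apply, ← ha, ih, pow_succ']
      group
  have S : Setup a n :=
    { hQ := hP
      ham := by
        apply MulEquiv.ext
        intro x
        apply Subtype.ext
        rw [hpow, ← hd, pow_orderOf_eq_one]
        simp
      fpf := by
        intro x hx
        have h1 : d * (x : X) * d⁻¹ = x := congrArg Subtype.val hx
        have h2 : (x : X) ∈ P ⊓ Subgroup.centralizer {d} := by
          refine Subgroup.mem_inf.mpr ⟨x.2, ?_⟩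
          rw [Subgroup.mem_centralizer_iff]
          intro h hh
          rw [Set.mem_singleton_iff] at hh
          rw [hh]
          calc d * (x : X) = d * x * d⁻¹ * d := by group
            _ = x * d := by rw [h1]
        rw [hfpf, Subgroup.mem_bot] at h2
        exact Subtype.ext h2
      rank := by
        intro A hA hA2
        set V : Subgroup X := A.map P.subtype with hV
        have hVP : V ≤ P := by
          rintro _ ⟨x, _, rfl⟩
          exact x.2
        have hVc : IsMulCommutative V := by
          apply IsMulCommutative.of_comm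
          rintro ⟨_, x, hx, rfl⟩ ⟨_, y, hy, rfl⟩
          apply Subtype.ext
          show ((x : P) : X) * (y : P) = (y : P) * (x : P)
          exact congrArg Subtype.val (hA x hx y hy)
        have h1 := hrank V hVP hVc ⊤ (by
          apply IsMulCommutative.of_comm
          rintro ⟨x, _⟩ ⟨y, _⟩
          apply Subtype.ext
          exact mul_comm' x y) (by
          rintro ⟨_, x, hx, rfl⟩ _
          apply Subtype.ext
          show ((x : P) : X) ^ 2 = 1
          exact congrArg Subtype.val (hA2 x hx))
        rw [Subgroup.card_top, hV, Subgroup.card_map_of_injective (Subgroup.subtype_injective P)]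
          at h1
        exact h1 }
  have h3 := S.pow_three_eq_one
  have hd3 : d ^ 3 ∈ Subgroup.zpowers d ⊓ Subgroup.centralizer (P : Set X) := by
    refine Subgroup.mem_inf.mpr ⟨Subgroup.pow_mem _ (Subgroup.mem_zpowers d) 3, ?_⟩
    rw [Subgroup.mem_centralizer_iff]
    intro x hx
    have h4 := congrArg Subtype.val (h3 ⟨x, hx⟩)
    rw [hpow] at h4
    have h5 : d ^ 3 * x * (d ^ 3)⁻¹ = x := h4
    calc x * d ^ 3 = d ^ 3 * x * (d ^ 3)⁻¹ * d ^ 3 := by rw [h5]
      _ = d ^ 3 * x := by group
  rw [hfaith, Subgroup.mem_bot] at hd3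
  have h4 : orderOf d ∣ 3 := orderOf_dvd_of_pow_eq_one hd3
  rw [hd] at h4 ⊢
  have h5 : n ≤ 1 := by
    have : 3 ^ n ∣ 3 ^ 1 := by simpa using h4
    exact (Nat.pow_dvd_pow_iff_le_right (by norm_num)).mp this
  have h6 : n = 1 := by omega
  rw [h6, pow_one]

end Cfsg.Agent.S3738
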