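import Mathlib
import Cfsg.Statements.S3739
import Cfsg.Agent.Lib.Helper7.E8Six4

set_option autoImplicit false
open Cfsg

namespace Cfsg.Agent.S3739

open Cfsg.Agent.Lib.Helper7.E8Six

/-- Let G be a finite group with C_G(O₂(G)) ≤ O₂(G) containing an element of order 6, and let d be a non-identity 3-element of G normalizing a nontrivial elementary abelian 2-subgroup W with C_W(d) = 1. Then G has an elementary abelian subgroup of order 8. -/
theorem result {G : Type*} [Group G] [Finite G] (hchar : Subgroup.centralizer (Cfsg.pCore 2 G : Set G) ≤ Cfsg.pCore 2 G) (hsix : ∃ g : G, orderOf g = 6) (d : G) (hd1 : d ≠ 1) (hd : IsPGroup 3 ↥(Subgroup.zpowers d)) (W : Subgroup G) (hW : Cfsg.IsElementaryAbelian 2 W) (hW1 : W ≠ ⊥) (hdW : d ∈ Subgroup.normalizer (W : Set G)) (hfpf : W ⊓ Subgroup.centralizer {d} = ⊥) : ∃ E : Subgroup G, Cfsg.IsElementaryAbelian 2 E ∧ Nat.card E = 8 := by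
  haveI : Fact (Nat.Prime 2) := ⟨Nat.prime_two⟩
  by_contra hno
  -- no elementary abelian subgroup has more than four elements
  have hR : ∀ A : Subgroup G, (∀ x ∈ A, ∀ y ∈ A, x * y = y * x) → (∀ x ∈ A, x ^ 2 = 1) →
      Nat.card A ≤ 4 := by
    intro A hAc hA2
    by_contra hcon
    rw [not_le] at hcon
    have hAp : IsPGroup 2 A := by
      intro a
      refine ⟨1, ?_⟩
      rw [pow_one]
      exact Subtype.ext (hA2 a a.2)
    obtain ⟨k, hk⟩ := IsPGroup.iff_card.mp hAp
    have hk3 : 3 ≤ k := by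
      by_contra h
      have : 2 ^ k ≤ 2 ^ 2 := Nat.pow_le_pow_right (by norm_num) (by omega)
      omega
    have hdvd : 2 ^ 3 ∣ Nat.card A := by
      rw [hk]
      exact pow_dvd_pow 2 hk3
    obtain ⟨B, hB⟩ := Sylow.exists_subgroup_card_pow_prime 2 hdvd
    apply hno
    refine ⟨B.map A.subtype, ⟨?_, ?_⟩, ?_⟩
    · apply IsMulCommutative.of_comm
      rintro ⟨_, x, hx, rfl⟩ ⟨_, y, hy, rfl⟩
      apply Subtype.ext
      exact hAc _ x.2 _ y.2
    · rintro _ ⟨x, hx, rfl⟩
      exact hA2 _ x.2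
    · rw [Subgroup.card_map_of_injective (Subgroup.subtype_injective A), hB]
      norm_num
  have C : Ctx W d :=
    { hR := hR
      hWc := by
        intro x hx y hy
        haveI := hW.1
        exact Subgroup.mul_comm_of_mem_isMulCommutative W hx hy
      hW2 := hW.2
      hW1 := hW1
      hdW := fun w hw => (Subgroup.mem_normalizer_iff.mp hdW w).mp hw
      hfpf := by
        intro w hw h
        have h2 : w ∈ W ⊓ Subgroup.centralizer {d} := by
          refine Subgroup.mem_inf.mpr ⟨hw, ?_⟩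
          rw [Subgroup.mem_centralizer_iff]
          intro x hx
          rw [Set.mem_singleton_iff] at hx
          rw [hx]
          calc d * w = d * w * d⁻¹ * d := by group
            _ = w * d := by rw [h]
        rwa [hfpf, Subgroup.mem_bot] at h2 }
  obtain ⟨g, hg⟩ := hsix
  have hdn : ∃ k : ℕ, d ^ 3 ^ k = 1 := by
    obtain ⟨k, hk⟩ := hd ⟨d, Subgroup.mem_zpowers d⟩
    exact ⟨k, congrArg Subtype.val hk⟩
  have hg6 : g ^ 6 = 1 := by rw [← hg]; exact pow_orderOf_eq_one g
  have hs3 : (g ^ 2) ^ 3 = 1 := by rw [← pow_mul]; exact hg6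
  have ht2 : (g ^ 3) ^ 2 = 1 := by rw [← pow_mul]; exact hg6
  have hs1 : g ^ 2 ≠ 1 := pow_ne_one_of_lt_orderOf (by norm_num) (by rw [hg]; norm_num)
  have ht1 : g ^ 3 ≠ 1 := pow_ne_one_of_lt_orderOf (by norm_num) (by rw [hg]; norm_num)
  have hst : g ^ 2 * g ^ 3 = g ^ 3 * g ^ 2 := by rw [← pow_add, ← pow_add]
  have hQ : Cfsg.pCore 2 G ≠ ⊥ := by
    intro h
    apply hs1
    have : g ^ 2 ∈ Cfsg.pCore 2 G := hchar (by
      rw [h, Subgroup.mem_centralizer_iff]
      intro x hx
      rw [Subgroup.coe_bot, Set.mem_singleton_iff] at hx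
      rw [hx, one_mul, mul_one])
    rwa [h, Subgroup.mem_bot] at this
  have hsW := C.centralizes hQ (g ^ 2) (g ^ 3) hs3 ht2 ht1 hst
  exact C.false_of hchar hdn (g ^ 2) hs3 hs1 hsW

end Cfsg.Agent.S3739
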