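import Mathlib
import Cfsg.Statements.S3741
import Cfsg.Agent.Lib.Lead.ExtraspecialCentral

set_option autoImplicit false
open Cfsg

namespace Cfsg.Agent.S3741

open scoped commutatorElement

variable {G : Type*} [Group G]

/-- the centralizer of `a` in `B`, as a subgroup of `B`. -/
abbrev cin (B : Subgroup G) (a : G) : Subgroup ↥B := (Subgroup.centralizer {a}).subgroupOf B

theorem mem_cin (B : Subgroup G) (a : G) (b : ↥B) : b ∈ cin B a ↔ (b : G) * a = a * b := by
  rw [Subgroup.mem_subgroupOf, Subgroup.mem_centralizer_singleton_iff]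

/-- `b ↦ ⁅a, b⁆` as a homomorphism `B → ⁅A,B⁆` when `⁅A,B⁆` is centralized by `B`. -/
def commHom (A B : Subgroup G) (hc : ∀ z ∈ ⁅A, B⁆, ∀ b ∈ B, z * b = b * z) (a : G) (ha : a ∈ A) :
    ↥B →* ↥⁅A, B⁆ where
  toFun b := ⟨⁅a, (b : G)⁆, Subgroup.commutator_mem_commutator ha b.2⟩
  map_one' := by
    apply Subtype.ext
    simp
  map_mul' b1 b2 := by
    apply Subtype.ext
    simp only [Subgroup.coe_mul]
    rw [commutatorElement_mul_right_eq_mul_conj]
    have h := hc ⁅a, (b2 : G)⁆ (Subgroup.commutator_mem_commutator ha b2.2) b1 b1.2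
    calc ⁅a, (b1 : G)⁆ * b1 * ⁅a, (b2 : G)⁆ * (b1 : G)⁻¹
        = ⁅a, (b1 : G)⁆ * ((b1 : G) * ⁅a, (b2 : G)⁆) * (b1 : G)⁻¹ := by group
      _ = ⁅a, (b1 : G)⁆ * (⁅a, (b2 : G)⁆ * b1) * (b1 : G)⁻¹ := by rw [h]
      _ = ⁅a, (b1 : G)⁆ * ⁅a, (b2 : G)⁆ := by group

theorem commHom_ker (A B : Subgroup G) (hc : ∀ z ∈ ⁅A, B⁆, ∀ b ∈ B, z * b = b * z) (a : G)
    (ha : a ∈ A) : (commHom A B hc a ha).ker = cin B a := by
  ext b
  rw [MonoidHom.mem_ker, mem_cin]
  constructor
  · intro h
    have := congrArg Subtype.val h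
    simp only [commHom, MonoidHom.coe_mk, OneHom.coe_mk, Subgroup.coe_one] at this
    rw [commutatorElement_eq_one_iff_mul_comm] at this
    exact this.symm
  · intro h
    apply Subtype.ext
    simp only [commHom, MonoidHom.coe_mk, OneHom.coe_mk, Subgroup.coe_one]
    rw [commutatorElement_eq_one_iff_mul_comm]
    exact h.symm

theorem card_cin_of_not [Finite G] {p : ℕ} (hp : p.Prime) (A B : Subgroup G)
    (hc : ∀ z ∈ ⁅A, B⁆, ∀ b ∈ B, z * b = b * z) (hcard : Nat.card ↥⁅A, B⁆ = p)
    (a : G) (ha : a ∈ A) (hna : a ∉ Subgroup.centralizer (B : Set G)) :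
    p * Nat.card (cin B a) = Nat.card B := by
  have h1 := Subgroup.card_mul_index (commHom A B hc a ha).ker
  rw [Subgroup.index_ker, commHom_ker] at h1
  have h2 : Nat.card (commHom A B hc a ha).range ∣ p := by
    rw [← hcard]; exact Subgroup.card_subgroup_dvd_card _
  rcases (Nat.dvd_prime hp).mp h2 with h3 | h3
  · exfalso
    apply hna
    rw [Subgroup.mem_centralizer_iff]
    intro b hb
    have h4 : (commHom A B hc a ha).range = ⊥ := Subgroup.card_eq_one.mp h3
    have h5 : (⟨b, hb⟩ : ↥B) ∈ (commHom A B hc a ha).ker := by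
      rw [MonoidHom.mem_ker]
      have : (commHom A B hc a ha) ⟨b, hb⟩ ∈ (commHom A B hc a ha).range := ⟨_, rfl⟩
      rw [h4, Subgroup.mem_bot] at this
      exact this
    rw [commHom_ker, mem_cin] at h5
    exact h5
  · rw [h3] at h1
    rw [← h1, mul_comm]

theorem card_cin_of_mem [Finite G] (B : Subgroup G) (a : G)
    (hna : a ∈ Subgroup.centralizer (B : Set G)) :
    Nat.card (cin B a) = Nat.card B := by
  have : cin B a = ⊤ := by
    rw [eq_top_iff]
    intro b _
    rw [mem_cin]
    exact Subgroup.mem_centralizer_iff.mp hna b b.2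
  rw [this, Subgroup.card_top]

/-- the main count -/
theorem count_eq [Finite G] {p : ℕ} (hp : p.Prime) (A B : Subgroup G)
    (hc : ∀ z ∈ ⁅A, B⁆, ∀ b ∈ B, z * b = b * z) (hcard : Nat.card ↥⁅A, B⁆ = p) :
    p * (∑ᶠ a : ↥A, Nat.card (cin B (a : G)))
      + Nat.card ((Subgroup.centralizer (B : Set G)).subgroupOf A) * Nat.card B
      = p * (Nat.card ((Subgroup.centralizer (B : Set G)).subgroupOf A) * Nat.card B)
        + Nat.card A * Nat.card B := by
  classical
  haveI : Fintype ↥A := Fintype.ofFinite _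
  rw [finsum_eq_sum_of_fintype, Finset.mul_sum]
  have h1 : ∀ a : ↥A, p * Nat.card (cin B (a : G))
      = if a ∈ (Subgroup.centralizer (B : Set G)).subgroupOf A then p * Nat.card B
        else Nat.card B := by
    intro a
    split_ifs with h
    · rw [card_cin_of_mem B a (Subgroup.mem_subgroupOf.mp h)]
    · exact card_cin_of_not hp A B hc hcard a a.2 (fun h' => h (Subgroup.mem_subgroupOf.mpr h'))
  rw [Finset.sum_congr rfl (fun a _ => h1 a), Finset.sum_ite, Finset.sum_const, Finset.sum_const,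
    smul_eq_mul, smul_eq_mul]
  have h2 : (Finset.univ.filter
      (fun a : ↥A => a ∈ (Subgroup.centralizer (B : Set G)).subgroupOf A)).card
      = Nat.card ((Subgroup.centralizer (B : Set G)).subgroupOf A) := by
    rw [Nat.card_eq_fintype_card, Fintype.card_subtype]
  have h3 := Finset.card_filter_add_card_filter_not (s := (Finset.univ : Finset ↥A))
    (fun a : ↥A => a ∈ (Subgroup.centralizer (B : Set G)).subgroupOf A)
  rw [h2, Finset.card_univ, ← Nat.card_eq_fintype_card] at h3
  rw [h2, ← h3]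
  ring

theorem sum_symm [Finite G] (A B : Subgroup G) :
    (∑ᶠ a : ↥A, Nat.card (cin B (a : G))) = ∑ᶠ b : ↥B, Nat.card (cin A (b : G)) := by
  classical
  haveI : Fintype ↥A := Fintype.ofFinite _
  haveI : Fintype ↥B := Fintype.ofFinite _
  rw [finsum_eq_sum_of_fintype, finsum_eq_sum_of_fintype]
  have h1 : ∀ a : ↥A, Nat.card (cin B (a : G))
      = ∑ b : ↥B, if (b : G) * a = a * b then 1 else 0 := by
    intro a
    rw [Nat.card_eq_fintype_card, Fintype.card_subtype, Finset.card_filter]
    apply Finset.sum_congr rfl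
    intro b _
    simp only [mem_cin]
  have h2 : ∀ b : ↥B, Nat.card (cin A (b : G))
      = ∑ a : ↥A, if (b : G) * a = a * b then 1 else 0 := by
    intro b
    rw [Nat.card_eq_fintype_card, Fintype.card_subtype, Finset.card_filter]
    apply Finset.sum_congr rfl
    intro a _
    simp only [mem_cin]
    congr 1
    exact propext eq_comm
  rw [Finset.sum_congr rfl (fun a _ => h1 a), Finset.sum_congr rfl (fun b _ => h2 b)]
  exact Finset.sum_comm

/-- Let A and B be subgroups of a finite p-group with [A, B] ≤ A ∩ B and [A, B] of order at most p. Then |A : C_A(B)| = |B : C_B(A)|. -/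
theorem result {G : Type*} [Group G] [Finite G] {p : ℕ} [Fact p.Prime] (hG : IsPGroup p G) (A B : Subgroup G) (hAB : ⁅A, B⁆ ≤ A ⊓ B) (hcard : Nat.card ↥⁅A, B⁆ ≤ p) : (A ⊓ Subgroup.centralizer (B : Set G)).relIndex A = (B ⊓ Subgroup.centralizer (A : Set G)).relIndex B := by
  have hp : p.Prime := Fact.out
  rcases (hG.to_subgroup ⁅A, B⁆).card_eq_or_dvd with h1 | h1
  · have hbot : ⁅A, B⁆ = ⊥ := Subgroup.card_eq_one.mp h1
    have hbot' : ⁅B, A⁆ = ⊥ := by rw [Subgroup.commutator_comm]; exact hbot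
    rw [Subgroup.commutator_eq_bot_iff_le_centralizer] at hbot hbot'
    rw [Subgroup.relIndex_eq_one.mpr (le_inf le_rfl hbot),
      Subgroup.relIndex_eq_one.mpr (le_inf le_rfl hbot')]
  · have hcard' : Nat.card ↥⁅A, B⁆ = p :=
      le_antisymm hcard (Nat.le_of_dvd Nat.card_pos h1)
    -- centrality
    have hcen : ∀ z ∈ ⁅A, B⁆, ∀ g ∈ A ⊔ B, z * g = g * z := by
      have hH : IsPGroup p ↥(A ⊔ B) := hG.to_subgroup _
      have hZc : Nat.card (⁅A, B⁆.subgroupOf (A ⊔ B)) = p := by
        rw [← hcard']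
        exact Nat.card_congr (Subgroup.subgroupOfEquivOfLe (Subgroup.commutator_le_sup A B)).toEquiv
      have := Cfsg.Agent.Lib.Lead.le_center_of_normal_of_card_prime hH
        (⁅A, B⁆.subgroupOf (A ⊔ B)) hZc
      intro z hz g hg
      have hz' : (⟨z, Subgroup.commutator_le_sup A B hz⟩ : ↥(A ⊔ B)) ∈ ⁅A, B⁆.subgroupOf (A ⊔ B) := by
        rw [Subgroup.mem_subgroupOf]; exact hz
      have h2 := Subgroup.mem_center_iff.mp (this hz') ⟨g, hg⟩
      have h3 := congrArg Subtype.val h2
      simp only [Subgroup.coe_mul] at h3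
      exact h3.symm
    have hcB : ∀ z ∈ ⁅A, B⁆, ∀ b ∈ B, z * b = b * z :=
      fun z hz b hb => hcen z hz b ((le_sup_right : B ≤ A ⊔ B) hb)
    have hcA : ∀ z ∈ ⁅B, A⁆, ∀ a ∈ A, z * a = a * z := by
      intro z hz a ha
      rw [Subgroup.commutator_comm] at hz
      exact hcen z hz a ((le_sup_left : A ≤ A ⊔ B) ha)
    have hcardBA : Nat.card ↥⁅B, A⁆ = p := by
      rw [Subgroup.commutator_comm]; exact hcard'
    have e1 := count_eq hp A B hcB hcard'
    have e2 := count_eq hp B A hcA hcardBA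
    rw [← sum_symm A B] at e2
    set S := ∑ᶠ a : ↥A, Nat.card (cin B (a : G)) with hS
    set cA := Nat.card ((Subgroup.centralizer (B : Set G)).subgroupOf A) with hcA'
    set cB := Nat.card ((Subgroup.centralizer (A : Set G)).subgroupOf B) with hcB'
    have i1 := Subgroup.card_mul_index ((Subgroup.centralizer (B : Set G)).subgroupOf A)
    have i2 := Subgroup.card_mul_index ((Subgroup.centralizer (A : Set G)).subgroupOf B)
    have r1 : (A ⊓ Subgroup.centralizer (B : Set G)).relIndex A
        = ((Subgroup.centralizer (B : Set G)).subgroupOf A).index := by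
      rw [Subgroup.relIndex, Subgroup.inf_subgroupOf_left]
    have r2 : (B ⊓ Subgroup.centralizer (A : Set G)).relIndex B
        = ((Subgroup.centralizer (A : Set G)).subgroupOf B).index := by
      rw [Subgroup.relIndex, Subgroup.inf_subgroupOf_left]
    rw [r1, r2]
    set iA := ((Subgroup.centralizer (B : Set G)).subgroupOf A).index
    set iB := ((Subgroup.centralizer (A : Set G)).subgroupOf B).index
    rw [← hcA'] at i1
    rw [← hcB'] at i2
    have hcApos : 0 < cA := Nat.card_pos
    have hcBpos : 0 < cB := Nat.card_pos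
    obtain ⟨q, rfl⟩ : ∃ q, p = q + 1 := ⟨p - 1, by have := hp.pos; omega⟩
    have hq : 0 < q := by have := hp.one_lt; omega
    -- (q+1) S + x = (q+1) x + ab, (q+1) S + y = (q+1) y + ba
    have e3 : q * (cA * Nat.card B) = q * (cB * Nat.card A) := by
      have : Nat.card A * Nat.card B = Nat.card B * Nat.card A := mul_comm _ _
      nlinarith
    have e4 : cA * Nat.card B = cB * Nat.card A := Nat.eq_of_mul_eq_mul_left hq e3
    rw [← i1, ← i2] at e4
    have e5 : (cA * cB) * iB = (cA * cB) * iA := by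
      calc (cA * cB) * iB = cA * (cB * iB) := by ring
        _ = cB * (cA * iA) := e4
        _ = (cA * cB) * iA := by ring
    exact (Nat.eq_of_mul_eq_mul_left (Nat.mul_pos hcApos hcBpos) e5).symm

end Cfsg.Agent.S3741
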