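import Mathlib
import Cfsg.Statements.S3746
import Cfsg.Agent.Lib.Helper3.Components3

set_option autoImplicit false
open Cfsg

namespace Cfsg.Agent.S3746

open Cfsg.Agent.Lib.Helper3

/-- If `ψ : X → Y` is surjective with central kernel and `Y` is quasisimple then `X'` is
quasisimple. -/
theorem quasisimple_commutator_of_central_ext {X Y : Type*} [Group X] [Group Y] (ψ : X →* Y)
    (hψ : Function.Surjective ψ) (hker : ψ.ker ≤ Subgroup.center X) (hY : Cfsg.IsQuasisimple Y) :
    Cfsg.IsQuasisimple ↥(commutator X) := by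
  -- W = preimage of the center
  let π : Y →* Y ⧸ Subgroup.center Y := QuotientGroup.mk' (Subgroup.center Y)
  let φ : X →* Y ⧸ Subgroup.center Y := π.comp ψ
  have hφ : Function.Surjective φ := (QuotientGroup.mk'_surjective _).comp hψ
  have hmemW : ∀ x, x ∈ φ.ker ↔ ψ x ∈ Subgroup.center Y := by
    intro x
    rw [MonoidHom.mem_ker]
    simp only [φ, π, MonoidHom.coe_comp, Function.comp_apply, QuotientGroup.mk'_apply,
      QuotientGroup.eq_one_iff]
  -- commutator X ⊔ ker ψ = ⊤
  have hsup : commutator X ⊔ ψ.ker = ⊤ := by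
    have hmap : (commutator X).map ψ = ⊤ := by
      rw [commutator_def, Subgroup.map_commutator, ← MonoidHom.range_eq_map,
        MonoidHom.range_eq_top.mpr hψ, ← commutator_def]
      exact IsQuasisimple.commutator_eq_top hY
    have := congrArg (Subgroup.comap ψ) hmap
    rw [Subgroup.comap_map_eq, Subgroup.comap_top] at this
    exact this
  -- ⁅W, ⊤⁆ ≤ ker ψ
  have h1 : ⁅φ.ker, (⊤ : Subgroup X)⁆ ≤ ψ.ker := by
    rw [Subgroup.commutator_le]
    intro w hw e _
    rw [MonoidHom.mem_ker, map_commutatorElement]
    have := Subgroup.mem_center_iff.mp ((hmemW w).mp hw) (ψ e)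
    rw [commutatorElement_eq_one_iff_mul_comm]
    exact this.symm
  have h2 : ⁅⁅φ.ker, (⊤ : Subgroup X)⁆, (⊤ : Subgroup X)⁆ = ⊥ := by
    rw [Subgroup.commutator_eq_bot_iff_le_centralizer]
    intro x hx
    have := hker (h1 hx)
    rw [Subgroup.mem_centralizer_iff]
    intro g _
    exact (Subgroup.mem_center_iff.mp this g)
  have h3 : ⁅⁅(⊤ : Subgroup X), φ.ker⁆, (⊤ : Subgroup X)⁆ = ⊥ := by
    rw [Subgroup.commutator_comm ⊤ φ.ker]; exact h2
  have h4 : ⁅⁅(⊤ : Subgroup X), (⊤ : Subgroup X)⁆, φ.ker⁆ = ⊥ :=
    Subgroup.commutator_commutator_eq_bot_of_rotate h3 h2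
  have hW : φ.ker ≤ Subgroup.center X := by
    intro w hw
    rw [Subgroup.mem_center_iff]
    intro g
    have hg : g ∈ commutator X ⊔ ψ.ker := by rw [hsup]; trivial
    rw [Subgroup.mem_sup_of_normal_right] at hg
    obtain ⟨c, hc, z, hz, rfl⟩ := hg
    have hcw : c * w = w * c := by
      rw [Subgroup.commutator_eq_bot_iff_le_centralizer] at h4
      have := h4 (by rw [← commutator_def]; exact hc)
      rw [Subgroup.mem_centralizer_iff] at this
      exact (this w hw).symm
    have hzw : z * w = w * z := Subgroup.mem_center_iff.mp (hker hz) w |>.symm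
    calc c * z * w = c * (z * w) := by group
      _ = c * (w * z) := by rw [hzw]
      _ = (c * w) * z := by group
      _ = w * c * z := by rw [hcw]
      _ = w * (c * z) := by group
  have e1 : X ⧸ φ.ker ≃* Y ⧸ Subgroup.center Y :=
    QuotientGroup.quotientKerEquivOfSurjective φ hφ
  have hs : IsSimpleGroup (X ⧸ φ.ker) := by
    haveI := hY.2
    exact e1.isSimpleGroup
  have hna : ¬ IsMulCommutative (X ⧸ φ.ker) := by
    intro hc
    have hc' : ∀ a b : Y ⧸ Subgroup.center Y, a * b = b * a := by
      intro a b
      have := hc.is_comm.comm (e1.symm a) (e1.symm b)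
      rw [← map_mul, ← map_mul] at this
      exact e1.symm.injective this
    -- then commutator Y ≤ center Y, so center Y = ⊤
    apply IsQuasisimple.center_ne_top hY
    rw [eq_top_iff, ← IsQuasisimple.commutator_eq_top hY, commutator_def, Subgroup.commutator_le]
    intro a _ b _
    rw [← QuotientGroup.eq_one_iff, commutatorElement_def]
    have := hc' (a : Y ⧸ Subgroup.center Y) b
    simp only [QuotientGroup.mk_mul, QuotientGroup.mk_inv]
    rw [this]; group
  exact isQuasisimple_commutator_of_simple_quotient φ.ker hW hs hna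

/-- Let Z ≤ Z(G) be a central subgroup of a finite group G and E a subgroup of G containing Z whose image E/Z is a component of G/Z (subnormal and quasisimple). Then the derived subgroup [E, E] is a component of G. -/
theorem result {G : Type*} [Group G] [Finite G] (Z : Subgroup G) (hZ : Z ≤ Subgroup.center G) [Z.Normal] (E : Subgroup G) (hZE : Z ≤ E) (hE : Cfsg.IsComponent (E.map (QuotientGroup.mk' Z))) : Cfsg.IsComponent ⁅E, E⁆ := by
  obtain ⟨hsn, hq⟩ := hE
  refine ⟨?_, ?_⟩
  · have hEsn : E.IsSubnormal := by
      have := Subgroup.IsSubnormal.comap (QuotientGroup.mk' Z) hsn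
      rwa [Subgroup.comap_map_eq_self (by rw [QuotientGroup.ker_mk']; exact hZE)] at this
    have hle : ⁅E, E⁆ ≤ E := Subgroup.commutator_le.mpr (fun a ha b hb => by
      rw [commutatorElement_def]
      exact E.mul_mem (E.mul_mem (E.mul_mem ha hb) (E.inv_mem ha)) (E.inv_mem hb))
    refine Subgroup.IsSubnormal.step _ E hle hEsn ?_
    have : (⁅E, E⁆).subgroupOf E = commutator ↥E := by
      rw [← Subgroup.map_subtype_commutator, ← Subgroup.comap_subtype,
        Subgroup.comap_map_eq_self_of_injective E.subtype_injective]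
    rw [this]; infer_instance
  · let ψ : ↥E →* ↥(E.map (QuotientGroup.mk' Z)) := (QuotientGroup.mk' Z).subgroupMap E
    have hψ : Function.Surjective ψ := (QuotientGroup.mk' Z).subgroupMap_surjective E
    have hker : ψ.ker ≤ Subgroup.center ↥E := by
      intro x hx
      rw [MonoidHom.mem_ker] at hx
      have hx' : (QuotientGroup.mk' Z) (x : G) = 1 := by
        have := congrArg Subtype.val hx
        simpa [ψ] using this
      rw [QuotientGroup.mk'_apply, QuotientGroup.eq_one_iff] at hx'
      rw [Subgroup.mem_center_iff]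
      intro g
      apply Subtype.ext
      simp only [Subgroup.coe_mul]
      exact Subgroup.mem_center_iff.mp (hZ hx') g
    have h1 := quasisimple_commutator_of_central_ext ψ hψ hker hq
    have e : ↥(commutator ↥E) ≃* ↥((commutator ↥E).map E.subtype) :=
      Subgroup.equivMapOfInjective _ _ E.subtype_injective
    have h2 := isQuasisimple_of_mulEquiv e h1
    rw [Subgroup.map_subtype_commutator] at h2
    exact h2

end Cfsg.Agent.S3746
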