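import Mathlib
import Cfsg.Statements.S3747
import Cfsg.Agent.Lib.Helper3.Components9
import Cfsg.Agent.Lib.Helper3.Components6

set_option autoImplicit false
open Cfsg

namespace Cfsg.Agent.S3747

open Subgroup Cfsg.Agent.Lib.Helper3
open scoped commutatorElement

variable {G : Type*} [Group G]

/-- a conjugate of a subgroup with trivial centre meets its centralizer trivially -/
theorem conj_inf_centralizer (K : Subgroup G) (hZ : Subgroup.center ↥K = ⊥) (g : G) :
    K.map (MulAut.conj g).toMonoidHom ⊓
      centralizer ((K.map (MulAut.conj g).toMonoidHom : Subgroup G) : Set G) = ⊥ := by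
  rw [eq_bot_iff]
  rintro x ⟨hx1, hx2⟩
  obtain ⟨k, hk, rfl⟩ := hx1
  have hkc : (⟨k, hk⟩ : K) ∈ Subgroup.center ↥K := by
    rw [Subgroup.mem_center_iff]
    intro y
    have hy : (MulAut.conj g).toMonoidHom (y : G) ∈
        ((K.map (MulAut.conj g).toMonoidHom : Subgroup G) : Set G) :=
      ⟨y, y.2, rfl⟩
    have h := Subgroup.mem_centralizer_iff.mp hx2 _ hy
    apply Subtype.ext
    have h2 : (MulAut.conj g) ((y : G) * k) = (MulAut.conj g) (k * (y : G)) := by
      simpa [map_mul] using h
    exact (MulAut.conj g).injective h2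
  rw [hZ, Subgroup.mem_bot] at hkc
  have hk1 : k = 1 := congrArg Subtype.val hkc
  rw [Subgroup.mem_bot, hk1, map_one]

theorem partA [Finite G] (K : Subgroup G) (hK : Cfsg.IsComponent K)
    (hZ : Subgroup.center ↥K = ⊥) :
    Subgroup.normalClosure (K : Set G) ≠ ⊥ ∧ ∀ N : Subgroup G, N.Normal →
      N ≤ Subgroup.normalClosure (K : Set G) → N = ⊥ ∨ N = Subgroup.normalClosure (K : Set G) := by
  classical
  have hKle : K ≤ normalClosure (K : Set G) := Subgroup.subset_normalClosure
  refine ⟨?_, ?_⟩
  · intro h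
    apply IsQuasisimple.ne_bot hK.2
    rw [eq_bot_iff, ← h]
    exact hKle
  intro M hM hMle
  rcases IsComponent.le_or_commutator_eq_bot_of_isSubnormal hK hM.isSubnormal with h1 | h1
  · right
    exact le_antisymm hMle (Subgroup.normalClosure_le_normal h1)
  left
  -- the finite set of conjugates
  have hfin : (Set.range (fun g : G => K.map (MulAut.conj g).toMonoidHom)).Finite :=
    Set.toFinite _
  set S : Finset (Subgroup G) := hfin.toFinset with hSdef
  have hmem : ∀ L, L ∈ S ↔ ∃ g : G, K.map (MulAut.conj g).toMonoidHom = L := by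
    intro L; rw [hSdef, Set.Finite.mem_toFinset]; rfl
  have hNle : normalClosure (K : Set G) ≤ S.sup id := by
    rw [Subgroup.normalClosure, Subgroup.closure_le]
    intro x hx
    rw [Group.mem_conjugatesOfSet_iff] at hx
    obtain ⟨k, hk, hconj⟩ := hx
    rw [isConj_iff] at hconj
    obtain ⟨c, rfl⟩ := hconj
    have hL : K.map (MulAut.conj c).toMonoidHom ∈ S := (hmem _).mpr ⟨c, rfl⟩
    have hle : K.map (MulAut.conj c).toMonoidHom ≤ S.sup id :=
      Finset.le_sup (f := id) hL
    exact hle ⟨k, hk, by simp⟩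
  have hleN : S.sup id ≤ normalClosure (K : Set G) := by
    rw [Finset.sup_le_iff]
    intro L hL
    obtain ⟨g, rfl⟩ := (hmem L).mp hL
    rintro x ⟨k, hk, rfl⟩
    have : (MulAut.conj g).toMonoidHom k = g * k * g⁻¹ := by simp
    rw [this]
    exact (Subgroup.normalClosure_normal).conj_mem k (hKle hk) g
  have hSN : S.sup id = normalClosure (K : Set G) := le_antisymm hleN hNle
  have key := sup_inf_centralizer_le_of_pairwise_commute S (fun K1 hK1 L hL hne => by
    obtain ⟨g1, rfl⟩ := (hmem K1).mp hK1
    obtain ⟨g2, rfl⟩ := (hmem L).mp hL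
    exact IsComponent.commutator_eq_bot_of_ne (IsComponent.map_conj hK g1)
      (IsComponent.map_conj hK g2) hne)
  have hbot : S.sup (fun L => L ⊓ centralizer (L : Set G)) = ⊥ := by
    rw [eq_bot_iff, Finset.sup_le_iff]
    intro L hL
    obtain ⟨g, rfl⟩ := (hmem L).mp hL
    rw [conj_inf_centralizer K hZ g]
  rw [hbot, hSN] at key
  -- `M` centralizes the normal closure
  have hMc : M ≤ centralizer ((normalClosure (K : Set G) : Subgroup G) : Set G) := by
    rw [Subgroup.le_centralizer_iff]
    haveI := hM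
    apply Subgroup.normalClosure_le_normal
    have := Subgroup.commutator_eq_bot_iff_le_centralizer.mp h1
    exact this
  rw [eq_bot_iff]
  exact fun x hx => key ⟨hMle hx, hMc hx⟩

theorem center_eq_bot_of_component [Finite G] (hF : Cfsg.fittingSubgroup G = ⊥)
    (K : Subgroup G) (hK : Cfsg.IsComponent K) : Subgroup.center ↥K = ⊥ := by
  have hsn : ((Subgroup.center ↥K).map K.subtype).IsSubnormal :=
    (Subgroup.Normal.isSubnormal inferInstance).trans' hK.1
  have hnil : Group.IsNilpotent ↥((Subgroup.center ↥K).map K.subtype) := by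
    apply isNilpotent_of_le_centralizer
    rw [center_map_subtype]
    exact inf_le_right.trans (Subgroup.centralizer_le inf_le_left)
  have hle := le_fittingSubgroup_of_isSubnormal hsn hnil
  rw [hF, le_bot_iff] at hle
  exact (Subgroup.map_eq_bot_iff_of_injective _ K.subtype_injective).mp hle

/-- a simple non-commutative subgroup is quasisimple -/
theorem quasisimple_of_simple (S : Subgroup G) (hs : IsSimpleGroup ↥S)
    (hnc : ¬ ∀ a b : S, a * b = b * a) : Cfsg.IsQuasisimple ↥S := by
  have hcomm : commutator ↥S = ⊤ := by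
    rcases hs.eq_bot_or_eq_top_of_normal (commutator ↥S) inferInstance with h | h
    · exfalso
      apply hnc
      intro a b
      have : ⁅a, b⁆ ∈ commutator ↥S := Subgroup.commutator_mem_commutator (Subgroup.mem_top a) (Subgroup.mem_top b)
      rw [h, Subgroup.mem_bot] at this
      exact commutatorElement_eq_one_iff_mul_comm.mp this
    · exact h
  have hcen : Subgroup.center ↥S = ⊥ := by
    rcases hs.eq_bot_or_eq_top_of_normal (Subgroup.center ↥S) inferInstance with h | h
    · exact h
    · exfalso
      apply hnc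
      intro a b
      have : b ∈ Subgroup.center ↥S := by rw [h]; exact Subgroup.mem_top b
      exact (Subgroup.mem_center_iff.mp this a)
  refine ⟨⟨hcomm⟩, ?_⟩
  have e : (↥S ⧸ Subgroup.center ↥S) ≃* ↥S :=
    (QuotientGroup.quotientMulEquivOfEq hcen).trans QuotientGroup.quotientBot
  haveI := hs
  exact e.isSimpleGroup

theorem minNormal_le_layer [Finite G] (hF : Cfsg.fittingSubgroup G = ⊥) (N : Subgroup G)
    (hN0 : N ≠ ⊥) (hNn : N.Normal)
    (hmin : ∀ N' : Subgroup G, N'.Normal → N' ≤ N → N' = ⊥ ∨ N' = N) : N ≤ Cfsg.layer G := by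
  classical
  -- a minimal nontrivial subnormal subgroup inside `N`
  let T : Set (Subgroup G) := {S | S.IsSubnormal ∧ S ≠ ⊥ ∧ S ≤ N}
  have hTne : T.Nonempty := ⟨N, hNn.isSubnormal, hN0, le_rfl⟩
  obtain ⟨S, hST, hSmin⟩ := (wellFounded_lt (α := Subgroup G)).has_min T hTne
  obtain ⟨hSsn, hS0, hSN⟩ := hST
  have hsimple : IsSimpleGroup ↥S := by
    haveI : Nontrivial ↥S := (Subgroup.nontrivial_iff_ne_bot S).mpr hS0
    refine ⟨fun H hH => ?_⟩
    by_cases hH0 : H = ⊥
    · exact Or.inl hH0
    right
    have h1 : (H.map S.subtype).IsSubnormal := (hH.isSubnormal).trans' hSsn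
    have h2 : H.map S.subtype ≠ ⊥ := by
      rw [Ne, Subgroup.map_eq_bot_iff_of_injective _ S.subtype_injective]
      exact hH0
    have h3 : H.map S.subtype ≤ S := Subgroup.map_subtype_le H
    have h4 : H.map S.subtype = S := by
      by_contra hne
      exact hSmin _ ⟨h1, h2, h3.trans hSN⟩ (lt_of_le_of_ne h3 hne)
    rw [eq_top_iff]
    intro x _
    have hx : (x : G) ∈ H.map S.subtype := by rw [h4]; exact x.2
    obtain ⟨y, hy, hyx⟩ := hx
    have : y = x := Subtype.ext hyx
    rw [← this]; exact hy
  have hnc : ¬ ∀ a b : S, a * b = b * a := by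
    intro hc
    have hnil : Group.IsNilpotent ↥S := by
      letI : CommGroup ↥S := { (inferInstance : Group ↥S) with mul_comm := hc }
      exact CommGroup.isNilpotent
    have hle := le_fittingSubgroup_of_isSubnormal hSsn hnil
    rw [hF, le_bot_iff] at hle
    exact hS0 hle
  have hcomp : Cfsg.IsComponent S := ⟨hSsn, quasisimple_of_simple S hsimple hnc⟩
  have hSl : S ≤ Cfsg.layer G := IsComponent.le_layer hcomp
  have hinf : (N ⊓ Cfsg.layer G).Normal := by
    haveI := hNn
    infer_instance
  rcases hmin _ hinf inf_le_left with h | h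
  · exfalso
    apply hS0
    rw [eq_bot_iff, ← h]
    exact le_inf hSN hSl
  · rw [← h]; exact inf_le_right

/-- Let G be a finite group. (a) If K is a component of G with trivial centre, then the normal closure of K in G is a minimal normal subgroup of G. (b) If the Fitting subgroup of G is trivial, then the layer E(G) is generated by the minimal normal subgroups of G. -/
theorem result {G : Type*} [Group G] [Finite G] : (∀ K : Subgroup G, Cfsg.IsComponent K → Subgroup.center ↥K = ⊥ → (Subgroup.normalClosure (K : Set G) ≠ ⊥ ∧ ∀ N : Subgroup G, N.Normal → N ≤ Subgroup.normalClosure (K : Set G) → N = ⊥ ∨ N = Subgroup.normalClosure (K : Set G))) ∧ (Cfsg.fittingSubgroup G = ⊥ → sSup {N : Subgroup G | N ≠ ⊥ ∧ N.Normal ∧ ∀ N' : Subgroup G, N'.Normal → N' ≤ N → N' = ⊥ ∨ N' = N} = Cfsg.layer G) := by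
  refine ⟨fun K hK hZ => partA K hK hZ, fun hF => ?_⟩
  apply le_antisymm
  · apply sSup_le
    rintro N ⟨hN0, hNn, hmin⟩
    exact minNormal_le_layer hF N hN0 hNn hmin
  · apply sSup_le
    intro K hK
    have hZ := center_eq_bot_of_component hF K hK
    obtain ⟨h1, h2⟩ := partA K hK hZ
    have hKle : K ≤ Subgroup.normalClosure (K : Set G) := Subgroup.subset_normalClosure
    exact hKle.trans (le_sSup ⟨h1, Subgroup.normalClosure_normal, h2⟩)

end Cfsg.Agent.S3747
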