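import Mathlib
import Cfsg.Statements.S3748
import Cfsg.Agent.Lib.Helper7.Wielandt4
import Cfsg.Agent.Lib.Lead.Core
import Cfsg.Agent.S0064

set_option autoImplicit false
open Cfsg

namespace Cfsg.Agent.S3748

open Cfsg.Agent.Lib.Helper7

/-- Call a proper subgroup M of G primitive when M = N_G(N) for every non-trivial normal subgroup N of M. If M is a primitive subgroup of the finite group G, then no non-trivial subnormal subgroup of G is contained in M; in particular M ∩ F(G) = 1. -/
theorem result {G : Type*} [Group G] [Finite G] (M : Subgroup G) (hM : M ≠ ⊤) (hprim : ∀ N : Subgroup G, N ≤ M → M ≤ Subgroup.normalizer (N : Set G) → N ≠ ⊥ → Subgroup.normalizer (N : Set G) = M) : (∀ L : Subgroup G, L.IsSubnormal → L ≤ M → L = ⊥) ∧ M ⊓ Cfsg.fittingSubgroup G = ⊥ := by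
  have hB : bigSub M = ⊥ := by
    by_contra hne
    exact normalizer_bigSub_ne M hM (hprim _ (bigSub_le M) (le_normalizer_bigSub M) hne)
  have part1 : ∀ L : Subgroup G, L.IsSubnormal → L ≤ M → L = ⊥ := by
    intro L hL hLM
    have := le_bigSub hL hLM
    rwa [hB, le_bot_iff] at this
  refine ⟨part1, ?_⟩
  apply part1 _ _ inf_le_left
  -- `M ⊓ F(G)` is subnormal
  have hFn : (Cfsg.fittingSubgroup G).Normal := Cfsg.Agent.Lib.Lead.fittingSubgroup_normal
  have hFnil : Group.IsNilpotent (Cfsg.fittingSubgroup G) :=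
    Cfsg.Agent.Lib.Lead.fittingSubgroup_isNilpotent
  have h1 : ((M ⊓ Cfsg.fittingSubgroup G).subgroupOf (Cfsg.fittingSubgroup G)).IsSubnormal :=
    (Cfsg.Agent.S0064.result.mp hFnil) _
  exact h1.trans inf_le_right hFn.isSubnormal

end Cfsg.Agent.S3748
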