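import Mathlib
import Cfsg.Statements.S3749
import Cfsg.Agent.Lib.Lead.Core
import Cfsg.Agent.Lib.Lead.CoprimeTools
import Cfsg.Agent.Lib.Lead.HallTools
import Cfsg.Agent.Lib.Lead.CoprimeSylow3
import Cfsg.Agent.Lib.Lead.MaxClass5

set_option autoImplicit false
open Cfsg

namespace Cfsg.Agent.S3749

open Cfsg.Agent.Lib.Lead
open scoped Pointwise

universe u

section
variable {G : Type u} [Group G] [Finite G]

/-- fixed point congruence for a `p`-group acting on a normal subgroup by conjugation -/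
theorem not_dvd_card (P N : Subgroup G) [N.Normal] {p : ℕ} [hp : Fact p.Prime] (hP : IsPGroup p P)
    (hC : N ⊓ Subgroup.centralizer (P : Set G) = ⊥) : ¬ p ∣ Nat.card N := by
  classical
  let φ : P →* MulAut N := (MulAut.conjNormal (H := N)).comp P.subtype
  letI : MulAction P N := MulAction.compHom N φ
  have hsmul : ∀ (x : P) (n : N), ((x • n : N) : G) = x * n * (x : G)⁻¹ := fun x n => rfl
  have h := hP.card_modEq_card_fixedPoints N
  have hfix : MulAction.fixedPoints P N = {1} := by
    ext n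
    simp only [MulAction.mem_fixedPoints, Set.mem_singleton_iff]
    constructor
    · intro hn
      have hmem : (n : G) ∈ N ⊓ Subgroup.centralizer (P : Set G) := by
        refine ⟨n.2, ?_⟩
        show (n : G) ∈ Subgroup.centralizer (P : Set G)
        rw [Subgroup.mem_centralizer_iff]
        intro x hx
        have := congrArg Subtype.val (hn ⟨x, hx⟩)
        rw [hsmul] at this
        exact mul_inv_eq_iff_eq_mul.mp this
      rw [hC, Subgroup.mem_bot] at hmem
      exact Subtype.ext hmem
    · rintro rfl x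
      apply Subtype.ext
      rw [hsmul]
      simp
  rw [hfix] at h
  have h1 : Nat.card ({1} : Set N) = 1 := by
    rw [Nat.card_coe_set_eq, Set.ncard_singleton]
  rw [h1] at h
  intro hdvd
  have h0 : Nat.card N ≡ 0 [MOD p] := (Nat.modEq_zero_iff_dvd).mpr hdvd
  have h01 : 0 ≡ 1 [MOD p] := h0.symm.trans h
  have := (Nat.modEq_zero_iff_dvd).mp h01.symm
  exact hp.out.one_lt.ne' (Nat.dvd_one.mp this)

/-- uniqueness of invariant Sylow subgroups when there are no fixed points -/
theorem unique_inv (P N : Subgroup G) [N.Normal] {p : ℕ} [hp : Fact p.Prime] (hP : IsPGroup p P)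
    (hC : N ⊓ Subgroup.centralizer (P : Set G) = ⊥) (hpN : ¬ p ∣ Nat.card N)
    (q : ℕ) [hq : Fact q.Prime] (U V : Subgroup G) (hU : U ≤ N) (hV : V ≤ N)
    (hUc : Nat.card U = q ^ (Nat.card N).factorization q)
    (hVc : Nat.card V = q ^ (Nat.card N).factorization q)
    (hPU : P ≤ Subgroup.normalizer (U : Set G)) (hPV : P ≤ Subgroup.normalizer (V : Set G)) :
    U = V := by
  have hcop : (Nat.card P).Coprime (Nat.card N) := by
    obtain ⟨k, hk⟩ := IsPGroup.iff_card.mp hP
    rw [hk]
    exact Nat.Coprime.pow_left k ((Nat.Prime.coprime_iff_not_dvd hp.out).mpr hpN)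
  haveI : Group.IsNilpotent P := hP.isNilpotent
  have hsolv : Group.IsSolvable P := inferInstance
  obtain ⟨c, hc, hcUV⟩ := coprime_invariant_sylow_conj_aux P N
    (by rw [Subgroup.normalizer_eq_top]; exact le_top) hcop (Or.inl hsolv) q
    ((Nat.card N).factorization q) (Nat.card N / q ^ (Nat.card N).factorization q)
    U V hU hV hUc hVc (Nat.ordProj_mul_ordCompl_eq_self (Nat.card N) q).symm
    (Nat.not_dvd_ordCompl hq.out Nat.card_pos.ne') hPU hPV
  rw [hC, Subgroup.mem_bot] at hc
  rw [hc, map_one, one_smul] at hcUV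
  exact hcUV

end

/-- Call a proper subgroup M of G primitive when M = N_G(N) for every non-trivial normal subgroup N of M. Let M be a primitive subgroup of the finite group G, p a prime with O_p(M) ≠ 1, and N a normal subgroup of G with M ∩ N = 1. Then p does not divide the order of N; for every prime q there is exactly one Sylow q-subgroup of N normalized by M; and if the order of N has at least two prime divisors then M is not a maximal subgroup of G. -/
theorem result {G : Type*} [Group G] [Finite G] (M : Subgroup G) (hM : M ≠ ⊤) (hprim : ∀ N : Subgroup G, N ≤ M → M ≤ Subgroup.normalizer (N : Set G) → N ≠ ⊥ → Subgroup.normalizer (N : Set G) = M) {p : ℕ} [Fact p.Prime] (hOp : Cfsg.pCore p ↥M ≠ ⊥) (N : Subgroup G) [N.Normal] (hMN : M ⊓ N = ⊥) : ¬ p ∣ Nat.card N ∧ (∀ q : ℕ, [Fact q.Prime] → ∃! Q : Sylow q ↥N, M ≤ Subgroup.normalizer ((Q : Subgroup ↥N).map N.subtype : Set G)) ∧ ((∃ q r : ℕ, q.Prime ∧ r.Prime ∧ q ≠ r ∧ q ∣ Nat.card N ∧ r ∣ Nat.card N) → ¬ IsCoatom M) := by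
  classical
  set P : Subgroup G := (Cfsg.pCore p ↥M).map M.subtype with hPdef
  have hPM : P ≤ M := Subgroup.map_subtype_le _
  have hPne : P ≠ ⊥ := by
    rw [hPdef, Ne, Subgroup.map_eq_bot_iff_of_injective _ M.subtype_injective]
    exact hOp
  haveI hnorm : (Cfsg.pCore p ↥M).Normal := Cfsg.Agent.Lib.Lead.pCore_normal p
  have hMP : M ≤ Subgroup.normalizer (P : Set G) := by
    intro m hm
    apply mem_normalizer_of_conj_mem
    rintro _ ⟨y, hy, rfl⟩
    exact ⟨⟨m, hm⟩ * y * ⟨m, hm⟩⁻¹, hnorm.conj_mem y hy ⟨m, hm⟩, rfl⟩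
  have hP : IsPGroup p P := (pCore_isPGroup (G := ↥M) p).map _
  have hNP : Subgroup.normalizer (P : Set G) = M := hprim P hPM hMP hPne
  have hC : N ⊓ Subgroup.centralizer (P : Set G) = ⊥ := by
    rw [eq_bot_iff, ← hMN]
    intro x hx
    exact ⟨hNP ▸ (Subgroup.centralizer_le_normalizer _ hx.2), hx.1⟩
  have ha : ¬ p ∣ Nat.card N := not_dvd_card P N hP hC
  have hcop : (Nat.card P).Coprime (Nat.card N) := by
    obtain ⟨k, hk⟩ := IsPGroup.iff_card.mp hP
    rw [hk]
    exact Nat.Coprime.pow_left k ((Nat.Prime.coprime_iff_not_dvd (Fact.out)).mpr ha)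
  haveI : Group.IsNilpotent P := hP.isNilpotent
  have hsolv : Group.IsSolvable P := inferInstance
  have hb : ∀ q : ℕ, [Fact q.Prime] → ∃! Q : Sylow q ↥N,
      M ≤ Subgroup.normalizer ((Q : Subgroup ↥N).map N.subtype : Set G) := by
    intro q _
    obtain ⟨Q, hQ⟩ := coprime_invariant_sylow_exists P N
      (by rw [Subgroup.normalizer_eq_top]; exact le_top) hcop (Or.inl hsolv) q
    have hcardS : ∀ Q : Sylow q ↥N, Nat.card ((Q : Subgroup ↥N).map N.subtype) =
        q ^ (Nat.card N).factorization q := fun Q => (sylow_card_facts N q Q).1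
    refine ⟨Q, ?_, ?_⟩
    · intro m hm
      rw [mem_normalizer_iff_conj_smul]
      apply unique_inv P N hP hC ha q
      · rintro _ ⟨x, hx, rfl⟩
        have hxN : x ∈ N := Subgroup.map_subtype_le _ hx
        exact ‹N.Normal›.conj_mem x hxN m
      · exact Subgroup.map_subtype_le _
      · rw [card_conj_smul]; exact hcardS Q
      · exact hcardS Q
      · intro g hg
        rw [conj_smul_mem_normalizer_iff]
        apply hQ
        have hm' : m⁻¹ ∈ Subgroup.normalizer (P : Set G) := hMP (inv_mem hm)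
        have := (Subgroup.mem_normalizer_iff.mp hm' g).mp hg
        simpa using this
      · exact hQ
    · intro Q' hQ'
      apply Sylow.ext
      apply Subgroup.map_injective N.subtype_injective
      exact unique_inv P N hP hC ha q _ _ (Subgroup.map_subtype_le _) (Subgroup.map_subtype_le _)
        (hcardS Q') (hcardS Q) (hPM.trans hQ') hQ
  refine ⟨ha, hb, ?_⟩
  rintro ⟨q, r, hq, hr, hqr, hqN, hrN⟩ hco
  haveI : Fact q.Prime := ⟨hq⟩
  obtain ⟨Q, hQM, -⟩ := hb q
  set Q₀ : Subgroup G := (Q : Subgroup ↥N).map N.subtype with hQ₀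
  have hQ₀N : Q₀ ≤ N := Subgroup.map_subtype_le _
  have hQ₀card : Nat.card Q₀ = q ^ (Nat.card N).factorization q := (sylow_card_facts N q Q).1
  have hdisj : M ⊓ Q₀ = ⊥ := by
    rw [eq_bot_iff, ← hMN]
    exact inf_le_inf_left M hQ₀N
  have hQ₀ne : Q₀ ≠ ⊥ := by
    intro h0
    rw [h0, Subgroup.card_bot] at hQ₀card
    have hpos : 0 < (Nat.card N).factorization q :=
      hq.factorization_pos_of_dvd Nat.card_pos.ne' hqN
    have : 1 < q ^ (Nat.card N).factorization q := Nat.one_lt_pow hpos.ne' hq.one_lt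
    omega
  have hlt : M < M ⊔ Q₀ := by
    refine lt_of_le_of_ne le_sup_left ?_
    intro h
    apply hQ₀ne
    rw [eq_bot_iff, ← hdisj]
    exact le_inf (h ▸ le_sup_right) le_rfl
  have htop : M ⊔ Q₀ = ⊤ := hco.2 _ hlt
  have htop' : M ⊔ N = ⊤ := by
    rw [eq_top_iff, ← htop]
    exact sup_le_sup_left hQ₀N M
  have h1 := card_sup_of_disjoint M Q₀ hQM hdisj
  have h2 := card_sup_of_disjoint M N (by rw [Subgroup.normalizer_eq_top]; exact le_top) hMN
  rw [htop] at h1
  rw [htop'] at h2
  have h3 : Nat.card N = Nat.card Q₀ := by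
    have : Nat.card M * Nat.card Q₀ = Nat.card M * Nat.card N := h1.symm.trans h2
    exact (Nat.eq_of_mul_eq_mul_left Nat.card_pos this).symm
  rw [h3, hQ₀card] at hrN
  have := (Nat.prime_dvd_prime_iff_eq hr hq).mp (hr.dvd_of_dvd_pow hrN)
  exact hqr this.symm

end Cfsg.Agent.S3749
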