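import Mathlib
import Cfsg.Statements.S3750
import Cfsg.Agent.Lib.Helper3.Components12
import Cfsg.Agent.Lib.Helper6.FStarAct2
import Cfsg.Agent.Lib.Lead.Core

set_option autoImplicit false
open Cfsg

namespace Cfsg.Agent.S3750

open Cfsg.Agent.Lib.Helper3
open scoped commutatorElement

/-- if two normal subgroups meet trivially they commute -/
theorem le_centralizer_of_inf_eq_bot {G : Type*} [Group G] (K L : Subgroup G) [K.Normal] [L.Normal]
    (h : K ⊓ L = ⊥) : K ≤ Subgroup.centralizer (L : Set G) := by
  rw [← Subgroup.commutator_eq_bot_iff_le_centralizer, eq_bot_iff, ← h]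
  exact le_inf (Subgroup.commutator_le_left K L) (Subgroup.commutator_le_right K L)

/-- Call a proper subgroup M of G primitive when M = N_G(N) for every non-trivial normal subgroup N of M. Let M be a primitive subgroup of the finite group G and N a normal subgroup of G with M ∩ F*(N) ≠ 1. Then F(G) = 1 and F*(N) = F*(G) = E(G); in particular every minimal normal subgroup of G is contained in N. -/
theorem result {G : Type*} [Group G] [Finite G] (M : Subgroup G) (hM : M ≠ ⊤) (hprim : ∀ N : Subgroup G, N ≤ M → M ≤ Subgroup.normalizer (N : Set G) → N ≠ ⊥ → Subgroup.normalizer (N : Set G) = M) (N : Subgroup G) [N.Normal] (hMF : M ⊓ (Cfsg.generalizedFittingSubgroup ↥N).map N.subtype ≠ ⊥) : Cfsg.fittingSubgroup G = ⊥ ∧ (Cfsg.generalizedFittingSubgroup ↥N).map N.subtype = Cfsg.generalizedFittingSubgroup G ∧ Cfsg.generalizedFittingSubgroup G = Cfsg.layer G ∧ ∀ K : Subgroup G, K.Normal → K ≠ ⊥ → (∀ K' : Subgroup G, K'.Normal → K' ≤ K → K' = ⊥ ∨ K' = K) → K ≤ N := by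
  have hNsn : N.IsSubnormal := Subgroup.Normal.isSubnormal inferInstance
  have hL1 := Cfsg.Agent.Lib.Helper6.generalizedFittingSubgroup_map_subtype_eq_of_isSubnormal hNsn
  have hL2 := generalizedFittingSubgroup_map_subtype N
  rw [fittingSubgroup_map_subtype_eq_of_isSubnormal hNsn] at hL2
  set L : Subgroup G := (Cfsg.generalizedFittingSubgroup ↥N).map N.subtype with hL
  haveI hFn : (Cfsg.fittingSubgroup G).Normal := Cfsg.Agent.Lib.Lead.fittingSubgroup_normal
  haveI hLn : L.Normal := by
    rw [hL1]
    infer_instance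
  have hLN : L ≤ N := by rw [hL1]; exact inf_le_right
  -- `U = M ∩ L` has normalizer `M`
  have hU : Subgroup.normalizer ((M ⊓ L : Subgroup G) : Set G) = M := by
    apply hprim _ inf_le_left _ hMF
    intro m hm
    rw [Subgroup.mem_set_normalizer_iff]
    intro h
    simp only [SetLike.mem_coe, Subgroup.mem_inf]
    constructor
    · rintro ⟨h1, h2⟩
      exact ⟨M.mul_mem (M.mul_mem hm h1) (M.inv_mem hm), hLn.conj_mem h h2 m⟩
    · rintro ⟨h1, h2⟩
      refine ⟨?_, ?_⟩
      · have : h = m⁻¹ * (m * h * m⁻¹) * m := by group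
        rw [this]
        exact M.mul_mem (M.mul_mem (M.inv_mem hm) h1) hm
      · have : h = m⁻¹ * (m * h * m⁻¹) * m⁻¹⁻¹ := by group
        rw [this]
        exact hLn.conj_mem _ h2 m⁻¹
  -- the centralizer of `L` is trivial
  have hC : Subgroup.centralizer (L : Set G) = ⊥ := by
    by_contra hne
    have h1 : Subgroup.centralizer (L : Set G) ≤ M := by
      rw [← hU]
      intro c hc
      have hc2 : c ∈ Subgroup.centralizer ((M ⊓ L : Subgroup G) : Set G) :=
        Subgroup.centralizer_le (show ((M ⊓ L : Subgroup G) : Set G) ⊆ (L : Set G) from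
          fun x hx => hx.2) hc
      exact Subgroup.centralizer_le_normalizer _ hc2
    have h2 : M ≤ Subgroup.normalizer ((Subgroup.centralizer (L : Set G) : Subgroup G) : Set G) := by
      rw [Subgroup.normalizer_eq_top]
      exact le_top
    have h3 := hprim _ h1 h2 hne
    rw [Subgroup.normalizer_eq_top] at h3
    exact hM h3.symm
  -- `F(G) ∩ N = 1`
  have hFN : Cfsg.fittingSubgroup G ⊓ N = ⊥ := by
    by_contra hne
    set FN := Cfsg.fittingSubgroup G ⊓ N with hFNdef
    haveI : Nontrivial FN := (Subgroup.nontrivial_iff_ne_bot FN).mpr hne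
    haveI : Group.IsNilpotent (Cfsg.fittingSubgroup G) :=
      Cfsg.Agent.Lib.Lead.fittingSubgroup_isNilpotent
    haveI : Group.IsNilpotent FN := by
      have : FN ≤ Cfsg.fittingSubgroup G := inf_le_left
      exact isNilpotent_of_injective (Subgroup.inclusion this) (Subgroup.inclusion_injective this)
        inferInstance
    have hcen := Group.IsNilpotent.center_ne_bot (G := FN)
    obtain ⟨z, hz, hz1⟩ : ∃ z ∈ Subgroup.center FN, z ≠ 1 := by
      by_contra hcon
      push Not at hcon
      exact hcen ((Subgroup.eq_bot_iff_forall _).mpr hcon)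
    have hzC : (z : G) ∈ Subgroup.centralizer (L : Set G) := by
      have h1 : L ≤ Subgroup.centralizer ({(z : G)} : Set G) := by
        rw [hL2]
        apply sup_le
        · -- the layer part
          have h2 : (Cfsg.layer ↥N).map N.subtype ≤ Cfsg.layer G := layer_map_subtype_le hNsn
          refine h2.trans ?_
          have h3 := commutator_layer_fittingSubgroup (G := G)
          rw [Subgroup.commutator_eq_bot_iff_le_centralizer] at h3
          intro e he
          rw [Subgroup.mem_centralizer_singleton_iff]
          exact (Subgroup.mem_centralizer_iff.mp (h3 he) (z : G) z.2.1).symm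
        · intro f hf
          rw [Subgroup.mem_centralizer_singleton_iff]
          have := Subgroup.mem_center_iff.mp hz ⟨f, hf⟩
          exact (congrArg Subtype.val this)
      rw [Subgroup.mem_centralizer_iff]
      intro l hl
      have := h1 hl
      rw [Subgroup.mem_centralizer_singleton_iff] at this
      exact this
    rw [hC, Subgroup.mem_bot] at hzC
    exact hz1 (Subtype.ext hzC)
  -- `F(G) = 1`
  have hF : Cfsg.fittingSubgroup G = ⊥ := by
    have h1 : Cfsg.fittingSubgroup G ⊓ L = ⊥ := by
      rw [eq_bot_iff, ← hFN]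
      exact inf_le_inf_left _ hLN
    have h2 := le_centralizer_of_inf_eq_bot _ _ h1
    rw [hC] at h2
    exact eq_bot_iff.mpr h2
  have hFstar : Cfsg.generalizedFittingSubgroup G = Cfsg.layer G := by
    unfold Cfsg.generalizedFittingSubgroup
    rw [hF, sup_bot_eq]
  have hlayerN : Cfsg.layer G ≤ N := by
    rw [layer_le_iff]
    intro K hK
    rcases IsComponent.le_or_commutator_eq_bot_of_isSubnormal hK hNsn with h | h
    · exact h
    · exfalso
      rw [Subgroup.commutator_eq_bot_iff_le_centralizer] at h
      have h2 : K ≤ Subgroup.centralizer (L : Set G) := h.trans (Subgroup.centralizer_le hLN)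
      rw [hC] at h2
      exact IsQuasisimple.ne_bot hK.2 (eq_bot_iff.mpr h2)
  refine ⟨hF, ?_, hFstar, ?_⟩
  · rw [hL1, hFstar]
    exact inf_eq_left.mpr hlayerN
  · intro K hKn hK1 hKmin
    haveI := hKn
    have h1 : (K ⊓ L).Normal := inferInstance
    rcases hKmin (K ⊓ L) h1 inf_le_left with h | h
    · exfalso
      have h2 := le_centralizer_of_inf_eq_bot _ _ h
      rw [hC] at h2
      exact hK1 (eq_bot_iff.mpr h2)
    · exact (inf_eq_left.mp h).trans hLN

end Cfsg.Agent.S3750
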