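import Mathlib
import Cfsg.Statements.S3751
import Cfsg.Agent.Lib.Helper9.LargeExtra13

set_option autoImplicit false
open Cfsg

namespace Cfsg.Agent.S3751

open Cfsg.Agent.Lib.Helper9.LargeExtra

variable {G : Type*} [Group G]

/-- `M` is a `p`-local subgroup. -/
def IsLoc (p : ℕ) (M : Subgroup G) : Prop :=
  ∃ T : Subgroup G, IsPGroup p T ∧ T ≠ ⊥ ∧ M = Subgroup.normalizer (T : Set G)

/-- `M` is a maximal `p`-local subgroup. -/
def IsMaxLoc (p : ℕ) (M : Subgroup G) : Prop :=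
  IsLoc p M ∧ ∀ L : Subgroup G, IsLoc p L → M ≤ L → L = M

/-- `T` is a maximal `p`-subgroup of `H`. -/
def IsMaxP (p : ℕ) (T H : Subgroup G) : Prop :=
  T ≤ H ∧ IsPGroup p T ∧ ∀ T' : Subgroup G, IsPGroup p T' → T ≤ T' → T' ≤ H → T' = T

theorem exists_maxLoc [Finite G] {p : ℕ} {L₀ : Subgroup G} (h : IsLoc p L₀) :
    ∃ M, IsMaxLoc p M ∧ L₀ ≤ M := by
  haveI : Nonempty {L : Subgroup G // IsLoc p L ∧ L₀ ≤ L} := ⟨⟨L₀, h, le_rfl⟩⟩
  obtain ⟨M, hM⟩ := Finite.exists_max (fun L : {L : Subgroup G // IsLoc p L ∧ L₀ ≤ L} =>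
    Nat.card L.1)
  refine ⟨M.1, ⟨M.2.1, ?_⟩, M.2.2⟩
  intro L hL hML
  have := hM ⟨L, hL, M.2.2.trans hML⟩
  exact (Subgroup.eq_of_le_of_card_ge hML this).symm

theorem conj_mem_of_mem_normalizer {T : Subgroup G} {h x : G}
    (hh : h ∈ Subgroup.normalizer (T : Set G)) (hx : x ∈ T) : h * x * h⁻¹ ∈ T :=
  (Subgroup.mem_normalizer_iff.mp hh x).mp hx

theorem maxLoc_normalizer_eq [Finite G] {p : ℕ} {M : Subgroup G} (hM : IsMaxLoc p M)
    {R : Subgroup G} (hR : IsPGroup p R) (hRne : R ≠ ⊥)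
    (hMR : M ≤ Subgroup.normalizer (R : Set G)) : Subgroup.normalizer (R : Set G) = M :=
  hM.2 _ ⟨R, hR, hRne, rfl⟩ hMR

theorem Op_ne_bot [Finite G] {p : ℕ} [Fact p.Prime] {M : Subgroup G} (hM : IsLoc p M) :
    (Cfsg.pCore p ↥M).map M.subtype ≠ ⊥ := by
  obtain ⟨T, hT, hTne, rfl⟩ := hM
  intro hbot
  apply hTne
  have hle : T ≤ (Cfsg.pCore p ↥(Subgroup.normalizer (T : Set G))).map
      (Subgroup.normalizer (T : Set G)).subtype :=
    le_pCoreMap p _ T Subgroup.le_normalizer hT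
      (fun h hh x hx => conj_mem_of_mem_normalizer hh hx)
  rw [hbot] at hle
  exact le_bot_iff.mp hle

theorem Op_normalized [Finite G] (p : ℕ) [Fact p.Prime] (A : Subgroup G) :
    Subgroup.normalizer (A : Set G) ≤
      Subgroup.normalizer (((Cfsg.pCore p ↥A).map A.subtype : Subgroup G) : Set G) := by
  intro n hn
  have hn' : n⁻¹ ∈ Subgroup.normalizer (A : Set G) := inv_mem hn
  have key : ∀ m ∈ Subgroup.normalizer (A : Set G), ∀ x ∈ (Cfsg.pCore p ↥A).map A.subtype,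
      m * x * m⁻¹ ∈ (Cfsg.pCore p ↥A).map A.subtype := by
    intro m hm x hx
    have h1 := pCoreMap_conj p A A m (fun y => by
      have := (Subgroup.mem_normalizer_iff.mp (inv_mem hm) y)
      rw [inv_inv] at this
      exact this)
    rw [h1]
    exact ⟨x, hx, rfl⟩
  rw [Subgroup.mem_normalizer_iff]
  intro x
  constructor
  · exact key n hn x
  · intro hx
    have := key n⁻¹ hn' _ hx
    rw [inv_inv] at this
    have e : n⁻¹ * (n * x * n⁻¹) * n = x := by group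
    rwa [e] at this

theorem maxLoc_selfNormalizing [Finite G] {p : ℕ} [Fact p.Prime] {M : Subgroup G}
    (hM : IsMaxLoc p M) : Subgroup.normalizer (M : Set G) ≤ M := by
  have h1 := Op_normalized p M
  have h2 : M ≤ Subgroup.normalizer (((Cfsg.pCore p ↥M).map M.subtype : Subgroup G) : Set G) :=
    Subgroup.le_normalizer.trans h1
  rw [maxLoc_normalizer_eq hM (pCoreMap_isPGroup p M) (Op_ne_bot hM.1) h2] at h1
  exact h1

/-- conjugation as a map on subgroups -/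
abbrev cj (g : G) (H : Subgroup G) : Subgroup G := H.map (MulAut.conj g).toMonoidHom

theorem cj_inv_cj (g : G) (H : Subgroup G) : cj g⁻¹ (cj g H) = H := by
  ext x
  simp only [cj, mem_map_conj, inv_inv]
  constructor
  · intro h
    have e : g⁻¹ * (g * x * g⁻¹) * g = x := by group
    rwa [e] at h
  · intro h
    have e : g⁻¹ * (g * x * g⁻¹) * g = x := by group
    rwa [e]

theorem cj_cj_inv (g : G) (H : Subgroup G) : cj g (cj g⁻¹ H) = H := by
  have := cj_inv_cj g⁻¹ H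
  rwa [inv_inv] at this

theorem cj_mono (g : G) {H K : Subgroup G} (h : H ≤ K) : cj g H ≤ cj g K :=
  Subgroup.map_mono h

theorem cj_le_iff (g : G) {H K : Subgroup G} : cj g H ≤ K ↔ H ≤ cj g⁻¹ K := by
  constructor
  · intro h
    have := cj_mono g⁻¹ h
    rwa [cj_inv_cj] at this
  · intro h
    have := cj_mono g h
    rwa [cj_cj_inv] at this

theorem cj_isPGroup {p : ℕ} (g : G) {H : Subgroup G} (h : IsPGroup p H) : IsPGroup p (cj g H) :=
  h.map _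

theorem cj_normalizer (g : G) (T : Subgroup G) :
    cj g (Subgroup.normalizer (T : Set G)) = Subgroup.normalizer ((cj g T : Subgroup G) : Set G) :=
  Subgroup.map_equiv_normalizer_eq T (MulAut.conj g)

theorem cj_ne_bot (g : G) {T : Subgroup G} (h : T ≠ ⊥) : cj g T ≠ ⊥ := by
  intro hb
  apply h
  have := cj_inv_cj g T
  rw [hb] at this
  rw [← this]
  simp [cj]

theorem cj_isLoc {p : ℕ} (g : G) {M : Subgroup G} (h : IsLoc p M) : IsLoc p (cj g M) := by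
  obtain ⟨T, hT, hTne, rfl⟩ := h
  exact ⟨cj g T, cj_isPGroup g hT, cj_ne_bot g hTne, cj_normalizer g T⟩

theorem cj_isMaxLoc {p : ℕ} (g : G) {M : Subgroup G} (h : IsMaxLoc p M) :
    IsMaxLoc p (cj g M) := by
  refine ⟨cj_isLoc g h.1, ?_⟩
  intro L hL hML
  have h1 := h.2 (cj g⁻¹ L) (cj_isLoc g⁻¹ hL) ((cj_le_iff g).mp hML)
  rw [← h1, cj_cj_inv]

theorem cj_isMaxP {p : ℕ} (g : G) {T H : Subgroup G} (h : IsMaxP p T H) :
    IsMaxP p (cj g T) (cj g H) := by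
  refine ⟨cj_mono g h.1, cj_isPGroup g h.2.1, ?_⟩
  intro T' hT' h1 h2
  have h3 := h.2.2 (cj g⁻¹ T') (cj_isPGroup g⁻¹ hT') ((cj_le_iff g).mp h1)
    (by have := cj_mono g⁻¹ h2; rwa [cj_inv_cj] at this)
  rw [← h3, cj_cj_inv]

theorem cj_eq_self_of_mem_normalizer {g : G} {T : Subgroup G}
    (hg : g ∈ Subgroup.normalizer (T : Set G)) : cj g T = T := by
  ext x
  simp only [cj, mem_map_conj]
  have := Subgroup.mem_normalizer_iff.mp (inv_mem hg) x
  rw [inv_inv] at this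
  exact this.symm

theorem cj_ne_of_not_mem [Finite G] {p : ℕ} [Fact p.Prime] {M : Subgroup G} (hM : IsMaxLoc p M)
    {g : G} (hg : g ∉ M) : cj g M ≠ M := by
  intro h
  apply hg
  apply maxLoc_selfNormalizing hM
  rw [Subgroup.mem_normalizer_iff]
  intro x
  constructor
  · intro hx
    rw [← h]
    exact ⟨x, hx, rfl⟩
  · intro hx
    rw [← h] at hx
    obtain ⟨y, hy, hxy⟩ := hx
    have hxy' : g * y * g⁻¹ = g * x * g⁻¹ := hxy
    have : y = x := by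
      have := congrArg (fun t => g⁻¹ * t * g) hxy'
      beta_reduce at this
      have e1 : g⁻¹ * (g * y * g⁻¹) * g = y := by group
      have e2 : g⁻¹ * (g * x * g⁻¹) * g = x := by group
      rwa [e1, e2] at this
    rw [← this]; exact hy

theorem exists_isMaxP [Finite G] {p : ℕ} {T₀ H : Subgroup G} (hT₀ : IsPGroup p T₀)
    (hle : T₀ ≤ H) : ∃ T, IsMaxP p T H ∧ T₀ ≤ T := by
  haveI : Nonempty {T : Subgroup G // IsPGroup p T ∧ T₀ ≤ T ∧ T ≤ H} := ⟨⟨T₀, hT₀, le_rfl, hle⟩⟩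
  obtain ⟨T, hT⟩ := Finite.exists_max
    (fun T : {T : Subgroup G // IsPGroup p T ∧ T₀ ≤ T ∧ T ≤ H} => Nat.card T.1)
  refine ⟨T.1, ⟨T.2.2.2, T.2.1, ?_⟩, T.2.2.1⟩
  intro T' hT' h1 h2
  have := hT ⟨T', hT', T.2.2.1.trans h1, h2⟩
  exact (Subgroup.eq_of_le_of_card_ge h1 this).symm

theorem le_of_isMaxP {p : ℕ} {T H R : Subgroup G} (hT : IsMaxP p T H) (hR : IsPGroup p R)
    (hRH : R ≤ H) (hnorm : H ≤ Subgroup.normalizer (R : Set G)) : R ≤ T := by
  have h1 : IsPGroup p (T ⊔ R : Subgroup G) :=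
    IsPGroup.to_sup_of_normal_right' hT.2.1 hR (hT.1.trans hnorm)
  have h2 := hT.2.2 (T ⊔ R) h1 le_sup_left (sup_le hT.1 hRH)
  rw [← h2]
  exact le_sup_right

theorem exists_normalizer_growth [Finite G] {p : ℕ} [Fact p.Prime] {T H : Subgroup G}
    (hT : IsPGroup p T) (hTH : T ≤ H) (hnot : ¬ IsMaxP p T H) :
    ∃ T₁ : Subgroup G, IsPGroup p T₁ ∧ T < T₁ ∧ T₁ ≤ H ∧
      T₁ ≤ Subgroup.normalizer (T : Set G) := by
  have : ∃ T' : Subgroup G, IsPGroup p T' ∧ T ≤ T' ∧ T' ≤ H ∧ T' ≠ T := by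
    by_contra hcon
    push Not at hcon
    exact hnot ⟨hTH, hT, fun T' h1 h2 h3 => hcon T' h1 h2 h3⟩
  obtain ⟨T', hT', hTT', hT'H, hne⟩ := this
  have hlt : T < T' := lt_of_le_of_ne hTT' (Ne.symm hne)
  haveI : Group.IsNilpotent ↥T' := hT'.isNilpotent
  have hK : T.subgroupOf T' < ⊤ := by
    rw [lt_top_iff_ne_top]
    intro h
    rw [Subgroup.subgroupOf_eq_top] at h
    exact hne (le_antisymm h hTT')
  have hnc := Group.normalizerCondition_of_isNilpotent (G := ↥T') (T.subgroupOf T') hK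
  obtain ⟨y, hyN, hyK⟩ := SetLike.exists_of_lt hnc
  refine ⟨T' ⊓ Subgroup.normalizer (T : Set G), hT'.to_le inf_le_left, ?_,
    inf_le_left.trans hT'H, inf_le_right⟩
  have hyG : (y : G) ∈ Subgroup.normalizer (T : Set G) := by
    rw [Subgroup.mem_normalizer_iff] at hyN ⊢
    intro x
    constructor
    · intro hx
      have := (hyN ⟨x, hTT' hx⟩).mp (Subgroup.mem_subgroupOf.mpr hx)
      exact Subgroup.mem_subgroupOf.mp this
    · intro hx
      have hx' : x ∈ T' := by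
        have h1 : (y : G)⁻¹ * ((y : G) * x * (y : G)⁻¹) * (y : G) ∈ T' :=
          mul_mem (mul_mem (inv_mem y.2) (hTT' hx)) y.2
        have e : (y : G)⁻¹ * ((y : G) * x * (y : G)⁻¹) * (y : G) = x := by group
        rwa [e] at h1
      have := (hyN ⟨x, hx'⟩).mpr (Subgroup.mem_subgroupOf.mpr hx)
      exact Subgroup.mem_subgroupOf.mp this
  refine lt_of_le_of_ne (le_inf hTT' Subgroup.le_normalizer) ?_
  intro heq
  apply hyK
  rw [Subgroup.mem_subgroupOf, heq]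
  exact Subgroup.mem_inf.mpr ⟨y.2, hyG⟩

theorem char_p {p : ℕ} (hloc : Cfsg.IsOfLocalCharacteristic p G) {M : Subgroup G}
    (hM : IsLoc p M) :
    Subgroup.centralizer (Cfsg.pCore p ↥M : Set ↥M) ≤ Cfsg.pCore p ↥M := by
  obtain ⟨T, hT, hTne, rfl⟩ := hM
  exact hloc.2 T hT hTne

theorem normalizer_eq_of_normal [Finite G] {p : ℕ} [Fact p.Prime]
    (hloc : Cfsg.IsOfLocalCharacteristic p G) {M : Subgroup G} (hM : IsMaxLoc p M)
    {A : Subgroup G} (hA : A ≠ ⊥) (hAM : A ≤ M) (hMA : M ≤ Subgroup.normalizer (A : Set G)) :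
    Subgroup.normalizer (A : Set G) = M := by
  have hRne : (Cfsg.pCore p ↥A).map A.subtype ≠ ⊥ := by
    intro hbot
    apply hA
    have hAO : A ≤ (Cfsg.pCore p ↥M).map M.subtype := by
      intro a ha
      have haM : a ∈ M := hAM ha
      have hcen : (⟨a, haM⟩ : ↥M) ∈ Subgroup.centralizer (Cfsg.pCore p ↥M : Set ↥M) := by
        rw [Subgroup.mem_centralizer_iff]
        intro o ho
        have hoO : (o : G) ∈ (Cfsg.pCore p ↥M).map M.subtype := ⟨o, ho, rfl⟩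
        have hc : a * (o : G) * a⁻¹ * (o : G)⁻¹ ∈
            A ⊓ (Cfsg.pCore p ↥M).map M.subtype := by
          refine Subgroup.mem_inf.mpr ⟨?_, ?_⟩
          · have h1 : (o : G) * a⁻¹ * (o : G)⁻¹ ∈ A :=
              conj_mem_of_mem_normalizer (hMA o.2) (inv_mem ha)
            have e : a * (o : G) * a⁻¹ * (o : G)⁻¹ = a * ((o : G) * a⁻¹ * (o : G)⁻¹) := by group
            rw [e]; exact mul_mem ha h1
          · exact mul_mem (pCoreMap_conj_mem p M haM hoO) (inv_mem hoO)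
        have hle : A ⊓ (Cfsg.pCore p ↥M).map M.subtype ≤ (Cfsg.pCore p ↥A).map A.subtype := by
          apply le_pCoreMap p A _ inf_le_left ((pCoreMap_isPGroup p M).to_le inf_le_right)
          intro h hh x hx
          have hx' := Subgroup.mem_inf.mp hx
          exact Subgroup.mem_inf.mpr ⟨mul_mem (mul_mem hh hx'.1) (inv_mem hh),
            pCoreMap_conj_mem p M (hAM hh) hx'.2⟩
        have h1 := hle hc
        rw [hbot, Subgroup.mem_bot] at h1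
        apply Subtype.ext
        show (o : G) * a = a * (o : G)
        have e : a * (o : G) = (a * (o : G) * a⁻¹ * (o : G)⁻¹) * ((o : G) * a) := by group
        rw [e, h1, one_mul]
      have := char_p hloc hM.1 hcen
      exact ⟨⟨a, haM⟩, this, rfl⟩
    have hAp : IsPGroup p A := (pCoreMap_isPGroup p M).to_le hAO
    have hAR : A ≤ (Cfsg.pCore p ↥A).map A.subtype :=
      le_pCoreMap p A A le_rfl hAp (fun h hh x hx => mul_mem (mul_mem hh hx) (inv_mem hh))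
    rw [hbot] at hAR
    exact le_bot_iff.mp hAR
  have h1 := Op_normalized p A
  have h2 := maxLoc_normalizer_eq hM (pCoreMap_isPGroup p A) hRne (hMA.trans h1)
  rw [h2] at h1
  exact le_antisymm h1 hMA

theorem assemble [Finite G] {p : ℕ} [Fact p.Prime] (hloc : Cfsg.IsOfLocalCharacteristic p G)
    {M M' T : Subgroup G} (hM : IsMaxLoc p M) (hM' : IsMaxLoc p M') (hne : M ≠ M')
    (hTM : IsMaxP p T M) (hTM' : IsMaxP p T M') :
    M ≠ M' ∧ (∀ A : Subgroup G, A ≠ ⊥ → A ≤ M ⊓ M' →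
      (M ≤ Subgroup.normalizer (A : Set G) → M' ⊓ Subgroup.normalizer (A : Set G) = M ⊓ M') ∧
      (M' ≤ Subgroup.normalizer (A : Set G) → M ⊓ Subgroup.normalizer (A : Set G) = M ⊓ M')) ∧
    Subgroup.centralizer (Cfsg.pCore p ↥M : Set ↥M) ≤ Cfsg.pCore p ↥M ∧
    Subgroup.centralizer (Cfsg.pCore p ↥M' : Set ↥M') ≤ Cfsg.pCore p ↥M' ∧
    (Cfsg.pCore p ↥M).map M.subtype ⊔ (Cfsg.pCore p ↥M').map M'.subtype ≤ M ⊓ M' := by
  refine ⟨hne, ?_, char_p hloc hM.1, char_p hloc hM'.1, ?_⟩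
  · intro A hA hAle
    constructor
    · intro h
      rw [normalizer_eq_of_normal hloc hM hA (hAle.trans inf_le_left) h, inf_comm]
    · intro h
      rw [normalizer_eq_of_normal hloc hM' hA (hAle.trans inf_le_right) h]
  · have hT : T ≤ M ⊓ M' := le_inf hTM.1 hTM'.1
    apply sup_le
    · exact (le_of_isMaxP hTM (pCoreMap_isPGroup p M) (pCoreMap_le p M)
        (Subgroup.le_normalizer.trans (Op_normalized p M))).trans hT
    · exact (le_of_isMaxP hTM' (pCoreMap_isPGroup p M') (pCoreMap_le p M')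
        (Subgroup.le_normalizer.trans (Op_normalized p M'))).trans hT

theorem card_lt_of_lt [Finite G] {H K : Subgroup G} (h : H < K) : Nat.card H < Nat.card K := by
  by_contra hcon
  push Not at hcon
  exact h.ne (Subgroup.eq_of_le_of_card_ge h.le hcon)

theorem ne_bot_of_lt {H K : Subgroup G} (h : H < K) : K ≠ ⊥ := by
  intro hb
  rw [hb] at h
  exact not_lt_bot h

/-- The maximality hypothesis on a triple. -/
def TripleMax (p : ℕ) (T : Subgroup G) : Prop :=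
  ∀ N₁ N₂ T' : Subgroup G, IsMaxLoc p N₁ → IsMaxLoc p N₂ → N₁ ≠ N₂ → IsPGroup p T' → T' ≠ ⊥ →
    T' ≤ N₁ ⊓ N₂ → Nat.card T' ≤ Nat.card T

theorem claimA [Finite G] {p : ℕ} [Fact p.Prime] {M₁ T : Subgroup G} (hmax : TripleMax p T)
    (hM₁ : IsMaxLoc p M₁) (hT : IsPGroup p T) (hTne : T ≠ ⊥) (T₁ : Subgroup G)
    (hT₁ : IsPGroup p T₁) (hlt : T < T₁) (hT₁M : T₁ ≤ M₁)
    (hT₁N : T₁ ≤ Subgroup.normalizer (T : Set G)) :
    Subgroup.normalizer (T : Set G) ≤ M₁ := by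
  obtain ⟨M₃, hM₃, hle⟩ := exists_maxLoc (p := p) (L₀ := Subgroup.normalizer (T : Set G))
    ⟨T, hT, hTne, rfl⟩
  by_cases h : M₁ = M₃
  · rw [h]; exact hle
  · exfalso
    have := hmax M₁ M₃ T₁ hM₁ hM₃ h hT₁ (ne_bot_of_lt hlt) (le_inf hT₁M (hT₁N.trans hle))
    exact absurd (card_lt_of_lt hlt) (not_lt.mpr this)

theorem case2 [Finite G] {p : ℕ} [Fact p.Prime] {M₁ M₂ T : Subgroup G} (hmax : TripleMax p T)
    (hM₁ : IsMaxLoc p M₁) (hM₂ : IsMaxLoc p M₂) (hne : M₁ ≠ M₂) (hT : IsPGroup p T)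
    (hTle : T ≤ M₁ ⊓ M₂) (hP₂ : IsMaxP p T M₂) (hnot : ¬ IsMaxP p T M₁) :
    ∃ M M' T : Subgroup G, IsMaxLoc p M ∧ IsMaxLoc p M' ∧ M ≠ M' ∧ IsMaxP p T M ∧
      IsMaxP p T M' := by
  obtain ⟨T₁, hT₁, hlt, hT₁M, hT₁N⟩ :=
    exists_normalizer_growth hT (hTle.trans inf_le_left) hnot
  obtain ⟨g, hgT₁, hgT⟩ := SetLike.exists_of_lt hlt
  have hgN : g ∈ Subgroup.normalizer (T : Set G) := hT₁N hgT₁
  have hgM₂ : g ∉ M₂ := by
    intro hg
    have hz : IsPGroup p (Subgroup.zpowers g) :=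
      hT₁.to_le (Subgroup.zpowers_le.mpr hgT₁)
    have hsup : IsPGroup p (T ⊔ Subgroup.zpowers g : Subgroup G) :=
      IsPGroup.to_sup_of_normal_left' hT hz (Subgroup.zpowers_le.mpr hgN)
    have hlt' : T < T ⊔ Subgroup.zpowers g := by
      refine lt_of_le_of_ne le_sup_left ?_
      intro heq
      apply hgT
      rw [heq]
      exact (le_sup_right : Subgroup.zpowers g ≤ T ⊔ Subgroup.zpowers g)
        (Subgroup.mem_zpowers g)
    have hle' : T ⊔ Subgroup.zpowers g ≤ M₁ ⊓ M₂ :=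
      sup_le hTle (Subgroup.zpowers_le.mpr (Subgroup.mem_inf.mpr ⟨hT₁M hgT₁, hg⟩))
    have := hmax M₁ M₂ _ hM₁ hM₂ hne hsup (ne_bot_of_lt hlt') hle'
    exact absurd (card_lt_of_lt hlt') (not_lt.mpr this)
  refine ⟨M₂, cj g M₂, T, hM₂, cj_isMaxLoc g hM₂, (cj_ne_of_not_mem hM₂ hgM₂).symm, hP₂, ?_⟩
  have := cj_isMaxP g hP₂
  rwa [cj_eq_self_of_mem_normalizer hgN] at this

theorem find_pair [Finite G] {p : ℕ} [Fact p.Prime] {M₁ M₂ T₀ : Subgroup G}
    (hM₁ : IsMaxLoc p M₁) (hM₂ : IsMaxLoc p M₂) (hne : M₁ ≠ M₂) (hT₀ : IsPGroup p T₀)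
    (hT₀ne : T₀ ≠ ⊥) (hT₀le : T₀ ≤ M₁ ⊓ M₂) :
    ∃ M M' T : Subgroup G, IsMaxLoc p M ∧ IsMaxLoc p M' ∧ M ≠ M' ∧ IsMaxP p T M ∧
      IsMaxP p T M' := by
  haveI : Nonempty {x : Subgroup G × Subgroup G × Subgroup G // IsMaxLoc p x.1 ∧
      IsMaxLoc p x.2.1 ∧ x.1 ≠ x.2.1 ∧ IsPGroup p x.2.2 ∧ x.2.2 ≠ ⊥ ∧ x.2.2 ≤ x.1 ⊓ x.2.1} :=
    ⟨⟨(M₁, M₂, T₀), hM₁, hM₂, hne, hT₀, hT₀ne, hT₀le⟩⟩
  obtain ⟨⟨⟨N₁, N₂, T⟩, hN₁, hN₂, hNne, hT, hTne, hTle⟩, hbest⟩ := Finite.exists_max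
    (fun x : {x : Subgroup G × Subgroup G × Subgroup G // IsMaxLoc p x.1 ∧
      IsMaxLoc p x.2.1 ∧ x.1 ≠ x.2.1 ∧ IsPGroup p x.2.2 ∧ x.2.2 ≠ ⊥ ∧ x.2.2 ≤ x.1 ⊓ x.2.1} =>
      Nat.card x.1.2.2)
  simp only at hN₁ hN₂ hNne hT hTne hTle
  have hmax : TripleMax p T := by
    intro K₁ K₂ T' hK₁ hK₂ hKne hT' hT'ne hT'le
    exact hbest ⟨(K₁, K₂, T'), hK₁, hK₂, hKne, hT', hT'ne, hT'le⟩
  by_cases h1 : IsMaxP p T N₁
  · by_cases h2 : IsMaxP p T N₂
    · exact ⟨N₁, N₂, T, hN₁, hN₂, hNne, h1, h2⟩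
    · exact case2 hmax hN₂ hN₁ hNne.symm hT (by rw [inf_comm]; exact hTle) h1 h2
  · by_cases h2 : IsMaxP p T N₂
    · exact case2 hmax hN₁ hN₂ hNne hT hTle h2 h1
    · exfalso
      obtain ⟨T₁, hT₁, hlt, hT₁M, hT₁N⟩ :=
        exists_normalizer_growth hT (hTle.trans inf_le_left) h1
      obtain ⟨T₂, hT₂, hlt₂, hT₂M, hT₂N⟩ :=
        exists_normalizer_growth hT (hTle.trans inf_le_right) h2
      have hA₂ := claimA hmax hN₂ hT hTne T₂ hT₂ hlt₂ hT₂M hT₂N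
      have := hmax N₁ N₂ T₁ hN₁ hN₂ hNne hT₁ (ne_bot_of_lt hlt) (le_inf hT₁M (hT₁N.trans hA₂))
      exact absurd (card_lt_of_lt hlt) (not_lt.mpr this)

/-- Two distinct subgroups M₁, M₂ of G form a primitive pair when, for {i, j} = {1, 2}, every non-trivial normal subgroup A of M_i contained in M₁ ∩ M₂ satisfies N_{M_j}(A) = M₁ ∩ M₂; the pair has characteristic p when moreover C_{M_i}(O_p(M_i)) ≤ O_p(M_i) for both i and O_p(M₁)O_p(M₂) ≤ M₁ ∩ M₂. Let G be a finite group, p a prime dividing its order, with O_p(G) = 1 and every p-local subgroup of characteristic p. Then either G has a primitive pair of characteristic p, or every maximal p-local subgroup M of G is strongly p-embedded in G: M is a proper subgroup, p divides its order, and for every g ∉ M the order of M ∩ gMg⁻¹ is prime to p. -/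
theorem result {G : Type*} [Group G] [Finite G] {p : ℕ} [Fact p.Prime] (hloc : Cfsg.IsOfLocalCharacteristic p G) (hOp : Cfsg.pCore p G = ⊥) : (∃ M₁ M₂ : Subgroup G, M₁ ≠ M₂ ∧ (∀ A : Subgroup G, A ≠ ⊥ → A ≤ M₁ ⊓ M₂ → (M₁ ≤ Subgroup.normalizer (A : Set G) → M₂ ⊓ Subgroup.normalizer (A : Set G) = M₁ ⊓ M₂) ∧ (M₂ ≤ Subgroup.normalizer (A : Set G) → M₁ ⊓ Subgroup.normalizer (A : Set G) = M₁ ⊓ M₂)) ∧ Subgroup.centralizer (Cfsg.pCore p ↥M₁ : Set ↥M₁) ≤ Cfsg.pCore p ↥M₁ ∧ Subgroup.centralizer (Cfsg.pCore p ↥M₂ : Set ↥M₂) ≤ Cfsg.pCore p ↥M₂ ∧ (Cfsg.pCore p ↥M₁).map M₁.subtype ⊔ (Cfsg.pCore p ↥M₂).map M₂.subtype ≤ M₁ ⊓ M₂) ∨ (∀ M : Subgroup G, (∃ T : Subgroup G, IsPGroup p T ∧ T ≠ ⊥ ∧ M = Subgroup.normalizer (T : Set G)) → (∀ L : Subgroup G, (∃ T : Subgroup G, IsPGroup p T ∧ T ≠ ⊥ ∧ L = Subgroup.normalizer (T : Set G)) → M ≤ L → L = M) → M ≠ ⊤ ∧ p ∣ Nat.card M ∧ ∀ g : G, g ∉ M → ¬ p ∣ Nat.card ↥(M ⊓ M.map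 (MulAut.conj g).toMonoidHom)) := by
  have hp := (Fact.out : p.Prime)
  by_cases hsec : (∀ M : Subgroup G, (∃ T : Subgroup G, IsPGroup p T ∧ T ≠ ⊥ ∧ M = Subgroup.normalizer (T : Set G)) → (∀ L : Subgroup G, (∃ T : Subgroup G, IsPGroup p T ∧ T ≠ ⊥ ∧ L = Subgroup.normalizer (T : Set G)) → M ≤ L → L = M) → M ≠ ⊤ ∧ p ∣ Nat.card M ∧ ∀ g : G, g ∉ M → ¬ p ∣ Nat.card ↥(M ⊓ M.map (MulAut.conj g).toMonoidHom))
  · exact Or.inr hsec
  left
  push Not at hsec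
  obtain ⟨M, hMloc, hMmax, hbad⟩ := hsec
  have hM : IsMaxLoc p M := ⟨hMloc, hMmax⟩
  obtain ⟨T, hT, hTne, hMT⟩ := hMloc
  have hMtop : M ≠ ⊤ := by
    intro htop
    rw [hMT, Subgroup.normalizer_eq_top_iff] at htop
    have := Cfsg.Agent.Lib.Helper9.le_pCore htop hT
    rw [hOp] at this
    exact hTne (le_bot_iff.mp this)
  have hpM : p ∣ Nat.card M := by
    have hTM : T ≤ M := by rw [hMT]; exact Subgroup.le_normalizer
    obtain ⟨k, hk⟩ := IsPGroup.iff_card.mp hT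
    have hk0 : k ≠ 0 := by
      intro h0
      rw [h0, pow_zero] at hk
      exact hTne (Subgroup.eq_bot_of_card_eq T hk)
    exact (dvd_pow_self p hk0).trans (hk ▸ Subgroup.card_dvd_of_le hTM)
  obtain ⟨g, hgM, hdvd⟩ := hbad hMtop hpM
  obtain ⟨x, hx⟩ := exists_prime_orderOf_dvd_card' p hdvd
  have hxo : orderOf (x : G) = p := by rw [Subgroup.orderOf_coe]; exact hx
  have hT₀ : IsPGroup p (Subgroup.zpowers (x : G)) :=
    IsPGroup.of_card (n := 1) (by rw [Nat.card_zpowers, hxo, pow_one])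
  have hT₀ne : Subgroup.zpowers (x : G) ≠ ⊥ := by
    intro hb
    have : Nat.card (Subgroup.zpowers (x : G)) = 1 := by rw [hb]; exact Subgroup.card_bot
    rw [Nat.card_zpowers, hxo] at this
    exact hp.one_lt.ne' this
  have hT₀le : Subgroup.zpowers (x : G) ≤ M ⊓ cj g M := Subgroup.zpowers_le.mpr x.2
  obtain ⟨N, N', T', hN, hN', hNne, hP, hP'⟩ :=
    find_pair hM (cj_isMaxLoc g hM) (cj_ne_of_not_mem hM hgM).symm hT₀ hT₀ne hT₀le
  exact ⟨N, N', assemble hloc hN hN' hNne hP hP'⟩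

end Cfsg.Agent.S3751
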