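import Mathlib
import Cfsg.Statements.S3755
import Cfsg.Agent.Lib.Helper3.TD3
import Cfsg.Agent.Lib.Helper3.TD5
import Cfsg.Agent.Lib.Lead.ThompsonPQ
import Cfsg.Agent.Lib.Helper6.PPrimeCore
import Cfsg.Agent.Lib.Helper9.Sections
import Cfsg.Agent.S0444

set_option autoImplicit false
open Cfsg

namespace Cfsg.Agent.S3755

open Cfsg.Agent.Lib.Lead Cfsg.Agent.Lib.Helper3.Sig Cfsg.Agent.Lib.Helper3.TD

variable {X : Type*} [Group X]

/-- if `y u y⁻¹ = u w` and `y` centralizes `w` then `yⁿ u y⁻ⁿ = u wⁿ` -/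
theorem conj_pow_eq {y u w : X} (h1 : y * u * y⁻¹ = u * w) (h2 : y * w * y⁻¹ = w) (n : ℕ) :
    y ^ n * u * (y ^ n)⁻¹ = u * w ^ n := by
  induction n with
  | zero => simp
  | succ n ih =>
    have e1 : y ^ (n + 1) * u * (y ^ (n + 1))⁻¹ = y * (y ^ n * u * (y ^ n)⁻¹) * y⁻¹ := by
      rw [pow_succ']; group
    have e2 : y * (u * w ^ n) * y⁻¹ = (y * u * y⁻¹) * (y * w * y⁻¹) ^ n := by
      rw [conj_pow]; group
    rw [e1, ih, e2, h1, h2, pow_succ', mul_assoc]

theorem commute_of_coset_eq {U : Subgroup X} (hU : IsElementaryAbelian 2 U) {x u : X}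
    (hu : u ∈ U) (hxU : ∀ i : ℕ, x ^ i * u * (x ^ i)⁻¹ ∈ U) (hr : (orderOf x).Prime)
    (h5 : 5 ≤ orderOf x) {i k : ℕ} (hk0 : 0 < k) (hk : k < orderOf x)
    (h : (x ^ i * u * (x ^ i)⁻¹)⁻¹ * (x ^ (i + k) * u * (x ^ (i + k))⁻¹) ∈
      Subgroup.centralizer ({x} : Set X)) :
    x * u = u * x := by
  obtain ⟨w, hw⟩ : ∃ w, w = u⁻¹ * (x ^ k * u * (x ^ k)⁻¹) := ⟨_, rfl⟩
  have e1 : (x ^ i * u * (x ^ i)⁻¹)⁻¹ * (x ^ (i + k) * u * (x ^ (i + k))⁻¹) =
      x ^ i * w * (x ^ i)⁻¹ := by
    rw [hw, pow_add]; group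
  rw [e1, Subgroup.mem_centralizer_singleton_iff] at h
  have hxw : x * w = w * x := by
    have h' : (x ^ i)⁻¹ * (x ^ i * w * (x ^ i)⁻¹ * x) * x ^ i =
        (x ^ i)⁻¹ * (x * (x ^ i * w * (x ^ i)⁻¹)) * x ^ i := by rw [h]
    have e2 : (x ^ i)⁻¹ * (x ^ i * w * (x ^ i)⁻¹ * x) * x ^ i = w * x := by group
    have e3 : (x ^ i)⁻¹ * (x * (x ^ i * w * (x ^ i)⁻¹)) * x ^ i = x * w := by group
    rw [e2, e3] at h'
    exact h'.symm
  have hcw : Commute (x ^ k) w := (show Commute x w from hxw).pow_left k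
  have h2 : x ^ k * w * (x ^ k)⁻¹ = w := by
    rw [hcw.eq, mul_inv_cancel_right]
  have h1 : x ^ k * u * (x ^ k)⁻¹ = u * w := by
    rw [hw]; group
  have h3 := conj_pow_eq h1 h2 (orderOf x)
  have h4 : (x ^ k) ^ orderOf x = 1 := by
    rw [← pow_mul, mul_comm, pow_mul, pow_orderOf_eq_one, one_pow]
  rw [h4, one_mul, inv_one, mul_one] at h3
  have hwr : w ^ orderOf x = 1 := by
    have := mul_left_cancel (a := u) (b := 1) (c := w ^ orderOf x) (by rw [mul_one]; exact h3)
    exact this.symm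
  have hwU : w ∈ U := by
    rw [hw]; exact U.mul_mem (U.inv_mem hu) (hxU k)
  have hw2 : w ^ 2 = 1 := hU.2 w hwU
  have hw1 : w = 1 := by
    rw [← orderOf_eq_one_iff]
    have hcop : Nat.Coprime 2 (orderOf x) := by
      rw [Nat.coprime_primes Nat.prime_two hr]; omega
    exact Nat.eq_one_of_dvd_coprimes hcop (orderOf_dvd_of_pow_eq_one hw2)
      (orderOf_dvd_of_pow_eq_one hwr)
  rw [hw1, mul_one] at h1
  have hcu : Commute (x ^ k) u := by
    have : x ^ k * u = u * x ^ k := by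
      calc x ^ k * u = (x ^ k * u * (x ^ k)⁻¹) * x ^ k := by group
        _ = u * x ^ k := by rw [h1]
    exact this
  have hcop : Nat.Coprime k (orderOf x) :=
    Nat.Coprime.symm ((Nat.Prime.coprime_iff_not_dvd hr).mpr (Nat.not_dvd_of_pos_of_lt hk0 hk))
  obtain ⟨l, -, hl⟩ := Nat.exists_mul_mod_eq_one_of_coprime hcop (by omega)
  have hx : x = (x ^ k) ^ l := by
    rw [← pow_mul, ← pow_mod_orderOf, hl, pow_one]
  have : Commute x u := by
    rw [hx]; exact hcu.pow_left l
  exact this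

theorem centralizes_of_small_index [Finite X] {U : Subgroup X} (hU : IsElementaryAbelian 2 U)
    {x : X} (hxU : x ∈ Subgroup.normalizer (U : Set X)) (hr : (orderOf x).Prime)
    (h5 : 5 ≤ orderOf x)
    (hidx : (U ⊓ Subgroup.centralizer ({x} : Set X)).relIndex U ≤ 4) :
    ∀ u ∈ U, x * u = u * x := by
  intro u hu
  obtain ⟨C, hC⟩ : ∃ C : Subgroup X, C = U ⊓ Subgroup.centralizer ({x} : Set X) := ⟨_, rfl⟩
  rw [← hC] at hidx
  have hconj : ∀ i : ℕ, x ^ i * u * (x ^ i)⁻¹ ∈ U := fun i => by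
    have h1 : x ^ i ∈ Subgroup.normalizer (U : Set X) := Subgroup.pow_mem _ hxU i
    exact (Subgroup.mem_normalizer_iff.mp h1 u).mp hu
  let f : Fin 5 → ↥U ⧸ C.subgroupOf U := fun i =>
    QuotientGroup.mk ⟨x ^ (i : ℕ) * u * (x ^ (i : ℕ))⁻¹, hconj i⟩
  have hcard : Nat.card (↥U ⧸ C.subgroupOf U) < Nat.card (Fin 5) := by
    rw [Nat.card_fin]
    have : Nat.card (↥U ⧸ C.subgroupOf U) = C.relIndex U := rfl
    omega
  have hninj : ¬ Function.Injective f := fun hinj => by
    have := Nat.card_le_card_of_injective f hinj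
    omega
  obtain ⟨i, j, hf, hij⟩ : ∃ i j, f i = f j ∧ i ≠ j := by
    by_contra hcon
    push Not at hcon
    exact hninj fun i j h => hcon i j h
  have key : ∀ i j : Fin 5, (i : ℕ) < (j : ℕ) → f i = f j → x * u = u * x := by
    intro i j hlt hfij
    have h1 := QuotientGroup.eq.mp hfij
    rw [Subgroup.mem_subgroupOf] at h1
    have h2 : (x ^ (i : ℕ) * u * (x ^ (i : ℕ))⁻¹)⁻¹ * (x ^ (j : ℕ) * u * (x ^ (j : ℕ))⁻¹) ∈ C := by
      simpa using h1
    rw [hC] at h2
    have hj : (j : ℕ) = (i : ℕ) + ((j : ℕ) - (i : ℕ)) := by omega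
    rw [hj] at h2
    exact commute_of_coset_eq hU hu hconj hr h5 (by omega) (by have := j.2; omega) h2.2
  rcases Nat.lt_or_gt_of_ne (fun h => hij (Fin.ext h)) with h | h
  · exact key i j h hf
  · exact key j i h hf.symm

theorem map_conj_eq_of_mem_normalizer {U : Subgroup X} {x : X}
    (hx : x ∈ Subgroup.normalizer (U : Set X)) :
    U.map (MulAut.conj x).toMonoidHom = U := by
  ext g
  rw [Subgroup.mem_map]
  constructor
  · rintro ⟨u, hu, rfl⟩
    exact (Subgroup.mem_normalizer_iff.mp hx u).mp hu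
  · intro hg
    refine ⟨x⁻¹ * g * x, ?_, ?_⟩
    · have := (Subgroup.mem_normalizer_iff.mp (Subgroup.inv_mem _ hx) g).mp hg
      simpa using this
    · simp [MulAut.conj_apply, mul_assoc]

theorem relIndex_conj_centralizer {U : Subgroup X} {x a : X}
    (hx : x ∈ Subgroup.normalizer (U : Set X)) :
    (U ⊓ Subgroup.centralizer ({x * a * x⁻¹} : Set X)).relIndex U =
      (U ⊓ Subgroup.centralizer ({a} : Set X)).relIndex U := by
  have h1 : (U ⊓ Subgroup.centralizer ({a} : Set X)) =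
      (U ⊓ Subgroup.centralizer ({x * a * x⁻¹} : Set X)).comap (MulAut.conj x).toMonoidHom := by
    ext g
    rw [Subgroup.mem_comap, Subgroup.mem_inf, Subgroup.mem_inf,
      Subgroup.mem_centralizer_singleton_iff, Subgroup.mem_centralizer_singleton_iff]
    have hc : (MulAut.conj x).toMonoidHom g = x * g * x⁻¹ := rfl
    rw [hc]
    constructor
    · rintro ⟨hgU, hga⟩
      refine ⟨(Subgroup.mem_normalizer_iff.mp hx g).mp hgU, ?_⟩
      calc x * g * x⁻¹ * (x * a * x⁻¹) = x * (g * a) * x⁻¹ := by group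
        _ = x * (a * g) * x⁻¹ := by rw [hga]
        _ = x * a * x⁻¹ * (x * g * x⁻¹) := by group
    · rintro ⟨hgU, hga⟩
      refine ⟨(Subgroup.mem_normalizer_iff.mp hx g).mpr hgU, ?_⟩
      have h' : x⁻¹ * (x * g * x⁻¹ * (x * a * x⁻¹)) * x =
          x⁻¹ * (x * a * x⁻¹ * (x * g * x⁻¹)) * x := by rw [hga]
      have e2 : x⁻¹ * (x * g * x⁻¹ * (x * a * x⁻¹)) * x = g * a := by group
      have e3 : x⁻¹ * (x * a * x⁻¹ * (x * g * x⁻¹)) * x = a * g := by group
      rw [e2, e3] at h'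
      exact h'
  rw [h1, Subgroup.relIndex_comap, map_conj_eq_of_mem_normalizer hx]

theorem relIndex_ne_zero' [Finite X] (H K : Subgroup X) : H.relIndex K ≠ 0 := by
  intro h
  have := Subgroup.relIndex_dvd_card H K
  rw [h, zero_dvd_iff] at this
  exact Nat.card_pos.ne' this

theorem dihedral_step [Finite X] {U : Subgroup X} (hU : IsElementaryAbelian 2 U) {a x : X}
    (hxU : x ∈ Subgroup.normalizer (U : Set X))
    (hinv : a * x * a⁻¹ = x⁻¹) (hr : (orderOf x).Prime) (h5 : 5 ≤ orderOf x)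
    (hnc : ¬ ∀ u ∈ U, x * u = u * x) :
    4 ≤ (U ⊓ Subgroup.centralizer ({a} : Set X)).relIndex U := by
  by_contra hlt
  push Not at hlt
  apply hnc
  apply centralizes_of_small_index hU hxU hr h5
  have hm : (U ⊓ Subgroup.centralizer ({a} : Set X)).relIndex U ≤ 2 := by
    have hdvd := Subgroup.relIndex_dvd_card (U ⊓ Subgroup.centralizer ({a} : Set X)) U
    obtain ⟨n, hn⟩ := IsPGroup.iff_card.mp (ea_isPGroup hU)
    rw [hn] at hdvd
    obtain ⟨j, _, hj⟩ := (Nat.dvd_prime_pow Nat.prime_two).mp hdvd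
    rw [hj] at hlt ⊢
    have : j < 2 := by
      by_contra hcon
      have : 2 ^ 2 ≤ 2 ^ j := Nat.pow_le_pow_right (by norm_num) (by omega)
      omega
    calc 2 ^ j ≤ 2 ^ 1 := Nat.pow_le_pow_right (by norm_num) (by omega)
      _ = 2 := by norm_num
  have heq := relIndex_conj_centralizer (U := U) (x := x) (a := a) hxU
  have hle : (U ⊓ Subgroup.centralizer ({a} : Set X)) ⊓
      (U ⊓ Subgroup.centralizer ({x * a * x⁻¹} : Set X)) ≤
      U ⊓ Subgroup.centralizer ({x} : Set X) := by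
    intro g hg
    obtain ⟨hg1, hg2⟩ := Subgroup.mem_inf.mp hg
    obtain ⟨hgU, hga⟩ := Subgroup.mem_inf.mp hg1
    obtain ⟨_, hga'⟩ := Subgroup.mem_inf.mp hg2
    refine Subgroup.mem_inf.mpr ⟨hgU, ?_⟩
    rw [Subgroup.mem_centralizer_singleton_iff] at hga hga' ⊢
    -- x * a * x⁻¹ = x ^ 2 * a
    have hx2 : x * a * x⁻¹ = x ^ 2 * a := by
      have : a * x⁻¹ = x * a := by
        have h1 : a * x = x⁻¹ * a := by
          rw [← hinv]; group
        calc a * x⁻¹ = x * (x⁻¹ * a) * x⁻¹ := by group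
          _ = x * (a * x) * x⁻¹ := by rw [h1]
          _ = x * a := by group
      calc x * a * x⁻¹ = x * (a * x⁻¹) := by group
        _ = x * (x * a) := by rw [this]
        _ = x ^ 2 * a := by rw [pow_two, mul_assoc]
    rw [hx2] at hga'
    have hcg2 : Commute g (x ^ 2) := by
      have hca : Commute g a := hga
      have hcxa : Commute g (x ^ 2 * a) := hga'
      have : x ^ 2 = (x ^ 2 * a) * a⁻¹ := by group
      rw [this]
      exact hcxa.mul_right hca.inv_right
    -- x is a power of x ^ 2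
    have hcop : Nat.Coprime 2 (orderOf x) := by
      rw [Nat.coprime_primes Nat.prime_two hr]; omega
    obtain ⟨l, -, hl⟩ := Nat.exists_mul_mod_eq_one_of_coprime hcop (by omega)
    have hx : x = (x ^ 2) ^ l := by
      rw [← pow_mul, ← pow_mod_orderOf, hl, pow_one]
    have : Commute g x := by
      rw [hx]; exact hcg2.pow_right l
    exact this
  calc (U ⊓ Subgroup.centralizer ({x} : Set X)).relIndex U
      ≤ ((U ⊓ Subgroup.centralizer ({a} : Set X)) ⊓
        (U ⊓ Subgroup.centralizer ({x * a * x⁻¹} : Set X))).relIndex U :=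
        Subgroup.relIndex_le_of_le_left hle (relIndex_ne_zero' _ _)
    _ ≤ (U ⊓ Subgroup.centralizer ({a} : Set X)).relIndex U *
        (U ⊓ Subgroup.centralizer ({x * a * x⁻¹} : Set X)).relIndex U := Subgroup.relIndex_inf_le
    _ ≤ 2 * 2 := by rw [heq]; exact Nat.mul_le_mul hm hm
    _ = 4 := by norm_num

theorem mem_normalizer_inf_centralizer {V B : Subgroup X} {g : X}
    (hgV : g ∈ Subgroup.normalizer (V : Set X)) (hgB : g ∈ Subgroup.centralizer (B : Set X)) :
    g ∈ Subgroup.normalizer ((V ⊓ Subgroup.centralizer (B : Set X) : Subgroup X) : Set X) := by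
  rw [Subgroup.mem_normalizer_iff]
  intro h
  rw [Subgroup.mem_inf, Subgroup.mem_inf, ← Subgroup.mem_normalizer_iff.mp hgV h]
  constructor
  · rintro ⟨h1, h2⟩
    exact ⟨h1, Subgroup.mul_mem _ (Subgroup.mul_mem _ hgB h2) (Subgroup.inv_mem _ hgB)⟩
  · rintro ⟨h1, h2⟩
    refine ⟨h1, ?_⟩
    have := Subgroup.mul_mem _ (Subgroup.mul_mem _ (Subgroup.inv_mem _ hgB) h2) hgB
    have e : g⁻¹ * (g * h * g⁻¹) * g = h := by group
    rwa [e] at this

theorem core [Finite X] (M V K : Subgroup X) (hV : IsElementaryAbelian 2 V)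
    (hMV : M ≤ Subgroup.normalizer (V : Set X))
    (hfaith : M ⊓ Subgroup.centralizer (V : Set X) = ⊥)
    (hKM : K ≤ M) (hMK : M ≤ Subgroup.normalizer (K : Set X)) (hKodd : Odd (Nat.card K))
    (hno : ∀ a ∈ M, ∀ x ∈ M, orderOf a = 2 → orderOf x = 3 → a * x * a⁻¹ = x⁻¹ → False) :
    ∀ (d : ℕ) (A : Subgroup X), A ≤ M → IsElementaryAbelian 2 A → Nat.card A = 2 ^ d →
      A ⊓ Subgroup.centralizer (K : Set X) = ⊥ →
      4 ^ d ≤ (V ⊓ Subgroup.centralizer (A : Set X)).relIndex V := by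
  have : Fact (Nat.Prime 2) := ⟨Nat.prime_two⟩
  intro d
  induction d with
  | zero =>
    intro A _ _ _ _
    rw [pow_zero]
    exact Nat.one_le_iff_ne_zero.mpr (relIndex_ne_zero' _ _)
  | succ d ih =>
    intro A hAM hA hcard hAK
    have hA1 : A ≠ ⊥ := by
      intro h
      rw [h, Subgroup.card_bot] at hcard
      have : 2 ≤ 2 ^ (d + 1) := by
        calc 2 = 2 ^ 1 := by norm_num
          _ ≤ 2 ^ (d + 1) := Nat.pow_le_pow_right (by norm_num) (by omega)
      omega
    obtain ⟨B, hBA, hB2, x₀, hx₀K, hx₀1, hx₀B, hx₀inv⟩ :=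
      exists_weight A K hA hA1 hKodd (hAM.trans hMK) hAK
    obtain ⟨a, haA, haB⟩ : ∃ a ∈ A, a ∉ B := by
      by_contra hcon
      push Not at hcon
      have h1 : A ≤ B := hcon
      have h2 : B.relIndex A = 1 := Subgroup.relIndex_eq_one.mpr h1
      omega
    have hcardB : Nat.card B = 2 ^ d := by
      have := card_of_relIndex_two hBA hB2
      rw [hcard, pow_succ] at this
      omega
    have hB : IsElementaryAbelian 2 B := ea_of_le hA hBA
    have hBK : B ⊓ Subgroup.centralizer (K : Set X) = ⊥ := by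
      rw [← le_bot_iff, ← hAK]
      exact inf_le_inf_right _ hBA
    have ihB := ih B (hBA.trans hAM) hB hcardB hBK
    have haa : a ^ 2 = 1 := hA.2 a haA
    have ha1 : a ≠ 1 := fun h => haB (h ▸ B.one_mem)
    have hoa : orderOf a = 2 := orderOf_eq_prime haa ha1
    -- an element of prime order
    have hox₀ : orderOf x₀ ≠ 1 := by
      rw [Ne, orderOf_eq_one_iff]; exact hx₀1
    have hox₀0 : orderOf x₀ ≠ 0 := (orderOf_pos x₀).ne'
    obtain ⟨r, hr⟩ : ∃ r, r = (orderOf x₀).minFac := ⟨_, rfl⟩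
    have hrp : r.Prime := by rw [hr]; exact Nat.minFac_prime hox₀
    have hrd : r ∣ orderOf x₀ := by rw [hr]; exact Nat.minFac_dvd _
    obtain ⟨x, hx⟩ : ∃ x, x = x₀ ^ (orderOf x₀ / r) := ⟨_, rfl⟩
    have hox : orderOf x = r := by
      rw [hx]; exact orderOf_pow_orderOf_div hox₀0 hrd
    have hxK : x ∈ K := by rw [hx]; exact K.pow_mem hx₀K _
    have hxM : x ∈ M := hKM hxK
    have hxB : ∀ b ∈ B, b * x = x * b := by
      intro b hb
      have hc : Commute b x₀ := hx₀B b hb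
      rw [hx]
      exact hc.pow_right _
    have hxinv : a * x * a⁻¹ = x⁻¹ := by
      rw [hx, ← conj_pow, hx₀inv a haA haB, inv_pow]
    have hrodd : Odd r := by
      have h1 : orderOf x₀ ∣ Nat.card K := Subgroup.orderOf_dvd_natCard K hx₀K
      exact Odd.of_dvd_nat hKodd (hrd.trans h1)
    have hr5 : 5 ≤ r := by
      by_contra hcon
      push Not at hcon
      have h2 := hrp.two_le
      interval_cases r
      · exact absurd hrodd (by decide)
      · exact hno a (hAM haA) x hxM hoa hox hxinv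
      · exact absurd hrp (by decide)
    -- the module `U = C_V(B)`
    have hU : IsElementaryAbelian 2 (V ⊓ Subgroup.centralizer (B : Set X)) :=
      ea_of_le hV inf_le_left
    have hxCB : x ∈ Subgroup.centralizer (B : Set X) := by
      rw [Subgroup.mem_centralizer_iff]
      intro b hb
      exact hxB b hb
    have hxU : x ∈ Subgroup.normalizer
        ((V ⊓ Subgroup.centralizer (B : Set X) : Subgroup X) : Set X) :=
      mem_normalizer_inf_centralizer (hMV hxM) hxCB
    have hnc : ¬ ∀ u ∈ V ⊓ Subgroup.centralizer (B : Set X), x * u = u * x := by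
      intro hall
      have hcopr : (Nat.card (Subgroup.zpowers x)).Coprime 2 := by
        rw [Nat.card_zpowers, hox]
        exact Nat.Coprime.symm (Nat.coprime_two_left.mpr hrodd)
      have hPQ : B ≤ Subgroup.centralizer ((Subgroup.zpowers x : Subgroup X) : Set X) := by
        intro b hb
        exact mem_centralizer_zpowers_iff.mpr (hxB b hb)
      have hQU : Subgroup.zpowers x ≤ Subgroup.normalizer (V : Set X) := by
        rw [Subgroup.zpowers_le]; exact hMV hxM
      have hC : V ⊓ Subgroup.centralizer (B : Set X) ≤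
          Subgroup.centralizer ((Subgroup.zpowers x : Subgroup X) : Set X) := by
        intro u hu
        exact mem_centralizer_zpowers_iff.mpr (hall u hu).symm
      have key := thompson_PQ 2 B (Subgroup.zpowers x) V (ea_isPGroup hB) hcopr (ea_isPGroup hV)
        hPQ ((hBA.trans hAM).trans hMV) hQU hC
      have hxCV : x ∈ Subgroup.centralizer (V : Set X) := key (Subgroup.mem_zpowers x)
      have : x ∈ M ⊓ Subgroup.centralizer (V : Set X) := ⟨hxM, hxCV⟩
      rw [hfaith, Subgroup.mem_bot] at this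
      rw [this, orderOf_one] at hox
      exact hrp.ne_one hox.symm
    have hstep := dihedral_step hU (a := a) hxU hxinv (by rw [hox]; exact hrp)
      (by rw [hox]; exact hr5) hnc
    -- `C_V(A) = C_U(a)`
    have heq : V ⊓ Subgroup.centralizer (A : Set X) =
        (V ⊓ Subgroup.centralizer (B : Set X)) ⊓ Subgroup.centralizer ({a} : Set X) := by
      ext g
      simp only [Subgroup.mem_inf]
      constructor
      · rintro ⟨hgV, hgA⟩
        refine ⟨⟨hgV, Subgroup.centralizer_le hBA hgA⟩, ?_⟩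
        rw [Subgroup.mem_centralizer_singleton_iff]
        exact (Subgroup.mem_centralizer_iff.mp hgA a haA).symm
      · rintro ⟨⟨hgV, hgB⟩, hga⟩
        refine ⟨hgV, ?_⟩
        rw [Subgroup.mem_centralizer_singleton_iff] at hga
        rw [Subgroup.mem_centralizer_iff]
        intro a' ha'
        by_cases ha'B : a' ∈ B
        · exact Subgroup.mem_centralizer_iff.mp hgB a' ha'B
        · have h1 := mul_mem_of_relIndex_two hB2 haA ha' haB ha'B
          have h2 := Subgroup.mem_centralizer_iff.mp hgB _ h1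
          calc a' * g = a * ((a⁻¹ * a') * g) := by group
            _ = a * (g * (a⁻¹ * a')) := by rw [h2]
            _ = (a * g) * (a⁻¹ * a') := by group
            _ = (g * a) * (a⁻¹ * a') := by rw [hga]
            _ = g * a' := by group
    rw [heq]
    have hmul := Subgroup.relIndex_mul_relIndex
      ((V ⊓ Subgroup.centralizer (B : Set X)) ⊓ Subgroup.centralizer ({a} : Set X))
      (V ⊓ Subgroup.centralizer (B : Set X)) V inf_le_left inf_le_left
    rw [← hmul, pow_succ, mul_comm]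
    exact Nat.mul_le_mul hstep ihB

/-- Let M and V be subgroups of a finite group with V an elementary abelian 2-group, M normalizing V and acting faithfully on it (M ∩ C(V) = 1), and C_M(O_{2'}(M)) ≤ O_{2'}(M). If some elementary abelian 2-subgroup A of M satisfies |V : C_V(A)| < |A|², then M has a section isomorphic to the symmetric group of degree 3. -/
theorem result {X : Type*} [Group X] [Finite X] (M V : Subgroup X) (hV : Cfsg.IsElementaryAbelian 2 V) (hMV : M ≤ Subgroup.normalizer (V : Set X)) (hfaith : M ⊓ Subgroup.centralizer (V : Set X) = ⊥) (hcon : Subgroup.centralizer (Cfsg.pPrimeCore 2 ↥M : Set ↥M) ≤ Cfsg.pPrimeCore 2 ↥M) (A : Subgroup X) (hAM : A ≤ M) (hA : Cfsg.IsElementaryAbelian 2 A) (hsmall : (V ⊓ Subgroup.centralizer (A : Set X)).relIndex V < Nat.card A ^ 2) : Cfsg.Involves (Equiv.Perm (Fin 3)) ↥M := by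
  by_contra hinv
  have : Fact (Nat.Prime 2) := ⟨Nat.prime_two⟩
  obtain ⟨K, hK⟩ : ∃ K : Subgroup X, K = (Cfsg.pPrimeCore 2 ↥M).map M.subtype := ⟨_, rfl⟩
  have hKM : K ≤ M := by rw [hK]; exact Subgroup.map_subtype_le _
  have hnorm : (Cfsg.pPrimeCore 2 ↥M).Normal := (Cfsg.Agent.Lib.Helper6.pPrimeCore_mem_set 2).1
  have hMK : M ≤ Subgroup.normalizer (K : Set X) := by
    apply le_normalizer_of_conj_mem
    intro m hm k hk
    rw [hK] at hk ⊢
    obtain ⟨k₀, hk₀, rfl⟩ := hk
    refine ⟨⟨m, hm⟩ * k₀ * ⟨m, hm⟩⁻¹, hnorm.conj_mem k₀ hk₀ ⟨m, hm⟩, ?_⟩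
    simp
  have hKodd : Odd (Nat.card K) := by
    rw [hK, Subgroup.card_subtype]
    exact Nat.coprime_two_left.mp (Cfsg.Agent.Lib.Helper6.pPrimeCore_coprime 2).symm
  have hno : ∀ a ∈ M, ∀ x ∈ M, orderOf a = 2 → orderOf x = 3 → a * x * a⁻¹ = x⁻¹ → False := by
    intro a ha x hx hoa hox hax
    apply hinv
    have hoa' : orderOf (⟨a, ha⟩ : ↥M) = 2 := by rw [Subgroup.orderOf_mk]; exact hoa
    have hox' : orderOf (⟨x, hx⟩ : ↥M) = 3 := by rw [Subgroup.orderOf_mk]; exact hox
    have hax' : (⟨a, ha⟩ : ↥M) * ⟨x, hx⟩ * (⟨a, ha⟩ : ↥M)⁻¹ = (⟨x, hx⟩ : ↥M)⁻¹ :=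
      Subtype.ext hax
    obtain ⟨e⟩ := dihedral_of_inverts hoa' hax' (by rw [hox']; decide)
    rw [hox'] at e
    apply Cfsg.Agent.Lib.Helper9.involves_of_isSectionOf
    exact ⟨_, (e.trans Cfsg.Agent.S0444.dihEquivPerm).toMonoidHom,
      (e.trans Cfsg.Agent.S0444.dihEquivPerm).surjective⟩
  obtain ⟨d, hd⟩ := IsPGroup.iff_card.mp (ea_isPGroup hA)
  have hAK : A ⊓ Subgroup.centralizer (K : Set X) = ⊥ := by
    rw [Subgroup.eq_bot_iff_forall]
    rintro g ⟨hgA, hgK⟩
    have hgM : g ∈ M := hAM hgA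
    have h1 : (⟨g, hgM⟩ : ↥M) ∈ Subgroup.centralizer (Cfsg.pPrimeCore 2 ↥M : Set ↥M) := by
      rw [Subgroup.mem_centralizer_iff]
      intro k hk
      apply Subtype.ext
      have : (k : X) ∈ K := by rw [hK]; exact ⟨k, hk, rfl⟩
      exact Subgroup.mem_centralizer_iff.mp hgK _ this
    have h2 := hcon h1
    have hg2 : (⟨g, hgM⟩ : ↥M) ^ 2 = 1 := Subtype.ext (by simpa using hA.2 g hgA)
    have h3 := Cfsg.Agent.Lib.Helper6.eq_one_of_pElement_of_coprime_card
      (Cfsg.Agent.Lib.Helper6.pPrimeCore_coprime 2 (G := ↥M)) h2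
      ((Nat.dvd_prime_pow Nat.prime_two).mp
        (by rw [pow_one]; exact orderOf_dvd_of_pow_eq_one hg2) |>.imp fun k hk => hk.2)
    exact congrArg Subtype.val h3
  have hmain := core M V K hV hMV hfaith hKM hMK hKodd hno d A hAM hA hd hAK
  rw [hd, ← pow_mul, mul_comm, pow_mul] at hsmall
  norm_num at hsmall
  omega

end Cfsg.Agent.S3755
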