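import Cfsg.Statements.S3760
import Mathlib

set_option autoImplicit false
open Cfsg

namespace Cfsg.Agent.S3760

lemma mem_conj {G : Type*} [Group G] (K : Subgroup G) (g y : G) :
    y ∈ K.map (MulAut.conj g).toMonoidHom ↔ g⁻¹ * y * g ∈ K := by
  constructor
  · rintro ⟨k, hk, rfl⟩
    have : g⁻¹ * ((MulAut.conj g).toMonoidHom k) * g = k := by
      simp [MulAut.conj_apply, mul_assoc]
    rw [this]; exact hk
  · intro h
    refine ⟨g⁻¹ * y * g, h, ?_⟩
    simp [MulAut.conj_apply, mul_assoc]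

lemma mem_norm {G : Type*} [Group G] (K : Subgroup G) (n : G)
    (h : ∀ y, y ∈ K ↔ n⁻¹ * y * n ∈ K) : n ∈ Subgroup.normalizer (K : Set G) := by
  rw [Subgroup.mem_normalizer_iff]
  intro y
  have := h (n * y * n⁻¹)
  have e : n⁻¹ * (n * y * n⁻¹) * n = y := by group
  rw [e] at this
  exact this.symm

lemma norm_mem {G : Type*} [Group G] (K : Subgroup G) (n : G)
    (hn : n ∈ Subgroup.normalizer (K : Set G)) (y : G) : y ∈ K ↔ n⁻¹ * y * n ∈ K := by
  rw [Subgroup.mem_normalizer_iff] at hn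
  have := hn (n⁻¹ * y * n)
  have e : n * (n⁻¹ * y * n) * n⁻¹ = y := by group
  rw [e] at this
  exact this.symm

theorem result {G : Type*} [Group G] {X : Type*} [MulAction G X] (htrans : ∀ a b : X, ∃ g : G, g • a = b) (x : X) (K : Subgroup G) (hK : K ≤ MulAction.stabilizer G x) : (∀ a b : X, (∀ k ∈ K, k • a = a) → (∀ k ∈ K, k • b = b) → ∃ g ∈ Subgroup.normalizer (K : Set G), g • a = b) ↔ ∀ g : G, K.map (MulAut.conj g).toMonoidHom ≤ MulAction.stabilizer G x → ∃ h ∈ MulAction.stabilizer G x, K.map (MulAut.conj g).toMonoidHom = K.map (MulAut.conj h).toMonoidHom := by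
  have hKx : ∀ k ∈ K, k • x = x := fun k hk => MulAction.mem_stabilizer_iff.mp (hK hk)
  constructor
  · intro hL g hg
    -- K fixes g⁻¹ • x
    have hfix : ∀ k ∈ K, k • (g⁻¹ • x) = g⁻¹ • x := by
      intro k hk
      have hmem : g * k * g⁻¹ ∈ K.map (MulAut.conj g).toMonoidHom := by
        rw [mem_conj]
        have : g⁻¹ * (g * k * g⁻¹) * g = k := by group
        rw [this]; exact hk
      have h1 := MulAction.mem_stabilizer_iff.mp (hg hmem)
      have : k • (g⁻¹ • x) = g⁻¹ • ((g * k * g⁻¹) • x) := by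
        simp only [← mul_smul]; congr 1; group
      rw [this, h1]
    obtain ⟨n, hn, hnx⟩ := hL x (g⁻¹ • x) hKx hfix
    refine ⟨g * n, ?_, ?_⟩
    · rw [MulAction.mem_stabilizer_iff, mul_smul, hnx, ← mul_smul]; simp
    · ext y
      rw [mem_conj, mem_conj]
      have := norm_mem K n hn (g⁻¹ * y * g)
      rw [this]
      have e : n⁻¹ * (g⁻¹ * y * g) * n = (g * n)⁻¹ * y * (g * n) := by group
      rw [e]
  · intro hR
    -- for every point fixed by K, an element of the normalizer moving x to it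
    have key : ∀ a : X, (∀ k ∈ K, k • a = a) → ∃ n ∈ Subgroup.normalizer (K : Set G), n • x = a := by
      intro a ha
      obtain ⟨g₁, hg₁⟩ := htrans x a
      have hle : K.map (MulAut.conj g₁⁻¹).toMonoidHom ≤ MulAction.stabilizer G x := by
        intro y hy
        rw [mem_conj] at hy
        rw [MulAction.mem_stabilizer_iff]
        have h1 := ha _ hy
        rw [← hg₁] at h1
        simp only [inv_inv] at h1
        have : y • x = g₁⁻¹ • ((g₁ * y * g₁⁻¹) • (g₁ • x)) := by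
          simp only [← mul_smul]; congr 1; group
        rw [this, h1, ← mul_smul]; simp
      obtain ⟨h, hh, heq⟩ := hR g₁⁻¹ hle
      refine ⟨g₁ * h, ?_, ?_⟩
      · apply mem_norm
        intro y
        have h2 : (h * y * h⁻¹) ∈ K.map (MulAut.conj g₁⁻¹).toMonoidHom ↔ (h * y * h⁻¹) ∈ K.map (MulAut.conj h).toMonoidHom := by
          rw [heq]
        rw [mem_conj, mem_conj] at h2
        have e1 : h⁻¹ * (h * y * h⁻¹) * h = y := by group
        have e2 : g₁⁻¹⁻¹ * (h * y * h⁻¹) * g₁⁻¹ = g₁ * h * y * (g₁ * h)⁻¹ := by group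
        rw [e1, e2] at h2
        -- h2 : g₁ h y (g₁ h)⁻¹ ∈ K ↔ y ∈ K ; we need y ∈ K ↔ (g₁ h)⁻¹ y (g₁ h) ∈ K
        constructor
        · intro hy
          have h3 : (h * ((g₁ * h)⁻¹ * y * (g₁ * h)) * h⁻¹) ∈ K.map (MulAut.conj g₁⁻¹).toMonoidHom ↔ (h * ((g₁ * h)⁻¹ * y * (g₁ * h)) * h⁻¹) ∈ K.map (MulAut.conj h).toMonoidHom := by
            rw [heq]
          rw [mem_conj, mem_conj] at h3
          have e3 : h⁻¹ * (h * ((g₁ * h)⁻¹ * y * (g₁ * h)) * h⁻¹) * h = (g₁ * h)⁻¹ * y * (g₁ * h) := by group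
          have e4 : g₁⁻¹⁻¹ * (h * ((g₁ * h)⁻¹ * y * (g₁ * h)) * h⁻¹) * g₁⁻¹ = y := by group
          rw [e3, e4] at h3
          exact h3.mp hy
        · intro hy
          have h3 : (h * ((g₁ * h)⁻¹ * y * (g₁ * h)) * h⁻¹) ∈ K.map (MulAut.conj g₁⁻¹).toMonoidHom ↔ (h * ((g₁ * h)⁻¹ * y * (g₁ * h)) * h⁻¹) ∈ K.map (MulAut.conj h).toMonoidHom := by
            rw [heq]
          rw [mem_conj, mem_conj] at h3
          have e3 : h⁻¹ * (h * ((g₁ * h)⁻¹ * y * (g₁ * h)) * h⁻¹) * h = (g₁ * h)⁻¹ * y * (g₁ * h) := by group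
          have e4 : g₁⁻¹⁻¹ * (h * ((g₁ * h)⁻¹ * y * (g₁ * h)) * h⁻¹) * g₁⁻¹ = y := by group
          rw [e3, e4] at h3
          exact h3.mpr hy
      · rw [mul_smul, MulAction.mem_stabilizer_iff.mp hh, hg₁]
    intro a b ha hb
    obtain ⟨n₁, hn₁, h1⟩ := key a ha
    obtain ⟨n₂, hn₂, h2⟩ := key b hb
    refine ⟨n₂ * n₁⁻¹, Subgroup.mul_mem _ hn₂ (Subgroup.inv_mem _ hn₁), ?_⟩
    subst h1; subst h2
    rw [mul_smul, inv_smul_smul]

end Cfsg.Agent.S3760
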