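import Cfsg.Statements.S3763
import Cfsg.Agent.Lib.Lead.Extra9

set_option autoImplicit false
open Cfsg
open Cfsg.Agent.Lib.Lead

namespace Cfsg.Agent.S3763

/-- Let E be an extraspecial 2-group of order 2^(2n+1). Then the largest elementary abelian subgroups of E have order 2^n or 2^(n+1); and two extraspecial 2-groups of the same order whose largest elementary abelian subgroups have the same order are isomorphic. -/
theorem result {E : Type*} [Group E] [Finite E] (hE : Cfsg.IsExtraspecial 2 E) (n : ℕ) (hn : Nat.card E = 2 ^ (2 * n + 1)) : ((Cfsg.PRankLE 2 n E ∧ ¬ Cfsg.PRankLE 2 (n - 1) E) ∨ (Cfsg.PRankLE 2 (n + 1) E ∧ ¬ Cfsg.PRankLE 2 n E)) ∧ ∀ (E' : Type*) [Group E'] [Finite E'], Cfsg.IsExtraspecial 2 E' → Nat.card E' = Nat.card E → (∀ k : ℕ, Cfsg.PRankLE 2 k E ↔ Cfsg.PRankLE 2 k E') → Nonempty (E ≃* E') := by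
  obtain ⟨hn1, hR1, hR0, htype⟩ := Extra.rank_facts hE n hn
  have hpos : 0 < (2 : ℕ) ^ n := Nat.pos_of_ne_zero (by positivity)
  constructor
  · rcases htype with ⟨-, hnot⟩ | ⟨-, hR⟩
    · exact Or.inr ⟨hR1, hnot⟩
    · exact Or.inl ⟨hR, hR0⟩
  · intro E' _ _ hE' hcard hrank
    have hn' : Nat.card E' = 2 ^ (2 * n + 1) := by rw [hcard, hn]
    obtain ⟨-, -, -, htype'⟩ := Extra.rank_facts hE' n hn'
    apply Extra.main_iso hE hE' hcard.symm
    rcases htype with ⟨hp, hnot⟩ | ⟨hm, hR⟩ <;> rcases htype' with ⟨hp', hnot'⟩ | ⟨hm', hR'⟩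
    · rw [hp, hp']
    · exact absurd ((hrank n).mpr hR') hnot
    · exact absurd ((hrank n).mp hR) hnot'
    · rw [hm, hm']

end Cfsg.Agent.S3763
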