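import Mathlib
import Cfsg.Statements.S3766
import Cfsg.Agent.Lib.Lead.Core
import Cfsg.Agent.Lib.Lead.CoprimeFrattini

set_option autoImplicit false
open Cfsg

namespace Cfsg.Agent.S3766

open scoped commutatorElement

section
variable {G : Type*} [Group G]

/-- chief factor predicate as in the statement -/
def IsChief (U V : Subgroup G) : Prop :=
  U.Normal ∧ V.Normal ∧ V < U ∧ ∀ W : Subgroup G, W.Normal → V ≤ W → W ≤ U → W = V ∨ W = U

theorem sup_commutator_le (V L K : Subgroup G) [hV : V.Normal] : ⁅V ⊔ L, K⁆ ≤ V ⊔ ⁅L, K⁆ := by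
  rw [Subgroup.commutator_le]
  intro g hg k hk
  rw [Subgroup.mem_sup_of_normal_left] at hg
  obtain ⟨v, hv, w, hw, rfl⟩ := hg
  have h1 : ⁅v * w, k⁆ = (v * (⁅w, k⁆ * v⁻¹ * ⁅w, k⁆⁻¹)) * ⁅w, k⁆ * (v * (k * v⁻¹ * k⁻¹)) := by
    simp only [commutatorElement_def]; group
  rw [h1]
  have hvi : v⁻¹ ∈ V := V.inv_mem hv
  refine Subgroup.mul_mem _ (Subgroup.mul_mem _ (Subgroup.mem_sup_left ?_) (Subgroup.mem_sup_right ?_))
    (Subgroup.mem_sup_left ?_)
  · exact V.mul_mem hv (hV.conj_mem _ hvi _)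
  · exact Subgroup.commutator_mem_commutator hw hk
  · exact V.mul_mem hv (hV.conj_mem _ hvi _)

theorem commutator_sup_le (V L K : Subgroup G) [hV : V.Normal] : ⁅K, V ⊔ L⁆ ≤ V ⊔ ⁅K, L⁆ := by
  rw [Subgroup.commutator_comm K (V ⊔ L), Subgroup.commutator_comm K L]
  exact sup_commutator_le V L K

/-- a nilpotent normal subgroup centralizes every chief factor -/
theorem commutator_le_of_chief {U V K : Subgroup G} (hUV : IsChief U V) [hKn : K.Normal]
    (hK : Group.IsNilpotent K) : ⁅U, K⁆ ≤ V := by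
  obtain ⟨hU, hV, hlt, hch⟩ := hUV
  by_contra hnot
  haveI := hU
  haveI := hV
  have hWn : (V ⊔ ⁅U, K⁆).Normal := inferInstance
  have hWU : V ⊔ ⁅U, K⁆ ≤ U := sup_le hlt.le (Subgroup.commutator_le_left U K)
  have hW : V ⊔ ⁅U, K⁆ = U := by
    rcases hch _ hWn le_sup_left hWU with h | h
    · exfalso; apply hnot; rw [← h]; exact le_sup_right
    · exact h
  have key : ∀ n : ℕ, U ≤ V ⊔ K.lowerCentralSeries n := by
    intro n
    induction n with
    | zero =>
      rw [Subgroup.lowerCentralSeries_zero]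
      calc U = V ⊔ ⁅U, K⁆ := hW.symm
        _ ≤ V ⊔ K := sup_le_sup_left (Subgroup.commutator_le_right U K) V
    | succ n ih =>
      rw [Subgroup.lowerCentralSeries_succ]
      calc U = V ⊔ ⁅U, K⁆ := hW.symm
        _ ≤ V ⊔ ⁅V ⊔ K.lowerCentralSeries n, K⁆ :=
          sup_le_sup_left (Subgroup.commutator_mono ih le_rfl) V
        _ ≤ V ⊔ (V ⊔ ⁅K.lowerCentralSeries n, K⁆) :=
          sup_le_sup_left (sup_commutator_le V _ K) V
        _ = V ⊔ ⁅K.lowerCentralSeries n, K⁆ := by rw [← sup_assoc, sup_idem]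
  obtain ⟨n, hn⟩ := (Subgroup.isNilpotent_iff_lowerCentralSeries K).mp hK
  have := key n
  rw [hn, sup_bot_eq] at this
  exact (not_le_of_gt hlt) this

/-- iterated commutator with `D` -/
def iter (D : Subgroup G) (M : Subgroup G) : ℕ → Subgroup G
  | 0 => M
  | n + 1 => ⁅iter D M n, D⁆

theorem iter_mono (D : Subgroup G) {M M' : Subgroup G} (h : M ≤ M') (n : ℕ) :
    iter D M n ≤ iter D M' n := by
  induction n with
  | zero => exact h
  | succ n ih => exact Subgroup.commutator_mono ih le_rfl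

theorem iter_succ' (D M : Subgroup G) (n : ℕ) : iter D M (n + 1) = iter D ⁅M, D⁆ n := by
  induction n with
  | zero => rfl
  | succ n ih =>
    change ⁅iter D M (n + 1), D⁆ = ⁅iter D ⁅M, D⁆ n, D⁆
    rw [ih]

end

section
variable {G : Type*} [Group G] [Finite G]

/-- every nontrivial normal subgroup is the top of a chief factor -/
theorem exists_chief (M : Subgroup G) [hM : M.Normal] (hne : M ≠ ⊥) :
    ∃ M' : Subgroup G, IsChief M M' := by
  have hfin : {W : Subgroup G | W.Normal ∧ W < M}.Finite := Set.toFinite _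
  obtain ⟨M', hM'⟩ := hfin.exists_maximal ⟨⊥, inferInstance, bot_lt_iff_ne_bot.mpr hne⟩
  obtain ⟨⟨hn, hlt⟩, hmax⟩ := hM'
  refine ⟨M', hM, hn, hlt, ?_⟩
  intro W hW hVW hWM
  rcases eq_or_lt_of_le hWM with h | h
  · exact Or.inr h
  · left
    exact le_antisymm (hmax ⟨hW, h⟩ hVW) hVW

/-- if `D` centralizes all chief factors below `F`, then iterated commutators of normal
subgroups below `F` with `D` vanish -/
theorem iter_eq_bot (F D : Subgroup G)
    (hD : ∀ U V : Subgroup G, IsChief U V → U ≤ F → ⁅U, D⁆ ≤ V) :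
    ∀ (k : ℕ) (M : Subgroup G), M.Normal → M ≤ F → Nat.card M = k → ∃ n, iter D M n = ⊥ := by
  intro k
  induction k using Nat.strong_induction_on with
  | _ k ih =>
  intro M hM hMF hk
  by_cases hne : M = ⊥
  · exact ⟨0, hne⟩
  · haveI := hM
    obtain ⟨M', hch⟩ := exists_chief M hne
    have hlt : M' < M := hch.2.2.1
    have hcard : Nat.card M' < k := by
      rw [← hk]
      have h1 : Nat.card M' ≤ Nat.card M := Subgroup.card_le_of_le hlt.le
      rcases lt_or_eq_of_le h1 with h | h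
      · exact h
      · exfalso
        have := Subgroup.eq_of_le_of_card_ge hlt.le h.ge
        exact (ne_of_lt hlt) this
    obtain ⟨n, hn⟩ := ih _ hcard M' hch.2.1 (hlt.le.trans hMF) rfl
    refine ⟨n + 1, ?_⟩
    rw [iter_succ', eq_bot_iff, ← hn]
    exact iter_mono D (hD M M' hch hMF) n

/-- a normal subgroup `D` with `⁅D, D⁆ ≤ F` centralizing the chief factors below `F` is
nilpotent -/
theorem isNilpotent_of_hypercentral (F D : Subgroup G) [hF : F.Normal]
    (hD : ∀ U V : Subgroup G, IsChief U V → U ≤ F → ⁅U, D⁆ ≤ V) (hDD : ⁅D, D⁆ ≤ F) :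
    Group.IsNilpotent D := by
  obtain ⟨n, hn⟩ := iter_eq_bot F D hD _ F hF le_rfl rfl
  have key : ∀ m : ℕ, D.lowerCentralSeries (m + 1) ≤ iter D F m := by
    intro m
    induction m with
    | zero => exact hDD
    | succ m ih =>
      rw [Subgroup.lowerCentralSeries_succ]
      exact Subgroup.commutator_mono ih le_rfl
  rw [Subgroup.isNilpotent_iff_lowerCentralSeries]
  refine ⟨n + 1, ?_⟩
  rw [eq_bot_iff, ← hn]
  exact key n

end

section
variable {G : Type*} [Group G]

/-- the Fitting subgroup is characteristic -/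
theorem fitting_characteristic (H : Type*) [Group H] : (Cfsg.fittingSubgroup H).Characteristic := by
  rw [Subgroup.characteristic_iff_map_le]
  intro φ
  rw [Subgroup.map_le_iff_le_comap]
  apply sSup_le
  rintro M ⟨hMn, hMnil⟩
  rw [← Subgroup.map_le_iff_le_comap]
  apply le_sSup
  refine ⟨hMn.map φ.toMonoidHom φ.surjective, ?_⟩
  haveI := hMnil
  exact Group.nilpotent_of_mulEquiv (M.equivMapOfInjective φ.toMonoidHom φ.injective)

/-- `F(N)` viewed in `G` -/
abbrev FN (N : Subgroup G) : Subgroup G := (Cfsg.fittingSubgroup ↥N).map N.subtype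

theorem FN_normal (N : Subgroup G) [hN : N.Normal] : (FN N).Normal := by
  haveI := fitting_characteristic ↥N
  have h1 := Cfsg.Agent.Lib.Lead.le_normalizer_map_characteristic N (Cfsg.fittingSubgroup ↥N)
  rw [Subgroup.normalizer_eq_top] at h1
  exact Subgroup.normalizer_eq_top_iff.mp (top_le_iff.mp h1)

theorem FN_le (N : Subgroup G) : FN N ≤ N := Subgroup.map_subtype_le _

theorem FN_isNilpotent [Finite G] (N : Subgroup G) : Group.IsNilpotent (FN N) := by
  haveI := Cfsg.Agent.Lib.Lead.fittingSubgroup_isNilpotent (G := ↥N)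
  exact Group.nilpotent_of_mulEquiv
    ((Cfsg.fittingSubgroup ↥N).equivMapOfInjective N.subtype N.subtype_injective)

theorem le_FN_of_isNilpotent (N D : Subgroup G) [hD : D.Normal] (hDN : D ≤ N)
    (hnil : Group.IsNilpotent D) : D ≤ FN N := by
  have h1 : (D.subgroupOf N).Normal := inferInstance
  have h2 : Group.IsNilpotent (D.subgroupOf N) := by
    haveI := hnil
    exact Group.nilpotent_of_mulEquiv (Subgroup.subgroupOfEquivOfLe hDN).symm
  have h3 := Cfsg.Agent.Lib.Lead.le_fittingSubgroup h1 h2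
  intro d hd
  exact ⟨⟨d, hDN hd⟩, h3 (by rw [Subgroup.mem_subgroupOf]; exact hd), rfl⟩

/-- the subgroup of elements of `N` centralizing the chief factors below `F` -/
def X (N F : Subgroup G) : Subgroup G where
  carrier := {g | g ∈ N ∧ ∀ U V : Subgroup G, IsChief U V → U ≤ F →
    ∀ u ∈ U, u * g * u⁻¹ * g⁻¹ ∈ V}
  one_mem' := by
    refine ⟨N.one_mem, ?_⟩
    intro U V h _ u _
    simp only [mul_one, mul_inv_cancel, inv_one]
    exact V.one_mem
  mul_mem' := by
    rintro a b ⟨haN, ha⟩ ⟨hbN, hb⟩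
    refine ⟨N.mul_mem haN hbN, ?_⟩
    intro U V h hUF u hu
    have h1 : u * (a * b) * u⁻¹ * (a * b)⁻¹ =
        (u * a * u⁻¹ * a⁻¹) * (a * (u * b * u⁻¹ * b⁻¹) * a⁻¹) := by group
    rw [h1]
    exact V.mul_mem (ha U V h hUF u hu) (h.2.1.conj_mem _ (hb U V h hUF u hu) a)
  inv_mem' := by
    rintro a ⟨haN, ha⟩
    refine ⟨N.inv_mem haN, ?_⟩
    intro U V h hUF u hu
    have h1 : u * a⁻¹ * u⁻¹ * a⁻¹⁻¹ = a⁻¹ * (u * a * u⁻¹ * a⁻¹)⁻¹ * a⁻¹⁻¹ := by group
    rw [h1]
    exact h.2.1.conj_mem _ (V.inv_mem (ha U V h hUF u hu)) a⁻¹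

theorem mem_X {N F : Subgroup G} {g : G} : g ∈ X N F ↔ g ∈ N ∧ ∀ U V : Subgroup G,
    IsChief U V → U ≤ F → ∀ u ∈ U, u * g * u⁻¹ * g⁻¹ ∈ V := Iff.rfl

theorem X_normal (N F : Subgroup G) [hN : N.Normal] : (X N F).Normal := by
  constructor
  rintro a ⟨haN, ha⟩ x
  refine ⟨hN.conj_mem a haN x, ?_⟩
  intro U V h hUF u hu
  have h1 : u * (x * a * x⁻¹) * u⁻¹ * (x * a * x⁻¹)⁻¹ =
      x * ((x⁻¹ * u * x⁻¹⁻¹) * a * (x⁻¹ * u * x⁻¹⁻¹)⁻¹ * a⁻¹) * x⁻¹ := by group
  rw [h1]
  exact h.2.1.conj_mem _ (ha U V h hUF _ (h.1.conj_mem u hu x⁻¹)) x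

theorem X_le (N F : Subgroup G) : X N F ≤ N := fun _ h => h.1

theorem commutator_X_le (N F : Subgroup G) {D : Subgroup G} (hDX : D ≤ X N F) (U V : Subgroup G)
    (h : IsChief U V) (hUF : U ≤ F) : ⁅U, D⁆ ≤ V := by
  rw [Subgroup.commutator_le]
  intro u hu d hd
  rw [commutatorElement_def]
  exact (hDX hd).2 U V h hUF u hu

/-- derived series of a subgroup inside `G` -/
def dser (Y : Subgroup G) : ℕ → Subgroup G
  | 0 => Y
  | n + 1 => ⁅dser Y n, dser Y n⁆

theorem dser_le_derivedSeries (Y : Subgroup G) (n : ℕ) : dser Y n ≤ derivedSeries G n := by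
  induction n with
  | zero => exact le_top
  | succ n ih => exact Subgroup.commutator_mono ih ih

theorem dser_normal (Y : Subgroup G) [hY : Y.Normal] (n : ℕ) : (dser Y n).Normal := by
  induction n with
  | zero => exact hY
  | succ n ih =>
    haveI := ih
    change (⁅dser Y n, dser Y n⁆).Normal
    infer_instance

theorem dser_le (Y : Subgroup G) (n : ℕ) : dser Y n ≤ Y := by
  induction n with
  | zero => exact le_rfl
  | succ n ih => exact (Subgroup.commutator_le_self _).trans ih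

end

section
variable {G : Type*} [Group G] [Finite G]

/-- `F(N)` centralizes every chief factor -/
theorem FN_le_X (N : Subgroup G) [hN : N.Normal] : FN N ≤ X N (FN N) := by
  intro g hg
  refine ⟨FN_le N hg, ?_⟩
  intro U V h _ u hu
  haveI := FN_normal N
  have h1 := commutator_le_of_chief h (FN_isNilpotent N)
  have h2 : ⁅u, g⁆ ∈ ⁅U, FN N⁆ := Subgroup.commutator_mem_commutator hu hg
  rw [commutatorElement_def] at h2
  exact h1 h2

theorem X_le_FN (hG : Group.IsSolvable G) (N : Subgroup G) [hN : N.Normal] :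
    X N (FN N) ≤ FN N := by
  haveI hFn := FN_normal N
  haveI hXn := X_normal N (FN N)
  obtain ⟨n, hn⟩ := hG.solvable
  have hbot : dser (X N (FN N)) n ≤ FN N := by
    have := dser_le_derivedSeries (X N (FN N)) n
    rw [hn] at this
    exact this.trans bot_le
  have key : ∀ j : ℕ, dser (X N (FN N)) (n - j) ≤ FN N := by
    intro j
    induction j with
    | zero => exact hbot
    | succ j ih =>
      by_cases hj : n - j = 0
      · have : n - (j + 1) = n - j := by omega
        rw [this]; exact ih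
      · obtain ⟨m, hm⟩ : ∃ m, n - j = m + 1 := ⟨n - j - 1, by omega⟩
        have hm' : n - (j + 1) = m := by omega
        rw [hm'] 
        rw [hm] at ih
        set A := dser (X N (FN N)) m with hA
        haveI hAn : A.Normal := dser_normal _ m
        have hAX : A ≤ X N (FN N) := dser_le _ m
        have hDX : FN N ⊔ A ≤ X N (FN N) := sup_le (FN_le_X N) hAX
        have hDD : ⁅FN N ⊔ A, FN N ⊔ A⁆ ≤ FN N := by
          calc ⁅FN N ⊔ A, FN N ⊔ A⁆ ≤ FN N ⊔ ⁅A, FN N ⊔ A⁆ := sup_commutator_le _ _ _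
            _ ≤ FN N ⊔ (FN N ⊔ ⁅A, A⁆) := sup_le_sup_left (commutator_sup_le _ _ _) _
            _ ≤ FN N := sup_le le_rfl (sup_le le_rfl ih)
        have hnil := isNilpotent_of_hypercentral (FN N) (FN N ⊔ A)
          (commutator_X_le N (FN N) hDX) hDD
        have := le_FN_of_isNilpotent N (FN N ⊔ A) (hDX.trans (X_le N _)) hnil
        exact le_sup_right.trans this
  have := key n
  rwa [Nat.sub_self] at this

end

/-- Let G be a finite solvable group and N a normal subgroup of G. Call a pair V < U of normal subgroups of G a chief factor of G when no normal subgroup of G lies strictly between them; an element g centralizes the chief factor U/V when u g u⁻¹ g⁻¹ ∈ V for all u ∈ U. Then an element of G lies in the Fitting subgroup F(N) if and only if it lies in N and centralizes every chief factor of G; and also if and only if it lies in N and centralizes every chief factor U/V of G with U ≤ F(N). -/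
theorem result {G : Type*} [Group G] [Finite G] (hG : Group.IsSolvable G) (N : Subgroup G) [N.Normal] (g : G) : (g ∈ (Cfsg.fittingSubgroup ↥N).map N.subtype ↔ g ∈ N ∧ ∀ U V : Subgroup G, (U.Normal ∧ V.Normal ∧ V < U ∧ ∀ W : Subgroup G, W.Normal → V ≤ W → W ≤ U → W = V ∨ W = U) → ∀ u ∈ U, u * g * u⁻¹ * g⁻¹ ∈ V) ∧ (g ∈ (Cfsg.fittingSubgroup ↥N).map N.subtype ↔ g ∈ N ∧ ∀ U V : Subgroup G, (U.Normal ∧ V.Normal ∧ V < U ∧ ∀ W : Subgroup G, W.Normal → V ≤ W → W ≤ U → W = V ∨ W = U) → U ≤ (Cfsg.fittingSubgroup ↥N).map N.subtype → ∀ u ∈ U, u * g * u⁻¹ * g⁻¹ ∈ V) := by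
  haveI hFn := FN_normal N
  have hA : g ∈ FN N → g ∈ N ∧ ∀ U V : Subgroup G, IsChief U V → ∀ u ∈ U,
      u * g * u⁻¹ * g⁻¹ ∈ V := by
    intro hg
    refine ⟨FN_le N hg, ?_⟩
    intro U V h u hu
    have h1 := commutator_le_of_chief h (FN_isNilpotent N)
    have h2 : ⁅u, g⁆ ∈ ⁅U, FN N⁆ := Subgroup.commutator_mem_commutator hu hg
    rw [commutatorElement_def] at h2
    exact h1 h2
  have hB : (g ∈ N ∧ ∀ U V : Subgroup G, IsChief U V → U ≤ FN N → ∀ u ∈ U,
      u * g * u⁻¹ * g⁻¹ ∈ V) → g ∈ FN N := fun h => X_le_FN hG N h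
  refine ⟨⟨hA, ?_⟩, ⟨?_, hB⟩⟩
  · rintro ⟨hgN, h⟩
    exact hB ⟨hgN, fun U V hc _ => h U V hc⟩
  · intro hg
    obtain ⟨h1, h2⟩ := hA hg
    exact ⟨h1, fun U V hc _ => h2 U V hc⟩

end Cfsg.Agent.S3766
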