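import Mathlib
import Cfsg.Statements.S3767
import Cfsg.Agent.Lib.Helper7.ExtraRep6
import Cfsg.Agent.Lib.Helper9.ExtraTransport

set_option autoImplicit false
open Cfsg

namespace Cfsg.Agent.S3767

open Cfsg.Agent.Lib.Helper7.ExtraRep

/-- Let P be an extraspecial p-group of order p^(2n+1) and H a cyclic group of order h prime to p acting on P (inside a common finite group: H normalizes P) so that C_P(x) = Z(P) for every non-identity x ∈ H. Then h divides p^n + 1 or h divides p^n − 1. -/
theorem result {G : Type*} [Group G] [Finite G] {p : ℕ} [Fact p.Prime] (P H : Subgroup G) (hP : Cfsg.IsExtraspecial p ↥P) (n : ℕ) (hn : Nat.card P = p ^ (2 * n + 1)) (hH : IsCyclic H) (hcop : (Nat.card H).Coprime p) (hHP : H ≤ Subgroup.normalizer (P : Set G)) (hfix : ∀ x ∈ H, x ≠ 1 → P ⊓ Subgroup.centralizer {x} = (Subgroup.center ↥P).map P.subtype) : Nat.card H ∣ p ^ n + 1 ∨ Nat.card H ∣ p ^ n - 1 := by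
  classical
  obtain ⟨g₀, hg₀⟩ := hH.exists_generator
  have hord : orderOf g₀ = Nat.card H := orderOf_eq_card_of_forall_mem_zpowers hg₀
  obtain ⟨x, hx⟩ : ∃ x : G, x = (g₀ : G) := ⟨_, rfl⟩
  have hxH : x ∈ H := hx ▸ g₀.2
  have hordx : orderOf x = Nat.card H := by
    rw [hx, Subgroup.orderOf_coe, hord]
  -- the ambient group
  let e : (P.subgroupOf (Subgroup.normalizer (P : Set G))) ≃* P :=
    Subgroup.subgroupOfEquivOfLe Subgroup.le_normalizer
  have hN : IsExtraspecial p (P.subgroupOf (Subgroup.normalizer (P : Set G))) :=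
    Cfsg.Agent.Lib.Helper9.isExtraspecial_of_mulEquiv e.symm hP
  have hcard : Nat.card (P.subgroupOf (Subgroup.normalizer (P : Set G))) = p ^ (2 * n + 1) := by
    rw [Nat.card_congr e.toEquiv, hn]
  let g : Subgroup.normalizer (P : Set G) := ⟨x, hHP hxH⟩
  have hgh : g ^ Nat.card H = 1 := by
    apply Subtype.ext
    show x ^ Nat.card H = 1
    rw [← hordx, pow_orderOf_eq_one]
  have hpos : 0 < Nat.card H := Nat.card_pos
  -- centre of `N` in coordinates
  have hcenter : ∀ u : P.subgroupOf (Subgroup.normalizer (P : Set G)),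
      u ∈ Subgroup.center (P.subgroupOf (Subgroup.normalizer (P : Set G))) ↔
        ((u : Subgroup.normalizer (P : Set G)) : G) ∈ (Subgroup.center ↥P).map P.subtype := by
    intro u
    constructor
    · intro hu
      refine ⟨e u, ?_, rfl⟩
      rw [SetLike.mem_coe, Subgroup.mem_center_iff]
      intro v
      have := Subgroup.mem_center_iff.1 hu (e.symm v)
      have h2 := congrArg e this
      simpa using h2
    · rintro ⟨z, hz, hzu⟩
      rw [Subgroup.mem_center_iff]
      intro v
      have h1 := Subgroup.mem_center_iff.1 hz (e v)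
      have h2 : ((e v : P) : G) * (z : G) = (z : G) * ((e v : P) : G) := congrArg Subtype.val h1
      apply Subtype.ext
      apply Subtype.ext
      show ((v : Subgroup.normalizer (P : Set G)) : G) * ((u : Subgroup.normalizer (P : Set G)) : G) =
        ((u : Subgroup.normalizer (P : Set G)) : G) * ((v : Subgroup.normalizer (P : Set G)) : G)
      have hzu' : (z : G) = ((u : Subgroup.normalizer (P : Set G)) : G) := hzu
      rw [← hzu']
      exact h2
  have hpowx : ∀ j : ℕ, ((g ^ j : Subgroup.normalizer (P : Set G)) : G) = x ^ j := by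
    intro j
    rfl
  apply main_abstract (P.subgroupOf (Subgroup.normalizer (P : Set G))) hN n hcard g (Nat.card H)
    hpos hgh hcop
  · intro j hj0 hjh u hu
    have hy1 : x ^ j ≠ 1 := by
      intro h1
      have := orderOf_dvd_of_pow_eq_one h1
      rw [hordx] at this
      exact absurd (Nat.le_of_dvd hj0 this) (not_le.2 hjh)
    have hyH : x ^ j ∈ H := Subgroup.pow_mem _ hxH j
    have hfx := hfix (x ^ j) hyH hy1
    rw [hcenter, ← hfx]
    refine ⟨u.2, ?_⟩
    show ((u : Subgroup.normalizer (P : Set G)) : G) ∈ Subgroup.centralizer {x ^ j}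
    rw [Subgroup.mem_centralizer_singleton_iff]
    have h1 : (((MulAut.conjNormal (g ^ j) u :
        P.subgroupOf (Subgroup.normalizer (P : Set G))) : Subgroup.normalizer (P : Set G)) : G) =
        ((u : Subgroup.normalizer (P : Set G)) : G) := by rw [hu]
    rw [MulAut.conjNormal_apply] at h1
    have h2 : x ^ j * ((u : Subgroup.normalizer (P : Set G)) : G) * (x ^ j)⁻¹ =
        ((u : Subgroup.normalizer (P : Set G)) : G) := h1
    calc ((u : Subgroup.normalizer (P : Set G)) : G) * x ^ j
        = (x ^ j * ((u : Subgroup.normalizer (P : Set G)) : G) * (x ^ j)⁻¹) * x ^ j := by rw [h2]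
      _ = x ^ j * ((u : Subgroup.normalizer (P : Set G)) : G) := by group
  · intro z hz
    rw [hcenter] at hz
    by_cases hx1 : x = 1
    · apply Subtype.ext
      rw [MulAut.conjNormal_apply]
      have : g = 1 := Subtype.ext hx1
      rw [this]
      simp
    · have hfx := hfix x hxH hx1
      rw [← hfx] at hz
      have hc := Subgroup.mem_centralizer_singleton_iff.1 hz.2
      apply Subtype.ext
      rw [MulAut.conjNormal_apply]
      apply Subtype.ext
      show x * ((z : Subgroup.normalizer (P : Set G)) : G) * x⁻¹ =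
        ((z : Subgroup.normalizer (P : Set G)) : G)
      rw [← hc]
      group

end Cfsg.Agent.S3767
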