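import Mathlib
import Cfsg.Statements.S3768
import Cfsg.Agent.S0035
import Cfsg.Agent.S3383
import Cfsg.Agent.S0039

set_option autoImplicit false
open Cfsg

namespace Cfsg.Agent.S3768

open scoped Pointwise

/-- If `r` acts fixed-point-freely on the normal subgroup `K` and `N ≤ K` is normal in `G`, then
`r k r⁻¹ k⁻¹ ∈ N` forces `k ∈ N`. -/
theorem mem_of_comm_mem {G : Type*} [Group G] [Finite G] (K N : Subgroup G) [N.Normal]
    (hNK : N ≤ K) (r : G) (hfpf : K ⊓ Subgroup.centralizer {r} = ⊥) (k : G) (hk : k ∈ K)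
    (hc : r * k * r⁻¹ * k⁻¹ ∈ N) : k ∈ N := by
  have hinj : ∀ a b : G, a ∈ K → b ∈ K → r * a * r⁻¹ * a⁻¹ = r * b * r⁻¹ * b⁻¹ → a = b := by
    intro a b ha hb hab
    have h1 : a * r⁻¹ * a⁻¹ = b * r⁻¹ * b⁻¹ := by
      have := congrArg (fun z => r⁻¹ * z) hab
      simpa [mul_assoc] using this
    have h2 : (b⁻¹ * a) * r = r * (b⁻¹ * a) := by
      have h3 : (b⁻¹ * a) * r⁻¹ = r⁻¹ * (b⁻¹ * a) := by
        calc (b⁻¹ * a) * r⁻¹ = b⁻¹ * (a * r⁻¹ * a⁻¹) * a := by group
          _ = b⁻¹ * (b * r⁻¹ * b⁻¹) * a := by rw [h1]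
          _ = r⁻¹ * (b⁻¹ * a) := by group
      calc (b⁻¹ * a) * r = r * (r⁻¹ * (b⁻¹ * a)) * r := by group
        _ = r * ((b⁻¹ * a) * r⁻¹) * r := by rw [h3]
        _ = r * (b⁻¹ * a) := by group
    have h4 : b⁻¹ * a ∈ K ⊓ Subgroup.centralizer {r} :=
      ⟨K.mul_mem (K.inv_mem hb) ha, Subgroup.mem_centralizer_singleton_iff.mpr h2⟩
    rw [hfpf, Subgroup.mem_bot] at h4
    calc a = b * (b⁻¹ * a) := by group
      _ = b := by rw [h4, mul_one]
  let ψ : N → N := fun n => ⟨r * n.1 * r⁻¹ * n.1⁻¹,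
    N.mul_mem (Subgroup.Normal.conj_mem inferInstance n.1 n.2 r) (N.inv_mem n.2)⟩
  have hψinj : Function.Injective ψ := by
    intro a b hab
    apply Subtype.ext
    exact hinj a.1 b.1 (hNK a.2) (hNK b.2) (congrArg Subtype.val hab)
  have hψsurj : Function.Surjective ψ := Finite.injective_iff_surjective.mp hψinj
  obtain ⟨n, hn⟩ := hψsurj ⟨_, hc⟩
  have := hinj n.1 k (hNK n.2) hk (congrArg Subtype.val hn)
  rw [← this]
  exact n.2

theorem result {G : Type*} [Group G] [Finite G] (R : Subgroup G) (hR : Cfsg.IsFrobeniusComplement R) (N : Subgroup G) [N.Normal] (hKN : ¬ Cfsg.frobeniusKernel R ⊆ N) : Cfsg.IsFrobeniusComplement (R.map (QuotientGroup.mk' N)) ∧ Cfsg.frobeniusKernel (R.map (QuotientGroup.mk' N)) = QuotientGroup.mk' N '' Cfsg.frobeniusKernel R := by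
  obtain ⟨K, hKset, hKn, hKc⟩ := Cfsg.Agent.S0035.result R hR
  haveI := hKn
  have hNK : N ≤ K := by
    rcases (Cfsg.Agent.S3383.result R hR K hKset).2 N inferInstance with h | h
    · exfalso
      apply hKN
      rw [← hKset]
      exact h
    · exact h
  set f := QuotientGroup.mk' N with hf
  have hfs : Function.Surjective f := QuotientGroup.mk'_surjective N
  set Kb := K.map f with hKb
  set Rb := R.map f with hRb
  haveI hKbn : Kb.Normal := Subgroup.Normal.map hKn f hfs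
  have hKRbot : K ⊓ R = ⊥ := disjoint_iff.mp hKc.disjoint
  have hdisj : Disjoint Kb Rb := by
    rw [Subgroup.disjoint_def]
    intro x hxK hxR
    obtain ⟨k, hk, rfl⟩ := hxK
    obtain ⟨r, hr, hrk⟩ := hxR
    have h1 : r⁻¹ * k ∈ N := by
      rw [← QuotientGroup.eq]
      exact hrk
    have h2 : r ∈ K := by
      have : r = k * (r⁻¹ * k)⁻¹ := by group
      rw [this]
      exact K.mul_mem hk (K.inv_mem (hNK h1))
    have h3 : r ∈ K ⊓ R := ⟨h2, hr⟩
    rw [hKRbot, Subgroup.mem_bot] at h3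
    rw [← hrk, h3, map_one]
  have hsup : Kb ⊔ Rb = ⊤ := by
    rw [hKb, hRb, ← Subgroup.map_sup, hKc.sup_eq_top, ← MonoidHom.range_eq_map,
      MonoidHom.range_eq_top]
    exact hfs
  have hcompl : Subgroup.IsComplement' Kb Rb := by
    apply Subgroup.isComplement'_of_disjoint_and_mul_eq_univ hdisj
    rw [← Subgroup.normal_mul, hsup]
    rfl
  -- nontriviality
  have hKbne : Kb ≠ ⊥ := by
    intro h
    apply hKN
    intro x hx
    rw [← hKset] at hx
    have : f x ∈ Kb := Subgroup.mem_map_of_mem f hx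
    rw [h, Subgroup.mem_bot] at this
    exact (QuotientGroup.eq_one_iff x).mp this
  have hRne : R ≠ ⊥ := hR.1
  have hRmem : ∀ r ∈ R, f r = 1 → r = 1 := by
    intro r hr h1
    have h2 : r ∈ N := (QuotientGroup.eq_one_iff r).mp h1
    have h3 : r ∈ K ⊓ R := ⟨hNK h2, hr⟩
    rw [hKRbot, Subgroup.mem_bot] at h3
    exact h3
  have hRbne : Rb ≠ ⊥ := by
    intro h
    obtain ⟨⟨r, hr⟩, hr1⟩ := (Subgroup.ne_bot_iff_exists_ne_one).mp hRne
    have : f r ∈ Rb := Subgroup.mem_map_of_mem f hr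
    rw [h, Subgroup.mem_bot] at this
    exact hr1 (Subtype.ext (hRmem r hr this))
  have hKne : K ≠ ⊥ := by
    intro h
    apply hKbne
    rw [hKb, h, Subgroup.map_bot]
  -- fixed-point-freeness upstairs
  have hfpf := (Cfsg.Agent.S0039.result K R hKc hKne hRne).mp hR
  have hRbF : Cfsg.IsFrobeniusComplement Rb := by
    rw [Cfsg.Agent.S0039.result Kb Rb hcompl hKbne hRbne]
    rintro h ⟨r, hr, rfl⟩ hne
    have hr1 : r ≠ 1 := fun h1 => hne (by rw [h1, map_one])
    rw [eq_bot_iff]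
    rintro x ⟨hxK, hxC⟩
    obtain ⟨k, hk, rfl⟩ := hxK
    rw [Subgroup.mem_bot]
    have hcomm : f r * f k = f k * f r :=
      (Subgroup.mem_centralizer_singleton_iff.mp hxC).symm
    have hc : r * k * r⁻¹ * k⁻¹ ∈ N := by
      rw [← QuotientGroup.eq_one_iff]
      show f (r * k * r⁻¹ * k⁻¹) = 1
      rw [map_mul, map_mul, map_mul, map_inv, map_inv, hcomm]
      group
    have hkN := mem_of_comm_mem K N hNK r (hfpf r hr hr1) k hk hc
    exact (QuotientGroup.eq_one_iff k).mpr hkN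
  refine ⟨hRbF, ?_⟩
  -- the kernel
  obtain ⟨N', hN'set, hN'n, hN'c⟩ := Cfsg.Agent.S0035.result Rb hRbF
  have hle : Kb ≤ N' := by
    intro x hx
    have : x ∈ (N' : Set (G ⧸ N)) := by
      rw [hN'set]
      by_cases hx1 : x = 1
      · exact Or.inl hx1
      · right
        intro g hg
        rw [Subgroup.mem_pointwise_smul_iff_inv_smul_mem] at hg
        have h1 : (MulAut.conj g)⁻¹ • x ∈ Kb := by
          rw [MulAut.smul_def, MulAut.conj_inv_apply]
          exact hKbn.conj_mem x hx g⁻¹ |> fun h => by simpa using h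
        have h2 : (MulAut.conj g)⁻¹ • x ∈ Kb ⊓ Rb := ⟨h1, hg⟩
        rw [disjoint_iff.mp hdisj, Subgroup.mem_bot] at h2
        apply hx1
        rw [MulAut.smul_def, MulAut.conj_inv_apply] at h2
        calc x = g * (g⁻¹ * x * g) * g⁻¹ := by group
          _ = 1 := by rw [h2]; group
    exact this
  have hcard : Nat.card N' ≤ Nat.card Kb := by
    rw [← hN'c.index_eq_card, ← hcompl.index_eq_card]
  have heq : Kb = N' := Subgroup.eq_of_le_of_card_ge hle hcard
  rw [← hN'set, ← heq, hKb, Subgroup.coe_map, hKset]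

end Cfsg.Agent.S3768
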