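import Cfsg.Statements.S3769
import Mathlib
import Cfsg.Agent.Lib.Helper4.HH15
-- import your own Cfsg.Agent.* helpers here

set_option autoImplicit false
open Cfsg

namespace Cfsg.Agent.S3769

/-- Let G and V be subgroups of a finite group with G solvable of odd order normalizing V, V an elementary abelian ℓ-group for a prime ℓ not dividing the order of G, and suppose G has a normal Hall subgroup K with a complement R of prime order. If C_V(R) = 1, then [R, K] centralizes V. -/
theorem result {X : Type*} [Group X] [Finite X] (G : Subgroup X) (hsolv : Group.IsSolvable G) (hodd : Odd (Nat.card G)) (V : Subgroup X) {ℓ : ℕ} (hℓ : ℓ.Prime) (hV : Cfsg.IsElementaryAbelian ℓ V) (hℓG : ¬ ℓ ∣ Nat.card G) (hGV : G ≤ Subgroup.normalizer (V : Set X)) (K R : Subgroup X) (hKG : K ≤ G) (hKn : G ≤ Subgroup.normalizer (K : Set X)) (hHall : (Nat.card K).Coprime (K.relIndex G)) (hRG : R ≤ G) (hR : (Nat.card R).Prime) (hKR : K ⊓ R = ⊥) (hKRG : K ⊔ R = G) (hCV : V ⊓ Subgroup.centralizer (R : Set X) = ⊥) : ⁅R, K⁆ ≤ Subgroup.centralizer (V : Set X) := by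
  classical
  haveI := hsolv
  have hRK : R ≤ Subgroup.normalizer (K : Set X) := hRG.trans hKn
  have hcardG : Nat.card G = Nat.card K * Nat.card R := by
    rw [← hKRG, sup_comm,
      Cfsg.Agent.Lib.Lead.card_sup_of_disjoint R K hRK (by rw [inf_comm]; exact hKR), mul_comm]
  have hrel : K.relIndex G = Nat.card R := by
    have h1 := Subgroup.card_mul_index (K.subgroupOf G)
    rw [Cfsg.Agent.Lib.Helper4.FM.card_subgroupOf_of_le hKG, hcardG] at h1
    exact Nat.eq_of_mul_eq_mul_left Nat.card_pos h1
  have hcop : (Nat.card K).Coprime (Nat.card R) := by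
    rw [← hrel]
    exact hHall
  haveI hKsolv : Group.IsSolvable K := Cfsg.Agent.Lib.Lead.isSolvable_of_le hKG
  have hrG : Nat.card R ∣ Nat.card G := Subgroup.card_dvd_of_le hRG
  have hrℓ : Nat.card R ≠ ℓ := by
    intro h
    apply hℓG
    rw [← h]
    exact hrG
  have hmainall : ∀ a ∈ R, K ≤ Cfsg.Agent.Lib.Helper4.HH.commT V a := by
    intro a ha
    by_cases ha1 : a = 1
    · intro k hk
      refine ⟨hGV (hKG hk), ?_⟩
      intro v _
      rw [ha1]
      simp
    · have har : a ^ Nat.card R = 1 := by
        have h1 : (⟨a, ha⟩ : R) ^ Nat.card R = 1 := pow_card_eq_one'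
        have h2 := congrArg Subtype.val h1
        rwa [Subgroup.coe_pow] at h2
      have hza : Subgroup.zpowers a = R := by
        apply Subgroup.eq_of_le_of_card_ge
        · rw [Subgroup.zpowers_le]
          exact ha
        · rw [Cfsg.Agent.Lib.Helper4.HH.card_zpowers_of_prime a _ hR har ha1]
      apply Cfsg.Agent.Lib.Helper3.Gen.le_of_forall_sylow_le
      intro q hqF
      obtain ⟨P, -, hPR⟩ := Cfsg.Agent.Lib.Lead.coprime_invariant_pgroup_le_sylow R K hRK
        hcop.symm (Or.inr hKsolv) q ⊥ bot_le IsPGroup.of_bot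
        (by rw [Subgroup.normalizer_eq_top]; exact le_top)
      refine ⟨P, ?_⟩
      by_cases hQbot : (P : Subgroup K).map K.subtype = ⊥
      · rw [hQbot]
        exact bot_le
      · have hQp : IsPGroup q ((P : Subgroup K).map K.subtype) := P.isPGroup'.map _
        have hQK : (P : Subgroup K).map K.subtype ≤ K := by
          rintro _ ⟨y, _, rfl⟩
          exact y.2
        have hQG : (P : Subgroup K).map K.subtype ≤ G := hQK.trans hKG
        obtain ⟨n, hn⟩ := IsPGroup.iff_card.1 hQp
        have hn0 : n ≠ 0 := by
          rintro rfl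
          rw [pow_zero] at hn
          exact hQbot (Subgroup.eq_bot_of_card_eq _ hn)
        have hqQ : q ∣ Nat.card ((P : Subgroup K).map K.subtype) := by
          rw [hn]
          exact dvd_pow_self q hn0
        have hqK : q ∣ Nat.card K := hqQ.trans (Subgroup.card_dvd_of_le hQK)
        have hqG : q ∣ Nat.card G := hqK.trans (Subgroup.card_dvd_of_le hKG)
        have hqℓ : q ≠ ℓ := by
          intro h
          apply hℓG
          rw [← h]
          exact hqG
        have hqr : q ≠ Nat.card R := by
          intro h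
          have h1 : q ∣ Nat.gcd (Nat.card K) (Nat.card R) := by
            apply Nat.dvd_gcd hqK
            rw [← h]
          rw [hcop] at h1
          exact hqF.out.one_lt.ne' (Nat.dvd_one.1 h1)
        have hq2 : q ≠ 2 := by
          intro h
          rw [h] at hqG
          exact (Nat.not_even_iff_odd.2 hodd) (even_iff_two_dvd.2 hqG)
        have hmain := Cfsg.Agent.Lib.Helper4.HH.hh_sub V G ℓ hℓ hV hGV a (hRG ha) q (Nat.card R)
          hqF.out hR hqr hqℓ hrℓ har
          (by
            intro v hv hav
            have hvC : v ∈ Subgroup.centralizer (R : Set X) := by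
              rw [← hza, Cfsg.Agent.Lib.Helper4.HH.mem_centralizer_zpowers_iff]
              calc a * v = (a * v * a⁻¹) * a := by group
                _ = v * a := by rw [hav]
            have : v ∈ V ⊓ Subgroup.centralizer (R : Set X) := Subgroup.mem_inf.2 ⟨hv, hvC⟩
            rw [hCV] at this
            exact Subgroup.mem_bot.1 this)
          ((P : Subgroup K).map K.subtype) hQG hQp
          (fun m hm => (Subgroup.mem_normalizer_iff.1 (hPR ha) m).1 hm)
          (fun h2 => absurd h2 hq2)
        intro m hm
        refine ⟨hGV (hQG hm), ?_⟩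
        intro v hv
        have h1 := hmain m hm v hv
        calc a * (m * v * m⁻¹) * a⁻¹ = (a * m) * v * (a * m)⁻¹ := by group
          _ = (m * a) * v * (m * a)⁻¹ := h1
          _ = m * (a * v * a⁻¹) * m⁻¹ := by group
  rw [Subgroup.commutator_le]
  intro a ha k hk
  exact Cfsg.Agent.Lib.Helper4.HH.comm_mem_centralizer_of_mem_commT V a k (hGV (hRG ha))
    (hmainall a ha hk)

end Cfsg.Agent.S3769
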