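import Mathlib
import Cfsg.Statements.S3773
import Cfsg.Agent.Lib.Helper7.QuadCount2
import Cfsg.Agent.Lib.Lead.Frattini
import Cfsg.Agent.Lib.Lead.Frattini2

set_option autoImplicit false
open Cfsg

namespace Cfsg.Agent.S3773

open Cfsg.Agent.Lib.Helper7.QuadCount Cfsg.Agent.Lib.Lead
open scoped commutatorElement

/-- Let G be a finite 2-group of nilpotency class at most 2 and exponent dividing 4 in which the elements x with x² = 1 form a subgroup N. Then |G| ≤ |N|³, and |G| < |N|³ unless G is special. -/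
theorem result {G : Type*} [Group G] [Finite G] (hG : IsPGroup 2 G) (hcl : (⊤ : Subgroup G).lowerCentralSeries 2 = ⊥) (hexp : ∀ x : G, x ^ 4 = 1) (hN : ∀ x y : G, x ^ 2 = 1 → y ^ 2 = 1 → (x * y) ^ 2 = 1) : Nat.card G ≤ Nat.card {x : G // x ^ 2 = 1} ^ 3 ∧ (¬ Cfsg.IsSpecial 2 G → Nat.card G < Nat.card {x : G // x ^ 2 = 1} ^ 3) := by
  classical
  haveI : Fact (Nat.Prime 2) := ⟨Nat.prime_two⟩
  -- the subgroup of solutions of `x ^ 2 = 1`
  let N : Subgroup G :=
    { carrier := {x | x ^ 2 = 1}
      one_mem' := one_pow 2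
      mul_mem' := fun {a b} ha hb => hN a b ha hb
      inv_mem' := fun {a} ha => by
        show a⁻¹ ^ 2 = 1
        rw [inv_pow, show a ^ 2 = 1 from ha, inv_one] }
  have hNmem : ∀ x : G, x ∈ N ↔ x ^ 2 = 1 := fun x => Iff.rfl
  have hj : Nat.card {x : G // x ^ 2 = 1} = Nat.card N :=
    Nat.card_congr (Equiv.subtypeEquivRight fun x => (hNmem x).symm)
  rw [hj]
  have hNpos : 0 < Nat.card N := Nat.card_pos
  -- class two
  have hc3 : ∀ x y z : G, ⁅⁅x, y⁆, z⁆ = 1 := by
    intro x y z
    have h1 : ⁅⁅x, y⁆, z⁆ ∈ (⊤ : Subgroup G).lowerCentralSeries 2 :=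
      Subgroup.commutator_mem_commutator (Subgroup.commutator_mem_commutator
        (Subgroup.mem_top x) (Subgroup.mem_top y)) (Subgroup.mem_top z)
    rw [hcl] at h1
    exact Subgroup.mem_bot.mp h1
  have hcc : ∀ x y : G, ⁅x, y⁆ ∈ Subgroup.center G := by
    intro x y
    rw [Subgroup.mem_center_iff]
    intro g
    exact (commutatorElement_eq_one_iff_mul_comm.mp (hc3 x y g)).symm
  have hcen : ∀ x y g : G, g * ⁅x, y⁆ = ⁅x, y⁆ * g := fun x y g =>
    Subgroup.mem_center_iff.mp (hcc x y) g
  have hkey : ∀ x y : G, (x * y) ^ 2 = ⁅y, x⁆ * (x ^ 2 * y ^ 2) := by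
    intro x y
    have h3 := hcen y x x
    calc (x * y) ^ 2 = x * ⁅y, x⁆ * (x * y ^ 2) := by
          simp only [commutatorElement_def, pow_two]; group
      _ = ⁅y, x⁆ * x * (x * y ^ 2) := by rw [h3]
      _ = ⁅y, x⁆ * (x ^ 2 * y ^ 2) := by group
  have hsqN : ∀ x : G, x ^ 2 ∈ N := fun x => by
    rw [hNmem, ← pow_mul]
    exact hexp x
  have hcN : ∀ x y : G, ⁅x, y⁆ ∈ N := by
    intro x y
    have h1 : ⁅x, y⁆ = (y * x) ^ 2 * (y ^ 2 * x ^ 2)⁻¹ := by
      rw [hkey y x]
      group
    rw [h1]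
    exact mul_mem (hsqN _) (inv_mem (mul_mem (hsqN y) (hsqN x)))
  have hsqZ : ∀ x : G, x ^ 2 ∈ Subgroup.center G := by
    intro x
    rw [Subgroup.mem_center_iff]
    intro y
    have h1 : ⁅x ^ 2, y⁆ = ⁅x, y⁆ ^ 2 := by
      have h3 := hcen x y x
      calc ⁅x ^ 2, y⁆ = (x * ⁅x, y⁆) * x⁻¹ * ⁅x, y⁆ := by
            simp only [commutatorElement_def, pow_two]; group
        _ = (⁅x, y⁆ * x) * x⁻¹ * ⁅x, y⁆ := by rw [h3]
        _ = ⁅x, y⁆ ^ 2 := by rw [mul_inv_cancel_right, pow_two]
    have h2 : ⁅x ^ 2, y⁆ = 1 := by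
      rw [h1]
      exact (hNmem _).mp (hcN x y)
    exact (commutatorElement_eq_one_iff_mul_comm.mp h2).symm
  have hcommN : commutator G ≤ N := by
    rw [commutator_def, Subgroup.commutator_le]
    intro x _ y _
    exact hcN x y
  -- first application of the Fourier bound
  set Φ₀ : Subgroup G := Subgroup.center G ⊓ N with hΦ₀
  have hF1 := fourier_bound Φ₀ Φ₀ le_rfl inf_le_left
    (fun t ht => (hNmem t).mp (Subgroup.mem_inf.mp ht).2)
    (fun x => Subgroup.mem_inf.mpr ⟨hsqZ x, hsqN x⟩)
    (fun x y => Subgroup.mem_inf.mpr ⟨hcc x y, hcN x y⟩)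
  rw [hj] at hF1
  have hΦ₀pos : 0 < Nat.card Φ₀ := Nat.card_pos
  have hΦ₀le : Nat.card Φ₀ ≤ Nat.card N := Subgroup.card_le_of_le inf_le_right
  have hB1 : Nat.card G ≤ Nat.card Φ₀ * Nat.card N ^ 2 := by
    have h1 : Nat.card G * Nat.card Φ₀ ≤ (Nat.card Φ₀ * Nat.card N ^ 2) * Nat.card Φ₀ := by
      calc Nat.card G * Nat.card Φ₀ ≤ Nat.card Φ₀ ^ 2 * Nat.card N ^ 2 := hF1
        _ = (Nat.card Φ₀ * Nat.card N ^ 2) * Nat.card Φ₀ := by ring
    exact Nat.le_of_mul_le_mul_right h1 hΦ₀pos
  have hpart1 : Nat.card G ≤ Nat.card N ^ 3 := by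
    calc Nat.card G ≤ Nat.card Φ₀ * Nat.card N ^ 2 := hB1
      _ ≤ Nat.card N * Nat.card N ^ 2 := Nat.mul_le_mul_right _ hΦ₀le
      _ = Nat.card N ^ 3 := by ring
  refine ⟨hpart1, fun hns => ?_⟩
  by_contra hge
  push Not at hge
  apply hns
  -- `N` is central
  have hNΦ₀ : Nat.card N ≤ Nat.card Φ₀ := by
    have h1 : Nat.card N * Nat.card N ^ 2 ≤ Nat.card Φ₀ * Nat.card N ^ 2 := by
      calc Nat.card N * Nat.card N ^ 2 = Nat.card N ^ 3 := by ring
        _ ≤ Nat.card G := hge
        _ ≤ Nat.card Φ₀ * Nat.card N ^ 2 := hB1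
    exact Nat.le_of_mul_le_mul_right h1 (by positivity)
  have hΦ₀N : Φ₀ = N := Subgroup.eq_of_le_of_card_ge inf_le_right hNΦ₀
  have hNZ : N ≤ Subgroup.center G := by
    rw [← hΦ₀N]
    exact inf_le_left
  -- the centre is `N`
  have hF2 := fourier_bound N (Subgroup.center G) hNZ le_rfl
    (fun t ht => (hNmem t).mp ht) hsqN hcN
  rw [hj] at hF2
  have hZN : Subgroup.center G = N := by
    symm
    apply Subgroup.eq_of_le_of_card_ge hNZ
    have h1 : Nat.card (Subgroup.center G) * Nat.card N ^ 3 ≤ Nat.card N * Nat.card N ^ 3 := by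
      calc Nat.card (Subgroup.center G) * Nat.card N ^ 3
          ≤ Nat.card (Subgroup.center G) * Nat.card G := Nat.mul_le_mul_left _ hge
        _ = Nat.card G * Nat.card (Subgroup.center G) := mul_comm _ _
        _ ≤ Nat.card N ^ 2 * Nat.card N ^ 2 := hF2
        _ = Nat.card N * Nat.card N ^ 3 := by ring
    exact Nat.le_of_mul_le_mul_right h1 (by positivity)
  -- the Frattini subgroup is `N`
  have hΦN : frattini G ≤ N := frattini_le_of_elementary_quotient N hcommN hsqN
  have hF3 := fourier_bound (frattini G) N hΦN hNZ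
    (fun t ht => (hNmem t).mp (hΦN ht))
    (fun x => pow_mem_frattini_of_isPGroup hG x)
    (fun x y => commutator_le_frattini_of_isPGroup hG (by
      rw [commutator_def]
      exact Subgroup.commutator_mem_commutator (Subgroup.mem_top x) (Subgroup.mem_top y)))
  rw [hj] at hF3
  have hfrN : frattini G = N := by
    apply Subgroup.eq_of_le_of_card_ge hΦN
    have h1 : Nat.card N ^ 2 * Nat.card N ^ 2 ≤ Nat.card (frattini G) ^ 2 * Nat.card N ^ 2 := by
      calc Nat.card N ^ 2 * Nat.card N ^ 2 = Nat.card N ^ 3 * Nat.card N := by ring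
        _ ≤ Nat.card G * Nat.card N := Nat.mul_le_mul_right _ hge
        _ ≤ Nat.card (frattini G) ^ 2 * Nat.card N ^ 2 := hF3
    have h2 : Nat.card N ^ 2 ≤ Nat.card (frattini G) ^ 2 :=
      Nat.le_of_mul_le_mul_right h1 (by positivity)
    exact (Nat.pow_le_pow_iff_left (by norm_num)).mp h2
  -- the derived subgroup is `N`
  have hderN : commutator G = N := by
    by_contra hne
    have hnetop : (commutator G).subgroupOf N ≠ ⊤ := by
      intro h
      rw [Subgroup.subgroupOf_eq_top] at h
      exact hne (le_antisymm hcommN h)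
    obtain ⟨M, hM, hleM⟩ := (eq_top_or_exists_le_coatom ((commutator G).subgroupOf N)).resolve_left
      hnetop
    have hMi : M.index = 2 := (coatom_normal_index_of_isPGroup (hG.to_subgroup N) hM).2
    set H : Subgroup G := M.map N.subtype with hH
    have hHM : ∀ (a : G) (ha : a ∈ N), a ∈ H ↔ (⟨a, ha⟩ : N) ∈ M := by
      intro a ha
      rw [hH, Subgroup.mem_map]
      constructor
      · rintro ⟨m, hm, rfl⟩
        exact hm
      · intro h
        exact ⟨⟨a, ha⟩, h, rfl⟩
    have hHN : H ≤ N := by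
      rw [hH]
      exact Subgroup.map_subtype_le M
    have hcH : ∀ x y : G, ⁅x, y⁆ ∈ H := by
      intro x y
      rw [hHM _ (hcN x y)]
      apply hleM
      rw [Subgroup.mem_subgroupOf]
      show ⁅x, y⁆ ∈ commutator G
      rw [commutator_def]
      exact Subgroup.commutator_mem_commutator (Subgroup.mem_top x) (Subgroup.mem_top y)
    have hcardH : Nat.card N = Nat.card H * 2 := by
      rw [hH, Subgroup.card_map_of_injective N.subtype_injective, ← hMi, Subgroup.card_mul_index]
    -- two elements of `N` outside `H` multiply into `H`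
    have hmulH : ∀ a b : G, a ∈ N → b ∈ N → a ∉ H → b ∉ H → a * b ∈ H := by
      intro a b ha hb haH hbH
      rw [hHM _ (mul_mem ha hb)]
      have h1 : (⟨a * b, mul_mem ha hb⟩ : N) = ⟨a, ha⟩ * ⟨b, hb⟩ := rfl
      rw [h1, Subgroup.mul_mem_iff_of_index_two hMi]
      rw [hHM a ha] at haH
      rw [hHM b hb] at hbH
      exact ⟨fun h => absurd h haH, fun h => absurd h hbH⟩
    -- the subgroup `K`
    let K : Subgroup G :=
      { carrier := {x | x ^ 2 ∈ H}
        one_mem' := by
          show (1 : G) ^ 2 ∈ H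
          rw [one_pow]
          exact H.one_mem
        mul_mem' := fun {a b} ha hb => by
          show (a * b) ^ 2 ∈ H
          rw [hkey]
          exact mul_mem (hcH b a) (mul_mem ha hb)
        inv_mem' := fun {a} ha => by
          show a⁻¹ ^ 2 ∈ H
          rw [inv_pow]
          exact inv_mem ha }
    have hKmem : ∀ x : G, x ∈ K ↔ x ^ 2 ∈ H := fun x => Iff.rfl
    have hNK : N ≤ K := by
      intro x hx
      rw [hKmem, (hNmem x).mp hx]
      exact H.one_mem
    have hGK : Nat.card G ≤ Nat.card K * 2 := by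
      by_cases hall : ∀ x : G, x ∈ K
      · have : K = ⊤ := by
          rw [eq_top_iff]
          intro x _
          exact hall x
        rw [this, Subgroup.card_top]
        omega
      · push Not at hall
        obtain ⟨x₀, hx₀⟩ := hall
        have hK2 : K.index = 2 := by
          rw [Subgroup.index_eq_two_iff]
          refine ⟨x₀, fun b => ?_⟩
          by_cases hb : b ∈ K
          · right
            refine ⟨hb, fun hbx => ?_⟩
            apply hx₀
            have := K.mul_mem (K.inv_mem hb) hbx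
            rwa [inv_mul_cancel_left] at this
          · left
            refine ⟨?_, hb⟩
            rw [hKmem, hkey]
            apply mul_mem (hcH x₀ b)
            exact hmulH _ _ (hsqN b) (hsqN x₀) hb hx₀
        rw [← Subgroup.card_mul_index K, hK2]
    -- the Fourier bound in `K`
    have hF4 := fourier_bound (H.subgroupOf K) (N.subgroupOf K)
      (fun x hx => by
        rw [Subgroup.mem_subgroupOf] at hx ⊢
        exact hHN hx)
      (fun x hx => by
        rw [Subgroup.mem_subgroupOf] at hx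
        rw [Subgroup.mem_center_iff]
        intro g
        apply Subtype.ext
        exact Subgroup.mem_center_iff.mp (hNZ hx) g)
      (fun t ht => by
        rw [Subgroup.mem_subgroupOf] at ht
        apply Subtype.ext
        exact (hNmem _).mp (hHN ht))
      (fun x => by
        rw [Subgroup.mem_subgroupOf]
        exact x.2)
      (fun x y => by
        rw [Subgroup.mem_subgroupOf]
        exact hcH x y)
    have hc1 : Nat.card (N.subgroupOf K) = Nat.card N :=
      Nat.card_congr (Subgroup.subgroupOfEquivOfLe hNK).toEquiv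
    have hc2 : Nat.card (H.subgroupOf K) = Nat.card H :=
      Nat.card_congr (Subgroup.subgroupOfEquivOfLe (hHN.trans hNK)).toEquiv
    have hc3 : Nat.card {x : K // x ^ 2 = 1} ≤ Nat.card N := by
      apply Nat.card_le_card_of_injective
        (fun x : {x : K // x ^ 2 = 1} => (⟨x.1.1, by
          rw [hNmem]
          have := congrArg Subtype.val x.2
          simpa using this⟩ : N))
      intro a b hab
      apply Subtype.ext
      apply Subtype.ext
      have h := congrArg (fun n : N => (n : G)) hab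
      exact h
    rw [hc1, hc2] at hF4
    have h5 : Nat.card K * Nat.card N ≤ Nat.card H ^ 2 * Nat.card N ^ 2 :=
      hF4.trans (Nat.mul_le_mul_left _ (Nat.pow_le_pow_left hc3 2))
    have h6 : Nat.card K ≤ Nat.card H ^ 2 * Nat.card N := by
      have h7 : Nat.card K * Nat.card N ≤ (Nat.card H ^ 2 * Nat.card N) * Nat.card N := by
        calc Nat.card K * Nat.card N ≤ Nat.card H ^ 2 * Nat.card N ^ 2 := h5
          _ = (Nat.card H ^ 2 * Nat.card N) * Nat.card N := by ring
      exact Nat.le_of_mul_le_mul_right h7 hNpos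
    -- arithmetic contradiction
    have h8 : Nat.card N ^ 3 = 4 * (Nat.card H ^ 2 * Nat.card N) := by
      rw [hcardH]
      ring
    have h9 : 2 * Nat.card G ≤ Nat.card N ^ 3 := by
      calc 2 * Nat.card G ≤ 2 * (Nat.card K * 2) := Nat.mul_le_mul_left _ hGK
        _ = 4 * Nat.card K := by ring
        _ ≤ 4 * (Nat.card H ^ 2 * Nat.card N) := Nat.mul_le_mul_left _ h6
        _ = Nat.card N ^ 3 := h8.symm
    have h10 : 0 < Nat.card G := Nat.card_pos
    omega
  exact ⟨hG, hfrN.trans hZN.symm, hderN.trans hZN.symm⟩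

end Cfsg.Agent.S3773
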