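import Mathlib
import Cfsg.Statements.S3774

set_option autoImplicit false
open Cfsg

namespace Cfsg.Agent.S3774

/-- If `2 ^ n - 1` divides `2 ^ g - 1` and `n ≥ 1` then `n` divides `g`. -/
theorem dvd_of_pow_sub_one_dvd {n g : ℕ} (hn : 1 ≤ n) (h : 2 ^ n - 1 ∣ 2 ^ g - 1) : n ∣ g := by
  have hdm := Nat.div_add_mod g n
  set m := g / n
  set r := g % n
  have hr : r < n := Nat.mod_lt g (by omega)
  have h1 : 2 ^ n - 1 ∣ (2 ^ n) ^ m - 1 := by
    have := Nat.sub_dvd_pow_sub_pow (x := 2 ^ n) (y := 1) (n := m)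
    rwa [one_pow] at this
  have h2 : 2 ^ g - 1 = 2 ^ r * ((2 ^ n) ^ m - 1) + (2 ^ r - 1) := by
    have h3 : 2 ^ g = 2 ^ r * (2 ^ n) ^ m := by
      rw [← pow_mul, ← pow_add, add_comm, hdm]
    have h4 : 1 ≤ (2 ^ n) ^ m := Nat.one_le_pow _ _ (by positivity)
    have h5 : 1 ≤ 2 ^ r := Nat.one_le_pow _ _ (by norm_num)
    rw [h3, Nat.mul_sub, mul_one]
    have h6 : 2 ^ r ≤ 2 ^ r * (2 ^ n) ^ m := Nat.le_mul_of_pos_right _ (by positivity)
    omega
  have h7 : 2 ^ n - 1 ∣ 2 ^ r - 1 := by
    rw [h2] at h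
    exact (Nat.dvd_add_right (Dvd.dvd.mul_left h1 _)).mp h
  have h8 : 2 ^ r - 1 < 2 ^ n - 1 := by
    have h9 : 2 ^ r < 2 ^ n := Nat.pow_lt_pow_right (by norm_num) hr
    have h5 : 1 ≤ 2 ^ r := Nat.one_le_pow _ _ (by norm_num)
    omega
  have h10 : 2 ^ r - 1 = 0 := Nat.eq_zero_of_dvd_of_lt h7 h8
  have h11 : r = 0 := by
    by_contra hne
    have : 2 ^ 1 ≤ 2 ^ r := Nat.pow_le_pow_right (by norm_num) (by omega)
    omega
  exact Nat.dvd_of_mod_eq_zero h11

/-- Let G be a nontrivial finite 2-group whose automorphism group permutes the involutions of G transitively. Then every involution of G is central, so that the involutions together with 1 form the subgroup Ω₁(Z(G)), and if this subgroup has order q then |G| is a power of q. -/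
theorem result {G : Type*} [Group G] [Finite G] [Nontrivial G] (hG : IsPGroup 2 G) (htrans : ∀ x y : G, x ≠ 1 → x ^ 2 = 1 → y ≠ 1 → y ^ 2 = 1 → ∃ a : MulAut G, a x = y) : (∀ x : G, x ^ 2 = 1 → x ∈ Subgroup.center G) ∧ ∃ m : ℕ, Nat.card G = Nat.card {z : G // z ^ 2 = 1} ^ m := by
  classical
  haveI : Fact (Nat.Prime 2) := ⟨Nat.prime_two⟩
  have hfin : Fintype G := Fintype.ofFinite G
  -- a central involution
  have hcen : Nontrivial (Subgroup.center G) := hG.center_nontrivial
  obtain ⟨⟨z, hz⟩, hz1⟩ := exists_ne (1 : Subgroup.center G)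
  have hz1' : z ≠ 1 := fun h => hz1 (Subtype.ext h)
  -- the involution attached to a non-identity element
  have hord : ∀ x : G, x ≠ 1 → ∃ k : ℕ, orderOf x = 2 ^ (k + 1) := by
    intro x hx
    obtain ⟨k, hk⟩ := (IsPGroup.iff_orderOf.mp hG) x
    cases k with
    | zero =>
      rw [pow_zero, orderOf_eq_one_iff] at hk
      exact absurd hk hx
    | succ k => exact ⟨k, hk⟩
  let f : G → G := fun x => x ^ (orderOf x / 2)
  have hf : ∀ x : G, x ≠ 1 → f x ≠ 1 ∧ f x ^ 2 = 1 := by
    intro x hx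
    obtain ⟨k, hk⟩ := hord x hx
    have h1 : orderOf x / 2 = 2 ^ k := by
      rw [hk, pow_succ, Nat.mul_div_cancel _ (by norm_num)]
    constructor
    · show x ^ (orderOf x / 2) ≠ 1
      rw [h1]
      apply pow_ne_one_of_lt_orderOf (by positivity)
      rw [hk]
      exact Nat.pow_lt_pow_right (by norm_num) (by omega)
    · show (x ^ (orderOf x / 2)) ^ 2 = 1
      rw [h1, ← pow_mul, ← pow_succ, ← hk]
      exact pow_orderOf_eq_one x
  have hfa : ∀ (a : MulAut G) (x : G), f (a x) = a (f x) := by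
    intro a x
    show (a x) ^ (orderOf (a x) / 2) = a (x ^ (orderOf x / 2))
    rw [MulEquiv.orderOf_eq, map_pow]
  have hz0 := hf z hz1'
  set z₀ := f z with hz₀
  have hz₀c : z₀ ∈ Subgroup.center G := Subgroup.pow_mem _ hz _
  -- all involutions are central
  have hpart1 : ∀ x : G, x ^ 2 = 1 → x ∈ Subgroup.center G := by
    intro x hx
    by_cases hx1 : x = 1
    · rw [hx1]
      exact Subgroup.one_mem _
    obtain ⟨a, ha⟩ := htrans z₀ x hz0.1 hz0.2 hx1 hx
    rw [Subgroup.mem_center_iff]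
    intro g
    have h1 := Subgroup.mem_center_iff.mp hz₀c (a.symm g)
    have h2 := congrArg a h1
    rw [map_mul, map_mul, ha, MulEquiv.apply_symm_apply] at h2
    exact h2
  refine ⟨hpart1, ?_⟩
  -- the subgroup of elements of square one
  let Ω : Subgroup G :=
    { carrier := {x | x ^ 2 = 1}
      one_mem' := one_pow 2
      mul_mem' := fun {a b} ha hb => by
        show (a * b) ^ 2 = 1
        have hc : Commute a b := (Subgroup.mem_center_iff.mp (hpart1 a ha) b).symm
        rw [hc.mul_pow, show a ^ 2 = 1 from ha, show b ^ 2 = 1 from hb, one_mul]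
      inv_mem' := fun {a} ha => by
        show a⁻¹ ^ 2 = 1
        rw [inv_pow, show a ^ 2 = 1 from ha, inv_one] }
  have hΩmem : ∀ x : G, x ∈ Ω ↔ x ^ 2 = 1 := fun x => Iff.rfl
  have hq : Nat.card {z : G // z ^ 2 = 1} = Nat.card Ω :=
    Nat.card_congr (Equiv.subtypeEquivRight fun x => (hΩmem x).symm)
  obtain ⟨n, hn⟩ := (hG.to_subgroup Ω).exists_card_eq
  obtain ⟨g, hg⟩ := hG.exists_card_eq
  have hn1 : 1 ≤ n := by
    by_contra hlt
    have hn0 : n = 0 := by omega
    rw [hn0, pow_zero] at hn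
    have hsub : Subsingleton Ω := (Nat.card_eq_one_iff_unique.mp hn).1
    have h1 : (⟨z₀, (hΩmem z₀).mpr hz0.2⟩ : Ω) = 1 := Subsingleton.elim _ _
    exact hz0.1 (congrArg Subtype.val h1)
  -- counting
  let I : Finset G := Finset.univ.filter (fun x => x ≠ 1 ∧ x ^ 2 = 1)
  let S : Finset G := Finset.univ.filter (fun x => x ≠ 1)
  have hSI : ∀ x ∈ S, f x ∈ I := by
    intro x hx
    have hx1 : x ≠ 1 := (Finset.mem_filter.mp hx).2
    exact Finset.mem_filter.mpr ⟨Finset.mem_univ _, hf x hx1⟩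
  have hcount := Finset.card_eq_sum_card_fiberwise hSI
  have hfib : ∀ t ∈ I, (S.filter (fun x => f x = t)).card = (S.filter (fun x => f x = z₀)).card := by
    intro t ht
    obtain ⟨ht1, ht2⟩ := (Finset.mem_filter.mp ht).2
    obtain ⟨a, ha⟩ := htrans z₀ t hz0.1 hz0.2 ht1 ht2
    symm
    apply Finset.card_bij (fun x _ => a x)
    · intro x hx
      obtain ⟨hxS, hxf⟩ := Finset.mem_filter.mp hx
      have hx1 : x ≠ 1 := (Finset.mem_filter.mp hxS).2
      refine Finset.mem_filter.mpr ⟨Finset.mem_filter.mpr ⟨Finset.mem_univ _, ?_⟩, ?_⟩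
      · intro h
        apply hx1
        have := congrArg a.symm h
        rwa [MulEquiv.symm_apply_apply, map_one] at this
      · rw [hfa, hxf, ha]
    · intro x _ y _ hxy
      exact a.injective hxy
    · intro y hy
      obtain ⟨hyS, hyf⟩ := Finset.mem_filter.mp hy
      have hy1 : y ≠ 1 := (Finset.mem_filter.mp hyS).2
      refine ⟨a.symm y, ?_, MulEquiv.apply_symm_apply a y⟩
      refine Finset.mem_filter.mpr ⟨Finset.mem_filter.mpr ⟨Finset.mem_univ _, ?_⟩, ?_⟩
      · intro h
        apply hy1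
        have := congrArg a h
        rwa [MulEquiv.apply_symm_apply, map_one] at this
      · rw [hfa, hyf]
        apply a.injective
        rw [MulEquiv.apply_symm_apply, ha]
  rw [Finset.sum_congr rfl hfib, Finset.sum_const, smul_eq_mul] at hcount
  have hScard : S.card + 1 = 2 ^ g := by
    rw [← hg, Nat.card_eq_fintype_card, ← Finset.card_univ]
    have h1 : (Finset.univ : Finset G) = insert 1 S := by
      ext x
      simp only [Finset.mem_univ, Finset.mem_insert, Finset.mem_filter, true_and, true_iff, S]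
      exact em (x = 1)
    rw [h1, Finset.card_insert_of_notMem]
    simp [S]
  have hIcard : I.card + 1 = 2 ^ n := by
    rw [← hn, Nat.card_eq_fintype_card, Fintype.card_subtype]
    have h1 : Finset.univ.filter (fun x : G => x ∈ Ω) = insert 1 I := by
      ext x
      simp only [Finset.mem_filter, Finset.mem_univ, true_and, Finset.mem_insert, I, hΩmem]
      constructor
      · intro h
        by_cases hx : x = 1
        · exact Or.inl hx
        · exact Or.inr ⟨hx, h⟩
      · rintro (rfl | ⟨-, h⟩)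
        · exact one_pow 2
        · exact h
    rw [h1, Finset.card_insert_of_notMem]
    simp [I]
  have hdvd : 2 ^ n - 1 ∣ 2 ^ g - 1 := by
    have h1 : 2 ^ n - 1 = I.card := by omega
    have h2 : 2 ^ g - 1 = S.card := by omega
    rw [h1, h2, hcount]
    exact Dvd.intro _ rfl
  obtain ⟨m, hm⟩ := dvd_of_pow_sub_one_dvd hn1 hdvd
  refine ⟨m, ?_⟩
  rw [hq, hn, hg, hm, pow_mul]

end Cfsg.Agent.S3774
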