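import Mathlib
import Cfsg.Statements.S3778
import Cfsg.Agent.S0662

set_option autoImplicit false
open Cfsg

namespace Cfsg.Agent.S3778

open scoped commutatorElement Pointwise

section
variable {G : Type*} [Group G]

/-- The centralizer in `G` of `L_j / L_{j+2}`. -/
def D (j : ℕ) : Subgroup G where
  carrier := {x | ∀ g ∈ (⊤ : Subgroup G).lowerCentralSeries j,
    ⁅x, g⁆ ∈ (⊤ : Subgroup G).lowerCentralSeries (j + 2)}
  one_mem' := by
    intro g _
    rw [commutatorElement_one_left]
    exact one_mem _
  mul_mem' := by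
    intro x y hx hy g hg
    have : ⁅x * y, g⁆ = (x * ⁅y, g⁆ * x⁻¹) * ⁅x, g⁆ := by
      simp only [commutatorElement_def]; group
    rw [this]
    exact mul_mem (Subgroup.Normal.conj_mem inferInstance _ (hy g hg) x) (hx g hg)
  inv_mem' := by
    intro x hx g hg
    have : ⁅x⁻¹, g⁆ = x⁻¹ * ⁅x, g⁆⁻¹ * x⁻¹⁻¹ := by
      simp only [commutatorElement_def]; group
    rw [this]
    exact Subgroup.Normal.conj_mem inferInstance _ (inv_mem (hx g hg)) x⁻¹

theorem mem_D {j : ℕ} {x : G} : x ∈ (D j : Subgroup G) ↔
    ∀ g ∈ (⊤ : Subgroup G).lowerCentralSeries j,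
      ⁅x, g⁆ ∈ (⊤ : Subgroup G).lowerCentralSeries (j + 2) := Iff.rfl

theorem D_ne_top [Group.IsNilpotent G] {j : ℕ}
    (h : (⊤ : Subgroup G).lowerCentralSeries (j + 1) ≠ ⊥) : (D j : Subgroup G) ≠ ⊤ := by
  intro htop
  have hle : (⊤ : Subgroup G).lowerCentralSeries (j + 1) ≤
      (⊤ : Subgroup G).lowerCentralSeries (j + 2) := by
    rw [Subgroup.lowerCentralSeries_succ, Subgroup.commutator_le]
    intro g hg x _
    have hx : x ∈ (D j : Subgroup G) := htop ▸ Subgroup.mem_top x
    have := inv_mem (hx g hg)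
    rwa [commutatorElement_inv] at this
  exact (lt_irrefl _ (lt_of_le_of_lt hle (Cfsg.Agent.S0662.lcs_lt h)))

theorem mem_D_of_le {j : ℕ} {x : G}
    (h : (⊤ : Subgroup G).lowerCentralSeries j ≤
      (⊤ : Subgroup G).lowerCentralSeries (j + 1) ⊔ Subgroup.centralizer ({x} : Set G)) :
    x ∈ (D j : Subgroup G) := by
  intro g hg
  have hg' : g ∈ (((⊤ : Subgroup G).lowerCentralSeries (j + 1) ⊔
      Subgroup.centralizer ({x} : Set G) : Subgroup G) : Set G) := h hg
  rw [Subgroup.normal_mul] at hg'
  obtain ⟨u, hu, z, hz, huz⟩ := hg'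
  have huz' : u * z = g := huz
  have hxz : x * z = z * x := (Subgroup.mem_centralizer_iff.mp hz) x rfl
  have hc : Commute x z := hxz
  have hcomm : ⁅x, g⁆ = ⁅x, u⁆ := by
    rw [← huz']
    simp only [commutatorElement_def, mul_inv_rev]
    calc x * (u * z) * x⁻¹ * (z⁻¹ * u⁻¹) = x * u * (z * x⁻¹) * z⁻¹ * u⁻¹ := by group
      _ = x * u * (x⁻¹ * z) * z⁻¹ * u⁻¹ := by rw [hc.inv_left.eq]
      _ = x * u * x⁻¹ * u⁻¹ := by group
  rw [hcomm]
  have h1 : ⁅u, x⁆ ∈ (⊤ : Subgroup G).lowerCentralSeries (j + 2) := by
    show ⁅u, x⁆ ∈ (⊤ : Subgroup G).lowerCentralSeries (j + 1 + 1)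
    rw [Subgroup.lowerCentralSeries_succ]
    exact Subgroup.commutator_mem_commutator hu (Subgroup.mem_top x)
  have := inv_mem h1
  rwa [commutatorElement_inv] at this

open scoped Classical in
theorem count_le [Finite G] {p : ℕ} [Fact p.Prime] (hG : IsPGroup p G) (x : G) (m : ℕ) :
    p ^ ((Finset.range m).filter (fun j => x ∉ (D j : Subgroup G))).card ≤
      ((⊤ : Subgroup G).lowerCentralSeries m ⊔ Subgroup.centralizer ({x} : Set G)).index := by
  classical
  have hp := (Fact.out : p.Prime)
  induction m with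
  | zero => simp
  | succ m ih =>
    have hle : (⊤ : Subgroup G).lowerCentralSeries (m + 1) ⊔ Subgroup.centralizer ({x} : Set G) ≤
        (⊤ : Subgroup G).lowerCentralSeries m ⊔ Subgroup.centralizer ({x} : Set G) :=
      sup_le_sup_right (Subgroup.lowerCentralSeries_antitone _ (Nat.le_succ m)) _
    have hmul := Subgroup.relIndex_mul_index hle
    have hne0 : ((⊤ : Subgroup G).lowerCentralSeries (m + 1) ⊔
        Subgroup.centralizer ({x} : Set G)).relIndex
        ((⊤ : Subgroup G).lowerCentralSeries m ⊔ Subgroup.centralizer ({x} : Set G)) ≠ 0 :=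
      Subgroup.FiniteIndex.index_ne_zero
    rw [Finset.range_add_one, Finset.filter_insert]
    by_cases hx : x ∈ (D m : Subgroup G)
    · rw [if_neg (not_not.mpr hx)]
      refine ih.trans ?_
      rw [← hmul]
      exact Nat.le_mul_of_pos_left _ (Nat.pos_of_ne_zero hne0)
    · rw [if_pos hx, Finset.card_insert_of_notMem (by simp), pow_succ]
      have hne1 : ((⊤ : Subgroup G).lowerCentralSeries (m + 1) ⊔
          Subgroup.centralizer ({x} : Set G)).relIndex
          ((⊤ : Subgroup G).lowerCentralSeries m ⊔ Subgroup.centralizer ({x} : Set G)) ≠ 1 := by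
        intro h1
        rw [Subgroup.relIndex_eq_one] at h1
        exact hx (mem_D_of_le (le_sup_left.trans h1))
      obtain ⟨n, hn⟩ := IsPGroup.iff_card.mp hG
      have hdvd : ((⊤ : Subgroup G).lowerCentralSeries (m + 1) ⊔
          Subgroup.centralizer ({x} : Set G)).relIndex
          ((⊤ : Subgroup G).lowerCentralSeries m ⊔ Subgroup.centralizer ({x} : Set G)) ∣ p ^ n := by
        rw [← hn]
        exact (Dvd.intro _ hmul).trans (Subgroup.index_dvd_card _)
      obtain ⟨e, -, he⟩ := (Nat.dvd_prime_pow hp).mp hdvd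
      have he0 : e ≠ 0 := by
        intro h0; rw [h0, pow_zero] at he; exact hne1 he
      have hp_le : p ≤ ((⊤ : Subgroup G).lowerCentralSeries (m + 1) ⊔
          Subgroup.centralizer ({x} : Set G)).relIndex
          ((⊤ : Subgroup G).lowerCentralSeries m ⊔ Subgroup.centralizer ({x} : Set G)) := by
        rw [he]
        calc p = p ^ 1 := (pow_one p).symm
          _ ≤ p ^ e := Nat.pow_le_pow_right hp.pos (Nat.one_le_iff_ne_zero.mpr he0)
      calc p ^ _ * p ≤ ((⊤ : Subgroup G).lowerCentralSeries m ⊔
            Subgroup.centralizer ({x} : Set G)).index * _ := Nat.mul_le_mul ih hp_le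
        _ = _ := by rw [← hmul, mul_comm]

end

/-- If G is a finite p-group in which every conjugacy class has at most p^b elements (every element has centralizer of index at most p^b), then G is abelian when b = 0, and when b ≥ 1 its nilpotency class c satisfies (c − 1)(p − 1) < bp, that is c < bp/(p − 1) + 1, and hence c ≤ 2b. -/
theorem result {G : Type*} [Group G] [Finite G] {p : ℕ} [Fact p.Prime] (hG : IsPGroup p G) (b : ℕ) (hb : ∀ x : G, (Subgroup.centralizer ({x} : Set G)).index ≤ p ^ b) : ∃ c : ℕ, (⊤ : Subgroup G).lowerCentralSeries c = ⊥ ∧ (b ≠ 0 → (c - 1) * (p - 1) < b * p ∧ c ≤ 2 * b) ∧ (b = 0 → c ≤ 1) := by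
  classical
  have hp := (Fact.out : p.Prime)
  haveI : Group.IsNilpotent G := hG.isNilpotent
  obtain ⟨c, hc⟩ : ∃ c, c = Group.nilpotencyClass G := ⟨_, rfl⟩
  have hLc : (⊤ : Subgroup G).lowerCentralSeries c = ⊥ := by
    rw [hc]; exact Subgroup.lowerCentralSeries_nilpotencyClass
  have hLne : ∀ j, j < c → (⊤ : Subgroup G).lowerCentralSeries j ≠ ⊥ := by
    intro j hj h
    rw [Subgroup.lowerCentralSeries_eq_bot_iff_nilpotencyClass_le] at h
    omega
  refine ⟨c, hLc, ?_, ?_⟩
  · intro hb0
    have hb1 : 1 ≤ b := Nat.one_le_iff_ne_zero.mpr hb0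
    by_cases hc2 : c ≤ 1
    · constructor
      · have : c - 1 = 0 := by omega
        rw [this, zero_mul]; exact Nat.mul_pos hb1 hp.pos
      · omega
    push Not at hc2
    haveI : Fintype G := Fintype.ofFinite G
    let cnt : G → ℕ := fun x =>
      ((Finset.range c).filter (fun j => x ∉ (D j : Subgroup G))).card
    have hcnt_le : ∀ x, cnt x ≤ b := by
      intro x
      have h1 := count_le hG x c
      rw [hLc, bot_sup_eq] at h1
      have h2 := h1.trans (hb x)
      exact (Nat.pow_le_pow_iff_right hp.one_lt).mp h2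
    have hcnt_one : cnt 1 = 0 := by
      simp only [cnt]
      rw [Finset.card_eq_zero, Finset.filter_eq_empty_iff]
      intro j _; simp [one_mem]
    have hsum_le : ∑ x : G, cnt x ≤ b * (Fintype.card G - 1) := by
      have h0 : ∑ x : G, cnt x = ∑ x ∈ Finset.univ.erase (1 : G), cnt x := by
        rw [← Finset.add_sum_erase _ _ (Finset.mem_univ (1 : G)), hcnt_one, zero_add]
      rw [h0]
      calc ∑ x ∈ Finset.univ.erase (1 : G), cnt x
          ≤ ∑ x ∈ Finset.univ.erase (1 : G), b := Finset.sum_le_sum (fun x _ => hcnt_le x)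
        _ = b * (Fintype.card G - 1) := by
          rw [Finset.sum_const, Finset.card_erase_of_mem (Finset.mem_univ _), Finset.card_univ,
            smul_eq_mul, mul_comm]
    have hswap : ∑ x : G, cnt x = ∑ j ∈ Finset.range c,
        (Finset.univ.filter (fun x : G => x ∉ (D j : Subgroup G))).card :=
      Finset.sum_card_bipartiteAbove_eq_sum_card_bipartiteBelow _
    have hDj : ∀ j, j + 1 < c → (p - 1) * Fintype.card G ≤
        p * (Finset.univ.filter (fun x : G => x ∉ (D j : Subgroup G))).card := by
      intro j hj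
      have hlt : (D j : Subgroup G) < ⊤ := lt_top_iff_ne_top.mpr (D_ne_top (hLne (j + 1) hj))
      have h1 := Cfsg.Agent.S0662.card_step hG hlt
      rw [Subgroup.card_top, Nat.card_eq_fintype_card (α := G)] at h1
      have h2 : (Finset.univ.filter (fun x : G => x ∈ (D j : Subgroup G))).card +
          (Finset.univ.filter (fun x : G => x ∉ (D j : Subgroup G))).card = Fintype.card G := by
        rw [Finset.card_filter_add_card_filter_not, Finset.card_univ]
      have h3 : (Finset.univ.filter (fun x : G => x ∈ (D j : Subgroup G))).card =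
          Nat.card (D j : Subgroup G) := by
        rw [Nat.card_eq_fintype_card, Fintype.card_subtype]
      rw [h3] at h2
      obtain ⟨q, rfl⟩ : ∃ q, p = q + 1 := ⟨p - 1, by have := hp.pos; omega⟩
      simp only [Nat.add_sub_cancel]
      have h4 : q * Nat.card (D j : Subgroup G) ≤
          (Finset.univ.filter (fun x : G => x ∉ (D j : Subgroup G))).card := by nlinarith
      nlinarith
    have hsum_ge : (c - 1) * ((p - 1) * Fintype.card G) ≤ p * ∑ x : G, cnt x := by
      rw [hswap, Finset.mul_sum]
      calc (c - 1) * ((p - 1) * Fintype.card G)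
          = ∑ j ∈ Finset.range (c - 1), (p - 1) * Fintype.card G := by
            rw [Finset.sum_const, Finset.card_range, smul_eq_mul]
        _ ≤ ∑ j ∈ Finset.range (c - 1),
              p * (Finset.univ.filter (fun x : G => x ∉ (D j : Subgroup G))).card :=
            Finset.sum_le_sum (fun j hj => hDj j (by have := Finset.mem_range.mp hj; omega))
        _ ≤ ∑ j ∈ Finset.range c,
              p * (Finset.univ.filter (fun x : G => x ∉ (D j : Subgroup G))).card :=
            Finset.sum_le_sum_of_subset (Finset.range_subset_range.mpr (Nat.sub_le _ _))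
    have hN : 0 < Fintype.card G := Fintype.card_pos
    have hfinal : (c - 1) * (p - 1) < b * p := by
      have h1 : (c - 1) * ((p - 1) * Fintype.card G) ≤ p * (b * (Fintype.card G - 1)) :=
        hsum_ge.trans (Nat.mul_le_mul_left _ hsum_le)
      by_contra hcon
      push Not at hcon
      have h2 : b * p * Fintype.card G ≤ (c - 1) * (p - 1) * Fintype.card G :=
        Nat.mul_le_mul_right _ hcon
      have h3 : p * (b * (Fintype.card G - 1)) < b * p * Fintype.card G := by
        have h4 : Fintype.card G - 1 < Fintype.card G := by omega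
        have h5 : 0 < b * p := Nat.mul_pos hb1 hp.pos
        calc p * (b * (Fintype.card G - 1)) = b * p * (Fintype.card G - 1) := by ring
          _ < b * p * Fintype.card G := (Nat.mul_lt_mul_left h5).mpr h4
      rw [← mul_assoc] at h1
      exact absurd (lt_of_le_of_lt (h2.trans h1) h3) (lt_irrefl _)
    refine ⟨hfinal, ?_⟩
    by_contra hcon
    push Not at hcon
    have h1 : 2 * b ≤ c - 1 := by omega
    have h2 : b * p ≤ 2 * b * (p - 1) := by
      obtain ⟨q, rfl⟩ : ∃ q, p = q + 2 := ⟨p - 2, by have := hp.two_le; omega⟩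
      have : q + 2 - 1 = q + 1 := rfl
      rw [this]
      nlinarith [Nat.zero_le (b * q)]
    have h3 : 2 * b * (p - 1) ≤ (c - 1) * (p - 1) := Nat.mul_le_mul_right _ h1
    exact absurd (lt_of_le_of_lt (h2.trans h3) hfinal) (lt_irrefl _)
  · intro hb0
    subst hb0
    rw [hc, ← Subgroup.lowerCentralSeries_eq_bot_iff_nilpotencyClass_le,
      Subgroup.top_lowerCentralSeries_one, commutator_def,
      Subgroup.commutator_eq_bot_iff_le_centralizer]
    intro x _
    rw [Subgroup.mem_centralizer_iff]
    intro y _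
    have h1 := hb y
    rw [pow_zero] at h1
    have h2 : (Subgroup.centralizer ({y} : Set G)).index = 1 := by
      have := Subgroup.FiniteIndex.index_ne_zero (H := Subgroup.centralizer ({y} : Set G))
      omega
    have h3 := Subgroup.index_eq_one.mp h2
    have : x ∈ Subgroup.centralizer ({y} : Set G) := h3 ▸ Subgroup.mem_top x
    exact (Subgroup.mem_centralizer_iff.mp this y rfl)

end Cfsg.Agent.S3778
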