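import Mathlib
import Cfsg.Statements.S3780

set_option autoImplicit false
open Cfsg

namespace Cfsg.Agent.S3780

section additive

variable {M : Type*} [AddCommGroup M]

/-- the chain of kernels -/
def KK (W : AddSubgroup M) (N : AddMonoid.End M) (i : ℕ) : AddSubgroup M where
  carrier := {w | w ∈ W ∧ (N ^ i) w = 0}
  zero_mem' := ⟨W.zero_mem, map_zero _⟩
  add_mem' := fun {a b} ha hb => ⟨W.add_mem ha.1 hb.1, by
    show (N ^ i) (a + b) = 0
    rw [map_add, ha.2, hb.2, add_zero]⟩
  neg_mem' := fun {a} ha => ⟨W.neg_mem ha.1, by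
    show (N ^ i) (-a) = 0
    rw [map_neg, ha.2, neg_zero]⟩

theorem mem_KK (W : AddSubgroup M) (N : AddMonoid.End M) (i : ℕ) (w : M) :
    w ∈ KK W N i ↔ w ∈ W ∧ (N ^ i) w = 0 := Iff.rfl

theorem pow_mem_W (W : AddSubgroup M) (N : AddMonoid.End M) (hNW : ∀ w ∈ W, N w ∈ W) (i : ℕ) :
    ∀ w ∈ W, (N ^ i) w ∈ W := by
  induction i with
  | zero => intro w hw; simpa using hw
  | succ i ih =>
    intro w hw
    rw [pow_succ']
    exact hNW _ (ih w hw)

theorem card_KK_succ_le [Finite M] (W : AddSubgroup M) (N : AddMonoid.End M)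
    (hNW : ∀ w ∈ W, N w ∈ W) (i : ℕ) :
    Nat.card (KK W N (i + 1)) ≤ Nat.card (KK W N i) * Nat.card (KK W N 1) := by
  classical
  -- the map N^i : K (i+1) → K 1
  let g : ↥(KK W N (i + 1)) →+ ↥(KK W N 1) :=
    { toFun := fun w => ⟨(N ^ i) (w : M), by
        have hw := (mem_KK W N (i + 1) w).mp w.2
        rw [mem_KK]
        refine ⟨pow_mem_W W N hNW i _ hw.1, ?_⟩
        have : (N ^ 1) ((N ^ i) (w : M)) = (N ^ (i + 1)) (w : M) := by
          rw [pow_succ' N i]; rfl
        rw [this]; exact hw.2⟩
      map_zero' := by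
        apply Subtype.ext
        simp
      map_add' := by
        intro a b
        apply Subtype.ext
        simp }
  have h1 := AddSubgroup.card_mul_index g.ker
  rw [AddSubgroup.index_ker] at h1
  have h2 : Nat.card g.range ≤ Nat.card (KK W N 1) := by
    exact Nat.card_le_card_of_injective (fun x : g.range => (x : ↥(KK W N 1)))
      Subtype.val_injective
  have h3 : Nat.card g.ker ≤ Nat.card (KK W N i) := by
    refine Nat.card_le_card_of_injective (fun x : g.ker => (⟨((x : ↥(KK W N (i + 1))) : M), ?_⟩ :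
      ↥(KK W N i))) ?_
    · have hx := x.2
      rw [AddMonoidHom.mem_ker] at hx
      have hx' : (N ^ i) ((x : ↥(KK W N (i + 1))) : M) = 0 := congrArg Subtype.val hx
      rw [mem_KK]
      exact ⟨((mem_KK W N (i + 1) _).mp (x : ↥(KK W N (i + 1))).2).1, hx'⟩
    · intro a b hab
      have : ((a : ↥(KK W N (i + 1))) : M) = ((b : ↥(KK W N (i + 1))) : M) :=
        congrArg (fun t : ↥(KK W N i) => (t : M)) hab
      exact Subtype.ext (Subtype.ext this)
  calc Nat.card (KK W N (i + 1)) = Nat.card g.ker * Nat.card g.range := h1.symm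
    _ ≤ Nat.card (KK W N i) * Nat.card (KK W N 1) := Nat.mul_le_mul h3 h2

theorem card_KK_le [Finite M] (W : AddSubgroup M) (N : AddMonoid.End M)
    (hNW : ∀ w ∈ W, N w ∈ W) (i : ℕ) :
    Nat.card (KK W N i) ≤ Nat.card (KK W N 1) ^ i := by
  induction i with
  | zero =>
    rw [pow_zero]
    have : KK W N 0 = ⊥ := by
      ext w
      rw [mem_KK, AddSubgroup.mem_bot]
      constructor
      · rintro ⟨_, h⟩
        simpa using h
      · rintro rfl
        exact ⟨W.zero_mem, by simp⟩
    rw [this, AddSubgroup.card_bot]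
  | succ i ih =>
    calc Nat.card (KK W N (i + 1)) ≤ Nat.card (KK W N i) * Nat.card (KK W N 1) :=
          card_KK_succ_le W N hNW i
      _ ≤ Nat.card (KK W N 1) ^ i * Nat.card (KK W N 1) := Nat.mul_le_mul_right _ ih
      _ = Nat.card (KK W N 1) ^ (i + 1) := (pow_succ _ _).symm

theorem card_W_le [Finite M] (p : ℕ) [Fact p.Prime] (f : AddMonoid.End M) (hf : f ^ p = 1) :
    Nat.card (nsmulAddMonoidHom (α := M) p).ker
      ≤ Nat.card (KK (nsmulAddMonoidHom (α := M) p).ker (f - 1) 1) ^ p := by
  have hpp : p.Prime := Fact.out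
  set W : AddSubgroup M := (nsmulAddMonoidHom (α := M) p).ker with hW
  set N : AddMonoid.End M := f - 1 with hN
  have hmemW : ∀ m : M, m ∈ W ↔ p • m = 0 := by
    intro m
    rw [hW, AddMonoidHom.mem_ker, nsmulAddMonoidHom_apply]
  have hNW : ∀ w ∈ W, N w ∈ W := by
    intro w hw
    rw [hmemW] at hw ⊢
    rw [← map_nsmul, hw, map_zero]
  have hN1 : (N + 1) ^ p = 1 := by rw [hN, sub_add_cancel]; exact hf
  have hnil : ∀ w ∈ W, (N ^ p) w = 0 := by
    intro w hw
    rw [hmemW] at hw
    obtain ⟨r, hr⟩ := (Commute.one_right N).exists_add_pow_prime_eq hpp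
    rw [hN1, one_pow] at hr
    have h1 : N ^ p = - ((p : AddMonoid.End M) * N * 1 * r) := by
      have h2 : N ^ p + 1 + (p : AddMonoid.End M) * N * 1 * r = 1 := hr.symm
      have : N ^ p + (p : AddMonoid.End M) * N * 1 * r = 0 := by
        have h3 : (N ^ p + (p : AddMonoid.End M) * N * 1 * r) + 1 = 0 + 1 := by
          rw [zero_add]
          calc (N ^ p + (p : AddMonoid.End M) * N * 1 * r) + 1
              = N ^ p + 1 + (p : AddMonoid.End M) * N * 1 * r := by abel
            _ = 1 := h2
        exact add_right_cancel h3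
      exact eq_neg_of_add_eq_zero_left this
    rw [h1]
    show -(((p : AddMonoid.End M) * N * 1 * r) w) = 0
    rw [neg_eq_zero]
    show p • (N ((1 : AddMonoid.End M) (r w))) = 0
    rw [← map_nsmul]
    show N (p • (r w)) = 0
    rw [← map_nsmul, hw, map_zero, map_zero]
  have hKp : KK W N p = W := by
    ext w
    rw [mem_KK]
    exact ⟨fun h => h.1, fun h => ⟨h, hnil w h⟩⟩
  calc Nat.card W = Nat.card (KK W N p) := by rw [hKp]
    _ ≤ Nat.card (KK W N 1) ^ p := card_KK_le W N hNW p

end additive

theorem exists_gen {V : Type*} [Group V] [Finite V] {p : ℕ} [Fact p.Prime] (hV : IsPGroup p V) :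
    ∀ (d : ℕ) (L : Subgroup V), Nat.card V ≤ p ^ d * Nat.card L →
      ∃ S : Finset V, S.card ≤ d ∧ L ⊔ Subgroup.closure (S : Set V) = ⊤ := by
  classical
  have hpp : p.Prime := Fact.out
  intro d
  induction d with
  | zero =>
    intro L hL
    rw [pow_zero, one_mul] at hL
    refine ⟨∅, le_refl _, ?_⟩
    have : L = ⊤ := Subgroup.eq_top_of_le_card L hL
    rw [this, top_sup_eq]
  | succ d ih =>
    intro L hL
    by_cases hLt : L = ⊤
    · exact ⟨∅, Nat.zero_le _, by rw [hLt, top_sup_eq]⟩
    · obtain ⟨s, hs⟩ : ∃ s : V, s ∉ L := by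
        by_contra hcon
        push_neg at hcon
        exact hLt (eq_top_iff.mpr fun x _ => hcon x)
      set L' := L ⊔ Subgroup.zpowers s with hL'
      have hlt : L < L' := by
        refine lt_of_le_of_ne le_sup_left ?_
        intro h
        apply hs
        rw [h]
        exact (le_sup_right : Subgroup.zpowers s ≤ L') (Subgroup.mem_zpowers s)
      obtain ⟨a, ha⟩ := IsPGroup.iff_card.mp (hV.to_subgroup L)
      obtain ⟨b, hb⟩ := IsPGroup.iff_card.mp (hV.to_subgroup L')
      have hab : a < b := by
        have hdvd : p ^ a ∣ p ^ b := by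
          rw [← ha, ← hb]; exact Subgroup.card_dvd_of_le hlt.le
        have hle : a ≤ b := (Nat.pow_dvd_pow_iff_le_right hpp.one_lt).mp hdvd
        rcases lt_or_eq_of_le hle with h | h
        · exact h
        · exfalso
          have : L = L' := Subgroup.eq_of_le_of_card_ge hlt.le (by rw [ha, hb, h])
          exact hlt.ne this
      have hcard : p * Nat.card L ≤ Nat.card L' := by
        rw [ha, hb, ← pow_succ']
        exact Nat.pow_le_pow_right hpp.pos hab
      have hV' : Nat.card V ≤ p ^ d * Nat.card L' := by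
        calc Nat.card V ≤ p ^ (d + 1) * Nat.card L := hL
          _ = p ^ d * (p * Nat.card L) := by ring
          _ ≤ p ^ d * Nat.card L' := Nat.mul_le_mul_left _ hcard
      obtain ⟨S', hS'c, hS'⟩ := ih L' hV'
      refine ⟨insert s S', (Finset.card_insert_le _ _).trans (by omega), ?_⟩
      rw [Finset.coe_insert, Set.insert_eq, Subgroup.closure_union, ← Subgroup.zpowers_eq_closure,
        ← sup_assoc]
      exact hS'

theorem eq_top_of_sup_pow {V : Type*} [CommGroup V] [Finite V] {p : ℕ} [Fact p.Prime]
    (hV : IsPGroup p V) (H : Subgroup V)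
    (h : (powMonoidHom p : V →* V).range ⊔ H = ⊤) : H = ⊤ := by
  have key : ∀ k : ℕ, ∀ v : V, ∃ u : V, ∃ y ∈ H, v = u ^ (p ^ k) * y := by
    intro k
    induction k with
    | zero => intro v; exact ⟨v, 1, H.one_mem, by simp⟩
    | succ k ih =>
      intro v
      obtain ⟨u, y, hy, rfl⟩ := ih v
      have hu : u ∈ (powMonoidHom p : V →* V).range ⊔ H := by rw [h]; exact Subgroup.mem_top u
      obtain ⟨w', hw', y', hy', rfl⟩ := Subgroup.mem_sup.mp hu
      obtain ⟨w, rfl⟩ := hw'
      refine ⟨w, y' ^ (p ^ k) * y, H.mul_mem (H.pow_mem hy' _) hy, ?_⟩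
      rw [powMonoidHom_apply, mul_pow, ← pow_mul, ← pow_succ', mul_assoc]
  obtain ⟨m, hm⟩ := IsPGroup.iff_card.mp hV
  rw [eq_top_iff]
  intro v _
  obtain ⟨u, y, hy, rfl⟩ := key m v
  have : u ^ (p ^ m) = 1 := by rw [← hm]; exact pow_card_eq_one'
  rw [this, one_mul]
  exact hy

/-- additive endomorphism attached to a multiplicative automorphism. -/
def Phi (V : Type*) [CommGroup V] : MulAut V →* AddMonoid.End (Additive V) where
  toFun b :=
    { toFun := fun m => Additive.ofMul (b (Additive.toMul m))
      map_zero' := by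
        show Additive.ofMul (b 1) = 0
        rw [map_one]; rfl
      map_add' := by
        intro m n
        show Additive.ofMul (b (Additive.toMul m * Additive.toMul n)) = _
        rw [map_mul]; rfl }
  map_one' := rfl
  map_mul' := fun _ _ => rfl

theorem Phi_apply (V : Type*) [CommGroup V] (b : MulAut V) (m : Additive V) :
    Phi V b m = Additive.ofMul (b (Additive.toMul m)) := rfl

/-- Let V be a finite abelian p-group and α an automorphism of V of order p whose fixed-point subgroup has order p^n. Then V can be generated by pn elements: some subset of V with at most pn elements generates V. -/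
theorem result {V : Type*} [CommGroup V] [Finite V] {p : ℕ} [Fact p.Prime] (hV : IsPGroup p V) (α : MulAut V) (hα : orderOf α = p) (n : ℕ) (hfix : Nat.card {v : V // α v = v} = p ^ n) : ∃ S : Finset V, S.card ≤ p * n ∧ Subgroup.closure (S : Set V) = ⊤ := by
  have hpp : p.Prime := Fact.out
  set f : AddMonoid.End (Additive V) := Phi V α with hf
  have hαp : α ^ p = 1 := by
    have := pow_orderOf_eq_one α
    rwa [hα] at this
  have hfp : f ^ p = 1 := by rw [hf, ← map_pow, hαp, map_one]
  have hW := card_W_le (M := Additive V) p f hfp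
  set W : AddSubgroup (Additive V) := (nsmulAddMonoidHom (α := Additive V) p).ker with hWdef
  -- card of the kernel of the p-power map
  set U : Subgroup V := (powMonoidHom p : V →* V).ker with hU
  have hUW : Nat.card U = Nat.card W := by
    apply Nat.card_congr
    refine Equiv.subtypeEquiv Additive.ofMul ?_
    intro v
    rw [hU, hWdef, MonoidHom.mem_ker, AddMonoidHom.mem_ker, powMonoidHom_apply,
      nsmulAddMonoidHom_apply]
    constructor
    · intro h
      rw [← ofMul_pow, h]; rfl
    · intro h
      have := congrArg Additive.toMul h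
      rwa [← ofMul_pow] at this
  have hK1 : Nat.card (KK W (f - 1) 1) ≤ p ^ n := by
    rw [← hfix]
    refine Nat.card_le_card_of_injective
      (fun w : ↥(KK W (f - 1) 1) => (⟨Additive.toMul (w : Additive V), ?_⟩ : {v : V // α v = v})) ?_
    · have hw := ((mem_KK W (f - 1) 1 w).mp w.2).2
      rw [pow_one] at hw
      have h2 : f (w : Additive V) - (w : Additive V) = 0 := hw
      have h3 : f (w : Additive V) = (w : Additive V) := sub_eq_zero.mp h2
      have h4 : Additive.ofMul (α (Additive.toMul (w : Additive V))) = (w : Additive V) := h3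
      exact congrArg Additive.toMul h4
    · intro a b hab
      have : Additive.toMul (a : Additive V) = Additive.toMul (b : Additive V) :=
        congrArg (fun t : {v : V // α v = v} => (t : V)) hab
      exact Subtype.ext (Additive.toMul.injective this)
  have hUle : Nat.card U ≤ p ^ (p * n) := by
    rw [hUW]
    calc Nat.card W ≤ Nat.card (KK W (f - 1) 1) ^ p := hW
      _ ≤ (p ^ n) ^ p := Nat.pow_le_pow_left hK1 p
      _ = p ^ (p * n) := by rw [← pow_mul, mul_comm]
  -- first isomorphism theorem
  have hcard : Nat.card V = Nat.card U * Nat.card (powMonoidHom p : V →* V).range := by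
    have h1 := Subgroup.card_mul_index U
    rw [hU, Subgroup.index_ker] at h1
    rw [hU]; exact h1.symm
  have hle : Nat.card V ≤ p ^ (p * n) * Nat.card (powMonoidHom p : V →* V).range := by
    rw [hcard]; exact Nat.mul_le_mul_right _ hUle
  obtain ⟨S, hSc, hS⟩ := exists_gen hV (p * n) _ hle
  exact ⟨S, hSc, eq_top_of_sup_pow hV _ hS⟩

end Cfsg.Agent.S3780
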