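import Mathlib
import Cfsg.Statements.S3781
import Cfsg.Agent.S3766
import Cfsg.Agent.Lib.Lead.Frattini

set_option autoImplicit false
open Cfsg

namespace Cfsg.Agent.S3781

open scoped commutatorElement
open Cfsg.Agent.Lib.Lead

section
variable {G : Type*} [Group G]

/-- iterated commutator with the whole group -/
def iterC (T : Subgroup G) : ℕ → Subgroup G
  | 0 => T
  | k + 1 => ⁅iterC T k, ⊤⁆

theorem iterC_normal (T : Subgroup G) [hT : T.Normal] (k : ℕ) : (iterC T k).Normal := by
  induction k with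
  | zero => exact hT
  | succ k ih =>
    haveI := ih
    show (⁅iterC T k, (⊤ : Subgroup G)⁆).Normal
    exact Subgroup.commutator_normal _ _

theorem iterC_mono {T T' : Subgroup G} (h : T ≤ T') (k : ℕ) : iterC T k ≤ iterC T' k := by
  induction k with
  | zero => exact h
  | succ k ih => exact Subgroup.commutator_mono ih le_rfl

theorem iterC_succ' (T : Subgroup G) (k : ℕ) : iterC T (k + 1) = iterC ⁅T, (⊤ : Subgroup G)⁆ k := by
  induction k with
  | zero => rfl
  | succ k ih =>
    show ⁅iterC T (k + 1), (⊤ : Subgroup G)⁆ = ⁅iterC ⁅T, (⊤ : Subgroup G)⁆ k, (⊤ : Subgroup G)⁆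
    rw [ih]

theorem iterC_le (T : Subgroup G) [hT : T.Normal] (k : ℕ) : iterC T k ≤ T := by
  induction k with
  | zero => exact le_rfl
  | succ k ih =>
    haveI := iterC_normal T k
    exact (Subgroup.commutator_le_left _ _).trans ih

/-- three subgroups lemma modulo a normal subgroup -/
theorem three_sub_mod (N : Subgroup G) [N.Normal] (A B C : Subgroup G)
    (h1 : ⁅⁅B, C⁆, A⁆ ≤ N) (h2 : ⁅⁅C, A⁆, B⁆ ≤ N) : ⁅⁅A, B⁆, C⁆ ≤ N := by
  have key : ∀ X : Subgroup G, X ≤ N ↔ X.map (QuotientGroup.mk' N) = ⊥ := by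
    intro X
    rw [Subgroup.map_eq_bot_iff, QuotientGroup.ker_mk']
  rw [key] at h1 h2 ⊢
  rw [Subgroup.map_commutator, Subgroup.map_commutator] at h1 h2 ⊢
  exact Subgroup.commutator_commutator_eq_bot_of_rotate h1 h2

theorem commutator_iterC_lcs (T : Subgroup G) [T.Normal] : ∀ (i j : ℕ),
    ⁅iterC T j, (⊤ : Subgroup G).lowerCentralSeries i⁆ ≤ iterC T (j + i + 1) := by
  intro i
  induction i with
  | zero =>
    intro j
    rw [Subgroup.lowerCentralSeries_zero]
    exact le_rfl
  | succ i ih =>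
    intro j
    rw [Subgroup.lowerCentralSeries_succ, Subgroup.commutator_comm]
    haveI := iterC_normal T (j + (i + 1) + 1)
    apply three_sub_mod _ ((⊤ : Subgroup G).lowerCentralSeries i) ⊤ (iterC T j)
    · rw [Subgroup.commutator_comm ⊤ (iterC T j)]
      have h1 := ih (j + 1)
      have h2 : j + 1 + i + 1 = j + (i + 1) + 1 := by omega
      rw [h2] at h1
      exact h1
    · have h1 : ⁅⁅iterC T j, (⊤ : Subgroup G).lowerCentralSeries i⁆, (⊤ : Subgroup G)⁆
          ≤ ⁅iterC T (j + i + 1), (⊤ : Subgroup G)⁆ := Subgroup.commutator_mono (ih j) le_rfl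
      exact h1

theorem le_of_sup_commutator_eq [hnil : Group.IsNilpotent G] {T M : Subgroup G} [M.Normal]
    (h : M ⊔ ⁅T, (⊤ : Subgroup G)⁆ = T) : T ≤ M := by
  have key : ∀ j : ℕ, T ≤ M ⊔ (⊤ : Subgroup G).lowerCentralSeries j := by
    intro j
    induction j with
    | zero =>
      rw [Subgroup.lowerCentralSeries_zero]
      exact le_sup_of_le_right le_top
    | succ j ih =>
      rw [Subgroup.lowerCentralSeries_succ]
      calc T = M ⊔ ⁅T, (⊤ : Subgroup G)⁆ := h.symm
        _ ≤ M ⊔ ⁅M ⊔ (⊤ : Subgroup G).lowerCentralSeries j, (⊤ : Subgroup G)⁆ :=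
          sup_le_sup_left (Subgroup.commutator_mono ih le_rfl) M
        _ ≤ M ⊔ (M ⊔ ⁅(⊤ : Subgroup G).lowerCentralSeries j, (⊤ : Subgroup G)⁆) :=
          sup_le_sup_left (Cfsg.Agent.S3766.sup_commutator_le M _ ⊤) M
        _ = M ⊔ ⁅(⊤ : Subgroup G).lowerCentralSeries j, (⊤ : Subgroup G)⁆ := by
          rw [← sup_assoc, sup_idem]
  obtain ⟨n, hn⟩ := Subgroup.nilpotent_iff_lowerCentralSeries.mp hnil
  have := key n
  rwa [hn, sup_bot_eq] at this

end

section
variable {G : Type*} [Group G] [Finite G] {p : ℕ} [Fact p.Prime]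

theorem relIndex_pow (hG : IsPGroup p G) (A B : Subgroup G) : ∃ a : ℕ, A.relIndex B = p ^ a := by
  obtain ⟨b, hb⟩ := (hG.to_subgroup B).exists_card_eq
  have h1 : A.relIndex B ∣ p ^ b := hb ▸ Subgroup.relIndex_dvd_card A B
  obtain ⟨a, -, ha⟩ := (Nat.dvd_prime_pow Fact.out).mp h1
  exact ⟨a, ha⟩

theorem iterC_le_of_relIndex_le (hG : IsPGroup p G) : ∀ (k : ℕ) (T M : Subgroup G),
    T.Normal → M.Normal → M ≤ T → M.relIndex T ≤ p ^ k → iterC T k ≤ M := by
  haveI : Group.IsNilpotent G := hG.isNilpotent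
  have hp : p.Prime := Fact.out
  intro k
  induction k with
  | zero =>
    intro T M _ _ hMT hle
    rw [pow_zero] at hle
    have h1 : M.relIndex T = 1 := by
      have : M.relIndex T ≠ 0 := by
        intro h0
        have h2 := Subgroup.relIndex_dvd_card M T
        rw [h0, zero_dvd_iff] at h2
        exact Nat.card_pos.ne' h2
      omega
    exact Subgroup.relIndex_eq_one.mp h1
  | succ k ih =>
    intro T M hT hM hMT hle
    by_cases hTM : T ≤ M
    · exact (iterC_le T (k + 1)).trans hTM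
    · set T₁ : Subgroup G := M ⊔ ⁅T, (⊤ : Subgroup G)⁆ with hT₁
      have hT₁n : T₁.Normal := by
        haveI : (⁅T, (⊤ : Subgroup G)⁆).Normal := Subgroup.commutator_normal _ _
        exact Subgroup.sup_normal _ _
      have hT₁T : T₁ ≤ T := sup_le hMT (Subgroup.commutator_le_left _ _)
      have hne : T₁ ≠ T := fun h => hTM (le_of_sup_commutator_eq h)
      have hri : T₁.relIndex T ≠ 1 := by
        intro h
        exact hne (le_antisymm hT₁T (Subgroup.relIndex_eq_one.mp h))
      obtain ⟨a, ha⟩ := relIndex_pow hG T₁ T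
      have ha1 : p ≤ T₁.relIndex T := by
        rw [ha]
        cases a with
        | zero => rw [ha, pow_zero] at hri; exact absurd rfl hri
        | succ a =>
          calc p = p ^ 1 := (pow_one p).symm
            _ ≤ p ^ (a + 1) := Nat.pow_le_pow_right hp.pos (by omega)
      have hmul := Subgroup.relIndex_mul_relIndex M T₁ T le_sup_left hT₁T
      have h2 : M.relIndex T₁ ≤ p ^ k := by
        have h3 : M.relIndex T₁ * p ≤ p ^ k * p := by
          calc M.relIndex T₁ * p ≤ M.relIndex T₁ * T₁.relIndex T := Nat.mul_le_mul_left _ ha1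
            _ = M.relIndex T := hmul
            _ ≤ p ^ (k + 1) := hle
            _ = p ^ k * p := pow_succ p k
        exact Nat.le_of_mul_le_mul_right h3 hp.pos
      have h4 := ih T₁ M hT₁n hM le_sup_left h2
      rw [iterC_succ']
      exact (iterC_mono le_sup_right k).trans h4

theorem exists_normal_relIndex_eq (hG : IsPGroup p G) (S : Subgroup G) [hS : S.Normal] (hne : S ≠ ⊥) :
    ∃ M : Subgroup G, M.Normal ∧ M ≤ S ∧ M.relIndex S = p := by
  haveI : Group.IsNilpotent G := hG.isNilpotent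
  set S₁ : Subgroup G := ⁅S, (⊤ : Subgroup G)⁆ with hS₁
  have hS₁S : S₁ ≤ S := Subgroup.commutator_le_left _ _
  have hnetop : S₁.subgroupOf S ≠ ⊤ := by
    intro h
    rw [Subgroup.subgroupOf_eq_top] at h
    apply hne
    have h1 : (⊥ : Subgroup G) ⊔ ⁅S, (⊤ : Subgroup G)⁆ = S := by
      rw [bot_sup_eq]
      exact le_antisymm hS₁S h
    exact le_bot_iff.mp (le_of_sup_commutator_eq h1)
  obtain ⟨M₀, hM₀, hle⟩ := (eq_top_or_exists_le_coatom (S₁.subgroupOf S)).resolve_left hnetop
  have hMi : M₀.index = p := (coatom_normal_index_of_isPGroup (hG.to_subgroup S) hM₀).2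
  refine ⟨M₀.map S.subtype, ?_, Subgroup.map_subtype_le M₀, ?_⟩
  · constructor
    intro m hm g
    have hmS : m ∈ S := Subgroup.map_subtype_le M₀ hm
    have h1 : g * m * g⁻¹ = ⁅g, m⁆ * m := by
      rw [commutatorElement_def]
      group
    rw [h1]
    apply Subgroup.mul_mem _ _ hm
    have h2 : ⁅g, m⁆ ∈ S₁ := by
      rw [hS₁, Subgroup.commutator_comm]
      exact Subgroup.commutator_mem_commutator (Subgroup.mem_top g) hmS
    have h3 : (⟨⁅g, m⁆, hS₁S h2⟩ : S) ∈ M₀ := hle (Subgroup.mem_subgroupOf.mpr h2)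
    exact Subgroup.mem_map.mpr ⟨_, h3, rfl⟩
  · rw [Subgroup.relIndex, Subgroup.subgroupOf,
      Subgroup.comap_map_eq_self_of_injective S.subtype_injective, hMi]

end

/-- Let G be a finite p-group and n ≥ 1, and write γ_1(G) = G, γ_{k+1}(G) = [γ_k(G), G], and likewise γ_k(N) for a subgroup N. Let N be a normal subgroup of G contained in γ_n(G). If i > 1 and γ_{i+1}(N) ≠ 1, then |γ_i(N) : γ_{i+1}(N)| ≥ p^n. -/
theorem result {G : Type*} [Group G] [Finite G] {p : ℕ} [Fact p.Prime] (hG : IsPGroup p G) (n : ℕ) (hn : 1 ≤ n) (N : Subgroup G) [N.Normal] (hN : N ≤ (⊤ : Subgroup G).lowerCentralSeries (n - 1)) (i : ℕ) (hi : 1 < i) (hne : N.lowerCentralSeries i ≠ ⊥) : p ^ n ≤ (N.lowerCentralSeries i).relIndex (N.lowerCentralSeries (i - 1)) := by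
  classical
  have hp : p.Prime := Fact.out
  by_contra hlt
  push Not at hlt
  have hi1 : i - 1 + 1 = i := by omega
  -- the terms of the lower central series of `N` are normal in `G`
  have hnorm : ∀ j : ℕ, (N.lowerCentralSeries j).Normal := by
    intro j
    induction j with
    | zero => exact ‹N.Normal›
    | succ j ih =>
      haveI := ih
      rw [Subgroup.lowerCentralSeries_succ]
      exact Subgroup.commutator_normal _ _
  set T : Subgroup G := N.lowerCentralSeries (i - 1) with hT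
  set S : Subgroup G := N.lowerCentralSeries i with hS
  haveI hTn : T.Normal := hnorm _
  haveI hSn : S.Normal := hnorm _
  have hST : S ≤ T := Subgroup.lowerCentralSeries_antitone N (by omega)
  have hSeq : S = ⁅T, N⁆ := by
    rw [hS, hT, ← Subgroup.lowerCentralSeries_succ, hi1]
  obtain ⟨a, ha⟩ := relIndex_pow hG S T
  have han : a + 1 ≤ n := by
    rw [ha] at hlt
    have := (Nat.pow_lt_pow_iff_right hp.one_lt).mp hlt
    omega
  obtain ⟨M, hMn, hMS, hMi⟩ := exists_normal_relIndex_eq hG S hne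
  have hMT : M.relIndex T ≤ p ^ n := by
    rw [← Subgroup.relIndex_mul_relIndex M S T hMS hST, hMi, ha, ← pow_succ']
    exact Nat.pow_le_pow_right hp.pos han
  have h1 : iterC T n ≤ M := iterC_le_of_relIndex_le hG n T M hTn hMn (hMS.trans hST) hMT
  have h2 := commutator_iterC_lcs T (n - 1) 0
  have h3 : 0 + (n - 1) + 1 = n := by omega
  rw [h3] at h2
  have h4 : S ≤ M := by
    rw [hSeq]
    calc ⁅T, N⁆ ≤ ⁅T, (⊤ : Subgroup G).lowerCentralSeries (n - 1)⁆ := Subgroup.commutator_mono le_rfl hN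
      _ = ⁅iterC T 0, (⊤ : Subgroup G).lowerCentralSeries (n - 1)⁆ := rfl
      _ ≤ iterC T n := h2
      _ ≤ M := h1
  have h5 : M.relIndex S = 1 := Subgroup.relIndex_eq_one.mpr h4
  rw [hMi] at h5
  exact hp.one_lt.ne' h5

end Cfsg.Agent.S3781
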