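import Cfsg.Statements.S3782
-- import your own Cfsg.Agent.* helpers here
import Cfsg.Agent.Lib.Helper2.AlpDefs
import Cfsg.Agent.Lib.Helper7.AlpGA2
import Cfsg.Agent.Lib.Helper5.AlpGB
import Cfsg.Agent.Lib.Helper9.AlpGC
import Cfsg.Agent.Lib.Helper6.AlpGP
import Cfsg.Agent.Lib.Lead.AlpGE

set_option autoImplicit false
open Cfsg

namespace Cfsg.Agent.S3782

/-- Alperin's Theorem: for each prime p and each n ≥ 0 there is an integer l such that every finite solvable group admitting an automorphism of order p with exactly p^n fixed points has derived length at most l. -/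
theorem result (p : ℕ) (hp : p.Prime) (n : ℕ) : ∃ l : ℕ, ∀ (G : Type) [Group G] [Finite G], Group.IsSolvable G → ∀ α : MulAut G, orderOf α = p → Nat.card {g : G // α g = g} = p ^ n → derivedSeries G l = ⊥ := by
  have : Fact p.Prime := ⟨hp⟩
  refine Cfsg.Agent.Lib.Lead.AlpGE.solvable_bound_of p n
    (Cfsg.Agent.Lib.Helper6.AlpGP.pgroup_bound_of p n ?_ ?_)
  · intro P _ _ hP α hαp hfix s hs
    exact Cfsg.Agent.Lib.Helper5.AlpGB.agemo_nilpotent_of
      Cfsg.Agent.Lib.Helper7.AlpGA.l3Statement hP α hαp n hfix s hs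
  · intro Q _ _ hQ α hαp hfix s hexp
    exact Cfsg.Agent.Lib.Helper9.AlpGC.card_le_of_exponent_group hQ α hαp n hfix s hexp

end Cfsg.Agent.S3782
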