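import Cfsg.Statements.S3784
import Mathlib

set_option autoImplicit false
open Cfsg

namespace Cfsg.Agent.S3784

lemma lemA (r : ℕ) (hr : Even r) : ∀ k : ℕ, ∃ S : ℕ, Odd S ∧ (r + 1) ^ (2 * k + 1) = r * S + 1 := by
  intro k
  induction k with
  | zero => exact ⟨1, odd_one, by ring⟩
  | succ k ih =>
    obtain ⟨S, hS, h⟩ := ih
    refine ⟨(r + 1) ^ 2 * S + (r + 2), ?_, ?_⟩
    · have h1 : Odd ((r + 1) ^ 2 * S) := ((hr.add_one).pow).mul hS
      have h2 : Even (r + 2) := hr.add even_two
      exact h1.add_even h2
    · have : (r + 1) ^ (2 * (k + 1) + 1) = (r + 1) ^ 2 * (r + 1) ^ (2 * k + 1) := by ring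
      rw [this, h]; ring

lemma lemB (r : ℕ) (hr : Even r) : ∀ k : ℕ, ∃ T : ℕ, Odd T ∧ (r + 1) ^ (2 * k + 1) + 1 = (r + 2) * T := by
  intro k
  induction k with
  | zero => exact ⟨1, odd_one, by ring⟩
  | succ k ih =>
    obtain ⟨T, hT, h⟩ := ih
    have hTpos : 1 ≤ T := hT.pos
    have hle : r ≤ (r + 1) ^ 2 * T := by nlinarith
    have hT' : (r + 1) ^ 2 * T - r + r = (r + 1) ^ 2 * T := Nat.sub_add_cancel hle
    refine ⟨(r + 1) ^ 2 * T - r, ?_, ?_⟩
    · have h1 : Odd ((r + 1) ^ 2 * T) := ((hr.add_one).pow).mul hT
      rw [← hT'] at h1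
      rcases Nat.even_or_odd ((r + 1) ^ 2 * T - r) with he | ho
      · exact absurd (he.add hr) (Nat.not_even_iff_odd.mpr h1)
      · exact ho
    · zify at hT' h ⊢
      have h1 : ((((r + 1) ^ 2 * T - r : ℕ)) : ℤ) + r = ((r : ℤ) + 1) ^ 2 * T := by exact_mod_cast hT'
      have e : ((r : ℤ) + 1) ^ (2 * (k + 1) + 1) = (r + 1) ^ 2 * (r + 1) ^ (2 * k + 1) := by ring
      rw [e]
      linear_combination ((r : ℤ) + 1) ^ 2 * h - ((r : ℤ) + 2) * h1

lemma odd_dvd_two_pow (T n : ℕ) (hT : Odd T) (h : T ∣ 2 ^ n) : T = 1 := by
  obtain ⟨i, -, rfl⟩ := (Nat.dvd_prime_pow Nat.prime_two).mp h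
  rcases Nat.eq_zero_or_pos i with rfl | hi
  · rfl
  · exfalso
    have : Even (2 ^ i) := (Nat.even_pow' hi.ne').mpr even_two
    exact (Nat.not_even_iff_odd.mpr hT) this

theorem result (p q a b : ℕ) (hp : p.Prime) (hq : q.Prime) (ha : 1 ≤ a) (hb : 1 ≤ b) (h : p ^ a = q ^ b + 1) : (p = 2 ∧ b = 1 ∧ a.Prime ∧ q + 1 = 2 ^ a) ∨ (q = 2 ∧ a = 1 ∧ (∃ m : ℕ, b = 2 ^ m) ∧ p = 2 ^ b + 1) ∨ (p ^ a = 9 ∧ q ^ b = 8) := by
  rcases hp.eq_two_or_odd' with rfl | hpodd
  · -- p = 2
    have hqodd : Odd q := by
      rcases hq.eq_two_or_odd' with rfl | ho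
      · exfalso
        have h1 : Even (2 ^ a) := (Nat.even_pow' (by omega)).mpr even_two
        have h2 : Even (2 ^ b) := (Nat.even_pow' (by omega)).mpr even_two
        rw [h] at h1
        have := (Nat.even_add_one.mp h1)
        exact this h2
      · exact ho
    rcases Nat.lt_or_ge b 2 with hb1 | hb2
    · have hb1 : b = 1 := by omega
      subst hb1
      rw [pow_one] at h
      left
      refine ⟨rfl, rfl, ?_, h.symm⟩
      have hq' : (2 ^ a - 1).Prime := by
        have : 2 ^ a - 1 = q := by omega
        rw [this]; exact hq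
      have ha1 : a ≠ 1 := by
        rintro rfl
        have : q = 1 := by omega
        exact hq.one_lt.ne' this
      exact (Nat.prime_of_pow_sub_one_prime ha1 hq').2
    · exfalso
      rcases Nat.even_or_odd b with ⟨c, hc⟩ | ⟨k, hk⟩
      · -- b even
        have hqc : Odd (q ^ c) := hqodd.pow
        have h4 : (q ^ b) % 4 = 1 := by
          have : q ^ b = (q ^ c) ^ 2 := by rw [hc, ← two_mul, mul_comm, pow_mul]
          rw [this]
          obtain ⟨u, hu⟩ := hqc
          rw [hu]
          have : (2 * u + 1) ^ 2 = 4 * (u * u + u) + 1 := by ring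
          rw [this]; omega
        rcases Nat.lt_or_ge a 2 with ha1 | ha2
        · have : a = 1 := by omega
          subst this
          have : q ^ b = 1 := by omega
          have hqb : 2 ≤ q ^ b := by
            calc 2 ≤ q := hq.two_le
              _ = q ^ 1 := (pow_one q).symm
              _ ≤ q ^ b := Nat.pow_le_pow_right hq.pos hb
          omega
        · have : 2 ^ a = 4 * 2 ^ (a - 2) := by
            have : a = 2 + (a - 2) := by omega
            rw [this, pow_add]; norm_num
          omega
      · -- b odd
        obtain ⟨r, hr⟩ : ∃ r, q = r + 1 := ⟨q - 1, by have := hq.pos; omega⟩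
        have hreven : Even r := by
          rw [hr] at hqodd
          rcases Nat.even_or_odd r with he | ho
          · exact he
          · exact absurd (ho.add_one) (Nat.not_even_iff_odd.mpr hqodd)
        obtain ⟨T, hT, hTeq⟩ := lemB r hreven k
        rw [← hr, ← hk] at hTeq
        have hTd : T ∣ 2 ^ a := by rw [h, hTeq]; exact Dvd.intro_left _ rfl
        have hT1 := odd_dvd_two_pow T a hT hTd
        rw [hT1, mul_one] at hTeq
        have hqq : q ^ b = q ^ 1 := by rw [pow_one]; omega
        have := Nat.pow_right_injective hq.two_le hqq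
        omega
  · -- p odd, so q = 2
    have hq2 : q = 2 := by
      rcases hq.eq_two_or_odd' with rfl | ho
      · rfl
      · exfalso
        have h1 : Odd (p ^ a) := hpodd.pow
        have h2 : Odd (q ^ b) := ho.pow
        rw [h] at h1
        exact (Nat.not_even_iff_odd.mpr h1) (h2.add_one)
    subst hq2
    rcases Nat.lt_or_ge a 2 with ha1 | ha2
    · have ha1 : a = 1 := by omega
      subst ha1
      rw [pow_one] at h
      right; left
      refine ⟨rfl, rfl, ?_, h⟩
      apply Nat.pow_of_pow_add_prime (a := 2) (by norm_num) (by omega)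
      rw [← h]; exact hp
    · rcases Nat.even_or_odd a with ⟨c, hc⟩ | ⟨k, hk⟩
      · -- a even
        right; right
        have hc1 : 1 ≤ c := by omega
        set x := p ^ c with hx
        have hxx : x ^ 2 = 2 ^ b + 1 := by
          rw [hx, ← pow_mul, ← h, hc]; ring_nf
        have hx3 : 3 ≤ x := by
          have hp3 : 3 ≤ p := by
            have := hp.two_le
            rcases hpodd with ⟨u, hu⟩
            omega
          calc 3 ≤ p := hp3
            _ = p ^ 1 := (pow_one p).symm
            _ ≤ p ^ c := Nat.pow_le_pow_right hp.pos hc1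
        have hprod : (x - 1) * (x + 1) = 2 ^ b := by
          have : (x - 1) * (x + 1) + 1 = x ^ 2 := by
            obtain ⟨y, hy⟩ : ∃ y, x = y + 1 := ⟨x - 1, by omega⟩
            rw [hy]; simp only [Nat.add_sub_cancel]; ring
          omega
        obtain ⟨i, -, hi⟩ := (Nat.dvd_prime_pow Nat.prime_two).mp (Dvd.intro _ hprod)
        obtain ⟨j, -, hj⟩ := (Nat.dvd_prime_pow Nat.prime_two).mp (Dvd.intro_left _ hprod)
        have hij : 2 ^ i + 2 = 2 ^ j := by omega
        have hi1 : i = 1 := by
          rcases Nat.lt_or_ge i 2 with hi2 | hi2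
          · interval_cases i
            · exfalso
              -- 3 = 2^j
              rcases Nat.eq_zero_or_pos j with rfl | hjpos
              · simp at hij
              · have : Even (2 ^ j) := (Nat.even_pow' hjpos.ne').mpr even_two
                rw [← hij] at this
                revert this; decide
            · rfl
          · exfalso
            have e1 : 2 ^ i = 4 * 2 ^ (i - 2) := by
              have : i = 2 + (i - 2) := by omega
              rw [this, pow_add]; norm_num
            have hj2 : 2 ≤ j := by
              by_contra hlt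
              have : j = 0 ∨ j = 1 := by omega
              rcases this with rfl | rfl <;> simp at hij <;> omega
            have e2 : 2 ^ j = 4 * 2 ^ (j - 2) := by
              have : j = 2 + (j - 2) := by omega
              rw [this, pow_add]; norm_num
            omega
        subst hi1
        have hx3' : x = 3 := by norm_num at hi; omega
        have hp3 : p = 3 := by
          have : p ∣ 3 := by
            rw [← hx3', hx]; exact dvd_pow_self p (by omega)
          exact (Nat.prime_dvd_prime_iff_eq hp Nat.prime_three).mp this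
        constructor
        · rw [h, ← hprod, hx3']
        · rw [← hprod, hx3']
      · -- a odd
        exfalso
        obtain ⟨r, hr⟩ : ∃ r, p = r + 1 := ⟨p - 1, by have := hp.pos; omega⟩
        have hreven : Even r := by
          rw [hr] at hpodd
          rcases Nat.even_or_odd r with he | ho
          · exact he
          · exact absurd (ho.add_one) (Nat.not_even_iff_odd.mpr hpodd)
        obtain ⟨S, hS, hSeq⟩ := lemA r hreven k
        rw [← hr, ← hk] at hSeq
        have hSd : S ∣ 2 ^ b := by
          have : r * S = 2 ^ b := by omega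
          rw [← this]; exact Dvd.intro_left _ rfl
        have hS1 := odd_dvd_two_pow S b hS hSd
        rw [hS1, mul_one] at hSeq
        have hpp : p ^ a = p ^ 1 := by rw [pow_one]; omega
        have := Nat.pow_right_injective hp.two_le hpp
        omega

end Cfsg.Agent.S3784
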