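import Mathlib
import Cfsg.Statements.S3785
import Cfsg.Agent.S3766
import Cfsg.Agent.Lib.Lead.Core
import Cfsg.Agent.Lib.Lead.HallThm
import Cfsg.Agent.Lib.Lead.HallTools
import Cfsg.Agent.Lib.Helper4.OmegaGen

set_option autoImplicit false
open Cfsg

namespace Cfsg.Agent.S3785

open Cfsg.Agent.Lib.Lead

/-- a solvable group in which the elements of prime order of the (odd order) Fitting subgroup
are central is nilpotent -/
theorem fitting_eq_top {H : Type*} [Group H] [Finite H] (hsolv : Group.IsSolvable H)
    (hodd : Odd (Nat.card (Cfsg.fittingSubgroup H)))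
    (hcen : ∀ x ∈ Cfsg.fittingSubgroup H, (orderOf x).Prime → ∀ h : H, h * x = x * h) :
    Cfsg.fittingSubgroup H = ⊤ := by
  classical
  by_contra hne
  set F := Cfsg.fittingSubgroup H with hF
  haveI hFn : F.Normal := fittingSubgroup_normal
  haveI : Nontrivial (H ⧸ F) := by
    rw [← Finite.one_lt_card_iff_nontrivial, ← Subgroup.index_eq_card]
    have h1 : F.index ≠ 1 := fun h => hne (Subgroup.index_eq_one.mp h)
    have h0 : F.index ≠ 0 := Subgroup.index_ne_zero_of_finite
    omega
  haveI := hsolv
  obtain ⟨q, M, hq, hMn, -, hMq, hMne, -⟩ := exists_normal_abelian_pgroup (G := H ⧸ F)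
  haveI : Fact q.Prime := ⟨hq⟩
  haveI := hMn
  set D := M.comap (QuotientGroup.mk' F) with hD
  haveI hDn : D.Normal := inferInstance
  have hFD : F ≤ D := by
    intro x hx
    rw [hD, Subgroup.mem_comap]
    have : (QuotientGroup.mk' F) x = 1 := (QuotientGroup.eq_one_iff x).mpr hx
    rw [this]; exact M.one_mem
  have hcardD : Nat.card D = Nat.card M * Nat.card F := card_comap_mk F M
  obtain ⟨k, hk⟩ := (IsPGroup.iff_card).mp hMq
  have hk1 : 1 ≤ k := by
    rcases Nat.eq_zero_or_pos k with h | h
    · exfalso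
      rw [h, pow_zero] at hk
      exact hMne (Subgroup.card_eq_one.mp hk)
    · exact h
  -- index of `F` in `D`
  have hidx : (F.subgroupOf D).index = q ^ k := by
    have h1 := (F.subgroupOf D).card_mul_index
    rw [card_subgroupOf_of_le hFD, hcardD, hk, mul_comm] at h1
    exact Nat.eq_of_mul_eq_mul_right Nat.card_pos h1
  obtain ⟨Q⟩ : Nonempty (Sylow q ↥D) := inferInstance
  set Q' : Subgroup H := (Q : Subgroup ↥D).map D.subtype with hQ'
  have hQ'D : Q' ≤ D := Subgroup.map_subtype_le _
  have hQ'q : IsPGroup q Q' := Q.isPGroup'.map D.subtype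
  have hQ'sub : Q'.subgroupOf D = (Q : Subgroup ↥D) := by
    rw [hQ', Subgroup.subgroupOf, Subgroup.comap_map_eq_self_of_injective D.subtype_injective]
  -- (i) `Q'` centralizes the other cores
  have hi : ∀ p : ℕ, p.Prime → p ≠ q → Q' ≤ Subgroup.centralizer (Cfsg.pCore p H : Set H) := by
    intro p hp hpq
    haveI : Fact p.Prime := ⟨hp⟩
    have hpF : Cfsg.pCore p H ≤ F :=
      le_fittingSubgroup inferInstance (pCore_isPGroup (G := H) p).isNilpotent
    refine Cfsg.Agent.Lib.Helper4.coprime_centralizes_of_omega_gen (p := p) Q' (Cfsg.pCore p H)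
      ?_ ?_ ?_ ?_
    · obtain ⟨j, hj⟩ := (IsPGroup.iff_card).mp hQ'q
      rw [hj]
      exact Nat.Coprime.pow_left _ ((Nat.coprime_primes hq hp).mpr (Ne.symm hpq))
    · exact pCore_isPGroup p
    · rw [Subgroup.normalizer_eq_top]
      exact le_top
    · intro x hx hx' a _
      rcases hx' with hx' | ⟨hp2, hx4⟩
      · by_cases hx1 : x = 1
        · rw [hx1, mul_one, one_mul]
        · have ho : orderOf x = p := orderOf_eq_prime hx' hx1
          exact hcen x (hpF hx) (by rw [ho]; exact hp) a
      · -- `p = 2`: `x = 1` as `F` has odd order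
        have h1 : orderOf x ∣ 4 := orderOf_dvd_of_pow_eq_one hx4
        have h2 : orderOf x ∣ Nat.card F := by
          have := orderOf_dvd_natCard (⟨x, hpF hx⟩ : F)
          rwa [← Subgroup.orderOf_coe] at this
        have h3 : orderOf x ∣ Nat.gcd 4 (Nat.card F) := Nat.dvd_gcd h1 h2
        have h4 : Nat.gcd 4 (Nat.card F) = 1 := by
          have : Nat.Coprime (2 ^ 2) (Nat.card F) :=
            Nat.Coprime.pow_left 2 (Nat.coprime_two_left.mpr hodd)
          simpa using this
        rw [h4, Nat.dvd_one, orderOf_eq_one_iff] at h3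
        rw [h3, mul_one, one_mul]
  -- (ii) the `q`-core lies in `Q'`
  have hii : Cfsg.pCore q H ≤ Q' := by
    have hqF : Cfsg.pCore q H ≤ F :=
      le_fittingSubgroup inferInstance (pCore_isPGroup (G := H) q).isNilpotent
    have hqD : Cfsg.pCore q H ≤ D := hqF.trans hFD
    haveI : ((Cfsg.pCore q H).subgroupOf D).Normal := inferInstance
    have h1 : IsPGroup q ((Cfsg.pCore q H).subgroupOf D) :=
      (pCore_isPGroup (G := H) q).comap_subtype
    have h2 := h1.le_sylow_of_normal Q
    intro x hx
    exact ⟨⟨x, hqD hx⟩, h2 (by rw [Subgroup.mem_subgroupOf]; exact hx), rfl⟩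
  -- (iii) `F` normalizes `Q'`
  have hiii : F ≤ Subgroup.normalizer (Q' : Set H) := by
    rw [hF, fittingSubgroup_eq_iSup_pCore]
    apply iSup_le
    intro p
    by_cases hpq : (p : ℕ) = q
    · rw [hpq]; exact hii.trans Subgroup.le_normalizer
    · have h1 := hi p p.2 hpq
      have h2 : Cfsg.pCore (p : ℕ) H ≤ Subgroup.centralizer (Q' : Set H) := by
        intro x hx
        rw [Subgroup.mem_centralizer_iff]
        intro y hy
        have := Subgroup.mem_centralizer_iff.mp (h1 hy) x hx
        exact this.symm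
      exact h2.trans (Subgroup.centralizer_le_normalizer _)
  have hiii' : F.subgroupOf D ≤ Subgroup.normalizer ((Q : Subgroup ↥D) : Set ↥D) := by
    rw [← hQ'sub, ← Subgroup.subgroupOf_normalizer_eq hQ'D]
    intro x hx
    rw [Subgroup.mem_subgroupOf] at hx ⊢
    exact hiii hx
  -- (iv) `Q` is normal in `D`
  have hn1 : Nat.card (Sylow q ↥D) = 1 := by
    have h1 := Sylow.card_eq_index_normalizer Q
    have h2 : Nat.card (Sylow q ↥D) ∣ q ^ k := by
      rw [h1, ← hidx]
      exact Subgroup.index_dvd_of_le hiii'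
    obtain ⟨j, -, hj⟩ := (Nat.dvd_prime_pow hq).mp h2
    have h3 := card_sylow_modEq_one q ↥D
    rcases Nat.eq_zero_or_pos j with h0 | h0
    · rw [hj, h0, pow_zero]
    · exfalso
      rw [hj] at h3
      have h4 : q ∣ q ^ j := dvd_pow_self q (by omega)
      have h5 : q ^ j % q = 0 := Nat.mod_eq_zero_of_dvd h4
      have h6 : q ^ j % q = 1 % q := h3
      rw [h5, Nat.mod_eq_of_lt hq.one_lt] at h6
      exact absurd h6 (by norm_num)
  have hQn : (Q : Subgroup ↥D).Normal := by
    have h1 := Sylow.card_eq_index_normalizer Q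
    rw [hn1] at h1
    exact Subgroup.normalizer_eq_top_iff.mp (Subgroup.index_eq_one.mp h1.symm)
  -- (v) `Q' ≤ F`
  have hv : Q' ≤ F := by
    haveI : (Q : Subgroup ↥D).Characteristic := Sylow.characteristic_of_normal Q hQn
    have h1 : Q'.Normal := ConjAct.normal_of_characteristic_of_normal
    exact (le_pCore h1 hQ'q).trans
      (le_fittingSubgroup inferInstance (pCore_isPGroup (G := H) q).isNilpotent)
  -- (vi) contradiction
  have h1 : (Q : Subgroup ↥D) ≤ F.subgroupOf D := by
    rw [← hQ'sub]
    intro x hx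
    rw [Subgroup.mem_subgroupOf] at hx ⊢
    exact hv hx
  have h2 : (F.subgroupOf D).index ∣ (Q : Subgroup ↥D).index := Subgroup.index_dvd_of_le h1
  rw [hidx] at h2
  exact Sylow.not_dvd_index Q ((dvd_pow_self q (by omega)).trans h2)

/-- Let G be a finite solvable group whose Fitting subgroup F(G) has odd order. If an element g of G commutes with every element of prime order of F(G), then g ∈ F(G). -/
theorem result {G : Type*} [Group G] [Finite G] (hG : Group.IsSolvable G) (hodd : Odd (Nat.card (Cfsg.fittingSubgroup G))) (g : G) (hg : ∀ x ∈ Cfsg.fittingSubgroup G, (orderOf x).Prime → g * x = x * g) : g ∈ Cfsg.fittingSubgroup G := by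
  classical
  set F := Cfsg.fittingSubgroup G with hF
  haveI hFn : F.Normal := fittingSubgroup_normal
  -- the centralizer of the elements of prime order of `F`
  set C : Subgroup G := Subgroup.centralizer {x : G | x ∈ F ∧ (orderOf x).Prime} with hC
  have hgC : g ∈ C := by
    rw [hC, Subgroup.mem_centralizer_iff]
    intro x hx
    exact (hg x hx.1 hx.2).symm
  haveI hCn : C.Normal := by
    constructor
    intro c hc a
    rw [hC, Subgroup.mem_centralizer_iff] at hc ⊢
    intro x hx
    have hx' : a⁻¹ * x * a ∈ {x : G | x ∈ F ∧ (orderOf x).Prime} := by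
      refine ⟨?_, ?_⟩
      · have := hFn.conj_mem x hx.1 a⁻¹
        simpa using this
      · have : orderOf (a⁻¹ * x * a) = orderOf x := by
          have h1 : SemiconjBy a (a⁻¹ * x * a) x := by
            rw [SemiconjBy]; group
          exact h1.orderOf_eq
        rw [this]; exact hx.2
    have := hc _ hx'
    calc x * (a * c * a⁻¹) = a * ((a⁻¹ * x * a) * c) * a⁻¹ := by group
      _ = a * (c * (a⁻¹ * x * a)) * a⁻¹ := by rw [this]
      _ = a * c * a⁻¹ * x := by group
  have hFC : Cfsg.Agent.S3766.FN C ≤ F := by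
    haveI := Cfsg.Agent.S3766.FN_normal C
    exact le_fittingSubgroup inferInstance (Cfsg.Agent.S3766.FN_isNilpotent C)
  have htop : Cfsg.fittingSubgroup ↥C = ⊤ := by
    apply fitting_eq_top
    · exact Group.isSolvable_of_isSolvable_injective (f := C.subtype) C.subtype_injective
    · have h1 : Nat.card (Cfsg.fittingSubgroup ↥C) = Nat.card (Cfsg.Agent.S3766.FN C) :=
        (card_map_subtype C _).symm
      rw [h1]
      exact Odd.of_dvd_nat hodd (Subgroup.card_dvd_of_le hFC)
    · intro x hx hox h
      have hxF : (x : G) ∈ F := hFC ⟨x, hx, rfl⟩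
      have hox' : (orderOf (x : G)).Prime := by rw [Subgroup.orderOf_coe]; exact hox
      have := Subgroup.mem_centralizer_iff.mp h.2
      apply Subtype.ext
      exact (this (x : G) ⟨hxF, hox'⟩).symm
  have hnil : Group.IsNilpotent ↥C := by
    have h1 := fittingSubgroup_isNilpotent (G := ↥C)
    rw [htop] at h1
    exact Group.isNilpotent_top.mp h1
  exact le_fittingSubgroup hCn hnil hgC

end Cfsg.Agent.S3785
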