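import Mathlib
import Cfsg.Statements.S3788
import Cfsg.Agent.Lib.Helper7.CycNorm6
import Cfsg.Agent.Lib.Lead.PStabQuot2

set_option autoImplicit false
open Cfsg

namespace Cfsg.Agent.S3788

open Cfsg.Agent.Lib.Helper7.CycNorm

/-- Let G be a finite p-soluble group, P a Sylow p-subgroup of G and A a cyclic normal subgroup of P. If p is odd, or if no section of G is isomorphic to the symmetric group of degree 4, then A ≤ O_{p',p}(G). -/
theorem result {G : Type*} [Group G] [Finite G] {p : ℕ} [Fact p.Prime] (hG : Cfsg.IsPSolvable p G) (P : Sylow p G) (A : Subgroup G) (hAP : A ≤ (P : Subgroup G)) (hAn : (P : Subgroup G) ≤ Subgroup.normalizer (A : Set G)) (hA : IsCyclic A) (h : p ≠ 2 ∨ ¬ Cfsg.Involves (Equiv.Perm (Fin 4)) G) : A ≤ Cfsg.pPrimePCore p G := by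
  classical
  obtain ⟨N, hNdef⟩ : ∃ N : Subgroup G, N = pPrimeCore p G := ⟨_, rfl⟩
  haveI hNn : N.Normal := by
    rw [hNdef]; exact (Cfsg.Agent.Lib.Helper6.pPrimeCore_mem_set p).1
  have hO : pPrimeCore p (G ⧸ N) = ⊥ := by
    subst hNdef
    exact Cfsg.Agent.Lib.Lead.PStabQuot.pPrimeCore_quotient_eq_bot p
  have hG1 : IsPSolvable p (G ⧸ N) := Cfsg.Agent.Lib.Helper7.isPSolvable_quotient hG N
  have h1 : p ≠ 2 ∨ ¬ Involves (Equiv.Perm (Fin 4)) (G ⧸ N) := by
    rcases h with h | h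
    · exact Or.inl h
    · exact Or.inr (fun hi => h (Cfsg.Agent.Lib.Lead.Thom.involves_of_quotient N hi))
  obtain ⟨g, hg⟩ := hA.exists_generator
  have hgen : ∀ a ∈ A, a ∈ Subgroup.zpowers (g : G) := by
    intro a ha
    obtain ⟨k, hk⟩ := Subgroup.mem_zpowers_iff.mp (hg ⟨a, ha⟩)
    refine Subgroup.mem_zpowers_iff.mpr ⟨k, ?_⟩
    have := congrArg Subtype.val hk
    simpa using this
  have hyp : Hyp p (g : G) := by
    refine ⟨P, hAP g.2, ?_⟩
    intro t ht
    have htN := hAn ht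
    rw [Subgroup.mem_normalizer_iff] at htN
    exact hgen _ ((htN (g : G)).mp g.2)
  have hmem := mem_pCore_of_pPrimeCore_bot hG1 hO h1 _
    (hyp.map (QuotientGroup.mk' N) (QuotientGroup.mk'_surjective N))
  have hgmem : (g : G) ∈ pPrimePCore p G := by
    unfold pPrimePCore
    rw [Subgroup.mem_comap]
    subst hNdef
    exact hmem
  intro a ha
  obtain ⟨k, rfl⟩ := Subgroup.mem_zpowers_iff.mp (hgen a ha)
  exact Subgroup.zpow_mem _ hgmem k

end Cfsg.Agent.S3788
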