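import Mathlib
import Cfsg.Statements.S3790
import Cfsg.Agent.Lib.Helper7.PSer

set_option autoImplicit false
open Cfsg

namespace Cfsg.Agent.S3790

open Cfsg.Agent.Lib.Helper7.PSer

variable {G : Type*} [Group G] [Finite G]

theorem relIndex_ne_zero' (A B : Subgroup G) : A.relIndex B ≠ 0 := by
  unfold Subgroup.relIndex
  exact Subgroup.index_ne_zero_of_finite

/-- the relative form of the bound -/
theorem rel_bound (p : ℕ) [hp : Fact p.Prime] (l : ℕ → ℕ) (T : Finset ℕ) :
    ∀ (A B : Subgroup G), A.Normal → B.Normal → A ≤ B → (∀ q ∈ T, q.Prime ∧ q ≠ p) →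
      (∀ s : ℕ, s.Prime → s ∣ A.relIndex B → s ≠ p → s ∈ T) →
      (∀ q ∈ T, PSer q (l q) A B) → PSer p (∏ q ∈ T, (1 + l q)) A B := by
  classical
  induction T using Finset.induction_on with
  | empty =>
    intro A B hA hB hAB _ hprimes _
    rw [Finset.prod_empty]
    have hpow : A.relIndex B = p ^ (A.relIndex B).primeFactorsList.length := by
      apply Nat.eq_prime_pow_of_unique_prime_dvd (relIndex_ne_zero' A B)
      intro s hs hsd
      by_contra hne
      exact absurd (hprimes s hs hsd hne) (Finset.notMem_empty s)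
    exact of_pow hAB hpow
  | insert q T hqT ih =>
    intro A B hA hB hAB hT hprimes hser
    have hq : q.Prime ∧ q ≠ p := hT q (Finset.mem_insert_self q T)
    haveI : Fact q.Prime := ⟨hq.1⟩
    obtain ⟨W, hW0, hWl, hWn, hWmono, hWev, hWodd⟩ := hser q (Finset.mem_insert_self q T)
    rw [Finset.prod_insert hqT]
    set L' := ∏ x ∈ T, (1 + l x) with hL'
    have hWle : ∀ i, i ≤ 2 * l q + 1 → W i ≤ B := fun i hi => hWl ▸ mono_of_succ hWmono hi
    have hAW : ∀ i, A ≤ W i := fun i => hW0 ▸ mono_of_succ hWmono (Nat.zero_le i)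
    -- the `q'`-sections
    have hsec : ∀ i, i ≤ l q → PSer p L' (W (2 * i)) (W (2 * i + 1)) := by
      intro i hi
      haveI := hWn (2 * i)
      haveI := hWn (2 * i + 1)
      apply ih (W (2 * i)) (W (2 * i + 1)) (hWn _) (hWn _) (hWmono _)
        (fun x hx => hT x (Finset.mem_insert_of_mem hx))
      · intro s hs hsd hsp
        have h1 : s ∣ A.relIndex B :=
          hsd.trans (relIndex_dvd_of_between (hAW _) (hWmono _) (hWle _ (by omega)))
        have h2 := hprimes s hs h1 hsp
        rcases Finset.mem_insert.mp h2 with h3 | h3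
        · exfalso
          have hcop := hWev (2 * i) ⟨i, by ring⟩
          rw [h3] at hsd
          exact hq.1.one_lt.ne' (Nat.eq_one_of_dvd_coprimes hcop hsd dvd_rfl)
        · exact h3
      · intro x hx
        haveI : Fact x.Prime := ⟨(hT x (Finset.mem_insert_of_mem hx)).1⟩
        exact restrict (hser x (Finset.mem_insert_of_mem hx)) (hAW _) (hWmono _)
          (hWle _ (by omega))
    -- the `q`-sections
    have hsec' : ∀ i, PSer p 0 (W (2 * i + 1)) (W (2 * i + 2)) := by
      intro i
      haveI := hWn (2 * i + 1)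
      haveI := hWn (2 * i + 2)
      apply of_coprime (hWmono _)
      obtain ⟨m, hm⟩ := hWodd (2 * i + 1) (by
        rintro ⟨r, hr⟩
        omega)
      rw [hm]
      exact Nat.Coprime.pow_left m ((Nat.coprime_primes hq.1 hp.out).mpr hq.2)
    have hmain : ∀ i, i ≤ l q → PSer p ((i + 1) * L') A (W (2 * i + 1)) := by
      intro i
      induction i with
      | zero =>
        intro _
        have := hsec 0 (Nat.zero_le _)
        simpa [hW0] using this
      | succ i ihi =>
        intro hi
        have h1 := ihi (by omega)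
        have h2 := concat h1 (hsec' i)
        have h3 := hsec (i + 1) hi
        have h4 : 2 * (i + 1) = 2 * i + 2 := by ring
        rw [h4] at h3
        have h5 := concat h2 h3
        have h6 : (i + 1) * L' + 0 + L' = (i + 1 + 1) * L' := by ring
        rw [h6] at h5
        exact h5
    have := hmain (l q) le_rfl
    rw [hWl] at this
    have h7 : (l q + 1) * L' = (1 + l q) * L' := by ring
    rwa [h7] at this

/-- Let G be a finite solvable group and p a prime. Suppose p₁, …, p_r are distinct primes, all different from p, that include every prime dividing the order of G other than p, and that G has p_i-length at most l_i for each i. Then G has p-length at most the product of the numbers 1 + l_i. -/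
theorem result {G : Type*} [Group G] [Finite G] (hG : Group.IsSolvable G) (p : ℕ) [Fact p.Prime] (r : ℕ) (q : Fin r → ℕ) (hq : ∀ i, (q i).Prime ∧ q i ≠ p) (hinj : Function.Injective q) (hcover : ∀ s : ℕ, s.Prime → s ∣ Nat.card G → s ≠ p → ∃ i, q i = s) (l : Fin r → ℕ) (hl : ∀ i, Cfsg.PLengthLE (q i) (l i) G) : Cfsg.PLengthLE p (Finset.univ.prod fun i => 1 + l i) G := by
  classical
  obtain ⟨l', hl'⟩ : ∃ l' : ℕ → ℕ, ∀ i, l' (q i) = l i :=
    ⟨Function.extend q l 0, fun i => hinj.extend_apply l 0 i⟩
  have key := rel_bound (G := G) p l' (Finset.univ.image q) ⊥ ⊤ inferInstance inferInstance bot_le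
    (by
      intro s hs
      obtain ⟨i, -, rfl⟩ := Finset.mem_image.mp hs
      exact hq i)
    (by
      intro s hs hsd hsp
      rw [Subgroup.relIndex_bot_left] at hsd
      have hsd' : s ∣ Nat.card G := by
        have : Nat.card (⊤ : Subgroup G) = Nat.card G := Subgroup.card_top
        rwa [this] at hsd
      obtain ⟨i, hi⟩ := hcover s hs hsd' hsp
      exact Finset.mem_image.mpr ⟨i, Finset.mem_univ i, hi⟩)
    (by
      intro s hs
      obtain ⟨i, -, rfl⟩ := Finset.mem_image.mp hs
      haveI : Fact (q i).Prime := ⟨(hq i).1⟩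
      rw [hl' i]
      exact of_pLengthLE (hl i))
  rw [Finset.prod_image (fun a _ b _ h => hinj h)] at key
  simp only [hl'] at key
  exact pLengthLE_of key

end Cfsg.Agent.S3790
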