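import Mathlib
import Cfsg.Statements.S3791
import Cfsg.Agent.Lib.Helper7.PSer

set_option autoImplicit false
open Cfsg

namespace Cfsg.Agent.S3791

open Cfsg.Agent.Lib.Helper7.PSer

section dser

variable {G : Type*} [Group G]

/-- relative derived series -/
def Dser (B : Subgroup G) : ℕ → Subgroup G
  | 0 => B
  | n + 1 => ⁅Dser B n, Dser B n⁆

theorem Dser_zero (B : Subgroup G) : Dser B 0 = B := rfl

theorem Dser_succ (B : Subgroup G) (n : ℕ) : Dser B (n + 1) = ⁅Dser B n, Dser B n⁆ := rfl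

theorem Dser_mono {B C : Subgroup G} (h : B ≤ C) (n : ℕ) : Dser B n ≤ Dser C n := by
  induction n with
  | zero => exact h
  | succ n ih => exact Subgroup.commutator_mono ih ih

theorem comm_self_le (H : Subgroup G) : ⁅H, H⁆ ≤ H := by
  rw [Subgroup.commutator_le]
  intro a ha b hb
  exact H.mul_mem (H.mul_mem (H.mul_mem ha hb) (H.inv_mem ha)) (H.inv_mem hb)

theorem Dser_le (B : Subgroup G) (n : ℕ) : Dser B n ≤ B := by
  induction n with
  | zero => exact le_rfl
  | succ n ih => exact (comm_self_le _).trans ih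

theorem Dser_add (B : Subgroup G) (m n : ℕ) : Dser B (m + n) = Dser (Dser B m) n := by
  induction n with
  | zero => rfl
  | succ n ih =>
    rw [← add_assoc, Dser_succ, Dser_succ, ih]

theorem Dser_top (n : ℕ) : Dser (⊤ : Subgroup G) n = derivedSeries G n := by
  induction n with
  | zero => rfl
  | succ n ih => rw [Dser_succ, derivedSeries_succ, ih]

theorem Dser_eq_map (P : Subgroup G) (n : ℕ) :
    Dser P n = (derivedSeries ↥P n).map P.subtype := by
  induction n with
  | zero =>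
    rw [Dser_zero, derivedSeries_zero, ← MonoidHom.range_eq_map, Subgroup.range_subtype]
  | succ n ih => rw [Dser_succ, derivedSeries_succ, Subgroup.map_commutator, ih]

theorem Dser_sup_le (H A : Subgroup G) [A.Normal] (n : ℕ) : Dser (H ⊔ A) n ≤ Dser H n ⊔ A := by
  induction n with
  | zero => exact le_rfl
  | succ n ih =>
    rw [Dser_succ, Dser_succ]
    refine (Subgroup.commutator_mono ih ih).trans ?_
    set X := Dser H n
    have h1 : (⁅X ⊔ A, X ⊔ A⁆).map (QuotientGroup.mk' A) = (⁅X, X⁆).map (QuotientGroup.mk' A) := by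
      rw [Subgroup.map_commutator, Subgroup.map_commutator, Subgroup.map_sup]
      have : A.map (QuotientGroup.mk' A) = ⊥ := by
        rw [Subgroup.map_eq_bot_iff, QuotientGroup.ker_mk']
      rw [this, sup_bot_eq]
    have h2 : ⁅X ⊔ A, X ⊔ A⁆ ≤ ((⁅X ⊔ A, X ⊔ A⁆).map (QuotientGroup.mk' A)).comap
        (QuotientGroup.mk' A) := Subgroup.le_comap_map _ _
    rw [h1, Subgroup.comap_map_eq, QuotientGroup.ker_mk'] at h2
    exact h2

end dser

variable {G : Type*} [Group G] [Finite G]

theorem relIndex_ne_zero' (A B : Subgroup G) : A.relIndex B ≠ 0 := by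
  unfold Subgroup.relIndex
  exact Subgroup.index_ne_zero_of_finite

theorem relIndex_lt_of_lt {A A₁ B : Subgroup G} (h1 : A < A₁) (h2 : A₁ ≤ B) :
    A₁.relIndex B < A.relIndex B := by
  rw [← Subgroup.relIndex_mul_relIndex A A₁ B h1.le h2]
  have h3 : A.relIndex A₁ ≠ 1 := by
    intro h
    exact absurd (Subgroup.relIndex_eq_one.mp h) (not_le_of_gt h1)
  have h4 : A.relIndex A₁ ≠ 0 := relIndex_ne_zero' _ _
  have h5 : A₁.relIndex B ≠ 0 := relIndex_ne_zero' _ _
  have h6 : 2 ≤ A.relIndex A₁ := by omega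
  have h7 : 1 ≤ A₁.relIndex B := by omega
  nlinarith

/-- a `p`-section is covered by a Sylow subgroup -/
theorem dser_pSection {p : ℕ} [hp : Fact p.Prime] {A P : Subgroup G} [A.Normal] (hAP : A ≤ P)
    {m : ℕ} (hidx : A.relIndex P = p ^ m) (d : ℕ)
    (hd : ∀ S : Sylow p G, Dser (S : Subgroup G) d = ⊥) : Dser P d ≤ A := by
  obtain ⟨S₀⟩ : Nonempty (Sylow p ↥P) := inferInstance
  set S₁ : Subgroup G := (S₀ : Subgroup ↥P).map P.subtype with hS₁
  have hS₁p : IsPGroup p S₁ := S₀.isPGroup'.map P.subtype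
  obtain ⟨S, hS⟩ := hS₁p.exists_le_sylow
  have hS₁P : S₁ ≤ P := Subgroup.map_subtype_le _
  have hrel : S₁.relIndex P = (S₀ : Subgroup ↥P).index := by
    unfold Subgroup.relIndex
    congr 1
    rw [hS₁]
    ext x
    rw [Subgroup.mem_subgroupOf]
    constructor
    · rintro ⟨y, hy, hyx⟩
      have : y = x := Subtype.ext hyx
      rwa [← this]
    · intro hx
      exact ⟨x, hx, rfl⟩
  have hnd : ¬ p ∣ S₁.relIndex P := by
    rw [hrel]
    exact S₀.not_dvd_index
  have h1 : (S₁ ⊔ A).relIndex P ∣ S₁.relIndex P := Subgroup.relIndex_dvd_of_le_left _ le_sup_left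
  have h2 : (S₁ ⊔ A).relIndex P ∣ A.relIndex P := Subgroup.relIndex_dvd_of_le_left _ le_sup_right
  rw [hidx] at h2
  obtain ⟨j, -, hj⟩ := (Nat.dvd_prime_pow hp.out).mp h2
  have hj0 : j = 0 := by
    by_contra hne
    apply hnd
    refine dvd_trans ?_ h1
    rw [hj]
    exact dvd_pow_self p hne
  rw [hj0, pow_zero] at hj
  have hle : P ≤ S₁ ⊔ A := Subgroup.relIndex_eq_one.mp hj
  calc Dser P d ≤ Dser (S₁ ⊔ A) d := Dser_mono hle d
    _ ≤ Dser S₁ d ⊔ A := Dser_sup_le S₁ A d
    _ ≤ Dser (S : Subgroup G) d ⊔ A := sup_le_sup_right (Dser_mono hS d) A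
    _ = A := by rw [hd S, bot_sup_eq]

theorem rel_derived (T : Finset ℕ) (d : ℕ → ℕ) (hT : ∀ q ∈ T, q.Prime)
    (hd : ∀ q ∈ T, ∀ S : Sylow q G, Dser (S : Subgroup G) (d q) = ⊥) (n : ℕ) :
    ∀ (l : ℕ → ℕ) (A B : Subgroup G), A.Normal → B.Normal → A ≤ B →
      A.relIndex B + ∑ q ∈ T, l q ≤ n →
      (∀ s : ℕ, s.Prime → s ∣ A.relIndex B → s ∈ T) → (∀ q ∈ T, PSer q (l q) A B) →
      Dser B (∑ q ∈ T, d q * l q) ≤ A := by
  classical
  induction n using Nat.strong_induction_on with
  | _ n ih =>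
  intro l A B hA hB hAB hn hprimes hser
  by_cases hEq : A = B
  · rw [hEq]; exact Dser_le B _
  by_cases hsplit : ∃ A₁ A₂ : Subgroup G, A₁.Normal ∧ A₂.Normal ∧ A < A₁ ∧ A₁ ≤ B ∧ A < A₂ ∧
      A₂ ≤ B ∧ A₁ ⊓ A₂ = A
  · obtain ⟨A₁, A₂, hA₁n, hA₂n, hA₁, hA₁B, hA₂, hA₂B, hinf⟩ := hsplit
    have hstep : ∀ C : Subgroup G, C.Normal → A < C → C ≤ B →
        Dser B (∑ q ∈ T, d q * l q) ≤ C := by
      intro C hCn hAC hCB
      have hlt := relIndex_lt_of_lt hAC hCB
      apply ih (C.relIndex B + ∑ q ∈ T, l q) (by omega) l C B hCn hB hCB le_rfl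
      · intro s hs hsd
        exact hprimes s hs (hsd.trans (relIndex_dvd_of_between hAC.le hCB le_rfl))
      · intro q hq
        haveI : Fact q.Prime := ⟨hT q hq⟩
        haveI := hCn
        exact restrict (hser q hq) hAC.le hCB le_rfl
    rw [← hinf]
    exact le_inf (hstep A₁ hA₁n hA₁ hA₁B) (hstep A₂ hA₂n hA₂ hA₂B)
  · -- unique minimal normal subgroup above `A`
    have hAltB : A < B := lt_of_le_of_ne hAB hEq
    obtain ⟨N, -, hNmin⟩ := Set.Finite.exists_le_minimal
      (s := {N : Subgroup G | N.Normal ∧ A < N ∧ N ≤ B}) (Set.toFinite _)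
      (show B ∈ {N : Subgroup G | N.Normal ∧ A < N ∧ N ≤ B} from ⟨hB, hAltB, le_rfl⟩)
    obtain ⟨⟨hNn, hAN, hNB⟩, hNmin'⟩ := hNmin
    have hkey : ∀ C : Subgroup G, C.Normal → A < C → C ≤ B → N ≤ C := by
      intro C hCn hAC hCB
      by_contra hNC
      haveI := hNn
      haveI := hCn
      have hle : A ≤ N ⊓ C := le_inf hAN.le hAC.le
      rcases hle.lt_or_eq with hlt | heq
      · have hmem : N ⊓ C ∈ {N : Subgroup G | N.Normal ∧ A < N ∧ N ≤ B} :=
          ⟨inferInstance, hlt, inf_le_left.trans hNB⟩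
        exact hNC ((hNmin' hmem inf_le_left).trans inf_le_right)
      · exact hsplit ⟨N, C, hNn, hCn, hAN, hNB, hAC, hCB, heq.symm⟩
    have hN1 : A.relIndex N ≠ 1 := by
      intro h
      exact absurd (Subgroup.relIndex_eq_one.mp h) (not_le_of_gt hAN)
    obtain ⟨p, hp, hpd⟩ := Nat.exists_prime_and_dvd hN1
    haveI : Fact p.Prime := ⟨hp⟩
    have hpT : p ∈ T := hprimes p hp (hpd.trans (relIndex_dvd_of_between le_rfl hAN.le hNB))
    obtain ⟨V, hV0, hVl, hVn, hVmono, hVev, hVodd⟩ := hser p hpT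
    have hVle : ∀ i, i ≤ 2 * l p + 1 → V i ≤ B := fun i hi => hVl ▸ mono_of_succ hVmono hi
    have hAV : ∀ i, A ≤ V i := fun i => hV0 ▸ mono_of_succ hVmono (Nat.zero_le i)
    have hV1 : V 1 = A := by
      by_contra hne
      have hlt : A < V 1 := lt_of_le_of_ne (hAV 1) (Ne.symm hne)
      have hNV := hkey (V 1) (hVn 1) hlt (hVle 1 (by omega))
      haveI := hA
      have h1 : A.relIndex N ∣ A.relIndex (V 1) := relIndex_dvd_of_le_right' hNV
      have h2 := hVev 0 (by simp)
      rw [hV0] at h2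
      exact hp.one_lt.ne' (Nat.eq_one_of_dvd_coprimes h2 (hpd.trans h1) dvd_rfl)
    have hl1 : 1 ≤ l p := by
      by_contra hl0
      have : l p = 0 := by omega
      rw [this] at hVl
      exact hEq (hV1.symm.trans hVl)
    obtain ⟨k, hk⟩ : ∃ k, l p = k + 1 := ⟨l p - 1, by omega⟩
    -- the first `p`-factor
    obtain ⟨m, hm⟩ := hVodd 1 (by decide)
    rw [hV1] at hm
    have hPB : V 2 ≤ B := hVle 2 (by omega)
    have hPser : PSer p k (V 2) B := drop_two (by rw [← hk]; exact hVl) hVn hVmono hVev hVodd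
    -- the modified length function
    set l' : ℕ → ℕ := Function.update l p k with hl'
    have hl'p : l' p = k := by rw [hl', Function.update_self]
    have hl'q : ∀ q, q ≠ p → l' q = l q := fun q hq => by rw [hl', Function.update_of_ne hq]
    have hsum1 : ∑ q ∈ T, l q = (∑ q ∈ T, l' q) + 1 := by
      rw [← Finset.add_sum_erase T l hpT, ← Finset.add_sum_erase T l' hpT, hl'p, hk]
      have : ∑ x ∈ T.erase p, l' x = ∑ x ∈ T.erase p, l x :=
        Finset.sum_congr rfl fun x hx => hl'q x (Finset.ne_of_mem_erase hx)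
      rw [this]; ring
    have hsum2 : ∑ q ∈ T, d q * l q = (∑ q ∈ T, d q * l' q) + d p := by
      rw [← Finset.add_sum_erase T (fun q => d q * l q) hpT,
        ← Finset.add_sum_erase T (fun q => d q * l' q) hpT, hl'p, hk]
      have : ∑ x ∈ T.erase p, d x * l' x = ∑ x ∈ T.erase p, d x * l x :=
        Finset.sum_congr rfl fun x hx => by rw [hl'q x (Finset.ne_of_mem_erase hx)]
      rw [this]; ring
    have hle_idx : (V 2).relIndex B ≤ A.relIndex B :=
      Nat.le_of_dvd (Nat.pos_of_ne_zero (relIndex_ne_zero' _ _))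
        (relIndex_dvd_of_between (hAV 2) hPB le_rfl)
    have hIH : Dser B (∑ q ∈ T, d q * l' q) ≤ V 2 := by
      apply ih ((V 2).relIndex B + ∑ q ∈ T, l' q) (by omega) l' (V 2) B (hVn 2) hB hPB le_rfl
      · intro s hs hsd
        exact hprimes s hs (hsd.trans (relIndex_dvd_of_between (hAV 2) hPB le_rfl))
      · intro q hq
        by_cases hqp : q = p
        · rw [hqp, hl'p]; exact hPser
        · rw [hl'q q hqp]
          haveI : Fact q.Prime := ⟨hT q hq⟩
          haveI := hVn 2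
          exact restrict (hser q hq) (hAV 2) hPB le_rfl
    rw [hsum2, Dser_add]
    haveI := hA
    exact (Dser_mono hIH (d p)).trans (dser_pSection (hAV 2) hm (d p) (hd p hpT))

/-- The Hall–Higman bound on derived length: let G be a finite solvable group, let p₁, …, p_r be distinct primes that include every prime dividing the order of G, and suppose that for each i the Sylow p_i-subgroups of G have derived length at most d_i and G has p_i-length at most l_i. Then G has derived length at most Σ d_i l_i. -/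
theorem result {G : Type*} [Group G] [Finite G] (hG : Group.IsSolvable G) (r : ℕ) (q : Fin r → ℕ) (hq : ∀ i, (q i).Prime) (hinj : Function.Injective q) (hcover : ∀ s : ℕ, s.Prime → s ∣ Nat.card G → ∃ i, q i = s) (d l : Fin r → ℕ) (hd : ∀ i, ∀ P : Subgroup G, (haveI := Fact.mk (hq i); ∃ S : Sylow (q i) G, (S : Subgroup G) = P) → derivedSeries ↥P (d i) = ⊥) (hl : ∀ i, Cfsg.PLengthLE (q i) (l i) G) : derivedSeries G (Finset.univ.sum fun i => d i * l i) = ⊥ := by
  classical
  obtain ⟨l', hl'⟩ : ∃ l' : ℕ → ℕ, ∀ i, l' (q i) = l i :=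
    ⟨Function.extend q l 0, fun i => hinj.extend_apply l 0 i⟩
  obtain ⟨d', hd'⟩ : ∃ d' : ℕ → ℕ, ∀ i, d' (q i) = d i :=
    ⟨Function.extend q d 0, fun i => hinj.extend_apply d 0 i⟩
  have key := rel_derived (G := G) (Finset.univ.image q) d'
    (by
      intro s hs
      obtain ⟨i, -, rfl⟩ := Finset.mem_image.mp hs
      exact hq i)
    (by
      intro s hs S
      obtain ⟨i, -, rfl⟩ := Finset.mem_image.mp hs
      rw [hd' i, Dser_eq_map, hd i (S : Subgroup G) ⟨S, rfl⟩, Subgroup.map_bot])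
    _ l' ⊥ ⊤ inferInstance inferInstance bot_le le_rfl
    (by
      intro s hs hsd
      rw [Subgroup.relIndex_bot_left] at hsd
      have hsd' : s ∣ Nat.card G := by
        have : Nat.card (⊤ : Subgroup G) = Nat.card G := Subgroup.card_top
        rwa [this] at hsd
      obtain ⟨i, hi⟩ := hcover s hs hsd'
      exact Finset.mem_image.mpr ⟨i, Finset.mem_univ i, hi⟩)
    (by
      intro s hs
      obtain ⟨i, -, rfl⟩ := Finset.mem_image.mp hs
      haveI : Fact (q i).Prime := ⟨hq i⟩
      rw [hl' i]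
      exact of_pLengthLE (hl i))
  rw [Finset.sum_image (fun a _ b _ h => hinj h)] at key
  simp only [hl', hd'] at key
  rw [Dser_top] at key
  exact le_bot_iff.mp key

end Cfsg.Agent.S3791
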