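import Mathlib
import Cfsg.Statements.S3796
import Cfsg.Agent.Lib.Helper8.WardJ
-- import your own Cfsg.Agent.* helpers here

set_option autoImplicit false
open Cfsg

namespace Cfsg.Agent.S3796

/-- Ward's Theorem: let G be a finite solvable group and A an elementary abelian group of automorphisms of G of order p² (p a prime) with no non-identity common fixed point. Then G has Fitting height at most 2: G has Fitting height at most m when there is a chain of normal subgroups 1 = F₀ ≤ F₁ ≤ ⋯ ≤ F_m = G with each F_{i+1}/F_i nilpotent. -/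
theorem result {G : Type*} [Group G] [Finite G] (hG : Group.IsSolvable G) {p : ℕ} (hp : p.Prime) (A : Subgroup (MulAut G)) (hA : Cfsg.IsElementaryAbelian p A) (hcard : Nat.card A = p ^ 2) (hfpf : ∀ g : G, (∀ a ∈ A, a g = g) → g = 1) : ∃ F : Fin (2 + 1) → Subgroup G, F 0 = ⊥ ∧ F (Fin.last 2) = ⊤ ∧ Monotone F ∧ (∀ i, (F i).Normal) ∧ ∀ i : Fin 2, ∃ k : ℕ, (F i.succ).lowerCentralSeries k ≤ F i.castSucc := by
  classical
  have hAfin : Finite ↥A := inferInstance
  have hΓfin : Finite (G ⋊[A.subtype] ↥A) :=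
    Finite.of_equiv _ (SemidirectProduct.equivProd (φ := A.subtype)).symm
  have hinl : Function.Injective (SemidirectProduct.inl : G →* G ⋊[A.subtype] ↥A) :=
    SemidirectProduct.inl_injective
  have hinr : Function.Injective (SemidirectProduct.inr : ↥A →* G ⋊[A.subtype] ↥A) :=
    SemidirectProduct.inr_injective
  have hS : Cfsg.Agent.Lib.Helper8.Ward.FpfSetting
      (SemidirectProduct.inl : G →* G ⋊[A.subtype] ↥A).range
      (SemidirectProduct.inr : ↥A →* G ⋊[A.subtype] ↥A).range p := by
    refine ⟨hp, ?_, ?_, ?_, ?_, ?_, ?_⟩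
    · rw [SemidirectProduct.range_inl_eq_ker_rightHom]
      infer_instance
    · exact Group.isSolvable_of_surjective
        (MonoidHom.rangeRestrict_surjective (SemidirectProduct.inl : G →* G ⋊[A.subtype] ↥A))
    · rintro _ ⟨a, rfl⟩ _ ⟨b, rfl⟩
      rw [← map_mul, ← map_mul, hA.1.is_comm.comm a b]
    · rintro _ ⟨a, rfl⟩
      rw [← map_pow]
      have : a ^ p = 1 := Subtype.ext (by
        rw [Subgroup.coe_pow]
        exact hA.2 a.1 a.2)
      rw [this, map_one]
    · rw [← hcard]
      exact (Nat.card_congr (MonoidHom.ofInjective hinr).toEquiv).symm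
    · rintro _ ⟨g, rfl⟩ hfix
      have hg : g = 1 := by
        apply hfpf g
        intro a ha
        have h1 := hfix (SemidirectProduct.inr ⟨a, ha⟩) ⟨⟨a, ha⟩, rfl⟩
        have h2 : (SemidirectProduct.inl ((A.subtype ⟨a, ha⟩) g) : G ⋊[A.subtype] ↥A) =
            SemidirectProduct.inl g := by
          rw [SemidirectProduct.inl_aut, h1]
          rw [mul_assoc, ← map_mul, mul_inv_cancel, map_one, mul_one]
        exact hinl h2
      rw [hg, map_one]
  have hmeta := Cfsg.Agent.Lib.Helper8.Ward.metaNilp_of_fpf _ (G ⋊[A.subtype] ↥A) _ _ p rfl hS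
  rw [MonoidHom.range_eq_map] at hmeta
  exact Cfsg.Agent.Lib.Helper8.Ward.MetaNilp.chain
    (Cfsg.Agent.Lib.Helper8.Ward.MetaNilp.of_map_injective _ hinl hmeta)

end Cfsg.Agent.S3796
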