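import Mathlib
import Cfsg.Statements.S3799
import Cfsg.Agent.Lib.Lead.Frattini
import Cfsg.Agent.Lib.Lead.Frattini2

set_option autoImplicit false
open Cfsg

namespace Cfsg.Agent.S3799

/-- The Heisenberg group of degree `n` over `ZMod p`. -/
@[ext] structure Heis (n p : ℕ) where
  a : Fin n → ZMod p
  b : Fin n → ZMod p
  c : ZMod p

namespace Heis
variable {n p : ℕ}

open scoped commutatorElement

instance : Mul (Heis n p) := ⟨fun x y => ⟨x.a + y.a, x.b + y.b, x.c + y.c + dotProduct x.a y.b⟩⟩
instance : One (Heis n p) := ⟨⟨0, 0, 0⟩⟩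
instance : Inv (Heis n p) := ⟨fun x => ⟨-x.a, -x.b, -x.c + dotProduct x.a x.b⟩⟩

@[simp] lemma mul_a (x y : Heis n p) : (x * y).a = x.a + y.a := rfl
@[simp] lemma mul_b (x y : Heis n p) : (x * y).b = x.b + y.b := rfl
@[simp] lemma mul_c (x y : Heis n p) : (x * y).c = x.c + y.c + dotProduct x.a y.b := rfl
@[simp] lemma one_a : (1 : Heis n p).a = 0 := rfl
@[simp] lemma one_b : (1 : Heis n p).b = 0 := rfl
@[simp] lemma one_c : (1 : Heis n p).c = 0 := rfl
@[simp] lemma inv_a (x : Heis n p) : (x⁻¹).a = -x.a := rfl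
@[simp] lemma inv_b (x : Heis n p) : (x⁻¹).b = -x.b := rfl
@[simp] lemma inv_c (x : Heis n p) : (x⁻¹).c = -x.c + dotProduct x.a x.b := rfl

instance : Group (Heis n p) where
  mul_assoc x y z := by
    ext <;> simp [add_assoc, add_dotProduct, dotProduct_add]
    ring
  one_mul x := by ext <;> simp
  mul_one x := by ext <;> simp
  inv_mul_cancel x := by ext <;> simp

/-- index type of the matrices -/
abbrev Idx (n : ℕ) : Type := Unit ⊕ (Fin n ⊕ Unit)

/-- the unitriangular matrix attached to an element -/
def toM (x : Heis n p) : Matrix (Idx n) (Idx n) (ZMod p)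
  | Sum.inl _, Sum.inl _ => 1
  | Sum.inl _, Sum.inr (Sum.inl j) => x.a j
  | Sum.inl _, Sum.inr (Sum.inr _) => x.c
  | Sum.inr (Sum.inl _), Sum.inl _ => 0
  | Sum.inr (Sum.inl i), Sum.inr (Sum.inl j) => if i = j then 1 else 0
  | Sum.inr (Sum.inl i), Sum.inr (Sum.inr _) => x.b i
  | Sum.inr (Sum.inr _), Sum.inl _ => 0
  | Sum.inr (Sum.inr _), Sum.inr (Sum.inl _) => 0
  | Sum.inr (Sum.inr _), Sum.inr (Sum.inr _) => 1

theorem toM_mul (x y : Heis n p) : toM (x * y) = toM x * toM y := by
  ext i j
  rcases i with _ | i | _ <;> rcases j with _ | j | _ <;>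
    simp [Matrix.mul_apply, Fintype.sum_sum_type, toM, dotProduct]
  all_goals ring

theorem toM_one : toM (1 : Heis n p) = 1 := by
  ext i j
  rcases i with _ | i | _ <;> rcases j with _ | j | _ <;>
    simp [toM, Matrix.one_apply]

theorem toM_injective : Function.Injective (toM : Heis n p → _) := by
  intro x y h
  ext i
  · have := congrFun (congrFun h (Sum.inl ())) (Sum.inr (Sum.inl i))
    simpa [toM] using this
  · have := congrFun (congrFun h (Sum.inr (Sum.inl i))) (Sum.inr (Sum.inr ()))
    simpa [toM] using this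
  · have := congrFun (congrFun h (Sum.inl ())) (Sum.inr (Sum.inr ()))
    simpa [toM] using this

/-- `toM` as a monoid homomorphism -/
def toMHom : Heis n p →* Matrix (Idx n) (Idx n) (ZMod p) where
  toFun := toM
  map_one' := toM_one
  map_mul' := toM_mul

theorem pow_a (x : Heis n p) (k : ℕ) : (x ^ k).a = k • x.a := by
  induction k with
  | zero => simp
  | succ k ih => rw [pow_succ, mul_a, ih, succ_nsmul]

theorem pow_b (x : Heis n p) (k : ℕ) : (x ^ k).b = k • x.b := by
  induction k with
  | zero => simp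
  | succ k ih => rw [pow_succ, mul_b, ih, succ_nsmul]

theorem pow_c (x : Heis n p) (k : ℕ) :
    (x ^ k).c = k • x.c + (k.choose 2) • dotProduct x.a x.b := by
  induction k with
  | zero => simp
  | succ k ih =>
    rw [pow_succ, mul_c, ih, pow_a, Nat.choose_succ_succ' k 1, Nat.choose_one_right,
      smul_dotProduct, succ_nsmul, add_nsmul]
    ring

theorem pow_p_eq_one [hp : Fact p.Prime] (hp2 : p ≠ 2) (x : Heis n p) : x ^ p = 1 := by
  have h0 : ((p : ℕ) : ZMod p) = 0 := ZMod.natCast_self p
  have h2 : 2 < p := lt_of_le_of_ne hp.out.two_le (Ne.symm hp2)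
  have hc : ((p.choose 2 : ℕ) : ZMod p) = 0 :=
    (ZMod.natCast_eq_zero_iff _ _).mpr (hp.out.dvd_choose_self (by norm_num) h2)
  ext i
  · rw [pow_a]; simp [h0]
  · rw [pow_b]; simp [h0]
  · rw [pow_c]; simp [h0, hc]

theorem card_eq [hp : Fact p.Prime] : Nat.card (Heis n p) = p ^ (1 + 2 * n) := by
  have e : Heis n p ≃ (Fin n → ZMod p) × (Fin n → ZMod p) × ZMod p :=
    { toFun := fun x => (x.a, x.b, x.c)
      invFun := fun t => ⟨t.1, t.2.1, t.2.2⟩
      left_inv := fun x => rfl
      right_inv := fun t => rfl }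
  rw [Nat.card_congr e, Nat.card_prod, Nat.card_prod, Nat.card_fun, Nat.card_zmod,
    Nat.card_eq_fintype_card, Fintype.card_fin]
  ring

instance [hp : Fact p.Prime] : Finite (Heis n p) := by
  apply Nat.finite_of_card_ne_zero
  rw [card_eq]
  exact pow_ne_zero _ hp.out.ne_zero

theorem commutator_eq (x y : Heis n p) :
    ⁅x, y⁆ = ⟨0, 0, dotProduct x.a y.b - dotProduct y.a x.b⟩ := by
  rw [commutatorElement_def]
  ext i
  · simp
  · simp
  · simp [add_dotProduct, dotProduct_add, dotProduct_neg, neg_dotProduct]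
    ring

theorem mem_center_iff (x : Heis n p) :
    x ∈ Subgroup.center (Heis n p) ↔ x.a = 0 ∧ x.b = 0 := by
  classical
  rw [Subgroup.mem_center_iff]
  constructor
  · intro h
    constructor
    · ext i
      have := congrArg Heis.c (h ⟨0, Pi.single i 1, 0⟩)
      simpa using this.symm
    · ext i
      have := congrArg Heis.c (h ⟨Pi.single i 1, 0, 0⟩)
      simpa using this
  · rintro ⟨ha, hb⟩ y
    ext i
    · simp [ha]
    · simp [hb]
    · simp [ha, hb, add_comm]

theorem commutator_eq_center (hn : 1 ≤ n) :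
    commutator (Heis n p) = Subgroup.center (Heis n p) := by
  classical
  apply le_antisymm
  · rw [commutator_def, Subgroup.commutator_le]
    intro x _ y _
    rw [commutator_eq, mem_center_iff]
    exact ⟨rfl, rfl⟩
  · intro z hz
    rw [mem_center_iff] at hz
    have h1 : z = ⁅(⟨Pi.single ⟨0, hn⟩ z.c, 0, 0⟩ : Heis n p), ⟨0, Pi.single ⟨0, hn⟩ 1, 0⟩⁆ := by
      rw [commutator_eq]
      ext i
      · simp [hz.1]
      · simp [hz.2]
      · simp
    rw [h1, commutator_def]
    exact Subgroup.commutator_mem_commutator (Subgroup.mem_top _) (Subgroup.mem_top _)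

theorem card_center [hp : Fact p.Prime] : Nat.card (Subgroup.center (Heis n p)) = p := by
  have e : Subgroup.center (Heis n p) ≃ ZMod p :=
    { toFun := fun z => z.1.c
      invFun := fun c => ⟨⟨0, 0, c⟩, (mem_center_iff _).mpr ⟨rfl, rfl⟩⟩
      left_inv := fun z => by
        have := (mem_center_iff _).mp z.2
        apply Subtype.ext
        ext i
        · simp [this.1]
        · simp [this.2]
        · rfl
      right_inv := fun c => rfl }
  rw [Nat.card_congr e, Nat.card_zmod]

end Heis

/-- a finite group of exponent `p` whose derived subgroup is the centre, of order `p`, is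
extraspecial -/
theorem isExtraspecial_of {K : Type*} [Group K] [Finite K] {p : ℕ} [Fact p.Prime]
    (hexp : ∀ x : K, x ^ p = 1) (hcz : commutator K = Subgroup.center K)
    (hz : Nat.card (Subgroup.center K) = p) : Cfsg.IsExtraspecial p K := by
  have hK : IsPGroup p K := fun g => ⟨1, by rw [pow_one]; exact hexp g⟩
  refine ⟨⟨hK, ?_, hcz⟩, hz⟩
  rw [← hcz]
  apply le_antisymm
  · exact Cfsg.Agent.Lib.Lead.frattini_le_of_elementary_quotient (commutator K) le_rfl
      (fun x => by rw [hexp]; exact Subgroup.one_mem _)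
  · exact Cfsg.Agent.Lib.Lead.commutator_le_frattini_of_isPGroup hK

/-- transfer along a group isomorphism -/
theorem isExtraspecial_transfer {H K : Type*} [Group H] [Group K] [Finite H] {p : ℕ}
    [Fact p.Prime] (e : H ≃* K)
    (hexp : ∀ x : H, x ^ p = 1) (hcz : commutator H = Subgroup.center H)
    (hz : Nat.card (Subgroup.center H) = p) : Cfsg.IsExtraspecial p K := by
  haveI : Finite K := Finite.of_equiv H e.toEquiv
  apply isExtraspecial_of
  · intro x
    obtain ⟨y, rfl⟩ := e.surjective x
    rw [← map_pow, hexp, map_one]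
  · have h1 : commutator K = (commutator H).map e.toMonoidHom := by
      rw [commutator_def, commutator_def, Subgroup.map_commutator,
        Subgroup.map_top_of_surjective _ e.surjective]
    rw [h1, hcz]
    ext x
    rw [Subgroup.mem_map, Subgroup.mem_center_iff]
    constructor
    · rintro ⟨y, hy, rfl⟩ g
      obtain ⟨g', rfl⟩ := e.surjective g
      rw [Subgroup.mem_center_iff] at hy
      change e g' * e y = e y * e g'
      rw [← map_mul, ← map_mul, hy g']
    · intro hx
      refine ⟨e.symm x, ?_, by simp⟩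
      rw [Subgroup.mem_center_iff]
      intro g
      apply e.injective
      rw [map_mul, map_mul, e.apply_symm_apply]
      exact hx (e g)
  · rw [← hz]
    exact Nat.card_congr (Subgroup.centerCongr e).symm.toEquiv

/-- For every odd prime p and every n ≥ 1 there is an extraspecial p-group of order p^(1+2n) and exponent p; concretely, the general linear group of degree n + 2 over the field with p elements contains such a subgroup. -/
theorem result (p : ℕ) [Fact p.Prime] (hp : p ≠ 2) (n : ℕ) (hn : 1 ≤ n) : ∃ E : Subgroup (Matrix.GeneralLinearGroup (Fin (n + 2)) (ZMod p)), Cfsg.IsExtraspecial p ↥E ∧ Nat.card E = p ^ (1 + 2 * n) ∧ ∀ x ∈ E, x ^ p = 1 := by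
  classical
  have hcard : Fintype.card (Heis.Idx n) = n + 2 := by
    simp [Heis.Idx]; omega
  let eι : Heis.Idx n ≃ Fin (n + 2) := Fintype.equivFinOfCardEq hcard
  let ψ : (Matrix (Heis.Idx n) (Heis.Idx n) (ZMod p))ˣ ≃*
      Matrix.GeneralLinearGroup (Fin (n + 2)) (ZMod p) :=
    Units.mapEquiv (Matrix.reindexRingEquiv (ZMod p) eι).toMulEquiv
  let φ : Heis n p →* Matrix.GeneralLinearGroup (Fin (n + 2)) (ZMod p) :=
    ψ.toMonoidHom.comp (Heis.toMHom (n := n) (p := p)).toHomUnits
  have hφ : Function.Injective φ := by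
    intro x y h
    have h1 : (Heis.toMHom (n := n) (p := p)).toHomUnits x = Heis.toMHom.toHomUnits y :=
      ψ.injective h
    have h2 := congrArg Units.val h1
    rw [MonoidHom.coe_toHomUnits, MonoidHom.coe_toHomUnits] at h2
    exact Heis.toM_injective h2
  let e : Heis n p ≃* φ.range := MonoidHom.ofInjective hφ
  refine ⟨φ.range, ?_, ?_, ?_⟩
  · exact isExtraspecial_transfer e (Heis.pow_p_eq_one hp) (Heis.commutator_eq_center hn)
      Heis.card_center
  · rw [← Nat.card_congr e.toEquiv, Heis.card_eq]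
  · rintro x ⟨y, rfl⟩
    rw [← map_pow, Heis.pow_p_eq_one hp, map_one]

end Cfsg.Agent.S3799
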