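import Cfsg.Statements.S3800
import Mathlib

set_option autoImplicit false
open Cfsg
open scoped Pointwise

namespace Cfsg.Agent.S3800

variable {G : Type*} [Group G] [Finite G]

lemma card_mul_relIndex (A H : Subgroup G) (h : A ≤ H) : Nat.card A * A.relIndex H = Nat.card H := by
  have := Subgroup.relIndex_mul_relIndex (⊥ : Subgroup G) A H bot_le h
  rwa [Subgroup.relIndex_bot_left, Subgroup.relIndex_bot_left] at this

lemma relIndex_sup_eq (P N : Subgroup G) [N.Normal] (hPN : P ⊓ N = ⊥) :
    P.relIndex (P ⊔ N) = Nat.card N := by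
  have h1 := card_mul_relIndex P (P ⊔ N) le_sup_left
  have h2 := card_mul_relIndex N (P ⊔ N) le_sup_right
  have h3 : N.relIndex (P ⊔ N) = Nat.card P := by
    rw [Subgroup.relIndex_sup_right, ← Subgroup.inf_relIndex_right, inf_comm, hPN,
      Subgroup.relIndex_bot_left]
  rw [h3] at h2
  have hpos : 0 < Nat.card P := Nat.card_pos
  have : Nat.card P * P.relIndex (P ⊔ N) = Nat.card P * Nat.card N := by
    rw [h1, ← h2, mul_comm]
  exact Nat.eq_of_mul_eq_mul_left hpos this

lemma conj_in_sup {p : ℕ} [Fact p.Prime] (P N : Subgroup G) [N.Normal] (hP : IsPGroup p P)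
    (hN : (Nat.card N).Coprime p) (x : G) (hx : ∀ g ∈ P, x * g * x⁻¹ ∈ P ⊔ N) :
    ∃ y ∈ P ⊔ N, y * x ∈ Subgroup.normalizer (P : Set G) := by
  have hp : p.Prime := Fact.out
  set H := P ⊔ N with hH
  have hPN : P ⊓ N = ⊥ := by
    apply disjoint_iff.mp
    apply Subgroup.disjoint_of_coprime_natCard
    obtain ⟨n, hn⟩ := hP.exists_card_eq
    rw [hn]
    exact (Nat.Coprime.pow_left n (Nat.coprime_comm.mp hN))
  have hrel : P.relIndex H = Nat.card N := relIndex_sup_eq P N hPN
  have hndvd : ¬ p ∣ P.relIndex H := by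
    rw [hrel]
    exact (Nat.Prime.coprime_iff_not_dvd hp).mp (Nat.coprime_comm.mp hN)
  -- the conjugate
  let Q : Subgroup G := P.map (MulAut.conj x).toMonoidHom
  have hQmem : ∀ g, g ∈ Q ↔ x⁻¹ * g * x ∈ P := by
    intro g
    constructor
    · rintro ⟨k, hk, rfl⟩
      have : x⁻¹ * ((MulAut.conj x).toMonoidHom k) * x = k := by
        simp [MulAut.conj_apply, mul_assoc]
      rw [this]; exact hk
    · intro h
      refine ⟨x⁻¹ * g * x, h, ?_⟩
      simp [MulAut.conj_apply, mul_assoc]
  have hQH : Q ≤ H := by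
    rintro _ ⟨k, hk, rfl⟩
    simpa [MulAut.conj_apply] using hx k hk
  have hQcard : Nat.card Q = Nat.card P := by
    apply Nat.card_congr
    exact (P.equivMapOfInjective _ (MulAut.conj x).injective).symm.toEquiv
  have hQrel : Q.relIndex H = P.relIndex H := by
    have h1 := card_mul_relIndex P H le_sup_left
    have h2 := card_mul_relIndex Q H hQH
    rw [hQcard, ← h1] at h2
    exact Nat.eq_of_mul_eq_mul_left Nat.card_pos h2
  have hQp : IsPGroup p Q := hP.map _
  let P₁ : Sylow p H := (hP.comap_subtype (H := P) (K := H)).toSylow hndvd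
  let Q₁ : Sylow p H := (hQp.comap_subtype (H := Q) (K := H)).toSylow (by
    show ¬ p ∣ Q.relIndex H
    rw [hQrel]; exact hndvd)
  obtain ⟨h, hh⟩ := MulAction.exists_smul_eq H Q₁ P₁
  have hh' : ∀ z : H, z ∈ P.subgroupOf H ↔ h⁻¹ * z * h ∈ Q.subgroupOf H := by
    intro z
    have e1 : z ∈ (P₁ : Subgroup H) ↔ z ∈ P.subgroupOf H := Iff.rfl
    rw [← e1, ← hh, Sylow.coe_subgroup_smul, Subgroup.mem_pointwise_smul_iff_inv_smul_mem]
    have e2 : (MulAut.conj h)⁻¹ • z = h⁻¹ * z * h := by
      rw [← map_inv, MulAut.smul_def, MulAut.conj_apply, inv_inv]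
    rw [e2]
    exact Iff.rfl
  refine ⟨h, h.2, ?_⟩
  rw [Subgroup.mem_normalizer_iff]
  intro g
  constructor
  · intro hg
    have hz : (h : G) * x * g * ((h : G) * x)⁻¹ ∈ H := by
      have : (h : G) * x * g * ((h : G) * x)⁻¹ = (h : G) * (x * g * x⁻¹) * (h : G)⁻¹ := by group
      rw [this]
      exact H.mul_mem (H.mul_mem h.2 (hx g hg)) (H.inv_mem h.2)
    have := (hh' ⟨_, hz⟩).mpr (by
      rw [Subgroup.mem_subgroupOf, hQmem]
      simp only [Subgroup.coe_mul, Subgroup.coe_inv]
      have : x⁻¹ * ((h : G)⁻¹ * ((h : G) * x * g * ((h : G) * x)⁻¹) * (h : G)) * x = g := by group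
      rw [this]; exact hg)
    exact this
  · intro hg
    have hz : (h : G) * x * g * ((h : G) * x)⁻¹ ∈ H := (le_sup_left : P ≤ H) hg
    have := (hh' ⟨_, hz⟩).mp hg
    rw [Subgroup.mem_subgroupOf, hQmem] at this
    simp only [Subgroup.coe_mul, Subgroup.coe_inv] at this
    have e : x⁻¹ * ((h : G)⁻¹ * ((h : G) * x * g * ((h : G) * x)⁻¹) * (h : G)) * x = g := by group
    rwa [e] at this

theorem result {G : Type*} [Group G] [Finite G] {p : ℕ} [Fact p.Prime] (N : Subgroup G) [N.Normal] (hN : (Nat.card N).Coprime p) (P : Subgroup G) (hP : IsPGroup p P) : Subgroup.normalizer ((P.map (QuotientGroup.mk' N)) : Set (G ⧸ N)) = (Subgroup.normalizer (P : Set G)).map (QuotientGroup.mk' N) ∧ Subgroup.centralizer ((P.map (QuotientGroup.mk' N)) : Set (G ⧸ N)) = (Subgroup.centralizer (P : Set G)).map (QuotientGroup.mk' N) := by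
  have hp : p.Prime := Fact.out
  set π := QuotientGroup.mk' N with hπ
  have hPN : P ⊓ N = ⊥ := by
    apply disjoint_iff.mp
    apply Subgroup.disjoint_of_coprime_natCard
    obtain ⟨n, hn⟩ := hP.exists_card_eq
    rw [hn]
    exact (Nat.Coprime.pow_left n (Nat.coprime_comm.mp hN))
  have hcomap : (P.map π).comap π = P ⊔ N := by
    rw [Subgroup.comap_map_eq, hπ, QuotientGroup.ker_mk']
  have hnorm : Subgroup.normalizer ((P.map π) : Set (G ⧸ N)) = (Subgroup.normalizer (P : Set G)).map π := by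
    apply le_antisymm
    · intro xb hxb
      obtain ⟨x, rfl⟩ := QuotientGroup.mk'_surjective N xb
      have hx : ∀ g ∈ P, x * g * x⁻¹ ∈ P ⊔ N := by
        intro g hg
        rw [← hcomap, Subgroup.mem_comap]
        rw [Subgroup.mem_normalizer_iff] at hxb
        have := (hxb (π g)).mp (Subgroup.mem_map_of_mem π hg)
        rw [map_mul, map_mul, map_inv]; exact this
      obtain ⟨y, hy, hyx⟩ := conj_in_sup P N hP hN x hx
      have hπy : π y ∈ (Subgroup.normalizer (P : Set G)).map π := by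
        rw [← hcomap, Subgroup.mem_comap] at hy
        obtain ⟨u, hu, hu'⟩ := hy
        rw [← hu']
        exact Subgroup.mem_map_of_mem π (Subgroup.le_normalizer hu)
      have : π x = (π y)⁻¹ * π (y * x) := by rw [map_mul]; group
      rw [this]
      exact Subgroup.mul_mem _ (Subgroup.inv_mem _ hπy) (Subgroup.mem_map_of_mem π hyx)
    · exact Subgroup.le_normalizer_map π
  refine ⟨hnorm, ?_⟩
  apply le_antisymm
  · intro xb hxb
    have hxn : xb ∈ Subgroup.normalizer ((P.map π) : Set (G ⧸ N)) := by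
      rw [Subgroup.mem_normalizer_iff]
      intro z
      rw [Subgroup.mem_centralizer_iff] at hxb
      constructor
      · intro hz
        have := hxb z hz
        have e : xb * z * xb⁻¹ = z := by rw [← this]; group
        rw [e]; exact hz
      · intro hz
        have := hxb _ hz
        have e : z = xb * z * xb⁻¹ := by
          have h2 : xb * z * xb⁻¹ * xb = xb * (xb * z * xb⁻¹) := this
          have h3 : xb * z = xb * (xb * z * xb⁻¹) := by rw [← h2]; group
          exact mul_left_cancel h3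
        rw [e]; exact hz
    rw [hnorm] at hxn
    obtain ⟨g, hg, rfl⟩ := hxn
    refine ⟨g, ?_, rfl⟩
    show g ∈ Subgroup.centralizer (P : Set G)
    rw [Subgroup.mem_centralizer_iff]
    intro u hu
    have hg : g ∈ Subgroup.normalizer (P : Set G) := hg
    have h1 : g * u * g⁻¹ * u⁻¹ ∈ P := by
      rw [Subgroup.mem_normalizer_iff] at hg
      exact P.mul_mem ((hg u).mp hu) (P.inv_mem hu)
    have h2 : g * u * g⁻¹ * u⁻¹ ∈ N := by
      rw [← QuotientGroup.eq_one_iff]
      rw [Subgroup.mem_centralizer_iff] at hxb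
      have := hxb (π u) (Subgroup.mem_map_of_mem π hu)
      show π (g * u * g⁻¹ * u⁻¹) = 1
      simp only [map_mul, map_inv]
      rw [← this]; group
    have h3 : g * u * g⁻¹ * u⁻¹ ∈ P ⊓ N := ⟨h1, h2⟩
    rw [hPN, Subgroup.mem_bot] at h3
    have : g * u = (g * u * g⁻¹ * u⁻¹) * (u * g) := by group
    rw [this, h3, one_mul]
  · rintro _ ⟨g, hg, rfl⟩
    rw [Subgroup.mem_centralizer_iff]
    rintro _ ⟨u, hu, rfl⟩
    have hg : g ∈ Subgroup.centralizer (P : Set G) := hg
    rw [Subgroup.mem_centralizer_iff] at hg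
    rw [← map_mul, ← map_mul, hg u hu]

end Cfsg.Agent.S3800
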