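import Mathlib
import Cfsg.Statements.S3803
import Cfsg.Agent.S3736
import Cfsg.Agent.Lib.Helper4.CyclicUnique
import Cfsg.Agent.Lib.Lead.CoprimeFrattini
import Cfsg.Agent.Lib.Lead.HallTools
import Cfsg.Agent.Lib.Lead.Frattini

set_option autoImplicit false
open Cfsg

namespace Cfsg.Agent.S3803

open Cfsg.Agent.Lib Cfsg.Agent.Lib.Helper7
open scoped commutatorElement

section
variable {X : Type*} [Group X]

theorem mem_map_subtype_iff {F : Subgroup X} (M : Subgroup F) (g : X) (hg : g ∈ F) :
    g ∈ M.map F.subtype ↔ (⟨g, hg⟩ : F) ∈ M := by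
  constructor
  · rintro ⟨w, hw, hwg⟩
    have : w = ⟨g, hg⟩ := Subtype.ext hwg
    rw [← this]; exact hw
  · intro h
    exact ⟨⟨g, hg⟩, h, rfl⟩

/-- a group of odd order normalizing all maximal subgroups of a `2`-group centralizes it -/
theorem centralizes_of_max_invariant [Finite X] (F A : Subgroup X) (hF : IsPGroup 2 F)
    (hA : Odd (Nat.card A)) (hAF : A ≤ Subgroup.normalizer (F : Set X))
    (hmax : ∀ M : Subgroup F, IsCoatom M →
      A ≤ Subgroup.normalizer ((M.map F.subtype : Subgroup X) : Set X)) :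
    A ≤ Subgroup.centralizer (F : Set X) := by
  haveI : Fact (Nat.Prime 2) := ⟨Nat.prime_two⟩
  have hcop : (Nat.card A).Coprime (Nat.card (frattini F)) := by
    obtain ⟨j, hj⟩ := IsPGroup.iff_card.mp (hF.to_subgroup (frattini F))
    rw [hj]
    exact Nat.Coprime.pow_right j hA.coprime_two_right
  apply Lead.coprime_trivial_on_frattini_quotient A F hAF hcop
  intro a ha k hk
  have hak : a * k * a⁻¹ ∈ F := (Subgroup.mem_normalizer_iff.mp (hAF ha) k).mp hk
  rw [mem_map_subtype_iff _ _ (mul_mem hak (inv_mem hk)), Lead.mem_frattini_iff]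
  intro M hM
  obtain ⟨hMn, hMi⟩ := Lead.coatom_normal_index_of_isPGroup hF hM
  have hinv := Subgroup.mem_normalizer_iff.mp (hmax M hM ha) k
  rw [mem_map_subtype_iff M k hk, mem_map_subtype_iff M _ hak] at hinv
  have e : (⟨a * k * a⁻¹ * k⁻¹, mul_mem hak (inv_mem hk)⟩ : F) =
      (⟨a * k * a⁻¹, hak⟩ : F) * (⟨k, hk⟩ : F)⁻¹ := rfl
  rw [e, Subgroup.mul_mem_iff_of_index_two hMi, inv_mem_iff]
  exact hinv.symm

/-- a subgroup of a cyclic subgroup is cyclic -/
theorem isCyclic_of_le {H K : Subgroup X} (hHK : H ≤ K) (hK : IsCyclic K) : IsCyclic H := by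
  haveI := hK
  haveI : IsCyclic (H.subgroupOf K) := inferInstance
  exact isCyclic_of_surjective (Subgroup.subgroupOfEquivOfLe hHK)
    (Subgroup.subgroupOfEquivOfLe hHK).surjective

end

/-- Let P be a 2-subgroup and A a subgroup of odd order of a finite group, with A normalizing P. Let D ≤ P with 1 < |D| < |P|. If every subgroup of P of order |D|, and also every subgroup of P of order 4 in case |D| = 2, is normalized by A, then A centralizes P. -/
theorem result {X : Type*} [Group X] [Finite X] (P A D : Subgroup X) (hP : IsPGroup 2 P) (hA : Odd (Nat.card A))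
    (hAP : A ≤ Subgroup.normalizer (P : Set X)) (hDP : D ≤ P) (hD1 : 1 < Nat.card D) (hD2 : Nat.card D < Nat.card P)
    (hinv : ∀ E : Subgroup X, E ≤ P → (Nat.card E = Nat.card D ∨ (Nat.card D = 2 ∧ Nat.card E = 4)) → A ≤ Subgroup.normalizer (E : Set X)) :
    A ≤ Subgroup.centralizer (P : Set X) := by
  classical
  haveI : Fact (Nat.Prime 2) := ⟨Nat.prime_two⟩
  by_contra hcon
  let S : Set (Subgroup X) :=
    {U | U ≤ P ∧ A ≤ Subgroup.normalizer (U : Set X) ∧ ⁅U, A⁆ ≠ ⊥}
  have hPS : P ∈ S := by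
    refine ⟨le_rfl, hAP, fun h => hcon ?_⟩
    rw [Subgroup.commutator_comm] at h
    exact Subgroup.commutator_eq_bot_iff_le_centralizer.mp h
  obtain ⟨P₀, hP₀S, hP₀min⟩ :=
    Set.exists_min_image S (fun U => Nat.card U) (Set.toFinite S) ⟨P, hPS⟩
  obtain ⟨hP₀P, hAP₀, hP₀A⟩ := hP₀S
  have hP₀2 : IsPGroup 2 P₀ := hP.to_le hP₀P
  have hAcop : (Nat.card A).Coprime 2 := hA.coprime_two_right
  have hmin : ∀ U : Subgroup X, U < P₀ → A ≤ Subgroup.normalizer (U : Set X) → ⁅U, A⁆ = ⊥ := by
    intro U hU hAU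
    by_contra hne
    have h1 : Nat.card P₀ ≤ Nat.card U := hP₀min U ⟨hU.le.trans hP₀P, hAU, hne⟩
    exact hU.ne (Subgroup.eq_of_le_of_card_ge hU.le h1)
  obtain ⟨h1, h2, -, -⟩ :=
    S3736.result A A P₀ hP₀2 hAP₀ le_rfl Subgroup.le_normalizer hAcop hP₀A hmin
  -- exponent dividing four
  have hexp4 : ∀ x ∈ P₀, x ^ 4 = 1 := by
    rcases h2 with hEA | hSp
    · intro x hx
      have := hEA.2 x hx
      rw [show 4 = 2 * 2 from rfl, pow_mul, this, one_pow]
    · obtain ⟨-, hFZ, hCZ⟩ := hSp
      have hcen : ∀ x y z : P₀, Commute ⁅y, x⁆ z := by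
        intro x y z
        have hc : ⁅y, x⁆ ∈ Subgroup.center P₀ := by
          rw [← hCZ, commutator_def]
          exact Subgroup.commutator_mem_commutator (Subgroup.mem_top y) (Subgroup.mem_top x)
        exact (Subgroup.mem_center_iff.mp hc z).symm
      have hsqZ : ∀ y : P₀, y ^ 2 ∈ Subgroup.center P₀ := by
        intro y
        rw [← hFZ]; exact Lead.pow_mem_frattini_of_isPGroup hP₀2 y
      have hc2 : ∀ x y : P₀, ⁅y, x⁆ ^ 2 = 1 := by
        intro x y
        have h := pow_mul_comm_of_central x y (hcen x y y) 2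
        have hyp : y ^ 2 * x = x * y ^ 2 := (Subgroup.mem_center_iff.mp (hsqZ y) x).symm
        rw [hyp] at h
        have : ⁅y, x⁆ ^ 2 * (x * y ^ 2) = 1 * (x * y ^ 2) := by
          rw [one_mul, ← mul_assoc]; exact h.symm
        exact mul_right_cancel this
      -- the subgroup of central involutions
      let T : Subgroup P₀ :=
        { carrier := {z | z ∈ Subgroup.center P₀ ∧ z ^ 2 = 1}
          one_mem' := ⟨Subgroup.one_mem _, one_pow _⟩
          mul_mem' := by
            rintro a b ⟨ha, ha2⟩ ⟨hb, hb2⟩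
            refine ⟨Subgroup.mul_mem _ ha hb, ?_⟩
            have : Commute a b := (Subgroup.mem_center_iff.mp ha b).symm
            rw [this.mul_pow, ha2, hb2, one_mul]
          inv_mem' := by
            rintro a ⟨ha, ha2⟩
            exact ⟨Subgroup.inv_mem _ ha, by rw [inv_pow, ha2, inv_one]⟩ }
      have hCT : commutator P₀ ≤ T := by
        rw [commutator_def, Subgroup.commutator_le]
        intro g₁ _ g₂ _
        refine ⟨?_, hc2 g₂ g₁⟩
        rw [← hCZ, commutator_def]
        exact Subgroup.commutator_mem_commutator (Subgroup.mem_top g₁) (Subgroup.mem_top g₂)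
      intro x hx
      have hx2 : (⟨x, hx⟩ : P₀) ^ 2 ∈ T := by
        apply hCT
        rw [hCZ, ← hFZ]
        exact Lead.pow_mem_frattini_of_isPGroup hP₀2 _
      have h4 : ((⟨x, hx⟩ : P₀) ^ 2) ^ 2 = 1 := hx2.2
      rw [← pow_mul] at h4
      have := congrArg Subtype.val h4
      simpa using this
  -- `P₀` is not cyclic
  have hncyc : ¬ IsCyclic P₀ := by
    intro hc
    apply hP₀A
    have hcent := centralizes_of_max_invariant P₀ A hP₀2 hA hAP₀ (fun M hM => by
      intro a ha
      apply Subgroup.mem_normalizer_fintype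
      intro g hg
      have hgP₀ : g ∈ P₀ := Subgroup.map_subtype_le M hg
      -- the conjugate of `M`
      have hconjle : (M.map P₀.subtype).map (MulAut.conj a).toMonoidHom ≤ P₀ := by
        rintro _ ⟨y, hy, rfl⟩
        exact (Subgroup.mem_normalizer_iff.mp (hAP₀ ha) y).mp (Subgroup.map_subtype_le M hy)
      have hcard : Nat.card ((M.map P₀.subtype).map (MulAut.conj a).toMonoidHom) =
          Nat.card (M.map P₀.subtype) :=
        Subgroup.card_map_of_injective (MulAut.conj a).injective
      have heq := Helper4.subgroup_eq_of_card_eq_of_le_cyclic P₀ _ _ hc hconjle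
        (Subgroup.map_subtype_le M) hcard
      rw [← heq]
      exact ⟨g, hg, rfl⟩)
    rw [Subgroup.commutator_comm]
    exact Subgroup.commutator_eq_bot_iff_le_centralizer.mpr hcent
  -- the orders
  obtain ⟨k, hk⟩ := IsPGroup.iff_card.mp hP₀2
  obtain ⟨m, hm⟩ := IsPGroup.iff_card.mp (hP.to_le hDP)
  obtain ⟨n, hn⟩ := IsPGroup.iff_card.mp hP
  have hm1 : 1 ≤ m := by
    by_contra h
    have : m = 0 := by omega
    rw [hm, this, pow_zero] at hD1
    omega
  have hmn : m < n := by
    rw [hm, hn] at hD2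
    exact (Nat.pow_lt_pow_iff_right (le_refl 2)).mp hD2
  by_cases hkm : k ≤ m
  · -- a subgroup of order `2 ^ (m + 1)` containing `P₀`
    have hdvd : 2 ^ (m + 1) ∣ Nat.card P := by rw [hn]; exact pow_dvd_pow 2 (by omega)
    obtain ⟨F', hF'card, hF'le⟩ := Sylow.exists_subgroup_card_pow_prime_le 2 hdvd
      (P₀.subgroupOf P) (by rw [Lead.card_subgroupOf_of_le hP₀P, hk]) (by omega : k ≤ m + 1)
    obtain ⟨F, hF⟩ : ∃ F : Subgroup X, F = F'.map P.subtype := ⟨_, rfl⟩
    have hFP : F ≤ P := by rw [hF]; exact Subgroup.map_subtype_le _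
    have hFcard : Nat.card F = 2 ^ (m + 1) := by rw [hF, Lead.card_map_subtype, hF'card]
    have hP₀F : P₀ ≤ F := by
      intro g hg
      rw [hF]
      exact ⟨⟨g, hP₀P hg⟩, hF'le (Subgroup.mem_subgroupOf.mpr hg), rfl⟩
    have hF2 : IsPGroup 2 F := hP.to_le hFP
    have hFnc : ¬ IsCyclic F := fun hc => hncyc (isCyclic_of_le hP₀F hc)
    have hFmax : ∀ M : Subgroup F, IsCoatom M →
        A ≤ Subgroup.normalizer ((M.map F.subtype : Subgroup X) : Set X) := by
      intro M hM
      obtain ⟨-, hMi⟩ := Lead.coatom_normal_index_of_isPGroup hF2 hM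
      apply hinv _ ((Subgroup.map_subtype_le M).trans hFP)
      left
      rw [Lead.card_map_subtype, hm]
      have := Subgroup.card_mul_index M
      rw [hMi, hFcard, pow_succ] at this
      omega
    have hAF : A ≤ Subgroup.normalizer (F : Set X) := by
      intro a ha
      apply Subgroup.mem_normalizer_fintype
      intro x hx
      have hz : Subgroup.zpowers (⟨x, hx⟩ : F) ≠ ⊤ := fun h =>
        hFnc (isCyclic_iff_exists_zpowers_eq_top.mpr ⟨_, h⟩)
      obtain ⟨M, hM, hzM⟩ := (eq_top_or_exists_le_coatom _).resolve_left hz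
      have hxM : x ∈ M.map F.subtype := ⟨⟨x, hx⟩, hzM (Subgroup.mem_zpowers _), rfl⟩
      have := (Subgroup.mem_normalizer_iff.mp (hFmax M hM ha) x).mp hxM
      exact Subgroup.map_subtype_le M this
    have hcent := centralizes_of_max_invariant F A hF2 hA hAF hFmax
    apply hP₀A
    rw [Subgroup.commutator_comm, Subgroup.commutator_eq_bot_iff_le_centralizer]
    exact hcent.trans (Subgroup.centralizer_le hP₀F)
  · -- `m < k`
    have hmk : m < k := by omega
    apply hP₀A
    rw [Subgroup.commutator_eq_bot_iff_le_centralizer]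
    intro x hx
    by_cases hx1 : x = 1
    · rw [hx1]; exact Subgroup.one_mem _
    obtain ⟨R, hxR, hRlt, hAR⟩ : ∃ R : Subgroup X, x ∈ R ∧ R < P₀ ∧
        A ≤ Subgroup.normalizer (R : Set X) := by
      have hord : orderOf x ∣ 2 ^ 2 := orderOf_dvd_of_pow_eq_one (hexp4 x hx)
      obtain ⟨j, hj2, hj⟩ := (Nat.dvd_prime_pow Nat.prime_two).mp hord
      have hZle : Subgroup.zpowers x ≤ P₀ := Subgroup.zpowers_le.mpr hx
      have hZcard : Nat.card (Subgroup.zpowers x) = 2 ^ j := by rw [Nat.card_zpowers, hj]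
      have hj0 : j ≠ 0 := by
        intro h0
        rw [h0, pow_zero, orderOf_eq_one_iff] at hj
        exact hx1 hj
      by_cases hm2 : 2 ≤ m
      · have hdvd : 2 ^ m ∣ Nat.card P₀ := by rw [hk]; exact pow_dvd_pow 2 hmk.le
        obtain ⟨R', hR'card, hR'le⟩ := Sylow.exists_subgroup_card_pow_prime_le 2 hdvd
          ((Subgroup.zpowers x).subgroupOf P₀)
          (by rw [Lead.card_subgroupOf_of_le hZle, hZcard]) (by omega : j ≤ m)
        refine ⟨R'.map P₀.subtype, ?_, ?_, ?_⟩
        · exact ⟨⟨x, hx⟩, hR'le (Subgroup.mem_subgroupOf.mpr (Subgroup.mem_zpowers x)), rfl⟩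
        · refine lt_of_le_of_ne (Subgroup.map_subtype_le _) ?_
          intro h
          have h3 : Nat.card (R'.map P₀.subtype) = Nat.card P₀ := by rw [h]
          rw [Lead.card_map_subtype, hR'card, hk] at h3
          have := Nat.pow_right_injective (le_refl 2) h3
          omega
        · apply hinv _ ((Subgroup.map_subtype_le _).trans hP₀P)
          left
          rw [Lead.card_map_subtype, hR'card, hm]
      · have hm1' : m = 1 := by omega
        refine ⟨Subgroup.zpowers x, Subgroup.mem_zpowers x, ?_, ?_⟩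
        · refine lt_of_le_of_ne hZle ?_
          intro h
          apply hncyc
          rw [← h]
          exact Subgroup.isCyclic_zpowers x
        · apply hinv _ (hZle.trans hP₀P)
          have hj12 : j = 1 ∨ j = 2 := by omega
          rcases hj12 with h | h
          · left
            rw [hZcard, hm, h, hm1']
          · right
            rw [hZcard, hm, h, hm1']
            exact ⟨by norm_num, by norm_num⟩
    have := hmin R hRlt hAR
    exact (Subgroup.commutator_eq_bot_iff_le_centralizer.mp this) hxR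

end Cfsg.Agent.S3803
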