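import Mathlib
import Cfsg.Statements.S3804
import Cfsg.Agent.Lib.Helper7.ProdSet

set_option autoImplicit false
open Cfsg

namespace Cfsg.Agent.S3804

open Cfsg.Agent.Lib.Helper7 Cfsg.Agent.Lib.Lead

/-- the arithmetic core -/
theorem arith (α : ℝ) (hα : 0 < α) (x x' y y' i b cJ cB M : ℝ)
    (hx : 0 < x) (hy : 0 < y) (hi : 0 < i) (hb : 0 < b) (hcJ : 0 < cJ)
    (hcB : 0 < cB) (hxx : x ≤ x') (hyy : y ≤ y')
    (hM1 : M = (x * i) ^ α * (y * cJ)) (hM2 : M = b ^ α * cB)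
    (hJ : (x' * b) ^ α * cJ ≤ M) (hI : i ^ α * (y' * cB) ≤ M) :
    x = x' ∧ y = y' ∧ (x' * b) ^ α * cJ = M ∧ i ^ α * (y' * cB) = M := by
  have hx' : 0 < x' := lt_of_lt_of_le hx hxx
  have hy' : 0 < y' := lt_of_lt_of_le hy hyy
  set P := x ^ α with hP
  set P' := x' ^ α with hP'
  set Ia := i ^ α with hIa
  set Ba := b ^ α with hBa
  have hPpos : 0 < P := Real.rpow_pos_of_pos hx α
  have hP'pos : 0 < P' := Real.rpow_pos_of_pos hx' α
  have hIapos : 0 < Ia := Real.rpow_pos_of_pos hi α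
  have hBapos : 0 < Ba := Real.rpow_pos_of_pos hb α
  have hPP : P ≤ P' := Real.rpow_le_rpow hx.le hxx hα.le
  have e1 : (x * i) ^ α = P * Ia := Real.mul_rpow hx.le hi.le
  have e2 : (x' * b) ^ α = P' * Ba := Real.mul_rpow hx'.le hb.le
  rw [e1] at hM1
  rw [e2] at hJ ⊢
  have hMpos : 0 < M := by rw [hM2]; positivity
  set u := P' * Ba * cJ with hu
  set v := Ia * (y' * cB) with hv
  have hupos : 0 < u := by positivity
  have hvpos : 0 < v := by positivity
  -- M * M = (P Ba cJ) (Ia y cB) ≤ u v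
  have hMM : M * M = (P * Ba * cJ) * (Ia * (y * cB)) := by
    nth_rewrite 1 [hM1]
    rw [hM2]; ring
  have h1 : (P * Ba * cJ) * (Ia * (y * cB)) ≤ u * v := by
    apply mul_le_mul
    · exact mul_le_mul_of_nonneg_right (mul_le_mul_of_nonneg_right hPP hBapos.le) hcJ.le
    · exact mul_le_mul_of_nonneg_left (mul_le_mul_of_nonneg_right hyy hcB.le) hIapos.le
    · positivity
    · positivity
  have h2 : M * M ≤ u * v := hMM ▸ h1
  have huM : u = M := by
    by_contra hne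
    have hlt : u < M := lt_of_le_of_ne hJ hne
    have : u * v < M * M := by
      calc u * v < M * v := mul_lt_mul_of_pos_right hlt hvpos
        _ ≤ M * M := mul_le_mul_of_nonneg_left hI hMpos.le
    linarith
  have hvM : v = M := by
    by_contra hne
    have hlt : v < M := lt_of_le_of_ne hI hne
    have : u * v < M * M := by
      calc u * v < u * M := mul_lt_mul_of_pos_left hlt hupos
        _ ≤ M * M := mul_le_mul_of_nonneg_right hJ hMpos.le
    linarith
  -- P y = P' y'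
  have h3 : (P * Ba * cJ) * (Ia * (y * cB)) = u * v := by
    rw [← hMM, huM, hvM]
  have h4 : P * y = P' * y' := by
    have h5 : (P * y) * (Ba * cJ * Ia * cB) = (P' * y') * (Ba * cJ * Ia * cB) := by
      have : (P * Ba * cJ) * (Ia * (y * cB)) = (P * y) * (Ba * cJ * Ia * cB) := by ring
      rw [← this, h3, hu, hv]; ring
    have hpos : 0 < Ba * cJ * Ia * cB := by positivity
    exact mul_right_cancel₀ hpos.ne' h5
  have hPeq : P = P' := by
    by_contra hne
    have hlt : P < P' := lt_of_le_of_ne hPP hne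
    have : P * y < P' * y' := by
      calc P * y < P' * y := mul_lt_mul_of_pos_right hlt hy
        _ ≤ P' * y' := mul_le_mul_of_nonneg_left hyy hP'pos.le
    linarith
  have hyeq : y = y' := by
    rw [hPeq] at h4
    exact mul_left_cancel₀ hP'pos.ne' h4
  have hxeq : x = x' := by
    by_contra hne
    have hlt : x < x' := lt_of_le_of_ne hxx hne
    have : P < P' := Real.rpow_lt_rpow hx.le hlt hα
    linarith
  exact ⟨hxeq, hyeq, huM, hvM⟩

/-- Let G and H be subgroups of a finite group with G normalizing H, fix a real number α > 0, and for a subgroup A of G put m(A) = |A|^α · |C_H(A)|. Let A and B be nontrivial subgroups of G at which m attains its maximum over all nontrivial subgroups of G, and assume that A ∩ B ≠ 1 or that this maximum is at least |H|. Then AB = BA is a subgroup at which m is again maximal, C_H(A ∩ B) = C_H(A) C_H(B), and if A ∩ B ≠ 1 then m is maximal at A ∩ B as well. -/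
theorem result {X : Type*} [Group X] [Finite X] (G H : Subgroup X) (hGH : G ≤ Subgroup.normalizer (H : Set X)) (α : ℝ) (hα : 0 < α)
    (A B : Subgroup X) (hA : A ≤ G) (hB : B ≤ G) (hA1 : A ≠ ⊥) (hB1 : B ≠ ⊥)
    (hAmax : ∀ A' : Subgroup X, A' ≤ G → A' ≠ ⊥ → (fun A : Subgroup X => ((Nat.card A : ℝ) ^ α) * (Nat.card ↥(H ⊓ Subgroup.centralizer (A : Set X)) : ℝ)) A' ≤ (fun A : Subgroup X => ((Nat.card A : ℝ) ^ α) * (Nat.card ↥(H ⊓ Subgroup.centralizer (A : Set X)) : ℝ)) A)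
    (hBmax : ∀ A' : Subgroup X, A' ≤ G → A' ≠ ⊥ → (fun A : Subgroup X => ((Nat.card A : ℝ) ^ α) * (Nat.card ↥(H ⊓ Subgroup.centralizer (A : Set X)) : ℝ)) A' ≤ (fun A : Subgroup X => ((Nat.card A : ℝ) ^ α) * (Nat.card ↥(H ⊓ Subgroup.centralizer (A : Set X)) : ℝ)) B)
    (hcase : A ⊓ B ≠ ⊥ ∨ (Nat.card H : ℝ) ≤ (fun A : Subgroup X => ((Nat.card A : ℝ) ^ α) * (Nat.card ↥(H ⊓ Subgroup.centralizer (A : Set X)) : ℝ)) A) :
    (∀ a ∈ A, ∀ b ∈ B, ∃ b' ∈ B, ∃ a' ∈ A, a * b = b' * a') ∧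
    (∀ A' : Subgroup X, A' ≤ G → A' ≠ ⊥ → (fun A : Subgroup X => ((Nat.card A : ℝ) ^ α) * (Nat.card ↥(H ⊓ Subgroup.centralizer (A : Set X)) : ℝ)) A' ≤ (fun A : Subgroup X => ((Nat.card A : ℝ) ^ α) * (Nat.card ↥(H ⊓ Subgroup.centralizer (A : Set X)) : ℝ)) (A ⊔ B)) ∧
    (∀ h ∈ H ⊓ Subgroup.centralizer ((A ⊓ B : Subgroup X) : Set X), ∃ u ∈ H ⊓ Subgroup.centralizer (A : Set X), ∃ v ∈ H ⊓ Subgroup.centralizer (B : Set X), h = u * v) ∧
    (A ⊓ B ≠ ⊥ → ∀ A' : Subgroup X, A' ≤ G → A' ≠ ⊥ → (fun A : Subgroup X => ((Nat.card A : ℝ) ^ α) * (Nat.card ↥(H ⊓ Subgroup.centralizer (A : Set X)) : ℝ)) A' ≤ (fun A : Subgroup X => ((Nat.card A : ℝ) ^ α) * (Nat.card ↥(H ⊓ Subgroup.centralizer (A : Set X)) : ℝ)) (A ⊓ B)) := by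
  beta_reduce at hAmax hBmax hcase ⊢
  set CA := H ⊓ Subgroup.centralizer (A : Set X) with hCA
  set CB := H ⊓ Subgroup.centralizer (B : Set X) with hCB
  set CI := H ⊓ Subgroup.centralizer ((A ⊓ B : Subgroup X) : Set X) with hCI
  set CJ := H ⊓ Subgroup.centralizer ((A ⊔ B : Subgroup X) : Set X) with hCJ
  have hcent : Subgroup.centralizer ((A ⊔ B : Subgroup X) : Set X) =
      Subgroup.centralizer (A : Set X) ⊓ Subgroup.centralizer (B : Set X) := by
    apply le_antisymm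
    · exact le_inf (Subgroup.centralizer_le (by exact_mod_cast (le_sup_left : A ≤ A ⊔ B)))
        (Subgroup.centralizer_le (by exact_mod_cast (le_sup_right : B ≤ A ⊔ B)))
    · rw [Subgroup.le_centralizer_iff]
      apply sup_le
      · rw [← Subgroup.le_centralizer_iff]; exact inf_le_left
      · rw [← Subgroup.le_centralizer_iff]; exact inf_le_right
  have hCJ' : CB ⊓ CA = CJ := by
    rw [hCJ, hcent, hCA, hCB]
    ext z
    simp only [Subgroup.mem_inf]
    tauto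
  have hCACI : CA ≤ CI :=
    inf_le_inf_left H (Subgroup.centralizer_le (by exact_mod_cast (inf_le_left : A ⊓ B ≤ A)))
  have hCBCI : CB ≤ CI :=
    inf_le_inf_left H (Subgroup.centralizer_le (by exact_mod_cast (inf_le_right : A ⊓ B ≤ B)))
  -- natural number identities
  have hxi := relIndex_mul_card_inf B A
  have hx'b := relIndex_mul_card_inf B (A ⊔ B)
  rw [inf_eq_left.mpr (le_sup_right : B ≤ A ⊔ B)] at hx'b
  have hycJ := relIndex_mul_card_inf CB CA
  rw [hCJ'] at hycJ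
  have hy'cB := relIndex_mul_card_inf CB CI
  rw [inf_eq_left.mpr hCBCI] at hy'cB
  rw [inf_comm] at hxi
  have hxx : B.relIndex A ≤ B.relIndex (A ⊔ B) :=
    Subgroup.relIndex_le_of_le_right le_sup_left (relIndex_pos _ _).ne'
  have hyy : CB.relIndex CA ≤ CB.relIndex CI :=
    Subgroup.relIndex_le_of_le_right hCACI (relIndex_pos _ _).ne'
  -- real versions
  have hxiR : (Nat.card A : ℝ) = (B.relIndex A : ℝ) * (Nat.card (A ⊓ B : Subgroup X) : ℝ) := by
    rw [← hxi]; push_cast; ring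
  have hx'bR : (Nat.card (A ⊔ B : Subgroup X) : ℝ) = (B.relIndex (A ⊔ B) : ℝ) * (Nat.card B : ℝ) := by
    rw [← hx'b]; push_cast; ring
  have hycJR : (Nat.card CA : ℝ) = (CB.relIndex CA : ℝ) * (Nat.card CJ : ℝ) := by
    rw [← hycJ]; push_cast; ring
  have hy'cBR : (Nat.card CI : ℝ) = (CB.relIndex CI : ℝ) * (Nat.card CB : ℝ) := by
    rw [← hy'cB]; push_cast; ring
  have hAB : ((Nat.card A : ℝ) ^ α) * (Nat.card CA : ℝ) = ((Nat.card B : ℝ) ^ α) * (Nat.card CB : ℝ) :=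
    le_antisymm (hBmax A hA hA1) (hAmax B hB hB1)
  have hJ1 : A ⊔ B ≠ ⊥ := fun h => hA1 (le_bot_iff.mp (h ▸ le_sup_left))
  have hJ := hAmax (A ⊔ B) (sup_le hA hB) hJ1
  have hI : ((Nat.card (A ⊓ B : Subgroup X) : ℝ) ^ α) * (Nat.card CI : ℝ) ≤
      ((Nat.card A : ℝ) ^ α) * (Nat.card CA : ℝ) := by
    by_cases hI1 : A ⊓ B = ⊥
    · have h1 : (Nat.card H : ℝ) ≤ ((Nat.card A : ℝ) ^ α) * (Nat.card CA : ℝ) := by
        rcases hcase with h | h
        · exact absurd hI1 h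
        · exact h
      have h2 : CI = H := by
        rw [hCI, hI1]
        apply inf_eq_left.mpr
        intro z _
        rw [Subgroup.mem_centralizer_iff]
        intro g hg
        have : g = 1 := by simpa using hg
        rw [this]; simp
      rw [h2, hI1, Subgroup.card_bot]
      simpa using h1
    · exact hAmax (A ⊓ B) (inf_le_left.trans hA) hI1
  rw [hx'bR] at hJ
  rw [hy'cBR] at hI
  have hxpos : (0 : ℝ) < (B.relIndex A : ℝ) := by exact_mod_cast relIndex_pos B A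
  have hypos : (0 : ℝ) < (CB.relIndex CA : ℝ) := by exact_mod_cast relIndex_pos CB CA
  have hipos : (0 : ℝ) < (Nat.card (A ⊓ B : Subgroup X) : ℝ) := by exact_mod_cast Nat.card_pos
  have hbpos : (0 : ℝ) < (Nat.card B : ℝ) := by exact_mod_cast Nat.card_pos
  have hcJpos : (0 : ℝ) < (Nat.card CJ : ℝ) := by exact_mod_cast Nat.card_pos
  have hcBpos : (0 : ℝ) < (Nat.card CB : ℝ) := by exact_mod_cast Nat.card_pos
  obtain ⟨ex, ey, eJ, eI⟩ := arith α hα (B.relIndex A) (B.relIndex (A ⊔ B)) (CB.relIndex CA)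
    (CB.relIndex CI) (Nat.card (A ⊓ B : Subgroup X)) (Nat.card B) (Nat.card CJ) (Nat.card CB)
    (((Nat.card A : ℝ) ^ α) * (Nat.card CA : ℝ)) hxpos hypos hipos hbpos hcJpos hcBpos
    (by exact_mod_cast hxx) (by exact_mod_cast hyy) (by rw [hxiR, hycJR]) hAB hJ hI
  have ex' : B.relIndex A = B.relIndex (A ⊔ B) := by exact_mod_cast ex
  have ey' : CB.relIndex CA = CB.relIndex CI := by exact_mod_cast ey
  refine ⟨?_, ?_, ?_, ?_⟩
  · intro a ha b hb
    have hr : (a * b)⁻¹ ∈ A ⊔ B :=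
      Subgroup.inv_mem _ (Subgroup.mul_mem _ (Subgroup.mem_sup_left ha) (Subgroup.mem_sup_right hb))
    obtain ⟨a₁, ha₁, b₁, hb₁, h⟩ := exists_mul_of_relIndex_eq A B (A ⊔ B) le_sup_left ex' _ hr
    refine ⟨b₁⁻¹, B.inv_mem hb₁, a₁⁻¹, A.inv_mem ha₁, ?_⟩
    rw [← mul_inv_rev, ← h, inv_inv]
  · intro A' hA' hA'1
    rw [hx'bR, eJ]
    exact hAmax A' hA' hA'1
  · intro h hh
    exact exists_mul_of_relIndex_eq CA CB CI hCACI ey' h hh
  · intro _ A' hA' hA'1
    rw [hy'cBR, eI]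
    exact hAmax A' hA' hA'1

end Cfsg.Agent.S3804
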