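import Mathlib
import Cfsg.Statements.S3807
import Cfsg.Agent.Lib.Lead.MaxClass5
import Cfsg.Agent.Lib.Helper6.ChermakDelgado3
import Cfsg.Agent.Lib.Helper7.IrredCard

set_option autoImplicit false
open Cfsg

namespace Cfsg.Agent.S3807

open Cfsg.Agent.Lib.Lead Cfsg.Agent.Lib.Helper7 Cfsg.Agent.Lib.Helper6
open scoped commutatorElement

section
variable {S : Type*} [Group S] [Finite S]

theorem comm_of_top {K : Subgroup S} (hK : IsMulCommutative K) (h : K = ⊤) : IsMulCommutative S := by
  refine ⟨⟨fun a b => ?_⟩⟩
  have ha : a ∈ K := h ▸ Subgroup.mem_top a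
  have hb : b ∈ K := h ▸ Subgroup.mem_top b
  exact mul_comm_of_isMulCommutative hK ha hb

/-- in a nonabelian group, abelian subgroups of prime index contain the centre -/
theorem center_le_of_index_prime {p : ℕ} (hp : p.Prime) (hna : ¬ IsMulCommutative S)
    (B : Subgroup S) (hB : IsMulCommutative B) (hBi : B.index = p) : Subgroup.center S ≤ B := by
  by_contra hle
  have h1 : B ⊔ Subgroup.center S = ⊤ := by
    rcases eq_or_eq_top_of_index_prime hp B hBi (B ⊔ Subgroup.center S) le_sup_left with h | h
    · exact absurd (h ▸ le_sup_right) hle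
    · exact h
  apply hna
  have h2 : IsMulCommutative ↥(B ⊔ Subgroup.center S) :=
    isMulCommutative_sup hB inferInstance (by
      intro b _
      rw [Subgroup.mem_centralizer_iff]
      intro z hz
      exact (Subgroup.mem_center_iff.mp hz b).symm)
  exact comm_of_top h2 h1

/-- an element commuting with two subgroups that generate the group is central -/
theorem mem_center_of_sup_eq_top (H K : Subgroup S) (h : H ⊔ K = ⊤) (g : S)
    (hH : ∀ a ∈ H, a * g = g * a) (hK : ∀ a ∈ K, a * g = g * a) : g ∈ Subgroup.center S := by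
  rw [Subgroup.mem_center_iff]
  intro a
  have ha : a ∈ H ⊔ K := h ▸ Subgroup.mem_top a
  have hle : H ⊔ K ≤ Subgroup.centralizer {g} := by
    apply sup_le
    · intro a ha
      rw [Subgroup.mem_centralizer_iff]
      intro y hy
      rw [Set.mem_singleton_iff] at hy
      rw [hy]; exact (hH a ha).symm
    · intro a ha
      rw [Subgroup.mem_centralizer_iff]
      intro y hy
      rw [Set.mem_singleton_iff] at hy
      rw [hy]; exact (hK a ha).symm
  have := Subgroup.mem_centralizer_iff.mp (hle ha) g (Set.mem_singleton g)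
  exact this.symm

theorem eq_of_le_of_index_eq {H K : Subgroup S} (hHK : H ≤ K) (h : H.index = K.index) : H = K := by
  have h1 := Subgroup.relIndex_mul_index hHK
  rw [h] at h1
  have hK : 0 < K.index := Nat.pos_of_ne_zero Subgroup.index_ne_zero_of_finite
  have h2 : H.relIndex K = 1 := by
    have : H.relIndex K * K.index = 1 * K.index := by rw [h1, one_mul]
    exact Nat.eq_of_mul_eq_mul_right hK this
  exact le_antisymm hHK (Subgroup.relIndex_eq_one.mp h2)

end


section
variable {S : Type*} [Group S] [Finite S]

theorem sup_zpowers_facts (p : ℕ) [hp : Fact p.Prime] (hna : ¬ IsMulCommutative S)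
    (hZi : (Subgroup.center S).index = p ^ 2) (g : S) (hg : g ∉ Subgroup.center S) :
    IsMulCommutative ↥(Subgroup.center S ⊔ Subgroup.zpowers g) ∧
      (Subgroup.center S ⊔ Subgroup.zpowers g).index = p := by
  have hc : IsMulCommutative ↥(Subgroup.center S ⊔ Subgroup.zpowers g) :=
    isMulCommutative_sup inferInstance inferInstance (by
      intro z hz
      rw [Subgroup.mem_centralizer_iff]
      intro y _
      exact Subgroup.mem_center_iff.mp hz y)
  refine ⟨hc, ?_⟩
  set K := Subgroup.center S ⊔ Subgroup.zpowers g with hK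
  have h1 := Subgroup.relIndex_mul_index (le_sup_left : Subgroup.center S ≤ K)
  rw [hZi] at h1
  obtain ⟨j, hj, hjK⟩ := (Nat.dvd_prime_pow hp.out).mp (Dvd.intro_left _ h1)
  have hj0 : j ≠ 0 := by
    rintro rfl
    rw [pow_zero, Subgroup.index_eq_one] at hjK
    exact hna (comm_of_top hc hjK)
  have hj2 : j ≠ 2 := by
    rintro rfl
    rw [hjK] at h1
    have hpos : 0 < p ^ 2 := pow_pos hp.out.pos 2
    have h2 : (Subgroup.center S).relIndex K = 1 := by
      have : (Subgroup.center S).relIndex K * p ^ 2 = 1 * p ^ 2 := by rw [h1, one_mul]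
      exact Nat.eq_of_mul_eq_mul_right hpos this
    apply hg
    exact Subgroup.relIndex_eq_one.mp h2 (Subgroup.mem_sup_right (Subgroup.mem_zpowers g))
  have : j = 1 := by omega
  rw [hjK, this, pow_one]

theorem count_abelian (p : ℕ) [hp : Fact p.Prime] (hna : ¬ IsMulCommutative S)
    (hZi : (Subgroup.center S).index = p ^ 2) :
    Nat.card {B : Subgroup S // IsMulCommutative ↥B ∧ B.index = p} = p + 1 := by
  classical
  set Z := Subgroup.center S with hZ
  haveI : Fintype {B : Subgroup S // IsMulCommutative ↥B ∧ B.index = p} := Fintype.ofFinite _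
  let T := {g : S // g ∉ Z}
  let f : T → {B : Subgroup S // IsMulCommutative ↥B ∧ B.index = p} :=
    fun g => ⟨Z ⊔ Subgroup.zpowers (g : S), sup_zpowers_facts p hna hZi g g.2⟩
  have hzpos : 0 < Nat.card Z := Nat.card_pos
  have hScard : Nat.card S = Nat.card Z * p ^ 2 := by rw [← hZi]; exact (Z.card_mul_index).symm
  have hBcard : ∀ B : Subgroup S, B.index = p → Nat.card B = Nat.card Z * p := by
    intro B hB
    have h1 := B.card_mul_index
    rw [hB, hScard] at h1
    have : Nat.card B * p = Nat.card Z * p * p := by rw [h1]; ring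
    exact Nat.eq_of_mul_eq_mul_right hp.out.pos this
  have hfib : ∀ B : {B : Subgroup S // IsMulCommutative ↥B ∧ B.index = p},
      Nat.card {t : T // f t = B} = Nat.card Z * p - Nat.card Z := by
    intro B
    have hZB : Z ≤ B.1 := center_le_of_index_prime hp.out hna B.1 B.2.1 B.2.2
    have e : {t : T // f t = B} ≃ ↥(((B.1 : Subgroup S) : Set S) \ (Z : Set S)) :=
      { toFun := fun t => ⟨(t.1 : S), by
          have h1 : (f t.1).1 = B.1 := congrArg Subtype.val t.2
          refine ⟨?_, t.1.2⟩
          rw [SetLike.mem_coe, ← h1]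
          exact Subgroup.mem_sup_right (Subgroup.mem_zpowers _)⟩
        invFun := fun g => ⟨⟨g.1, g.2.2⟩, by
          apply Subtype.ext
          change Z ⊔ Subgroup.zpowers (g : S) = B.1
          apply eq_of_le_of_index_eq
          · exact sup_le hZB (Subgroup.zpowers_le.mpr g.2.1)
          · rw [(sup_zpowers_facts p hna hZi g g.2.2).2, B.2.2]⟩
        left_inv := fun t => by apply Subtype.ext; apply Subtype.ext; rfl
        right_inv := fun g => by apply Subtype.ext; rfl }
    rw [Nat.card_congr e, Nat.card_coe_set_eq, Set.ncard_diff (by exact_mod_cast hZB) (Set.toFinite _)]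
    rw [← Nat.card_coe_set_eq, ← Nat.card_coe_set_eq]
    change Nat.card B.1 - Nat.card Z = _
    rw [hBcard B.1 B.2.2]
  have hT : Nat.card T = Nat.card Z * p ^ 2 - Nat.card Z := by
    have h1 : Nat.card T = ((Z : Set S)ᶜ).ncard := by
      rw [← Nat.card_coe_set_eq]; rfl
    rw [h1, Set.ncard_compl, ← Nat.card_coe_set_eq, hScard]
    rfl
  have hsum : Nat.card T = ∑ B : {B : Subgroup S // IsMulCommutative ↥B ∧ B.index = p},
      Nat.card {t : T // f t = B} := by
    rw [← Nat.card_sigma]
    exact Nat.card_congr (Equiv.sigmaFiberEquiv f).symm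
  rw [hT] at hsum
  simp only [hfib, Finset.sum_const, Finset.card_univ, smul_eq_mul] at hsum
  rw [← Nat.card_eq_fintype_card] at hsum
  set N := Nat.card {B : Subgroup S // IsMulCommutative ↥B ∧ B.index = p} with hN
  obtain ⟨q, hq⟩ : ∃ q, p = q + 1 := ⟨p - 1, by have := hp.out.pos; omega⟩
  have hq0 : 0 < q := by have := hp.out.two_le; omega
  set z := Nat.card Z with hz
  have h1 : z * p ^ 2 - z = (q + 2) * (q * z) := by
    rw [hq]
    have : z * (q + 1) ^ 2 = (q + 2) * (q * z) + z := by ring
    rw [this]; omega
  have h2 : z * p - z = q * z := by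
    rw [hq]
    have : z * (q + 1) = q * z + z := by ring
    rw [this]; omega
  rw [h1, h2] at hsum
  have hqz : 0 < q * z := Nat.mul_pos hq0 hzpos
  have := Nat.eq_of_mul_eq_mul_right hqz hsum
  omega

end

/-- Let S be a non-abelian finite p-group with an abelian subgroup A of index p. Then [S : Z(S)] = p·#[S,S], and either [S,S] has order p, S/Z(S) is elementary abelian of order p², and S has exactly p + 1 abelian subgroups of index p; or [S,S] has order at least p² and A is the only abelian subgroup of index p in S. -/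
theorem result {S : Type*} [Group S] [Finite S] (p : ℕ) [Fact p.Prime] (hS : IsPGroup p S) (hna : ¬ IsMulCommutative S)
    (A : Subgroup S) (hA : IsMulCommutative ↥A) (hAi : A.index = p) :
    (Subgroup.center S).index = p * Nat.card (commutator S) ∧
      ((Nat.card (commutator S) = p ∧ Cfsg.IsElementaryAbelian p (⊤ : Subgroup (S ⧸ Subgroup.center S)) ∧
          Nat.card (S ⧸ Subgroup.center S) = p ^ 2 ∧
          Nat.card {B : Subgroup S // IsMulCommutative ↥B ∧ B.index = p} = p + 1) ∨
        (p ^ 2 ≤ Nat.card (commutator S) ∧ ∀ B : Subgroup S, IsMulCommutative ↥B → B.index = p → B = A)) := by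
  classical
  have hp := (Fact.out : p.Prime)
  set Z := Subgroup.center S with hZ
  -- A is normal
  obtain ⟨n, hn⟩ := IsPGroup.iff_card.mp hS
  have hn0 : n ≠ 0 := by
    rintro rfl
    rw [pow_zero] at hn
    have h1 := A.card_mul_index
    rw [hAi, hn] at h1
    have := Nat.eq_one_of_mul_eq_one_left h1
    exact hp.one_lt.ne' this
  haveI hAn : A.Normal := by
    apply Subgroup.normal_of_index_eq_minFac_card
    rw [hAi, hn, Nat.Prime.pow_minFac hp hn0]
  haveI := hA
  have hAtop : A ≠ ⊤ := by
    intro h
    rw [h, Subgroup.index_top] at hAi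
    exact hp.one_lt.ne hAi
  obtain ⟨x, hx⟩ : ∃ x, x ∉ A := by
    by_contra hcon
    push Not at hcon
    exact hAtop (eq_top_iff.mpr fun y _ => hcon y)
  have htop : A ⊔ Subgroup.zpowers x = ⊤ := by
    rcases eq_or_eq_top_of_index_prime hp A hAi (A ⊔ Subgroup.zpowers x) le_sup_left with h | h
    · exfalso
      apply hx
      have : Subgroup.zpowers x ≤ A := h ▸ le_sup_right
      exact this (Subgroup.mem_zpowers x)
    · exact h
  have hZA : Z ≤ A := center_le_of_index_prime hp hna A hA hAi
  have h1 := card_range_commMap_mul A x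
  have h2 := commutator_eq_map_range_commMap A x htop
  have h3 : A ⊓ Subgroup.centralizer {x} = Z := by
    apply le_antisymm
    · rintro a ⟨haA, hax⟩
      apply mem_center_of_sup_eq_top A (Subgroup.zpowers x) htop a
      · intro b hb
        exact mul_comm_of_isMulCommutative hA hb haA
      · intro b hb
        obtain ⟨i, rfl⟩ := Subgroup.mem_zpowers_iff.mp hb
        have hxa : x * a = a * x := Subgroup.mem_centralizer_iff.mp hax x (Set.mem_singleton x)
        exact ((Commute.zpow_left (show Commute x a from hxa) i)).eq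
    · exact le_inf hZA (Subgroup.center_le_centralizer _)
  have hcomm_card : Nat.card (commutator S) * Nat.card Z = Nat.card A := by
    rw [h2, Subgroup.card_map_of_injective A.subtype_injective, ← h3]
    exact h1
  have hZpos : 0 < Nat.card Z := Nat.card_pos
  have hidx : Z.index = p * Nat.card (commutator S) := by
    have h4 := Z.card_mul_index
    have h5 := A.card_mul_index
    rw [hAi, ← hcomm_card] at h5
    rw [← h5] at h4
    have : Nat.card Z * Z.index = Nat.card Z * (p * Nat.card (commutator S)) := by
      rw [h4]; ring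
    exact Nat.eq_of_mul_eq_mul_left hZpos this
  refine ⟨hidx, ?_⟩
  obtain ⟨k, hk⟩ := IsPGroup.iff_card.mp (hS.to_subgroup (commutator S))
  have hk0 : k ≠ 0 := by
    rintro rfl
    rw [pow_zero, Subgroup.card_eq_one] at hk
    apply hna
    refine ⟨⟨fun a b => ?_⟩⟩
    have : ⁅a, b⁆ ∈ commutator S := by
      rw [commutator_def]
      exact Subgroup.commutator_mem_commutator (Subgroup.mem_top a) (Subgroup.mem_top b)
    rw [hk, Subgroup.mem_bot] at this
    exact commutatorElement_eq_one_iff_mul_comm.mp this
  by_cases hk1 : k = 1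
  · left
    rw [hk1, pow_one] at hk
    have hZi : Z.index = p ^ 2 := by rw [hidx, hk, sq]
    have hQcard : Nat.card (S ⧸ Z) = p ^ 2 := by rw [← Subgroup.index_eq_card]; exact hZi
    refine ⟨hk, ⟨?_, ?_⟩, hQcard, count_abelian p hna hZi⟩
    · have hc := IsPGroup.commutative_of_card_eq_prime_sq hQcard
      exact ⟨⟨fun a b => Subtype.ext (hc a b)⟩⟩
    · intro a _
      have hd : orderOf a ∣ p ^ 2 := by rw [← hQcard]; exact orderOf_dvd_natCard a
      obtain ⟨j, hj, hja⟩ := (Nat.dvd_prime_pow hp).mp hd
      have hj2 : j ≠ 2 := by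
        rintro rfl
        apply hna
        haveI : IsCyclic (S ⧸ Z) := isCyclic_of_orderOf_eq_card a (by rw [hja, hQcard])
        have hc := commutative_of_cyclic_center_quotient (QuotientGroup.mk' Z)
          (by rw [QuotientGroup.ker_mk'])
        exact ⟨⟨hc⟩⟩
      have hj1 : j ≤ 1 := by omega
      apply orderOf_dvd_iff_pow_eq_one.mp
      rw [hja]
      exact pow_dvd_pow p hj1 |>.trans (by rw [pow_one])
  · right
    have hk2 : 2 ≤ k := by omega
    refine ⟨by rw [hk]; exact Nat.pow_le_pow_right hp.pos hk2, ?_⟩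
    intro B hB hBi
    by_contra hBA
    have hsup : A ⊔ B = ⊤ := by
      rcases eq_or_eq_top_of_index_prime hp A hAi (A ⊔ B) le_sup_left with h | h
      · exfalso
        apply hBA
        have hBleA : B ≤ A := h ▸ le_sup_right
        exact eq_of_le_of_index_eq hBleA (by rw [hBi, hAi])
      · exact h
    have hle : A ⊓ B ≤ Z := by
      rintro g ⟨hgA, hgB⟩
      apply mem_center_of_sup_eq_top A B hsup g
      · intro b hb
        exact mul_comm_of_isMulCommutative hA hb hgA
      · intro b hb
        exact mul_comm_of_isMulCommutative hB hb hgB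
    have h6 : Z.index ∣ (A ⊓ B).index := Subgroup.index_dvd_of_le hle
    have h7 : (A ⊓ B).index ≤ A.index * B.index := Subgroup.index_inf_le
    rw [hAi, hBi] at h7
    have h8 : Z.index ≤ p * p :=
      (Nat.le_of_dvd (Nat.pos_of_ne_zero Subgroup.index_ne_zero_of_finite) h6).trans h7
    rw [hidx, hk] at h8
    have h9 : p ^ k ≤ p := Nat.le_of_mul_le_mul_left h8 hp.pos
    have h10 : p ^ 2 ≤ p ^ k := Nat.pow_le_pow_right hp.pos hk2
    have h11 : p ^ 2 ≤ p := h10.trans h9
    have := hp.two_le
    nlinarith

end Cfsg.Agent.S3807
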