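import Cfsg.Statements.S3808
import Mathlib

set_option autoImplicit false
open Cfsg

namespace Cfsg.Agent.S3808

theorem mem_ZQ {S : Type*} [Group S] (Q : Subgroup S) (x : S) :
    x ∈ (Subgroup.center ↥Q).map Q.subtype ↔ x ∈ Q ∧ ∀ q ∈ Q, q * x = x * q := by
  constructor
  · rintro ⟨y, hy, rfl⟩
    refine ⟨y.2, fun q hq => ?_⟩
    have := Subgroup.mem_center_iff.mp hy ⟨q, hq⟩
    exact congrArg Subtype.val this
  · rintro ⟨hx, h⟩
    refine ⟨⟨x, hx⟩, ?_, rfl⟩
    show (⟨x, hx⟩ : Q) ∈ Subgroup.center ↥Q
    rw [Subgroup.mem_center_iff]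
    intro q
    exact Subtype.ext (h q.1 q.2)

/-- Let S be a finite p-group with an extraspecial subgroup Q of index p. Then either Z(S) = Z(Q), or S = Q·Z(S) and Z(S) has order p². -/
theorem result {S : Type*} [Group S] [Finite S] (p : ℕ) [Fact p.Prime] (hS : IsPGroup p S) (Q : Subgroup S) (hQ : Cfsg.IsExtraspecial p ↥Q) (hQi : Q.index = p) :
    Subgroup.center S = (Subgroup.center ↥Q).map Q.subtype ∨
      (Q ⊔ Subgroup.center S = ⊤ ∧ Nat.card (Subgroup.center S) = p ^ 2) := by
  have hp : p.Prime := Fact.out
  have hZQcard : Nat.card ((Subgroup.center ↥Q).map Q.subtype) = p := by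
    rw [Subgroup.card_map_of_injective Q.subtype_injective]
    exact hQ.2
  by_cases hle : Subgroup.center S ≤ Q
  · left
    have hle2 : Subgroup.center S ≤ (Subgroup.center ↥Q).map Q.subtype := by
      intro z hz
      rw [mem_ZQ]
      exact ⟨hle hz, fun q _ => Subgroup.mem_center_iff.mp hz q⟩
    haveI : Nontrivial S := by
      have h1 : 1 < Nat.card (Subgroup.center ↥Q) := by rw [hQ.2]; exact hp.one_lt
      haveI : Nontrivial (Subgroup.center ↥Q) := Finite.one_lt_card_iff_nontrivial.mp h1
      obtain ⟨a, b, hab⟩ := exists_pair_ne (Subgroup.center ↥Q)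
      refine ⟨⟨((a : Q) : S), ((b : Q) : S), fun h => hab ?_⟩⟩
      exact Subtype.ext (Subtype.ext h)
    haveI := hS.center_nontrivial
    have h1 : 1 < Nat.card (Subgroup.center S) := Finite.one_lt_card_iff_nontrivial.mpr inferInstance
    have h2 : Nat.card (Subgroup.center S) ∣ p := by
      rw [← hZQcard]; exact Subgroup.card_dvd_of_le hle2
    have h3 : Nat.card (Subgroup.center S) = p := by
      rcases (Nat.dvd_prime hp).mp h2 with h | h
      · omega
      · exact h
    apply Subgroup.eq_of_le_of_card_ge hle2
    rw [hZQcard, h3]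
  · right
    have htop : Q ⊔ Subgroup.center S = ⊤ := by
      set K := Q ⊔ Subgroup.center S with hK
      have hQK : Q ≤ K := le_sup_left
      have h1 : K.index ∣ p := hQi ▸ Subgroup.index_dvd_of_le hQK
      rcases (Nat.dvd_prime hp).mp h1 with h | h
      · exact Subgroup.index_eq_one.mp h
      · exfalso
        have h2 := Subgroup.relIndex_mul_index hQK
        rw [h, hQi] at h2
        have h3 : Q.relIndex K = 1 := by
          have : Q.relIndex K * p = 1 * p := by rw [h2, one_mul]
          exact Nat.eq_of_mul_eq_mul_right hp.pos this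
        have h4 : K ≤ Q := Subgroup.relIndex_eq_one.mp h3
        exact hle (le_trans le_sup_right h4)
    refine ⟨htop, ?_⟩
    -- Q is normal
    obtain ⟨n, hn⟩ := IsPGroup.iff_card.mp hS
    have hn0 : n ≠ 0 := by
      rintro rfl
      rw [pow_zero] at hn
      have : Q.index ∣ Nat.card S := Subgroup.index_dvd_card Q
      rw [hn, hQi] at this
      exact hp.one_lt.ne' (Nat.dvd_one.mp this)
    haveI hQn : Q.Normal := by
      apply Subgroup.normal_of_index_eq_minFac_card
      rw [hQi, hn, Nat.pow_minFac hn0, hp.minFac_eq]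
    -- Z(S) ⊓ Q = Z(Q)
    have hinf : Q ⊓ Subgroup.center S = (Subgroup.center ↥Q).map Q.subtype := by
      apply le_antisymm
      · intro z hz
        rw [mem_ZQ]
        exact ⟨hz.1, fun q _ => Subgroup.mem_center_iff.mp hz.2 q⟩
      · intro z hz
        rw [mem_ZQ] at hz
        refine ⟨hz.1, ?_⟩
        have hcent : (⊤ : Subgroup S) ≤ Subgroup.centralizer ({z} : Set S) := by
          rw [← htop]
          apply sup_le
          · intro q hq
            rw [Subgroup.mem_centralizer_iff]
            intro y hy
            rw [Set.mem_singleton_iff.mp hy]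
            exact (hz.2 q hq).symm
          · intro c hc
            rw [Subgroup.mem_centralizer_iff]
            intro y hy
            rw [Set.mem_singleton_iff.mp hy]
            exact (Subgroup.mem_center_iff.mp hc z)
        show z ∈ Subgroup.center S
        rw [Subgroup.mem_center_iff]
        intro g
        have := Subgroup.mem_centralizer_iff.mp (hcent (Subgroup.mem_top g)) z rfl
        exact this.symm
    have hrel : Q.relIndex (Subgroup.center S) = p := by
      rw [← Subgroup.relIndex_sup_left (Subgroup.center S) Q, htop, Subgroup.relIndex_top_right, hQi]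
    have h1 := Subgroup.relIndex_mul_relIndex ⊥ (Q ⊓ Subgroup.center S) (Subgroup.center S) bot_le inf_le_right
    rw [Subgroup.relIndex_bot_left, Subgroup.relIndex_bot_left, Subgroup.inf_relIndex_right, hrel, hinf,
      hZQcard] at h1
    rw [← h1, pow_two]

end Cfsg.Agent.S3808
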