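import Mathlib
import Cfsg.Statements.S3809
import Cfsg.Agent.S0095
import Cfsg.Agent.Lib.Lead.Frattini

set_option autoImplicit false
open Cfsg

namespace Cfsg.Agent.S3809

open Cfsg.Agent.Lib.Lead
open scoped commutatorElement

section
variable {S : Type*} [Group S] [Finite S]

/-- basic facts about a p-group with an extraspecial subgroup of index p -/
theorem basic (p : ℕ) [Fact p.Prime] (hS : IsPGroup p S) (Q : Subgroup S)
    (hQ : Cfsg.IsExtraspecial p ↥Q) (hQi : Q.index = p) :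
    (∃ n : ℕ, 1 ≤ n ∧ Nat.card Q = p ^ (2 * n + 1) ∧ Nat.card S = p ^ (2 + 2 * n)) ∧ Q.Normal ∧
      commutator S ≤ Q ∧ (∀ x : S, x ^ p ∈ Q) ∧
      ⁅Q, Q⁆ = (Subgroup.center ↥Q).map Q.subtype := by
  have hp := (Fact.out : p.Prime)
  obtain ⟨n, hn1, hn⟩ := Cfsg.Agent.S0095.result hQ
  have hScard : Nat.card S = p ^ (2 + 2 * n) := by
    rw [← Q.card_mul_index, hQi, hn]; ring
  haveI hQn : Q.Normal := by
    apply Subgroup.normal_of_index_eq_minFac_card
    rw [hQi, hScard, Nat.Prime.pow_minFac hp (by omega)]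
  have hqcard : Nat.card (S ⧸ Q) = p := by rw [← Subgroup.index_eq_card]; exact hQi
  refine ⟨⟨n, hn1, hn, hScard⟩, hQn, ?_, ?_, ?_⟩
  · apply commutator_le_of_quotient_comm Q
    haveI : IsCyclic (S ⧸ Q) := isCyclic_of_prime_card hqcard
    intro a b
    obtain ⟨g, hg⟩ := IsCyclic.exists_generator (α := S ⧸ Q)
    obtain ⟨i, rfl⟩ := Subgroup.mem_zpowers_iff.mp (hg a)
    obtain ⟨j, rfl⟩ := Subgroup.mem_zpowers_iff.mp (hg b)
    rw [← zpow_add, ← zpow_add, add_comm]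
  · intro x
    rw [← QuotientGroup.eq_one_iff, QuotientGroup.mk_pow, ← hqcard]
    exact pow_card_eq_one'
  · have h1 : commutator ↥Q = Subgroup.center ↥Q := hQ.1.2.2
    rw [← h1, commutator_def, Subgroup.map_commutator, ← MonoidHom.range_eq_map,
      Subgroup.range_subtype]

end

/-- Let S be a finite p-group with an extraspecial subgroup of index p. Then S has order p^(2+2n) for some n ≥ 1, derived length at most 3, and exponent dividing p³. -/
theorem result {S : Type*} [Group S] [Finite S] (p : ℕ) [Fact p.Prime] (hS : IsPGroup p S) (Q : Subgroup S) (hQ : Cfsg.IsExtraspecial p ↥Q) (hQi : Q.index = p) :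
    (∃ n : ℕ, 1 ≤ n ∧ Nat.card S = p ^ (2 + 2 * n)) ∧ derivedSeries S 3 = ⊥ ∧ ∀ x : S, x ^ (p ^ 3) = 1 := by
  obtain ⟨⟨n, hn1, hn, hScard⟩, hQn, hcomm, hpow, hQQ⟩ := basic p hS Q hQ hQi
  refine ⟨⟨n, hn1, hScard⟩, ?_, ?_⟩
  · have h1 : derivedSeries S 1 ≤ Q := by
      rw [derivedSeries_succ, derivedSeries_zero, ← commutator_def]; exact hcomm
    have h2 : derivedSeries S 2 ≤ ⁅Q, Q⁆ := by
      rw [derivedSeries_succ]; exact Subgroup.commutator_mono h1 h1
    have h3 : derivedSeries S 3 ≤ ⁅⁅Q, Q⁆, ⁅Q, Q⁆⁆ := by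
      rw [derivedSeries_succ]; exact Subgroup.commutator_mono h2 h2
    have h4 : ⁅⁅Q, Q⁆, ⁅Q, Q⁆⁆ = ⊥ := by
      rw [Subgroup.commutator_eq_bot_iff_le_centralizer, hQQ]
      rintro a ⟨a', ha', rfl⟩
      rw [Subgroup.mem_centralizer_iff]
      rintro b ⟨b', hb', rfl⟩
      have := Subgroup.mem_center_iff.mp ha' b'
      exact congrArg Subtype.val this
    rw [h4] at h3
    exact le_bot_iff.mp h3
  · intro x
    have h1 : (⟨x ^ p, hpow x⟩ : Q) ^ p ∈ Subgroup.center ↥Q := by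
      rw [← hQ.1.2.1]
      exact pow_mem_frattini_of_isPGroup hQ.1.1 _
    have h2 : ((⟨(⟨x ^ p, hpow x⟩ : Q) ^ p, h1⟩ : Subgroup.center ↥Q)) ^ p = 1 := by
      have := pow_card_eq_one' (G := Subgroup.center ↥Q)
        (x := (⟨(⟨x ^ p, hpow x⟩ : Q) ^ p, h1⟩ : Subgroup.center ↥Q))
      rwa [hQ.2] at this
    have h3 := congrArg (fun z : Subgroup.center ↥Q => ((z : Q) : S)) h2
    simp only [Subgroup.coe_pow, Subgroup.coe_one] at h3
    rw [show p ^ 3 = p * p * p by ring, pow_mul, pow_mul]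
    exact h3

end Cfsg.Agent.S3809
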