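import Mathlib
import Cfsg.Statements.S3810
import Cfsg.Agent.S3809
import Cfsg.Agent.S3807
import Cfsg.Agent.Lib.Lead.Nilpotent
import Cfsg.Agent.Lib.Lead.Critical
import Cfsg.Agent.Lib.Lead.ExtraspecialCentral
import Cfsg.Agent.Lib.Lead.HallTools
import Cfsg.Agent.Lib.Helper6.ChermakDelgado3

set_option autoImplicit false
open Cfsg

namespace Cfsg.Agent.S3810

open Cfsg.Agent.Lib.Lead Cfsg.Agent.Lib.Helper6
open scoped commutatorElement

section
variable {S : Type*} [Group S] [Finite S]

/-- forward direction: an abelian subgroup of index p forces order p^4 -/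
theorem forward (p : ℕ) [Fact p.Prime] (hS : IsPGroup p S) (Q : Subgroup S)
    (hQ : Cfsg.IsExtraspecial p ↥Q) (hQi : Q.index = p) (A : Subgroup S)
    (hA : IsMulCommutative ↥A) (hAi : A.index = p) : Nat.card S = p ^ 4 := by
  have hp := (Fact.out : p.Prime)
  obtain ⟨⟨n, hn1, hn, hScard⟩, hQn, hcomm, hpow, hQQ⟩ := Cfsg.Agent.S3809.basic p hS Q hQ hQi
  -- Q is not abelian
  have hQna : ¬ IsMulCommutative ↥Q := by
    intro hc
    have h1 : Subgroup.center ↥Q = ⊤ := by
      rw [eq_top_iff]
      intro x _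
      rw [Subgroup.mem_center_iff]
      intro g
      exact hc.is_comm.comm g x
    have h2 := hQ.2
    rw [h1, Subgroup.card_top, hn] at h2
    have h3 : p ^ (2 * n + 1) = p ^ 1 := by rw [h2, pow_one]
    have := Nat.pow_right_injective hp.two_le h3
    omega
  have hAQ : IsMulCommutative ↥(A.subgroupOf Q) :=
    ⟨⟨fun a b => Subtype.ext (Subtype.ext
      (mul_comm_of_isMulCommutative hA (Subgroup.mem_subgroupOf.mp a.2) (Subgroup.mem_subgroupOf.mp b.2)))⟩⟩
  have hle : A.relIndex Q ≤ p := by
    have := Subgroup.relIndex_le_of_le_right (H := A) (le_top : Q ≤ ⊤)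
      (by rw [Subgroup.relIndex_top_right, hAi]; exact hp.pos.ne')
    rwa [Subgroup.relIndex_top_right, hAi] at this
  have hdvd : A.relIndex Q ∣ p ^ (2 * n + 1) := by
    rw [← hn]; exact Subgroup.index_dvd_card _
  obtain ⟨j, -, hj⟩ := (Nat.dvd_prime_pow hp).mp hdvd
  have hj1 : j ≤ 1 := by
    by_contra hlt
    push Not at hlt
    have : p ^ 2 ≤ p ^ j := Nat.pow_le_pow_right hp.pos hlt
    rw [hj] at hle
    have := hp.two_le
    nlinarith
  have hj0 : j ≠ 0 := by
    rintro rfl
    rw [pow_zero] at hj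
    apply hQna
    have hQA : Q ≤ A := Subgroup.relIndex_eq_one.mp hj
    exact isMulCommutative_of_le hA hQA
  have hj' : j = 1 := by omega
  rw [hj', pow_one] at hj
  have h1 := (Cfsg.Agent.S3807.result p hQ.1.1 hQna (A.subgroupOf Q) hAQ hj).1
  rw [hQ.1.2.2, hQ.2] at h1
  have h2 := (Subgroup.center ↥Q).card_mul_index
  rw [h1, hQ.2, hn] at h2
  have h3 : p ^ (2 * n + 1) = p ^ 3 := by rw [← h2]; ring
  have h4 := Nat.pow_right_injective hp.two_le h3
  have hn' : n = 1 := by omega
  rw [hScard, hn']

end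


section
variable {S : Type*} [Group S] [Finite S]

/-- orders in a chain of p-subgroups -/
theorem card_ge_of_lt (p : ℕ) [Fact p.Prime] (hS : IsPGroup p S) {H K : Subgroup S} (hHK : H < K)
    (a : ℕ) (hH : p ^ a ≤ Nat.card H) : p ^ (a + 1) ≤ Nat.card K := by
  have hp := (Fact.out : p.Prime)
  obtain ⟨b, hb⟩ := IsPGroup.iff_card.mp (hS.to_subgroup H)
  obtain ⟨c, hc⟩ := IsPGroup.iff_card.mp (hS.to_subgroup K)
  have h1 : Nat.card H < Nat.card K := by
    by_contra hle
    push Not at hle
    exact hHK.ne (Subgroup.eq_of_le_of_card_ge hHK.le hle)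
  rw [hb, hc] at h1
  rw [hb] at hH
  rw [hc]
  have h2 : a ≤ b := (Nat.pow_le_pow_iff_right hp.one_lt).mp hH
  have h3 : b < c := (Nat.pow_lt_pow_iff_right hp.one_lt).mp h1
  exact Nat.pow_le_pow_right hp.pos (by omega)

/-- backward direction -/
theorem backward (p : ℕ) [Fact p.Prime] (hS : IsPGroup p S) (Q : Subgroup S)
    (hQ : Cfsg.IsExtraspecial p ↥Q) (hQi : Q.index = p) (hcard : Nat.card S = p ^ 4) :
    ∃ A : Subgroup S, IsMulCommutative ↥A ∧ A.index = p := by
  classical
  have hp := (Fact.out : p.Prime)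
  obtain ⟨⟨n, hn1, hn, hScard⟩, hQn, hcomm, hpow, hQQ⟩ := Cfsg.Agent.S3809.basic p hS Q hQ hQi
  haveI := hQn
  set Z : Subgroup S := (Subgroup.center ↥Q).map Q.subtype with hZ
  have hZcard : Nat.card Z = p := by
    rw [hZ, Subgroup.card_map_of_injective Q.subtype_injective]; exact hQ.2
  haveI hZn : Z.Normal := by
    rw [← hQQ]; infer_instance
  have hZcen : Z ≤ Subgroup.center S := le_center_of_normal_of_card_prime hS Z hZcard
  have hZQ : Z ≤ Q := Subgroup.map_subtype_le _
  have hQZ : ¬ Q ≤ Z := by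
    intro h
    have h1 := Subgroup.card_le_of_le h
    rw [hZcard, hn] at h1
    have h3 : p ^ 3 ≤ p ^ (2 * n + 1) := Nat.pow_le_pow_right hp.pos (by omega)
    have h2 := hp.two_le
    have e : p ^ 3 = p * (p * p) := by ring
    have h4 : 2 * 2 ≤ p * p := Nat.mul_le_mul h2 h2
    nlinarith
  -- an element of Q central modulo Z but not in Z
  haveI : Group.IsNilpotent (S ⧸ Z) := (hS.to_quotient Z).isNilpotent
  have hNn : (Q.map (QuotientGroup.mk' Z)).Normal :=
    Subgroup.Normal.map hQn _ (QuotientGroup.mk'_surjective Z)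
  have hNne : Q.map (QuotientGroup.mk' Z) ≠ ⊥ := by
    intro h
    apply hQZ
    intro q hq
    have : QuotientGroup.mk' Z q ∈ Q.map (QuotientGroup.mk' Z) := Subgroup.mem_map_of_mem _ hq
    rw [h, Subgroup.mem_bot] at this
    exact (QuotientGroup.eq_one_iff q).mp this
  haveI := hNn
  have h1 := inf_center_ne_bot (Q.map (QuotientGroup.mk' Z)) hNne
  obtain ⟨y, hy1⟩ := (Subgroup.ne_bot_iff_exists_ne_one).mp h1
  obtain ⟨⟨b, hbQ, hb⟩, hycen⟩ := Subgroup.mem_inf.mp y.2
  have hbZ : b ∉ Z := by
    intro h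
    apply hy1
    apply Subtype.ext
    rw [Subgroup.coe_one, ← hb]
    exact (QuotientGroup.eq_one_iff b).mpr h
  have hbcomm : ∀ g : S, ⁅g, b⁆ ∈ Z := by
    have h2 : (b : S ⧸ Z) ∈ Subgroup.center (S ⧸ Z) := by
      have : ((QuotientGroup.mk' Z) b) = (y : S ⧸ Z) := hb
      rw [← this] at hycen
      exact hycen
    have h3 := (mk_mem_center_iff Z b).mp h2
    intro g
    have h4 := Z.inv_mem (h3 g)
    have e : (⁅b, g⁆)⁻¹ = ⁅g, b⁆ := by rw [commutatorElement_inv]
    rwa [e] at h4
  -- the centralizer of b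
  let φ : S →* Z := commutatorHom Z hZcen b hbcomm
  set C := Subgroup.centralizer ({b} : Set S) with hC
  have hker : φ.ker = C := by
    ext g
    rw [MonoidHom.mem_ker, hC, Subgroup.mem_centralizer_iff]
    constructor
    · intro h x hx
      rw [Set.mem_singleton_iff] at hx
      have h5 : ⁅g, b⁆ = 1 := congrArg Subtype.val h
      rw [hx]
      exact (commutatorElement_eq_one_iff_mul_comm.mp h5).symm
    · intro h
      apply Subtype.ext
      change ⁅g, b⁆ = 1
      exact commutatorElement_eq_one_iff_mul_comm.mpr (h b (Set.mem_singleton b)).symm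
  have hCidx : C.index ∣ p := by
    rw [← hker, Subgroup.index_ker, ← hZcard]
    exact Subgroup.card_subgroup_dvd_card _
  have hbcenQ : b ∉ Subgroup.center S := by
    intro h
    apply hbZ
    refine ⟨⟨b, hbQ⟩, ?_, rfl⟩
    rw [SetLike.mem_coe, Subgroup.mem_center_iff]
    intro g
    exact Subtype.ext (Subgroup.mem_center_iff.mp h (g : S))
  have hCidx' : C.index = p := by
    rcases (Nat.dvd_prime hp).mp hCidx with h | h
    · exfalso
      apply hbcenQ
      rw [Subgroup.index_eq_one] at h
      rw [Subgroup.mem_center_iff]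
      intro g
      have : g ∈ C := h ▸ Subgroup.mem_top g
      exact (Subgroup.mem_centralizer_iff.mp this b (Set.mem_singleton b)).symm
    · exact h
  have hCcard : Nat.card C = p ^ 3 := by
    have := C.card_mul_index
    rw [hCidx', hcard] at this
    have h6 : Nat.card C * p = p ^ 3 * p := by rw [this]; ring
    exact Nat.eq_of_mul_eq_mul_right hp.pos h6
  refine ⟨C, ?_, hCidx'⟩
  -- C is abelian
  set W := Z ⊔ Subgroup.zpowers b with hW
  have hWc : IsMulCommutative ↥W := isMulCommutative_sup
    (isMulCommutative_of_le (inferInstance : IsMulCommutative (Subgroup.center S)) hZcen)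
    inferInstance (by
      intro z hz
      rw [Subgroup.mem_centralizer_iff]
      intro y _
      exact Subgroup.mem_center_iff.mp (hZcen hz) y)
  have hbC : b ∈ C := by
    rw [hC, Subgroup.mem_centralizer_iff]
    intro x hx
    rw [Set.mem_singleton_iff] at hx
    rw [hx]
  have hWC : W ≤ C := by
    apply sup_le
    · exact hZcen.trans (Subgroup.center_le_centralizer _)
    · exact Subgroup.zpowers_le.mpr hbC
  have hZW : Z < W := by
    refine lt_of_le_of_ne le_sup_left ?_
    intro h
    apply hbZ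
    rw [h]
    exact Subgroup.mem_sup_right (Subgroup.mem_zpowers b)
  have hWcard : p ^ 2 ≤ Nat.card W := card_ge_of_lt p hS hZW 1 (by rw [pow_one, hZcard])
  by_cases hWeq : W = C
  · rw [← hWeq]; exact hWc
  · obtain ⟨c, hcC, hcW⟩ : ∃ c ∈ C, c ∉ W := by
      by_contra hcon
      push Not at hcon
      exact hWeq (le_antisymm hWC hcon)
    set W' := W ⊔ Subgroup.zpowers c with hW'
    have hW'c : IsMulCommutative ↥W' := isMulCommutative_sup hWc inferInstance (by
      rw [hW]
      apply sup_le
      · intro z hz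
        rw [Subgroup.mem_centralizer_iff]
        intro y _
        exact Subgroup.mem_center_iff.mp (hZcen hz) y
      · rw [Subgroup.zpowers_le, Subgroup.mem_centralizer_iff]
        intro y hy
        obtain ⟨i, rfl⟩ := Subgroup.mem_zpowers_iff.mp hy
        have hcb : c * b = b * c :=
          (Subgroup.mem_centralizer_iff.mp hcC b (Set.mem_singleton b)).symm
        exact ((Commute.zpow_left (show Commute c b from hcb) i)).eq)
    have hW'C : W' ≤ C := sup_le hWC (Subgroup.zpowers_le.mpr hcC)
    have hWW' : W < W' := by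
      refine lt_of_le_of_ne le_sup_left ?_
      intro h
      apply hcW
      rw [h]
      exact Subgroup.mem_sup_right (Subgroup.mem_zpowers c)
    have hW'card : p ^ 3 ≤ Nat.card W' := card_ge_of_lt p hS hWW' 2 hWcard
    have : W' = C := Subgroup.eq_of_le_of_card_ge hW'C (by rw [hCcard]; exact hW'card)
    rw [← this]; exact hW'c

end

/-- Let S be a finite p-group with an extraspecial subgroup of index p. Then S has an abelian subgroup of index p if and only if S has order p⁴. -/
theorem result {S : Type*} [Group S] [Finite S] (p : ℕ) [Fact p.Prime] (hS : IsPGroup p S) (Q : Subgroup S) (hQ : Cfsg.IsExtraspecial p ↥Q) (hQi : Q.index = p) :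
    (∃ A : Subgroup S, IsMulCommutative ↥A ∧ A.index = p) ↔ Nat.card S = p ^ 4 := by
  constructor
  · rintro ⟨A, hA, hAi⟩
    exact forward p hS Q hQ hQi A hA hAi
  · intro h
    exact backward p hS Q hQ hQi h

end Cfsg.Agent.S3810
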