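import Mathlib
import Cfsg.Statements.S3811
import Cfsg.Agent.Lib.Helper7.Soft4

set_option autoImplicit false
open Cfsg

namespace Cfsg.Agent.S3811

open Cfsg.Agent.Lib.Helper7.Soft

/-- softness passes to any subgroup containing the normalizer. -/
theorem soft_subgroupOf {P : Type*} [Group P] {p : ℕ} {E : Subgroup P} (hE : IsSoft p E)
    {L : Subgroup P} (hNL : Subgroup.normalizer (E : Set P) ≤ L) : IsSoft p (E.subgroupOf L) := by
  have hEL : E ≤ L := Subgroup.le_normalizer.trans hNL
  refine ⟨?_, ?_, ?_⟩
  · intro a ha b hb
    exact Subtype.ext (hE.comm _ (Subgroup.mem_subgroupOf.mp ha) _ (Subgroup.mem_subgroupOf.mp hb))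
  · intro x hx
    rw [Subgroup.mem_subgroupOf]
    apply hE.cent
    rw [Subgroup.mem_centralizer_iff] at hx ⊢
    intro e he
    have := hx ⟨e, hEL he⟩ (Subgroup.mem_subgroupOf.mpr he)
    exact congrArg Subtype.val this
  · rw [← Subgroup.subgroupOf_normalizer_eq hEL, Subgroup.relIndex_subgroupOf hNL]
    exact hE.idx

/-- Let P be a finite p-group and E an abelian subgroup of P that contains its centralizer, has index p in its normalizer, and has index at least p² in P. Then the subgroups of P containing E are totally ordered by inclusion, each proper one has index p in its normalizer (so they form the normalizer tower of E, with all steps of index p), and the i-th member of the tower above E has nilpotency class i + 1 whenever it is a proper subgroup of P. -/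
theorem result {P : Type*} [Group P] [Finite P] (p : ℕ) [Fact p.Prime] (hP : IsPGroup p P)
    (E : Subgroup P) (hEab : IsMulCommutative ↥E) (hC : Subgroup.centralizer (E : Set P) ≤ E)
    (hN : (E.subgroupOf (Subgroup.normalizer (E : Set P))).index = p) (hidx : p ^ 2 ≤ E.index) :
    (∀ K L : Subgroup P, E ≤ K → E ≤ L → K ≤ L ∨ L ≤ K) ∧
      (∀ K : Subgroup P, E ≤ K → K ≠ ⊤ → (K.subgroupOf (Subgroup.normalizer (K : Set P))).index = p) ∧
      ∀ (i : ℕ) (K : Subgroup P) [Group.IsNilpotent ↥K], E ≤ K → K ≠ ⊤ → K.index * p ^ i = E.index →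
        Group.nilpotencyClass ↥K = i + 1 := by
  have hp : p.Prime := Fact.out
  have hE : IsSoft p E := by
    refine ⟨fun a ha b hb => ?_, hC, hN⟩
    have := hEab.is_comm.comm (⟨a, ha⟩ : ↥E) ⟨b, hb⟩
    exact congrArg Subtype.val this
  refine ⟨fun K L hK hL => hE.le_total hP hK hL,
    fun K hK hKt => hE.relIndex_normalizer hP hK hKt, ?_⟩
  intro i K _ hEK hKt hKi
  have hrel : E.relIndex K = p ^ i := by
    have h1 := Subgroup.relIndex_mul_index hEK
    rw [← hKi, mul_comm] at h1
    exact Nat.eq_of_mul_eq_mul_left (Nat.pos_of_ne_zero Subgroup.index_ne_zero_of_finite) h1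
  rcases Nat.eq_zero_or_pos i with hi | hi
  · subst hi
    rw [pow_zero] at hrel
    obtain rfl : K = E := le_antisymm (Subgroup.relIndex_eq_one.mp hrel) hEK
    have hle : Group.nilpotencyClass ↥K ≤ 1 := by
      rw [← Subgroup.upperCentralSeries_eq_top_iff_nilpotencyClass_le,
        Subgroup.upperCentralSeries_one, Subgroup.center_eq_top_iff]
      exact hEab
    have hne : Group.nilpotencyClass ↥K ≠ 0 := by
      rw [Ne, Group.nilpotencyClass_zero_iff_subsingleton]
      intro hsub
      apply hE.ne_top
      rw [eq_top_iff]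
      refine le_trans ?_ hC
      intro x _
      rw [Subgroup.mem_centralizer_iff]
      intro e he
      have : (⟨e, he⟩ : ↥K) = 1 := Subsingleton.elim _ _
      have he1 : e = 1 := congrArg Subtype.val this
      rw [he1, one_mul, mul_one]
    omega
  · have hlt : E < K := by
      refine lt_of_le_of_ne hEK ?_
      intro h
      rw [← h, Subgroup.relIndex_self] at hrel
      have : 1 < p ^ i := Nat.one_lt_pow hi.ne' hp.one_lt
      omega
    have hN1K := hE.normalizer_le hP hlt
    have hKL : K ≤ Subgroup.normalizer (K : Set P) := Subgroup.le_normalizer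
    have hL := hE.relIndex_normalizer hP hEK hKt
    have hE' := soft_subgroupOf hE (hN1K.trans hKL)
    have hP' : IsPGroup p ↥(Subgroup.normalizer (K : Set P)) := hP.to_subgroup _
    have hEidx : (E.subgroupOf (Subgroup.normalizer (K : Set P))).index = p ^ (i + 1) := by
      have h1 := Subgroup.relIndex_mul_relIndex E K (Subgroup.normalizer (K : Set P)) hEK hKL
      rw [hrel, hL] at h1
      rw [pow_succ, h1]
      rfl
    have hle' : E.subgroupOf (Subgroup.normalizer (K : Set P)) ≤
        K.subgroupOf (Subgroup.normalizer (K : Set P)) := by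
      intro x hx
      exact Subgroup.mem_subgroupOf.mpr (hEK (Subgroup.mem_subgroupOf.mp hx))
    haveI : Group.IsNilpotent ↥(K.subgroupOf (Subgroup.normalizer (K : Set P))) :=
      (hP'.to_subgroup _).isNilpotent
    have hcl := IsSoft.class_aux _ ↥(Subgroup.normalizer (K : Set P)) p rfl hP' _ hE'
      (K.subgroupOf (Subgroup.normalizer (K : Set P))) hle' hL (i + 1) (by omega) hEidx
    have e := Subgroup.subgroupOfEquivOfLe hKL
    have h1 := Group.nilpotencyClass_le_of_surjective e.toMonoidHom e.surjective
    have h2 := Group.nilpotencyClass_le_of_surjective e.symm.toMonoidHom e.symm.surjective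
    rw [hcl] at h1 h2
    exact le_antisymm h1 h2

end Cfsg.Agent.S3811
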