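import Cfsg.Statements.S3815
import Mathlib

set_option autoImplicit false
open Cfsg

namespace Cfsg.Agent.S3815

theorem result {G : Type*} [Group G] [Finite G] {p : ℕ} [Fact p.Prime]
    (d : G) (hd : (orderOf d).Coprime p)
    (h : ∀ g : G, (orderOf g).Coprime p → (orderOf (d * g)).Coprime p) :
    d ∈ Cfsg.pPrimeCore p G := by
  classical
  have hp : p.Prime := Fact.out
  let S : Submonoid G :=
    { carrier := {d | (orderOf d).Coprime p ∧ ∀ g : G, (orderOf g).Coprime p → (orderOf (d * g)).Coprime p}
      one_mem' := by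
        refine ⟨by simp, ?_⟩
        intro g hg; simpa using hg
      mul_mem' := by
        rintro a b ⟨ha, ha'⟩ ⟨hb, hb'⟩
        refine ⟨ha' b hb, ?_⟩
        intro g hg
        rw [mul_assoc]
        exact ha' _ (hb' g hg) }
  let D : Subgroup G :=
    { S with
      inv_mem' := by
        intro x hx
        have : x⁻¹ = x ^ (orderOf x - 1) := by
          have hpos : 0 < orderOf x := orderOf_pos x
          have h1 : x ^ (orderOf x - 1) * x = 1 := by
            rw [← pow_succ, Nat.sub_add_cancel hpos, pow_orderOf_eq_one]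
          exact (eq_inv_of_mul_eq_one_left h1).symm
        show x⁻¹ ∈ S
        rw [this]
        exact S.pow_mem hx _ }
  have hDmem : ∀ x, x ∈ D ↔ ((orderOf x).Coprime p ∧ ∀ g : G, (orderOf g).Coprime p → (orderOf (x * g)).Coprime p) :=
    fun x => Iff.rfl
  have hconj : ∀ (x g : G), orderOf (x * g * x⁻¹) = orderOf g := by
    intro x g
    have := (MulAut.conj x).orderOf_eq g
    simpa [MulAut.conj_apply] using this
  have hDn : D.Normal := by
    constructor
    intro a ha x
    rw [hDmem] at ha ⊢
    refine ⟨by rw [hconj]; exact ha.1, ?_⟩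
    intro g hg
    have e : x * a * x⁻¹ * g = x * (a * (x⁻¹ * g * x⁻¹⁻¹)) * x⁻¹ := by group
    rw [e, hconj]
    apply ha.2
    rw [hconj]; exact hg
  have hDc : (Nat.card D).Coprime p := by
    rw [Nat.coprime_comm, hp.coprime_iff_not_dvd]
    intro hdvd
    obtain ⟨x, hx⟩ := exists_prime_orderOf_dvd_card' (G := D) p hdvd
    have hx' : orderOf (x : G) = p := by rw [Subgroup.orderOf_coe]; exact hx
    have := ((hDmem x).mp x.2).1
    rw [hx'] at this
    exact hp.one_lt.ne' ((Nat.coprime_self p).mp this)
  have hdD : d ∈ D := (hDmem d).mpr ⟨hd, h⟩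
  exact (le_sSup (show D ∈ {N : Subgroup G | N.Normal ∧ (Nat.card N).Coprime p} from ⟨hDn, hDc⟩)) hdD

end Cfsg.Agent.S3815
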