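import Cfsg.Statements.S3820
import Mathlib
import Cfsg.Agent.Lib.Helper7.Conj

set_option autoImplicit false
open Cfsg

namespace Cfsg.Agent.S3820

open Cfsg.Agent.Lib.Helper7

/-- Call a subgroup H of G pronormal if H and gHg⁻¹ are conjugate inside ⟨H, gHg⁻¹⟩ for every g ∈ G. Let S ≤ H ≤ G be subgroups of a finite group with S pronormal in G (for instance S a Sylow subgroup). Then H is pronormal in G if and only if H and gHg⁻¹ are conjugate inside ⟨H, gHg⁻¹⟩ for every g ∈ N_G(S). In particular H is pronormal whenever N_G(S) ≤ H. -/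
theorem result {G : Type*} [Group G] [Finite G] (S H : Subgroup G) (hSH : S ≤ H)
    (hS : Cfsg.IsPronormal S) :
    Cfsg.IsPronormal H ↔
      ∀ g ∈ Subgroup.normalizer (S : Set G), ∃ w ∈ H ⊔ H.map (MulAut.conj g).toMonoidHom,
        H.map (MulAut.conj g).toMonoidHom = H.map (MulAut.conj w).toMonoidHom := by
  constructor
  · intro h g _
    exact h g
  · intro h g
    obtain ⟨x, hx, hSx⟩ := hS g
    change x ∈ S ⊔ cj g S at hx
    change cj g S = cj x S at hSx
    change ∃ y ∈ H ⊔ cj g H, cj g H = cj y H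
    have hle : S ⊔ cj g S ≤ H ⊔ cj g H := sup_le_sup hSH (cj_mono g hSH)
    have hxJ : x ∈ H ⊔ cj g H := hle hx
    -- n = x⁻¹ g normalizes S
    have hn : x⁻¹ * g ∈ Subgroup.normalizer (S : Set G) := by
      rw [mem_normalizer_iff_cj, cj_mul, hSx, cj_inv_cj]
    obtain ⟨w, hw, hHw⟩ := h _ hn
    change w ∈ H ⊔ cj (x⁻¹ * g) H at hw
    change cj (x⁻¹ * g) H = cj w H at hHw
    refine ⟨x * w, ?_, ?_⟩
    · apply Subgroup.mul_mem _ hxJ
      have h1 : cj (x⁻¹ * g) H ≤ H ⊔ cj g H := by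
        rw [cj_mul]
        exact cj_le_of_mem (Subgroup.inv_mem _ hxJ) le_sup_right
      exact (sup_le le_sup_left h1) hw
    · have : g = x * (x⁻¹ * g) := by group
      rw [cj_mul x w, ← hHw, ← cj_mul]
      congr 1

end Cfsg.Agent.S3820
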