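import Cfsg.Statements.S3821
import Mathlib
import Cfsg.Agent.Lib.Helper7.Conj

set_option autoImplicit false
open Cfsg

namespace Cfsg.Agent.S3821

open Cfsg.Agent.Lib.Helper7

/-- Let A be a normal subgroup of the finite group G and H a subgroup of A. Then H is pronormal in G (H and gHg⁻¹ conjugate inside ⟨H, gHg⁻¹⟩ for every g ∈ G) if and only if H is pronormal in A and G = A · N_G(H). -/
theorem result {G : Type*} [Group G] [Finite G] (A H : Subgroup G) [A.Normal] (hHA : H ≤ A) :
    Cfsg.IsPronormal H ↔ (Cfsg.IsPronormal (H.subgroupOf A) ∧ A ⊔ Subgroup.normalizer (H : Set G) = ⊤) := by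
  have hAn : A.Normal := inferInstance
  have key := pronormal_subgroupOf_iff A H hHA
  have hdef : Cfsg.IsPronormal (H.subgroupOf A) ↔ ∀ a : A, ∃ x ∈ (H.subgroupOf A) ⊔ cj a (H.subgroupOf A),
      cj a (H.subgroupOf A) = cj x (H.subgroupOf A) := Iff.rfl
  rw [hdef, key]
  have hcjA : ∀ g : G, cj g H ≤ A := by
    intro g
    rintro _ ⟨y, hy, rfl⟩
    exact hAn.conj_mem y (hHA hy) g
  constructor
  · intro h
    refine ⟨fun a _ => h a, ?_⟩
    rw [eq_top_iff]
    intro g _
    obtain ⟨x, hx, hxe⟩ := h g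
    change x ∈ H ⊔ cj g H at hx
    change cj g H = cj x H at hxe
    have hxA : x ∈ A := (sup_le hHA (hcjA g)) hx
    have hn : x⁻¹ * g ∈ Subgroup.normalizer (H : Set G) := by
      rw [mem_normalizer_iff_cj, cj_mul, hxe, cj_inv_cj]
    have : g = x * (x⁻¹ * g) := by group
    rw [this]
    exact Subgroup.mul_mem _ (Subgroup.mem_sup_left hxA) (Subgroup.mem_sup_right hn)
  · rintro ⟨h1, h2⟩ g
    change ∃ x ∈ H ⊔ cj g H, cj g H = cj x H
    have hg : g ∈ A ⊔ Subgroup.normalizer (H : Set G) := by rw [h2]; exact Subgroup.mem_top g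
    rw [← SetLike.mem_coe, Subgroup.normal_mul] at hg
    obtain ⟨a, ha, n, hn, rfl⟩ := hg
    have hn' : cj n H = H := mem_normalizer_iff_cj.mp hn
    rw [cj_mul, hn']
    exact h1 a ha

end Cfsg.Agent.S3821
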