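import Mathlib
import Cfsg.Statements.S3824
import Cfsg.Agent.S0143
import Cfsg.Agent.Lib.Lead.CoprimeTools

set_option autoImplicit false
open Cfsg

namespace Cfsg.Agent.S3824

universe u

theorem relIndex_dvd_index_of_normal' {G : Type*} [Group G] [Finite G] (A N : Subgroup G)
    [N.Normal] : A.relIndex N ∣ A.index := by
  have h1 := Cfsg.Agent.Lib.Lead.card_sup_mul_card_inf A N
    (by rw [Subgroup.normalizer_eq_top]; exact le_top)
  have h2 : (A ⊓ N).relIndex N * Nat.card (A ⊓ N : Subgroup G) = Nat.card N := by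
    have := Subgroup.card_mul_index ((A ⊓ N).subgroupOf N)
    rw [mul_comm] at this
    rw [Subgroup.relIndex]
    convert this using 2
    exact (Nat.card_congr (Subgroup.subgroupOfEquivOfLe inf_le_right).toEquiv).symm
  rw [Subgroup.inf_relIndex_right] at h2
  have h3 : Nat.card A * A.index = Nat.card G := Subgroup.card_mul_index A
  obtain ⟨x, hx⟩ := Subgroup.card_subgroup_dvd_card (A ⊔ N)
  have hipos : 0 < Nat.card (A ⊓ N : Subgroup G) := Nat.card_pos
  have hapos : 0 < Nat.card A := Nat.card_pos
  have h4 : A.relIndex N * Nat.card A = Nat.card (A ⊔ N : Subgroup G) := by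
    apply Nat.eq_of_mul_eq_mul_right hipos
    calc A.relIndex N * Nat.card A * Nat.card (A ⊓ N : Subgroup G)
        = (A.relIndex N * Nat.card (A ⊓ N : Subgroup G)) * Nat.card A := by ring
      _ = Nat.card N * Nat.card A := by rw [h2]
      _ = Nat.card (A ⊔ N : Subgroup G) * Nat.card (A ⊓ N : Subgroup G) := by rw [h1]; ring
  refine ⟨x, ?_⟩
  apply Nat.eq_of_mul_eq_mul_left hapos
  rw [h3, hx, ← h4]
  ring

theorem main : ∀ n : ℕ, ∀ (G : Type u) [Group G] [Finite G], Nat.card G = n →
    ∀ (A : Subgroup G), IsMulCommutative A → (∃ k : ℕ, A.index = 2 ^ k) →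
    Group.IsSolvable G := by
  intro n
  induction n using Nat.strong_induction_on with
  | _ n IH =>
  intro G _ _ hG A hA hidx
  obtain ⟨k, hk⟩ := hidx
  by_cases hsimple : IsSimpleGroup G
  · by_cases hAbot : A = ⊥
    · -- G is a 2-group
      have hcard : Nat.card G = 2 ^ k := by
        rw [← hk, hAbot, Subgroup.index_bot]
      haveI : Fact (Nat.Prime 2) := ⟨Nat.prime_two⟩
      have hp : IsPGroup 2 G := IsPGroup.of_card hcard
      haveI := hp.isNilpotent
      infer_instance
    · obtain ⟨a, haA, ha1⟩ := (Subgroup.ne_bot_iff_exists_ne_one).mp hAbot |>.imp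
        (fun a h => h) |> fun ⟨a, h⟩ => (⟨a.1, a.2, fun h1 => h (Subtype.ext h1)⟩ :
          ∃ a : G, a ∈ A ∧ a ≠ 1)
      have hle : A ≤ Subgroup.centralizer ({a} : Set G) := by
        intro b hb
        rw [Subgroup.mem_centralizer_singleton_iff]
        have := hA.is_comm.comm (⟨b, hb⟩ : A) ⟨a, haA⟩
        exact congrArg Subtype.val this
      have hdvd : (Subgroup.centralizer ({a} : Set G)).index ∣ 2 ^ k := by
        rw [← hk]; exact Subgroup.index_dvd_of_le hle
      obtain ⟨j, _, hj⟩ := (Nat.dvd_prime_pow Nat.prime_two).mp hdvd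
      have hprime := Cfsg.Agent.S0143.result 2 j Nat.prime_two a ha1 hj
      haveI : Fact (Nat.card G).Prime := ⟨hprime⟩
      haveI : IsCyclic G := isCyclic_of_prime_card rfl
      exact Group.isSolvable_of_comm (fun a b => (IsCyclic.commGroup).mul_comm a b)
  · by_cases hnt : Nontrivial G
    · have : ∃ N : Subgroup G, N.Normal ∧ N ≠ ⊥ ∧ N ≠ ⊤ := by
        by_contra hcon
        push_neg at hcon
        apply hsimple
        exact ⟨fun N hN => by
          by_cases h : N = ⊥
          · exact Or.inl h
          · exact Or.inr (hcon N hN h)⟩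
      obtain ⟨N, hNn, hNbot, hNtop⟩ := this
      haveI := hNn
      have hNlt : Nat.card N < n := by
        rw [← hG]
        have h1 : Nat.card N ≤ Nat.card G := Nat.le_of_dvd Nat.card_pos (Subgroup.card_subgroup_dvd_card N)
        rcases Nat.lt_or_ge (Nat.card N) (Nat.card G) with h | h
        · exact h
        · exact absurd (Subgroup.eq_top_of_le_card N h) hNtop
      have hQlt : Nat.card (G ⧸ N) < n := by
        rw [← hG, Subgroup.card_eq_card_quotient_mul_card_subgroup N]
        apply lt_mul_of_one_lt_right Nat.card_pos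
        exact (Subgroup.one_lt_card_iff_ne_bot _).mpr hNbot
      -- N solvable
      have hN : Group.IsSolvable N := by
        apply IH _ hNlt N rfl (A.subgroupOf N)
        · exact ⟨⟨fun x y => by
            apply Subtype.ext
            apply Subtype.ext
            have := hA.is_comm.comm (⟨x.1.1, x.2⟩ : A) ⟨y.1.1, y.2⟩
            have h2 : x.1.1 * y.1.1 = y.1.1 * x.1.1 := congrArg Subtype.val this
            exact h2⟩⟩
        · have hd : A.relIndex N ∣ 2 ^ k := by
            rw [← hk]; exact relIndex_dvd_index_of_normal' A N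
          obtain ⟨j, _, hj⟩ := (Nat.dvd_prime_pow Nat.prime_two).mp hd
          exact ⟨j, hj⟩
      have hQ : Group.IsSolvable (G ⧸ N) := by
        apply IH _ hQlt (G ⧸ N) rfl (A.map (QuotientGroup.mk' N))
        · exact ⟨⟨fun x y => by
            obtain ⟨x', hx', hxx⟩ := x.2
            obtain ⟨y', hy', hyy⟩ := y.2
            apply Subtype.ext
            show (x : G ⧸ N) * (y : G ⧸ N) = (y : G ⧸ N) * (x : G ⧸ N)
            rw [← hxx, ← hyy, ← map_mul, ← map_mul]
            have := hA.is_comm.comm (⟨x', hx'⟩ : A) ⟨y', hy'⟩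
            rw [show x' * y' = y' * x' from congrArg Subtype.val this]⟩⟩
        · have hd : (A.map (QuotientGroup.mk' N)).index ∣ 2 ^ k := by
            rw [← hk]; exact Subgroup.index_map_dvd A (QuotientGroup.mk'_surjective N)
          obtain ⟨j, _, hj⟩ := (Nat.dvd_prime_pow Nat.prime_two).mp hd
          exact ⟨j, hj⟩
      exact Group.isSolvable_of_ker_le_range N.subtype (QuotientGroup.mk' N)
        (by rw [QuotientGroup.ker_mk', Subgroup.range_subtype])
    · rw [not_nontrivial_iff_subsingleton] at hnt
      exact Group.isSolvable_of_comm (fun a b => by rw [Subsingleton.elim a b])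

theorem result {G : Type*} [Group G] [Finite G]
    (A : Subgroup G) (hA : IsMulCommutative A) (hidx : ∃ k : ℕ, A.index = 2 ^ k) : Group.IsSolvable G :=
  main (Nat.card G) G rfl A hA hidx

end Cfsg.Agent.S3824
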