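import Mathlib
import Cfsg.Statements.S3825
import Cfsg.Agent.Lib.Helper7.FpfInvolution
import Cfsg.Agent.Lib.Lead.Coprime

set_option autoImplicit false
open Cfsg

namespace Cfsg.Agent.S3825

open Cfsg.Agent.Lib.Helper7 Cfsg.Agent.Lib.Lead
open scoped commutatorElement

/-- Let U be a subgroup of a finite group H and w an involution of H normalizing U and commuting with exactly two elements of U, the identity and y. If V is a non-cyclic elementary abelian 2-subgroup of U containing y which is normal in U and invariant under w, then V is a Sylow 2-subgroup of U, V has order 4, and U/V is abelian. -/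
theorem result {H : Type*} [Group H] [Finite H] (U : Subgroup H) (w : H) (hw : orderOf w = 2)
    (hwU : w ∈ Subgroup.normalizer (U : Set H)) (y : H) (hy : y ≠ 1) (hyU : y ∈ U)
    (hfix : ∀ u ∈ U, w * u * w⁻¹ = u ↔ (u = 1 ∨ u = y))
    (V : Subgroup H) (hVU : V ≤ U) (hVn : (V.subgroupOf U).Normal) (hVw : ∀ v ∈ V, w * v * w⁻¹ ∈ V)
    (hVe : Cfsg.IsElementaryAbelian 2 V) (hVc : ¬ IsCyclic ↥V) (hyV : y ∈ V) :
    ¬ 2 ∣ V.relIndex U ∧ Nat.card ↥V = 4 ∧ ⁅U, U⁆ ≤ V := by
  classical
  obtain ⟨hVcomm, hVexp⟩ := hVe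
  have hw2 : w * w = 1 := by rw [← sq, ← hw]; exact pow_orderOf_eq_one w
  have hwinv : w⁻¹ = w := inv_eq_of_mul_eq_one_right hw2
  have hVcomm' : ∀ a ∈ V, ∀ b ∈ V, a * b = b * a := by
    intro a ha b hb
    have := hVcomm.is_comm.comm ⟨a, ha⟩ ⟨b, hb⟩
    exact congrArg Subtype.val this
  have hVinv : ∀ v ∈ V, v⁻¹ = v := by
    intro v hv
    have := hVexp v hv
    rw [sq] at this
    exact inv_eq_of_mul_eq_one_right this
  have hσσ : ∀ x : H, w * (w * x * w⁻¹) * w⁻¹ = x := by
    intro x
    rw [hwinv]
    calc w * (w * x * w) * w = (w * w) * x * (w * w) := by group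
      _ = x := by rw [hw2, one_mul, mul_one]
  have hσU : ∀ u ∈ U, w * u * w⁻¹ ∈ U := fun u hu => (Subgroup.mem_normalizer_iff.mp hwU u).mp hu
  have hfixV : ∀ v ∈ V, w * v * w⁻¹ = v → v = 1 ∨ v = y := fun v hv h => (hfix v (hVU hv)).mp h
  have hyy : y * y = 1 := by have := hVexp y hyV; rwa [sq] at this
  have hb : ∀ v ∈ V, v * (w * v * w⁻¹) = 1 ∨ v * (w * v * w⁻¹) = y := by
    intro v hv
    apply hfixV _ (V.mul_mem hv (hVw v hv))
    have : w * (v * (w * v * w⁻¹)) * w⁻¹ = (w * v * w⁻¹) * (w * (w * v * w⁻¹) * w⁻¹) := by group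
    rw [this, hσσ, hVcomm' _ (hVw v hv) _ hv]
  obtain ⟨a, haV, ha1, hay⟩ : ∃ a ∈ V, a ≠ 1 ∧ a ≠ y := by
    by_contra hcon
    push Not at hcon
    apply hVc
    refine ⟨⟨⟨y, hyV⟩, ?_⟩⟩
    intro x
    by_cases hx1 : (x : H) = 1
    · exact ⟨0, by ext; simp [hx1]⟩
    · have := hcon x x.2 hx1
      exact ⟨1, by ext; simp [this]⟩
  -- the alternative for elements of V
  have hValt : ∀ v ∈ V, (v = 1 ∨ v = y) ∨ w * v * w⁻¹ = v * y := by
    intro v hv
    rcases hb v hv with h | h
    · left
      have h1 : w * v * w⁻¹ = v := by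
        have : w * v * w⁻¹ = v⁻¹ := eq_inv_of_mul_eq_one_right h
        rw [this, hVinv v hv]
      exact hfixV v hv h1
    · right
      have : w * v * w⁻¹ = v⁻¹ * y := by rw [← h]; group
      rw [this, hVinv v hv]
  have hσa : w * a * w⁻¹ = a * y := by
    rcases hValt a haV with h | h
    · rcases h with h | h
      · exact absurd h ha1
      · exact absurd h hay
    · exact h
  -- if `σ u = u y` then `u a` is fixed
  have hfix2 : ∀ u ∈ U, w * u * w⁻¹ = u * y → u = a⁻¹ ∨ u = y * a⁻¹ := by
    intro u hu h1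
    have h2 : w * (u * a) * w⁻¹ = u * a := by
      have : w * (u * a) * w⁻¹ = (w * u * w⁻¹) * (w * a * w⁻¹) := by group
      rw [this, h1, hσa]
      have hya : y * a = a * y := hVcomm' y hyV a haV
      calc u * y * (a * y) = u * (y * a) * y := by group
        _ = u * (a * y) * y := by rw [hya]
        _ = u * a * (y * y) := by group
        _ = u * a := by rw [hyy, mul_one]
    rcases (hfix (u * a) (U.mul_mem hu (hVU haV))).mp h2 with h3 | h3
    · left; exact eq_inv_of_mul_eq_one_left h3
    · right; exact eq_mul_inv_of_mul_eq h3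
  have key : ∀ u ∈ U, u⁻¹ * (w * u * w⁻¹) ∈ V → u ∈ V := by
    intro u hu hv
    set v := u⁻¹ * (w * u * w⁻¹) with hvdef
    have hσv : w * v * w⁻¹ = v⁻¹ := by
      rw [hvdef]
      have : w * (u⁻¹ * (w * u * w⁻¹)) * w⁻¹ = (w * u * w⁻¹)⁻¹ * (w * (w * u * w⁻¹) * w⁻¹) := by
        group
      rw [this, hσσ]; group
    rw [hVinv v hv] at hσv
    rcases hfixV v hv hσv with h | h
    · have h1 : w * u * w⁻¹ = u := by
        rw [hvdef] at h
        exact (inv_mul_eq_one.mp h).symm
      rcases (hfix u hu).mp h1 with h2 | h2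
      · rw [h2]; exact V.one_mem
      · rw [h2]; exact hyV
    · have h1 : w * u * w⁻¹ = u * y := by
        rw [← h, hvdef]; group
      rcases hfix2 u hu h1 with h3 | h3
      · rw [h3]; exact V.inv_mem haV
      · rw [h3]; exact V.mul_mem hyV (V.inv_mem haV)
  -- the quotient
  haveI := hVn
  let σU : U →* U := conjHom U w hwU
  have hσUle : V.subgroupOf U ≤ (V.subgroupOf U).comap σU := by
    intro u hu
    rw [Subgroup.mem_comap, Subgroup.mem_subgroupOf]
    rw [Subgroup.mem_subgroupOf] at hu
    exact hVw _ hu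
  let σb : (U ⧸ V.subgroupOf U) →* (U ⧸ V.subgroupOf U) :=
    QuotientGroup.map (V.subgroupOf U) (V.subgroupOf U) σU hσUle
  have hσb2 : ∀ k, σb (σb k) = k := by
    intro k
    induction k using QuotientGroup.induction_on with
    | H u =>
      change σb (σb (QuotientGroup.mk u)) = _
      rw [QuotientGroup.map_mk, QuotientGroup.map_mk]
      congr 1
      ext
      simp only [σU, conjHom_coe]
      exact hσσ _
  have hfpf : ∀ k, σb k = k → k = 1 := by
    intro k
    induction k using QuotientGroup.induction_on with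
    | H u =>
      intro h
      change σb (QuotientGroup.mk u) = _ at h
      rw [QuotientGroup.map_mk] at h
      have h1 := QuotientGroup.eq.mp h.symm
      rw [Subgroup.mem_subgroupOf] at h1
      have h2 : (u : H) ∈ V := key u u.2 (by simpa [σU] using h1)
      exact (QuotientGroup.eq_one_iff u).mpr (by rw [Subgroup.mem_subgroupOf]; exact h2)
  refine ⟨?_, ?_, ?_⟩
  · have := fpf_involution_odd σb hσb2 hfpf
    rwa [← Subgroup.index_eq_card] at this
  · -- order four
    have hle : Nat.card V ≤ 4 := by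
      have hsub : (V : Set H) ⊆ ↑({1, y, a, a * y} : Finset H) := by
        intro v hv
        simp only [Finset.coe_insert, Finset.coe_singleton, Set.mem_insert_iff,
          Set.mem_singleton_iff]
        rcases hValt v hv with h | h
        · rcases h with h | h
          · exact Or.inl h
          · exact Or.inr (Or.inl h)
        · rcases hfix2 v (hVU hv) h with h3 | h3
          · right; right; left; rw [h3, hVinv a haV]
          · right; right; right
            rw [h3, hVinv a haV]; exact hVcomm' y hyV a haV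
      have h1 : Nat.card V = (V : Set H).ncard := Nat.card_coe_set_eq _
      rw [h1]
      calc (V : Set H).ncard ≤ (↑({1, y, a, a * y} : Finset H) : Set H).ncard :=
            Set.ncard_le_ncard hsub (Finset.finite_toSet _)
        _ = ({1, y, a, a * y} : Finset H).card := Set.ncard_coe_finset _
        _ ≤ 4 := Finset.card_le_four
    have hpg : IsPGroup 2 V := by
      intro v
      refine ⟨1, ?_⟩
      ext
      simpa using hVexp v v.2
    obtain ⟨k, hk⟩ := IsPGroup.iff_card.mp hpg
    have hk2 : 2 ≤ k := by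
      by_contra hlt
      push Not at hlt
      apply hVc
      interval_cases k
      · rw [pow_zero] at hk
        haveI : Subsingleton V := (Nat.card_eq_one_iff_unique.mp hk).1
        exact isCyclic_of_subsingleton
      · rw [pow_one] at hk
        haveI : Fact (Nat.Prime 2) := ⟨Nat.prime_two⟩
        exact isCyclic_of_prime_card hk
    have hk3 : k < 3 := by
      by_contra hge
      push Not at hge
      have : 2 ^ 3 ≤ 2 ^ k := Nat.pow_le_pow_right (by norm_num) hge
      omega
    have : k = 2 := by omega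
    rw [hk, this]; norm_num
  · rw [Subgroup.commutator_le]
    intro g₁ hg₁ g₂ hg₂
    have hc := fpf_involution_comm σb hσb2 hfpf (QuotientGroup.mk ⟨g₁, hg₁⟩) (QuotientGroup.mk ⟨g₂, hg₂⟩)
    have h1 : (QuotientGroup.mk (⁅(⟨g₁, hg₁⟩ : U), ⟨g₂, hg₂⟩⁆) : U ⧸ V.subgroupOf U) = 1 := by
      rw [commutatorElement_def, QuotientGroup.mk_mul, QuotientGroup.mk_mul, QuotientGroup.mk_mul,
        QuotientGroup.mk_inv, QuotientGroup.mk_inv, hc]
      group
    have h2 := (QuotientGroup.eq_one_iff _).mp h1
    rw [Subgroup.mem_subgroupOf] at h2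
    simpa [commutatorElement_def] using h2

end Cfsg.Agent.S3825
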