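import Mathlib
import Cfsg.Statements.S3835
import Cfsg.Agent.Lib.Helper7.QdPerm2

set_option autoImplicit false
open Cfsg

namespace Cfsg.Agent.S3835

open Cfsg.Agent.Lib.Helper7.QdPerm

/-- Let p be an odd prime and n a natural number. The alternating group of degree n has a subgroup isomorphic to Qd(p) (the natural semidirect product of an elementary abelian group of order p² by SL₂(p)) if and only if n ≥ p²; and if n < p² then Qd(p) is not even involved in it. -/
theorem result {p : ℕ} [Fact p.Prime] (hp : p ≠ 2) (n : ℕ) : ((∃ H : Subgroup (alternatingGroup (Fin n)), Nonempty (↥H ≃* ↥(Cfsg.qd p))) ↔ p ^ 2 ≤ n) ∧ (n < p ^ 2 → ¬ Cfsg.Involves ↥(Cfsg.qd p) ↥(alternatingGroup (Fin n))) := by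
  have hA : n < p ^ 2 → PSC p ↥(alternatingGroup (Fin n)) := by
    intro hn
    have h1 : PSC p (Equiv.Perm (Fin n)) := PSC_perm (by rw [Nat.card_fin]; exact hn)
    exact h1.of_injective (alternatingGroup (Fin n)).subtype Subtype.val_injective
  refine ⟨⟨?_, ?_⟩, ?_⟩
  · rintro ⟨H, ⟨e⟩⟩
    by_contra hlt
    have h1 : PSC p ↥H := (hA (not_le.mp hlt)).of_injective H.subtype Subtype.val_injective
    exact not_PSC_qd (h1.of_injective e.symm.toMonoidHom e.symm.injective)
  · intro hn
    obtain ⟨ψ, hψ⟩ := exists_embedding hp hn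
    exact ⟨ψ.range, ⟨(MonoidHom.ofInjective hψ).symm⟩⟩
  · rintro hn ⟨K, R, hR, ⟨e⟩⟩
    have h1 : PSC p ↥K := (hA hn).of_injective K.subtype Subtype.val_injective
    have h2 : PSC p (↥K ⧸ R.subgroupOf K) :=
      h1.of_surjective (QuotientGroup.mk' (R.subgroupOf K)) (QuotientGroup.mk'_surjective _)
    exact not_PSC_qd (h2.of_injective e.symm.toMonoidHom e.symm.injective)

end Cfsg.Agent.S3835
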