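import Mathlib
import Cfsg.Statements.S3918
import Cfsg.Agent.Lib.Helper7.CyclicCrit
import Cfsg.Agent.Lib.Helper7.ClassCount
import Cfsg.Agent.Lib.Lead.UniqueOrderP5
import Cfsg.Agent.Lib.Lead.CoprimeTools

set_option autoImplicit false
open Cfsg

namespace Cfsg.Agent.S3918

open Cfsg.Agent.Lib.Helper7 Cfsg.Agent.Lib.Lead

/-- a group with two distinct subgroups of order `p` is not cyclic -/
theorem not_isCyclic_of_two {G : Type*} [Group G] [Finite G] (p : ℕ) [Fact p.Prime]
    (K H₁ H₂ : Subgroup G) (h1 : H₁ ≤ K) (h2 : H₂ ≤ K) (c1 : Nat.card H₁ = p)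
    (c2 : Nat.card H₂ = p) (hne : H₁ ≠ H₂) : ¬ IsCyclic K := by
  classical
  intro hc
  have hpp : p.Prime := Fact.out
  haveI := Fintype.ofFinite K
  have hS := IsCyclic.card_pow_eq_one_le (α := K) hpp.pos
  have key : ∀ H : Subgroup G, H ≤ K → Nat.card H = p →
      ∀ x : K, x ^ p = 1 → (x : G) ∈ H := by
    intro H hHK hc x hx
    -- the set of elements of H inside K
    let T : Finset K := Finset.univ.filter (fun a : K => (a : G) ∈ H)
    have hT : T ⊆ Finset.univ.filter (fun a : K => a ^ p = 1) := by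
      intro a ha
      simp only [T, Finset.mem_filter, Finset.mem_univ, true_and] at ha ⊢
      have : (⟨(a : G), ha⟩ : H) ^ p = 1 := by rw [← hc]; exact pow_card_eq_one'
      apply Subtype.ext
      have h3 := congrArg Subtype.val this
      simpa using h3
    have hTcard : T.card = p := by
      haveI := Fintype.ofFinite H
      rw [← hc, Nat.card_eq_fintype_card (α := H), ← Fintype.card_coe T]
      symm
      apply Fintype.card_of_bijective (f := fun a : H => (⟨⟨(a : G), hHK a.2⟩, by
        simp [T]⟩ : T))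
      constructor
      · intro a b hab
        apply Subtype.ext
        have := congrArg (fun t : T => ((t : K) : G)) hab
        exact this
      · rintro ⟨a, ha⟩
        simp only [T, Finset.mem_filter, Finset.mem_univ, true_and] at ha
        exact ⟨⟨(a : G), ha⟩, rfl⟩
    have heq : T = Finset.univ.filter (fun a : K => a ^ p = 1) :=
      Finset.eq_of_subset_of_card_le hT (by rw [hTcard]; exact hS)
    have hx' : x ∈ Finset.univ.filter (fun a : K => a ^ p = 1) := by
      simp [hx]
    rw [← heq] at hx'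
    simpa [T] using hx'
  apply hne
  apply le_antisymm
  · intro y hy
    have : (⟨y, h1 hy⟩ : K) ^ p = 1 := by
      apply Subtype.ext
      have h3 : (⟨y, hy⟩ : H₁) ^ p = 1 := by rw [← c1]; exact pow_card_eq_one'
      have h4 := congrArg Subtype.val h3
      simpa using h4
    exact key H₂ h2 c2 _ this
  · intro y hy
    have : (⟨y, h2 hy⟩ : K) ^ p = 1 := by
      apply Subtype.ext
      have h3 : (⟨y, hy⟩ : H₂) ^ p = 1 := by rw [← c2]; exact pow_card_eq_one'
      have h4 := congrArg Subtype.val h3
      simpa using h4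
    exact key H₁ h1 c1 _ this

theorem conj_pow_iter {G : Type*} [Group G] (g z : G) (k : ℕ) (h : g * z * g⁻¹ = z ^ k) (t : ℕ) :
    g ^ t * z * (g ^ t)⁻¹ = z ^ (k ^ t) := by
  induction t with
  | zero => simp
  | succ t ih =>
    have h1 : g ^ (t + 1) * z * (g ^ (t + 1))⁻¹ = g * (g ^ t * z * (g ^ t)⁻¹) * g⁻¹ := by
      rw [pow_succ']; group
    rw [h1, ih, ← conj_pow, h, ← pow_mul, pow_succ']

/-- lifting the exponent -/
theorem nt_lemma (p : ℕ) (hp : p.Prime) (hodd : p ≠ 2) (k : ℕ) (hk : 1 ≤ k)
    (h3 : p ^ 3 ∣ k ^ p - 1) : p ^ 2 ∣ k - 1 := by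
  haveI : Fact p.Prime := ⟨hp⟩
  have hoddp : Odd p := hp.odd_of_ne_two hodd
  -- p ∣ k - 1 by Fermat
  have h1 : p ∣ k ^ p - 1 := Dvd.dvd.trans (dvd_pow_self p (by norm_num)) h3
  have hkp : 1 ≤ k ^ p := Nat.one_le_pow _ _ hk
  have hmod : (k : ZMod p) = 1 := by
    have h2 : ((k ^ p - 1 : ℕ) : ZMod p) = 0 := (ZMod.natCast_eq_zero_iff _ _).mpr h1
    rw [Nat.cast_sub hkp, Nat.cast_pow, ZMod.pow_card, Nat.cast_one, sub_eq_zero] at h2
    exact h2
  have hdvd : p ∣ k - 1 := by
    rw [← ZMod.natCast_eq_zero_iff, Nat.cast_sub hk, hmod, Nat.cast_one, sub_self]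
  have hnd : ¬ p ∣ k := by
    intro hd
    have : p ∣ k - (k - 1) := Nat.dvd_sub hd hdvd
    have h4 : k - (k - 1) = 1 := by omega
    rw [h4] at this
    exact hp.one_lt.ne' (Nat.dvd_one.mp this)
  have hlte := Nat.emultiplicity_pow_sub_pow hp hoddp (x := k) (y := 1) hdvd hnd p
  rw [one_pow, hp.emultiplicity_self] at hlte
  by_contra hcon
  have h5 : emultiplicity p (k - 1) < 2 := emultiplicity_lt_iff_not_dvd.mpr hcon
  have h6 : (3 : ℕ∞) ≤ emultiplicity p (k ^ p - 1) := by
    have := pow_dvd_iff_le_emultiplicity.mp h3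
    exact_mod_cast this
  rw [hlte] at h6
  -- emultiplicity p (k-1) is finite and < 2
  obtain ⟨e, he⟩ := ENat.ne_top_iff_exists.mp (ne_top_of_lt h5)
  rw [← he] at h5 h6
  have h5' : e < 2 := by exact_mod_cast h5
  have h6' : 3 ≤ e + 1 := by exact_mod_cast h6
  omega

theorem card_eq_cube {G : Type*} [Group G] [Finite G] {p : ℕ} [Fact p.Prime] (hG : IsPGroup p G)
    (A : Subgroup G) [hAn : A.Normal] (hAc : ∀ a ∈ A, ∀ b ∈ A, a * b = b * a)
    (hA : Nat.card A = p ^ 2) (hCA : Subgroup.centralizer (A : Set G) = A) (hne : A ≠ ⊤) :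
    Nat.card G = p ^ 3 := by
  classical
  have hpp : p.Prime := Fact.out
  haveI : Group.IsNilpotent G := hG.isNilpotent
  obtain ⟨k, hk⟩ := IsPGroup.iff_card.mp hG
  -- a noncentral element of A
  have hex : ∃ a ∈ A, a ∉ Subgroup.center G := by
    by_contra hcon
    push_neg at hcon
    apply hne
    rw [← hCA, eq_top_iff]
    intro g _
    rw [Subgroup.mem_centralizer_iff]
    intro a ha
    exact (Subgroup.mem_center_iff.mp (hcon a ha) g).symm
  obtain ⟨a, haA, haZ⟩ := hex
  have hAbot : A ≠ ⊥ := by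
    intro h
    rw [h, Subgroup.card_bot] at hA
    have : 1 < p ^ 2 := Nat.one_lt_pow (by norm_num) hpp.one_lt
    omega
  set W := A ⊓ Subgroup.center G with hW
  have hWbot : W ≠ ⊥ := inf_center_ne_bot A hAbot
  have hWp : p ∣ Nat.card W := by
    have hWpg : IsPGroup p W := hG.to_subgroup W
    obtain ⟨j, hj⟩ := IsPGroup.iff_card.mp hWpg
    rw [hj]
    have hj0 : j ≠ 0 := by
      rintro rfl
      rw [pow_zero] at hj
      exact hWbot (Subgroup.card_eq_one.mp hj)
    exact dvd_pow_self p hj0
  -- centralizer of a is A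
  have hCa : Subgroup.centralizer ({a} : Set G) = A := by
    apply le_antisymm
    · intro g hg
      rw [Subgroup.mem_centralizer_singleton_iff] at hg
      set D := A ⊓ Subgroup.centralizer ({g} : Set G) with hD
      have hWD : W ≤ D := by
        intro w hw
        obtain ⟨hwA, hwZ⟩ := Subgroup.mem_inf.mp hw
        refine Subgroup.mem_inf.mpr ⟨hwA, ?_⟩
        rw [Subgroup.mem_centralizer_singleton_iff]
        exact (Subgroup.mem_center_iff.mp hwZ g).symm
      have haD : a ∈ D := by
        refine Subgroup.mem_inf.mpr ⟨haA, ?_⟩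
        rw [Subgroup.mem_centralizer_singleton_iff]
        exact hg.symm
      have haW : a ∉ W := fun h => haZ (Subgroup.mem_inf.mp h).2
      have hDA : D ≤ A := inf_le_left
      have hDcard : Nat.card D ∣ p ^ 2 := hA ▸ Subgroup.card_dvd_of_le hDA
      obtain ⟨j, hj2, hj⟩ := (Nat.dvd_prime_pow hpp).mp hDcard
      have hWDcard : Nat.card W ∣ Nat.card D := Subgroup.card_dvd_of_le hWD
      have hj1 : j ≠ 0 := by
        rintro rfl
        rw [pow_zero] at hj
        rw [hj] at hWDcard
        have := Nat.dvd_one.mp (hWp.trans hWDcard)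
        exact hpp.one_lt.ne' this
      have hj12 : j ≠ 1 := by
        rintro rfl
        rw [pow_one] at hj
        -- then W = D
        have hWle : Nat.card W ≤ p := by rw [← hj]; exact Nat.le_of_dvd Nat.card_pos hWDcard
        have hWge : p ≤ Nat.card W := Nat.le_of_dvd Nat.card_pos hWp
        have hWD' : W = D := Subgroup.eq_of_le_of_card_ge hWD (by rw [hj]; exact hWge)
        rw [hWD'] at haW
        exact haW haD
      have hj2' : j = 2 := by omega
      have hDA' : D = A := Subgroup.eq_of_le_of_card_ge hDA (by rw [hj, hj2', hA])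
      rw [← hCA, Subgroup.mem_centralizer_iff]
      intro b hb
      have hbD : b ∈ D := by rw [hDA']; exact hb
      have := (Subgroup.mem_inf.mp hbD).2
      rw [Subgroup.mem_centralizer_singleton_iff] at this
      exact this
    · intro b hb
      rw [Subgroup.mem_centralizer_singleton_iff]
      exact hAc b hb a haA
  -- class count
  have hcls := ncard_cls_mul_card_centralizer a
  rw [hCa, hA] at hcls
  have hsub : {y : G | IsConj a y} ⊆ (A : Set G) \ {1} := by
    intro y hy
    obtain ⟨c, hc⟩ := isConj_iff.mp hy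
    refine ⟨?_, ?_⟩
    · rw [← hc]; exact hAn.conj_mem a haA c
    · intro h1
      rw [Set.mem_singleton_iff] at h1
      rw [h1] at hc
      apply haZ
      have : a = 1 := by
        have h2 : a = c⁻¹ * (c * a * c⁻¹) * c := by group
        rw [h2, hc]; group
      rw [this]; exact Subgroup.one_mem _
  have hncard : Set.ncard {y : G | IsConj a y} < p ^ 2 := by
    have h1 : Set.ncard ((A : Set G) \ {1}) = p ^ 2 - 1 := by
      rw [Set.ncard_sdiff_singleton_of_mem (Subgroup.one_mem A)]
      have : Set.ncard (A : Set G) = Nat.card A := rfl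
      rw [this, hA]
    have h2 := Set.ncard_le_ncard hsub (Set.toFinite _)
    have : 0 < p ^ 2 := pow_pos hpp.pos 2
    omega
  -- conclude
  rw [hk] at hcls ⊢
  have hklt : k < 4 := by
    by_contra hge
    push_neg at hge
    have h1 : p ^ 4 ≤ p ^ k := Nat.pow_le_pow_right hpp.pos hge
    have h2 : Set.ncard {y : G | IsConj a y} * p ^ 2 < p ^ 2 * p ^ 2 :=
      Nat.mul_lt_mul_of_pos_right hncard (pow_pos hpp.pos 2)
    have h3 : p ^ 2 * p ^ 2 = p ^ 4 := by ring
    omega
  have hkge : 3 ≤ k := by
    by_contra hlt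
    push_neg at hlt
    -- then card G ≤ p^2 = card A so A = ⊤
    apply hne
    apply Subgroup.eq_top_of_card_eq
    rw [hA, hk]
    apply le_antisymm
    · have : Nat.card A ∣ Nat.card G := Subgroup.card_subgroup_dvd_card A
      rw [hA, hk] at this
      exact Nat.le_of_dvd (pow_pos hpp.pos k) this
    · exact Nat.pow_le_pow_right hpp.pos (by omega)
  have : k = 3 := by omega
  rw [this]

theorem card_sup_two {G : Type*} [Group G] [Finite G] {p : ℕ} [Fact p.Prime]
    (H₁ H₂ : Subgroup G) (c1 : Nat.card H₁ = p) (c2 : Nat.card H₂ = p) (hne : H₁ ≠ H₂)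
    (hn : H₁ ≤ Subgroup.normalizer (H₂ : Set G)) : Nat.card (H₁ ⊔ H₂ : Subgroup G) = p ^ 2 := by
  have hpp : p.Prime := Fact.out
  have h1 := card_sup_mul_card_inf H₁ H₂ hn
  have hinf : H₁ ⊓ H₂ = ⊥ := by
    have hd : Nat.card (H₁ ⊓ H₂ : Subgroup G) ∣ p := c1 ▸ Subgroup.card_dvd_of_le inf_le_left
    rcases (Nat.dvd_prime hpp).mp hd with h | h
    · exact Subgroup.card_eq_one.mp h
    · exfalso
      have e1 : H₁ ⊓ H₂ = H₁ := Subgroup.eq_of_le_of_card_ge inf_le_left (by rw [h, c1])
      have e2 : H₁ ⊓ H₂ = H₂ := Subgroup.eq_of_le_of_card_ge inf_le_right (by rw [h, c2])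
      exact hne (e1.symm.trans e2)
  rw [hinf, Subgroup.card_bot, mul_one, c1, c2] at h1
  rw [h1, pow_two]

/-- the non-cyclic case -/
theorem card_of_not_cyclic {G : Type*} [Group G] [Finite G] {p : ℕ} [Fact p.Prime] (hp : p ≠ 2)
    (hG : IsPGroup p G)
    (hstar : ∀ H : Subgroup G, ¬ IsCyclic ↥H → Subgroup.centralizer (H : Set G) ≤ H)
    (A : Subgroup G) (hAc : ∀ a ∈ A, ∀ b ∈ A, a * b = b * a) (hcyc : ¬ IsCyclic A) :
    Nat.card A = p ^ 2 := by
  have hAp : IsPGroup p A := hG.to_subgroup A
  have hnu : ¬ UniqueOrderP p A := by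
    intro hu
    rcases UniqueOrderP.main hAp hu with h | ⟨h2, _⟩
    · exact hcyc h
    · exact hp h2
  unfold UniqueOrderP at hnu
  push_neg at hnu
  obtain ⟨H', K', cH, cK, hHK⟩ := hnu
  set H₁ := H'.map A.subtype with hH1
  set H₂ := K'.map A.subtype with hH2
  have c1 : Nat.card H₁ = p := by
    rw [hH1, Subgroup.card_map_of_injective A.subtype_injective, cH]
  have c2 : Nat.card H₂ = p := by
    rw [hH2, Subgroup.card_map_of_injective A.subtype_injective, cK]
  have hne : H₁ ≠ H₂ := fun h => hHK (Subgroup.map_injective A.subtype_injective h)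
  have h1A : H₁ ≤ A := Subgroup.map_subtype_le _
  have h2A : H₂ ≤ A := Subgroup.map_subtype_le _
  have hNA : H₁ ⊔ H₂ ≤ A := sup_le h1A h2A
  have hnc : ¬ IsCyclic ↥(H₁ ⊔ H₂ : Subgroup G) :=
    not_isCyclic_of_two p _ H₁ H₂ le_sup_left le_sup_right c1 c2 hne
  have hcen := hstar _ hnc
  have hAle : A ≤ H₁ ⊔ H₂ := by
    intro a ha
    apply hcen
    rw [Subgroup.mem_centralizer_iff]
    intro y hy
    exact hAc y (hNA hy) a ha
  have hAeq : A = H₁ ⊔ H₂ := le_antisymm hAle hNA
  have hn : H₁ ≤ Subgroup.normalizer (H₂ : Set G) := by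
    intro y hy
    rw [Subgroup.mem_normalizer_iff]
    intro w
    constructor
    · intro hw
      have : y * w * y⁻¹ = w := by
        rw [hAc y (h1A hy) w (h2A hw)]; group
      rw [this]; exact hw
    · intro hw
      have hwA : y * w * y⁻¹ ∈ A := h2A hw
      have hw' : w ∈ A := by
        have : w = y⁻¹ * (y * w * y⁻¹) * y := by group
        rw [this]
        exact A.mul_mem (A.mul_mem (A.inv_mem (h1A hy)) hwA) (h1A hy)
      have : y * w * y⁻¹ = w := by
        rw [hAc y (h1A hy) w hw']; group
      rw [this] at hw; exact hw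
  rw [hAeq]
  exact card_sup_two H₁ H₂ c1 c2 hne hn

/-- the cyclic case -/
theorem card_of_cyclic {G : Type*} [Group G] [Finite G] {p : ℕ} [Fact p.Prime] (hp : p ≠ 2)
    (hG : IsPGroup p G) (hGnc : ¬ IsCyclic G)
    (hstar : ∀ H : Subgroup G, ¬ IsCyclic ↥H → Subgroup.centralizer (H : Set G) ≤ H)
    (A : Subgroup G) [hAn : A.Normal] (hcyc : IsCyclic A)
    (hCA : Subgroup.centralizer (A : Set G) = A) :
    Nat.card A = p ^ 2 := by
  classical
  have hpp : p.Prime := Fact.out
  haveI : Nontrivial G := by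
    by_contra hnt
    rw [not_nontrivial_iff_subsingleton] at hnt
    exact hGnc inferInstance
  -- two subgroups of order p
  have hnu : ¬ UniqueOrderP p G := by
    intro hu
    rcases UniqueOrderP.main hG hu with h | ⟨h2, _⟩
    · exact hGnc h
    · exact hp h2
  unfold UniqueOrderP at hnu
  push_neg at hnu
  obtain ⟨H', K', cH, cK, hHK⟩ := hnu
  -- a central element of order p
  haveI := hG.center_nontrivial
  have hpc : p ∣ Nat.card (Subgroup.center G) := by
    obtain ⟨j, hj⟩ := IsPGroup.iff_card.mp (hG.to_subgroup (Subgroup.center G))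
    rw [hj]
    have hj0 : j ≠ 0 := by
      rintro rfl
      rw [pow_zero] at hj
      have := (Subgroup.card_eq_one.mp hj)
      exact (Subgroup.nontrivial_iff_ne_bot _).mp inferInstance this
    exact dvd_pow_self p hj0
  obtain ⟨z', hz'⟩ := exists_prime_orderOf_dvd_card' (G := Subgroup.center G) p hpc
  set z : G := (z' : G) with hz
  have hzord : orderOf z = p := by rw [hz, Subgroup.orderOf_coe]; exact hz'
  have hzc : z ∈ Subgroup.center G := z'.2
  set Z₁ := Subgroup.zpowers z with hZ1
  have cZ : Nat.card Z₁ = p := by rw [hZ1, Nat.card_zpowers, hzord]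
  have hZ1c : Z₁ ≤ Subgroup.center G := by rw [hZ1, Subgroup.zpowers_le]; exact hzc
  haveI hZ1n : Z₁.Normal := zpowers_normal_of_mem_center hzc
  obtain ⟨H, cHp, hHZ⟩ : ∃ H : Subgroup G, Nat.card H = p ∧ H ≠ Z₁ := by
    by_cases h : H' = Z₁
    · exact ⟨K', cK, fun h2 => hHK (h.trans h2.symm)⟩
    · exact ⟨H', cH, h⟩
  -- a generator x of H
  have hHbot : H ≠ ⊥ := by
    intro h
    rw [h, Subgroup.card_bot] at cHp
    exact hpp.one_lt.ne' cHp.symm
  obtain ⟨⟨x, hxH⟩, hx1⟩ := (Subgroup.ne_bot_iff_exists_ne_one).mp hHbot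
  have hx1' : x ≠ 1 := fun h => hx1 (Subtype.ext h)
  have hxp : x ^ p = 1 := by
    have h3 : (⟨x, hxH⟩ : H) ^ p = 1 := by rw [← cHp]; exact pow_card_eq_one'
    have h4 := congrArg Subtype.val h3
    simpa using h4
  have hxord : orderOf x = p := orderOf_eq_prime hxp hx1'
  have hHx : H = Subgroup.zpowers x := by
    symm
    apply Subgroup.eq_of_le_of_card_ge
    · rw [Subgroup.zpowers_le]; exact hxH
    · rw [Nat.card_zpowers, hxord, cHp]
  -- N
  set N := Z₁ ⊔ H with hN
  have hnc : ¬ IsCyclic ↥N :=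
    not_isCyclic_of_two p _ Z₁ H le_sup_left le_sup_right cZ cHp (Ne.symm hHZ)
  have hcen := hstar _ hnc
  have hexp : ∀ y ∈ N, y ^ p = 1 := by
    intro y hy
    obtain ⟨u, hu, v, hv, rfl⟩ := Subgroup.mem_sup_of_normal_left.mp hy
    have hcomm : Commute u v := (Subgroup.mem_center_iff.mp (hZ1c hu) v).symm
    rw [hcomm.mul_pow]
    have hu' : u ^ p = 1 := by
      have h3 : (⟨u, hu⟩ : Z₁) ^ p = 1 := by rw [← cZ]; exact pow_card_eq_one'
      have h4 := congrArg Subtype.val h3
      simpa using h4
    have hv' : v ^ p = 1 := by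
      have h3 : (⟨v, hv⟩ : H) ^ p = 1 := by rw [← cHp]; exact pow_card_eq_one'
      have h4 := congrArg Subtype.val h3
      simpa using h4
    rw [hu', hv', one_mul]
  -- generator of A
  obtain ⟨a', ha'⟩ := hcyc.exists_generator
  set a₀ : G := (a' : G) with ha0
  have ha0A : a₀ ∈ A := a'.2
  have hgen : ∀ y ∈ A, y ∈ Subgroup.zpowers a₀ := by
    intro y hy
    obtain ⟨i, hi⟩ := Subgroup.mem_zpowers_iff.mp (ha' ⟨y, hy⟩)
    refine Subgroup.mem_zpowers_iff.mpr ⟨i, ?_⟩
    have := congrArg Subtype.val hi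
    simpa using this
  have hAz : A = Subgroup.zpowers a₀ :=
    le_antisymm hgen (by rw [Subgroup.zpowers_le]; exact ha0A)
  have hcardA : Nat.card A = orderOf a₀ := by rw [hAz, Nat.card_zpowers]
  obtain ⟨n, hn⟩ := IsPGroup.iff_card.mp (hG.to_subgroup A)
  rw [hn] at hcardA
  rw [hn]
  have hzA : z ∈ A := by
    rw [← hCA, Subgroup.mem_centralizer_iff]
    intro y _
    exact Subgroup.mem_center_iff.mp hzc y
  -- exclude n = 0, 1
  have hn0 : n ≠ 0 := by
    rintro rfl
    rw [pow_zero] at hn
    have hbot : A = ⊥ := Subgroup.card_eq_one.mp hn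
    rw [hbot, Subgroup.mem_bot] at hzA
    rw [hzA, orderOf_one] at hzord
    exact hpp.one_lt.ne' hzord.symm
  have hn1 : n ≠ 1 := by
    rintro rfl
    rw [pow_one] at hn
    have hZA : Z₁ = A := Subgroup.eq_of_le_of_card_ge
      (by rw [hZ1, Subgroup.zpowers_le]; exact hzA) (by rw [hn, cZ])
    have htop : Subgroup.centralizer (A : Set G) = ⊤ := by
      rw [eq_top_iff]
      intro g _
      rw [Subgroup.mem_centralizer_iff]
      intro y hy
      rw [← hZA] at hy
      exact (Subgroup.mem_center_iff.mp (hZ1c hy) g).symm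
    rw [hCA] at htop
    apply hGnc
    have hcG : Nat.card G = p := by
      rw [← Subgroup.card_top (G := G), ← htop, hn]
    exact isCyclic_of_prime_card hcG
  -- exclude n ≥ 3
  have hn3 : n < 3 := by
    by_contra hge
    push_neg at hge
    -- conjugation of a₀ by x
    have hxa : x * a₀ * x⁻¹ ∈ Subgroup.zpowers a₀ := by
      rw [← hAz]; exact hAn.conj_mem a₀ ha0A x
    have hfin : IsOfFinOrder a₀ := isOfFinOrder_of_finite a₀
    rw [← mem_powers_iff_mem_zpowers] at hxa
    obtain ⟨k, hk⟩ := hxa
    have hk' : x * a₀ * x⁻¹ = a₀ ^ k := hk.symm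
    have ha01 : a₀ ≠ 1 := by
      intro h
      rw [h, orderOf_one] at hcardA
      have : 1 < p ^ n := Nat.one_lt_pow hn0 hpp.one_lt
      omega
    have hk1 : 1 ≤ k := by
      by_contra hk0
      have : k = 0 := by omega
      rw [this, pow_zero] at hk'
      apply ha01
      have : a₀ = x⁻¹ * (x * a₀ * x⁻¹) * x := by group
      rw [this, hk']; group
    have hiter := conj_pow_iter x a₀ k hk' p
    rw [hxp, one_mul, inv_one, mul_one] at hiter
    have hkp : 1 ≤ k ^ p := Nat.one_le_pow _ _ hk1
    have hdvd : p ^ n ∣ k ^ p - 1 := by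
      rw [hcardA]
      apply orderOf_dvd_of_pow_eq_one
      have h1 : a₀ ^ (k ^ p - 1) * a₀ = a₀ := by
        rw [← pow_succ, Nat.sub_add_cancel hkp, ← hiter]
      exact mul_eq_right.mp h1
    have hd3 : p ^ 3 ∣ k ^ p - 1 := Dvd.dvd.trans (pow_dvd_pow p hge) hdvd
    have hsq := nt_lemma p hpp hp k hk1 hd3
    -- the element b
    set b := a₀ ^ (p ^ (n - 2)) with hb
    have hbk : b ^ (k - 1) = 1 := by
      rw [hb, ← pow_mul]
      apply orderOf_dvd_iff_pow_eq_one.mp
      rw [← hcardA]
      obtain ⟨c, hc⟩ := hsq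
      rw [hc, ← mul_assoc, ← pow_add]
      have : n - 2 + 2 = n := by omega
      rw [this]
      exact Dvd.intro _ rfl
    have hxb : x * b * x⁻¹ = b := by
      rw [hb, ← conj_pow, hk', ← pow_mul, mul_comm, pow_mul, ← hb]
      have : k = (k - 1) + 1 := by omega
      rw [this, pow_succ, hbk, one_mul]
    have hxb' : x * b = b * x := by
      calc x * b = (x * b * x⁻¹) * x := by group
        _ = b * x := by rw [hxb]
    have hbN : b ∈ N := by
      apply hcen
      rw [Subgroup.mem_centralizer_iff]
      intro y hy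
      obtain ⟨u, hu, v, hv, rfl⟩ := Subgroup.mem_sup_of_normal_left.mp hy
      rw [hHx] at hv
      obtain ⟨j, rfl⟩ := Subgroup.mem_zpowers_iff.mp hv
      have h1 : u * b = b * u := Subgroup.mem_center_iff.mp (hZ1c hu) b |>.symm
      have h2 : Commute x b := hxb'
      have h3 : x ^ j * b = b * x ^ j := (h2.zpow_left j)
      rw [mul_assoc, h3, ← mul_assoc, h1, mul_assoc]
    have hbp := hexp b hbN
    rw [hb, ← pow_mul, ← pow_succ] at hbp
    have hd2 : p ^ n ∣ p ^ (n - 2 + 1) := by
      rw [hcardA]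
      exact orderOf_dvd_of_pow_eq_one hbp
    have := (Nat.pow_dvd_pow_iff_le_right hpp.one_lt).mp hd2
    omega
  have : n = 2 := by omega
  rw [this]

/-- Say that a group has self-centralizing non-cyclic subgroups when every non-cyclic subgroup H satisfies C_G(H) ≤ H. For an odd prime p, a finite non-abelian p-group has self-centralizing non-cyclic subgroups if and only if it has order p³. -/
theorem result {G : Type*} [Group G] [Finite G] {p : ℕ} [Fact p.Prime] (hp : p ≠ 2) (hG : IsPGroup p G) (hna : ¬ IsMulCommutative G) :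
    (∀ H : Subgroup G, ¬ IsCyclic ↥H → Subgroup.centralizer (H : Set G) ≤ H) ↔ Nat.card G = p ^ 3 := by
  have hpp : p.Prime := Fact.out
  constructor
  · intro hstar
    haveI : Group.IsNilpotent G := hG.isNilpotent
    obtain ⟨A, hAn, hAc, hmax⟩ := exists_maximal_normal_abelian G
    haveI := hAn
    haveI := hAc
    have hCA := centralizer_eq_of_max_abelian_normal A hmax
    have hAcomm : ∀ a ∈ A, ∀ b ∈ A, a * b = b * a := by
      intro a ha b hb
      have h1 := Std.Commutative.comm (op := fun (a b : ↥A) => a * b) ⟨a, ha⟩ ⟨b, hb⟩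
      exact congrArg Subtype.val h1
    have hAtop : A ≠ ⊤ := by
      intro h
      apply hna
      refine ⟨⟨fun a b => ?_⟩⟩
      exact hAcomm a (h ▸ Subgroup.mem_top a) b (h ▸ Subgroup.mem_top b)
    have hGnc : ¬ IsCyclic G := fun h => hna h.isMulCommutative
    have hcardA : Nat.card A = p ^ 2 := by
      by_cases hcyc : IsCyclic A
      · exact card_of_cyclic hp hG hGnc hstar A hcyc hCA
      · exact card_of_not_cyclic hp hG hstar A hAcomm hcyc
    exact card_eq_cube hG A hAcomm hcardA hCA hAtop
  · intro hcard H hH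
    have hd : Nat.card H ∣ p ^ 3 := hcard ▸ Subgroup.card_subgroup_dvd_card H
    obtain ⟨j, hj3, hj⟩ := (Nat.dvd_prime_pow hpp).mp hd
    have hj0 : j ≠ 0 := by
      rintro rfl
      rw [pow_zero] at hj
      have hbot : H = ⊥ := Subgroup.card_eq_one.mp hj
      apply hH
      rw [hbot]
      infer_instance
    have hj1 : j ≠ 1 := by
      rintro rfl
      rw [pow_one] at hj
      exact hH (isCyclic_of_prime_card hj)
    by_cases hj3' : j = 3
    · have htop : H = ⊤ := Subgroup.eq_top_of_card_eq H (by rw [hj, hj3', hcard])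
      rw [htop]; exact le_top
    · have hj2 : j = 2 := by omega
      rw [hj2] at hj
      intro g hg
      by_contra hgH
      have hHcomm : ∀ a ∈ H, ∀ b ∈ H, a * b = b * a := by
        intro a ha b hb
        haveI := IsPGroup.isMulCommutative_of_card_eq_prime_sq (G := ↥H) hj
        have h1 := Std.Commutative.comm (op := fun (a b : ↥H) => a * b) ⟨a, ha⟩ ⟨b, hb⟩
        exact congrArg Subtype.val h1
      have hKtop : H ⊔ Subgroup.zpowers g = ⊤ := by
        have hlt : H < H ⊔ Subgroup.zpowers g := by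
          refine lt_of_le_of_ne le_sup_left ?_
          intro h
          apply hgH
          rw [h]
          exact (le_sup_right : Subgroup.zpowers g ≤ H ⊔ Subgroup.zpowers g)
            (Subgroup.mem_zpowers g)
        have hd2 : Nat.card (H ⊔ Subgroup.zpowers g : Subgroup G) ∣ p ^ 3 :=
          hcard ▸ Subgroup.card_subgroup_dvd_card _
        obtain ⟨i, hi3, hi⟩ := (Nat.dvd_prime_pow hpp).mp hd2
        have hdd : p ^ 2 ∣ p ^ i := by
          rw [← hj, ← hi]; exact Subgroup.card_dvd_of_le le_sup_left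
        have hi2 : 2 ≤ i := (Nat.pow_dvd_pow_iff_le_right hpp.one_lt).mp hdd
        have hine : i ≠ 2 := by
          rintro rfl
          have : H = H ⊔ Subgroup.zpowers g :=
            Subgroup.eq_of_le_of_card_ge le_sup_left (by rw [hi, hj])
          exact hlt.ne this
        have hi3' : i = 3 := by omega
        exact Subgroup.eq_top_of_card_eq _ (by rw [hi, hi3', hcard])
      rw [Subgroup.mem_centralizer_iff] at hg
      -- everything is central
      have hcen : H ⊔ Subgroup.zpowers g ≤ Subgroup.center G := by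
        apply sup_le
        · intro h hh
          rw [Subgroup.mem_center_iff]
          intro y
          have hy : y ∈ Subgroup.centralizer ({h} : Set G) := by
            have hle : H ⊔ Subgroup.zpowers g ≤ Subgroup.centralizer ({h} : Set G) := by
              apply sup_le
              · intro b hb
                rw [Subgroup.mem_centralizer_singleton_iff]
                exact hHcomm b hb h hh
              · rw [Subgroup.zpowers_le, Subgroup.mem_centralizer_singleton_iff]
                exact (hg h hh).symm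
            exact hle (hKtop ▸ Subgroup.mem_top y)
          rw [Subgroup.mem_centralizer_singleton_iff] at hy
          exact hy
        · rw [Subgroup.zpowers_le, Subgroup.mem_center_iff]
          intro y
          have hy : y ∈ Subgroup.centralizer ({g} : Set G) := by
            have hle : H ⊔ Subgroup.zpowers g ≤ Subgroup.centralizer ({g} : Set G) := by
              apply sup_le
              · intro b hb
                rw [Subgroup.mem_centralizer_singleton_iff]
                exact hg b hb
              · rw [Subgroup.zpowers_le, Subgroup.mem_centralizer_singleton_iff]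
            exact hle (hKtop ▸ Subgroup.mem_top y)
          rw [Subgroup.mem_centralizer_singleton_iff] at hy
          exact hy
      apply hna
      refine ⟨⟨fun a b => ?_⟩⟩
      have ha : a ∈ Subgroup.center G := hcen (hKtop ▸ Subgroup.mem_top a)
      exact (Subgroup.mem_center_iff.mp ha b).symm

end Cfsg.Agent.S3918
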