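import Mathlib
import Cfsg.Statements.S4106
import Cfsg.Agent.Lib.Helper7.PElements

set_option autoImplicit false
open Cfsg

namespace Cfsg.Agent.S4106

open Cfsg.Agent.Lib.Helper7

universe u

/-- every prime divisor of the order lies in `S` -/
def isS {G : Type*} [Group G] (S : Finset ℕ) (g : G) : Prop :=
  ∀ q : ℕ, q.Prime → q ∣ orderOf g → q ∈ S

/-- the bound -/
def B (S : Finset ℕ) (n : ℕ) : ℕ := ∏ p ∈ S, p ^ n.factorization p

theorem B_le_of_dvd (S : Finset ℕ) {a b : ℕ} (hb : b ≠ 0) (h : a ∣ b) : B S a ≤ B S b := by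
  have ha : a ≠ 0 := fun h0 => hb (by rw [h0] at h; exact zero_dvd_iff.mp h)
  have hle := (Nat.factorization_le_iff_dvd ha hb).mpr h
  unfold B
  apply Finset.prod_le_prod'
  intro p hp
  rcases Nat.eq_zero_or_pos p with h0 | h0
  · subst h0
    simp
  · exact Nat.pow_le_pow_right h0 (hle p)

theorem decomp {G : Type*} [Group G] [Finite G] (p : ℕ) [hp : Fact p.Prime] (g : G) :
    ∃ (i j : ℤ), g = g ^ i * g ^ j ∧ (∃ k : ℕ, orderOf (g ^ i) = p ^ k)
      ∧ ¬ p ∣ orderOf (g ^ j) ∧ orderOf (g ^ j) ∣ orderOf g := by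
  have hn : orderOf g ≠ 0 := (orderOf_pos g).ne'
  obtain ⟨e, n', hn', hne⟩ := Nat.exists_eq_pow_mul_and_not_dvd hn p hp.out.ne_one
  have hcop : Nat.Coprime (p ^ e) n' :=
    Nat.Coprime.pow_left e ((Nat.Prime.coprime_iff_not_dvd hp.out).mpr hn')
  have hbez := Nat.gcd_eq_gcd_ab (p ^ e) n'
  rw [hcop] at hbez
  set A := Nat.gcdA (p ^ e) n'
  set Bz := Nat.gcdB (p ^ e) n'
  refine ⟨(n' : ℤ) * Bz, ((p ^ e : ℕ) : ℤ) * A, ?_, ?_, ?_, ?_⟩
  · rw [← zpow_add]
    have : (n' : ℤ) * Bz + ((p ^ e : ℕ) : ℤ) * A = 1 := by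
      rw [add_comm]; exact_mod_cast hbez.symm
    rw [this, zpow_one]
  · rw [isPElt_iff_pow]
    refine ⟨e, ?_⟩
    rw [← zpow_natCast, ← zpow_mul]
    have : (n' : ℤ) * Bz * ((p ^ e : ℕ) : ℤ) = ((orderOf g : ℕ) : ℤ) * Bz := by
      rw [hne]; push_cast; ring
    rw [this, zpow_mul, zpow_natCast, pow_orderOf_eq_one, one_zpow]
  · have h1 : (g ^ (((p ^ e : ℕ) : ℤ) * A)) ^ n' = 1 := by
      rw [← zpow_natCast, ← zpow_mul]
      have : ((p ^ e : ℕ) : ℤ) * A * (n' : ℤ) = ((orderOf g : ℕ) : ℤ) * A := by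
        rw [hne]; push_cast; ring
      rw [this, zpow_mul, zpow_natCast, pow_orderOf_eq_one, one_zpow]
    intro hd
    exact hn' (hd.trans (orderOf_dvd_of_pow_eq_one h1))
  · have h1 : (g ^ (((p ^ e : ℕ) : ℤ) * A)) ^ n' = 1 := by
      rw [← zpow_natCast, ← zpow_mul]
      have : ((p ^ e : ℕ) : ℤ) * A * (n' : ℤ) = ((orderOf g : ℕ) : ℤ) * A := by
        rw [hne]; push_cast; ring
      rw [this, zpow_mul, zpow_natCast, pow_orderOf_eq_one, one_zpow]
    exact (orderOf_dvd_of_pow_eq_one h1).trans ⟨p ^ e, by rw [hne]; ring⟩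

/-- every class has a representative whose `p`-part lies in the fixed Sylow subgroup -/
theorem exists_rep {G : Type*} [Group G] [Finite G] (p : ℕ) [hp : Fact p.Prime]
    (P : Sylow p G) (C : ConjClasses G) :
    ∃ (g x y : G), ConjClasses.mk g = C ∧ g = x * y ∧ x ∈ (P : Subgroup G) ∧ Commute x y
      ∧ ¬ p ∣ orderOf y ∧ orderOf y ∣ orderOf g := by
  obtain ⟨g, rfl⟩ := ConjClasses.exists_rep C
  obtain ⟨i, j, hij, hx, hy, hy'⟩ := decomp p g
  obtain ⟨Q, hQ⟩ := (isPElt_iff_mem_sylow (g ^ i)).mp hx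
  obtain ⟨c, hc⟩ := MulAction.exists_smul_eq G Q P
  have hmem : c * g ^ i * c⁻¹ ∈ (P : Subgroup G) := by
    rw [← hc, Sylow.coe_subgroup_smul, Subgroup.mem_pointwise_smul_iff_inv_smul_mem]
    simp only [MulAut.smul_def, MulAut.conj_inv_apply]
    convert hQ using 1
    group
  refine ⟨c * g * c⁻¹, c * g ^ i * c⁻¹, c * g ^ j * c⁻¹, ?_, ?_, hmem, ?_, ?_, ?_⟩
  · rw [ConjClasses.mk_eq_mk_iff_isConj]
    exact (isConj_iff.mpr ⟨c, rfl⟩).symm
  · conv_lhs => rw [hij]
    group
  · have : Commute (g ^ i) (g ^ j) := (Commute.refl g).zpow_zpow i j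
    show c * g ^ i * c⁻¹ * (c * g ^ j * c⁻¹) = c * g ^ j * c⁻¹ * (c * g ^ i * c⁻¹)
    calc c * g ^ i * c⁻¹ * (c * g ^ j * c⁻¹) = c * (g ^ i * g ^ j) * c⁻¹ := by group
      _ = c * (g ^ j * g ^ i) * c⁻¹ := by rw [this.eq]
      _ = _ := by group
  · have h1 : orderOf (c * g ^ j * c⁻¹) = orderOf (g ^ j) := by
      have := (MulAut.conj c).orderOf_eq (g ^ j)
      rwa [MulAut.conj_apply] at this
    rwa [h1]
  · have h1 : orderOf (c * g ^ j * c⁻¹) = orderOf (g ^ j) := by
      have := (MulAut.conj c).orderOf_eq (g ^ j)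
      rwa [MulAut.conj_apply] at this
    have h2 : orderOf (c * g * c⁻¹) = orderOf g := by
      have := (MulAut.conj c).orderOf_eq g
      rwa [MulAut.conj_apply] at this
    rwa [h1, h2]

/-- the classes of `S`-elements -/
abbrev Cls (G : Type u) [Group G] (S : Finset ℕ) : Type u :=
  {C : ConjClasses G // ∃ g : G, ConjClasses.mk g = C ∧ isS S g}

theorem key (S : Finset ℕ) : (∀ p ∈ S, p.Prime) → ∀ (G : Type u) [Group G] [Finite G],
    Nat.card (Cls G S) ≤ B S (Nat.card G) := by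
  induction S using Finset.induction_on with
  | empty =>
    intro _ G _ _
    have : Subsingleton (Cls G ∅) := by
      constructor
      rintro ⟨C, g, rfl, hg⟩ ⟨C', g', rfl, hg'⟩
      have h1 : ∀ (a : G), isS ∅ a → a = 1 := by
        intro a ha
        rw [← orderOf_eq_one_iff]
        by_contra hne
        obtain ⟨q, hq, hqd⟩ := Nat.exists_prime_and_dvd hne
        exact absurd (ha q hq hqd) (Finset.notMem_empty q)
      have e1 := h1 g hg
      have e2 := h1 g' hg'
      subst e1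
      subst e2
      rfl
    have h1 : Nat.card (Cls G ∅) ≤ 1 := Finite.card_le_one_iff_subsingleton.mpr this
    simpa [B] using h1
  | insert p S' hpS' ih =>
    intro hprime G _ _
    have hp : p.Prime := hprime p (Finset.mem_insert_self p S')
    have : Fact p.Prime := ⟨hp⟩
    have ih' := ih (fun q hq => hprime q (Finset.mem_insert_of_mem hq))
    obtain ⟨P⟩ : Nonempty (Sylow p G) := inferInstance
    -- the target
    let Q : ↥(P : Subgroup G) → Type u := fun x =>
      Cls ↥(Subgroup.centralizer ({(x : G)} : Set G)) S'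
    -- relation
    let rel : (Σ x : ↥(P : Subgroup G), Q x) → ConjClasses G → Prop := fun s C =>
      ∃ y : ↥(Subgroup.centralizer ({(s.1 : G)} : Set G)),
        ConjClasses.mk y = s.2.1 ∧ ConjClasses.mk ((s.1 : G) * (y : G)) = C
    have hrel_inj : ∀ s C C', rel s C → rel s C' → C = C' := by
      rintro ⟨x, D⟩ C C' ⟨y, hy, rfl⟩ ⟨y', hy', rfl⟩
      have hyy' : ConjClasses.mk y = ConjClasses.mk y' := hy.trans hy'.symm
      rw [ConjClasses.mk_eq_mk_iff_isConj, isConj_iff] at hyy'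
      obtain ⟨h, hh⟩ := hyy'
      rw [ConjClasses.mk_eq_mk_iff_isConj, isConj_iff]
      refine ⟨(h : G), ?_⟩
      have hcomm : (h : G) * (x : G) = (x : G) * (h : G) :=
        ((Subgroup.mem_centralizer_singleton_iff).mp h.2)
      have hh' : (h : G) * (y : G) * (h : G)⁻¹ = (y' : G) := by
        have := congrArg Subtype.val hh
        simpa using this
      calc (h : G) * ((x : G) * (y : G)) * (h : G)⁻¹
          = ((h : G) * (x : G)) * (y : G) * (h : G)⁻¹ := by group
        _ = ((x : G) * (h : G)) * (y : G) * (h : G)⁻¹ := by rw [hcomm]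
        _ = (x : G) * ((h : G) * (y : G) * (h : G)⁻¹) := by group
        _ = (x : G) * (y' : G) := by rw [hh']
    have hex : ∀ C : Cls G (insert p S'), ∃ s : (Σ x : ↥(P : Subgroup G), Q x), rel s C.1 := by
      rintro ⟨C, g0, hg0C, hg0⟩
      obtain ⟨g, x, y, hgC, hgxy, hxP, hcomm, hpy, hyg⟩ := exists_rep p P C
      have hyc : y ∈ Subgroup.centralizer ({x} : Set G) :=
        Subgroup.mem_centralizer_singleton_iff.mpr hcomm.eq.symm
      have hog : orderOf g = orderOf g0 := by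
        have : IsConj g g0 := by
          rw [← ConjClasses.mk_eq_mk_iff_isConj, hgC, hg0C]
        obtain ⟨c, hc⟩ := isConj_iff.mp this
        rw [← hc]
        have := (MulAut.conj c).orderOf_eq g
        rw [MulAut.conj_apply] at this
        exact this.symm
      have hyS : isS S' (⟨y, hyc⟩ : ↥(Subgroup.centralizer ({x} : Set G))) := by
        intro q hq hqd
        have hqd' : q ∣ orderOf y := by
          have := Subgroup.orderOf_coe (⟨y, hyc⟩ : ↥(Subgroup.centralizer ({x} : Set G)))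
          rw [← this] at hqd
          exact hqd
        have hq1 : q ∈ insert p S' := hg0 q hq (hog ▸ hqd'.trans hyg)
        rcases Finset.mem_insert.mp hq1 with h | h
        · exact absurd (h ▸ hqd') hpy
        · exact h
      refine ⟨⟨⟨x, hxP⟩, ⟨ConjClasses.mk ⟨y, hyc⟩, ⟨y, hyc⟩, rfl, hyS⟩⟩, ⟨y, hyc⟩, rfl, ?_⟩
      show ConjClasses.mk (x * y) = C
      rw [← hgxy, hgC]
    choose f hf using hex
    have hf_inj : Function.Injective f := by
      intro C C' h
      apply Subtype.ext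
      exact hrel_inj (f C) C.1 C'.1 (hf C) (h ▸ hf C')
    have hfinQ : ∀ x, Finite (Q x) := fun x => inferInstance
    have h1 : Nat.card (Cls G (insert p S')) ≤ Nat.card (Σ x : ↥(P : Subgroup G), Q x) :=
      Nat.card_le_card_of_injective f hf_inj
    haveI : Fintype ↥(P : Subgroup G) := Fintype.ofFinite _
    rw [Nat.card_sigma] at h1
    have h2 : ∀ x : ↥(P : Subgroup G), Nat.card (Q x) ≤ B S' (Nat.card G) := by
      intro x
      refine (ih' ↥(Subgroup.centralizer ({(x : G)} : Set G))).trans ?_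
      exact B_le_of_dvd S' Nat.card_pos.ne' (Subgroup.card_subgroup_dvd_card _)
    have h3 : ∑ x : ↥(P : Subgroup G), Nat.card (Q x) ≤ Nat.card (P : Subgroup G) * B S' (Nat.card G) := by
      calc ∑ x : ↥(P : Subgroup G), Nat.card (Q x) ≤ ∑ _x : ↥(P : Subgroup G), B S' (Nat.card G) :=
            Finset.sum_le_sum (fun x _ => h2 x)
        _ = Nat.card (P : Subgroup G) * B S' (Nat.card G) := by
            rw [Finset.sum_const, Finset.card_univ, smul_eq_mul, ← Nat.card_eq_fintype_card]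
    refine h1.trans (h3.trans ?_)
    rw [Sylow.card_eq_multiplicity]
    unfold B
    rw [Finset.prod_insert hpS']

theorem result {G : Type*} [Group G] [Finite G]
    (π : Set ℕ) (hπ : ∀ q ∈ π, q.Prime)
    (m : ℕ) (hm : m ∣ Nat.card G) (hmπ : ∀ q : ℕ, q.Prime → q ∣ m → q ∈ π)
    (hm' : ∀ q ∈ π, ¬ q ∣ Nat.card G / m) :
    Nat.card {C : ConjClasses G // ∀ q : ℕ, q.Prime → (∃ g : G, ConjClasses.mk g = C ∧ q ∣ orderOf g) → q ∈ π} ≤ m := by
  classical
  have hG0 : Nat.card G ≠ 0 := Nat.card_pos.ne'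
  have hm0 : m ≠ 0 := fun h0 => hG0 (by rw [h0] at hm; exact zero_dvd_iff.mp hm)
  set S : Finset ℕ := (Nat.card G).primeFactors.filter (· ∈ π) with hS
  have hSprime : ∀ p ∈ S, p.Prime := fun p hp => hπ p (Finset.mem_filter.mp hp).2
  have h1 : Nat.card {C : ConjClasses G // ∀ q : ℕ, q.Prime →
      (∃ g : G, ConjClasses.mk g = C ∧ q ∣ orderOf g) → q ∈ π} ≤ Nat.card (Cls G S) := by
    refine Nat.card_le_card_of_injective (fun C => ⟨C.1, ?_⟩) ?_
    · obtain ⟨g, hg⟩ := ConjClasses.exists_rep C.1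
      refine ⟨g, hg, ?_⟩
      intro q hq hqd
      rw [hS, Finset.mem_filter, Nat.mem_primeFactors]
      exact ⟨⟨hq, hqd.trans (orderOf_dvd_natCard g), hG0⟩, C.2 q hq ⟨g, hg, hqd⟩⟩
    · intro a b h
      apply Subtype.ext
      exact congrArg (fun z : Cls G S => (z.1 : ConjClasses G)) h
  refine h1.trans ((key S hSprime G).trans ?_)
  -- B S |G| ≤ m
  apply Nat.le_of_dvd (Nat.pos_of_ne_zero hm0)
  have hGm : Nat.card G = m * (Nat.card G / m) := (Nat.mul_div_cancel' hm).symm
  have hq0 : Nat.card G / m ≠ 0 := fun h0 => hG0 (by rw [hGm, h0, mul_zero])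
  have hfac : ∀ p ∈ S, (Nat.card G).factorization p = m.factorization p := by
    intro p hp
    have hpπ : p ∈ π := (Finset.mem_filter.mp hp).2
    rw [hGm, Nat.factorization_mul hm0 hq0, Finsupp.add_apply,
      Nat.factorization_eq_zero_of_not_dvd (hm' p hpπ), add_zero]
  have hsub : S ⊆ m.primeFactors := by
    intro p hp
    have hpπ : p ∈ π := (Finset.mem_filter.mp hp).2
    have hpG : p ∣ Nat.card G := (Nat.mem_primeFactors.mp (Finset.mem_filter.mp hp).1).2.1
    rw [Nat.mem_primeFactors]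
    refine ⟨hπ p hpπ, ?_, hm0⟩
    rw [hGm] at hpG
    rcases ((hπ p hpπ).dvd_mul).mp hpG with h | h
    · exact h
    · exact absurd h (hm' p hpπ)
  have hB : B S (Nat.card G) = ∏ p ∈ S, p ^ m.factorization p := by
    unfold B
    exact Finset.prod_congr rfl (fun p hp => by rw [hfac p hp])
  rw [hB]
  have hmprod : m = ∏ p ∈ m.primeFactors, p ^ m.factorization p := by
    conv_lhs => rw [← Nat.prod_factorization_pow_eq_self hm0]
    rw [Finsupp.prod, Nat.support_factorization]
  conv_rhs => rw [hmprod]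
  exact Finset.prod_dvd_prod_of_subset S m.primeFactors _ hsub

end Cfsg.Agent.S4106
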