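import Mathlib
import Cfsg.Statements.S4145
import Cfsg.Agent.S3918
import Cfsg.Agent.S4106
import Cfsg.Agent.Lib.Lead.PComplement
import Cfsg.Agent.Lib.Lead.TateE
import Cfsg.Agent.Lib.Lead.FrobNPC5
import Cfsg.Agent.Lib.Lead.CoprimeSylow4
import Cfsg.Agent.Lib.Helper7.PElements

set_option autoImplicit false
open Cfsg

namespace Cfsg.Agent.S4145

open Cfsg.Agent.Lib.Helper7 Cfsg.Agent.Lib.Lead

universe u

/-- A `p'`-element normalising a cyclic `p`-group either centralises it, or acts without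
nontrivial fixed points and with surjective commutator map. -/
theorem cyclic_dichotomy {G : Type*} [Group G] [Finite G] (p : ℕ) [Fact p.Prime]
    (P : Subgroup G) (hP : IsPGroup p P) (hcyc : IsCyclic P) (y : G)
    (hy : ∀ u ∈ P, y * u * y⁻¹ ∈ P) (hyo : Nat.Coprime (orderOf y) p) :
    (∀ u ∈ P, y * u * y⁻¹ = u) ∨
      ((∀ u ∈ P, y * u * y⁻¹ = u → u = 1) ∧ (∀ w ∈ P, ∃ u ∈ P, w = y * u * y⁻¹ * u⁻¹)) := by
  have hpp : p.Prime := Fact.out
  have hcomm : ∀ a ∈ P, ∀ b ∈ P, a * b = b * a := by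
    intro a ha b hb
    have := (IsCyclic.commGroup (α := P)).mul_comm ⟨a, ha⟩ ⟨b, hb⟩
    exact congrArg Subtype.val this
  let τ : P →* P :=
    { toFun := fun u => ⟨y * u * y⁻¹ * (u : G)⁻¹, P.mul_mem (hy u u.2) (P.inv_mem u.2)⟩
      map_one' := by
        apply Subtype.ext
        simp
      map_mul' := fun a b => by
        apply Subtype.ext
        show y * ((a : G) * b) * y⁻¹ * ((a : G) * b)⁻¹ =
          (y * a * y⁻¹ * (a : G)⁻¹) * (y * b * y⁻¹ * (b : G)⁻¹)
        have h1 : (a : G)⁻¹ * (y * b * y⁻¹ * (b : G)⁻¹) = (y * b * y⁻¹ * (b : G)⁻¹) * (a : G)⁻¹ :=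
          hcomm _ (P.inv_mem a.2) _ (P.mul_mem (hy b b.2) (P.inv_mem b.2))
        calc y * ((a : G) * b) * y⁻¹ * ((a : G) * b)⁻¹
            = (y * a * y⁻¹) * ((y * b * y⁻¹ * (b : G)⁻¹) * (a : G)⁻¹) := by group
          _ = (y * a * y⁻¹) * ((a : G)⁻¹ * (y * b * y⁻¹ * (b : G)⁻¹)) := by rw [h1]
          _ = _ := by group }
  have hτ : ∀ u : P, ((τ u : P) : G) = y * u * y⁻¹ * (u : G)⁻¹ := fun u => rfl
  -- key computation
  have key : ∀ u w : G, y * u * y⁻¹ = w * u → y * w * y⁻¹ = w → w ^ orderOf y = 1 := by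
    intro u w h1 h2
    have h3 : ∀ i : ℕ, y ^ i * u * (y ^ i)⁻¹ = w ^ i * u := by
      intro i
      induction i with
      | zero => simp
      | succ i ih =>
        have hw : y * w ^ i * y⁻¹ = w ^ i := by
          have := conj_pow (a := y) (b := w) (i := i)
          rw [h2] at this
          exact this.symm
        calc y ^ (i + 1) * u * (y ^ (i + 1))⁻¹ = y * (y ^ i * u * (y ^ i)⁻¹) * y⁻¹ := by
              rw [pow_succ']; group
          _ = y * (w ^ i * u) * y⁻¹ := by rw [ih]
          _ = (y * w ^ i * y⁻¹) * (y * u * y⁻¹) := by group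
          _ = w ^ i * (w * u) := by rw [hw, h1]
          _ = w ^ (i + 1) * u := by rw [pow_succ]; group
    have h4 := h3 (orderOf y)
    rw [pow_orderOf_eq_one] at h4
    simp only [one_mul, inv_one, mul_one] at h4
    have : w ^ orderOf y * u = 1 * u := by rw [one_mul]; exact h4.symm
    exact mul_right_cancel this
  have hCI : τ.ker ⊓ τ.range = ⊥ := by
    rw [eq_bot_iff]
    rintro w ⟨hwk, ⟨u, hu⟩⟩
    rw [Subgroup.mem_bot]
    have h1 : y * (u : G) * y⁻¹ = (w : G) * u := by
      have := congrArg Subtype.val hu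
      rw [hτ] at this
      rw [← this]; group
    have h2 : y * (w : G) * y⁻¹ = w := by
      have := congrArg Subtype.val (MonoidHom.mem_ker.mp hwk)
      rw [hτ] at this
      have h : y * (w : G) * y⁻¹ * (w : G)⁻¹ = 1 := this
      calc y * (w : G) * y⁻¹ = (y * (w : G) * y⁻¹ * (w : G)⁻¹) * w := by group
        _ = w := by rw [h, one_mul]
    have h3 := key u w h1 h2
    obtain ⟨k, hk⟩ := (IsPGroup.iff_orderOf.mp hP) w
    have h4 : orderOf (w : G) ∣ orderOf y := orderOf_dvd_of_pow_eq_one h3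
    rw [Subgroup.orderOf_coe, hk] at h4
    have h5 : p ^ k ∣ 1 := by
      have := Nat.dvd_gcd h4 (dvd_refl (p ^ k))
      rwa [Nat.Coprime.pow_right k hyo] at this
    have h6 : orderOf w = 1 := by rw [hk]; exact Nat.dvd_one.mp h5
    exact orderOf_eq_one_iff.mp h6
  by_cases hI : τ.range = ⊥
  · left
    intro u hu
    have : τ ⟨u, hu⟩ ∈ τ.range := ⟨_, rfl⟩
    rw [hI, Subgroup.mem_bot] at this
    have h := congrArg Subtype.val this
    rw [hτ] at h
    have h' : y * u * y⁻¹ * u⁻¹ = 1 := h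
    calc y * u * y⁻¹ = (y * u * y⁻¹ * u⁻¹) * u := by group
      _ = u := by rw [h', one_mul]
  · by_cases hC : τ.ker = ⊥
    · right
      have hinj : Function.Injective τ := (MonoidHom.ker_eq_bot_iff τ).mp hC
      have hsurj : Function.Surjective τ := Finite.injective_iff_surjective.mp hinj
      constructor
      · intro u hu hfix
        have : (⟨u, hu⟩ : P) ∈ τ.ker := by
          rw [MonoidHom.mem_ker]
          apply Subtype.ext
          rw [hτ]
          show y * u * y⁻¹ * u⁻¹ = 1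
          rw [hfix, mul_inv_cancel]
        rw [hC, Subgroup.mem_bot] at this
        exact congrArg Subtype.val this
      · intro w hw
        obtain ⟨u, hu⟩ := hsurj ⟨w, hw⟩
        refine ⟨u, u.2, ?_⟩
        have := congrArg Subtype.val hu
        rw [hτ] at this
        exact this.symm
    · exfalso
      -- two distinct subgroups of order p
      have hkerP : IsPGroup p τ.ker := hP.to_subgroup _
      have hranP : IsPGroup p τ.range := hP.to_subgroup _
      have hex : ∀ S : Subgroup P, IsPGroup p S → S ≠ ⊥ → ∃ x : P, x ∈ S ∧ orderOf x = p := by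
        intro S hS hSne
        obtain ⟨k, hk⟩ := (IsPGroup.iff_card).mp hS
        have hk0 : k ≠ 0 := by
          rintro rfl
          rw [pow_zero] at hk
          exact hSne (Subgroup.card_eq_one.mp hk)
        have hdvd : p ∣ Nat.card S := by rw [hk]; exact dvd_pow_self p hk0
        obtain ⟨x, hx⟩ := exists_prime_orderOf_dvd_card' p hdvd
        exact ⟨x, x.2, by rw [← hx, Subgroup.orderOf_coe]⟩
      obtain ⟨c, hcK, hco⟩ := hex τ.ker hkerP hC
      obtain ⟨w, hwR, hwo⟩ := hex τ.range hranP hI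
      have hne : Subgroup.zpowers ((c : P) : G) ≠ Subgroup.zpowers ((w : P) : G) := by
        intro h
        have h1 : ((c : P) : G) ∈ Subgroup.zpowers ((w : P) : G) := h ▸ Subgroup.mem_zpowers _
        obtain ⟨j, hj⟩ := Subgroup.mem_zpowers_iff.mp h1
        have h2 : c = w ^ j := by
          apply Subtype.ext
          rw [← hj]; simp
        have h3 : c ∈ τ.ker ⊓ τ.range := ⟨hcK, h2 ▸ Subgroup.zpow_mem _ hwR j⟩
        rw [hCI, Subgroup.mem_bot] at h3
        rw [h3, orderOf_one] at hco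
        exact hpp.one_lt.ne hco
      refine Cfsg.Agent.S3918.not_isCyclic_of_two p P _ _ ?_ ?_ ?_ ?_ hne hcyc
      · rw [Subgroup.zpowers_le]; exact c.2
      · rw [Subgroup.zpowers_le]; exact w.2
      · rw [Nat.card_zpowers, Subgroup.orderOf_coe, hco]
      · rw [Nat.card_zpowers, Subgroup.orderOf_coe, hwo]


/-- a `p`-element normalising a Sylow `p`-subgroup lies in it -/
theorem mem_sylow_of_normalizer {X : Type*} [Group X] [Finite X] (p : ℕ) [Fact p.Prime]
    (S : Sylow p X) (x : X) (hx : ∃ k : ℕ, orderOf x = p ^ k)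
    (hn : x ∈ Subgroup.normalizer (S : Set X)) : x ∈ (S : Subgroup X) := by
  have h1 : IsPGroup p (Subgroup.zpowers x) := isPGroup_zpowers_of_isPElt hx
  have h2 : Subgroup.zpowers x ≤ Subgroup.normalizer ((S : Subgroup X) : Set X) := by
    rw [Subgroup.zpowers_le]; exact hn
  have h3 : IsPGroup p (Subgroup.zpowers x ⊔ (S : Subgroup X) : Subgroup X) :=
    IsPGroup.to_sup_of_normal_right' h1 S.2 h2
  have h4 : (Subgroup.zpowers x ⊔ (S : Subgroup X) : Subgroup X) = S :=
    S.is_maximal' h3 le_sup_right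
  rw [← h4]
  exact (le_sup_left : Subgroup.zpowers x ≤ _) (Subgroup.mem_zpowers x)

/-- `p'`-elements lie in a normal `p`-complement -/
theorem mem_of_coprime_of_complement {X : Type*} [Group X] [Finite X] (p : ℕ) [Fact p.Prime]
    (S : Sylow p X) (M : Subgroup X) [M.Normal] (hc : Subgroup.IsComplement' M (S : Subgroup X))
    (x : X) (hx : Nat.Coprime (orderOf x) p) : x ∈ M := by
  have h1 : M.index = Nat.card (S : Subgroup X) := hc.symm.index_eq_card
  obtain ⟨k, hk⟩ := (IsPGroup.iff_card).mp S.2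
  have h2 : x ^ M.index ∈ M := Subgroup.pow_index_mem M x
  have h3 : Nat.Coprime M.index (orderOf x) := by
    rw [h1, hk]; exact (Nat.Coprime.pow_right k hx).symm
  obtain ⟨m, hm⟩ := exists_pow_eq_self_of_coprime h3
  rw [← hm]
  exact M.pow_mem h2 m

theorem card_coprime_of_complement {X : Type*} [Group X] [Finite X] (p : ℕ) [Fact p.Prime]
    (S : Sylow p X) (M : Subgroup X) (hc : Subgroup.IsComplement' M (S : Subgroup X)) :
    Nat.Coprime (Nat.card M) p := by
  rw [← hc.index_eq_card]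
  exact ((Nat.Prime.coprime_iff_not_dvd Fact.out).mpr S.not_dvd_index).symm

/-- Burnside hypothesis from a condition on `p'`-elements, for a cyclic Sylow subgroup -/
theorem normalizer_le_centralizer {X : Type*} [Group X] [Finite X] (p : ℕ) [Fact p.Prime]
    (S : Sylow p X) (hcyc : IsCyclic (S : Subgroup X))
    (hkey : ∀ y : X, y ∈ Subgroup.normalizer (S : Set X) → Nat.Coprime (orderOf y) p →
      ∀ u ∈ (S : Subgroup X), y * u * y⁻¹ = u) :
    Subgroup.normalizer (S : Set X) ≤ Subgroup.centralizer (S : Set X) := by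
  intro x hx
  obtain ⟨i, j, hij, hpi, hpj, _⟩ := Cfsg.Agent.S4106.decomp p x
  have hN := Subgroup.normalizer ((S : Subgroup X) : Set X)
  have hxi : x ^ i ∈ Subgroup.normalizer (S : Set X) := Subgroup.zpow_mem _ hx i
  have hxj : x ^ j ∈ Subgroup.normalizer (S : Set X) := Subgroup.zpow_mem _ hx j
  have hxiS : x ^ i ∈ (S : Subgroup X) := mem_sylow_of_normalizer p S _ hpi hxi
  have hcop : Nat.Coprime (orderOf (x ^ j)) p :=
    ((Nat.Prime.coprime_iff_not_dvd Fact.out).mpr hpj).symm
  rw [Subgroup.mem_centralizer_iff]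
  intro u hu
  have h1 : x ^ j * u * (x ^ j)⁻¹ = u := hkey _ hxj hcop u hu
  have h2 : x ^ i * u = u * x ^ i := by
    have := (IsCyclic.commGroup (α := (S : Subgroup X))).mul_comm ⟨x ^ i, hxiS⟩ ⟨u, hu⟩
    exact congrArg Subtype.val this
  have h3 : x ^ j * u = u * x ^ j := by
    calc x ^ j * u = (x ^ j * u * (x ^ j)⁻¹) * x ^ j := by group
      _ = u * x ^ j := by rw [h1]
  rw [hij]
  calc u * (x ^ i * x ^ j) = (u * x ^ i) * x ^ j := by group
    _ = (x ^ i * u) * x ^ j := by rw [h2]
    _ = x ^ i * (u * x ^ j) := by group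
    _ = x ^ i * (x ^ j * u) := by rw [h3]
    _ = _ := by group


/-- Burnside inside a subgroup `X ≥ P` -/
theorem npc_sub {G : Type u} [Group G] [Finite G] (p : ℕ) [Fact p.Prime] (P : Sylow p G)
    (hP : IsCyclic (P : Subgroup G)) (X : Subgroup G) (hPX : (P : Subgroup G) ≤ X)
    (hkey : ∀ y ∈ X, (∀ u ∈ (P : Subgroup G), y * u * y⁻¹ ∈ (P : Subgroup G)) →
      Nat.Coprime (orderOf y) p → ∀ u ∈ (P : Subgroup G), y * u * y⁻¹ = u) :
    Cfsg.HasNormalPComplement p ↥X := by
  set PX : Sylow p X := P.subtype hPX with hPXdef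
  have hcoe : (PX : Subgroup X) = (P : Subgroup G).subgroupOf X := Sylow.coe_subtype _ _
  have hcyc : IsCyclic (PX : Subgroup X) := by
    rw [hcoe]
    have e := Subgroup.subgroupOfEquivOfLe hPX
    haveI := hP
    exact isCyclic_of_surjective e.symm e.symm.surjective
  apply hasNormalPComplement_of_normalizer_le_centralizer PX
  apply normalizer_le_centralizer p PX hcyc
  intro y hyN hyo u hu
  have hu' : (u : G) ∈ (P : Subgroup G) := by
    rw [hcoe, Subgroup.mem_subgroupOf] at hu; exact hu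
  have hnorm : ∀ v ∈ (P : Subgroup G), (y : G) * v * (y : G)⁻¹ ∈ (P : Subgroup G) := by
    intro v hv
    have h1 : (⟨v, hPX hv⟩ : X) ∈ (PX : Subgroup X) := by
      rw [hcoe, Subgroup.mem_subgroupOf]; exact hv
    have h2 := (Subgroup.mem_normalizer_iff.mp hyN ⟨v, hPX hv⟩).mp h1
    rw [hcoe, Subgroup.mem_subgroupOf] at h2
    exact h2
  have h3 := hkey (y : G) y.2 hnorm (by rw [Subgroup.orderOf_coe]; exact hyo) (u : G) hu'
  apply Subtype.ext
  exact h3


/-- the image of a normal `p`-complement of a normal subgroup is normal in the big group -/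
theorem map_normal_of_complement {G : Type u} [Group G] [Finite G] (p : ℕ) [Fact p.Prime]
    (X : Subgroup G) [X.Normal] (S : Sylow p X) (M' : Subgroup X) [M'.Normal]
    (hc : Subgroup.IsComplement' M' (S : Subgroup X)) : (M'.map X.subtype).Normal := by
  constructor
  intro m hm g
  obtain ⟨m', hm', rfl⟩ := hm
  have hmem : g * (m' : G) * g⁻¹ ∈ X := Subgroup.Normal.conj_mem inferInstance _ m'.2 g
  refine ⟨⟨g * (m' : G) * g⁻¹, hmem⟩, ?_, rfl⟩
  apply mem_of_coprime_of_complement p S M' hc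
  have h1 : orderOf (⟨g * (m' : G) * g⁻¹, hmem⟩ : X) = orderOf m' := by
    rw [← Subgroup.orderOf_coe, ← Subgroup.orderOf_coe m']
    have := (MulAut.conj g).orderOf_eq (m' : G)
    rwa [MulAut.conj_apply] at this
  rw [h1]
  have h2 : orderOf m' ∣ Nat.card M' := by
    have := orderOf_dvd_natCard (⟨m', hm'⟩ : M')
    rwa [← Subgroup.orderOf_coe] at this
  exact Nat.Coprime.coprime_dvd_left h2 (card_coprime_of_complement p S M' hc)

theorem result {G : Type*} [Group G] [Finite G] (p : ℕ) [Fact p.Prime]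
    (P : Sylow p G) (hP : IsCyclic (P : Subgroup G)) (H : Subgroup G) [H.Normal] (h1 : p ∣ Nat.card H) (h2 : p ∣ H.index) :
    Cfsg.HasNormalPComplement p H ∧ Cfsg.IsPSolvable p G := by
  have hpp : p.Prime := Fact.out
  have hPp : IsPGroup p (P : Subgroup G) := P.2
  -- P is not inside H
  have hPH : ¬ (P : Subgroup G) ≤ H := by
    intro hle
    exact P.not_dvd_index (h2.trans (Subgroup.index_dvd_of_le hle))
  -- a nontrivial element of P ⊓ H
  have hu₀ : ∃ u₀ : G, u₀ ∈ (P : Subgroup G) ∧ u₀ ∈ H ∧ u₀ ≠ 1 := by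
    obtain ⟨x, hx⟩ := exists_prime_orderOf_dvd_card' p h1
    have hx' : ∃ k : ℕ, orderOf (x : G) = p ^ k := ⟨1, by rw [Subgroup.orderOf_coe, hx, pow_one]⟩
    obtain ⟨R, hR⟩ := (isPElt_iff_mem_sylow (x : G)).mp hx'
    obtain ⟨g, hg⟩ := MulAction.exists_smul_eq G R P
    refine ⟨g * x * g⁻¹, ?_, ?_, ?_⟩
    · rw [← hg, Sylow.coe_subgroup_smul, Subgroup.mem_pointwise_smul_iff_inv_smul_mem]
      simp only [MulAut.smul_def, MulAut.conj_inv_apply]
      convert hR using 1
      group
    · exact Subgroup.Normal.conj_mem inferInstance _ x.2 g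
    · intro h
      have : (x : G) = 1 := by
        calc (x : G) = g⁻¹ * (g * x * g⁻¹) * g := by group
          _ = 1 := by rw [h]; group
      rw [← orderOf_eq_one_iff, Subgroup.orderOf_coe, hx] at this
      exact hpp.one_lt.ne' this
  obtain ⟨u₀, hu₀P, hu₀H, hu₀1⟩ := hu₀
  -- Part 1
  have hL : Cfsg.HasNormalPComplement p ↥(H ⊔ (P : Subgroup G)) := by
    apply npc_sub p P hP _ le_sup_right
    intro y hyL hyN hyo
    -- y ∈ H
    have hyH : y ∈ H := by
      obtain ⟨h, hh, u, hu, rfl⟩ := Subgroup.mem_sup_of_normal_left.mp hyL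
      refine H.mul_mem hh ?_
      obtain ⟨k, hk⟩ := hPp ⟨u, hu⟩
      have hk' : u ^ p ^ k = 1 := congrArg Subtype.val hk
      rw [← QuotientGroup.eq_one_iff]
      have e1 : ((h * u : G) : G ⧸ H) = (u : G ⧸ H) := by
        rw [QuotientGroup.mk_mul, (QuotientGroup.eq_one_iff h).mpr hh, one_mul]
      have e2 : (u : G ⧸ H) ^ orderOf (h * u) = 1 := by
        rw [← e1, ← QuotientGroup.mk_pow, pow_orderOf_eq_one, QuotientGroup.mk_one]
      have e3 : (u : G ⧸ H) ^ p ^ k = 1 := by
        rw [← QuotientGroup.mk_pow, hk', QuotientGroup.mk_one]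
      have e4 : orderOf (u : G ⧸ H) ∣ Nat.gcd (orderOf (h * u)) (p ^ k) :=
        Nat.dvd_gcd (orderOf_dvd_of_pow_eq_one e2) (orderOf_dvd_of_pow_eq_one e3)
      rw [Nat.Coprime.pow_right k hyo] at e4
      exact orderOf_eq_one_iff.mp (Nat.dvd_one.mp e4)
    rcases cyclic_dichotomy p (P : Subgroup G) hPp hP y hyN hyo with h | ⟨_, h⟩
    · exact h
    · exfalso
      apply hPH
      intro w hw
      obtain ⟨u, hu, rfl⟩ := h w hw
      have : y * u * y⁻¹ * u⁻¹ = y * (u * y⁻¹ * u⁻¹) := by group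
      rw [this]
      exact H.mul_mem hyH (Subgroup.Normal.conj_mem inferInstance _ (H.inv_mem hyH) u)
  have hH : Cfsg.HasNormalPComplement p ↥H := by
    rw [hasNormalPComplement_iff_plocalCentral] at hL ⊢
    exact PLocalCentral.of_injective (Subgroup.inclusion (le_sup_left : H ≤ H ⊔ (P : Subgroup G)))
      (Subgroup.inclusion_injective _) hL
  refine ⟨hH, ?_⟩
  -- Part 2
  obtain ⟨Q', M', hM'n, hM'c⟩ := hH
  haveI := hM'n
  set M : Subgroup G := M'.map H.subtype with hM
  haveI hMn : M.Normal := map_normal_of_complement p H Q' M' hM'c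
  have hMcop : Nat.Coprime (Nat.card M) p := by
    have : Nat.card M = Nat.card M' :=
      Nat.card_congr (M'.equivMapOfInjective H.subtype H.subtype_injective).toEquiv.symm
    rw [this]
    exact card_coprime_of_complement p Q' M' hM'c
  have hPM : (P : Subgroup G) ⊓ M = ⊥ := by
    rw [eq_bot_iff]
    rintro x ⟨hxP, hxM⟩
    rw [Subgroup.mem_bot]
    obtain ⟨k, hk⟩ := (IsPGroup.iff_orderOf.mp hPp) ⟨x, hxP⟩
    rw [← Subgroup.orderOf_coe] at hk
    have h3 : orderOf x ∣ Nat.card M := by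
      have := orderOf_dvd_natCard (⟨x, hxM⟩ : M)
      rwa [← Subgroup.orderOf_coe] at this
    have h4 : orderOf x ∣ Nat.gcd (Nat.card M) (p ^ k) :=
      Nat.dvd_gcd h3 (by rw [← hk])
    rw [Nat.Coprime.pow_right k hMcop] at h4
    exact orderOf_eq_one_iff.mp (Nat.dvd_one.mp h4)
  set f := QuotientGroup.mk' M with hf
  have hfs : Function.Surjective f := QuotientGroup.mk'_surjective M
  set Hb : Subgroup (G ⧸ M) := H.map f with hHb
  haveI hHbn : Hb.Normal := Subgroup.Normal.map inferInstance f hfs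
  have hHbp : IsPGroup p Hb := by
    rintro ⟨x, h, hh, rfl⟩
    obtain ⟨k, hk⟩ := (IsPGroup.iff_card).mp Q'.2
    have hidx : M'.index = p ^ k := by rw [← hk]; exact hM'c.symm.index_eq_card
    have h3 : (⟨h, hh⟩ : H) ^ M'.index ∈ M' := Subgroup.pow_index_mem M' _
    refine ⟨k, Subtype.ext ?_⟩
    show (f h) ^ p ^ k = 1
    rw [← map_pow, hf, QuotientGroup.mk'_apply, QuotientGroup.eq_one_iff, ← hidx]
    exact ⟨_, h3, by simp⟩
  set C : Subgroup G := (Subgroup.centralizer (Hb : Set (G ⧸ M))).comap f with hC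
  haveI hCn : C.Normal := inferInstance
  have hmemC : ∀ g : G, g ∈ C ↔ ∀ h ∈ H, f h * f g = f g * f h := by
    intro g
    rw [hC, Subgroup.mem_comap, Subgroup.mem_centralizer_iff]
    constructor
    · intro hg h hh
      exact hg (f h) ⟨h, hh, rfl⟩
    · rintro hg x ⟨h, hh, rfl⟩
      exact hg h hh
  -- P ≤ C
  have hPC : (P : Subgroup G) ≤ C := by
    set PM : Sylow p (G ⧸ M) := P.mapSurjective hfs with hPMdef
    have hle : Hb ≤ PM := normal_pgroup_le_sylow p Hb hHbp PM
    have hcoe : (PM : Subgroup (G ⧸ M)) = (P : Subgroup G).map f := Sylow.coe_mapSurjective _ _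
    intro u hu
    rw [hmemC]
    intro h hh
    have h3 : f h ∈ (P : Subgroup G).map f := by
      rw [← hcoe]; exact hle ⟨h, hh, rfl⟩
    obtain ⟨v, hv, hvh⟩ := h3
    rw [← hvh, ← map_mul, ← map_mul]
    have := (IsCyclic.commGroup (α := (P : Subgroup G))).mul_comm ⟨v, hv⟩ ⟨u, hu⟩
    rw [show v * u = u * v from congrArg Subtype.val this]
  have hCnpc : Cfsg.HasNormalPComplement p ↥C := by
    apply npc_sub p P hP C hPC
    intro y hyC hyN hyo
    rcases cyclic_dichotomy p (P : Subgroup G) hPp hP y hyN hyo with h | ⟨h, _⟩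
    · exact h
    · exfalso
      apply hu₀1
      apply h u₀ hu₀P
      have h3M : y * u₀ * y⁻¹ * u₀⁻¹ ∈ M := by
        rw [← QuotientGroup.eq_one_iff]
        have h4 := (hmemC y).mp hyC u₀ hu₀H
        show f (y * u₀ * y⁻¹ * u₀⁻¹) = 1
        rw [map_mul, map_mul, map_mul, map_inv, map_inv, ← h4]
        group
      have h3 : y * u₀ * y⁻¹ * u₀⁻¹ ∈ (P : Subgroup G) ⊓ M :=
        Subgroup.mem_inf.mpr
          ⟨Subgroup.mul_mem _ (hyN u₀ hu₀P) (Subgroup.inv_mem _ hu₀P), h3M⟩
      rw [hPM, Subgroup.mem_bot] at h3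
      calc y * u₀ * y⁻¹ = (y * u₀ * y⁻¹ * u₀⁻¹) * u₀ := by group
        _ = u₀ := by rw [h3, one_mul]
  obtain ⟨P', T', hT'n, hT'c⟩ := hCnpc
  haveI := hT'n
  set T : Subgroup G := T'.map C.subtype with hT
  haveI hTn : T.Normal := map_normal_of_complement p C P' T' hT'c
  have hTcard : Nat.card T = Nat.card T' :=
    Nat.card_congr (T'.equivMapOfInjective C.subtype C.subtype_injective).toEquiv.symm
  have hTcop : Nat.Coprime (Nat.card T) p := by
    rw [hTcard]
    exact card_coprime_of_complement p P' T' hT'c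
  have hTC : T ≤ C := Subgroup.map_subtype_le T'
  have hTrel : ∃ m : ℕ, T.relIndex C = p ^ m := by
    obtain ⟨k, hk⟩ := (IsPGroup.iff_card).mp P'.2
    refine ⟨k, ?_⟩
    rw [← hk, ← hT'c.symm.index_eq_card, Subgroup.relIndex, hT]
    congr 1
    ext x
    simp [Subgroup.mem_subgroupOf]
  have hCidx : Nat.Coprime C.index p := by
    have h3 : C.index ∣ (P : Subgroup G).index := Subgroup.index_dvd_of_le hPC
    exact (Nat.Coprime.coprime_dvd_left h3
      ((Nat.Prime.coprime_iff_not_dvd hpp).mpr P.not_dvd_index).symm)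
  -- the series
  refine ⟨3, ![⊥, T, C, ⊤], rfl, rfl, ?_, ?_, ?_⟩
  · intro i j hij
    fin_cases i <;> fin_cases j <;> simp at hij ⊢ <;> first | exact hTC | exact le_rfl | omega | skip
    all_goals (first | exact bot_le | exact le_top | exact hTC | exact absurd hij (by decide))
  · intro i
    fin_cases i
    · exact (inferInstance : (⊥ : Subgroup G).Normal)
    · exact hTn
    · exact hCn
    · exact (inferInstance : (⊤ : Subgroup G).Normal)
  · intro i
    fin_cases i
    · right
      show ((⊥ : Subgroup G).relIndex T).Coprime p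
      rw [Subgroup.relIndex_bot_left]
      exact hTcop
    · left
      exact hTrel
    · right
      show (C.relIndex ⊤).Coprime p
      rw [Subgroup.relIndex_top_right]
      exact hCidx

end Cfsg.Agent.S4145
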