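import Mathlib
import Cfsg.Statements.S3838
import Cfsg.Agent.S4145
import Cfsg.Agent.Lib.Lead.TateE
import Cfsg.Agent.Lib.Lead.FrobNPC5
import Cfsg.Agent.Lib.Lead.MaxClass5
import Cfsg.Agent.Lib.Helper4.NPC

set_option autoImplicit false
open Cfsg

namespace Cfsg.Agent.S3838

open Cfsg.Agent.Lib.Lead Cfsg.Agent.Lib.Helper4
open scoped commutatorElement

universe u

theorem frattini_transport {G : Type*} [Group G] (M P : Subgroup G) (hPM : P ≤ M) (r : M)
    (hr : (r : G) ∈ (frattini ↥P).map P.subtype) :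
    r ∈ (frattini ↥(P.subgroupOf M)).map (P.subgroupOf M).subtype := by
  obtain ⟨y, hy, hyr⟩ := hr
  set e := Subgroup.subgroupOfEquivOfLe hPM with he
  have h1 : e.symm y ∈ frattini ↥(P.subgroupOf M) := by
    apply map_frattini_le e.symm.toMonoidHom e.symm.surjective
    exact ⟨y, hy, rfl⟩
  refine ⟨e.symm y, h1, ?_⟩
  apply Subtype.ext
  have h2 : ((e (e.symm y) : P) : G) = (y : G) := by rw [MulEquiv.apply_symm_apply]
  have h3 : ((e (e.symm y) : P) : G) = (((e.symm y : P.subgroupOf M) : M) : G) := rfl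
  show (((e.symm y : P.subgroupOf M) : M) : G) = (r : G)
  rw [← h3, h2]
  exact hyr

/-- structure of a `p`-nilpotent Sylow normaliser -/
theorem normalizer_decomp {G : Type u} [Group G] [Finite G] {p : ℕ} [Fact p.Prime] (P : Sylow p G)
    (hN : Cfsg.HasNormalPComplement p ↥(Subgroup.normalizer ((P : Subgroup G) : Set G)))
    (x : G) (hx : x ∈ Subgroup.normalizer ((P : Subgroup G) : Set G)) :
    ∃ u k : G, x = u * k ∧ u ∈ (P : Subgroup G) ∧ ∀ v ∈ (P : Subgroup G), k * v * k⁻¹ = v := by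
  obtain ⟨i, j, hij, hpi, hpj, _⟩ := Cfsg.Agent.S4106.decomp p x
  refine ⟨x ^ i, x ^ j, hij, ?_, ?_⟩
  · exact Cfsg.Agent.S4145.mem_sylow_of_normalizer p P _ hpi (Subgroup.zpow_mem _ hx i)
  · have hloc := (hasNormalPComplement_iff_plocalCentral.mp hN)
    set N := Subgroup.normalizer ((P : Subgroup G) : Set G) with hNdef
    have hPN : (P : Subgroup G) ≤ N := Subgroup.le_normalizer
    set D : Subgroup N := (P : Subgroup G).subgroupOf N with hD
    have hDp : IsPGroup p D := by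
      have e := Subgroup.subgroupOfEquivOfLe hPN
      exact P.2.of_equiv e.symm
    have hkN : x ^ j ∈ N := Subgroup.zpow_mem _ hx j
    have hnorm : (⟨x ^ j, hkN⟩ : N) ∈ Subgroup.normalizer (D : Set N) := by
      haveI : D.Normal := Subgroup.normal_in_normalizer
      rw [Subgroup.normalizer_eq_top]
      exact Subgroup.mem_top _
    have hcop : Nat.Coprime (orderOf (⟨x ^ j, hkN⟩ : N)) p := by
      rw [← Subgroup.orderOf_coe]
      exact ((Nat.Prime.coprime_iff_not_dvd Fact.out).mpr hpj).symm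
    have hcent := hloc D hDp _ hnorm hcop
    rw [Subgroup.mem_centralizer_iff] at hcent
    intro v hv
    have hvD : (⟨v, hPN hv⟩ : N) ∈ D := by rw [hD, Subgroup.mem_subgroupOf]; exact hv
    have h3 := hcent ⟨v, hPN hv⟩ hvD
    have h4 : v * x ^ j = x ^ j * v := congrArg Subtype.val h3
    calc x ^ j * v * (x ^ j)⁻¹ = (v * x ^ j) * (x ^ j)⁻¹ := by rw [h4]
      _ = v := by group


theorem result {G : Type*} [Group G] [Finite G] {p : ℕ} [Fact p.Prime] (P : Sylow p G) (hN : Cfsg.HasNormalPComplement p ↥(Subgroup.normalizer ((P : Subgroup G) : Set G))) (Q : Subgroup G) (h1 : (commutator ↥(P : Subgroup G)).map (P : Subgroup G).subtype ≤ Q) (h2 : Q ≤ (frattini ↥(P : Subgroup G)).map (P : Subgroup G).subtype) : Cfsg.HasNormalPComplement p ↥(Subgroup.normalizer (Q : Set G)) := by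
  have hpp : p.Prime := Fact.out
  have hQP : Q ≤ (P : Subgroup G) := h2.trans (Subgroup.map_subtype_le _)
  -- commutators of elements of P lie in Q
  have hcomm : ∀ u ∈ (P : Subgroup G), ∀ v ∈ (P : Subgroup G), u * v * u⁻¹ * v⁻¹ ∈ Q := by
    intro u hu v hv
    apply h1
    refine ⟨⁅(⟨u, hu⟩ : (P : Subgroup G)), ⟨v, hv⟩⁆, ?_, ?_⟩
    · exact Subgroup.commutator_mem_commutator (Subgroup.mem_top _) (Subgroup.mem_top _)
    · simp [commutatorElement_def]
  set M : Subgroup G := Subgroup.normalizer (Q : Set G) with hM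
  have hPM : (P : Subgroup G) ≤ M := by
    intro u hu
    apply mem_normalizer_of_conj_mem
    intro q hq
    have : u * q * u⁻¹ = (u * q * u⁻¹ * q⁻¹) * q := by group
    rw [this]
    exact Q.mul_mem (hcomm u hu q (hQP hq)) hq
  set PM : Sylow p M := P.subtype hPM with hPMdef
  have hPMcoe : (PM : Subgroup M) = (P : Subgroup G).subgroupOf M := Sylow.coe_subtype _ _
  set QM : Subgroup M := Q.subgroupOf M with hQM
  haveI hQMn : QM.Normal := Subgroup.normal_in_normalizer
  set f := QuotientGroup.mk' QM with hf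
  have hfs : Function.Surjective f := QuotientGroup.mk'_surjective QM
  set Pb : Sylow p (M ⧸ QM) := PM.mapSurjective hfs with hPb
  have hPbcoe : (Pb : Subgroup (M ⧸ QM)) = (PM : Subgroup M).map f := Sylow.coe_mapSurjective _ _
  have hmemPM : ∀ x : M, x ∈ (PM : Subgroup M) ↔ (x : G) ∈ (P : Subgroup G) := by
    intro x; rw [hPMcoe, Subgroup.mem_subgroupOf]
  have hmemQM : ∀ x : M, x ∈ QM ↔ (x : G) ∈ Q := by
    intro x; rw [hQM, Subgroup.mem_subgroupOf]
  have hQMPM : QM ≤ (PM : Subgroup M) := by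
    intro x hx
    rw [hmemPM]; exact hQP ((hmemQM x).mp hx)
  -- Burnside hypothesis in the quotient
  have hB : Subgroup.normalizer ((Pb : Subgroup (M ⧸ QM)) : Set (M ⧸ QM)) ≤
      Subgroup.centralizer ((Pb : Subgroup (M ⧸ QM)) : Set (M ⧸ QM)) := by
    intro xb hxb
    obtain ⟨x, rfl⟩ := hfs xb
    -- x normalises P
    have hxP : (x : G) ∈ Subgroup.normalizer ((P : Subgroup G) : Set G) := by
      apply mem_normalizer_of_conj_mem
      intro v hv
      have hvM : v ∈ M := hPM hv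
      have h3 : f (⟨v, hvM⟩ : M) ∈ (Pb : Subgroup (M ⧸ QM)) := by
        rw [hPbcoe]; exact ⟨_, (hmemPM _).mpr hv, rfl⟩
      have h4 := (Subgroup.mem_normalizer_iff.mp hxb (f ⟨v, hvM⟩)).mp h3
      rw [hPbcoe] at h4
      obtain ⟨w, hw, hwf⟩ := h4
      have h5 : w⁻¹ * (x * ⟨v, hvM⟩ * x⁻¹) ∈ QM := by
        rw [← QuotientGroup.eq]
        show f w = f (x * ⟨v, hvM⟩ * x⁻¹)
        rw [hwf, map_mul, map_mul, map_inv]
      have h6 : x * ⟨v, hvM⟩ * x⁻¹ ∈ (PM : Subgroup M) := by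
        have : x * ⟨v, hvM⟩ * x⁻¹ = w * (w⁻¹ * (x * ⟨v, hvM⟩ * x⁻¹)) := by group
        rw [this]
        exact Subgroup.mul_mem _ hw (hQMPM h5)
      exact (hmemPM _).mp h6
    obtain ⟨u, k, hxuk, hu, hk⟩ := normalizer_decomp P hN (x : G) hxP
    rw [Subgroup.mem_centralizer_iff]
    rintro vb hvb
    rw [hPbcoe] at hvb
    obtain ⟨v, hv, rfl⟩ := hvb
    have hvP : (v : G) ∈ (P : Subgroup G) := (hmemPM v).mp hv
    -- x v x⁻¹ v⁻¹ ∈ Q
    have h3 : (x : G) * v * (x : G)⁻¹ * (v : G)⁻¹ ∈ Q := by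
      have : (x : G) * v * (x : G)⁻¹ * (v : G)⁻¹ = u * (k * v * k⁻¹) * u⁻¹ * (v : G)⁻¹ := by
        rw [hxuk]; group
      rw [this, hk v hvP]
      exact hcomm u hu v hvP
    have h4 : x * v * x⁻¹ * v⁻¹ ∈ QM := (hmemQM _).mpr h3
    have h5 : f (x * v * x⁻¹ * v⁻¹) = 1 := (QuotientGroup.eq_one_iff _).mpr h4
    rw [map_mul, map_mul, map_mul, map_inv, map_inv] at h5
    calc f v * f x = (f x * f v * (f x)⁻¹ * (f v)⁻¹)⁻¹ * (f x * f v) := by group
      _ = f x * f v := by rw [h5, inv_one, one_mul]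
  set Lb : Subgroup (M ⧸ QM) := (MonoidHom.transferSylow Pb hB).ker with hLb
  haveI hLbn : Lb.Normal := MonoidHom.normal_ker _
  have hLbc : Subgroup.IsComplement' Lb (Pb : Subgroup (M ⧸ QM)) :=
    MonoidHom.ker_transferSylow_isComplement' Pb hB
  set L : Subgroup M := Lb.comap f with hL
  haveI hLn : L.Normal := inferInstance
  have hLPM : L ⊓ (PM : Subgroup M) ≤ QM := by
    rintro r ⟨hrL, hrP⟩
    have h3 : f r ∈ Lb ⊓ (Pb : Subgroup (M ⧸ QM)) :=
      ⟨hrL, by rw [hPbcoe]; exact ⟨r, hrP, rfl⟩⟩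
    rw [disjoint_iff.mp hLbc.disjoint, Subgroup.mem_bot] at h3
    exact (QuotientGroup.eq_one_iff r).mp h3
  -- Tate
  have hTate : Cfsg.HasNormalPComplement p ↥L := by
    apply tate PM L
    intro r hr
    have hrQ : (r : G) ∈ Q := (hmemQM r).mp (hLPM hr)
    have h3 := frattini_transport M (P : Subgroup G) hPM r (h2 hrQ)
    exact h3
  obtain ⟨S, T', hT'n, hT'c⟩ := hTate
  haveI := hT'n
  set T : Subgroup M := T'.map L.subtype with hT
  haveI hTn : T.Normal := Cfsg.Agent.S4145.map_normal_of_complement p L S T' hT'c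
  have hTcard : Nat.card T = Nat.card T' :=
    Nat.card_congr (T'.equivMapOfInjective L.subtype L.subtype_injective).toEquiv.symm
  have hTcop : Nat.Coprime (Nat.card T) p := by
    rw [hTcard]
    exact Cfsg.Agent.S4145.card_coprime_of_complement p S T' hT'c
  have hTL : T ≤ L := Subgroup.map_subtype_le T'
  obtain ⟨a, ha⟩ := (IsPGroup.iff_card).mp Pb.2
  obtain ⟨b, hb⟩ := (IsPGroup.iff_card).mp S.2
  have hLidx : L.index = p ^ a := by
    rw [hL, Subgroup.index_comap_of_surjective _ hfs, ← ha]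
    exact hLbc.symm.index_eq_card
  have hTrel : T.relIndex L = p ^ b := by
    rw [← hb, ← hT'c.symm.index_eq_card, Subgroup.relIndex, hT]
    congr 1
    ext x
    simp [Subgroup.mem_subgroupOf]
  have hTidx : T.index = p ^ (b + a) := by
    rw [← Subgroup.relIndex_mul_index hTL, hTrel, hLidx, pow_add]
  exact hasNormalPComplement_of_normal_coprime T hTn hTcop (b + a) hTidx

end Cfsg.Agent.S3838
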