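import Mathlib
import Cfsg.Statements.S3857
import Cfsg.Agent.Lib.Helper7.GK3

set_option autoImplicit false
open Cfsg

namespace Cfsg.Agent.S3857

open Cfsg.Agent.Lib.Helper7.GK Cfsg.Agent.Lib.Helper4

/-- A finite solvable group whose prime graph (prime divisors of the order, two distinct primes joined when there is an element of order their product) is disconnected is a Frobenius group or a 2-Frobenius group (it has normal subgroups H < K with K a Frobenius group with kernel H and G/H a Frobenius group with kernel K/H). -/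
theorem result {G : Type*} [Group G] [Finite G] (hsol : Group.IsSolvable G)
    (hdisc : (∃ A : Set ℕ, (∃ a ∈ A, a.Prime ∧ a ∣ Nat.card G) ∧ (∃ b ∉ A, b.Prime ∧ b ∣ Nat.card G) ∧
      ∀ a ∈ A, ∀ b ∉ A, a.Prime → b.Prime → a ∣ Nat.card G → b ∣ Nat.card G → ¬ ∃ g : G, orderOf g = a * b)) :
    (∃ C : Subgroup G, Cfsg.IsFrobeniusComplement C) ∨
    (∃ (H K : Subgroup G) (_ : H.Normal), K.Normal ∧ H < K ∧
      (∃ C : Subgroup ↥K, Cfsg.IsFrobeniusComplement C ∧ Cfsg.frobeniusKernel C = (H.subgroupOf K : Set ↥K)) ∧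
      (∃ C : Subgroup (G ⧸ H), Cfsg.IsFrobeniusComplement C ∧ Cfsg.frobeniusKernel C = (K.map (QuotientGroup.mk' H) : Set (G ⧸ H)))) := by
  obtain ⟨A, ⟨a₀, ha₀A, ha₀p, ha₀d⟩, ⟨b₀, hb₀A, hb₀p, hb₀d⟩, hno⟩ := hdisc
  have hG : NoMix A G := by
    intro a b ha hb haA hbA hex
    obtain ⟨g, hg⟩ := hex
    have h1 : a * b ∣ Nat.card G := by rw [← hg]; exact orderOf_dvd_natCard g
    exact hno a haA b hbA ha hb ((Dvd.intro _ rfl).trans h1) ((Dvd.intro_left _ rfl).trans h1)
      ⟨g, hg⟩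
  haveI : Nontrivial G := by
    rw [← Finite.one_lt_card_iff_nontrivial]
    exact lt_of_lt_of_le ha₀p.one_lt (Nat.le_of_dvd Nat.card_pos ha₀d)
  obtain ⟨r, L, hr, hLn, hL1, _, hLexp⟩ := exists_normal_elementary_abelian (Q := G) hsol
  haveI : Fact r.Prime := ⟨hr⟩
  have hLp : IsPGroup r L := by
    rintro ⟨l, hl⟩
    refine ⟨1, ?_⟩
    apply Subtype.ext
    rw [pow_one, Subgroup.coe_pow]
    exact hLexp l hl
  obtain ⟨k, hk⟩ := IsPGroup.iff_card.mp hLp
  by_cases hrA : r ∈ A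
  · have h1 : Cfsg.piCore A G ≠ ⊥ := by
      intro h0
      apply hL1
      rw [eq_bot_iff, ← h0]
      apply le_piCore hLn
      rw [hk]
      exact IsPiNum.pow hrA hr k
    exact main_aux hsol hG h1 ⟨b₀, hb₀A, hb₀p, hb₀d⟩
  · have h1 : Cfsg.piCore Aᶜ G ≠ ⊥ := by
      intro h0
      apply hL1
      rw [eq_bot_iff, ← h0]
      apply le_piCore hLn
      rw [hk]
      exact IsPiNum.pow (show r ∈ Aᶜ from hrA) hr k
    exact main_aux hsol hG.compl h1 ⟨a₀, fun h => h ha₀A, ha₀p, ha₀d⟩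

end Cfsg.Agent.S3857
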