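import Mathlib
import Cfsg.Statements.S3858
import Cfsg.Agent.Lib.Helper7.Wielandt1
import Cfsg.Agent.Lib.Helper7.SylowFix
import Cfsg.Agent.Lib.Lead.Brodkey

set_option autoImplicit false
open Cfsg

namespace Cfsg.Agent.S3858

open Cfsg.Agent.Lib.Helper7
open scoped Pointwise

variable {G : Type*} [Group G]

theorem cj_top' (g : G) : cj g (⊤ : Subgroup G) = ⊤ := by
  rw [eq_top_iff]
  intro x _
  rw [mem_cj]; trivial

theorem isCoatom_cj (g : G) {M : Subgroup G} (hM : IsCoatom M) : IsCoatom (cj g M) := by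
  refine ⟨?_, ?_⟩
  · intro h
    apply hM.1
    have := congrArg (cj g⁻¹) h
    rwa [cj_inv_cj, cj_top'] at this
  · intro K hK
    have h1 : M < cj g⁻¹ K := by
      have h2 : cj g⁻¹ (cj g M) < cj g⁻¹ K := by
        refine lt_of_le_of_ne (cj_mono _ hK.le) ?_
        intro h
        exact hK.ne (cj_injective _ h)
      rwa [cj_inv_cj] at h2
    have h3 := hM.2 _ h1
    have := congrArg (cj g) h3
    rwa [cj_cj_inv, cj_top'] at this

theorem sylow_conj [Finite G] {r : ℕ} [Fact r.Prime] (R R' : Sylow r G) :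
    ∃ g : G, (R' : Subgroup G) = cj g R := by
  obtain ⟨g, hg⟩ := MulAction.exists_smul_eq G R R'
  refine ⟨g, ?_⟩
  rw [← hg]
  rfl

theorem not_dvd_index_iff [Finite G] {r : ℕ} [Fact r.Prime] (R : Sylow r G) (M : Subgroup G) :
    ¬ r ∣ M.index ↔ ∃ g : G, cj g R ≤ M := by
  constructor
  · intro h
    obtain ⟨R', _, hR'⟩ := exists_sylow_between M h ⊥ IsPGroup.of_bot bot_le
    obtain ⟨g, hg⟩ := sylow_conj R R'
    exact ⟨g, hg ▸ hR'⟩
  · rintro ⟨g, hg⟩ hdvd
    have h1 : M.index ∣ (cj g (R : Subgroup G)).index := Subgroup.index_dvd_of_le hg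
    have h2 : (cj g (R : Subgroup G)).index = (R : Subgroup G).index := by
      have e1 := Subgroup.card_mul_index (cj g (R : Subgroup G))
      have e2 := Subgroup.card_mul_index (R : Subgroup G)
      rw [card_cj] at e1
      exact Nat.eq_of_mul_eq_mul_left Nat.card_pos (e1.trans e2.symm)
    rw [h2] at h1
    exact R.not_dvd_index (hdvd.trans h1)

/-- Let G be a finite group with a normal non-abelian simple subgroup T whose centralizer is trivial (G almost simple with socle T), r a prime and R a Sylow r-subgroup of G meeting T nontrivially. Then R lies in exactly one maximal subgroup of G if and only if G has exactly one conjugacy class of maximal subgroups whose index is prime to r. -/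
theorem result {G : Type*} [Group G] [Finite G] (T : Subgroup G) [T.Normal] (hT : IsSimpleGroup T) (hna : ¬ IsMulCommutative T)
    (hC : Subgroup.centralizer (T : Set G) = ⊥) {r : ℕ} [Fact r.Prime] (R : Sylow r G) (hR0 : (R : Subgroup G) ⊓ T ≠ ⊥) :
    (∃! M : Subgroup G, IsCoatom M ∧ (R : Subgroup G) ≤ M) ↔
      ((∃ M : Subgroup G, IsCoatom M ∧ ¬ r ∣ M.index) ∧
        ∀ M₁ M₂ : Subgroup G, IsCoatom M₁ → ¬ r ∣ M₁.index → IsCoatom M₂ → ¬ r ∣ M₂.index → ∃ g : G, M₂ = M₁.map (MulAut.conj g).toMonoidHom) := by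
  constructor
  · rintro ⟨M, ⟨hMc, hRM⟩, huniq⟩
    refine ⟨⟨M, hMc, (not_dvd_index_iff R M).mpr ⟨1, by rw [cj_one]; exact hRM⟩⟩, ?_⟩
    intro M₁ M₂ hc₁ hi₁ hc₂ hi₂
    obtain ⟨g₁, hg₁⟩ := (not_dvd_index_iff R M₁).mp hi₁
    obtain ⟨g₂, hg₂⟩ := (not_dvd_index_iff R M₂).mp hi₂
    have e₁ : cj g₁⁻¹ M₁ = M := by
      apply huniq
      refine ⟨isCoatom_cj _ hc₁, ?_⟩
      have := cj_mono g₁⁻¹ hg₁
      rwa [cj_inv_cj] at this
    have e₂ : cj g₂⁻¹ M₂ = M := by
      apply huniq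
      refine ⟨isCoatom_cj _ hc₂, ?_⟩
      have := cj_mono g₂⁻¹ hg₂
      rwa [cj_inv_cj] at this
    refine ⟨g₂ * g₁⁻¹, ?_⟩
    show M₂ = cj (g₂ * g₁⁻¹) M₁
    rw [cj_mul, e₁, ← e₂, cj_cj_inv]
  · rintro ⟨⟨M₀, hc₀, hi₀⟩, hconj⟩
    -- the normalizer of R is proper
    have hNR : Subgroup.normalizer ((R : Subgroup G) : Set G) ≠ ⊤ := by
      intro h
      have hn : (R : Subgroup G).Normal := Subgroup.normalizer_eq_top_iff.mp h
      have hn2 : (((R : Subgroup G) ⊓ T).subgroupOf T).Normal := by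
        haveI : ((R : Subgroup G) ⊓ T).Normal := inferInstance
        infer_instance
      rcases hn2.eq_bot_or_eq_top with h1 | h1
      · apply hR0
        rw [Subgroup.subgroupOf_eq_bot] at h1
        rw [disjoint_iff, inf_assoc, inf_idem] at h1
        exact h1
      · rw [Subgroup.subgroupOf_eq_top] at h1
        have hTR : T ≤ (R : Subgroup G) := h1.trans inf_le_left
        have hTp : IsPGroup r ↥T := R.2.to_le hTR
        haveI : Nontrivial ↥T := hT.toNontrivial
        have hcen := hTp.bot_lt_center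
        have hcn : (Subgroup.center ↥T).Normal := inferInstance
        rcases hcn.eq_bot_or_eq_top with h2 | h2
        · rw [h2] at hcen; exact lt_irrefl _ hcen
        · apply hna
          rw [← Subgroup.center_eq_top_iff]
          exact h2
    obtain ⟨Ms, hMs, hNMs⟩ := (eq_top_or_exists_le_coatom _).resolve_left hNR
    have hRMs : (R : Subgroup G) ≤ Ms := Subgroup.le_normalizer.trans hNMs
    have hiMs : ¬ r ∣ Ms.index := (not_dvd_index_iff R Ms).mpr ⟨1, by rw [cj_one]; exact hRMs⟩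
    refine ⟨Ms, ⟨hMs, hRMs⟩, ?_⟩
    rintro M ⟨hMc, hRM⟩
    have hiM : ¬ r ∣ M.index := (not_dvd_index_iff R M).mpr ⟨1, by rw [cj_one]; exact hRM⟩
    obtain ⟨g, hg⟩ := hconj Ms M hMs hiMs hMc hiM
    change M = cj g Ms at hg
    -- cj g⁻¹ R ≤ Ms
    have h1 : cj g⁻¹ (R : Subgroup G) ≤ Ms := by
      have := cj_mono g⁻¹ hRM
      rwa [hg, cj_inv_cj] at this
    have hp1 : IsPGroup r ↥(cj g⁻¹ (R : Subgroup G)) := R.2.map _
    obtain ⟨n, hn, hle⟩ := Cfsg.Agent.Lib.Lead.pgroup_le_conj_sylow_in_subgroup R Ms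
      (cj g⁻¹ (R : Subgroup G)) hRMs h1 hp1
    change cj g⁻¹ (R : Subgroup G) ≤ cj n (R : Subgroup G) at hle
    have heq : cj g⁻¹ (R : Subgroup G) = cj n (R : Subgroup G) :=
      Subgroup.eq_of_le_of_card_ge hle (by rw [card_cj, card_cj])
    have h2 : cj (n⁻¹ * g⁻¹) (R : Subgroup G) = R := by
      rw [cj_mul, heq, cj_inv_cj]
    have h3 : n⁻¹ * g⁻¹ ∈ Ms := hNMs (mem_normalizer_iff_cj.mpr h2)
    have h4 : g ∈ Ms := by
      have : g⁻¹ ∈ Ms := by
        have := Ms.mul_mem hn h3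
        rwa [mul_inv_cancel_left] at this
      exact (Ms.inv_mem_iff).mp this
    rw [hg, cj_eq_self_of_mem h4]

end Cfsg.Agent.S3858
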