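import Cfsg.Statements.S3859
import Mathlib
import Cfsg.Agent.Lib.Helper7.AlmostSimple

set_option autoImplicit false
open Cfsg

namespace Cfsg.Agent.S3859

open Cfsg.Agent.Lib.Helper7

theorem relIndex_eq_of_normal {G : Type*} [Group G] [Finite G] (R T : Subgroup G) [T.Normal] :
    R.relIndex T = R.relIndex (R ⊔ T) := by
  have e1 := Subgroup.relIndex_mul_relIndex ⊥ (R ⊓ T) T bot_le inf_le_right
  have e2 := Subgroup.relIndex_mul_relIndex ⊥ (R ⊓ T) R bot_le inf_le_left
  have e3 := Subgroup.relIndex_mul_relIndex ⊥ T (R ⊔ T) bot_le le_sup_right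
  have e4 := Subgroup.relIndex_mul_relIndex ⊥ R (R ⊔ T) bot_le le_sup_left
  simp only [Subgroup.relIndex_bot_left] at e1 e2 e3 e4
  have e5 : T.relIndex (R ⊔ T) = (R ⊓ T).relIndex R := by
    rw [Subgroup.relIndex_sup_right, Subgroup.inf_relIndex_left]
  rw [Subgroup.inf_relIndex_right] at e1
  have hRpos : 0 < Nat.card R := Nat.card_pos
  have : Nat.card R * R.relIndex T = Nat.card R * R.relIndex (R ⊔ T) := by
    rw [e4, ← e3, e5, ← e1, ← e2]
    ring
  exact Nat.eq_of_mul_eq_mul_left hRpos this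

/-- Let G be a finite group with a normal non-abelian simple subgroup T whose centralizer is trivial (G almost simple with socle T), r a prime and R a Sylow r-subgroup of G meeting T nontrivially. If R lies in exactly one maximal subgroup of G, then G/T is an r-group. -/
theorem result {G : Type*} [Group G] [Finite G] (T : Subgroup G) [T.Normal] (hT : IsSimpleGroup T) (hna : ¬ IsMulCommutative T)
    (hC : Subgroup.centralizer (T : Set G) = ⊥) {r : ℕ} [Fact r.Prime] (R : Sylow r G) (hR0 : (R : Subgroup G) ⊓ T ≠ ⊥)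
    (huniq : ∃! M : Subgroup G, IsCoatom M ∧ (R : Subgroup G) ≤ M) : IsPGroup r (G ⧸ T) := by
  by_contra hnot
  -- R ⊔ T ≠ ⊤
  have hRT : (R : Subgroup G) ⊔ T ≠ ⊤ := by
    intro htop
    apply hnot
    intro x
    obtain ⟨g, rfl⟩ := QuotientGroup.mk_surjective x
    have hg : g ∈ (R : Subgroup G) ⊔ T := by rw [htop]; exact Subgroup.mem_top g
    rw [← SetLike.mem_coe, Subgroup.mul_normal] at hg
    obtain ⟨a, ha, b, hb, rfl⟩ := hg
    obtain ⟨k, hk⟩ := R.isPGroup' ⟨a, ha⟩
    refine ⟨k, ?_⟩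
    have hb' : ((b : G) : G ⧸ T) = 1 := (QuotientGroup.eq_one_iff b).mpr hb
    rw [QuotientGroup.mk_mul, hb', mul_one, ← QuotientGroup.mk_pow]
    have : a ^ r ^ k = 1 := congrArg Subtype.val hk
    rw [this]; rfl
  -- the Sylow subgroup R ∩ T of T
  have hidx : ¬ r ∣ ((R : Subgroup G).subgroupOf T).index := by
    have h1 : ((R : Subgroup G).subgroupOf T).index = (R : Subgroup G).relIndex T := rfl
    rw [h1, relIndex_eq_of_normal]
    intro hd
    exact R.not_dvd_index (dvd_trans hd (Subgroup.relIndex_dvd_index_of_le le_sup_left))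
  have hpT : IsPGroup r ((R : Subgroup G).subgroupOf T) :=
    R.isPGroup'.comap_of_injective T.subtype T.subtype_injective
  set S₀ : Sylow r T := hpT.toSylow hidx with hS₀
  have hS₀map : (S₀ : Subgroup T).map T.subtype = (R : Subgroup G) ⊓ T := by
    have : (S₀ : Subgroup T) = (R : Subgroup G).subgroupOf T := rfl
    rw [this, Subgroup.subgroupOf_map_subtype]
  have hfrat : Subgroup.normalizer (((R : Subgroup G) ⊓ T : Subgroup G) : Set G) ⊔ T = ⊤ := by
    rw [← hS₀map]
    exact Sylow.normalizer_sup_eq_top S₀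
  -- normalizer of R ∩ T is proper
  have hNne : Subgroup.normalizer (((R : Subgroup G) ⊓ T : Subgroup G) : Set G) ≠ ⊤ := by
    intro htop
    haveI : ((R : Subgroup G) ⊓ T).Normal := Subgroup.normalizer_eq_top_iff.mp htop
    have hp : IsPGroup r ((R : Subgroup G) ⊓ T : Subgroup G) := R.isPGroup'.to_le inf_le_left
    exact hR0 (as_normal_pgroup_eq_bot T hT hna hC r _ hp)
  have hRN : (R : Subgroup G) ≤ Subgroup.normalizer (((R : Subgroup G) ⊓ T : Subgroup G) : Set G) := by
    intro x hx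
    rw [Subgroup.mem_normalizer_iff]
    intro h
    constructor
    · rintro ⟨h1, h2⟩
      exact ⟨Subgroup.mul_mem _ (Subgroup.mul_mem _ hx h1) (Subgroup.inv_mem _ hx),
        (inferInstance : T.Normal).conj_mem h h2 x⟩
    · rintro ⟨h1, h2⟩
      refine ⟨?_, ?_⟩
      · have := Subgroup.mul_mem _ (Subgroup.mul_mem _ (Subgroup.inv_mem _ hx) h1) hx
        have e : x⁻¹ * (x * h * x⁻¹) * x = h := by group
        rw [e] at this
        exact this
      · have := (inferInstance : T.Normal).conj_mem _ h2 x⁻¹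
        have e : x⁻¹ * (x * h * x⁻¹) * x⁻¹⁻¹ = h := by group
        rw [e] at this
        exact this
  obtain ⟨M₁, hM₁, hle₁⟩ := (eq_top_or_exists_le_coatom ((R : Subgroup G) ⊔ T)).resolve_left hRT
  obtain ⟨M₂, hM₂, hle₂⟩ := (eq_top_or_exists_le_coatom
    (Subgroup.normalizer (((R : Subgroup G) ⊓ T : Subgroup G) : Set G))).resolve_left hNne
  obtain ⟨M, -, hMuniq⟩ := huniq
  have h1 : M₁ = M := hMuniq M₁ ⟨hM₁, le_trans le_sup_left hle₁⟩
  have h2 : M₂ = M := hMuniq M₂ ⟨hM₂, le_trans hRN hle₂⟩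
  have : (⊤ : Subgroup G) ≤ M := by
    rw [← hfrat]
    apply sup_le
    · rw [← h2]; exact hle₂
    · rw [← h1]; exact le_trans le_sup_right hle₁
  exact (h1 ▸ hM₁).1 (top_le_iff.mp this)

end Cfsg.Agent.S3859
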