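import Mathlib
import Cfsg.Statements.S3861
import Cfsg.Agent.Lib.Helper7.RealOdd

set_option autoImplicit false
set_option linter.style.haveILetI false
open Cfsg

namespace Cfsg.Agent.S3861

open Cfsg.Agent.Lib.Helper7

lemma conj_pow_parity {G : Type*} [Group G] (g x : G) (hg : g * x * g⁻¹ = x⁻¹) (k : ℕ) :
    (Even k → g ^ k * x * (g ^ k)⁻¹ = x) ∧ (Odd k → g ^ k * x * (g ^ k)⁻¹ = x⁻¹) := by
  induction k with
  | zero => simp
  | succ k ih =>
    have hstep : g ^ (k + 1) * x * (g ^ (k + 1))⁻¹ = g * (g ^ k * x * (g ^ k)⁻¹) * g⁻¹ := by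
      rw [pow_succ']; group
    have hg' : g * x⁻¹ * g⁻¹ = x := by
      have : g * x⁻¹ * g⁻¹ = (g * x * g⁻¹)⁻¹ := by group
      rw [this, hg, inv_inv]
    constructor
    · intro hk
      have hk' : Odd k := by
        rcases Nat.even_or_odd k with h | h
        · exact absurd hk (by rw [Nat.even_add_one]; simpa using h)
        · exact h
      rw [hstep, ih.2 hk', hg']
    · intro hk
      have hk' : Even k := by
        rcases Nat.even_or_odd k with h | h
        · exact h
        · exact absurd hk (by rw [Nat.odd_add_one]; simpa using h)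
      rw [hstep, ih.1 hk', hg]

/-- A finite group G has no non-identity element of odd order that is conjugate to its inverse if and only if the Sylow 2-subgroups of G are normal. -/
theorem result {G : Type*} [Group G] [Finite G] (P : Sylow 2 G) : (∀ x : G, x ≠ 1 → Odd (orderOf x) → ¬ IsConj x x⁻¹) ↔ (P : Subgroup G).Normal := by
  haveI : Fact (Nat.Prime 2) := ⟨Nat.prime_two⟩
  constructor
  · intro hyp
    exact sylow_two_normal_of_noRealOdd hyp P
  · intro hPn x hx1 hodd hreal
    obtain ⟨g, hg⟩ := isConj_iff.mp hreal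
    obtain ⟨a, m, hm, hord⟩ := Nat.exists_eq_two_pow_mul_odd (orderOf_pos g).ne'
    set h := g ^ m with hh
    have hhx : h * x * h⁻¹ = x⁻¹ := (conj_pow_parity g x hg m).2 hm
    have hh2 : h ^ (2 ^ a) = 1 := by
      rw [hh, ← pow_mul, mul_comm, ← hord, pow_orderOf_eq_one]
    have hhP : h ∈ (P : Subgroup G) := by
      have h1 : IsPGroup 2 ↥(Subgroup.zpowers h) := by
        rw [IsPGroup.iff_card]
        have h1 : orderOf h ∣ 2 ^ a := orderOf_dvd_of_pow_eq_one hh2
        obtain ⟨k, -, hk⟩ := (Nat.dvd_prime_pow Nat.prime_two).mp h1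
        exact ⟨k, by rw [Nat.card_zpowers, hk]⟩
      have h2 : IsPGroup 2 ↥(Subgroup.zpowers h ⊔ (P : Subgroup G)) :=
        IsPGroup.to_sup_of_normal_right h1 P.isPGroup'
      have h3 := P.is_maximal' h2 le_sup_right
      rw [← h3]
      exact Subgroup.mem_sup_left (Subgroup.mem_zpowers h)
    have hx2P : x * x ∈ (P : Subgroup G) := by
      have e : x * x = (x * h * x⁻¹) * h⁻¹ := by
        have : x = (h * x * h⁻¹)⁻¹ := by rw [hhx, inv_inv]
        calc x * x = x * (h * x * h⁻¹)⁻¹ := by rw [← this]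
          _ = (x * h * x⁻¹) * h⁻¹ := by group
      rw [e]
      exact Subgroup.mul_mem _ (hPn.conj_mem h hhP x) (Subgroup.inv_mem _ hhP)
    -- order of x*x is a power of two and odd
    obtain ⟨k, hk⟩ := (IsPGroup.iff_orderOf.mp P.isPGroup') ⟨x * x, hx2P⟩
    rw [← Subgroup.orderOf_coe] at hk
    have hk' : orderOf (x * x) = 2 ^ k := hk
    have hdvd : orderOf (x * x) ∣ orderOf x := by
      rw [← pow_two]; exact orderOf_pow_dvd 2
    have hone : orderOf (x * x) = 1 := by
      have hcop : (orderOf (x * x)).Coprime (orderOf x) := by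
        rw [hk']; exact Nat.Coprime.pow_left _ (Nat.coprime_two_left.mpr hodd)
      exact Nat.Coprime.eq_one_of_dvd hcop hdvd
    have hxx : x * x = 1 := orderOf_eq_one_iff.mp hone
    have h2 : orderOf x ∣ 2 := orderOf_dvd_of_pow_eq_one (by rw [pow_two]; exact hxx)
    have h3 : orderOf x = 1 := by
      have hcop : (orderOf x).Coprime 2 := Nat.coprime_two_right.mpr hodd
      exact Nat.Coprime.eq_one_of_dvd hcop h2
    exact hx1 (orderOf_eq_one_iff.mp h3)

end Cfsg.Agent.S3861
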