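import Cfsg.Statements.S3863
import Mathlib

set_option autoImplicit false
open Cfsg

namespace Cfsg.Agent.S3863

/-- conjugation by an element inverting `x`, raised to an odd power, still inverts `x` -/
lemma inv_pow_odd {G : Type*} [Group G] (x t : G) (h : t * x * t⁻¹ = x⁻¹) (l : ℕ) :
    t ^ (2 * l + 1) * x * (t ^ (2 * l + 1))⁻¹ = x⁻¹ := by
  have h2 : t ^ 2 * x * (t ^ 2)⁻¹ = x := by
    have : t ^ 2 * x * (t ^ 2)⁻¹ = t * (t * x * t⁻¹) * t⁻¹ := by rw [pow_two]; group
    rw [this, h]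
    have : t * x⁻¹ * t⁻¹ = (t * x * t⁻¹)⁻¹ := by group
    rw [this, h, inv_inv]
  have hc : Commute (t ^ 2) x := by
    have : t ^ 2 * x = (t ^ 2 * x * (t ^ 2)⁻¹) * t ^ 2 := by
      generalize t ^ 2 = s; group
    rw [h2] at this
    exact this
  have hc' : Commute ((t ^ 2) ^ l) x⁻¹ := (hc.pow_left l).inv_right
  have e : t ^ (2 * l + 1) = (t ^ 2) ^ l * t := by
    rw [pow_succ, pow_mul]
  rw [e]
  have : (t ^ 2) ^ l * t * x * ((t ^ 2) ^ l * t)⁻¹ = (t ^ 2) ^ l * (t * x * t⁻¹) * ((t ^ 2) ^ l)⁻¹ := by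
    group
  rw [this, h, hc'.eq]
  group

lemma mem_of_two_pow {G : Type*} [Group G] [Finite G] (N : Subgroup G) [N.Normal] (hN : Odd N.index)
    (g : G) (j : ℕ) (hg : g ^ (2 ^ j) = 1) : g ∈ N := by
  rw [← QuotientGroup.eq_one_iff]
  have h1 : orderOf (g : G ⧸ N) ∣ 2 ^ j := by
    apply orderOf_dvd_of_pow_eq_one
    rw [← QuotientGroup.mk_pow, hg]; rfl
  have h2 : orderOf (g : G ⧸ N) ∣ N.index := by
    rw [Subgroup.index_eq_card]
    exact orderOf_dvd_natCard _
  have hcop : Nat.Coprime (2 ^ j) N.index := by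
    apply Nat.Coprime.pow_left
    rw [Nat.Prime.coprime_iff_not_dvd Nat.prime_two]
    intro hd
    exact (Nat.not_even_iff_odd.mpr hN) (even_iff_two_dvd.mpr hd)
  have := Nat.dvd_gcd h1 h2
  rw [hcop] at this
  exact orderOf_eq_one_iff.mp (Nat.dvd_one.mp this)

theorem result {G : Type*} [Group G] [Finite G] (x : G) (hx : IsConj x x⁻¹) : (∃ t : G, (∃ j : ℕ, orderOf t = 2 ^ j) ∧ t * x * t⁻¹ = x⁻¹) ∧ (Odd (Subgroup.centralizer ({x} : Set G)).index → x ^ 2 = 1) ∧ ∀ (N : Subgroup G) [N.Normal], Odd N.index → ∃ hxN : x ∈ N, IsConj (⟨x, hxN⟩ : N) (⟨x, hxN⟩ : N)⁻¹ := by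
  obtain ⟨t₀, ht₀⟩ := isConj_iff.mp hx
  -- part 1
  have part1 : ∃ t : G, (∃ j : ℕ, orderOf t = 2 ^ j) ∧ t * x * t⁻¹ = x⁻¹ := by
    obtain ⟨k, m, hm, hn⟩ := Nat.exists_eq_two_pow_mul_odd (orderOf_pos t₀).ne'
    obtain ⟨l, rfl⟩ := hm
    refine ⟨t₀ ^ (2 * l + 1), ⟨k, ?_⟩, inv_pow_odd x t₀ ht₀ l⟩
    rw [orderOf_pow' t₀ (by omega), hn, Nat.gcd_eq_right (Dvd.intro_left _ rfl)]
    exact Nat.mul_div_cancel _ (by omega)
  obtain ⟨t, ⟨j, hj⟩, ht⟩ := part1
  refine ⟨⟨t, ⟨j, hj⟩, ht⟩, ?_, ?_⟩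
  · -- part 2
    intro hodd
    by_contra hx2
    have hxne : x ≠ x⁻¹ := by
      intro h
      apply hx2
      rw [pow_two]
      nth_rewrite 2 [h]
      exact mul_inv_cancel x
    let N' : Subgroup G :=
      { carrier := {g | g * x * g⁻¹ = x ∨ g * x * g⁻¹ = x⁻¹}
        one_mem' := by left; simp
        mul_mem' := by
          intro a b ha hb
          have e : a * b * x * (a * b)⁻¹ = a * (b * x * b⁻¹) * a⁻¹ := by group
          have e' : ∀ y : G, a * y⁻¹ * a⁻¹ = (a * y * a⁻¹)⁻¹ := by intro y; group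
          show a * b * x * (a * b)⁻¹ = x ∨ a * b * x * (a * b)⁻¹ = x⁻¹
          rw [e]
          rcases ha with ha | ha <;> rcases hb with hb | hb
          · left; rw [hb, ha]
          · right; rw [hb, e', ha]
          · right; rw [hb, ha]
          · left; rw [hb, e', ha, inv_inv]
        inv_mem' := by
          intro a ha
          show a⁻¹ * x * a⁻¹⁻¹ = x ∨ a⁻¹ * x * a⁻¹⁻¹ = x⁻¹
          rcases ha with ha | ha
          · left
            nth_rewrite 1 [← ha]; group
          · right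
            have : x = a * x⁻¹ * a⁻¹ := by
              have : a * x⁻¹ * a⁻¹ = (a * x * a⁻¹)⁻¹ := by group
              rw [this, ha, inv_inv]
            nth_rewrite 1 [this]; group }
    have hN'mem : ∀ g, g ∈ N' ↔ (g * x * g⁻¹ = x ∨ g * x * g⁻¹ = x⁻¹) := fun _ => Iff.rfl
    have hCmem : ∀ g, g ∈ Subgroup.centralizer ({x} : Set G) ↔ g * x * g⁻¹ = x := by
      intro g
      rw [Subgroup.mem_centralizer_iff]
      constructor
      · intro h
        have := h x rfl
        rw [← this]; group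
      · intro h y hy
        rw [Set.mem_singleton_iff] at hy
        rw [hy]
        nth_rewrite 1 [← h]; group
    have hCN : Subgroup.centralizer ({x} : Set G) ≤ N' := by
      intro g hg
      rw [hN'mem]; left; exact (hCmem g).mp hg
    have hrel : (Subgroup.centralizer ({x} : Set G)).relIndex N' = 2 := by
      rw [Subgroup.relIndex, Subgroup.index_eq_two_iff]
      refine ⟨⟨t, (hN'mem t).mpr (Or.inr ht)⟩, ?_⟩
      intro b
      rw [Subgroup.mem_subgroupOf, Subgroup.mem_subgroupOf, hCmem, hCmem]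
      have hb := (hN'mem b).mp b.2
      have e : ((b * ⟨t, (hN'mem t).mpr (Or.inr ht)⟩ : N') : G) * x * ((b * ⟨t, (hN'mem t).mpr (Or.inr ht)⟩ : N') : G)⁻¹ = (b : G) * (t * x * t⁻¹) * (b : G)⁻¹ := by
        simp only [Subgroup.coe_mul]; group
      rw [e, ht]
      have e' : (b : G) * x⁻¹ * (b : G)⁻¹ = ((b : G) * x * (b : G)⁻¹)⁻¹ := by group
      rw [e']
      rcases hb with hb | hb
      · right
        refine ⟨hb, ?_⟩
        rw [hb]; exact fun h => hxne h.symm
      · left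
        refine ⟨by rw [hb, inv_inv], ?_⟩
        rw [hb]; exact fun h => hxne h.symm
    have := Subgroup.relIndex_mul_index hCN
    rw [hrel] at this
    rw [← this] at hodd
    exact (Nat.not_even_iff_odd.mpr hodd) (even_two_mul _)
  · -- part 3
    intro N _ hN
    have htN : t ∈ N := mem_of_two_pow N hN t j (by rw [← hj]; exact pow_orderOf_eq_one t)
    have hxN : x ∈ N := by
      -- x̄ = x̄⁻¹ in the quotient
      have h1 : ((x : G) : G ⧸ N) = ((x⁻¹ : G) : G ⧸ N) := by
        rw [← ht]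
        rw [QuotientGroup.mk_mul, QuotientGroup.mk_mul, QuotientGroup.mk_inv]
        have : ((t : G) : G ⧸ N) = 1 := (QuotientGroup.eq_one_iff t).mpr htN
        rw [this]; simp
      have : ((x ^ 2 : G) : G ⧸ N) = 1 := by
        rw [QuotientGroup.mk_pow, pow_two]
        nth_rewrite 2 [h1]
        rw [QuotientGroup.mk_inv, mul_inv_cancel]
      -- x has x^2 ∈ N and ... use order argument in the quotient
      have h3 : orderOf ((x : G) : G ⧸ N) ∣ 2 := by
        apply orderOf_dvd_of_pow_eq_one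
        rw [← QuotientGroup.mk_pow]; exact this
      have h4 : orderOf ((x : G) : G ⧸ N) ∣ N.index := by
        rw [Subgroup.index_eq_card]; exact orderOf_dvd_natCard _
      have hcop : Nat.Coprime 2 N.index := by
        rw [Nat.Prime.coprime_iff_not_dvd Nat.prime_two]
        intro hd
        exact (Nat.not_even_iff_odd.mpr hN) (even_iff_two_dvd.mpr hd)
      have := Nat.dvd_gcd h3 h4
      rw [hcop] at this
      have hone : ((x : G) : G ⧸ N) = 1 := orderOf_eq_one_iff.mp (Nat.dvd_one.mp this)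
      exact (QuotientGroup.eq_one_iff x).mp hone
    refine ⟨hxN, ?_⟩
    rw [isConj_iff]
    refine ⟨⟨t, htN⟩, ?_⟩
    apply Subtype.ext
    simp only [Subgroup.coe_mul, Subgroup.coe_inv]
    exact ht

end Cfsg.Agent.S3863
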