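import Mathlib
import Cfsg.Statements.S3864
import Cfsg.Agent.Lib.Helper7.DiTri2

set_option autoImplicit false
open Cfsg

namespace Cfsg.Agent.S3864

open Cfsg.Agent.Lib.Helper3 Cfsg.Agent.Lib.Helper7.DiTri

/-- Let G be a finite group whose Sylow 2-subgroups are dihedral of order 2 ^ n with n ≥ 3, and count the conjugacy classes of involutions of G. Then exactly one of the following holds: there is one class of involutions and no normal subgroup of index 2; there are two classes of involutions, a normal subgroup of index 2 and none of index 4; there are three classes of involutions and G has a normal 2-complement. -/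
theorem result {G : Type*} [Group G] [Finite G] (P : Sylow 2 G) (n : ℕ) (hn : 3 ≤ n) (hdih : Nonempty (↥(P : Subgroup G) ≃* DihedralGroup (2 ^ (n - 1)))) : (Nat.card {C : ConjClasses G // ∃ g : G, ConjClasses.mk g = C ∧ orderOf g = 2} = 1 ∧ ∀ N : Subgroup G, N.Normal → N.index ≠ 2) ∨ (Nat.card {C : ConjClasses G // ∃ g : G, ConjClasses.mk g = C ∧ orderOf g = 2} = 2 ∧ (∃ N : Subgroup G, N.Normal ∧ N.index = 2) ∧ ∀ N : Subgroup G, N.Normal → N.index ≠ 4) ∨ (Nat.card {C : ConjClasses G // ∃ g : G, ConjClasses.mk g = C ∧ orderOf g = 2} = 3 ∧ Cfsg.HasNormalPComplement 2 G) := by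
  obtain ⟨e⟩ := hdih
  haveI : Fact (Nat.Prime 2) := ⟨Nat.prime_two⟩
  have hm0 : 2 ^ (n - 1) ≠ 0 := by positivity
  haveI : NeZero (2 ^ (n - 1)) := ⟨hm0⟩
  have hm4 : 4 ∣ 2 ^ (n - 1) := by
    have : n - 1 = (n - 3) + 2 := by omega
    rw [this, pow_add]
    exact Dvd.intro_left _ rfl
  obtain ⟨h, q, hh0, hh2, hq⟩ := zmod_exists_quarter hm0 hm4
  have hz2 : orderOf (diR e h) = 2 := by
    apply orderOf_eq_prime
    · rw [pow_two, diR_sq_eq_one_iff]; exact hh2
    · rw [Ne, diR_eq_one_iff]; exact hh0
  set z := diR e h with hz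
  set s0 := diS e 0 with hs0
  set s1 := diS e 1 with hs1
  set cz : ConjClasses G := ConjClasses.mk z with hcz
  set c0 : ConjClasses G := ConjClasses.mk s0 with hc0
  set c1 : ConjClasses G := ConjClasses.mk s1 with hc1
  have hset : ∀ C : ConjClasses G, (∃ g : G, ConjClasses.mk g = C ∧ orderOf g = 2) ↔
      C ∈ ({cz, c0, c1} : Set (ConjClasses G)) := by
    intro C
    rw [Set.mem_insert_iff, Set.mem_insert_iff, Set.mem_singleton_iff]
    constructor
    · rintro ⟨g, rfl, hg⟩
      rcases involution_conj_cases P e h hh0 hh2 g hg with h1 | h1 | h1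
      · left; exact ConjClasses.mk_eq_mk_iff_isConj.2 h1
      · right; left; exact ConjClasses.mk_eq_mk_iff_isConj.2 h1
      · right; right; exact ConjClasses.mk_eq_mk_iff_isConj.2 h1
    · rintro (rfl | rfl | rfl)
      · exact ⟨z, rfl, hz2⟩
      · exact ⟨s0, rfl, orderOf_diS e 0⟩
      · exact ⟨s1, rfl, orderOf_diS e 1⟩
  have hcard : Nat.card {C : ConjClasses G // ∃ g : G, ConjClasses.mk g = C ∧ orderOf g = 2} =
      ({cz, c0, c1} : Set (ConjClasses G)).ncard := by
    rw [← Nat.card_coe_set_eq]
    exact Nat.card_congr (Equiv.subtypeEquivRight hset)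
  rw [hcard]
  by_cases hA : IsConj s0 z ∧ IsConj s1 z
  · left
    have e0 : c0 = cz := ConjClasses.mk_eq_mk_iff_isConj.2 hA.1
    have e1 : c1 = cz := ConjClasses.mk_eq_mk_iff_isConj.2 hA.2
    refine ⟨?_, ?_⟩
    · rw [e0, e1]; simp
    · intro N _ hN2
      have hall : ∀ i, IsConj (diS e i) (diR e h) := by
        intro i
        rcases diS_conj_cases e i with h3 | h3
        · exact h3.trans hA.1
        · exact h3.trans hA.2
      exact di_no_index_two_of_all_conj P e h hh0 hh2 (di_all_conj P e h hh0 hh2 hall) N hN2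
  · by_cases hB : ¬ IsConj s0 z ∧ ¬ IsConj s1 z ∧ ¬ IsConj s0 s1
    · right; right
      have n0 : cz ≠ c0 := fun hc => hB.1 (ConjClasses.mk_eq_mk_iff_isConj.1 hc.symm)
      have n1 : cz ≠ c1 := fun hc => hB.2.1 (ConjClasses.mk_eq_mk_iff_isConj.1 hc.symm)
      have n2 : c0 ≠ c1 := fun hc => hB.2.2 (ConjClasses.mk_eq_mk_iff_isConj.1 hc)
      refine ⟨?_, npc_of_three_classes P e h hh0 hh2 hB.1 hB.2.1⟩
      rw [Set.ncard_insert_of_notMem (by simp [n0, n1]), Set.ncard_pair n2]
    · right; left
      refine ⟨?_, ?_, ?_⟩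
      · by_cases ha : IsConj s0 z
        · have hb : ¬ IsConj s1 z := fun hb => hA ⟨ha, hb⟩
          have e0 : c0 = cz := ConjClasses.mk_eq_mk_iff_isConj.2 ha
          have n1 : cz ≠ c1 := fun hc => hb (ConjClasses.mk_eq_mk_iff_isConj.1 hc.symm)
          rw [e0]
          have : ({cz, cz, c1} : Set (ConjClasses G)) = {cz, c1} := by simp
          rw [this, Set.ncard_pair n1]
        · by_cases hb : IsConj s1 z
          · have e1 : c1 = cz := ConjClasses.mk_eq_mk_iff_isConj.2 hb
            have n0 : cz ≠ c0 := fun hc => ha (ConjClasses.mk_eq_mk_iff_isConj.1 hc.symm)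
            rw [e1]
            have : ({cz, c0, cz} : Set (ConjClasses G)) = {cz, c0} := by
              ext x; simp; tauto
            rw [this, Set.ncard_pair n0]
          · have hc : IsConj s0 s1 := by
              by_contra hc
              exact hB ⟨ha, hb, hc⟩
            have e2 : c1 = c0 := (ConjClasses.mk_eq_mk_iff_isConj.2 hc).symm
            have n0 : cz ≠ c0 := fun hc => ha (ConjClasses.mk_eq_mk_iff_isConj.1 hc.symm)
            rw [e2]
            have : ({cz, c0, c0} : Set (ConjClasses G)) = {cz, c0} := by simp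
            rw [this, Set.ncard_pair n0]
      · by_contra hno
        have hno' : ∀ H : Subgroup G, H.index ≠ 2 :=
          fun H hH => hno ⟨H, Subgroup.normal_of_index_eq_two hH, hH⟩
        exact hA ⟨di_conj_of_no_index_two P e h hh0 hh2 hno' 0,
          di_conj_of_no_index_two P e h hh0 hh2 hno' 1⟩
      · intro N hNn hN4
        haveI := hNn
        exact hB (not_conj_of_index_four P e h q hq N hN4)

end Cfsg.Agent.S3864
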