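import Cfsg.Statements.S3866
import Mathlib

set_option autoImplicit false
open Cfsg
open scoped commutatorElement

namespace Cfsg.Agent.S3866

theorem result {G : Type*} [Group G] [Finite G] (A : Subgroup G) [A.Normal] (hA : IsMulCommutative A) (x : G) (hgen : A ⊔ Subgroup.zpowers x = ⊤) : (∀ a ∈ A, x * a * x⁻¹ * a⁻¹ ∈ commutator G) ∧ (∀ c ∈ commutator G, ∃ a ∈ A, x * a * x⁻¹ * a⁻¹ = c) ∧ (∀ a ∈ A, ∀ b ∈ A, x * (a * b) * x⁻¹ * (a * b)⁻¹ = (x * a * x⁻¹ * a⁻¹) * (x * b * x⁻¹ * b⁻¹)) ∧ Nat.card (commutator G) * Nat.card ↥(A ⊓ Subgroup.centralizer ({x} : Set G)) = Nat.card A := by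
  have hAn : A.Normal := inferInstance
  -- commutativity inside A
  have hcomm : ∀ a ∈ A, ∀ b ∈ A, a * b = b * a := by
    intro a ha b hb
    have := hA.is_comm.comm (⟨a, ha⟩ : A) ⟨b, hb⟩
    exact congrArg Subtype.val this
  have hconjA : ∀ a ∈ A, x * a * x⁻¹ ∈ A := fun a ha => hAn.conj_mem a ha x
  have hconjA' : ∀ a ∈ A, x⁻¹ * a * x ∈ A := fun a ha => by
    have := hAn.conj_mem a ha x⁻¹
    simpa using this
  have h1 : ∀ a ∈ A, x * a * x⁻¹ * a⁻¹ ∈ commutator G := by
    intro a _
    have : x * a * x⁻¹ * a⁻¹ = ⁅x, a⁆ := (commutatorElement_def x a).symm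
    rw [this, commutator_def]
    exact Subgroup.commutator_mem_commutator (Subgroup.mem_top x) (Subgroup.mem_top a)
  have h3 : ∀ a ∈ A, ∀ b ∈ A, x * (a * b) * x⁻¹ * (a * b)⁻¹ = (x * a * x⁻¹ * a⁻¹) * (x * b * x⁻¹ * b⁻¹) := by
    intro a ha b hb
    have e1 : x * (a * b) * x⁻¹ * (a * b)⁻¹ = (x * a * x⁻¹) * ((x * b * x⁻¹) * b⁻¹ * a⁻¹) := by group
    have e2 : (x * b * x⁻¹) * b⁻¹ * a⁻¹ = a⁻¹ * ((x * b * x⁻¹) * b⁻¹) :=
      (hcomm _ (A.inv_mem ha) _ (A.mul_mem (hconjA b hb) (A.inv_mem hb))).symm
    rw [e1, e2]; group
  -- the homomorphism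
  let φ : A →* G :=
    { toFun := fun a => x * (a : G) * x⁻¹ * (a : G)⁻¹
      map_one' := by simp
      map_mul' := fun a b => h3 a a.2 b b.2 }
  have hφ : ∀ a : A, φ a = x * (a : G) * x⁻¹ * (a : G)⁻¹ := fun _ => rfl
  have hKA : φ.range ≤ A := by
    rintro _ ⟨a, rfl⟩
    rw [hφ]
    exact A.mul_mem (hconjA a a.2) (A.inv_mem a.2)
  -- K normal
  have hKn : φ.range.Normal := by
    rw [← Subgroup.normalizer_eq_top_iff, eq_top_iff, ← hgen, sup_le_iff]
    constructor
    · intro a ha
      rw [Subgroup.mem_normalizer_iff]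
      intro k
      constructor
      · intro hk
        have : a * k * a⁻¹ = k := by rw [hcomm a ha k (hKA hk)]; group
        rw [this]; exact hk
      · intro hk
        have hkA : k ∈ A := by
          have h5 : k = a⁻¹ * (a * k * a⁻¹) * a := by group
          rw [h5]
          exact A.mul_mem (A.mul_mem (A.inv_mem ha) (hKA hk)) ha
        have : a * k * a⁻¹ = k := by rw [hcomm a ha k hkA]; group
        rw [← this]; exact hk
    · rw [Subgroup.zpowers_le, Subgroup.mem_normalizer_iff]
      intro k
      constructor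
      · rintro ⟨a, rfl⟩
        refine ⟨⟨x * a * x⁻¹, hconjA a a.2⟩, ?_⟩
        rw [hφ, hφ]; simp only; group
      · rintro ⟨b, hb⟩
        refine ⟨⟨x⁻¹ * b * x, hconjA' b b.2⟩, ?_⟩
        rw [hφ] at hb ⊢
        simp only
        have : k = x⁻¹ * (x * k * x⁻¹) * x := by group
        rw [this, ← hb]; group
  -- quotient is abelian
  have hGK : commutator G ≤ φ.range := by
    set K := φ.range with hK
    let π := QuotientGroup.mk' K
    have hπ1 : ∀ a ∈ A, π x * π a = π a * π x := by
      intro a ha
      have : π (x * a * x⁻¹ * a⁻¹) = 1 := by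
        rw [QuotientGroup.mk'_apply, QuotientGroup.eq_one_iff]
        exact ⟨⟨a, ha⟩, rfl⟩
      have h2 : π x * π a = π (x * a * x⁻¹ * a⁻¹) * (π a * π x) := by
        simp only [map_mul, map_inv]; group
      rw [h2, this, one_mul]
    -- π x is central
    have hxc : ∀ g : G, π x * π g = π g * π x := by
      intro g
      have hg : g ∈ (Subgroup.centralizer ({π x} : Set (G ⧸ K))).comap π := by
        have : (⊤ : Subgroup G) ≤ (Subgroup.centralizer ({π x} : Set (G ⧸ K))).comap π := by
          rw [← hgen, sup_le_iff]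
          constructor
          · intro a ha
            rw [Subgroup.mem_comap, Subgroup.mem_centralizer_iff]
            intro y hy
            rw [Set.mem_singleton_iff] at hy
            rw [hy]; exact hπ1 a ha
          · rw [Subgroup.zpowers_le, Subgroup.mem_comap, Subgroup.mem_centralizer_iff]
            intro y hy
            rw [Set.mem_singleton_iff] at hy
            rw [hy]
        exact this (Subgroup.mem_top g)
      rw [Subgroup.mem_comap, Subgroup.mem_centralizer_iff] at hg
      exact hg (π x) rfl
    -- π a is central for a ∈ A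
    have hac : ∀ a ∈ A, ∀ g : G, π a * π g = π g * π a := by
      intro a ha g
      have hg : g ∈ (Subgroup.centralizer ({π a} : Set (G ⧸ K))).comap π := by
        have : (⊤ : Subgroup G) ≤ (Subgroup.centralizer ({π a} : Set (G ⧸ K))).comap π := by
          rw [← hgen, sup_le_iff]
          constructor
          · intro b hb
            rw [Subgroup.mem_comap, Subgroup.mem_centralizer_iff]
            intro y hy
            rw [Set.mem_singleton_iff] at hy
            rw [hy, ← map_mul, ← map_mul, hcomm a ha b hb]
          · rw [Subgroup.zpowers_le, Subgroup.mem_comap, Subgroup.mem_centralizer_iff]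
            intro y hy
            rw [Set.mem_singleton_iff] at hy
            rw [hy]; exact (hπ1 a ha).symm
        exact this (Subgroup.mem_top g)
      rw [Subgroup.mem_comap, Subgroup.mem_centralizer_iff] at hg
      exact hg (π a) rfl
    -- everything central
    have hall : ∀ g h : G, π g * π h = π h * π g := by
      intro g h
      have hg : g ∈ (Subgroup.center (G ⧸ K)).comap π := by
        have : (⊤ : Subgroup G) ≤ (Subgroup.center (G ⧸ K)).comap π := by
          rw [← hgen, sup_le_iff]
          constructor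
          · intro a ha
            rw [Subgroup.mem_comap, Subgroup.mem_center_iff]
            intro y
            obtain ⟨g', rfl⟩ := QuotientGroup.mk'_surjective K y
            exact (hac a ha g').symm
          · rw [Subgroup.zpowers_le, Subgroup.mem_comap, Subgroup.mem_center_iff]
            intro y
            obtain ⟨g', rfl⟩ := QuotientGroup.mk'_surjective K y
            exact (hxc g').symm
        exact this (Subgroup.mem_top g)
      rw [Subgroup.mem_comap, Subgroup.mem_center_iff] at hg
      exact (hg (π h)).symm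
    rw [commutator_eq_closure, Subgroup.closure_le]
    rintro _ ⟨g, h, rfl⟩
    have : π ⁅g, h⁆ = 1 := by
      rw [commutatorElement_def]
      simp only [map_mul, map_inv]
      rw [hall g h]; group
    rw [QuotientGroup.mk'_apply, QuotientGroup.eq_one_iff] at this
    exact this
  have hKG : φ.range ≤ commutator G := by
    rintro _ ⟨a, rfl⟩
    exact h1 a a.2
  have hKeq : φ.range = commutator G := le_antisymm hKG hGK
  refine ⟨h1, ?_, h3, ?_⟩
  · intro c hc
    rw [← hKeq] at hc
    obtain ⟨a, rfl⟩ := hc
    exact ⟨a, a.2, rfl⟩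
  · rw [← hKeq]
    have e1 : Nat.card φ.ker * φ.ker.index = Nat.card A := Subgroup.card_mul_index _
    rw [Subgroup.index_ker] at e1
    have e2 : Nat.card φ.ker = Nat.card ↥(A ⊓ Subgroup.centralizer ({x} : Set G)) := by
      apply Nat.card_congr
      refine
        { toFun := fun a => ⟨(a : A), ⟨(a : A).2, ?_⟩⟩
          invFun := fun b => ⟨⟨b, b.2.1⟩, ?_⟩
          left_inv := fun a => rfl
          right_inv := fun b => rfl }
      · show ((a : A) : G) ∈ Subgroup.centralizer ({x} : Set G)
        rw [Subgroup.mem_centralizer_iff]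
        intro y hy
        rw [Set.mem_singleton_iff] at hy
        have := a.2
        rw [MonoidHom.mem_ker, hφ] at this
        rw [hy]
        have e : x * ((a : A) : G) = (x * ((a : A) : G) * x⁻¹ * ((a : A) : G)⁻¹) * (((a : A) : G) * x) := by group
        rw [e, this, one_mul]
      · rw [MonoidHom.mem_ker, hφ]
        have : (b : G) ∈ Subgroup.centralizer ({x} : Set G) := b.2.2
        rw [Subgroup.mem_centralizer_iff] at this
        have h2 := this x rfl
        simp only
        rw [h2]; group
    rw [← e1, e2, mul_comm]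

end Cfsg.Agent.S3866
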