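import Mathlib
import Cfsg.Statements.S3867
import Cfsg.Agent.Lib.Helper7.Wielandt1
import Cfsg.Agent.Lib.Helper8.SylowIndex
import Cfsg.Agent.Lib.Helper2.Basic
import Cfsg.Agent.Lib.Lead.Brodkey

set_option autoImplicit false
open Cfsg

namespace Cfsg.Agent.S3867

open Cfsg.Agent.Lib.Helper7
open scoped Pointwise

variable {G : Type*} [Group G]

/-- if `x ∈ P ⊔ M` with `P` a `p`-group and `M` normal then some `p`-power of `x` lies in `M`. -/
theorem exists_pow_mem {p : ℕ} (P M : Subgroup G) [M.Normal] (hP : IsPGroup p ↥P) (x : G)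
    (hx : x ∈ P ⊔ M) : ∃ k : ℕ, x ^ p ^ k ∈ M := by
  rw [Subgroup.mem_sup_of_normal_right] at hx
  obtain ⟨a, ha, m, hm, rfl⟩ := hx
  obtain ⟨k, hk⟩ := hP ⟨a, ha⟩
  have hk' : a ^ p ^ k = 1 := congrArg Subtype.val hk
  refine ⟨k, ?_⟩
  rw [← QuotientGroup.eq_one_iff, QuotientGroup.mk_pow, QuotientGroup.mk_mul,
    (QuotientGroup.eq_one_iff m).mpr hm, mul_one, ← QuotientGroup.mk_pow, hk', QuotientGroup.mk_one]

theorem sup_inf_sup_eq [Finite G] {p : ℕ} [Fact p.Prime] (P : Sylow p G) (M N : Subgroup G)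
    [M.Normal] [N.Normal] (hMN : M ⊓ N = ⊥) :
    ((P : Subgroup G) ⊔ M) ⊓ ((P : Subgroup G) ⊔ N) = (P : Subgroup G) := by
  have hpg : IsPGroup p ↥(((P : Subgroup G) ⊔ M) ⊓ ((P : Subgroup G) ⊔ N)) := by
    rintro ⟨x, hx⟩
    obtain ⟨i, hi⟩ := exists_pow_mem (P : Subgroup G) M P.2 x (Subgroup.mem_inf.mp hx).1
    obtain ⟨j, hj⟩ := exists_pow_mem (P : Subgroup G) N P.2 x (Subgroup.mem_inf.mp hx).2
    refine ⟨i + j, Subtype.ext ?_⟩
    show x ^ p ^ (i + j) = 1
    have h1 : x ^ p ^ (i + j) ∈ M := by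
      rw [pow_add, pow_mul]; exact M.pow_mem hi _
    have h2 : x ^ p ^ (i + j) ∈ N := by
      rw [pow_add, mul_comm, pow_mul]; exact N.pow_mem hj _
    have : x ^ p ^ (i + j) ∈ M ⊓ N := Subgroup.mem_inf.mpr ⟨h1, h2⟩
    rwa [hMN, Subgroup.mem_bot] at this
  exact P.is_maximal' hpg (le_inf le_sup_left le_sup_left)

/-- Let M and N be nontrivial normal subgroups of the finite group G with M ⊓ N trivial, and let p be a prime. Writing n(X) for the number of Sylow p-subgroups of a group X, one has n(G) · n(G/MN) = n(G/M) · n(G/N). -/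
theorem result {G : Type*} [Group G] [Finite G] (p : ℕ) [Fact p.Prime] (M N : Subgroup G) [M.Normal] [N.Normal] (hM : M ≠ ⊥) (hN : N ≠ ⊥) (hMN : M ⊓ N = ⊥) : Nat.card (Sylow p G) * Nat.card (Sylow p (G ⧸ (M ⊔ N))) = Nat.card (Sylow p (G ⧸ M)) * Nat.card (Sylow p (G ⧸ N)) := by
  obtain ⟨P⟩ : Nonempty (Sylow p G) := inferInstance
  rw [Sylow.card_eq_index_normalizer P,
    Cfsg.Agent.Lib.Helper8.card_sylow_quotient_eq_index p (M ⊔ N) P,
    Cfsg.Agent.Lib.Helper8.card_sylow_quotient_eq_index p M P,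
    Cfsg.Agent.Lib.Helper8.card_sylow_quotient_eq_index p N P]
  set A := Subgroup.normalizer (((P : Subgroup G) ⊔ M : Subgroup G) : Set G) with hA
  set B := Subgroup.normalizer (((P : Subgroup G) ⊔ N : Subgroup G) : Set G) with hB
  set D := Subgroup.normalizer ((P : Subgroup G) : Set G) with hD
  set E := Subgroup.normalizer (((P : Subgroup G) ⊔ (M ⊔ N) : Subgroup G) : Set G) with hE
  have hnM : ∀ X : Subgroup G, X ≤ Subgroup.normalizer (M : Set G) := fun X =>
    le_trans le_top (Subgroup.normalizer_eq_top_iff.mpr inferInstance).ge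
  have hnN : ∀ X : Subgroup G, X ≤ Subgroup.normalizer (N : Set G) := fun X =>
    le_trans le_top (Subgroup.normalizer_eq_top_iff.mpr inferInstance).ge
  have hDA : D ≤ A := Cfsg.Agent.Lib.Helper8.le_normalizer_sup le_rfl (hnM D)
  have hDB : D ≤ B := Cfsg.Agent.Lib.Helper8.le_normalizer_sup le_rfl (hnN D)
  have hAE : A ≤ E := by
    have := Cfsg.Agent.Lib.Helper8.le_normalizer_sup (le_refl A) (hnN A)
    rwa [sup_assoc] at this
  have hBE : B ≤ E := by
    have := Cfsg.Agent.Lib.Helper8.le_normalizer_sup (le_refl B) (hnM B)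
    rwa [sup_assoc, sup_comm N M] at this
  have hPA : (P : Subgroup G) ≤ A := Subgroup.le_normalizer.trans hDA
  have hMA : M ≤ A := le_sup_right.trans Subgroup.le_normalizer
  have hNB : N ≤ B := le_sup_right.trans Subgroup.le_normalizer
  -- A ⊓ B = D
  have hABD : A ⊓ B = D := by
    apply le_antisymm
    · have := Cfsg.Agent.Lib.Helper8.le_normalizer_inf (A := A ⊓ B)
        (X := (P : Subgroup G) ⊔ M) (Y := (P : Subgroup G) ⊔ N) inf_le_left inf_le_right
      rwa [sup_inf_sup_eq P M N hMN] at this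
    · exact le_inf hDA hDB
  -- factorization of E
  have hfact : ∀ s ∈ E, ∃ a ∈ A, ∃ b ∈ B, s = a * b := by
    intro s hs
    set L := (P : Subgroup G) ⊔ (M ⊔ N) with hL
    have hPL : (P : Subgroup G) ≤ L := le_sup_left
    have h1 : cj s (P : Subgroup G) ≤ L := by
      have := mem_normalizer_iff_cj.mp hs
      calc cj s (P : Subgroup G) ≤ cj s L := cj_mono s hPL
        _ = L := this
    obtain ⟨n, hn, hle⟩ := Cfsg.Agent.Lib.Lead.pgroup_le_conj_sylow_in_subgroup P L
      (cj s (P : Subgroup G)) hPL h1 (P.2.map _)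
    change cj s (P : Subgroup G) ≤ cj n (P : Subgroup G) at hle
    have heq : cj s (P : Subgroup G) = cj n (P : Subgroup G) :=
      Subgroup.eq_of_le_of_card_ge hle (by rw [card_cj, card_cj])
    have h2 : cj (n⁻¹ * s) (P : Subgroup G) = P := by
      rw [cj_mul, heq, cj_inv_cj]
    have h3 : n⁻¹ * s ∈ D := mem_normalizer_iff_cj.mpr h2
    rw [hL, Subgroup.mem_sup_of_normal_right] at hn
    obtain ⟨x, hx, mn, hmn, rfl⟩ := hn
    rw [Subgroup.mem_sup_of_normal_right] at hmn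
    obtain ⟨m, hm, n', hn', rfl⟩ := hmn
    refine ⟨x * m, A.mul_mem (hPA hx) (hMA hm), n' * ((x * (m * n'))⁻¹ * s),
      B.mul_mem (hNB hn') (hDB h3), ?_⟩
    group
  have hr1 : B.relIndex E = B.relIndex A :=
    Cfsg.Agent.Lib.Helper2.relIndex_eq_of_forall_exists_mul A B E hAE hfact
  have hr2 : D.relIndex A = B.relIndex A := by
    rw [← hABD, Subgroup.inf_relIndex_left]
  have e1 := Subgroup.relIndex_mul_index hDA
  have e2 := Subgroup.relIndex_mul_index hBE
  change D.index * E.index = A.index * B.index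
  rw [← e1, ← e2, hr1, hr2]
  ring

end Cfsg.Agent.S3867
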