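import Mathlib
import Cfsg.Statements.S3869
import Cfsg.Agent.Lib.Helper7.IrredCard

set_option autoImplicit false
open Cfsg

namespace Cfsg.Agent.S3869

open Cfsg.Agent.Lib.Helper7

section
variable {G : Type*} [Group G] [Finite G] {p q : ℕ}

/-- a group all of whose elements have `q`-th power one is `p`-closed for `p ≠ q` -/
theorem isPClosed_of_exp {H : Type*} [Group H] [Finite H] [hp : Fact p.Prime] (hq : q.Prime)
    (hpq : q ≠ p) (hexp : ∀ h : H, h ^ q = 1) : Cfsg.IsPClosed p H := by
  intro P
  have hbot : (P : Subgroup H) = ⊥ := by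
    rw [eq_bot_iff]
    intro g hg
    obtain ⟨k, hk⟩ := P.isPGroup' ⟨g, hg⟩
    have hk' : g ^ p ^ k = 1 := by
      have := congrArg Subtype.val hk
      simpa using this
    have h1 : orderOf g ∣ p ^ k := orderOf_dvd_of_pow_eq_one hk'
    have h2 : orderOf g ∣ q := orderOf_dvd_of_pow_eq_one (hexp g)
    have hcop : Nat.Coprime (p ^ k) q :=
      Nat.Coprime.pow_left k ((Nat.coprime_primes hp.out hq).mpr hpq.symm)
    have h3 : orderOf g = 1 := Nat.eq_one_of_dvd_coprimes hcop h1 h2
    exact Subgroup.mem_bot.mpr (orderOf_eq_one_iff.mp h3)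
  rw [hbot]
  infer_instance

/-- a `p`-group is `p`-closed -/
theorem isPClosed_of_isPGroup {H : Type*} [Group H] [Fact p.Prime]
    (hH : IsPGroup p H) : Cfsg.IsPClosed p H := by
  intro P
  have htop : (⊤ : Subgroup H) = P := P.is_maximal' (IsPGroup.to_subgroup hH ⊤) le_top
  rw [← htop]
  infer_instance

end

/-- Let p and q be distinct primes and G a finite non-abelian group with a normal elementary abelian q-subgroup A that is a minimal normal subgroup of G and has index p. Then A has order q^e with e the multiplicative order of q modulo p, and G is minimal non-p-closed: its Sylow p-subgroups are not normal, while in every proper subgroup and in every proper quotient of G the Sylow p-subgroups are normal. -/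
theorem result {G : Type*} [Group G] [Finite G] {p q : ℕ} [Fact p.Prime] (hq : q.Prime) (hpq : q ≠ p)
    (hna : ¬ IsMulCommutative G) (A : Subgroup G) [A.Normal] (hA : Cfsg.IsElementaryAbelian q A) (hidx : A.index = p)
    (hmin : ∀ B : Subgroup G, B.Normal → B ≤ A → B = ⊥ ∨ B = A) :
    Nat.card ↥A = q ^ orderOf (q : ZMod p) ∧ ¬ Cfsg.IsPClosed p G ∧ (∀ H : Subgroup G, H ≠ ⊤ → Cfsg.IsPClosed p ↥H) ∧
      ∀ (N : Subgroup G) [N.Normal], N ≠ ⊥ → Cfsg.IsPClosed p (G ⧸ N) := by
  classical
  have hpp : p.Prime := Fact.out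
  haveI : Fact q.Prime := ⟨hq⟩
  have hAq : ∀ a ∈ A, a ^ q = 1 := hA.2
  have hAc : ∀ a ∈ A, ∀ b ∈ A, a * b = b * a := by
    intro a ha b hb
    have := hA.1.is_comm.comm ⟨a, ha⟩ ⟨b, hb⟩
    exact congrArg Subtype.val this
  -- `g ^ p ∈ A`
  have hpowA : ∀ g : G, g ^ p ∈ A := by
    intro g
    have h1 : (QuotientGroup.mk g : G ⧸ A) ^ Nat.card (G ⧸ A) = 1 := pow_card_eq_one'
    have h2 : Nat.card (G ⧸ A) = p := by rw [← Subgroup.index_eq_card]; exact hidx
    rw [h2, ← QuotientGroup.mk_pow] at h1
    exact (QuotientGroup.eq_one_iff _).mp h1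
  -- generation
  have hsup : ∀ x : G, x ∉ A → Subgroup.zpowers x ⊔ A = ⊤ := by
    intro x hx
    rcases eq_or_eq_top_of_index_prime hpp A hidx (Subgroup.zpowers x ⊔ A) le_sup_right with h | h
    · exfalso
      apply hx
      rw [← h]
      exact (le_sup_left : Subgroup.zpowers x ≤ _) (Subgroup.mem_zpowers x)
    · exact h
  -- `A ≠ ⊥`
  have hAne : A ≠ ⊥ := by
    intro h
    apply hna
    have hcard : Nat.card G = p := by
      rw [← hidx, h, Subgroup.index_bot]
    haveI : IsCyclic G := isCyclic_of_prime_card hcard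
    exact ⟨⟨fun a b => (IsCyclic.commGroup (α := G)).mul_comm a b⟩⟩
  -- the key fixed-point-freeness
  have L1 : ∀ x : G, x ∉ A → ∀ a ∈ A, x * a = a * x → a = 1 := by
    intro x hx a ha hxa
    by_contra ha1
    set C : Subgroup G := A ⊓ Subgroup.centralizer (Subgroup.zpowers x : Set G) with hC
    have hCA : C ≤ A := inf_le_left
    have hCcomm : ∀ c ∈ C, ∀ h ∈ Subgroup.zpowers x, h * c = c * h := by
      intro c hc h hh
      exact (Subgroup.mem_centralizer_iff.mp hc.2) h hh
    have hCn : C.Normal := by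
      refine normal_of_sup_eq_top (hsup x hx) ?_ ?_
      · intro h hh c hc
        rw [hCcomm c hc h hh, mul_inv_cancel_right]
        exact hc
      · intro k hk c hc
        rw [hAc k hk c (hCA hc), mul_inv_cancel_right]
        exact hc
    have haC : a ∈ C := by
      refine Subgroup.mem_inf.mpr ⟨ha, ?_⟩
      rw [Subgroup.mem_centralizer_iff]
      intro h hh
      obtain ⟨n, rfl⟩ := Subgroup.mem_zpowers_iff.mp hh
      have : Commute x a := hxa
      exact (this.zpow_left n).eq
    have hCeq : C = A := by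
      rcases hmin C hCn hCA with h | h
      · exfalso
        rw [h] at haC
        exact ha1 (Subgroup.mem_bot.mp haC)
      · exact h
    -- `G` is abelian
    apply hna
    refine ⟨⟨fun g₁ g₂ => ?_⟩⟩
    have hg₁ : g₁ ∈ ((Subgroup.zpowers x ⊔ A : Subgroup G) : Set G) := by
      rw [hsup x hx]; trivial
    have hg₂ : g₂ ∈ ((Subgroup.zpowers x ⊔ A : Subgroup G) : Set G) := by
      rw [hsup x hx]; trivial
    rw [Subgroup.mul_normal] at hg₁ hg₂
    obtain ⟨h₁, hh₁, n₁, hn₁, rfl⟩ := Set.mem_mul.mp hg₁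
    obtain ⟨h₂, hh₂, n₂, hn₂, rfl⟩ := Set.mem_mul.mp hg₂
    have hn₁C : n₁ ∈ C := by rw [hCeq]; exact hn₁
    have hn₂C : n₂ ∈ C := by rw [hCeq]; exact hn₂
    have c1 : Commute h₁ h₂ := by
      obtain ⟨i, rfl⟩ := Subgroup.mem_zpowers_iff.mp hh₁
      obtain ⟨j, rfl⟩ := Subgroup.mem_zpowers_iff.mp hh₂
      exact ((Commute.refl x).zpow_left i).zpow_right j
    have c2 : Commute h₁ n₂ := hCcomm n₂ hn₂C h₁ hh₁
    have c3 : Commute n₁ h₂ := (hCcomm n₁ hn₁C h₂ hh₂).symm
    have c4 : Commute n₁ n₂ := hAc n₁ hn₁ n₂ hn₂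
    exact ((c1.mul_right c2).mul_left (c3.mul_right c4)).eq
  -- the order of `G`
  have hcardG : Nat.card G = Nat.card A * p := by
    rw [← hidx]; exact (Subgroup.card_mul_index A).symm
  -- an element of order `p`
  obtain ⟨x, hx⟩ := exists_prime_orderOf_dvd_card' (G := G) p (by rw [hcardG]; exact dvd_mul_left _ _)
  have hxp : x ^ p = 1 := by rw [← hx]; exact pow_orderOf_eq_one x
  have hx1 : x ≠ 1 := by
    intro h
    rw [h, orderOf_one] at hx
    exact hpp.one_lt.ne hx
  have hcop : Nat.Coprime p q := (Nat.coprime_primes hpp hq).mpr hpq.symm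
  have hxA : x ∉ A := by
    intro h
    have h2 : orderOf x ∣ q := orderOf_dvd_of_pow_eq_one (hAq x h)
    rw [hx] at h2
    exact hpq ((Nat.prime_dvd_prime_iff_eq hpp hq).mp h2).symm
  refine ⟨?_, ?_, ?_, ?_⟩
  · -- the order of `A`
    haveI : Nontrivial A := (Subgroup.nontrivial_iff_ne_bot A).mpr hAne
    let σ : MulAut A := MulAut.conjNormal x
    have hσapp : ∀ a : A, ((σ a : A) : G) = x * a * x⁻¹ := fun a => MulAut.conjNormal_apply x a
    have hσp : σ ^ p = 1 := by
      show (MulAut.conjNormal x : MulAut A) ^ p = 1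
      rw [← map_pow, hxp, map_one]
    have hσk : ∀ (k : ℕ) (a : A), (((σ ^ k) a : A) : G) = x ^ k * a * (x ^ k)⁻¹ := by
      intro k a
      have : σ ^ k = MulAut.conjNormal (x ^ k) := by
        show (MulAut.conjNormal x : MulAut A) ^ k = _
        rw [map_pow]
      rw [this]
      exact MulAut.conjNormal_apply (x ^ k) a
    refine card_eq_of_irreducible' (p := p) (q := q) ?_ hpq.symm ?_ σ hσp ?_ ?_
    · intro a b
      exact Subtype.ext (hAc a a.2 b b.2)
    · intro a
      exact Subtype.ext (hAq a a.2)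
    · intro a ha
      have h1 : x * (a : G) * x⁻¹ = a := by rw [← hσapp, ha]
      have h2 : x * (a : G) = a * x := by
        calc x * (a : G) = (x * (a : G) * x⁻¹) * x := by group
          _ = a * x := by rw [h1]
      have := L1 x hxA a a.2 h2
      exact Subtype.ext this
    · intro B hB
      set B' : Subgroup G := B.map A.subtype with hB'
      have hB'A : B' ≤ A := by
        rintro _ ⟨b, _, rfl⟩
        exact b.2
      have hB'n : B'.Normal := by
        refine normal_of_sup_eq_top (hsup x hxA) ?_ ?_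
        · intro h hh b hb
          obtain ⟨n, rfl⟩ := (isOfFinOrder_of_finite x).mem_powers_iff_mem_zpowers.mpr hh
          obtain ⟨b₀, hb₀, rfl⟩ := hb
          have hmem : ∀ k : ℕ, (σ ^ k) b₀ ∈ B := by
            intro k
            induction k with
            | zero => simpa using hb₀
            | succ k ih =>
              rw [pow_succ', MulAut.mul_apply]
              exact hB _ ih
          refine ⟨(σ ^ n) b₀, hmem n, ?_⟩
          rw [Subgroup.coe_subtype, hσk]
        · intro k hk b hb
          rw [hAc k hk b (hB'A hb), mul_inv_cancel_right]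
          exact hb
      rcases hmin B' hB'n hB'A with h | h
      · left
        exact (Subgroup.map_eq_bot_iff_of_injective B A.subtype_injective).mp h
      · right
        rw [eq_top_iff]
        intro a _
        have : (a : G) ∈ B' := by rw [h]; exact a.2
        obtain ⟨b, hb, hba⟩ := this
        have : b = a := Subtype.ext hba
        rw [← this]; exact hb
  · -- not `p`-closed
    intro hcl
    obtain ⟨P, hP⟩ := IsPGroup.exists_le_sylow (IsPGroup.of_card (G := Subgroup.zpowers x) (n := 1) (by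
      rw [Nat.card_zpowers, hx, pow_one]))
    haveI : (P : Subgroup G).Normal := hcl P
    have hxP : x ∈ (P : Subgroup G) := hP (Subgroup.mem_zpowers x)
    have hPA : ∀ g, g ∈ (P : Subgroup G) → g ∈ A → g = 1 := by
      intro g hgP hgA
      obtain ⟨k, hk⟩ := P.isPGroup' ⟨g, hgP⟩
      have hk' : g ^ p ^ k = 1 := by
        have := congrArg Subtype.val hk
        simpa using this
      have h1 : orderOf g ∣ p ^ k := orderOf_dvd_of_pow_eq_one hk'
      have h2 : orderOf g ∣ q := orderOf_dvd_of_pow_eq_one (hAq g hgA)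
      have h3 : orderOf g = 1 := Nat.eq_one_of_dvd_coprimes (Nat.Coprime.pow_left k hcop) h1 h2
      exact orderOf_eq_one_iff.mp h3
    apply hAne
    rw [eq_bot_iff]
    intro a ha
    have h1 : x * a * x⁻¹ * a⁻¹ ∈ (P : Subgroup G) := by
      have h2 : a * x⁻¹ * a⁻¹ ∈ (P : Subgroup G) :=
        ‹(P : Subgroup G).Normal›.conj_mem _ (inv_mem hxP) a
      have := mul_mem hxP h2
      have e : x * (a * x⁻¹ * a⁻¹) = x * a * x⁻¹ * a⁻¹ := by group
      rw [e] at this
      exact this
    have h2 : x * a * x⁻¹ * a⁻¹ ∈ A :=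
      mul_mem (‹A.Normal›.conj_mem a ha x) (inv_mem ha)
    have h3 := hPA _ h1 h2
    have h4 : x * a = a * x := by
      have : x * a * x⁻¹ * a⁻¹ * (a * x) = a * x := by rw [h3, one_mul]
      rw [← this]; group
    exact Subgroup.mem_bot.mpr (L1 x hxA a ha h4)
  · -- proper subgroups
    intro H hH
    by_cases hHA : H ≤ A
    · exact isPClosed_of_exp hq hpq (fun h => Subtype.ext (hAq h (hHA h.2)))
    · obtain ⟨h₀, hh₀, hh₀A⟩ := SetLike.not_le_iff_exists.mp hHA
      have hHsup : H ⊔ A = ⊤ := by
        rw [eq_top_iff, ← hsup h₀ hh₀A]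
        exact sup_le_sup_right (Subgroup.zpowers_le.mpr hh₀) A
      have hIn : (H ⊓ A).Normal := by
        refine normal_of_sup_eq_top hHsup ?_ ?_
        · intro h hh c hc
          have hc' := Subgroup.mem_inf.mp hc
          exact Subgroup.mem_inf.mpr
            ⟨mul_mem (mul_mem hh hc'.1) (inv_mem hh), ‹A.Normal›.conj_mem c hc'.2 h⟩
        · intro k hk c hc
          rw [hAc k hk c (Subgroup.mem_inf.mp hc).2, mul_inv_cancel_right]
          exact hc
      have hI : H ⊓ A = ⊥ := by
        rcases hmin (H ⊓ A) hIn inf_le_right with h | h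
        · exact h
        · exfalso
          apply hH
          have hAH : A ≤ H := by rw [← h]; exact inf_le_left
          rw [eq_top_iff, ← hHsup]
          exact sup_le le_rfl hAH
      apply isPClosed_of_isPGroup
      intro h
      refine ⟨1, Subtype.ext ?_⟩
      rw [pow_one]
      have h1 : (h : G) ^ p ∈ H ⊓ A := ⟨pow_mem h.2 p, hpowA h⟩
      rw [hI] at h1
      simpa using Subgroup.mem_bot.mp h1
  · -- proper quotients
    intro N hN hNne
    have hIn : (N ⊓ A).Normal := inferInstance
    rcases hmin (N ⊓ A) hIn inf_le_right with h | h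
    · exfalso
      obtain ⟨n, hn, hn1⟩ := (Subgroup.ne_bot_iff_exists_ne_one (H := N)).mp hNne |>.imp
        (fun n hn => hn) |> fun ⟨n, hn⟩ => (⟨n.1, n.2, fun h => hn (Subtype.ext h)⟩ : ∃ n : G, n ∈ N ∧ n ≠ 1)
      have hnA : n ∉ A := by
        intro hnA
        have : n ∈ N ⊓ A := ⟨hn, hnA⟩
        rw [h] at this
        exact hn1 (Subgroup.mem_bot.mp this)
      apply hAne
      rw [eq_bot_iff]
      intro a ha
      have h1 : n * a * n⁻¹ * a⁻¹ ∈ N := by
        have h2 : a * n⁻¹ * a⁻¹ ∈ N := hN.conj_mem _ (inv_mem hn) a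
        have := mul_mem hn h2
        have e : n * (a * n⁻¹ * a⁻¹) = n * a * n⁻¹ * a⁻¹ := by group
        rw [e] at this
        exact this
      have h2 : n * a * n⁻¹ * a⁻¹ ∈ A :=
        mul_mem (‹A.Normal›.conj_mem a ha n) (inv_mem ha)
      have h3 : n * a * n⁻¹ * a⁻¹ = 1 := by
        have : n * a * n⁻¹ * a⁻¹ ∈ N ⊓ A := ⟨h1, h2⟩
        rw [h] at this
        exact Subgroup.mem_bot.mp this
      have h4 : n * a = a * n := by
        have : n * a * n⁻¹ * a⁻¹ * (a * n) = a * n := by rw [h3, one_mul]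
        rw [← this]; group
      exact Subgroup.mem_bot.mpr (L1 n hnA a ha h4)
    · have hAN : A ≤ N := by rw [← h]; exact inf_le_left
      apply isPClosed_of_isPGroup
      intro g
      obtain ⟨g', rfl⟩ := QuotientGroup.mk_surjective g
      refine ⟨1, ?_⟩
      rw [pow_one, ← QuotientGroup.mk_pow]
      exact (QuotientGroup.eq_one_iff _).mpr (hAN (hpowA g'))

end Cfsg.Agent.S3869
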