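import Mathlib
import Cfsg.Statements.S3868
import Cfsg.Agent.S3869
import Cfsg.Agent.Lib.Helper7.MinNonClosed
import Cfsg.Agent.Lib.Lead.CoprimeSylow4

set_option autoImplicit false
open Cfsg

namespace Cfsg.Agent.S3868

open Cfsg.Agent.Lib Cfsg.Agent.Lib.Helper7

section
variable {G : Type*} [Group G] [Finite G] {p : ℕ} [hp : Fact p.Prime]

/-- Sylow subgroups of a normal `p`-closed subgroup are normal in the whole group -/
theorem map_sylow_normal_of_pclosed (K : Subgroup G) [K.Normal] (hK : Cfsg.IsPClosed p K)
    (R : Sylow p K) : ((R : Subgroup K).map K.subtype).Normal := by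
  have h1 : (R : Subgroup K).Normal := hK R
  haveI := Sylow.characteristic_of_normal R h1
  exact ConjAct.normal_of_characteristic_of_normal

/-- a Sylow subgroup inside a normal `p`-closed subgroup is normal -/
theorem sylow_normal_of_le_normal_pclosed (P : Sylow p G) (K : Subgroup G) [K.Normal]
    (hPK : (P : Subgroup G) ≤ K) (hK : Cfsg.IsPClosed p K) : (P : Subgroup G).Normal := by
  have h2 := map_sylow_normal_of_pclosed K hK (P.subtype hPK)
  have h3 : ((P.subtype hPK : Sylow p K) : Subgroup K).map K.subtype = P := by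
    rw [Sylow.coe_subtype, Subgroup.subgroupOf_map_subtype, inf_eq_left.mpr hPK]
  rwa [h3] at h2

/-- if the quotient by `N` is `p`-closed then `P ⊔ N` is normal -/
theorem sup_normal_of_quotient_pclosed (P : Sylow p G) (N : Subgroup G) [N.Normal]
    (hq : Cfsg.IsPClosed p (G ⧸ N)) : ((P : Subgroup G) ⊔ N).Normal := by
  have h1 : ((P.mapSurjective (QuotientGroup.mk'_surjective N) : Sylow p (G ⧸ N)) :
      Subgroup (G ⧸ N)).Normal := hq _
  have h2 := h1.comap (QuotientGroup.mk' N)
  rw [Sylow.coe_mapSurjective, Lead.comap_map_mk] at h2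
  exact h2

end

/-- Structure of the non-simple minimal non-p-closed groups. Call a finite group p-closed when its Sylow p-subgroups are normal, and minimal non-p-closed when it is not p-closed but every proper subgroup and every proper quotient is. If such a group G is not simple, then there is a prime q ≠ p such that G has order p · q^e, where e is the multiplicative order of q modulo p, and G has a normal subgroup A of order q^e that is elementary abelian and is a minimal normal subgroup of G (so G is the semidirect product of A by a group of order p acting irreducibly). -/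
theorem result {G : Type*} [Group G] [Finite G] {p : ℕ} [Fact p.Prime]
    (hnc : ¬ Cfsg.IsPClosed p G) (hsub : ∀ H : Subgroup G, H ≠ ⊤ → Cfsg.IsPClosed p ↥H)
    (hquo : ∀ (N : Subgroup G) [N.Normal], N ≠ ⊥ → Cfsg.IsPClosed p (G ⧸ N)) (hns : ¬ IsSimpleGroup G) :
    ∃ q : ℕ, q.Prime ∧ q ≠ p ∧ Nat.card G = p * q ^ orderOf (q : ZMod p) ∧
      ∃ A : Subgroup G, A.Normal ∧ Nat.card ↥A = q ^ orderOf (q : ZMod p) ∧ Cfsg.IsElementaryAbelian q A ∧
        ∀ B : Subgroup G, B.Normal → B ≤ A → B = ⊥ ∨ B = A := by
  classical
  have hpp : p.Prime := Fact.out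
  obtain ⟨P, hPnn⟩ : ∃ P : Sylow p G, ¬ (P : Subgroup G).Normal := by
    by_contra h
    push Not at h
    exact hnc h
  haveI : Nontrivial G := by
    by_contra h
    rw [not_nontrivial_iff_subsingleton] at h
    apply hPnn
    exact ⟨fun n hn g => by rw [Subsingleton.elim (g * n * g⁻¹) n]; exact hn⟩
  obtain ⟨N, hNn, hNne, hNtop, hmin⟩ := exists_min_normal_proper hns
  haveI := hNn
  -- `P ⊔ N = ⊤`
  have hPNn : ((P : Subgroup G) ⊔ N).Normal := sup_normal_of_quotient_pclosed P N (hquo N hNne)
  have hPN : (P : Subgroup G) ⊔ N = ⊤ := by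
    by_contra hne
    exact hPnn (sylow_normal_of_le_normal_pclosed P _ le_sup_left (hsub _ hne))
  -- `N` is a `p'`-group
  have hpN : ¬ p ∣ Nat.card N := by
    obtain ⟨R⟩ : Nonempty (Sylow p N) := inferInstance
    have hRn := map_sylow_normal_of_pclosed N (hsub N hNtop) R
    rcases hmin _ hRn (Subgroup.map_subtype_le _) with h | h
    · have h3 := (Subgroup.map_eq_bot_iff_of_injective _ N.subtype_injective).mp h
      have h4 := R.card_eq_multiplicity
      rw [h3, Subgroup.card_bot] at h4
      have h5 := (Nat.pow_eq_one.mp h4.symm).resolve_left hpp.one_lt.ne'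
      rcases (Nat.factorization_eq_zero_iff _ _).mp h5 with h6 | h6 | h6
      · exact absurd hpp h6
      · exact h6
      · exact absurd h6 Nat.card_pos.ne'
    · exfalso
      have hNp : IsPGroup p N := by
        rw [← h]
        exact R.isPGroup'.map _
      have hle := Lead.normal_pgroup_le_sylow p N hNp P
      apply hPnn
      have : (P : Subgroup G) = ⊤ := by
        rw [← hPN]; exact (sup_eq_left.mpr hle).symm
      rw [this]; infer_instance
  have H1 : ∀ K : Subgroup G, K ≠ ⊤ → ∀ R : Subgroup G, R ≤ P → R ≤ K →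
      Nat.card R = p ^ (Nat.card K).factorization p → K ≤ Subgroup.normalizer (R : Set G) := by
    intro K hK R _ hRK hcard
    have hcl := hsub K hK
    have hcard' : Nat.card (R.subgroupOf K) = p ^ (Nat.card K).factorization p := by
      rw [Lead.card_subgroupOf_of_le hRK, hcard]
    have := hcl (Sylow.ofCard (R.subgroupOf K) hcard')
    rw [Sylow.coe_ofCard] at this
    exact (Subgroup.normal_subgroupOf_iff_le_normalizer hRK).mp this
  have H2 : ∀ R : Subgroup G, R.Normal → R ≤ P → R = ⊥ := by
    intro R hR hRP
    by_contra hRne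
    haveI := hR
    have := sup_normal_of_quotient_pclosed P R (hquo R hRne)
    rw [sup_eq_left.mpr hRP] at this
    exact hPnn this
  obtain ⟨q, hq, hqp, hEA, hidx⟩ := minNonClosed_skeleton P N hNne hmin hPN hpN hPnn H1 H2
  have hna : ¬ IsMulCommutative G := by
    intro hc
    apply hPnn
    exact ⟨fun n hn g => by
      have : g * n * g⁻¹ = n := by rw [hc.is_comm.comm g n, mul_inv_cancel_right]
      rw [this]; exact hn⟩
  obtain ⟨hcardN, -, -, -⟩ := S3869.result hq hqp hna N hEA hidx hmin
  refine ⟨q, hq, hqp, ?_, N, hNn, hcardN, hEA, hmin⟩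
  rw [← hcardN, ← hidx, mul_comm]
  exact (Subgroup.card_mul_index N).symm

end Cfsg.Agent.S3868
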