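import Mathlib
import Cfsg.Statements.S3870
import Cfsg.Agent.Lib.Lead.CoprimeSylow4

set_option autoImplicit false
open Cfsg

namespace Cfsg.Agent.S3870

open scoped Pointwise

/-- in a `p`-closed group, every `p`-subgroup lies in the given Sylow `p`-subgroup. -/
theorem le_sylow_of_isPClosed {X : Type*} [Group X] [Finite X] {p : ℕ} [Fact p.Prime]
    (h : Cfsg.IsPClosed p X) (S : Sylow p X) (H : Subgroup X) (hH : IsPGroup p H) :
    H ≤ S := by
  obtain ⟨S', hS'⟩ := hH.exists_le_sylow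
  have : S' = S := by
    haveI := (Sylow.unique_of_normal S (h S))
    exact Subsingleton.elim _ _
  rw [← this]; exact hS'

/-- TI part. -/
theorem sylow_ti {G : Type*} [Group G] [Finite G] [IsSimpleGroup G] {p : ℕ} [Fact p.Prime]
    (hsub : ∀ H : Subgroup G, H ≠ ⊤ → Cfsg.IsPClosed p ↥H) :
    ∀ P Q : Sylow p G, P ≠ Q → (P : Subgroup G) ⊓ (Q : Subgroup G) = ⊥ := by
  by_contra hcon
  push_neg at hcon
  obtain ⟨P₀, Q₀, hPQ₀, hD₀⟩ := hcon
  haveI : Nonempty {pq : Sylow p G × Sylow p G // pq.1 ≠ pq.2} := ⟨⟨(P₀, Q₀), hPQ₀⟩⟩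
  obtain ⟨⟨⟨P, Q⟩, hPQ⟩, hmax⟩ := Finite.exists_max
    (fun x : {pq : Sylow p G × Sylow p G // pq.1 ≠ pq.2} =>
      Nat.card ↥((x.1.1 : Subgroup G) ⊓ (x.1.2 : Subgroup G)))
  simp only at hPQ hmax
  set D : Subgroup G := (P : Subgroup G) ⊓ (Q : Subgroup G) with hD
  have hDne : D ≠ ⊥ := by
    intro h
    have h1 := hmax ⟨(P₀, Q₀), hPQ₀⟩
    simp only at h1
    rw [h, Subgroup.card_bot] at h1
    have : Nat.card ↥((P₀ : Subgroup G) ⊓ (Q₀ : Subgroup G)) = 1 :=
      le_antisymm h1 Nat.card_pos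
    exact hD₀ (Subgroup.card_eq_one.mp this)
  have hDP : D < (P : Subgroup G) := by
    refine lt_of_le_of_ne inf_le_left ?_
    intro h
    apply hPQ
    have hle : (P : Subgroup G) ≤ Q := by rw [← h]; exact inf_le_right
    exact Sylow.ext (Subgroup.eq_of_le_of_card_ge hle
      (by rw [Sylow.card_eq_multiplicity, Sylow.card_eq_multiplicity]))
  have hDQ : D < (Q : Subgroup G) := by
    refine lt_of_le_of_ne inf_le_right ?_
    intro h
    apply hPQ
    have hle : (Q : Subgroup G) ≤ P := by rw [← h]; exact inf_le_left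
    exact (Sylow.ext (Subgroup.eq_of_le_of_card_ge hle
      (by rw [Sylow.card_eq_multiplicity, Sylow.card_eq_multiplicity]))).symm
  set N := Subgroup.normalizer (D : Set G) with hN
  have hNtop : N ≠ ⊤ := by
    intro h
    have hn : D.Normal := Subgroup.normalizer_eq_top_iff.mp h
    rcases hn.eq_bot_or_eq_top with h1 | h1
    · exact hDne h1
    · rw [h1] at hDP
      exact not_top_lt hDP
  have hcl := hsub N hNtop
  obtain ⟨S⟩ : Nonempty (Sylow p ↥N) := inferInstance
  -- the image of S in G lies in a Sylow subgroup T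
  have hS' : IsPGroup p ↥((S : Subgroup ↥N).map N.subtype) :=
    S.2.map N.subtype
  obtain ⟨T, hT⟩ := hS'.exists_le_sylow
  have key : ∀ R : Sylow p G, D < (R : Subgroup G) → R = T := by
    intro R hDR
    have h1 := Cfsg.Agent.Lib.Lead.pgroup_normalizer_grows p (R : Subgroup G) D R.2 hDR
    have h2 : ((R : Subgroup G) ⊓ N).subgroupOf N ≤ S :=
      le_sylow_of_isPClosed hcl S _ ((R.2.to_le inf_le_left).comap_subtype)
    have h3 : (R : Subgroup G) ⊓ N ≤ (T : Subgroup G) := by
      intro x hx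
      apply hT
      exact ⟨⟨x, hx.2⟩, h2 (Subgroup.mem_subgroupOf.mpr hx), rfl⟩
    by_contra hne
    have h4 := hmax ⟨(R, T), hne⟩
    simp only at h4
    have h5 : Nat.card ↥D < Nat.card ↥((R : Subgroup G) ⊓ N) := by
      have hle := Subgroup.card_dvd_of_le h1.le
      rcases (Nat.le_of_dvd Nat.card_pos hle).lt_or_eq with h | h
      · exact h
      · exact absurd (Subgroup.eq_of_le_of_card_ge h1.le h.ge) h1.ne
    have h6 : Nat.card ↥((R : Subgroup G) ⊓ N) ≤ Nat.card ↥((R : Subgroup G) ⊓ (T : Subgroup G)) :=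
      Nat.le_of_dvd Nat.card_pos (Subgroup.card_dvd_of_le (le_inf inf_le_left h3))
    omega
  exact hPQ ((key P hDP).trans (key Q hDQ).symm)

/-- Let G be a finite simple group whose Sylow p-subgroups are not normal but such that every proper subgroup of G has a normal Sylow p-subgroup. Then any two distinct Sylow p-subgroups of G intersect trivially, and for every Sylow p-subgroup P the normalizer of every non-identity subgroup of P lies in the normalizer of P. -/
theorem result {G : Type*} [Group G] [Finite G] [IsSimpleGroup G] {p : ℕ} [Fact p.Prime]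
    (hnc : ¬ Cfsg.IsPClosed p G) (hsub : ∀ H : Subgroup G, H ≠ ⊤ → Cfsg.IsPClosed p ↥H) :
    (∀ P Q : Sylow p G, P ≠ Q → (P : Subgroup G) ⊓ (Q : Subgroup G) = ⊥) ∧
      ∀ (P : Sylow p G) (R : Subgroup G), R ≤ P → R ≠ ⊥ →
        Subgroup.normalizer (R : Set G) ≤ Subgroup.normalizer ((P : Subgroup G) : Set G) := by
  have hTI := sylow_ti (p := p) hsub
  refine ⟨hTI, ?_⟩
  intro P R hRP hR g hg
  refine (Sylow.smul_eq_iff_mem_normalizer (g := g) (P := P)).mp ?_
  by_contra hne
  have h1 := hTI (g • P) P hne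
  apply hR
  rw [eq_bot_iff, ← h1]
  refine le_inf ?_ hRP
  intro x hx
  rw [Sylow.coe_subgroup_smul]
  rw [Subgroup.mem_normalizer_iff_map_conj_eq] at hg
  rw [← hg] at hx
  obtain ⟨y, hy, rfl⟩ := hx
  exact ⟨y, hRP hy, rfl⟩

end Cfsg.Agent.S3870
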