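import Mathlib
import Cfsg.Statements.S3873
import Cfsg.Agent.S3869
import Cfsg.Agent.Lib.Helper7.MinNonClosed

set_option autoImplicit false
open Cfsg

namespace Cfsg.Agent.S3873

open Cfsg.Agent.Lib Cfsg.Agent.Lib.Helper7

/-- Say that a finite group is p-exponent closed when its elements of order dividing p form a subgroup. Let G be a finite group that is not p-exponent closed, but all of whose proper subgroups and proper quotients are, and suppose G is neither simple nor a p-group. Then there is a prime q ≠ p such that G has order p · q^e, where e is the multiplicative order of q modulo p, and G has a normal elementary abelian subgroup of order q^e that is a minimal normal subgroup of G. -/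
theorem result {G : Type*} [Group G] [Finite G] {p : ℕ} [Fact p.Prime]
    (hnc : ¬ (∃ H : Subgroup G, (H : Set G) = {g : G | g ^ p = 1})) (hsub : ∀ K : Subgroup G, K ≠ ⊤ → (∃ H : Subgroup ↥K, (H : Set ↥K) = {g : ↥K | g ^ p = 1}))
    (hquo : ∀ (N : Subgroup G) [N.Normal], N ≠ ⊥ → (∃ H : Subgroup (G ⧸ N), (H : Set (G ⧸ N)) = {g : (G ⧸ N) | g ^ p = 1}))
    (hns : ¬ IsSimpleGroup G) (hnp : ¬ IsPGroup p G) :
    ∃ q : ℕ, q.Prime ∧ q ≠ p ∧ Nat.card G = p * q ^ orderOf (q : ZMod p) ∧
      ∃ A : Subgroup G, A.Normal ∧ Nat.card ↥A = q ^ orderOf (q : ZMod p) ∧ Cfsg.IsElementaryAbelian q A ∧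
        ∀ B : Subgroup G, B.Normal → B ≤ A → B = ⊥ ∨ B = A := by
  classical
  have hpp : p.Prime := Fact.out
  haveI : Nontrivial G := by
    by_contra h
    rw [not_nontrivial_iff_subsingleton] at h
    apply hnp
    intro g
    exact ⟨0, Subsingleton.elim _ _⟩
  -- `G` is generated by the elements with `g ^ p = 1`
  have hgen : Subgroup.closure {g : G | g ^ p = 1} = ⊤ := by
    by_contra hne
    obtain ⟨H, hH⟩ := hsub _ hne
    apply hnc
    refine ⟨H.map (Subgroup.subtype _), ?_⟩
    ext g
    simp only [Subgroup.coe_map, Set.mem_image, SetLike.mem_coe, Set.mem_setOf_eq]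
    constructor
    · rintro ⟨k, hk, rfl⟩
      have : k ∈ (H : Set _) := hk
      rw [hH] at this
      have h2 : k ^ p = 1 := this
      have := congrArg Subtype.val h2
      simpa using this
    · intro hg
      have hgK : g ∈ Subgroup.closure {g : G | g ^ p = 1} := Subgroup.subset_closure hg
      refine ⟨⟨g, hgK⟩, ?_, rfl⟩
      have : (⟨g, hgK⟩ : Subgroup.closure {g : G | g ^ p = 1}) ∈ (H : Set _) := by
        rw [hH]
        show (⟨g, hgK⟩ : Subgroup.closure {g : G | g ^ p = 1}) ^ p = 1
        exact Subtype.ext (by simpa using hg)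
      exact this
  -- proper quotients have exponent `p`
  have hquo' : ∀ (R : Subgroup G) [R.Normal], R ≠ ⊥ → ∀ g : G, g ^ p ∈ R := by
    intro R hR hRne g
    obtain ⟨H, hH⟩ := hquo R hRne
    have hle : Subgroup.closure {g : G | g ^ p = 1} ≤ H.comap (QuotientGroup.mk' R) := by
      rw [Subgroup.closure_le]
      intro x hx
      have hx' : x ^ p = 1 := hx
      show (QuotientGroup.mk' R x) ∈ (H : Set (G ⧸ R))
      rw [hH]
      show (QuotientGroup.mk' R x) ^ p = 1
      rw [← map_pow, hx', map_one]
    rw [hgen] at hle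
    have hg : (QuotientGroup.mk' R g) ∈ (H : Set (G ⧸ R)) := hle (Subgroup.mem_top g)
    rw [hH] at hg
    have hg' : (QuotientGroup.mk' R g) ^ p = 1 := hg
    rw [← map_pow] at hg'
    exact (QuotientGroup.eq_one_iff _).mp hg'
  obtain ⟨N, hNn, hNne, hNtop, hmin⟩ := exists_min_normal_proper hns
  haveI := hNn
  -- `N` is a `p'`-group
  have hpN : ¬ p ∣ Nat.card N := by
    obtain ⟨H, hH⟩ := hsub N hNtop
    have hHmem : ∀ g : N, g ∈ H ↔ g ^ p = 1 := by
      intro g
      have : g ∈ (H : Set N) ↔ g ∈ {g : N | g ^ p = 1} := by rw [hH]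
      exact this
    haveI hHc : H.Characteristic := by
      rw [Subgroup.characteristic_iff_comap_eq]
      intro φ
      ext g
      rw [Subgroup.mem_comap, hHmem, hHmem, ← map_pow]
      constructor
      · intro h
        have h' : φ (g ^ p) = 1 := h
        exact φ.injective (by rw [h', map_one])
      · intro h
        show φ (g ^ p) = 1
        rw [h, map_one]
    have hHn : (H.map N.subtype).Normal := ConjAct.normal_of_characteristic_of_normal
    rcases hmin _ hHn (Subgroup.map_subtype_le _) with h | h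
    · intro hdvd
      obtain ⟨z, hz⟩ := exists_prime_orderOf_dvd_card' (G := N) p hdvd
      have h3 := (Subgroup.map_eq_bot_iff_of_injective _ N.subtype_injective).mp h
      have hzH : z ∈ H := by
        rw [hHmem, ← hz]; exact pow_orderOf_eq_one z
      rw [h3, Subgroup.mem_bot] at hzH
      rw [hzH, orderOf_one] at hz
      exact hpp.one_lt.ne hz
    · exfalso
      apply hnp
      intro g
      refine ⟨2, ?_⟩
      have h1 : g ^ p ∈ H.map N.subtype := by rw [h]; exact hquo' N hNne g
      obtain ⟨k, hk, hkg⟩ := h1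
      have h2 : k ^ p = 1 := (hHmem k).mp hk
      have h3 : (g ^ p) ^ p = 1 := by
        rw [← hkg]
        have := congrArg Subtype.val h2
        simpa using this
      rw [pow_two, pow_mul]; exact h3
  obtain ⟨P⟩ : Nonempty (Sylow p G) := inferInstance
  obtain ⟨n, hn⟩ := IsPGroup.iff_card.mp P.isPGroup'
  have hcop : (Nat.card (P : Subgroup G)).Coprime (Nat.card N) := by
    rw [hn]; exact Nat.Coprime.pow_left n ((Nat.Prime.coprime_iff_not_dvd hpp).mpr hpN)
  have hdisj : (P : Subgroup G) ⊓ N = ⊥ :=
    disjoint_iff.mp (Subgroup.disjoint_of_coprime_natCard hcop)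
  -- `P` has exponent `p`
  have hPexp : ∀ g ∈ (P : Subgroup G), g ^ p = 1 := by
    intro g hg
    have : g ^ p ∈ (P : Subgroup G) ⊓ N := ⟨pow_mem hg p, hquo' N hNne g⟩
    rw [hdisj] at this
    exact Subgroup.mem_bot.mp this
  -- `P ⊔ N = ⊤`
  have hPN : (P : Subgroup G) ⊔ N = ⊤ := by
    have hquoP : IsPGroup p (G ⧸ N) := by
      intro g
      obtain ⟨g', rfl⟩ := QuotientGroup.mk_surjective g
      refine ⟨1, ?_⟩
      rw [pow_one, ← QuotientGroup.mk_pow]
      exact (QuotientGroup.eq_one_iff _).mpr (hquo' N hNne g')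
    have h1 : (⊤ : Subgroup (G ⧸ N)) =
        (P.mapSurjective (QuotientGroup.mk'_surjective N) : Sylow p (G ⧸ N)) :=
      (P.mapSurjective (QuotientGroup.mk'_surjective N)).is_maximal'
        (IsPGroup.to_subgroup hquoP ⊤) le_top
    rw [Sylow.coe_mapSurjective] at h1
    have h2 := Lead.comap_map_mk N (P : Subgroup G)
    rw [← h1, Subgroup.comap_top] at h2
    exact h2.symm
  -- `P` is not normal
  have hPnn : ¬ (P : Subgroup G).Normal := by
    intro hPn
    apply hnc
    refine ⟨P, ?_⟩
    ext g
    show g ∈ (P : Subgroup G) ↔ g ^ p = 1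
    constructor
    · exact hPexp g
    · intro hg
      have hzp : IsPGroup p (Subgroup.zpowers g) := by
        rintro ⟨x, hx⟩
        obtain ⟨k, rfl⟩ := Subgroup.mem_zpowers_iff.mp hx
        refine ⟨1, Subtype.ext ?_⟩
        show (g ^ k) ^ p ^ 1 = 1
        rw [pow_one, ← zpow_natCast, ← zpow_mul, mul_comm, zpow_mul, zpow_natCast, hg, one_zpow]
      obtain ⟨S, hS⟩ := hzp.exists_le_sylow
      obtain ⟨h, hh⟩ := MulAction.exists_smul_eq G P S
      have : S = P := by rw [← hh]; exact Sylow.smul_eq_of_normal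
      rw [← this]
      exact hS (Subgroup.mem_zpowers g)
  have H1 : ∀ K : Subgroup G, K ≠ ⊤ → ∀ R : Subgroup G, R ≤ P → R ≤ K →
      Nat.card R = p ^ (Nat.card K).factorization p → K ≤ Subgroup.normalizer (R : Set G) := by
    intro K hK R hRP hRK hcard
    obtain ⟨H, hH⟩ := hsub K hK
    have hHmem : ∀ g : K, g ∈ H ↔ g ^ p = 1 := by
      intro g
      have : g ∈ (H : Set K) ↔ g ∈ {g : K | g ^ p = 1} := by rw [hH]
      exact this
    have hRH : R.subgroupOf K ≤ H := by
      intro g hg
      rw [hHmem]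
      exact Subtype.ext (by simpa using hPexp g (hRP hg))
    have hHp : IsPGroup p H := by
      intro g
      refine ⟨1, Subtype.ext ?_⟩
      have := (hHmem g).mp g.2
      rw [pow_one]
      exact this
    obtain ⟨j, hj⟩ := IsPGroup.iff_card.mp hHp
    have hjle : j ≤ (Nat.card K).factorization p := by
      have h1 : p ^ j ∣ Nat.card K := by rw [← hj]; exact Subgroup.card_subgroup_dvd_card H
      exact (Nat.Prime.pow_dvd_iff_le_factorization hpp Nat.card_pos.ne').mp h1
    have hHeq : R.subgroupOf K = H := by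
      apply Subgroup.eq_of_le_of_card_ge hRH
      rw [Lead.card_subgroupOf_of_le hRK, hcard, hj]
      exact Nat.pow_le_pow_right hpp.pos hjle
    have hHn : H.Normal := by
      refine ⟨fun x hx g => ?_⟩
      rw [hHmem] at hx ⊢
      rw [conj_pow, hx, mul_one, mul_inv_cancel]
    rw [← hHeq] at hHn
    exact (Subgroup.normal_subgroupOf_iff_le_normalizer hRK).mp hHn
  have H2 : ∀ R : Subgroup G, R.Normal → R ≤ P → R = ⊥ := by
    intro R hR hRP
    by_contra hRne
    haveI := hR
    apply hnp
    intro g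
    refine ⟨2, ?_⟩
    rw [pow_two, pow_mul]
    exact hPexp _ (hRP (hquo' R hRne g))
  obtain ⟨q, hq, hqp, hEA, hidx⟩ := minNonClosed_skeleton P N hNne hmin hPN hpN hPnn H1 H2
  have hna : ¬ IsMulCommutative G := by
    intro hc
    apply hPnn
    exact ⟨fun n hn g => by
      have : g * n * g⁻¹ = n := by rw [hc.is_comm.comm g n, mul_inv_cancel_right]
      rw [this]; exact hn⟩
  obtain ⟨hcardN, -, -, -⟩ := S3869.result hq hqp hna N hEA hidx hmin
  refine ⟨q, hq, hqp, ?_, N, hNn, hcardN, hEA, hmin⟩
  rw [← hcardN, ← hidx, mul_comm]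
  exact (Subgroup.card_mul_index N).symm

end Cfsg.Agent.S3873
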