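import Cfsg.Statements.S3875
import Cfsg.Agent.S0999
import Cfsg.Agent.Lib.Lead.NPC2
import Cfsg.Agent.Lib.Lead.NPC3
-- import your own Cfsg.Agent.* helpers here

set_option autoImplicit false
set_option linter.style.haveILetI false
open Cfsg

namespace Cfsg.Agent.S3875

open Subgroup Cfsg.Agent.Lib.Lead.NPC

theorem card_psl2_general {F : Type} [Field F] [Fintype F] :
    Nat.gcd 2 (Fintype.card F - 1) *
      Nat.card (Matrix.ProjectiveSpecialLinearGroup (Fin 2) F) =
      Fintype.card F * (Fintype.card F ^ 2 - 1) := by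
  have h1 := Cfsg.Agent.Lib.Helper1.card_SL2 (F := F)
  have h2 := Cfsg.Agent.Lib.Helper1.card_center_SL_field (F := F) 2 (by norm_num)
  have h3 := Subgroup.card_mul_index (Subgroup.center (Matrix.SpecialLinearGroup (Fin 2) F))
  have h4 : (Subgroup.center (Matrix.SpecialLinearGroup (Fin 2) F)).index =
      Nat.card (Matrix.ProjectiveSpecialLinearGroup (Fin 2) F) := rfl
  rw [h4, h2, h1] at h3
  exact h3

/-- the simple case: a simple non-`p`-closed group has order at least `p (p² − 1) / 2` -/
theorem simple_bound (p : ℕ) [hp : Fact p.Prime] (hp2 : p ≠ 2) (H : Type) [Group H] [Finite H]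
    [IsSimpleGroup H] (P : Sylow p H) (hP : ¬ (P : Subgroup H).Normal) :
    p * (p ^ 2 - 1) / 2 ≤ Nat.card H := by
  classical
  have hpp := hp.out
  have hpos : 1 ≤ p := hpp.pos
  -- not cyclic
  have hnc : ¬ IsCyclic H := by
    intro hc
    let _ : CommGroup H := IsCyclic.commGroup
    exact hP inferInstance
  -- `p ∣ |H|`
  have hdvd : p ∣ Nat.card H := by
    by_contra hnd
    apply hP
    have h1 := P.card_eq_multiplicity
    rw [Nat.factorization_eq_zero_of_not_dvd hnd, pow_zero] at h1
    rw [Subgroup.card_eq_one.mp h1]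
    infer_instance
  have hX : p * (p ^ 2 - 1) + p = p ^ 3 := by
    have h7 : p * (p ^ 2 - 1) = p * p ^ 2 - p := by
      rw [Nat.mul_sub, mul_one]
    have h8 : p ≤ p * p ^ 2 := Nat.le_mul_of_pos_right _ (by positivity)
    rw [h7, Nat.sub_add_cancel h8]; ring
  rcases Nat.lt_or_ge (Nat.card H) (p ^ 3) with hlt | hge
  · rcases Cfsg.Agent.S0999.result (G := H) hnc p hpp hdvd hlt with
      ⟨F, instF, instFin, hF, h3, ⟨e⟩⟩ | ⟨k, F, instF, instFin, hF, hpk, h3, ⟨e⟩⟩
    · have hcardN : Nat.card H = Nat.card (Matrix.ProjectiveSpecialLinearGroup (Fin 2) F) :=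
        Nat.card_congr e.toEquiv
      have hpsl := card_psl2_general (F := F)
      rw [hF, ← hcardN] at hpsl
      have hodd : Odd p := hpp.odd_of_ne_two hp2
      have hg : Nat.gcd 2 (p - 1) = 2 := by
        obtain ⟨j, hj⟩ := hodd
        rw [hj, Nat.add_sub_cancel]
        exact Nat.gcd_eq_left ⟨j, rfl⟩
      rw [hg] at hpsl
      omega
    · have hcardN : Nat.card H = Nat.card (Matrix.ProjectiveSpecialLinearGroup (Fin 2) F) :=
        Nat.card_congr e.toEquiv
      have hpsl := card_psl2_general (F := F)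
      rw [hF, ← hcardN] at hpsl
      have hk : 2 ≤ k := by
        by_contra h
        push Not at h
        interval_cases k <;> omega
      have hg : Nat.gcd 2 (2 ^ k - 1) = 1 := by
        obtain ⟨j, rfl⟩ : ∃ j, k = j + 1 := ⟨k - 1, by omega⟩
        have : 2 ^ (j + 1) - 1 = 2 * (2 ^ j - 1) + 1 := by
          have : 1 ≤ 2 ^ j := Nat.one_le_two_pow
          rw [pow_succ]; omega
        rw [this]
        simp
      rw [hg, one_mul] at hpsl
      have hq : 4 ≤ 2 ^ k := by
        calc 4 = 2 ^ 2 := by norm_num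
          _ ≤ 2 ^ k := Nat.pow_le_pow_right (by norm_num) hk
      set q := 2 ^ k with hqdef
      have h6 : q * (q ^ 2 - 1) + q = q ^ 3 := by
        have h7 : q * (q ^ 2 - 1) = q * q ^ 2 - q := by
          rw [Nat.mul_sub, mul_one]
        have h8 : q ≤ q * q ^ 2 := Nat.le_mul_of_pos_right _ (by positivity)
        rw [h7, Nat.sub_add_cancel h8]; ring
      have h10 : p ^ 3 = q ^ 3 + 3 * q ^ 2 + 3 * q + 1 := by rw [hpk]; ring
      -- `p (p² − 1) = q³ + 3 q² + 2 q ≤ 2 (q³ − q)`
      have hq2 : 4 * q ≤ q ^ 2 := by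
        calc 4 * q ≤ q * q := Nat.mul_le_mul_right _ hq
          _ = q ^ 2 := by ring
      have hq3 : 4 * q ^ 2 ≤ q ^ 3 := by
        calc 4 * q ^ 2 ≤ q * q ^ 2 := Nat.mul_le_mul_right _ hq
          _ = q ^ 3 := by ring
      omega
  · omega

theorem lower_bound (p : ℕ) [hp : Fact p.Prime] (hp2 : p ≠ 2) (m : ℕ)
    (hleast : ∀ k : ℕ, IsPrimePow k → k % p = 1 → m ≤ k) :
    ∀ n : ℕ, ∀ (H : Type) [Group H] [Finite H], Nat.card H = n → ¬ Cfsg.IsPClosed p H →
      min (p * m) (p * (p ^ 2 - 1) / 2) ≤ Nat.card H := by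
  intro n
  induction n using Nat.strong_induction_on with
  | _ n ih =>
  intro H _ _ hn hncl
  classical
  by_cases hsub : ∃ K : Subgroup H, K ≠ ⊤ ∧ ¬ Cfsg.IsPClosed p K
  · obtain ⟨K, hK, hKcl⟩ := hsub
    have hlt : Nat.card K < Nat.card H := by
      have h1 := Subgroup.card_mul_index K
      have h2 : K.index ≠ 1 := fun h => hK (Subgroup.index_eq_one.mp h)
      have h3 : K.index ≠ 0 := Subgroup.index_ne_zero_of_finite
      have h4 : 0 < Nat.card K := Nat.card_pos
      have h5 : 2 ≤ K.index := by omega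
      nlinarith
    have := ih (Nat.card K) (hn ▸ hlt) K rfl hKcl
    omega
  by_cases hquot : ∃ N : Subgroup H, ∃ _ : N.Normal, N ≠ ⊥ ∧ ¬ Cfsg.IsPClosed p (H ⧸ N)
  · obtain ⟨N, hNn, hN, hNcl⟩ := hquot
    have hlt : Nat.card (H ⧸ N) < Nat.card H := by
      have h1 := Subgroup.card_mul_index N
      have h2 : Nat.card N ≠ 1 := fun h => hN (Subgroup.card_eq_one.mp h)
      have h3 : N.index ≠ 0 := Subgroup.index_ne_zero_of_finite
      have h4 : 0 < Nat.card N := Nat.card_pos
      have h5 : 2 ≤ Nat.card N := by omega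
      have h6 : Nat.card (H ⧸ N) = N.index := rfl
      rw [h6]
      have h7 : 0 < N.index := Nat.pos_of_ne_zero h3
      have h8 : 2 * N.index ≤ Nat.card N * N.index := Nat.mul_le_mul_right _ h5
      omega
    have := ih (Nat.card (H ⧸ N)) (hn ▸ hlt) (H ⧸ N) rfl hNcl
    omega
  push Not at hsub hquot
  have hncl' : ∃ P : Sylow p H, ¬ (P : Subgroup H).Normal := by
    by_contra h
    push Not at h
    exact hncl h
  obtain ⟨P, hP⟩ := hncl'
  by_cases hns : ∃ N : Subgroup H, N.Normal ∧ N ≠ ⊥ ∧ N ≠ ⊤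
  · obtain ⟨N, hNn, hN1, hN2⟩ := hns
    have := bound_of_min_nonsimple hleast P hP hsub (fun N hNn hN => hquot N hNn hN) N hN1 hN2
    omega
  · push Not at hns
    haveI : Nontrivial H := by
      by_contra hnt
      rw [not_nontrivial_iff_subsingleton] at hnt
      apply hP
      rw [Subgroup.eq_bot_of_subsingleton (P : Subgroup H)]
      infer_instance
    haveI : IsSimpleGroup H := ⟨fun N hN => by
      by_cases h : N = ⊥
      · exact Or.inl h
      · exact Or.inr (hns N hN h)⟩
    have := simple_bound p hp2 H P hP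
    omega

/-- Let p be an odd prime and let m be the least prime power congruent to 1 modulo p. Then the least order of a finite group whose Sylow p-subgroups are not normal is the smaller of p · m and p(p² − 1)/2: every finite group whose Sylow p-subgroups are not normal has at least that order, and some group of exactly that order has non-normal Sylow p-subgroups. -/
theorem result (p : ℕ) [Fact p.Prime] (hp : p ≠ 2) (m : ℕ) (hm : IsPrimePow m) (hm1 : m % p = 1)
    (hleast : ∀ k : ℕ, IsPrimePow k → k % p = 1 → m ≤ k) :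
    (∀ (H : Type) [Group H] [Finite H], ¬ Cfsg.IsPClosed p H → min (p * m) (p * (p ^ 2 - 1) / 2) ≤ Nat.card H) ∧
      ∃ (H : Type) (_ : Group H) (_ : Finite H), Nat.card H = min (p * m) (p * (p ^ 2 - 1) / 2) ∧ ¬ Cfsg.IsPClosed p H := by
  have hpp : p.Prime := Fact.out
  refine ⟨fun H _ _ hncl => lower_bound p hp m hleast (Nat.card H) H rfl hncl, ?_⟩
  rcases Nat.le_total (p * m) (p * (p ^ 2 - 1) / 2) with hle | hle
  · rw [min_eq_left hle]
    exact exists_nonclosed_affine p m hm hm1
  · rw [min_eq_right hle]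
    by_cases h5 : 5 ≤ p
    · exact exists_nonclosed_psl p h5
    · -- `p = 3`: then `m ≤ 4` and `p * m ≤ 12`, so both are equal
      have h2 := hpp.two_le
      have hp3 : p = 3 := by
        have : p ≠ 4 := by
          intro h
          rw [h] at hpp
          exact (by decide : ¬ Nat.Prime 4) hpp
        omega
      subst hp3
      have h4 : m ≤ 4 := hleast 4 ⟨2, 2, Nat.prime_two.prime, by norm_num, by norm_num⟩ (by norm_num)
      have h12 : 3 * (3 ^ 2 - 1) / 2 = 12 := by norm_num
      rw [h12] at hle ⊢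
      have hm4 : 3 * m = 12 := by omega
      rw [← hm4]
      exact exists_nonclosed_affine 3 m hm hm1

end Cfsg.Agent.S3875
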