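import Cfsg.Statements.S3878
import Mathlib
import Cfsg.Agent.Lib.Helper7.HallUniv3
-- import your own Cfsg.Agent.* helpers here

set_option autoImplicit false
open Cfsg

namespace Cfsg.Agent.S3878

open Cfsg.Agent.Lib.Helper7.HallUniv in
open scoped Pointwise in
theorem ePi_of_cond {π : Set ℕ}
    (hc : (∀ p q : ℕ, p.Prime → q.Prime → p ∈ π → q ∈ π → p = q) ∨ ∀ p : ℕ, p.Prime → p ∈ π)
    (G : Type) [Group G] [Finite G] : Cfsg.IsEPiGroup π G := by
  rcases hc with hc | hall
  · by_cases h : ∃ p : ℕ, p.Prime ∧ p ∈ π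
    · obtain ⟨p, hp, hpπ⟩ := h
      haveI : Fact p.Prime := ⟨hp⟩
      obtain P : Sylow p G := default
      refine ⟨P, ?_, ?_⟩
      · intro r hr hd
        rw [Sylow.card_eq_multiplicity] at hd
        have := (Nat.prime_dvd_prime_iff_eq hr hp).mp (hr.dvd_of_dvd_pow hd)
        rw [this]
        exact hpπ
      · intro r hr hrπ
        have : r = p := hc r p hr hp hrπ hpπ
        rw [this]
        exact Sylow.not_dvd_index P
    · refine ⟨⊥, ?_, ?_⟩
      · intro r hr hd
        rw [Subgroup.card_bot] at hd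
        exact absurd (Nat.dvd_one.mp hd) hr.one_lt.ne'
      · intro r hr hrπ
        exact absurd ⟨r, hr, hrπ⟩ h
  · refine ⟨⊤, fun p hp _ => hall p hp, ?_⟩
    intro p hp _ hd
    rw [Subgroup.index_top] at hd
    exact absurd (Nat.dvd_one.mp hd) hp.one_lt.ne'

open Cfsg.Agent.Lib.Helper7.HallUniv in
open scoped Pointwise in
theorem dPi_of_cond {π : Set ℕ}
    (hc : (∀ p q : ℕ, p.Prime → q.Prime → p ∈ π → q ∈ π → p = q) ∨ ∀ p : ℕ, p.Prime → p ∈ π)
    (G : Type) [Group G] [Finite G] : Cfsg.IsDPiGroup π G := by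
  intro H K hH hK
  rcases hc with hc | hall
  · by_cases h : ∃ p : ℕ, p.Prime ∧ p ∈ π
    · obtain ⟨p, hp, hpπ⟩ := h
      haveI : Fact p.Prime := ⟨hp⟩
      have key : ∀ M : Subgroup G, Maximal (Cfsg.IsPiSubgroup π) M →
          ∃ P : Sylow p G, (P : Subgroup G) = M := by
        intro M hM
        have hMp : IsPGroup p M := by
          apply IsPGroup.of_card (n := (Nat.card M).primeFactorsList.length)
          apply Nat.eq_prime_pow_of_unique_prime_dvd Nat.card_pos.ne'
          intro d hd hdvd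
          exact hc d p hd hp (hM.prop d hd hdvd) hpπ
        refine ⟨⟨M, hMp, ?_⟩, rfl⟩
        intro Q hQ hle
        have hQπ : Cfsg.IsPiSubgroup π Q := by
          intro r hr hd
          obtain ⟨n, hn⟩ := IsPGroup.iff_card.mp hQ
          rw [hn] at hd
          have := (Nat.prime_dvd_prime_iff_eq hr hp).mp (hr.dvd_of_dvd_pow hd)
          rw [this]
          exact hpπ
        exact le_antisymm (hM.2 hQπ hle) hle
      obtain ⟨PH, hPH⟩ := key H hH
      obtain ⟨PK, hPK⟩ := key K hK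
      obtain ⟨g, hg⟩ := MulAction.exists_smul_eq G PH PK
      refine ⟨g, ?_⟩
      rw [← hPK, ← hg, Sylow.coe_subgroup_smul, hPH]
      rfl
    · have key : ∀ M : Subgroup G, Maximal (Cfsg.IsPiSubgroup π) M → M = ⊥ := by
        intro M hM
        apply Subgroup.eq_bot_of_card_eq
        rw [Nat.eq_one_iff_not_exists_prime_dvd]
        intro r hr hd
        exact h ⟨r, hr, hM.prop r hr hd⟩
      refine ⟨1, ?_⟩
      rw [key H hH, key K hK, Subgroup.map_bot]
  · have key : ∀ M : Subgroup G, Maximal (Cfsg.IsPiSubgroup π) M → M = ⊤ := by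
      intro M hM
      have htop : Cfsg.IsPiSubgroup π (⊤ : Subgroup G) := fun p hp _ => hall p hp
      exact top_le_iff.mp (hM.2 htop le_top)
    refine ⟨1, ?_⟩
    rw [key H hH, key K hK]
    simp

open Cfsg.Agent.Lib.Helper7.HallUniv in
theorem cond_of_ePi {π : Set ℕ}
    (h : ∀ (G : Type) [Group G] [Finite G], Cfsg.IsEPiGroup π G) :
    (∀ p q : ℕ, p.Prime → q.Prime → p ∈ π → q ∈ π → p = q) ∨ ∀ p : ℕ, p.Prime → p ∈ π := by
  classical
  by_contra hc
  push Not at hc
  obtain ⟨⟨p, q, hp, hq, hpπ, hqπ, hpq⟩, ⟨r, hr, hrπ⟩⟩ := hc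
  by_cases h2 : 2 ∈ π
  · have hex : ∃ n : ℕ, n.Prime ∧ n ∉ π := ⟨r, hr, hrπ⟩
    obtain ⟨hr₀, hr₀π⟩ := Nat.find_spec hex
    have hmin : ∀ m : ℕ, m.Prime → m < Nat.find hex → m ∈ π := by
      intro m hm hlt
      by_contra hmπ
      exact Nat.find_min hex hlt ⟨hm, hmπ⟩
    by_cases hbig : ∃ q' : ℕ, q'.Prime ∧ q' ∈ π ∧ Nat.find hex < q'
    · obtain ⟨q', hq', hq'π, hlt⟩ := hbig
      exact not_isEPiGroup_of_lt h2 hq' hr₀ hq'π hr₀π hlt (h (Equiv.Perm (Fin q')))
    · push Not at hbig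
      have hlt : ∀ s : ℕ, s.Prime → s ∈ π → s < Nat.find hex := by
        intro s hs hsπ
        have h1 := hbig s hs hsπ
        rcases h1.lt_or_eq with h3 | h3
        · exact h3
        · rw [h3] at hsπ
          exact absurd hsπ hr₀π
      have hp1 := hlt p hp hpπ
      have hq1 := hlt q hq hqπ
      have hp2 := hp.two_le
      have hq2 := hq.two_le
      have h4 : Nat.find hex ≠ 4 := by
        intro h4
        rw [h4] at hr₀
        exact absurd hr₀ (by decide)
      have hr5 : 5 ≤ Nat.find hex := by omega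
      exact not_isEPiGroup_of_initial hr₀ hr5 hr₀π hmin (h (Equiv.Perm (Fin (Nat.find hex + 1))))
  · rcases lt_or_gt_of_ne hpq with hlt | hlt
    · exact not_isEPiGroup_of_two_notMem h2 hp hq hpπ hqπ hlt (h (Equiv.Perm (Fin q)))
    · exact not_isEPiGroup_of_two_notMem h2 hq hp hqπ hpπ hlt (h (Equiv.Perm (Fin p)))

/-- For a set of primes π the following are equivalent: every finite group has a Hall π-subgroup; in every finite group the maximal π-subgroups are pairwise conjugate; π contains at most one prime or contains every prime. -/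
theorem result (π : Set ℕ) :
    ((∀ (G : Type) [Group G] [Finite G], Cfsg.IsEPiGroup π G) ↔
      ((∀ p q : ℕ, p.Prime → q.Prime → p ∈ π → q ∈ π → p = q) ∨ ∀ p : ℕ, p.Prime → p ∈ π)) ∧
    ((∀ (G : Type) [Group G] [Finite G], Cfsg.IsDPiGroup π G) ↔
      ((∀ p q : ℕ, p.Prime → q.Prime → p ∈ π → q ∈ π → p = q) ∨ ∀ p : ℕ, p.Prime → p ∈ π)) := by
  refine ⟨⟨cond_of_ePi, fun hc G _ _ => ePi_of_cond hc G⟩, ⟨?_, fun hc G _ _ => dPi_of_cond hc G⟩⟩
  intro hD
  apply cond_of_ePi
  intro G _ _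
  exact Cfsg.Agent.Lib.Helper7.HallUniv.isEPiGroup_of_isDPiGroup (hD G)

end Cfsg.Agent.S3878
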