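import Mathlib
import Cfsg.Statements.S3881
import Cfsg.Agent.Lib.Helper7.Meta5

set_option autoImplicit false
open Cfsg

namespace Cfsg.Agent.S3881

open Cfsg.Agent.Lib.Helper7.Meta Cfsg.Agent.Lib.Helper7.Meta.CycDer

/-- Let p be an odd prime and G a finite metacyclic p-group (G has a cyclic normal subgroup with cyclic quotient). Suppose G is non-abelian with |G'| = p^n. Then for 1 ≤ i ≤ n the number of elements of G whose conjugacy class has exactly p^i elements is |Z(G)| · (p^(2i) − p^(2i−2)). -/
theorem result {G : Type*} [Group G] [Finite G] {p : ℕ} [Fact p.Prime] (hp : p ≠ 2) (hG : IsPGroup p G) (hmc : Cfsg.IsMetacyclic G) (n : ℕ) (hn : n ≠ 0) (hGn : Nat.card ↥(commutator G) = p ^ n) (i : ℕ) (hi : 1 ≤ i) (hin : i ≤ n) :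
    Nat.card {g : G // (Subgroup.centralizer ({g} : Set G)).index = p ^ i} =
      Nat.card ↥(Subgroup.center G) * (p ^ (2 * i) - p ^ (2 * i - 2)) := by
  obtain ⟨a, b, c, n', hd⟩ := exists_mcData hp hG hmc
  have hn' : n' = n := by
    have h1 := hd.cd.card_commutator
    rw [hGn] at h1
    exact (Nat.pow_right_injective (Fact.out : p.Prime).two_le h1).symm
  subst hn'
  have hpp : p.Prime := Fact.out
  have hcd := hd.cd
  haveI := hcd.K_normal (n' - i)
  haveI := hcd.K_normal (n' - i + 1)
  haveI := hcd.K_normal n'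
  have he1 : n' - i ≤ n' := Nat.sub_le _ _
  have he2 : n' - i + 1 ≤ n' := by omega
  -- the set
  have hset : {g : G | (Subgroup.centralizer ({g} : Set G)).index = p ^ i} =
      (cdep (K c p (n' - i)) : Set G) \ (cdep (K c p (n' - i + 1)) : Set G) := by
    ext g
    simp only [Set.mem_setOf_eq, Set.mem_diff, SetLike.mem_coe]
    rw [hcd.mem_cdep_iff_index he1 g, hcd.mem_cdep_iff_index he2 g]
    have e1 : n' - (n' - i) = i := by omega
    have e2 : n' - (n' - i + 1) = i - 1 := by omega
    rw [e1, e2]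
    obtain ⟨f, hf⟩ : ∃ f, (Subgroup.centralizer ({g} : Set G)).index = p ^ f := by
      have h1 : (Subgroup.centralizer ({g} : Set G)).index ∣ Nat.card G := Subgroup.index_dvd_card _
      obtain ⟨m, hm⟩ := IsPGroup.iff_card.mp hG
      rw [hm] at h1
      obtain ⟨f, _, hf⟩ := (Nat.dvd_prime_pow hpp).mp h1
      exact ⟨f, hf⟩
    rw [hf]
    constructor
    · intro h
      have : f = i := Nat.pow_right_injective hpp.two_le h
      subst this
      refine ⟨le_rfl, ?_⟩
      intro h2
      have := (Nat.pow_le_pow_iff_right hpp.one_lt).mp h2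
      omega
    · rintro ⟨h1, h2⟩
      have h1' := (Nat.pow_le_pow_iff_right hpp.one_lt).mp h1
      have h2' : ¬ f ≤ i - 1 := fun h => h2 (Nat.pow_le_pow_right hpp.pos h)
      have : f = i := by omega
      rw [this]
  have hsub : (cdep (K c p (n' - i + 1)) : Set G) ⊆ (cdep (K c p (n' - i)) : Set G) := by
    intro g hg
    simp only [SetLike.mem_coe] at hg ⊢
    rw [hcd.mem_cdep_iff_index he1 g]
    rw [hcd.mem_cdep_iff_index he2 g] at hg
    exact hg.trans (Nat.pow_le_pow_right hpp.pos (by omega))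
  -- cardinalities
  have hZ := hcd.index_center hd.gen
  have hA := hcd.index_cdep hd.gen he1
  have hB := hcd.index_cdep hd.gen he2
  have hcZ := Subgroup.card_mul_index (Subgroup.center G)
  have hcA := Subgroup.card_mul_index (cdep (K c p (n' - i)))
  have hcB := Subgroup.card_mul_index (cdep (K c p (n' - i + 1)))
  rw [hZ] at hcZ
  rw [hA] at hcA
  rw [hB] at hcB
  have hA' : Nat.card (cdep (K c p (n' - i))) = Nat.card (Subgroup.center G) * p ^ (2 * i) := by
    have h1 : Nat.card (cdep (K c p (n' - i))) * p ^ (2 * (n' - i)) =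
        Nat.card (Subgroup.center G) * p ^ (2 * i) * p ^ (2 * (n' - i)) := by
      rw [hcA, mul_assoc, ← pow_add, ← hcZ]
      congr 2
      omega
    exact Nat.eq_of_mul_eq_mul_right (pow_pos hpp.pos _) h1
  have hB' : Nat.card (cdep (K c p (n' - i + 1))) =
      Nat.card (Subgroup.center G) * p ^ (2 * i - 2) := by
    have h1 : Nat.card (cdep (K c p (n' - i + 1))) * p ^ (2 * (n' - i + 1)) =
        Nat.card (Subgroup.center G) * p ^ (2 * i - 2) * p ^ (2 * (n' - i + 1)) := by
      rw [hcB, mul_assoc, ← pow_add, ← hcZ]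
      congr 2
      omega
    exact Nat.eq_of_mul_eq_mul_right (pow_pos hpp.pos _) h1
  have hcard : Nat.card {g : G // (Subgroup.centralizer ({g} : Set G)).index = p ^ i} =
      Set.ncard {g : G | (Subgroup.centralizer ({g} : Set G)).index = p ^ i} :=
    Nat.card_coe_set_eq _
  rw [hcard, hset, Set.ncard_diff hsub (Set.toFinite _), ← Nat.card_coe_set_eq,
    ← Nat.card_coe_set_eq]
  change Nat.card (cdep (K c p (n' - i))) - Nat.card (cdep (K c p (n' - i + 1))) = _
  rw [hA', hB', Nat.mul_sub]

end Cfsg.Agent.S3881
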