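import Mathlib
import Cfsg.Statements.S3883
import Cfsg.Agent.Lib.Helper7.Meta10

set_option autoImplicit false
open Cfsg

namespace Cfsg.Agent.S3883

open Cfsg.Agent.Lib.Helper7.Meta
open scoped commutatorElement

/-- Let p be an odd prime and G a finite metacyclic p-group (G has a cyclic normal subgroup with cyclic quotient). Suppose G is non-abelian. Then an element g of G lies outside the Frattini subgroup if and only if its centralizer C_G(g) is abelian. -/
theorem result {G : Type*} [Group G] [Finite G] {p : ℕ} [Fact p.Prime] (hp : p ≠ 2) (hG : IsPGroup p G) (hmc : Cfsg.IsMetacyclic G) (hna : ¬ IsMulCommutative G) (g : G) :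
    g ∉ frattini G ↔ IsMulCommutative ↥(Subgroup.centralizer ({g} : Set G)) := by
  obtain ⟨a, b, c, n, hd⟩ := exists_mcData hp hG hmc
  have hpp : p.Prime := Fact.out
  haveI := hd.cd.K_normal 1
  have hn : 1 ≤ n := by
    by_contra hcon
    have hn0 : n = 0 := by omega
    subst hn0
    apply hna
    have h1 := hd.cd.card_commutator
    rw [pow_zero] at h1
    have h2 : commutator G = ⊥ := Subgroup.card_eq_one.mp h1
    refine ⟨⟨fun x y => ?_⟩⟩
    have h3 : ⁅x, y⁆ ∈ commutator G := by
      rw [commutator_def]
      exact Subgroup.commutator_mem_commutator (Subgroup.mem_top _) (Subgroup.mem_top _)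
    rw [h2, Subgroup.mem_bot, commutatorElement_eq_one_iff_mul_comm] at h3
    exact h3
  rw [hd.frattini_eq hna, hd.cd.mem_cdep_iff_index hn g, abelian_iff_card_le hp hG hmc]
  obtain ⟨f, hf⟩ : ∃ f, (Subgroup.centralizer ({g} : Set G)).index = p ^ f := by
    have h1 : (Subgroup.centralizer ({g} : Set G)).index ∣ Nat.card G := Subgroup.index_dvd_card _
    obtain ⟨m, hm⟩ := IsPGroup.iff_card.mp hG
    rw [hm] at h1
    obtain ⟨f, _, hf⟩ := (Nat.dvd_prime_pow hpp).mp h1
    exact ⟨f, hf⟩
  have hfn : f ≤ n := by
    have := hd.cd.index_centralizer_le g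
    rw [hf] at this
    exact (Nat.pow_le_pow_iff_right hpp.one_lt).mp this
  have hI := hd.index_commutator_mul
  have hC := Subgroup.card_mul_index (Subgroup.centralizer ({g} : Set G))
  rw [hf] at hC ⊢
  rw [Nat.pow_le_pow_iff_right hpp.one_lt]
  constructor
  · intro h
    have hfn' : f = n := by omega
    subst hfn'
    rw [← hI] at hC
    exact (Nat.eq_of_mul_eq_mul_right (pow_pos hpp.pos f) hC).le
  · intro h hle
    have h1 : Nat.card (Subgroup.centralizer ({g} : Set G)) * p ^ n ≤
        (commutator G).index * p ^ n := Nat.mul_le_mul_right _ h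
    rw [hI, ← hC] at h1
    have h2 : p ^ n ≤ p ^ f :=
      Nat.le_of_mul_le_mul_left h1 Nat.card_pos
    have := (Nat.pow_le_pow_iff_right hpp.one_lt).mp h2
    omega

end Cfsg.Agent.S3883
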