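import Mathlib
import Cfsg.Statements.S3885
import Cfsg.Agent.Lib.Helper7.Meta6

set_option autoImplicit false
open Cfsg

namespace Cfsg.Agent.S3885

open Cfsg.Agent.Lib.Helper7.Meta Cfsg.Agent.Lib.Helper7.Meta.CycDer

/-- Let p be an odd prime and G a finite metacyclic p-group (G has a cyclic normal subgroup with cyclic quotient). Then every abelian subgroup K of G containing the center of G is the center of its own centralizer: K = Z(C_G(K)). -/
theorem result {G : Type*} [Group G] [Finite G] {p : ℕ} [Fact p.Prime] (hp : p ≠ 2) (hG : IsPGroup p G) (hmc : Cfsg.IsMetacyclic G) (K : Subgroup G) (hK : IsMulCommutative ↥K) (hZ : Subgroup.center G ≤ K) :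
    K = Subgroup.centralizer (K : Set G) ⊓ Subgroup.centralizer (Subgroup.centralizer (K : Set G) : Set G) := by
  obtain ⟨a, b, c, n, hd⟩ := exists_mcData hp hG hmc
  have hcd := hd.cd
  set C := Subgroup.centralizer (K : Set G) with hC
  have hKC : K ≤ C := by
    intro x hx y hy
    have := hK.is_comm.comm (⟨x, hx⟩ : K) ⟨y, hy⟩
    exact (congrArg Subtype.val this).symm
  have hKCC : K ≤ Subgroup.centralizer (C : Set G) := by
    intro x hx y hy
    exact (hy x hx).symm
  have h1 := hcd.measure_eq_of_center_le hZ
  have h2 := hcd.measure_eq_of_center_le (hZ.trans hKC)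
  rw [← h2, ← hC, mul_comm] at h1
  have hpos : 0 < Nat.card C := Nat.card_pos
  have h3 : Nat.card K = Nat.card (Subgroup.centralizer (C : Set G)) :=
    Nat.eq_of_mul_eq_mul_left hpos h1
  have h4 : K = Subgroup.centralizer (C : Set G) :=
    Subgroup.eq_of_le_of_card_ge hKCC h3.ge
  rw [← h4]
  exact (inf_eq_right.mpr hKC).symm

end Cfsg.Agent.S3885
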