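import Cfsg.Statements.S3888
import Mathlib
import Cfsg.Agent.Lib.Helper7.Blk11
import Cfsg.Agent.Lib.Lead.MaxClass9
import Cfsg.Agent.Lib.Lead.RankTwoOmega
import Cfsg.Agent.Lib.Helper4.HU8

set_option autoImplicit false
set_option linter.style.haveILetI false
open Cfsg

namespace Cfsg.Agent.S3888

/-- The classification of the p-groups of rank at most two for odd p. Let p be an odd prime and G a group of order p^n with no elementary abelian subgroup of order p³. Then one of the following holds: G is metacyclic; n ≥ 3 and G is generated by elements x, y, z with x^p = y^p = z^(p^(n−2)) = 1, z commuting with x and y, and x⁻¹yx = y z^(p^(n−3)); n ≥ 4 and G is generated by elements x, y, z with x^p = y^p = z^(p^(n−2)) = 1, yz = zy, x⁻¹yx = y z^(s p^(n−3)) and x⁻¹zx = yz, where s = 1 or s is a quadratic non-residue modulo p; or p = 3 and G has maximal class (nilpotency class n − 1). -/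
theorem result {G : Type*} [Group G] [Finite G] {p : ℕ} [Fact p.Prime] (hp : p ≠ 2) (n : ℕ) (hG : Nat.card G = p ^ n)
    (hrk : Cfsg.PRankLE p 2 G) :
    Cfsg.IsMetacyclic G ∨
    (3 ≤ n ∧ ∃ x y z : G, Subgroup.closure ({x, y, z} : Set G) = ⊤ ∧ x ^ p = 1 ∧ y ^ p = 1 ∧ z ^ p ^ (n - 2) = 1 ∧
        x * z = z * x ∧ y * z = z * y ∧ x⁻¹ * y * x = y * z ^ p ^ (n - 3)) ∨
    (4 ≤ n ∧ ∃ (s : ℕ) (x y z : G), (s = 1 ∨ ¬ IsSquare (s : ZMod p)) ∧ Subgroup.closure ({x, y, z} : Set G) = ⊤ ∧
        x ^ p = 1 ∧ y ^ p = 1 ∧ z ^ p ^ (n - 2) = 1 ∧ y * z = z * y ∧ x⁻¹ * y * x = y * z ^ (s * p ^ (n - 3)) ∧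
        x⁻¹ * z * x = y * z) ∨
    (p = 3 ∧ 2 ≤ n ∧ (⊤ : Subgroup G).lowerCentralSeries (n - 2) ≠ ⊥) := by
  classical
  have hprime : p.Prime := Fact.out
  have hPG : IsPGroup p G := IsPGroup.of_card hG
  haveI : Group.IsNilpotent G := hPG.isNilpotent
  by_cases hcyc : IsCyclic G
  · left
    exact Cfsg.Agent.Lib.Helper4.HU.isMetacyclic_of_isCyclic
  obtain ⟨E₀, hE₀n, -, hE₀e, hE₀c⟩ :=
    Cfsg.Agent.Lib.Lead.exists_normal_elementary_sq hp hPG hcyc
  haveI := hE₀n
  have hn2 : 2 ≤ n := by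
    have h1 := Subgroup.card_le_card_group E₀
    rw [hE₀c, hG] at h1
    exact (Nat.pow_le_pow_iff_right hprime.one_lt).mp h1
  -- maximal class exit
  have hmax : Group.nilpotencyClass G = n - 1 → p = 3 →
      (p = 3 ∧ 2 ≤ n ∧ (⊤ : Subgroup G).lowerCentralSeries (n - 2) ≠ ⊥) := by
    intro hcl hp3
    refine ⟨hp3, hn2, ?_⟩
    intro hbot
    rw [Subgroup.lowerCentralSeries_eq_bot_iff_nilpotencyClass_le, hcl] at hbot
    omega
  by_cases hp3 : 3 < p
  · -- `p > 3`
    set W := Cfsg.Agent.Lib.Helper4.OQ.Om p G with hW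
    haveI hWn : W.Normal := Cfsg.Agent.Lib.Helper4.OQ.Om_normal p
    have hWe : ∀ g ∈ W, g ^ p = 1 := fun g hg =>
      Cfsg.Agent.Lib.Lead.omega_exponent_of_rank_two hp3 hPG
        (fun E hE => hrk E hE.1 hE.2) g hg
    have hWle := Cfsg.Agent.Lib.Helper7.Blk.card_le_cube hPG hrk E₀ hE₀c hE₀e W hWe
    obtain ⟨k, hk⟩ := IsPGroup.iff_card.mp (hPG.to_subgroup W)
    rw [hk] at hWle
    have hk3 := (Nat.pow_le_pow_iff_right hprime.one_lt).mp hWle
    by_cases hk2 : k ≤ 2
    · left
      apply Cfsg.Agent.Lib.Helper4.HU.huppert hp3 (Nat.card G) G rfl hPG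
      rw [← hW, hk]
      exact Nat.pow_le_pow_right hprime.pos hk2
    · have hk' : k = 3 := by omega
      rw [hk'] at hk
      rcases Cfsg.Agent.Lib.Helper7.Blk.result_of_normal hp hPG hrk W hk hWe n hG with h | h
      · exact Or.inr (Or.inl h)
      · exact Or.inr (Or.inr (Or.inl h))
  · -- `p = 3`
    have hp3' : p = 3 := by
      have := hprime.two_le
      omega
    subst hp3'
    by_cases hC₀ : Subgroup.centralizer (E₀ : Set G) = ⊤
    · left
      apply Cfsg.Agent.Lib.Helper7.Blk.isMetacyclic_of_pcentral hp hPG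
      · intro t ht
        have htC : t ∈ Subgroup.centralizer (E₀ : Set G) := by rw [hC₀]; trivial
        have htE := Cfsg.Agent.Lib.Helper7.Blk.mem_of_pow_eq_one hrk hE₀c hE₀e htC ht
        rw [Subgroup.mem_center_iff]
        intro g
        have hgC : g ∈ Subgroup.centralizer (E₀ : Set G) := by rw [hC₀]; trivial
        exact (Subgroup.mem_centralizer_iff.mp hgC t htE).symm
      · rw [← hE₀c]
        apply Nat.card_le_card_of_injective
          (fun t : {t : G // t ^ 3 = 1} =>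
            (⟨(t : G), Cfsg.Agent.Lib.Helper7.Blk.mem_of_pow_eq_one hrk hE₀c hE₀e
              (by rw [hC₀]; trivial) t.2⟩ : ↥E₀))
        intro a b hab
        have : (a : G) = (b : G) := by
          have := congrArg Subtype.val hab
          simpa using this
        exact Subtype.ext this
    · by_cases hx : ∃ x : G, x ^ 3 = 1 ∧ x ∉ Subgroup.centralizer (E₀ : Set G)
      · obtain ⟨x, hx3, hxC⟩ := hx
        obtain ⟨hEc, hEe, hEna⟩ :=
          Cfsg.Agent.Lib.Helper7.Blk.sup_zpowers hPG hrk E₀ hE₀c hE₀e hx3 hxC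
        by_cases hcE : Subgroup.centralizer ((E₀ ⊔ Subgroup.zpowers x : Subgroup G) : Set G) ≤
            E₀ ⊔ Subgroup.zpowers x
        · right; right; right
          exact hmax (Cfsg.Agent.Lib.Lead.nilpotencyClass_of_self_centralizing_cube n G hG _ hEc
            hEna hcE) rfl
        · haveI := Cfsg.Agent.Lib.Helper7.Blk.normal_of_cent_not_le hPG hrk _ hEc hEe hcE
          rcases Cfsg.Agent.Lib.Helper7.Blk.result_of_normal hp hPG hrk
            (E₀ ⊔ Subgroup.zpowers x) hEc hEe n hG with h | h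
          · exact Or.inr (Or.inl h)
          · exact Or.inr (Or.inr (Or.inl h))
      · push Not at hx
        rcases Cfsg.Agent.Lib.Helper7.Blk.lemmaF hPG hrk n hG E₀ hE₀c hE₀e hC₀ hx with h | h
        · exact Or.inl h
        · right; right; right
          exact hmax h rfl

end Cfsg.Agent.S3888
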