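import Cfsg.Statements.S3889
import Mathlib

set_option autoImplicit false
open Cfsg

namespace Cfsg.Agent.S3889

theorem result {G : Type*} [CommGroup G] [Finite G] (𝓑 : Set (Subgroup G)) (hprop : ∀ B ∈ 𝓑, B ≠ ⊤)
    (hcov : ∀ g : G, ∃ B ∈ 𝓑, g ∈ B) (hdisj : ∀ B ∈ 𝓑, ∀ C ∈ 𝓑, B ≠ C → B ⊓ C = ⊥) :
    (Monoid.exponent G).Prime := by
  -- two members sharing a nonidentity element are equal
  have heq : ∀ B ∈ 𝓑, ∀ C ∈ 𝓑, ∀ x : G, x ≠ 1 → x ∈ B → x ∈ C → B = C := by
    intro B hB C hC x hx hxB hxC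
    by_contra hne
    have := hdisj B hB C hC hne
    have hx' : x ∈ B ⊓ C := ⟨hxB, hxC⟩
    rw [this, Subgroup.mem_bot] at hx'
    exact hx hx'
  -- step 1
  have step1 : ∀ B ∈ 𝓑, ∀ a b : G, a ≠ 1 → a ∈ B → b ∉ B → b ^ orderOf a = 1 := by
    intro B hB a b ha haB hbB
    by_contra hbm
    obtain ⟨C, hC, habC⟩ := hcov (a * b)
    obtain ⟨C', hC', hbC'⟩ := hcov b
    have h1 : (a * b) ^ orderOf a = b ^ orderOf a := by
      rw [mul_pow, pow_orderOf_eq_one, one_mul]
    have h2 : b ^ orderOf a ∈ C := by rw [← h1]; exact C.pow_mem habC _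
    have h3 : b ^ orderOf a ∈ C' := C'.pow_mem hbC' _
    have hCC' : C = C' := heq C hC C' hC' _ hbm h2 h3
    have hbC : b ∈ C := by rw [hCC']; exact hbC'
    have haC : a ∈ C := by
      have : a = a * b * b⁻¹ := by group
      rw [this]; exact C.mul_mem habC (C.inv_mem hbC)
    have hBC : B = C := heq B hB C hC a ha haB haC
    exact hbB (by rw [hBC]; exact hbC)
  -- step 2 : a ∈ B, b ∉ B both nonidentity have equal order
  have step2 : ∀ B ∈ 𝓑, ∀ a b : G, a ≠ 1 → a ∈ B → b ∉ B → orderOf a = orderOf b := by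
    intro B hB a b ha haB hbB
    have hb1 : b ≠ 1 := by rintro rfl; exact hbB B.one_mem
    obtain ⟨C', hC', hbC'⟩ := hcov b
    have haC' : a ∉ C' := by
      intro haC'
      have : B = C' := heq B hB C' hC' a ha haB haC'
      exact hbB (by rw [this]; exact hbC')
    apply Nat.dvd_antisymm
    · exact orderOf_dvd_of_pow_eq_one (step1 C' hC' b a hb1 hbC' haC')
    · exact orderOf_dvd_of_pow_eq_one (step1 B hB a b ha haB hbB)
  -- an element outside a given member
  have hout : ∀ B ∈ 𝓑, ∃ c : G, c ∉ B := by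
    intro B hB
    by_contra hcon
    push_neg at hcon
    exact hprop B hB (by rw [eq_top_iff]; intro x _; exact hcon x)
  -- step 3: all nonidentity elements have the same order
  have step3 : ∀ a b : G, a ≠ 1 → b ≠ 1 → orderOf a = orderOf b := by
    intro a b ha hb
    obtain ⟨B, hB, haB⟩ := hcov a
    by_cases hbB : b ∈ B
    · obtain ⟨c, hc⟩ := hout B hB
      rw [step2 B hB a c ha haB hc, step2 B hB b c hb hbB hc]
    · exact step2 B hB a b ha haB hbB
  obtain ⟨B₀, hB₀, -⟩ := hcov 1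
  obtain ⟨c, hc⟩ := hout B₀ hB₀
  have hc1 : c ≠ 1 := by rintro rfl; exact hc B₀.one_mem
  haveI : Nontrivial G := ⟨⟨c, 1, hc1⟩⟩
  have hn1 : orderOf c ≠ 1 := by rwa [Ne, orderOf_eq_one_iff]
  have hprime : (orderOf c).Prime := by
    obtain ⟨q, hq, hqd⟩ := Nat.exists_prime_and_dvd hn1
    obtain ⟨k, hk⟩ := hqd
    have hpos : 0 < orderOf c := orderOf_pos c
    have hkpos : 0 < k := by
      rcases Nat.eq_zero_or_pos k with h | h
      · rw [h, mul_zero] at hk; omega
      · exact h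
    have hord : orderOf (c ^ k) = q := by
      rw [orderOf_pow' c hkpos.ne', hk, Nat.gcd_mul_left_left, Nat.mul_div_cancel _ hkpos]
    have hck1 : c ^ k ≠ 1 := by
      intro h
      rw [← orderOf_eq_one_iff, hord] at h
      exact hq.one_lt.ne' h
    have := step3 (c ^ k) c hck1 hc1
    rw [hord] at this
    rw [← this]; exact hq
  have : Monoid.exponent G = orderOf c := by
    rw [Monoid.exponent_eq_prime_iff hprime]
    intro g hg
    exact step3 g c hg hc1
  rw [this]; exact hprime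

end Cfsg.Agent.S3889
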