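import Mathlib
import Cfsg.Statements.S3891
import Cfsg.Agent.Lib.Helper7.NilpCover

set_option autoImplicit false
open Cfsg

namespace Cfsg.Agent.S3891

open Cfsg.Agent.Lib.Helper7.NilpCover

theorem comm_of_cyclic {H : Type*} [Group H] (h : IsCyclic H) : IsMulCommutative H := by
  obtain ⟨x, hx⟩ := h.exists_generator
  refine ⟨⟨fun a b => ?_⟩⟩
  obtain ⟨i, rfl⟩ := Subgroup.mem_zpowers_iff.mp (hx a)
  obtain ⟨j, rfl⟩ := Subgroup.mem_zpowers_iff.mp (hx b)
  rw [← zpow_add, ← zpow_add, add_comm]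

theorem card_le_of_cyclic {H : Type*} [Group H] [Finite H] (h : IsCyclic H) (p : ℕ)
    (hp : 0 < p) (hexp : ∀ a : H, a ^ p = 1) : Nat.card H ≤ p := by
  obtain ⟨x, hx⟩ := h.exists_generator
  rw [← orderOf_eq_card_of_forall_mem_zpowers hx]
  exact Nat.le_of_dvd hp (orderOf_dvd_of_pow_eq_one (hexp x))

/-- A cover of a group is a finite set of proper subgroups whose union is the whole group; it is minimal when no cover has fewer members, and nilpotent when all its members are nilpotent. Let G be a finite group with trivial center admitting a nilpotent minimal cover, and let P be a non-normal Sylow p-subgroup of G that is cyclic, or abelian but not elementary abelian. Then the centralizer of P is nilpotent and the normalizer of P is the unique maximal subgroup of G containing the centralizer of P. -/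
theorem result {G : Type*} [Group G] [Finite G] (hZ : Subgroup.center G = ⊥) (𝓐 : Finset (Subgroup G))
    (h𝓐 : ((∀ A ∈ 𝓐, A ≠ ⊤) ∧ (∀ g : G, ∃ A ∈ 𝓐, g ∈ A)) ∧ (∀ 𝓑 : Finset (Subgroup G), (∀ A ∈ 𝓑, A ≠ ⊤) ∧ (∀ g : G, ∃ A ∈ 𝓑, g ∈ A) → 𝓐.card ≤ 𝓑.card) ∧ (∀ A ∈ 𝓐, Group.IsNilpotent ↥A)) {p : ℕ} [Fact p.Prime] (P : Sylow p G)
    (hP : IsCyclic ↥(P : Subgroup G) ∨ (IsMulCommutative ↥(P : Subgroup G) ∧ ¬ Cfsg.IsElementaryAbelian p (P : Subgroup G)))
    (hnn : ¬ (P : Subgroup G).Normal) :
    Group.IsNilpotent ↥(Subgroup.centralizer ((P : Subgroup G) : Set G)) ∧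
      IsCoatom (Subgroup.normalizer ((P : Subgroup G) : Set G)) ∧
      ∀ M : Subgroup G, IsCoatom M → Subgroup.centralizer ((P : Subgroup G) : Set G) ≤ M →
        M = Subgroup.normalizer ((P : Subgroup G) : Set G) := by
  have hab : IsMulCommutative ↥(P : Subgroup G) := by
    rcases hP with h | h
    · exact comm_of_cyclic h
    · exact h.1
  have hE : ¬ (Cfsg.IsElementaryAbelian p (P : Subgroup G) ∧ p < Nat.card ↥(P : Subgroup G)) := by
    rintro ⟨hel, hlt⟩
    rcases hP with h | h
    · have hle := card_le_of_cyclic h p (Fact.out : p.Prime).pos (fun a => by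
        have := hel.2 (a : G) a.2
        apply Subtype.ext
        simpa using this)
      omega
    · exact h.2 hel
  obtain ⟨h1, h2, h3⟩ := main hZ (show IsMinNilpCover 𝓐 from h𝓐) P hab hnn hE
  have hNtop : Subgroup.normalizer ((P : Subgroup G) : Set G) ≠ ⊤ := by
    intro htop
    exact hnn (Subgroup.normalizer_eq_top_iff.mp htop)
  refine ⟨h𝓐.2.2 _ h1, ⟨hNtop, ?_⟩, ?_⟩
  · intro H hlt
    by_contra hH
    have := h2 H hH ((Subgroup.centralizer_le_normalizer _).trans hlt.le)
    exact absurd (lt_of_lt_of_le hlt this) (lt_irrefl _)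
  · intro M hM hCM
    have hle := h2 M hM.1 hCM
    by_contra hne
    exact hNtop (hM.2 _ (lt_of_le_of_ne hle hne))

end Cfsg.Agent.S3891
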