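import Mathlib
import Cfsg.Statements.S3892
import Cfsg.Agent.Lib.Helper7.NilpCover

set_option autoImplicit false
open Cfsg

namespace Cfsg.Agent.S3892

open Cfsg.Agent.Lib.Helper7.NilpCover

theorem comm_zpowers {G : Type*} [Group G] (c : G) : IsMulCommutative ↥(Subgroup.zpowers c) := by
  refine ⟨⟨fun a b => ?_⟩⟩
  obtain ⟨i, hi⟩ := Subgroup.mem_zpowers_iff.mp a.2
  obtain ⟨j, hj⟩ := Subgroup.mem_zpowers_iff.mp b.2
  apply Subtype.ext
  show (a : G) * b = b * a
  rw [← hi, ← hj, ← zpow_add, ← zpow_add, add_comm]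

theorem commute_of_mem_zpowers {G : Type*} [Group G] {c x : G} (hx : x ∈ Subgroup.zpowers c) :
    Commute x c := by
  obtain ⟨i, rfl⟩ := Subgroup.mem_zpowers_iff.mp hx
  exact (Commute.refl c).zpow_left i

/-- abstract witness lemma -/
theorem no_cover_of_witness {G : Type*} [Group G] [Finite G] (hZ : Subgroup.center G = ⊥)
    {𝓐 : Finset (Subgroup G)} (h𝓐 : IsMinNilpCover 𝓐) {p : ℕ} [hp : Fact p.Prime]
    (c : G) (hc : orderOf c = p) (hp2 : ¬ p ^ 2 ∣ Nat.card G)
    (H : Subgroup G) (hH : H ≠ ⊤) (hCH : ∀ g : G, Commute g c → g ∈ H)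
    (t : G) (ht : t ∈ H) (hnc : ¬ Commute (t * c * t⁻¹) c) : False := by
  have hcard : Nat.card (Subgroup.zpowers c) = p := by rw [Nat.card_zpowers, hc]
  have hG0 : Nat.card G ≠ 0 := Nat.card_pos.ne'
  have hfac : (Nat.card G).factorization p = 1 := by
    have h1 : p ^ 1 ∣ Nat.card G := by
      rw [pow_one]
      exact hcard ▸ Subgroup.card_subgroup_dvd_card _
    have h1' := (hp.out.pow_dvd_iff_le_factorization hG0).mp h1
    have h2' : ¬ 2 ≤ (Nat.card G).factorization p := fun h =>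
      hp2 ((hp.out.pow_dvd_iff_le_factorization hG0).mpr h)
    omega
  let P : Sylow p G := Sylow.ofCard (Subgroup.zpowers c) (by rw [hcard, hfac, pow_one])
  have hPc : (P : Subgroup G) = Subgroup.zpowers c := Sylow.coe_ofCard _ _
  have hab : IsMulCommutative ↥(P : Subgroup G) := by
    rw [hPc]; exact comm_zpowers c
  have hcP : c ∈ (P : Subgroup G) := by rw [hPc]; exact Subgroup.mem_zpowers c
  have hnn : ¬ (P : Subgroup G).Normal := by
    intro hn
    apply hnc
    have := hn.conj_mem c hcP t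
    rw [hPc] at this
    exact commute_of_mem_zpowers this
  have hnot : ¬ (Cfsg.IsElementaryAbelian p (P : Subgroup G) ∧ p < Nat.card ↥(P : Subgroup G)) := by
    rintro ⟨-, hlt⟩
    rw [hPc, hcard] at hlt
    exact lt_irrefl _ hlt
  obtain ⟨-, h2, -⟩ := main hZ h𝓐 P hab hnn hnot
  have hle : Subgroup.centralizer ((P : Subgroup G) : Set G) ≤ H := by
    intro g hg
    apply hCH
    rw [Subgroup.mem_centralizer_iff] at hg
    exact (hg c hcP).symm
  have htN := h2 H hH hle ht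
  rw [Subgroup.mem_normalizer_iff] at htN
  have := (htN c).mp hcP
  rw [hPc] at this
  exact hnc (commute_of_mem_zpowers this)

/-- transport to a permutation representation -/
theorem perm_witness {G : Type*} [Group G] [Finite G] {n : ℕ} (ι : G →* Equiv.Perm (Fin n))
    (hι : Function.Injective ι) (hZ : Subgroup.center G = ⊥)
    {𝓐 : Finset (Subgroup G)} (h𝓐 : IsMinNilpCover 𝓐) {p : ℕ} [hp : Fact p.Prime]
    (σ τ : Equiv.Perm (Fin n)) (hσr : σ ∈ ι.range) (hτr : τ ∈ ι.range)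
    (hσ : orderOf σ = p) (hp2 : ¬ p ^ 2 ∣ Nat.card G)
    (K : Subgroup (Equiv.Perm (Fin n))) (hK : ∃ ρ ∈ ι.range, ρ ∉ K)
    (hCK : ∀ g ∈ ι.range, Commute g σ → g ∈ K) (hτK : τ ∈ K)
    (hnc : ¬ Commute (τ * σ * τ⁻¹) σ) : False := by
  obtain ⟨c, rfl⟩ := hσr
  obtain ⟨t, rfl⟩ := hτr
  obtain ⟨ρ, ⟨r, rfl⟩, hρ⟩ := hK
  refine no_cover_of_witness hZ h𝓐 c ((orderOf_injective ι hι c).symm.trans hσ) hp2
    (K.comap ι) ?_ ?_ t hτK ?_
  · intro h
    apply hρ
    have : r ∈ K.comap ι := h ▸ Subgroup.mem_top r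
    exact this
  · intro g hg
    exact hCK _ ⟨g, rfl⟩ (hg.map ι)
  · intro h
    apply hnc
    have := h.map ι
    simpa using this

/-- the center of the symmetric group of degree at least 3 is trivial -/
theorem center_perm {n : ℕ} (hn : 3 ≤ n) : Subgroup.center (Equiv.Perm (Fin n)) = ⊥ := by
  rw [eq_bot_iff]
  intro g hg
  rw [Subgroup.mem_bot]
  rw [Subgroup.mem_center_iff] at hg
  by_contra hg1
  obtain ⟨i, hi⟩ : ∃ i, g i ≠ i := by
    by_contra h
    push Not at h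
    exact hg1 (Equiv.ext h)
  obtain ⟨k, hki, hkg⟩ : ∃ k : Fin n, k ≠ i ∧ k ≠ g i := by
    by_contra h
    push Not at h
    have hsub : (Finset.univ : Finset (Fin n)) ⊆ {i, g i} := by
      intro k _
      by_cases hk : k = i
      · simp [hk]
      · simp [h k hk]
    have := Finset.card_le_card hsub
    have h2 : ({i, g i} : Finset (Fin n)).card ≤ 2 := Finset.card_le_two
    simp at this
    omega
  have h := hg (Equiv.swap (g i) k)
  have h1 := congrArg (fun f : Equiv.Perm (Fin n) => f i) h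
  simp only [Equiv.Perm.mul_apply] at h1
  rw [Equiv.swap_apply_left, Equiv.swap_apply_of_ne_of_ne hi.symm hki.symm] at h1
  exact hkg h1

theorem sigma_val {n : ℕ} (e j : Fin n) :
    ((Fin.cycleRange e j : Fin n) : ℕ) =
      if j.val < e.val then j.val + 1 else if j.val = e.val then 0 else j.val := by
  rcases lt_trichotomy j.val e.val with h | h | h
  · rw [if_pos h]
    exact Fin.coe_cycleRange_of_lt (Fin.lt_def.mpr h)
  · rw [if_neg (by omega), if_pos h]
    have hje : j = e := Fin.ext h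
    rw [Fin.coe_cycleRange_of_le (le_of_eq hje), if_pos hje]
  · rw [if_neg (by omega), if_neg (by omega)]
    rw [Fin.cycleRange_of_gt (Fin.lt_def.mpr h)]

/-- permutations preserving the set of the first `p` points -/
def stab (n p : ℕ) : Subgroup (Equiv.Perm (Fin n)) where
  carrier := {g | ∀ i : Fin n, (g i).val < p ↔ i.val < p}
  one_mem' := fun i => Iff.rfl
  mul_mem' := by
    intro a b ha hb i
    rw [Equiv.Perm.mul_apply]
    exact (ha (b i)).trans (hb i)
  inv_mem' := by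
    intro a ha i
    have := ha (a⁻¹ i)
    rw [show a (a⁻¹ i) = i from by simp] at this
    exact this.symm

theorem mem_stab {n p : ℕ} (g : Equiv.Perm (Fin n)) :
    g ∈ stab n p ↔ ∀ i : Fin n, (g i).val < p ↔ i.val < p := Iff.rfl

theorem swap_mem_stab {n p : ℕ} (x y : Fin n) (hx : x.val < p) (hy : y.val < p) :
    Equiv.swap x y ∈ stab n p := by
  rw [mem_stab]
  intro i
  rw [Equiv.swap_apply_def]
  split_ifs with h1 h2
  · subst h1
    exact ⟨fun _ => hx, fun _ => hy⟩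
  · subst h2
    exact ⟨fun _ => hy, fun _ => hx⟩
  · exact Iff.rfl

theorem padic_fact {n p : ℕ} (hp : p.Prime) (hpn : p ≤ n) (hn2 : n < 2 * p) :
    ¬ p ^ 2 ∣ n.factorial := by
  haveI : Fact p.Prime := ⟨hp⟩
  intro h
  have h2 := (padicValNat_dvd_iff_le (Nat.factorial_ne_zero n)).mp h
  have hn : n = p * 1 + (n - p) := by omega
  have h3 : padicValNat p n.factorial = 1 := by
    rw [hn, padicValNat_factorial_mul_add 1 (by omega), padicValNat_factorial_mul 1]
    simp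
  omega

theorem generic {G : Type*} [Group G] [Finite G] {n : ℕ} (ι : G →* Equiv.Perm (Fin n))
    (hι : Function.Injective ι)
    (hr : ∀ σ : Equiv.Perm (Fin n), Equiv.Perm.sign σ = 1 → σ ∈ ι.range)
    (hZ : Subgroup.center G = ⊥) {𝓐 : Finset (Subgroup G)} (h𝓐 : IsMinNilpCover 𝓐)
    {p : ℕ} (hp : p.Prime) (h5 : 5 ≤ p) (hpn : p < n) (hn2 : n < 2 * p) : False := by
  haveI : Fact p.Prime := ⟨hp⟩
  haveI : NeZero n := ⟨by omega⟩
  obtain ⟨e, he⟩ : ∃ a : Fin n, a.val = p - 1 := ⟨⟨p - 1, by omega⟩, rfl⟩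
  obtain ⟨a0, h0⟩ : ∃ a : Fin n, a.val = 0 := ⟨⟨0, by omega⟩, rfl⟩
  obtain ⟨a1, h1⟩ : ∃ a : Fin n, a.val = 1 := ⟨⟨1, by omega⟩, rfl⟩
  obtain ⟨a2, h2⟩ : ∃ a : Fin n, a.val = 2 := ⟨⟨2, by omega⟩, rfl⟩
  obtain ⟨a3, h3⟩ : ∃ a : Fin n, a.val = 3 := ⟨⟨3, by omega⟩, rfl⟩
  obtain ⟨a4, h4⟩ : ∃ a : Fin n, a.val = 4 := ⟨⟨4, by omega⟩, rfl⟩
  obtain ⟨ap, hap⟩ : ∃ a : Fin n, a.val = p := ⟨⟨p, hpn⟩, rfl⟩
  have hne : ∀ {a b : Fin n}, a.val ≠ b.val → a ≠ b := fun h => Fin.ne_of_val_ne h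
  obtain ⟨σ, hσdef⟩ : ∃ σ : Equiv.Perm (Fin n), σ = Fin.cycleRange e := ⟨_, rfl⟩
  have hσv : ∀ j : Fin n, (σ j).val =
      if j.val < p - 1 then j.val + 1 else if j.val = p - 1 then 0 else j.val := by
    intro j
    rw [hσdef, sigma_val, he]
  have hσ0 : σ a0 = a1 := Fin.ext (by rw [hσv, h0, h1, if_pos (by omega)])
  have hσ2 : σ a2 = a3 := Fin.ext (by rw [hσv, h2, h3, if_pos (by omega)])
  have hσ3 : σ a3 = a4 := Fin.ext (by rw [hσv, h3, h4, if_pos (by omega)])
  have hσsupp : ∀ j : Fin n, σ j ≠ j ↔ j.val < p := by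
    intro j
    rw [Ne, Fin.ext_iff, hσv]
    split_ifs with ha hb
    · constructor
      · intro _; omega
      · intro _; omega
    · constructor
      · intro _; omega
      · intro _; omega
    · constructor
      · intro h; exact absurd rfl h
      · intro _; omega
  have hσsign : Equiv.Perm.sign σ = 1 := by
    rw [hσdef, Fin.sign_cycleRange, he]
    have hodd : Odd p := hp.odd_of_ne_two (by omega)
    have : Even (p - 1) := by
      obtain ⟨k, hk⟩ := hodd
      exact ⟨k, by omega⟩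
    exact this.neg_one_pow
  have hσord : orderOf σ = p := by
    have he0 : e ≠ 0 := by
      intro h
      have := congrArg Fin.val h
      rw [he] at this
      simp at this
      omega
    rw [← Equiv.Perm.lcm_cycleType, hσdef, Fin.cycleType_cycleRange he0, he]
    simp
    omega
  obtain ⟨τ, hτdef⟩ : ∃ τ : Equiv.Perm (Fin n), τ = Equiv.swap a0 a1 * Equiv.swap a1 a2 := ⟨_, rfl⟩
  obtain ⟨ρ, hρdef⟩ : ∃ ρ : Equiv.Perm (Fin n), ρ = Equiv.swap a0 a1 * Equiv.swap a1 ap := ⟨_, rfl⟩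
  have h01 : a0 ≠ a1 := hne (by omega)
  have h02 : a0 ≠ a2 := hne (by omega)
  have h12 : a1 ≠ a2 := hne (by omega)
  have h1p : a1 ≠ ap := hne (by omega)
  have h0p : a0 ≠ ap := hne (by omega)
  have hτsign : Equiv.Perm.sign τ = 1 := by
    rw [hτdef, Equiv.Perm.sign_mul, Equiv.Perm.sign_swap h01, Equiv.Perm.sign_swap h12]
    rfl
  have hρsign : Equiv.Perm.sign ρ = 1 := by
    rw [hρdef, Equiv.Perm.sign_mul, Equiv.Perm.sign_swap h01, Equiv.Perm.sign_swap h1p]
    rfl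
  have hτ0 : τ a0 = a1 := by
    rw [hτdef, Equiv.Perm.mul_apply, Equiv.swap_apply_of_ne_of_ne h01 h02, Equiv.swap_apply_left]
  have hτ1 : τ a1 = a2 := by
    rw [hτdef, Equiv.Perm.mul_apply, Equiv.swap_apply_left,
      Equiv.swap_apply_of_ne_of_ne h02.symm h12.symm]
  have hτ2 : τ a2 = a0 := by
    rw [hτdef, Equiv.Perm.mul_apply, Equiv.swap_apply_right, Equiv.swap_apply_right]
  have hτ3 : τ a3 = a3 := by
    rw [hτdef, Equiv.Perm.mul_apply,
      Equiv.swap_apply_of_ne_of_ne (hne (a := a3) (b := a1) (by omega))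
        (hne (a := a3) (b := a2) (by omega)),
      Equiv.swap_apply_of_ne_of_ne (hne (a := a3) (b := a0) (by omega))
        (hne (a := a3) (b := a1) (by omega))]
  have hτi1 : τ⁻¹ a1 = a0 := by rw [Equiv.Perm.inv_eq_iff_eq, hτ0]
  have hτi0 : τ⁻¹ a0 = a2 := by rw [Equiv.Perm.inv_eq_iff_eq, hτ2]
  have hρ1 : ρ a1 = ap := by
    rw [hρdef, Equiv.Perm.mul_apply, Equiv.swap_apply_left,
      Equiv.swap_apply_of_ne_of_ne h0p.symm h1p.symm]
  have hcardG : Nat.card G ∣ n.factorial := by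
    have := Subgroup.card_dvd_of_injective ι hι
    rwa [Nat.card_perm, Nat.card_fin] at this
  refine perm_witness ι hι hZ h𝓐 σ τ (hr σ hσsign) (hr τ hτsign) hσord ?_ (stab n p)
    ⟨ρ, hr ρ hρsign, ?_⟩ ?_ ?_ ?_
  · intro h
    exact padic_fact hp hpn.le hn2 (h.trans hcardG)
  · intro hmem
    have := (hmem a1).mpr (by omega)
    rw [hρ1, hap] at this
    exact lt_irrefl _ this
  · intro g _ hg
    rw [mem_stab]
    intro i
    have hc : σ (g i) = g (σ i) := by
      have := congrArg (fun f : Equiv.Perm (Fin n) => f i) hg.eq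
      simp only [Equiv.Perm.mul_apply] at this
      exact this.symm
    rw [← hσsupp, ← hσsupp, hc]
    exact g.injective.ne_iff
  · rw [hτdef]
    exact mul_mem (swap_mem_stab _ _ (by omega) (by omega)) (swap_mem_stab _ _ (by omega) (by omega))
  · intro hcomm
    have := congrArg (fun f : Equiv.Perm (Fin n) => f a0) hcomm.eq
    simp only [Equiv.Perm.mul_apply] at this
    rw [hσ0, hτi1, hσ0, hτ1, hτi0, hσ2, hτ3, hσ3] at this
    have := congrArg Fin.val this
    omega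

theorem exists_prime {n : ℕ} (h6 : 6 ≤ n) : ∃ p : ℕ, p.Prime ∧ 5 ≤ p ∧ p < n ∧ n < 2 * p := by
  by_cases h8 : n < 8
  · exact ⟨5, by norm_num, le_rfl, by omega, by omega⟩
  · obtain ⟨p, hp, h1, h2⟩ := Nat.exists_prime_lt_and_le_two_mul (n / 2) (by omega)
    refine ⟨p, hp, by omega, ?_, by omega⟩
    rcases Nat.even_or_odd n with he | ho
    · -- p ≤ n, p ≠ n
      have hle : p ≤ n := by omega
      rcases hle.lt_or_eq with h | h
      · exact h
      · exfalso
        rw [h] at hp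
        have := (hp.even_iff).mp he
        omega
    · obtain ⟨k, hk⟩ := ho
      omega

theorem id_range {n : ℕ} (g : Equiv.Perm (Fin n)) :
    g ∈ (MonoidHom.id (Equiv.Perm (Fin n))).range := ⟨g, rfl⟩

set_option maxRecDepth 100000 in
theorem sym4_comm : ∀ g : Equiv.Perm (Fin 4),
    g * (c[0, 1, 2] : Equiv.Perm (Fin 4)) = c[0, 1, 2] * g → Equiv.Perm.sign g = 1 := by
  decide

set_option maxRecDepth 100000 in
theorem sym5_comm : ∀ g : Equiv.Perm (Fin 5),
    g * (c[0, 1, 2, 3, 4] : Equiv.Perm (Fin 5)) = c[0, 1, 2, 3, 4] * g →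
      Equiv.Perm.sign g = 1 := by
  decide

set_option maxRecDepth 100000 in
theorem alt5_comm : ∀ g : Equiv.Perm (Fin 5), Equiv.Perm.sign g = 1 →
    g * (c[0, 1, 2] : Equiv.Perm (Fin 5)) = c[0, 1, 2] * g → g 4 = 4 := by
  decide

set_option maxRecDepth 100000 in
theorem sym4 {𝓐 : Finset (Subgroup (Equiv.Perm (Fin 4)))} (h𝓐 : IsMinNilpCover 𝓐) : False := by
  haveI : Fact (Nat.Prime 3) := ⟨by norm_num⟩
  refine perm_witness (p := 3) (MonoidHom.id (Equiv.Perm (Fin 4))) (fun _ _ h => h)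
    (center_perm (by norm_num)) h𝓐 (c[0, 1, 2] : Equiv.Perm (Fin 4))
    (Equiv.swap 0 1 * Equiv.swap 2 3) (id_range _) (id_range _) ?_ ?_
    (alternatingGroup (Fin 4)) ⟨Equiv.swap 0 1, id_range _, ?_⟩ ?_ ?_ ?_
  · exact orderOf_eq_prime (by decide) (by decide)
  · rw [Nat.card_perm, Nat.card_fin]
    decide
  · rw [Equiv.Perm.mem_alternatingGroup]
    decide
  · intro g _ hg
    rw [Equiv.Perm.mem_alternatingGroup]
    exact sym4_comm g hg.eq
  · rw [Equiv.Perm.mem_alternatingGroup]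
    decide
  · rw [commute_iff_eq]
    decide

set_option maxRecDepth 100000 in
theorem sym5 {𝓐 : Finset (Subgroup (Equiv.Perm (Fin 5)))} (h𝓐 : IsMinNilpCover 𝓐) : False := by
  haveI : Fact (Nat.Prime 5) := ⟨by norm_num⟩
  refine perm_witness (p := 5) (MonoidHom.id (Equiv.Perm (Fin 5))) (fun _ _ h => h)
    (center_perm (by norm_num)) h𝓐 (c[0, 1, 2, 3, 4] : Equiv.Perm (Fin 5))
    (c[0, 1, 2] : Equiv.Perm (Fin 5)) (id_range _) (id_range _) ?_ ?_
    (alternatingGroup (Fin 5)) ⟨Equiv.swap 0 1, id_range _, ?_⟩ ?_ ?_ ?_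
  · exact orderOf_eq_prime (by decide) (by decide)
  · rw [Nat.card_perm, Nat.card_fin]
    decide
  · rw [Equiv.Perm.mem_alternatingGroup]
    decide
  · intro g _ hg
    rw [Equiv.Perm.mem_alternatingGroup]
    exact sym5_comm g hg.eq
  · rw [Equiv.Perm.mem_alternatingGroup]
    decide
  · rw [commute_iff_eq]
    decide

set_option maxRecDepth 100000 in
theorem alt5 {𝓐 : Finset (Subgroup ↥(alternatingGroup (Fin 5)))} (h𝓐 : IsMinNilpCover 𝓐) :
    False := by
  haveI : Fact (Nat.Prime 3) := ⟨by norm_num⟩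
  have hrange : ∀ g : Equiv.Perm (Fin 5),
      g ∈ (alternatingGroup (Fin 5)).subtype.range ↔ Equiv.Perm.sign g = 1 := by
    intro g
    rw [Subgroup.range_subtype, Equiv.Perm.mem_alternatingGroup]
  refine perm_witness (p := 3) (alternatingGroup (Fin 5)).subtype Subtype.val_injective
    (alternatingGroup.center_eq_bot (by rw [Nat.card_fin]; norm_num)) h𝓐
    (c[0, 1, 2] : Equiv.Perm (Fin 5))
    (Equiv.swap 0 1 * Equiv.swap 2 3) ((hrange _).mpr (by decide)) ((hrange _).mpr (by decide))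
    ?_ ?_
    (MulAction.stabilizer (Equiv.Perm (Fin 5)) (4 : Fin 5))
    ⟨(c[2, 3, 4] : Equiv.Perm (Fin 5)), (hrange _).mpr (by decide), ?_⟩ ?_ ?_ ?_
  · exact orderOf_eq_prime (by decide) (by decide)
  · rw [nat_card_alternatingGroup, Nat.card_fin]
    decide
  · rw [MulAction.mem_stabilizer_iff, Equiv.Perm.smul_def]
    decide
  · intro g hgr hg
    rw [MulAction.mem_stabilizer_iff, Equiv.Perm.smul_def]
    exact alt5_comm g ((hrange g).mp hgr) hg.eq
  · rw [MulAction.mem_stabilizer_iff, Equiv.Perm.smul_def]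
    decide
  · rw [commute_iff_eq]
    decide

/-- A cover of a group is a finite set of proper subgroups whose union is the whole group; it is minimal when no cover has fewer members, and nilpotent when all its members are nilpotent. The alternating groups of degree at least 5 and the symmetric groups of degree at least 4 have no nilpotent minimal cover. -/
theorem result (n : ℕ) :
    (5 ≤ n → ¬ ∃ 𝓐 : Finset (Subgroup ↥(alternatingGroup (Fin n))), ((∀ A ∈ 𝓐, A ≠ ⊤) ∧ (∀ g : ↥(alternatingGroup (Fin n)), ∃ A ∈ 𝓐, g ∈ A)) ∧ (∀ 𝓑 : Finset (Subgroup ↥(alternatingGroup (Fin n))), (∀ A ∈ 𝓑, A ≠ ⊤) ∧ (∀ g : ↥(alternatingGroup (Fin n)), ∃ A ∈ 𝓑, g ∈ A) → 𝓐.card ≤ 𝓑.card) ∧ (∀ A ∈ 𝓐, Group.IsNilpotent ↥A)) ∧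
    (4 ≤ n → ¬ ∃ 𝓐 : Finset (Subgroup (Equiv.Perm (Fin n))), ((∀ A ∈ 𝓐, A ≠ ⊤) ∧ (∀ g : (Equiv.Perm (Fin n)), ∃ A ∈ 𝓐, g ∈ A)) ∧ (∀ 𝓑 : Finset (Subgroup (Equiv.Perm (Fin n))), (∀ A ∈ 𝓑, A ≠ ⊤) ∧ (∀ g : (Equiv.Perm (Fin n)), ∃ A ∈ 𝓑, g ∈ A) → 𝓐.card ≤ 𝓑.card) ∧ (∀ A ∈ 𝓐, Group.IsNilpotent ↥A)) := by
  constructor
  · intro h5
    rintro ⟨𝓐, h𝓐⟩
    by_cases h6 : 6 ≤ n
    · have hZ : Subgroup.center ↥(alternatingGroup (Fin n)) = ⊥ :=
        alternatingGroup.center_eq_bot (by rw [Nat.card_fin]; omega)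
      obtain ⟨p, hp, hp5, hpn, hn2⟩ := exists_prime h6
      refine generic (alternatingGroup (Fin n)).subtype Subtype.val_injective ?_ hZ
        (show IsMinNilpCover 𝓐 from h𝓐) hp hp5 hpn hn2
      intro σ hσ
      rw [Subgroup.range_subtype, Equiv.Perm.mem_alternatingGroup]
      exact hσ
    · have hn : n = 5 := by omega
      subst hn
      exact alt5 (show IsMinNilpCover 𝓐 from h𝓐)
  · intro h4
    rintro ⟨𝓐, h𝓐⟩
    by_cases h6 : 6 ≤ n
    · obtain ⟨p, hp, hp5, hpn, hn2⟩ := exists_prime h6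
      exact generic (MonoidHom.id (Equiv.Perm (Fin n))) (fun _ _ h => h)
        (fun σ _ => id_range σ) (center_perm (by omega))
        (show IsMinNilpCover 𝓐 from h𝓐) hp hp5 hpn hn2
    · have hn : n = 4 ∨ n = 5 := by omega
      rcases hn with hn | hn
      · subst hn
        exact sym4 (show IsMinNilpCover 𝓐 from h𝓐)
      · subst hn
        exact sym5 (show IsMinNilpCover 𝓐 from h𝓐)

end Cfsg.Agent.S3892
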