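import Cfsg.Statements.S3894
import Cfsg.Agent.Lib.Helper7.NilCov1
import Cfsg.Agent.Lib.Helper7.NilCov3
import Cfsg.Agent.Lib.Helper8.NMC4

set_option autoImplicit false
open Cfsg

namespace Cfsg.Agent.S3894

open Cfsg.Agent.Lib.Helper7.NilCov

/-- A cover of a group is a finite set of proper subgroups whose union is the whole group; it is minimal when no cover has fewer members, and nilpotent when all its members are nilpotent. Let F be a finite field with q elements and n ≥ 3, or n = 2 and q ≥ 4. Then no subgroup of PGL_n(F) = GL_n(F)/Z(GL_n(F)) containing the image of SL_n(F) has a nilpotent minimal cover. -/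
theorem result {F : Type*} [Field F] [Fintype F] (n : ℕ) (hn : 3 ≤ n ∨ (n = 2 ∧ 4 ≤ Fintype.card F))
    (G : Subgroup (GL (Fin n) F ⧸ Subgroup.center (GL (Fin n) F)))
    (hG : ((Matrix.SpecialLinearGroup.toGL : Matrix.SpecialLinearGroup (Fin n) F →* GL (Fin n) F).range).map
      (QuotientGroup.mk' (Subgroup.center (GL (Fin n) F))) ≤ G) :
    ¬ ∃ 𝓐 : Finset (Subgroup ↥G), ((∀ A ∈ 𝓐, A ≠ ⊤) ∧ (∀ g : ↥G, ∃ A ∈ 𝓐, g ∈ A)) ∧ (∀ 𝓑 : Finset (Subgroup ↥G), (∀ A ∈ 𝓑, A ≠ ⊤) ∧ (∀ g : ↥G, ∃ A ∈ 𝓑, g ∈ A) → 𝓐.card ≤ 𝓑.card) ∧ (∀ A ∈ 𝓐, Group.IsNilpotent ↥A) := by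
  intro h
  obtain ⟨C, hC⟩ := exists_nilMinLiftedCover (Z := Subgroup.center (GL (Fin n) F)) le_rfl G h
  have hZ : Subgroup.center (GL (Fin n) F) ≤
      G.comap (QuotientGroup.mk' (Subgroup.center (GL (Fin n) F))) := by
    intro z hz
    rw [Subgroup.mem_comap]
    have : QuotientGroup.mk' (Subgroup.center (GL (Fin n) F)) z = 1 :=
      (QuotientGroup.eq_one_iff z).2 hz
    rw [this]; exact G.one_mem
  have hSL : (Matrix.SpecialLinearGroup.toGL :
      Matrix.SpecialLinearGroup (Fin n) F →* GL (Fin n) F).range ≤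
      G.comap (QuotientGroup.mk' (Subgroup.center (GL (Fin n) F))) := by
    intro g hg
    rw [Subgroup.mem_comap]
    exact hG (Subgroup.mem_map_of_mem _ hg)
  rcases hn with hn | ⟨rfl, hq⟩
  · exact no_nilMin_three hn _ hZ hSL C hC
  · exact Cfsg.Agent.Lib.Helper8.NMC.no_nilMin_two hq _ hZ hSL C hC

end Cfsg.Agent.S3894
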