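import Mathlib
import Cfsg.Statements.S3897
import Cfsg.Agent.Lib.Helper7.PClasses

set_option autoImplicit false
open Cfsg

namespace Cfsg.Agent.S3897

open Cfsg.Agent.Lib.Helper7

/-- with a normal `p`-complement and abelian Sylow subgroup, distinct elements of `P` are not
conjugate -/
theorem clOf_injective {G : Type*} [Group G] [Finite G] {p : ℕ} [Fact p.Prime] (P : Sylow p G)
    (hnc : Cfsg.HasNormalPComplement p G) (hab : IsMulCommutative ↥(P : Subgroup G)) :
    Function.Injective (PCl.clOf P) := by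
  obtain ⟨P0, K, hKn, hc⟩ := hnc
  haveI := hKn
  have hcardP : Nat.card (P : Subgroup G) = Nat.card (P0 : Subgroup G) := by
    rw [Sylow.card_eq_multiplicity, Sylow.card_eq_multiplicity]
  have hKcop : ¬ p ∣ Nat.card K := by
    have h1 : (P0 : Subgroup G).index = Nat.card K := hc.index_eq_card
    rw [← h1]
    exact P0.not_dvd_index
  have hdisj : Disjoint K (P : Subgroup G) := by
    rw [disjoint_iff, eq_bot_iff]
    intro z hz
    have hpg : IsPGroup p (K ⊓ (P : Subgroup G) : Subgroup G) := P.2.to_le inf_le_right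
    rcases hpg.card_eq_or_dvd with h1 | h1
    · have := Subgroup.card_eq_one.mp h1
      rw [this] at hz
      exact hz
    · exfalso
      apply hKcop
      exact h1.trans (Subgroup.card_dvd_of_le inf_le_left)
  have hc' : Subgroup.IsComplement' K (P : Subgroup G) := by
    apply Subgroup.isComplement'_of_card_mul_and_disjoint _ hdisj
    rw [hcardP]
    exact hc.card_mul_card
  intro x y hxy
  have h1 : ConjClasses.mk (x : G) = ConjClasses.mk (y : G) := congrArg Subtype.val hxy
  rw [ConjClasses.mk_eq_mk_iff_isConj, isConj_iff] at h1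
  obtain ⟨g, hg⟩ := h1
  -- write g = k * u
  obtain ⟨⟨⟨k, hk⟩, ⟨u, hu⟩⟩, hku⟩ := hc'.2 g
  have hku' : k * u = g := hku
  have hux : u * (x : G) * u⁻¹ = (x : G) := by
    have := hab.1.1 (⟨u, hu⟩ : (P : Subgroup G)) x
    have h2 : u * (x : G) = (x : G) * u := congrArg Subtype.val this
    rw [h2]; group
  have hy : (y : G) = k * (x : G) * k⁻¹ := by
    rw [← hg, ← hku']
    calc k * u * (x : G) * (k * u)⁻¹ = k * (u * (x : G) * u⁻¹) * k⁻¹ := by group
      _ = k * (x : G) * k⁻¹ := by rw [hux]
  have hmem : (x : G)⁻¹ * (y : G) ∈ K ⊓ (P : Subgroup G) := by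
    have hxP : (x : G)⁻¹ * (y : G) ∈ (P : Subgroup G) :=
      Subgroup.mul_mem _ (Subgroup.inv_mem _ x.2) y.2
    refine Subgroup.mem_inf.mpr ⟨?_, hxP⟩
    rw [hy]
    have h3 : (x : G)⁻¹ * k * ((x : G)⁻¹)⁻¹ ∈ K := hKn.conj_mem k hk _
    have h4 : (x : G)⁻¹ * (k * (x : G) * k⁻¹) = ((x : G)⁻¹ * k * ((x : G)⁻¹)⁻¹) * k⁻¹ := by group
    rw [h4]
    exact Subgroup.mul_mem _ h3 (Subgroup.inv_mem _ hk)
  rw [disjoint_iff.mp hdisj, Subgroup.mem_bot] at hmem
  apply Subtype.ext
  exact inv_mul_eq_one.mp hmem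

/-- Let p be an odd prime and G a finite group with Sylow p-subgroup P, and write k_p(G) for the number of conjugacy classes of G consisting of p-elements (elements of p-power order, the identity included). Then k_p(G) > (p + 1)|P|/(2p) if and only if G has a normal p-complement and P is abelian. -/
theorem result {G : Type*} [Group G] [Finite G] {p : ℕ} [Fact p.Prime] (hp : p ≠ 2) (P : Sylow p G) :
    (p + 1) * Nat.card ↥(P : Subgroup G) < 2 * p * Nat.card {c : ConjClasses G // ∀ x ∈ c.carrier, ∃ k : ℕ, orderOf x = p ^ k} ↔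
      Cfsg.HasNormalPComplement p G ∧ IsMulCommutative ↥(P : Subgroup G) := by
  have hpp : p.Prime := Fact.out
  constructor
  · intro h
    have hP : Subgroup.normalizer ((P : Subgroup G) : Set G) ≤
        Subgroup.centralizer ((P : Subgroup G) : Set G) := by
      by_contra hcon
      have h1 := PCl.orbit_bound P hcon
      have h2 := PCl.card_le_orbits P
      have h3 : 2 * p * Nat.card (PCl.Cl p G) ≤ (p + 1) * Nat.card (P : Subgroup G) :=
        (Nat.mul_le_mul_left _ h2).trans h1
      exact absurd h (not_lt.mpr h3)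
    refine ⟨⟨P, (MonoidHom.transferSylow P hP).ker, inferInstance,
      MonoidHom.ker_transferSylow_isComplement' P hP⟩, ?_⟩
    exact ⟨⟨fun a b => Subtype.ext (hP (Subgroup.le_normalizer b.2) a a.2)⟩⟩
  · rintro ⟨hnc, hab⟩
    have hinj := clOf_injective P hnc hab
    have hle : Nat.card (P : Subgroup G) ≤ Nat.card (PCl.Cl p G) :=
      Nat.card_le_card_of_injective _ hinj
    have hpos : 0 < Nat.card (P : Subgroup G) := Nat.card_pos
    have h2 := hpp.two_le
    calc (p + 1) * Nat.card (P : Subgroup G) < 2 * p * Nat.card (P : Subgroup G) := by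
          apply Nat.mul_lt_mul_of_pos_right _ hpos
          omega
      _ ≤ 2 * p * Nat.card (PCl.Cl p G) := Nat.mul_le_mul_left _ hle

end Cfsg.Agent.S3897
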