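import Mathlib
import Cfsg.Statements.S3899
import Cfsg.Agent.S3897
import Cfsg.Agent.Lib.Helper7.PiClasses

set_option autoImplicit false
open Cfsg

namespace Cfsg.Agent.S3899

open Cfsg.Agent.Lib.Helper7

/-- facts about a normal `q`-complement with abelian Sylow subgroup -/
theorem npc_facts {G : Type*} [Group G] [Finite G] (q : ℕ) [Fact q.Prime] (P0 : Sylow q G)
    (K : Subgroup G) (hKn : K.Normal) (hc : K.IsComplement' (P0 : Subgroup G))
    (hab : IsMulCommutative ↥(P0 : Subgroup G)) :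
    ¬ q ∣ Nat.card K ∧ (∃ n : ℕ, K.index = q ^ n) ∧ ∀ a b : G, a * b * a⁻¹ * b⁻¹ ∈ K := by
  haveI := hKn
  refine ⟨?_, ?_, ?_⟩
  · have h1 : (P0 : Subgroup G).index = Nat.card K := hc.index_eq_card
    rw [← h1]
    exact P0.not_dvd_index
  · have h1 : K.index = Nat.card (P0 : Subgroup G) := hc.symm.index_eq_card
    rw [h1]
    exact ⟨_, Sylow.card_eq_multiplicity P0⟩
  · intro a b
    obtain ⟨⟨⟨k1, hk1⟩, ⟨u1, hu1⟩⟩, h1⟩ := hc.2 a
    obtain ⟨⟨⟨k2, hk2⟩, ⟨u2, hu2⟩⟩, h2⟩ := hc.2 b
    have h1' : k1 * u1 = a := h1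
    have h2' : k2 * u2 = b := h2
    have hu : u1 * u2 = u2 * u1 := by
      have := hab.1.1 (⟨u1, hu1⟩ : (P0 : Subgroup G)) ⟨u2, hu2⟩
      exact congrArg Subtype.val this
    rw [← QuotientGroup.eq_one_iff]
    have e1 : ((k1 : G) : G ⧸ K) = 1 := (QuotientGroup.eq_one_iff k1).mpr hk1
    have e2 : ((k2 : G) : G ⧸ K) = 1 := (QuotientGroup.eq_one_iff k2).mpr hk2
    have ea : ((a : G) : G ⧸ K) = ((u1 : G) : G ⧸ K) := by
      rw [← h1', QuotientGroup.mk_mul, e1, one_mul]
    have eb : ((b : G) : G ⧸ K) = ((u2 : G) : G ⧸ K) := by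
      rw [← h2', QuotientGroup.mk_mul, e2, one_mul]
    rw [QuotientGroup.mk_mul, QuotientGroup.mk_mul, QuotientGroup.mk_mul, QuotientGroup.mk_inv,
      QuotientGroup.mk_inv, ea, eb, ← QuotientGroup.mk_mul, hu, QuotientGroup.mk_mul]
    group

/-- Let π be a finite non-empty set of odd primes with smallest member p and G a finite group. Write k_π(G) for the number of conjugacy classes of G consisting of π-elements (elements all of whose order's prime divisors lie in π) and |G|_π for the π-part of the order of G. If k_π(G) > (p + 1)|G|_π/(2p), then G has a normal π-complement (a normal subgroup of order prime to π whose index is a π-number) and an abelian Hall π-subgroup. -/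
theorem result {G : Type*} [Group G] [Finite G] (π : Finset ℕ) (hπ : ∀ r ∈ π, r.Prime) (h2 : 2 ∉ π) (p : ℕ) (hp : p ∈ π)
    (hmin : ∀ r ∈ π, p ≤ r) (hk : (p + 1) * π.prod (fun r => r ^ (Nat.card G).factorization r) < 2 * p * Nat.card {c : ConjClasses G // ∀ x ∈ c.carrier, ∀ r : ℕ, r.Prime → r ∣ orderOf x → r ∈ π}) :
    (∃ N : Subgroup G, N.Normal ∧ (∀ r : ℕ, r.Prime → r ∣ Nat.card ↥N → r ∉ π) ∧ ∀ r : ℕ, r.Prime → r ∣ N.index → r ∈ π) ∧ ∃ H : Subgroup G, Cfsg.IsPiHall (↑π : Set ℕ) H ∧ IsMulCommutative ↥H := by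
  classical
  -- each prime of π
  have hq : ∀ q ∈ π, ∃ K : Subgroup G, K.Normal ∧ ¬ q ∣ Nat.card K ∧ (∃ n : ℕ, K.index = q ^ n) ∧
      ∀ a b : G, a * b * a⁻¹ * b⁻¹ ∈ K := by
    intro q hqπ
    have hqp : q.Prime := hπ q hqπ
    haveI : Fact q.Prime := ⟨hqp⟩
    have hq2 : q ≠ 2 := fun h => h2 (h ▸ hqπ)
    have h1 := PiCl.card_le_mul π hπ q hqπ G
    have h3 : π.prod (fun r => r ^ (Nat.card G).factorization r)
        = q ^ (Nat.card G).factorization q * PiCl.part (π.erase q) (Nat.card G) := by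
      rw [← Finset.mul_prod_erase π _ hqπ]
      rfl
    have hEpos : 0 < PiCl.part (π.erase q) (Nat.card G) := by
      unfold PiCl.part
      apply Finset.prod_pos
      intro r hr
      exact pow_pos (hπ r (Finset.mem_of_mem_erase hr)).pos _
    set E := PiCl.part (π.erase q) (Nat.card G) with hE
    set v := q ^ (Nat.card G).factorization q with hv
    set kq := Nat.card (PCl.Cl q G) with hkq
    have h4 : (p + 1) * v < 2 * p * kq := by
      have h5 : (p + 1) * (v * E) < 2 * p * (kq * E) := by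
        rw [← h3]
        exact hk.trans_le (Nat.mul_le_mul_left _ h1)
      have h6 : (p + 1) * v * E < 2 * p * kq * E := by
        calc (p + 1) * v * E = (p + 1) * (v * E) := by ring
          _ < 2 * p * (kq * E) := h5
          _ = 2 * p * kq * E := by ring
      exact Nat.lt_of_mul_lt_mul_right h6
    have hpq : p ≤ q := hmin q hqπ
    have h7 : (q + 1) * v < 2 * q * kq := by
      by_contra hcon
      push Not at hcon
      have hp0 : 0 < p := (hπ p hp).pos
      have h8 : p * (q + 1) ≤ q * (p + 1) := by nlinarith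
      have h9 : 2 * p * (2 * q * kq) ≤ 2 * p * ((q + 1) * v) := Nat.mul_le_mul_left _ hcon
      have h10 : 2 * p * ((q + 1) * v) ≤ 2 * q * ((p + 1) * v) := by
        have := Nat.mul_le_mul_right (2 * v) h8
        nlinarith
      have h11 : 2 * q * ((p + 1) * v) < 2 * q * (2 * p * kq) := by
        apply Nat.mul_lt_mul_of_pos_left h4
        have := hqp.pos
        omega
      have : 2 * p * (2 * q * kq) < 2 * q * (2 * p * kq) := lt_of_le_of_lt (h9.trans h10) h11
      have e : 2 * p * (2 * q * kq) = 2 * q * (2 * p * kq) := by ring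
      omega
    obtain Q : Sylow q G := default
    have hQ : Nat.card (Q : Subgroup G) = v := Sylow.card_eq_multiplicity Q
    have hres := (Cfsg.Agent.S3897.result hq2 Q).mp (by rw [hQ]; exact h7)
    obtain ⟨⟨P0, K, hKn, hc⟩, _⟩ := hres
    have hP0 : Nat.card (P0 : Subgroup G) = v := Sylow.card_eq_multiplicity P0
    have hres' := (Cfsg.Agent.S3897.result hq2 P0).mp (by rw [hP0]; exact h7)
    exact ⟨K, hKn, npc_facts q P0 K hKn hc hres'.2⟩
  choose! K hK using hq
  set N : Subgroup G := ⨅ q ∈ π, K q with hN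
  have hNn : N.Normal := by
    rw [hN]
    apply Subgroup.normal_iInf_normal
    intro q
    apply Subgroup.normal_iInf_normal
    intro hqπ
    exact (hK q hqπ).1
  have hNle : ∀ q ∈ π, N ≤ K q := fun q hqπ => iInf₂_le q hqπ
  have hNmem : ∀ x : G, (∀ q ∈ π, x ∈ K q) → x ∈ N := by
    intro x hx
    rw [hN]
    simp only [Subgroup.mem_iInf]
    exact hx
  have ha : ∀ r : ℕ, r.Prime → r ∣ Nat.card ↥N → r ∉ π := by
    intro r hr hrd hrπ
    exact (hK r hrπ).2.1 (hrd.trans (Subgroup.card_dvd_of_le (hNle r hrπ)))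
  have hb : ∀ r : ℕ, r.Prime → r ∣ N.index → r ∈ π := by
    intro r hr hrd
    by_contra hrπ
    haveI : Fact r.Prime := ⟨hr⟩
    obtain R : Sylow r G := default
    have hRN : (R : Subgroup G) ≤ N := by
      intro x hx
      apply hNmem
      intro q hqπ
      haveI := (hK q hqπ).1
      obtain ⟨n, hn⟩ := (hK q hqπ).2.2.1
      have h1 : x ^ (K q).index ∈ K q := Subgroup.pow_index_mem (K q) x
      obtain ⟨j, hj⟩ := PCl.orderOf_of_mem R x hx
      have hrq : r ≠ q := fun h => hrπ (h ▸ hqπ)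
      have hcop : Nat.Coprime ((K q).index) (orderOf x) := by
        rw [hn, hj]
        apply Nat.Coprime.pow
        exact (Nat.coprime_primes (hπ q hqπ) hr).mpr (Ne.symm hrq)
      obtain ⟨m, hm⟩ := exists_pow_eq_self_of_coprime hcop
      rw [← hm]
      exact Subgroup.pow_mem _ h1 m
    have := hrd.trans (Subgroup.index_dvd_of_le hRN)
    exact R.not_dvd_index this
  have hcop : Nat.Coprime (Nat.card N) N.index := by
    apply Nat.coprime_of_dvd
    intro r hr h1 h2'
    exact ha r hr h1 (hb r hr h2')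
  haveI := hNn
  obtain ⟨H, hH⟩ := Subgroup.exists_right_complement'_of_coprime hcop
  refine ⟨⟨N, hNn, ha, hb⟩, H, ⟨?_, ?_⟩, ?_⟩
  · intro r hr hrd
    have h1 : N.index = Nat.card H := hH.symm.index_eq_card
    rw [← h1] at hrd
    exact hb r hr hrd
  · intro r hr hrπ hrd
    have h1 : H.index = Nat.card N := hH.index_eq_card
    rw [h1] at hrd
    exact ha r hr hrd hrπ
  · refine ⟨⟨fun a b => ?_⟩⟩
    apply Subtype.ext
    have h1 : (a : G) * b * (a : G)⁻¹ * (b : G)⁻¹ ∈ N := by
      apply hNmem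
      intro q hqπ
      exact (hK q hqπ).2.2.2 a b
    have h2' : (a : G) * b * (a : G)⁻¹ * (b : G)⁻¹ ∈ H :=
      Subgroup.mul_mem _ (Subgroup.mul_mem _ (Subgroup.mul_mem _ a.2 b.2)
        (Subgroup.inv_mem _ a.2)) (Subgroup.inv_mem _ b.2)
    have h3 : (a : G) * b * (a : G)⁻¹ * (b : G)⁻¹ ∈ N ⊓ H := Subgroup.mem_inf.mpr ⟨h1, h2'⟩
    rw [disjoint_iff.mp hH.disjoint, Subgroup.mem_bot] at h3
    show (a : G) * b = b * a
    calc (a : G) * b = ((a : G) * b * (a : G)⁻¹ * (b : G)⁻¹) * (b * a) := by group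
      _ = b * a := by rw [h3, one_mul]

end Cfsg.Agent.S3899
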