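import Cfsg.Statements.S3898
import Mathlib
import Cfsg.Agent.S3895
import Cfsg.Agent.S3899
import Cfsg.Agent.Lib.Helper7.PiTwo3
import Cfsg.Agent.Lib.Helper7.PiAssemble
-- import your own Cfsg.Agent.* helpers here

set_option autoImplicit false
open Cfsg

namespace Cfsg.Agent.S3898

/-- Let π be a finite set of primes containing 2 and G a finite group. Write k_π(G) for the number of conjugacy classes of G consisting of π-elements (elements all of whose order's prime divisors lie in π) and |G|_π for the π-part of the order of G. If k_π(G) > |G|_π/2, then G has a normal π-complement (a normal subgroup of order prime to π whose index is a π-number) and an abelian Hall subgroup for the set of odd primes in π. -/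
theorem result {G : Type*} [Group G] [Finite G] (π : Finset ℕ) (hπ : ∀ r ∈ π, r.Prime) (h2 : 2 ∈ π)
    (hk : π.prod (fun r => r ^ (Nat.card G).factorization r) < 2 * Nat.card {c : ConjClasses G // ∀ x ∈ c.carrier, ∀ r : ℕ, r.Prime → r ∣ orderOf x → r ∈ π}) :
    (∃ N : Subgroup G, N.Normal ∧ (∀ r : ℕ, r.Prime → r ∣ Nat.card ↥N → r ∉ π) ∧ ∀ r : ℕ, r.Prime → r ∣ N.index → r ∈ π) ∧ ∃ H : Subgroup G, Cfsg.IsPiHall ((↑π : Set ℕ) \ {2}) H ∧ IsMulCommutative ↥H := by
  classical
  have hk' : π.prod (fun r => r ^ (Nat.card G).factorization r) <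
      2 * Nat.card (Cfsg.Agent.Lib.Helper7.PiCl.Cl π G) := hk
  -- the prime 2
  have h2K : ∃ K : Subgroup G, K.Normal ∧ ¬ 2 ∣ Nat.card K ∧ (∃ n : ℕ, K.index = 2 ^ n) := by
    haveI : Fact (Nat.Prime 2) := ⟨Nat.prime_two⟩
    have h1 := Cfsg.Agent.Lib.Helper7.PiCl.card_le_mul π hπ 2 h2 G
    have h3 : π.prod (fun r => r ^ (Nat.card G).factorization r)
        = 2 ^ (Nat.card G).factorization 2 *
          Cfsg.Agent.Lib.Helper7.PiCl.part (π.erase 2) (Nat.card G) := by
      rw [← Finset.mul_prod_erase π _ h2]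
      rfl
    have hEpos : 0 < Cfsg.Agent.Lib.Helper7.PiCl.part (π.erase 2) (Nat.card G) := by
      unfold Cfsg.Agent.Lib.Helper7.PiCl.part
      apply Finset.prod_pos
      intro r hr
      exact pow_pos (hπ r (Finset.mem_of_mem_erase hr)).pos _
    set E := Cfsg.Agent.Lib.Helper7.PiCl.part (π.erase 2) (Nat.card G) with hE
    set v := 2 ^ (Nat.card G).factorization 2 with hv
    set k2 := Nat.card (Cfsg.Agent.Lib.Helper7.PCl.Cl 2 G) with hk2
    have h4 : v < 2 * k2 := by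
      have h5 : v * E < 2 * (k2 * E) := by
        rw [← h3]
        exact hk'.trans_le (Nat.mul_le_mul_left _ h1)
      have h6 : v * E < (2 * k2) * E := by
        calc v * E < 2 * (k2 * E) := h5
          _ = (2 * k2) * E := by ring
      exact Nat.lt_of_mul_lt_mul_right h6
    obtain P : Sylow 2 G := default
    have hP : Nat.card (P : Subgroup G) = v := Sylow.card_eq_multiplicity P
    have hres := (Cfsg.Agent.S3895.result P).mp (by rw [hP]; exact h4)
    obtain ⟨⟨P0, K, hKn, hc⟩, _⟩ := hres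
    exact ⟨K, hKn, Cfsg.Agent.Lib.Helper7.PiAsm.npc_facts' 2 P0 K hc⟩
  -- the odd primes
  have hodd : ∀ q ∈ π, q ≠ 2 → ∃ K : Subgroup G, K.Normal ∧ ¬ q ∣ Nat.card K ∧
      (∃ n : ℕ, K.index = q ^ n) ∧ ∀ a b : G, a * b * a⁻¹ * b⁻¹ ∈ K := by
    intro q hqπ hq2
    haveI : Fact q.Prime := ⟨hπ q hqπ⟩
    obtain ⟨Q, hQ⟩ := Cfsg.Agent.Lib.Helper7.PiTwo.exists_sylow_normalizer_le π hπ h2 hk' hqπ hq2
    have hab : IsMulCommutative ↥(Q : Subgroup G) :=
      ⟨⟨fun a b => Subtype.ext (hQ (Subgroup.le_normalizer b.2) a a.2)⟩⟩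
    exact ⟨(MonoidHom.transferSylow Q hQ).ker, inferInstance,
      Cfsg.Agent.S3899.npc_facts q Q _ inferInstance
        (MonoidHom.ker_transferSylow_isComplement' Q hQ) hab⟩
  obtain ⟨K2, hK2⟩ := h2K
  choose! Ko hKo using hodd
  let K : ℕ → Subgroup G := fun q => if q = 2 then K2 else Ko q
  have hK2' : K 2 = K2 := by simp [K]
  have hKq : ∀ q, q ≠ 2 → K q = Ko q := by
    intro q hq
    simp [K, hq]
  constructor
  · have hK : ∀ q ∈ π, (K q).Normal ∧ ¬ q ∣ Nat.card (K q) ∧ (∃ n : ℕ, (K q).index = q ^ n) := by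
      intro q hqπ
      by_cases hq : q = 2
      · subst hq
        rw [hK2']
        exact hK2
      · rw [hKq q hq]
        have := hKo q hqπ hq
        exact ⟨this.1, this.2.1, this.2.2.1⟩
    exact ⟨_, Cfsg.Agent.Lib.Helper7.PiAsm.exists_normal_compl π hπ K hK⟩
  · have hτ : ∀ r ∈ π.erase 2, r.Prime := fun r hr => hπ r (Finset.mem_of_mem_erase hr)
    have hK : ∀ q ∈ π.erase 2,
        (K q).Normal ∧ ¬ q ∣ Nat.card (K q) ∧ (∃ n : ℕ, (K q).index = q ^ n) := by
      intro q hqτ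
      obtain ⟨hq, hqπ⟩ := Finset.mem_erase.mp hqτ
      rw [hKq q hq]
      have := hKo q hqπ hq
      exact ⟨this.1, this.2.1, this.2.2.1⟩
    have hcomm : ∀ q ∈ π.erase 2, ∀ a b : G, a * b * a⁻¹ * b⁻¹ ∈ K q := by
      intro q hqτ
      obtain ⟨hq, hqπ⟩ := Finset.mem_erase.mp hqτ
      rw [hKq q hq]
      exact (hKo q hqπ hq).2.2.2
    obtain ⟨H, hH1, hH2, hH3⟩ :=
      Cfsg.Agent.Lib.Helper7.PiAsm.exists_abelian_hall (π.erase 2) hτ K hK hcomm
    refine ⟨H, ⟨?_, ?_⟩, hH3⟩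
    · intro r hr hrd
      obtain ⟨h1, h2'⟩ := Finset.mem_erase.mp (hH1 r hr hrd)
      exact ⟨Finset.mem_coe.mpr h2', fun h => h1 (Set.mem_singleton_iff.mp h)⟩
    · intro r hr hrπ
      apply hH2 r hr
      exact Finset.mem_erase.mpr ⟨fun h => hrπ.2 (Set.mem_singleton_iff.mpr h),
        Finset.mem_coe.mp hrπ.1⟩

end Cfsg.Agent.S3898
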