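import Mathlib
import Cfsg.Statements.S3904
import Cfsg.Agent.Lib.Helper7.CM3
import Cfsg.Agent.Lib.Helper7.CM5
import Cfsg.Agent.Lib.Helper7.CM6

set_option autoImplicit false
open Cfsg

namespace Cfsg.Agent.S3904

open Cfsg.Agent.Lib.Helper7.CM

theorem result {G : Type*} [Group G] [Finite G] (hna : ¬ IsMulCommutative G)
    (h : ∀ x : G, x ∉ Subgroup.center G → IsCoatom (Subgroup.centralizer ({x} : Set G))) :
    (∃ p : ℕ, p.Prime ∧ Cfsg.IsElementaryAbelian p (⊤ : Subgroup (G ⧸ Subgroup.center G))) ∨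
    (¬ IsMulCommutative (G ⧸ Subgroup.center G) ∧ (∀ H : Subgroup (G ⧸ Subgroup.center G), H ≠ ⊤ → IsMulCommutative ↥H) ∧
      ∃ p q a : ℕ, p.Prime ∧ q.Prime ∧ p ≠ q ∧ Nat.card (G ⧸ Subgroup.center G) = p ^ a * q ∧
        ∀ P : Subgroup (G ⧸ Subgroup.center G), Nat.card ↥P = p ^ a → P.Normal) := by
  have hCM : IsCM G := h
  by_cases hnorm : ∀ x : G, x ∉ Subgroup.center G → (Cen x).Normal
  · left
    obtain ⟨p, hp, hab, hexp⟩ := case_normal hCM hna hnorm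
    exact ⟨p, hp, ⟨⟨fun a b => Subtype.ext (hab a b)⟩⟩, fun a _ => hexp a⟩
  · push_neg at hnorm
    obtain ⟨x₀, hx₀, hnn⟩ := hnorm
    by_cases hex : ∃ y : G, y ∉ Subgroup.center G ∧ ¬ (Cen y).Normal ∧
        ∀ u ∈ Cen y, ∀ v ∈ Cen y, u * v = v * u
    · obtain ⟨y, hy, hyn, hyab⟩ := hex
      right
      exact case_abelian hCM hy hyn hyab
    · exfalso
      apply case_nonabelian_false hCM hx₀ hnn
      intro y hy hyn
      by_contra h0
      push_neg at h0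
      exact hex ⟨y, hy, hyn, h0⟩

end Cfsg.Agent.S3904
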