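import Mathlib
import Cfsg.Statements.S3908
import Cfsg.Agent.Lib.Lead.UniqueOrderP5
import Cfsg.Agent.Lib.Lead.CoprimeTools
import Cfsg.Agent.Lib.Lead.HallTools
import Cfsg.Agent.Lib.Lead.MaxClass6

set_option autoImplicit false
open Cfsg

namespace Cfsg.Agent.S3908

open Cfsg.Agent.Lib.Lead

section
variable {G : Type*} [Group G] [Finite G]

/-- in a `p`-group with two subgroups of order `p` there is an elementary abelian subgroup of
order `p ^ 2` -/
theorem exists_elementary_sq {Q : Type*} [Group Q] [Finite Q] {p : ℕ} [hp : Fact p.Prime]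
    (hQ : IsPGroup p Q) (h : ¬ UniqueOrderP p Q) :
    ∃ E : Subgroup Q, Nat.card E = p ^ 2 ∧ ∀ e ∈ E, e ^ p = 1 := by
  classical
  unfold UniqueOrderP at h
  push Not at h
  obtain ⟨H, K, hH, hK, hne⟩ := h
  haveI : Nontrivial Q := by
    have h1 : H ≠ ⊥ := by
      intro h0; rw [h0, Subgroup.card_bot] at hH; exact hp.out.one_lt.ne hH
    obtain ⟨⟨x, hx⟩, hx1⟩ := (Subgroup.ne_bot_iff_exists_ne_one).mp h1
    exact ⟨⟨x, 1, fun h0 => hx1 (Subtype.ext h0)⟩⟩
  have hcne : Subgroup.center Q ≠ ⊥ := (hQ.bot_lt_center).ne'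
  obtain ⟨k, hk⟩ := (IsPGroup.iff_card).mp (hQ.to_subgroup (Subgroup.center Q))
  have hk0 : k ≠ 0 := by
    intro h0; rw [h0, pow_zero] at hk; exact hcne (Subgroup.card_eq_one.mp hk)
  obtain ⟨z, hz⟩ := exists_prime_orderOf_dvd_card' (G := Subgroup.center Q) p
    (by rw [hk]; exact dvd_pow_self p hk0)
  set Z₀ : Subgroup Q := Subgroup.zpowers (z : Q) with hZ₀
  have hZcard : Nat.card Z₀ = p := by rw [Nat.card_zpowers, Subgroup.orderOf_coe, hz]
  have hZc : Z₀ ≤ Subgroup.center Q := (Subgroup.zpowers_le).mpr z.2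
  -- a subgroup of order `p` different from `Z₀`
  obtain ⟨T, hT, hTZ⟩ : ∃ T : Subgroup Q, Nat.card T = p ∧ T ≠ Z₀ := by
    by_cases hHZ : H = Z₀
    · exact ⟨K, hK, fun h0 => hne (hHZ.trans h0.symm)⟩
    · exact ⟨H, hH, hHZ⟩
  have hdisj : T ⊓ Z₀ = ⊥ := by
    by_contra hne2
    have h1 : Nat.card (T ⊓ Z₀ : Subgroup Q) ∣ p := hT ▸ Subgroup.card_dvd_of_le inf_le_left
    have h2 : Nat.card (T ⊓ Z₀ : Subgroup Q) ≠ 1 := fun h => hne2 (Subgroup.card_eq_one.mp h)
    have h3 : Nat.card (T ⊓ Z₀ : Subgroup Q) = p := by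
      rcases (Nat.dvd_prime hp.out).mp h1 with h | h
      · exact absurd h h2
      · exact h
    have h4 : T ⊓ Z₀ = T := Subgroup.eq_of_le_of_card_ge inf_le_left (by rw [h3, hT])
    have h5 : T ⊓ Z₀ = Z₀ := Subgroup.eq_of_le_of_card_ge inf_le_right (by rw [h3, hZcard])
    exact hTZ (h4.symm.trans h5)
  have hZn : Z₀.Normal := by
    constructor
    intro a ha g
    have := Subgroup.mem_center_iff.mp (hZc ha) g
    rw [this, mul_assoc, mul_inv_cancel, mul_one]
    exact ha
  have hTnorm : T ≤ Subgroup.normalizer (Z₀ : Set Q) := by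
    rw [Subgroup.normalizer_eq_top]; exact le_top
  refine ⟨T ⊔ Z₀, ?_, ?_⟩
  · rw [card_sup_of_disjoint T Z₀ hTnorm hdisj, hT, hZcard, pow_two]
  · intro e he
    rw [Subgroup.mem_sup_of_normal_right] at he
    obtain ⟨a, ha, b, hb, rfl⟩ := he
    have hab : Commute a b := (Subgroup.mem_center_iff.mp (hZc hb) a)
    rw [hab.mul_pow]
    have h1 : a ^ p = 1 := by
      have := pow_card_eq_one' (G := T) (x := ⟨a, ha⟩)
      rw [hT] at this
      exact congrArg Subtype.val this
    have h2 : b ^ p = 1 := by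
      have := pow_card_eq_one' (G := Z₀) (x := ⟨b, hb⟩)
      rw [hZcard] at this
      exact congrArg Subtype.val this
    rw [h1, h2, one_mul]

/-- the key dichotomy -/
theorem key (hB : ∀ A B : Subgroup G, IsMulCommutative ↥A → IsMulCommutative ↥B →
    Nat.card ↥A = Nat.card ↥B → ∃ g : G, B = A.map (MulAut.conj g).toMonoidHom)
    (p : ℕ) [hp : Fact p.Prime] (P : Sylow p G) :
    UniqueOrderP p (P : Subgroup G) ∨ ∀ x ∈ (P : Subgroup G), x ^ p = 1 := by
  classical
  by_cases hu : UniqueOrderP p (P : Subgroup G)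
  · exact Or.inl hu
  right
  obtain ⟨E, hEcard, hEexp⟩ := exists_elementary_sq P.isPGroup' hu
  intro x hxP
  by_contra hxp
  -- an element of order `p ^ 2`
  obtain ⟨j, hj⟩ : ∃ j, orderOf x = p ^ j := by
    obtain ⟨j, hj⟩ := IsPGroup.iff_orderOf.mp P.isPGroup' (⟨x, hxP⟩ : (P : Subgroup G))
    exact ⟨j, (Subgroup.orderOf_coe (⟨x, hxP⟩ : (P : Subgroup G))).trans hj⟩
  have hj2 : 2 ≤ j := by
    by_contra hlt
    apply hxp
    have hdvd : orderOf x ∣ p := by
      rw [hj]
      have : j ≤ 1 := by omega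
      calc p ^ j ∣ p ^ 1 := pow_dvd_pow p this
        _ = p := pow_one p
    exact orderOf_dvd_iff_pow_eq_one.mp hdvd
  set y := x ^ (p ^ (j - 2)) with hy
  have hyord : orderOf y = p ^ 2 := by
    rw [hy, orderOf_pow_of_dvd (pow_ne_zero _ hp.out.ne_zero)
      (by rw [hj]; exact pow_dvd_pow p (by omega)), hj, Nat.pow_div (by omega) hp.out.pos]
    congr 1
    omega
  set C : Subgroup G := Subgroup.zpowers y with hC
  set E' : Subgroup G := E.map (P : Subgroup G).subtype with hE'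
  have hE'card : Nat.card E' = p ^ 2 := by rw [hE', card_map_subtype, hEcard]
  have hCcard : Nat.card C = p ^ 2 := by rw [hC, Nat.card_zpowers, hyord]
  haveI hCc : IsMulCommutative C := inferInstance
  haveI hE'c : IsMulCommutative E' := IsPGroup.isMulCommutative_of_card_eq_prime_sq hE'card
  obtain ⟨g, hg⟩ := hB C E' hCc hE'c (hCcard.trans hE'card.symm)
  have h1 : g * y * g⁻¹ ∈ E' := by
    rw [hg]
    exact ⟨y, Subgroup.mem_zpowers y, rfl⟩
  obtain ⟨e, heE, he⟩ := h1
  have h2 : (g * y * g⁻¹) ^ p = 1 := by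
    rw [← he]
    have := hEexp e heE
    rw [← map_pow, this, map_one]
  rw [conj_pow] at h2
  have h3 : y ^ p = 1 := by
    have : y ^ p = g⁻¹ * (g * y ^ p * g⁻¹) * g := by group
    rw [this, h2]; group
  have h4 := orderOf_dvd_of_pow_eq_one h3
  rw [hyord] at h4
  have := Nat.le_of_dvd hp.out.pos h4
  have hp1 := hp.out.one_lt
  nlinarith

end

/-- Let G be a finite group in which abelian subgroups of equal order are conjugate. Then the Sylow 2-subgroups are cyclic, elementary abelian or generalized quaternion, and for odd p the Sylow p-subgroups are cyclic or of exponent p. -/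
theorem result {G : Type*} [Group G] [Finite G] (hB : ∀ A B : Subgroup G, IsMulCommutative ↥A → IsMulCommutative ↥B → Nat.card ↥A = Nat.card ↥B → ∃ g : G, B = A.map (MulAut.conj g).toMonoidHom) :
    (∀ P : Sylow 2 G, IsCyclic ↥(P : Subgroup G) ∨ Cfsg.IsElementaryAbelian 2 (P : Subgroup G) ∨ ∃ k : ℕ, Nonempty (↥(P : Subgroup G) ≃* QuaternionGroup (2 ^ k))) ∧
    ∀ (p : ℕ) [Fact p.Prime], p ≠ 2 → ∀ P : Sylow p G, IsCyclic ↥(P : Subgroup G) ∨ ∀ x ∈ (P : Subgroup G), x ^ p = 1 := by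
  constructor
  · intro P
    haveI : Fact (Nat.Prime 2) := ⟨Nat.prime_two⟩
    rcases key hB 2 P with hu | hexp
    · rcases hu.main P.isPGroup' with hc | ⟨-, k, hk⟩
      · exact Or.inl hc
      · exact Or.inr (Or.inr ⟨k, hk⟩)
    · right; left
      refine ⟨?_, hexp⟩
      exact isMulCommutative_of_forall_sq (fun g => Subtype.ext (hexp g g.2))
  · intro p _ hp2 P
    rcases key hB p P with hu | hexp
    · rcases hu.main P.isPGroup' with hc | ⟨h2, -⟩
      · exact Or.inl hc
      · exact absurd h2 hp2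
    · exact Or.inr hexp

end Cfsg.Agent.S3908
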