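import Cfsg.Statements.S3909
import Mathlib

set_option autoImplicit false
open Cfsg

namespace Cfsg.Agent.S3909

/-- Let G be a finite group in which any two abelian subgroups of the same order are conjugate. Let M be a normal subgroup of G. If M contains an element of the same order as a ∈ G, then a ∈ M; and if M is elementary abelian of order p^t with p prime and t ≥ 2, then M is the unique Sylow p-subgroup of G. -/
theorem result {G : Type*} [Group G] [Finite G] (hB : ∀ A B : Subgroup G, IsMulCommutative ↥A → IsMulCommutative ↥B → Nat.card ↥A = Nat.card ↥B → ∃ g : G, B = A.map (MulAut.conj g).toMonoidHom) (M : Subgroup G) [M.Normal] :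
    (∀ a : G, (∃ m ∈ M, orderOf m = orderOf a) → a ∈ M) ∧
    ∀ (p t : ℕ) [Fact p.Prime], 2 ≤ t → Nat.card ↥M = p ^ t → Cfsg.IsElementaryAbelian p M → ∀ P : Sylow p G, (P : Subgroup G) = M := by
  have hMn : M.Normal := inferInstance
  have part1 : ∀ a : G, (∃ m ∈ M, orderOf m = orderOf a) → a ∈ M := by
    rintro a ⟨m, hm, hord⟩
    obtain ⟨g, hg⟩ := hB (Subgroup.zpowers m) (Subgroup.zpowers a) inferInstance inferInstance
      (by rw [Nat.card_zpowers, Nat.card_zpowers, hord])
    have ha : a ∈ Subgroup.zpowers a := Subgroup.mem_zpowers a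
    rw [hg] at ha
    obtain ⟨y, hy, rfl⟩ := Subgroup.mem_map.mp ha
    have hyM : y ∈ M := (Subgroup.zpowers_le.mpr hm) hy
    exact hMn.conj_mem y hyM g
  refine ⟨part1, ?_⟩
  intro p t hp ht hcard hEA P
  have hpp : p.Prime := hp.out
  obtain ⟨hMcomm, hMexp⟩ := hEA
  -- M is a p-group
  have hMp : IsPGroup p M := IsPGroup.of_card hcard
  -- M has an element of order p
  have hMnontriv : ∃ m ∈ M, orderOf m = p := by
    have h1 : 1 < Nat.card M := by
      rw [hcard]; exact Nat.one_lt_pow (by omega) hpp.one_lt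
    haveI : Nontrivial M := Finite.one_lt_card_iff_nontrivial.mp h1
    obtain ⟨⟨m, hm⟩, hne⟩ := exists_ne (1 : M)
    refine ⟨m, hm, ?_⟩
    have hm1 : m ≠ 1 := fun h => hne (Subtype.ext h)
    exact orderOf_eq_prime (hMexp m hm) hm1
  -- a subgroup of M of order p^2
  obtain ⟨B', hB'card⟩ : ∃ B' : Subgroup M, Nat.card B' = p ^ 2 := by
    apply Sylow.exists_subgroup_card_pow_prime p
    rw [hcard]; exact pow_dvd_pow p ht
  set B : Subgroup G := B'.map M.subtype with hBdef
  have hBle : B ≤ M := by
    rintro x ⟨y, -, rfl⟩; exact y.2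
  have hBcard : Nat.card B = p ^ 2 := by
    rw [hBdef, Subgroup.card_map_of_injective M.subtype_injective, hB'card]
  have hBcomm : IsMulCommutative B := by
    refine ⟨⟨fun x y => ?_⟩⟩
    have := hMcomm.is_comm.comm ⟨x.1, hBle x.2⟩ ⟨y.1, hBle y.2⟩
    have h2 : x.1 * y.1 = y.1 * x.1 := congrArg Subtype.val this
    exact Subtype.ext h2
  -- no element of order p^2
  have hno : ∀ y : G, orderOf y ≠ p ^ 2 := by
    intro y hy
    obtain ⟨g, hg⟩ := hB (Subgroup.zpowers y) B inferInstance hBcomm
      (by rw [Nat.card_zpowers, hy, hBcard])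
    have hyB : MulAut.conj g y ∈ B := by
      rw [hg]; exact Subgroup.mem_map.mpr ⟨y, Subgroup.mem_zpowers y, rfl⟩
    have h1 : (MulAut.conj g y) ^ p = 1 := hMexp _ (hBle hyB)
    rw [← map_pow] at h1
    have h2 : y ^ p = 1 := by
      have := (MulAut.conj g).injective (h1.trans (map_one _).symm)
      exact this
    have h3 : p ^ 2 ∣ p := hy ▸ orderOf_dvd_of_pow_eq_one h2
    have h4 : p ^ 2 ≤ p := Nat.le_of_dvd hpp.pos h3
    have : p * p ≤ p * 1 := by rw [← pow_two, mul_one]; exact h4
    have := Nat.le_of_mul_le_mul_left this hpp.pos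
    have := hpp.one_lt
    omega
  -- every element of P lies in M
  have hPle : (P : Subgroup G) ≤ M := by
    intro x hx
    obtain ⟨k, hk⟩ := (IsPGroup.iff_orderOf.mp P.isPGroup') ⟨x, hx⟩
    rw [Subgroup.orderOf_mk] at hk
    rcases k with _ | _ | k
    · simp at hk; rw [hk]; exact M.one_mem
    · obtain ⟨m, hm, hmo⟩ := hMnontriv
      exact part1 x ⟨m, hm, by rw [hmo, hk]; simp⟩
    · exfalso
      apply hno (x ^ (p ^ k))
      rw [orderOf_pow' _ (pow_ne_zero k hpp.ne_zero), hk, Nat.gcd_eq_right (pow_dvd_pow p (by omega))]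
      rw [Nat.pow_div (by omega) hpp.pos]
      congr 1; omega
  -- conclude
  have := P.is_maximal' hMp hPle
  exact this.symm
end Cfsg.Agent.S3909
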