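import Mathlib
import Cfsg.Statements.S3910
import Cfsg.Agent.Lib.Helper7.CyclicCrit
import Cfsg.Agent.Lib.Lead.Nilpotent

set_option autoImplicit false
open Cfsg

namespace Cfsg.Agent.S3910

open Cfsg.Agent.Lib.Lead Cfsg.Agent.Lib.Helper7
open scoped Pointwise

theorem map_conj_eq_of_normal {Q : Type*} [Group Q] (A : Subgroup Q) [hA : A.Normal] (g : Q) :
    A.map (MulAut.conj g).toMonoidHom = A := by
  have : g ∈ Subgroup.normalizer (A : Set Q) := by
    rw [Subgroup.normalizer_eq_top_iff.mpr hA]; trivial
  exact Subgroup.mem_normalizer_iff_map_conj_eq.mp this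

/-- The `p`-group case. -/
theorem pgroup_cyclic {Q : Type*} [Group Q] [Finite Q] {p : ℕ} [Fact p.Prime] (hQ : IsPGroup p Q)
    (hH : ∀ A B : Subgroup Q, IsMulCommutative ↥A → IsMulCommutative ↥B →
      Nat.card ↥A = Nat.card ↥B → ∃ g : Q, B = A.map (MulAut.conj g).toMonoidHom) :
    IsCyclic Q := by
  classical
  have hp : p.Prime := Fact.out
  haveI : Group.IsNilpotent Q := hQ.isNilpotent
  -- unique subgroup of order p
  have huniq : ∀ H K : Subgroup Q, Nat.card H = p → Nat.card K = p → H = K := by
    intro H K hHc hKc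
    haveI : Nontrivial Q := by
      have : 1 < Nat.card Q := lt_of_lt_of_le (hHc ▸ hp.one_lt)
        (Nat.le_of_dvd Nat.card_pos (Subgroup.card_subgroup_dvd_card H))
      exact Finite.one_lt_card_iff_nontrivial.mp this
    haveI := hQ.center_nontrivial
    have hdvd : p ∣ Nat.card ↥(Subgroup.center Q) := by
      rcases (hQ.to_subgroup (Subgroup.center Q)).card_eq_or_dvd with h | h
      · exact absurd h (Finite.one_lt_card_iff_nontrivial.mpr inferInstance).ne'
      · exact h
    obtain ⟨z, hz⟩ := exists_prime_orderOf_dvd_card' p hdvd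
    have hz' : orderOf (z : Q) = p := by rw [Subgroup.orderOf_coe]; exact hz
    set Z₀ := Subgroup.zpowers (z : Q) with hZ₀
    have hZ₀card : Nat.card ↥Z₀ = p := by rw [hZ₀, Nat.card_zpowers, hz']
    have hZ₀cen : Z₀ ≤ Subgroup.center Q := by
      rw [hZ₀, Subgroup.zpowers_le]; exact z.2
    haveI : Z₀.Normal := by
      constructor
      intro n hn g
      have := Subgroup.mem_center_iff.mp (hZ₀cen hn) g
      have e : g * n * g⁻¹ = n := by rw [this]; group
      rw [e]; exact hn
    have hZ₀comm : IsMulCommutative ↥Z₀ := inferInstance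
    have aux : ∀ H : Subgroup Q, Nat.card ↥H = p → H = Z₀ := by
      intro H hHc
      haveI : Fact (Nat.card ↥H).Prime := ⟨hHc ▸ hp⟩
      haveI : IsCyclic ↥H := isCyclic_of_prime_card rfl
      have hHcomm : IsMulCommutative ↥H := inferInstance
      obtain ⟨g, hg⟩ := hH Z₀ H hZ₀comm hHcomm (hZ₀card.trans hHc.symm)
      rw [hg, map_conj_eq_of_normal]
    rw [aux H hHc, aux K hKc]
  -- a maximal normal abelian subgroup
  obtain ⟨A, hAn, hAc, hmax⟩ := exists_maximal_normal_abelian Q
  haveI := hAn
  haveI := hAc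
  have hAcyc : IsCyclic ↥A := by
    apply isCyclic_of_comm_of_unique (p := p) (fun a b => hAc.is_comm.comm a b) (hQ.to_subgroup A)
    intro H K hHc hKc
    have h1 := huniq (H.map A.subtype) (K.map A.subtype)
      (by rw [Subgroup.card_map_of_injective A.subtype_injective, hHc])
      (by rw [Subgroup.card_map_of_injective A.subtype_injective, hKc])
    exact Subgroup.map_injective A.subtype_injective h1
  have hCA : Subgroup.centralizer (A : Set Q) = A := centralizer_eq_of_max_abelian_normal A hmax
  obtain ⟨β, hβ⟩ := IsPGroup.iff_card.mp (hQ.to_subgroup A)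
  have hall : ∀ w : Q, w ∈ A := by
    intro w
    obtain ⟨α, hα⟩ : ∃ α, orderOf w = p ^ α := by
      obtain ⟨k, hk⟩ := hQ w
      obtain ⟨j, _, hj⟩ := (Nat.dvd_prime_pow hp).mp (orderOf_dvd_of_pow_eq_one hk)
      exact ⟨j, hj⟩
    have hwcomm : IsMulCommutative ↥(Subgroup.zpowers w) := inferInstance
    rcases le_or_gt α β with hαβ | hαβ
    · -- a subgroup of A of order p^α
      have hdvd : p ^ α ∣ Nat.card ↥A := by rw [hβ]; exact pow_dvd_pow p hαβ
      obtain ⟨A', hA'⟩ := Sylow.exists_subgroup_card_pow_prime p hdvd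
      set A'' := A'.map A.subtype with hA''
      have hA''card : Nat.card ↥A'' = p ^ α := by
        rw [hA'', Subgroup.card_map_of_injective A.subtype_injective, hA']
      have hA''A : A'' ≤ A := by
        rintro _ ⟨y, _, rfl⟩
        exact y.2
      have hA''comm : IsMulCommutative ↥A'' := by
        refine ⟨⟨?_⟩⟩
        rintro ⟨a, ha⟩ ⟨b, hb⟩
        apply Subtype.ext
        have h1 := hAc.is_comm.comm ⟨a, hA''A ha⟩ ⟨b, hA''A hb⟩
        have h2 : a * b = b * a := congrArg Subtype.val h1
        exact h2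
      have hmem : ∀ y : Q, y ∈ A'' ↔ y ∈ A ∧ y ^ p ^ α = 1 := by
        intro y
        constructor
        · rintro ⟨a, ha, rfl⟩
          refine ⟨a.2, ?_⟩
          have := (mem_subgroup_iff_pow_card A' a).mp ha
          rw [hA'] at this
          have := congrArg Subtype.val this
          simpa using this
        · rintro ⟨hyA, hy⟩
          refine ⟨⟨y, hyA⟩, ?_, rfl⟩
          show (⟨y, hyA⟩ : ↥A) ∈ A'
          rw [mem_subgroup_iff_pow_card, hA']
          exact Subtype.ext (by simpa using hy)
      have hconj : ∀ g : Q, A''.map (MulAut.conj g).toMonoidHom = A'' := by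
        intro g
        refine Subgroup.eq_of_le_of_card_ge ?_
          (le_of_eq (Subgroup.card_map_of_injective (MulAut.conj g).injective).symm)
        rintro _ ⟨y, hy, rfl⟩
        obtain ⟨hyA, hyp⟩ := (hmem y).mp hy
        rw [hmem]
        refine ⟨hAn.conj_mem y hyA g, ?_⟩
        show (g * y * g⁻¹) ^ p ^ α = 1
        rw [conj_pow, hyp]; group
      obtain ⟨g, hg⟩ := hH A'' (Subgroup.zpowers w) hA''comm hwcomm
        (by rw [hA''card, Nat.card_zpowers, hα])
      rw [hconj] at hg
      exact hA''A (hg ▸ Subgroup.mem_zpowers w)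
    · -- A ≤ zpowers w
      set B := Subgroup.zpowers (w ^ p ^ (α - β)) with hB
      have hBcard : Nat.card ↥B = p ^ β := by
        rw [hB, Nat.card_zpowers, orderOf_pow_of_dvd (pow_ne_zero _ hp.ne_zero)
          (by rw [hα]; exact pow_dvd_pow p (Nat.sub_le α β)), hα,
          Nat.pow_div (Nat.sub_le α β) hp.pos]
        congr 1
        omega
      have hBcomm : IsMulCommutative ↥B := inferInstance
      obtain ⟨g, hg⟩ := hH A B hAc hBcomm (by rw [hβ, hBcard])
      rw [map_conj_eq_of_normal] at hg
      have hAw : A ≤ Subgroup.zpowers w := by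
        rw [← hg, hB, Subgroup.zpowers_le]
        exact Subgroup.pow_mem _ (Subgroup.mem_zpowers w) _
      rw [← hCA, Subgroup.mem_centralizer_iff]
      intro a ha
      obtain ⟨i, hi⟩ := Subgroup.mem_zpowers_iff.mp (hAw ha)
      rw [← hi]
      exact ((Commute.refl w).zpow_left i).eq
  have hAtop : A = ⊤ := by
    rw [eq_top_iff]; intro w _; exact hall w
  subst hAtop
  exact isCyclic_of_surjective (Subgroup.topEquiv : (⊤ : Subgroup Q) ≃* Q)
    (Subgroup.topEquiv : (⊤ : Subgroup Q) ≃* Q).surjective

/-- A finite nilpotent group in which any two abelian subgroups of the same order are conjugate is cyclic. -/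
theorem result {G : Type*} [Group G] [Finite G] (hB : ∀ A B : Subgroup G, IsMulCommutative ↥A → IsMulCommutative ↥B → Nat.card ↥A = Nat.card ↥B → ∃ g : G, B = A.map (MulAut.conj g).toMonoidHom) (hnil : Group.IsNilpotent G) : IsCyclic G := by
  classical
  haveI : IsZGroup G := by
    refine ⟨?_⟩
    intro p hp P
    haveI : Fact p.Prime := ⟨hp⟩
    haveI hPn : (P : Subgroup G).Normal := inferInstance
    -- P ⊔ C_G(P) = ⊤
    set C := Subgroup.centralizer ((P : Subgroup G) : Set G) with hC
    have htop : (P : Subgroup G) ⊔ C = ⊤ := by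
      rw [← Subgroup.index_eq_one]
      by_contra hne
      obtain ⟨r, hr, hrd⟩ := Nat.exists_prime_and_dvd hne
      haveI : Fact r.Prime := ⟨hr⟩
      have hex : ∃ R : Sylow r G, (R : Subgroup G) ≤ (P : Subgroup G) ⊔ C := by
        by_cases hrp : r = p
        · subst hrp
          exact ⟨P, le_sup_left⟩
        · obtain ⟨R⟩ : Nonempty (Sylow r G) := inferInstance
          refine ⟨R, ?_⟩
          haveI hRn : (R : Subgroup G).Normal := inferInstance
          have hcop : (Nat.card (R : Subgroup G)).Coprime (Nat.card (P : Subgroup G)) := by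
            obtain ⟨a, ha⟩ := IsPGroup.iff_card.mp R.2
            obtain ⟨b, hb⟩ := IsPGroup.iff_card.mp P.2
            rw [ha, hb]
            exact Nat.Coprime.pow _ _ ((Nat.coprime_primes hr hp).mpr hrp)
          have hbot : (R : Subgroup G) ⊓ (P : Subgroup G) = ⊥ :=
            (Subgroup.disjoint_of_coprime_natCard hcop).eq_bot
          have hcomm : ⁅(R : Subgroup G), (P : Subgroup G)⁆ = ⊥ := by
            rw [eq_bot_iff, ← hbot]
            exact Subgroup.commutator_le_inf _ _
          exact (Subgroup.commutator_eq_bot_iff_le_centralizer.mp hcomm).trans le_sup_right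
      obtain ⟨R, hRle⟩ := hex
      exact R.not_dvd_index (hrd.trans (Subgroup.index_dvd_of_le hRle))
    apply pgroup_cyclic P.2
    intro A B hA hB' hcard
    have hA' : IsMulCommutative ↥(A.map (P : Subgroup G).subtype) := inferInstance
    have hB'' : IsMulCommutative ↥(B.map (P : Subgroup G).subtype) := inferInstance
    obtain ⟨g, hg⟩ := hB _ _ hA' hB''
      (by rw [Subgroup.card_map_of_injective (Subgroup.subtype_injective _),
        Subgroup.card_map_of_injective (Subgroup.subtype_injective _), hcard])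
    have hgmem : g ∈ (P : Subgroup G) ⊔ C := by rw [htop]; trivial
    rw [Subgroup.mem_sup_of_normal_left] at hgmem
    obtain ⟨u, hu, c, hc, rfl⟩ := hgmem
    refine ⟨⟨u, hu⟩, ?_⟩
    ext ⟨b, hbP⟩
    constructor
    · intro hb
      have h1 : b ∈ B.map (P : Subgroup G).subtype := ⟨⟨b, hbP⟩, hb, rfl⟩
      rw [hg] at h1
      obtain ⟨y, ⟨a, ha, rfl⟩, hy⟩ := h1
      refine ⟨a, ha, ?_⟩
      apply Subtype.ext
      show u * (a : G) * u⁻¹ = b
      rw [← hy]
      show u * (a : G) * u⁻¹ = (u * c) * (a : G) * (u * c)⁻¹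
      have hca : c * (a : G) = (a : G) * c := (Subgroup.mem_centralizer_iff.mp hc (a : G) a.2).symm
      calc u * (a : G) * u⁻¹ = u * ((a : G) * c) * c⁻¹ * u⁻¹ := by group
        _ = u * (c * (a : G)) * c⁻¹ * u⁻¹ := by rw [hca]
        _ = (u * c) * (a : G) * (u * c)⁻¹ := by group
    · rintro ⟨a, ha, hab⟩
      have hab' : u * (a : G) * u⁻¹ = b := congrArg Subtype.val hab
      have h1 : b ∈ B.map (P : Subgroup G).subtype := by
        rw [hg]
        refine ⟨(a : G), ⟨a, ha, rfl⟩, ?_⟩
        show (u * c) * (a : G) * (u * c)⁻¹ = b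
        have hca : c * (a : G) = (a : G) * c := (Subgroup.mem_centralizer_iff.mp hc (a : G) a.2).symm
        rw [← hab']
        calc (u * c) * (a : G) * (u * c)⁻¹ = u * (c * (a : G)) * c⁻¹ * u⁻¹ := by group
          _ = u * ((a : G) * c) * c⁻¹ * u⁻¹ := by rw [hca]
          _ = u * (a : G) * u⁻¹ := by group
      obtain ⟨b', hb', hbb⟩ := h1
      have : b' = ⟨b, hbP⟩ := Subtype.ext hbb
      rw [← this]; exact hb'
  infer_instance

end Cfsg.Agent.S3910
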