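import Mathlib
import Cfsg.Statements.S3919
import Cfsg.Agent.Lib.Lead.MaxClass9
import Cfsg.Agent.Lib.Lead.MaxClass7
import Cfsg.Agent.Lib.Lead.UniqueOrderP5
import Cfsg.Agent.Lib.Lead.CoprimeTools

set_option autoImplicit false
open Cfsg

namespace Cfsg.Agent.S3919

open Cfsg.Agent.Lib.Lead

universe u

section
variable {G : Type u} [Group G] [Finite G]

/-- a cyclic subgroup has at most one involution -/
theorem involution_unique_of_isCyclic (C : Subgroup G) [IsCyclic C] {u w : G} (hu : u ∈ C)
    (hw : w ∈ C) (hu2 : orderOf u = 2) (hw2 : orderOf w = 2) : u = w := by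
  classical
  haveI : Fintype C := Fintype.ofFinite C
  have hu' : orderOf (⟨u, hu⟩ : C) = 2 := by rw [← Subgroup.orderOf_coe]; exact hu2
  have hw' : orderOf (⟨w, hw⟩ : C) = 2 := by rw [← Subgroup.orderOf_coe]; exact hw2
  have hdvd : 2 ∣ Fintype.card C := by
    rw [← hu', ← Nat.card_eq_fintype_card]; exact orderOf_dvd_natCard _
  have h1 := IsCyclic.card_orderOf_eq_totient (α := C) hdvd
  rw [Nat.totient_two] at h1
  have h2 := Finset.card_le_one.mp h1.le ⟨u, hu⟩ (by simp [hu']) ⟨w, hw⟩ (by simp [hw'])
  exact congrArg Subtype.val h2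

/-- a nontrivial `2`-subgroup contains an involution -/
theorem exists_involution_of_ne_bot (K : Subgroup G) (hK : IsPGroup 2 K) (hne : K ≠ ⊥) :
    ∃ u ∈ K, orderOf u = 2 := by
  haveI : Fact (Nat.Prime 2) := ⟨Nat.prime_two⟩
  obtain ⟨k, hk⟩ := (IsPGroup.iff_card).mp hK
  have hk0 : k ≠ 0 := by
    intro h0
    rw [h0, pow_zero] at hk
    exact hne (Subgroup.card_eq_one.mp hk)
  obtain ⟨e, he⟩ := exists_prime_orderOf_dvd_card' (G := K) 2 (by rw [hk]; exact dvd_pow_self 2 hk0)
  exact ⟨e, e.2, by rw [Subgroup.orderOf_coe]; exact he⟩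

/-- the direction from maximal class -/
theorem centralizer_le_of_maxClass (hidx : (commutator G).index = 4) (C : Subgroup G)
    (hCcyc : IsCyclic C) (hCidx : C.index = 2) (hG2 : IsPGroup 2 G) (H : Subgroup G)
    (hH : ¬ IsCyclic H) : Subgroup.centralizer (H : Set G) ≤ H := by
  classical
  haveI : Fact (Nat.Prime 2) := ⟨Nat.prime_two⟩
  haveI := hCcyc
  have hHC : ¬ H ≤ C := fun h => hH (Subgroup.isCyclic_of_le h)
  obtain ⟨x, hxH, hxC⟩ := SetLike.not_le_iff_exists.mp hHC
  have hZ2 := card_inf_centralizer_of_index_commutator hidx C hCcyc hCidx x hxC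
  set Z₂ : Subgroup G := C ⊓ Subgroup.centralizer {x} with hZ₂
  -- `H ⊓ C` is nontrivial
  have hHCne : H ⊓ C ≠ ⊥ := by
    intro hbot
    apply hH
    have h1 : C.relIndex H ≤ 2 := by
      have := Subgroup.relIndex_le_of_le_right (H := C) (le_top : H ≤ ⊤)
        (by rw [Subgroup.relIndex_top_right, hCidx]; norm_num)
      rw [Subgroup.relIndex_top_right, hCidx] at this
      exact this
    have h2 : Nat.card H = Nat.card (H ⊓ C : Subgroup G) * C.relIndex H := by
      have := ((H ⊓ C).subgroupOf H).card_mul_index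
      rw [card_subgroupOf_of_le inf_le_left] at this
      rw [← this]
      congr 1
      exact Subgroup.inf_relIndex_left H C
    rw [hbot, Subgroup.card_bot, one_mul] at h2
    have h3 : Nat.card H ≤ 2 := h2 ▸ h1
    have h4 : 0 < Nat.card H := Nat.card_pos
    rcases (by omega : Nat.card H = 1 ∨ Nat.card H = 2) with h5 | h5
    · haveI : Subsingleton H := (Nat.card_eq_one_iff_unique.mp h5).1
      infer_instance
    · exact isCyclic_of_prime_card h5
  obtain ⟨u, hu, hu2⟩ := exists_involution_of_ne_bot (H ⊓ C) (hG2.to_subgroup _) hHCne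
  have hZne : Z₂ ≠ ⊥ := by
    intro h
    rw [h, Subgroup.card_bot] at hZ2
    norm_num at hZ2
  obtain ⟨w, hw, hw2⟩ := exists_involution_of_ne_bot Z₂ (hG2.to_subgroup _) hZne
  have huw : u = w := involution_unique_of_isCyclic C hu.2 hw.1 hu2 hw2
  have hZH : Z₂ ≤ H := by
    have h1 : Subgroup.zpowers w ≤ Z₂ := (Subgroup.zpowers_le).mpr hw
    have h2 : Subgroup.zpowers w = Z₂ := by
      apply Subgroup.eq_of_le_of_card_ge h1
      rw [Nat.card_zpowers, hw2, hZ2]
    rw [← h2, Subgroup.zpowers_le, ← huw]
    exact hu.1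
  intro g hg
  have hgx : x * g = g * x := Subgroup.mem_centralizer_iff.mp hg x hxH
  by_cases hgC : g ∈ C
  · apply hZH
    refine ⟨hgC, ?_⟩
    show g ∈ Subgroup.centralizer ({x} : Set G)
    rw [Subgroup.mem_centralizer_singleton_iff]
    exact hgx.symm
  · have h1 : g * x⁻¹ ∈ C := by
      rw [Subgroup.mul_mem_iff_of_index_two hCidx]
      constructor
      · intro h; exact absurd h hgC
      · intro h; exact absurd (C.inv_mem_iff.mp h) hxC
    have h2 : g * x⁻¹ ∈ Z₂ := by
      refine ⟨h1, ?_⟩
      show g * x⁻¹ ∈ Subgroup.centralizer ({x} : Set G)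
      rw [Subgroup.mem_centralizer_singleton_iff]
      calc g * x⁻¹ * x = g := by group
        _ = x * g * x⁻¹ := by rw [hgx]; group
        _ = x * (g * x⁻¹) := by group
    have h3 : g = g * x⁻¹ * x := by group
    rw [h3]
    exact H.mul_mem (hZH h2) hxH

/-- a subgroup of order two is generated by an involution -/
theorem exists_generator_of_card_two (H : Subgroup G) (hH : Nat.card H = 2) :
    ∃ t ∈ H, orderOf t = 2 ∧ H = Subgroup.zpowers t := by
  haveI : Fact (Nat.Prime 2) := ⟨Nat.prime_two⟩
  have hne : H ≠ ⊥ := by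
    intro h; rw [h, Subgroup.card_bot] at hH; norm_num at hH
  have hP : IsPGroup 2 H := IsPGroup.of_card (n := 1) (by rw [hH, pow_one])
  obtain ⟨t, ht, ht2⟩ := exists_involution_of_ne_bot H hP hne
  refine ⟨t, ht, ht2, ?_⟩
  symm
  apply Subgroup.eq_of_le_of_card_ge ((Subgroup.zpowers_le).mpr ht)
  rw [Nat.card_zpowers, ht2, hH]

/-- the direction towards maximal class -/
theorem maxClass_of_hyp (n : ℕ) (hG : Nat.card G = 2 ^ n) (hna : ¬ IsMulCommutative G)
    (hyp : ∀ H : Subgroup G, ¬ IsCyclic H → Subgroup.centralizer (H : Set G) ≤ H) :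
    Group.nilpotencyClass G = n - 1 := by
  classical
  haveI : Fact (Nat.Prime 2) := ⟨Nat.prime_two⟩
  have hG2 : IsPGroup 2 G := IsPGroup.of_card hG
  haveI : Group.IsNilpotent G := hG2.isNilpotent
  by_cases hV : ∃ V : Subgroup G, Nat.card V = 4 ∧ ¬ IsCyclic V
  · obtain ⟨V, hV4, hVnc⟩ := hV
    have hV4' : Nat.card V = 2 ^ 2 := by rw [hV4]; norm_num
    haveI : IsMulCommutative V := IsPGroup.isMulCommutative_of_card_eq_prime_sq hV4'
    have hCV : Subgroup.centralizer (V : Set G) = V :=
      le_antisymm (hyp V hVnc) (Subgroup.le_centralizer V)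
    exact nilpotencyClass_of_self_centralizing_sq n G hG V hV4' hCV
  · push Not at hV
    haveI : Nontrivial G := by
      by_contra hnt
      rw [not_nontrivial_iff_subsingleton] at hnt
      exact hna ⟨⟨fun a b => Subsingleton.elim _ _⟩⟩
    -- the central involution
    have hcne : Subgroup.center G ≠ ⊥ := (hG2.bot_lt_center).ne'
    obtain ⟨z, hzc, hz2⟩ := exists_involution_of_ne_bot (Subgroup.center G) (hG2.to_subgroup _) hcne
    set Z : Subgroup G := Subgroup.zpowers z with hZdef
    have hZcard : Nat.card Z = 2 := by rw [Nat.card_zpowers, hz2]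
    have hZc : Z ≤ Subgroup.center G := (Subgroup.zpowers_le).mpr hzc
    have hZall : ∀ H : Subgroup G, Nat.card H = 2 → H = Z := by
      intro H hH
      obtain ⟨t, htH, ht2, hHt⟩ := exists_generator_of_card_two H hH
      by_contra hne
      have hZH : Z ⊓ H = ⊥ := by
        by_contra hne2
        have h1 : Nat.card (Z ⊓ H : Subgroup G) ∣ 2 := hZcard ▸ Subgroup.card_dvd_of_le inf_le_left
        have h2 : Nat.card (Z ⊓ H : Subgroup G) ≠ 1 := fun h => hne2 (Subgroup.card_eq_one.mp h)
        have h3 : Nat.card (Z ⊓ H : Subgroup G) = 2 := by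
          rcases (Nat.dvd_prime Nat.prime_two).mp h1 with h | h
          · exact absurd h h2
          · exact h
        have h4 : Z ⊓ H = Z := Subgroup.eq_of_le_of_card_ge inf_le_left (by rw [h3, hZcard])
        have h5 : Z ⊓ H = H := Subgroup.eq_of_le_of_card_ge inf_le_right (by rw [h3, hH])
        exact hne (h5.symm.trans h4)
      have hZnorm : Z ≤ Subgroup.normalizer (H : Set G) := by
        intro a ha
        have hac := hZc ha
        rw [Subgroup.mem_normalizer_iff]
        intro y
        have : a * y * a⁻¹ = y := by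
          rw [← Subgroup.mem_center_iff.mp hac y, mul_assoc, mul_inv_cancel, mul_one]
        rw [this]
      have hcardV : Nat.card (Z ⊔ H : Subgroup G) = 4 := by
        rw [card_sup_of_disjoint Z H hZnorm hZH, hZcard, hH]
      haveI := hV (Z ⊔ H) hcardV
      have hzt : z = t := involution_unique_of_isCyclic (Z ⊔ H)
        ((le_sup_left : Z ≤ Z ⊔ H) (Subgroup.mem_zpowers z)) ((le_sup_right : H ≤ Z ⊔ H) htH) hz2 ht2
      apply hne
      rw [hHt, hZdef, hzt]
    have huniq : UniqueOrderP 2 G := fun H K hH hK => (hZall H hH).trans (hZall K hK).symm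
    -- a maximal normal abelian subgroup
    obtain ⟨A, hAn, hAc, hmax⟩ := exists_max_normal_abelian G
    haveI := hAn
    haveI := hAc
    haveI hAcyc : IsCyclic A := huniq.isCyclic_of_comm hG2 A hAc
    have hCA := centralizer_eq_of_max_abelian_normal A hmax
    have hAtop : A ≠ ⊤ := by
      intro h
      apply hna
      refine ⟨⟨fun a b => ?_⟩⟩
      have ha : a ∈ A := h ▸ Subgroup.mem_top a
      have hb : b ∈ A := h ▸ Subgroup.mem_top b
      exact congrArg Subtype.val (hAc.is_comm.comm ⟨a, ha⟩ ⟨b, hb⟩)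
    obtain ⟨y, hy⟩ : ∃ y : G, y ∉ A := by
      by_contra hall
      push Not at hall
      exact hAtop ((Subgroup.eq_top_iff' A).mpr hall)
    -- an element `x ∉ A` with `x ^ 2 ∈ A`
    have hex : ∃ j : ℕ, y ^ (2 ^ j) ∈ A := by
      obtain ⟨j, hj⟩ := hG2 y
      exact ⟨j, by rw [hj]; exact A.one_mem⟩
    have hj0 : Nat.find hex ≠ 0 := by
      intro h0
      have h1 := Nat.find_spec hex
      rw [h0, pow_zero, pow_one] at h1
      exact hy h1
    obtain ⟨j, hj⟩ : ∃ j, Nat.find hex = j + 1 := ⟨Nat.find hex - 1, by omega⟩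
    set x := y ^ (2 ^ j) with hx
    have hxA : x ∉ A := Nat.find_min hex (by omega : j < Nat.find hex)
    have hx2A : x ^ 2 ∈ A := by
      have h1 := Nat.find_spec hex
      rw [hj, pow_succ, pow_mul] at h1
      exact h1
    -- `Z ≤ A`
    have hAbot : A ≠ ⊥ := by
      intro h0
      apply hy
      rw [← hCA, Subgroup.mem_centralizer_iff]
      intro b hb
      rw [h0] at hb
      have : b = 1 := hb
      rw [this, one_mul, mul_one]
    obtain ⟨e, heA, he2⟩ := exists_involution_of_ne_bot A (hG2.to_subgroup A) hAbot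
    have hZe : Subgroup.zpowers e = Z := hZall _ (by rw [Nat.card_zpowers, he2])
    have hZA : Z ≤ A := by rw [← hZe]; exact (Subgroup.zpowers_le).mpr heA
    obtain ⟨hinv, hx4, hx2ne⟩ := huniq.two_invert hG2 A Z hZcard hZA hCA x hxA hx2A
    have hx2ord : orderOf (x ^ 2) = 2 := orderOf_eq_prime hx4 hx2ne
    -- an element of order four in `A`
    obtain ⟨k, hk⟩ := IsPGroup.iff_card.mp (hG2.to_subgroup A)
    have hk2 : 2 ≤ k := by
      by_contra hlt
      have hk01 : k = 0 ∨ k = 1 := by omega
      rcases hk01 with hk0 | hk1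
      · rw [hk0, pow_zero] at hk
        exact hAbot (Subgroup.card_eq_one.mp hk)
      · rw [hk1, pow_one] at hk
        have hAcen : A ≤ Subgroup.center G := le_center_of_normal_of_card_prime hG2 A hk
        apply hy
        rw [← hCA, Subgroup.mem_centralizer_iff]
        intro b hb
        exact (Subgroup.mem_center_iff.mp (hAcen hb) y).symm
    obtain ⟨g, hg⟩ := IsCyclic.exists_generator (α := A)
    have hgord : orderOf g = 2 ^ k := by rw [orderOf_eq_card_of_forall_mem_zpowers hg, hk]
    set c : A := g ^ (2 ^ (k - 2)) with hc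
    have hcord : orderOf c = 4 := by
      rw [hc, orderOf_pow_of_dvd (pow_ne_zero _ two_ne_zero)
        (by rw [hgord]; exact pow_dvd_pow 2 (by omega)), hgord, Nat.pow_div (by omega) (by norm_num)]
      have : k - (k - 2) = 2 := by omega
      rw [this]
    set b : G := (c : G) with hb
    have hbA : b ∈ A := c.2
    have hbord : orderOf b = 4 := by rw [hb, Subgroup.orderOf_coe]; exact hcord
    have hb2ord : orderOf (b ^ 2) = 2 := by
      rw [orderOf_pow' b (by norm_num : (2 : ℕ) ≠ 0), hbord]
      norm_num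
    have hxb : x ^ 2 = b ^ 2 :=
      involution_unique_of_isCyclic A hx2A (A.pow_mem hbA 2) hx2ord hb2ord
    have hxbinv : x * b * x⁻¹ = b⁻¹ := hinv b hbA
    have hx4' : x ^ 4 = 1 := by
      have : x ^ 4 = (x ^ 2) ^ 2 := (pow_mul x 2 2)
      rw [this]; exact hx4
    have hxord : orderOf x = 4 := by
      have h1 : orderOf x ∣ 4 := orderOf_dvd_of_pow_eq_one hx4'
      have h2 : ¬ orderOf x ∣ 2 := fun h => hx2ne (orderOf_dvd_iff_pow_eq_one.mp h)
      have h3 : orderOf x ∈ Nat.divisors 4 := Nat.mem_divisors.mpr ⟨h1, by norm_num⟩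
      have h4 : Nat.divisors 4 = {1, 2, 4} := by decide
      rw [h4] at h3
      simp only [Finset.mem_insert, Finset.mem_singleton] at h3
      rcases h3 with h | h | h
      · rw [h] at h2; exact absurd (one_dvd 2) h2
      · rw [h] at h2; exact absurd (dvd_refl 2) h2
      · exact h
    -- the subgroup `B`
    set B : Subgroup G := Subgroup.zpowers x ⊔ Subgroup.zpowers b with hB
    have hxnorm : Subgroup.zpowers x ≤ Subgroup.normalizer (Subgroup.zpowers b : Set G) := by
      rw [Subgroup.zpowers_le]
      apply mem_normalizer_of_conj_mem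
      intro w hw
      have hwA : w ∈ A := ((Subgroup.zpowers_le).mpr hbA) hw
      rw [hinv w hwA]
      exact Subgroup.inv_mem _ hw
    have hI : Nat.card (Subgroup.zpowers x ⊓ Subgroup.zpowers b : Subgroup G) = 2 := by
      set I := (Subgroup.zpowers x ⊓ Subgroup.zpowers b : Subgroup G) with hIdef
      have h1 : Subgroup.zpowers (x ^ 2) ≤ I := by
        rw [Subgroup.zpowers_le]
        refine ⟨Subgroup.pow_mem _ (Subgroup.mem_zpowers x) 2, ?_⟩
        rw [hxb]
        exact Subgroup.pow_mem _ (Subgroup.mem_zpowers b) 2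
      have h2 : 2 ∣ Nat.card I := by
        have := Subgroup.card_dvd_of_le h1
        rwa [Nat.card_zpowers, hx2ord] at this
      have h3 : Nat.card I ∣ 4 := by
        have := Subgroup.card_dvd_of_le (inf_le_left : I ≤ Subgroup.zpowers x)
        rwa [Nat.card_zpowers, hxord] at this
      have h4 : Nat.card I ≠ 4 := by
        intro h
        have h5 : I = Subgroup.zpowers x :=
          Subgroup.eq_of_le_of_card_ge inf_le_left (by rw [h, Nat.card_zpowers, hxord])
        apply hxA
        have h6 : x ∈ I := h5 ▸ Subgroup.mem_zpowers x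
        exact ((Subgroup.zpowers_le).mpr hbA) h6.2
      have h5 : Nat.card I ∈ Nat.divisors 4 := Nat.mem_divisors.mpr ⟨h3, by norm_num⟩
      have h6 : Nat.divisors 4 = {1, 2, 4} := by decide
      rw [h6] at h5
      simp only [Finset.mem_insert, Finset.mem_singleton] at h5
      rcases h5 with h | h | h
      · rw [h] at h2; norm_num at h2
      · exact h
      · exact absurd h h4
    have hBcard : Nat.card B = 2 ^ 3 := by
      have h1 := card_sup_mul_card_inf (Subgroup.zpowers x) (Subgroup.zpowers b) hxnorm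
      rw [hI, Nat.card_zpowers, Nat.card_zpowers, hxord, hbord] at h1
      have : Nat.card B * 2 = 8 * 2 := by rw [hB, h1]
      have := Nat.eq_of_mul_eq_mul_right (by norm_num) this
      rw [this]; norm_num
    have hBna : ¬ IsMulCommutative B := by
      intro hcomm
      have hxB : x ∈ B := (le_sup_left : Subgroup.zpowers x ≤ B) (Subgroup.mem_zpowers x)
      have hbB : b ∈ B := (le_sup_right : Subgroup.zpowers b ≤ B) (Subgroup.mem_zpowers b)
      have h1 : x * b = b * x := congrArg Subtype.val (hcomm.is_comm.comm ⟨x, hxB⟩ ⟨b, hbB⟩)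
      have h2 : b = b⁻¹ := by
        rw [← hxbinv, h1, mul_assoc, mul_inv_cancel, mul_one]
      have h3 : b ^ 2 = 1 := by
        rw [pow_two]
        nth_rw 1 [h2]
        exact inv_mul_cancel b
      have := orderOf_dvd_of_pow_eq_one h3
      rw [hbord] at this
      norm_num at this
    have hBnc : ¬ IsCyclic B := by
      intro hcyc
      apply hBna
      exact ⟨⟨fun a b => (IsCyclic.commGroup (α := B)).mul_comm a b⟩⟩
    exact nilpotencyClass_of_self_centralizing_cube n G hG B hBcard hBna (hyp B hBnc)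

end

/-- Say that a group has self-centralizing non-cyclic subgroups when every non-cyclic subgroup H satisfies C_G(H) ≤ H. A finite non-abelian 2-group G of order 2^n has self-centralizing non-cyclic subgroups if and only if G has nilpotency class n − 1 (that is, G is dihedral, semidihedral or generalized quaternion). -/
theorem result {G : Type*} [Group G] [Finite G] (hna : ¬ IsMulCommutative G) (n : ℕ) (hG : Nat.card G = 2 ^ n) :
    (∀ H : Subgroup G, ¬ IsCyclic ↥H → Subgroup.centralizer (H : Set G) ≤ H) ↔ (⊤ : Subgroup G).lowerCentralSeries (n - 2) ≠ ⊥ := by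
  classical
  haveI : Fact (Nat.Prime 2) := ⟨Nat.prime_two⟩
  have hG2 : IsPGroup 2 G := IsPGroup.of_card hG
  haveI : Group.IsNilpotent G := hG2.isNilpotent
  -- `n ≥ 3`
  have hn3 : 3 ≤ n := by
    by_contra hlt
    apply hna
    have hn : n = 0 ∨ n = 1 ∨ n = 2 := by omega
    rcases hn with rfl | rfl | rfl
    · rw [pow_zero] at hG
      haveI : Subsingleton G := (Nat.card_eq_one_iff_unique.mp hG).1
      exact ⟨⟨fun a b => Subsingleton.elim _ _⟩⟩
    · rw [pow_one] at hG
      haveI := isCyclic_of_prime_card hG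
      exact ⟨⟨fun a b => (IsCyclic.commGroup (α := G)).mul_comm a b⟩⟩
    · exact IsPGroup.isMulCommutative_of_card_eq_prime_sq hG
  have hle : Group.nilpotencyClass G ≤ n - 1 := nilpotencyClass_le_of_card n G hG (by omega)
  rw [Ne, Subgroup.lowerCentralSeries_eq_bot_iff_nilpotencyClass_le]
  constructor
  · intro hyp
    have := maxClass_of_hyp n hG hna hyp
    omega
  · intro hc H hH
    have hcl : Group.nilpotencyClass G = n - 1 := by omega
    have hidx : (commutator G).index = 4 := by
      have := card_abelianization_of_maximal_class n G hn3 hG hcl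
      rw [this]; norm_num
    obtain ⟨C, hCcyc, hCidx⟩ := exists_cyclic_index_two_of_index_commutator n G hn3 hG hidx
    exact centralizer_le_of_maxClass hidx C hCcyc hCidx hG2 H hH

end Cfsg.Agent.S3919
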