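import Mathlib
import Cfsg.Statements.S3920
import Cfsg.Agent.Lib.Helper7.DihedralSub

set_option autoImplicit false
open Cfsg

namespace Cfsg.Agent.S3920

open Cfsg.Agent.Lib.Helper7 DihedralGroup

/-- elements commuting with a reflection -/
theorem comm_sr {n : ℕ} (i : ZMod n) (g : DihedralGroup n) (h : sr i * g = g * sr i) :
    (∃ j, g = r j ∧ 2 * j = 0) ∨ (∃ j, g = sr j ∧ 2 * (j - i) = 0) := by
  rcases g with j | j
  · left
    refine ⟨j, rfl, ?_⟩
    rw [sr_mul_r, r_mul_sr] at h
    have h1 : i + j = i - j := by injection h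
    have : 2 * j = (i + j) - (i - j) := by ring
    rw [this, h1]; ring
  · right
    refine ⟨j, rfl, ?_⟩
    rw [sr_mul_sr, sr_mul_sr] at h
    have h1 : j - i = i - j := by injection h
    have : 2 * (j - i) = (j - i) - (i - j) := by ring
    rw [this, h1]; ring

/-- Say that a group has self-centralizing non-cyclic subgroups when every non-cyclic subgroup H satisfies C_G(H) ≤ H. For n ≥ 3, the dihedral group of order 2n has self-centralizing non-cyclic subgroups if and only if n is odd or a power of 2. -/
theorem result (n : ℕ) (hn : 3 ≤ n) : (∀ H : Subgroup (DihedralGroup n), ¬ IsCyclic ↥H → Subgroup.centralizer (H : Set (DihedralGroup n)) ≤ H) ↔ (Odd n ∨ ∃ k : ℕ, n = 2 ^ k) := by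
  haveI : NeZero n := ⟨by omega⟩
  constructor
  · intro h
    by_contra hcon
    push Not at hcon
    obtain ⟨hodd, hpow⟩ := hcon
    rw [Nat.not_odd_iff_even] at hodd
    obtain ⟨a, m, hm, hnam⟩ := Nat.exists_eq_two_pow_mul_odd (n := n) (by omega)
    have ha : a ≠ 0 := by
      rintro rfl
      rw [pow_zero, one_mul] at hnam
      rw [hnam] at hodd
      exact (Nat.not_even_iff_odd.mpr hm) hodd
    have hm1 : m ≠ 1 := by
      rintro rfl
      exact hpow a (by rw [hnam, mul_one])
    obtain ⟨a', rfl⟩ := Nat.exists_eq_succ_of_ne_zero ha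
    have hdn : 2 ^ (a' + 1) ∣ n := Dvd.intro _ hnam.symm
    have hhalf : n / 2 = 2 ^ a' * m := by
      rw [hnam, pow_succ]
      have : 2 ^ a' * 2 * m = 2 * (2 ^ a' * m) := by ring
      rw [this, Nat.mul_div_cancel_left _ (by norm_num : 0 < 2)]
    set H := dihSub n (2 ^ (a' + 1)) hdn with hH
    set c : ZMod n := ((2 ^ (a' + 1) : ℕ) : ZMod n) with hc
    have hs : sr (0 : ZMod n) ∈ H := by
      rw [hH, sr_mem_dihSub]; simp
    have hrc : r c ∈ H := by
      rw [hH, r_mem_dihSub, hc, map_natCast, ZMod.natCast_self]
    have hnc : ¬ IsCyclic ↥H := by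
      intro hcyc
      have hcomm : IsMulCommutative ↥H := inferInstance
      have h1 := hcomm.is_comm.comm (⟨sr 0, hs⟩ : ↥H) ⟨r c, hrc⟩
      have h2 : sr (0 : ZMod n) * r c = r c * sr 0 := congrArg Subtype.val h1
      rw [sr_mul_r, r_mul_sr] at h2
      have h3 : (0 : ZMod n) + c = 0 - c := by injection h2
      have h4 : c + c = 0 := by
        have : c + c = (0 + c) - (0 - c) := by ring
        rw [this, h3]; ring
      have h5 : ((2 ^ (a' + 1) + 2 ^ (a' + 1) : ℕ) : ZMod n) = 0 := by
        push_cast
        rw [hc] at h4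
        push_cast at h4
        exact h4
      rw [ZMod.natCast_eq_zero_iff, hnam] at h5
      have h6 : 2 ^ (a' + 1) * m ∣ 2 ^ (a' + 1) * 2 := by
        have : 2 ^ (a' + 1) + 2 ^ (a' + 1) = 2 ^ (a' + 1) * 2 := by ring
        rwa [this] at h5
      have h7 : m ∣ 2 := Nat.dvd_of_mul_dvd_mul_left (pow_pos (by norm_num) _) h6
      have h8 : m ≤ 2 := Nat.le_of_dvd (by norm_num) h7
      obtain ⟨k, hk⟩ := hm
      omega
    have hcent := h H hnc
    set z : DihedralGroup n := r ((n / 2 : ℕ) : ZMod n) with hz
    have hzz : ((n / 2 : ℕ) : ZMod n) + ((n / 2 : ℕ) : ZMod n) = 0 := by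
      have : ((n / 2 + n / 2 : ℕ) : ZMod n) = 0 := by
        have h1 : n / 2 + n / 2 = n := by
          obtain ⟨k, hk⟩ := hodd
          omega
        rw [h1, ZMod.natCast_self]
      push_cast at this
      exact this
    have hzC : z ∈ Subgroup.centralizer (H : Set (DihedralGroup n)) := by
      rw [Subgroup.mem_centralizer_iff]
      intro x _
      rcases x with i | i
      · rw [hz, r_mul_r, r_mul_r, add_comm]
      · rw [hz, sr_mul_r, r_mul_sr]
        congr 1
        have : i - ((n / 2 : ℕ) : ZMod n) = i + ((n / 2 : ℕ) : ZMod n)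
            - (((n / 2 : ℕ) : ZMod n) + ((n / 2 : ℕ) : ZMod n)) := by ring
        rw [this, hzz, sub_zero]
    have hzH := hcent hzC
    rw [hz, hH, r_mem_dihSub, map_natCast, ZMod.natCast_eq_zero_iff, hhalf, pow_succ] at hzH
    have h9 : 2 ∣ m := Nat.dvd_of_mul_dvd_mul_left (pow_pos (by norm_num) a') hzH
    obtain ⟨k, hk⟩ := hm
    omega
  · rintro (hodd | ⟨k, hk⟩)
    · intro H hH g hg
      obtain ⟨i, hi⟩ := exists_sr_mem_of_not_isCyclic H hH
      have hgi := Subgroup.mem_centralizer_iff.mp hg (sr i) hi
      rcases comm_sr i g hgi with ⟨j, rfl, hj⟩ | ⟨j, rfl, hj⟩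
      · have := two_mul_eq_zero_of_odd hodd j hj
        rw [this, r_zero]; exact H.one_mem
      · have := two_mul_eq_zero_of_odd hodd (j - i) hj
        have hji : j = i := sub_eq_zero.mp this
        rw [hji]; exact hi
    · intro H hH g hg
      have heven : Even n := by
        rw [hk]
        have hk2 : 2 ≤ k := by
          by_contra hlt
          have : k ≤ 1 := by omega
          interval_cases k <;> omega
        obtain ⟨k', rfl⟩ : ∃ k', k = k' + 1 := ⟨k - 1, by omega⟩
        rw [pow_succ]; exact even_two.mul_left _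
      have hn0 : n ≠ 0 := by omega
      obtain ⟨i, hi⟩ := exists_sr_mem_of_not_isCyclic H hH
      -- a nontrivial rotation in H
      have hrot : ∃ t : ZMod n, t ≠ 0 ∧ r t ∈ H := by
        by_contra hcon
        push Not at hcon
        apply hH
        have hHz : H = Subgroup.zpowers (sr i) := by
          apply le_antisymm
          · intro x hx
            rcases x with t | j
            · have : t = 0 := by
                by_contra ht
                exact hcon t ht hx
              rw [this, r_zero]; exact Subgroup.one_mem _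
            · have h1 : sr i * sr j ∈ H := H.mul_mem hi hx
              rw [sr_mul_sr] at h1
              have : j - i = 0 := by
                by_contra ht
                exact hcon _ ht h1
              have hji : j = i := sub_eq_zero.mp this
              rw [hji]; exact Subgroup.mem_zpowers _
          · rw [Subgroup.zpowers_le]; exact hi
        rw [hHz]; infer_instance
      obtain ⟨t, ht0, htH⟩ := hrot
      -- the involution lies in H
      have hzH : r ((n / 2 : ℕ) : ZMod n) ∈ H := by
        have hord : orderOf (r t) ∣ 2 ^ (k + 1) := by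
          have h1 := orderOf_dvd_natCard (r t)
          rw [DihedralGroup.nat_card] at h1
          have h2 : 2 * n = 2 ^ (k + 1) := by rw [hk, pow_succ, mul_comm]
          rwa [h2] at h1
        obtain ⟨f, _, hf⟩ := (Nat.dvd_prime_pow Nat.prime_two).mp hord
        have hf0 : f ≠ 0 := by
          rintro rfl
          rw [pow_zero, orderOf_eq_one_iff, ← r_zero] at hf
          have : t = 0 := by injection hf
          exact ht0 this
        obtain ⟨f', rfl⟩ := Nat.exists_eq_succ_of_ne_zero hf0
        set y := (r t) ^ 2 ^ f' with hy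
        have hyH : y ∈ H := H.pow_mem htH _
        have hoy : orderOf y = 2 := by
          rw [hy, orderOf_pow_of_dvd (pow_ne_zero _ two_ne_zero)
            (by rw [hf]; exact pow_dvd_pow 2 (Nat.le_succ f')), hf, pow_succ,
            Nat.mul_div_cancel_left _ (pow_pos two_pos _)]
        rw [hy, r_pow] at hoy hyH
        set u := t * ((2 ^ f' : ℕ) : ZMod n) with hu
        have h2u : 2 * u = 0 := by
          have h1 : (r u) ^ 2 = 1 := by rw [← hoy]; exact pow_orderOf_eq_one _
          rw [r_pow, ← r_zero] at h1
          have h2 : u * ((2 : ℕ) : ZMod n) = 0 := by injection h1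
          push_cast at h2
          rw [mul_comm]; exact h2
        rcases two_mul_eq_zero_of_even heven hn0 u h2u with h0 | h0
        · exfalso
          rw [h0, r_zero, orderOf_one] at hoy
          omega
        · rw [← h0]; exact hyH
      have hgi := Subgroup.mem_centralizer_iff.mp hg (sr i) hi
      rcases comm_sr i g hgi with ⟨j, rfl, hj⟩ | ⟨j, rfl, hj⟩
      · rcases two_mul_eq_zero_of_even heven hn0 j hj with h0 | h0
        · rw [h0, r_zero]; exact H.one_mem
        · rw [h0]; exact hzH
      · rcases two_mul_eq_zero_of_even heven hn0 (j - i) hj with h0 | h0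
        · have hji : j = i := sub_eq_zero.mp h0
          rw [hji]; exact hi
        · have h1 : sr i * r ((n / 2 : ℕ) : ZMod n) ∈ H := H.mul_mem hi hzH
          rw [sr_mul_r, ← h0] at h1
          have : i + (j - i) = j := by ring
          rwa [this] at h1

end Cfsg.Agent.S3920
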