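import Mathlib
import Cfsg.Statements.S3937
import Cfsg.Agent.Lib.Helper7.Wielandt6
import Cfsg.Agent.Lib.Lead.Core

set_option autoImplicit false
open Cfsg

namespace Cfsg.Agent.S3937

open Cfsg.Agent.Lib.Helper7
open scoped commutatorElement

variable {G : Type*} [Group G]

/-- the iterated commutator `[x, g, …, g]` -/
def eng (g : G) (x : G) (n : ℕ) : G :=
  (List.replicate n g).foldl (fun a b => a * b * a⁻¹ * b⁻¹) x

lemma eng_zero (g x : G) : eng g x 0 = x := rfl

lemma eng_succ (g x : G) (n : ℕ) : eng g x (n + 1) = eng g (x * g * x⁻¹ * g⁻¹) n := by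
  unfold eng
  rw [List.replicate_succ, List.foldl_cons]

lemma eng_succ' (g x : G) (n : ℕ) :
    eng g x (n + 1) = eng g x n * g * (eng g x n)⁻¹ * g⁻¹ := by
  induction n generalizing x with
  | zero => rw [eng_succ, eng_zero, eng_zero]
  | succ n ih => rw [eng_succ, ih, ← eng_succ]

lemma eng_mem_lcs (F : Subgroup G) (g : G) (hg : g ∈ F) (n : ℕ) :
    ∀ (i : ℕ) (a : G), a ∈ F.lowerCentralSeries i → eng g a n ∈ F.lowerCentralSeries (i + n) := by
  induction n with
  | zero => intro i a ha; exact ha
  | succ n ih =>
    intro i a ha
    rw [eng_succ]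
    have h1 : a * g * a⁻¹ * g⁻¹ ∈ F.lowerCentralSeries (i + 1) := by
      rw [Subgroup.lowerCentralSeries_succ, ← commutatorElement_def]
      exact Subgroup.commutator_mem_commutator ha hg
    have := ih (i + 1) _ h1
    have e : i + 1 + n = i + (n + 1) := by ring
    rwa [e] at this

/-- Baer's characterization of the Fitting subgroup: in a finite group G, an element g lies in the Fitting subgroup if and only if g is a left Engel element, that is, for every x there is n with [x, g, g, …, g] = 1 (n entries g, [a, b] = aba⁻¹b⁻¹). -/
theorem result {G : Type*} [Group G] [Finite G] (g : G) :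
    g ∈ Cfsg.fittingSubgroup G ↔ ∀ x : G, ∃ n : ℕ, (List.replicate n g).foldl (fun a b => a * b * a⁻¹ * b⁻¹) x = 1 := by
  constructor
  · intro hg x
    set F := Cfsg.fittingSubgroup G with hF
    have hFn : F.Normal := Cfsg.Agent.Lib.Lead.fittingSubgroup_normal
    have hFnil : Group.IsNilpotent F := Cfsg.Agent.Lib.Lead.fittingSubgroup_isNilpotent
    obtain ⟨c, hc⟩ := (Subgroup.isNilpotent_iff_lowerCentralSeries F).mp hFnil
    refine ⟨c + 1, ?_⟩
    show eng g x (c + 1) = 1
    rw [eng_succ]
    have h1 : x * g * x⁻¹ * g⁻¹ ∈ F.lowerCentralSeries 0 := by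
      rw [Subgroup.lowerCentralSeries_zero]
      exact F.mul_mem (hFn.conj_mem g hg x) (F.inv_mem hg)
    have h2 := eng_mem_lcs F g hg c 0 _ h1
    rw [zero_add, hc, Subgroup.mem_bot] at h2
    exact h2
  · intro hE
    have hE' : ∀ x : G, ∃ n : ℕ, eng g x n = 1 := hE
    set A := Subgroup.zpowers g with hA
    -- relative statement
    have key : ∀ n : ℕ, ∀ H : Subgroup G, Nat.card H = n → g ∈ H → SubnIn A H := by
      intro n
      induction n using Nat.strong_induction_on with
      | _ n ih =>
      intro H hcard hgH
      have hAH : A ≤ H := by rw [hA, Subgroup.zpowers_le]; exact hgH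
      by_contra hns
      have hprop : ∀ K : Subgroup G, A ≤ K → K < H → SubnIn A K := fun K hAK hKH =>
        ih _ (hcard ▸ card_lt_of_lt hKH) K rfl (hAK (Subgroup.mem_zpowers g))
      have hAltH : A < H := by
        refine lt_of_le_of_ne hAH ?_
        intro h
        exact hns (h ▸ SubnIn.refl _)
      obtain ⟨M, hAM, hM⟩ := exists_maxIn_ge hAltH
      have hgM : g ∈ M := hAM (Subgroup.mem_zpowers g)
      -- if all conjugates of `A` under `H` lie in `M` we are done
      have hcase : ¬ ∀ x ∈ H, cj x A ≤ M := by
        intro hconj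
        set C := ⨆ x : H, cj (x : G) A with hC
        have hCM : C ≤ M := iSup_le fun x => hconj x x.2
        have hCH : C < H := lt_of_le_of_lt hCM hM.1
        have hAC : A ≤ C := by
          have h1 : cj ((1 : H) : G) A ≤ C := le_iSup (fun x : H => cj (x : G) A) 1
          have h2 : cj ((1 : H) : G) A = A := cj_one A
          rwa [h2] at h1
        have hHC : H ≤ Subgroup.normalizer (C : Set G) := by
          intro x hx
          rw [mem_normalizer_iff_cj]
          apply cj_eq_of_le
          rw [hC]
          unfold cj
          rw [Subgroup.map_iSup]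
          apply iSup_le
          intro y
          have h2 : cj x (cj (y : G) A) = cj (((⟨x, hx⟩ * y : H)) : G) A := by
            rw [← cj_mul]; rfl
          exact h2.le.trans (le_iSup (fun y : H => cj (y : G) A) (⟨x, hx⟩ * y))
        exact hns ((hprop C hAC hCH).trans (SubnIn.of_normal hCH.le hHC))
      -- `M` is self-normalizing in `H`
      have hNM : ∀ x ∈ H, cj x M = M → x ∈ M := by
        intro x hxH hxM
        by_contra hxnM
        apply hcase
        -- then `M` is normal in `H`
        have hlt : M < M ⊔ Subgroup.zpowers x := by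
          refine lt_of_le_of_ne le_sup_left ?_
          intro h
          apply hxnM
          rw [h]
          exact Subgroup.mem_sup_right (Subgroup.mem_zpowers x)
        have hle : M ⊔ Subgroup.zpowers x ≤ H ⊓ Subgroup.normalizer (M : Set G) := by
          apply sup_le (le_inf hM.1.le Subgroup.le_normalizer)
          rw [Subgroup.zpowers_le]
          exact ⟨hxH, mem_normalizer_iff_cj.mpr hxM⟩
        have hNH : H ⊓ Subgroup.normalizer (M : Set G) = H := by
          by_contra hne
          have hlt2 : H ⊓ Subgroup.normalizer (M : Set G) < H := lt_of_le_of_ne inf_le_left hne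
          have := hM.2 _ (le_inf hM.1.le Subgroup.le_normalizer) hlt2
          rw [this] at hle
          exact absurd hlt (not_lt_of_ge hle)
        intro z hz
        have hz' : z ∈ H ⊓ Subgroup.normalizer (M : Set G) := by rw [hNH]; exact hz
        have hzN : z ∈ Subgroup.normalizer (M : Set G) := hz'.2
        calc cj z A ≤ cj z M := cj_mono z hAM
          _ = M := mem_normalizer_iff_cj.mp hzN
      -- an element of `H` conjugating `A` into `M` lies in `M`
      have hin : ∀ x ∈ H, cj x A ≤ M → x ∈ M := by
        intro x hxH hxA
        have hA' : A ≤ cj x⁻¹ M := by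
          have := cj_mono x⁻¹ hxA
          rwa [cj_inv_cj] at this
        have hM' : MaxIn (cj x⁻¹ M) H := by
          have hHx : cj x⁻¹ H = H := cj_eq_self_of_mem (H.inv_mem hxH)
          refine ⟨?_, ?_⟩
          · have := (cj_lt_cj_iff x⁻¹).mpr hM.1
            rwa [hHx] at this
          · intro X hX hXH
            have h1 : M ≤ cj x X := by
              have := cj_mono x hX
              rwa [cj_cj_inv] at this
            have h2 : cj x X < H := by
              have := (cj_lt_cj_iff x).mpr hXH
              rwa [cj_eq_self_of_mem hxH] at this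
            have h3 := hM.2 _ h1 h2
            rw [← h3, cj_inv_cj]
        have heq : cj x⁻¹ M = M := zipper hAH hns hprop hM' hM hA' hAM
        have : x⁻¹ ∈ M := hNM x⁻¹ (H.inv_mem hxH) heq
        simpa using M.inv_mem this
      -- pick `x ∈ H ∖ M`
      obtain ⟨x, hxH, hxM⟩ := SetLike.exists_of_lt hM.1
      have hall : ∀ n : ℕ, eng g x n ∈ H ∧ eng g x n ∉ M := by
        intro n
        induction n with
        | zero => exact ⟨hxH, hxM⟩
        | succ n ihn =>
          obtain ⟨h1, h2⟩ := ihn
          set y := eng g x n with hy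
          have hy' : eng g x (n + 1) = y * g * y⁻¹ * g⁻¹ := eng_succ' g x n
          have hyH : eng g x (n + 1) ∈ H := by
            rw [hy']
            exact H.mul_mem (H.mul_mem (H.mul_mem h1 hgH) (H.inv_mem h1)) (H.inv_mem hgH)
          refine ⟨hyH, ?_⟩
          intro hyM
          apply h2
          apply hin y h1
          have hcj : cj y A = Subgroup.zpowers (y * g * y⁻¹) := by
            unfold cj
            rw [hA, MonoidHom.map_zpowers]
            rfl
          rw [hcj, Subgroup.zpowers_le]
          have : y * g * y⁻¹ = (y * g * y⁻¹ * g⁻¹) * g := by group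
          rw [this, ← hy']
          exact M.mul_mem hyM hgM
      obtain ⟨n, hn⟩ := hE' x
      exact (hall n).2 (hn ▸ M.one_mem)
    have hsub : A.IsSubnormal := subnIn_top_iff.mp (key _ ⊤ rfl (Subgroup.mem_top g))
    have hnil : Group.IsNilpotent A := by
      have hcyc : IsCyclic A := by rw [hA]; infer_instance
      exact @CommGroup.isNilpotent _ IsCyclic.commGroup
    exact ((Cfsg.Agent.S3743.result A hsub).1 hnil) (Subgroup.mem_zpowers g)

end Cfsg.Agent.S3937
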