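import Mathlib
import Cfsg.Statements.S3939
import Cfsg.Agent.Lib.Lead.Nilpotent
import Cfsg.Agent.Lib.Helper7.SylowGen
import Cfsg.Agent.Lib.Helper7.PElements

set_option autoImplicit false
open Cfsg

namespace Cfsg.Agent.S3939

open Cfsg.Agent.Lib.Helper7 Cfsg.Agent.Lib.Lead

universe u

/-- Baer's condition -/
def IsB {G : Type*} [Group G] (g : G) : Prop :=
  ∀ x : G, Group.IsNilpotent ↥(Subgroup.closure ({x, g} : Set G))

theorem subgroupOf_ucs_le {G : Type*} [Group G] (K : Subgroup G) (n : ℕ) :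
    (Subgroup.upperCentralSeries G n).subgroupOf K ≤ Subgroup.upperCentralSeries K n := by
  induction n with
  | zero => simp [Subgroup.upperCentralSeries_zero]
  | succ n ih =>
    intro k hk
    rw [Subgroup.mem_subgroupOf, Subgroup.mem_upperCentralSeries_succ_iff] at hk
    rw [Subgroup.mem_upperCentralSeries_succ_iff]
    intro y
    apply ih
    rw [Subgroup.mem_subgroupOf]
    exact hk y.1

theorem isB_of_mem {G : Type*} [Group G] (g : G) (m : ℕ)
    (hg : g ∈ Subgroup.upperCentralSeries G m) : IsB g := by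
  intro x
  set K := Subgroup.closure ({x, g} : Set G) with hK
  rw [Group.isNilpotent_iff]
  refine ⟨m + 1, ?_⟩
  rw [eq_top_iff]
  intro k _
  rw [Subgroup.mem_upperCentralSeries_succ_iff]
  intro y
  apply subgroupOf_ucs_le K m
  rw [Subgroup.mem_subgroupOf]
  show (k : G) * y * (k : G)⁻¹ * (y : G)⁻¹ ∈ Subgroup.upperCentralSeries G m
  have hKle : K ≤ Subgroup.zpowers x ⊔ Subgroup.upperCentralSeries G m := by
    rw [hK, Subgroup.closure_le]
    rintro z (rfl | rfl)
    · exact (le_sup_left : Subgroup.zpowers z ≤ _) (Subgroup.mem_zpowers z)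
    · exact (le_sup_right : Subgroup.upperCentralSeries G m ≤ _) hg
  obtain ⟨a, ha, w, hw, hk⟩ := Subgroup.mem_sup_of_normal_right.mp (hKle k.2)
  obtain ⟨b, hb, w', hw', hy⟩ := Subgroup.mem_sup_of_normal_right.mp (hKle y.2)
  obtain ⟨i, rfl⟩ := Subgroup.mem_zpowers_iff.mp ha
  obtain ⟨j, rfl⟩ := Subgroup.mem_zpowers_iff.mp hb
  rw [← QuotientGroup.eq_one_iff]
  have h1 : ((k : G) : G ⧸ Subgroup.upperCentralSeries G m) = (QuotientGroup.mk x) ^ i := by
    rw [← hk, QuotientGroup.mk_mul, (QuotientGroup.eq_one_iff w).mpr hw, mul_one,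
      QuotientGroup.mk_zpow]
  have h2 : ((y : G) : G ⧸ Subgroup.upperCentralSeries G m) = (QuotientGroup.mk x) ^ j := by
    rw [← hy, QuotientGroup.mk_mul, (QuotientGroup.eq_one_iff w').mpr hw', mul_one,
      QuotientGroup.mk_zpow]
  rw [QuotientGroup.mk_mul, QuotientGroup.mk_mul, QuotientGroup.mk_mul, QuotientGroup.mk_inv,
    QuotientGroup.mk_inv, h1, h2]
  have hc : Commute ((QuotientGroup.mk x : G ⧸ Subgroup.upperCentralSeries G m) ^ i)
      ((QuotientGroup.mk x) ^ j) := (Commute.refl _).zpow_zpow i j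
  rw [hc.eq]
  group

theorem isNilpotent_of_le {G : Type*} [Group G] {K' K : Subgroup G} (h : K' ≤ K)
    (hK : Group.IsNilpotent ↥K) : Group.IsNilpotent ↥K' := by
  have e := Subgroup.subgroupOfEquivOfLe h
  haveI : Group.IsNilpotent ↥(K'.subgroupOf K) := Subgroup.isNilpotent _
  exact Group.nilpotent_of_mulEquiv e

theorem isB_pow {G : Type*} [Group G] (g : G) (hg : IsB g) (i : ℕ) : IsB (g ^ i) := by
  intro x
  refine isNilpotent_of_le ?_ (hg x)
  rw [Subgroup.closure_le]
  rintro z (rfl | rfl)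
  · exact Subgroup.subset_closure (by simp)
  · exact Subgroup.pow_mem _ (Subgroup.subset_closure (by simp)) i

theorem commute_of_nilpotent {G : Type*} [Group G] [Finite G] (g x : G) (p q : ℕ)
    [Fact p.Prime] [Fact q.Prime] (hpq : p ≠ q)
    (hg : ∃ k : ℕ, orderOf g = p ^ k) (hx : ∃ k : ℕ, orderOf x = q ^ k)
    (hK : Group.IsNilpotent ↥(Subgroup.closure ({x, g} : Set G))) : Commute g x := by
  set K := Subgroup.closure ({x, g} : Set G) with hKdef
  have hgK : g ∈ K := Subgroup.subset_closure (by simp)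
  have hxK : x ∈ K := Subgroup.subset_closure (by simp)
  have hg' : ∃ k : ℕ, orderOf (⟨g, hgK⟩ : K) = p ^ k := by
    rw [Subgroup.orderOf_mk]; exact hg
  have hx' : ∃ k : ℕ, orderOf (⟨x, hxK⟩ : K) = q ^ k := by
    rw [Subgroup.orderOf_mk]; exact hx
  obtain ⟨P, hP⟩ := (isPElt_iff_mem_sylow _).mp hg'
  obtain ⟨Q, hQ⟩ := (isPElt_iff_mem_sylow _).mp hx'
  have hPn : (P : Subgroup K).Normal := inferInstance
  have hQn : (Q : Subgroup K).Normal := inferInstance
  have hdis : Disjoint (P : Subgroup K) (Q : Subgroup K) :=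
    IsPGroup.disjoint_of_ne p q hpq _ _ P.2 Q.2
  have := Subgroup.commute_of_normal_of_disjoint _ _ hPn hQn hdis _ _ hP hQ
  exact congrArg Subtype.val this.eq

theorem center_ne_bot_of_isB {G : Type*} [Group G] [Finite G] (g : G) (hg : IsB g)
    (hg1 : g ≠ 1) : Subgroup.center G ≠ ⊥ := by
  have ho1 : orderOf g ≠ 1 := fun h => hg1 (orderOf_eq_one_iff.mp h)
  obtain ⟨p, hp, hpd⟩ := Nat.exists_prime_and_dvd ho1
  haveI : Fact p.Prime := ⟨hp⟩
  set g' := g ^ (orderOf g / p) with hg'def
  have hog' : orderOf g' = p := orderOf_pow_orderOf_div (orderOf_pos g).ne' hpd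
  have hg'B : IsB g' := isB_pow g hg _
  have hg'1 : g' ≠ 1 := by
    intro h
    rw [← orderOf_eq_one_iff, hog'] at h
    exact hp.one_lt.ne' h
  -- the set of q-elements, q ≠ p
  set S : Set G := {y | ∃ q : ℕ, q.Prime ∧ q ≠ p ∧ ∃ k : ℕ, orderOf y = q ^ k} with hS
  set R := Subgroup.normalClosure S with hR
  have hRc : R ≤ Subgroup.centralizer ({g'} : Set G) := by
    rw [hR, Subgroup.normalClosure, Subgroup.closure_le]
    intro a ha
    obtain ⟨b, hb, hba⟩ := Group.mem_conjugatesOfSet_iff.mp ha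
    obtain ⟨q, hq, hqp, k, hk⟩ := hb
    haveI : Fact q.Prime := ⟨hq⟩
    have hak : orderOf a = q ^ k := by
      obtain ⟨c, hc⟩ := isConj_iff.mp hba
      rw [← hc, ← hk]
      have := (MulAut.conj c).orderOf_eq b
      rwa [MulAut.conj_apply] at this
    have := commute_of_nilpotent g' a p q (fun h => hqp h.symm) ⟨1, by rw [hog', pow_one]⟩
      ⟨k, hak⟩ (hg'B a)
    exact Subgroup.mem_centralizer_singleton_iff.mpr this.eq.symm
  obtain ⟨P, hP⟩ := (isPElt_iff_mem_sylow g').mp ⟨1, by rw [hog', pow_one]⟩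
  have htop : (P : Subgroup G) ⊔ R = ⊤ := by
    apply eq_top_of_forall_sylow_le
    intro q hq
    by_cases hqp : q = p
    · subst hqp
      exact ⟨P, le_sup_left⟩
    · obtain ⟨Q⟩ : Nonempty (Sylow q G) := inferInstance
      refine ⟨Q, le_trans ?_ le_sup_right⟩
      intro y hy
      apply Subgroup.subset_normalClosure
      obtain ⟨k, hk⟩ := isPElt_of_mem Q.2 hy
      exact ⟨q, hq.out, hqp, k, hk⟩
  set D := Subgroup.centralizer (R : Set G) with hD
  have hDn : D.Normal := inferInstance
  set T := D.subgroupOf (P : Subgroup G) with hT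
  haveI hTn : T.Normal := inferInstance
  have hg'D : g' ∈ D := by
    rw [hD, Subgroup.mem_centralizer_iff]
    intro r hr
    exact (Subgroup.mem_centralizer_singleton_iff.mp (hRc hr))
  have hTne : T ≠ ⊥ := by
    intro h
    have : (⟨g', hP⟩ : (P : Subgroup G)) ∈ T := by
      rw [hT, Subgroup.mem_subgroupOf]; exact hg'D
    rw [h, Subgroup.mem_bot] at this
    exact hg'1 (congrArg Subtype.val this)
  haveI : Group.IsNilpotent ↥(P : Subgroup G) := IsPGroup.isNilpotent P.2
  have hne := inf_center_ne_bot T hTne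
  obtain ⟨⟨t, ht⟩, ht1⟩ := (Subgroup.ne_bot_iff_exists_ne_one).mp hne
  have htT : t ∈ T := ht.1
  have htZ : t ∈ Subgroup.center ↥(P : Subgroup G) := ht.2
  have ht1' : (t : G) ≠ 1 := by
    intro h
    apply ht1
    apply Subtype.ext
    apply Subtype.ext
    exact h
  have hle : (P : Subgroup G) ⊔ R ≤ Subgroup.centralizer ({(t : G)} : Set G) := by
    apply sup_le
    · intro u hu
      rw [Subgroup.mem_centralizer_singleton_iff]
      have := (Subgroup.mem_center_iff.mp htZ) ⟨u, hu⟩
      exact congrArg Subtype.val this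
    · intro r hr
      rw [Subgroup.mem_centralizer_singleton_iff]
      have h1 : (t : G) ∈ D := Subgroup.mem_subgroupOf.mp htT
      rw [hD, Subgroup.mem_centralizer_iff] at h1
      exact h1 r hr
  rw [htop] at hle
  intro hbot
  have : (t : G) ∈ Subgroup.center G := by
    rw [Subgroup.mem_center_iff]
    intro u
    exact Subgroup.mem_centralizer_singleton_iff.mp (hle (Subgroup.mem_top u))
  rw [hbot, Subgroup.mem_bot] at this
  exact ht1' this

theorem main : ∀ n : ℕ, ∀ (G : Type u) [Group G] [Finite G], Nat.card G = n →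
    ∀ g : G, IsB g → ∃ m, g ∈ Subgroup.upperCentralSeries G m := by
  intro n
  induction n using Nat.strong_induction_on with
  | _ n IH =>
  intro G _ _ hG g hg
  by_cases hg1 : g = 1
  · exact ⟨0, by rw [hg1]; exact Subgroup.one_mem _⟩
  · have hZ := center_ne_bot_of_isB g hg hg1
    have hlt : Nat.card (G ⧸ Subgroup.center G) < n := by
      rw [← hG, Subgroup.card_eq_card_quotient_mul_card_subgroup (Subgroup.center G)]
      apply lt_mul_of_one_lt_right Nat.card_pos
      exact (Subgroup.one_lt_card_iff_ne_bot _).mpr hZ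
    have hB : IsB (QuotientGroup.mk g : G ⧸ Subgroup.center G) := by
      intro xbar
      obtain ⟨x, rfl⟩ := QuotientGroup.mk_surjective xbar
      have himg : Subgroup.closure ({(QuotientGroup.mk x : G ⧸ Subgroup.center G),
          QuotientGroup.mk g} : Set (G ⧸ Subgroup.center G)) =
          (Subgroup.closure ({x, g} : Set G)).map (QuotientGroup.mk' (Subgroup.center G)) := by
        rw [MonoidHom.map_closure, Set.image_pair]
        rfl
      rw [himg]
      haveI := hg x
      exact Group.nilpotent_of_surjective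
        ((QuotientGroup.mk' (Subgroup.center G)).subgroupMap _)
        ((QuotientGroup.mk' (Subgroup.center G)).subgroupMap_surjective _)
    obtain ⟨m, hm⟩ := IH _ hlt (G ⧸ Subgroup.center G) rfl _ hB
    refine ⟨m + 1, ?_⟩
    rw [← Subgroup.comap_upperCentralSeries_quotient_center, Subgroup.mem_comap]
    exact hm

theorem result {G : Type*} [Group G] [Finite G] (g : G) :
    (∀ x : G, Group.IsNilpotent ↥(Subgroup.closure ({x, g} : Set G))) ↔ g ∈ ⨆ n : ℕ, Subgroup.upperCentralSeries G n := by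
  constructor
  · intro h
    obtain ⟨m, hm⟩ := main (Nat.card G) G rfl g h
    exact Subgroup.mem_iSup_of_mem m hm
  · intro h
    obtain ⟨m, hm⟩ := (Subgroup.mem_iSup_of_directed
      (Monotone.directed_le (Subgroup.upperCentralSeries_mono G))).mp h
    exact isB_of_mem g m hm

end Cfsg.Agent.S3939
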