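import Mathlib
import Cfsg.Statements.S3941

set_option autoImplicit false
open Cfsg

namespace Cfsg.Agent.S3941

open Equiv

/-- the embedding of `A_{n-1}` (on the complement of a point) in `A_n`. -/
noncomputable def emb (n : ℕ) (a : Fin n) :
    ↥(alternatingGroup {x : Fin n // x ≠ a}) →* ↥(alternatingGroup (Fin n)) :=
  ((Equiv.Perm.ofSubtype : Perm {x : Fin n // x ≠ a} →* Perm (Fin n)).comp
      (alternatingGroup {x : Fin n // x ≠ a}).subtype).codRestrict (alternatingGroup (Fin n))
    (fun x => by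
      rw [Equiv.Perm.mem_alternatingGroup, MonoidHom.comp_apply, Equiv.Perm.sign_ofSubtype]
      exact Equiv.Perm.mem_alternatingGroup.mp x.2)

theorem emb_injective (n : ℕ) (a : Fin n) : Function.Injective (emb n a) := by
  intro x y hxy
  have h1 : ((emb n a x : ↥(alternatingGroup (Fin n))) : Perm (Fin n)) = (emb n a y : _) := by
    rw [hxy]
  have h2 : (Equiv.Perm.ofSubtype (x : Perm {x : Fin n // x ≠ a}) : Perm (Fin n))
      = Equiv.Perm.ofSubtype (y : Perm {x : Fin n // x ≠ a}) := h1
  exact Subtype.ext (Equiv.Perm.ofSubtype_injective h2)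

theorem big_case (n p : ℕ) (hn : 6 ≤ n) [Fact p.Prime] (hp : p ≠ 2) (hpn : p < n)
    (h : ∀ H : Subgroup ↥(alternatingGroup (Fin n)), H ≠ ⊤ → p ∣ Nat.card ↥H →
      Cfsg.IsPClosed p ↥H) : False := by
  have hpp : p.Prime := Fact.out
  have a : Fin n := ⟨0, by omega⟩
  have hcardα' : Nat.card {x : Fin n // x ≠ a} = n - 1 := by
    rw [Nat.card_eq_fintype_card, Fintype.card_subtype_compl, Fintype.card_fin,
      Fintype.card_subtype_eq]
  have hcard5 : 5 ≤ Nat.card {x : Fin n // x ≠ a} := by rw [hcardα']; omega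
  haveI : Nontrivial {x : Fin n // x ≠ a} := by
    rw [← Finite.one_lt_card_iff_nontrivial]; omega
  haveI : Nontrivial (Fin n) := by
    rw [← Finite.one_lt_card_iff_nontrivial]; simp; omega
  haveI hs : IsSimpleGroup ↥(alternatingGroup {x : Fin n // x ≠ a}) :=
    alternatingGroup.isSimpleGroup hcard5
  set H : Subgroup ↥(alternatingGroup (Fin n)) := (emb n a).range with hH
  have hcH : Nat.card H = Nat.card ↥(alternatingGroup {x : Fin n // x ≠ a}) :=
    (Nat.card_congr (MonoidHom.ofInjective (emb_injective n a)).toEquiv).symm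
  have h2H : 2 * Nat.card H = (n - 1).factorial := by
    rw [hcH, two_mul_nat_card_alternatingGroup, Nat.card_perm, hcardα']
  have h2A : 2 * Nat.card ↥(alternatingGroup (Fin n)) = n.factorial := by
    rw [two_mul_nat_card_alternatingGroup, Nat.card_perm, Nat.card_fin]
  have hne : H ≠ ⊤ := by
    intro htop
    have h1 : Nat.card H = Nat.card ↥(alternatingGroup (Fin n)) := by
      rw [htop, Subgroup.card_top]
    have h3 : (n - 1).factorial = n.factorial := by rw [← h2H, ← h2A, h1]
    have h4 : n.factorial = n * (n - 1).factorial := by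
      obtain ⟨m, rfl⟩ : ∃ m, n = m + 1 := ⟨n - 1, by omega⟩
      simp [Nat.factorial_succ]
    have h5 : 0 < (n - 1).factorial := Nat.factorial_pos _
    nlinarith
  have hpdvd : p ∣ Nat.card H := by
    have h1 : p ∣ (n - 1).factorial := Nat.dvd_factorial hpp.pos (by omega)
    rw [← h2H] at h1
    rcases (Nat.Prime.dvd_mul hpp).mp h1 with h2 | h2
    · exfalso
      exact hp ((Nat.prime_dvd_prime_iff_eq hpp Nat.prime_two).mp h2)
    · exact h2
  have hcl := h H hne hpdvd
  have hcHpos : 1 < Nat.card H := by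
    have : 24 ≤ (n - 1).factorial := by
      have : (4 : ℕ).factorial ≤ (n - 1).factorial := Nat.factorial_le (by omega)
      simpa [Nat.factorial] using this
    omega
  haveI : Nontrivial H := Finite.one_lt_card_iff_nontrivial.mp hcHpos
  haveI : IsSimpleGroup H :=
    IsSimpleGroup.isSimpleGroup_of_surjective (emb n a).rangeRestrict (emb n a).rangeRestrict_surjective
  obtain ⟨P⟩ : Nonempty (Sylow p H) := inferInstance
  have hPn : (P : Subgroup H).Normal := hcl P
  have hPcard := P.card_eq_multiplicity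
  rcases hPn.eq_bot_or_eq_top with hb | ht
  · rw [hb, Subgroup.card_bot] at hPcard
    have hfac : (Nat.card H).factorization p = 0 := by
      by_contra hne0
      have : 1 < p ^ (Nat.card H).factorization p :=
        Nat.one_lt_pow hne0 hpp.one_lt
      omega
    have hpos : 0 < (Nat.card H).factorization p :=
      hpp.factorization_pos_of_dvd (by omega) hpdvd
    omega
  · rw [ht, Subgroup.card_top] at hPcard
    have h4 : 4 ∣ (n - 1).factorial := by
      have : (4 : ℕ).factorial ∣ (n - 1).factorial := Nat.factorial_dvd_factorial (by omega)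
      exact Dvd.dvd.trans (by decide) this
    rw [← h2H, hPcard] at h4
    have h2 : 2 ∣ p ^ (Nat.card H).factorization p := by
      have : 2 * 2 ∣ 2 * p ^ (Nat.card H).factorization p := h4
      exact Nat.dvd_of_mul_dvd_mul_left (by norm_num) this
    have h2p : 2 ∣ p := Nat.Prime.dvd_of_dvd_pow Nat.prime_two h2
    exact hp ((Nat.prime_dvd_prime_iff_eq Nat.prime_two hpp).mp h2p).symm

theorem small_case
    (h : ∀ H : Subgroup ↥(alternatingGroup (Fin 5)), H ≠ ⊤ → 3 ∣ Nat.card ↥H →
      Cfsg.IsPClosed 3 ↥H) : False := by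
  haveI : Fact (Nat.Prime 3) := ⟨Nat.prime_three⟩
  -- the stabilizer of the point 4
  let H : Subgroup ↥(alternatingGroup (Fin 5)) :=
    { carrier := {g | (g : Perm (Fin 5)) 4 = 4}
      one_mem' := by simp
      mul_mem' := by
        intro x y hx hy
        simp only [Set.mem_setOf_eq] at hx hy ⊢
        rw [Subgroup.coe_mul, Perm.mul_apply, hy, hx]
      inv_mem' := by
        intro x hx
        simp only [Set.mem_setOf_eq] at hx ⊢
        rw [Subgroup.coe_inv, Perm.inv_eq_iff_eq, hx] }
  have ha' : (c[(0 : Fin 5), 1, 2] : Perm (Fin 5)) ∈ alternatingGroup (Fin 5) := by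
    rw [Equiv.Perm.mem_alternatingGroup]; decide
  have hb' : (c[(1 : Fin 5), 2, 3] : Perm (Fin 5)) ∈ alternatingGroup (Fin 5) := by
    rw [Equiv.Perm.mem_alternatingGroup]; decide
  have hc' : (c[(2 : Fin 5), 3, 4] : Perm (Fin 5)) ∈ alternatingGroup (Fin 5) := by
    rw [Equiv.Perm.mem_alternatingGroup]; decide
  let a0 : ↥(alternatingGroup (Fin 5)) := ⟨c[(0 : Fin 5), 1, 2], ha'⟩
  let b0 : ↥(alternatingGroup (Fin 5)) := ⟨c[(1 : Fin 5), 2, 3], hb'⟩
  let c0 : ↥(alternatingGroup (Fin 5)) := ⟨c[(2 : Fin 5), 3, 4], hc'⟩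
  have haH : a0 ∈ H := by
    show (c[(0 : Fin 5), 1, 2] : Perm (Fin 5)) 4 = 4
    decide
  have hbH : b0 ∈ H := by
    show (c[(1 : Fin 5), 2, 3] : Perm (Fin 5)) 4 = 4
    decide
  have hcH : c0 ∉ H := by
    show ¬ (c[(2 : Fin 5), 3, 4] : Perm (Fin 5)) 4 = 4
    decide
  have hne : H ≠ ⊤ := by
    intro htop
    exact hcH (htop ▸ Subgroup.mem_top _)
  let a : H := ⟨a0, haH⟩
  let b : H := ⟨b0, hbH⟩
  have ha3 : a ^ 3 = 1 := by
    apply Subtype.ext; apply Subtype.ext
    show (c[(0 : Fin 5), 1, 2] : Perm (Fin 5)) ^ 3 = 1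
    decide
  have hb3 : b ^ 3 = 1 := by
    apply Subtype.ext; apply Subtype.ext
    show (c[(1 : Fin 5), 2, 3] : Perm (Fin 5)) ^ 3 = 1
    decide
  have hab2 : (a * b) ^ 2 = 1 := by
    apply Subtype.ext; apply Subtype.ext
    show ((c[(0 : Fin 5), 1, 2] : Perm (Fin 5)) * c[(1 : Fin 5), 2, 3]) ^ 2 = 1
    decide
  have hab1 : a * b ≠ 1 := by
    intro h1
    have : ((c[(0 : Fin 5), 1, 2] : Perm (Fin 5)) * c[(1 : Fin 5), 2, 3]) = 1 := by
      have := congrArg (fun x : H => ((x : ↥(alternatingGroup (Fin 5))) : Perm (Fin 5))) h1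
      exact this
    revert this
    decide
  have ha1 : a ≠ 1 := by
    intro h1
    have : (c[(0 : Fin 5), 1, 2] : Perm (Fin 5)) = 1 := by
      have := congrArg (fun x : H => ((x : ↥(alternatingGroup (Fin 5))) : Perm (Fin 5))) h1
      exact this
    revert this
    decide
  have hoa : orderOf a = 3 := orderOf_eq_prime ha3 ha1
  have hdvd : 3 ∣ Nat.card H := by
    rw [← hoa]; exact orderOf_dvd_natCard a
  have hcl := h H hne hdvd
  obtain ⟨P⟩ : Nonempty (Sylow 3 H) := inferInstance
  haveI hPn : (P : Subgroup H).Normal := hcl P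
  have hmem : ∀ x : H, x ^ 3 = 1 → x ∈ (P : Subgroup H) := by
    intro x hx
    have hxp : IsPGroup 3 (Subgroup.zpowers x) := by
      rw [IsPGroup.iff_card]
      refine ⟨if x = 1 then 0 else 1, ?_⟩
      rw [Nat.card_zpowers]
      split_ifs with hx1
      · rw [hx1, orderOf_one, pow_zero]
      · rw [pow_one]; exact orderOf_eq_prime hx hx1
    obtain ⟨Q, hQ⟩ := hxp.exists_le_sylow
    obtain ⟨g, hg⟩ := MulAction.exists_smul_eq H P Q
    have hQP : Q = P := by rw [← hg, Sylow.smul_eq_of_normal]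
    rw [← hQP]
    exact hQ (Subgroup.mem_zpowers x)
  have habP : a * b ∈ (P : Subgroup H) := mul_mem (hmem a ha3) (hmem b hb3)
  obtain ⟨k, hk⟩ := (IsPGroup.iff_orderOf.mp P.isPGroup') ⟨a * b, habP⟩
  have h2 : orderOf (a * b) = 2 := orderOf_eq_prime hab2 hab1
  have h3 : orderOf (a * b) = 3 ^ k := by
    rw [← hk]; exact (Subgroup.orderOf_mk (a * b) habP).symm
  rw [h2] at h3
  have : ¬ 2 ∣ 3 ^ k := by
    intro hd
    have := Nat.Prime.dvd_of_dvd_pow Nat.prime_two hd
    omega
  exact this ⟨1, by rw [← h3]⟩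

/-- Let n ≥ 5 and p an odd prime with p ≤ n, and suppose that every proper subgroup of the alternating group of degree n whose order is divisible by p has a normal Sylow p-subgroup. Then n = p. -/
theorem result (n p : ℕ) (hn : 5 ≤ n) [Fact p.Prime] (hp : p ≠ 2) (hpn : p ≤ n)
    (h : ∀ H : Subgroup ↥(alternatingGroup (Fin n)), H ≠ ⊤ → p ∣ Nat.card ↥H → Cfsg.IsPClosed p ↥H) : n = p := by
  by_contra hne
  have hlt : p < n := lt_of_le_of_ne hpn (Ne.symm hne)
  rcases Nat.lt_or_ge n 6 with h6 | h6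
  · obtain rfl : n = 5 := by omega
    have hpp : p.Prime := Fact.out
    have h3 : p = 3 := by
      interval_cases p
      · exact absurd hpp (by decide)
      · exact absurd hpp (by decide)
      · exact absurd rfl hp
      · rfl
      · exact absurd hpp (by decide)
    subst h3
    exact small_case h
  · exact big_case n p h6 hp hlt h

end Cfsg.Agent.S3941
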