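import Cfsg.Statements.S3946
import Cfsg.Agent.Lib.Lead.Split4

set_option autoImplicit false
open Cfsg

namespace Cfsg.Agent.S3946

/-- Call an automorphism α of order n of a group G splitting when x · α(x) · α²(x) ⋯ α^(n−1)(x) = 1 for every x ∈ G. A finite group admitting a splitting automorphism of prime order is nilpotent (this contains the case of a fixed-point-free automorphism of prime order). -/
theorem result {G : Type*} [Group G] [Finite G] (α : MulAut G) (hp : (orderOf α).Prime)
    (hsplit : ∀ x : G, (((List.range (orderOf α)).map (fun i : ℕ => (α ^ i) x)).prod = 1)) : Group.IsNilpotent G := by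
  have hpow : ∀ (n : ℕ) (g : G), (α ^ n) g = (⇑(α : G →* G))^[n] g := by
    intro n
    induction n with
    | zero => intro g; rfl
    | succ n ih =>
      intro g
      rw [pow_succ, MulAut.mul_apply, ih, Function.iterate_succ_apply]
      rfl
  have hdata : Cfsg.Agent.Lib.Lead.Split.SplitData (orderOf α) (α : G →* G) := by
    refine ⟨fun g => ?_⟩
    rw [Cfsg.Agent.Lib.Lead.Split.S_eq_list, ← hsplit g]
    congr 1
    apply List.map_congr_left
    intro i _
    exact (hpow i g).symm
  exact Cfsg.Agent.Lib.Lead.Split.nilpotent_of_split hp _ G (α : G →* G) rfl hdata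

end Cfsg.Agent.S3946
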