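import Cfsg.Statements.S3947
import Cfsg.Agent.Lib.Helper9.Flavell4

set_option autoImplicit false
open Cfsg

namespace Cfsg.Agent.S3947

/-- Let G be a finite group and A a proper subgroup of G whose normal closure is G. Let Y be the join of all proper subgroups H of G that contain A and are generated by their own conjugates of A (the normal closure of A in H is H). Then either Y = G, or A is contained in exactly one maximal subgroup of G. -/
theorem result {G : Type*} [Group G] [Finite G] (A : Subgroup G) (hA : Subgroup.normalClosure (A : Set G) = ⊤) (hAG : A ≠ ⊤) :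
    sSup {H : Subgroup G | A ≤ H ∧ H ≠ ⊤ ∧ Subgroup.normalClosure ((A.subgroupOf H : Subgroup ↥H) : Set ↥H) = ⊤} = ⊤ ∨
      ∃! M : Subgroup G, IsCoatom M ∧ A ≤ M := by
  by_contra hcon
  push Not at hcon
  obtain ⟨h1, h2⟩ := hcon
  apply Cfsg.Agent.Lib.Helper9.Flavell.no_bad A
  refine ⟨hAG, Cfsg.Agent.Lib.Helper9.Flavell.full_top_of_normalClosure hA, ?_, h2⟩
  intro hY
  apply h1
  have hset : {H : Subgroup G | A ≤ H ∧ H ≠ ⊤ ∧ Subgroup.normalClosure ((A.subgroupOf H : Subgroup ↥H) : Set ↥H) = ⊤} =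
      {H : Subgroup G | H ≠ ⊤ ∧ Cfsg.Agent.Lib.Helper9.Flavell.Full A H} := by
    ext H
    constructor
    · rintro ⟨hAH, hH, hn⟩
      exact ⟨hH, (Cfsg.Agent.Lib.Helper9.Flavell.full_iff_normalClosure hAH).mp hn⟩
    · rintro ⟨hH, hF⟩
      exact ⟨hF.1, hH, (Cfsg.Agent.Lib.Helper9.Flavell.full_iff_normalClosure hF.1).mpr hF⟩
  rw [hset]
  exact hY

end Cfsg.Agent.S3947
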