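import Cfsg.Statements.S3949
import Mathlib

set_option autoImplicit false
open Cfsg

namespace Cfsg.Agent.S3949

/-- Let G be a finite group and α an automorphism of G of order 2 such that the elements g·α(g)⁻¹ generate G. Let j be a positive integer such that 2^j divides the order of no element inverted by α. Then the set of values of the j-th iterate of the map c ↦ c·α(c)⁻¹ is exactly the set of elements of odd order inverted by α. -/
theorem result {G : Type*} [Group G] [Finite G] (α : MulAut G) (hα : orderOf α = 2) (hG : Subgroup.closure (Set.range (fun c : G => c * (α c)⁻¹)) = ⊤)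
    (j : ℕ) (hj : ∀ g : G, α g = g⁻¹ → ¬ 2 ^ j ∣ orderOf g) :
    Set.range ((fun c : G => c * (α c)⁻¹)^[j]) = {g : G | Odd (orderOf g) ∧ α g = g⁻¹} := by
  have hαα : ∀ c : G, α (α c) = c := by
    intro c
    have h2 : α ^ 2 = 1 := by rw [← hα]; exact pow_orderOf_eq_one α
    have : (α ^ 2) c = c := by rw [h2]; rfl
    rw [pow_two] at this
    exact this
  set f : G → G := fun c : G => c * (α c)⁻¹ with hf
  have hpowK : ∀ k : G, α k = k⁻¹ → ∀ n : ℕ, α (k ^ n) = (k ^ n)⁻¹ := by
    intro k hk n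
    rw [map_pow, hk, inv_pow]
  have hA : ∀ k : G, α k = k⁻¹ → ∀ i : ℕ, f^[i] k = k ^ (2 ^ i) := by
    intro k hk i
    induction i with
    | zero => simp
    | succ i ih =>
      rw [Function.iterate_succ_apply', ih]
      show k ^ (2 ^ i) * (α (k ^ (2 ^ i)))⁻¹ = k ^ (2 ^ (i + 1))
      rw [hpowK k hk, inv_inv, ← pow_add, pow_succ, mul_two]
  have hBf : ∀ c : G, α (f c) = (f c)⁻¹ := by
    intro c
    show α (c * (α c)⁻¹) = (c * (α c)⁻¹)⁻¹
    rw [map_mul, map_inv, hαα, mul_inv_rev, inv_inv]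
  have hj0 : j ≠ 0 := by
    rintro rfl
    exact hj 1 (by simp) (by simp)
  obtain ⟨i, rfl⟩ := Nat.exists_eq_succ_of_ne_zero hj0
  ext g
  constructor
  · rintro ⟨c, rfl⟩
    rw [Function.iterate_succ_apply]
    change Odd (orderOf (f^[i] (f c))) ∧ α (f^[i] (f c)) = (f^[i] (f c))⁻¹
    rw [hA (f c) (hBf c) i]
    refine ⟨?_, hpowK _ (hBf c) _⟩
    set k := f c with hk
    have hn0 : orderOf k ≠ 0 := (orderOf_pos k).ne'
    obtain ⟨a, m, hm, hnm⟩ := Nat.exists_eq_two_pow_mul_odd hn0
    have hai : a ≤ i := by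
      by_contra hlt
      push Not at hlt
      apply hj k (hBf c)
      rw [hnm]
      exact Dvd.dvd.mul_right (pow_dvd_pow 2 hlt) m
    have h1 : (k ^ (2 ^ i)) ^ m = 1 := by
      rw [← pow_mul]
      apply orderOf_dvd_iff_pow_eq_one.mp
      rw [hnm]
      exact Nat.mul_dvd_mul_right (pow_dvd_pow 2 hai) m
    exact Odd.of_dvd_nat hm (orderOf_dvd_of_pow_eq_one h1)
  · rintro ⟨hodd, hinv⟩
    have hcop : (2 ^ (i + 1)).Coprime (orderOf g) := by
      apply Nat.Coprime.pow_left
      exact (Nat.coprime_two_left).mpr hodd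
    obtain ⟨m, hm⟩ := exists_pow_eq_self_of_coprime hcop
    refine ⟨g ^ m, ?_⟩
    rw [hA (g ^ m) (hpowK g hinv m) (i + 1), ← pow_mul, mul_comm, pow_mul]
    exact hm
end Cfsg.Agent.S3949
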