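import Mathlib
import Cfsg.Statements.S3950
import Cfsg.Agent.Lib.Helper7.Heisenberg
import Cfsg.Agent.Lib.Helper7.StemAbelian

set_option autoImplicit false
open Cfsg

namespace Cfsg.Agent.S3950

open Cfsg.Agent.Lib.Helper7

theorem exists_surj_of_not_isCyclic {G : Type*} [CommGroup G] [Finite G] (h : ¬ IsCyclic G) :
    ∃ (p : ℕ) (_ : p.Prime) (f : G →* Multiplicative (ZMod p × ZMod p)),
      Function.Surjective f := by
  classical
  obtain ⟨ι, _, n, hn, ⟨e⟩⟩ := CommGroup.equiv_prod_multiplicative_zmod_of_finite G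
  by_cases hcop : Pairwise (Function.onFun Nat.Coprime n)
  · exfalso
    apply h
    let r := ZMod.prodEquivPi n hcop
    let e2 : Multiplicative (ZMod (∏ i, n i)) ≃* ((i : ι) → Multiplicative (ZMod (n i))) :=
      (AddEquiv.toMultiplicative r.toAddEquiv).trans (MulEquiv.piMultiplicative _)
    have hc : IsCyclic (Multiplicative (ZMod (∏ i, n i))) := inferInstance
    exact isCyclic_of_surjective (e2.trans e.symm) (e2.trans e.symm).surjective
  · rw [Pairwise] at hcop
    push Not at hcop
    obtain ⟨i, j, hij, hnc⟩ := hcop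
    obtain ⟨p, hp, hpi, hpj⟩ := Nat.Prime.not_coprime_iff_dvd.mp hnc
    let φi : ZMod (n i) →+* ZMod p := ZMod.castHom hpi (ZMod p)
    let φj : ZMod (n j) →+* ZMod p := ZMod.castHom hpj (ZMod p)
    let f : G →* Multiplicative (ZMod p × ZMod p) :=
      { toFun := fun g => Multiplicative.ofAdd
          (φi (Multiplicative.toAdd (e g i)), φj (Multiplicative.toAdd (e g j)))
        map_one' := by
          simp only [map_one, Pi.one_apply, toAdd_one, map_zero]
          rfl
        map_mul' := by
          intro a b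
          simp only [map_mul, Pi.mul_apply, toAdd_mul, map_add]
          rfl }
    refine ⟨p, hp, f, ?_⟩
    intro q
    haveI : NeZero p := ⟨hp.ne_zero⟩
    set u := (Multiplicative.toAdd q).1 with hu
    set v := (Multiplicative.toAdd q).2 with hv
    let F : (l : ι) → Multiplicative (ZMod (n l)) :=
      Pi.mulSingle i (Multiplicative.ofAdd ((u.val : ℕ) : ZMod (n i))) *
        Pi.mulSingle j (Multiplicative.ofAdd ((v.val : ℕ) : ZMod (n j)))
    have hFi : F i = Multiplicative.ofAdd ((u.val : ℕ) : ZMod (n i)) := by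
      simp only [F, Pi.mul_apply, Pi.mulSingle_eq_same, Pi.mulSingle_eq_of_ne hij, mul_one]
    have hFj : F j = Multiplicative.ofAdd ((v.val : ℕ) : ZMod (n j)) := by
      simp only [F, Pi.mul_apply, Pi.mulSingle_eq_same, Pi.mulSingle_eq_of_ne (Ne.symm hij),
        one_mul]
    refine ⟨e.symm F, ?_⟩
    change Multiplicative.ofAdd (φi (Multiplicative.toAdd (e (e.symm F) i)),
      φj (Multiplicative.toAdd (e (e.symm F) j))) = q
    rw [MulEquiv.apply_symm_apply, hFi, hFj, toAdd_ofAdd, toAdd_ofAdd, map_natCast, map_natCast,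
      ZMod.natCast_zmod_val, ZMod.natCast_zmod_val]
    rfl

/-- A finite abelian group has trivial Schur multiplier if and only if it is cyclic. -/
theorem result {G : Type*} [CommGroup G] [Finite G] : Cfsg.HasCyclicSchurMultiplier G 1 ↔ IsCyclic G := by
  constructor
  · intro h
    by_contra hnc
    obtain ⟨p, hp, f, hf⟩ := exists_surj_of_not_isCyclic hnc
    haveI : Fact p.Prime := ⟨hp⟩
    haveI : NeZero p := ⟨hp.ne_zero⟩
    haveI : Fact (p ∣ p) := ⟨dvd_rfl⟩
    have hτ := Heis.proj_isStemExtension (m := p) (n := p)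
    have hτker : (Heis.proj p p).ker ≠ ⊥ := by
      intro hbot
      have e := Heis.kerEquiv p p
      have hcard : Nat.card (Heis.proj p p).ker = p := by
        rw [Nat.card_congr e.toEquiv, Nat.card_congr Multiplicative.toAdd, Nat.card_zmod]
      rw [hbot, Subgroup.card_bot] at hcard
      exact hp.one_lt.ne hcard
    have hstem := pb_isStemExtension f hf (Heis.proj p p) hτ
    have hne := pb_ker_ne_bot f (Heis.proj p p) hτker
    obtain ⟨π, hπ⟩ := h.2 (pb f (Heis.proj p p)) (pbFst f (Heis.proj p p)) hstem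
    apply hne
    rw [eq_bot_iff]
    intro x hx
    obtain ⟨z, hz⟩ := hπ ⟨x, hx⟩
    have hz1 : z = 1 := Subsingleton.elim _ _
    rw [hz1, map_one] at hz
    have := congrArg Subtype.val hz
    exact Subgroup.mem_bot.mpr this.symm
  · intro hc
    apply hasCyclicSchurMultiplier_one
    intro Γ _ _ σ hσ
    obtain ⟨hsurj, hcen, hcomm⟩ := hσ
    have hab : ∀ a b : Γ, a * b = b * a := commutative_of_cyclic_center_quotient σ hcen
    rw [eq_bot_iff]
    refine hcomm.trans ?_
    rw [commutator_def, Subgroup.commutator_le]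
    intro a _ b _
    rw [Subgroup.mem_bot, commutatorElement_eq_one_iff_mul_comm]
    exact hab a b

end Cfsg.Agent.S3950
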