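import Mathlib
import Cfsg.Statements.S3951
import Cfsg.Agent.Lib.Helper7.Heisenberg
import Cfsg.Agent.Lib.Helper7.StemAbelian

set_option autoImplicit false
open Cfsg

namespace Cfsg.Agent.S3951

open Cfsg.Agent.Lib.Helper7

/-- For positive integers `m` and `n` with `n` dividing `m`, the Schur multiplier of the abelian group `ZMod m × ZMod n` (written multiplicatively) is cyclic of order `n`. In particular the elementary abelian group of order `p ^ 2` has multiplier of order `p`. -/
theorem result (m n : ℕ) [NeZero m] [NeZero n] (hnm : n ∣ m) : Cfsg.HasCyclicSchurMultiplier (Multiplicative (ZMod m × ZMod n)) n := by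
  haveI : Fact (n ∣ m) := ⟨hnm⟩
  refine ⟨⟨Heis m n, inferInstance, inferInstance, Heis.proj m n, Heis.proj_isStemExtension,
    ⟨Heis.kerEquiv m n⟩⟩, ?_⟩
  intro Γ _ _ σ hσ
  set a : Multiplicative (ZMod m × ZMod n) := Multiplicative.ofAdd (1, 0) with ha
  set b : Multiplicative (ZMod m × ZMod n) := Multiplicative.ofAdd (0, 1) with hb
  have hgen : Subgroup.closure {a, b} = ⊤ := by
    rw [eq_top_iff]
    intro x _
    have hx : x = a ^ (Multiplicative.toAdd x).1.val * b ^ (Multiplicative.toAdd x).2.val := by
      rw [ha, hb, ← ofAdd_nsmul, ← ofAdd_nsmul, ← ofAdd_add]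
      apply Multiplicative.toAdd.injective
      simp only [toAdd_ofAdd]
      ext
      · simp
      · simp
    rw [hx]
    exact Subgroup.mul_mem _ (Subgroup.pow_mem _ (Subgroup.subset_closure (by simp)) _)
      (Subgroup.pow_mem _ (Subgroup.subset_closure (by simp)) _)
  have hbn : b ^ n = 1 := by
    rw [hb, ← ofAdd_nsmul]
    apply Multiplicative.toAdd.injective
    simp only [toAdd_ofAdd, toAdd_one]
    ext
    · simp
    · simp
  obtain ⟨k, -, hkn, hle⟩ := two_gen_abelian_stem σ hσ a b hgen (mul_comm a b) n hbn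
  exact exists_surj_of_le_zpowers σ.ker k n hkn hle

end Cfsg.Agent.S3951
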