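import Cfsg.Statements.S3952
import Mathlib
import Cfsg.Agent.Lib.Helper1.CharFound5
import Cfsg.Agent.Lib.Helper1.CharCenter
import Cfsg.Agent.Lib.Helper4.Characters

set_option autoImplicit false
open Cfsg

namespace Cfsg.Agent.S3952

open Cfsg.Agent.Lib.Helper1 Cfsg.Agent.Lib.Helper4
open scoped ComplexConjugate

universe u

/-- A dual element of maximal order. -/
theorem exists_hom_orderOf_eq_exponent (K : Type*) [CommGroup K] [Finite K] :
    ∃ l : K →* ℂˣ, orderOf l = Monoid.exponent K := by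
  obtain ⟨e⟩ := CommGroup.monoidHom_mulEquiv_of_hasEnoughRootsOfUnity K ℂ
  have : Finite (K →* ℂˣ) := Finite.of_equiv K e.symm.toEquiv
  obtain ⟨g, hg⟩ := Monoid.exists_orderOf_eq_exponent
    (Monoid.ExponentExists.of_finite (G := K →* ℂˣ))
  exact ⟨g, by rw [hg, Monoid.exponent_eq_of_mulEquiv e]⟩

/-- The determinant of an irreducible representation is trivial on commutator elements that are
central: the central scalar has order dividing the degree. -/
theorem central_pow_degree {Γ : Type u} [Group Γ] {n : ℕ}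
    (ρ : Representation ℂ Γ (Fin n → ℂ)) [ρ.IsIrreducible]
    (z : Subgroup.center Γ) (hz : (z : Γ) ∈ commutator Γ) : centralHom ρ z ^ n = 1 := by
  let f : Γ →* ℂ := (LinearMap.det : ((Fin n → ℂ) →ₗ[ℂ] (Fin n → ℂ)) →* ℂ).comp ρ
  have h1 : (z : Γ) ∈ f.toHomUnits.ker := Abelianization.commutator_subset_ker _ hz
  rw [MonoidHom.mem_ker] at h1
  have h2 : f (z : Γ) = 1 := by
    have := congrArg (fun u : ℂˣ => (u : ℂ)) h1
    simpa using this
  have h3 : f (z : Γ) = centralHom ρ z ^ n := by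
    show LinearMap.det (ρ (z : Γ)) = _
    rw [rho_central ρ z, LinearMap.det_smul, LinearMap.det_id, mul_one]
    simp
  rw [← h3, h2]

theorem exponent_sq_dvd_index {Γ : Type u} [Group Γ] [Finite Γ] (K : Subgroup Γ)
    (hKZ : K ≤ Subgroup.center Γ) (hKD : K ≤ commutator Γ) :
    Monoid.exponent K ^ 2 ∣ K.index := by
  classical
  have hfinG : Fintype Γ := Fintype.ofFinite Γ
  have hfinI : Fintype (IrrCharacter Γ) := Fintype.ofFinite _
  have hfinK : Fintype K := Fintype.ofFinite _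
  let _ : CommGroup K := { (inferInstance : Group K) with
    mul_comm := fun a b => by
      apply Subtype.ext
      exact ((Subgroup.mem_center_iff.1 (hKZ a.2)) b).symm }
  obtain ⟨l, hl⟩ := exists_hom_orderOf_eq_exponent K
  -- choose representations
  have hch : ∀ χ : IrrCharacter Γ, ∃ (n : ℕ) (ρ : Representation ℂ Γ (Fin n → ℂ)),
      ρ.IsIrreducible ∧ ρ.character = χ.1 := fun χ => χ.2
  choose n ρ hirr hchar using hch
  have hirr' : ∀ χ, (ρ χ).IsIrreducible := hirr
  -- central scalar of `k` in `χ`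
  let ω : IrrCharacter Γ → K →* ℂ := fun χ =>
    haveI := hirr' χ
    (centralHom (ρ χ)).comp (Subgroup.inclusion hKZ)
  have hn0 : ∀ χ, (n χ : ℂ) ≠ 0 := by
    intro χ
    haveI := hirr' χ
    have := finrank_ne_zero_of_irreducible (ρ χ)
    simpa using this
  have hχ1 : ∀ χ : IrrCharacter Γ, χ.1 1 = n χ := by
    intro χ
    rw [← hchar χ, Representation.char_one]
    simp
  have hχk : ∀ (χ : IrrCharacter Γ) (k : K), χ.1 (k : Γ) = n χ * ω χ k := by
    intro χ k
    haveI := hirr' χ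
    show χ.1 (k : Γ) = n χ * centralHom (ρ χ) (Subgroup.inclusion hKZ k)
    rw [centralHom_apply, ← hchar χ]
    have : (Module.finrank ℂ (Fin (n χ) → ℂ) : ℂ) = n χ := by simp
    rw [this]
    have h0 := hn0 χ
    field_simp
    rfl
  have hωpow : ∀ (χ : IrrCharacter Γ) (k : K), ω χ k ^ n χ = 1 := by
    intro χ k
    haveI := hirr' χ
    exact central_pow_degree (ρ χ) (Subgroup.inclusion hKZ k) (hKD k.2)
  -- the set of characters lying over `l`
  let S : Finset (IrrCharacter Γ) := Finset.univ.filter fun χ => ∀ k : K, ω χ k = (l k : ℂ)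
  -- divisibility of the degrees
  have hdvd : ∀ χ ∈ S, Monoid.exponent K ∣ n χ := by
    intro χ hχ
    have hχ' : ∀ k : K, ω χ k = (l k : ℂ) := (Finset.mem_filter.1 hχ).2
    rw [← hl]
    apply orderOf_dvd_of_pow_eq_one
    ext k
    rw [MonoidHom.pow_apply, Units.val_pow_eq_pow_val, ← hχ' k, hωpow χ k]
    simp
  -- the sum formula
  have hcol : ∀ k : K, ∑ χ : IrrCharacter Γ, (n χ : ℂ) ^ 2 * ω χ k
      = if k = 1 then (Nat.card Γ : ℂ) else 0 := by
    intro k
    have h1 := column_orthogonality (G := Γ) (1 : Γ) (k : Γ)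
    have h2 : ∀ χ : IrrCharacter Γ, (χ : Γ → ℂ) (k : Γ) * conj ((χ : Γ → ℂ) 1)
        = (n χ : ℂ) ^ 2 * ω χ k := by
      intro χ
      rw [hχ1 χ, hχk χ k]
      simp only [Complex.conj_natCast]
      ring
    rw [Finset.sum_congr rfl (fun χ _ => h2 χ)] at h1
    rw [h1]
    have h3 : Subgroup.centralizer ({(1 : Γ)} : Set Γ) = ⊤ := by
      ext x
      simp [Subgroup.mem_centralizer_iff]
    rw [h3, Subgroup.card_top]
    unfold classIndicator
    by_cases hk : k = 1
    · rw [if_pos hk, if_pos (by rw [hk]; exact IsConj.refl _), mul_one]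
    · rw [if_neg hk, if_neg, mul_zero]
      intro hc
      apply hk
      apply Subtype.ext
      exact isConj_one_right.1 hc
  have hsum1 : ∑ k : K, ((l k)⁻¹ : ℂˣ) * ∑ χ : IrrCharacter Γ, (n χ : ℂ) ^ 2 * ω χ k
      = (Nat.card Γ : ℂ) := by
    rw [Finset.sum_congr rfl (fun k _ => by rw [hcol k])]
    rw [Finset.sum_eq_single (1 : K)]
    · simp
    · intro k _ hk
      rw [if_neg hk, mul_zero]
    · intro h
      exact absurd (Finset.mem_univ _) h
  have hsum2 : ∑ k : K, ((l k)⁻¹ : ℂˣ) * ∑ χ : IrrCharacter Γ, (n χ : ℂ) ^ 2 * ω χ k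
      = ∑ χ : IrrCharacter Γ, (n χ : ℂ) ^ 2 * ∑ k : K, ((l k)⁻¹ : ℂˣ) * ω χ k := by
    simp_rw [Finset.mul_sum]
    rw [Finset.sum_comm]
    refine Finset.sum_congr rfl fun χ _ => Finset.sum_congr rfl fun k _ => ?_
    ring
  have hinner : ∀ χ : IrrCharacter Γ, ∑ k : K, (((l k)⁻¹ : ℂˣ) : ℂ) * ω χ k
      = if χ ∈ S then (Nat.card K : ℂ) else 0 := by
    intro χ
    let μ : K →* ℂ := ((Units.coeHom ℂ).comp (l⁻¹)) * ω χ
    have hμ : ∀ k : K, μ k = (((l k)⁻¹ : ℂˣ) : ℂ) * ω χ k := fun k => rfl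
    rw [Finset.sum_congr rfl (fun k _ => (hμ k).symm)]
    by_cases hχ : χ ∈ S
    · rw [if_pos hχ]
      have hχ' : ∀ k : K, ω χ k = (l k : ℂ) := (Finset.mem_filter.1 hχ).2
      have : ∀ k : K, μ k = 1 := by
        intro k
        rw [hμ k, hχ' k]
        simp
      rw [Finset.sum_congr rfl (fun k _ => this k)]
      simp [Nat.card_eq_fintype_card]
    · rw [if_neg hχ]
      apply sum_hom_units_eq_zero
      intro h1
      apply hχ
      refine Finset.mem_filter.2 ⟨Finset.mem_univ _, fun k => ?_⟩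
      have h2 : μ k = 1 := by rw [h1]; rfl
      rw [hμ k] at h2
      have h3 : ((l k : ℂˣ) : ℂ) * ((((l k)⁻¹ : ℂˣ) : ℂ) * ω χ k) = (l k : ℂ) * 1 := by rw [h2]
      rw [← mul_assoc, ← Units.val_mul, mul_inv_cancel, Units.val_one, one_mul, mul_one] at h3
      exact h3
  have hsum3 : (Nat.card K : ℂ) * ∑ χ ∈ S, (n χ : ℂ) ^ 2 = (Nat.card Γ : ℂ) := by
    have h5 : ∑ χ : IrrCharacter Γ, (n χ : ℂ) ^ 2 * (if χ ∈ S then (Nat.card K : ℂ) else 0)
        = Nat.card Γ := by
      rw [← hsum1, hsum2]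
      exact Finset.sum_congr rfl (fun χ _ => by rw [hinner χ])
    rw [← h5, Finset.mul_sum]
    simp only [mul_ite, mul_zero]
    rw [Finset.sum_ite_mem, Finset.univ_inter]
    refine Finset.sum_congr rfl fun χ _ => ?_
    ring
  have hsum4 : Nat.card K * ∑ χ ∈ S, (n χ) ^ 2 = Nat.card Γ := by
    have : ((Nat.card K * ∑ χ ∈ S, (n χ) ^ 2 : ℕ) : ℂ) = (Nat.card Γ : ℂ) := by
      push_cast
      exact hsum3
    exact_mod_cast this
  have hidx : K.index = ∑ χ ∈ S, (n χ) ^ 2 := by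
    have h1 := K.card_mul_index
    rw [← hsum4] at h1
    exact Nat.eq_of_mul_eq_mul_left Nat.card_pos h1
  rw [hidx]
  apply Finset.dvd_sum
  intro χ hχ
  exact pow_dvd_pow_of_dvd (hdvd χ hχ) 2

/-- If `A` is the Schur multiplier of the finite group `Q`, then the square of the exponent of `A` divides the order of `Q`. -/
theorem result {Q : Type*} [Group Q] [Finite Q] {A : Type*} [CommGroup A] (hA : Cfsg.HasSchurMultiplier Q A) : Monoid.exponent A ^ 2 ∣ Nat.card Q := by
  obtain ⟨⟨Γ, hG, hfin, σ, ⟨hsurj, hZ, hD⟩, ⟨e⟩⟩, -⟩ := hA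
  have h1 := exponent_sq_dvd_index σ.ker hZ hD
  rw [Monoid.exponent_eq_of_mulEquiv e] at h1
  rw [Subgroup.index_ker, MonoidHom.range_eq_top.2 hsurj, Subgroup.card_top] at h1
  exact h1

end Cfsg.Agent.S3952
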