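import Cfsg.Statements.S3953
import Mathlib
import Cfsg.Agent.Lib.Helper7.Cores5
import Cfsg.Agent.Lib.Helper7.Cores6
import Cfsg.Agent.S3952
-- import your own Cfsg.Agent.* helpers here

set_option autoImplicit false
open Cfsg

namespace Cfsg.Agent.S3953

open Cfsg.Agent.Lib.Helper7.Cores Cfsg.Agent.Lib.Helper7.Schur in
theorem main {G : Type*} [Group G] [Finite G] (p : ℕ) [Fact p.Prime] (P : Sylow p G)
    {A B : Type*} [CommGroup A] [CommGroup B] (hA : Cfsg.HasSchurMultiplier G A)
    (hB : Cfsg.HasSchurMultiplier (P : Subgroup G) B)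
    {Γ : Type*} [Group Γ] [Finite Γ] (σ : Γ →* G) (hσ : Cfsg.IsStemExtension σ)
    (eA : σ.ker ≃* A) {Δ : Type*} [Group Δ] [Finite Δ] (ρ : Δ →* (P : Subgroup G))
    (hρ : Cfsg.IsStemExtension ρ) (eB : ρ.ker ≃* B) :
    ∃ C D : Subgroup B, C ⊓ D = ⊥ ∧ C ⊔ D = ⊤ ∧
      Nonempty (CommGroup.primaryComponent A p ≃* C) := by
  classical
  haveI : Finite A := Finite.of_equiv _ eA.toEquiv
  haveI : Finite B := Finite.of_equiv _ eB.toEquiv
  obtain ⟨U, hU⟩ : ∃ U : Subgroup G, U = (P : Subgroup G) := ⟨_, rfl⟩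
  subst hU
  letI : Fintype (G ⧸ (P : Subgroup G)) := Fintype.ofFinite _
  let j : B →* Δ := (Subgroup.subtype ρ.ker).comp eB.symm.toMonoidHom
  have hj : Function.Injective j := (Subgroup.subtype_injective _).comp eB.symm.injective
  have hjr : j.range = ρ.ker := by
    ext x
    constructor
    · rintro ⟨b, rfl⟩
      exact (eB.symm b).2
    · intro hx
      refine ⟨eB ⟨x, hx⟩, ?_⟩
      show ((eB.symm (eB ⟨x, hx⟩) : ρ.ker) : Δ) = x
      rw [eB.symm_apply_apply]
  have hcardA : Nat.card A ≤ Nat.card σ.ker := (Nat.card_congr eA.toEquiv).ge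
  have hcardB : Nat.card B ≤ Nat.card ρ.ker := (Nat.card_congr eB.toEquiv).ge
  obtain ⟨i, hi⟩ := exists_cores (P : Subgroup G) σ ρ j hA hσ hcardA hρ.1 hj hjr hρ.2.1
  -- `B` has `p`-power exponent
  obtain ⟨t, ht⟩ : ∃ t : ℕ, ∀ b : B, b ^ p ^ t = 1 := by
    have h1 := Cfsg.Agent.S3952.result hB
    have h2 : Nat.card (P : Subgroup G) = p ^ (Nat.card G).factorization p :=
      P.card_eq_multiplicity
    rw [h2] at h1
    have h3 : Monoid.exponent B ∣ p ^ (Nat.card G).factorization p :=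
      (dvd_pow_self _ (by norm_num)).trans h1
    obtain ⟨t, _, ht⟩ := (Nat.dvd_prime_pow (Fact.out : p.Prime)).mp h3
    refine ⟨t, fun b => ?_⟩
    rw [← ht]
    exact Monoid.pow_exponent_eq_one b
  have hm : ¬ p ∣ Fintype.card (G ⧸ (P : Subgroup G)) := by
    have h1 := P.not_dvd_index
    rw [Subgroup.index_eq_card, Nat.card_eq_fintype_card] at h1
    exact h1
  -- the relation
  have hcomm : ∀ (b : B) (a : σ.ker), Commute (inB (P : Subgroup G) σ ρ j hjr b)
      (inA (P : Subgroup G) σ ρ a) := by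
    intro b a
    apply Subtype.ext
    apply Prod.ext
    · show j b * 1 = 1 * j b
      rw [mul_one, one_mul]
    · show 1 * (a : Γ) = (a : Γ) * 1
      rw [mul_one, one_mul]
  let inBA : B × A →* XX (P : Subgroup G) σ ρ :=
    MonoidHom.noncommCoprod (inB (P : Subgroup G) σ ρ j hjr)
      ((inA (P : Subgroup G) σ ρ).comp eA.symm.toMonoidHom) (fun b a => hcomm b _)
  have hinBA : ∀ (b : B) (a : A), inBA (b, a) =
      inB (P : Subgroup G) σ ρ j hjr b * inA (P : Subgroup G) σ ρ (eA.symm a) := fun _ _ => rfl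
  let L : Subgroup (B × A) := (commutator (XX (P : Subgroup G) σ ρ)).comap inBA
  have hπ : Function.Surjective (fpFst (((P : Subgroup G).subtype).comp ρ) σ) :=
    fpFst_surjective _ _ hσ.1
  apply split_of_relation p (Fintype.card (G ⧸ (P : Subgroup G))) t hm ht L
    (i.comp eA.symm.toMonoidHom)
  · intro a
    show inBA (i (eA.symm a), a ^ Fintype.card (G ⧸ (P : Subgroup G))) ∈ commutator _
    rw [hinBA, map_pow]
    exact hi (eA.symm a)
  · intro b
    have hb : j b ∈ commutator Δ := by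
      apply hρ.2.2
      rw [← hjr]
      exact ⟨b, rfl⟩
    obtain ⟨x, hx, hxb⟩ := exists_mem_commutator_map _ hπ hb
    have hxb' : x.1.1 = j b := hxb
    have hx2 : x.1.2 ∈ σ.ker := by
      rw [MonoidHom.mem_ker]
      have h1 := x.2
      rw [mem_fp] at h1
      rw [← h1, hxb', MonoidHom.comp_apply, rho_j (P : Subgroup G) ρ j hjr, map_one]
    refine ⟨eA ⟨x.1.2, hx2⟩, ?_⟩
    show inBA (b, eA ⟨x.1.2, hx2⟩) ∈ commutator _
    rw [hinBA, eA.symm_apply_apply]
    have : inB (P : Subgroup G) σ ρ j hjr b * inA (P : Subgroup G) σ ρ ⟨x.1.2, hx2⟩ = x := by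
      apply Subtype.ext
      apply Prod.ext
      · show j b * 1 = x.1.1
        rw [mul_one, hxb']
      · show 1 * x.1.2 = x.1.2
        rw [one_mul]
    rw [this]
    exact hx
  · intro a ha
    have ha' : inBA (1, a) ∈ commutator _ := ha
    rw [hinBA, map_one, one_mul] at ha'
    have hZ : (ρ.comp (fpFst (((P : Subgroup G).subtype).comp ρ) σ)).ker ≤
        Subgroup.center (XX (P : Subgroup G) σ ρ) := by
      intro x hx
      rw [MonoidHom.mem_ker, MonoidHom.comp_apply, fpFst_apply] at hx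
      apply mem_center_fp
      · exact hρ.2.1 hx
      · apply hσ.2.1
        rw [MonoidHom.mem_ker]
        have h1 := x.2
        rw [mem_fp] at h1
        rw [← h1, MonoidHom.comp_apply, hx, map_one]
    have h1 := eq_one_of_cover hB ρ hρ hcardB (fpFst (((P : Subgroup G).subtype).comp ρ) σ) hπ hZ
      (inA (P : Subgroup G) σ ρ (eA.symm a)) (by
        rw [MonoidHom.mem_ker, fpFst_apply]
        rfl) ha'
    have h2 : ((eA.symm a : σ.ker) : Γ) = 1 := congrArg (fun x : XX (P : Subgroup G) σ ρ => x.1.2) h1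
    have h3 : eA.symm a = 1 := Subtype.ext h2
    have h4 := congrArg eA h3
    rw [eA.apply_symm_apply, map_one] at h4
    exact h4


/-- Let `P` be a Sylow `p`-subgroup of the finite group `G`, let `A` be the Schur multiplier of `G` and `B` that of `P`. Then the `p`-primary component of `A` is isomorphic to a direct factor of `B`: there are subgroups `C` and `D` of `B` meeting trivially and generating `B`, with `C` isomorphic to the `p`-primary component of `A`. -/
theorem result {G : Type*} [Group G] [Finite G] (p : ℕ) [Fact p.Prime] (P : Sylow p G) {A B : Type*} [CommGroup A] [CommGroup B] (hA : Cfsg.HasSchurMultiplier G A) (hB : Cfsg.HasSchurMultiplier P B) : ∃ C D : Subgroup B, C ⊓ D = ⊥ ∧ C ⊔ D = ⊤ ∧ Nonempty (CommGroup.primaryComponent A p ≃* C) := by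
  obtain ⟨Γ, hΓg, hΓf, σ, hσ, ⟨eA⟩⟩ := hA.1
  obtain ⟨Δ, hΔg, hΔf, ρ0, hρ, ⟨eB⟩⟩ := hB.1
  exact Cfsg.Agent.S3953.main p P hA hB σ hσ eA ρ0 hρ eB

end Cfsg.Agent.S3953
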