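import Cfsg.Statements.S3954
import Mathlib
import Cfsg.Agent.Lib.Helper7.Schur15

set_option autoImplicit false
open Cfsg

namespace Cfsg.Agent.S3954

open Cfsg.Agent.Lib.Helper7 Cfsg.Agent.Lib.Helper7.Schur

/-- Let `U` be a subgroup of index `m` in the finite group `G`, let `A` be the Schur multiplier of `G` and `B` that of `U`. Then the subgroup of `m`-th powers of `A` is isomorphic to a subgroup of `B`. -/
theorem result {G : Type*} [Group G] [Finite G] (U : Subgroup G) {A B : Type*} [CommGroup A] [CommGroup B] (hA : Cfsg.HasSchurMultiplier G A) (hB : Cfsg.HasSchurMultiplier U B) : ∃ C : Subgroup B, Nonempty ((powMonoidHom U.index : A →* A).range ≃* C) := by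
  obtain ⟨Γ, hG, hF, σ, hσ, ⟨e⟩⟩ := hA.1
  obtain ⟨Γ', hG', hF', σ', hσ', ⟨e'⟩⟩ := hB.1
  haveI : Finite B := Finite.of_equiv _ e'.toEquiv
  let H : Subgroup Γ := U.comap σ
  have hidx : H.index = U.index := Subgroup.index_comap_of_surjective U hσ.1
  let π : H →* U := σ.subgroupComap U
  have hπ : Function.Surjective π := MonoidHom.subgroupComap_surjective_of_surjective σ U hσ.1
  have hπk : ∀ x : H, x ∈ π.ker ↔ (x : Γ) ∈ σ.ker := by
    intro x
    rw [MonoidHom.mem_ker, MonoidHom.mem_ker]
    constructor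
    · intro h
      exact congrArg Subtype.val h
    · intro h
      exact Subtype.ext h
  have hπZ : π.ker ≤ Subgroup.center H := by
    intro x hx
    have h1 := hσ.2.1 ((hπk x).1 hx)
    rw [Subgroup.mem_center_iff] at h1 ⊢
    intro y
    exact Subtype.ext (h1 y)
  obtain ⟨f, hf⟩ := exists_hom_range_eq hB π hπ hπZ
  have hle : σ.ker ≤ H := by
    intro k hk
    show σ k ∈ U
    rw [MonoidHom.mem_ker.1 hk]
    exact U.one_mem
  let ι₀ : A →* H := (Subgroup.inclusion hle).comp e.symm.toMonoidHom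
  have hι₀ : Function.Injective ι₀ :=
    (Subgroup.inclusion_injective hle).comp e.symm.injective
  have hmem : ∀ x : (powMonoidHom U.index : A →* A).range, ι₀ (x : A) ∈ f.range := by
    rintro ⟨_, ⟨y, rfl⟩⟩
    rw [hf]
    have hy : ((e.symm y : σ.ker) : Γ) ∈ σ.ker := (e.symm y).2
    obtain ⟨h1, h2⟩ := pow_index_mem_commutator H ((e.symm y : σ.ker) : Γ) (hσ.2.1 hy)
      (hσ.2.2 hy)
    have h3 : ι₀ (powMonoidHom U.index y) = ⟨((e.symm y : σ.ker) : Γ) ^ H.index, h1⟩ := by
      apply Subtype.ext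
      show ((e.symm (y ^ U.index) : σ.ker) : Γ) = ((e.symm y : σ.ker) : Γ) ^ H.index
      rw [map_pow, hidx]
      rfl
    rw [h3]
    refine ⟨?_, h2⟩
    show (⟨((e.symm y : σ.ker) : Γ) ^ H.index, h1⟩ : H) ∈ π.ker
    rw [hπk]
    exact Subgroup.pow_mem _ hy _
  let ι : (powMonoidHom U.index : A →* A).range →* f.range :=
    (ι₀.comp (Subgroup.subtype _)).codRestrict f.range hmem
  have hι : Function.Injective ι := by
    intro x y hxy
    have h1 : ι₀ (x : A) = ι₀ (y : A) := congrArg Subtype.val hxy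
    exact Subtype.ext (hι₀ h1)
  obtain ⟨j, hj⟩ := exists_injective_hom_of_quotient B f.ker
  let total : (powMonoidHom U.index : A →* A).range →* B :=
    j.comp ((QuotientGroup.quotientKerEquivRange f).symm.toMonoidHom.comp ι)
  have htot : Function.Injective total :=
    hj.comp ((QuotientGroup.quotientKerEquivRange f).symm.injective.comp hι)
  exact ⟨total.range, ⟨MonoidHom.ofInjective htot⟩⟩

end Cfsg.Agent.S3954
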