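import Cfsg.Statements.S3957
import Mathlib
import Cfsg.Agent.Lib.Helper7.Schur8

set_option autoImplicit false
open Cfsg

namespace Cfsg.Agent.S3957

open Cfsg.Agent.Lib.Helper7 Cfsg.Agent.Lib.Helper7.Schur

universe u v

/-- Let `Q` be a finite group with Schur multiplier `A` and let `τ : Δ →* Q` be a finite stem extension, `Δ` in the universe of `Q`. Then there is a finite stem extension `σ : Γ →* Q` with kernel isomorphic to `A` (a Schur covering group) and a surjective homomorphism `β : Γ →* Δ` with `τ ∘ β = σ`. -/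
theorem result {Q : Type u} [Group Q] [Finite Q] {A : Type v} [CommGroup A] (hA : Cfsg.HasSchurMultiplier Q A) {Δ : Type u} [Group Δ] [Finite Δ] (τ : Δ →* Q) (hτ : Cfsg.IsStemExtension τ) : ∃ (Γ : Type u) (_ : Group Γ) (_ : Finite Γ) (σ : Γ →* Q), Cfsg.IsStemExtension σ ∧ Nonempty (σ.ker ≃* A) ∧ ∃ β : Γ →* Δ, Function.Surjective β ∧ τ.comp β = σ := by
  obtain ⟨Γ₀, hG₀, hF₀, σ₀, hσ₀, ⟨e₀⟩⟩ := hA.1
  have hAfin : Finite A := Finite.of_equiv _ e₀.toEquiv
  let S : Set ℕ := {n | ∃ (Γ : Type u) (_ : Group Γ) (_ : Finite Γ) (σ : Γ →* Q),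
    Cfsg.IsStemExtension σ ∧ (∃ β : Γ →* Δ, Function.Surjective β ∧ τ.comp β = σ) ∧
      Nat.card Γ = n}
  have hne : S.Nonempty :=
    ⟨Nat.card Δ, Δ, inferInstance, inferInstance, τ, hτ,
      ⟨MonoidHom.id Δ, Function.surjective_id, MonoidHom.comp_id τ⟩, rfl⟩
  have hbdd : BddAbove S := by
    refine ⟨Nat.card Q * (Nat.card Q) ^ (Nat.card Q * Nat.card Q ^ 2 + 1), ?_⟩
    rintro n ⟨Γ, hΓ, hfin, σ, hσ, -, rfl⟩
    exact card_le_of_stem σ hσ
  obtain ⟨Γ, hG, hF, σ, hσ, ⟨β, hβs, hβ⟩, hcard⟩ := Nat.sSup_mem hne hbdd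
  have hmax : ∀ n ∈ S, n ≤ Nat.card Γ := fun n hn => hcard ▸ le_csSup hbdd hn
  have hkey : ∀ x : fp σ σ₀, x ∈ commutator (fp σ σ₀) → x.1.1 = 1 → x.1.2 = 1 := by
    intro x hx hx1
    by_contra hx2
    have hxne : x ≠ 1 := by
      intro h
      apply hx2
      rw [h]
      rfl
    obtain ⟨C, hCg, hCf, βC, hβC, hneC, hext⟩ := exists_stem_of_central (fpFst σ σ₀)
      (fpFst_surjective σ σ₀ hσ₀.1) (ker_fpFst_le_center σ σ₀ hσ₀.2.1) x hx1 hx hxne
    have hcen : (σ.comp βC).ker ≤ Subgroup.center C := by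
      intro c hc
      obtain ⟨p, hp⟩ := fpFst_surjective σ σ₀ hσ₀.1 (βC c)
      apply hext c p _ hp.symm
      apply ker_fpTot_le_center σ σ₀ hσ.2.1 hσ₀.2.1
      rw [MonoidHom.mem_ker]
      show σ (fpFst σ σ₀ p) = 1
      rw [hp]
      exact hc
    have hst := isStemExtension_comp βC hβC σ hσ hcen
    have hmem : Nat.card C ∈ S := by
      refine ⟨C, hCg, hCf, σ.comp βC, hst, ⟨β.comp βC, hβs.comp hβC.1, ?_⟩, rfl⟩
      rw [← MonoidHom.comp_assoc, hβ]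
    have h1 := hmax _ hmem
    have h2 := card_ker_mul_card βC hβC.1
    have h3 : 1 < Nat.card βC.ker := by
      rw [Finite.one_lt_card_iff_nontrivial]
      exact (Subgroup.nontrivial_iff_ne_bot _).2 hneC
    have h4 : 0 < Nat.card Γ := Nat.card_pos
    have h5 : Nat.card Γ < Nat.card βC.ker * Nat.card Γ := by
      calc Nat.card Γ = 1 * Nat.card Γ := (one_mul _).symm
        _ < Nat.card βC.ker * Nat.card Γ := Nat.mul_lt_mul_of_pos_right h3 h4
    omega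
  obtain ⟨g, hg⟩ := ker_surjection_of_fp σ σ₀ hσ.1 hσ₀.1 hσ.2.2 hσ₀.2.2 hkey
  obtain ⟨f, hf⟩ := hA.2 Γ σ hσ
  have h1 : Nat.card σ₀.ker ≤ Nat.card σ.ker := Nat.card_le_card_of_surjective g hg
  have h2 : Nat.card σ.ker ≤ Nat.card A := Nat.card_le_card_of_surjective f hf
  have h3 : Nat.card σ₀.ker = Nat.card A := Nat.card_congr e₀.toEquiv
  have h4 : Nat.card A = Nat.card σ.ker := by omega
  have hbij : Function.Bijective f := (Nat.bijective_iff_surjective_and_card f).2 ⟨hf, h4⟩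
  exact ⟨Γ, hG, hF, σ, hσ, ⟨(MulEquiv.ofBijective f hbij).symm⟩, β, hβs, hβ⟩

end Cfsg.Agent.S3957
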