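import Cfsg.Statements.S3959
import Mathlib
import Cfsg.Agent.Lib.Helper7.Schur14

set_option autoImplicit false
open Cfsg

namespace Cfsg.Agent.S3959

open Cfsg.Agent.Lib.Helper7 Cfsg.Agent.Lib.Helper7.Schur
open scoped commutatorElement

universe u v w

/-- The pairing used to twist the product of two covers. -/
def pairing {Γ₁ : Type*} {Γ₂ : Type*} {Q₁ : Type*} {Q₂ : Type*} [Group Γ₁] [Group Γ₂]
    [Group Q₁] [Group Q₂] (σ₁ : Γ₁ →* Q₁) (σ₂ : Γ₂ →* Q₂) : Γ₂ →* Γ₁ →* AbT Q₁ Q₂ where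
  toFun g₂ := (tmulHom Q₁ Q₂ (σ₂ g₂)).comp σ₁
  map_one' := by
    ext g₁
    simp
  map_mul' a b := by
    ext g₁
    simp

theorem pairing_apply {Γ₁ : Type*} {Γ₂ : Type*} {Q₁ : Type*} {Q₂ : Type*} [Group Γ₁] [Group Γ₂]
    [Group Q₁] [Group Q₂] (σ₁ : Γ₁ →* Q₁) (σ₂ : Γ₂ →* Q₂) (g₂ : Γ₂) (g₁ : Γ₁) :
    pairing σ₁ σ₂ g₂ g₁ = tmulHom Q₁ Q₂ (σ₂ g₂) (σ₁ g₁) := rfl

/-- Let `Q₁` and `Q₂` be finite groups with Schur multipliers `A` and `B`. Then the Schur multiplier of `Q₁ × Q₂` is isomorphic to `A × B × (Q₁ᵃᵇ ⊗ Q₂ᵃᵇ)`, the last factor being the tensor product over the integers of the commutator quotients, written multiplicatively. -/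
theorem result {Q₁ : Type u} {Q₂ : Type v} [Group Q₁] [Group Q₂] [Finite Q₁] [Finite Q₂] {A B : Type w} [CommGroup A] [CommGroup B] (hA : Cfsg.HasSchurMultiplier Q₁ A) (hB : Cfsg.HasSchurMultiplier Q₂ B) : Cfsg.HasSchurMultiplier (Q₁ × Q₂) (A × B × Multiplicative (TensorProduct ℤ (Additive (Abelianization Q₁)) (Additive (Abelianization Q₂)))) := by
  constructor
  · obtain ⟨Γ₁, hG₁, hF₁, σ₁, hσ₁, ⟨e₁⟩⟩ := hA.1
    obtain ⟨Γ₂, hG₂, hF₂, σ₂, hσ₂, ⟨e₂⟩⟩ := hB.1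
    let b := pairing σ₁ σ₂
    have hb₁ : ∀ g₂ g₁, σ₁ g₁ = 1 → b g₂ g₁ = 1 := by
      intro g₂ g₁ h
      show pairing σ₁ σ₂ g₂ g₁ = 1
      rw [pairing_apply, h, map_one]
    have hb₂ : ∀ g₂ g₁, σ₂ g₂ = 1 → b g₂ g₁ = 1 := by
      intro g₂ g₁ h
      show pairing σ₁ σ₂ g₂ g₁ = 1
      rw [pairing_apply, h, map_one, MonoidHom.one_apply]
    have hT : ∀ t, jT b t ∈ commutator (Tw b) := by
      intro t
      have := tensor_induction ((commutator (Tw b)).comap (jT b)) (by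
        intro q₁ q₂
        obtain ⟨g₁, rfl⟩ := hσ₁.1 q₁
        obtain ⟨g₂, rfl⟩ := hσ₂.1 q₂
        rw [Subgroup.mem_comap]
        have h1 : tmulHom Q₁ Q₂ (σ₂ g₂) (σ₁ g₁) = b g₂ g₁ := rfl
        rw [h1, ← comm_j2_j1, commutator_def]
        exact Subgroup.commutator_mem_commutator (Subgroup.mem_top _) (Subgroup.mem_top _)) t
      exact this
    have hstem : Cfsg.IsStemExtension (twProj b σ₁ σ₂) :=
      ⟨twProj_surjective b σ₁ σ₂ hσ₁.1 hσ₂.1,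
        ker_twProj_le_center b σ₁ σ₂ hb₁ hb₂ hσ₁.2.1 hσ₂.2.1,
        ker_twProj_le_commutator b σ₁ σ₂ hT hσ₁.2.2 hσ₂.2.2⟩
    refine ⟨Tw b, inferInstance, inferInstance, twProj b σ₁ σ₂, hstem, ⟨?_⟩⟩
    exact (kerTwEquiv b σ₁ σ₂ hb₂).symm.trans
      (MulEquiv.prodCongr e₁ (MulEquiv.prodCongr e₂ (MulEquiv.refl _)))
  · intro Δ _ _ τ hτ
    obtain ⟨fA, hfA⟩ := exists_hom_D1 hA τ hτ.1 hτ.2.1
    obtain ⟨fB, hfB⟩ := exists_hom_D2 hB τ hτ.1 hτ.2.1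
    obtain ⟨fT, hfT1, hfT2⟩ := exists_tensor_hom τ hτ.1 hτ.2.1
    have hAk : ∀ a, fA a ∈ τ.ker := fun a => by
      have : fA a ∈ fA.range := ⟨a, rfl⟩
      rw [hfA] at this
      exact this.1
    have hBk : ∀ b, fB b ∈ τ.ker := fun b => by
      have : fB b ∈ fB.range := ⟨b, rfl⟩
      rw [hfB] at this
      exact this.1
    have hTk : ∀ t, fT t ∈ τ.ker := fun t => hfT1 ⟨t, rfl⟩
    have hcomm₂ : ∀ b t, Commute (fB b) (fT t) := fun b t =>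
      (Subgroup.mem_center_iff.1 (hτ.2.1 (hBk b)) (fT t)).symm
    let F₂ : B × AbT Q₁ Q₂ →* Δ := fB.noncommCoprod fT hcomm₂
    have hcomm₁ : ∀ a x, Commute (fA a) (F₂ x) := fun a x =>
      (Subgroup.mem_center_iff.1 (hτ.2.1 (hAk a)) (F₂ x)).symm
    let F : A × B × AbT Q₁ Q₂ →* Δ := fA.noncommCoprod F₂ hcomm₁
    have hF₂k : ∀ x, F₂ x ∈ τ.ker := fun x => Subgroup.mul_mem _ (hBk x.1) (hTk x.2)
    have hFk : ∀ x, F x ∈ τ.ker := fun x => Subgroup.mul_mem _ (hAk x.1) (hF₂k x.2)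
    refine ⟨F.codRestrict τ.ker hFk, ?_⟩
    rintro ⟨x, hx⟩
    have h1 : x ∈ τ.ker ⊓ commutator Δ := ⟨hx, hτ.2.2 hx⟩
    have h2 := ker_inf_commutator_le τ hτ.1 h1
    rw [← hfA, ← hfB] at h2
    have hn : fB.range.Normal := by
      rw [hfB]
      infer_instance
    rw [Subgroup.mem_sup_of_normal_right] at h2
    obtain ⟨y, hy, w, hw, hyw⟩ := h2
    rw [Subgroup.mem_sup_of_normal_right] at hy
    obtain ⟨_, ⟨a, rfl⟩, _, ⟨b, rfl⟩, hab⟩ := hy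
    obtain ⟨t, rfl⟩ := hfT2 hw
    refine ⟨(a, b, t), ?_⟩
    apply Subtype.ext
    show fA a * (fB b * fT t) = x
    rw [← mul_assoc, hab, hyw]

end Cfsg.Agent.S3959
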