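import Cfsg.Statements.S3960
import Mathlib
import Cfsg.Agent.Lib.Helper7.Schur4

set_option autoImplicit false
open Cfsg

namespace Cfsg.Agent.S3960

open Cfsg.Agent.Lib.Helper7 Cfsg.Agent.Lib.Helper7.Schur

universe u

/-- A finite perfect group `Q` has a universal central extension: a finite perfect group `G` in the universe of `Q` and a surjective homomorphism `π : G →* Q` with central kernel such that for every group `X` in that universe and every surjective homomorphism `ξ : X →* Q` with central kernel there is exactly one homomorphism `η : G →* X` with `ξ ∘ η = π`. -/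
theorem result {Q : Type u} [Group Q] [Finite Q] (hQ : Group.IsPerfect Q) : ∃ (G : Type u) (_ : Group G) (_ : Finite G) (π : G →* Q), Group.IsPerfect G ∧ Function.Surjective π ∧ π.ker ≤ Subgroup.center G ∧ ∀ (X : Type u) [Group X] (ξ : X →* Q), Function.Surjective ξ → ξ.ker ≤ Subgroup.center X → ∃! η : G →* X, ξ.comp η = π := by
  have hQ' : commutator Q = ⊤ := hQ.commutator_eq_top
  obtain ⟨G, hG, hfin, π, hπ, hmax⟩ := exists_maximal_stem Q
  have hGperf : commutator G = ⊤ := perfect_of_stem π hπ.1 hπ.2.2 hQ'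
  have hM : Cfsg.HasCyclicSchurMultiplier G 1 := by
    apply hasCyclicSchurMultiplier_one
    intro Δ _ _ τ hτ
    have hΔ : commutator Δ = ⊤ := perfect_of_stem τ hτ.1 hτ.2.2 hGperf
    have hcen : (π.comp τ).ker ≤ Subgroup.center Δ :=
      ker_comp_le_center_of_perfect τ hτ.2.1 hΔ π hπ.2.1
    have hstem : Cfsg.IsStemExtension (π.comp τ) :=
      ⟨hπ.1.comp hτ.1, hcen, by rw [hΔ]; exact le_top⟩
    have h1 := hmax Δ (π.comp τ) hstem
    have h2 : Nat.card G ≤ Nat.card Δ := Nat.card_le_card_of_surjective τ hτ.1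
    have h3 : Nat.card Δ = Nat.card G := le_antisymm h1 h2
    have hinj : Function.Injective τ := by
      have : Function.Bijective τ := (Nat.bijective_iff_surjective_and_card τ).2 ⟨hτ.1, h3⟩
      exact this.1
    exact (MonoidHom.ker_eq_bot_iff τ).2 hinj
  refine ⟨G, hG, hfin, π, ⟨hGperf⟩, hπ.1, hπ.2.1, ?_⟩
  intro X _ ξ hξ hξZ
  obtain ⟨η, hη⟩ := exists_lift_of_trivial_multiplier hGperf hM π ξ hξ hξZ
  refine ⟨η, hη, ?_⟩
  intro η' hη'
  apply lift_unique_of_perfect hGperf ξ hξZ
  show ξ.comp η' = ξ.comp η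
  rw [hη', hη]

end Cfsg.Agent.S3960
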