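import Cfsg.Statements.S3961
import Mathlib
import Cfsg.Agent.Lib.Helper7.Schur3

set_option autoImplicit false
open Cfsg

namespace Cfsg.Agent.S3961

open Cfsg.Agent.Lib.Helper7 Cfsg.Agent.Lib.Helper7.Schur

universe u v

/-- Let `π : G →* Q` be a surjective homomorphism with central kernel from a finite perfect group `G` (a perfect cover of `Q`). Then `π` is universal, in the sense that every surjective homomorphism `ξ : X →* Q` with central kernel from a group `X` in the universe of `G` admits a homomorphism `η : G →* X` with `ξ ∘ η = π`, if and only if `G` has trivial Schur multiplier. -/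
theorem result {G : Type u} {Q : Type v} [Group G] [Group Q] [Finite G] (hG : Group.IsPerfect G) (π : G →* Q) (hπ : Function.Surjective π) (hker : π.ker ≤ Subgroup.center G) : (∀ (X : Type u) [Group X] (ξ : X →* Q), Function.Surjective ξ → ξ.ker ≤ Subgroup.center X → ∃ η : G →* X, ξ.comp η = π) ↔ Cfsg.HasCyclicSchurMultiplier G 1 := by
  have hG' : commutator G = ⊤ := hG.commutator_eq_top
  constructor
  · intro huniv
    apply hasCyclicSchurMultiplier_one
    intro Δ _ _ τ hτ
    have hΔ : commutator Δ = ⊤ := perfect_of_stem τ hτ.1 hτ.2.2 hG'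
    have hcen : (π.comp τ).ker ≤ Subgroup.center Δ :=
      ker_comp_le_center_of_perfect τ hτ.2.1 hΔ π hker
    obtain ⟨η, hη⟩ := huniv Δ (π.comp τ) (hπ.comp hτ.1) hcen
    have h1 : τ.comp η = MonoidHom.id G := by
      apply lift_unique_of_perfect hG' π hker
      rw [← MonoidHom.comp_assoc, hη, MonoidHom.comp_id]
    have h2 : η.comp τ = MonoidHom.id Δ := by
      apply lift_unique_of_perfect hΔ (π.comp τ) hcen
      rw [MonoidHom.comp_id, MonoidHom.comp_assoc, ← MonoidHom.comp_assoc τ η τ, h1,
        MonoidHom.id_comp]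
    rw [eq_bot_iff]
    intro k hk
    rw [Subgroup.mem_bot]
    have h3 := DFunLike.congr_fun h2 k
    simp only [MonoidHom.comp_apply, MonoidHom.id_apply] at h3
    rw [← h3, MonoidHom.mem_ker.1 hk, map_one]
  · intro hM X _ ξ hξ hξZ
    exact exists_lift_of_trivial_multiplier hG' hM π ξ hξ hξZ

end Cfsg.Agent.S3961
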