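import Cfsg.Statements.S3962
import Mathlib
-- import your own Cfsg.Agent.* helpers here

set_option autoImplicit false
open Cfsg
open scoped commutatorElement

namespace Cfsg.Agent.S3962

/-- Let `G` be a perfect group and `π : G →* Q` a surjective homomorphism whose kernel is central. Then `π` maps the centre of `G` onto the centre of `Q`. Taking `π` to be the map to `G ⧸ Z(G)` shows that the central quotient of a perfect group has trivial centre. -/
theorem result {G Q : Type*} [Group G] [Group Q] (hG : Group.IsPerfect G) (π : G →* Q) (hπ : Function.Surjective π) (hker : π.ker ≤ Subgroup.center G) : (Subgroup.center G).map π = Subgroup.center Q := by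
  apply le_antisymm
  · rintro _ ⟨z, hz, rfl⟩
    rw [Subgroup.mem_center_iff]
    intro q
    obtain ⟨g, rfl⟩ := hπ q
    have hz' := Subgroup.mem_center_iff.mp hz g
    rw [← map_mul, ← map_mul, hz']
  · intro q hq
    obtain ⟨x, rfl⟩ := hπ q
    refine ⟨x, ?_, rfl⟩
    have hc : ∀ g : G, x * g * x⁻¹ * g⁻¹ ∈ Subgroup.center G := by
      intro g
      apply hker
      rw [MonoidHom.mem_ker]
      have h1 := Subgroup.mem_center_iff.mp hq (π g)
      simp only [map_mul, map_inv]
      rw [← h1]
      group
    let f : G →* G :=
      { toFun := fun g => x * g * x⁻¹ * g⁻¹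
        map_one' := by group
        map_mul' := by
          intro g h
          have h2 := Subgroup.mem_center_iff.mp (hc h) (g⁻¹)
          have : x * (g * h) * x⁻¹ * (g * h)⁻¹ = x * g * x⁻¹ * ((x * h * x⁻¹ * h⁻¹) * g⁻¹) := by group
          rw [this, ← h2]
          group }
    have hfc : ∀ g, f g ∈ Subgroup.center G := hc
    have hker2 : commutator G ≤ f.ker := by
      rw [commutator_eq_closure, Subgroup.closure_le]
      rintro _ ⟨a, b, rfl⟩
      show f ⁅a, b⁆ = 1
      rw [commutatorElement_def, map_mul, map_mul, map_mul, map_inv, map_inv]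
      have := Subgroup.mem_center_iff.mp (hfc a) (f b)
      calc f a * f b * (f a)⁻¹ * (f b)⁻¹ = (f a * f b) * (f a)⁻¹ * (f b)⁻¹ := by group
        _ = (f b * f a) * (f a)⁻¹ * (f b)⁻¹ := by rw [this]
        _ = 1 := by group
    rw [hG.commutator_eq_top] at hker2
    show x ∈ Subgroup.center G
    rw [Subgroup.mem_center_iff]
    intro g
    have : f g = 1 := hker2 (Subgroup.mem_top g)
    have h3 : x * g * x⁻¹ * g⁻¹ = 1 := this
    calc g * x = (x * g * x⁻¹ * g⁻¹)⁻¹ * (x * g) := by group
      _ = x * g := by rw [h3]; group

end Cfsg.Agent.S3962
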