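import Mathlib
import Cfsg.Statements.S3963
import Cfsg.Agent.Lib.Helper7.StemCore

set_option autoImplicit false
open Cfsg

namespace Cfsg.Agent.S3963

open QuaternionGroup Cfsg.Agent.Lib.Helper7

lemma closure_gens (n : ℕ) [NeZero n] :
    Subgroup.closure {(a 1 : QuaternionGroup n), xa 0} = ⊤ := by
  rw [eq_top_iff]
  have ha : ∀ i : ZMod (2 * n), (a i : QuaternionGroup n) ∈ Subgroup.closure {(a 1 : QuaternionGroup n), xa 0} := by
    intro i
    have h1 : (a 1 : QuaternionGroup n) ^ i.val = a i := by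
      rw [a_one_pow, ZMod.natCast_zmod_val]
    rw [← h1]
    exact Subgroup.pow_mem _ (Subgroup.subset_closure (by simp)) _
  rintro (i | i) _
  · exact ha i
  · have : (xa i : QuaternionGroup n) = xa 0 * a i := by rw [xa_mul_a, zero_add]
    rw [this]
    exact Subgroup.mul_mem _ (Subgroup.subset_closure (by simp)) (ha i)

lemma two_n (n : ℕ) : ((n : ZMod (2 * n)) + n) = 0 := by
  have : ((n : ZMod (2 * n)) + n) = ((2 * n : ℕ) : ZMod (2 * n)) := by push_cast; ring
  rw [this]; exact ZMod.natCast_self _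

lemma xa_zero_inv (n : ℕ) : (xa 0 : QuaternionGroup n)⁻¹ = xa (n : ZMod (2 * n)) := by
  rw [inv_eq_iff_mul_eq_one, xa_mul_xa, one_def]
  congr 1
  rw [sub_zero]; exact two_n n

lemma a_one_inv (n : ℕ) : (a 1 : QuaternionGroup n)⁻¹ = a (-1) := by
  rw [inv_eq_iff_mul_eq_one, a_mul_a, one_def]
  congr 1
  ring

lemma relQ (n : ℕ) : (xa 0 : QuaternionGroup n) * a 1 * (xa 0)⁻¹ = (a 1)⁻¹ := by
  rw [xa_zero_inv, a_one_inv, xa_mul_a, xa_mul_xa]
  congr 1
  have := two_n n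
  linear_combination this

/-- For every `n ≥ 1` the dicyclic (generalized quaternion) group of order `4 n` has trivial Schur multiplier. -/
theorem result (n : ℕ) [NeZero n] : Cfsg.HasCyclicSchurMultiplier (QuaternionGroup n) 1 := by
  have hn0 : n ≠ 0 := NeZero.ne n
  apply hasCyclicSchurMultiplier_one
  intro Γ _ _ σ hσ
  obtain ⟨α, ξ, k, hα, hξ, hk, hrel, hker, hrel2⟩ :=
    stem_analysis σ hσ (a 1) (xa 0) (closure_gens n) (relQ n)
  have hcen : σ.ker ≤ Subgroup.center Γ := hσ.2.1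
  -- `ξ` commutes with `α ^ n`
  have hcomm : ξ * α ^ n = α ^ n * ξ := by
    set k₂ := (α ^ n)⁻¹ * (ξ * ξ) with hk₂def
    have hk₂ : k₂ ∈ σ.ker := by
      rw [MonoidHom.mem_ker, hk₂def]
      simp only [map_mul, map_inv, map_pow, hα, hξ]
      rw [a_one_pow, xa_mul_xa, sub_zero, add_zero]
      group
    have hk₂c : ∀ g : Γ, g * k₂ = k₂ * g := Subgroup.mem_center_iff.mp (hcen hk₂)
    have h1 : ξ * ξ = α ^ n * k₂ := by rw [hk₂def]; group
    have h3 : ξ * (α ^ n * k₂) = (α ^ n * k₂) * ξ := by rw [← h1]; group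
    have h4 : ξ * α ^ n * k₂ = α ^ n * ξ * k₂ := by
      calc ξ * α ^ n * k₂ = ξ * (α ^ n * k₂) := by group
        _ = (α ^ n * k₂) * ξ := h3
        _ = α ^ n * (k₂ * ξ) := by group
        _ = α ^ n * (ξ * k₂) := by rw [hk₂c ξ]
        _ = α ^ n * ξ * k₂ := by group
    exact mul_right_cancel h4
  have h2n := hrel2 n hcomm
  rw [Subgroup.eq_bot_iff_forall]
  intro z hz
  obtain ⟨i, hzi, hai⟩ := hker z hz
  have hni : n ∣ i := by
    have h1 : ((a 1 : QuaternionGroup n) * a 1) ^ i = a ((2 * i : ℕ) : ZMod (2 * n)) := by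
      rw [← pow_two, ← pow_mul, a_one_pow]
    rw [h1, one_def] at hai
    have h2 : ((2 * i : ℕ) : ZMod (2 * n)) = 0 := by injection hai
    rw [ZMod.natCast_eq_zero_iff] at h2
    exact (Nat.mul_dvd_mul_iff_left (by norm_num)).mp h2
  obtain ⟨j, rfl⟩ := hni
  rw [hzi]
  have e1 : α ^ (2 * (n * j)) = (k ^ n) ^ j := by
    rw [← h2n, ← pow_mul, mul_assoc]
  have e2 : (k⁻¹) ^ (n * j) = ((k ^ n) ^ j)⁻¹ := by
    rw [inv_pow, pow_mul]
  rw [e1, e2, mul_inv_cancel]

end Cfsg.Agent.S3963
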