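import Mathlib
import Cfsg.Statements.S3964
import Cfsg.Agent.Lib.Helper7.StemDihedral

set_option autoImplicit false
open Cfsg

namespace Cfsg.Agent.S3964

open DihedralGroup Cfsg.Agent.Lib.Helper7

/-- For odd `n` the dihedral group of order `2 n` has trivial Schur multiplier. -/
theorem result (n : ℕ) (hn : Odd n) : Cfsg.HasCyclicSchurMultiplier (DihedralGroup n) 1 := by
  have hn0 : n ≠ 0 := by
    rintro rfl
    simp at hn
  haveI : NeZero n := ⟨hn0⟩
  apply hasCyclicSchurMultiplier_one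
  intro Γ _ _ σ hσ
  obtain ⟨α, k, hα, hk, h2n, hker⟩ := dihedral_stem_analysis n σ hσ
  rw [Subgroup.eq_bot_iff_forall]
  intro z hz
  obtain ⟨i, hzi, hni⟩ := hker z hz
  have hni' : n ∣ i := by
    have hcop : Nat.Coprime n 2 := Nat.coprime_two_right.mpr hn
    exact hcop.dvd_of_dvd_mul_left hni
  obtain ⟨j, rfl⟩ := hni'
  rw [hzi]
  have e1 : α ^ (2 * (n * j)) = (k ^ n) ^ j := by
    rw [← h2n, ← pow_mul, mul_assoc]
  have e2 : (k⁻¹) ^ (n * j) = ((k ^ n) ^ j)⁻¹ := by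
    rw [inv_pow, pow_mul]
  rw [e1, e2, mul_inv_cancel]

end Cfsg.Agent.S3964
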