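import Cfsg.Statements.S3966
import Mathlib

set_option autoImplicit false
open Cfsg

namespace Cfsg.Agent.S3966

open QuaternionGroup DihedralGroup
open scoped commutatorElement

/-- reduction `ZMod (2n) → ZMod n` -/
noncomputable def red (n : ℕ) : ZMod (2 * n) →+* ZMod n := ZMod.castHom (dvd_mul_left n 2) (ZMod n)

theorem red_n (n : ℕ) : red n (n : ZMod (2 * n)) = 0 := by
  rw [map_natCast]; exact ZMod.natCast_self n

/-- the underlying function -/
noncomputable def σfun (n : ℕ) : QuaternionGroup n → DihedralGroup n
  | QuaternionGroup.a i => DihedralGroup.r (red n i)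
  | QuaternionGroup.xa i => DihedralGroup.sr (red n i)

noncomputable def σhom (n : ℕ) : QuaternionGroup n →* DihedralGroup n where
  toFun := σfun n
  map_one' := by
    rw [QuaternionGroup.one_def]; simp [σfun]
  map_mul' := by
    rintro (i | i) (j | j)
    · simp [σfun]
    · simp [σfun]
    · simp [σfun]
    · simp [σfun]

theorem σhom_surj (n : ℕ) : Function.Surjective (σhom n) := by
  have hs : Function.Surjective (red n) := ZMod.castHom_surjective _
  rintro (i | i)
  · obtain ⟨j, rfl⟩ := hs i
    exact ⟨QuaternionGroup.a j, rfl⟩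
  · obtain ⟨j, rfl⟩ := hs i
    exact ⟨QuaternionGroup.xa j, rfl⟩

/-- For even `n ≥ 2` the dicyclic group of order `4 n` is a stem extension of the dihedral group of order `2 n` with kernel of order `2`: there is a surjective homomorphism `QuaternionGroup n →* DihedralGroup n` whose kernel is central, lies in the commutator subgroup and has two elements. Together with the order of the multiplier this exhibits the dicyclic group as a Schur covering group of the dihedral group. -/
theorem result (n : ℕ) [NeZero n] (hn : Even n) : ∃ σ : QuaternionGroup n →* DihedralGroup n, Cfsg.IsStemExtension σ ∧ Nat.card σ.ker = 2 := by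
  have hn0 : n ≠ 0 := NeZero.ne n
  refine ⟨σhom n, ?_⟩
  -- kernel has two elements
  have hcard : Nat.card (σhom n).ker = 2 := by
    have h1 : (σhom n).ker.index = Nat.card (σhom n).range := Subgroup.index_ker _
    rw [MonoidHom.range_eq_top.mpr (σhom_surj n), Subgroup.card_top, DihedralGroup.nat_card] at h1
    have h2 := (σhom n).ker.index_mul_card
    rw [h1, Nat.card_eq_fintype_card (α := QuaternionGroup n), QuaternionGroup.card] at h2
    have : 2 * n * Nat.card (σhom n).ker = 2 * n * 2 := by rw [h2]; ring
    exact Nat.eq_of_mul_eq_mul_left (by omega) this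
  -- a n
  have han : (QuaternionGroup.a (n : ZMod (2 * n)) : QuaternionGroup n) ∈ (σhom n).ker := by
    rw [MonoidHom.mem_ker]
    show σfun n (QuaternionGroup.a (n : ZMod (2 * n))) = 1
    simp [σfun, red_n]
  have hne1 : (QuaternionGroup.a (n : ZMod (2 * n)) : QuaternionGroup n) ≠ 1 := by
    rw [QuaternionGroup.one_def]
    intro h
    have h' : (n : ZMod (2 * n)) = 0 := by
      injection h
    rw [ZMod.natCast_eq_zero_iff] at h'
    have := Nat.le_of_dvd (Nat.pos_of_ne_zero hn0) h'
    omega
  have hsq : (QuaternionGroup.a (n : ZMod (2 * n)) : QuaternionGroup n) ^ 2 = 1 := by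
    rw [pow_two, QuaternionGroup.a_mul_a, QuaternionGroup.one_def]
    congr 1
    have : ((n : ZMod (2 * n)) + n) = ((2 * n : ℕ) : ZMod (2 * n)) := by push_cast; ring
    rw [this]; exact ZMod.natCast_self _
  have hord : orderOf (QuaternionGroup.a (n : ZMod (2 * n)) : QuaternionGroup n) = 2 :=
    orderOf_eq_prime hsq hne1
  have hker : (σhom n).ker = Subgroup.zpowers (QuaternionGroup.a (n : ZMod (2 * n))) := by
    symm
    apply Subgroup.eq_of_le_of_card_ge
    · rw [Subgroup.zpowers_le]; exact han
    · rw [hcard, Nat.card_zpowers, hord]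
  refine ⟨⟨σhom_surj n, ?_, ?_⟩, hcard⟩
  · rw [hker, Subgroup.zpowers_le, Subgroup.mem_center_iff]
    rintro (j | j)
    · rw [QuaternionGroup.a_mul_a, QuaternionGroup.a_mul_a, add_comm]
    · rw [QuaternionGroup.xa_mul_a, QuaternionGroup.a_mul_xa]
      congr 1
      have : ((n : ZMod (2 * n)) + n) = 0 := by
        have : ((n : ZMod (2 * n)) + n) = ((2 * n : ℕ) : ZMod (2 * n)) := by push_cast; ring
        rw [this]; exact ZMod.natCast_self _
      linear_combination this
  · rw [hker, Subgroup.zpowers_le]
    obtain ⟨k, hk⟩ := hn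
    have hcomm : ⁅(QuaternionGroup.xa 0 : QuaternionGroup n), QuaternionGroup.a (k : ZMod (2 * n))⁆ =
        QuaternionGroup.a (n : ZMod (2 * n)) := by
      rw [commutatorElement_def]
      have hinv1 : (QuaternionGroup.xa 0 : QuaternionGroup n)⁻¹ = QuaternionGroup.xa (n : ZMod (2 * n)) := by
        rw [inv_eq_iff_mul_eq_one, QuaternionGroup.xa_mul_xa, QuaternionGroup.one_def]
        congr 1
        have : ((n : ZMod (2 * n)) + n) = ((2 * n : ℕ) : ZMod (2 * n)) := by push_cast; ring
        rw [sub_zero, this]; exact ZMod.natCast_self _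
      have hinv2 : (QuaternionGroup.a (k : ZMod (2 * n)) : QuaternionGroup n)⁻¹ =
          QuaternionGroup.a (-(k : ZMod (2 * n))) := by
        rw [inv_eq_iff_mul_eq_one, QuaternionGroup.a_mul_a, QuaternionGroup.one_def]
        congr 1
        ring
      rw [hinv1, hinv2, QuaternionGroup.xa_mul_a, QuaternionGroup.xa_mul_xa, QuaternionGroup.a_mul_a]
      congr 1
      have h2n : ((n : ZMod (2 * n)) + n) = 0 := by
        have : ((n : ZMod (2 * n)) + n) = ((2 * n : ℕ) : ZMod (2 * n)) := by push_cast; ring
        rw [this]; exact ZMod.natCast_self _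
      have hkk : (n : ZMod (2 * n)) = (k : ZMod (2 * n)) + k := by
        rw [hk]; push_cast; ring
      linear_combination hkk
    rw [← hcomm]
    exact Subgroup.commutator_mem_commutator (Subgroup.mem_top _) (Subgroup.mem_top _)

end Cfsg.Agent.S3966
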