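import Mathlib
import Cfsg.Statements.S3965
import Cfsg.Agent.Lib.Helper7.StemDihedral
import Cfsg.Agent.S3966

set_option autoImplicit false
open Cfsg

namespace Cfsg.Agent.S3965

open DihedralGroup Cfsg.Agent.Lib.Helper7

/-- a homomorphism from `ZMod 2` (multiplicative) hitting a given element of order dividing 2 -/
lemma exists_hom_of_sq {K : Type*} [Group K] (w : K) (hw : w ^ 2 = 1) :
    ∃ π : Multiplicative (ZMod 2) →* K, ∀ j : ℕ, w ^ j ∈ Set.range π := by
  let f : ℤ →+ Additive K := zmultiplesHom (Additive K) (Additive.ofMul w)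
  have hf : f ((2 : ℕ) : ℤ) = 0 := by
    show (zmultiplesHom (Additive K) (Additive.ofMul w)) ((2 : ℕ) : ℤ) = 0
    rw [zmultiplesHom_apply, natCast_zsmul, ← ofMul_pow, hw]
    rfl
  let g : ZMod 2 →+ Additive K := ZMod.lift 2 ⟨f, hf⟩
  refine ⟨AddMonoidHom.toMultiplicativeLeft g, ?_⟩
  intro j
  refine ⟨Multiplicative.ofAdd ((j : ℤ) : ZMod 2), ?_⟩
  show Additive.toMul (g ((j : ℤ) : ZMod 2)) = w ^ j
  have : g ((j : ℤ) : ZMod 2) = f (j : ℤ) := ZMod.lift_coe 2 ⟨f, hf⟩ (j : ℤ)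
  rw [this]
  show Additive.toMul ((zmultiplesHom (Additive K) (Additive.ofMul w)) (j : ℤ)) = w ^ j
  rw [zmultiplesHom_apply, natCast_zsmul, ← ofMul_pow]
  rfl

/-- For even `n ≥ 2` the dihedral group of order `2 n` has Schur multiplier cyclic of order `2`. -/
theorem result (n : ℕ) [NeZero n] (hn : Even n) : Cfsg.HasCyclicSchurMultiplier (DihedralGroup n) 2 := by
  refine ⟨?_, ?_⟩
  · obtain ⟨σ, hσ, hcard⟩ := Cfsg.Agent.S3966.result n hn
    refine ⟨QuaternionGroup n, inferInstance, inferInstance, σ, hσ, ?_⟩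
    haveI : Fact (Nat.Prime 2) := ⟨Nat.prime_two⟩
    exact ⟨mulEquivOfPrimeCardEq (p := 2) hcard (by simp)⟩
  · intro Γ _ _ σ hσ
    obtain ⟨α, k, hα, hk, h2n, hker⟩ := dihedral_stem_analysis n σ hσ
    have hcen : σ.ker ≤ Subgroup.center Γ := hσ.2.1
    obtain ⟨m, hm⟩ := hn
    have hkinv : k⁻¹ ∈ Subgroup.center Γ := (Subgroup.center Γ).inv_mem (hcen hk)
    have hcomm : ∀ (g : Γ) (i : ℕ), Commute g ((k⁻¹) ^ i) := by
      intro g i
      exact (Subgroup.mem_center_iff.mp ((Subgroup.center Γ).pow_mem hkinv i) g)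
    set w := α ^ n * (k⁻¹) ^ m with hwdef
    have hwker : w ∈ σ.ker := by
      rw [MonoidHom.mem_ker, hwdef, map_mul, map_pow, map_pow, map_inv, hα,
        MonoidHom.mem_ker.mp hk, r_one_pow_n]
      simp
    have hw2 : w ^ 2 = 1 := by
      rw [hwdef, (hcomm (α ^ n) m).mul_pow, ← pow_mul, ← pow_mul, mul_comm n 2, h2n]
      have : m * 2 = n := by omega
      rw [this, inv_pow, mul_inv_cancel]
    have hzw : ∀ z ∈ σ.ker, ∃ j : ℕ, z = w ^ j := by
      intro z hz
      obtain ⟨i, hzi, hni⟩ := hker z hz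
      have hmi : m ∣ i := by
        have hm0 : 0 < m := by
          have := NeZero.ne n
          omega
        have : 2 * m ∣ 2 * i := by
          have : 2 * m = n := by omega
          rw [this]; exact hni
        exact (Nat.mul_dvd_mul_iff_left (by norm_num)).mp this
      obtain ⟨j, rfl⟩ := hmi
      refine ⟨j, ?_⟩
      rw [hzi, hwdef, (hcomm (α ^ n) m).mul_pow, ← pow_mul, ← pow_mul]
      have : 2 * (m * j) = n * j := by
        have : 2 * m = n := by omega
        rw [← mul_assoc, this]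
      rw [this]
    obtain ⟨π, hπ⟩ := exists_hom_of_sq (K := σ.ker) ⟨w, hwker⟩ (by
      apply Subtype.ext
      show w ^ 2 = 1
      exact hw2)
    refine ⟨π, ?_⟩
    intro ⟨z, hz⟩
    obtain ⟨j, hj⟩ := hzw z hz
    obtain ⟨x, hx⟩ := hπ j
    refine ⟨x, ?_⟩
    rw [hx]
    apply Subtype.ext
    show w ^ j = z
    exact hj.symm

end Cfsg.Agent.S3965
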