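import Cfsg.Statements.S3967
import Mathlib
import Cfsg.Agent.Lib.Helper7.Beyl4
import Cfsg.Agent.Lib.Helper7.Beyl5
import Cfsg.Agent.Lib.Helper7.Beyl6
-- import your own Cfsg.Agent.* helpers here

set_option autoImplicit false
open Cfsg

namespace Cfsg.Agent.S3967

open Cfsg.Agent.Lib.Helper7.Beyl in
/-- a homomorphism from `ZMod g` (multiplicative) hitting the powers of an element of order
dividing `g` -/
lemma exists_hom_of_pow {K : Type*} [Group K] (g : ℕ) (w : K) (hw : w ^ g = 1) :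
    ∃ π : Multiplicative (ZMod g) →* K, ∀ j : ℕ, w ^ j ∈ Set.range π := by
  let f : ℤ →+ Additive K := zmultiplesHom (Additive K) (Additive.ofMul w)
  have hf : f ((g : ℕ) : ℤ) = 0 := by
    show (zmultiplesHom (Additive K) (Additive.ofMul w)) ((g : ℕ) : ℤ) = 0
    rw [zmultiplesHom_apply, natCast_zsmul, ← ofMul_pow, hw]
    rfl
  let φ : ZMod g →+ Additive K := ZMod.lift g ⟨f, hf⟩
  refine ⟨AddMonoidHom.toMultiplicativeLeft φ, ?_⟩
  intro j
  refine ⟨Multiplicative.ofAdd ((j : ℤ) : ZMod g), ?_⟩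
  show Additive.toMul (φ ((j : ℤ) : ZMod g)) = w ^ j
  have : φ ((j : ℤ) : ZMod g) = f (j : ℤ) := ZMod.lift_coe g ⟨f, hf⟩ (j : ℤ)
  rw [this]
  show Additive.toMul ((zmultiplesHom (Additive K) (Additive.ofMul w)) (j : ℤ)) = w ^ j
  rw [zmultiplesHom_apply, natCast_zsmul, ← ofMul_pow]
  rfl

open Cfsg.Agent.Lib.Helper7.Beyl in
theorem main (m n r l d e h r' : ℕ) (hm : 0 < m) (hn : 0 < n) (hr : 0 < r)
    (hrn : r ^ n ≡ 1 [MOD m]) (hme : m = d * e) (hrd : r = d * r' + 1)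
    (hcop : Nat.Coprime e r') (heh : e * h = Nat.gcd m (∑ i ∈ Finset.range n, r ^ i))
    (hhd : h ∣ d) (he0 : 0 < e) (hh0 : 0 < h) :
    Cfsg.HasCyclicSchurMultiplier (MG m n r (e * l)) (Nat.gcd l h) := by
  obtain ⟨g, hg⟩ : ∃ g, g = Nat.gcd l h := ⟨_, rfl⟩
  rw [← hg]
  have hg0 : 0 < g := by rw [hg]; exact Nat.gcd_pos_of_pos_right _ hh0
  have hgl : g ∣ l := by rw [hg]; exact Nat.gcd_dvd_left _ _
  have hgh : g ∣ h := by rw [hg]; exact Nat.gcd_dvd_right _ _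
  have htr : e * l * r ≡ e * l [MOD m] := by
    have h1 : e * l * r = e * l + m * (l * r') := by rw [hrd, hme]; ring
    rw [h1]
    have h2 : e * l + m * (l * r') ≡ e * l + 0 [MOD m] :=
      Nat.ModEq.add_left _ ((Nat.modEq_zero_iff_dvd).mpr ⟨_, rfl⟩)
    rw [add_zero] at h2
    exact h2
  refine ⟨?_, ?_⟩
  · obtain ⟨R, ρ, hR, hRr, hRn, htR, hbez, hcen⟩ :=
      cover_arith m n r l d e h r' g hme hrd hcop heh hhd he0 hg0 hgl hgh
    obtain ⟨σ, hσ, hiso⟩ := cover_isStem m n r (e * l) g R ρ d e hm hn hg0 hrn htr hR hRr hRn htR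
      hbez hcen hme
    haveI : NeZero (m * g) := ⟨(Nat.mul_pos hm hg0).ne'⟩
    haveI : NeZero n := ⟨hn.ne'⟩
    exact ⟨MG (m * g) n R (e * l), inferInstance, inferInstance, σ, hσ, hiso⟩
  · intro Γ _ _ σ hσ
    obtain ⟨c, hσc, hcm, hct, hcN, hker⟩ := stem_analysis σ hσ (ga m n r (e * l))
      (gb m n r (e * l)) m n r (e * l) hr (closure_gens _ _ _ _) (ga_pow _ _ _ _)
      (gb_pow _ _ _ _) (gb_conj _ _ _ _)
    have hr1 : r - 1 = d * r' := by rw [hrd, Nat.add_sub_cancel]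
    rw [hr1] at hσc
    have hκker : c ^ e ∈ σ.ker := by
      rw [MonoidHom.mem_ker, map_pow, hσc, ← pow_mul]
      have : d * r' * e = m * r' := by rw [hme]; ring
      rw [this, pow_mul, ga_pow, one_pow]
    have hz : ∀ z ∈ σ.ker, ∃ j : ℕ, z = (c ^ e) ^ j := by
      intro z hz
      obtain ⟨i, rfl⟩ := hker z hz
      rw [MonoidHom.mem_ker, map_pow, hσc, ← pow_mul] at hz
      have h1 : m ∣ d * r' * i := (ga_pow_eq_one_iff m n r (e * l) hn hrn htr _).mp hz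
      have hd0 : 0 < d := by
        rcases Nat.eq_zero_or_pos d with h0 | h0
        · rw [h0, zero_mul] at hme; omega
        · exact h0
      have h2 : e ∣ r' * i := by
        have : d * e ∣ d * (r' * i) := by rw [← hme, ← mul_assoc]; exact h1
        exact (Nat.mul_dvd_mul_iff_left hd0).mp this
      obtain ⟨j, rfl⟩ := hcop.dvd_of_dvd_mul_left h2
      exact ⟨j, by rw [pow_mul]⟩
    have hκg : (c ^ e) ^ g = 1 := by
      rw [← orderOf_dvd_iff_pow_eq_one, hg]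
      apply Nat.dvd_gcd
      · rw [orderOf_dvd_iff_pow_eq_one, ← pow_mul]
        exact hct
      · rw [orderOf_dvd_iff_pow_eq_one, ← pow_mul, heh, ← orderOf_dvd_iff_pow_eq_one]
        exact Nat.dvd_gcd (orderOf_dvd_of_pow_eq_one hcm) (orderOf_dvd_of_pow_eq_one hcN)
    obtain ⟨π, hπ⟩ := exists_hom_of_pow (K := σ.ker) g ⟨c ^ e, hκker⟩ (by
      apply Subtype.ext
      show (c ^ e) ^ g = 1
      exact hκg)
    refine ⟨π, ?_⟩
    intro ⟨z, hzk⟩
    obtain ⟨j, hj⟩ := hz z hzk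
    obtain ⟨x, hx⟩ := hπ j
    refine ⟨x, ?_⟩
    rw [hx]
    apply Subtype.ext
    show (c ^ e) ^ j = z
    exact hj.symm


/-- Let `m, n ≥ 1`, `r ≥ 1` with `r ^ n ≡ 1 (mod m)`, and `l` a natural number; put `d = gcd(m, r - 1)`, `t = m l / d` and `h = d · gcd(m, 1 + r + ⋯ + r^(n-1)) / m`. The group presented by generators `a, b` and relations `a ^ m = 1`, `b ^ n = a ^ t`, `b a b⁻¹ = a ^ r` (a metacyclic group of order `m n`) has Schur multiplier cyclic of order `gcd(l, h)`. -/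
theorem result (m n r l : ℕ) (hm : 0 < m) (hn : 0 < n) (hr : 0 < r) (hrn : r ^ n ≡ 1 [MOD m]) : Cfsg.HasCyclicSchurMultiplier (PresentedGroup ({FreeGroup.of true ^ m, (FreeGroup.of false) ^ n * (FreeGroup.of true ^ (m * l / Nat.gcd m (r - 1)))⁻¹, FreeGroup.of false * FreeGroup.of true * (FreeGroup.of false)⁻¹ * (FreeGroup.of true ^ r)⁻¹} : Set (FreeGroup Bool))) (Nat.gcd l (Nat.gcd m (r - 1) * Nat.gcd m (∑ i ∈ Finset.range n, r ^ i) / m)) := by
  obtain ⟨d, e, h, r', hd, hh, hme, hrd, hcop, ht, heh, hhd, hd0, he0, hh0⟩ :=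
    Cfsg.Agent.Lib.Helper7.Beyl.arith m n r l hm hr hrn
  rw [← hd, ← hh, ht]
  exact Cfsg.Agent.S3967.main m n r l d e h r' hm hn hr hrn hme hrd hcop heh hhd he0 hh0

end Cfsg.Agent.S3967
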