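import Mathlib
import Cfsg.Statements.S3968
import Cfsg.Agent.S0138
import Cfsg.Agent.S0142
import Cfsg.Agent.Lib.Helper7.CyclicCommutant

set_option autoImplicit false
open Cfsg

namespace Cfsg.Agent.S3968

open Cfsg.Agent.Lib.Helper7

/-- the core argument, for a faithful irreducible representation on `Fin p → ℂ` -/
theorem core {G : Type*} [Group G] [Finite G] (p : ℕ) (hp : p.Prime)
    (ρ : Representation ℂ G (Fin p → ℂ)) (hirr : ρ.IsIrreducible)
    (hinj : ∀ g : G, ρ g = 1 → g = 1) (hdiv : p ^ 2 ∣ Nat.card G)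
    (hZ : Subgroup.center G = ⊥) : False := by
  classical
  haveI := hirr
  haveI : Fact p.Prime := ⟨hp⟩
  have hinj2 : ∀ g h : G, ρ g = ρ h → g = h := by
    intro g h hgh
    have : ρ (g * h⁻¹) = 1 := by
      rw [map_mul, hgh, ← map_mul, mul_inv_cancel, map_one]
    have := hinj _ this
    exact mul_inv_eq_one.mp this
  have hfr : Module.finrank ℂ (Fin p → ℂ) = p := Module.finrank_fin_fun ℂ
  -- Burnside's lemma
  have hB : ∀ z : G, z ≠ 1 → Nat.Coprime p (Subgroup.centralizer ({z} : Set G)).index →
      ρ.character z = 0 := by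
    intro z hz hcop
    have hcop' : Nat.Coprime (Module.finrank ℂ (Fin p → ℂ))
        (Subgroup.centralizer ({z} : Set G)).index := by rw [hfr]; exact hcop
    rcases Cfsg.Agent.S0142.result ρ z hcop' with h0 | hnorm
    · exact h0
    · exfalso
      obtain ⟨ω, hω⟩ := (Cfsg.Agent.S0138.result ρ z).1 hnorm
      apply hz
      have hzc : z ∈ Subgroup.center G := by
        rw [Subgroup.mem_center_iff]
        intro y
        apply hinj2
        have hω' : ρ z = ω • (1 : Module.End ℂ (Fin p → ℂ)) := hω
        rw [map_mul, map_mul, hω', mul_smul_comm, smul_mul_assoc, mul_one, one_mul]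
      rw [hZ, Subgroup.mem_bot] at hzc
      exact hzc
  -- a Sylow subgroup
  obtain P : Sylow p G := default
  have hPcard : p ^ 2 ∣ Nat.card P := by
    rw [Sylow.card_eq_multiplicity]
    apply pow_dvd_pow
    exact (hp.pow_dvd_iff_le_factorization Nat.card_pos.ne').mp hdiv
  have hPz : ∀ z : G, z ≠ 1 → (∀ x ∈ P, x * z = z * x) → ρ.character z = 0 := by
    intro z hz hcomm
    apply hB z hz
    have hle : (P : Subgroup G) ≤ Subgroup.centralizer ({z} : Set G) := by
      intro x hx
      rw [Subgroup.mem_centralizer_singleton_iff]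
      exact hcomm x hx
    have hdvd := Subgroup.index_dvd_of_le hle
    have hnd : ¬ p ∣ (P : Subgroup G).index := P.not_dvd_index
    have : ¬ p ∣ (Subgroup.centralizer ({z} : Set G)).index := fun h => hnd (h.trans hdvd)
    exact (Nat.Prime.coprime_iff_not_dvd hp).2 this
  -- an element of order p in the centre of P
  have hPp : IsPGroup p P := P.isPGroup'
  have hPnt : Nontrivial P := by
    rw [← Finite.one_lt_card_iff_nontrivial]
    have h1 : p ^ 2 ≤ Nat.card P := Nat.le_of_dvd Nat.card_pos hPcard
    have h2 : 1 < p ^ 2 := Nat.one_lt_pow (by norm_num) hp.one_lt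
    omega
  have hZnt : Nontrivial (Subgroup.center P) := hPp.center_nontrivial
  have hZp : IsPGroup p (Subgroup.center P) := hPp.to_subgroup _
  have hpZ : p ∣ Nat.card (Subgroup.center P) := by
    obtain ⟨k, hk⟩ := hZp.exists_card_eq
    rw [hk]
    have : k ≠ 0 := by
      rintro rfl
      rw [pow_zero] at hk
      have := Finite.one_lt_card_iff_nontrivial.mpr hZnt
      omega
    exact dvd_pow_self p this
  obtain ⟨a0, ha0⟩ := exists_prime_orderOf_dvd_card' p hpZ
  set a : G := ((a0 : P) : G) with ha
  have hao : orderOf a = p := by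
    rw [ha, Subgroup.orderOf_coe, Subgroup.orderOf_coe]; exact ha0
  have haP : a ∈ (P : Subgroup G) := (a0 : P).2
  have hacomm : ∀ x ∈ (P : Subgroup G), x * a = a * x := by
    intro x hx
    have h1 := (Subgroup.mem_center_iff.mp a0.2) ⟨x, hx⟩
    have h2 := congrArg (Subtype.val) h1
    simpa using h2
  have hapow : ∀ k : ℕ, 0 < k → k < p → a ^ k ≠ 1 := by
    intro k hk0 hkp h1
    have := orderOf_dvd_of_pow_eq_one h1
    rw [hao] at this
    have := Nat.le_of_dvd hk0 this
    omega
  -- the cyclic-commutant hypotheses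
  have hHyp : CycComm.Hyp p (ρ a) := by
    refine ⟨hp.pos, ?_, ?_, ?_⟩
    · have h1 : a ^ p = 1 := by
        have := pow_orderOf_eq_one a
        rwa [hao] at this
      rw [← map_pow, h1, map_one]
    · rw [LinearMap.trace_one, hfr]
    · intro k hk0 hkp
      rw [← map_pow]
      have := hPz (a ^ k) (hapow k hk0 hkp) (fun x hx => by
        have := hacomm x hx
        exact (Commute.pow_right this k))
      exact this
  -- P is abelian
  have hPab : ∀ x ∈ (P : Subgroup G), ∀ y ∈ (P : Subgroup G), x * y = y * x := by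
    intro x hx y hy
    apply hinj2
    rw [map_mul, map_mul]
    apply CycComm.commute_of_commute hHyp
    · show ρ x * ρ a = ρ a * ρ x
      rw [← map_mul, ← map_mul, hacomm x hx]
    · show ρ y * ρ a = ρ a * ρ y
      rw [← map_mul, ← map_mul, hacomm y hy]
  have hPchar : ∀ z ∈ (P : Subgroup G), z ≠ 1 → ρ.character z = 0 := by
    intro z hz hz1
    exact hPz z hz1 (fun x hx => hPab x hx z hz)
  -- an element outside ⟨a⟩
  have hex : ∃ b ∈ (P : Subgroup G), b ∉ Subgroup.zpowers a := by
    by_contra hcon
    push Not at hcon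
    have hle : (P : Subgroup G) ≤ Subgroup.zpowers a := hcon
    have h1 : Nat.card (P : Subgroup G) ≤ Nat.card (Subgroup.zpowers a) :=
      Nat.le_of_dvd Nat.card_pos (Subgroup.card_dvd_of_le hle)
    rw [Nat.card_zpowers, hao] at h1
    have h2 : p ^ 2 ≤ Nat.card P := Nat.le_of_dvd Nat.card_pos hPcard
    have h3 : p < p ^ 2 := by
      have := hp.one_lt
      nlinarith
    have h4 : Nat.card (P : Subgroup G) = Nat.card P := rfl
    omega
  obtain ⟨b, hbP, hbna⟩ := hex
  have hb0 : ρ b = 0 := by
    apply CycComm.eq_zero_of_trace hHyp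
    · show ρ b * ρ a = ρ a * ρ b
      rw [← map_mul, ← map_mul, hacomm b hbP]
    · intro k _
      rw [← map_pow, ← map_mul]
      apply hPchar
      · exact mul_mem hbP (pow_mem haP k)
      · intro h1
        apply hbna
        have : b = (a ^ k)⁻¹ := eq_inv_of_mul_eq_one_left h1
        rw [this]
        exact inv_mem (pow_mem (Subgroup.mem_zpowers a) k)
  have h1 : ρ (b * b⁻¹) = 0 := by rw [map_mul, hb0, zero_mul]
  rw [mul_inv_cancel, map_one] at h1
  have h2 := congrArg (LinearMap.trace ℂ (Fin p → ℂ)) h1
  rw [LinearMap.trace_one, hfr, map_zero] at h2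
  have : p = 0 := by exact_mod_cast h2
  exact hp.ne_zero this

/-- Let `p` be a prime and `G` a finite group with a faithful irreducible complex character of degree `p` (so `G` is an irreducible linear group in `p` variables). If `p ^ 2` divides the order of `G`, then the centre of `G` is nontrivial. -/
theorem result {G : Type*} [Group G] [Finite G] (p : ℕ) (hp : p.Prime) (χ : Cfsg.IrrCharacter G) (hdeg : χ.1 1 = p) (hfaith : ∀ g : G, χ.1 g = χ.1 1 → g = 1) (hdiv : p ^ 2 ∣ Nat.card G) : Subgroup.center G ≠ ⊥ := by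
  classical
  intro hZ
  obtain ⟨n, ρ, hirr, hρ⟩ := χ.2
  have hn : n = p := by
    have h1 : χ.1 1 = n := by rw [← hρ, Representation.char_one]; simp
    rw [hdeg] at h1; exact_mod_cast h1.symm
  subst hn
  apply core n hp ρ hirr ?_ hdiv hZ
  intro g hg
  apply hfaith
  rw [← hρ, Representation.char_one]
  unfold Representation.character
  rw [hg, LinearMap.trace_one]

end Cfsg.Agent.S3968
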