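import Mathlib
import Cfsg.Statements.S3970
import Cfsg.Agent.Lib.Helper7.FrattiniAct
import Cfsg.Agent.Lib.Lead.PComplement

set_option autoImplicit false
open Cfsg

namespace Cfsg.Agent.S3970

open Cfsg.Agent.Lib.Helper7 Cfsg.Agent.Lib.Lead

universe u

/-- the hypothesis of the statement -/
def Hyp (G : Type u) [Group G] [Finite G] : Prop :=
  ∀ p : ℕ, p.Prime → p ∣ Nat.card G → (∃ q : ℕ, q.Prime ∧ q ∣ Nat.card G ∧ p < q) →
    ∀ P : Sylow p G, IsMulCommutative (P : Subgroup G) ∧ Group.rank (P : Subgroup G) ≤ 2

/-- arithmetic: a prime `r ≥ p` dividing `p ^ j - 1` with `j ≤ 2` forces `p = 2`, `r = 3`,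
`j = 2` -/
theorem arith {p r j : ℕ} (hp : p.Prime) (hr : r.Prime) (hpr : p ≤ r) (hj1 : 1 ≤ j) (hj2 : j ≤ 2)
    (h : r ∣ p ^ j - 1) : p = 2 ∧ r = 3 ∧ j = 2 := by
  have hp2 := hp.two_le
  have h1 : ¬ r ∣ p - 1 := by
    intro h1
    have := Nat.le_of_dvd (by omega) h1
    omega
  interval_cases j
  · rw [pow_one] at h
    exact absurd h h1
  · have h2 : p ^ 2 - 1 = (p - 1) * (p + 1) := by
      obtain ⟨k, rfl⟩ : ∃ k, p = k + 1 := ⟨p - 1, by omega⟩
      simp only [Nat.add_sub_cancel]
      ring_nf
      omega
    rw [h2] at h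
    rcases (Nat.Prime.dvd_mul hr).mp h with h3 | h3
    · exact absurd h3 h1
    · have h4 : r ≤ p + 1 := Nat.le_of_dvd (by omega) h3
      have h5 : r ≠ p := by
        rintro rfl
        have : r ∣ 1 := (Nat.dvd_add_right (dvd_refl r)).mp h3
        exact hr.one_lt.ne' (Nat.dvd_one.mp this)
      have h6 : r = p + 1 := by omega
      rcases hp.eq_two_or_odd with h7 | h7
      · exact ⟨h7, by omega, rfl⟩
      · exfalso
        have h8 : 2 ∣ r := by omega
        have h9 := (Nat.prime_dvd_prime_iff_eq Nat.prime_two hr).mp h8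
        omega

theorem aux : ∀ (n : ℕ) (G : Type u) [Group G] [Finite G], Nat.card G = n → Hyp G →
    ¬ 12 ∣ n → Group.IsSolvable G := by
  intro n
  induction n using Nat.strong_induction_on with
  | _ n ih =>
  intro G _ _ hn hyp h12
  classical
  by_cases h1 : n = 1
  · haveI : Subsingleton G := by
      rw [← Finite.card_le_one_iff_subsingleton]; omega
    infer_instance
  set p := n.minFac with hpdef
  have hp : p.Prime := Nat.minFac_prime h1
  haveI : Fact p.Prime := ⟨hp⟩
  have hpn : p ∣ Nat.card G := hn ▸ Nat.minFac_dvd n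
  have hn0 : n ≠ 0 := hn ▸ Nat.card_pos.ne'
  by_cases hq : ∃ q : ℕ, q.Prime ∧ q ∣ Nat.card G ∧ p < q
  · -- Burnside
    obtain ⟨P⟩ : Nonempty (Sylow p G) := inferInstance
    obtain ⟨hab, hrank⟩ := hyp p hp hpn hq P
    obtain ⟨k, hk⟩ := (IsPGroup.iff_card).mp P.isPGroup'
    have hd : Nat.card (P : Subgroup G) ≤
        p ^ (min (Group.rank (P : Subgroup G)) k) * Nat.card (frattini (P : Subgroup G)) := by
      rcases le_total (Group.rank (P : Subgroup G)) k with hle | hle
      · rw [min_eq_left hle]
        exact card_le_pow_rank_mul_frattini P.isPGroup'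
      · rw [min_eq_right hle, hk]
        exact Nat.le_mul_of_pos_right _ Nat.card_pos
    have hNC : Subgroup.normalizer ((P : Subgroup G) : Set G) ≤
        Subgroup.centralizer ((P : Subgroup G) : Set G) := by
      apply normalizer_le_centralizer_of_abelian_sylow P hab
      apply coprime_normalizer_le_centralizer (P : Subgroup G) P.isPGroup' _ hd
      intro r hr hrG j hj1 hjd hrj
      have hpr : p ≤ r := by
        rw [hpdef]
        exact Nat.minFac_le_of_dvd hr.two_le (hn ▸ hrG)
      have hj2 : j ≤ 2 := hjd.trans ((min_le_left _ _).trans hrank)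
      obtain ⟨hp2, hr3, hj⟩ := arith hp hr hpr hj1 hj2 hrj
      have hk2 : 2 ≤ k := by
        have := hjd.trans (min_le_right _ _)
        omega
      apply h12
      have h4 : 4 ∣ n := by
        rw [← hn]
        have h5 : p ^ 2 ∣ p ^ k := pow_dvd_pow p hk2
        rw [← hk] at h5
        have h6 : (4 : ℕ) = p ^ 2 := by rw [hp2]; norm_num
        rw [h6]
        exact h5.trans (Subgroup.card_subgroup_dvd_card _)
      have h3 : 3 ∣ n := by rw [← hn, ← hr3]; exact hrG
      have : Nat.Coprime 4 3 := by norm_num
      have := this.mul_dvd_of_dvd_of_dvd h4 h3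
      simpa using this
    obtain ⟨P', N, hN, hc⟩ := hasNormalPComplement_of_normalizer_le_centralizer P hNC
    haveI := hN
    have hcard := hc.card_mul_card
    have hP'card : Nat.card (P' : Subgroup G) = p ^ (Nat.card G).factorization p :=
      P'.card_eq_multiplicity
    have hfpos : 0 < (Nat.card G).factorization p :=
      hp.factorization_pos_of_dvd Nat.card_pos.ne' hpn
    have hP'1 : 1 < Nat.card (P' : Subgroup G) := by
      rw [hP'card]; exact Nat.one_lt_pow hfpos.ne' hp.one_lt
    have hNlt : Nat.card N < n := by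
      rw [← hn, ← hcard]
      have : 0 < Nat.card N := Nat.card_pos
      nlinarith
    have hNdvd : Nat.card N ∣ Nat.card G := Subgroup.card_subgroup_dvd_card N
    -- `|N|` is coprime to `p`
    have hNcop : ¬ p ∣ Nat.card N := by
      intro hpN
      have h2 : p ^ ((Nat.card G).factorization p + 1) ∣ Nat.card G := by
        have h3 : p * p ^ (Nat.card G).factorization p ∣
            Nat.card N * Nat.card (P' : Subgroup G) := by
          rw [hP'card]
          exact Nat.mul_dvd_mul hpN (dvd_refl _)
        rw [hcard] at h3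
        rwa [pow_succ']
      have := (hp.pow_dvd_iff_le_factorization Nat.card_pos.ne').mp h2
      omega
    -- `N` is solvable
    have hNsolv : Group.IsSolvable N := by
      apply ih (Nat.card N) hNlt ↥N rfl
      · intro q hqp hqN hq' Q
        haveI : Fact q.Prime := ⟨hqp⟩
        have hqG : q ∣ Nat.card G := hqN.trans hNdvd
        obtain ⟨q', hq'p, hq'N, hlt⟩ := hq'
        have hqne : q ≠ p := fun h => hNcop (h ▸ hqN)
        -- a Sylow subgroup of `G` above the image of `Q`
        have hQ'p : IsPGroup q ((Q : Subgroup N).map N.subtype) := Q.isPGroup'.map N.subtype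
        obtain ⟨R, hR⟩ := hQ'p.exists_le_sylow
        obtain ⟨hRab, hRrank⟩ := hyp q hqp hqG ⟨q', hq'p, hq'N.trans hNdvd, hlt⟩ R
        have hfac : (Nat.card G).factorization q = (Nat.card N).factorization q := by
          rw [← hcard, Nat.factorization_mul Nat.card_pos.ne' Nat.card_pos.ne', hP'card,
            Nat.factorization_pow]
          simp [Nat.Prime.factorization hp, hqne.symm]
        have hcardeq : Nat.card ((Q : Subgroup N).map N.subtype) = Nat.card (R : Subgroup G) := by
          rw [card_map_subtype, Q.card_eq_multiplicity, R.card_eq_multiplicity, hfac]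
        have hQR : (Q : Subgroup N).map N.subtype = (R : Subgroup G) :=
          Subgroup.eq_of_le_of_card_ge hR hcardeq.ge
        let e : (Q : Subgroup N) ≃* (R : Subgroup G) :=
          ((Q : Subgroup N).equivMapOfInjective N.subtype N.subtype_injective).trans
            (MulEquiv.subgroupCongr hQR)
        refine ⟨⟨⟨fun a b => ?_⟩⟩, ?_⟩
        · apply e.injective
          rw [map_mul, map_mul]
          exact hRab.is_comm.comm _ _
        · rw [Group.rank_congr e]
          exact hRrank
      · intro h
        exact h12 (hn ▸ h.trans hNdvd)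
    -- `G ⧸ N` is a `p`-group
    have hquot : Group.IsSolvable (G ⧸ N) := by
      have h2 : Nat.card (G ⧸ N) = p ^ (Nat.card G).factorization p := by
        rw [← Subgroup.index_eq_card, ← hP'card]
        have h3 := N.card_mul_index
        rw [← hcard] at h3
        exact Nat.eq_of_mul_eq_mul_left Nat.card_pos h3
      have h3 : IsPGroup p (G ⧸ N) := IsPGroup.of_card h2
      haveI := h3.isNilpotent
      infer_instance
    exact (Group.isSolvable_iff_subgroup_quotient N).mpr ⟨hNsolv, hquot⟩
  · -- `G` is a `p`-group
    push Not at hq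
    have h2 : Nat.card G = p ^ (Nat.card G).primeFactorsList.length := by
      apply Nat.eq_prime_pow_of_unique_prime_dvd Nat.card_pos.ne'
      intro d hd hdG
      have h3 : p ≤ d := by
        rw [hpdef]
        exact Nat.minFac_le_of_dvd hd.two_le (hn ▸ hdG)
      have h4 := hq d hd hdG
      omega
    have h3 : IsPGroup p G := IsPGroup.of_card h2
    haveI := h3.isNilpotent
    infer_instance

/-- Let `G` be a finite group such that for every prime `p` dividing its order, other than the largest such prime, the Sylow `p`-subgroups are abelian and generated by at most two elements, and suppose `12` does not divide the order of `G`. Then `G` is solvable. In particular a group of cube-free order not divisible by `12` is solvable. -/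
theorem result {G : Type*} [Group G] [Finite G] (h : ∀ p : ℕ, p.Prime → p ∣ Nat.card G → (∃ q : ℕ, q.Prime ∧ q ∣ Nat.card G ∧ p < q) → ∀ P : Sylow p G, IsMulCommutative (P : Subgroup G) ∧ Group.rank (P : Subgroup G) ≤ 2) (h12 : ¬ 12 ∣ Nat.card G) : Group.IsSolvable G :=
  aux (Nat.card G) G rfl h h12

end Cfsg.Agent.S3970
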