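import Mathlib
import Cfsg.Statements.S3971
import Cfsg.Agent.Lib.Helper7.FrattiniAct
import Cfsg.Agent.Lib.Lead.FrobNPC5

set_option autoImplicit false
open Cfsg

namespace Cfsg.Agent.S3971

open Cfsg.Agent.Lib.Helper7 Cfsg.Agent.Lib.Lead

/-- a `2`-subgroup having a cyclic subgroup `Z ⊓ D` of index at most two has Frattini quotient of
order at most four -/
theorem card_le_four_mul_frattini {G : Type*} [Group G] [Finite G] (D Z : Subgroup G)
    (hD : IsPGroup 2 D) (hZ : IsCyclic Z) (hidx : Z.relIndex D ≤ 2) :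
    Nat.card D ≤ 2 ^ 2 * Nat.card (frattini D) := by
  haveI : Fact (Nat.Prime 2) := ⟨Nat.prime_two⟩
  haveI := hZ
  haveI hE : IsCyclic (Z ⊓ D : Subgroup G) := Subgroup.isCyclic_of_le (inf_le_left : Z ⊓ D ≤ Z)
  obtain ⟨⟨c, hcE⟩, hc⟩ := hE.exists_generator
  have hcD : c ∈ D := hcE.2
  have hEc : Nat.card (Z ⊓ D : Subgroup G) = orderOf c := by
    have h1 : orderOf (⟨c, hcE⟩ : (Z ⊓ D : Subgroup G)) = Nat.card (Z ⊓ D : Subgroup G) :=
      orderOf_eq_card_of_forall_mem_zpowers hc
    rw [← h1]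
    exact (Subgroup.orderOf_coe (⟨c, hcE⟩ : (Z ⊓ D : Subgroup G))).symm
  -- `|D| = |Z ⊓ D| * relIndex`
  have h1 : Nat.card D = Nat.card (Z ⊓ D : Subgroup G) * Z.relIndex D := by
    have := ((Z ⊓ D).subgroupOf D).card_mul_index
    rw [card_subgroupOf_of_le inf_le_right] at this
    rw [← this]
    congr 1
    exact Subgroup.inf_relIndex_right Z D
  -- `c ^ 2` lies in the Frattini subgroup
  have h2 : (⟨c, hcD⟩ : D) ^ 2 ∈ frattini D := pow_mem_frattini_of_isPGroup hD _
  have h3 : orderOf (c ^ 2) ≤ Nat.card (frattini D) := by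
    have h4 : orderOf ((⟨c, hcD⟩ : D) ^ 2) = orderOf (c ^ 2) := by
      rw [← Subgroup.orderOf_coe]; rfl
    have h5 := orderOf_dvd_natCard (⟨(⟨c, hcD⟩ : D) ^ 2, h2⟩ : frattini D)
    rw [← Subgroup.orderOf_coe] at h5
    rw [← h4]
    exact Nat.le_of_dvd Nat.card_pos h5
  have h6 : orderOf c ≤ 2 * orderOf (c ^ 2) := by
    rw [orderOf_pow' c (by norm_num : (2 : ℕ) ≠ 0)]
    have hg : Nat.gcd (orderOf c) 2 ∣ orderOf c := Nat.gcd_dvd_left _ _
    have hg2 : Nat.gcd (orderOf c) 2 ≤ 2 := Nat.le_of_dvd (by norm_num) (Nat.gcd_dvd_right _ _)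
    calc orderOf c = Nat.gcd (orderOf c) 2 * (orderOf c / Nat.gcd (orderOf c) 2) :=
          (Nat.mul_div_cancel' hg).symm
      _ ≤ 2 * (orderOf c / Nat.gcd (orderOf c) 2) := Nat.mul_le_mul_right _ hg2
  calc Nat.card D = orderOf c * Z.relIndex D := by rw [h1, hEc]
    _ ≤ (2 * orderOf (c ^ 2)) * 2 := Nat.mul_le_mul h6 hidx
    _ ≤ (2 * Nat.card (frattini D)) * 2 := by
        apply Nat.mul_le_mul_right
        exact Nat.mul_le_mul_left _ h3
    _ = 2 ^ 2 * Nat.card (frattini D) := by ring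

/-- Let `G` be a finite group of order `2 ^ a * n` with `n` odd and not divisible by `3`, and suppose `G` has an element of order `2 ^ (a - 1)` (so a Sylow `2`-subgroup has a cyclic subgroup of index at most `2`). Then `G` has a normal subgroup of order `n`. -/
theorem result {G : Type*} [Group G] [Finite G] (a n : ℕ) (hG : Nat.card G = 2 ^ a * n) (hn : Odd n) (h3 : ¬ 3 ∣ n) (hx : ∃ x : G, orderOf x = 2 ^ (a - 1)) : ∃ N : Subgroup G, N.Normal ∧ Nat.card N = n := by
  classical
  haveI : Fact (Nat.Prime 2) := ⟨Nat.prime_two⟩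
  obtain ⟨x, hxo⟩ := hx
  have hn0 : n ≠ 0 := fun h => by rcases hn with ⟨k, hk⟩; omega
  have hn2 : ¬ 2 ∣ n := fun h => (Nat.not_even_iff_odd.mpr hn) (even_iff_two_dvd.mpr h)
  have hfac : (Nat.card G).factorization 2 = a := by
    rw [hG, Nat.factorization_mul (pow_ne_zero _ (by norm_num)) hn0, Nat.factorization_pow]
    simp [Nat.factorization_eq_zero_of_not_dvd hn2, Nat.Prime.factorization_self Nat.prime_two]
  have hSylcard : ∀ S : Sylow 2 G, Nat.card S = 2 ^ a := by
    intro S
    rw [Sylow.card_eq_multiplicity, hfac]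
  -- the Frobenius criterion
  have hloc : PLocalCentral 2 G := by
    intro D hD g hgN hgcop
    -- a Sylow subgroup above `D` and a cyclic subgroup of index two in it
    obtain ⟨S, hDS⟩ := hD.exists_le_sylow
    have hxP : IsPGroup 2 (Subgroup.zpowers x) := by
      rw [IsPGroup.iff_card, Nat.card_zpowers]
      exact ⟨a - 1, hxo⟩
    obtain ⟨S₀, hxS₀⟩ := hxP.exists_le_sylow
    obtain ⟨t, ht⟩ := MulAction.exists_smul_eq G S₀ S
    set Z : Subgroup G := Subgroup.zpowers (t * x * t⁻¹) with hZ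
    have hZS : Z ≤ S := by
      rw [hZ, Subgroup.zpowers_le, ← ht, Sylow.coe_subgroup_smul,
        Subgroup.mem_pointwise_smul_iff_inv_smul_mem]
      simpa [MulAut.smul_def, mul_assoc] using hxS₀ (Subgroup.mem_zpowers x)
    have hZcard : Nat.card Z = 2 ^ (a - 1) := by
      rw [hZ, Nat.card_zpowers]
      have : orderOf (t * x * t⁻¹) = orderOf x := by
        have h1 : SemiconjBy t x (t * x * t⁻¹) := by rw [SemiconjBy]; group
        exact h1.orderOf_eq.symm
      rw [this, hxo]
    have hZidxS : Z.relIndex S ≤ 2 := by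
      have h1 := (Z.subgroupOf S).card_mul_index
      rw [card_subgroupOf_of_le hZS, hZcard, hSylcard S] at h1
      change 2 ^ (a - 1) * Z.relIndex S = 2 ^ a at h1
      rcases Nat.eq_zero_or_pos a with ha | ha
      · rw [ha, Nat.zero_sub, pow_zero, one_mul] at h1
        rw [h1]; norm_num
      · have h2 : 2 ^ a = 2 ^ (a - 1) * 2 := by
          rw [← pow_succ]; congr 1; omega
        rw [h2] at h1
        have := Nat.eq_of_mul_eq_mul_left (pow_pos (by norm_num) _) h1
        rw [this]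
    have hZidxD : Z.relIndex D ≤ 2 := by
      refine (Subgroup.relIndex_le_of_le_right hDS ?_).trans hZidxS
      intro h0
      have h1 := (Z.subgroupOf S).card_mul_index
      change _ * Z.relIndex S = _ at h1
      rw [h0, mul_zero] at h1
      exact Nat.card_pos.ne' h1.symm
    have hd := card_le_four_mul_frattini D Z hD (by rw [hZ]; infer_instance) hZidxD
    apply coprime_normalizer_le_centralizer D hD 2 hd ?_ g hgN hgcop
    intro r hr hrG j hj1 hj2 hrj
    interval_cases j
    · norm_num at hrj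
      exact hr.one_lt.ne' hrj
    · norm_num at hrj
      have hr3 : r = 3 := (Nat.prime_dvd_prime_iff_eq hr Nat.prime_three).mp hrj
      rw [hr3, hG] at hrG
      rcases (Nat.Prime.dvd_mul Nat.prime_three).mp hrG with h | h
      · have := Nat.Prime.dvd_of_dvd_pow Nat.prime_three h
        norm_num at this
      · exact h3 h
  obtain ⟨P, N, hN, hc⟩ := (hasNormalPComplement_iff_plocalCentral (p := 2) (G := G)).mpr hloc
  refine ⟨N, hN, ?_⟩
  have h1 := hc.card_mul_card
  rw [hSylcard P, hG, mul_comm] at h1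
  exact Nat.eq_of_mul_eq_mul_left (pow_pos (by norm_num) _) h1

end Cfsg.Agent.S3971
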