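import Mathlib
import Cfsg.Statements.S3972
import Cfsg.Agent.Lib.Helper7.SchurRing5

set_option autoImplicit false
open Cfsg

namespace Cfsg.Agent.S3972

open MulAction Cfsg.Agent.Lib.Helper7.SchurRing
open scoped Pointwise

/-- In a cyclic group of order `p ^ m` generated by `g`, every nontrivial subgroup contains
`g ^ (p ^ (m - 1))`. -/
lemma pow_mem_of_ne_bot {A : Type*} [Group A] [Finite A] {p m : ℕ} (hp : p.Prime) (hm : 1 ≤ m)
    (g : A) (hgen : ∀ a : A, a ∈ Subgroup.zpowers g) (hg : orderOf g = p ^ m)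
    (L : Subgroup A) (hL : L ≠ ⊥) : g ^ (p ^ (m - 1)) ∈ L := by
  haveI : IsCyclic A := ⟨⟨g, hgen⟩⟩
  letI : CommGroup A := IsCyclic.commGroup
  haveI : L.Normal := Subgroup.normal_of_comm L
  have hcard : Nat.card A = p ^ m := by
    rw [← hg]; exact (orderOf_eq_card_of_forall_mem_zpowers hgen).symm
  have h1 := L.card_mul_index
  have hdvd : Nat.card L ∣ p ^ m := by
    rw [← hcard]; exact Subgroup.card_subgroup_dvd_card L
  obtain ⟨i, hi, hLi⟩ := (Nat.dvd_prime_pow hp).mp hdvd
  have hi0 : i ≠ 0 := by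
    rintro rfl
    rw [pow_zero] at hLi
    exact hL (Subgroup.card_eq_one.mp hLi)
  have hidx : L.index = p ^ (m - i) := by
    rw [hLi, hcard] at h1
    have : p ^ i * L.index = p ^ i * p ^ (m - i) := by
      rw [h1, ← pow_add]; congr 1; omega
    exact Nat.eq_of_mul_eq_mul_left (pow_pos hp.pos i) this
  have h2 := Subgroup.pow_index_mem L g
  rw [hidx] at h2
  have : g ^ (p ^ (m - 1)) = (g ^ (p ^ (m - i))) ^ (p ^ (i - 1)) := by
    rw [← pow_mul, ← pow_add]; congr 2; omega
  rw [this]; exact pow_mem h2 _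

lemma not_trans_normalClosure {A Ω : Type*} [Group A] [MulAction A Ω]
    (htr : IsPretransitive A Ω) (hnp : ¬ IsPreprimitive A Ω) (z : A)
    (hz : ∀ B : Set Ω, IsBlock A B → ¬ B.Subsingleton → z • B = B) :
    ¬ IsPretransitive (Subgroup.normalClosure ({z} : Set A)) Ω := by
  have hex : ∃ B : Set Ω, IsBlock A B ∧ ¬ IsTrivialBlock B := by
    by_contra hcon
    push Not at hcon
    exact hnp { toIsPretransitive := htr, isTrivialBlock_of_isBlock := fun {B} hB => hcon B hB }
  obtain ⟨B, hB, hBt⟩ := hex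
  have hBs : ¬ B.Subsingleton := fun h => hBt (Or.inl h)
  have hBu : B ≠ Set.univ := fun h => hBt (Or.inr h)
  let M : Subgroup A :=
    { carrier := {x | ∀ y : A, x • (y • B) = y • B}
      one_mem' := fun y => one_smul _ _
      mul_mem' := by
        intro a b ha hb y
        rw [mul_smul, hb y, ha y]
      inv_mem' := by
        intro a ha y
        rw [inv_smul_eq_iff, ha y] }
  have hMn : M.Normal := by
    constructor
    intro x hx a y
    have h1 := hx (a⁻¹ * y)
    rw [mul_smul, mul_smul, ← mul_smul a⁻¹ y B, h1, ← mul_smul, mul_inv_cancel_left]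
  have hzM : z ∈ M := by
    intro y
    apply hz _ (hB.translate y)
    intro hs
    apply hBs
    intro a ha b hb
    have := hs (Set.smul_mem_smul_set (a := y) ha) (Set.smul_mem_smul_set (a := y) hb)
    exact MulAction.injective y this
  have hle : Subgroup.normalClosure ({z} : Set A) ≤ M :=
    Subgroup.normalClosure_le_normal (Set.singleton_subset_iff.mpr hzM)
  intro htrN
  apply hBu
  obtain ⟨b₁, hb₁⟩ : B.Nonempty := by
    by_contra hne
    rw [Set.not_nonempty_iff_eq_empty] at hne
    apply hBs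
    rw [hne]
    exact Set.subsingleton_empty
  rw [Set.eq_univ_iff_forall]
  intro ω
  obtain ⟨n, hn⟩ := htrN.exists_smul_eq b₁ ω
  have hnM : (n : A) ∈ M := hle n.2
  have h1 := hnM 1
  rw [one_smul] at h1
  rw [← hn, ← h1]
  exact Set.smul_mem_smul_set hb₁

/-- Let `p` be a prime, `m ≥ 2`, and `G` a transitive but not doubly transitive permutation group on `p ^ m` points containing a permutation of order `p ^ m` (necessarily a full cycle). Then `G` is imprimitive, and the normal closure in `G` of the `p ^ (m - 1)`-th power of that permutation is an intransitive normal subgroup. -/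
theorem result {Ω : Type*} [Fintype Ω] [DecidableEq Ω] (p m : ℕ) (hp : p.Prime) (hm : 2 ≤ m) (hΩ : Fintype.card Ω = p ^ m) (G : Subgroup (Equiv.Perm Ω)) (htr : MulAction.IsPretransitive G Ω) (h2 : ¬ MulAction.IsMultiplyPretransitive G Ω 2) (g : G) (hg : orderOf g = p ^ m) : ¬ MulAction.IsPreprimitive G Ω ∧ ¬ MulAction.IsPretransitive (Subgroup.normalClosure ({g ^ (p ^ (m - 1))} : Set G)) Ω := by
  have hp1 := hp.one_lt
  haveI : Fact p.Prime := ⟨hp⟩
  set C : Subgroup ↥G := Subgroup.zpowers g with hCdef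
  set gC : ↥C := ⟨g, Subgroup.mem_zpowers g⟩ with hgC
  have hgen : ∀ a : ↥C, a ∈ Subgroup.zpowers gC := by
    rintro ⟨a, ha⟩
    obtain ⟨k, rfl⟩ := Subgroup.mem_zpowers_iff.mp ha
    exact ⟨k, Subtype.ext (by simp [hgC])⟩
  have hordC : orderOf gC = p ^ m := by
    rw [← hg, ← Subgroup.orderOf_coe gC]
  have hcardC : Nat.card ↥C = p ^ m := by
    rw [← hordC]; exact (orderOf_eq_card_of_forall_mem_zpowers hgen).symm
  have hz1 : gC ^ (p ^ (m - 1)) ≠ 1 := by
    intro h
    have h3 := orderOf_dvd_of_pow_eq_one h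
    rw [hordC] at h3
    have h4 := Nat.le_of_dvd (pow_pos hp.pos _) h3
    have h5 : p ^ (m - 1) < p ^ m := Nat.pow_lt_pow_right hp1 (by omega)
    omega
  -- a point moved by z
  obtain ⟨ω₀, hω₀⟩ : ∃ ω : Ω, (gC ^ (p ^ (m - 1))) • ω ≠ ω := by
    by_contra hall
    push Not at hall
    apply hz1
    apply Subtype.ext
    apply Subtype.ext
    apply Equiv.ext
    intro ω
    exact hall ω
  have hstab0 : stabilizer ↥C ω₀ = ⊥ := by
    by_contra hne
    exact hω₀ (pow_mem_of_ne_bot hp (by omega) gC hgen hordC _ hne)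
  have hcardΩ : Nat.card Ω = p ^ m := by rw [Nat.card_eq_fintype_card, hΩ]
  have horb : orbit ↥C ω₀ = Set.univ := by
    have h3 := index_stabilizer (G := ↥C) (x := ω₀)
    rw [hstab0, Subgroup.index_bot, hcardC] at h3
    apply Set.eq_of_subset_of_ncard_le (Set.subset_univ _)
    rw [Set.ncard_univ, hcardΩ, ← h3]
  have htrC : IsPretransitive ↥C Ω := (isPretransitive_iff_orbit_eq_univ ω₀).mpr horb
  have hstab : ∀ a : Ω, stabilizer ↥C a = ⊥ := by
    intro a
    have h3 := index_stabilizer_of_transitive (G := ↥C) (X := Ω) (x := a)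
    rw [hcardΩ] at h3
    have h4 := (stabilizer ↥C a).card_mul_index
    rw [h3, hcardC] at h4
    have h5 : Nat.card (stabilizer ↥C a) = 1 := by
      have hpos : 0 < p ^ m := pow_pos hp.pos m
      exact Nat.eq_of_mul_eq_mul_right hpos (by rw [h4, one_mul])
    exact Subgroup.card_eq_one.mp h5
  haveI : Nonempty Ω := ⟨ω₀⟩
  have hcomm : ∀ a b : ↥C, a * b = b * a := by
    intro a b
    haveI : IsCyclic ↥C := ⟨⟨gC, hgen⟩⟩
    letI : CommGroup ↥C := IsCyclic.commGroup
    exact mul_comm a b
  have hPcard : Nat.card {c : ↥C // c ^ p = 1} = p := by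
    haveI : IsCyclic ↥C := ⟨⟨gC, hgen⟩⟩
    letI : CommGroup ↥C := IsCyclic.commGroup
    have := IsCyclic.card_powMonoidHom_ker (G := ↥C) p
    rw [hcardC, Nat.gcd_eq_right (dvd_pow_self p (by omega))] at this
    refine Eq.trans ?_ this
    apply Nat.card_congr
    apply Equiv.subtypeEquivRight
    intro c
    rw [MonoidHom.mem_ker, powMonoidHom_apply]
  have hnprim : ¬ MulAction.IsPreprimitive G Ω := by
    intro hprim
    apply h2
    apply two_transitive_of_subgroup hprim C hcomm ⟨htrC, hstab⟩ p hPcard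
    rw [hcardΩ]
    intro h
    have h5 : p ^ 1 < p ^ m := Nat.pow_lt_pow_right hp1 (by omega)
    rw [pow_one] at h5
    omega
  refine ⟨hnprim, ?_⟩
  apply not_trans_normalClosure htr hnprim
  intro B hB hBs
  -- the setwise stabilizer of `B` in `C` is nontrivial
  have hL : stabilizer ↥C B ≠ ⊥ := by
    intro hbot
    rw [Set.Subsingleton] at hBs
    push Not at hBs
    obtain ⟨b₁, hb₁, b₂, hb₂, hne⟩ := hBs
    obtain ⟨c, hc⟩ := htrC.exists_smul_eq b₁ b₂
    have hcB : c ∈ stabilizer ↥C B := by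
      rw [mem_stabilizer_iff]
      have : (c : ↥G) • B = B := by
        apply (isBlock_iff_smul_eq_of_mem.mp hB) hb₁
        show (c : ↥G) • b₁ ∈ B
        have : (c : ↥G) • b₁ = b₂ := hc
        rw [this]; exact hb₂
      exact this
    rw [hbot, Subgroup.mem_bot] at hcB
    rw [hcB, one_smul] at hc
    exact hne hc
  have h3 := pow_mem_of_ne_bot hp (by omega) gC hgen hordC _ hL
  rw [mem_stabilizer_iff] at h3
  exact h3

end Cfsg.Agent.S3972
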