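import Mathlib
import Cfsg.Statements.S3973
import Cfsg.Agent.Lib.Helper7.Hopf1
import Cfsg.Agent.Lib.Helper7.Schur7

set_option autoImplicit false
open Cfsg

namespace Cfsg.Agent.S3973

open scoped commutatorElement
open Cfsg.Agent.Lib.Helper7

section main

variable {n : ℕ}

/-- The abelianisation map of the free group, to `ℤ^n`. -/
noncomputable def ab (n : ℕ) : FreeGroup (Fin n) →* Multiplicative (Fin n → ℤ) :=
  FreeGroup.lift (fun i => Multiplicative.ofAdd (Pi.single i 1))

theorem ab_surjective (n : ℕ) : Function.Surjective (ab n) := by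
  classical
  rw [← MonoidHom.range_eq_top, ab, FreeGroup.range_lift_eq_closure]
  rw [eq_top_iff]
  intro v _
  have h1 : v = ∏ i : Fin n, (Multiplicative.ofAdd (Pi.single i (1:ℤ) : Fin n → ℤ)) ^
      ((Multiplicative.toAdd v) i) := by
    have h2 : Multiplicative.toAdd v = ∑ i : Fin n, Pi.single i ((Multiplicative.toAdd v) i) :=
      (Finset.univ_sum_single _).symm
    have h3 : v = Multiplicative.ofAdd (∑ i : Fin n, Pi.single i ((Multiplicative.toAdd v) i)) := by
      rw [← h2]; rfl
    rw [h3, ofAdd_sum]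
    refine Finset.prod_congr rfl (fun i _ => ?_)
    rw [← ofAdd_zsmul]
    congr 1
    ext k
    simp [Pi.single_apply]
  rw [h1]
  refine Subgroup.prod_mem _ (fun i _ => Subgroup.zpow_mem _
    (Subgroup.subset_closure (Set.mem_range_self i)) _)

theorem ab_commutator (n : ℕ) {f : FreeGroup (Fin n)} (hf : f ∈ commutator (FreeGroup (Fin n))) :
    ab n f = 1 :=
  Abelianization.commutator_subset_ker (ab n) hf

theorem core (rels : Finset (FreeGroup (Fin n)))
    [Finite (PresentedGroup (rels : Set (FreeGroup (Fin n))))]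
    {Γ : Type*} [Group Γ] (σ : Γ →* PresentedGroup (rels : Set (FreeGroup (Fin n))))
    (hσ : IsStemExtension σ) {A : Type*} [CommGroup A] [Finite A] (j : A →* Γ)
    (hj : Function.Injective j) (hr : j.range = σ.ker) : Group.rank A ≤ rels.card - n := by
  classical
  obtain ⟨R, hR⟩ : ∃ R : Set (FreeGroup (Fin n)), R = (rels : Set (FreeGroup (Fin n))) := ⟨_, rfl⟩
  -- the lift
  let ψ : FreeGroup (Fin n) →* Γ :=
    FreeGroup.lift (fun i => Classical.choose (hσ.1 (PresentedGroup.of i)))
  have hψ : ∀ f, σ (ψ f) = PresentedGroup.mk (rels : Set (FreeGroup (Fin n))) f := by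
    have : σ.comp ψ = PresentedGroup.mk (rels : Set (FreeGroup (Fin n))) := by
      ext i
      simp only [MonoidHom.comp_apply, ψ, FreeGroup.lift_apply_of]
      exact Classical.choose_spec (hσ.1 (PresentedGroup.of i))
    intro f
    exact DFunLike.congr_fun this f
  have hmk1 : ∀ f, PresentedGroup.mk (rels : Set (FreeGroup (Fin n))) f = 1 ↔
      f ∈ Subgroup.normalClosure (rels : Set (FreeGroup (Fin n))) :=
    fun f => QuotientGroup.eq_one_iff f
  have hjker : ∀ a, j a ∈ σ.ker := fun a => hr ▸ ⟨a, rfl⟩
  have hcen : ∀ a, j a ∈ Subgroup.center Γ := fun a => hσ.2.1 (hjker a)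
  -- choose κ
  have hκ : ∀ i : rels, ∃ a : A, j a = ψ i.1 := by
    intro i
    have : ψ i.1 ∈ σ.ker := by
      rw [MonoidHom.mem_ker, hψ, hmk1]
      exact Subgroup.subset_normalClosure i.2
    rw [← hr] at this
    exact this
  choose κ hκ using hκ
  let θ : (rels → ℤ) →ₗ[ℤ] Additive A :=
    Fintype.linearCombination ℤ (fun i => Additive.ofMul (κ i))
  let lam : (rels → ℤ) →ₗ[ℤ] (Fin n → ℤ) :=
    Fintype.linearCombination ℤ (fun i => Multiplicative.toAdd (ab n i.1))
  -- the product map
  let Φ : FreeGroup (Fin n) →* Γ × Multiplicative (Fin n → ℤ) := ψ.prod (ab n)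
  let Wmap : Multiplicative (rels → ℤ) →* Γ × Multiplicative (Fin n → ℤ) :=
    (j.comp (AddMonoidHom.toMultiplicativeLeft θ.toAddMonoidHom)).prod
      (AddMonoidHom.toMultiplicative lam.toAddMonoidHom)
  have hWc : Wmap.range ≤ Subgroup.center (Γ × Multiplicative (Fin n → ℤ)) := by
    rintro _ ⟨v, rfl⟩
    rw [Subgroup.mem_center_iff]
    intro g
    apply Prod.ext
    · exact Subgroup.mem_center_iff.1 (hcen _) g.1
    · exact mul_comm _ _
  haveI hWn : Wmap.range.Normal := Schur.normal_of_le_center _ hWc
  have hrelW : ∀ f ∈ Subgroup.normalClosure (rels : Set (FreeGroup (Fin n))),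
      Φ f ∈ Wmap.range := by
    have h1 : Subgroup.normalClosure (rels : Set (FreeGroup (Fin n))) ≤ Wmap.range.comap Φ := by
      apply Subgroup.normalClosure_le_normal
      intro r hr'
      rw [SetLike.mem_coe, Subgroup.mem_comap]
      refine ⟨Multiplicative.ofAdd (Pi.single ⟨r, hr'⟩ 1), ?_⟩
      apply Prod.ext
      · show j (Additive.toMul (θ (Pi.single ⟨r, hr'⟩ 1))) = ψ r
        rw [Fintype.linearCombination_apply_single, one_smul]
        exact hκ ⟨r, hr'⟩
      · show Multiplicative.ofAdd (lam (Pi.single ⟨r, hr'⟩ 1)) = ab n r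
        rw [Fintype.linearCombination_apply_single, one_smul]
        rfl
    intro f hf
    exact h1 hf
  have hkey : ∀ f ∈ Subgroup.normalClosure (rels : Set (FreeGroup (Fin n))),
      ∃ v : rels → ℤ, j (Additive.toMul (θ v)) = ψ f ∧ lam v = Multiplicative.toAdd (ab n f) := by
    intro f hf
    obtain ⟨v, hv⟩ := hrelW f hf
    refine ⟨Multiplicative.toAdd v, ?_, ?_⟩
    · exact congrArg Prod.fst hv
    · have := congrArg Prod.snd hv
      exact congrArg Multiplicative.toAdd this
  -- finite index
  have hfin : (LinearMap.range lam).toAddSubgroup.FiniteIndex := by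
    let q : FreeGroup (Fin n) →* Multiplicative ((Fin n → ℤ) ⧸ (LinearMap.range lam).toAddSubgroup) :=
      (AddMonoidHom.toMultiplicative (QuotientAddGroup.mk' (LinearMap.range lam).toAddSubgroup)).comp
        (ab n)
    have hq : Subgroup.normalClosure (rels : Set (FreeGroup (Fin n))) ≤ q.ker := by
      apply Subgroup.normalClosure_le_normal
      intro r hr'
      rw [SetLike.mem_coe, MonoidHom.mem_ker]
      show Multiplicative.ofAdd (QuotientAddGroup.mk' _ (Multiplicative.toAdd (ab n r))) = 1
      have : Multiplicative.toAdd (ab n r) ∈ (LinearMap.range lam).toAddSubgroup := by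
        refine ⟨Pi.single ⟨r, hr'⟩ 1, ?_⟩
        rw [Fintype.linearCombination_apply_single, one_smul]
      have h0 : QuotientAddGroup.mk' (LinearMap.range lam).toAddSubgroup
          (Multiplicative.toAdd (ab n r)) = 0 := (QuotientAddGroup.eq_zero_iff _).2 this
      rw [h0]
      rfl
    let q' : PresentedGroup (rels : Set (FreeGroup (Fin n))) →*
        Multiplicative ((Fin n → ℤ) ⧸ (LinearMap.range lam).toAddSubgroup) :=
      QuotientGroup.lift _ q hq
    have hq' : Function.Surjective q' := by
      intro x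
      obtain ⟨y, hy⟩ := QuotientAddGroup.mk'_surjective _ (Multiplicative.toAdd x)
      obtain ⟨f, hf⟩ := ab_surjective n (Multiplicative.ofAdd y)
      refine ⟨PresentedGroup.mk _ f, ?_⟩
      show q f = x
      show Multiplicative.ofAdd (QuotientAddGroup.mk' _ (Multiplicative.toAdd (ab n f))) = x
      rw [hf, toAdd_ofAdd, hy]
      rfl
    haveI : Finite (Multiplicative ((Fin n → ℤ) ⧸ (LinearMap.range lam).toAddSubgroup)) :=
      Finite.of_surjective q' hq'
    haveI : Finite ((Fin n → ℤ) ⧸ (LinearMap.range lam).toAddSubgroup) :=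
      Finite.of_equiv _ Multiplicative.toAdd
    exact AddSubgroup.finiteIndex_of_finite_quotient
  obtain ⟨m, b, hmn, hb0, hbspan⟩ := Hopf.exists_ker_gens lam hfin
  -- commutators come from the free group
  have hcomm : commutator Γ ≤ (commutator (FreeGroup (Fin n))).map ψ := by
    rw [commutator_eq_closure, Subgroup.closure_le]
    rintro _ ⟨g₁, g₂, rfl⟩
    obtain ⟨f₁, hf₁⟩ := QuotientGroup.mk'_surjective _ (σ g₁)
    obtain ⟨f₂, hf₂⟩ := QuotientGroup.mk'_surjective _ (σ g₂)
    have hz : ∀ (g : Γ) (f : FreeGroup (Fin n)),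
        PresentedGroup.mk (rels : Set (FreeGroup (Fin n))) f = σ g →
        (ψ f)⁻¹ * g ∈ Subgroup.center Γ := by
      intro g f hgf
      apply hσ.2.1
      rw [MonoidHom.mem_ker, map_mul, map_inv, hψ, hgf, inv_mul_cancel]
    have h1 := hz g₁ f₁ hf₁
    have h2 := hz g₂ f₂ hf₂
    refine ⟨⁅f₁, f₂⁆, Subgroup.commutator_mem_commutator (Subgroup.mem_top _) (Subgroup.mem_top _), ?_⟩
    rw [map_commutatorElement]
    have e1 : g₁ = ψ f₁ * ((ψ f₁)⁻¹ * g₁) := by group
    have e2 : g₂ = ψ f₂ * ((ψ f₂)⁻¹ * g₂) := by group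
    rw [e1, e2, Schur.commutatorElement_mul_central _ _ _ _ h1 h2]
  -- every element of `A` is a combination of the `θ (b i)`
  have hgen : ∀ a : A, ∃ v, lam v = 0 ∧ Additive.toMul (θ v) = a := by
    intro a
    obtain ⟨f, hf, hfa⟩ := hcomm (hσ.2.2 (hjker a))
    have hfR : f ∈ Subgroup.normalClosure (rels : Set (FreeGroup (Fin n))) := by
      rw [← hmk1, ← hψ, hfa]
      exact hjker a
    obtain ⟨v, hv1, hv2⟩ := hkey f hfR
    refine ⟨v, ?_, ?_⟩
    · rw [hv2, ab_commutator n hf]
      rfl
    · apply hj
      rw [hv1, hfa]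
  let S : Finset A := Finset.univ.image (fun i : Fin m => Additive.toMul (θ (b i)))
  have hS : Subgroup.closure (S : Set A) = ⊤ := by
    rw [eq_top_iff]
    intro a _
    obtain ⟨v, hv0, hva⟩ := hgen a
    have hvs := hbspan v hv0
    rw [← hva]
    clear hva hv0
    induction hvs using Submodule.span_induction with
    | mem x hx =>
      obtain ⟨i, rfl⟩ := hx
      apply Subgroup.subset_closure
      rw [Finset.mem_coe, Finset.mem_image]
      exact ⟨i, Finset.mem_univ _, rfl⟩
    | zero =>
      rw [map_zero]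
      exact Subgroup.one_mem _
    | add x y _ _ hx hy =>
      rw [map_add]
      exact Subgroup.mul_mem _ hx hy
    | smul c x _ hx =>
      rw [map_smul]
      exact Subgroup.zpow_mem _ hx c
  have h1 : Group.rank A ≤ S.card := Group.rank_le hS
  have h2 : S.card ≤ m := by
    refine Finset.card_image_le.trans ?_
    simp
  have h3 : Fintype.card rels = rels.card := Fintype.card_coe rels
  omega

end main

/-- If a finite group is presented by `n` generators and a finite set of `r` relators, then its Schur multiplier can be generated by `r - n` elements. In particular a finite group with a presentation having as many relators as generators has trivial Schur multiplier. -/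
theorem result (n : ℕ) (rels : Finset (FreeGroup (Fin n))) [Finite (PresentedGroup (rels : Set (FreeGroup (Fin n))))] {A : Type*} [CommGroup A] [Finite A] (hA : Cfsg.HasSchurMultiplier (PresentedGroup (rels : Set (FreeGroup (Fin n)))) A) : Group.rank A ≤ rels.card - n := by
  obtain ⟨Γ, hΓ, hF, σ, hσ, ⟨e⟩⟩ := hA.1
  refine core rels σ hσ (σ.ker.subtype.comp e.symm.toMonoidHom) ?_ ?_
  · exact (Subgroup.subtype_injective _).comp e.symm.injective
  · ext x
    constructor
    · rintro ⟨a, rfl⟩
      exact (e.symm a).2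
    · intro hx
      exact ⟨e ⟨x, hx⟩, by simp⟩

end Cfsg.Agent.S3973
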