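import Mathlib
import Cfsg.Statements.S3974
import Cfsg.Agent.Lib.Helper7.Schur17

set_option autoImplicit false
universe u v
open Cfsg

namespace Cfsg.Agent.S3974

open Cfsg.Agent.Lib.Helper7.Schur

/-- A cyclic direct factor of order divisible by `p` of the abelianisation. -/
theorem exists_cyclic_factor {Q : Type u} [Group Q] [Finite Q] (p : ℕ) (hp : p.Prime)
    (hdvd : p ∣ Nat.card (Abelianization Q)) :
    ∃ (m : ℕ) (χ : Q →* Multiplicative (ZMod m)) (q₀ : Q), p ∣ m ∧ m ≠ 0 ∧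
      χ q₀ = Multiplicative.ofAdd 1 ∧ q₀ ^ m ∈ commutator Q := by
  classical
  obtain ⟨ι, hι, n, hn, ⟨ε⟩⟩ := CommGroup.equiv_prod_multiplicative_zmod_of_finite (Abelianization Q)
  have hcard : Nat.card (Abelianization Q) = ∏ i, n i := by
    rw [Nat.card_congr ε.toEquiv, Nat.card_pi]
    refine Finset.prod_congr rfl (fun i _ => ?_)
    rw [Nat.card_congr Multiplicative.toAdd, Nat.card_zmod]
  rw [hcard] at hdvd
  obtain ⟨i₀, -, hi₀⟩ := (Prime.dvd_finset_prod_iff hp.prime _).1 hdvd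
  have hm : n i₀ ≠ 0 := by have := hn i₀; omega
  obtain ⟨q₀, hq₀⟩ := QuotientGroup.mk_surjective
    (ε.symm (Pi.mulSingle i₀ (Multiplicative.ofAdd (1 : ZMod (n i₀)))))
  refine ⟨n i₀, (Pi.evalMonoidHom _ i₀).comp (ε.toMonoidHom.comp Abelianization.of), q₀, hi₀, hm,
    ?_, ?_⟩
  · show (ε (Abelianization.of q₀)) i₀ = _
    have : Abelianization.of q₀ =
        ε.symm (Pi.mulSingle i₀ (Multiplicative.ofAdd (1 : ZMod (n i₀)))) := hq₀
    rw [this, ε.apply_symm_apply, Pi.mulSingle_eq_same]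
  · rw [← Abelianization.ker_of, MonoidHom.mem_ker, map_pow]
    have : Abelianization.of q₀ =
        ε.symm (Pi.mulSingle i₀ (Multiplicative.ofAdd (1 : ZMod (n i₀)))) := hq₀
    rw [this, ← map_pow]
    have h1 : (Pi.mulSingle i₀ (Multiplicative.ofAdd (1 : ZMod (n i₀))) :
        (i : ι) → Multiplicative (ZMod (n i))) ^ (n i₀) = 1 := by
      ext j
      rw [Pi.pow_apply]
      by_cases hj : j = i₀
      · subst hj
        rw [Pi.mulSingle_eq_same, ← ofAdd_nsmul]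
        simp
      · rw [Pi.mulSingle_eq_of_ne hj, one_pow]
        rfl
    rw [h1, map_one]

theorem exists_not_pow {A : Type v} [CommGroup A] [Finite A] (p : ℕ) (hp : p.Prime)
    (hdvd : p ∣ Nat.card A) : ∃ a : A, ∀ b : A, b ^ p ≠ a := by
  by_contra hcon
  push Not at hcon
  have hsurj : Function.Surjective (powMonoidHom p : A →* A) := hcon
  have hinj := Finite.injective_iff_surjective.2 hsurj
  haveI : Fact p.Prime := ⟨hp⟩
  obtain ⟨x, hx⟩ := exists_prime_orderOf_dvd_card' p hdvd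
  have h1 : (powMonoidHom p : A →* A) x = (powMonoidHom p : A →* A) 1 := by
    rw [powMonoidHom_apply, powMonoidHom_apply, one_pow, ← hx, pow_orderOf_eq_one]
  have h2 := hinj h1
  rw [h2, orderOf_one] at hx
  exact hp.one_lt.ne hx

/-- Let `Q` be a finite group with Schur multiplier `A`. Any two Schur covering groups of `Q` (finite stem extensions `σ₁ : Γ₁ →* Q`, `σ₂ : Γ₂ →* Q` with kernels isomorphic to `A`, `Γ₁, Γ₂` in the universe of `Q`) are isomorphic over `Q` — there is a group isomorphism `e : Γ₁ ≃* Γ₂` with `σ₂ ∘ e = σ₁` — if and only if the order of the commutator quotient of `Q` is coprime to the order of `A`. In particular a finite perfect group has a unique Schur covering group up to isomorphism over it. -/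
theorem result {Q : Type u} [Group Q] [Finite Q] {A : Type v} [CommGroup A] (hA : Cfsg.HasSchurMultiplier Q A) : (∀ (Γ₁ Γ₂ : Type u) [Group Γ₁] [Finite Γ₁] [Group Γ₂] [Finite Γ₂] (σ₁ : Γ₁ →* Q) (σ₂ : Γ₂ →* Q), Cfsg.IsStemExtension σ₁ → Cfsg.IsStemExtension σ₂ → Nonempty (σ₁.ker ≃* A) → Nonempty (σ₂.ker ≃* A) → ∃ e : Γ₁ ≃* Γ₂, σ₂.comp e.toMonoidHom = σ₁) ↔ Nat.Coprime (Nat.card (Abelianization Q)) (Nat.card A) := by
  constructor
  · intro H
    by_contra hncop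
    obtain ⟨p, hp, hp1, hp2⟩ := Nat.Prime.not_coprime_iff_dvd.1 hncop
    obtain ⟨Γ₁, hG, hF, σ₁, hσ₁, ⟨e₁⟩⟩ := hA.1
    haveI : Finite A := Finite.of_equiv _ e₁.toEquiv
    obtain ⟨m, χ, q₀, hpm, hm, hχ, hq₀⟩ := exists_cyclic_factor p hp hp1
    obtain ⟨a', ha'⟩ := exists_not_pow p hp hp2
    let d : Twist.Data Γ₁ Q :=
      { σ := σ₁, m := m, χ := χ, a₀ := (e₁.symm a' : Γ₁), hstem := hσ₁, ha₀ := (e₁.symm a').2,
        hm := hm }
    haveI : Finite (Twist.Tw d) := Twist.Tw_finite d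
    obtain ⟨e, he⟩ := H Γ₁ (Twist.Tw d) σ₁ (Twist.σT d) hσ₁ (Twist.σT_isStem d) ⟨e₁⟩
      ⟨(Twist.kerEquiv d).symm.trans e₁⟩
    obtain ⟨g₀, hg₀⟩ := hσ₁.1 q₀
    have hg₀m : g₀ ^ m ∈ commutator Γ₁ := by
      have h3 : σ₁ (g₀ ^ m) ∈ commutator Q := by rw [map_pow, hg₀]; exact hq₀
      obtain ⟨w, hw, hwe⟩ := exists_mem_commutator_map σ₁ hσ₁.1 h3
      have h4 : g₀ ^ m * w⁻¹ ∈ commutator Γ₁ := by
        apply hσ₁.2.2
        rw [MonoidHom.mem_ker, map_mul, map_inv, hwe, mul_inv_cancel]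
      have := Subgroup.mul_mem _ h4 hw
      simpa using this
    obtain ⟨c, hc, hcm⟩ := Twist.exists_root_of_iso d e he g₀ (by show χ (σ₁ g₀) = _; rw [hg₀, hχ])
      hg₀m
    obtain ⟨m', rfl⟩ := hpm
    apply ha' (e₁ ⟨c ^ m', Subgroup.pow_mem _ hc m'⟩)
    rw [← map_pow]
    have : (⟨c ^ m', Subgroup.pow_mem _ hc m'⟩ : σ₁.ker) ^ p = e₁.symm a' := by
      apply Subtype.ext
      show (c ^ m') ^ p = (e₁.symm a' : Γ₁)
      rw [← pow_mul, mul_comm]
      exact hcm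
    rw [this, e₁.apply_symm_apply]
  · intro hcop Γ₁ Γ₂ _ _ _ _ σ₁ σ₂ h₁ h₂ ⟨e₁⟩ ⟨e₂⟩
    exact exists_iso_of_coprime hA hcop σ₁ σ₂ h₁ h₂ e₁ e₂

end Cfsg.Agent.S3974
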