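import Cfsg.Statements.S3978
import Mathlib
import Cfsg.Agent.Lib.Helper7.Schur9

set_option autoImplicit false
open Cfsg

namespace Cfsg.Agent.S3978

open Cfsg.Agent.Lib.Helper7 Cfsg.Agent.Lib.Helper7.Schur

/-- A finite group `Q` has trivial Schur multiplier if and only if, for every `n`, every homomorphism from `Q` to the projective general linear group (the quotient of `GL n ℂ` by its centre) lifts to a homomorphism into `GL n ℂ`. -/
theorem result {Q : Type*} [Group Q] [Finite Q] : Cfsg.HasCyclicSchurMultiplier Q 1 ↔ ∀ (n : ℕ) (γ : Q →* (GL (Fin n) ℂ ⧸ Subgroup.center (GL (Fin n) ℂ))), ∃ ρ : Q →* GL (Fin n) ℂ, (QuotientGroup.mk' (Subgroup.center (GL (Fin n) ℂ))).comp ρ = γ := by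
  have hid : Cfsg.IsStemExtension (MonoidHom.id Q) := by
    refine ⟨Function.surjective_id, ?_, ?_⟩
    · rw [MonoidHom.ker_id]; exact bot_le
    · rw [MonoidHom.ker_id]; exact bot_le
  constructor
  · intro hM n γ
    haveI : Finite (Multiplicative (ZMod 1)) := by
      show Finite (Multiplicative (Fin 1))
      infer_instance
    have hcard : Nat.card (Multiplicative (ZMod 1)) ≤ Nat.card (MonoidHom.id Q).ker := by
      have : Nat.card (Multiplicative (ZMod 1)) = 1 := by
        show Nat.card (Multiplicative (Fin 1)) = 1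
        simp
      rw [this]
      exact Nat.card_pos
    obtain ⟨ρ, hρ⟩ := exists_lift_of_cover hM (MonoidHom.id Q) hid hcard n γ
    exact ⟨ρ, by rw [hρ, MonoidHom.comp_id]⟩
  · intro hlift
    apply hasCyclicSchurMultiplier_one
    intro Δ _ _ τ hτ
    have hkey : ∀ x : fp (MonoidHom.id Q) τ, x ∈ commutator (fp (MonoidHom.id Q) τ) →
        x.1.1 = 1 → x.1.2 = 1 := by
      intro x hx hx1
      apply snd_eq_one_of_lifting (MonoidHom.id Q) τ hτ.1 hτ.2.1 _ x hx hx1
      intro n γ
      obtain ⟨ρ, hρ⟩ := hlift n γ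
      exact ⟨ρ, by rw [hρ, MonoidHom.comp_id]⟩
    obtain ⟨f, hf⟩ := ker_surjection_of_fp (MonoidHom.id Q) τ hid.1 hτ.1 hid.2.2 hτ.2.2 hkey
    rw [eq_bot_iff]
    intro k hk
    obtain ⟨a, ha⟩ := hf ⟨k, hk⟩
    have h1 : a = 1 := by
      apply Subtype.ext
      have h2 : (a : Q) ∈ (MonoidHom.id Q).ker := a.2
      rw [MonoidHom.mem_ker] at h2
      exact h2
    rw [h1, map_one] at ha
    rw [Subgroup.mem_bot]
    exact (congrArg Subtype.val ha).symm

end Cfsg.Agent.S3978
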