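import Cfsg.Statements.S3980
import Mathlib
import Cfsg.Agent.Lib.Helper7.Schur11

set_option autoImplicit false
open Cfsg

namespace Cfsg.Agent.S3980

open Cfsg.Agent.Lib.Helper7 Cfsg.Agent.Lib.Helper7.Schur

universe u v w

/-- The product of two stem extensions is a stem extension. -/
theorem prodMap_isStemExtension {Γ₁ : Type*} {Γ₂ : Type*} {Q₁ : Type*} {Q₂ : Type*} [Group Γ₁]
    [Group Γ₂] [Group Q₁] [Group Q₂] (σ₁ : Γ₁ →* Q₁) (σ₂ : Γ₂ →* Q₂)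
    (h₁ : Cfsg.IsStemExtension σ₁) (h₂ : Cfsg.IsStemExtension σ₂) :
    Cfsg.IsStemExtension (MonoidHom.prodMap σ₁ σ₂) := by
  refine ⟨Function.Surjective.prodMap h₁.1 h₂.1, ?_, ?_⟩
  · intro x hx
    rw [MonoidHom.mem_ker] at hx
    have hx1 : σ₁ x.1 = 1 := congrArg Prod.fst hx
    have hx2 : σ₂ x.2 = 1 := congrArg Prod.snd hx
    have c1 := Subgroup.mem_center_iff.1 (h₁.2.1 hx1)
    have c2 := Subgroup.mem_center_iff.1 (h₂.2.1 hx2)
    rw [Subgroup.mem_center_iff]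
    intro y
    exact Prod.ext (c1 y.1) (c2 y.2)
  · intro x hx
    rw [MonoidHom.mem_ker] at hx
    have hx1 : σ₁ x.1 = 1 := congrArg Prod.fst hx
    have hx2 : σ₂ x.2 = 1 := congrArg Prod.snd hx
    have e : x = (MonoidHom.inl Γ₁ Γ₂ x.1) * (MonoidHom.inr Γ₁ Γ₂ x.2) := by
      apply Prod.ext <;> simp
    rw [e]
    exact Subgroup.mul_mem _ (map_mem_commutator _ (h₁.2.2 hx1))
      (map_mem_commutator _ (h₂.2.2 hx2))

/-- Let `Q₁` and `Q₂` be finite groups whose commutator quotients have coprime orders, with Schur multipliers `A` and `B`. Then the Schur multiplier of `Q₁ × Q₂` is isomorphic to `A × B`. -/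
theorem result {Q₁ : Type u} {Q₂ : Type v} [Group Q₁] [Group Q₂] [Finite Q₁] [Finite Q₂] {A B : Type w} [CommGroup A] [CommGroup B] (hA : Cfsg.HasSchurMultiplier Q₁ A) (hB : Cfsg.HasSchurMultiplier Q₂ B) (hcop : Nat.Coprime (Nat.card (Abelianization Q₁)) (Nat.card (Abelianization Q₂))) : Cfsg.HasSchurMultiplier (Q₁ × Q₂) (A × B) := by
  constructor
  · obtain ⟨Γ₁, hG₁, hF₁, σ₁, hσ₁, ⟨e₁⟩⟩ := hA.1
    obtain ⟨Γ₂, hG₂, hF₂, σ₂, hσ₂, ⟨e₂⟩⟩ := hB.1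
    refine ⟨Γ₁ × Γ₂, inferInstance, inferInstance, MonoidHom.prodMap σ₁ σ₂,
      prodMap_isStemExtension σ₁ σ₂ hσ₁ hσ₂, ⟨?_⟩⟩
    have hk : (MonoidHom.prodMap σ₁ σ₂).ker = σ₁.ker.prod σ₂.ker := MonoidHom.ker_prodMap σ₁ σ₂
    exact (MulEquiv.subgroupCongr hk).trans
      ((Subgroup.prodEquiv σ₁.ker σ₂.ker).trans (MulEquiv.prodCongr e₁ e₂))
  · intro Δ _ _ τ hτ
    obtain ⟨fA, hfA⟩ := exists_hom_D1 hA τ hτ.1 hτ.2.1
    obtain ⟨fB, hfB⟩ := exists_hom_D2 hB τ hτ.1 hτ.2.1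
    have hAk : ∀ a, fA a ∈ τ.ker := fun a => by
      have : fA a ∈ fA.range := ⟨a, rfl⟩
      rw [hfA] at this
      exact this.1
    have hBk : ∀ b, fB b ∈ τ.ker := fun b => by
      have : fB b ∈ fB.range := ⟨b, rfl⟩
      rw [hfB] at this
      exact this.1
    have hcomm : ∀ a b, Commute (fA a) (fB b) := fun a b =>
      (Subgroup.mem_center_iff.1 (hτ.2.1 (hAk a)) (fB b)).symm
    let F : A × B →* Δ := fA.noncommCoprod fB hcomm
    have hFk : ∀ x, F x ∈ τ.ker := fun x => Subgroup.mul_mem _ (hAk x.1) (hBk x.2)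
    refine ⟨F.codRestrict τ.ker hFk, ?_⟩
    rintro ⟨x, hx⟩
    have h1 : x ∈ τ.ker ⊓ commutator Δ := ⟨hx, hτ.2.2 hx⟩
    have h2 := ker_inf_commutator_le τ hτ.1 h1
    rw [commutator_D1_D2_eq_bot τ hτ.1 hτ.2.1 hcop, sup_bot_eq, ← hfA, ← hfB] at h2
    have hn : fB.range.Normal := by
      rw [hfB]
      infer_instance
    rw [Subgroup.mem_sup_of_normal_right] at h2
    obtain ⟨_, ⟨a, rfl⟩, _, ⟨b, rfl⟩, hab⟩ := h2
    refine ⟨(a, b), ?_⟩
    apply Subtype.ext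
    exact hab

end Cfsg.Agent.S3980
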