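import Mathlib
import Cfsg.Statements.S3981
import Cfsg.Agent.Lib.Helper7.Wielandt1
import Cfsg.Agent.Lib.Lead.CoprimeSylow4

set_option autoImplicit false
open Cfsg

namespace Cfsg.Agent.S3981

open Cfsg.Agent.Lib.Helper7

theorem pow_mod {G : Type*} [Group G] (Q : Subgroup G) (t u : G)
    (hu : u ∈ Subgroup.normalizer (Q : Set G)) (htu : t * u⁻¹ ∈ Q) (j : ℕ) :
    t ^ j * (u ^ j)⁻¹ ∈ Q := by
  induction j with
  | zero => simp
  | succ j ih =>
    have h1 : t ^ (j + 1) * (u ^ (j + 1))⁻¹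
        = (t ^ j * (u ^ j)⁻¹) * (u ^ j * (t * u⁻¹) * (u ^ j)⁻¹) := by
      rw [pow_succ, pow_succ]; group
    rw [h1]
    refine Q.mul_mem ih ?_
    have huj : u ^ j ∈ Subgroup.normalizer (Q : Set G) := Subgroup.pow_mem _ hu j
    exact (Subgroup.mem_normalizer_iff.mp huj _).mp htu

theorem power_trick {G : Type*} [Group G] (p : ℕ) (Q : Subgroup G) (u : G) (huQ : u ∉ Q)
    (hup : ∃ k : ℕ, u ^ (p ^ k) = 1) :
    ∃ j : ℕ, u ^ (p ^ j) ∉ Q ∧ (u ^ (p ^ j)) ^ p ∈ Q := by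
  classical
  have hex : ∃ k : ℕ, u ^ (p ^ k) ∈ Q := by
    obtain ⟨k, hk⟩ := hup
    exact ⟨k, hk ▸ Q.one_mem⟩
  have hk := Nat.find_spec hex
  have hmin := fun m => Nat.find_min hex (m := m)
  set k := Nat.find hex with hkdef
  have hk0 : k ≠ 0 := by
    intro h0
    rw [h0, pow_zero, pow_one] at hk
    exact huQ hk
  obtain ⟨j, hj⟩ : ∃ j, k = j + 1 := ⟨k - 1, by omega⟩
  refine ⟨j, hmin j (by omega), ?_⟩
  rw [← pow_mul, ← pow_succ, ← hj]
  exact hk

/-- Let p be an odd prime, Q a p-subgroup of the finite group G and y an involution normalizing Q. Then Q is maximal among the p-subgroups of G normalized by y if and only if the image of y in N_G(Q) ⧸ Q neither inverts nor centralizes any element of order p there; the latter is phrased inside N_G(Q): for every x in N_G(Q) outside Q with x ^ p ∈ Q, neither y x y⁻¹ x nor y x y⁻¹ x⁻¹ lies in Q. -/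
theorem result {G : Type*} [Group G] [Finite G] (p : ℕ) [Fact p.Prime] (hp2 : p ≠ 2) (Q : Subgroup G) (hQ : IsPGroup p ↥Q) (y : G) (hy : orderOf y = 2) (hyQ : y ∈ Subgroup.normalizer (Q : Set G)) : (∀ R : Subgroup G, IsPGroup p ↥R → Q ≤ R → y ∈ Subgroup.normalizer (R : Set G) → R = Q) ↔ ∀ x : G, x ∈ Subgroup.normalizer (Q : Set G) → x ∉ Q → x ^ p ∈ Q → (y * x * y⁻¹ * x ∉ Q ∧ y * x * y⁻¹ * x⁻¹ ∉ Q) := by
  have hpp : p.Prime := Fact.out
  have hy2 : y * y = 1 := by rw [← pow_two, ← hy, pow_orderOf_eq_one]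
  have hyinv : y⁻¹ = y := inv_eq_of_mul_eq_one_left hy2
  constructor
  · intro hA x hxN hxQ hxp
    by_contra hcon
    have hcon' : y * x * y⁻¹ * x ∈ Q ∨ y * x * y⁻¹ * x⁻¹ ∈ Q := by
      by_contra h
      push_neg at h
      exact hcon h
    apply hxQ
    have hxpel : IsPGroup p (Subgroup.zpowers x) := by
      obtain ⟨k, hk⟩ := hQ ⟨x ^ p, hxp⟩
      have hk' : (x ^ p) ^ (p ^ k) = 1 := congrArg Subtype.val hk
      rintro ⟨g, hg⟩
      obtain ⟨i, rfl⟩ := Subgroup.mem_zpowers_iff.mp hg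
      refine ⟨k + 1, Subtype.ext ?_⟩
      show (x ^ i) ^ (p ^ (k + 1)) = 1
      rw [← zpow_natCast, ← zpow_mul, mul_comm, zpow_mul, zpow_natCast, pow_succ', pow_mul, hk',
        one_zpow]
    have hRp : IsPGroup p (Q ⊔ Subgroup.zpowers x : Subgroup G) :=
      IsPGroup.to_sup_of_normal_left' hQ hxpel (by rw [Subgroup.zpowers_le]; exact hxN)
    have hyx : y * x * y⁻¹ ∈ Q ⊔ Subgroup.zpowers x := by
      rcases hcon' with h | h
      · have : y * x * y⁻¹ = (y * x * y⁻¹ * x) * x⁻¹ := by group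
        rw [this]
        exact Subgroup.mul_mem_sup h (Subgroup.inv_mem _ (Subgroup.mem_zpowers x))
      · have : y * x * y⁻¹ = (y * x * y⁻¹ * x⁻¹) * x := by group
        rw [this]
        exact Subgroup.mul_mem_sup h (Subgroup.mem_zpowers x)
    have hyR : y ∈ Subgroup.normalizer ((Q ⊔ Subgroup.zpowers x : Subgroup G) : Set G) := by
      rw [mem_normalizer_iff_cj]
      apply cj_eq_of_le
      rw [cj_sup, mem_normalizer_iff_cj.mp hyQ]
      refine sup_le le_sup_left ?_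
      rintro _ ⟨z, hz, rfl⟩
      obtain ⟨i, rfl⟩ := Subgroup.mem_zpowers_iff.mp hz
      show y * x ^ i * y⁻¹ ∈ _
      rw [← conj_zpow]
      exact Subgroup.zpow_mem _ hyx i
    have hR := hA _ hRp le_sup_left hyR
    rw [← hR]
    exact (le_sup_right : Subgroup.zpowers x ≤ Q ⊔ Subgroup.zpowers x) (Subgroup.mem_zpowers x)
  · intro hB R hR hQR hyR
    by_contra hne
    have hlt : Q < R := lt_of_le_of_ne hQR (Ne.symm hne)
    have h1 := Cfsg.Agent.Lib.Lead.pgroup_normalizer_grows p R Q hR hlt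
    obtain ⟨m, hmM, hmQ⟩ := SetLike.exists_of_lt h1
    obtain ⟨hmR, hmN⟩ := Subgroup.mem_inf.mp hmM
    -- choose u
    have hu : ∃ u : G, u ∈ Subgroup.normalizer (Q : Set G) ∧ u ∈ R ∧ u ∉ Q ∧
        (y * u * y⁻¹ * u⁻¹ ∈ Q ∨ y * u * y⁻¹ * u ∈ Q) := by
      by_cases hc : y * m * y⁻¹ * m⁻¹ ∈ Q
      · exact ⟨m, hmN, hmR, hmQ, Or.inl hc⟩
      · refine ⟨y * m * y⁻¹ * m⁻¹, ?_, ?_, hc, Or.inr ?_⟩
        · exact Subgroup.mul_mem _ (Subgroup.mul_mem _ (Subgroup.mul_mem _ hyQ hmN)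
            (Subgroup.inv_mem _ hyQ)) (Subgroup.inv_mem _ hmN)
        · refine R.mul_mem ?_ (R.inv_mem hmR)
          exact (Subgroup.mem_normalizer_iff.mp hyR m).mp hmR
        · have : y * (y * m * y⁻¹ * m⁻¹) * y⁻¹ * (y * m * y⁻¹ * m⁻¹) = 1 := by
            rw [hyinv]
            calc y * (y * m * y * m⁻¹) * y * (y * m * y * m⁻¹)
                = (y * y) * m * y * m⁻¹ * (y * y) * m * y * m⁻¹ := by group
              _ = 1 := by
                rw [hy2]
                have : 1 * m * y * m⁻¹ * 1 * m * y * m⁻¹ = m * (y * y) * m⁻¹ := by group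
                rw [this, hy2]; group
          rw [this]; exact Q.one_mem
    obtain ⟨u, huN, huR, huQ, hu2⟩ := hu
    have hup : ∃ k : ℕ, u ^ (p ^ k) = 1 := by
      obtain ⟨k, hk⟩ := hR ⟨u, huR⟩
      exact ⟨k, congrArg Subtype.val hk⟩
    obtain ⟨j, hj1, hj2⟩ := power_trick p Q u huQ hup
    have hxN : u ^ (p ^ j) ∈ Subgroup.normalizer (Q : Set G) := Subgroup.pow_mem _ huN _
    obtain ⟨hb1, hb2⟩ := hB _ hxN hj1 hj2
    rcases hu2 with h | h
    · apply hb2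
      have := pow_mod Q (y * u * y⁻¹) u huN h (p ^ j)
      rwa [conj_pow] at this
    · apply hb1
      have h' : y * u * y⁻¹ * (u⁻¹)⁻¹ ∈ Q := by rwa [inv_inv]
      have := pow_mod Q (y * u * y⁻¹) u⁻¹ (Subgroup.inv_mem _ huN) h' (p ^ j)
      rwa [conj_pow, inv_pow, inv_inv] at this

end Cfsg.Agent.S3981
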