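import Mathlib
import Cfsg.Statements.S3982
import Cfsg.Agent.Lib.Helper7.Wielandt1
import Cfsg.Agent.Lib.Helper8.SylowIndex
import Cfsg.Agent.Lib.Lead.CoprimeTools

set_option autoImplicit false
open Cfsg

namespace Cfsg.Agent.S3982

open Cfsg.Agent.Lib.Helper7

/-- A fixed-point-free involution normalizing a finite subgroup inverts it. -/
theorem inverts_of_fpf {G : Type*} [Group G] (S : Subgroup G) [Finite S] (t : G)
    (ht : t * t = 1) (htS : t ∈ Subgroup.normalizer (S : Set G))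
    (hfpf : ∀ s ∈ S, s ≠ 1 → t * s ≠ s * t) : ∀ s ∈ S, t * s * t⁻¹ = s⁻¹ := by
  have htinv : t⁻¹ = t := inv_eq_of_mul_eq_one_left ht
  let f : S → S := fun s => ⟨(s : G)⁻¹ * (t * s * t⁻¹),
    S.mul_mem (S.inv_mem s.2) ((Subgroup.mem_normalizer_iff.mp htS _).mp s.2)⟩
  have hinj : Function.Injective f := by
    intro a b hab
    have h1 : (a : G)⁻¹ * (t * a * t⁻¹) = (b : G)⁻¹ * (t * b * t⁻¹) := congrArg Subtype.val hab
    have h2 : t * ((b : G) * (a : G)⁻¹) = ((b : G) * (a : G)⁻¹) * t := by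
      have h3 : (b : G) * ((a : G)⁻¹ * (t * a * t⁻¹)) * (t * (a : G)⁻¹)
          = (b : G) * ((b : G)⁻¹ * (t * b * t⁻¹)) * (t * (a : G)⁻¹) := by rw [h1]
      have h4 : (b : G) * ((a : G)⁻¹ * (t * a * t⁻¹)) * (t * (a : G)⁻¹) = (b : G) * (a : G)⁻¹ * t := by
        group
      have h5 : (b : G) * ((b : G)⁻¹ * (t * b * t⁻¹)) * (t * (a : G)⁻¹) = t * ((b : G) * (a : G)⁻¹) := by
        group
      rw [h4, h5] at h3
      exact h3.symm
    have h6 : (b : G) * (a : G)⁻¹ = 1 := by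
      by_contra hne
      exact hfpf _ (S.mul_mem b.2 (S.inv_mem a.2)) hne h2
    apply Subtype.ext
    have : (b : G) = a := by
      calc (b : G) = (b : G) * (a : G)⁻¹ * a := by group
        _ = a := by rw [h6, one_mul]
    exact this.symm
  have hsurj : Function.Surjective f := Finite.surjective_of_injective hinj
  intro s hs
  obtain ⟨a, ha⟩ := hsurj ⟨s, hs⟩
  have h1 : (a : G)⁻¹ * (t * a * t⁻¹) = s := congrArg Subtype.val ha
  rw [← h1, htinv]
  have : t * ((a : G)⁻¹ * (t * a * t)) * t = t * (a : G)⁻¹ * t * a * (t * t) := by group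
  rw [this, ht]
  have : ((a : G)⁻¹ * (t * a * t))⁻¹ = t⁻¹ * (a : G)⁻¹ * t⁻¹ * a := by group
  rw [this, htinv]; group

theorem even_normalizer {G : Type*} [Group G] [Finite G] (p : ℕ) [Fact p.Prime]
    (C S : Subgroup G) (hC : Odd (Nat.card C)) (t : G) (ht : orderOf t = 2)
    (htC : t ∈ Subgroup.normalizer (C : Set G)) (hSC : S ≤ C) (hS : IsPGroup p S)
    (hidx : ¬ p ∣ S.relIndex C) : Even (Nat.card (Subgroup.normalizer (S : Set G))) := by
  set X := C ⊔ Subgroup.zpowers t with hX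
  have hXN : X ≤ Subgroup.normalizer (C : Set G) :=
    sup_le Subgroup.le_normalizer (by rw [Subgroup.zpowers_le]; exact htC)
  have hfr := Cfsg.Agent.Lib.Helper8.frattini_rel C X S hSC hS hidx le_sup_left hXN
  by_contra hodd
  rw [Nat.not_even_iff_odd] at hodd
  have hY : Odd (Nat.card (X ⊓ Subgroup.normalizer (S : Set G) : Subgroup G)) :=
    Odd.of_dvd_nat hodd (Subgroup.card_dvd_of_le inf_le_right)
  have hYN : X ⊓ Subgroup.normalizer (S : Set G) ≤ Subgroup.normalizer (C : Set G) :=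
    inf_le_left.trans hXN
  have hcard := Cfsg.Agent.Lib.Lead.card_sup_mul_card_inf _ C hYN
  have hXeq : (X ⊓ Subgroup.normalizer (S : Set G)) ⊔ C = X :=
    le_antisymm (sup_le inf_le_left le_sup_left) (by rw [sup_comm]; exact hfr)
  rw [hXeq] at hcard
  have htX : t ∈ X := (le_sup_right : Subgroup.zpowers t ≤ X) (Subgroup.mem_zpowers t)
  have h2X : 2 ∣ Nat.card X := ht ▸ Subgroup.orderOf_dvd_natCard X htX
  have h2 : 2 ∣ Nat.card (X ⊓ Subgroup.normalizer (S : Set G) : Subgroup G) * Nat.card C := by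
    rw [← hcard]; exact Dvd.dvd.mul_right h2X _
  have hodd2 : Odd (Nat.card (X ⊓ Subgroup.normalizer (S : Set G) : Subgroup G) * Nat.card C) :=
    hY.mul hC
  exact (Nat.not_even_iff_odd.mpr hodd2) (even_iff_two_dvd.mpr h2)

theorem step {G : Type*} [Group G] [Finite G] (p : ℕ) [Fact p.Prime]
    (x t : G) (hCx : Odd (Nat.card ↥(Subgroup.centralizer ({x} : Set G))))
    (ht : orderOf t = 2) (htx : t * x * t⁻¹ = x⁻¹) (S : Subgroup G)
    (hSC : S ≤ Subgroup.centralizer ({x} : Set G)) (hS : IsPGroup p S)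
    (hidx : ¬ p ∣ S.relIndex (Subgroup.centralizer ({x} : Set G))) :
    Even (Nat.card (Subgroup.normalizer (S : Set G))) := by
  apply even_normalizer p _ S hCx t ht _ hSC hS hidx
  rw [mem_normalizer_iff_cj]
  apply cj_eq_of_le
  intro g hg
  rw [mem_cj, Subgroup.mem_centralizer_singleton_iff] at hg
  rw [Subgroup.mem_centralizer_singleton_iff]
  have e2 : x = t * x⁻¹ * t⁻¹ := by
    have : t * x⁻¹ * t⁻¹ = (t * x * t⁻¹)⁻¹ := by group
    rw [this, htx, inv_inv]
  have ht2 : t * t = 1 := by rw [← pow_two, ← ht, pow_orderOf_eq_one]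
  have htinv : t⁻¹ = t := inv_eq_of_mul_eq_one_left ht2
  have e1 : t⁻¹ * x * t = x⁻¹ := by
    have h := htx
    rw [htinv] at h ⊢
    exact h
  have hg' : t⁻¹ * g * t * x⁻¹ = x⁻¹ * (t⁻¹ * g * t) := by
    have : t⁻¹ * g * t * x⁻¹ = x⁻¹ * (x * (t⁻¹ * g * t)) * x⁻¹ := by group
    rw [this, ← hg]; group
  calc g * x = t * (t⁻¹ * g * t * (t⁻¹ * x * t)) * t⁻¹ := by group
    _ = t * (t⁻¹ * g * t * x⁻¹) * t⁻¹ := by rw [e1]
    _ = t * (x⁻¹ * (t⁻¹ * g * t)) * t⁻¹ := by rw [hg']
    _ = (t * x⁻¹ * t⁻¹) * g := by group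
    _ = x * g := by rw [← e2]

/-- Let p be an odd prime and G a finite group of even order divisible by p in which the centralizer of every non-identity p-element has odd order. If some nontrivial p-subgroup of G has a normalizer of even order, then the normalizer of every Sylow p-subgroup of G has even order. -/
theorem result {G : Type*} [Group G] [Finite G] (p : ℕ) [Fact p.Prime] (hp2 : p ≠ 2) (hpG : p ∣ Nat.card G) (h2G : 2 ∣ Nat.card G) (hC : ∀ g : G, g ≠ 1 → (∃ k : ℕ, orderOf g = p ^ k) → Odd (Nat.card ↥(Subgroup.centralizer ({g} : Set G)))) (Q : Subgroup G) (hQ : IsPGroup p ↥Q) (hQ1 : Q ≠ ⊥) (hev : Even (Nat.card ↥(Subgroup.normalizer (Q : Set G)))) (P : Sylow p G) : Even (Nat.card ↥(Subgroup.normalizer ((P : Subgroup G) : Set G))) := by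
  have hpp : p.Prime := Fact.out
  haveI : Fact (Nat.Prime 2) := ⟨Nat.prime_two⟩
  have hfix : ∀ (t : G), orderOf t = 2 → ∀ s : G, s ≠ 1 → (∃ k : ℕ, orderOf s = p ^ k) →
      t * s ≠ s * t := by
    intro t ht s hs1 hsp hcomm
    have hodd := hC s hs1 hsp
    have htC : t ∈ Subgroup.centralizer ({s} : Set G) :=
      Subgroup.mem_centralizer_singleton_iff.mpr hcomm
    have h2 : 2 ∣ Nat.card (Subgroup.centralizer ({s} : Set G)) :=
      ht ▸ Subgroup.orderOf_dvd_natCard _ htC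
    exact (Nat.not_even_iff_odd.mpr hodd) (even_iff_two_dvd.mpr h2)
  have hpel : ∀ (S : Subgroup G), IsPGroup p S → ∀ s ∈ S, ∃ k : ℕ, orderOf s = p ^ k := by
    intro S hS s hs
    obtain ⟨k, hk⟩ := IsPGroup.iff_orderOf.mp hS ⟨s, hs⟩
    exact ⟨k, by rwa [Subgroup.orderOf_mk] at hk⟩
  have hinv : ∀ (S : Subgroup G), IsPGroup p S → ∀ t : G, orderOf t = 2 →
      t ∈ Subgroup.normalizer (S : Set G) → ∀ s ∈ S, t * s * t⁻¹ = s⁻¹ := by
    intro S hS t ht htS
    have ht2 : t * t = 1 := by rw [← pow_two, ← ht, pow_orderOf_eq_one]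
    exact inverts_of_fpf S t ht2 htS (fun s hs hs1 => hfix t ht s hs1 (hpel S hS s hs))
  -- Step 1
  obtain ⟨t0, ht0⟩ := exists_prime_orderOf_dvd_card'
    (G := ↥(Subgroup.normalizer (Q : Set G))) 2 (even_iff_two_dvd.mp hev)
  have ht : orderOf (t0 : G) = 2 := by rw [Subgroup.orderOf_coe]; exact ht0
  have htQ : (t0 : G) ∈ Subgroup.normalizer (Q : Set G) := t0.2
  obtain ⟨x, hx1⟩ := (Subgroup.ne_bot_iff_exists_ne_one).mp hQ1
  have hx1' : (x : G) ≠ 1 := fun h => hx1 (Subtype.ext h)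
  have htx : (t0 : G) * x * (t0 : G)⁻¹ = (x : G)⁻¹ := hinv Q hQ t0 ht htQ x x.2
  have hxp := hpel Q hQ x x.2
  -- Step 2: Sylow subgroup of the centralizer of x containing x
  set C := Subgroup.centralizer ({(x : G)} : Set G) with hCdef
  have hxC : (x : G) ∈ C := Subgroup.mem_centralizer_singleton_iff.mpr rfl
  have hxz : IsPGroup p (Subgroup.zpowers (⟨x, hxC⟩ : C)) := by
    have h1 : IsPGroup p (Subgroup.zpowers (x : G)) :=
      hQ.to_le (by rw [Subgroup.zpowers_le]; exact x.2)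
    have h2 : (Subgroup.zpowers (⟨x, hxC⟩ : C)).map C.subtype = Subgroup.zpowers (x : G) := by
      rw [MonoidHom.map_zpowers]; rfl
    have h3 := h1
    rw [← h2] at h3
    exact h3.of_equiv ((Subgroup.zpowers (⟨x, hxC⟩ : C)).equivMapOfInjective C.subtype
      C.subtype_injective).symm
  obtain ⟨S0, hS0⟩ := hxz.exists_le_sylow
  set S : Subgroup G := (S0 : Subgroup C).map C.subtype with hSdef
  have hSC : S ≤ C := Subgroup.map_subtype_le _
  have hSp : IsPGroup p S := S0.isPGroup'.map _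
  have hSsub : S.subgroupOf C = (S0 : Subgroup C) :=
    Subgroup.comap_map_eq_self_of_injective C.subtype_injective _
  have hSidx : ¬ p ∣ S.relIndex C := by
    unfold Subgroup.relIndex
    rw [hSsub]; exact S0.not_dvd_index
  have hxS : (x : G) ∈ S :=
    Subgroup.mem_map_of_mem C.subtype (hS0 (Subgroup.mem_zpowers (⟨x, hxC⟩ : C)))
  have hevS := step p (x : G) (t0 : G) (hC x hx1' hxp) ht htx S hSC hSp hSidx
  obtain ⟨t1, ht1⟩ := exists_prime_orderOf_dvd_card'
    (G := ↥(Subgroup.normalizer (S : Set G))) 2 (even_iff_two_dvd.mp hevS)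
  have ht' : orderOf (t1 : G) = 2 := by rw [Subgroup.orderOf_coe]; exact ht1
  have hinvS := hinv S hSp t1 ht' t1.2
  -- Step 3: a Sylow subgroup of G containing S and its centre
  obtain ⟨P', hP'⟩ := hSp.exists_le_sylow
  haveI : Nontrivial (P' : Subgroup G) :=
    ⟨⟨⟨x, hP' hxS⟩, 1, fun h => hx1' (congrArg Subtype.val h)⟩⟩
  haveI := P'.isPGroup'.center_nontrivial
  obtain ⟨z', hz'⟩ := exists_ne (1 : Subgroup.center (P' : Subgroup G))
  have hzP : ((z' : (P' : Subgroup G)) : G) ∈ (P' : Subgroup G) := (z' : (P' : Subgroup G)).2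
  have hz1 : ((z' : (P' : Subgroup G)) : G) ≠ 1 := by
    intro h
    apply hz'
    apply Subtype.ext; apply Subtype.ext
    exact h
  have hzc : ∀ a ∈ (P' : Subgroup G), a * ((z' : (P' : Subgroup G)) : G)
      = ((z' : (P' : Subgroup G)) : G) * a := by
    intro a ha
    have := Subgroup.mem_center_iff.mp z'.2 ⟨a, ha⟩
    exact congrArg Subtype.val this
  set z : G := ((z' : (P' : Subgroup G)) : G) with hzdef
  have hzC : z ∈ C := by
    rw [hCdef, Subgroup.mem_centralizer_singleton_iff]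
    exact (hzc x (hP' hxS)).symm
  have hzS : z ∈ S := by
    have h1 : IsPGroup p ((C ⊓ (P' : Subgroup G)).subgroupOf C) :=
      (P'.isPGroup'.to_le inf_le_right).comap_subtype
    have h2 : (S0 : Subgroup C) ≤ (C ⊓ (P' : Subgroup G)).subgroupOf C := by
      intro s hs
      rw [Subgroup.mem_subgroupOf]
      exact Subgroup.mem_inf.mpr ⟨s.2, hP' (Subgroup.mem_map_of_mem C.subtype hs)⟩
    have h3 := S0.is_maximal' h1 h2
    have h4 : (⟨z, hzC⟩ : C) ∈ (S0 : Subgroup C) := by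
      rw [← h3, Subgroup.mem_subgroupOf]
      exact Subgroup.mem_inf.mpr ⟨hzC, hzP⟩
    exact Subgroup.mem_map_of_mem C.subtype h4
  have htz := hinvS z hzS
  -- Step 4
  have hP'C : (P' : Subgroup G) ≤ Subgroup.centralizer ({z} : Set G) := by
    intro a ha
    rw [Subgroup.mem_centralizer_singleton_iff]
    exact hzc a ha
  have hP'idx : ¬ p ∣ (P' : Subgroup G).relIndex (Subgroup.centralizer ({z} : Set G)) := by
    intro hdvd
    apply P'.not_dvd_index
    rw [← Subgroup.relIndex_mul_index hP'C]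
    exact Dvd.dvd.mul_right hdvd _
  have hevP' := step p z (t1 : G) (hC z hz1 (hpel _ P'.isPGroup' z hzP)) ht' htz (P' : Subgroup G)
    hP'C P'.isPGroup' hP'idx
  -- Step 5
  obtain ⟨g, hg⟩ := MulAction.exists_smul_eq G P' P
  have hPcj : (P : Subgroup G) = cj g (P' : Subgroup G) := by
    rw [← hg]; rfl
  rw [hPcj, normalizer_cj, card_cj]
  exact hevP'

end Cfsg.Agent.S3982
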