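import Cfsg.Statements.S3983
import Mathlib

set_option autoImplicit false
open Cfsg

namespace Cfsg.Agent.S3983

open scoped Pointwise

theorem mem_conj_smul {G : Type*} [Group G] {g x : G} {H : Subgroup G} :
    x ∈ MulAut.conj g • H ↔ g⁻¹ * x * g ∈ H := by
  rw [Subgroup.mem_pointwise_smul_iff_inv_smul_mem]
  have : (MulAut.conj g)⁻¹ • x = g⁻¹ * x * g := by
    simp [MulAut.smul_def, MulAut.conj_inv_apply]
  rw [this]

/-- Let P be a Sylow p-subgroup of the finite group G that meets each conjugate g P g⁻¹ with g outside N_G(P) trivially, and let U be a subgroup of G of order divisible by p. Then a Sylow p-subgroup Q of U has the same property inside U: Q meets each conjugate u Q u⁻¹ with u ∈ U outside N_U(Q) trivially. -/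
theorem result {G : Type*} [Group G] [Finite G] (p : ℕ) [Fact p.Prime] (P : Sylow p G) (hTI : ∀ g : G, g ∉ Subgroup.normalizer ((P : Subgroup G) : Set G) → (P : Subgroup G) ⊓ (MulAut.conj g • (P : Subgroup G)) = ⊥) (U : Subgroup G) (hU : p ∣ Nat.card ↥U) (Q : Sylow p ↥U) : ∀ u : ↥U, u ∉ Subgroup.normalizer ((Q : Subgroup ↥U) : Set ↥U) → (Q : Subgroup ↥U) ⊓ (MulAut.conj u • (Q : Subgroup ↥U)) = ⊥ := by
  -- a Sylow subgroup of G containing Q
  have hQ'p : IsPGroup p ((Q : Subgroup U).map U.subtype) := Q.isPGroup'.map U.subtype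
  obtain ⟨P', hP'⟩ := hQ'p.exists_le_sylow
  obtain ⟨x, hx⟩ := MulAction.exists_smul_eq G P P'
  have hP'mem : ∀ z : G, z ∈ P' ↔ x⁻¹ * z * x ∈ P := by
    intro z
    rw [← hx]
    show z ∈ ((x • P : Sylow p G) : Subgroup G) ↔ _
    rw [Sylow.coe_subgroup_smul, mem_conj_smul]
    rfl
  -- TI for P'
  have hTI' : ∀ g : G, (∃ z : G, z ≠ 1 ∧ z ∈ P' ∧ g⁻¹ * z * g ∈ P') →
      ∀ h : G, h ∈ P' ↔ g * h * g⁻¹ ∈ P' := by
    rintro g ⟨z, hz1, hzP, hzg⟩
    have hg' : x⁻¹ * g * x ∈ Subgroup.normalizer ((P : Subgroup G) : Set G) := by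
      by_contra hn
      have h1 := hTI _ hn
      have hmem : x⁻¹ * z * x ∈ (P : Subgroup G) ⊓ (MulAut.conj (x⁻¹ * g * x) • (P : Subgroup G)) := by
        refine ⟨(hP'mem z).mp hzP, ?_⟩
        show x⁻¹ * z * x ∈ MulAut.conj (x⁻¹ * g * x) • (P : Subgroup G)
        rw [mem_conj_smul]
        have : (x⁻¹ * g * x)⁻¹ * (x⁻¹ * z * x) * (x⁻¹ * g * x) = x⁻¹ * (g⁻¹ * z * g) * x := by group
        rw [this]
        exact (hP'mem _).mp hzg
      rw [h1, Subgroup.mem_bot] at hmem
      apply hz1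
      have : z = x * (x⁻¹ * z * x) * x⁻¹ := by group
      rw [this, hmem]; group
    intro h
    rw [hP'mem, hP'mem]
    have := (Subgroup.mem_normalizer_iff.mp hg') (x⁻¹ * h * x)
    have e : (x⁻¹ * g * x) * (x⁻¹ * h * x) * (x⁻¹ * g * x)⁻¹ = x⁻¹ * (g * h * g⁻¹) * x := by group
    rw [e] at this
    exact this
  -- Q = P' ∩ U
  have hQmem : ∀ h : U, h ∈ (Q : Subgroup U) ↔ (h : G) ∈ P' := by
    intro h
    constructor
    · intro hh
      exact hP' (Subgroup.mem_map_of_mem U.subtype hh)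
    · intro hh
      have hp' : IsPGroup p ((P' : Subgroup G).subgroupOf U) :=
        P'.isPGroup'.comap_of_injective U.subtype U.subtype_injective
      have hle : (Q : Subgroup U) ≤ (P' : Subgroup G).subgroupOf U := by
        intro k hk
        rw [Subgroup.mem_subgroupOf]
        exact hP' (Subgroup.mem_map_of_mem U.subtype hk)
      have := Q.is_maximal' hp' hle
      rw [← this, Subgroup.mem_subgroupOf]
      exact hh
  intro u hu
  rw [eq_bot_iff]
  rintro y ⟨hy1, hy2⟩
  rw [Subgroup.mem_bot]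
  by_contra hy
  apply hu
  have hy2' : y ∈ MulAut.conj u • (Q : Subgroup U) := hy2
  rw [mem_conj_smul] at hy2'
  have hnorm := hTI' (u : G) ⟨(y : G), fun h => hy (Subtype.ext h), (hQmem y).mp hy1, by
    have := (hQmem _).mp hy2'
    simpa using this⟩
  rw [Subgroup.mem_normalizer_iff]
  intro h
  rw [hQmem, hQmem]
  have := hnorm (h : G)
  simpa using this

end Cfsg.Agent.S3983
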