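import Mathlib
import Cfsg.Statements.S3984
import Cfsg.Agent.Lib.Helper7.Wielandt1
import Cfsg.Agent.Lib.Lead.Brodkey

set_option autoImplicit false
open scoped Pointwise
open Cfsg

namespace Cfsg.Agent.S3984

open Cfsg.Agent.Lib.Helper7

theorem ti_elem {G : Type*} [Group G] (P : Subgroup G)
    (hTI : ∀ g : G, g ∉ Subgroup.normalizer (P : Set G) → P ⊓ (MulAut.conj g • P) = ⊥)
    (u v c : G) (hc : c ≠ 1) (hu : c ∈ cj u P) (hv : c ∈ cj v P) :
    u⁻¹ * v ∈ Subgroup.normalizer (P : Set G) := by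
  by_contra hg
  have h1 := hTI _ hg
  rw [mem_cj] at hu hv
  have h2 : u⁻¹ * c * u ∈ P ⊓ (MulAut.conj (u⁻¹ * v) • P) := by
    refine Subgroup.mem_inf.mpr ⟨hu, ?_⟩
    show u⁻¹ * c * u ∈ cj (u⁻¹ * v) P
    rw [mem_cj]
    have : (u⁻¹ * v)⁻¹ * (u⁻¹ * c * u) * (u⁻¹ * v) = v⁻¹ * c * v := by group
    rw [this]; exact hv
  rw [h1, Subgroup.mem_bot] at h2
  apply hc
  have : c = u * (u⁻¹ * c * u) * u⁻¹ := by group
  rw [this, h2]; group

/-- Let P be a Sylow p-subgroup of the finite group G that meets each conjugate g P g⁻¹ with g outside N_G(P) trivially, and let N be a normal subgroup of G of order prime to p. Then every Sylow p-subgroup Q of G ⧸ N meets each conjugate x Q x⁻¹ with x outside its normalizer trivially. -/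
theorem result {G : Type*} [Group G] [Finite G] (p : ℕ) [Fact p.Prime] (P : Sylow p G) (hTI : ∀ g : G, g ∉ Subgroup.normalizer ((P : Subgroup G) : Set G) → (P : Subgroup G) ⊓ (MulAut.conj g • (P : Subgroup G)) = ⊥) (N : Subgroup G) [N.Normal] (hN : (Nat.card ↥N).Coprime p) (Q : Sylow p (G ⧸ N)) : ∀ x : G ⧸ N, x ∉ Subgroup.normalizer ((Q : Subgroup (G ⧸ N)) : Set (G ⧸ N)) → (Q : Subgroup (G ⧸ N)) ⊓ (MulAut.conj x • (Q : Subgroup (G ⧸ N))) = ⊥ := by
  intro x hx
  by_contra hne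
  apply hx
  obtain ⟨⟨y, hy⟩, hy1⟩ := (Subgroup.ne_bot_iff_exists_ne_one).mp hne
  have hy1' : y ≠ 1 := fun h => hy1 (Subtype.ext h)
  obtain ⟨hyQ, hyx⟩ := Subgroup.mem_inf.mp hy
  -- lift Q to a Sylow subgroup of G
  have hsurj : Function.Surjective (QuotientGroup.mk' N) := QuotientGroup.mk'_surjective N
  obtain ⟨P', hP'⟩ := Sylow.mapSurjective_surjective hsurj p Q
  have hP'Q : (P' : Subgroup G).map (QuotientGroup.mk' N) = (Q : Subgroup (G ⧸ N)) := by
    rw [← hP', Sylow.coe_mapSurjective]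
  obtain ⟨h, hh⟩ := MulAction.exists_smul_eq G P P'
  have hP'cj : (P' : Subgroup G) = cj h (P : Subgroup G) := by
    rw [← hh]; rfl
  obtain ⟨g, rfl⟩ := hsurj x
  -- lift y
  rw [← hP'Q] at hyQ
  obtain ⟨a, haP', hay⟩ := hyQ
  have hyx' : (QuotientGroup.mk' N g)⁻¹ * y * (QuotientGroup.mk' N g) ∈ (Q : Subgroup (G ⧸ N)) := by
    have : y ∈ cj (QuotientGroup.mk' N g) (Q : Subgroup (G ⧸ N)) := hyx
    rwa [mem_cj] at this
  rw [← hP'Q] at hyx'
  obtain ⟨b, hbP', hby⟩ := hyx'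
  set c := g * b * g⁻¹ with hc
  have hcy : QuotientGroup.mk' N c = y := by
    rw [hc, map_mul, map_mul, hby, map_inv]; group
  have hc1 : c ≠ 1 := by
    intro h1
    apply hy1'
    rw [← hcy, h1, map_one]
  have hcg : c ∈ cj g (P' : Subgroup G) := by
    rw [mem_cj, hc]
    have : g⁻¹ * (g * b * g⁻¹) * g = b := by group
    rw [this]; exact hbP'
  have hcM : c ∈ (P' : Subgroup G) ⊔ N := by
    have h1 : a⁻¹ * c ∈ N := by
      rw [← QuotientGroup.eq_one_iff, QuotientGroup.mk_mul, QuotientGroup.mk_inv]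
      have e1 : ((a : G) : G ⧸ N) = y := hay
      have e2 : ((c : G) : G ⧸ N) = y := hcy
      rw [e1, e2, inv_mul_cancel]
    have h2 : c = a * (a⁻¹ * c) := by group
    rw [h2]
    exact Subgroup.mul_mem_sup haP' h1
  have hcp : IsPGroup p (Subgroup.zpowers c) := by
    have h1 : IsPGroup p (cj g (P' : Subgroup G)) := P'.isPGroup'.map _
    exact h1.to_le (by rw [Subgroup.zpowers_le]; exact hcg)
  obtain ⟨n, hnM, hn⟩ := Cfsg.Agent.Lib.Lead.pgroup_le_conj_sylow_in_subgroup P'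
    ((P' : Subgroup G) ⊔ N) (Subgroup.zpowers c) le_sup_left
    (by rw [Subgroup.zpowers_le]; exact hcM) hcp
  have hcn : c ∈ cj n (P' : Subgroup G) := hn (Subgroup.mem_zpowers c)
  rw [hP'cj, ← cj_mul] at hcn hcg
  have hkey := ti_elem (P : Subgroup G) hTI (n * h) (g * h) c hc1 hcn hcg
  -- n⁻¹ g normalizes P'
  have hng : n⁻¹ * g ∈ Subgroup.normalizer ((P' : Subgroup G) : Set G) := by
    rw [mem_normalizer_iff_cj, hP'cj, ← cj_mul]
    rw [mem_normalizer_iff_cj] at hkey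
    have : n⁻¹ * g * h = h * ((n * h)⁻¹ * (g * h)) := by group
    rw [this, cj_mul, hkey]
  have hng' : QuotientGroup.mk' N (n⁻¹ * g) ∈
      Subgroup.normalizer ((Q : Subgroup (G ⧸ N)) : Set (G ⧸ N)) := by
    rw [← hP'Q]
    exact Subgroup.le_normalizer_map _ (Subgroup.mem_map_of_mem _ hng)
  have hnQ : QuotientGroup.mk' N n ∈ (Q : Subgroup (G ⧸ N)) := by
    have h1 : QuotientGroup.mk' N n ∈ ((P' : Subgroup G) ⊔ N).map (QuotientGroup.mk' N) :=
      Subgroup.mem_map_of_mem _ hnM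
    rw [Subgroup.map_sup, hP'Q] at h1
    have h2 : N.map (QuotientGroup.mk' N) = ⊥ := by
      rw [Subgroup.map_eq_bot_iff, QuotientGroup.ker_mk']
    rw [h2, sup_bot_eq] at h1
    exact h1
  have hfin : QuotientGroup.mk' N g = QuotientGroup.mk' N n * QuotientGroup.mk' N (n⁻¹ * g) := by
    rw [← map_mul]; congr 1; group
  rw [hfin]
  exact Subgroup.mul_mem _ (Subgroup.le_normalizer hnQ) hng'

end Cfsg.Agent.S3984
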