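import Mathlib
import Cfsg.Statements.S3985
import Cfsg.Agent.Lib.Helper7.Wielandt1

set_option autoImplicit false
open scoped Pointwise
open Cfsg

namespace Cfsg.Agent.S3985

open Cfsg.Agent.Lib.Helper7

theorem pgroup_le_sylow_of_le_normalizer {G : Type*} [Group G] {p : ℕ} [Fact p.Prime]
    (P : Sylow p G) (Q : Subgroup G) (hQ : IsPGroup p Q)
    (hQN : Q ≤ Subgroup.normalizer ((P : Subgroup G) : Set G)) : Q ≤ (P : Subgroup G) := by
  have h1 : IsPGroup p (Q ⊔ (P : Subgroup G) : Subgroup G) :=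
    IsPGroup.to_sup_of_normal_right' hQ P.isPGroup' hQN
  have h2 := P.is_maximal' h1 le_sup_right
  rw [← h2]; exact le_sup_left

theorem conj_zpow_iter {G : Type*} [Group G] (g z : G) (k : ℤ) (h : g * z * g⁻¹ = z ^ k) (t : ℕ) :
    g ^ t * z * (g ^ t)⁻¹ = z ^ (k ^ t) := by
  induction t with
  | zero => simp
  | succ t ih =>
    have h1 : g ^ (t + 1) * z * (g ^ (t + 1))⁻¹ = g * (g ^ t * z * (g ^ t)⁻¹) * g⁻¹ := by
      rw [pow_succ']; group
    rw [h1, ih, ← conj_zpow, h, ← zpow_mul, pow_succ']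

theorem centralizes_of_fix {G : Type*} [Group G] [Finite G] (p : ℕ) [Fact p.Prime] (P : Sylow p G)
    (hcyc : IsCyclic ↥(P : Subgroup G)) (g : G)
    (hg : g ∈ Subgroup.normalizer ((P : Subgroup G) : Set G)) (x : G) (hx : x ∈ (P : Subgroup G))
    (hx1 : x ≠ 1) (hgx : g * x * g⁻¹ = x) :
    g ∈ Subgroup.centralizer ((P : Subgroup G) : Set G) := by
  have hpp : p.Prime := Fact.out
  obtain ⟨z, hz⟩ := hcyc.exists_generator
  -- every element of P is a power of z
  have hpow : ∀ y ∈ (P : Subgroup G), ∃ i : ℤ, (z : G) ^ i = y := by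
    intro y hy
    obtain ⟨i, hi⟩ := Subgroup.mem_zpowers_iff.mp (hz ⟨y, hy⟩)
    refine ⟨i, ?_⟩
    have := congrArg (Subtype.val) hi
    simpa using this
  have hcomm : ∀ a ∈ (P : Subgroup G), ∀ b ∈ (P : Subgroup G), a * b = b * a := by
    intro a ha b hb
    obtain ⟨i, rfl⟩ := hpow a ha
    obtain ⟨j, rfl⟩ := hpow b hb
    rw [← zpow_add, ← zpow_add, add_comm]
  -- conj of z
  have hgz : g * (z : G) * g⁻¹ ∈ (P : Subgroup G) :=
    (Subgroup.mem_normalizer_iff.mp hg (z : G)).mp z.2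
  obtain ⟨k, hk⟩ := hpow _ hgz
  obtain ⟨m, hm⟩ := hpow x hx
  -- x^k = x
  have hxk : x ^ (k - 1) = 1 := by
    have h1 : g * x * g⁻¹ = x ^ k := by
      rw [← hm, ← conj_zpow, ← hk, ← zpow_mul, ← zpow_mul, mul_comm]
    rw [hgx] at h1
    rw [zpow_sub, zpow_one, ← h1, mul_inv_cancel]
  have hox : (orderOf x : ℤ) ∣ k - 1 := orderOf_dvd_iff_zpow_eq_one.mpr hxk
  have hpox : p ∣ orderOf x := by
    obtain ⟨j, hj⟩ := (IsPGroup.iff_orderOf.mp P.isPGroup') ⟨x, hx⟩
    rw [Subgroup.orderOf_mk] at hj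
    rw [hj]
    have hj0 : j ≠ 0 := by
      rintro rfl
      rw [pow_zero, orderOf_eq_one_iff] at hj
      exact hx1 hj
    exact dvd_pow_self p hj0
  have hpk : (p : ℤ) ∣ k - 1 := Dvd.dvd.trans (Int.natCast_dvd_natCast.mpr hpox) hox
  -- the order of P
  have hcard := P.card_eq_multiplicity
  set n := (Nat.card G).factorization p with hn
  have hn0 : n ≠ 0 := by
    intro h0
    rw [h0, pow_zero] at hcard
    have : (P : Subgroup G) = ⊥ := Subgroup.card_eq_one.mp hcard
    rw [this, Subgroup.mem_bot] at hx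
    exact hx1 hx
  obtain ⟨j, hj⟩ : ∃ j, n = j + 1 := ⟨n - 1, by omega⟩
  have hoz : orderOf (z : G) ∣ p ^ (j + 1) := by
    rw [← hj, ← hcard, Subgroup.orderOf_coe]
    exact orderOf_dvd_natCard z
  have hdiv : ((p : ℤ) ^ (j + 1)) ∣ k ^ p ^ j - 1 := by
    have := dvd_sub_pow_of_dvd_sub (R := ℤ) (p := p) (a := k) (b := 1) hpk j
    simpa using this
  have hzfix : g ^ (p ^ j) * (z : G) * (g ^ (p ^ j))⁻¹ = (z : G) := by
    rw [conj_zpow_iter g (z : G) k hk.symm (p ^ j)]
    have h1 : ((orderOf (z : G) : ℕ) : ℤ) ∣ k ^ p ^ j - 1 := by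
      refine Dvd.dvd.trans ?_ hdiv
      have := Int.natCast_dvd_natCast.mpr hoz
      simpa using this
    have h2 : (z : G) ^ (k ^ p ^ j - 1) = 1 := orderOf_dvd_iff_zpow_eq_one.mp h1
    have h3 : (z : G) ^ (k ^ p ^ j) = (z : G) ^ (k ^ p ^ j - 1) * (z : G) := by
      rw [← zpow_add_one]; congr 1; ring
    rw [h3, h2, one_mul]
  -- g^(p^j) centralizes P
  have hC1 : g ^ (p ^ j) ∈ Subgroup.centralizer ((P : Subgroup G) : Set G) := by
    rw [Subgroup.mem_centralizer_iff]
    intro y hy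
    obtain ⟨i, rfl⟩ := hpow y hy
    have h1 : g ^ (p ^ j) * (z : G) ^ i * (g ^ (p ^ j))⁻¹ = (z : G) ^ i := by
      rw [← conj_zpow, hzfix]
    calc (z : G) ^ i * g ^ (p ^ j) = (g ^ (p ^ j) * (z : G) ^ i * (g ^ (p ^ j))⁻¹) * g ^ (p ^ j) := by
          rw [h1]
      _ = g ^ (p ^ j) * (z : G) ^ i := by group
  -- the p-part
  have hog : orderOf g ≠ 0 := (orderOf_pos g).ne'
  obtain ⟨a, m', hm', hgm⟩ := Nat.exists_eq_pow_mul_and_not_dvd hog p hpp.ne_one
  have hgm_p : IsPGroup p (Subgroup.zpowers (g ^ m')) := by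
    rw [IsPGroup.iff_card]
    refine ⟨(Nat.card (Subgroup.zpowers (g ^ m'))).factorization p, ?_⟩
    have h1 : (g ^ m') ^ (p ^ a) = 1 := by
      rw [← pow_mul, mul_comm, ← hgm, pow_orderOf_eq_one]
    have h2 : orderOf (g ^ m') ∣ p ^ a := orderOf_dvd_of_pow_eq_one h1
    obtain ⟨b, _, hb⟩ := (Nat.dvd_prime_pow hpp).mp h2
    rw [Nat.card_zpowers, hb, hpp.factorization_pow]
    simp
  have hgmN : Subgroup.zpowers (g ^ m') ≤ Subgroup.normalizer ((P : Subgroup G) : Set G) := by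
    rw [Subgroup.zpowers_le]
    exact Subgroup.pow_mem _ hg _
  have hgmP : g ^ m' ∈ (P : Subgroup G) :=
    pgroup_le_sylow_of_le_normalizer P _ hgm_p hgmN (Subgroup.mem_zpowers _)
  have hC2 : g ^ m' ∈ Subgroup.centralizer ((P : Subgroup G) : Set G) := by
    rw [Subgroup.mem_centralizer_iff]
    intro y hy
    exact hcomm y hy _ hgmP
  -- combine
  have hcop : Nat.Coprime m' (p ^ j) := by
    apply Nat.Coprime.pow_right
    exact ((Nat.Prime.coprime_iff_not_dvd hpp).mpr hm').symm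
  have hbez := Nat.gcd_eq_gcd_ab m' (p ^ j)
  rw [hcop.gcd_eq_one] at hbez
  have hg1 : g = (g ^ m') ^ (Nat.gcdA m' (p ^ j)) * (g ^ (p ^ j)) ^ (Nat.gcdB m' (p ^ j)) := by
    rw [← zpow_natCast, ← zpow_natCast, ← zpow_mul, ← zpow_mul, ← zpow_add, ← hbez]
    simp
  rw [hg1]
  exact Subgroup.mul_mem _ (Subgroup.zpow_mem _ hC2 _) (Subgroup.zpow_mem _ hC1 _)

/-- Let P be a cyclic Sylow p-subgroup of the finite group G. Then P meets each conjugate g P g⁻¹ with g outside N_G(P) trivially if and only if P is weakly self-centralizing: C_G(x) = C_G(P) for every non-identity x ∈ P. -/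
theorem result {G : Type*} [Group G] [Finite G] (p : ℕ) [Fact p.Prime] (P : Sylow p G) (hcyc : IsCyclic ↥(P : Subgroup G)) : (∀ g : G, g ∉ Subgroup.normalizer ((P : Subgroup G) : Set G) → (P : Subgroup G) ⊓ (MulAut.conj g • (P : Subgroup G)) = ⊥) ↔ ∀ x : G, x ∈ (P : Subgroup G) → x ≠ 1 → Subgroup.centralizer ({x} : Set G) = Subgroup.centralizer ((P : Subgroup G) : Set G) := by
  constructor
  · intro hTI x hx hx1
    apply le_antisymm
    · intro g hg
      rw [Subgroup.mem_centralizer_singleton_iff] at hg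
      have hgx : g * x * g⁻¹ = x := by rw [hg]; group
      have hgN : g ∈ Subgroup.normalizer ((P : Subgroup G) : Set G) := by
        by_contra hgN
        have h1 := hTI g hgN
        have h2 : x ∈ (P : Subgroup G) ⊓ (MulAut.conj g • (P : Subgroup G)) := by
          refine Subgroup.mem_inf.mpr ⟨hx, ?_⟩
          show x ∈ cj g (P : Subgroup G)
          rw [mem_cj]
          have : g⁻¹ * x * g = x := by
            calc g⁻¹ * x * g = g⁻¹ * (g * x * g⁻¹) * g := by rw [hgx]
              _ = x := by group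
          rw [this]; exact hx
        rw [h1, Subgroup.mem_bot] at h2
        exact hx1 h2
      exact centralizes_of_fix p P hcyc g hgN x hx hx1 hgx
    · exact Subgroup.centralizer_le (by
        intro y hy
        rw [Set.mem_singleton_iff] at hy
        rw [hy]; exact hx)
  · intro hW g hg
    by_contra hne
    apply hg
    obtain ⟨⟨x, hx⟩, hx1⟩ := (Subgroup.ne_bot_iff_exists_ne_one).mp hne
    have hx1' : x ≠ 1 := fun h => hx1 (Subtype.ext h)
    obtain ⟨hxP, hxg⟩ := Subgroup.mem_inf.mp hx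
    have hxg' : g⁻¹ * x * g ∈ (P : Subgroup G) := by
      have : x ∈ cj g (P : Subgroup G) := hxg
      rwa [mem_cj] at this
    have hx'1 : g⁻¹ * x * g ≠ 1 := by
      intro h1
      apply hx1'
      have : x = g * (g⁻¹ * x * g) * g⁻¹ := by group
      rw [this, h1]; group
    have hC1 := hW x hxP hx1'
    have hC2 := hW _ hxg' hx'1
    -- P is abelian
    have hcomm : ∀ a ∈ (P : Subgroup G), ∀ b ∈ (P : Subgroup G), a * b = b * a := by
      intro a ha b hb
      have := hcyc.commutative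
      have h1 := Std.Commutative.comm (op := fun (a b : ↥(P : Subgroup G)) => a * b) ⟨a, ha⟩ ⟨b, hb⟩
      exact congrArg Subtype.val h1
    -- cj g P ≤ centralizer P
    have hle : cj g (P : Subgroup G) ≤ Subgroup.centralizer ((P : Subgroup G) : Set G) := by
      intro y hy
      rw [mem_cj] at hy
      rw [← hC1, Subgroup.mem_centralizer_singleton_iff]
      have h1 : g⁻¹ * y * g ∈ Subgroup.centralizer ({g⁻¹ * x * g} : Set G) := by
        rw [hC2, Subgroup.mem_centralizer_iff]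
        intro b hb
        exact hcomm b hb _ hy
      rw [Subgroup.mem_centralizer_singleton_iff] at h1
      calc y * x = g * ((g⁻¹ * y * g) * (g⁻¹ * x * g)) * g⁻¹ := by group
        _ = g * ((g⁻¹ * x * g) * (g⁻¹ * y * g)) * g⁻¹ := by rw [h1]
        _ = x * y := by group
    have hle2 : cj g (P : Subgroup G) ≤ (P : Subgroup G) := by
      apply pgroup_le_sylow_of_le_normalizer P _ (P.isPGroup'.map _)
      exact hle.trans (Subgroup.centralizer_le_normalizer _)
    rw [mem_normalizer_iff_cj]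
    exact cj_eq_of_le hle2

end Cfsg.Agent.S3985
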