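import Cfsg.Statements.S3986
import Mathlib
import Cfsg.Agent.Lib.Helper7.SylowGen

set_option autoImplicit false
open Cfsg

namespace Cfsg.Agent.S3986

open Cfsg.Agent.Lib.Helper7

/-- Let p be a prime and G a finite group. Then some Sylow p-subgroup of G is a direct factor of G (it is normal and has a normal complement) if and only if every element of p-power order commutes with every element whose order is a power of a prime other than p. -/
theorem result {G : Type*} [Group G] [Finite G] (p : ℕ) [Fact p.Prime] : (∃ (P : Sylow p G) (K : Subgroup G), (P : Subgroup G).Normal ∧ K.Normal ∧ (P : Subgroup G) ⊓ K = ⊥ ∧ (P : Subgroup G) ⊔ K = ⊤) ↔ ∀ x y : G, (∃ a : ℕ, orderOf x = p ^ a) → (∃ q b : ℕ, q.Prime ∧ q ≠ p ∧ orderOf y = q ^ b) → x * y = y * x := by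
  have hp : p.Prime := Fact.out
  constructor
  · rintro ⟨P, K, hPn, hKn, hdisj, hsup⟩ x y ⟨a, ha⟩ ⟨q, b, hq, hqp, hb⟩
    -- x ∈ P
    have hxP : x ∈ (P : Subgroup G) := by
      have hz : IsPGroup p (Subgroup.zpowers x) :=
        IsPGroup.of_card (n := a) (by rw [Nat.card_zpowers, ha])
      obtain ⟨P', hP'⟩ := hz.exists_le_sylow
      haveI := Sylow.unique_of_normal P hPn
      rw [Subsingleton.elim P P']
      exact hP' (Subgroup.mem_zpowers x)
    -- y ∈ K
    have hyK : y ∈ K := by
      haveI := hKn
      have hidx : K.index = Nat.card P := by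
        have h1 : K.relIndex ((P : Subgroup G) ⊔ K) = K.relIndex (P : Subgroup G) :=
          Subgroup.relIndex_sup_right _ _
        rw [hsup, Subgroup.relIndex_top_right] at h1
        rw [h1, ← Subgroup.inf_relIndex_left, hdisj, Subgroup.relIndex_bot_left]
      rw [← QuotientGroup.eq_one_iff]
      have h1 : orderOf (y : G ⧸ K) ∣ q ^ b := by
        apply orderOf_dvd_of_pow_eq_one
        rw [← QuotientGroup.mk_pow, ← hb, pow_orderOf_eq_one]; rfl
      have h2 : orderOf (y : G ⧸ K) ∣ Nat.card P := by
        rw [← hidx, Subgroup.index_eq_card]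
        exact orderOf_dvd_natCard _
      obtain ⟨n, hn⟩ := IsPGroup.iff_card.mp P.isPGroup'
      rw [hn] at h2
      have hcop : Nat.Coprime (q ^ b) (p ^ n) :=
        Nat.Coprime.pow _ _ ((Nat.coprime_primes hq hp).mpr hqp)
      have := Nat.dvd_gcd h1 h2
      rw [hcop] at this
      exact orderOf_eq_one_iff.mp (Nat.dvd_one.mp this)
    exact (Subgroup.commute_of_normal_of_disjoint _ _ hPn hKn (disjoint_iff.mpr hdisj) x y hxP hyK)
  · intro hcomm
    obtain ⟨P⟩ : Nonempty (Sylow p G) := inferInstance
    have hPelt : ∀ x ∈ (P : Subgroup G), ∃ a : ℕ, orderOf x = p ^ a := by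
      intro x hx
      obtain ⟨k, hk⟩ := (IsPGroup.iff_orderOf.mp P.isPGroup') ⟨x, hx⟩
      rw [Subgroup.orderOf_mk] at hk
      exact ⟨k, hk⟩
    -- P is normal
    have hPn : (P : Subgroup G).Normal := by
      rw [← Subgroup.normalizer_eq_top_iff]
      apply eq_top_of_forall_sylow_le
      intro q hq
      by_cases hqp : q = p
      · subst hqp
        exact ⟨P, Subgroup.le_normalizer⟩
      · obtain ⟨Q⟩ : Nonempty (Sylow q G) := inferInstance
        refine ⟨Q, ?_⟩
        intro y hy
        obtain ⟨k, hk⟩ := (IsPGroup.iff_orderOf.mp Q.isPGroup') ⟨y, hy⟩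
        rw [Subgroup.orderOf_mk] at hk
        have hyc : ∀ x ∈ (P : Subgroup G), x * y = y * x := fun x hx =>
          hcomm x y (hPelt x hx) ⟨q, k, hq.out, hqp, hk⟩
        rw [Subgroup.mem_normalizer_iff]
        intro x
        constructor
        · intro hx
          have : y * x * y⁻¹ = x := by rw [← hyc x hx, mul_inv_cancel_right]
          rw [this]; exact hx
        · intro hx
          have h1 := hyc _ hx
          -- (y x y⁻¹) y = y (y x y⁻¹) → x = y x y⁻¹
          have : x = y * x * y⁻¹ := by
            have h2 : y * x * y⁻¹ * y = y * (y * x * y⁻¹) := h1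
            have h3 : y * x = y * (y * x * y⁻¹) := by rw [← h2]; group
            exact mul_left_cancel h3
          rw [this]; exact hx
    haveI := hPn
    -- Schur–Zassenhaus
    obtain ⟨H, hH⟩ := Subgroup.exists_right_complement'_of_coprime (N := (P : Subgroup G))
      P.card_coprime_index
    -- H centralizes P
    have hHord : ∀ h ∈ H, Nat.Coprime (orderOf h) p := by
      intro h hh
      have h1 : orderOf h ∣ Nat.card H := by
        have := orderOf_dvd_natCard (⟨h, hh⟩ : H)
        rwa [Subgroup.orderOf_mk] at this
      rw [← hH.symm.index_eq_card] at h1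
      have h2 : Nat.Coprime (P : Subgroup G).index p :=
        ((Nat.Prime.coprime_iff_not_dvd hp).mpr P.not_dvd_index).symm
      exact Nat.Coprime.coprime_dvd_left h1 h2
    have hHP : ∀ x ∈ (P : Subgroup G), ∀ h ∈ H, x * h = h * x := by
      intro x hx h hh
      have hmem : h ∈ Subgroup.centralizer ({x} : Set G) := by
        apply mem_of_coprime_order p _ _ h (hHord h hh)
        intro y hy
        rw [Subgroup.mem_centralizer_iff]
        intro z hz
        rw [Set.mem_singleton_iff.mp hz]
        exact hcomm x y (hPelt x hx) hy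
      exact Subgroup.mem_centralizer_iff.mp hmem x rfl
    have hHn : H.Normal := by
      rw [← Subgroup.normalizer_eq_top_iff, eq_top_iff, ← hH.sup_eq_top]
      apply sup_le
      · intro x hx
        rw [Subgroup.mem_normalizer_iff]
        intro h
        constructor
        · intro hh
          have : x * h * x⁻¹ = h := by rw [hHP x hx h hh, mul_inv_cancel_right]
          rw [this]; exact hh
        · intro hh
          have h1 := hHP x hx _ hh
          have : h = x * h * x⁻¹ := by
            have h3 : x * h = x * h * x⁻¹ * x := by group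
            have h2 : x * (x * h * x⁻¹) = x * h := by rw [h1]; group
            exact (mul_left_cancel h2).symm
          rw [this]; exact hh
      · exact Subgroup.le_normalizer
    exact ⟨P, H, hPn, hHn, disjoint_iff.mp hH.disjoint, hH.sup_eq_top⟩

end Cfsg.Agent.S3986
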