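import Mathlib
import Cfsg.Statements.S3987
import Cfsg.Agent.S3986
import Cfsg.Agent.Lib.Helper7.ClassCount
import Cfsg.Agent.Lib.Helper2.Basic

set_option autoImplicit false
open Cfsg

namespace Cfsg.Agent.S3987

open Cfsg.Agent.Lib.Helper7

theorem commute_of_class_mul {G : Type*} [Group G] [Finite G] (x y : G)
    (h : (Subgroup.centralizer ({x * y} : Set G)).index
      = (Subgroup.centralizer ({x} : Set G)).index * (Subgroup.centralizer ({y} : Set G)).index) :
    x * y = y * x := by
  classical
  haveI := Fintype.ofFinite G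
  let cl : G → Finset G := fun g => Finset.univ.filter (fun z => IsConj g z)
  have hcard : ∀ g, (cl g).card = (Subgroup.centralizer ({g} : Set G)).index := by
    intro g
    have h1 := ncard_cls_mul_card_centralizer g
    have h2 := Subgroup.card_mul_index (Subgroup.centralizer ({g} : Set G))
    have h3 : (cl g).card = Set.ncard {z | IsConj g z} := by
      rw [Set.ncard_eq_toFinset_card']
      congr 1
      ext z
      simp [cl]
    have hpos : 0 < Nat.card (Subgroup.centralizer ({g} : Set G)) := Nat.card_pos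
    rw [h3]
    apply Nat.eq_of_mul_eq_mul_right hpos
    rw [h1, mul_comm, h2]
  let S := (cl x) ×ˢ (cl y)
  let m : G × G → G := fun ab => ab.1 * ab.2
  have hmemcl : ∀ g z, z ∈ cl g ↔ IsConj g z := by
    intro g z
    simp [cl]
  have hsub : cl (x * y) ⊆ S.image m := by
    intro z hz
    rw [hmemcl] at hz
    obtain ⟨c, hc⟩ := isConj_iff.mp hz
    rw [Finset.mem_image]
    refine ⟨(c * x * c⁻¹, c * y * c⁻¹), ?_, ?_⟩
    · rw [Finset.mem_product]
      exact ⟨(hmemcl _ _).mpr (isConj_iff.mpr ⟨c, rfl⟩), (hmemcl _ _).mpr (isConj_iff.mpr ⟨c, rfl⟩)⟩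
    · show c * x * c⁻¹ * (c * y * c⁻¹) = z
      rw [← hc]; group
  have hle : (S.image m).card ≤ S.card := Finset.card_image_le
  have hS : S.card = (cl (x * y)).card := by
    rw [Finset.card_product, hcard, hcard, hcard, h]
  have heq : (S.image m).card = S.card :=
    le_antisymm hle (hS ▸ Finset.card_le_card hsub)
  have hinj : Set.InjOn m S := Finset.card_image_iff.mp heq
  have h1 : (y * x * y⁻¹, y) ∈ S := by
    rw [Finset.mem_product]
    exact ⟨(hmemcl _ _).mpr (isConj_iff.mpr ⟨y, rfl⟩), (hmemcl _ _).mpr (IsConj.refl y)⟩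
  have h2 : (x, x⁻¹ * y * x) ∈ S := by
    rw [Finset.mem_product]
    refine ⟨(hmemcl _ _).mpr (IsConj.refl x), (hmemcl _ _).mpr (isConj_iff.mpr ⟨x⁻¹, ?_⟩)⟩
    rw [inv_inv]
  have h3 : m (y * x * y⁻¹, y) = m (x, x⁻¹ * y * x) := by
    show y * x * y⁻¹ * y = x * (x⁻¹ * y * x)
    group
  have h4 := hinj h1 h2 h3
  have h5 : y * x * y⁻¹ = x := congrArg Prod.fst h4
  calc x * y = (y * x * y⁻¹) * y := by rw [h5]
    _ = y * x := by group

/-- Let p be a prime and G a finite group. Then some Sylow p-subgroup of G is a direct factor of G (normal with a normal complement) if and only if for every element x of p-power order and every element y whose order is a power of a prime other than p, the conjugacy class of x y has as many elements as the product of the sizes of the classes of x and of y. -/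
theorem result {G : Type*} [Group G] [Finite G] (p : ℕ) [Fact p.Prime] : (∃ (P : Sylow p G) (K : Subgroup G), (P : Subgroup G).Normal ∧ K.Normal ∧ (P : Subgroup G) ⊓ K = ⊥ ∧ (P : Subgroup G) ⊔ K = ⊤) ↔ ∀ x y : G, (∃ a : ℕ, orderOf x = p ^ a) → (∃ q b : ℕ, q.Prime ∧ q ≠ p ∧ orderOf y = q ^ b) → (Subgroup.centralizer ({x * y} : Set G)).index = (Subgroup.centralizer ({x} : Set G)).index * (Subgroup.centralizer ({y} : Set G)).index := by
  have hp : p.Prime := Fact.out
  constructor
  · intro hex x y hx hy
    have hcomm := (Cfsg.Agent.S3986.result (G := G) p).mp hex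
    obtain ⟨P, K, hPn, hKn, hdisj, hsup⟩ := hex
    obtain ⟨a, ha⟩ := hx
    obtain ⟨q, b, hq, hqp, hb⟩ := hy
    have hxy : x * y = y * x := hcomm x y ⟨a, ha⟩ ⟨q, b, hq, hqp, hb⟩
    have hcop : Nat.Coprime (q ^ b) (p ^ a) :=
      Nat.Coprime.pow _ _ ((Nat.coprime_primes hq hp).mpr hqp)
    -- x and y are powers of x * y
    have hxpow : ∃ n : ℕ, (x * y) ^ n = x := by
      obtain ⟨m, hm⟩ := exists_pow_eq_self_of_coprime (x := x) (n := q ^ b) (by rw [ha]; exact hcop)
      refine ⟨q ^ b * m, ?_⟩
      rw [pow_mul, (Commute.mul_pow hxy (q ^ b)), ← hb, pow_orderOf_eq_one, mul_one]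
      rw [hb]; exact hm
    have hypow : ∃ n : ℕ, (x * y) ^ n = y := by
      obtain ⟨m, hm⟩ := exists_pow_eq_self_of_coprime (x := y) (n := p ^ a)
        (by rw [hb]; exact hcop.symm)
      refine ⟨p ^ a * m, ?_⟩
      rw [pow_mul, (Commute.mul_pow hxy (p ^ a)), ← ha, pow_orderOf_eq_one, one_mul]
      rw [ha]; exact hm
    have hCeq : Subgroup.centralizer ({x * y} : Set G)
        = Subgroup.centralizer ({x} : Set G) ⊓ Subgroup.centralizer ({y} : Set G) := by
      ext g
      rw [Subgroup.mem_inf, Subgroup.mem_centralizer_singleton_iff,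
        Subgroup.mem_centralizer_singleton_iff, Subgroup.mem_centralizer_singleton_iff]
      constructor
      · intro hg
        have hg' : Commute g (x * y) := hg
        obtain ⟨n1, hn1⟩ := hxpow
        obtain ⟨n2, hn2⟩ := hypow
        refine ⟨?_, ?_⟩
        · have := hg'.pow_right n1
          rw [hn1] at this
          exact this
        · have := hg'.pow_right n2
          rw [hn2] at this
          exact this
      · rintro ⟨h1, h2⟩
        rw [← mul_assoc, h1, mul_assoc, h2, mul_assoc]
    -- P ≤ C(y), K ≤ C(x)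
    have hPelt : ∀ z ∈ (P : Subgroup G), ∃ a : ℕ, orderOf z = p ^ a := by
      intro z hz
      obtain ⟨k, hk⟩ := (IsPGroup.iff_orderOf.mp P.isPGroup') ⟨z, hz⟩
      rw [Subgroup.orderOf_mk] at hk
      exact ⟨k, hk⟩
    have hPC : (P : Subgroup G) ≤ Subgroup.centralizer ({y} : Set G) := by
      intro z hz
      rw [Subgroup.mem_centralizer_singleton_iff]
      exact hcomm z y (hPelt z hz) ⟨q, b, hq, hqp, hb⟩
    have hKcard : Nat.card K = (P : Subgroup G).index := by
      haveI := hPn
      have h1 : (P : Subgroup G).relIndex (K ⊔ (P : Subgroup G)) = (P : Subgroup G).relIndex K :=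
        Subgroup.relIndex_sup_right _ _
      rw [sup_comm, hsup, Subgroup.relIndex_top_right] at h1
      rw [h1, ← Subgroup.inf_relIndex_right, hdisj, Subgroup.relIndex_bot_left]
    have hKC : K ≤ Subgroup.centralizer ({x} : Set G) := by
      intro k hk
      apply mem_of_coprime_order p
      · intro z hz
        rw [Subgroup.mem_centralizer_singleton_iff]
        exact (hcomm x z ⟨a, ha⟩ hz).symm
      · have h1 : orderOf k ∣ Nat.card K := by
          have := orderOf_dvd_natCard (⟨k, hk⟩ : K)
          rwa [Subgroup.orderOf_mk] at this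
        rw [hKcard] at h1
        have h2 : Nat.Coprime (P : Subgroup G).index p :=
          ((Nat.Prime.coprime_iff_not_dvd hp).mpr P.not_dvd_index).symm
        exact Nat.Coprime.coprime_dvd_left h1 h2
    -- factorization
    have hfac : ∀ s ∈ (⊤ : Subgroup G), ∃ u ∈ Subgroup.centralizer ({x} : Set G),
        ∃ v ∈ Subgroup.centralizer ({y} : Set G), s = u * v := by
      intro s _
      haveI := hKn
      have hs : s ∈ K ⊔ (P : Subgroup G) := by rw [sup_comm, hsup]; exact Subgroup.mem_top s
      obtain ⟨u, hu, v, hv, huv⟩ := Subgroup.mem_sup_of_normal_left.mp hs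
      exact ⟨u, hKC hu, v, hPC hv, huv.symm⟩
    have hrel := Cfsg.Agent.Lib.Helper2.relIndex_eq_of_forall_exists_mul
      (Subgroup.centralizer ({x} : Set G)) (Subgroup.centralizer ({y} : Set G)) ⊤ le_top hfac
    rw [Subgroup.relIndex_top_right] at hrel
    rw [hCeq, ← Subgroup.relIndex_mul_index (inf_le_left :
      Subgroup.centralizer ({x} : Set G) ⊓ Subgroup.centralizer ({y} : Set G)
        ≤ Subgroup.centralizer ({x} : Set G)), Subgroup.inf_relIndex_left, hrel, mul_comm]
  · intro hcls
    apply (Cfsg.Agent.S3986.result (G := G) p).mpr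
    intro x y hx hy
    exact commute_of_class_mul x y (hcls x y hx hy)

end Cfsg.Agent.S3987
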