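import Cfsg.Statements.S3992
import Mathlib
import Cfsg.Agent.Lib.Helper7.EPPO4

set_option autoImplicit false
open Cfsg

namespace Cfsg.Agent.S3992

open Cfsg.Agent.Lib.Helper7.EPPO

/-- Let G be a finite non-solvable group in which every element has prime-power order, and let R be its largest solvable normal subgroup. Then R is a p-group for some prime p; G/R has a non-abelian simple normal subgroup contained in every nontrivial normal subgroup of G/R (its unique minimal normal subgroup); and the order of every solvable subgroup of G has at most two prime divisors. -/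
theorem result {G : Type*} [Group G] [Finite G] (hns : ¬ Group.IsSolvable G) (hpp : ∀ g : G, g ≠ 1 → IsPrimePow (orderOf g))
    (R : Subgroup G) [R.Normal] (hRs : Group.IsSolvable ↥R) (hRmax : ∀ N : Subgroup G, N.Normal → Group.IsSolvable ↥N → N ≤ R) :
    (∃ p : ℕ, p.Prime ∧ IsPGroup p ↥R) ∧
      (∃ M : Subgroup (G ⧸ R), M.Normal ∧ IsSimpleGroup ↥M ∧ ¬ IsMulCommutative ↥M ∧
        ∀ N : Subgroup (G ⧸ R), N.Normal → N ≠ ⊥ → M ≤ N) ∧
      ∀ H : Subgroup G, Group.IsSolvable ↥H → (Nat.card ↥H).primeFactors.card ≤ 2 := by
  refine ⟨isPGroup_of_solvable_normal hpp hns R hRs, ?_, ?_⟩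
  · haveI : Nontrivial (G ⧸ R) := by
      by_contra h
      rw [not_nontrivial_iff_subsingleton] at h
      apply hns
      apply isSolvable_of_quotient R hRs
      exact Group.isSolvable_of_comm (fun a b => Subsingleton.elim _ _)
    exact exists_unique_minimal_normal (eppo_quotient hpp R)
      (fun K hK hKs => eq_bot_of_solvable_normal_quotient R hRs hRmax K hK hKs)
  · intro H hH
    haveI := hH
    exact card_primeFactors_le_two (eppo_subgroup hpp H)

end Cfsg.Agent.S3992
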