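import Mathlib
import Cfsg.Statements.S3994
import Cfsg.Agent.S3993

set_option autoImplicit false
open Cfsg

namespace Cfsg.Agent.S3994

open Cfsg.Agent.S3993 Cfsg.Agent.Lib.Helper7

universe u

theorem coprime_part (N n : ℕ) (hN : 0 < N) (hn : 0 < n) :
    Nat.Coprime (N / Nat.gcd N (n ^ N)) n := by
  rw [Nat.coprime_iff_gcd_eq_one]
  by_contra hne
  obtain ⟨p, hp, hpd⟩ := Nat.exists_prime_and_dvd hne
  have hpM : p ∣ N / Nat.gcd N (n ^ N) := hpd.trans (Nat.gcd_dvd_left _ _)
  have hpn : p ∣ n := hpd.trans (Nat.gcd_dvd_right _ _)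
  have hN0 : N ≠ 0 := hN.ne'
  have hn0 : n ≠ 0 := hn.ne'
  have hnN0 : n ^ N ≠ 0 := pow_ne_zero _ hn0
  have hd : Nat.gcd N (n ^ N) ∣ N := Nat.gcd_dvd_left _ _
  have h1 : (N / Nat.gcd N (n ^ N)).factorization p =
      N.factorization p - (Nat.gcd N (n ^ N)).factorization p := by
    rw [Nat.factorization_div hd]; rfl
  have h2 : (Nat.gcd N (n ^ N)).factorization p = N.factorization p := by
    rw [Nat.factorization_gcd hN0 hnN0, Finsupp.inf_apply, Nat.factorization_pow]
    apply min_eq_left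
    have h3 : N.factorization p < N := Nat.factorization_lt p hN0
    have h4 : 1 ≤ n.factorization p := (hp.dvd_iff_one_le_factorization hn0).mp hpn
    simp only [Finsupp.smul_apply, smul_eq_mul]
    nlinarith
  have h3 : (N / Nat.gcd N (n ^ N)).factorization p = 0 := by rw [h1, h2, Nat.sub_self]
  have hM0 : N / Nat.gcd N (n ^ N) ≠ 0 := by
    intro h0
    rw [h0] at hpM
    have := Nat.div_mul_cancel hd
    rw [h0, zero_mul] at this
    exact hN0 this.symm
  have := (hp.dvd_iff_one_le_factorization hM0).mp hpM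
  omega

theorem card_split {G : Type*} [Group G] [Finite G] (D M : ℕ) (hcop : Nat.Coprime D M)
    (hDM : ∀ g : G, g ^ (D * M) = 1) (Pred : G → Prop)
    (hPred : ∀ y z : G, Commute y z → y ^ D = 1 → z ^ M = 1 → (Pred (y * z) ↔ Pred y)) :
    Nat.card {g : G // Pred g} =
    Nat.card (Σ y : {y : G // y ^ D = 1 ∧ Pred y}, {z : G // Commute y.1 z ∧ z ^ M = 1}) := by
  have hbez := Nat.gcd_eq_gcd_ab D M
  rw [hcop] at hbez
  set u := Nat.gcdA D M
  set v := Nat.gcdB D M
  have hbez' : (D : ℤ) * u + (M : ℤ) * v = 1 := by exact_mod_cast hbez.symm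
  symm
  refine Nat.card_congr (Equiv.ofBijective
    (fun s => ⟨s.1.1 * s.2.1, (hPred s.1.1 s.2.1 s.2.2.1 s.1.2.1 s.2.2.2).mpr s.1.2.2⟩) ⟨?_, ?_⟩)
  · rintro ⟨⟨y, hy, hyP⟩, ⟨z, hzc, hz⟩⟩ ⟨⟨y', hy', hyP'⟩, ⟨z', hzc', hz'⟩⟩ h
    have h' : y * z = y' * z' := congrArg Subtype.val h
    have e1 : (y * z) ^ ((M : ℤ) * v) = y := ppart y z hzc D M u v hbez' hy hz
    have e2 : (y' * z') ^ ((M : ℤ) * v) = y' := ppart y' z' hzc' D M u v hbez' hy' hz'
    have hyy : y = y' := by rw [← e1, ← e2, h']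
    subst hyy
    have hzz : z = z' := mul_left_cancel h'
    subst hzz
    rfl
  · rintro ⟨x, hx⟩
    set y := x ^ ((M : ℤ) * v) with hy
    set z := x ^ ((D : ℤ) * u) with hz
    have hyz : y * z = x := by
      rw [hy, hz, ← zpow_add, add_comm, hbez', zpow_one]
    have hcomm : Commute y z := (Commute.refl x).zpow_zpow _ _
    have hyD : y ^ D = 1 := by
      rw [hy, ← zpow_natCast, ← zpow_mul]
      have : (M : ℤ) * v * (D : ℤ) = ((D * M : ℕ) : ℤ) * v := by push_cast; ring
      rw [this, zpow_mul, zpow_natCast, hDM, one_zpow]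
    have hzM : z ^ M = 1 := by
      rw [hz, ← zpow_natCast, ← zpow_mul]
      have : (D : ℤ) * u * (M : ℤ) = ((D * M : ℕ) : ℤ) * u := by push_cast; ring
      rw [this, zpow_mul, zpow_natCast, hDM, one_zpow]
    have hyP : Pred y := (hPred y z hcomm hyD hzM).mp (by rw [hyz]; exact hx)
    refine ⟨⟨⟨y, hyD, hyP⟩, ⟨z, hcomm, hzM⟩⟩, ?_⟩
    apply Subtype.ext
    exact hyz

theorem result {G : Type*} [Group G] [Finite G] (n : ℕ) (hn : 0 < n) :
    Nat.card {g : G // n ∣ orderOf g} = 0 ∨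
      (Nat.card G / Nat.gcd (Nat.card G) (n ^ Nat.card G)) ∣ Nat.card {g : G // n ∣ orderOf g} := by
  right
  classical
  have : Fintype G := Fintype.ofFinite G
  set N := Nat.card G with hN
  have hNpos : 0 < N := Nat.card_pos
  set D := Nat.gcd N (n ^ N) with hD
  set M := N / D with hM
  have hDN : D ∣ N := Nat.gcd_dvd_left _ _
  have hDMN : D * M = N := Nat.mul_div_cancel' hDN
  have hMn : Nat.Coprime M n := coprime_part N n hNpos hn
  have hcop : Nat.Coprime D M := by
    have h1 : Nat.Coprime M (n ^ N) := Nat.Coprime.pow_right _ hMn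
    exact (Nat.Coprime.coprime_dvd_right (Nat.gcd_dvd_right _ _) h1).symm
  have hMG : M ∣ Nat.card G := ⟨D, by rw [← hN, ← hDMN]; ring⟩
  rw [card_split D M hcop (fun g => by rw [hDMN]; exact pow_card_eq_one')
    (fun g => n ∣ orderOf g) ?_, Nat.card_sigma]
  · rw [← Finset.sum_subtype (Finset.univ.filter (fun y : G => y ^ D = 1 ∧ n ∣ orderOf y))
      (by simp) (fun y => Nat.card {z : G // Commute y z ∧ z ^ M = 1})]
    apply dvd_sum_of_class
    · intro y hy g
      simp only [Finset.mem_filter, Finset.mem_univ, true_and] at hy ⊢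
      have := (MulAut.conj g).orderOf_eq y
      rw [MulAut.conj_apply] at this
      rw [this, conj_pow, hy.1]
      exact ⟨by group, hy.2⟩
    · intro y g
      refine Nat.card_congr ⟨fun z => ⟨g⁻¹ * z.1 * g, ?_, ?_⟩,
        fun z => ⟨g * z.1 * g⁻¹, ?_, ?_⟩, ?_, ?_⟩
      · have h := z.2.1.eq
        show y * (g⁻¹ * z.1 * g) = g⁻¹ * z.1 * g * y
        have h' : g * y * g⁻¹ * z.1 = z.1 * (g * y * g⁻¹) := h
        calc y * (g⁻¹ * z.1 * g) = g⁻¹ * (g * y * g⁻¹ * z.1) * g := by group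
          _ = g⁻¹ * (z.1 * (g * y * g⁻¹)) * g := by rw [h']
          _ = _ := by group
      · have : g⁻¹ * z.1 * g = g⁻¹ * z.1 * g⁻¹⁻¹ := by rw [inv_inv]
        rw [this, conj_pow, z.2.2]; group
      · have h := z.2.1.eq
        show g * y * g⁻¹ * (g * z.1 * g⁻¹) = g * z.1 * g⁻¹ * (g * y * g⁻¹)
        calc g * y * g⁻¹ * (g * z.1 * g⁻¹) = g * (y * z.1) * g⁻¹ := by group
          _ = g * (z.1 * y) * g⁻¹ := by rw [h]
          _ = _ := by group
      · rw [conj_pow, z.2.2]; group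
      · intro z; apply Subtype.ext; show g * (g⁻¹ * z.1 * g) * g⁻¹ = z.1; group
      · intro z; apply Subtype.ext; show g⁻¹ * (g * z.1 * g⁻¹) * g = z.1; group
    · intro y _
      -- M ∣ |cls y| * L (C_G(y)) M
      set C := Subgroup.centralizer ({y} : Set G) with hC
      have hF : Nat.card {z : G // Commute y z ∧ z ^ M = 1} = L C M := by
        unfold L
        refine Nat.card_congr ⟨fun z => ⟨⟨z.1, ?_⟩, ?_⟩, fun c => ⟨c.1.1, ?_, ?_⟩, ?_, ?_⟩
        · exact Subgroup.mem_centralizer_singleton_iff.mpr z.2.1.eq.symm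
        · apply Subtype.ext
          simpa using z.2.2
        · exact (Subgroup.mem_centralizer_singleton_iff.mp c.1.2).symm
        · have := congrArg Subtype.val c.2
          simpa using this
        · intro z; rfl
        · intro c; rfl
      have hfrob : Nat.gcd M (Nat.card C) ∣ L C M := by
        rw [L_gcd C M]
        exact Cfsg.Agent.S3993.result (G := C) _ (Nat.gcd_dvd_right _ _)
      have hcls := ncard_cls_mul_card_centralizer y
      have h1 : M ∣ Set.ncard {w : G | IsConj y w} * Nat.gcd (Nat.card C) M := by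
        rw [← Nat.gcd_mul_left]
        exact Nat.dvd_gcd (hcls ▸ hMG) (Dvd.intro_left _ rfl)
      rw [hF]
      refine h1.trans (mul_dvd_mul_left _ ?_)
      rw [Nat.gcd_comm]
      exact hfrob
  · intro y z hc hy hz
    have hoy : orderOf y ∣ D := orderOf_dvd_of_pow_eq_one hy
    have hoz : orderOf z ∣ M := orderOf_dvd_of_pow_eq_one hz
    have hcop' : Nat.Coprime (orderOf y) (orderOf z) :=
      Nat.Coprime.coprime_dvd_left hoy (Nat.Coprime.coprime_dvd_right hoz hcop)
    rw [hc.orderOf_mul_eq_mul_orderOf_of_coprime hcop']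
    constructor
    · intro h
      have hnz : Nat.Coprime n (orderOf z) :=
        (Nat.Coprime.coprime_dvd_left hoz hMn).symm
      exact hnz.dvd_of_dvd_mul_right h
    · intro h
      exact h.trans (dvd_mul_right _ _)

end Cfsg.Agent.S3994
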