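import Mathlib
import Cfsg.Statements.S3995
import Cfsg.Agent.Lib.Helper7.SameOrd5

set_option autoImplicit false
open Cfsg

namespace Cfsg.Agent.S3995

open Cfsg.Agent.Lib.Helper7.SameOrd

/-- Let G be a finite group such that the numbers of elements of each order that occurs in G (the numbers #{g : o(g) = m}, m ranging over the element orders of G) take exactly two values, 1 and some n ≠ 1. Then either G is a p-group of exponent p and order at least 3 for some prime p, or G is the quaternion group of order 8, or G is cyclic of order 4, or G ≅ Z₂ × P for a p-group P of exponent p with p an odd prime. -/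
theorem result {G : Type*} [Group G] [Finite G] (n : ℕ) (hn : n ≠ 1) (h : ((fun m : ℕ => Nat.card {g : G // orderOf g = m}) '' Set.range (orderOf : G → ℕ)) = {1, n}) :
    (∃ p : ℕ, p.Prime ∧ IsPGroup p G ∧ 3 ≤ Nat.card G ∧ Monoid.exponent G = p) ∨
      Nonempty (G ≃* QuaternionGroup 2) ∨ (IsCyclic G ∧ Nat.card G = 4) ∨
      (∃ (p : ℕ) (P : Type) (_ : Group P) (_ : Finite P), p.Prime ∧ p ≠ 2 ∧ IsPGroup p P ∧ Monoid.exponent P = p ∧
        Nonempty (G ≃* Multiplicative (ZMod 2) × P)) := by
  -- translate the hypothesis
  have hv : TwoVal G n := by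
    intro m
    by_cases hm : m ∈ Set.range (orderOf : G → ℕ)
    · right
      have : s G m ∈ ({1, n} : Set ℕ) := by
        rw [← h]
        exact ⟨m, hm, rfl⟩
      simpa using this
    · left
      exact (s_eq_zero_iff m).mpr hm
  obtain ⟨m₀, hm₀r, hm₀⟩ : ∃ m ∈ Set.range (orderOf : G → ℕ), s G m = n := by
    have : n ∈ ({1, n} : Set ℕ) := by simp
    rw [← h] at this
    obtain ⟨m, hm, hmn⟩ := this
    exact ⟨m, hm, hmn⟩
  have hn0 : 0 < n := by
    rw [← hm₀]
    exact (s_pos_iff m₀).mpr hm₀r
  have hm₀1 : m₀ ≠ 1 := by
    rintro rfl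
    rw [s_one] at hm₀
    exact hn hm₀.symm
  haveI hnt : Nontrivial G := by
    obtain ⟨g, hg⟩ := hm₀r
    refine ⟨⟨g, 1, ?_⟩⟩
    rintro rfl
    rw [orderOf_one] at hg
    exact hm₀1 hg.symm
  have hcard1 : Nat.card G ≠ 1 := by
    intro h1
    have := (Nat.card_eq_one_iff_unique.mp h1).1
    exact not_subsingleton G this
  by_cases h2G : 2 ∣ Nat.card G
  · have h2pos : 0 < s G 2 := s_prime_pos Nat.prime_two h2G
    rcases hv 2 with h2 | h2 | h2
    · omega
    · -- unique involution
      by_cases h4 : 0 < s G 4
      · -- a `2`-group
        right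
        have hprime : ∀ q : ℕ, q.Prime → q ∣ Nat.card G → q = 2 := by
          intro q hq hqG
          by_contra hq2
          exact hv.no_odd_of_four h2 h4 hq hq2 hqG
        have hcard : Nat.card G = 2 ^ (Nat.card G).primeFactorsList.length :=
          Nat.eq_prime_pow_of_unique_prime_dvd Nat.card_pos.ne' (fun {d} hd hdG => hprime d hd hdG)
        have hG2 : IsPGroup 2 G := by
          haveI : Fact (Nat.Prime 2) := ⟨Nat.prime_two⟩
          exact IsPGroup.of_card hcard
        rcases two_group_structure hG2 h2 h4 (hv.no_eight h2 h4) with hq | hc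
        · left; exact hq
        · right; left; exact hc
      · -- `Z₂ × P`
        right; right; right
        have h40 : s G 4 = 0 := by omega
        have h4G : ¬ 4 ∣ Nat.card G := by
          intro h4G
          have h5 := frobenius_sum (G := G) 4 h4G _ dvd_sets_four
          rw [Finset.sum_insert (by decide), Finset.sum_insert (by decide), Finset.sum_singleton,
            s_one, h2, h40] at h5
          omega
        -- an odd prime divisor
        have hex : ∃ p : ℕ, p.Prime ∧ p ≠ 2 ∧ p ∣ Nat.card G := by
          by_contra hcon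
          push_neg at hcon
          have hprime : ∀ q : ℕ, q.Prime → q ∣ Nat.card G → q = 2 := by
            intro q hq hqG
            by_contra hq2
            exact hcon q hq hq2 hqG
          have hcard : Nat.card G = 2 ^ (Nat.card G).primeFactorsList.length :=
            Nat.eq_prime_pow_of_unique_prime_dvd Nat.card_pos.ne'
              (fun {d} hd hdG => hprime d hd hdG)
          set a := (Nat.card G).primeFactorsList.length with ha
          have ha2 : a < 2 := by
            by_contra hcon2
            apply h4G
            rw [hcard]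
            calc (4 : ℕ) = 2 ^ 2 := by norm_num
              _ ∣ 2 ^ a := pow_dvd_pow 2 (by omega)
          have hm₀d : m₀ ∣ Nat.card G := dvd_card_of_s_pos (by rw [hm₀]; exact hn0)
          rw [hcard] at hm₀d
          obtain ⟨j, hj, rfl⟩ := (Nat.dvd_prime_pow Nat.prime_two).mp hm₀d
          have : j = 0 ∨ j = 1 := by omega
          rcases this with rfl | rfl
          · exact hm₀1 (pow_zero 2)
          · rw [pow_one, h2] at hm₀
            exact hn hm₀.symm
        obtain ⟨p, hp, hp2, hpG⟩ := hex
        have hodd : p % 2 = 1 := by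
          rcases hp.eq_two_or_odd with hh | hh
          · exact absurd hh hp2
          · exact hh
        obtain ⟨M, hM⟩ := h2G
        have hMpos : 0 < M := by
          rcases Nat.eq_zero_or_pos M with h0 | h0
          · rw [h0, mul_zero] at hM
            exact absurd hM Nat.card_pos.ne'
          · exact h0
        have hMprime : ∀ q : ℕ, q.Prime → q ∣ M → q = p := by
          intro q hq hqM
          have hqG : q ∣ Nat.card G := by rw [hM]; exact Dvd.dvd.mul_left hqM 2
          have hq2 : q ≠ 2 := by
            rintro rfl
            apply h4G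
            rw [hM]
            obtain ⟨c, hc⟩ := hqM
            exact ⟨c, by rw [hc]; ring⟩
          exact hv.odd_prime_unique hq hp hq2 hp2 hqG hpG
        have hMcard : M = p ^ M.primeFactorsList.length :=
          Nat.eq_prime_pow_of_unique_prime_dvd hMpos.ne' (fun {d} hd hdM => hMprime d hd hdM)
        have hpM : p ∣ M := by
          have : p ∣ 2 * M := hM ▸ hpG
          rcases (Nat.Prime.dvd_mul hp).mp this with h5 | h5
          · exfalso
            have := Nat.le_of_dvd (by norm_num) h5
            have := hp.two_le
            omega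
          · exact h5
        have ha1 : 1 ≤ M.primeFactorsList.length := by
          by_contra hcon
          have : M.primeFactorsList.length = 0 := by omega
          rw [this, pow_zero] at hMcard
          rw [hMcard] at hpM
          exact hp.one_lt.ne' (Nat.dvd_one.mp hpM)
        obtain ⟨P, iG, iF, hP1, hP2, hP3⟩ := z2_times (G := G) hp hp2 ha1 h2
          (by rw [hM, ← hMcard]) (hv.no_prime_sq hp hp2)
        exact ⟨p, P, iG, iF, hp, hp2, hP1, hP2, hP3⟩
    · -- `s 2 = n`: elementary abelian-like `2`-group of exponent `2`
      left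
      have hprime : ∀ q : ℕ, q.Prime → q ∣ Nat.card G → q = 2 := by
        intro q hq hqG
        by_contra hq2
        exact hv.no_odd_of_two h2 h2G hq hq2 hqG
      obtain ⟨hP1, hP2⟩ := pgroup_of_unique_prime (G := G) Nat.prime_two hprime
        (by rw [show (2 : ℕ) ^ 2 = 4 by norm_num]; exact hv.no_four_of_two h2)
      refine ⟨2, Nat.prime_two, hP1, ?_, hP2⟩
      have h5 := card_pow_eq_one (G := G) 2 (by norm_num) _ (dvd_sets_prime Nat.prime_two)
      rw [Finset.sum_insert (by decide), Finset.sum_singleton, s_one, h2] at h5
      have h6 : Nat.card {g : G // g ^ 2 = 1} ≤ Nat.card G := Finite.card_subtype_le _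
      omega
  · -- odd order
    left
    obtain ⟨p, hp, hpG⟩ := Nat.exists_prime_and_dvd hcard1
    have hp2 : p ≠ 2 := by
      rintro rfl
      exact h2G hpG
    have hprime : ∀ q : ℕ, q.Prime → q ∣ Nat.card G → q = p := by
      intro q hq hqG
      have hq2 : q ≠ 2 := by
        rintro rfl
        exact h2G hqG
      exact hv.odd_prime_unique hq hp hq2 hp2 hqG hpG
    obtain ⟨hP1, hP2⟩ := pgroup_of_unique_prime (G := G) hp hprime (hv.no_prime_sq hp hp2)
    refine ⟨p, hp, hP1, ?_, hP2⟩
    have h1 := Nat.le_of_dvd Nat.card_pos hpG
    have h2 := hp.two_le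
    omega

end Cfsg.Agent.S3995
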