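import Cfsg.Statements.S3997
import Mathlib

set_option autoImplicit false
open Cfsg

namespace Cfsg.Agent.S3997

/-- Let G and H be finite groups with the same order type: for every m they have the same number of elements of order m. If G is nilpotent then so is H. -/
theorem result {G H : Type*} [Group G] [Finite G] [Group H] [Finite H] (hT : (∀ m : ℕ, Nat.card {g : G // orderOf g = m} = Nat.card {h : H // orderOf h = m})) (hG : Group.IsNilpotent G) :
    Group.IsNilpotent H := by
  -- an order-preserving bijection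
  have hφ : ∃ φ : G ≃ H, ∀ g, orderOf (φ g) = orderOf g := by
    have hne : ∀ m : ℕ, Nonempty ({g : G // orderOf g = m} ≃ {h : H // orderOf h = m}) :=
      fun m => Finite.card_eq.mp (hT m)
    let ψ : ∀ m : ℕ, {g : G // orderOf g = m} ≃ {h : H // orderOf h = m} :=
      fun m => Classical.choice (hne m)
    let φ : G ≃ H := (Equiv.sigmaFiberEquiv (orderOf : G → ℕ)).symm.trans
      ((Equiv.sigmaCongrRight ψ).trans (Equiv.sigmaFiberEquiv (orderOf : H → ℕ)))
    refine ⟨φ, fun g => ?_⟩
    exact (ψ (orderOf g) ⟨g, rfl⟩).2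
  obtain ⟨φ, hφ⟩ := hφ
  have hcard : Nat.card G = Nat.card H := Nat.card_congr φ
  have hGsyl := ((isNilpotent_of_finite_tfae (G := G)).out 0 3).mp hG
  apply ((isNilpotent_of_finite_tfae (G := H)).out 0 3).mpr
  intro p hp Q
  haveI := hp
  obtain ⟨P⟩ : Nonempty (Sylow p G) := inferInstance
  have hPn := hGsyl p hp P
  have hSG : {g : G | ∃ j, orderOf g = p ^ j} ⊆ (P : Set G) := by
    rintro g ⟨j, hj⟩
    have hz : IsPGroup p (Subgroup.zpowers g) :=
      IsPGroup.of_card (n := j) (by rw [Nat.card_zpowers, hj])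
    obtain ⟨P', hP'⟩ := hz.exists_le_sylow
    haveI := Sylow.unique_of_normal P hPn
    rw [Subsingleton.elim P P']
    exact hP' (Subgroup.mem_zpowers g)
  have himg : {h : H | ∃ j, orderOf h = p ^ j} = φ '' {g : G | ∃ j, orderOf g = p ^ j} := by
    ext h
    constructor
    · rintro ⟨j, hj⟩
      refine ⟨φ.symm h, ⟨j, ?_⟩, φ.apply_symm_apply h⟩
      rw [← hφ, φ.apply_symm_apply, hj]
    · rintro ⟨g, ⟨j, hj⟩, rfl⟩
      exact ⟨j, by rw [hφ, hj]⟩
  have key : ∀ Q : Sylow p H, (Q : Set H) = {h : H | ∃ j, orderOf h = p ^ j} := by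
    intro Q
    apply Set.eq_of_subset_of_ncard_le
    · intro h hh
      obtain ⟨k, hk⟩ := (IsPGroup.iff_orderOf.mp Q.isPGroup') ⟨h, hh⟩
      rw [Subgroup.orderOf_mk] at hk
      exact ⟨k, hk⟩
    · rw [himg, Set.ncard_image_of_injective _ φ.injective]
      calc Set.ncard {g : G | ∃ j, orderOf g = p ^ j} ≤ Set.ncard (P : Set G) :=
            Set.ncard_le_ncard hSG (Set.toFinite _)
        _ = Nat.card P := (Nat.card_coe_set_eq _).symm
        _ = p ^ (Nat.card G).factorization p := P.card_eq_multiplicity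
        _ = p ^ (Nat.card H).factorization p := by rw [hcard]
        _ = Nat.card Q := Q.card_eq_multiplicity.symm
        _ = Set.ncard (Q : Set H) := Nat.card_coe_set_eq _
    · exact Set.toFinite _
  haveI : Subsingleton (Sylow p H) := by
    refine ⟨fun Q1 Q2 => ?_⟩
    apply Sylow.ext
    apply SetLike.coe_injective
    exact (key Q1).trans (key Q2).symm
  exact Sylow.normal_of_subsingleton Q

end Cfsg.Agent.S3997
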