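import Mathlib
import Cfsg.Statements.S4002
import Cfsg.Agent.Lib.Lead.EPPORestore

set_option autoImplicit false
open Cfsg

namespace Cfsg.Agent.S4002

open Cfsg.Agent.Lib.Helper7.EPPO Cfsg.Agent.Lib.Lead.EPPORestore

/-- three primes up to `n` whose pairwise products exceed `n` -/
theorem exists_three_primes (n : ℕ) (hn : 7 ≤ n) :
    ∃ p q r : ℕ, p.Prime ∧ q.Prime ∧ r.Prime ∧ p < q ∧ q < r ∧ r ≤ n ∧ n < p * q := by
  by_cases h14 : n ≤ 14
  · exact ⟨3, 5, 7, by norm_num, by norm_num, by norm_num, by norm_num, by norm_num, hn, by omega⟩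
  by_cases h34 : n ≤ 34
  · exact ⟨5, 7, 11, by norm_num, by norm_num, by norm_num, by norm_num, by norm_num, by omega,
      by omega⟩
  push Not at h14 h34
  obtain ⟨r, hr, hr1, hr2⟩ := Nat.exists_prime_lt_and_le_two_mul (n / 2) (by omega)
  obtain ⟨q, hq, hq1, hq2⟩ := Nat.exists_prime_lt_and_le_two_mul (n / 2 / 2) (by omega)
  obtain ⟨p, hp, hp1, hp2⟩ := Nat.exists_prime_lt_and_le_two_mul (n / 2 / 2 / 2) (by omega)
  refine ⟨p, q, r, hp, hq, hr, by omega, by omega, by omega, ?_⟩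
  have hp5 : 5 ≤ p := by omega
  have hq' : n / 2 / 2 + 1 ≤ q := hq1
  calc n < 5 * (n / 2 / 2 + 1) := by omega
    _ ≤ p * q := Nat.mul_le_mul hp5 hq'

/-- If the set of element orders of a finite group G is {1, 2, …, n} with n ≥ 7, then G is not solvable. -/
theorem result {G : Type*} [Group G] [Finite G] (n : ℕ) (hn : 7 ≤ n) (h : Set.range (orderOf : G → ℕ) = {k : ℕ | 1 ≤ k ∧ k ≤ n}) : ¬ Group.IsSolvable G := by
  intro hsolv
  haveI := hsolv
  obtain ⟨p, q, r, hp, hq, hr, hpq, hqr, hrn, hnpq⟩ := exists_three_primes n hn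
  have hex : ∀ k : ℕ, 1 ≤ k → k ≤ n → ∃ g : G, orderOf g = k := by
    intro k hk1 hk2
    have : k ∈ Set.range (orderOf : G → ℕ) := by rw [h]; exact ⟨hk1, hk2⟩
    exact this
  have hle : ∀ g : G, orderOf g ≤ n := by
    intro g
    have : orderOf g ∈ Set.range (orderOf : G → ℕ) := ⟨g, rfl⟩
    rw [h] at this
    exact this.2
  have hdvd : ∀ k : ℕ, 1 ≤ k → k ≤ n → k ∣ Nat.card G := by
    intro k hk1 hk2
    obtain ⟨g, hg⟩ := hex k hk1 hk2
    rw [← hg]
    exact orderOf_dvd_natCard g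
  apply false_of_three_primes (G := G) hp hq hr (by omega) (by omega) (by omega)
    (hdvd p hp.one_lt.le (by omega)) (hdvd q hq.one_lt.le (by omega)) (hdvd r hr.one_lt.le hrn)
  intro a b ha hb hab g hg
  have h1 := hle g
  rw [hg] at h1
  have hp0 := hp.pos
  rcases ha with rfl | rfl | rfl <;> rcases hb with rfl | rfl | rfl
  · exact hab rfl
  · omega
  · nlinarith
  · nlinarith
  · exact hab rfl
  · nlinarith
  · nlinarith
  · nlinarith
  · exact hab rfl

end Cfsg.Agent.S4002
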