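import Mathlib
import Cfsg.Statements.S4005
import Cfsg.Agent.S0144
import Cfsg.Agent.S0044
import Cfsg.Agent.Lib.Lead.Core
import Cfsg.Agent.Lib.Lead.HallThm
import Cfsg.Agent.Lib.Lead.GenCentralizers
import Cfsg.Agent.Lib.Lead.MaxClass6
import Cfsg.Agent.Lib.Lead.Nilpotent

set_option autoImplicit false
open Cfsg

namespace Cfsg.Agent.S4005

open Cfsg.Agent.Lib.Lead

section
variable {G : Type*} [Group G] [Finite G]

/-- the hypothesis: the element orders are exactly `1, 2, 3` -/
def Hyp (G : Type*) [Group G] : Prop :=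
  Set.range (orderOf : G → ℕ) = {k : ℕ | 1 ≤ k ∧ k ≤ 3}

omit [Finite G] in
theorem Hyp.order (h : Hyp G) (g : G) : orderOf g = 1 ∨ orderOf g = 2 ∨ orderOf g = 3 := by
  have h1 : orderOf g ∈ Set.range (orderOf : G → ℕ) := ⟨g, rfl⟩
  rw [h] at h1
  obtain ⟨h2, h3⟩ := h1
  omega

omit [Finite G] in
theorem Hyp.exists_two (h : Hyp G) : ∃ t : G, orderOf t = 2 := by
  have h1 : (2 : ℕ) ∈ {k : ℕ | 1 ≤ k ∧ k ≤ 3} := ⟨by norm_num, by norm_num⟩
  rw [← h] at h1
  exact h1

omit [Finite G] in
theorem Hyp.exists_three (h : Hyp G) : ∃ t : G, orderOf t = 3 := by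
  have h1 : (3 : ℕ) ∈ {k : ℕ | 1 ≤ k ∧ k ≤ 3} := ⟨by norm_num, by norm_num⟩
  rw [← h] at h1
  exact h1

omit [Finite G] in
/-- elements of orders two and three do not commute -/
theorem Hyp.not_commute (h : Hyp G) {x y : G} (hx : orderOf x = 2) (hy : orderOf y = 3) :
    x * y ≠ y * x := by
  intro hc
  have h1 : Commute x y := hc
  have h2 := h1.orderOf_mul_eq_mul_orderOf_of_coprime (by rw [hx, hy]; norm_num)
  rw [hx, hy] at h2
  rcases h.order (x * y) with h3 | h3 | h3 <;> omega

/-- a prime dividing the order is `2` or `3` -/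
theorem Hyp.prime_dvd (h : Hyp G) {p : ℕ} (hp : p.Prime) (hd : p ∣ Nat.card G) : p = 2 ∨ p = 3 := by
  haveI : Fact p.Prime := ⟨hp⟩
  obtain ⟨g, hg⟩ := exists_prime_orderOf_dvd_card' (G := G) p hd
  rcases h.order g with h3 | h3 | h3
  · rw [hg] at h3; exact absurd h3 hp.one_lt.ne'
  · left; rw [← hg, h3]
  · right; rw [← hg, h3]

/-- elements of a `2`-subgroup square to one -/
theorem Hyp.sq_eq_one (h : Hyp G) {K : Subgroup G} (hK : IsPGroup 2 K) {x : G} (hx : x ∈ K) :
    x ^ 2 = 1 := by
  obtain ⟨k, hk⟩ := hK ⟨x, hx⟩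
  have hk' : x ^ 2 ^ k = 1 := congrArg Subtype.val hk
  have h1 : orderOf x ∣ 2 ^ k := orderOf_dvd_of_pow_eq_one hk'
  rcases h.order x with h3 | h3 | h3
  · rw [orderOf_eq_one_iff] at h3; rw [h3, one_pow]
  · rw [← h3]; exact pow_orderOf_eq_one x
  · exfalso
    rw [h3] at h1
    have := Nat.Prime.dvd_of_dvd_pow Nat.prime_three h1
    norm_num at this

/-- elements of a `3`-subgroup cube to one -/
theorem Hyp.cube_eq_one (h : Hyp G) {K : Subgroup G} (hK : IsPGroup 3 K) {x : G} (hx : x ∈ K) :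
    x ^ 3 = 1 := by
  obtain ⟨k, hk⟩ := hK ⟨x, hx⟩
  have hk' : x ^ 3 ^ k = 1 := congrArg Subtype.val hk
  have h1 : orderOf x ∣ 3 ^ k := orderOf_dvd_of_pow_eq_one hk'
  rcases h.order x with h3 | h3 | h3
  · rw [orderOf_eq_one_iff] at h3; rw [h3, one_pow]
  · exfalso
    rw [h3] at h1
    have := Nat.Prime.dvd_of_dvd_pow Nat.prime_two h1
    norm_num at this
  · rw [← h3]; exact pow_orderOf_eq_one x

omit [Finite G] in
/-- a nonidentity element of a `2`-subgroup has order two -/
theorem order_two_of_sq {x : G} (hx : x ^ 2 = 1) (hx1 : x ≠ 1) : orderOf x = 2 :=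
  orderOf_eq_prime hx hx1

/-- **Fixed-point-free involutions invert.** -/
theorem inverts_of_fpf (t : G) (ht : t ^ 2 = 1) (M : Subgroup G)
    (hM : ∀ m ∈ M, t * m * t⁻¹ ∈ M) (hfix : ∀ m ∈ M, t * m * t⁻¹ = m → m = 1) :
    ∀ m ∈ M, t * m * t⁻¹ = m⁻¹ := by
  classical
  have htinv : t⁻¹ = t := by
    rw [inv_eq_iff_mul_eq_one, ← pow_two]; exact ht
  let φ : M → M := fun m => ⟨(m : G)⁻¹ * (t * m * t⁻¹), M.mul_mem (M.inv_mem m.2) (hM m m.2)⟩
  have hinj : Function.Injective φ := by
    intro a b hab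
    have h1 : (a : G)⁻¹ * (t * a * t⁻¹) = (b : G)⁻¹ * (t * b * t⁻¹) := congrArg Subtype.val hab
    have h2 : t * ((b : G) * (a : G)⁻¹) * t⁻¹ = (b : G) * (a : G)⁻¹ := by
      have : t * ((b : G) * (a : G)⁻¹) * t⁻¹ = (t * b * t⁻¹) * (t * a * t⁻¹)⁻¹ := by group
      rw [this]
      have h3 : t * (b : G) * t⁻¹ = (b : G) * ((a : G)⁻¹ * (t * a * t⁻¹)) := by
        rw [h1]; group
      rw [h3]; group
    have h4 := hfix _ (M.mul_mem b.2 (M.inv_mem a.2)) h2
    apply Subtype.ext
    have : (b : G) = a := by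
      rw [mul_inv_eq_one] at h4
      exact h4
    exact this.symm
  have hsurj : Function.Surjective φ := Finite.surjective_of_injective hinj
  intro m hm
  obtain ⟨a, ha⟩ := hsurj ⟨m, hm⟩
  have h1 : m = (a : G)⁻¹ * (t * a * t⁻¹) := (congrArg Subtype.val ha).symm
  rw [h1]
  have : t * ((a : G)⁻¹ * (t * a * t⁻¹)) * t⁻¹ = (t * (a : G) * t⁻¹)⁻¹ * (t * t * a * (t * t)⁻¹) := by
    group
  rw [this, ← pow_two, ht]
  group

/-- a subgroup inverted by an element is commutative -/
theorem comm_of_inverts (t : G) (M : Subgroup G) (hinv : ∀ m ∈ M, t * m * t⁻¹ = m⁻¹) :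
    ∀ a ∈ M, ∀ b ∈ M, a * b = b * a := by
  intro a ha b hb
  have h1 := hinv (a * b) (M.mul_mem ha hb)
  have h2 : t * (a * b) * t⁻¹ = (t * a * t⁻¹) * (t * b * t⁻¹) := by group
  rw [h2, hinv a ha, hinv b hb, mul_inv_rev] at h1
  have h3 : (a⁻¹ * b⁻¹)⁻¹ = (b⁻¹ * a⁻¹)⁻¹ := by rw [h1]
  simpa using h3.symm

/-- the order is `2 ^ a * 3 ^ b` -/
theorem Hyp.card_eq (h : Hyp G) :
    Nat.card G = 2 ^ (Nat.card G).factorization 2 * 3 ^ (Nat.card G).factorization 3 := by
  set n := Nat.card G with hn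
  have hn0 : n ≠ 0 := Nat.card_pos.ne'
  have h1 := Nat.ordProj_mul_ordCompl_eq_self n 2
  set m := n / 2 ^ n.factorization 2 with hm
  have hm0 : m ≠ 0 := by
    intro h0; rw [h0, mul_zero] at h1; exact hn0 h1.symm
  have hmn : m ∣ n := Dvd.intro_left _ h1
  have h2 : ¬ 2 ∣ m := Nat.not_dvd_ordCompl Nat.prime_two hn0
  have h3 : m = 3 ^ m.primeFactorsList.length := by
    apply Nat.eq_prime_pow_of_unique_prime_dvd hm0
    intro d hd hdm
    rcases h.prime_dvd hd (hdm.trans hmn) with h4 | h4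
    · rw [h4] at hdm; exact absurd hdm h2
    · exact h4
  have h4 : n.factorization 3 = m.primeFactorsList.length := by
    have e : n = 2 ^ (n.factorization 2) * 3 ^ m.primeFactorsList.length := by
      rw [← h3]; exact h1.symm
    conv_lhs => rw [e]
    rw [Nat.factorization_mul (pow_ne_zero _ (by norm_num)) (pow_ne_zero _ (by norm_num)),
      Nat.Prime.factorization_pow Nat.prime_two, Nat.Prime.factorization_pow Nat.prime_three]
    simp
  rw [h4, ← h3]
  exact h1.symm

theorem Hyp.isSolvable (h : Hyp G) : Group.IsSolvable G :=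
  Cfsg.Agent.S0144.result 2 3 _ _ Nat.prime_two Nat.prime_three h.card_eq

/-- the main theorem in the form with `Hyp` -/
theorem main (h : Hyp G) :
    (∃ N : Subgroup G, N.Normal ∧ Cfsg.IsElementaryAbelian 3 N ∧ N.index = 2) ∨
      (∃ N : Subgroup G, N.Normal ∧ Cfsg.IsElementaryAbelian 2 N ∧ N.index = 3) := by
  classical
  haveI : Fact (Nat.Prime 2) := ⟨Nat.prime_two⟩
  haveI : Fact (Nat.Prime 3) := ⟨Nat.prime_three⟩
  haveI hsolv := h.isSolvable
  obtain ⟨t, ht⟩ := h.exists_two
  obtain ⟨y₀, hy₀⟩ := h.exists_three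
  haveI : Nontrivial G := ⟨⟨t, 1, fun h1 => by rw [h1, orderOf_one] at ht; norm_num at ht⟩⟩
  set F := Cfsg.fittingSubgroup G with hF
  set P2 := Cfsg.pCore 2 G with hP2
  set P3 := Cfsg.pCore 3 G with hP3
  have hP2p : IsPGroup 2 P2 := pCore_isPGroup 2
  have hP3p : IsPGroup 3 P3 := pCore_isPGroup 3
  haveI hP2n : P2.Normal := inferInstance
  haveI hP3n : P3.Normal := inferInstance
  have h2dvd : 2 ∣ Nat.card G := ht ▸ orderOf_dvd_natCard t
  have h3dvd : 3 ∣ Nat.card G := hy₀ ▸ orderOf_dvd_natCard y₀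
  have hFle : F ≤ P2 ⊔ P3 := by
    rw [hF, fittingSubgroup_eq_iSup_pCore]
    apply iSup_le
    intro p
    by_cases hp2 : (p : ℕ) = 2
    · rw [hp2]; exact le_sup_left
    by_cases hp3 : (p : ℕ) = 3
    · rw [hp3]; exact le_sup_right
    haveI : Fact (p : ℕ).Prime := ⟨p.2⟩
    rw [pCore_eq_bot_of_not_dvd (p : ℕ) (fun hd => by
      rcases h.prime_dvd p.2 hd with h1 | h1
      · exact hp2 h1
      · exact hp3 h1)]
    exact bot_le
  have hP2F : P2 ≤ F := le_fittingSubgroup inferInstance hP2p.isNilpotent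
  have hP3F : P3 ≤ F := le_fittingSubgroup inferInstance hP3p.isNilpotent
  have hCF : Subgroup.centralizer (F : Set G) ≤ F := Cfsg.Agent.S0044.result
  have hFne : F ≠ ⊥ := by
    obtain ⟨p, M, hp, hMn, -, hMp, hMne, -⟩ := exists_normal_abelian_pgroup (G := G)
    haveI : Fact p.Prime := ⟨hp⟩
    intro hbot
    apply hMne
    have := le_fittingSubgroup hMn hMp.isNilpotent
    rw [← hF, hbot] at this
    exact le_bot_iff.mp this
  -- not both cores are nontrivial
  have hnot : P2 = ⊥ ∨ P3 = ⊥ := by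
    by_contra hcon
    push Not at hcon
    obtain ⟨⟨x, hx⟩, hx1⟩ := (Subgroup.ne_bot_iff_exists_ne_one).mp hcon.1
    obtain ⟨⟨y, hy⟩, hy1⟩ := (Subgroup.ne_bot_iff_exists_ne_one).mp hcon.2
    have hx1' : x ≠ 1 := fun h0 => hx1 (Subtype.ext h0)
    have hy1' : y ≠ 1 := fun h0 => hy1 (Subtype.ext h0)
    have hxo : orderOf x = 2 := orderOf_eq_prime (h.sq_eq_one hP2p hx) hx1'
    have hyo : orderOf y = 3 := orderOf_eq_prime (h.cube_eq_one hP3p hy) hy1'
    apply h.not_commute hxo hyo
    have hdisj := IsPGroup.disjoint_of_ne 2 3 (by norm_num) P2 P3 hP2p hP3p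
    have h1 : x * y * x⁻¹ * y⁻¹ ∈ P2 ⊓ P3 := by
      constructor
      · have : x * y * x⁻¹ * y⁻¹ = x * (y * x⁻¹ * y⁻¹) := by group
        rw [this]
        exact P2.mul_mem hx (hP2n.conj_mem _ (P2.inv_mem hx) y)
      · exact P3.mul_mem (hP3n.conj_mem _ hy x) (P3.inv_mem hy)
    rw [hdisj.eq_bot, Subgroup.mem_bot] at h1
    have h2 : x * y * x⁻¹ * y⁻¹ * (y * x) = y * x := by rw [h1, one_mul]
    rw [← h2]; group
  rcases hnot with hbot | hbot
  · -- `F = O_3(G)`
    left
    have hFN : F = P3 := by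
      apply le_antisymm _ hP3F
      rw [hbot, bot_sup_eq] at hFle
      exact hFle
    have hNne : P3 ≠ ⊥ := hFN ▸ hFne
    have hCN : Subgroup.centralizer (P3 : Set G) ≤ P3 := by
      have := hCF; rwa [hFN] at this
    -- every involution inverts every subgroup of odd order it normalizes
    have hinvol : ∀ s : G, orderOf s = 2 → ∀ M : Subgroup G, IsPGroup 3 M →
        (∀ m ∈ M, s * m * s⁻¹ ∈ M) → ∀ m ∈ M, s * m * s⁻¹ = m⁻¹ := by
      intro s hs M hM hMs
      have hs2 : s ^ 2 = 1 := by rw [← hs]; exact pow_orderOf_eq_one s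
      apply inverts_of_fpf s hs2 M hMs
      intro m hm hfix
      by_contra hm1
      have hmo : orderOf m = 3 := orderOf_eq_prime (h.cube_eq_one hM hm) hm1
      apply h.not_commute hs hmo
      have : s * m = s * m * s⁻¹ * s := by group
      rw [this, hfix]
    have hconjN : ∀ s : G, ∀ m ∈ P3, s * m * s⁻¹ ∈ P3 := fun s m hm => hP3n.conj_mem m hm s
    have hinvN : ∀ s : G, orderOf s = 2 → ∀ m ∈ P3, s * m * s⁻¹ = m⁻¹ :=
      fun s hs => hinvol s hs P3 hP3p (hconjN s)
    have hcommN := comm_of_inverts t P3 (hinvN t ht)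
    -- the product of two involutions lies in `P3`
    have hprod : ∀ s s' : G, orderOf s = 2 → orderOf s' = 2 → s * s' ∈ P3 := by
      intro s s' hs hs'
      apply hCN
      rw [Subgroup.mem_centralizer_iff]
      intro m hm
      have h1 := hinvN s' hs' m hm
      have h2 := hinvN s hs m⁻¹ (P3.inv_mem hm)
      rw [inv_inv] at h2
      have h3 : s * s' * m * (s * s')⁻¹ = m := by
        have : s * s' * m * (s * s')⁻¹ = s * (s' * m * s'⁻¹) * s⁻¹ := by group
        rw [this, h1, h2]
      calc m * (s * s') = (s * s' * m * (s * s')⁻¹) * (s * s') := by rw [h3]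
        _ = s * s' * m := by group
    -- elements of order dividing three lie in `P3`
    have hthree : ∀ y : G, y ^ 3 = 1 → y ∈ P3 := by
      intro y hy3
      have hyp : IsPGroup 3 (Subgroup.zpowers y) := by
        rw [IsPGroup.iff_card, Nat.card_zpowers]
        exact (Nat.dvd_prime_pow Nat.prime_three).mp
          (by rw [pow_one]; exact orderOf_dvd_of_pow_eq_one hy3) |>.imp fun _ h => h.2
      have hynorm : Subgroup.zpowers y ≤ Subgroup.normalizer (P3 : Set G) := by
        rw [Subgroup.normalizer_eq_top]; exact le_top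
      set M := (Subgroup.zpowers y ⊔ P3 : Subgroup G) with hM
      have hMp : IsPGroup 3 M := IsPGroup.to_sup_of_normal_right' hyp hP3p hynorm
      have hyM : y ∈ M := (le_sup_left : Subgroup.zpowers y ≤ M) (Subgroup.mem_zpowers y)
      have htinv : t⁻¹ = t := by
        rw [inv_eq_iff_mul_eq_one, ← pow_two, ← ht]; exact pow_orderOf_eq_one t
      -- `t` normalizes `M`
      have hs : orderOf (y * t * y⁻¹) = 2 := by
        have h1 : SemiconjBy y t (y * t * y⁻¹) := by rw [SemiconjBy]; group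
        rw [← h1.orderOf_eq]; exact ht
      have h1 : t * (y * t * y⁻¹) ∈ P3 := hprod t _ ht hs
      have h2 : t * y * t⁻¹ ∈ M := by
        have : t * y * t⁻¹ = (t * (y * t * y⁻¹)) * y := by rw [htinv]; group
        rw [this]
        exact M.mul_mem ((le_sup_right : P3 ≤ M) h1) hyM
      have htM : ∀ m ∈ M, t * m * t⁻¹ ∈ M := by
        have hle : M ≤ M.comap (MulAut.conj t).toMonoidHom := by
          rw [hM]
          apply sup_le
          · rw [Subgroup.zpowers_le, Subgroup.mem_comap]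
            exact h2
          · intro m hm
            rw [Subgroup.mem_comap]
            exact (le_sup_right : P3 ≤ M) (hconjN t m hm)
        intro m hm
        exact hle hm
      have hinvM := hinvol t ht M hMp htM
      have hcommM := comm_of_inverts t M hinvM
      apply hCN
      rw [Subgroup.mem_centralizer_iff]
      intro m hm
      exact hcommM m ((le_sup_right : P3 ≤ M) hm) y hyM
    refine ⟨P3, hP3n, ⟨⟨⟨fun a b => Subtype.ext (hcommN a a.2 b b.2)⟩⟩,
      fun a ha => h.cube_eq_one hP3p ha⟩, ?_⟩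
    -- the index
    obtain ⟨P⟩ : Nonempty (Sylow 3 G) := inferInstance
    have hPN : (P : Subgroup G) = P3 := by
      apply le_antisymm
      · intro x hx
        exact hthree x (h.cube_eq_one P.isPGroup' hx)
      · exact hP3p.le_sylow_of_normal P
    obtain ⟨T⟩ : Nonempty (Sylow 2 G) := inferInstance
    have hTcard : Nat.card (T : Subgroup G) = 2 := by
      have hTne : (T : Subgroup G) ≠ ⊥ := by
        intro h0
        have := T.card_eq_multiplicity
        rw [h0, Subgroup.card_bot] at this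
        have h1 : 0 < (Nat.card G).factorization 2 :=
          Nat.Prime.factorization_pos_of_dvd Nat.prime_two Nat.card_pos.ne' h2dvd
        have : 1 < 2 ^ (Nat.card G).factorization 2 := Nat.one_lt_pow h1.ne' (by norm_num)
        omega
      obtain ⟨⟨s, hsT⟩, hs1⟩ := (Subgroup.ne_bot_iff_exists_ne_one).mp hTne
      have hs1' : s ≠ 1 := fun h0 => hs1 (Subtype.ext h0)
      have hso : orderOf s = 2 := orderOf_eq_prime (h.sq_eq_one T.isPGroup' hsT) hs1'
      have hle : (T : Subgroup G) ≤ Subgroup.zpowers s := by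
        intro x hx
        by_cases hx1 : x = 1
        · rw [hx1]; exact Subgroup.one_mem _
        · have hxo : orderOf x = 2 := orderOf_eq_prime (h.sq_eq_one T.isPGroup' hx) hx1
          have h1 : s * x ∈ P3 := hprod s x hso hxo
          have h2 : s * x ∈ (T : Subgroup G) := Subgroup.mul_mem _ hsT hx
          have hdisj := IsPGroup.disjoint_of_ne 2 3 (by norm_num) (T : Subgroup G) P3 T.isPGroup' hP3p
          have h3 : s * x ∈ (T : Subgroup G) ⊓ P3 := ⟨h2, h1⟩
          rw [hdisj.eq_bot, Subgroup.mem_bot] at h3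
          have h4 : x = s⁻¹ := (eq_inv_of_mul_eq_one_right h3)
          rw [h4]
          exact Subgroup.inv_mem _ (Subgroup.mem_zpowers s)
      apply le_antisymm
      · have := Subgroup.card_le_of_le hle
        rwa [Nat.card_zpowers, hso] at this
      · have := Subgroup.card_le_of_le ((Subgroup.zpowers_le).mpr hsT)
        rwa [Nat.card_zpowers, hso] at this
    have hcard := h.card_eq
    rw [← T.card_eq_multiplicity, ← P.card_eq_multiplicity, hTcard, hPN] at hcard
    have := P3.card_mul_index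
    rw [hcard] at this
    have h5 : Nat.card P3 * P3.index = Nat.card P3 * 2 := by rw [this]; ring
    exact Nat.eq_of_mul_eq_mul_left Nat.card_pos h5
  · -- `F = O_2(G)`
    right
    have hFN : F = P2 := by
      apply le_antisymm _ hP2F
      rw [hbot, sup_bot_eq] at hFle
      exact hFle
    have hNne : P2 ≠ ⊥ := hFN ▸ hFne
    have hCN : Subgroup.centralizer (P2 : Set G) ≤ P2 := by
      have := hCF; rwa [hFN] at this
    have hcomm2 : ∀ T : Subgroup G, IsPGroup 2 T → ∀ a ∈ T, ∀ b ∈ T, a * b = b * a := by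
      intro T hT a ha b hb
      have hc : IsMulCommutative T := isMulCommutative_of_forall_sq (fun g => by
        apply Subtype.ext
        exact h.sq_eq_one hT g.2)
      exact congrArg Subtype.val (hc.is_comm.comm ⟨a, ha⟩ ⟨b, hb⟩)
    refine ⟨P2, hP2n, ⟨⟨⟨fun a b => Subtype.ext (hcomm2 P2 hP2p a a.2 b b.2)⟩⟩,
      fun a ha => h.sq_eq_one hP2p ha⟩, ?_⟩
    obtain ⟨T⟩ : Nonempty (Sylow 2 G) := inferInstance
    have hTN : (T : Subgroup G) = P2 := by
      apply le_antisymm
      · intro x hx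
        apply hCN
        rw [Subgroup.mem_centralizer_iff]
        intro m hm
        exact hcomm2 T T.isPGroup' m (hP2p.le_sylow_of_normal T hm) x hx
      · exact hP2p.le_sylow_of_normal T
    -- `9 ∤ |G|`
    have h9 : ¬ 3 ^ 2 ∣ Nat.card G := by
      intro h9
      obtain ⟨A, hA⟩ := Sylow.exists_subgroup_card_pow_prime 3 h9
      have hAp : IsPGroup 3 A := IsPGroup.of_card hA
      haveI hAc : IsMulCommutative A := IsPGroup.isMulCommutative_of_card_eq_prime_sq hA
      have hAnc : ¬ IsCyclic A := by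
        intro hcyc
        obtain ⟨g, hg⟩ := hcyc.exists_generator
        have h1 : orderOf g = Nat.card A := orderOf_eq_card_of_forall_mem_zpowers hg
        have h2 : (g : G) ^ 3 = 1 := h.cube_eq_one hAp g.2
        have h3 : orderOf (g : G) ∣ 3 := orderOf_dvd_of_pow_eq_one h2
        rw [Subgroup.orderOf_coe, h1, hA] at h3
        norm_num at h3
      have hgen := generated_by_centralizers A P2 hAnc
        (by rw [Subgroup.normalizer_eq_top]; exact le_top) (by
          obtain ⟨k, hk⟩ := (IsPGroup.iff_card).mp hP2p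
          rw [hA, hk]
          exact Nat.Coprime.pow _ _ (by norm_num))
      apply hNne
      rw [← hgen, eq_bot_iff]
      apply iSup₂_le
      rintro a ⟨haA, ha1⟩ x ⟨hxN, hxa⟩
      rw [Subgroup.mem_bot]
      by_contra hx1
      have hxo : orderOf x = 2 := orderOf_eq_prime (h.sq_eq_one hP2p hxN) hx1
      have hao : orderOf a = 3 := orderOf_eq_prime (h.cube_eq_one hAp haA) ha1
      apply h.not_commute hxo hao
      exact Subgroup.mem_centralizer_singleton_iff.mp hxa
    have hv3 : (Nat.card G).factorization 3 = 1 := by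
      have h1 : 0 < (Nat.card G).factorization 3 :=
        Nat.Prime.factorization_pos_of_dvd Nat.prime_three Nat.card_pos.ne' h3dvd
      have h2 : ¬ 2 ≤ (Nat.card G).factorization 3 := fun h2 =>
        h9 ((Nat.Prime.pow_dvd_iff_le_factorization Nat.prime_three Nat.card_pos.ne').mpr h2)
      omega
    have hcard := h.card_eq
    rw [hv3, pow_one, ← T.card_eq_multiplicity, hTN] at hcard
    have := P2.card_mul_index
    rw [hcard] at this
    exact Nat.eq_of_mul_eq_mul_left Nat.card_pos this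

end

/-- A finite group whose set of element orders is exactly {1, 2, 3} has either a normal elementary abelian 3-subgroup of index 2 or a normal elementary abelian 2-subgroup of index 3. -/
theorem result {G : Type*} [Group G] [Finite G] (h : Set.range (orderOf : G → ℕ) = {k : ℕ | 1 ≤ k ∧ k ≤ 3}) :
    (∃ N : Subgroup G, N.Normal ∧ Cfsg.IsElementaryAbelian 3 N ∧ N.index = 2) ∨
      (∃ N : Subgroup G, N.Normal ∧ Cfsg.IsElementaryAbelian 2 N ∧ N.index = 3) :=
  main h

end Cfsg.Agent.S4005
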