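import Mathlib
import Cfsg.Statements.S4006
import Cfsg.Agent.S0144
import Cfsg.Agent.Lib.Helper7.CM6
import Cfsg.Agent.Lib.Helper7.Ord4e
import Cfsg.Agent.Lib.Helper7.Ord4f

set_option autoImplicit false
open Cfsg

namespace Cfsg.Agent.S4006

open Cfsg.Agent.Lib.Helper7.Ord4

/-- A finite group whose set of element orders is exactly {1, 2, 3, 4} has a normal subgroup N such that either N is a 2-group of exponent 4 and nilpotency class at most 2 with G/N of order 3, or N is an elementary abelian 2-group with G/N isomorphic to the symmetric group of degree 3, or N is an elementary abelian 3-group with G/N cyclic of order 4 or quaternion of order 8. -/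
theorem result {G : Type*} [Group G] [Finite G] (h : Set.range (orderOf : G → ℕ) = {k : ℕ | 1 ≤ k ∧ k ≤ 4}) :
    ∃ (N : Subgroup G) (_ : N.Normal),
      (IsPGroup 2 ↥N ∧ Monoid.exponent ↥N = 4 ∧ Group.nilpotencyClass ↥N ≤ 2 ∧ N.index = 3) ∨
      (Cfsg.IsElementaryAbelian 2 N ∧ Nonempty (G ⧸ N ≃* Equiv.Perm (Fin 3))) ∨
      (Cfsg.IsElementaryAbelian 3 N ∧ ((IsCyclic (G ⧸ N) ∧ N.index = 4) ∨ Nonempty (G ⧸ N ≃* QuaternionGroup 2))) := by
  have H := hyp_of_range h
  haveI : Fact (Nat.Prime 2) := ⟨Nat.prime_two⟩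
  haveI : Fact (Nat.Prime 3) := ⟨Nat.prime_three⟩
  obtain ⟨a, b, hab⟩ := H.card_eq
  have hsol : Group.IsSolvable G :=
    Cfsg.Agent.S0144.result 2 3 a b Nat.prime_two Nat.prime_three hab
  haveI : Nontrivial G := by
    obtain ⟨g, hg⟩ := H.ex2
    refine ⟨⟨g, 1, ?_⟩⟩
    intro h1
    rw [h1, orderOf_one] at hg
    norm_num at hg
  obtain ⟨r, L, hr, hLn, hLr, hLne⟩ :=
    Cfsg.Agent.Lib.Helper7.CM.exists_normal_pgroup_of_solvable hsol
  haveI := hLn
  have hr23 : r = 2 ∨ r = 3 := by
    apply H.prime_dvd_card hr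
    haveI : Fact r.Prime := ⟨hr⟩
    haveI hLnt : Nontrivial L := (Subgroup.nontrivial_iff_ne_bot L).mpr hLne
    obtain ⟨k, hk⟩ := IsPGroup.iff_card.mp hLr
    have hk0 : k ≠ 0 := by
      intro h0
      rw [h0, pow_zero] at hk
      have := Finite.one_lt_card (α := L)
      omega
    have : r ∣ Nat.card L := by rw [hk]; exact dvd_pow_self r hk0
    exact this.trans (Subgroup.card_subgroup_dvd_card L)
  rcases hr23 with rfl | rfl
  · obtain ⟨N, hN, hcase⟩ := caseA H L hLr hLne
    refine ⟨N, hN, ?_⟩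
    rcases hcase with h1 | h2
    · left; exact h1
    · right; left; exact h2
  · have P : Sylow 3 G := default
    have hMp : IsPGroup 3 (P : Subgroup G).normalCore :=
      P.isPGroup'.to_le (Subgroup.normalCore_le _)
    haveI hMn : ((P : Subgroup G).normalCore).Normal := Subgroup.normalCore_normal _
    have hLM : L ≤ (P : Subgroup G).normalCore := le_normalCore_sylow P L hLr
    have hM3 : ∀ m ∈ (P : Subgroup G).normalCore, m ^ 3 = 1 := by
      intro m hm
      rcases H.ord m with h4 | h3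
      · obtain ⟨k, hk⟩ := hMp ⟨m, hm⟩
        have hk' : m ^ (3 ^ k) = 1 := by simpa using congrArg Subtype.val hk
        have h1 : orderOf m ∣ 4 := orderOf_dvd_of_pow_eq_one h4
        have h2 : orderOf m ∣ 3 ^ k := orderOf_dvd_of_pow_eq_one hk'
        have cop : Nat.Coprime 4 (3 ^ k) := (by norm_num : Nat.Coprime 4 3).pow_right k
        rw [orderOf_eq_one_iff.mp ((Nat.Coprime.coprime_dvd_left h1 cop).eq_one_of_dvd h2),
          one_pow]
      · exact h3
    have hMne : (P : Subgroup G).normalCore ≠ ⊥ := fun h => hLne (le_bot_iff.mp (h ▸ hLM))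
    have hmax : ∀ K : Subgroup G, K.Normal → (∀ k ∈ K, k ^ 3 = 1) →
        K ≤ (P : Subgroup G).normalCore := by
      intro K hK hK3
      haveI := hK
      apply le_normalCore_sylow P K
      intro k
      refine ⟨1, ?_⟩
      apply Subtype.ext
      simpa using hK3 k.1 k.2
    obtain ⟨h1, h2⟩ := caseB H _ hM3 hMne hmax
    exact ⟨_, hMn, Or.inr (Or.inr ⟨h1, h2⟩)⟩

end Cfsg.Agent.S4006
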