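import Cfsg.Statements.S4010
import Mathlib
import Cfsg.Agent.Lib.Helper2.PGL6

set_option autoImplicit false
open Cfsg

namespace Cfsg.Agent.S4010

open Cfsg.Agent.Lib.Helper2.PGL in
theorem aux {P : Type*} [Group P] [Finite P] (p : ℕ) [Fact p.Prime] (hP : IsPGroup p P)
    (F : Type*) [Field F] (n : ℕ) (ρ' : P →* Module.End F (Fin n → F))
    (hρ' : Function.Injective ρ') : derivedSeries P (Nat.log 2 n + 1) = ⊥ := by
  have hfr : Module.finrank F (Fin n → F) = n := Module.finrank_fin_fun F
  have hker : ρ'.ker = ⊥ := (MonoidHom.ker_eq_bot_iff ρ').mpr hρ'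
  rw [eq_bot_iff, ← hker]
  by_cases hpF : (p : F) = 0
  · refine le_trans (derivedSeries_antitone P (clog_le_log_succ n)) ?_
    exact derivedSeries_clog_le_ker hpF n P hP (Fin n → F) ρ' hfr
  · exact derivedSeries_log_le_ker hpF n P hP (Fin n → F) ρ' hfr

/-- Let F be a field, n ≥ 1, and P a finite p-group (p a prime) admitting an injective homomorphism into the general linear group of degree n over F. Then the derived length of P is at most ⌊log₂ n⌋ + 1: that term of the derived series of P is trivial. -/
theorem result {P : Type*} [Group P] [Finite P] (p : ℕ) [Fact p.Prime] (hP : IsPGroup p P) (F : Type*) [Field F] (n : ℕ) (hn : 1 ≤ n) (ρ : P →* Matrix.GeneralLinearGroup (Fin n) F) (hρ : Function.Injective ρ) : derivedSeries P (Nat.log 2 n + 1) = ⊥ := by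
  let ρ' : P →* Module.End F (Fin n → F) :=
    (Units.coeHom (Module.End F (Fin n → F))).comp
      ((Matrix.GeneralLinearGroup.toLin (n := Fin n) (R := F)).toMonoidHom.comp ρ)
  apply aux p hP F n ρ'
  intro x y hxy
  apply hρ
  have h1 : (Matrix.GeneralLinearGroup.toLin (n := Fin n) (R := F)) (ρ x)
      = (Matrix.GeneralLinearGroup.toLin (n := Fin n) (R := F)) (ρ y) := Units.ext hxy
  exact (Matrix.GeneralLinearGroup.toLin (n := Fin n) (R := F)).injective h1

end Cfsg.Agent.S4010
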