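import Cfsg.Statements.S4013
import Mathlib

set_option autoImplicit false
open Cfsg

namespace Cfsg.Agent.S4013

/-- Let G be a finite p-group (p prime) and N < M normal subgroups of G such that for some g ∈ M ∖ N the conjugacy class of g is exactly M ∖ N. Then p = 2 and N has index 2 in M. -/
theorem result {G : Type*} [Group G] [Finite G] (p : ℕ) [Fact p.Prime] (hG : IsPGroup p G) (N M : Subgroup G) [N.Normal] [M.Normal] (hNM : N < M) (g : G) (hgM : g ∈ M) (hgN : g ∉ N) (hcl : {h : G | IsConj g h} = (M : Set G) \ (N : Set G)) : p = 2 ∧ N.relIndex M = 2 := by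
  have hpp : p.Prime := Fact.out
  -- the class is an orbit
  have hG' : IsPGroup p (ConjAct G) := hG
  have horb : MulAction.orbit (ConjAct G) g = {h : G | IsConj g h} := by
    ext h
    rw [ConjAct.mem_orbit_conjAct]
    exact ⟨fun h => h.symm, fun h => h.symm⟩
  obtain ⟨a, ha⟩ := hG'.card_orbit g
  rw [horb, hcl, Nat.card_coe_set_eq, Set.ncard_diff (le_of_lt hNM) (Set.toFinite _)] at ha
  rw [← Nat.card_coe_set_eq, ← Nat.card_coe_set_eq] at ha
  change Nat.card M - Nat.card N = p ^ a at ha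
  -- orders
  obtain ⟨n, hn⟩ := IsPGroup.iff_card.mp (hG.to_subgroup N)
  have hr : Nat.card N * N.relIndex M = Nat.card M := by
    have := Subgroup.relIndex_mul_relIndex ⊥ N M bot_le (le_of_lt hNM)
    rwa [Subgroup.relIndex_bot_left, Subgroup.relIndex_bot_left] at this
  have hrdvd : N.relIndex M ∣ Nat.card M := Subgroup.relIndex_dvd_card N M
  obtain ⟨m, hm⟩ := IsPGroup.iff_card.mp (hG.to_subgroup M)
  rw [hm] at hrdvd
  obtain ⟨c, hcm, hc⟩ := (Nat.dvd_prime_pow hpp).mp hrdvd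
  have hc1 : c ≠ 0 := by
    rintro rfl
    rw [pow_zero, Subgroup.relIndex_eq_one] at hc
    exact (not_le_of_gt hNM) hc
  rw [← hr, hn, hc] at ha
  -- ha : p ^ n * p ^ c - p ^ n = p ^ a
  have h1 : p ^ n * (p ^ c - 1) = p ^ a := by
    rw [Nat.mul_sub, mul_one]; exact ha
  have h2 : (p ^ c - 1) ∣ p ^ a := Dvd.intro_left _ h1
  obtain ⟨b, hba, hb⟩ := (Nat.dvd_prime_pow hpp).mp h2
  have hpc : 1 ≤ p ^ c := Nat.one_le_pow _ _ hpp.pos
  have hb0 : b = 0 := by
    by_contra hb0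
    have h3 : p ∣ p ^ b := dvd_pow_self p hb0
    have h4 : p ∣ p ^ c := dvd_pow_self p hc1
    rw [← hb] at h3
    have h5 : p ∣ p ^ c - (p ^ c - 1) := Nat.dvd_sub h4 h3
    have h6 : p ^ c - (p ^ c - 1) = 1 := by omega
    rw [h6] at h5
    exact hpp.one_lt.ne' (Nat.dvd_one.mp h5)
  rw [hb0, pow_zero] at hb
  have h7 : p ^ c = 2 := by omega
  have h8 : p ∣ 2 := by rw [← h7]; exact dvd_pow_self p hc1
  have hp2 : p = 2 := (Nat.prime_dvd_prime_iff_eq hpp Nat.prime_two).mp h8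
  refine ⟨hp2, ?_⟩
  rw [hc, h7]

end Cfsg.Agent.S4013
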