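import Mathlib
import Cfsg.Statements.S4014
import Cfsg.Agent.Lib.Helper7.SymSylow1
import Cfsg.Agent.Lib.Helper7.SymSylow2

set_option autoImplicit false
open Cfsg

namespace Cfsg.Agent.S4014

open Cfsg.Agent.Lib.Helper7.SymSylow MulAction
open scoped Pointwise

theorem upper (p : ℕ) [Fact p.Prime] (n : ℕ) (hn : 1 ≤ n) (P : Sylow p (Equiv.Perm (Fin n))) :
    derivedSeries ↥(P : Subgroup (Equiv.Perm (Fin n))) (Nat.log p n) = ⊥ := by
  have hp := (Fact.out : p.Prime)
  apply derivedSeries_eq_bot_of_orbits (p := p) (Nat.log p n) ↥(P : Subgroup (Equiv.Perm (Fin n)))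
    (Fin n) P.isPGroup'
  intro x
  obtain ⟨a, ha⟩ := P.isPGroup'.index (stabilizer ↥(P : Subgroup (Equiv.Perm (Fin n))) x)
  rw [index_stabilizer] at ha
  rw [ha]
  apply Nat.pow_le_pow_right hp.pos
  apply Nat.le_log_of_pow_le hp.one_lt
  rw [← ha]
  have h1 : (orbit ↥(P : Subgroup (Equiv.Perm (Fin n))) x).ncard ≤ (Set.univ : Set (Fin n)).ncard :=
    Set.ncard_le_ncard (Set.subset_univ _) (Set.toFinite _)
  rw [Set.ncard_univ, Nat.card_fin] at h1
  exact h1

theorem lower (p : ℕ) [Fact p.Prime] (n : ℕ) (hn : 1 ≤ n) (P : Sylow p (Equiv.Perm (Fin n)))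
    (hk : 1 ≤ Nat.log p n) :
    derivedSeries ↥(P : Subgroup (Equiv.Perm (Fin n))) (Nat.log p n - 1) ≠ ⊥ := by
  classical
  have hp := (Fact.out : p.Prime)
  set k := Nat.log p n with hkdef
  obtain ⟨k', hk'⟩ : ∃ k', k = k' + 1 := ⟨k - 1, by omega⟩
  have hpk : p ^ k ≤ n := Nat.pow_log_le_self p (by omega)
  let G₀ := Multiplicative (ZMod p)
  haveI : Nontrivial G₀ := by
    haveI : Nontrivial (ZMod p) := ZMod.nontrivial_iff.mpr hp.one_lt.ne'
    exact inferInstanceAs (Nontrivial (Multiplicative (ZMod p)))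
  have hG₀ : Nat.card G₀ = p := by
    show Nat.card (Multiplicative (ZMod p)) = p
    rw [Nat.card_eq_fintype_card, Fintype.card_multiplicative, ZMod.card]
  have hW := derivedSeries_iterated_ne_bot G₀ k'
  -- embedding into `Perm (Fin n)`
  have hcard : Nat.card (Fin (k' + 1) → G₀) ≤ Nat.card (Fin n) := by
    rw [Nat.card_fun, Nat.card_fin, Nat.card_fin, hG₀, ← hk']
    exact hpk
  obtain ⟨ι⟩ : Nonempty ((Fin (k' + 1) → G₀) ↪ Fin n) := by
    haveI : Finite (Fin (k' + 1) → G₀) := inferInstance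
    exact Function.Embedding.nonempty_of_card_le (by
      rw [← Nat.card_eq_fintype_card, ← Nat.card_eq_fintype_card]; exact hcard)
  let φ : IteratedWreathProduct G₀ (k' + 1) →* Equiv.Perm (Fin n) :=
    (Equiv.Perm.viaEmbeddingHom ι).comp (iteratedWreathToPermHom G₀ (k' + 1))
  have hφ : Function.Injective φ :=
    (Equiv.Perm.viaEmbeddingHom_injective ι).comp (iteratedWreathToPermHomInj G₀ (k' + 1))
  -- the image is a `p`-group
  have hQ₀ : IsPGroup p φ.range := by
    apply IsPGroup.of_card (n := ∑ i ∈ Finset.range (k' + 1), p ^ i)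
    rw [← Nat.card_congr (MonoidHom.ofInjective hφ).toEquiv, IteratedWreathProduct.card, hG₀]
  obtain ⟨Q, hQ⟩ := hQ₀.exists_le_sylow
  obtain ⟨g, hg⟩ := MulAction.exists_smul_eq (Equiv.Perm (Fin n)) Q P
  have hmem : ∀ w, (MulAut.conj g).toMonoidHom (φ w) ∈ (P : Subgroup (Equiv.Perm (Fin n))) := by
    intro w
    rw [← hg, Sylow.coe_subgroup_smul]
    exact Subgroup.smul_mem_pointwise_smul _ _ _ (hQ ⟨w, rfl⟩)
  let ψ : IteratedWreathProduct G₀ (k' + 1) →* ↥(P : Subgroup (Equiv.Perm (Fin n))) :=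
    ((MulAut.conj g).toMonoidHom.comp φ).codRestrict _ hmem
  have hψ : Function.Injective ψ := by
    intro a b hab
    have h1 : (MulAut.conj g) (φ a) = (MulAut.conj g) (φ b) := congrArg Subtype.val hab
    exact hφ ((MulAut.conj g).injective h1)
  have hk1 : k - 1 = k' := by omega
  rw [hk1]
  intro hbot
  apply hW
  have h1 := map_derivedSeries_le_derivedSeries ψ k'
  rw [hbot, le_bot_iff] at h1
  exact (Subgroup.map_eq_bot_iff_of_injective _ hψ).mp h1

theorem result (p : ℕ) [Fact p.Prime] (n : ℕ) (hn : 1 ≤ n) (P : Sylow p (Equiv.Perm (Fin n))) : derivedSeries ↥(P : Subgroup (Equiv.Perm (Fin n))) (Nat.log p n) = ⊥ ∧ (1 ≤ Nat.log p n → derivedSeries ↥(P : Subgroup (Equiv.Perm (Fin n))) (Nat.log p n - 1) ≠ ⊥) :=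
  ⟨upper p n hn P, lower p n hn P⟩

end Cfsg.Agent.S4014
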