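import Cfsg.Statements.S4017
import Cfsg.Agent.Lib.Lead.MixFinal
import Cfsg.Agent.Lib.Lead.MixP5e
import Cfsg.Agent.Lib.Helper1.MixP2
import Cfsg.Agent.Lib.Helper4.MixP6c
import Cfsg.Agent.Lib.Helper6.MixP3
import Cfsg.Agent.Lib.Helper6.MixP4
import Cfsg.Agent.Lib.Helper7.MixP1ab

set_option autoImplicit false
open Cfsg

namespace Cfsg.Agent.S4017

/-- Let G be a finite group and let p and q be distinct primes dividing the order of G, with p odd. Suppose that p divides the order of every proper subgroup of G that is neither a q-group nor of order prime to q. Let q^a be the q-part of the order of G. If p > q^a − 1, or if p = q^a − 1 and the Sylow p-subgroups of G are abelian, then p and q are the only primes dividing the order of G. -/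
theorem result {G : Type*} [Group G] [Finite G]
    {p q : ℕ} (hp : p.Prime) (hq : q.Prime) (hpq : p ≠ q) (hp2 : p ≠ 2)
    (hpG : p ∣ Nat.card G) (hqG : q ∣ Nat.card G)
    (hmix : ∀ H : Subgroup G, H ≠ ⊤ → ¬ IsPGroup q H → q ∣ Nat.card H → p ∣ Nat.card H)
    (hlarge : q ^ (Nat.card G).factorization q - 1 < p ∨
      (p = q ^ (Nat.card G).factorization q - 1 ∧ ∀ P : Sylow p G, IsMulCommutative P)) :
    ∀ r : ℕ, r.Prime → r ∣ Nat.card G → r = p ∨ r = q := by
  have hyp : Cfsg.Agent.Lib.Lead.Mix.Hyp G p q :=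
    { hp := hp, hq := hq, hpq := hpq, hp2 := hp2, hpG := hpG, hqG := hqG, hmix := hmix,
      hlarge := hlarge }
  refine Cfsg.Agent.Lib.Lead.Mix.concl_of_packages
    (fun G _ _ p q h => Cfsg.Agent.Lib.Lead.Mix.MinCex.toMinCexB h)
    (fun G _ _ p a Q w h => Cfsg.Agent.Lib.Lead.Mix.cfg_false_of_packages h
      (fun h => Cfsg.Agent.Lib.Helper1.Mix.Cfg.toCfgB h)
      (fun hB h1 => Cfsg.Agent.Lib.Helper6.Mix.caseI_false hB h1)
      (fun hB h1 t ht ht1 hK => Cfsg.Agent.Lib.Helper6.Mix.caseIIa_false hB h1 t ht ht1 hK)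
      (fun hB h1 hK => Cfsg.Agent.Lib.Lead.Mix.caseIIb_struct hB h1 hK)
      (fun hB ha h1 hS => Cfsg.Agent.Lib.Helper4.Mix.caseIIb_false hB ha h1 hS))
    hyp

end Cfsg.Agent.S4017
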