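import Mathlib
import Cfsg.Statements.S4023
import Cfsg.Agent.S3908
import Cfsg.Agent.Lib.Lead.UniqueOrderP5
import Cfsg.Agent.Lib.Lead.CoprimeTools
import Cfsg.Agent.Lib.Lead.HallTools
import Cfsg.Agent.Lib.Lead.MaxClass5
import Cfsg.Agent.Lib.Lead.MaxClass6

set_option autoImplicit false
open Cfsg

namespace Cfsg.Agent.S4023

open Cfsg.Agent.Lib.Lead

section
variable {Q : Type*} [Group Q] [Finite Q] {p : ℕ} [hp : Fact p.Prime]

/-- a group of order dividing `p ^ 2` is commutative -/
theorem comm_of_card_dvd_sq (h : Nat.card Q ∣ p ^ 2) (a b : Q) : a * b = b * a := by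
  obtain ⟨j, hj, hcard⟩ := (Nat.dvd_prime_pow hp.out).mp h
  interval_cases j
  · rw [pow_zero] at hcard
    haveI : Subsingleton Q := (Nat.card_eq_one_iff_unique.mp hcard).1
    exact Subsingleton.elim _ _
  · rw [pow_one] at hcard
    haveI : IsCyclic Q := isCyclic_of_prime_card hcard
    letI := IsCyclic.commGroup (α := Q)
    exact mul_comm a b
  · haveI : IsMulCommutative Q := IsPGroup.isMulCommutative_of_card_eq_prime_sq hcard
    exact mul_comm' a b

/-- strict inclusions in a `p`-group multiply the order by at least `p` -/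
theorem mul_card_dvd_of_lt (hQ : IsPGroup p Q) {H K : Subgroup Q} (hle : H ≤ K) (hne : H ≠ K) :
    p * Nat.card H ∣ Nat.card K := by
  obtain ⟨m, hm⟩ := Subgroup.card_dvd_of_le hle
  obtain ⟨b, hb⟩ := (IsPGroup.iff_card).mp (hQ.to_subgroup K)
  have hm1 : m ≠ 1 := by
    intro h1
    rw [h1, mul_one] at hm
    exact hne (Subgroup.eq_of_le_of_card_ge hle hm.le)
  have hmd : m ∣ p ^ b := by rw [← hb, hm]; exact dvd_mul_left _ _
  obtain ⟨c, -, hc⟩ := (Nat.dvd_prime_pow hp.out).mp hmd
  have hc0 : c ≠ 0 := by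
    intro h0; rw [h0, pow_zero] at hc; exact hm1 hc
  have hpm : p ∣ m := by rw [hc]; exact dvd_pow_self p hc0
  rw [hm, mul_comm]
  exact mul_dvd_mul_left _ hpm

theorem exists_lift_central (hQ : IsPGroup p Q) (Z : Subgroup Q) [Z.Normal] (hZ : Z ≠ ⊤) :
    ∃ y : Q, y ∉ Z ∧ ∀ g : Q, g * y * g⁻¹ * y⁻¹ ∈ Z := by
  haveI : Nontrivial (Q ⧸ Z) := by
    by_contra hnt
    rw [not_nontrivial_iff_subsingleton] at hnt
    exact hZ (QuotientGroup.subgroup_eq_top_of_subsingleton Z hnt)
  have hQ' : IsPGroup p (Q ⧸ Z) := hQ.to_quotient Z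
  obtain ⟨yb, hybc, hyb1⟩ : ∃ yb ∈ Subgroup.center (Q ⧸ Z), yb ≠ 1 := by
    haveI := hQ'.center_nontrivial
    obtain ⟨⟨a, ha⟩, ha1⟩ := exists_ne (1 : Subgroup.center (Q ⧸ Z))
    exact ⟨a, ha, fun h => ha1 (Subtype.ext h)⟩
  obtain ⟨y, rfl⟩ := QuotientGroup.mk_surjective yb
  refine ⟨y, fun hy => hyb1 ((QuotientGroup.eq_one_iff y).mpr hy), fun g => ?_⟩
  rw [← QuotientGroup.eq_one_iff]
  have := Subgroup.mem_center_iff.mp hybc (g : Q ⧸ Z)
  calc ((g * y * g⁻¹ * y⁻¹ : Q) : Q ⧸ Z)
      = (g : Q ⧸ Z) * (y : Q ⧸ Z) * (g : Q ⧸ Z)⁻¹ * (y : Q ⧸ Z)⁻¹ := by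
        simp only [QuotientGroup.mk_mul, QuotientGroup.mk_inv]
    _ = (y : Q ⧸ Z) * (g : Q ⧸ Z) * (g : Q ⧸ Z)⁻¹ * (y : Q ⧸ Z)⁻¹ := by rw [this]
    _ = 1 := by group

theorem normal_of_le_center (H : Subgroup Q) (h : H ≤ Subgroup.center Q) : H.Normal := by
  constructor
  intro a ha g
  have := Subgroup.mem_center_iff.mp (h ha) g
  rw [this, mul_assoc, mul_inv_cancel, mul_one]
  exact ha

/-- a non-abelian subgroup of order `p ^ 3` -/
theorem exists_nonabelian_cube (hQ : IsPGroup p Q) (hexp : ∀ x : Q, x ^ p = 1)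
    (hna : ∃ a b : Q, a * b ≠ b * a) :
    ∃ N : Subgroup Q, Nat.card N = p ^ 3 ∧ ∃ a ∈ N, ∃ b ∈ N, a * b ≠ b * a := by
  classical
  have hZ : Subgroup.center Q ≠ ⊤ := by
    intro h
    obtain ⟨a, b, hab⟩ := hna
    exact hab (Subgroup.mem_center_iff.mp (h ▸ Subgroup.mem_top b) a)
  obtain ⟨y, hyZ, hy⟩ := exists_lift_central hQ (Subgroup.center Q) hZ
  obtain ⟨x, hx⟩ : ∃ x, x * y ≠ y * x := by
    by_contra h
    push Not at h
    exact hyZ (Subgroup.mem_center_iff.mpr h)
  set z := x * y * x⁻¹ * y⁻¹ with hz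
  have hzc : z ∈ Subgroup.center Q := hy x
  have hz1 : z ≠ 1 := by
    intro h
    apply hx
    have h1 := mul_inv_eq_one.mp h
    exact mul_inv_eq_iff_eq_mul.mp h1
  have hxyx : x * y * x⁻¹ = z * y := by rw [hz]; group
  have hy1 : y ≠ 1 := fun h => hyZ (h ▸ one_mem _)
  have hx1 : x ≠ 1 := fun h => hx (by rw [h, one_mul, mul_one])
  have hordy : orderOf y = p := orderOf_eq_prime (hexp y) hy1
  have hordz : orderOf z = p := orderOf_eq_prime (hexp z) hz1
  have hordx : orderOf x = p := orderOf_eq_prime (hexp x) hx1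
  haveI hZn : (Subgroup.zpowers z).Normal :=
    normal_of_le_center _ (Subgroup.zpowers_le.mpr hzc)
  set N₁ : Subgroup Q := Subgroup.zpowers y ⊔ Subgroup.zpowers z with hN₁
  have hcard1 : Nat.card N₁ ∣ p ^ 2 := by
    have := card_sup_mul_card_inf (Subgroup.zpowers y) (Subgroup.zpowers z)
      (by rw [Subgroup.normalizer_eq_top]; exact le_top)
    rw [Nat.card_zpowers, Nat.card_zpowers, hordy, hordz] at this
    rw [pow_two, ← this]
    exact dvd_mul_right _ _
  have hxn : x ∈ Subgroup.normalizer (N₁ : Set Q) := by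
    apply mem_normalizer_of_conj_mem
    have hmap : N₁.map (MulAut.conj x).toMonoidHom ≤ N₁ := by
      rw [hN₁, Subgroup.map_sup, MonoidHom.map_zpowers, MonoidHom.map_zpowers]
      apply sup_le
      · rw [Subgroup.zpowers_le]
        show x * y * x⁻¹ ∈ _
        rw [hxyx]
        exact mul_mem (Subgroup.mem_sup_right (Subgroup.mem_zpowers z))
          (Subgroup.mem_sup_left (Subgroup.mem_zpowers y))
      · rw [Subgroup.zpowers_le]
        show x * z * x⁻¹ ∈ _
        rw [Subgroup.mem_center_iff.mp hzc x, mul_inv_cancel_right]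
        exact Subgroup.mem_sup_right (Subgroup.mem_zpowers z)
    intro k hk
    exact hmap ⟨k, hk, rfl⟩
  set N : Subgroup Q := Subgroup.zpowers x ⊔ N₁ with hN
  have hcardN : Nat.card N ∣ p ^ 3 := by
    have := card_sup_mul_card_inf (Subgroup.zpowers x) N₁ (Subgroup.zpowers_le.mpr hxn)
    rw [Nat.card_zpowers, hordx] at this
    have h1 : Nat.card N ∣ p * Nat.card N₁ := by rw [← this]; exact dvd_mul_right _ _
    refine h1.trans ?_
    rw [pow_succ' p 2]
    exact mul_dvd_mul_left p hcard1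
  have hxN : x ∈ N := Subgroup.mem_sup_left (Subgroup.mem_zpowers x)
  have hyN : y ∈ N := Subgroup.mem_sup_right (Subgroup.mem_sup_left (Subgroup.mem_zpowers y))
  refine ⟨N, ?_, x, hxN, y, hyN, hx⟩
  obtain ⟨j, hj, hcard⟩ := (Nat.dvd_prime_pow hp.out).mp hcardN
  by_cases hj3 : j = 3
  · rw [hcard, hj3]
  exfalso
  have hj2 : j ≤ 2 := by omega
  have hdvd : Nat.card N ∣ p ^ 2 := by rw [hcard]; exact pow_dvd_pow p hj2
  have := comm_of_card_dvd_sq (Q := N) hdvd ⟨x, hxN⟩ ⟨y, hyN⟩
  exact hx (congrArg Subtype.val this)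

/-- an abelian subgroup of order `p ^ 3` -/
theorem exists_abelian_cube (hQ : IsPGroup p Q) (hexp : ∀ x : Q, x ^ p = 1)
    (hcard : p ^ 4 ∣ Nat.card Q) :
    ∃ M : Subgroup Q, Nat.card M = p ^ 3 ∧ ∀ a ∈ M, ∀ b ∈ M, a * b = b * a := by
  classical
  have hp1 := hp.out.one_lt
  have hcardpos : 0 < Nat.card Q := Nat.card_pos
  have hQge : p ^ 4 ≤ Nat.card Q := Nat.le_of_dvd hcardpos hcard
  haveI : Nontrivial Q := by
    rw [← Finite.one_lt_card_iff_nontrivial]
    calc 1 < p ^ 4 := Nat.one_lt_pow (by norm_num) hp1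
      _ ≤ Nat.card Q := hQge
  obtain ⟨z, hzc, hz1⟩ : ∃ z ∈ Subgroup.center Q, z ≠ 1 := by
    haveI := hQ.center_nontrivial
    obtain ⟨⟨a, ha⟩, ha1⟩ := exists_ne (1 : Subgroup.center Q)
    exact ⟨a, ha, fun h => ha1 (Subtype.ext h)⟩
  have hordz : orderOf z = p := orderOf_eq_prime (hexp z) hz1
  set Z₀ : Subgroup Q := Subgroup.zpowers z with hZ₀
  have hZc : Z₀ ≤ Subgroup.center Q := Subgroup.zpowers_le.mpr hzc
  haveI hZn : Z₀.Normal := normal_of_le_center _ hZc
  have hZcard : Nat.card Z₀ = p := by rw [hZ₀, Nat.card_zpowers, hordz]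
  have hZtop : Z₀ ≠ ⊤ := by
    intro h
    have : Nat.card Q = p := by rw [← hZcard, h, Subgroup.card_top]
    rw [this] at hQge
    have h14 : p ^ 1 < p ^ 4 := Nat.pow_lt_pow_right hp1 (by norm_num)
    rw [pow_one] at h14
    omega
  obtain ⟨y, hyZ, hy⟩ := exists_lift_central hQ Z₀ hZtop
  have hy1 : y ≠ 1 := fun h => hyZ (h ▸ one_mem _)
  have hordy : orderOf y = p := orderOf_eq_prime (hexp y) hy1
  -- the commutator hom
  let φ : Q →* Z₀ := MonoidHom.mk' (fun g => ⟨g * y * g⁻¹ * y⁻¹, hy g⟩) (by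
    intro a b
    apply Subtype.ext
    show a * b * y * (a * b)⁻¹ * y⁻¹ = (a * y * a⁻¹ * y⁻¹) * (b * y * b⁻¹ * y⁻¹)
    have hc := Subgroup.mem_center_iff.mp (hZc (hy b))
    calc a * b * y * (a * b)⁻¹ * y⁻¹
        = a * (b * y * b⁻¹ * y⁻¹) * y * a⁻¹ * y⁻¹ := by group
      _ = (b * y * b⁻¹ * y⁻¹) * a * y * a⁻¹ * y⁻¹ := by rw [hc a]
      _ = (b * y * b⁻¹ * y⁻¹) * (a * y * a⁻¹ * y⁻¹) := by simp only [mul_assoc]
      _ = (a * y * a⁻¹ * y⁻¹) * (b * y * b⁻¹ * y⁻¹) := (hc _).symm)
  set K : Subgroup Q := φ.ker with hK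
  have hmemK : ∀ g, g ∈ K ↔ g * y = y * g := by
    intro g
    rw [hK, MonoidHom.mem_ker]
    constructor
    · intro h
      have h1 : g * y * g⁻¹ * y⁻¹ = 1 := congrArg Subtype.val h
      exact mul_inv_eq_iff_eq_mul.mp (mul_inv_eq_one.mp h1)
    · intro h
      apply Subtype.ext
      show g * y * g⁻¹ * y⁻¹ = 1
      rw [h]; group
  have hKcard : p ^ 3 ∣ Nat.card K := by
    have h1 : Nat.card K * K.index = Nat.card Q := Subgroup.card_mul_index K
    have h2 : K.index ∣ p := by
      rw [hK, Subgroup.index_ker, ← hZcard]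
      exact Subgroup.card_subgroup_dvd_card _
    have h3 : p ^ 3 * p ∣ Nat.card K * p := by
      have : p ^ 3 * p = p ^ 4 := by ring
      rw [this]
      refine hcard.trans ?_
      rw [← h1]
      exact mul_dvd_mul_left _ h2
    exact (Nat.mul_dvd_mul_iff_right hp.out.pos).mp h3
  set N : Subgroup Q := Subgroup.zpowers y ⊔ Z₀ with hN
  have hNK : N ≤ K := by
    apply sup_le
    · rw [Subgroup.zpowers_le, hmemK]
    · rw [hZ₀, Subgroup.zpowers_le, hmemK]
      exact (Subgroup.mem_center_iff.mp hzc y).symm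
  have hNcard : Nat.card N ∣ p ^ 2 := by
    have := card_sup_mul_card_inf (Subgroup.zpowers y) Z₀
      (by rw [Subgroup.normalizer_eq_top]; exact le_top)
    rw [Nat.card_zpowers, hordy, hZcard] at this
    rw [pow_two, ← this]
    exact dvd_mul_right _ _
  obtain ⟨w, hwK, hwN⟩ : ∃ w ∈ K, w ∉ N := by
    by_contra h
    push Not at h
    have hKN : K ≤ N := h
    have := (hKcard.trans (Subgroup.card_dvd_of_le hKN)).trans hNcard
    have := Nat.le_of_dvd (pow_pos hp.out.pos 2) this
    have : p ^ 2 < p ^ 3 := Nat.pow_lt_pow_right hp1 (by norm_num)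
    omega
  set M' : Subgroup Q := Subgroup.closure {y, z, w} with hM'
  have hyM : y ∈ M' := Subgroup.subset_closure (by simp)
  have hzM : z ∈ M' := Subgroup.subset_closure (by simp)
  have hwM : w ∈ M' := Subgroup.subset_closure (by simp)
  have hcomm : ∀ a ∈ ({y, z, w} : Set Q), ∀ b ∈ ({y, z, w} : Set Q), a * b = b * a := by
    have hzall : ∀ g, g * z = z * g := Subgroup.mem_center_iff.mp hzc
    have hwy : w * y = y * w := (hmemK w).mp hwK
    intro a ha b hb
    simp only [Set.mem_insert_iff, Set.mem_singleton_iff] at ha hb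
    rcases ha with rfl | rfl | rfl <;> rcases hb with rfl | rfl | rfl
    · rfl
    · exact hzall _
    · exact hwy.symm
    · exact (hzall _).symm
    · rfl
    · exact (hzall _).symm
    · exact hwy
    · exact hzall _
    · rfl
  have hM'comm : ∀ a ∈ M', ∀ b ∈ M', a * b = b * a := by
    intro a ha b hb
    haveI := Subgroup.isMulCommutative_closure hcomm
    have := mul_comm' (⟨a, ha⟩ : Subgroup.closure {y, z, w}) ⟨b, hb⟩
    exact congrArg Subtype.val this
  have hNM : N ≤ M' := sup_le (Subgroup.zpowers_le.mpr hyM) (Subgroup.zpowers_le.mpr hzM)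
  have hNM' : N ≠ M' := fun h => hwN (h ▸ hwM)
  have hZN : Z₀ ≤ N := le_sup_right
  have hZN' : Z₀ ≠ N := fun h => hyZ (h ▸ (Subgroup.mem_sup_left (Subgroup.mem_zpowers y)))
  have h1 := mul_card_dvd_of_lt hQ hZN hZN'
  have h2 := mul_card_dvd_of_lt hQ hNM hNM'
  have h3 : p ^ 3 ∣ Nat.card M' := by
    rw [hZcard] at h1
    have : p ^ 3 = p * (p * p) := by ring
    rw [this]
    exact (mul_dvd_mul_left p h1).trans h2
  obtain ⟨K₀, hK₀⟩ := Sylow.exists_subgroup_card_pow_prime p h3
  refine ⟨K₀.map M'.subtype, by rw [card_map_subtype, hK₀], ?_⟩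
  rintro a ⟨a', -, rfl⟩ b ⟨b', -, rfl⟩
  exact hM'comm _ a'.2 _ b'.2

end

section quaternion

open QuaternionGroup

/-- the index map -/
def idx {n : ℕ} : QuaternionGroup n → ZMod (2 * n)
  | a i => i
  | xa i => i

theorem four_ne_zero (N : ℕ) (hN : 8 ≤ N) : (4 : ZMod N) ≠ 0 := by
  intro h
  have h4 : ((4 : ℕ) : ZMod N) = 0 := by exact_mod_cast h
  rw [ZMod.natCast_eq_zero_iff] at h4
  have := Nat.le_of_dvd (by norm_num) h4
  omega

theorem quat_two_subgroups (k : ℕ) (hk : 2 ≤ k) :
    ∃ A B : Subgroup (QuaternionGroup (2 ^ k)), Nat.card A = Nat.card B ∧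
      (∀ a ∈ A, ∀ b ∈ A, a * b = b * a) ∧ ∃ a ∈ B, ∃ b ∈ B, a * b ≠ b * a := by
  classical
  set n := 2 ^ k with hn
  haveI : NeZero n := ⟨by positivity⟩
  have hn4 : 4 ≤ n := by
    calc 4 = 2 ^ 2 := by norm_num
      _ ≤ 2 ^ k := Nat.pow_le_pow_right (by norm_num) hk
  have h2n : 2 ∣ 2 * n := dvd_mul_right 2 n
  have hneven : 2 ∣ n := by rw [hn]; exact dvd_pow_self 2 (by omega)
  let c : ZMod (2 * n) →+* ZMod 2 := ZMod.castHom h2n (ZMod 2)
  have hcn : c (n : ZMod (2 * n)) = 0 := by
    rw [map_natCast]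
    exact (ZMod.natCast_eq_zero_iff n 2).mpr hneven
  have hneg : ∀ t : ZMod 2, -t = t := by decide
  let φ : QuaternionGroup n →* Multiplicative (ZMod 2) :=
    MonoidHom.mk' (fun g => Multiplicative.ofAdd (c (idx g))) (by
      intro g h
      rw [← ofAdd_add]
      congr 1
      rcases g with i | i <;> rcases h with j | j
      · show c (i + j) = c i + c j
        rw [map_add]
      · show c (j - i) = c i + c j
        rw [map_sub, sub_eq_add_neg, hneg, add_comm]
      · show c (i + j) = c i + c j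
        rw [map_add]
      · show c (n + j - i) = c i + c j
        rw [map_sub, map_add, hcn, zero_add, sub_eq_add_neg, hneg, add_comm])
  have hφ : ∀ g, φ g = Multiplicative.ofAdd (c (idx g)) := fun g => rfl
  set B : Subgroup (QuaternionGroup n) := φ.ker with hB
  set A : Subgroup (QuaternionGroup n) := Subgroup.zpowers (a 1) with hA
  have hcardQ : Nat.card (QuaternionGroup n) = 4 * n := by
    rw [Nat.card_eq_fintype_card]; exact QuaternionGroup.card
  have hAcard : Nat.card A = 2 * n := by rw [hA, Nat.card_zpowers, orderOf_a_one]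
  have hBindex : B.index = 2 := by
    rw [hB, Subgroup.index_ker]
    have hsurj : Function.Surjective φ := by
      intro t
      obtain ⟨t, rfl⟩ := Multiplicative.ofAdd.surjective t
      have ht : t = 0 ∨ t = 1 := by revert t; decide
      rcases ht with rfl | rfl
      · exact ⟨1, map_one φ⟩
      · refine ⟨a 1, ?_⟩
        rw [hφ]
        show Multiplicative.ofAdd (c 1) = _
        rw [map_one]
    rw [MonoidHom.range_eq_top.mpr hsurj, Subgroup.card_top, Nat.card_eq_fintype_card]
    rfl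
  have hBcard : Nat.card B = 2 * n := by
    have := Subgroup.card_mul_index B
    rw [hBindex, hcardQ] at this
    omega
  refine ⟨A, B, by rw [hAcard, hBcard], ?_, a 2, ?_, xa 0, ?_, ?_⟩
  · intro x hx y hy
    haveI : IsMulCommutative A := inferInstance
    exact congrArg Subtype.val (mul_comm' (⟨x, hx⟩ : A) ⟨y, hy⟩)
  · rw [hB, MonoidHom.mem_ker, hφ]
    show Multiplicative.ofAdd (c 2) = 1
    have : c 2 = 0 := by
      have h2 : (2 : ZMod (2 * n)) = ((2 : ℕ) : ZMod (2 * n)) := by norm_num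
      rw [h2, map_natCast]
      rfl
    rw [this]; rfl
  · rw [hB, MonoidHom.mem_ker, hφ]
    show Multiplicative.ofAdd (c 0) = 1
    rw [map_zero]; rfl
  · rw [a_mul_xa, xa_mul_a]
    intro h
    have h1 : (0 : ZMod (2 * n)) - 2 = 0 + 2 := by
      injection h
    have h2 : (4 : ZMod (2 * n)) = 0 := by
      have : (4 : ZMod (2 * n)) = (0 + 2) - (0 - 2) := by ring
      rw [this, h1]; ring
    exact four_ne_zero (2 * n) (by omega) h2

end quaternion

section main
variable {G : Type*} [Group G] [Finite G] {p : ℕ} [hp : Fact p.Prime]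

theorem comm_transfer (hC : ∀ H K : Subgroup G, IsPGroup p H → IsPGroup p K →
      Nat.card H = Nat.card K → ∃ g : G, K = H.map (MulAut.conj g).toMonoidHom)
    (H K : Subgroup G) (hH : IsPGroup p H) (hK : IsPGroup p K) (hcard : Nat.card H = Nat.card K)
    (hcomm : ∀ a ∈ H, ∀ b ∈ H, a * b = b * a) : ∀ a ∈ K, ∀ b ∈ K, a * b = b * a := by
  obtain ⟨g, rfl⟩ := hC H K hH hK hcard
  rintro _ ⟨a, ha, rfl⟩ _ ⟨b, hb, rfl⟩
  rw [← map_mul, ← map_mul, hcomm a ha b hb]

theorem exp_transfer (hC : ∀ H K : Subgroup G, IsPGroup p H → IsPGroup p K →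
      Nat.card H = Nat.card K → ∃ g : G, K = H.map (MulAut.conj g).toMonoidHom)
    (H K : Subgroup G) (hH : IsPGroup p H) (hK : IsPGroup p K) (hcard : Nat.card H = Nat.card K)
    (hexp : ∀ a ∈ H, a ^ p = 1) : ∀ a ∈ K, a ^ p = 1 := by
  obtain ⟨g, rfl⟩ := hC H K hH hK hcard
  rintro _ ⟨a, ha, rfl⟩
  rw [← map_pow, hexp a ha, map_one]

/-- transfer along an injective hom into the Sylow subgroup -/
theorem comm_transfer' (hC : ∀ H K : Subgroup G, IsPGroup p H → IsPGroup p K →
      Nat.card H = Nat.card K → ∃ g : G, K = H.map (MulAut.conj g).toMonoidHom)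
    (P : Sylow p G) {R : Type*} [Group R] (ψ : R →* G) (hψ : Function.Injective ψ)
    (hψP : ∀ r, ψ r ∈ (P : Subgroup G))
    (A B : Subgroup R) (hcard : Nat.card A = Nat.card B)
    (hcomm : ∀ a ∈ A, ∀ b ∈ A, a * b = b * a) : ∀ a ∈ B, ∀ b ∈ B, a * b = b * a := by
  have hle : ∀ A : Subgroup R, A.map ψ ≤ (P : Subgroup G) := by
    rintro A _ ⟨r, -, rfl⟩
    exact hψP r
  have h := comm_transfer hC (A.map ψ) (B.map ψ) (P.isPGroup'.to_le (hle A))
    (P.isPGroup'.to_le (hle B))
    (by rw [Subgroup.card_map_of_injective hψ, Subgroup.card_map_of_injective hψ, hcard])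
    (by
      rintro _ ⟨a, ha, rfl⟩ _ ⟨b, hb, rfl⟩
      rw [← map_mul, ← map_mul, hcomm a ha b hb])
  intro a ha b hb
  apply hψ
  rw [map_mul, map_mul]
  exact h _ ⟨a, ha, rfl⟩ _ ⟨b, hb, rfl⟩

end main

/-- Let p be a prime and G a finite group in which any two p-subgroups of the same order are conjugate, with Sylow p-subgroup P. Then P is cyclic, or elementary abelian, or p = 2 and P is a quaternion group of order 8, or p is odd and P is non-abelian of order p³ and exponent p. -/
theorem result {G : Type*} [Group G] [Finite G]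
    {p : ℕ} [Fact p.Prime] (hC : ∀ H K : Subgroup G, IsPGroup p H → IsPGroup p K → Nat.card H = Nat.card K →
      ∃ g : G, K = H.map (MulAut.conj g).toMonoidHom) (P : Sylow p G) :
    IsCyclic P ∨ Cfsg.IsElementaryAbelian p (P : Subgroup G) ∨
      (p = 2 ∧ Nonempty ((P : Subgroup G) ≃* QuaternionGroup 2)) ∨
      (p ≠ 2 ∧ ¬ IsMulCommutative P ∧ Nat.card P = p ^ 3 ∧ Monoid.exponent P = p) := by
  classical
  have hp : Fact p.Prime := inferInstance
  have hPp : IsPGroup p (P : Subgroup G) := P.isPGroup'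
  have hsub : ∀ r : (P : Subgroup G), (P : Subgroup G).subtype r ∈ (P : Subgroup G) := fun r => r.2
  by_cases hu : UniqueOrderP p (P : Subgroup G)
  · rcases hu.main hPp with hc | ⟨h2, k, ⟨e⟩⟩
    · exact Or.inl hc
    · subst h2
      by_cases hk0 : k = 0
      · left
        subst hk0
        haveI : IsCyclic (QuaternionGroup (2 ^ 0)) := by
          rw [pow_zero]; exact QuaternionGroup.quaternionGroup_one_isCyclic
        exact isCyclic_of_surjective e.symm e.symm.surjective
      by_cases hk1 : k = 1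
      · subst hk1
        right; right; left
        exact ⟨rfl, ⟨e⟩⟩
      exfalso
      obtain ⟨A, B, hcard, hAc, a, ha, b, hb, hab⟩ := quat_two_subgroups k (by omega)
      have := comm_transfer' hC P
        ((P : Subgroup G).subtype.comp e.symm.toMonoidHom)
        ((P : Subgroup G).subtype_injective.comp e.symm.injective)
        (fun r => (e.symm r).2) A B hcard hAc
      exact hab (this a ha b hb)
  · -- exponent `p`
    obtain ⟨E, hEcard, hEexp⟩ := Cfsg.Agent.S3908.exists_elementary_sq hPp hu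
    have hp1 := hp.out.one_lt
    have hexp : ∀ x : (P : Subgroup G), x ^ p = 1 := by
      intro x
      by_contra hxp
      obtain ⟨j, hj⟩ := IsPGroup.iff_orderOf.mp hPp x
      have hj2 : 2 ≤ j := by
        by_contra hlt
        apply hxp
        have hdvd : orderOf x ∣ p := by
          rw [hj]
          have : j ≤ 1 := by omega
          calc p ^ j ∣ p ^ 1 := pow_dvd_pow p this
            _ = p := pow_one p
        exact orderOf_dvd_iff_pow_eq_one.mp hdvd
      set y := x ^ (p ^ (j - 2)) with hy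
      have hyord : orderOf y = p ^ 2 := by
        rw [hy, orderOf_pow_of_dvd (pow_ne_zero _ hp.out.ne_zero)
          (by rw [hj]; exact pow_dvd_pow p (by omega)), hj, Nat.pow_div (by omega) hp.out.pos]
        congr 1
        omega
      have hle : ∀ A : Subgroup (P : Subgroup G), A.map (P : Subgroup G).subtype ≤ (P : Subgroup G) := by
        rintro A _ ⟨r, -, rfl⟩
        exact r.2
      have h := exp_transfer hC (E.map (P : Subgroup G).subtype)
        ((Subgroup.zpowers y).map (P : Subgroup G).subtype)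
        (hPp.to_le (hle _)) (hPp.to_le (hle _))
        (by rw [card_map_subtype, card_map_subtype, hEcard, Nat.card_zpowers, hyord])
        (by
          rintro _ ⟨e, he, rfl⟩
          rw [← map_pow, hEexp e he, map_one])
      have h1 : ((y : (P : Subgroup G)) : G) ^ p = 1 := h _ ⟨y, Subgroup.mem_zpowers y, rfl⟩
      have h2 : y ^ p = 1 := Subtype.ext h1
      have h4 := orderOf_dvd_of_pow_eq_one h2
      rw [hyord] at h4
      have := Nat.le_of_dvd hp.out.pos h4
      nlinarith
    by_cases hab : ∀ a b : (P : Subgroup G), a * b = b * a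
    · right; left
      exact ⟨IsMulCommutative.of_comm hab, fun a ha => congrArg Subtype.val (hexp ⟨a, ha⟩)⟩
    · right; right; right
      push Not at hab
      obtain ⟨N, hNcard, a, ha, b, hb, hab'⟩ := exists_nonabelian_cube hPp hexp hab
      refine ⟨?_, ?_, ?_, ?_⟩
      · intro h2
        subst h2
        haveI : IsMulCommutative (P : Subgroup G) := isMulCommutative_of_forall_sq hexp
        exact hab' (mul_comm' a b)
      · intro h
        haveI : IsMulCommutative (P : Subgroup G) := h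
        exact hab' (mul_comm' a b)
      · obtain ⟨n, hn⟩ := IsPGroup.iff_card.mp hPp
        have h3 : 3 ≤ n := by
          have h1 : p ^ 3 ∣ p ^ n := by
            rw [← hn, ← hNcard]
            exact Subgroup.card_subgroup_dvd_card N
          exact (Nat.pow_dvd_pow_iff_le_right hp1).mp h1
        by_cases h4 : 4 ≤ n
        · exfalso
          obtain ⟨M, hMcard, hMc⟩ := exists_abelian_cube hPp hexp
            (by rw [hn]; exact pow_dvd_pow p h4)
          have := comm_transfer' hC P (P : Subgroup G).subtype (P : Subgroup G).subtype_injective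
            hsub M N (by rw [hMcard, hNcard]) hMc
          exact hab' (this a ha b hb)
        · have : n = 3 := by omega
          rw [← this]
          exact hn
      · have h1 : Monoid.exponent (P : Subgroup G) ∣ p :=
          Monoid.exponent_dvd_of_forall_pow_eq_one hexp
        rcases (Nat.dvd_prime hp.out).mp h1 with h | h
        · exfalso
          haveI : Subsingleton (P : Subgroup G) := Monoid.exp_eq_one_iff.mp h
          exact hab' (Subsingleton.elim _ _)
        · exact h

end Cfsg.Agent.S4023
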