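import Mathlib
import Cfsg.Statements.S4024
import Cfsg.Agent.S4023
import Cfsg.Agent.Lib.Lead.Core
import Cfsg.Agent.Lib.Lead.Nilpotent
import Cfsg.Agent.Lib.Lead.HallTools
import Cfsg.Agent.Lib.Lead.CoprimeTools
import Cfsg.Agent.Lib.Lead.CoprimeFrattini
import Cfsg.Agent.Lib.Helper3.PComp1
import Cfsg.Agent.Lib.Helper7.PSolvable

set_option autoImplicit false
open Cfsg

namespace Cfsg.Agent.S4024

open Cfsg.Agent.Lib.Lead Cfsg.Agent.Lib.Helper3 Cfsg.Agent.Lib.Helper7

section opp
variable {X : Type*} [Group X] [Finite X] (p : ℕ) [hp : Fact p.Prime]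

/-- `O_{p',p}(X)` -/
noncomputable def opp : Subgroup X :=
  (Cfsg.pCore p (X ⧸ Cfsg.pPrimeCore p X)).comap (QuotientGroup.mk' (Cfsg.pPrimeCore p X))

theorem pPrimeCore_le_opp : Cfsg.pPrimeCore p X ≤ opp (X := X) p := by
  intro x hx
  rw [opp, Subgroup.mem_comap]
  have : (QuotientGroup.mk' (Cfsg.pPrimeCore p X)) x = 1 := (QuotientGroup.eq_one_iff x).mpr hx
  rw [this]; exact one_mem _

theorem card_opp : ∃ a : ℕ, Nat.card (opp (X := X) p) = p ^ a * Nat.card (Cfsg.pPrimeCore p X) := by
  obtain ⟨a, ha⟩ := IsPGroup.iff_card.mp (pCore_isPGroup (G := X ⧸ Cfsg.pPrimeCore p X) p)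
  exact ⟨a, by rw [opp, card_comap_mk, ha]⟩

theorem opp_normal : (opp (X := X) p).Normal := by
  haveI : (Cfsg.pCore p (X ⧸ Cfsg.pPrimeCore p X)).Normal := Cfsg.Agent.Lib.Lead.pCore_normal p
  exact Subgroup.Normal.comap inferInstance _

theorem opp_characteristic : (opp (X := X) p).Characteristic := by
  classical
  rw [Subgroup.characteristic_iff_map_le]
  intro φ
  set K := Cfsg.pPrimeCore p X with hK
  set L := opp (X := X) p with hL
  haveI hLn : L.Normal := opp_normal p
  have hKL : K ≤ L := pPrimeCore_le_opp p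
  have hKφ : K.map φ.toMonoidHom = K :=
    (Subgroup.characteristic_iff_map_eq.mp (inferInstance : K.Characteristic)) φ
  set M := L.map φ.toMonoidHom with hM
  have hMn : M.Normal := hLn.map _ φ.surjective
  have hKM : K ≤ M := by rw [← hKφ]; exact Subgroup.map_mono hKL
  have hMcard : Nat.card M = Nat.card L := Subgroup.card_map_of_injective φ.injective
  -- the image of `M` in the quotient is a normal `p`-subgroup
  have h1 := card_map_mul_card_inf_ker (QuotientGroup.mk' K) M
  rw [QuotientGroup.ker_mk', inf_of_le_right hKM, hMcard] at h1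
  obtain ⟨a, ha⟩ := card_opp (X := X) p
  rw [ha] at h1
  have h2 : Nat.card (M.map (QuotientGroup.mk' K)) = p ^ a :=
    Nat.eq_of_mul_eq_mul_right Nat.card_pos h1
  have h3 : M.map (QuotientGroup.mk' K) ≤ Cfsg.pCore p (X ⧸ K) :=
    le_pCore (hMn.map _ (QuotientGroup.mk'_surjective K)) (IsPGroup.of_card h2)
  intro x hx
  rw [hL, opp, Subgroup.mem_comap]
  exact h3 ⟨x, hx, rfl⟩

/-- in a nontrivial-mod-`O_{p'}` `p`-solvable group, `p` divides `|O_{p',p} : O_{p'}|` -/
theorem opp_ne (hX : Cfsg.IsPSolvable p X) (hpX : p ∣ Nat.card X) :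
    p ∣ Nat.card (opp (X := X) p) := by
  classical
  set K := Cfsg.pPrimeCore p X with hK
  have hKcop : (Nat.card K).Coprime p := by
    rw [hK]; exact Cfsg.Agent.Lib.Helper6.pPrimeCore_coprime p
  haveI : Nontrivial (X ⧸ K) := by
    by_contra hnt
    rw [not_nontrivial_iff_subsingleton] at hnt
    have := QuotientGroup.subgroup_eq_top_of_subsingleton K hnt
    rw [this, Subgroup.card_top] at hKcop
    exact (Nat.Prime.coprime_iff_not_dvd hp.out).mp hKcop.symm hpX
  have hQ : Cfsg.IsPSolvable p (X ⧸ K) := isPSolvable_quotient hX K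
  obtain ⟨N, hNn, hNne, hN⟩ := exists_normal_of_isPSolvable hQ
  have hbot : Cfsg.pPrimeCore p (X ⧸ K) = ⊥ := pPrimeCore_quotient_eq_bot
  rcases hN with ⟨m, hm⟩ | hcop
  · have hm0 : m ≠ 0 := by
      intro h0
      rw [h0, pow_zero, Subgroup.card_eq_one] at hm
      exact hNne hm
    have hle : N ≤ Cfsg.pCore p (X ⧸ K) := le_pCore hNn (IsPGroup.of_card hm)
    have h1 : p ∣ Nat.card (Cfsg.pCore p (X ⧸ K)) :=
      (hm ▸ dvd_pow_self p hm0 : p ∣ Nat.card N).trans (Subgroup.card_dvd_of_le hle)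
    rw [opp, card_comap_mk]
    exact h1.mul_right _
  · exfalso
    apply hNne
    rw [eq_bot_iff, ← hbot]
    exact Cfsg.Agent.Lib.Helper6.le_pPrimeCore hNn hcop

end opp

/-- Let p be an odd prime and G a finite group in which any two p-subgroups of the same order are conjugate, with Sylow p-subgroup P. If H is a normal p-solvable subgroup of G whose order is divisible by p, then P is abelian, and either P ≤ H or P is cyclic. -/
theorem result {G : Type*} [Group G] [Finite G]
    {p : ℕ} [Fact p.Prime] (hp : p ≠ 2) (hC : ∀ H K : Subgroup G, IsPGroup p H → IsPGroup p K → Nat.card H = Nat.card K →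
      ∃ g : G, K = H.map (MulAut.conj g).toMonoidHom) (P : Sylow p G)
    (H : Subgroup G) [H.Normal] (hsolv : Cfsg.IsPSolvable p H) (hdiv : p ∣ Nat.card H) :
    IsMulCommutative P ∧ ((P : Subgroup G) ≤ H ∨ IsCyclic P) := by
  classical
  have hpP : Fact p.Prime := inferInstance
  have hpp := hpP.out
  have hPp : IsPGroup p (P : Subgroup G) := P.isPGroup'
  -- elements of order `p` of `P` lie in every normal subgroup of order divisible by `p`
  have hkey : ∀ L : Subgroup G, L.Normal → p ∣ Nat.card L → ∀ x ∈ (P : Subgroup G), x ^ p = 1 → x ∈ L := by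
    intro L hLn hpL x hxP hxp
    by_cases hx1 : x = 1
    · rw [hx1]; exact one_mem _
    obtain ⟨y, hy⟩ := exists_prime_orderOf_dvd_card' (G := L) p hpL
    have hy' : orderOf (y : G) = p := by rw [Subgroup.orderOf_coe]; exact hy
    have hxo : orderOf x = p := orderOf_eq_prime hxp hx1
    obtain ⟨g, hg⟩ := hC (Subgroup.zpowers (y : G)) (Subgroup.zpowers x)
      (IsPGroup.of_card (n := 1) (by rw [Nat.card_zpowers, hy', pow_one]))
      (IsPGroup.of_card (n := 1) (by rw [Nat.card_zpowers, hxo, pow_one]))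
      (by rw [Nat.card_zpowers, Nat.card_zpowers, hy', hxo])
    have hxm : x ∈ (Subgroup.zpowers (y : G)).map (MulAut.conj g).toMonoidHom := by
      rw [← hg]; exact Subgroup.mem_zpowers x
    obtain ⟨w, hw, rfl⟩ := hxm
    have hwL : w ∈ L := (Subgroup.zpowers_le.mpr y.2) hw
    exact hLn.conj_mem w hwL g
  rcases Cfsg.Agent.S4023.result hC P with hcyc | hea | ⟨h2, -⟩ | ⟨-, hna, hcard, hexp⟩
  · refine ⟨?_, Or.inr hcyc⟩
    haveI := hcyc
    letI := IsCyclic.commGroup (α := (P : Subgroup G))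
    exact ⟨⟨mul_comm⟩⟩
  · refine ⟨hea.1, Or.inl ?_⟩
    intro x hx
    exact hkey H inferInstance hdiv x hx (hea.2 x hx)
  · exact absurd h2 hp
  · -- the extraspecial case is impossible
    exfalso
    have hexp' : ∀ x ∈ (P : Subgroup G), x ^ p = 1 := by
      intro x hx
      have := Monoid.pow_exponent_eq_one (⟨x, hx⟩ : (P : Subgroup G))
      rw [hexp] at this
      simpa using congrArg Subtype.val this
    have hPH : (P : Subgroup G) ≤ H := fun x hx => hkey H inferInstance hdiv x hx (hexp' x hx)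
    -- the characteristic subgroups of `H`
    set K₀ : Subgroup H := Cfsg.pPrimeCore p H with hK₀
    set L₀ : Subgroup H := opp (X := H) p with hL₀
    haveI : L₀.Characteristic := opp_characteristic p
    set K : Subgroup G := K₀.map H.subtype with hK
    set L : Subgroup G := L₀.map H.subtype with hL
    have hHtop : Subgroup.normalizer (H : Set G) = ⊤ := Subgroup.normalizer_eq_top H
    haveI hKn : K.Normal := by
      rw [← Subgroup.normalizer_eq_top_iff, eq_top_iff, ← hHtop]
      exact le_normalizer_map_characteristic H K₀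
    haveI hLn : L.Normal := by
      rw [← Subgroup.normalizer_eq_top_iff, eq_top_iff, ← hHtop]
      exact le_normalizer_map_characteristic H L₀
    have hKL : K ≤ L := Subgroup.map_mono (pPrimeCore_le_opp p)
    have hKcard : Nat.card K = Nat.card K₀ := card_map_subtype H K₀
    have hLcard : Nat.card L = Nat.card L₀ := card_map_subtype H L₀
    have hKcop : (Nat.card K).Coprime p := by
      rw [hKcard]; exact Cfsg.Agent.Lib.Helper6.pPrimeCore_coprime p
    obtain ⟨a, ha⟩ := card_opp (X := H) p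
    have hpL : p ∣ Nat.card L := by rw [hLcard]; exact opp_ne p hsolv hdiv
    have hPL : (P : Subgroup G) ≤ L := fun x hx => hkey L hLn hpL x hx (hexp' x hx)
    -- `L = P K`
    have hdisj : (P : Subgroup G) ⊓ K = ⊥ := by
      apply (Subgroup.disjoint_of_coprime_natCard ?_).eq_bot
      rw [hcard]
      exact (Nat.Coprime.pow_left 3 hKcop.symm)
    have hsupcard := card_sup_of_disjoint (P : Subgroup G) K
      (by rw [Subgroup.normalizer_eq_top]; exact le_top) hdisj
    have hLeq : (P : Subgroup G) ⊔ K = L := by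
      apply Subgroup.eq_of_le_of_card_ge (sup_le hPL hKL)
      rw [hsupcard, hLcard, ha, ← hKcard]
      apply Nat.mul_le_mul_right
      -- `p ^ a ≤ |P|`
      have h1 : p ^ a ∣ Nat.card G := by
        have : p ^ a ∣ Nat.card L := by rw [hLcard, ha]; exact dvd_mul_right _ _
        exact this.trans (Subgroup.card_subgroup_dvd_card L)
      have h2 := P.card_eq_multiplicity
      have h3 : p ^ a ∣ p ^ (Nat.card G).factorization p :=
        (Nat.Prime.pow_dvd_iff_le_factorization hpp Nat.card_pos.ne').mp h1 |> pow_dvd_pow p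
      rw [← h2] at h3
      exact Nat.le_of_dvd Nat.card_pos h3
    -- a central subgroup of order `p`
    haveI : Nontrivial (P : Subgroup G) := by
      rw [← Finite.one_lt_card_iff_nontrivial, hcard]
      exact Nat.one_lt_pow (by norm_num) hpp.one_lt
    obtain ⟨z, hzc, hz1⟩ : ∃ z ∈ Subgroup.center (P : Subgroup G), z ≠ 1 := by
      haveI := hPp.center_nontrivial
      obtain ⟨⟨a, ha⟩, ha1⟩ := exists_ne (1 : Subgroup.center (P : Subgroup G))
      exact ⟨a, ha, fun h => ha1 (Subtype.ext h)⟩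
    have hzP : (z : G) ∈ (P : Subgroup G) := z.2
    have hzp : (z : G) ^ p = 1 := hexp' _ hzP
    have hz1' : (z : G) ≠ 1 := fun h => hz1 (Subtype.ext h)
    have hzo : orderOf (z : G) = p := orderOf_eq_prime hzp hz1'
    -- every element of `P` is central
    apply hna
    refine ⟨⟨fun x y => ?_⟩⟩
    suffices hcen : ∀ x : (P : Subgroup G), x ∈ Subgroup.center (P : Subgroup G) from
      (Subgroup.mem_center_iff.mp (hcen y) x)
    intro x
    by_cases hx1 : x = 1
    · rw [hx1]; exact one_mem _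
    have hxp : (x : G) ^ p = 1 := hexp' _ x.2
    have hx1' : (x : G) ≠ 1 := fun h => hx1 (Subtype.ext h)
    have hxo : orderOf (x : G) = p := orderOf_eq_prime hxp hx1'
    obtain ⟨g, hg⟩ := hC (Subgroup.zpowers (z : G)) (Subgroup.zpowers (x : G))
      (IsPGroup.of_card (n := 1) (by rw [Nat.card_zpowers, hzo, pow_one]))
      (IsPGroup.of_card (n := 1) (by rw [Nat.card_zpowers, hxo, pow_one]))
      (by rw [Nat.card_zpowers, Nat.card_zpowers, hzo, hxo])
    -- decompose `g = m * (y * k)`
    have hfr := Sylow.normalizer_sup_eq_top' P hPL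
    have hg' : g ∈ Subgroup.normalizer (P : Set G) ⊔ L := by rw [hfr]; trivial
    rw [Subgroup.mem_sup_of_normal_right] at hg'
    obtain ⟨m, hm0, l, hl, rfl⟩ := hg'
    have hm : m ∈ Subgroup.normalizer ((P : Subgroup G) : Set G) := hm0
    rw [← hLeq, Subgroup.mem_sup_of_normal_right] at hl
    obtain ⟨y, hy0, k, hk0, rfl⟩ := hl
    have hy : y ∈ (P : Subgroup G) := hy0
    have hk : k ∈ K := hk0
    have hxm : (x : G) ∈ (Subgroup.zpowers (z : G)).map (MulAut.conj (m * (y * k))).toMonoidHom := by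
      rw [← hg]; exact Subgroup.mem_zpowers _
    obtain ⟨w, hw, hwx⟩ := hxm
    have hwx' : m * (y * k) * w * (m * (y * k))⁻¹ = (x : G) := hwx
    have hwP : w ∈ (P : Subgroup G) := (Subgroup.zpowers_le.mpr hzP) hw
    -- `w` is central in `P`
    have hwc : ∀ t ∈ (P : Subgroup G), t * w = w * t := by
      intro t ht
      obtain ⟨n, rfl⟩ := Subgroup.mem_zpowers_iff.mp hw
      have h1 := Subgroup.mem_center_iff.mp hzc ⟨t, ht⟩
      have h2 : t * (z : G) = (z : G) * t := congrArg Subtype.val h1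
      exact (Commute.zpow_right h2 n)
    -- `k w k⁻¹ ∈ P`
    have hminv : m⁻¹ ∈ Subgroup.normalizer ((P : Subgroup G) : Set G) := inv_mem hm
    have h1 : y * (k * w * k⁻¹) * y⁻¹ ∈ (P : Subgroup G) := by
      have h2 : y * (k * w * k⁻¹) * y⁻¹ = m⁻¹ * (x : G) * m⁻¹⁻¹ := by
        rw [← hwx']; group
      rw [h2]
      exact (Subgroup.mem_normalizer_iff.mp hminv _).mp x.2
    have h3 : k * w * k⁻¹ ∈ (P : Subgroup G) := by
      have : k * w * k⁻¹ = y⁻¹ * (y * (k * w * k⁻¹) * y⁻¹) * y := by group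
      rw [this]
      exact mul_mem (mul_mem (inv_mem hy) h1) hy
    have h4 : k * w * k⁻¹ * w⁻¹ ∈ (P : Subgroup G) ⊓ K := by
      refine Subgroup.mem_inf.mpr ⟨mul_mem h3 (inv_mem hwP), ?_⟩
      have : k * w * k⁻¹ * w⁻¹ = k * (w * k⁻¹ * w⁻¹) := by group
      rw [this]
      exact mul_mem hk (hKn.conj_mem _ (inv_mem hk) w)
    rw [hdisj, Subgroup.mem_bot] at h4
    have h5 : k * w * k⁻¹ = w := by
      have := mul_inv_eq_one.mp h4
      exact this
    -- hence `x = m w m⁻¹`
    have h6 : (x : G) = m * w * m⁻¹ := by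
      rw [← hwx']
      have : m * (y * k) * w * (m * (y * k))⁻¹ = m * (y * (k * w * k⁻¹) * y⁻¹) * m⁻¹ := by group
      rw [this, h5]
      have h7 : y * w * y⁻¹ = w := by rw [hwc y hy, mul_inv_cancel_right]
      rw [h7]
    rw [Subgroup.mem_center_iff]
    intro t
    apply Subtype.ext
    show (t : G) * (x : G) = (x : G) * (t : G)
    -- conjugate by `m`
    have ht' : m⁻¹ * (t : G) * m⁻¹⁻¹ ∈ (P : Subgroup G) :=
      (Subgroup.mem_normalizer_iff.mp hminv _).mp t.2
    have h8 := hwc _ ht'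
    rw [h6]
    have h9 : (t : G) = m * (m⁻¹ * (t : G) * m⁻¹⁻¹) * m⁻¹ := by group
    rw [h9]
    calc m * (m⁻¹ * (t : G) * m⁻¹⁻¹) * m⁻¹ * (m * w * m⁻¹)
        = m * ((m⁻¹ * (t : G) * m⁻¹⁻¹) * w) * m⁻¹ := by group
      _ = m * (w * (m⁻¹ * (t : G) * m⁻¹⁻¹)) * m⁻¹ := by rw [h8]
      _ = m * w * m⁻¹ * (m * (m⁻¹ * (t : G) * m⁻¹⁻¹) * m⁻¹) := by group

end Cfsg.Agent.S4024
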