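import Cfsg.Statements.S4025
import Cfsg.Agent.Lib.Helper7.EqOrd7
-- import your own Cfsg.Agent.* helpers here

set_option autoImplicit false
open Cfsg

namespace Cfsg.Agent.S4025

/-- Let p be a prime and G a finite group in which any two p-subgroups of the same order are conjugate, and suppose a Sylow p-subgroup P of G is elementary abelian of order pⁿ with n ≥ 3. Let N be the normalizer of P and K the largest normal subgroup of N of order prime to p, and assume N/K is solvable. Then either n = 3 and N/K embeds in the one-dimensional semi-affine group over the field with p³ elements (and for p = 2 it is isomorphic to the affine or the semi-affine group over the field with 8 elements), or n = 5, p = 2 and N/K is isomorphic to the one-dimensional semi-affine group over the field with 32 elements. -/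
theorem result {G : Type*} [Group G] [Finite G]
    {p : ℕ} [Fact p.Prime] (hC : ∀ H K : Subgroup G, IsPGroup p H → IsPGroup p K → Nat.card H = Nat.card K →
      ∃ g : G, K = H.map (MulAut.conj g).toMonoidHom) (P : Sylow p G) (n : ℕ) (hn : 3 ≤ n)
    (hel : Cfsg.IsElementaryAbelian p (P : Subgroup G)) (hcard : Nat.card P = p ^ n)
    (N : Subgroup G) (hN : N = Subgroup.normalizer ((P : Subgroup G) : Set G))
    (hsolv : Group.IsSolvable (↥N ⧸ Cfsg.pPrimeCore p ↥N)) :
    (n = 3 ∧ (∃ f : ↥N ⧸ Cfsg.pPrimeCore p ↥N →* ↥(Cfsg.semiaffineGroup (GaloisField p 3)), Function.Injective f) ∧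
      (p = 2 → Nonempty (↥N ⧸ Cfsg.pPrimeCore p ↥N ≃* Cfsg.semiaffineGroup (GaloisField 2 3)) ∨
               Nonempty (↥N ⧸ Cfsg.pPrimeCore p ↥N ≃* Cfsg.affineGroup (GaloisField 2 3)))) ∨
    (n = 5 ∧ p = 2 ∧ Nonempty (↥N ⧸ Cfsg.pPrimeCore p ↥N ≃* Cfsg.semiaffineGroup (GaloisField 2 5))) := by
  classical
  have hPN : (P : Subgroup G) ≤ N := by rw [hN]; exact Subgroup.le_normalizer
  haveI hQn : ((P : Subgroup G).subgroupOf N).Normal := by
    rw [hN]; exact Subgroup.normal_in_normalizer
  have hab : ∀ a ∈ (P : Subgroup G), ∀ b ∈ (P : Subgroup G), a * b = b * a := by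
    intro a ha b hb
    have := hel.1.is_comm.comm (⟨a, ha⟩ : (P : Subgroup G)) ⟨b, hb⟩
    exact congrArg Subtype.val this
  apply Cfsg.Agent.Lib.Helper7.EqOrd.theoremB ((P : Subgroup G).subgroupOf N) n hn
  · rw [Nat.card_congr (Subgroup.subgroupOfEquivOfLe hPN).toEquiv]; exact hcard
  · have h1 : (P : Subgroup G).relIndex N * N.index = (P : Subgroup G).index :=
      Subgroup.relIndex_mul_index hPN
    have h2 : ((P : Subgroup G).subgroupOf N).index ∣ (P : Subgroup G).index := ⟨_, h1.symm⟩
    have h3 : ((P : Subgroup G).index).Coprime p :=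
      ((Nat.Prime.coprime_iff_not_dvd Fact.out).mpr P.not_dvd_index).symm
    exact Nat.Coprime.coprime_dvd_left h2 h3
  · intro a ha b hb
    exact Subtype.ext (hab a ha b hb)
  · intro a ha
    exact Subtype.ext (hel.2 a ha)
  · intro W₁ W₂ hW₁ hW₂ hc
    have hU : ∀ W : Subgroup N, W ≤ (P : Subgroup G).subgroupOf N → W.map N.subtype ≤ (P : Subgroup G) := by
      rintro W hW _ ⟨w, hw, rfl⟩
      exact hW hw
    have hcardU : ∀ W : Subgroup N, Nat.card (W.map N.subtype) = Nat.card W := fun W =>
      Subgroup.card_map_of_injective N.subtype_injective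
    obtain ⟨g, hg⟩ := hC (W₁.map N.subtype) (W₂.map N.subtype)
      (P.isPGroup'.to_le (hU W₁ hW₁)) (P.isPGroup'.to_le (hU W₂ hW₂))
      (by rw [hcardU, hcardU, hc])
    obtain ⟨x, hx, hmap⟩ := Cfsg.Agent.Lib.Helper7.EqOrd.fusion_abelian_sylow P hab
      (W₁.map N.subtype) (W₂.map N.subtype) (hU W₁ hW₁) (hU W₂ hW₂) g hg
    rw [← hN] at hx
    refine ⟨⟨x, hx⟩, ?_⟩
    intro w hw
    obtain ⟨w₂, hw₂, he⟩ := hmap (w : G) ⟨w, hw, rfl⟩
    have : (⟨x, hx⟩ : N) * w * (⟨x, hx⟩ : N)⁻¹ = w₂ := Subtype.ext he.symm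
    rw [this]; exact hw₂
  · exact hsolv

end Cfsg.Agent.S4025
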