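import Mathlib
import Cfsg.Statements.S4027
import Cfsg.Agent.Lib.Helper7.RealOdd

set_option autoImplicit false
open Cfsg

namespace Cfsg.Agent.S4027

open Cfsg.Agent.Lib.Helper7

/-- Let G be a finite group in which every element x of odd order satisfies N_G(⟨x⟩) = C_G(x). Then the Sylow 2-subgroups of G are normal. -/
theorem result {G : Type*} [Group G] [Finite G]
    (hirr : ∀ x : G, (∀ r : ℕ, r.Prime → r ∣ orderOf x → r ≠ 2) →
      Subgroup.normalizer ((Subgroup.zpowers x : Subgroup G) : Set G) ≤ Subgroup.centralizer {x}) (P : Sylow 2 G) :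
    (P : Subgroup G).Normal := by
  apply sylow_two_normal_of_noRealOdd _ P
  intro x hx1 hodd hreal
  obtain ⟨g, hg⟩ := isConj_iff.mp hreal
  have h1 : ∀ r : ℕ, r.Prime → r ∣ orderOf x → r ≠ 2 := by
    intro r _ hr h2
    rw [h2] at hr
    exact (Nat.not_even_iff_odd.mpr hodd) (even_iff_two_dvd.mpr hr)
  have h2 := hirr x h1 (zpowers_conj_eq_of_inv hg)
  rw [Subgroup.mem_centralizer_iff] at h2
  have h3 : x * g = g * x := h2 x rfl
  have h4 : g * x * g⁻¹ = x := by rw [← h3]; group
  have h5 : x = x⁻¹ := by rw [← hg, h4]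
  have hxx : x ^ 2 = 1 := by
    rw [pow_two]
    nth_rewrite 2 [h5]
    exact mul_inv_cancel x
  have h6 : orderOf x ∣ 2 := orderOf_dvd_of_pow_eq_one hxx
  have h7 : orderOf x = 1 :=
    Nat.Coprime.eq_one_of_dvd (Nat.coprime_two_right.mpr hodd) h6
  exact hx1 (orderOf_eq_one_iff.mp h7)

end Cfsg.Agent.S4027
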