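import Mathlib
import Cfsg.Statements.S4028
import Cfsg.Agent.Lib.Helper7.Wielandt1

set_option autoImplicit false
open Cfsg

namespace Cfsg.Agent.S4028

open Cfsg.Agent.Lib.Helper7
open scoped Pointwise

variable {G : Type*} [Group G]

/-- number theory: `j^m ≡ 1 mod 2^k` with `m` odd implies `j ≡ 1 mod 2^k`. -/
theorem modEq_one_of_pow_odd (j m k : ℕ) (hm : Odd m) (h : j ^ m ≡ 1 [MOD 2 ^ k]) :
    j ≡ 1 [MOD 2 ^ k] := by
  rcases Nat.eq_zero_or_pos k with rfl | hk
  · simp [Nat.modEq_one]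
  have hm0 : m ≠ 0 := by rintro rfl; exact (by decide : ¬ Odd 0) hm
  have hcop : Nat.Coprime j (2 ^ k) := by
    have h1 : Nat.gcd (j ^ m) (2 ^ k) = Nat.gcd 1 (2 ^ k) := h.gcd_eq
    rw [Nat.gcd_one_left] at h1
    exact Nat.Coprime.coprime_dvd_left (dvd_pow_self j hm0) h1
  have h2 := Nat.ModEq.pow_totient hcop
  rw [Nat.totient_prime_pow Nat.prime_two hk] at h2
  simp only [Nat.add_one_sub_one, mul_one] at h2
  have e1 : ((j : ZMod (2 ^ k))) ^ m = 1 := by
    have := (ZMod.natCast_eq_natCast_iff _ _ _).mpr h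
    push_cast at this
    exact this
  have e2 : ((j : ZMod (2 ^ k))) ^ (2 ^ (k - 1)) = 1 := by
    have := (ZMod.natCast_eq_natCast_iff _ _ _).mpr h2
    push_cast at this
    exact this
  have d1 := orderOf_dvd_of_pow_eq_one e1
  have d2 := orderOf_dvd_of_pow_eq_one e2
  have hc : Nat.Coprime m (2 ^ (k - 1)) := Nat.Coprime.pow_right _ hm.coprime_two_right
  have h3 : orderOf (j : ZMod (2 ^ k)) = 1 := Nat.eq_one_of_dvd_coprimes hc d1 d2
  have h4 : (j : ZMod (2 ^ k)) = 1 := orderOf_eq_one_iff.mp h3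
  have h5 : (j : ZMod (2 ^ k)) = ((1 : ℕ) : ZMod (2 ^ k)) := by rw [h4]; simp
  exact (ZMod.natCast_eq_natCast_iff _ _ _).mp h5

/-- an element of odd order normalizing a cyclic 2-group centralizes it. -/
theorem odd_centralizes [Finite G] (x u : G) (k : ℕ) (hx : orderOf x = 2 ^ k)
    (hu : Odd (orderOf u))
    (hn : u ∈ Subgroup.normalizer ((Subgroup.zpowers x : Subgroup G) : Set G)) :
    u * x = x * u := by
  have h1 : u * x * u⁻¹ ∈ Subgroup.zpowers x :=
    (Subgroup.mem_normalizer_iff.mp hn x).mp (Subgroup.mem_zpowers x)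
  rw [← (isOfFinOrder_of_finite x).mem_powers_iff_mem_zpowers, Submonoid.mem_powers_iff] at h1
  obtain ⟨j, hj⟩ := h1
  have hconj : ∀ i : ℕ, ((MulAut.conj u) ^ i) x = x ^ (j ^ i) := by
    intro i
    induction i with
    | zero => simp
    | succ i ih =>
      rw [pow_succ', MulAut.mul_apply, ih, map_pow, MulAut.conj_apply, ← hj, ← pow_mul, pow_succ,
        mul_comm]
  have h2 := hconj (orderOf u)
  rw [← map_pow, pow_orderOf_eq_one, map_one, MulAut.one_apply] at h2
  have h3 : x ^ (j ^ orderOf u) = x ^ 1 := by rw [← h2, pow_one]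
  rw [pow_eq_pow_iff_modEq, hx] at h3
  have h4 := modEq_one_of_pow_odd j (orderOf u) k hu h3
  have h5 : x ^ j = x ^ 1 := by rw [pow_eq_pow_iff_modEq, hx]; exact h4
  rw [pow_one] at h5
  rw [h5] at hj
  calc u * x = (u * x * u⁻¹) * u := by group
    _ = x * u := by rw [← hj]

/-- Let G be a finite group with Sylow 2-subgroup P. Then N_G(⟨x⟩) = C_G(x) holds for every 2-element x of G if and only if N_P(⟨y⟩) = C_P(y) holds for every y ∈ P (computed inside P). -/
theorem result {G : Type*} [Group G] [Finite G] (P : Sylow 2 G) :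
    (∀ x : G, (∀ r : ℕ, r.Prime → r ∣ orderOf x → r = 2) →
      Subgroup.normalizer ((Subgroup.zpowers x : Subgroup G) : Set G) ≤ Subgroup.centralizer {x}) ↔
    (∀ y : ↥(P : Subgroup G), Subgroup.normalizer ((Subgroup.zpowers y : Subgroup ↥(P : Subgroup G)) : Set ↥(P : Subgroup G)) ≤
        Subgroup.centralizer {y}) := by
  have hzp : ∀ (y w : ↥(P : Subgroup G)), w ∈ Subgroup.zpowers y ↔ (w : G) ∈ Subgroup.zpowers (y : G) := by
    intro y w
    rw [Subgroup.mem_zpowers_iff, Subgroup.mem_zpowers_iff]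
    constructor
    · rintro ⟨i, rfl⟩
      exact ⟨i, by simp⟩
    · rintro ⟨i, hi⟩
      exact ⟨i, Subtype.ext (by simpa using hi)⟩
  constructor
  · intro h y g hg
    rw [Subgroup.mem_centralizer_singleton_iff]
    have hy2 : ∀ r : ℕ, r.Prime → r ∣ orderOf (y : G) → r = 2 := by
      intro r hr hrd
      obtain ⟨k, hk⟩ := P.2 y
      have h1 : orderOf (y : G) ∣ 2 ^ k := by
        rw [Subgroup.orderOf_coe]; exact orderOf_dvd_of_pow_eq_one hk
      exact (Nat.prime_dvd_prime_iff_eq hr Nat.prime_two).mp (hr.dvd_of_dvd_pow (hrd.trans h1))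
    have hgN : (g : G) ∈ Subgroup.normalizer ((Subgroup.zpowers (y : G) : Subgroup G) : Set G) := by
      rw [mem_normalizer_iff_cj]
      refine Subgroup.eq_of_le_of_card_ge ?_ (by rw [card_cj])
      show Subgroup.map _ (Subgroup.zpowers (y : G)) ≤ _
      rw [MonoidHom.map_zpowers, Subgroup.zpowers_le]
      have h1 : g * y * g⁻¹ ∈ Subgroup.zpowers y :=
        (Subgroup.mem_normalizer_iff.mp hg y).mp (Subgroup.mem_zpowers y)
      have := (hzp y _).mp h1
      simpa using this
    have := h (y : G) hy2 hgN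
    rw [Subgroup.mem_centralizer_singleton_iff] at this
    exact Subtype.ext this
  · intro h x hx g hg
    rw [Subgroup.mem_centralizer_singleton_iff]
    have hox : orderOf x = 2 ^ (orderOf x).primeFactorsList.length :=
      Nat.eq_prime_pow_of_unique_prime_dvd (orderOf_pos x).ne' (fun {d} hd hdd => hx d hd hdd)
    set k := (orderOf x).primeFactorsList.length with hk
    -- 2-elements of the normalizer centralize x
    have h2elt : ∀ v : G, (∃ e : ℕ, orderOf v = 2 ^ e) →
        v ∈ Subgroup.normalizer ((Subgroup.zpowers x : Subgroup G) : Set G) → v * x = x * v := by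
      intro v ⟨e, hv⟩ hvN
      have hpx : IsPGroup 2 ↥(Subgroup.zpowers x) := by
        apply IsPGroup.of_card (n := k)
        rw [Nat.card_zpowers, hox]
      have hpv : IsPGroup 2 ↥(Subgroup.zpowers v) := by
        apply IsPGroup.of_card (n := e)
        rw [Nat.card_zpowers, hv]
      have hvle : Subgroup.zpowers v ≤ Subgroup.normalizer
          ((Subgroup.zpowers x : Subgroup G) : Set G) := by
        rw [Subgroup.zpowers_le]; exact hvN
      have hD : IsPGroup 2 ↥(Subgroup.zpowers v ⊔ Subgroup.zpowers x) :=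
        IsPGroup.to_sup_of_normal_right' hpv hpx hvle
      obtain ⟨Q, hQ⟩ := hD.exists_le_sylow
      obtain ⟨a, ha⟩ := MulAction.exists_smul_eq G Q P
      have hQP : cj a (Q : Subgroup G) = (P : Subgroup G) := by rw [← ha]; rfl
      have hxP : a * x * a⁻¹ ∈ (P : Subgroup G) := by
        rw [← hQP]
        exact ⟨x, hQ (Subgroup.mem_sup_right (Subgroup.mem_zpowers x)), rfl⟩
      have hvP : a * v * a⁻¹ ∈ (P : Subgroup G) := by
        rw [← hQP]
        exact ⟨v, hQ (Subgroup.mem_sup_left (Subgroup.mem_zpowers v)), rfl⟩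
      set y : ↥(P : Subgroup G) := ⟨a * x * a⁻¹, hxP⟩ with hy
      set c : ↥(P : Subgroup G) := ⟨a * v * a⁻¹, hvP⟩ with hc
      have hcN : c ∈ Subgroup.normalizer ((Subgroup.zpowers y : Subgroup ↥(P : Subgroup G)) :
          Set ↥(P : Subgroup G)) := by
        rw [mem_normalizer_iff_cj]
        refine Subgroup.eq_of_le_of_card_ge ?_ (by rw [card_cj])
        show Subgroup.map _ (Subgroup.zpowers y) ≤ _
        rw [MonoidHom.map_zpowers, Subgroup.zpowers_le, hzp]
        show (a * v * a⁻¹) * (a * x * a⁻¹) * (a * v * a⁻¹)⁻¹ ∈ Subgroup.zpowers (a * x * a⁻¹)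
        have h1 : v * x * v⁻¹ ∈ Subgroup.zpowers x :=
          (Subgroup.mem_normalizer_iff.mp hvN x).mp (Subgroup.mem_zpowers x)
        obtain ⟨i, hi⟩ := Subgroup.mem_zpowers_iff.mp h1
        rw [Subgroup.mem_zpowers_iff]
        refine ⟨i, ?_⟩
        have : (a * v * a⁻¹) * (a * x * a⁻¹) * (a * v * a⁻¹)⁻¹ = a * (v * x * v⁻¹) * a⁻¹ := by group
        rw [this, ← hi]
        have := map_zpow (MulAut.conj a) x i
        simpa [MulAut.conj_apply] using this.symm
      have := h y hcN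
      rw [Subgroup.mem_centralizer_singleton_iff] at this
      have h3 : (a * v * a⁻¹) * (a * x * a⁻¹) = (a * x * a⁻¹) * (a * v * a⁻¹) :=
        congrArg Subtype.val this
      calc v * x = a⁻¹ * ((a * v * a⁻¹) * (a * x * a⁻¹)) * a := by group
        _ = a⁻¹ * ((a * x * a⁻¹) * (a * v * a⁻¹)) * a := by rw [h3]
        _ = x * v := by group
    -- decompose g
    obtain ⟨e, m, hm, hgem⟩ := Nat.exists_eq_two_pow_mul_odd (orderOf_pos g).ne'
    have hNg : ∀ i : ℕ, g ^ i ∈ Subgroup.normalizer ((Subgroup.zpowers x : Subgroup G) : Set G) :=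
      fun i => Subgroup.pow_mem _ hg i
    have hm0 : m ≠ 0 := by rintro rfl; exact (by decide : ¬ Odd 0) hm
    have c1 : g ^ m * x = x * g ^ m := by
      apply h2elt _ ⟨e, ?_⟩ (hNg m)
      rw [orderOf_pow_of_dvd hm0 (Dvd.intro_left _ hgem.symm), hgem,
        Nat.mul_div_cancel _ (Nat.pos_of_ne_zero hm0)]
    have c2 : g ^ 2 ^ e * x = x * g ^ 2 ^ e := by
      apply odd_centralizes x _ k hox _ (hNg _)
      rw [orderOf_pow_of_dvd (pow_ne_zero _ two_ne_zero) (Dvd.intro _ hgem.symm), hgem,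
        Nat.mul_div_cancel_left _ (pow_pos two_pos _)]
      exact hm
    have hcop : IsCoprime ((2 ^ e : ℕ) : ℤ) (m : ℤ) :=
      Nat.isCoprime_iff_coprime.mpr (Nat.Coprime.pow_left _ hm.coprime_two_left)
    obtain ⟨s, t, hst⟩ := hcop
    have hC1 : g ^ m ∈ Subgroup.centralizer ({x} : Set G) :=
      Subgroup.mem_centralizer_singleton_iff.mpr c1
    have hC2 : g ^ 2 ^ e ∈ Subgroup.centralizer ({x} : Set G) :=
      Subgroup.mem_centralizer_singleton_iff.mpr c2
    have hg' : g = (g ^ 2 ^ e) ^ s * (g ^ m) ^ t := by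
      rw [← zpow_natCast g (2 ^ e), ← zpow_natCast g m, ← zpow_mul, ← zpow_mul, ← zpow_add]
      have : ((2 ^ e : ℕ) : ℤ) * s + (m : ℤ) * t = 1 := by rw [← hst]; ring
      rw [this, zpow_one]
    have hgC : g ∈ Subgroup.centralizer ({x} : Set G) := by
      rw [hg']
      exact Subgroup.mul_mem _ (Subgroup.zpow_mem _ hC2 _) (Subgroup.zpow_mem _ hC1 _)
    exact Subgroup.mem_centralizer_singleton_iff.mp hgC

end Cfsg.Agent.S4028
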