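import Mathlib
import Cfsg.Statements.S4029
import Cfsg.Agent.Lib.Helper1.CharFound8
import Cfsg.Agent.Lib.Helper8.Deflation
import Cfsg.Agent.Lib.Lead.Frattini
import Cfsg.Agent.Lib.Lead.MaxClass5

set_option autoImplicit false
open Cfsg

namespace Cfsg.Agent.S4029

open Cfsg.Agent.Lib.Lead Cfsg.Agent.Lib.Helper1 Cfsg.Agent.Lib.Helper8

universe u

section
variable {P : Type u} [Group P] [Finite P]

/-- a real element is an involution or trivial -/
theorem sq_eq_one_of_real
    (hirr : ∀ y : P, Subgroup.normalizer ((Subgroup.zpowers y : Subgroup P) : Set P) ≤ Subgroup.centralizer {y})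
    (y : P) (h : IsConj y⁻¹ y) : y ^ 2 = 1 := by
  rw [isConj_iff] at h
  obtain ⟨g, hg⟩ := h
  have hg' : g * y * g⁻¹ = y⁻¹ := by
    have : g * y * g⁻¹ = (g * y⁻¹ * g⁻¹)⁻¹ := by group
    rw [this, hg]
  have hgn : g ∈ Subgroup.normalizer ((Subgroup.zpowers y : Subgroup P) : Set P) := by
    apply mem_normalizer_of_conj_mem
    intro k hk
    obtain ⟨n, rfl⟩ := Subgroup.mem_zpowers_iff.mp hk
    have : g * y ^ n * g⁻¹ = (g * y * g⁻¹) ^ n := by
      rw [conj_zpow]
    rw [this, hg']
    exact zpow_mem (inv_mem (Subgroup.mem_zpowers y)) n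
  have hgc := hirr y hgn
  rw [Subgroup.mem_centralizer_iff] at hgc
  have h1 : y * g = g * y := hgc y rfl
  have h2 : g * y * g⁻¹ = y := by rw [← h1, mul_inv_cancel_right]
  rw [h2] at hg'
  rw [pow_two]
  nth_rewrite 2 [hg']
  exact mul_inv_cancel y

end

/-- Let P be a finite 2-group in which N_P(⟨y⟩) = C_P(y) for every y ∈ P. If s is the number of conjugacy classes of involutions of P, then #(P/Φ(P)) ≤ s + 1; in particular the subgroup generated by the involutions of P has order at least #(P/Φ(P)). -/
theorem result {P : Type*} [Group P] [Finite P] (hP : IsPGroup 2 P)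
    (hirr : ∀ y : P, Subgroup.normalizer ((Subgroup.zpowers y : Subgroup P) : Set P) ≤ Subgroup.centralizer {y}) :
    Nat.card (P ⧸ frattini P) ≤ Nat.card {c : ConjClasses P // ∃ y : P, ConjClasses.mk y = c ∧ orderOf y = 2} + 1 ∧
    Nat.card (P ⧸ frattini P) ≤ Nat.card (Subgroup.closure {y : P | orderOf y = 2}) := by
  classical
  haveI : Fact (Nat.Prime 2) := ⟨Nat.prime_two⟩
  haveI : Fintype P := Fintype.ofFinite P
  haveI : Fintype (Cfsg.IrrCharacter P) := Fintype.ofFinite _
  haveI : Fintype (ConjClasses P) := Fintype.ofFinite _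
  set X := {c : ConjClasses P // ∃ y : P, ConjClasses.mk y = c ∧ orderOf y = 2} with hX
  haveI : Fintype X := Fintype.ofFinite _
  set Q := P ⧸ frattini P with hQ
  -- `Q` has exponent two
  have hQ2 : ∀ q : Q, q * q = 1 := by
    intro q
    obtain ⟨x, rfl⟩ := QuotientGroup.mk_surjective q
    rw [← QuotientGroup.mk_mul, QuotientGroup.eq_one_iff, ← pow_two]
    exact pow_mem_frattini_of_isPGroup hP x
  have hQinv : ∀ q : Q, q⁻¹ = q := fun q => inv_eq_of_mul_eq_one_left (hQ2 q)
  have hQcomm : ∀ a b : Q, a * b = b * a := by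
    intro a b
    have h1 := hQ2 (a * b)
    have h2 : a * b = (a * b)⁻¹ := (hQinv _).symm
    rw [h2, mul_inv_rev, hQinv, hQinv]
  -- the number of irreducible characters of `Q`
  have hQirr : Nat.card (Cfsg.IrrCharacter Q) = Nat.card Q := by
    rw [card_irr_eq_card_conjClasses]
    apply Nat.card_congr
    symm
    refine Equiv.ofBijective ConjClasses.mk ⟨?_, ConjClasses.mk_surjective⟩
    intro a b hab
    rw [ConjClasses.mk_eq_mk_iff_isConj, isConj_iff] at hab
    obtain ⟨c, hc⟩ := hab
    rw [← hc, hQcomm c a, mul_inv_cancel_right]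
  -- real irreducible characters of `P`
  set RI := Finset.univ.filter (fun χ : Cfsg.IrrCharacter P =>
    (fun g => (χ : P → ℂ) (g⁻¹)) = (χ : P → ℂ)) with hRI
  set RC := Finset.univ.filter (fun c : ConjClasses P =>
    IsConj ((Quotient.out c)⁻¹) (Quotient.out c)) with hRC
  have hbr : (RI.card : ℂ) = (RC.card : ℂ) :=
    brauer_perm_generic (G := P) (fun g => g⁻¹) (fun χ hχ => isIrrCharacter_inv_comp hχ)
  have hbr' : RI.card = RC.card := by exact_mod_cast hbr
  -- inflation
  have h1 : Nat.card Q ≤ RI.card := by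
    rw [← hQirr]
    haveI : Fintype (Cfsg.IrrCharacter Q) := Fintype.ofFinite _
    rw [Nat.card_eq_fintype_card, ← Fintype.card_coe]
    let f : Cfsg.IrrCharacter Q → RI := fun ψ =>
      ⟨⟨fun g => (ψ : Q → ℂ) (QuotientGroup.mk g), isIrrCharacter_inflation (frattini P) ψ.2⟩, by
        rw [hRI, Finset.mem_filter]
        refine ⟨Finset.mem_univ _, ?_⟩
        funext g
        show (ψ : Q → ℂ) (QuotientGroup.mk g⁻¹) = (ψ : Q → ℂ) (QuotientGroup.mk g)
        rw [QuotientGroup.mk_inv, hQinv]⟩
    apply Fintype.card_le_of_injective f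
    intro ψ₁ ψ₂ h
    apply Subtype.ext
    funext q
    obtain ⟨g, rfl⟩ := QuotientGroup.mk_surjective q
    have h2 := congrArg (fun t : RI => ((t : Cfsg.IrrCharacter P) : P → ℂ) g) h
    exact h2
  -- real classes
  have hreal : ∀ c : ConjClasses P, c ∈ RC → Quotient.out c ≠ 1 → orderOf (Quotient.out c) = 2 := by
    intro c hc hne
    rw [hRC, Finset.mem_filter] at hc
    exact orderOf_eq_prime (sq_eq_one_of_real hirr _ hc.2) hne
  have h2 : RC.card ≤ Nat.card X + 1 := by
    rw [Nat.card_eq_fintype_card, ← Fintype.card_option, ← Fintype.card_coe]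
    let f : RC → Option X := fun c =>
      if h : Quotient.out (c : ConjClasses P) = 1 then none
      else some ⟨c, Quotient.out (c : ConjClasses P), Quotient.out_eq' _, hreal c c.2 h⟩
    apply Fintype.card_le_of_injective f
    intro c₁ c₂ h
    simp only [f] at h
    by_cases h1 : Quotient.out (c₁ : ConjClasses P) = 1
    · by_cases h2 : Quotient.out (c₂ : ConjClasses P) = 1
      · apply Subtype.ext
        rw [← Quotient.out_eq' (c₁ : ConjClasses P), ← Quotient.out_eq' (c₂ : ConjClasses P), h1, h2]
      · rw [dif_pos h1, dif_neg h2] at h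
        exact absurd h (by simp)
    · by_cases h2 : Quotient.out (c₂ : ConjClasses P) = 1
      · rw [dif_neg h1, dif_pos h2] at h
        exact absurd h (by simp)
      · rw [dif_neg h1, dif_neg h2] at h
        have h3 := Option.some.inj h
        apply Subtype.ext
        exact congrArg (fun t : X => (t : ConjClasses P)) h3
  have hmain : Nat.card Q ≤ Nat.card X + 1 := by
    calc Nat.card Q ≤ RI.card := h1
      _ = RC.card := hbr'
      _ ≤ Nat.card X + 1 := h2
  refine ⟨hmain, hmain.trans ?_⟩
  -- involutions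
  set Ω := Subgroup.closure {y : P | orderOf y = 2} with hΩ
  haveI : Fintype Ω := Fintype.ofFinite _
  rw [Nat.card_eq_fintype_card (α := X), ← Fintype.card_option, Nat.card_eq_fintype_card]
  let f : Option X → Ω := fun o =>
    match o with
    | none => 1
    | some c => ⟨c.2.choose, Subgroup.subset_closure c.2.choose_spec.2⟩
  apply Fintype.card_le_of_injective f
  intro o₁ o₂ h
  rcases o₁ with _ | c₁ <;> rcases o₂ with _ | c₂
  · rfl
  · exfalso
    have h1 : (1 : P) = c₂.2.choose := congrArg Subtype.val h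
    have h2 := c₂.2.choose_spec.2
    rw [← h1, orderOf_one] at h2
    omega
  · exfalso
    have h1 : c₁.2.choose = (1 : P) := congrArg Subtype.val h
    have h2 := c₁.2.choose_spec.2
    rw [h1, orderOf_one] at h2
    omega
  · have h1 : c₁.2.choose = c₂.2.choose := congrArg Subtype.val h
    congr 1
    apply Subtype.ext
    rw [← c₁.2.choose_spec.1, ← c₂.2.choose_spec.1, h1]

end Cfsg.Agent.S4029
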