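import Mathlib
import Cfsg.Statements.S4032
import Cfsg.Agent.Lib.Helper7.Wielandt1
import Cfsg.Agent.Lib.Lead.CoprimeAction

set_option autoImplicit false
open Cfsg

namespace Cfsg.Agent.S4032

open Cfsg.Agent.Lib.Helper7
open scoped Pointwise

universe u

variable {G : Type u} [Group G]

/-- lifting an element of the quotient to an element of the same order, when the order of the
element is coprime to the order of the kernel. -/
theorem exists_lift_orderOf [Finite G] (N : Subgroup G) [N.Normal] (y : G ⧸ N)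
    (hcop : (orderOf y).Coprime (Nat.card N)) :
    ∃ x : G, (x : G ⧸ N) = y ∧ orderOf x = orderOf y := by
  obtain ⟨x₀, rfl⟩ := QuotientGroup.mk_surjective y
  set k := orderOf (x₀ : G ⧸ N) with hk
  have hkpos : 0 < k := orderOf_pos _
  have hx₀k : x₀ ^ k ∈ N := by
    rw [← QuotientGroup.eq_one_iff, QuotientGroup.mk_pow, hk, pow_orderOf_eq_one]
  set t := orderOf (x₀ ^ k) with ht
  have htN : t ∣ Nat.card N := by
    have := orderOf_dvd_natCard (⟨x₀ ^ k, hx₀k⟩ : ↥N)
    rwa [Subgroup.orderOf_mk] at this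
  have hkt : k.Coprime t := Nat.Coprime.coprime_dvd_right htN hcop
  -- t * t' ≡ 1 mod k
  by_cases hk1 : k = 1
  · refine ⟨1, ?_, ?_⟩
    · have : (x₀ : G ⧸ N) = 1 := orderOf_eq_one_iff.mp hk1
      rw [this]; rfl
    · rw [orderOf_one, hk1]
  · have hk2 : 1 < k := by omega
    obtain ⟨t', -, ht'⟩ := Nat.exists_mul_mod_eq_one_of_coprime hkt.symm hk2
    refine ⟨x₀ ^ (t * t'), ?_, ?_⟩
    · rw [QuotientGroup.mk_pow]
      have h1 : t * t' = k * (t * t' / k) + 1 := by
        have := Nat.div_add_mod (t * t') k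
        rw [ht'] at this
        exact this.symm
      rw [h1, pow_add, pow_mul, hk, pow_orderOf_eq_one, one_pow, one_mul, pow_one]
    · apply Nat.dvd_antisymm
      · apply orderOf_dvd_of_pow_eq_one
        rw [← pow_mul, mul_comm (t * t') k, ← mul_assoc, pow_mul, pow_mul, ht,
          pow_orderOf_eq_one, one_pow]
      · have h1 : ((x₀ ^ (t * t') : G) : G ⧸ N) = (x₀ : G ⧸ N) := by
          rw [QuotientGroup.mk_pow]
          have h1 : t * t' = k * (t * t' / k) + 1 := by
            have := Nat.div_add_mod (t * t') k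
            rw [ht'] at this
            exact this.symm
          rw [h1, pow_add, pow_mul, hk, pow_orderOf_eq_one, one_pow, one_mul, pow_one]
        rw [hk, ← h1]
        exact orderOf_dvd_of_pow_eq_one (by
          rw [← QuotientGroup.mk_pow, pow_orderOf_eq_one, QuotientGroup.mk_one])

/-- Let π be a set of primes and G a finite group in which N_G(⟨x⟩) = C_G(x) for every π-element x. If N is a normal subgroup of G whose order is divisible by no prime of π, then G/N has the same property: N_{G/N}(⟨y⟩) = C_{G/N}(y) for every π-element y of G/N. -/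
theorem result {G : Type*} [Group G] [Finite G] (π : Set ℕ)
    (hirr : ∀ x : G, (∀ r : ℕ, r.Prime → r ∣ orderOf x → r ∈ π) →
      Subgroup.normalizer ((Subgroup.zpowers x : Subgroup G) : Set G) ≤ Subgroup.centralizer {x})
    (N : Subgroup G) [N.Normal] (hN : ∀ r : ℕ, r.Prime → r ∣ Nat.card N → r ∉ π) :
    ∀ y : G ⧸ N, (∀ r : ℕ, r.Prime → r ∣ orderOf y → r ∈ π) →
      Subgroup.normalizer ((Subgroup.zpowers y : Subgroup (G ⧸ N)) : Set (G ⧸ N)) ≤ Subgroup.centralizer {y} := by
  intro y hy gbar hgbar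
  have hcop : (orderOf y).Coprime (Nat.card N) := by
    rw [Nat.coprime_iff_gcd_eq_one]
    by_contra hne
    obtain ⟨r, hr, hrd⟩ := Nat.exists_prime_and_dvd hne
    exact hN r hr (hrd.trans (Nat.gcd_dvd_right _ _)) (hy r hr (hrd.trans (Nat.gcd_dvd_left _ _)))
  obtain ⟨x, hxy, hox⟩ := exists_lift_orderOf N y hcop
  obtain ⟨g, rfl⟩ := QuotientGroup.mk_surjective gbar
  have hxπ : ∀ r : ℕ, r.Prime → r ∣ orderOf x → r ∈ π := by
    intro r hr hrd
    rw [hox] at hrd
    exact hy r hr hrd
  -- g x g⁻¹ ∈ ⟨x⟩ N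
  have h1 : (g : G ⧸ N) * y * (g : G ⧸ N)⁻¹ ∈ Subgroup.zpowers y :=
    (Subgroup.mem_normalizer_iff.mp hgbar y).mp (Subgroup.mem_zpowers y)
  obtain ⟨i, hi⟩ := Subgroup.mem_zpowers_iff.mp h1
  have h2 : (x ^ i)⁻¹ * (g * x * g⁻¹) ∈ N := by
    rw [← QuotientGroup.eq, QuotientGroup.mk_zpow, hxy, hi, QuotientGroup.mk_mul,
      QuotientGroup.mk_mul, QuotientGroup.mk_inv, hxy]
  set A := Subgroup.zpowers x with hA
  set B := Subgroup.zpowers (g * x * g⁻¹) with hB
  have hBle : B ≤ A ⊔ N := by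
    rw [hB, Subgroup.zpowers_le]
    have : g * x * g⁻¹ = x ^ i * ((x ^ i)⁻¹ * (g * x * g⁻¹)) := by group
    rw [this]
    exact Subgroup.mul_mem _ (Subgroup.mem_sup_left (Subgroup.zpow_mem_zpowers x i))
      (Subgroup.mem_sup_right h2)
  have hcardB : Nat.card B = Nat.card A := by
    rw [hA, hB, Nat.card_zpowers, Nat.card_zpowers]
    have := (MulAut.conj g).orderOf_eq x
    rw [MulAut.conj_apply] at this
    exact this
  have hcopA : (Nat.card A).Coprime (Nat.card N) := by
    rw [hA, Nat.card_zpowers, hox]; exact hcop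
  have hAN : A ≤ Subgroup.normalizer (N : Set G) :=
    le_trans le_top (Subgroup.normalizer_eq_top_iff.mpr inferInstance).ge
  have hsolv : Group.IsSolvable ↥A ∨ Group.IsSolvable ↥N := Or.inl inferInstance
  obtain ⟨n, hnN, hn⟩ := Cfsg.Agent.Lib.Lead.coprime_conj_complement A N hAN hcopA hsolv B hBle hcardB
  change cj n A = B at hn
  have hgA : cj g A = B := by
    show Subgroup.map _ (Subgroup.zpowers x) = _
    rw [MonoidHom.map_zpowers]
    rfl
  have h3 : cj (n⁻¹ * g) A = A := by
    rw [cj_mul, hgA, ← hn, cj_inv_cj]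
  have h4 : n⁻¹ * g ∈ Subgroup.centralizer ({x} : Set G) :=
    hirr x hxπ (mem_normalizer_iff_cj.mpr h3)
  rw [Subgroup.mem_centralizer_singleton_iff] at h4 ⊢
  have h5 : ((n⁻¹ * g : G) : G ⧸ N) = (g : G ⧸ N) := by
    rw [QuotientGroup.mk_mul, QuotientGroup.mk_inv, (QuotientGroup.eq_one_iff n).mpr hnN]
    group
  rw [← hxy, ← h5, ← QuotientGroup.mk_mul, ← QuotientGroup.mk_mul, h4]

end Cfsg.Agent.S4032
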