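import Mathlib
import Cfsg.Statements.S4034
import Cfsg.Agent.S0143
import Cfsg.Agent.Lib.Helper7.ClassCount
import Cfsg.Agent.Lib.Helper7.AbHall
import Cfsg.Agent.Lib.Helper7.EPPO3
import Cfsg.Agent.Lib.Helper6.FStarAct
import Cfsg.Agent.Lib.Helper6.PRes
import Cfsg.Agent.Lib.Helper3.Components11
import Cfsg.Agent.Lib.Lead.HallThm4
import Cfsg.Agent.Lib.Lead.Core

set_option autoImplicit false
open Cfsg

namespace Cfsg.Agent.S4034

universe u

open Cfsg.Agent.Lib.Helper7

/-- the hypothesis in centralizer form -/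
def Hyp (p : ℕ) (G : Type u) [Group G] : Prop :=
  ∀ x : G, (orderOf x).Coprime p → ∃ k : ℕ, (Subgroup.centralizer ({x} : Set G)).index = p ^ k

theorem index_eq_ncard {G : Type*} [Group G] [Finite G] (x : G) :
    (Subgroup.centralizer ({x} : Set G)).index = (ConjClasses.mk x).carrier.ncard := by
  have h1 := ncard_cls_mul_card_centralizer x
  have h2 : (ConjClasses.mk x).carrier = {y : G | IsConj x y} := by
    ext y
    rw [ConjClasses.mem_carrier_iff_mk_eq, Set.mem_setOf_eq, ConjClasses.mk_eq_mk_iff_isConj]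
    exact ⟨fun h => h.symm, fun h => h.symm⟩
  have h4 := (Subgroup.centralizer ({x} : Set G)).card_mul_index
  rw [← h1, mul_comm] at h4
  rw [h2]
  exact Nat.eq_of_mul_eq_mul_right Nat.card_pos h4

theorem relIndex_dvd_index_of_normal_right {G : Type*} [Group G] [Finite G] (C N : Subgroup G)
    [N.Normal] : C.relIndex N ∣ C.index := by
  have h1 : N.relIndex (C ⊔ N) = N.relIndex C := Subgroup.relIndex_sup_right (H := C) (K := N)
  have e1 := Subgroup.relIndex_mul_relIndex (C ⊓ N) C (C ⊔ N) inf_le_left le_sup_left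
  have e2 := Subgroup.relIndex_mul_relIndex (C ⊓ N) N (C ⊔ N) inf_le_right le_sup_right
  rw [Subgroup.inf_relIndex_left] at e1
  rw [Subgroup.inf_relIndex_right, h1] at e2
  have h3 : N.relIndex C ≠ 0 := by
    show (N.subgroupOf C).index ≠ 0
    exact Subgroup.index_ne_zero_of_finite
  have h2 : C.relIndex (C ⊔ N) = C.relIndex N := by
    have : N.relIndex C * C.relIndex (C ⊔ N) = N.relIndex C * C.relIndex N := by
      rw [e1, ← e2, mul_comm]
    exact Nat.eq_of_mul_eq_mul_left (Nat.pos_of_ne_zero h3) this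
  rw [← h2]
  exact Subgroup.relIndex_dvd_index_of_le le_sup_left

theorem hyp_subgroup {G : Type u} [Group G] [Finite G] {p : ℕ} (hp : p.Prime)
    (h : Hyp p G) (N : Subgroup G) [N.Normal] : Hyp p N := by
  intro x hx
  rw [← Subgroup.orderOf_coe] at hx
  obtain ⟨k, hk⟩ := h (x : G) hx
  have h1 : (Subgroup.centralizer ({x} : Set N)) =
      (Subgroup.centralizer ({(x : G)} : Set G)).subgroupOf N := by
    ext y
    rw [Subgroup.mem_subgroupOf, Subgroup.mem_centralizer_singleton_iff,
      Subgroup.mem_centralizer_singleton_iff, Subtype.ext_iff]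
    rfl
  have h2 : (Subgroup.centralizer ({x} : Set N)).index ∣ p ^ k := by
    rw [h1, ← hk]
    exact relIndex_dvd_index_of_normal_right _ N
  obtain ⟨j, _, hj⟩ := (Nat.dvd_prime_pow hp).mp h2
  exact ⟨j, hj⟩

theorem hyp_quotient {G : Type u} [Group G] [Finite G] {p : ℕ} (hp : p.Prime)
    (h : Hyp p G) (N : Subgroup G) [N.Normal] : Hyp p (G ⧸ N) := by
  intro xb hxb
  obtain ⟨y, rfl⟩ := QuotientGroup.mk'_surjective N xb
  have ho0 : orderOf y ≠ 0 := (orderOf_pos y).ne'
  set a := (orderOf y).factorization p with ha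
  have hdvd : p ^ a ∣ orderOf y := Nat.ordProj_dvd _ _
  set z := y ^ (p ^ a) with hz
  have hzo : orderOf z = orderOf y / p ^ a :=
    orderOf_pow_of_dvd (pow_ne_zero _ hp.ne_zero) hdvd
  have hzcop : (orderOf z).Coprime p := by
    rw [hzo]
    exact (Nat.coprime_ordCompl hp ho0).symm
  have hcop2 : (p ^ a).Coprime (orderOf ((QuotientGroup.mk' N) y)) :=
    Nat.Coprime.pow_left _ hxb.symm
  obtain ⟨s, hs⟩ := exists_pow_eq_self_of_coprime hcop2
  set x := z ^ s with hx
  have hxm : (QuotientGroup.mk' N) x = (QuotientGroup.mk' N) y := by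
    rw [hx, hz, map_pow, map_pow]; exact hs
  have hxcop : (orderOf x).Coprime p :=
    Nat.Coprime.coprime_dvd_left (orderOf_pow_dvd s) hzcop
  obtain ⟨k, hk⟩ := h x hxcop
  have h1 : (Subgroup.centralizer ({x} : Set G)).map (QuotientGroup.mk' N) ≤
      Subgroup.centralizer ({(QuotientGroup.mk' N) y} : Set (G ⧸ N)) := by
    rintro _ ⟨c, hc', rfl⟩
    have hc : c ∈ Subgroup.centralizer ({x} : Set G) := hc'
    rw [Subgroup.mem_centralizer_singleton_iff] at hc ⊢
    rw [← hxm, ← map_mul, ← map_mul, hc]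
  have h2 : (Subgroup.centralizer ({(QuotientGroup.mk' N) y} : Set (G ⧸ N))).index ∣ p ^ k := by
    rw [← hk]
    exact (Subgroup.index_dvd_of_le h1).trans
      (Subgroup.index_map_dvd _ (QuotientGroup.mk'_surjective N))
  obtain ⟨j, _, hj⟩ := (Nat.dvd_prime_pow hp).mp h2
  exact ⟨j, hj⟩

theorem solvable_aux {p : ℕ} (hp : p.Prime) (n : ℕ) :
    ∀ (G : Type u) [Group G] [Finite G], Nat.card G = n → Hyp p G → Group.IsSolvable G := by
  induction n using Nat.strong_induction_on with
  | _ n ih =>
  intro G _ _ hcard h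
  by_cases hex : ∃ N : Subgroup G, N.Normal ∧ N ≠ ⊥ ∧ N ≠ ⊤
  · obtain ⟨N, hNn, hNbot, hNtop⟩ := hex
    haveI := hNn
    have hlt1 : Nat.card N < n := by
      rw [← hcard]
      by_contra hge
      exact hNtop (Subgroup.eq_top_of_le_card N (not_lt.mp hge))
    have hlt2 : Nat.card (G ⧸ N) < n := by
      have h1 := Subgroup.card_eq_card_quotient_mul_card_subgroup N
      rw [hcard] at h1
      have h2 : 0 < Nat.card (G ⧸ N) := Nat.card_pos
      have h3 : 1 < Nat.card N := by
        rw [Subgroup.one_lt_card_iff_ne_bot]; exact hNbot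
      nlinarith
    haveI : Group.IsSolvable N := ih _ hlt1 N rfl (hyp_subgroup hp h N)
    haveI : Group.IsSolvable (G ⧸ N) := ih _ hlt2 (G ⧸ N) rfl (hyp_quotient hp h N)
    exact (Group.isSolvable_iff_subgroup_quotient N).mpr ⟨inferInstance, inferInstance⟩
  · push Not at hex
    by_cases hnt : Nontrivial G
    · haveI := hnt
      haveI : IsSimpleGroup G := ⟨fun N hN => by
        by_cases hb : N = ⊥
        · exact Or.inl hb
        · exact Or.inr (hex N hN hb)⟩
      by_cases hpg : IsPGroup p G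
      · haveI : Fact p.Prime := ⟨hp⟩
        haveI := hpg.isNilpotent
        infer_instance
      · obtain ⟨r, hr, hrp, hrd⟩ := EPPO.exists_other_prime hpg
        haveI : Fact r.Prime := ⟨hr⟩
        obtain ⟨x, hxo⟩ := exists_prime_orderOf_dvd_card' r hrd
        have hx1 : x ≠ 1 := by
          rintro rfl
          rw [orderOf_one] at hxo
          exact hr.one_lt.ne hxo
        have hxcop : (orderOf x).Coprime p := by
          rw [hxo]
          exact (Nat.coprime_primes hr hp).mpr hrp
        obtain ⟨k, hk⟩ := h x hxcop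
        have hprime := Cfsg.Agent.S0143.result p k hp x hx1 hk
        haveI : Fact (Nat.card G).Prime := ⟨hprime⟩
        haveI : IsCyclic G := isCyclic_of_prime_card rfl
        exact Group.isSolvable_of_comm (fun a b => (IsCyclic.isMulCommutative (α := G)).is_comm.comm a b)
    · rw [not_nontrivial_iff_subsingleton] at hnt
      haveI := hnt
      exact Group.isSolvable_of_comm (fun a b => Subsingleton.elim _ _)

theorem solvable_of_hyp {G : Type u} [Group G] [Finite G] {p : ℕ} (hp : p.Prime) (h : Hyp p G) :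
    Group.IsSolvable G := solvable_aux hp _ G rfl h

/-- an element of `p`-power index centralizes every normal `p'`-subgroup -/
theorem le_centralizer_of_index {G : Type u} [Group G] [Finite G] {p : ℕ} (hp : p.Prime)
    (F : Subgroup G) [F.Normal] (hF : (Nat.card F).Coprime p) (x : G) (k : ℕ)
    (hk : (Subgroup.centralizer ({x} : Set G)).index = p ^ k) :
    F ≤ Subgroup.centralizer ({x} : Set G) := by
  rw [← Subgroup.relIndex_eq_one]
  have h1 : (Subgroup.centralizer ({x} : Set G)).relIndex F ∣ p ^ k := by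
    rw [← hk]; exact relIndex_dvd_index_of_normal_right _ F
  have h2 : (Subgroup.centralizer ({x} : Set G)).relIndex F ∣ Nat.card F :=
    Subgroup.relIndex_dvd_card _ _
  have h3 : (Nat.card F).Coprime (p ^ k) := Nat.Coprime.pow_right _ hF
  exact Nat.eq_one_of_dvd_coprimes h3 h2 h1

theorem commute_of_coprime {G : Type u} [Group G] [Finite G] {p : ℕ} (hp : p.Prime)
    (h : Hyp p G) [Group.IsSolvable G] (hO : Cfsg.pCore p G = ⊥) (x y : G)
    (hx : (orderOf x).Coprime p) (hy : (orderOf y).Coprime p) : Commute x y := by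
  haveI : Fact p.Prime := ⟨hp⟩
  set F := Cfsg.fittingSubgroup G with hF
  haveI hFn : F.Normal := Cfsg.Agent.Lib.Lead.fittingSubgroup_normal
  have hFc : (Nat.card F).Coprime p := Cfsg.Agent.Lib.Helper6.coprime_card_fittingSubgroup hO
  obtain ⟨k, hk⟩ := h x hx
  obtain ⟨j, hj⟩ := h y hy
  have h1 := le_centralizer_of_index hp F hFc x k hk
  have h2 := le_centralizer_of_index hp F hFc y j hj
  have hxC : x ∈ Subgroup.centralizer (F : Set G) := by
    rw [Subgroup.mem_centralizer_iff]
    intro f hf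
    have := Subgroup.mem_centralizer_singleton_iff.mp (h1 hf)
    exact this
  have hCF : Subgroup.centralizer (F : Set G) ≤ F := by
    have := Cfsg.Agent.Lib.Helper3.le_fitting_inf_centralizer_of_isSolvable
      (Subgroup.centralizer (F : Set G)) le_rfl Subgroup.le_normalizer inferInstance
    exact this.trans inf_le_left
  have hxF : x ∈ F := hCF hxC
  have := Subgroup.mem_centralizer_singleton_iff.mp (h2 hxF)
  exact this

theorem forward {G : Type u} [Group G] [Finite G] {p : ℕ} (hp : p.Prime) (h : Hyp p G) :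
    ∃ H : Subgroup G, IsMulCommutative H ∧ ¬ p ∣ Nat.card H ∧ ∃ k : ℕ, H.index = p ^ k := by
  haveI : Fact p.Prime := ⟨hp⟩
  haveI hsolv : Group.IsSolvable G := solvable_of_hyp hp h
  set D := Cfsg.pCore p G with hD
  haveI hDn : D.Normal := Cfsg.Agent.Lib.Lead.pCore_normal p
  have hDp : IsPGroup p D := Cfsg.Agent.Lib.Lead.pCore_isPGroup p
  have hOb : Cfsg.pCore p (G ⧸ D) = ⊥ := by
    rw [Cfsg.Agent.Lib.Helper6.pCore_quotient_of_isPGroup D hDp, ← hD]
    exact QuotientGroup.map_mk'_self D
  have hq : Hyp p (G ⧸ D) := hyp_quotient hp h D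
  -- a Hall p'-subgroup
  have hn0 : Nat.card G ≠ 0 := Nat.card_pos.ne'
  set m := Nat.card G / p ^ (Nat.card G).factorization p with hm
  set a := (Nat.card G).factorization p with ha
  have hmn : Nat.card G = m * p ^ a := by
    rw [mul_comm]; exact (Nat.ordProj_mul_ordCompl_eq_self _ _).symm
  have hcop : m.Coprime (p ^ a) :=
    Nat.Coprime.pow_right _ (Nat.coprime_ordCompl hp hn0).symm
  obtain ⟨_, hdom⟩ := Cfsg.Agent.Lib.Lead.hallProp_of_solvable G m (p ^ a) hmn hcop
  obtain ⟨H, hHcard, _⟩ := hdom ⊥ (by rw [Subgroup.card_bot]; exact Nat.coprime_one_left _)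
  have hHp : ¬ p ∣ Nat.card H := by
    rw [hHcard]; exact Nat.not_dvd_ordCompl hp hn0
  have hHcop : (Nat.card H).Coprime p :=
    ((Nat.Prime.coprime_iff_not_dvd hp).mpr hHp).symm
  have hidx : H.index = p ^ a := by
    have h1 := H.card_mul_index
    rw [hHcard, hmn] at h1
    have hm0 : 0 < m := by
      rcases Nat.eq_zero_or_pos m with h0 | h0
      · rw [h0, zero_mul] at hmn; exact absurd hmn hn0
      · exact h0
    exact Nat.eq_of_mul_eq_mul_left hm0 h1
  refine ⟨H, ⟨⟨fun u v => ?_⟩⟩, hHp, a, hidx⟩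
  have hu : (orderOf ((QuotientGroup.mk' D) (u : G))).Coprime p := by
    apply Nat.Coprime.coprime_dvd_left ((orderOf_map_dvd _ _).trans _) hHcop
    rw [Subgroup.orderOf_coe]
    exact orderOf_dvd_natCard u
  have hv : (orderOf ((QuotientGroup.mk' D) (v : G))).Coprime p := by
    apply Nat.Coprime.coprime_dvd_left ((orderOf_map_dvd _ _).trans _) hHcop
    rw [Subgroup.orderOf_coe]
    exact orderOf_dvd_natCard v
  have hc := commute_of_coprime hp hq hOb _ _ hu hv
  -- the commutator lies in `D ⊓ H`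
  set c : H := u * v * u⁻¹ * v⁻¹ with hcdef
  have hcD : (c : G) ∈ D := by
    rw [← QuotientGroup.eq_one_iff]
    have : ((c : G) : G ⧸ D) = (QuotientGroup.mk' D) (u : G) * (QuotientGroup.mk' D) (v : G) *
        ((QuotientGroup.mk' D) (u : G))⁻¹ * ((QuotientGroup.mk' D) (v : G))⁻¹ := by
      simp [hcdef]
    rw [this, hc.eq]
    group
  obtain ⟨t, ht⟩ := hDp ⟨(c : G), hcD⟩
  have ht' : c ^ p ^ t = 1 := by
    apply Subtype.ext
    have := congrArg Subtype.val ht
    simpa using this
  have h1 : orderOf c ∣ p ^ t := orderOf_dvd_of_pow_eq_one ht'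
  have h2 : orderOf c ∣ Nat.card H := orderOf_dvd_natCard c
  have h3 : orderOf c = 1 :=
    Nat.eq_one_of_dvd_coprimes (Nat.Coprime.pow_right t hHcop) h2 h1
  have hc1 : c = 1 := orderOf_eq_one_iff.mp h3
  have : u * v * u⁻¹ * v⁻¹ = 1 := hc1
  calc u * v = (u * v * u⁻¹ * v⁻¹) * (v * u) := by group
    _ = v * u := by rw [this, one_mul]

/-- Let G be a finite group and p a prime. Every conjugacy class of p-regular elements of G (elements of order prime to p) has p-power size if and only if G has an abelian p-complement, i.e. an abelian subgroup of order prime to p and p-power index. -/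
theorem result {G : Type*} [Group G] [Finite G] {p : ℕ} (hp : p.Prime) :
    (∀ x : G, (orderOf x).Coprime p → ∃ k : ℕ, (ConjClasses.mk x).carrier.ncard = p ^ k) ↔
    (∃ H : Subgroup G, IsMulCommutative H ∧ ¬ p ∣ Nat.card H ∧ ∃ k : ℕ, H.index = p ^ k) := by
  constructor
  · intro h
    apply forward hp
    intro x hx
    obtain ⟨k, hk⟩ := h x hx
    exact ⟨k, by rw [index_eq_ncard]; exact hk⟩
  · rintro ⟨H, hHab, hHp, k, hk⟩ x hx
    have hab : ∀ a ∈ H, ∀ b ∈ H, a * b = b * a := by
      intro a ha b hb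
      have := hHab.is_comm.comm (⟨a, ha⟩ : H) ⟨b, hb⟩
      exact congrArg Subtype.val this
    have hHcop : (Nat.card H).Coprime p :=
      ((Nat.Prime.coprime_iff_not_dvd hp).mpr hHp).symm
    have hcop : (Nat.card H).Coprime H.index := by
      rw [hk]; exact Nat.Coprime.pow_right _ hHcop
    have hxc : (orderOf x).Coprime H.index := by
      rw [hk]; exact Nat.Coprime.pow_right _ hx
    obtain ⟨g, hg⟩ := AbHall.exists_conj_mem H hab hcop x hxc
    have hcl : ConjClasses.mk x = ConjClasses.mk (g * x * g⁻¹) := by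
      rw [ConjClasses.mk_eq_mk_iff_isConj, isConj_iff]
      exact ⟨g, rfl⟩
    rw [hcl, ← index_eq_ncard]
    have hle : H ≤ Subgroup.centralizer ({g * x * g⁻¹} : Set G) := by
      intro b hb
      rw [Subgroup.mem_centralizer_singleton_iff]
      exact hab b hb _ hg
    have hd : (Subgroup.centralizer ({g * x * g⁻¹} : Set G)).index ∣ p ^ k := by
      rw [← hk]; exact Subgroup.index_dvd_of_le hle
    obtain ⟨j, _, hj⟩ := (Nat.dvd_prime_pow hp).mp hd
    exact ⟨j, hj⟩

end Cfsg.Agent.S4034
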